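import Groth.Statements.S12450
import Mathlib
import Mathlib

set_option autoImplicit false
universe u
open CategoryTheory CategoryTheory.Limits
open ModSite


universe v₁ v₂ v₃ u₁ u₂ u₃ w w'

namespace Groth.Agent.S12450

section
variable {P : Type u₁} [Category.{v₁} P] {S : Type u₂} [Category.{v₂} S]
  {T : Type u₃} [Category.{v₃} T]

/-- If `L ⊣ R` is a reflection and `L ⋙ G` preserves colimits of shape `K` (which exist in `P`),
then `G` preserves colimits of shape `K`. -/
lemma preservesColimitsOfShape_of_reflective {L : P ⥤ S} {R : S ⥤ P} (adj : L ⊣ R)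
    [IsIso adj.counit] (G : S ⥤ T) (K : Type w) [Category.{w'} K] [HasColimitsOfShape K P]
    [PreservesColimitsOfShape K (L ⋙ G)] : PreservesColimitsOfShape K G := by
  constructor
  intro F
  let c := colimit.cocone (F ⋙ R)
  have hc : IsColimit c := colimit.isColimit _
  have : PreservesColimitsOfSize.{w', w} L := adj.leftAdjoint_preservesColimits
  have hLc : IsColimit (L.mapCocone c) := isColimitOfPreserves L hc
  let e : (F ⋙ R) ⋙ L ≅ F :=
    Functor.associator _ _ _ ≪≫ Functor.isoWhiskerLeft F (asIso adj.counit) ≪≫ Functor.rightUnitor _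
  let c' : Cocone F := (Cocone.precompose e.inv).obj (L.mapCocone c)
  have hc' : IsColimit c' := (IsColimit.precomposeInvEquiv e _).symm hLc
  apply preservesColimit_of_preserves_colimit_cocone hc'
  have h1 : IsColimit ((L ⋙ G).mapCocone c) := isColimitOfPreserves (L ⋙ G) hc
  let e' : F ⋙ G ≅ (F ⋙ R) ⋙ L ⋙ G :=
    Functor.isoWhiskerRight e.symm G ≪≫ Functor.associator _ _ _
  have h2 : IsColimit ((Cocone.precompose e'.hom).obj ((L ⋙ G).mapCocone c)) :=
    (IsColimit.precomposeHomEquiv e' _).symm h1
  refine IsColimit.ofIsoColimit h2 (Cocone.ext (Iso.refl _) (fun j => ?_))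
  simp [c', e', e]

end

end Groth.Agent.S12450

namespace Groth.Agent.S12450

/-- For a small ringed site (C, O) the forgetful functor Mod(O) → Ab(C) commutes with colimits, i.e.
preserves all small colimits. (Existence of limits and colimits in Mod(O) and commutation of the
forgetful functor with limits hold by construction; exactness of filtered colimits is a separate
statement.) -/
theorem result {C : Type u} [SmallCategory C] {J : GrothendieckTopology C}
    (O : Sheaf J CommRingCat.{u}) :
    PreservesColimitsOfSize.{u, u} (SheafOfModules.toSheaf.{u} (ModSite.ringSh O) : ModSite.Mod O ⥤ Sheaf J AddCommGrpCat.{u}) := by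
  constructor
  intro K _
  let α : (ringSh O).obj ⟶ (ringSh O).obj := 𝟙 _
  have h : PreservesColimitsOfShape K
      (PresheafOfModules.sheafification α ⋙ SheafOfModules.toSheaf (ringSh O)) := by
    have : PreservesColimitsOfShape K
        (PresheafOfModules.toPresheaf (ringSh O).obj ⋙ presheafToSheaf J AddCommGrpCat) :=
      inferInstance
    exact preservesColimitsOfShape_of_natIso (PresheafOfModules.sheafificationCompToSheaf α).symm
  exact preservesColimitsOfShape_of_reflective (PresheafOfModules.sheafificationAdjunction α)
    (SheafOfModules.toSheaf (ringSh O)) K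

end Groth.Agent.S12450
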