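import Groth.Statements.S0996
import Mathlib
import Groth.Agent.Lib.Helper3.RDTwo
import Groth.Agent.Lib.Helper3.Splice

set_option autoImplicit false
universe w w' v v' u u'
open CategoryTheory CategoryTheory.Limits
open CohDer

namespace Groth.Agent.S0996


/-- Leray's acyclicity lemma. Let F : C ⥤ D be a left exact additive functor between abelian categories,
with C having enough injectives. If K is a bounded below cochain complex in C all of whose terms are
right F-acyclic (RⁱF(Kᵐ) = 0 for i > 0), then the canonical map F(K) → RF(K) in the bounded below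
derived category D⁺(D) is an isomorphism. -/
theorem result {C : Type u} [Category.{v} C] [Abelian C] [HasDerivedCategory.{w} C] [EnoughInjectives C]
    {D : Type u'} [Category.{v'} D] [Abelian D] [HasDerivedCategory.{w'} D]
    (F : C ⥤ D) [F.Additive] [PreservesFiniteLimits F] (K : CochainComplex.Plus C)
    (hK : ∀ (m : ℤ) (i : ℕ), 0 < i → IsZero ((F.rightDerived i).obj (K.obj.X m))) :
    IsIso (F.rightDerivedFunctorPlusUnit.app ((HomotopyCategory.Plus.quotient C).obj K)) := by
  obtain ⟨a, ha⟩ := K.property
  have ha' : K.obj.IsStrictlyGE (a - 1) := K.obj.isStrictlyGE_of_ge (a - 1) a (by omega)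
  obtain ⟨L, i, hi_mono, hi_qis, hL_inj, hL_ge⟩ :=
    CochainComplex.Plus.modelCategoryQuillen.exists_mono_quasiIso_injective K.obj (a - 1) a
  let J : CochainComplex.Plus (InjectiveObject C) :=
    ⟨HomologicalComplex.liftObjectProperty _ L hL_inj, a - 1, by
      rwa [← CochainComplex.isStrictlyGE_mapHomologicalComplex_obj_iff _ (InjectiveObject.ι _)]⟩
  let j : K ⟶ (InjectiveObject.ι C).mapCochainComplexPlus.obj J := ObjectProperty.homMk i
  rw [Groth.Agent.Helper3.RDAcyc.unit_isIso_iff F K J j hi_qis]
  have hP : Groth.Agent.Helper3.Splice.Adapted F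
      (fun X => ∀ i : ℕ, 0 < i → IsZero ((F.rightDerived i).obj X)) :=
    { zero := by
        intro Z hZ i hi
        have := hZ.injective
        obtain ⟨m, rfl⟩ : ∃ m, i = m + 1 := ⟨i - 1, by omega⟩
        exact F.isZero_rightDerived_obj_injective_succ m Z
      two := fun S hS h₁ h₂ => Groth.Agent.Helper3.RDTwo.two_of_three F S hS h₁ h₂ }
  exact Groth.Agent.Helper3.Splice.quasiIso_map_of_mono hP (a - 1) i (fun n => hK n)
    (fun n i hi => by
      have := hL_inj n
      obtain ⟨m, rfl⟩ : ∃ m, i = m + 1 := ⟨i - 1, by omega⟩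
      exact F.isZero_rightDerived_obj_injective_succ m (L.X n))

end Groth.Agent.S0996
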