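import Groth.Statements.S6697
import Mathlib
import Groth.Agent.Lib.Helper5.Misc.ShriekMap
import Groth.Agent.Lib.Helper5.Misc.LanFlat
import Groth.Agent.Lib.Helper5.Misc.KInjAdj
import Groth.Agent.S6638

set_option autoImplicit false
universe u
open CategoryTheory CategoryTheory.Limits AlgebraicGeometry Opposite
open BigSite

open Groth.Agent.Lib.Helper5.Misc

namespace Groth.Agent.S6697

theorem ab5 : AB5OfSize.{u, u + 1} AddCommGrpCat.{u + 1} :=
  AB5OfSize_shrink.{u, u + 1, u + 1, u + 1} AddCommGrpCat.{u + 1}

theorem flatA (X : Scheme.{u}) : RepresentablyFlat (EtFppf.a X) := by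
  have : PreservesFiniteLimits (EtFppf.a X) :=
    inferInstanceAs (PreservesFiniteLimits (MorphismProperty.Over.forget EtCoh.etaleMP.{u} ⊤ X))
  have : HasFiniteLimits X.Etale :=
    inferInstanceAs (HasFiniteLimits (MorphismProperty.Over EtCoh.etaleMP.{u} ⊤ X))
  exact flat_of_preservesFiniteLimits _

theorem lexPi (X : Scheme.{u}) :
    PreservesFiniteLimits (BigSite.piEtPull Scheme.etalePrecoverage X) := by
  have := flatA X
  have := ab5.{u}
  exact LanFlat.preservesFiniteLimits_sheafPullback (EtFppf.a X) AddCommGrpCat.{u + 1} _ _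

instance (X : Scheme.{u}) :
    PreservesFiniteLimits (BigSite.piEtPull Scheme.etalePrecoverage X) := lexPi X

instance (X : Scheme.{u}) : (BigSite.piEtPull Scheme.etalePrecoverage X).IsLeftAdjoint :=
  (BigSite.piEtAdj Scheme.etalePrecoverage X).isLeftAdjoint

instance (X : Scheme.{u}) : (BigSite.piEtPull Scheme.etalePrecoverage X).Additive :=
  haveI := preservesBinaryBiproducts_of_preservesBinaryCoproducts
    (BigSite.piEtPull Scheme.etalePrecoverage X)
  Functor.additive_of_preservesBinaryBiproducts _

theorem key (X : Scheme.{u})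
    (I : CochainComplex (BigSite.Ab Scheme.etalePrecoverage X) ℤ) [I.IsKInjective] :
    CochainComplex.IsKInjective (((BigSite.resEt Scheme.etalePrecoverage X).mapHomologicalComplex
      (ComplexShape.up ℤ)).obj I) :=
  KInjAdj.isKInjective_map (BigSite.piEtAdj Scheme.etalePrecoverage X) I

instance {T S : Scheme.{u}} (f : T ⟶ S) :
    PreservesFiniteLimits (BigSite.shriekAb Scheme.etalePrecoverage f) :=
  Groth.Agent.S6638.result f _ (Or.inr (Or.inl rfl))

instance {T S : Scheme.{u}} (f : T ⟶ S) :
    (BigSite.shriekAb Scheme.etalePrecoverage f).IsLeftAdjoint :=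
  (BigSite.shriekAbAdj Scheme.etalePrecoverage f).isLeftAdjoint

instance {T S : Scheme.{u}} (f : T ⟶ S) :
    (BigSite.shriekAb Scheme.etalePrecoverage f).Additive :=
  haveI := preservesBinaryBiproducts_of_preservesBinaryCoproducts
    (BigSite.shriekAb Scheme.etalePrecoverage f)
  Functor.additive_of_preservesBinaryBiproducts _

theorem key2 {T S : Scheme.{u}} (f : T ⟶ S)
    (I : CochainComplex (BigSite.Ab Scheme.etalePrecoverage S) ℤ) [I.IsKInjective] :
    CochainComplex.IsKInjective
      (((BigSite.pullBig Scheme.etalePrecoverage f AddCommGrpCat.{u + 1}).mapHomologicalComplex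
      (ComplexShape.up ℤ)).obj I) :=
  KInjAdj.isKInjective_map (BigSite.shriekAbAdj Scheme.etalePrecoverage f) I

end Groth.Agent.S6697

namespace Groth.Agent.S6697

/-- Let S be a scheme, I a K-injective complex of abelian sheaves on the big etale site of S (every
morphism from an acyclic complex to I is null-homotopic) and f : T → S a scheme over S. Then (b) the
termwise restriction I|_{S_et} to the small etale site of S is K-injective, and (a) the termwise
restriction i_f⁻¹ I to the small etale site of T is K-injective. -/
theorem result (S : Scheme.{u})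
    (I : CochainComplex (BigSite.Ab Scheme.etalePrecoverage S) ℤ) [I.IsKInjective] {T : Scheme.{u}} (f : T ⟶ S) :
    CochainComplex.IsKInjective (((BigSite.resEt Scheme.etalePrecoverage S).mapHomologicalComplex (ComplexShape.up ℤ)).obj I) ∧
      CochainComplex.IsKInjective (((BigSite.resEtAlong Scheme.etalePrecoverage f).mapHomologicalComplex (ComplexShape.up ℤ)).obj I) := by
  refine ⟨key S I, ?_⟩
  have := key2 f I
  exact key T (((BigSite.pullBig Scheme.etalePrecoverage f
    AddCommGrpCat.{u + 1}).mapHomologicalComplex (ComplexShape.up ℤ)).obj I)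

end Groth.Agent.S6697
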