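import Groth.Statements.S6185
import Mathlib
import Groth.Agent.S6697
import Groth.Agent.Lib.Helper5.Misc.ExtAdj
import Groth.Agent.Lib.Helper5.Misc.ShriekAbConst

set_option autoImplicit false
open CategoryTheory CategoryTheory.Limits AlgebraicGeometry Opposite
universe u
open BigSite

open Groth.Agent.Lib.Helper5.Misc

namespace Groth.Agent.S6185

/-- the terminal object of the small etale site -/
noncomputable abbrev tS (X : Scheme.{u}) : X.Etale :=
  MorphismProperty.Over.mk ⊤ (𝟙 X) (EtCoh.etaleMP.{u}.id_mem X)

noncomputable def tSIsTerminal (X : Scheme.{u}) : IsTerminal (tS X) :=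
  MorphismProperty.Over.mkIdTerminal EtCoh.etaleMP.{u} X

noncomputable def tBIsTerminal (X : Scheme.{u}) : IsTerminal ((EtFppf.a X).obj (tS X)) :=
  CategoryTheory.Over.mkIdTerminal

/-- the composite adjunction -/
noncomputable def adjComp (X : Scheme.{u}) :
    constantSheaf X.smallEtaleTopology AddCommGrpCat.{u + 1} ⋙
      BigSite.piEtPull Scheme.etalePrecoverage X ⊣
    BigSite.resEt Scheme.etalePrecoverage X ⋙
      (sheafSections X.smallEtaleTopology AddCommGrpCat.{u + 1}).obj (op (tS X)) :=
  (constantSheafAdj X.smallEtaleTopology AddCommGrpCat.{u + 1} (tSIsTerminal X)).comp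
    (BigSite.piEtAdj Scheme.etalePrecoverage X)

/-- the pullback of a constant sheaf to the big site is constant -/
noncomputable def constIso (X : Scheme.{u}) :
    constantSheaf X.smallEtaleTopology AddCommGrpCat.{u + 1} ⋙
      BigSite.piEtPull Scheme.etalePrecoverage X ≅
    constantSheaf (QuotSh.J Scheme.etalePrecoverage X) AddCommGrpCat.{u + 1} :=
  Adjunction.leftAdjointUniq (adjComp X)
    (constantSheafAdj (QuotSh.J Scheme.etalePrecoverage X) AddCommGrpCat.{u + 1} (tBIsTerminal X))

instance (X : Scheme.{u}) :
    (BigSite.resEt Scheme.etalePrecoverage X).IsLeftAdjoint :=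
  (BigSite.iEtAdj Scheme.etalePrecoverage X).isLeftAdjoint

instance (X : Scheme.{u}) :
    (BigSite.resEt Scheme.etalePrecoverage X).IsRightAdjoint :=
  (BigSite.piEtAdj Scheme.etalePrecoverage X).isRightAdjoint

end Groth.Agent.S6185

namespace Groth.Agent.S6185

/-- For a scheme X and an abelian sheaf F on the big etale site of X, the cohomology groups H^p(X_et,
F|) of the restriction of F to the small etale site and H^p of F on the big etale site are
isomorphic for every p. Existence of an additive isomorphism only (the published statement asserts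
that the canonical comparison homomorphism is an isomorphism; that map is not named here). -/
theorem result (X : Scheme.{u})
    (F : BigSite.Ab Scheme.etalePrecoverage X) (p : ℕ) :
    Nonempty (EtCoh.H X ((BigSite.resEt Scheme.etalePrecoverage X).obj F) p ≃+
      BigSite.H Scheme.etalePrecoverage X F p) := by
  have e1 := ExtAdj.extAddEquiv (BigSite.piEtAdj Scheme.etalePrecoverage X)
    ((constantSheaf X.smallEtaleTopology AddCommGrpCat.{u + 1}).obj
      (AddCommGrpCat.of (ULift ℤ))) F p
  have e2 := ShriekAb.extAddEquivOfIso ((constIso X).app (AddCommGrpCat.of (ULift ℤ))) F p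
  exact ⟨e1.symm.trans e2⟩

end Groth.Agent.S6185
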