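import Groth.Statements.S8782
import Mathlib

set_option autoImplicit false
universe u
open CategoryTheory Limits
open AdeqTF

namespace Groth.Agent.S8782

section
open CategoryTheory Limits

variable {A : Type u} [CommRing A]

open AdeqTF

section basics
variable (B : Adeq.Alg A)

lemma map_comp' {N N' N'' : ModuleCat.{u} B} (g : N ⟶ N') (h : N' ⟶ N'') :
    AdeqTF.map B (g ≫ h) = AdeqTF.map B g ≫ AdeqTF.map B h := by
  apply CommAlgCat.hom_ext
  refine AlgHom.ext fun x => ?_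
  show TrivSqZeroExt.map (g ≫ h).hom x = TrivSqZeroExt.map h.hom (TrivSqZeroExt.map g.hom x)
  rw [ModuleCat.hom_comp, TrivSqZeroExt.map_comp_map]
  rfl

lemma map_id' (N : ModuleCat.{u} B) : AdeqTF.map B (𝟙 N) = 𝟙 _ := by
  apply CommAlgCat.hom_ext
  refine AlgHom.ext fun x => ?_
  show TrivSqZeroExt.map (𝟙 N : N ⟶ N).hom x = x
  rw [ModuleCat.hom_id, TrivSqZeroExt.map_id]
  rfl

lemma inl_fst (N : ModuleCat.{u} B) : AdeqTF.inl B N ≫ AdeqTF.fst B N = 𝟙 _ := by
  apply CommAlgCat.hom_ext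
  refine AlgHom.ext fun x => ?_
  show TrivSqZeroExt.fst (algebraMap (B : Type u) (TrivSqZeroExt (B : Type u) N) x) = x
  rw [TrivSqZeroExt.algebraMap_eq_inl, TrivSqZeroExt.fst_inl]

lemma map_zero' (N N' : ModuleCat.{u} B) :
    AdeqTF.map B (0 : N ⟶ N') = AdeqTF.fst B N ≫ AdeqTF.inl B N' := by
  apply CommAlgCat.hom_ext
  refine AlgHom.ext fun x => ?_
  show TrivSqZeroExt.map (0 : N ⟶ N').hom x
    = algebraMap (B : Type u) (TrivSqZeroExt (B : Type u) N') (TrivSqZeroExt.fst x)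
  rw [TrivSqZeroExt.algebraMap_eq_inl]
  ext
  · simp
  · simp

lemma inl_map {N N' : ModuleCat.{u} B} (g : N ⟶ N') :
    AdeqTF.inl B N ≫ AdeqTF.map B g = AdeqTF.inl B N' := by
  apply CommAlgCat.hom_ext
  refine AlgHom.ext fun x => ?_
  show TrivSqZeroExt.map g.hom (algebraMap (B : Type u) (TrivSqZeroExt (B : Type u) N) x)
    = algebraMap (B : Type u) (TrivSqZeroExt (B : Type u) N') x
  rw [TrivSqZeroExt.algebraMap_eq_inl, TrivSqZeroExt.algebraMap_eq_inl]
  ext
  · simp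
  · simp

end basics

section tangentlemmas
variable (B : Adeq.Alg A)

lemma tmap_val (F : Adeq.MVF A) {N N' : ModuleCat.{u} B} (g : N ⟶ N') (x : tangent B N F) :
    (tangentMap B F g x : F.obj (Adeq.pt (ext B N')))
      = F.map (Adeq.ptHom (AdeqTF.map B g)) x.1 := rfl

lemma mem_tangent (F : Adeq.MVF A) (N : ModuleCat.{u} B) (x : F.obj (Adeq.pt (ext B N))) :
    x ∈ tangent B N F ↔ F.map (Adeq.ptHom (fst B N)) x = 0 := Iff.rfl

lemma tmap_comp (F : Adeq.MVF A) {N N' N'' : ModuleCat.{u} B} (g : N ⟶ N') (h : N' ⟶ N'')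
    (x : tangent B N F) :
    tangentMap B F (g ≫ h) x = tangentMap B F h (tangentMap B F g x) := by
  apply Subtype.ext
  rw [tmap_val, tmap_val, tmap_val, ← F.map_comp_apply]
  exact F.congr_map_apply (congrArg Adeq.ptHom (map_comp' B g h)) _

lemma tmap_id (F : Adeq.MVF A) (N : ModuleCat.{u} B) (x : tangent B N F) :
    tangentMap B F (𝟙 N) x = x := by
  apply Subtype.ext
  rw [tmap_val, F.congr_map_apply (congrArg Adeq.ptHom (map_id' B N))]
  show F.map (𝟙 _) x.1 = x.1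
  rw [F.map_id]
  rfl

lemma tmap_zero (F : Adeq.MVF A) (N N' : ModuleCat.{u} B) (x : tangent B N F) :
    tangentMap B F (0 : N ⟶ N') x = 0 := by
  apply Subtype.ext
  rw [tmap_val, F.congr_map_apply (congrArg Adeq.ptHom (map_zero' B N N'))]
  show F.map (Adeq.ptHom (fst B N) ≫ Adeq.ptHom (inl B N')) x.1 = 0
  rw [F.map_comp_apply, (mem_tangent B F N x.1).1 x.2]
  exact map_zero (F.map (Adeq.ptHom (inl B N'))).hom

/-- The map on tangent modules induced by a morphism of functors. -/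
noncomputable def tnat {F G : Adeq.MVF A} (α : F ⟶ G) (N : ModuleCat.{u} B) : tangent B N F →+ tangent B N G :=
  ((α.app (Adeq.pt (ext B N))).hom.toAddMonoidHom.comp (tangent B N F).subtype).codRestrict _
    (fun x => by
      obtain ⟨x, hx⟩ := x
      have hx0 : F.map (Adeq.ptHom (fst B N)) x = 0 := hx
      change G.map (Adeq.ptHom (fst B N)) (α.app _ x) = 0
      rw [← PresheafOfModules.naturality_apply, hx0]
      exact map_zero (α.app (Adeq.pt B)).hom)

lemma tnat_val {F G : Adeq.MVF A} (α : F ⟶ G) (N : ModuleCat.{u} B) (x : tangent B N F) :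
    (tnat B α N x : G.obj (Adeq.pt (ext B N))) = α.app _ x.1 := rfl

lemma tnat_tmap {F G : Adeq.MVF A} (α : F ⟶ G) {N N' : ModuleCat.{u} B} (g : N ⟶ N')
    (x : tangent B N F) :
    tnat B α N' (tangentMap B F g x) = tangentMap B G g (tnat B α N x) := by
  apply Subtype.ext
  rw [tnat_val, tmap_val, tmap_val, tnat_val, PresheafOfModules.naturality_apply]

end tangentlemmas

section genexact
universe v v₁ u₁ u₂
variable {D : Type u₁} [Category.{v₁} D] {R : Dᵒᵖ ⥤ RingCat.{u₂}}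
  (C : ShortComplex (PresheafOfModules.{v} R)) (hC : C.ShortExact)
include hC

lemma gev_shortExact (X : Dᵒᵖ) :
    (C.map (PresheafOfModules.evaluation.{v} R X)).ShortExact := hC.map_of_exact _

lemma gev_inj (X : Dᵒᵖ) : Function.Injective (C.f.app X) :=
  (gev_shortExact C hC X).moduleCat_injective_f

lemma gev_surj (X : Dᵒᵖ) : Function.Surjective (C.g.app X) :=
  (gev_shortExact C hC X).moduleCat_surjective_g

lemma gev_exact (X : Dᵒᵖ) (y : C.X₂.obj X) (h : C.g.app X y = 0) :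
    ∃ x, C.f.app X x = y :=
  ((C.map (PresheafOfModules.evaluation.{v} R X)).moduleCat_exact_iff.1
    (gev_shortExact C hC X).exact) y h

omit hC in
lemma gev_zero (X : Dᵒᵖ) (x : C.X₁.obj X) : C.g.app X (C.f.app X x) = 0 :=
  (C.map (PresheafOfModules.evaluation.{v} R X)).moduleCat_zero_apply x

end genexact

section exactness
variable (C : ShortComplex (Adeq.MVF A)) (hC : C.ShortExact)
include hC

lemma ev_inj (X : (Adeq.Alg A)ᵒᵖᵒᵖ) : Function.Injective (C.f.app X) :=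
  gev_inj C hC X

lemma ev_surj (X : (Adeq.Alg A)ᵒᵖᵒᵖ) : Function.Surjective (C.g.app X) :=
  gev_surj C hC X

lemma ev_exact (X : (Adeq.Alg A)ᵒᵖᵒᵖ) (y : C.X₂.obj X) (h : C.g.app X y = 0) :
    ∃ x, C.f.app X x = y :=
  gev_exact C hC X y h

omit hC in
lemma ev_zero (X : (Adeq.Alg A)ᵒᵖᵒᵖ) (x : C.X₁.obj X) : C.g.app X (C.f.app X x) = 0 :=
  gev_zero C X x

end exactness

section tangentexact
variable (C : ShortComplex (Adeq.MVF A)) (hC : C.ShortExact) (B : Adeq.Alg A)
include hC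

lemma tnat_f_inj (N : ModuleCat.{u} B) : Function.Injective (tnat B C.f N) := by
  intro x y h
  apply Subtype.ext
  apply ev_inj C hC
  have := congrArg Subtype.val h
  rwa [tnat_val, tnat_val] at this

lemma tnat_exact (N : ModuleCat.{u} B) (x : tangent B N C.X₂) (h : tnat B C.g N x = 0) :
    ∃ w, tnat B C.f N w = x := by
  have h0 : C.g.app _ x.1 = 0 := by
    have := congrArg Subtype.val h
    rwa [tnat_val] at this
  obtain ⟨w, hw⟩ := ev_exact C hC _ x.1 h0
  have hwt : w ∈ tangent B N C.X₁ := by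
    rw [mem_tangent]
    apply ev_inj C hC (Adeq.pt B)
    have e1 : C.f.app (Adeq.pt B) (C.X₁.map (Adeq.ptHom (fst B N)) w)
        = C.X₂.map (Adeq.ptHom (fst B N)) (C.f.app _ w) :=
      PresheafOfModules.naturality_apply C.f (Adeq.ptHom (fst B N)) w
    have e2 : C.X₂.map (Adeq.ptHom (fst B N)) x.1 = 0 := x.2
    rw [hw, e2] at e1
    exact e1.trans (map_zero (C.f.app (Adeq.pt B)).hom).symm
  exact ⟨⟨w, hwt⟩, Subtype.ext hw⟩

omit hC in
lemma tnat_zero (N : ModuleCat.{u} B) (x : tangent B N C.X₁) :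
    tnat B C.g N (tnat B C.f N x) = 0 := by
  apply Subtype.ext
  rw [tnat_val, tnat_val]
  exact ev_zero C _ x.1

lemma tnat_g_surj (N : ModuleCat.{u} B) : Function.Surjective (tnat B C.g N) := by
  intro y
  obtain ⟨z', hz'⟩ := ev_surj C hC _ y.1
  have h1 : C.g.app (Adeq.pt B) (C.X₂.map (Adeq.ptHom (fst B N)) z') = 0 := by
    have e1 := PresheafOfModules.naturality_apply C.g (Adeq.ptHom (fst B N)) z'
    rw [hz'] at e1
    exact e1.trans y.2
  obtain ⟨f0, hf0⟩ := ev_exact C hC _ _ h1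
  obtain ⟨t, ht⟩ : ∃ t : C.X₂.obj (Adeq.pt (ext B N)),
      t = C.X₂.map (Adeq.ptHom (inl B N)) (C.f.app _ f0) := ⟨_, rfl⟩
  have ht1 : C.X₂.map (Adeq.ptHom (fst B N)) t = C.X₂.map (Adeq.ptHom (fst B N)) z' := by
    rw [ht, ← C.X₂.map_comp_apply, hf0]
    have e : Adeq.ptHom (inl B N) ≫ Adeq.ptHom (fst B N) = 𝟙 _ :=
      congrArg Adeq.ptHom (inl_fst B N)
    rw [C.X₂.congr_map_apply e, C.X₂.map_id]
    rfl
  have ht2 : C.g.app _ t = 0 := by
    rw [ht, PresheafOfModules.naturality_apply, ev_zero C _ f0]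
    exact map_zero (C.X₃.map (Adeq.ptHom (inl B N))).hom
  have hz : z' - t ∈ tangent B N C.X₂ := by
    rw [mem_tangent, map_sub, ht1, sub_self]
  refine ⟨⟨_, hz⟩, Subtype.ext ?_⟩
  rw [tnat_val]
  show C.g.app _ (z' - t) = y.1
  rw [map_sub, hz', ht2, sub_zero]

end tangentexact

/-- Right exactness of the tangent functors. -/
def RExact (F : Adeq.MVF A) : Prop :=
  ∀ (B : Adeq.Alg A) (S : ShortComplex (ModuleCat.{u} B)), S.ShortExact →
    Function.Surjective (AdeqTF.tangentMap B F S.g) ∧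
      (AdeqTF.tangentMap B F S.g).ker = (AdeqTF.tangentMap B F S.f).range

lemma range_le_ker (F : Adeq.MVF A) (B : Adeq.Alg A) (S : ShortComplex (ModuleCat.{u} B)) :
    (AdeqTF.tangentMap B F S.f).range ≤ (AdeqTF.tangentMap B F S.g).ker := by
  rintro _ ⟨z, rfl⟩
  rw [AddMonoidHom.mem_ker, ← tmap_comp, S.zero, tmap_zero]

theorem main_mid (C : ShortComplex (Adeq.MVF A)) (hC : C.ShortExact)
    (h₁ : RExact C.X₁) (h₃ : RExact C.X₃) : RExact C.X₂ := by
  intro B S hS
  obtain ⟨s1, k1⟩ := h₁ B S hS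
  obtain ⟨s3, k3⟩ := h₃ B S hS
  constructor
  · intro x
    obtain ⟨y, hy⟩ := s3 (tnat B C.g _ x)
    obtain ⟨z, hz⟩ := tnat_g_surj C hC B _ y
    have h0 : tnat B C.g _ (x - tangentMap B C.X₂ S.g z) = 0 := by
      rw [map_sub, tnat_tmap, hz, hy, sub_self]
    obtain ⟨w, hw⟩ := tnat_exact C hC B _ _ h0
    obtain ⟨v, hv⟩ := s1 w
    refine ⟨z + tnat B C.f _ v, ?_⟩
    rw [map_add, ← tnat_tmap, hv, hw]; abel
  · apply le_antisymm
    · intro x hx
      rw [AddMonoidHom.mem_ker] at hx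
      have h3 : tnat B C.g _ x ∈ (tangentMap B C.X₃ S.g).ker := by
        rw [AddMonoidHom.mem_ker, ← tnat_tmap, hx, map_zero]
      rw [k3] at h3
      obtain ⟨y, hy⟩ := h3
      obtain ⟨z, hz⟩ := tnat_g_surj C hC B _ y
      have h0 : tnat B C.g _ (x - tangentMap B C.X₂ S.f z) = 0 := by
        rw [map_sub, tnat_tmap, hz, hy, sub_self]
      obtain ⟨w, hw⟩ := tnat_exact C hC B _ _ h0
      have hw2 : w ∈ (tangentMap B C.X₁ S.g).ker := by
        rw [AddMonoidHom.mem_ker]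
        apply tnat_f_inj C hC B
        rw [tnat_tmap, hw, map_sub, hx, map_zero, zero_sub, ← tmap_comp, S.zero, tmap_zero,
          neg_zero]
      rw [k1] at hw2
      obtain ⟨v, hv⟩ := hw2
      refine ⟨z + tnat B C.f _ v, ?_⟩
      rw [map_add, ← tnat_tmap, hv, hw]; abel
    · exact range_le_ker _ B S

theorem main_right (C : ShortComplex (Adeq.MVF A)) (hC : C.ShortExact)
    (h₁ : RExact C.X₁) (h₂ : RExact C.X₂) : RExact C.X₃ := by
  intro B S hS
  obtain ⟨s1, k1⟩ := h₁ B S hS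
  obtain ⟨s2, k2⟩ := h₂ B S hS
  constructor
  · intro y
    obtain ⟨x, hx⟩ := tnat_g_surj C hC B _ y
    obtain ⟨x', hx'⟩ := s2 x
    refine ⟨tnat B C.g _ x', ?_⟩
    rw [← tnat_tmap, hx', hx]
  · apply le_antisymm
    · intro y hy
      rw [AddMonoidHom.mem_ker] at hy
      obtain ⟨x, hx⟩ := tnat_g_surj C hC B _ y
      have h0 : tnat B C.g _ (tangentMap B C.X₂ S.g x) = 0 := by
        rw [tnat_tmap, hx, hy]
      obtain ⟨w2, hw2⟩ := tnat_exact C hC B _ _ h0
      obtain ⟨w, hw⟩ := s1 w2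
      have hk : x - tnat B C.f _ w ∈ (tangentMap B C.X₂ S.g).ker := by
        rw [AddMonoidHom.mem_ker, map_sub, ← tnat_tmap, hw, hw2, sub_self]
      rw [k2] at hk
      obtain ⟨z, hz⟩ := hk
      refine ⟨tnat B C.g _ z, ?_⟩
      rw [← tnat_tmap, hz, map_sub, hx, tnat_zero, sub_zero]
    · exact range_le_ker _ B S

theorem main_biprod (F : Adeq.MVF A) (hF : RExact F) (B : Adeq.Alg A) (N₁ N₂ : ModuleCat.{u} B) :
    Function.Bijective ((AdeqTF.tangentMap B F (biprod.inl : N₁ ⟶ N₁ ⊞ N₂)).coprod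
      (AdeqTF.tangentMap B F (biprod.inr : N₂ ⟶ N₁ ⊞ N₂))) := by
  constructor
  · rw [injective_iff_map_eq_zero]
    rintro ⟨a, b⟩ h
    rw [AddMonoidHom.coprod_apply] at h
    have h1 := congrArg (tangentMap B F (biprod.fst : N₁ ⊞ N₂ ⟶ N₁)) h
    rw [map_add, ← tmap_comp, ← tmap_comp, biprod.inl_fst, biprod.inr_fst, tmap_id, tmap_zero,
      add_zero, map_zero] at h1
    have h2 := congrArg (tangentMap B F (biprod.snd : N₁ ⊞ N₂ ⟶ N₂)) h
    rw [map_add, ← tmap_comp, ← tmap_comp, biprod.inl_snd, biprod.inr_snd, tmap_id, tmap_zero,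
      zero_add, map_zero] at h2
    exact Prod.ext h1 h2
  · intro x
    have hS : (ShortComplex.mk (biprod.inl : N₁ ⟶ N₁ ⊞ N₂) (biprod.snd : N₁ ⊞ N₂ ⟶ N₂)
        (by simp)).ShortExact := (ShortComplex.Splitting.ofHasBinaryBiproduct N₁ N₂).shortExact
    obtain ⟨_, k⟩ := hF B _ hS
    have hk : x - tangentMap B F (biprod.inr : N₂ ⟶ N₁ ⊞ N₂)
        (tangentMap B F (biprod.snd : N₁ ⊞ N₂ ⟶ N₂) x)
        ∈ (tangentMap B F (biprod.snd : N₁ ⊞ N₂ ⟶ N₂)).ker := by
      rw [AddMonoidHom.mem_ker, map_sub, ← tmap_comp, biprod.inr_snd, tmap_id, sub_self]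
    rw [k] at hk
    obtain ⟨a, ha⟩ := hk
    refine ⟨(a, tangentMap B F (biprod.snd : N₁ ⊞ N₂ ⟶ N₂) x), ?_⟩
    rw [AddMonoidHom.coprod_apply]
    show tangentMap B F (biprod.inl : N₁ ⟶ N₁ ⊞ N₂) a + _ = x
    rw [ha]
    abel


end


/-- If `0 → F → G → H → 0` is a short exact sequence of module-valued functors on `A`-algebras and `F`,
`H` have right exact tangent functors (for every `A`-algebra `B` and short exact `0 → N₁ → N → N₂ →
0` of `B`-modules, `T(B, N₁) → T(B, N) → T(B, N₂) → 0` is exact), so does `G`. -/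
theorem result (A : Type u) [CommRing A] (C : ShortComplex (Adeq.MVF A))
    (hC : C.ShortExact)
    (h₁ : (∀ (B : Adeq.Alg A) (S : ShortComplex (ModuleCat.{u} B)), S.ShortExact →
        Function.Surjective (AdeqTF.tangentMap B C.X₁ S.g) ∧
          (AdeqTF.tangentMap B C.X₁ S.g).ker = (AdeqTF.tangentMap B C.X₁ S.f).range))
    (h₃ : (∀ (B : Adeq.Alg A) (S : ShortComplex (ModuleCat.{u} B)), S.ShortExact →
        Function.Surjective (AdeqTF.tangentMap B C.X₃ S.g) ∧
          (AdeqTF.tangentMap B C.X₃ S.g).ker = (AdeqTF.tangentMap B C.X₃ S.f).range)) :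
    (∀ (B : Adeq.Alg A) (S : ShortComplex (ModuleCat.{u} B)), S.ShortExact →
        Function.Surjective (AdeqTF.tangentMap B C.X₂ S.g) ∧
          (AdeqTF.tangentMap B C.X₂ S.g).ker = (AdeqTF.tangentMap B C.X₂ S.f).range) := by
  classical
  exact main_mid C hC h₁ h₃

end Groth.Agent.S8782
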