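import Groth.Statements.S8780
import Mathlib
import Groth.Agent.S8782

set_option autoImplicit false
universe u
open CategoryTheory Limits
open AdeqTF

namespace Groth.Agent.S8780

section
open CategoryTheory Limits
open Groth.Agent.S8782

section freeconstr
universe w v₁ u₁ u₂
variable {D : Type u₁} [Category.{v₁} D] (R : Dᵒᵖ ⥤ RingCat.{u₂}) (X : Dᵒᵖ)

/-- the transition map of the free presheaf on the functor corepresented by `X` -/
noncomputable def fmap {Z Z' : Dᵒᵖ} (g : Z ⟶ Z') :
    (ULift.{w} (X ⟶ Z) →₀ R.obj Z) →+ (ULift.{w} (X ⟶ Z') →₀ R.obj Z') :=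
  (Finsupp.mapDomain.addMonoidHom (fun h : ULift.{w} (X ⟶ Z) => ULift.up.{w} (h.down ≫ g))).comp
    (Finsupp.mapRange.addMonoidHom (R.map g).hom.toAddMonoidHom)

lemma fmap_single {Z Z' : Dᵒᵖ} (g : Z ⟶ Z') (h : ULift.{w} (X ⟶ Z)) (r : R.obj Z) :
    fmap R X g (Finsupp.single h r) = Finsupp.single (ULift.up.{w} (h.down ≫ g)) (R.map g r) := by
  simp [fmap]

/-- underlying presheaf of abelian groups -/
noncomputable def freeAb : Dᵒᵖ ⥤ Ab.{max w v₁ u₂} where
  obj Z := AddCommGrpCat.of (ULift.{w} (X ⟶ Z) →₀ R.obj Z)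
  map {Z Z'} g := AddCommGrpCat.ofHom (fmap R X g)
  map_id Z := by
    ext1
    refine Finsupp.addHom_ext fun h r => ?_
    show fmap R X (𝟙 Z) (Finsupp.single h r) = Finsupp.single h r
    rw [fmap_single]
    simp
  map_comp {Z Z' Z''} g g' := by
    ext1
    refine Finsupp.addHom_ext fun h r => ?_
    show fmap R X (g ≫ g') (Finsupp.single h r)
      = fmap R X g' (fmap R X g (Finsupp.single h r))
    rw [fmap_single, fmap_single, fmap_single]
    simp

lemma fmap_smul {Z Z' : Dᵒᵖ} (g : Z ⟶ Z') (r : R.obj Z) (m : ULift.{w} (X ⟶ Z) →₀ R.obj Z) :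
    fmap R X g (r • m) = (R.map g r) • fmap R X g m := by
  induction m using Finsupp.induction_linear with
  | zero => rw [smul_zero, map_zero, smul_zero]
  | add a b ha hb => rw [smul_add, map_add, map_add, smul_add, ha, hb]
  | single h s =>
    rw [Finsupp.smul_single, fmap_single, fmap_single, Finsupp.smul_single, smul_eq_mul, smul_eq_mul,
      map_mul]

noncomputable instance freeAbModule (Z : Dᵒᵖ) : Module (R.obj Z) ((freeAb.{w} R X).obj Z) :=
  inferInstanceAs (Module (R.obj Z) (ULift.{w} (X ⟶ Z) →₀ R.obj Z))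

lemma freeAb_map_smul ⦃Z Z' : Dᵒᵖ⦄ (g : Z ⟶ Z') (r : R.obj Z) (m : (freeAb.{w} R X).obj Z) :
    (freeAb.{w} R X).map g (r • m) = R.map g r • (freeAb.{w} R X).map g m :=
  fmap_smul R X g r m

/-- the free presheaf of modules on the functor corepresented by `X` -/
noncomputable def P : PresheafOfModules.{max w v₁ u₂} R :=
  PresheafOfModules.ofPresheaf (freeAb.{w} R X) (freeAb_map_smul R X)

lemma P_map_apply {Z Z' : Dᵒᵖ} (g : Z ⟶ Z') (m : ULift.{w} (X ⟶ Z) →₀ R.obj Z) :
    (P.{w} R X).map g m = fmap R X g m := rfl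

/-- the generator of the free presheaf -/
noncomputable def gen : (P.{w} R X).obj X :=
  (Finsupp.single (ULift.up.{w} (𝟙 X)) 1 : ULift.{w} (X ⟶ X) →₀ R.obj X)

variable {R X}

lemma lift_single' {Z : Dᵒᵖ} (M : ModuleCat.{max w v₁ u₂} (R.obj Z))
    (φ : ULift.{w} (X ⟶ Z) → M) (h : ULift.{w} (X ⟶ Z)) (r : R.obj Z) :
    Finsupp.lift M (R.obj Z) (ULift.{w} (X ⟶ Z)) φ (Finsupp.single h r) = r • φ h := by
  rw [Finsupp.lift_apply, Finsupp.sum_single_index]
  exact zero_smul _ _

/-- the morphism out of the free presheaf attached to an element -/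
noncomputable def desc (I : PresheafOfModules.{max w v₁ u₂} R) (x' : I.obj X) : P.{w} R X ⟶ I where
  app Z := ModuleCat.ofHom (X := ModuleCat.of (R.obj Z) (ULift.{w} (X ⟶ Z) →₀ R.obj Z))
    (Finsupp.lift (I.obj Z) (R.obj Z) (ULift.{w} (X ⟶ Z)) (fun h => I.map h.down x'))
  naturality {Z Z'} g := by
    apply ModuleCat.hom_ext
    apply LinearMap.toAddMonoidHom_injective
    refine Finsupp.addHom_ext fun h r => ?_
    show Finsupp.lift (I.obj Z') (R.obj Z') (ULift.{w} (X ⟶ Z')) (fun h => I.map h.down x')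
        (fmap R X g (Finsupp.single h r))
      = I.map g (Finsupp.lift (I.obj Z) (R.obj Z) (ULift.{w} (X ⟶ Z)) (fun h => I.map h.down x')
        (Finsupp.single h r))
    rw [fmap_single, lift_single', lift_single', PresheafOfModules.map_smul, I.map_comp_apply]
    rfl

lemma desc_gen (I : PresheafOfModules.{max w v₁ u₂} R) (x' : I.obj X) :
    (desc.{w} I x').app X (gen.{w} R X) = x' := by
  show Finsupp.lift (I.obj X) (R.obj X) (ULift.{w} (X ⟶ X)) (fun h => I.map h.down x')
    (Finsupp.single (ULift.up.{w} (𝟙 X)) 1) = x'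
  rw [lift_single', one_smul]
  show I.map (𝟙 X) x' = x'
  rw [I.map_id]
  rfl

/-- precomposition -/
noncomputable def pre {Y : Dᵒᵖ} (f : X ⟶ Y) : P.{w} R Y ⟶ P.{w} R X where
  app Z := ModuleCat.ofHom (X := ModuleCat.of (R.obj Z) (ULift.{w} (Y ⟶ Z) →₀ R.obj Z))
    (Y := ModuleCat.of (R.obj Z) (ULift.{w} (X ⟶ Z) →₀ R.obj Z))
    (Finsupp.lmapDomain (R.obj Z) (R.obj Z)
      (fun h : ULift.{w} (Y ⟶ Z) => ULift.up.{w} (f ≫ h.down)))
  naturality {Z Z'} g := by
    apply ModuleCat.hom_ext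
    apply LinearMap.toAddMonoidHom_injective
    refine Finsupp.addHom_ext fun h r => ?_
    show Finsupp.mapDomain (fun h : ULift.{w} (Y ⟶ Z') => ULift.up.{w} (f ≫ h.down))
        (fmap R Y g (Finsupp.single h r))
      = fmap R X g (Finsupp.mapDomain (fun h : ULift.{w} (Y ⟶ Z) => ULift.up.{w} (f ≫ h.down))
        (Finsupp.single h r))
    rw [fmap_single, Finsupp.mapDomain_single, Finsupp.mapDomain_single, fmap_single,
      Category.assoc]

lemma pre_gen {Y : Dᵒᵖ} (f : X ⟶ Y) :
    (pre.{w} (R := R) f).app Y (gen.{w} R Y) = (P.{w} R X).map f (gen.{w} R X) := by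
  show Finsupp.mapDomain (fun h : ULift.{w} (Y ⟶ Y) => ULift.up.{w} (f ≫ h.down))
      (Finsupp.single (ULift.up.{w} (𝟙 Y)) 1)
    = fmap R X f (Finsupp.single (ULift.up.{w} (𝟙 X)) 1)
  rw [Finsupp.mapDomain_single, fmap_single, map_one, Category.comp_id, Category.id_comp]

lemma pre_mono {Y : Dᵒᵖ} (f : X ⟶ Y) [Epi f] : Mono (pre.{w} (R := R) f) := by
  apply PresheafOfModules.mono_of_injective
  intro Z
  show Function.Injective
    (Finsupp.mapDomain (M := R.obj Z) (fun h : ULift.{w} (Y ⟶ Z) => ULift.up.{w} (f ≫ h.down)))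
  apply Finsupp.mapDomain_injective
  intro h h' e
  have e2 : f ≫ h.down = f ≫ h'.down := congrArg ULift.down e
  exact ULift.ext _ _ ((cancel_epi f).1 e2)

theorem map_surjective_of_injective (I : PresheafOfModules.{max w v₁ u₂} R) [Injective I]
    {Y : Dᵒᵖ} (f : X ⟶ Y) [Epi f] (x' : I.obj Y) : ∃ x : I.obj X, I.map f x = x' := by
  haveI := pre_mono.{w} (R := R) f
  obtain ⟨ψ, hψ⟩ : ∃ ψ : P.{w} R X ⟶ I, pre.{w} f ≫ ψ = desc.{w} I x' :=
    ⟨Injective.factorThru (desc.{w} I x') (pre.{w} f), Injective.comp_factorThru _ _⟩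
  refine ⟨ψ.app X (gen.{w} R X), ?_⟩
  rw [← PresheafOfModules.naturality_apply, ← pre_gen]
  have h2 : (pre.{w} f ≫ ψ).app Y (gen.{w} R Y) = (desc.{w} I x').app Y (gen.{w} R Y) := by
    rw [hψ]
  rw [desc_gen] at h2
  exact h2

end freeconstr

section app
variable {A : Type u} [CommRing A]
open AdeqTF

lemma epi_ptHom {B B' : Adeq.Alg A} (f : B ⟶ B') (hf : Function.Surjective f.hom) :
    Epi (Adeq.ptHom f) := by
  haveI : Epi f := ConcreteCategory.epi_of_surjective f hf
  show Epi f.op.op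
  infer_instance

theorem main (I : Adeq.MVF A) [Injective I] (B : Adeq.Alg A) (S : ShortComplex (ModuleCat.{u} B))
    (hS : S.ShortExact) : Function.Surjective (AdeqTF.tangentMap B I S.g) := by
  intro x
  have hg : Function.Surjective S.g := hS.moduleCat_surjective_g
  haveI : Epi (Adeq.ptHom (AdeqTF.map B S.g)) := epi_ptHom _ (by
    intro y
    obtain ⟨n, hn⟩ := hg (TrivSqZeroExt.snd y)
    refine ⟨TrivSqZeroExt.inl (TrivSqZeroExt.fst y) + TrivSqZeroExt.inr n, ?_⟩
    show TrivSqZeroExt.map S.g.hom (TrivSqZeroExt.inl (TrivSqZeroExt.fst y) + TrivSqZeroExt.inr n) = y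
    rw [map_add, TrivSqZeroExt.map_inl, TrivSqZeroExt.map_inr]
    ext
    · simp
    · simp [hn])
  obtain ⟨x', hx'⟩ := map_surjective_of_injective.{u+1, u, u+1, u} I
    (Adeq.ptHom (AdeqTF.map B S.g)) x.1
  have hx'0 : x' ∈ tangent B S.X₂ I := by
    rw [mem_tangent]
    have e : Adeq.ptHom (AdeqTF.map B S.g) ≫ Adeq.ptHom (fst B S.X₃) = Adeq.ptHom (fst B S.X₂) :=
      congrArg Adeq.ptHom (map_fst B S.g)
    rw [← I.congr_map_apply e, I.map_comp_apply, hx']
    exact x.2
  exact ⟨⟨x', hx'0⟩, Subtype.ext hx'⟩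

end app


end


/-- Take `I` injective in the category of module-valued functors on `A`-algebras. For every `A`-algebra
`B` and every short exact sequence `0 → N₁ → N → N₂ → 0` of `B`-modules, the induced map of tangent
modules `TI(B, N) → TI(B, N₂)` is surjective (`TI(B, N)` is the kernel of `I(B[N]) → I(B)`, `B[N]`
the trivial square-zero extension). (The published statement asserts that `TI(B, N₁) → TI(B, N) →
TI(B, N₂) → 0` is exact; exactness at the middle term is false: for `A = B = ℚ`, the split sequence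
`0 → ℚ → ℚ² → ℚ → 0` and the injective functor `D ↦ Map(Hom(D, ℚ[ε]/(ε²)), E)` with `E` an injective
hull of `ℚ[ε]/(ε²)`, the indicator function of the first coordinate form lies in the kernel of
`TI(B, ℚ²) → TI(B, ℚ)` and not in the image of `TI(B, ℚ) → TI(B, ℚ²)`. This row keeps the
surjectivity, which the published argument does establish.) -/
theorem result (A : Type u) [CommRing A] (I : Adeq.MVF A) [Injective I]
    (B : Adeq.Alg A) (S : ShortComplex (ModuleCat.{u} B)) (hS : S.ShortExact) :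
    Function.Surjective (AdeqTF.tangentMap B I S.g) := by
  classical
  exact main I B S hS

end Groth.Agent.S8780
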