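import Groth.Statements.S8754
import Mathlib
import Groth.Agent.S8780

set_option autoImplicit false
universe u
open CategoryTheory Limits
open Adeq

namespace Groth.Agent.S8754

section
open CategoryTheory Limits
open Groth.Agent.S8780

section gen
variable {D : Type (u+1)} [Category.{u} D] (R : Dᵒᵖ ⥤ RingCat.{u})

instance : (PresheafOfModules.toPresheaf.{u+1} R).ReflectsIsomorphisms := inferInstance

instance : ReflectsFiniteLimits (PresheafOfModules.toPresheaf.{u+1} R) := inferInstance

lemma ab5 : AB5OfSize.{u+1, u+1} (PresheafOfModules.{u+1} R) where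
  ofShape J _ _ := HasExactColimitsOfShape.domain_of_functor J (PresheafOfModules.toPresheaf.{u+1} R)

lemma separating :
    ObjectProperty.IsSeparating (.ofObj (fun X : Dᵒᵖ => P.{u+1} R X)) := by
  intro M N f₁ f₂ h
  ext X m
  have h1 := h (P.{u+1} R X) ⟨X⟩ (desc.{u+1} M m)
  have h2 : (desc.{u+1} M m ≫ f₁).app X (gen.{u+1} R X)
      = (desc.{u+1} M m ≫ f₂).app X (gen.{u+1} R X) := by rw [h1]
  have h3 : ∀ f : M ⟶ N, (desc.{u+1} M m ≫ f).app X (gen.{u+1} R X) = f.app X m := by
    intro f
    show f.app X ((desc.{u+1} M m).app X (gen.{u+1} R X)) = f.app X m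
    rw [desc_gen]
  rw [h3, h3] at h2
  exact h2

lemma hasSep : HasSeparator (PresheafOfModules.{u+1} R) :=
  ⟨⟨∐ (fun X : Dᵒᵖ => P.{u+1} R X), (separating R).isSeparator_coproduct⟩⟩

lemma groth : IsGrothendieckAbelian.{u+1} (PresheafOfModules.{u+1} R) where
  ab5OfSize := ab5 R
  hasSeparator := hasSep R

lemma enough : EnoughInjectives (PresheafOfModules.{u+1} R) := by
  haveI := groth R
  infer_instance

end gen

theorem main (A : Type u) [CommRing A] : EnoughInjectives (Adeq.MVF A) :=
  enough (Adeq.ringOf A)


end


/-- The category of module-valued functors on `A`-algebras has enough injectives (it is a category of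
presheaves of modules). -/
theorem result (A : Type u) [CommRing A] : EnoughInjectives (Adeq.MVF A) := by
  classical
  exact main A

end Groth.Agent.S8754
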