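import Groth.Statements.S0493
import Groth.Agent.Lib.Helper3.TopCechSurj
import Groth.Agent.Lib.Helper3.CechLES
import Groth.Agent.Lib.Helper3.CechInj
import Groth.Agent.Lib.Helper3.AcyClass
import Groth.Agent.Lib.Helper3.FreeMono

set_option autoImplicit false
universe u
open CohTop

namespace Groth.Agent.S0493

open TopologicalSpace CategoryTheory.Limits in
/-- Let B be a basis of opens of X and Cov a class of families of opens such that (1) every family in
Cov has its union, its members and all finite intersections of members in B, (2) for U in B every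
open covering of U is refined by a family in Cov with union U, and (3) the Cech cohomology of F in
positive degrees vanishes for every family in Cov. Then H^(p+1)(U, F) = 0 for every U in B. -/
theorem result {X : TopCat.{u}} (F : CohTop.Ab X)
    (B : Set (Opens X)) (hB : Opens.IsBasis B) (Cov : ∀ (ι : Type u), (ι → Opens X) → Prop)
    (h1 : ∀ (ι : Type u) (V : ι → Opens X), Cov ι V →
      iSup V ∈ B ∧ ∀ (p : ℕ) (a : Fin (p + 1) → ι), (iInf fun k => V (a k)) ∈ B)
    (h2 : ∀ U ∈ B, ∀ (κ : Type u) (W : κ → Opens X), iSup W = U →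
      ∃ (ι : Type u) (V : ι → Opens X), Cov ι V ∧ iSup V = U ∧ ∀ i, ∃ k, V i ≤ W k)
    (h3 : ∀ (ι : Type u) (V : ι → Opens X), Cov ι V → ∀ p : ℕ, IsZero (CohTop.cechH F.obj V (p + 1)))
    (U : Opens X) (hU : U ∈ B) (p : ℕ) : Subsingleton (CohTop.HU F (p + 1) U) := by
  refine ⟨fun x y => ?_⟩
  have hsurjB : ∀ (S : CategoryTheory.ShortComplex (CohTop.Ab X)) (hS : S.ShortExact),
      (∀ (ι : Type u) (V : ι → Opens X), Cov ι V → ∀ p : ℕ,
        IsZero (CohTop.cechH S.X₁.obj V (p + 1))) →
      ∀ V ∈ B, Function.Surjective (S.g.hom.app (Opposite.op V)).hom := by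
    intro S hS h1' V hV
    apply Groth.Agent.Helper3.TopCechSurj.surjective_of_refinement hS V
    intro κ W hW
    obtain ⟨ι, V', hc, hV', href⟩ := h2 V hV κ W hW
    exact ⟨ι, V', hV', href, h1' ι V' hc 0⟩
  have h := Groth.Agent.Helper3.AcyClass.ext_eq_zero
    (CohCx.freeSheaf (Opens.grothendieckTopology X) U)
    (fun M : CohTop.Ab X => ∀ (ι : Type u) (V : ι → Opens X), Cov ι V →
      ∀ p : ℕ, IsZero (CohTop.cechH M.obj V (p + 1))) (by
      intro S hS hX1 hinjX2
      refine ⟨?_, ?_⟩
      · intro ι V hc p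
        have hYB : ∀ (n : ℕ) (a : Fin (n + 1) → ι),
            Groth.Agent.Helper3.CechLow.YY (Groth.Agent.Helper3.TopCech.Y V) a ∈ B := by
          intro n a
          have e : Groth.Agent.Helper3.CechLow.YY (Groth.Agent.Helper3.TopCech.Y V) a =
              iInf fun k => V (a k) :=
            (Groth.Agent.Helper3.TopCech.prod_left_eq V a).trans
              (Groth.Agent.Helper3.TopCech.prod_eq_iInf V a)
          rw [e]
          exact (h1 ι V hc).2 n a
        refine IsZero.of_iso ?_ (Groth.Agent.Helper3.TopCech.cechHIso V S.X₃.obj (p + 1))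
        exact Groth.Agent.Helper3.CechLES.isZero_cechH_quotient (Groth.Agent.Helper3.TopCech.Y V)
          S.f.hom S.g.hom
          (fun V x => Groth.Agent.Helper3.ShSec.zero_apply V x)
          (fun n a => Groth.Agent.Helper3.ShSec.injective_f hS _)
          (fun n a y hy => Groth.Agent.Helper3.ShSec.exact_sections hS _ y hy)
          (fun n a => hsurjB S hS hX1 _ (hYB n a)) (p + 1)
          (Groth.Agent.Helper3.CechInj.isZero_cech_of_injective (Groth.Agent.Helper3.TopCech.Y V) S.X₂.obj p)
          ((hX1 ι V hc (p + 1)).of_iso (Groth.Agent.Helper3.TopCech.cechHIso V S.X₁.obj (p + 1 + 1)).symm)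
      · intro ψ
        obtain ⟨t, ht⟩ := hsurjB S hS hX1 U hU (CohFree.evalGen _ U S.X₃ ψ)
        refine ⟨CohFree.ofSect _ U S.X₂ t, ?_⟩
        apply (CohFree.homEquivSect _ U S.X₃).injective
        rw [CohFree.homEquivSect_apply, CohFree.homEquivSect_apply, ← ht]
        have := CohFree.evalGen_ofSect _ U S.X₂ t
        exact congrArg (S.g.hom.app (Opposite.op U)).hom this) p F h3
  exact (h x).trans (h y).symm


end Groth.Agent.S0493
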