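import Groth.Statements.S0466
import Groth.Agent.Lib.Helper3.CechSurj
import Groth.Agent.Lib.Helper3.TopCech

set_option autoImplicit false
universe u
open CategoryTheory
open CohTop

namespace Groth.Agent.S0466

open TopologicalSpace Opposite in
/-- Consider a short exact sequence of abelian sheaves with kernel F, middle term G and quotient H, and
an open U. If every open covering of U admits a refinement on which the first Cech cohomology of F
vanishes, then sections of G over U map onto sections of H over U. -/
theorem result {X : TopCat.{u}}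
    (S : CategoryTheory.ShortComplex (CohTop.Ab X)) (hS : S.ShortExact) (U : Opens X)
    (h : ∀ (ι : Type u) (V : ι → Opens X), iSup V = U →
      ∃ (κ : Type u) (W : κ → Opens X) (r : κ → ι), iSup W = U ∧ (∀ k, W k ≤ V (r k)) ∧
        CategoryTheory.Limits.IsZero (CohTop.cechH S.X₁.obj W 1)) :
    Function.Surjective (S.g.hom.app (op U)) := by
  intro s
  have hT := Groth.Agent.Helper3.ShSec.imageSieve_mem hS s
  let ι : Type u := {V : Opens X // ∃ hV : V ≤ U, (Presheaf.imageSieve S.g.hom s).arrows (homOfLE hV)}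
  have hsup : iSup (fun i : ι => i.1) = U := by
    apply le_antisymm
    · exact iSup_le fun i => i.2.1
    · intro x hx
      obtain ⟨V, f, hf, hxV⟩ := hT x hx
      exact Opens.mem_iSup.2 ⟨⟨V, leOfHom f, by
        have : f = homOfLE (leOfHom f) := Subsingleton.elim _ _
        rw [← this]; exact hf⟩, hxV⟩
  obtain ⟨κ, W, r, hW, hle, hH⟩ := h ι (fun i => i.1) hsup
  subst hW
  have hY : Sieve.ofArrows (fun i => (Groth.Agent.Helper3.TopCech.Y W i).left)
      (fun i => (Groth.Agent.Helper3.TopCech.Y W i).hom) ∈
      Opens.grothendieckTopology X (iSup W) := by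
    intro x hx
    obtain ⟨i, hi⟩ := Opens.mem_iSup.1 hx
    exact ⟨W i, homOfLE (le_iSup W i), ⟨_, 𝟙 _, _, ⟨i⟩, Category.id_comp _⟩, hi⟩
  have hH' : CategoryTheory.Limits.IsZero (CohCx.cechH S.X₁.obj (Groth.Agent.Helper3.TopCech.Y W) 1) :=
    hH.of_iso (Groth.Agent.Helper3.TopCech.cechHIso W S.X₁.obj 1).symm
  refine Groth.Agent.Helper3.CechSurj.exists_lift (Groth.Agent.Helper3.TopCech.Y W) hS hY hH' s ?_
  intro k
  obtain ⟨hV, hVT⟩ := (r k).2
  have h1 := (Presheaf.imageSieve S.g.hom s).downward_closed hVT (homOfLE (hle k))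
  have : homOfLE (hle k) ≫ homOfLE hV = (Groth.Agent.Helper3.TopCech.Y W k).hom := Subsingleton.elim _ _
  rw [this] at h1
  exact h1


end Groth.Agent.S0466
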