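import Groth.Statements.S9110
import Mathlib
import Mathlib
import Groth.Agent.Lib.Helper5.Misc.TensorSheaf

set_option autoImplicit false
universe u
open CategoryTheory CategoryTheory.Limits
open ModSite

open CategoryTheory CategoryTheory.Limits

namespace Groth.Agent.S9110

/-- Let C be a small category, O a presheaf of commutative rings on C and F a presheaf of O-modules such
that each F(U) is a flat O(U)-module. Then F is flat as a presheaf of modules, i.e. the functor G ↦
G ⊗_{p,O} F given by the sectionwise tensor product of presheaves of modules is exact (preserves
finite limits and finite colimits). -/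
theorem result {C : Type u} [SmallCategory C] (O : Cᵒᵖ ⥤ CommRingCat.{u})
    (F : PresheafOfModules.{u} (O ⋙ forget₂ CommRingCat.{u} RingCat.{u}))
    (hF : ∀ X : Cᵒᵖ, Module.Flat (O.obj X) (F.obj X)) :
    PreservesFiniteLimits (MonoidalCategory.tensorRight F) ∧ PreservesFiniteColimits (MonoidalCategory.tensorRight F) := by
  constructor
  · constructor
    intro K _ _
    constructor
    intro D
    constructor
    intro c hc
    refine ⟨PresheafOfModules.evaluationJointlyReflectsLimits _ _ (fun X => ?_)⟩
    have h1 : IsLimit ((PresheafOfModules.evaluation _ X).mapCone c) :=
      isLimitOfPreserves _ hc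
    have hpf : PreservesFiniteLimits
        (MonoidalCategory.tensorRight (C := ModuleCat (O.obj X)) (F.obj X)) :=
      (Module.Flat.iff_preservesFiniteLimits_tensorRight (R := O.obj X) (F.obj X)).mp (hF X)
    have hpl : PreservesLimitsOfShape K
        (MonoidalCategory.tensorRight (C := ModuleCat (O.obj X)) (F.obj X)) := inferInstance
    have h2 := (hpl.preservesLimit (K := D ⋙ PresheafOfModules.evaluation _ X)).preserves h1
    exact h2.some
  · constructor
    intro K _ _
    infer_instance

end Groth.Agent.S9110
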