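import Groth.Statements.S0049
import Mathlib
import Groth.Agent.Lib.Lead.CIU3
import Groth.Agent.Lib.Lead.PBQc
import Groth.Agent.Lib.Helper1.QcAbel
import Groth.Agent.Lib.Helper1.CohAbel
import Groth.Agent.Lib.Helper1.PushQc
import Groth.Agent.Lib.Helper1.AffPushEpi

set_option autoImplicit false
universe u
open Coherent

namespace Groth.Agent.S0049

section
open AlgebraicGeometry CategoryTheory CategoryTheory.Limits

open Scheme.Modules Groth.Agent.Helper1 Groth.Agent.Lead.CIU

variable {X : Scheme.{u}}

/-- a section all of whose germs vanish is zero -/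
theorem eq_zero_of_germ_eq_zero (M : X.Modules) {V : X.Opens} (s : Γ(M, V))
    (h : ∀ (x : X) (hx : x ∈ V), M.presheaf.germ V x hx s = 0) : s = 0 := by
  apply M.isSheaf.section_ext (U := Opposite.op V)
  intro x hx
  have hg : M.presheaf.germ V x hx s = M.presheaf.germ V x hx 0 := by
    rw [h x hx, map_zero]
  obtain ⟨W, hxW, iU, iV, hW⟩ := TopCat.Presheaf.germ_eq M.presheaf x hx hx s 0 hg
  exact ⟨W, iU.le, hxW, hW⟩

/-- a stalk all of whose germs vanish is trivial -/
theorem subsingleton_stalk_of_germ_eq_zero (M : X.Modules) (x : X)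
    (h : ∀ (V : X.Opens) (hx : x ∈ V) (s : Γ(M, V)), M.presheaf.germ V x hx s = 0) :
    Subsingleton (M.presheaf.stalk x) := by
  constructor
  intro a b
  obtain ⟨U, hxU, s, rfl⟩ := TopCat.Presheaf.exists_germ_eq M.presheaf a
  obtain ⟨U', hxU', s', rfl⟩ := TopCat.Presheaf.exists_germ_eq M.presheaf b
  rw [h U hxU s, h U' hxU' s']

/-- the restriction maps of a direct image along an open immersion `j` from `W` to `W ⊓ range j`
are bijective -/
theorem push_res_bijective {U : X.Opens} (H : U.toScheme.Modules) (W : X.Opens) :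
    Function.Bijective (((pushforward U.ι).obj H).presheaf.map
      (homOfLE (inf_le_left : W ⊓ U ≤ W)).op) := by
  refine map_bijective_of_le_le H _ ?_
  intro y hy
  exact ⟨hy, y.2⟩

theorem main (X : Scheme.{u}) [IsNoetherian X] (M : X.Modules) (hM : Coh.IsCoh M)
    (Z Z' : Set X) (hZ : IsClosed Z) (hZ' : IsClosed Z') (h : CohB1.support M = Z ∪ Z') :
    ∃ S : ShortComplex X.Modules, S.ShortExact ∧ Nonempty (S.X₂ ≅ M) ∧ Coh.IsCoh S.X₁ ∧
      Coh.IsCoh S.X₃ ∧ CohB1.support S.X₁ ⊆ Z' ∧ CohB1.support S.X₃ ⊆ Z := by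
  haveI : M.IsQuasicoherent := hM.1
  let U : X.Opens := ⟨Z'ᶜ, hZ'.isOpen_compl⟩
  let η : M ⟶ (pushforward U.ι).obj ((Scheme.Modules.pullback U.ι).obj M) :=
    (pullbackPushforwardAdjunction U.ι).unit.app M
  haveI hT : ((pushforward U.ι).obj ((Scheme.Modules.pullback U.ι).obj M)).IsQuasicoherent := by
    haveI := Groth.Agent.Lead.PB.isQuasicoherent_pullback U.ι M
    exact PushQc.isQuasicoherent_pushforward U.ι ((Scheme.Modules.pullback U.ι).obj M)
  have hKq : (kernel η).IsQuasicoherent := QcAbel.isQuasicoherent_kernel η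
  have hK : Coh.IsCoh (kernel η) := FtLocal.isCoh_of_mono (kernel.ι η) hM hKq
  have hC : Coh.IsCoh (cokernel (kernel.ι η)) := FtLocal.isCoh_cokernel hK hM (kernel.ι η)
  let S : ShortComplex X.Modules :=
    ShortComplex.mk (kernel.ι η) (cokernel.π (kernel.ι η)) (cokernel.condition _)
  have hS : S.ShortExact :=
    { exact := ShortComplex.exact_of_g_is_cokernel _ (cokernelIsCokernel (kernel.ι η))
      mono_f := inferInstanceAs (Mono (kernel.ι η))
      epi_g := inferInstanceAs (Epi (cokernel.π (kernel.ι η))) }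
  refine ⟨S, hS, ⟨Iso.refl _⟩, hK, hC, ?_, ?_⟩
  · -- the kernel is supported in `Z'`
    intro x hx
    by_contra hxZ'
    apply hx
    have hxU : x ∈ U := hxZ'
    apply subsingleton_stalk_of_germ_eq_zero
    intro V hxV s
    -- shrink to `V ⊓ U`
    rw [← TopCat.Presheaf.germ_res_apply (kernel η).presheaf
      (homOfLE (inf_le_left : V ⊓ U ≤ V)) x ⟨hxV, hxU⟩ s]
    have h0 : (kernel η).presheaf.map (homOfLE (inf_le_left : V ⊓ U ≤ V)).op s = 0 := by
      apply FtLocal.app_injective_of_mono (kernel.ι η)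
      rw [map_zero]
      apply (unit_app_bijective_of_le_range U.ι M (V ⊓ U) (by
        rw [Scheme.Opens.opensRange_ι]; exact inf_le_right)).1
      rw [map_zero]
      have := congrArg (fun φ => Hom.app φ (V ⊓ U)
        ((kernel η).presheaf.map (homOfLE (inf_le_left : V ⊓ U ≤ V)).op s)) (kernel.condition η)
      exact this
    rw [h0, map_zero]
  · -- the cokernel is supported in `Z`
    intro x hx
    by_contra hxZ
    apply hx
    apply subsingleton_stalk_of_germ_eq_zero
    intro V hxV t
    -- an affine neighbourhood inside `V` and the complement of `Z`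
    obtain ⟨_, ⟨W, hW, rfl⟩, hxW, hWV⟩ := X.isBasis_affineOpens.exists_subset_of_mem_open
      (show x ∈ (V : Set X) ∩ Zᶜ from ⟨hxV, hxZ⟩) (V.2.inter hZ.isOpen_compl)
    have hWV' : W ≤ V := fun y hy => (hWV hy).1
    rw [← TopCat.Presheaf.germ_res_apply (cokernel (kernel.ι η)).presheaf (homOfLE hWV') x hxW t]
    haveI : (kernel η).IsQuasicoherent := hKq
    haveI : (cokernel (kernel.ι η)).IsQuasicoherent := hC.1
    obtain ⟨m, hm⟩ := AffPushEpi.app_surjective_of_epi (cokernel.π (kernel.ι η)) W hW
      ((cokernel (kernel.ι η)).presheaf.map (homOfLE hWV').op t)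
    rw [← hm]
    -- `m` is killed by `η`
    have hm0 : η.app W m = 0 := by
      apply (push_res_bijective ((Scheme.Modules.pullback U.ι).obj M) W).1
      rw [map_zero, ← hom_naturality_apply η (inf_le_left : W ⊓ U ≤ W) m]
      have hz : M.presheaf.map (homOfLE (inf_le_left : W ⊓ U ≤ W)).op m = 0 := by
        apply eq_zero_of_germ_eq_zero
        intro y hy
        have hyS : y ∉ CohB1.support M := by
          rw [h]
          rintro (hyZ | hyZ')
          · exact (hWV hy.1).2 hyZ
          · exact hy.2 hyZ'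
        have hsub : Subsingleton (M.presheaf.stalk y) := not_not.1 hyS
        exact Subsingleton.elim _ _
      rw [hz, map_zero]
    -- so `m` comes from the kernel
    let S' : ShortComplex X.Modules := ShortComplex.mk (kernel.ι η) η (kernel.condition η)
    have hS' : S'.Exact := ShortComplex.exact_of_f_is_kernel _ (kernelIsKernel η)
    haveI : Mono S'.f := inferInstanceAs (Mono (kernel.ι η))
    obtain ⟨k, hk⟩ := QcAbel.app_exact' hS' W m hm0
    have hk' : (kernel.ι η).app W k = m := hk
    rw [← hk']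
    have h1 := congrArg (fun φ => Hom.app φ W k) (cokernel.condition (kernel.ι η))
    have h2 : (cokernel.π (kernel.ι η)).app W ((kernel.ι η).app W k) = 0 := h1
    rw [h2, map_zero]


end


open AlgebraicGeometry CategoryTheory in
/-- On a Noetherian scheme, if the support of a coherent module F is the union of closed sets Z and Z',
there is a short exact sequence 0 → G' → F → G → 0 of coherent modules with G' supported in Z' and G
supported in Z. -/
theorem result (X : Scheme.{u}) [IsNoetherian X] (M : X.Modules) (hM : Coh.IsCoh M)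
    (Z Z' : Set X) (hZ : IsClosed Z) (hZ' : IsClosed Z') (h : CohB1.support M = Z ∪ Z') :
    ∃ S : ShortComplex X.Modules, S.ShortExact ∧ Nonempty (S.X₂ ≅ M) ∧ Coh.IsCoh S.X₁ ∧ Coh.IsCoh S.X₃ ∧
      CohB1.support S.X₁ ⊆ Z' ∧ CohB1.support S.X₃ ⊆ Z := by
  classical
  exact main X M hM Z Z' hZ hZ' h

end Groth.Agent.S0049
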