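import Groth.Statements.S8869
import Mathlib

set_option autoImplicit false
universe u
open CategoryTheory CategoryTheory.Limits AlgebraicGeometry TopologicalSpace
open SDiv

namespace Groth.Agent.S8869

open AlgebraicGeometry CategoryTheory TopologicalSpace Opposite
namespace H8869

variable (X : Scheme.{u})

/-- view a section of `O_X` as a section of the structure module -/
def toM {U : X.Opens} (s : Γ(X, U)) : Γ(Coh.structureModule X, U) := s

theorem toM_smul {U : X.Opens} (r s : Γ(X, U)) : r • toM X s = toM X (r * s) := rfl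

theorem toM_res {U V : X.Opens} (i : V ⟶ U) (s : Γ(X, U)) :
    (Coh.structureModule X).presheaf.map i.op (toM X s) = toM X (X.presheaf.map i.op s) := rfl

theorem toM_zero {U : X.Opens} : toM X (0 : Γ(X, U)) = 0 := rfl

theorem toM_surj {U : X.Opens} (m : Γ(Coh.structureModule X, U)) : ∃ s : Γ(X, U), toM X s = m :=
  ⟨m, rfl⟩

noncomputable def mgerm {U : X.Opens} (x : X) (hx : x ∈ U) (s : Γ(X, U)) :
    (Coh.structureModule X).presheaf.stalk x :=
  TopCat.Presheaf.germ (Coh.structureModule X).presheaf U x hx (toM X s)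

theorem mgerm_eq_zero_iff {U : X.Opens} (x : X) (hx : x ∈ U) (s : Γ(X, U)) :
    mgerm X x hx s = 0 ↔ X.presheaf.germ U x hx s = 0 := by
  constructor
  · intro h
    have h0 : mgerm X x hx s = TopCat.Presheaf.germ (Coh.structureModule X).presheaf U x hx 0 := by
      rw [h, map_zero]
    obtain ⟨W, hxW, iU, iV, e⟩ := TopCat.Presheaf.germ_eq _ x hx hx _ _ h0
    have e' : X.presheaf.map iU.op s = 0 := by
      have : (Coh.structureModule X).presheaf.map iV.op 0 = 0 := map_zero _
      rw [this] at e
      exact e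
    rw [← TopCat.Presheaf.germ_res_apply X.presheaf iU x hxW s, e', map_zero]
  · intro h
    have h0 : X.presheaf.germ U x hx s = X.presheaf.germ U x hx 0 := by
      rw [h, map_zero]
    obtain ⟨W, hxW, iU, iV, e⟩ := TopCat.Presheaf.germ_eq _ x hx hx _ _ h0
    have e' : (Coh.structureModule X).presheaf.map iU.op (toM X s) = 0 := by
      rw [map_zero] at e
      exact e
    rw [mgerm, ← TopCat.Presheaf.germ_res_apply (Coh.structureModule X).presheaf iU x hxW, e',
      map_zero]

theorem smul_mgerm {U : X.Opens} (x : X) (hx : x ∈ U) (r s : Γ(X, U)) :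
    X.presheaf.germ U x hx r • mgerm X x hx s = mgerm X x hx (r * s) := by
  rw [mgerm, mgerm, ← toM_smul]
  exact (PresheafOfModules.germ_smul (R := X.presheaf) (Coh.structureModule X).val x U hx r (toM X s)).symm


theorem mgerm_res {U W : X.Opens} (i : W ⟶ U) (x : X) (hx : x ∈ W) (s : Γ(X, U)) :
    mgerm X x hx (X.presheaf.map i.op s) = mgerm X x (i.le hx) s := by
  rw [mgerm, mgerm, ← toM_res]
  exact TopCat.Presheaf.germ_res_apply (Coh.structureModule X).presheaf i x hx (toM X s)

theorem ann_iff {U : X.Opens} (x : X) (hx : x ∈ U) (s : Γ(X, U)) (r : X.presheaf.stalk x) :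
    r • mgerm X x hx s = 0 ↔ r * X.presheaf.germ U x hx s = 0 := by
  obtain ⟨V, hxV, r', rfl⟩ := TopCat.Presheaf.exists_germ_eq X.presheaf r
  have hxW : x ∈ U ⊓ V := ⟨hx, hxV⟩
  let iU : U ⊓ V ⟶ U := homOfLE inf_le_left
  let iV : U ⊓ V ⟶ V := homOfLE inf_le_right
  have h1 : X.presheaf.germ V x hxV r' = X.presheaf.germ (U ⊓ V) x hxW (X.presheaf.map iV.op r') :=
    (TopCat.Presheaf.germ_res_apply X.presheaf iV x hxW r').symm
  have h2 : X.presheaf.germ U x hx s = X.presheaf.germ (U ⊓ V) x hxW (X.presheaf.map iU.op s) :=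
    (TopCat.Presheaf.germ_res_apply X.presheaf iU x hxW s).symm
  have h3 : mgerm X x hx s = mgerm X x hxW (X.presheaf.map iU.op s) :=
    (mgerm_res X iU x hxW s).symm
  rw [h1, h2, h3, smul_mgerm, mgerm_eq_zero_iff, map_mul]

theorem isWeakAss_iff (x : X) : Curv2.IsWeakAssPoint (Coh.structureModule X) x ↔
    ∃ t : X.presheaf.stalk x, Ideal.radical (LinearMap.ker
      (LinearMap.toSpanSingleton (X.presheaf.stalk x) (X.presheaf.stalk x) t)) =
        IsLocalRing.maximalIdeal (X.presheaf.stalk x) := by
  constructor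
  · rintro ⟨m, hm⟩
    obtain ⟨U, hxU, m', rfl⟩ := TopCat.Presheaf.exists_germ_eq (Coh.structureModule X).presheaf m
    obtain ⟨s, rfl⟩ := toM_surj X m'
    refine ⟨X.presheaf.germ U x hxU s, ?_⟩
    rw [← hm]
    congr 1
    ext r
    simp only [LinearMap.mem_ker, LinearMap.toSpanSingleton_apply, smul_eq_mul]
    exact (ann_iff X x hxU s r).symm
  · rintro ⟨t, ht⟩
    obtain ⟨U, hxU, s, rfl⟩ := TopCat.Presheaf.exists_germ_eq X.presheaf t
    refine ⟨mgerm X x hxU s, ?_⟩
    rw [← ht]
    congr 1
    ext r
    simp only [LinearMap.mem_ker, LinearMap.toSpanSingleton_apply, smul_eq_mul]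
    exact ann_iff X x hxU s r


theorem ring_lemma (A : Type u) [CommRing A] [IsLocalRing A] [IsReduced A] :
    (∃ t : A, Ideal.radical (LinearMap.ker (LinearMap.toSpanSingleton A A t)) =
      IsLocalRing.maximalIdeal A) ↔ ∀ p : Ideal A, p.IsPrime → p = IsLocalRing.maximalIdeal A := by
  have hnil : nilradical A = ⊥ := nilradical_eq_zero A
  constructor
  · rintro ⟨t, ht⟩
    have hker : ∀ r, r ∈ LinearMap.ker (LinearMap.toSpanSingleton A A t) ↔ r * t = 0 := by
      intro r
      simp [LinearMap.mem_ker, LinearMap.toSpanSingleton_apply]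
    have ht0 : t ≠ 0 := by
      rintro rfl
      have : LinearMap.ker (LinearMap.toSpanSingleton A A (0 : A)) = ⊤ := by
        ext r; simp [hker]
      rw [this, Ideal.radical_top] at ht
      exact (IsLocalRing.maximalIdeal.isMaximal A).ne_top ht.symm
    have htn : t ∉ nilradical A := by rw [hnil]; exact ht0
    rw [nilradical_eq_sInf, Ideal.mem_sInf] at htn
    push Not at htn
    obtain ⟨q, hq, htq⟩ := htn
    have hq' : q.IsPrime := hq
    have hle : LinearMap.ker (LinearMap.toSpanSingleton A A t) ≤ q := by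
      intro r hr
      have h1 : r * t ∈ q := by rw [(hker r).mp hr]; exact q.zero_mem
      exact (hq'.mem_or_mem h1).resolve_right htq
    have hmq : IsLocalRing.maximalIdeal A ≤ q := by
      rw [← ht]
      exact (hq'.radical_le_iff).mpr hle
    have hqm : q = IsLocalRing.maximalIdeal A :=
      le_antisymm (IsLocalRing.le_maximalIdeal hq'.ne_top) hmq
    have htu : IsUnit t := by
      by_contra hnu
      exact htq (hqm ▸ (IsLocalRing.mem_maximalIdeal t).mpr hnu)
    have hker0 : LinearMap.ker (LinearMap.toSpanSingleton A A t) = ⊥ := by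
      ext r
      rw [hker, Ideal.mem_bot]
      exact ⟨fun h => by simpa using (htu.mul_left_eq_zero).mp h, fun h => by rw [h, zero_mul]⟩
    have hm0 : IsLocalRing.maximalIdeal A = ⊥ := by
      rw [← ht, hker0]
      exact hnil
    intro p hp
    rw [hm0]
    exact le_bot_iff.mp (hm0 ▸ IsLocalRing.le_maximalIdeal hp.ne_top)
  · intro h
    have hm0 : IsLocalRing.maximalIdeal A = ⊥ := by
      rw [← hnil, nilradical_eq_sInf]
      apply le_antisymm
      · apply le_sInf
        intro p hp
        exact (h p hp).ge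
      · exact sInf_le (IsLocalRing.maximalIdeal.isMaximal A).isPrime
    refine ⟨1, ?_⟩
    have : LinearMap.ker (LinearMap.toSpanSingleton A A (1 : A)) = ⊥ := by
      ext r
      simp [LinearMap.mem_ker, LinearMap.toSpanSingleton_apply]
    rw [this, hm0]
    exact hnil

theorem gen_lemma (x : X) :
    (∀ p : Ideal (X.presheaf.stalk x), p.IsPrime → p = IsLocalRing.maximalIdeal (X.presheaf.stalk x)) ↔
      ∀ y : X, y ⤳ x → y = x := by
  constructor
  · intro h y hy
    have : y ∈ Set.range (X.fromSpecStalk x) := by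
      rw [Scheme.range_fromSpecStalk]
      exact hy
    obtain ⟨p, rfl⟩ := this
    have hp : p = IsLocalRing.closedPoint (X.presheaf.stalk x) := by
      apply PrimeSpectrum.ext
      exact h p.asIdeal p.isPrime
    rw [hp]
    exact Scheme.fromSpecStalk_closedPoint
  · intro h p hp
    let P : PrimeSpectrum (X.presheaf.stalk x) := ⟨p, hp⟩
    have hy : X.fromSpecStalk x P ⤳ x := by
      have : X.fromSpecStalk x P ∈ Set.range (X.fromSpecStalk x) := ⟨P, rfl⟩
      rw [Scheme.range_fromSpecStalk] at this
      exact this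
    have h1 := h _ hy
    have h2 : X.fromSpecStalk x P = X.fromSpecStalk x (IsLocalRing.closedPoint (X.presheaf.stalk x)) := by
      rw [h1]
      exact Scheme.fromSpecStalk_closedPoint.symm
    have h3 := (X.fromSpecStalk x).isEmbedding.injective h2
    exact congrArg PrimeSpectrum.asIdeal h3

theorem main [IsReduced X] (x : X) :
    Curv2.IsWeakAssPoint (Coh.structureModule X) x ↔ ∀ y : X, y ⤳ x → y = x := by
  rw [isWeakAss_iff, ring_lemma, gen_lemma]

end H8869

/-- Assume X is a reduced scheme and x is a point of X. Then x is weakly associated to the structure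
sheaf O_X exactly when every generization of x equals x itself; equivalently, x is a generic point
of some irreducible component of X. -/
theorem result (X : Scheme.{u}) [IsReduced X] (x : ↥X) :
    Curv2.IsWeakAssPoint (Coh.structureModule X) x ↔ ∀ y : ↥X, y ⤳ x → y = x := by
  exact H8869.main X x

end Groth.Agent.S8869
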