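import Groth.Statements.S6146
import Mathlib
import Groth.Agent.Lib.Helper5.Misc.ShriekProjNat
import Groth.Agent.Lib.Helper5.Misc.TensorSES
import Groth.Agent.Lib.Helper5.Misc.TensorFlat

set_option autoImplicit false
universe u
open CategoryTheory
open ModSite

open CategoryTheory CategoryTheory.Limits Opposite MonoidalCategory
open Groth.Agent.Lib.Helper5.TensorSheaf Groth.Agent.Lib.Helper5

namespace Groth.Agent.S6146

/-- Flatness is invariant under isomorphism. -/
lemma isFlat_of_iso {C : Type u} [SmallCategory C] {J : GrothendieckTopology C}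
    {O : Sheaf J CommRingCat.{u}} {F F' : ModSite.Mod O} (e : F ≅ F') (h : ModSite.IsFlat F) :
    ModSite.IsFlat F' := by
  rw [isFlat_iff] at h ⊢
  exact preservesFiniteLimits_of_natIso ((ModSite.tensorBi O).flip.mapIso e)

/-- The structure sheaf is flat. -/
lemma isFlat_unit {C : Type u} [SmallCategory C] {J : GrothendieckTopology C}
    (O : Sheaf J CommRingCat.{u}) : ModSite.IsFlat (ModSite.unit O) := by
  have h1 : PreservesFiniteLimits (tensorRight (𝟙_ (PM O))) := by
    refine (Groth.Agent.S9110.result O.obj (𝟙_ (PM O)) (fun X => ?_)).1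
    exact inferInstanceAs (Module.Flat (O.obj.obj X) (O.obj.obj X))
  have h2 := TensorFlat.isFlat_shf (𝟙_ (PM O)) h1
  exact isFlat_of_iso (@asIso _ _ _ _ ((TensorSheaf.adj O).counit.app (ModSite.unit O))
    (isIso_counit_app (ModSite.unit O))) h2

theorem extZero_flat {C : Type u} [SmallCategory C] {J : GrothendieckTopology C}
    (O : Sheaf J CommRingCat.{u}) (U : C) (M : ModSite.Mod (O.over U)) (hM : ModSite.IsFlat M) :
    ModSite.IsFlat ((ModSite.extZero O U).obj M) := by
  apply TensorSES.isFlat_of_mono
  intro R hR
  have : Mono R.f := hR.mono_f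
  have h1 : Mono ((ModSite.restr O U).map R.f) := inferInstance
  have h2 : Mono (((ModSite.tensorBi (O.over U)).obj M).map ((ModSite.restr O U).map R.f)) :=
    TensorSES.mono_obj_map_of_isFlat M hM _
  have h3 : PreservesFiniteLimits (ModSite.extZero O U) :=
    ShriekSheaf.extZero_preservesFiniteLimits O U
  have h4 : Mono ((ModSite.extZero O U).map
      (((ModSite.tensorBi (O.over U)).obj M).map ((ModSite.restr O U).map R.f))) := inferInstance
  have nat := ShriekSheaf.projIso_naturality_right M R.f
  have e : ((ModSite.tensorBi O).obj ((ModSite.extZero O U).obj M)).map R.f =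
      (ShriekSheaf.projIso M R.X₁).inv ≫ ((ModSite.extZero O U).map
        (((ModSite.tensorBi (O.over U)).obj M).map ((ModSite.restr O U).map R.f)) ≫
        (ShriekSheaf.projIso M R.X₂).hom) := by
    rw [nat, Iso.inv_hom_id_assoc]
  rw [e]
  infer_instance

end Groth.Agent.S6146

namespace Groth.Agent.S6146

/-- Ringed topos of sheaves on a small site (C, J) with commutative structure sheaf O, localised at an
object U of C: if M is a flat O|U-module on C/U then its extension by zero j_{U!} M is a flat
O-module. In particular the free O-module on U, j_{U!} O_U, is flat. -/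
theorem result {C : Type u} [SmallCategory C] {J : GrothendieckTopology C} (O : Sheaf J CommRingCat.{u})
    (U : C) :
    (∀ M : ModSite.Mod (O.over U), ModSite.IsFlat M → ModSite.IsFlat ((ModSite.extZero O U).obj M)) ∧
    ModSite.IsFlat (ModSite.freeOn O U) := by
  refine ⟨fun M hM => extZero_flat O U M hM, ?_⟩
  exact extZero_flat O U _ (isFlat_unit (O.over U))

end Groth.Agent.S6146
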