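import Groth.Statements.S6149
import Mathlib
import Groth.Agent.Lib.Helper5.Misc.AcyclicMap
import Groth.Agent.Lib.Helper5.Misc.TensorSES

set_option autoImplicit false
universe u
open CategoryTheory
open ModSite

open CategoryTheory CategoryTheory.Limits Opposite
open Groth.Agent.Lib.Helper5.TensorSheaf Groth.Agent.Lib.Helper5

namespace Groth.Agent.S6149

/-- Zero objects are flat. -/
lemma isFlat_of_isZero {C : Type u} [SmallCategory C] {J : GrothendieckTopology C}
    {O : Sheaf J CommRingCat.{u}} (Z : ModSite.Mod O) (hZ : IsZero Z) : ModSite.IsFlat Z := by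
  apply TensorSES.isFlat_of_mono
  intro R hR
  have h1 : IsZero (((ModSite.tensorBi O).flip.obj R.X₁).obj Z) :=
    Functor.map_isZero _ hZ
  have h2 : IsZero (((ModSite.tensorBi O).obj Z).obj R.X₁) := h1
  exact ⟨fun a b _ => h2.eq_of_tgt a b⟩

theorem aux {C : Type u} [SmallCategory C] {J : GrothendieckTopology C}
    (O : Sheaf J CommRingCat.{u}) (M : ChainComplex (ModSite.Mod O) ℤ) (F : ModSite.Mod O)
    [((ModSite.tensorBi O).flip.obj F).PreservesZeroMorphisms]
    (hb : ∃ i₀ : ℤ, ∀ i, i < i₀ → IsZero (M.X i)) (hM : ∀ i, ModSite.IsFlat (M.X i))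
    (hac : M.Acyclic) :
    ((((ModSite.tensorBi O).flip.obj F).mapHomologicalComplex (ComplexShape.down ℤ)).obj M).Acyclic := by
  obtain ⟨i₀, hi₀⟩ := hb
  -- the canonical short exact sequences
  have hE : ∀ k : ℤ, (AcyclicMap.E M (k + 1 + 1) (k + 1) k).ShortExact := by
    intro k
    apply AcyclicMap.E_shortExact
    rw [← HomologicalComplex.exactAt_iff' M (k + 1 + 1) (k + 1) k (by simp) (by simp)]
    exact hac (k + 1)
  -- flatness of cycles
  have hP : ∀ k : ℤ, ModSite.IsFlat (kernel (M.d (k + 1) k)) := by
    have base : ∀ k : ℤ, k + 1 < i₀ → ModSite.IsFlat (kernel (M.d (k + 1) k)) := by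
      intro k hk
      apply isFlat_of_isZero
      exact IsZero.of_mono (kernel.ι (M.d (k + 1) k)) (hi₀ _ hk)
    have step : ∀ k : ℤ, ModSite.IsFlat (kernel (M.d (k + 1) k)) →
        ModSite.IsFlat (kernel (M.d (k + 1 + 1) (k + 1))) := by
      intro k hk
      exact TensorSES.isFlat_X₁ (AcyclicMap.E M (k + 1 + 1) (k + 1) k) (hE k) (hM _) hk
    intro k
    by_cases hk : k + 1 < i₀
    · exact base k hk
    · obtain ⟨n, hn⟩ := Int.eq_ofNat_of_zero_le (show 0 ≤ k - (i₀ - 2) by omega)
      have hk' : k = i₀ - 2 + n := by omega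
      rw [hk']
      clear hk hn hk'
      induction n with
      | zero => exact base _ (by omega)
      | succ n ih =>
        have := step _ ih
        have e : i₀ - 2 + (n : ℤ) + 1 = i₀ - 2 + ((n + 1 : ℕ) : ℤ) := by push_cast; ring
        rw [e] at this
        exact this
  have hflat : ∀ a b : ℤ, b + 1 = a → ModSite.IsFlat (kernel (M.d a b)) := by
    intro a b h
    subst h
    exact hP b
  have hE' : ∀ a b c : ℤ, b + 1 = a → c + 1 = b → (AcyclicMap.E M a b c).ShortExact := by
    intro a b c h1 h2
    subst h2
    subst h1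
    exact hE c
  have hT : ((ModSite.tensorBi O).flip.obj F).Additive := TensorSES.additive_flip_obj F
  intro j
  have s1 := TensorSES.shortExact_map _ (hE' (j + 1) j (j - 1) rfl (by ring))
    (hflat j (j - 1) (by ring)) F
  have s2 := TensorSES.shortExact_map _ (hE' j (j - 1) (j - 2) (by ring) (by ring))
    (hflat (j - 1) (j - 2) (by ring)) F
  have s3 := TensorSES.shortExact_map _ (hE' (j - 1) (j - 2) (j - 3) (by ring) (by ring))
    (hflat (j - 2) (j - 3) (by ring)) F
  exact AcyclicMap.map_exactAt M ((ModSite.tensorBi O).flip.obj F) (j + 1) j (j - 1) (j - 2)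
    (by simp) (by simp) s1.epi_g s2.exact s3.mono_f

end Groth.Agent.S6149

namespace Groth.Agent.S6149

open CategoryTheory.Limits in
/-- Ringed topos of sheaves on a small site with commutative structure sheaf O: let M be an acyclic
chain complex of flat O-modules with M_i = 0 for i below some bound. Then for every O-module F the
complex M (x)_O F (tensoring termwise with F) is acyclic. The instance binder on the tensor functor
(it preserves zero morphisms) always holds and is only needed to form the complex. -/
theorem result {C : Type u} [SmallCategory C] {J : GrothendieckTopology C}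
    (O : Sheaf J CommRingCat.{u}) (M : ChainComplex (ModSite.Mod O) ℤ) (F : ModSite.Mod O)
    [((ModSite.tensorBi O).flip.obj F).PreservesZeroMorphisms]
    (hb : ∃ i₀ : ℤ, ∀ i, i < i₀ → IsZero (M.X i)) (hM : ∀ i, ModSite.IsFlat (M.X i)) (hac : M.Acyclic) :
    ((((ModSite.tensorBi O).flip.obj F).mapHomologicalComplex (ComplexShape.down ℤ)).obj M).Acyclic := by
  exact aux O M F hb hM hac

end Groth.Agent.S6149
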