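import Groth.Statements.S6152
import Mathlib
import Mathlib
import Groth.Agent.Lib.Helper5.Misc.FreeOn

set_option autoImplicit false
universe u
open CategoryTheory
open ModSite

open CategoryTheory CategoryTheory.Limits
open Groth.Agent.Lib.Helper5.FreeOn Opposite

namespace Groth.Agent.S6152

/-- Second assertion (ringed topos of sheaves on a small site (C, J) with commutative structure sheaf
O): if G is a topologically generating family of objects (every object of C admits a covering family
by members of G), then the free O-modules A_X = j_{X!}(O|X), X in G, form a generating family of the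
category of O-modules; stated as: this family detects isomorphisms and is separating. -/
theorem result {C : Type u} [SmallCategory C] {J : GrothendieckTopology C}
    (O : Sheaf J CommRingCat.{u}) (G : Set C)
    (hG : ∀ X : C, ∃ (ι : Type u) (Y : ι → C) (f : ∀ i, Y i ⟶ X), Sieve.ofArrows Y f ∈ J X ∧ ∀ i, Y i ∈ G) :
    (ObjectProperty.ofObj fun X : G => ModSite.freeOn O (X : C)).IsDetecting ∧
    (ObjectProperty.ofObj fun X : G => ModSite.freeOn O (X : C)).IsSeparating := by
  have hsep : (ObjectProperty.ofObj fun X : G => ModSite.freeOn O (X : C)).IsSeparating := by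
    intro F F' f g h
    have h1 : ∀ (X : C) (hX : X ∈ G) (s : F.val.obj (op X)),
        f.val.app (op X) s = g.val.app (op X) s := by
      intro X hX s
      have e := h (ModSite.freeOn O X) (ObjectProperty.ofObj_apply _ (⟨X, hX⟩ : G))
        ((freeOnHomEquiv O X F).symm s)
      have e' := congrArg (freeOnHomEquiv O X F') e
      rwa [freeOnHomEquiv_naturality, freeOnHomEquiv_naturality, Equiv.apply_symm_apply] at e'
    have h2 : ∀ (V : C) (s : F.val.obj (op V)), f.val.app (op V) s = g.val.app (op V) s := by
      intro V s
      obtain ⟨ι, Yf, p, hcov, hY⟩ := hG V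
      refine (F'.isSheaf.isSeparated) V _ hcov _ _ ?_
      intro W q hq
      obtain ⟨Z, a, b, ⟨i⟩, rfl⟩ := hq
      have k1 : ∀ (φ : F ⟶ F'), F'.val.map (a ≫ p i).op (φ.val.app (op V) s) =
          F'.val.map a.op (φ.val.app (op (Yf i)) (F.val.map (p i).op s)) := by
        intro φ
        have e1 := PresheafOfModules.map_comp_apply F'.val (p i).op a.op (φ.val.app (op V) s)
        have e2 := PresheafOfModules.naturality_apply φ.val (p i).op s
        exact e1.trans (congrArg (F'.val.map a.op) e2.symm)
      show F'.val.map (a ≫ p i).op (f.val.app (op V) s) = F'.val.map (a ≫ p i).op (g.val.app (op V) s)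
      exact (k1 f).trans ((congrArg (F'.val.map a.op)
        (h1 (Yf i) (hY i) (F.val.map (p i).op s))).trans (k1 g).symm)
    apply SheafOfModules.hom_ext
    apply PresheafOfModules.hom_ext
    intro V
    ext s
    exact h2 V.unop s
  exact ⟨hsep.isDetecting, hsep⟩

end Groth.Agent.S6152
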