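import Groth.Statements.S6165
import Mathlib
import Groth.Agent.S6152
import Groth.Agent.Lib.Helper5.Misc.TensorSheaf

set_option autoImplicit false
universe u
open CategoryTheory
open ModSite

open CategoryTheory CategoryTheory.Limits Opposite
open Groth.Agent.Lib.Helper5.TensorSheaf Groth.Agent.Lib.Helper5

namespace Groth.Agent.S6165

theorem aux {C : Type u} [SmallCategory C] {J : GrothendieckTopology C}
    (O : Sheaf J CommRingCat.{u}) (N : ModSite.Mod O) : ModSite.HasSheafHom N := by
  have hG : ∀ X : C, ∃ (ι : Type u) (Y : ι → C) (f : ∀ i, Y i ⟶ X),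
      Sieve.ofArrows Y f ∈ J X ∧ ∀ i, Y i ∈ (Set.univ : Set C) := by
    intro X
    refine ⟨PUnit, fun _ => X, fun _ => 𝟙 X, ?_, fun _ => Set.mem_univ _⟩
    have : Sieve.ofArrows (fun _ : PUnit.{u+1} => X) (fun _ => 𝟙 X) = ⊤ := by
      rw [← Sieve.id_mem_iff_eq_top]
      exact ⟨X, 𝟙 X, 𝟙 X, ⟨PUnit.unit⟩, by simp⟩
    rw [this]
    exact J.top_mem X
  obtain ⟨hdet, hsep⟩ := Groth.Agent.S6152.result O (Set.univ : Set C) hG
  have hsmall : ObjectProperty.Small.{u}
      (ObjectProperty.ofObj fun X : (Set.univ : Set C) => ModSite.freeOn O (X : C)) :=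
    inferInstance
  have hls : LocallySmall.{u} (ModSite.Mod O) := inferInstance
  have hwp : WellPowered.{u} (ModSite.Mod O) := wellPowered_of_isDetecting hdet
  have hwpop : WellPowered.{u} (ModSite.Mod O)ᵒᵖ := inferInstance
  have hcol : HasColimits (ModSite.Mod O) := inferInstance
  have hpres : PreservesColimits ((ModSite.tensorBi O).flip.obj N) := inferInstance
  exact isLeftAdjoint_of_preservesColimits_of_isSeparating hsep ((ModSite.tensorBi O).flip.obj N)

end Groth.Agent.S6165

namespace Groth.Agent.S6165

/-- Ringed topos of sheaves on a small site with commutative structure sheaf O; A = B = O: for every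
O-module N the functor M |-> M (x)_O N on O-modules is a left adjoint, i.e. a right adjoint Hom_O(N,
-) (an internal hom functor) EXISTS, giving the tensor-hom adjunction Hom_O(M (x)_O N, P) = Hom_O(M,
Hom_O(N, P)) natural in M and P. Only the existence of a right adjoint is asserted and no particular
functor is pinned; `ModSite.sheafHom N` then denotes the chosen right adjoint, and statements about
its values go through `ModSite.sheafHomAdj N`. -/
theorem result {C : Type u} [SmallCategory C] {J : GrothendieckTopology C}
    (O : Sheaf J CommRingCat.{u}) (N : ModSite.Mod O) : ModSite.HasSheafHom N := by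
  exact aux O N

end Groth.Agent.S6165
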