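import Groth.Statements.S6160
import Mathlib
import Mathlib
import Groth.Agent.S12450

set_option autoImplicit false
universe u
open CategoryTheory
open ModSite

open CategoryTheory CategoryTheory.Limits

namespace Groth.Agent.S6160

section
variable {C : Type u} [SmallCategory C] {J : GrothendieckTopology C}

/-- `toSheaf` preserves all small limits. -/
lemma toSheaf_preservesLimits (R : Sheaf J RingCat.{u}) :
    PreservesLimitsOfSize.{u, u} (SheafOfModules.toSheaf.{u} R) := by
  have : PreservesLimitsOfSize.{u, u} (SheafOfModules.toSheaf.{u} R ⋙ sheafToPresheaf _ _) :=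
    comp_preservesLimits (SheafOfModules.forget.{u} R) (PresheafOfModules.toPresheaf R.obj)
  exact preservesLimits_of_reflects_of_preserves _ (sheafToPresheaf _ _)

/-- `toSheaf` preserves all small colimits. -/
lemma toSheaf_preservesColimits (R : Sheaf J RingCat.{u}) :
    PreservesColimitsOfSize.{u, u} (SheafOfModules.toSheaf.{u} R) := by
  constructor
  intro K _
  let α : R.obj ⟶ R.obj := 𝟙 _
  have h : PreservesColimitsOfShape K
      (PresheafOfModules.sheafification α ⋙ SheafOfModules.toSheaf R) := by
    have : PreservesColimitsOfShape K
        (PresheafOfModules.toPresheaf R.obj ⋙ presheafToSheaf J AddCommGrpCat) :=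
      inferInstance
    exact preservesColimitsOfShape_of_natIso (PresheafOfModules.sheafificationCompToSheaf α).symm
  exact Groth.Agent.S12450.preservesColimitsOfShape_of_reflective
    (PresheafOfModules.sheafificationAdjunction α) (SheafOfModules.toSheaf R) K


lemma rs_comp_toSheaf {A B : Sheaf J RingCat.{u}} (φ : A ⟶ B) :
    SheafOfModules.restrictScalars.{u} φ ⋙ SheafOfModules.toSheaf.{u} A =
      SheafOfModules.toSheaf.{u} B := rfl

end

end Groth.Agent.S6160

namespace Groth.Agent.S6160

open CategoryTheory.Limits in
/-- Ringed topos of sheaves on a small site; u : A -> B a morphism of sheaves of rings: the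
restriction-of-scalars functor from B-Modules to A-Modules commutes with all u-small limits and
colimits and is conservative. -/
theorem result {C : Type u} [SmallCategory C]
    {J : GrothendieckTopology C} {A B : Sheaf J RingCat.{u}} (φ : A ⟶ B) :
    PreservesLimitsOfSize.{u, u} (SheafOfModules.restrictScalars.{u} φ) ∧
    PreservesColimitsOfSize.{u, u} (SheafOfModules.restrictScalars.{u} φ) ∧
    (SheafOfModules.restrictScalars.{u} φ).ReflectsIsomorphisms := by
  have hlimB := toSheaf_preservesLimits B
  have hlimA := toSheaf_preservesLimits A
  have hcolB := toSheaf_preservesColimits B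
  have hcolA := toSheaf_preservesColimits A
  have hreflA : ReflectsLimitsOfSize.{u, u} (SheafOfModules.toSheaf A) :=
    reflectsLimits_of_reflectsIsomorphisms
  have hreflA' : ReflectsColimitsOfSize.{u, u} (SheafOfModules.toSheaf A) :=
    reflectsColimits_of_reflectsIsomorphisms
  refine ⟨?_, ?_, ?_⟩
  · have : PreservesLimitsOfSize.{u, u}
        (SheafOfModules.restrictScalars φ ⋙ SheafOfModules.toSheaf A) := by
      rw [rs_comp_toSheaf]; exact hlimB
    exact preservesLimits_of_reflects_of_preserves _ (SheafOfModules.toSheaf A)
  · have : PreservesColimitsOfSize.{u, u}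
        (SheafOfModules.restrictScalars φ ⋙ SheafOfModules.toSheaf A) := by
      rw [rs_comp_toSheaf]; exact hcolB
    exact preservesColimits_of_reflects_of_preserves _ (SheafOfModules.toSheaf A)
  · constructor
    intro M N f hf
    have h1 : IsIso ((SheafOfModules.toSheaf A).map ((SheafOfModules.restrictScalars φ).map f)) :=
      inferInstance
    have h2 : IsIso ((SheafOfModules.toSheaf B).map f) := h1
    exact isIso_of_reflects_iso f (SheafOfModules.toSheaf B)

end Groth.Agent.S6160
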