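import Groth.Statements.S11327
import Mathlib
import Groth.Prelude.Def_CxOX
import Groth.Agent.Lib.Helper5.Misc.ShriekSheaf

set_option autoImplicit false
universe u
open CategoryTheory AlgebraicGeometry
open Coherent

open CategoryTheory CategoryTheory.Limits Opposite AlgebraicGeometry
open Groth.Agent.Lib.Helper5

namespace Groth.Agent.S11327

/-- Extension by zero along the inclusion of an open subscheme is left exact. -/
theorem preservesFiniteLimits_extZero {X : Scheme.{u}} (V : X.Opens) :
    PreservesFiniteLimits (CxOX.extZero V.ι) := by
  have h1 : PreservesFiniteLimits (ModSite.extZero X.sheaf V) :=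
    ShriekSheaf.extZero_preservesFiniteLimits X.sheaf V
  have h0 : PreservesFiniteLimits (Scheme.Modules.overEquiv V).inverse := inferInstance
  have h2 : PreservesFiniteLimits ((Scheme.Modules.overEquiv V).inverse ⋙
      ModSite.extZero X.sheaf V) :=
    @comp_preservesFiniteLimits _ _ _ _ _ _ (Scheme.Modules.overEquiv V).inverse
      (ModSite.extZero X.sheaf V) h0 h1
  exact @preservesFiniteLimits_of_natIso _ _ _ _ _ _ (CxOX.extZeroIsoSite V).symm h2

end Groth.Agent.S11327

namespace Groth.Agent.S11327

/-- Let X be a scheme, U an open subscheme of X and I an injective object of the category of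
O_X-modules. Then the restriction I|_U is an injective object of the category of O_U-modules.
(Stated for schemes; the published statement is for an arbitrary ringed space.) -/
theorem result (X : Scheme.{u}) (U : X.Opens) (I : X.Modules)
    (hI : Injective I) : Injective (I.restrict U.ι) := by
  have h := preservesFiniteLimits_extZero U
  have h' : (CxOX.extZero U.ι).PreservesMonomorphisms := inferInstance
  exact Injective.injective_of_adjoint (CxOX.extZeroAdj U.ι) I

end Groth.Agent.S11327
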