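import Groth.Statements.S0007
import Mathlib
import Groth.Agent.Lib.Helper1.QcAcyc
import Groth.Agent.Lib.Helper3.HTerm

set_option autoImplicit false
universe u
open Coherent

namespace Groth.Agent.S0007

open AlgebraicGeometry in
/-- On an affine scheme every quasi-coherent module has zero cohomology in all positive degrees (stated
as Subsingleton of Coh.HH X M p for 0 < p). (The published statement is given for every affine open
of a scheme; that form follows by restricting.) -/
theorem result (X : Scheme.{u}) [IsAffine X] (M : X.Modules)
    [Coh.IsQCoh M] (p : ℕ) (hp : 0 < p) : Subsingleton (Coh.HH X M p) := by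
  classical
  obtain ⟨p, rfl⟩ := Nat.exists_eq_succ_of_ne_zero hp.ne'
  have h := Groth.Agent.Helper1.QcAcyc.subsingleton_HU M ⊤ (AlgebraicGeometry.isAffineOpen_top X) p
  have hT : CategoryTheory.Limits.IsTerminal (⊤ : TopologicalSpace.Opens X) := CategoryTheory.Limits.isTerminalTop
  exact (Groth.Agent.Helper3.HTerm.HEquiv (Opens.grothendieckTopology X) hT (Coh.toAb M) (p + 1)).toEquiv.subsingleton

end Groth.Agent.S0007
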