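import Groth.Statements.S8347
import Mathlib
import Groth.Agent.Lib.Helper1.SpSeqL

set_option autoImplicit false
universe v u
open CategoryTheory CategoryTheory.Limits
open SpSeq

namespace Groth.Agent.S8347

/-- Let E be a spectral sequence in an abelian category with abutment data (H^m), and suppose that for
some page r and every total degree m there is an integer q(m) such that E_r^{m-q,q} = 0 for every q
other than q(m). Let n be a total degree such that the filtration of H^n is discrete (some step is
zero) and exhaustive (H^n is the supremum of the steps), and such that the position (n - q(n), q(n))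
is stationary from page r on. Then H^n is isomorphic to E_r^{n-q(n), q(n)}. (The published statement
asserts this without any condition on the differentials at the surviving positions; that version
fails when a differential d_r links the surviving terms of two consecutive total degrees, for
instance a spectral sequence whose only nonzero page-2 terms are E_2^{0,1} and E_2^{2,0} with d_2 an
isomorphism between them and zero abutment. The stationarity assumed here is automatic when q(m)
does not depend on m and r ≥ 2.) -/
theorem result {C : Type u} [Category.{v} C] [Abelian C] {r₀ : ℤ}
    (E : CohomologicalSpectralSequence C r₀) {H : ℤ → C} (a : SpSeq.Abutment E H)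
    (r : ℤ) (hr : r₀ ≤ r) (q : ℤ → ℤ)
    (hdeg : ∀ m q' : ℤ, q' ≠ q m → IsZero ((E.page r hr).X (m - q', q')))
    (n : ℤ) (hdisc : (a.filObj n).IsDiscrete) (hexh : a.IsExhaustive n)
    (hst : SpSeq.StationaryAt E (n - q n, q n) r) :
    Nonempty (H n ≅ (E.page r hr).X (n - q n, q n)) := by
  apply Groth.Agent.Helper1.SpSeqL.nonempty_iso_of_single E a r hr (n - q n) (q n) n (by ring) ?_ hdisc hexh hst
  intro p' hp'
  have hne : n - p' ≠ q n := by
    intro h
    apply hp'
    rw [← h]
    ring
  have h1 := hdeg n (n - p') hne
  have h2 : n - (n - p') = p' := by ring
  rw [h2] at h1
  have h3 := Groth.Agent.Helper1.SpSeqL.isZero_grPiece_of_isZero_page E a r hr (p', n - p') h1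
  exact Groth.Agent.Helper1.SpSeqL.isZero_grPiece_congr E a (p' + (n - p')) n (by ring) p' h3

end Groth.Agent.S8347
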