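import Groth.Statements.S0941
import Groth.Agent.S6164
import Groth.Agent.S8347
import Groth.Agent.Lib.Helper1.SpSeqL
import Groth.Agent.Lib.Helper3.H0Iso

set_option autoImplicit false
universe u
open CategoryTheory
open CohSite

namespace Groth.Agent.S0941

open CategoryTheory.Limits in
lemma isZero_cechH_of_isZero {C : Type u} [SmallCategory C] [HasPullbacks C]
    (P : Cᵒᵖ ⥤ AddCommGrpCat.{u}) {U : C} {ι : Type u} (Y : ι → Over U) (p : ℕ)
    (h : ∀ (a : Fin (p + 1) → ι), IsZero (P.obj (Opposite.op (∏ᶜ fun k => Y (a k)).left))) :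
    IsZero (CohCx.cechH P Y p) := by
  apply Groth.Agent.Helper1.SpSeqL.isZero_homology_of_isZero_X
  rw [IsZero.iff_id_eq_zero]
  apply Pi.hom_ext
  intro a
  exact (h a).eq_of_tgt _ _


open CategoryTheory.Limits in
/-- Let C be a site with fibre products, {Y_i -> U} a covering family and F an abelian sheaf with
H^q(Y_{i_0} x_U ... x_U Y_{i_p}, F) = 0 for all q > 0 and all finite tuples of indices. Then for
every p the p-th Cech cohomology group of F with respect to the covering is isomorphic to H^p(U, F). -/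
theorem result {C : Type u} [SmallCategory C] [HasPullbacks C]
    (J : GrothendieckTopology C) (F : Sheaf J AddCommGrpCat.{u}) {U : C} {ι : Type u} (Y : ι → Over U)
    (hY : Sieve.ofArrows (fun i => (Y i).left) (fun i => (Y i).hom) ∈ J U)
    (h : ∀ (p : ℕ) (a : Fin (p + 1) → ι) (q : ℕ),
      Subsingleton (CohSite.HU F (q + 1) (∏ᶜ fun k => Y (a k)).left))
    (p : ℕ) : Nonempty (CohCx.cechH F.obj Y p ≃+ CohSite.HU F p U) := by
  obtain ⟨E, a, hfin, hbdd, hE⟩ := Groth.Agent.S6164.result J F Y hY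
  have hdeg : ∀ m q' : ℤ, q' ≠ (fun _ : ℤ => (0 : ℤ)) m →
      IsZero ((E.page 2 le_rfl).X (m - q', q')) := by
    intro m q' hq'
    obtain ⟨e⟩ := hE (m - q') q'
    by_cases hc : 0 ≤ m - q' ∧ 0 ≤ q'
    · rw [if_pos hc] at e
      refine IsZero.of_iso ?_ e
      obtain ⟨k, hk⟩ : ∃ k : ℕ, q'.toNat = k + 1 := ⟨q'.toNat - 1, by
        have : 0 < q' := lt_of_le_of_ne hc.2 (Ne.symm hq')
        lia⟩
      rw [hk]
      apply isZero_cechH_of_isZero
      intro b
      have := h (m - q').toNat b k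
      exact AddCommGrpCat.isZero_of_subsingleton _
    · rw [if_neg hc] at e
      exact IsZero.of_iso (AddCommGrpCat.isZero_of_subsingleton _) e
  have hst : SpSeq.StationaryAt E ((p : ℤ) - (fun _ : ℤ => (0 : ℤ)) p, (fun _ : ℤ => (0 : ℤ)) p) 2 := by
    refine ⟨le_rfl, fun r' h₀ hr' => ⟨?_, ?_⟩⟩
    · apply IsZero.eq_of_src
      have h1 := hdeg ((p : ℤ) - 1) (r' - 1) (by simp only; lia)
      have h2 := Groth.Agent.Helper1.SpSeqL.isZero_of_le E 2 le_rfl _ h1 r' hr'
      convert h2 using 2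
      ext <;> simp <;> ring
    · apply IsZero.eq_of_tgt
      have h1 := hdeg ((p : ℤ) + 1) (1 - r') (by simp only; lia)
      have h2 := Groth.Agent.Helper1.SpSeqL.isZero_of_le E 2 le_rfl _ h1 r' hr'
      convert h2 using 2
      ext <;> simp <;> ring
  obtain ⟨e1⟩ := Groth.Agent.S8347.result E a 2 le_rfl (fun _ => 0) hdeg (p : ℤ) (hfin p).2
    ⟨by rintro _ ⟨k, rfl⟩; exact le_top, fun b hb => by
      obtain ⟨k, hk⟩ := (hfin p).1
      exact hk ▸ hb ⟨k, rfl⟩⟩ hst
  obtain ⟨e2⟩ := hE ((p : ℤ) - 0) 0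
  rw [if_pos ⟨by lia, le_rfl⟩] at e2
  rw [if_pos (by lia : (0 : ℤ) ≤ (p : ℤ))] at e1
  have e3 : CohCx.cechH (F.cohomologyPresheaf (0 : ℤ).toNat) Y ((p : ℤ) - 0).toNat ≅
      CohCx.cechH F.obj Y p := by
    have hp : ((p : ℤ) - 0).toNat = p := by simp
    rw [hp]
    exact (HomologicalComplex.homologyFunctor _ _ p).mapIso ((cechComplexFunctor Y).mapIso
      (Functor.isoWhiskerLeft (Over.forget U).op (Groth.Agent.Helper3.H0Iso.iso J F)))
  have e4 : AddCommGrpCat.of (CohSite.HU F ((p : ℤ)).toNat U) ≅ AddCommGrpCat.of (CohSite.HU F p U) := by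
    have hp : ((p : ℤ)).toNat = p := by simp
    rw [hp]
  exact ⟨((e4.symm ≪≫ e1 ≪≫ e2 ≪≫ e3).symm).addCommGroupIsoToAddEquiv⟩


end Groth.Agent.S0941
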