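import Groth.Statements.S0464
import Groth.Agent.S0941
import Groth.Agent.Lib.Helper3.TopCech

set_option autoImplicit false
universe u
open CategoryTheory
open CohTop

namespace Groth.Agent.S0464

open TopologicalSpace in
/-- Let U_i be a family of opens with union U. If H^(q+1)(U_{i_0} ∩ … ∩ U_{i_p}, F) = 0 for all q and
all finite tuples of indices, then the p-th Cech cohomology of F for this family is isomorphic to
H^p(U, F). -/
theorem result {X : TopCat.{u}} (F : CohTop.Ab X) {ι : Type u}
    (U : ι → Opens X)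
    (h : ∀ (p : ℕ) (a : Fin (p + 1) → ι) (q : ℕ), Subsingleton (CohTop.HU F (q + 1) (iInf fun k => U (a k))))
    (p : ℕ) : Nonempty (CohTop.cechH F.obj U p ≃+ CohTop.HU F p (iSup U)) := by
  have hY : Sieve.ofArrows (fun i => (Groth.Agent.Helper3.TopCech.Y U i).left)
      (fun i => (Groth.Agent.Helper3.TopCech.Y U i).hom) ∈
      Opens.grothendieckTopology X (iSup U) := by
    intro x hx
    obtain ⟨i, hi⟩ := Opens.mem_iSup.1 hx
    exact ⟨U i, homOfLE (le_iSup U i), ⟨_, 𝟙 _, _, ⟨i⟩, Category.id_comp _⟩, hi⟩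
  obtain ⟨e⟩ := Groth.Agent.S0941.result (Opens.grothendieckTopology X) F
    (Groth.Agent.Helper3.TopCech.Y U) hY (by
      intro p a q
      have h1 := Groth.Agent.Helper3.TopCech.prod_left_eq U a
      have h2 := Groth.Agent.Helper3.TopCech.prod_eq_iInf U a
      rw [h1, h2]
      exact h p a q) p
  exact ⟨(Groth.Agent.Helper3.TopCech.cechHIso U F.obj p).addCommGroupIsoToAddEquiv.trans e⟩


end Groth.Agent.S0464
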