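import Groth.Statements.S0013
import Mathlib
import Groth.Agent.Lib.Helper1.QcAcyc
import Groth.Agent.Lib.Helper3.HTerm
import Groth.Agent.S0464

set_option autoImplicit false
universe u
open Coherent

namespace Groth.Agent.S0013

open AlgebraicGeometry in
/-- Let X be a scheme with an open covering all of whose nonempty finite intersections are affine. For a
quasi-coherent module M and every degree p, Čech cohomology with respect to this covering is
isomorphic to sheaf cohomology; only the existence of an isomorphism of additive groups is asserted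
(the published statement gives an isomorphism of modules over the global sections). -/
theorem result (X : Scheme.{u}) {ι : Type u}
    (U : ι → X.Opens) (hcov : ⨆ i, U i = ⊤)
    (hU : ∀ s : Finset ι, s.Nonempty → IsAffineOpen (⨅ i ∈ s, U i))
    (M : X.Modules) [Coh.IsQCoh M] (p : ℕ) :
    Nonempty (↑(CohB1.cechH U M p) ≃+ Coh.HH X M p) := by
  classical
  have hacyc : ∀ (q : ℕ) (a : Fin (q + 1) → ι) (r : ℕ),
      Subsingleton (CohTop.HU (Coh.toAb M) (r + 1) (iInf fun k => U (a k))) := by
    intro q a r
    have h1 : (iInf fun k => U (a k)) = ⨅ i ∈ (Finset.univ.image a : Finset ι), U i := by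
      apply le_antisymm
      · refine le_iInf fun i => le_iInf fun hi => ?_
        obtain ⟨k, -, rfl⟩ := Finset.mem_image.1 hi
        exact iInf_le _ k
      · refine le_iInf fun k => ?_
        exact (iInf_le _ (a k)).trans (iInf_le _ (Finset.mem_image_of_mem a (Finset.mem_univ k)))
    have h2 : IsAffineOpen (iInf fun k => U (a k)) := by
      rw [h1]
      exact hU _ ⟨a 0, Finset.mem_image_of_mem a (Finset.mem_univ 0)⟩
    exact Groth.Agent.Helper1.QcAcyc.subsingleton_HU M _ h2 r
  obtain ⟨e⟩ := Groth.Agent.S0464.result (X := X.toTopCat) (Coh.toAb M) U hacyc p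
  have hT : CategoryTheory.Limits.IsTerminal (⊤ : TopologicalSpace.Opens X) := CategoryTheory.Limits.isTerminalTop
  have e2 := Groth.Agent.Helper3.HTerm.HEquiv (Opens.grothendieckTopology X) hT (Coh.toAb M) p
  have hcov' : iSup U = ⊤ := hcov
  rw [hcov'] at e
  exact ⟨e.trans e2.symm⟩

end Groth.Agent.S0013
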