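import Groth.Statements.S5173
import Mathlib
import Groth.Prelude.Def_ega3
import Groth.Agent.Lib.Helper9.KosLim.Inj
import Groth.Agent.Lib.Helper9.KosLim.LES
-- import your own Groth.Agent.* helpers here

set_option autoImplicit false
universe u
open LocCoh

namespace Groth.Agent.S5173

open CategoryTheory CategoryTheory.Limits
namespace Aux

open Groth.Agent.Helper9.KosLim Groth.Agent.Helper8.LC
open Groth.Agent.Helper8.Cech (nonempty_equiv_of_surjective)

variable {A : Type u} [CommRing A] [IsNoetherianRing A] (fs : List A)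

theorem nonempty_equiv_succ : ∀ (i : ℕ) (M : Type u) [AddCommGroup M] [Module A M],
    Nonempty (TL fs (ModuleCat.of A M) (((i + 1 : ℕ) : ℤ) - fs.length) ≃ₗ[A]
      (localCohomology (Ideal.span {x | x ∈ fs}) (i + 1)).obj (ModuleCat.of A M)) := by
  intro i
  induction i with
  | zero =>
    intro M _ _
    let E₀ : ModuleCat.{u} A := Injective.under (ModuleCat.of A M)
    let ι₀ : ModuleCat.of A M ⟶ E₀ := Injective.ι (ModuleCat.of A M)
    have hι₀ : Function.Injective ι₀.hom := (ModuleCat.mono_iff_injective _).mp inferInstance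
    haveI hinj : Injective (ModuleCat.of A E₀) :=
      (inferInstance : Injective (Injective.under (ModuleCat.of A M)))
    haveI : Module.Injective A E₀ := Module.injective_module_of_injective_object A E₀
    let S := sesQuot ι₀.hom
    have hS : S.ShortExact := sesQuot_shortExact _ hι₀
    let I : Ideal A := Ideal.span {x | x ∈ fs}
    let q : ℤ := ((0 : ℕ) : ℤ) - fs.length
    let q' : ℤ := ((0 + 1 : ℕ) : ℤ) - fs.length
    have hqq' : q + 1 = q' := by
      show ((0 : ℕ) : ℤ) - fs.length + 1 = ((0 + 1 : ℕ) : ℤ) - fs.length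
      push_cast; ring
    have hq0 : q + fs.length = 0 := by
      show ((0 : ℕ) : ℤ) - fs.length + fs.length = 0
      push_cast; ring
    have hE1 : Subsingleton (TL fs (ModuleCat.of A E₀) q') :=
      subsingleton_TL_of_injective E₀ fs q' (by
        show 0 < ((0 + 1 : ℕ) : ℤ) - fs.length + fs.length
        push_cast; linarith)
    have hE1' : Subsingleton ((localCohomology I 1).obj S.X₂) :=
      subsingleton_of_injective I 1 (ModuleCat.of A E₀) Nat.one_pos
    let p := δTL hS fs q q' hqq'
    let p' := δ I 0 hS
    have hp : Function.Surjective p := by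
      intro x
      exact (exact_δTL_mapTL hS fs q q' hqq' x).mp (hE1.elim _ _)
    have hp' : Function.Surjective p' := by
      intro x
      exact (exact_δ_f I 0 hS x).mp (hE1'.elim _ _)
    refine nonempty_equiv_of_surjective p p' hp hp' (Θ fs S.X₃ q hq0) ?_
    intro a
    have hex := exact_mapTL_δTL hS fs q q' hqq' a
    have hex' := exact_g_δ I 0 hS (Θ fs S.X₃ q hq0 a)
    refine (hex.trans ?_).trans hex'.symm
    constructor
    · rintro ⟨e, he⟩
      refine ⟨Θ fs S.X₂ q hq0 e, ?_⟩
      rw [← Θ_natural]
      exact congrArg _ he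
    · rintro ⟨e', he'⟩
      obtain ⟨e, rfl⟩ := (Θ fs S.X₂ q hq0).surjective e'
      refine ⟨e, ?_⟩
      apply (Θ fs S.X₃ q hq0).injective
      rw [← he']
      exact Θ_natural fs q hq0 S.g e
  | succ i ih =>
    intro M _ _
    let E₀ : ModuleCat.{u} A := Injective.under (ModuleCat.of A M)
    let ι₀ : ModuleCat.of A M ⟶ E₀ := Injective.ι (ModuleCat.of A M)
    have hι₀ : Function.Injective ι₀.hom := (ModuleCat.mono_iff_injective _).mp inferInstance
    haveI hinj : Injective (ModuleCat.of A E₀) :=
      (inferInstance : Injective (Injective.under (ModuleCat.of A M)))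
    haveI : Module.Injective A E₀ := Module.injective_module_of_injective_object A E₀
    let S := sesQuot ι₀.hom
    have hS : S.ShortExact := sesQuot_shortExact _ hι₀
    let I : Ideal A := Ideal.span {x | x ∈ fs}
    let q : ℤ := ((i + 1 : ℕ) : ℤ) - fs.length
    let q' : ℤ := ((i + 1 + 1 : ℕ) : ℤ) - fs.length
    have hqq' : q + 1 = q' := by
      show ((i + 1 : ℕ) : ℤ) - fs.length + 1 = ((i + 1 + 1 : ℕ) : ℤ) - fs.length
      push_cast; ring
    have hEi : Subsingleton (TL fs (ModuleCat.of A E₀) q) :=
      subsingleton_TL_of_injective E₀ fs q (by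
        show 0 < ((i + 1 : ℕ) : ℤ) - fs.length + fs.length
        push_cast; linarith)
    have hEj : Subsingleton (TL fs (ModuleCat.of A E₀) q') :=
      subsingleton_TL_of_injective E₀ fs q' (by
        show 0 < ((i + 1 + 1 : ℕ) : ℤ) - fs.length + fs.length
        push_cast; linarith)
    have hbijT : Function.Bijective (δTL hS fs q q' hqq') := by
      constructor
      · rw [injective_iff_map_eq_zero]
        intro x hx
        obtain ⟨y, rfl⟩ := (exact_mapTL_δTL hS fs q q' hqq' x).mp hx
        rw [hEi.elim y 0, map_zero]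
      · intro x
        exact (exact_δTL_mapTL hS fs q q' hqq' x).mp (hEj.elim _ _)
    let e1 := LinearEquiv.ofBijective (δTL hS fs q q' hqq') hbijT
    obtain ⟨e2⟩ := ih (E₀ ⧸ LinearMap.range ι₀.hom)
    have hEi' : Subsingleton ((localCohomology I (i + 1)).obj S.X₂) :=
      subsingleton_of_injective I (i + 1) (ModuleCat.of A E₀) (Nat.succ_pos i)
    have hEj' : Subsingleton ((localCohomology I (i + 1 + 1)).obj S.X₂) :=
      subsingleton_of_injective I (i + 1 + 1) (ModuleCat.of A E₀) (Nat.succ_pos _)
    have hbij : Function.Bijective (δ I (i + 1) hS) := by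
      constructor
      · rw [injective_iff_map_eq_zero]
        intro x hx
        obtain ⟨y, rfl⟩ := (exact_g_δ I (i + 1) hS x).mp hx
        rw [hEi'.elim y 0, map_zero]
      · intro x
        exact (exact_δ_f I (i + 1) hS x).mp (hEj'.elim _ _)
    let e3 := LinearEquiv.ofBijective (δ I (i + 1) hS) hbij
    exact ⟨e1.symm ≪≫ₗ e2 ≪≫ₗ e3⟩

theorem main (A : Type u) [CommRing A] [IsNoetherianRing A] (fs : List A) (M : Type u) [AddCommGroup M] [Module A M] (i : ℕ) : Nonempty (LocCoh.H (Ideal.span {a | a ∈ fs}) i M ≃ₗ[A] CohIII.koszulHLim fs (ModuleCat.of A M) i) := by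
  cases i with
  | zero =>
    exact ⟨(Θ fs (ModuleCat.of A M) (((0 : ℕ) : ℤ) - fs.length) (by push_cast; ring)).symm⟩
  | succ i =>
    obtain ⟨e⟩ := nonempty_equiv_succ fs i M
    exact ⟨e.symm⟩

end Aux

/-- Let A be a Noetherian ring, f_1, …, f_r generators of an ideal I and M an A-module. For every i the
local cohomology H^i_I(M) = colim_n Ext^i_A(A/I^n, M) is isomorphic, as an A-module, to colim_n
H^i(f^n, M), the direct limit of the Koszul cohomology of the powers. (Existence of an A-linear
isomorphism is asserted; in the source the isomorphism is the unique map of δ-functors which in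
degree 0 identifies both sides with the I-power torsion of M.) -/
theorem result (A : Type u) [CommRing A] [IsNoetherianRing A] (fs : List A) (M : Type u) [AddCommGroup M] [Module A M] (i : ℕ) : Nonempty (LocCoh.H (Ideal.span {a | a ∈ fs}) i M ≃ₗ[A] CohIII.koszulHLim fs (ModuleCat.of A M) i) := by
  exact Aux.main A fs M i

end Groth.Agent.S5173
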