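import Groth.Statements.S0825
import Mathlib
import Groth.Prelude.Def_Wider
import Groth.Agent.Lib.Helper8.LC29
-- import your own Groth.Agent.* helpers here

set_option autoImplicit false
universe u
open scoped BigOperators
open LocCoh

namespace Groth.Agent.S0825

open CategoryTheory CategoryTheory.Limits Opposite
open scoped BigOperators
namespace Aux
open Groth.Agent.Helper8.LC Abelian

theorem main (A : Type u) [CommRing A] [IsNoetherianRing A] (r : ℕ) (f : Fin r → A)
    (h₁ : LocCoh.CdLE A (Ideal.span (Set.range f)) 1) (h₀ : ¬ LocCoh.CdLE A (Ideal.span (Set.range f)) 0) :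
    ∃ (c : ℕ) (φ : Fin r → (↥(Ideal.span (Set.range f) ^ (c + 1)) →ₗ[A] A)),
      ∀ x : ↥(Ideal.span (Set.range f) ^ (c + 1)), (x : A) = ∑ j, f j * φ j x := by
  obtain ⟨I, hI⟩ : ∃ I : Ideal A, I = Ideal.span (Set.range f) := ⟨_, rfl⟩
  rw [← hI] at h₁ ⊢
  -- the presentation
  have hmem : ∀ v : Fin r → A, Fintype.linearCombination A f v ∈ I ^ 1 := by
    intro v
    rw [pow_one, hI, Fintype.linearCombination_apply]
    exact Ideal.sum_mem _ (fun j _ => Ideal.mul_mem_left _ _ (Ideal.subset_span ⟨j, rfl⟩))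
  let π : (Fin r → A) →ₗ[A] ↥(I ^ 1) := (Fintype.linearCombination A f).codRestrict (I ^ 1) hmem
  have hπ : Function.Surjective π := by
    rintro ⟨x, hx⟩
    rw [pow_one, hI] at hx
    have hx' : x ∈ LinearMap.range (Fintype.linearCombination A f) := by
      rw [Fintype.range_linearCombination]; exact hx
    obtain ⟨v, hv⟩ := hx'
    exact ⟨v, Subtype.ext hv⟩
  let S : ShortComplex (ModuleCat.{u} A) :=
    ModuleCat.shortComplexOfCompEqZero (LinearMap.ker π).subtype π (by
      apply LinearMap.ext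
      intro x
      exact x.2)
  have hS : S.ShortExact := by
    apply ModuleCat.shortComplex_shortExact
    · intro x
      change π x = 0 ↔ x ∈ Set.range (LinearMap.ker π).subtype
      constructor
      · intro hx; exact ⟨⟨x, hx⟩, rfl⟩
      · rintro ⟨y, rfl⟩; exact y.2
    · exact (LinearMap.ker π).injective_subtype
    · exact hπ
  -- the uniform index
  obtain ⟨m, hm, hkill⟩ := exists_uniform_index_above I 1 1 (fun N i hi => h₁ N i hi)
  have hS1 := sesSub_shortExact (I ^ 1)
  have hSm := sesSub_shortExact (I ^ m)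
  let τ₁ : (sesSub (I ^ m)).X₁ ⟶ (sesSub (I ^ 1)).X₁ :=
    ModuleCat.ofHom (Submodule.inclusion (Ideal.pow_le_pow_right hm.le))
  let Φ : sesSub (I ^ m) ⟶ sesSub (I ^ 1) :=
    ShortComplex.homMk τ₁ (𝟙 _) (proj I hm.le) (by
      apply ModuleCat.hom_ext
      apply LinearMap.ext
      intro x
      rfl) (by
      apply ModuleCat.hom_ext
      apply LinearMap.ext
      intro x
      rfl)
  have hnat := ShortComplex.ShortExact.extClass_naturality hSm hS1 Φ
  have h2 := hkill S.X₁ 2 (by norm_num) (hS1.extClass.comp hS.extClass (by norm_num))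
  rw [trans_comp] at h2
  have hΦ3 : Φ.τ₃ = proj I hm.le := rfl
  have hΦ1 : Φ.τ₁ = τ₁ := rfl
  rw [hΦ3] at hnat
  rw [← hnat, hΦ1, Ext.comp_assoc _ _ _ (add_zero 1) (zero_add 1) (by norm_num)] at h2
  -- injectivity of the connecting map
  obtain ⟨x₂, hx₂⟩ := Ext.contravariant_sequence_exact₁ hSm S.X₁
    ((Ext.mk₀ τ₁).comp hS.extClass (zero_add 1)) (by norm_num) h2
  have hx₂0 : x₂ = 0 := by
    have : Projective (sesSub (I ^ m)).X₂ := by
      change Projective (ModuleCat.of A A)
      exact (IsProjective.iff_projective A).mp inferInstance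
    exact Ext.eq_zero_of_projective _
  rw [hx₂0, Ext.comp_zero] at hx₂
  -- the lift
  obtain ⟨y₂, hy₂⟩ := Ext.covariant_sequence_exact₃ (sesSub (I ^ m)).X₁ hS (Ext.mk₀ τ₁)
    (zero_add 1) hx₂.symm
  obtain ⟨lam, rfl⟩ := (Ext.mk₀_bijective _ _).2 y₂
  rw [Ext.mk₀_comp_mk₀] at hy₂
  have hlam : lam ≫ S.g = τ₁ := (Ext.mk₀_bijective _ _).1 hy₂
  obtain ⟨c, rfl⟩ : ∃ c, m = c + 1 := ⟨m - 1, by omega⟩
  refine ⟨c, fun j => (LinearMap.proj j) ∘ₗ lam.hom, fun x => ?_⟩
  have h3 : π (lam.hom x) = τ₁.hom x := by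
    have := congrArg (fun g => g.hom x) hlam
    exact this
  have h4 : ((π (lam.hom x) : ↥(I ^ 1)) : A) = (x : A) := by rw [h3]; rfl
  rw [← h4]
  change Fintype.linearCombination A f (lam.hom x) = _
  rw [Fintype.linearCombination_apply]
  refine Finset.sum_congr rfl (fun j _ => ?_)
  rw [smul_eq_mul, mul_comm]
  rfl

end Aux

/-- Let A be a Noetherian ring and I the ideal generated by f_1, …, f_r, with cohomological dimension
exactly 1. Then there are c ≥ 1 and A-linear maps φ_j : I^c → A such that x = Σ_j f_j φ_j(x) for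
every x ∈ I^c. -/
theorem result (A : Type u) [CommRing A] [IsNoetherianRing A] (r : ℕ) (f : Fin r → A)
    (h₁ : LocCoh.CdLE A (Ideal.span (Set.range f)) 1) (h₀ : ¬ LocCoh.CdLE A (Ideal.span (Set.range f)) 0) :
    ∃ (c : ℕ) (φ : Fin r → (↥(Ideal.span (Set.range f) ^ (c + 1)) →ₗ[A] A)),
      ∀ x : ↥(Ideal.span (Set.range f) ^ (c + 1)), (x : A) = ∑ j, f j * φ j x := by
  exact Aux.main A r f h₁ h₀

end Groth.Agent.S0825
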