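import Groth.Statements.S1802
import Mathlib
import Groth.Prelude.Def_Wider
import Groth.Agent.S0825
import Groth.Agent.Lib.Helper8.LC13
-- import your own Groth.Agent.* helpers here

set_option autoImplicit false
universe u
open AlgebraicGeometry
open LocCoh

namespace Groth.Agent.S1802

open AlgebraicGeometry CategoryTheory TopologicalSpace
namespace Aux

section Glue

variable (X : Scheme.{u})

/-- restriction of sections -/
noncomputable abbrev res {V W : X.Opens} (h : V ≤ W) : Γ(X, W) →+* Γ(X, V) :=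
  (X.presheaf.map (homOfLE h).op).hom

lemma res_res {V W Z : X.Opens} (h : V ≤ W) (h' : W ≤ Z) (s : Γ(X, Z)) :
    res X h (res X h' s) = res X (h.trans h') s := by
  unfold res
  rw [← CommRingCat.comp_apply, ← Functor.map_comp]
  rfl

lemma isUnit_res_basicOpen (b : Γ(X, ⊤)) {W : X.Opens} (hW : W ≤ X.basicOpen b) :
    IsUnit (res X (le_top : W ≤ ⊤) b) := by
  have h1 : IsUnit (res X (X.basicOpen_le b) b) := RingedSpace.isUnit_res_basicOpen X.toRingedSpace b
  have h2 := h1.map (res X hW)
  rwa [res_res] at h2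

/-- gluing local fractions `a i / b i` on the basic opens `D(b i)` -/
theorem exists_glue (U : X.Opens) {ι : Type u} (a b : ι → Γ(X, ⊤))
    (hle : ∀ i, X.basicOpen (b i) ≤ U) (hcov : U ≤ ⨆ i, X.basicOpen (b i))
    (hcompat : ∀ i j, a i * b j = a j * b i) :
    ∃ g : Γ(X, U), ∀ i, res X (hle i) g * res X le_top (b i) = res X le_top (a i) := by
  -- the local sections
  have hu : ∀ i, IsUnit (res X (le_top : X.basicOpen (b i) ≤ ⊤) (b i)) :=
    fun i => isUnit_res_basicOpen X (b i) le_rfl
  let sf : ∀ i, Γ(X, X.basicOpen (b i)) := fun i =>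
    res X (le_top : X.basicOpen (b i) ≤ ⊤) (a i) *
      (((hu i).unit⁻¹ : (Γ(X, X.basicOpen (b i)))ˣ) : Γ(X, X.basicOpen (b i)))
  have hsf : ∀ i, sf i * res X le_top (b i) = res X le_top (a i) := by
    intro i
    show res X (le_top : X.basicOpen (b i) ≤ ⊤) (a i) *
      (((hu i).unit⁻¹ : (Γ(X, X.basicOpen (b i)))ˣ) : Γ(X, X.basicOpen (b i))) *
        res X le_top (b i) = _
    rw [mul_assoc]
    have : (((hu i).unit⁻¹ : (Γ(X, X.basicOpen (b i)))ˣ) : Γ(X, X.basicOpen (b i))) *
        res X le_top (b i) = 1 := by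
      exact (hu i).val_inv_mul
    rw [this, mul_one]
  have hcomp : TopCat.Presheaf.IsCompatible X.sheaf.1 (fun i => X.basicOpen (b i)) sf := by
    intro i j
    set W := X.basicOpen (b i) ⊓ X.basicOpen (b j) with hW
    have hWi : W ≤ X.basicOpen (b i) := inf_le_left
    have hWj : W ≤ X.basicOpen (b j) := inf_le_right
    show res X hWi (sf i) = res X hWj (sf j)
    have hui := isUnit_res_basicOpen X (b i) hWi
    have huj := isUnit_res_basicOpen X (b j) hWj
    have h1 : res X hWi (sf i) * res X le_top (b i) = res X le_top (a i) := by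
      have := congrArg (res X hWi) (hsf i)
      rwa [map_mul, res_res, res_res] at this
    have h2 : res X hWj (sf j) * res X le_top (b j) = res X le_top (a j) := by
      have := congrArg (res X hWj) (hsf j)
      rwa [map_mul, res_res, res_res] at this
    apply (hui.mul huj).mul_right_cancel
    calc res X hWi (sf i) * (res X le_top (b i) * res X le_top (b j))
        = res X le_top (a i) * res X le_top (b j) := by rw [← mul_assoc, h1]
      _ = res X le_top (a i * b j) := by rw [map_mul]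
      _ = res X le_top (a j * b i) := by rw [hcompat i j]
      _ = res X le_top (a j) * res X le_top (b i) := by rw [map_mul]
      _ = res X hWj (sf j) * (res X le_top (b i) * res X le_top (b j)) := by
        rw [← h2]; ring
  obtain ⟨g, hg, -⟩ := TopCat.Sheaf.existsUnique_gluing' X.sheaf (fun i => X.basicOpen (b i)) U
    (fun i => homOfLE (hle i)) hcov sf hcomp
  refine ⟨g, fun i => ?_⟩
  have : res X (hle i) g = sf i := hg i
  rw [this, hsf]

/-- the local fractions sum to one -/
theorem sum_eq_one (U : X.Opens) {ι : Type u} (b : ι → Γ(X, ⊤))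
    (hle : ∀ i, X.basicOpen (b i) ≤ U) (hcov : U ≤ ⨆ i, X.basicOpen (b i))
    {r : ℕ} (F : Fin r → Γ(X, ⊤)) (g : Fin r → Γ(X, U)) (a : Fin r → ι → Γ(X, ⊤))
    (hg : ∀ j i, res X (hle i) (g j) * res X le_top (b i) = res X le_top (a j i))
    (hsum : ∀ i, ∑ j, F j * a j i = b i) :
    ∑ j, res X (le_top : U ≤ ⊤) (F j) * g j = 1 := by
  apply TopCat.Sheaf.eq_of_locally_eq' X.sheaf (fun i => X.basicOpen (b i)) U
    (fun i => homOfLE (hle i)) hcov
  intro i
  show res X (hle i) (∑ j, res X (le_top : U ≤ ⊤) (F j) * g j) = res X (hle i) 1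
  have hu := isUnit_res_basicOpen X (b i) (le_refl (X.basicOpen (b i)))
  apply hu.mul_right_cancel
  rw [map_sum, map_one, one_mul, Finset.sum_mul]
  have h1 : ∀ j, res X (hle i) (res X (le_top : U ≤ ⊤) (F j) * g j) * res X le_top (b i) =
      res X le_top (F j * a j i) := by
    intro j
    rw [map_mul, res_res, mul_assoc, hg j i, ← map_mul]
  rw [Finset.sum_congr rfl (fun j _ => h1 j), ← map_sum, hsum i]

end Glue

section Main

open Groth.Agent.Helper8.LC

variable (A : Type u) [CommRing A]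

/-- the ring map `A → Γ(Spec A, ⊤)` -/
noncomputable abbrev gA : A →+* Γ(Spec (CommRingCat.of A), ⊤) :=
  (Scheme.ΓSpecIso (CommRingCat.of A)).inv.hom

lemma basicOpen_gA (x : A) :
    (Spec (CommRingCat.of A)).basicOpen (gA A x) = PrimeSpectrum.basicOpen x :=
  basicOpen_eq_of_affine (R := CommRingCat.of A) x

lemma basicOpen_le_punctured (I : Ideal A) {x : A} (hx : x ∈ I) :
    (Spec (CommRingCat.of A)).basicOpen (gA A x) ≤ LocCoh.puncturedOpen A I := by
  rw [basicOpen_gA]
  intro p hp
  show p ∈ (PrimeSpectrum.zeroLocus (I : Set A))ᶜ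
  intro hp'
  exact hp (hp' hx)

theorem nonempty_punctured [IsNoetherianRing A] (I : Ideal A) (h0 : ¬ LocCoh.CdLE A I 0) :
    ∃ p : PrimeSpectrum A, p ∈ (PrimeSpectrum.zeroLocus (I : Set A))ᶜ := by
  by_contra hcon
  push Not at hcon
  apply h0
  have hInil : I ≤ nilradical A := by
    rw [nilradical_eq_sInf]
    apply le_sInf
    intro P hP
    have := hcon ⟨P, hP⟩
    exact Set.notMem_compl_iff.mp this
  obtain ⟨k, hk⟩ := IsNoetherianRing.isNilpotent_nilradical A
  have hIk : I ^ k = ⊥ := by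
    rw [eq_bot_iff, ← Ideal.zero_eq_bot, ← hk]
    exact Ideal.pow_right_mono hInil k
  intro M _ _ i hi
  apply subsingleton_of_isPowerTorsion I i hi M
  intro m
  refine ⟨k, fun a ha => ?_⟩
  rw [hIk] at ha
  rw [(Submodule.mem_bot A).mp ha, zero_smul]

theorem affine_of_splitting (I : Ideal A) {r : ℕ} (f : Fin r → A)
  (hI : I = Ideal.span (Set.range f)) (c : ℕ) (φ : Fin r → (↥(I ^ (c + 1)) →ₗ[A] A))
  (hφ : ∀ x : ↥(I ^ (c + 1)), (x : A) = ∑ j, f j * φ j x) :
  IsAffineOpen (LocCoh.puncturedOpen A I) := by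
  let X := Spec (CommRingCat.of A)
  let U : X.Opens := LocCoh.puncturedOpen A I
  have hIc : ∀ x : ↥(I ^ (c + 1)), (x : A) ∈ I := fun x =>
    Ideal.pow_le_self (Nat.succ_ne_zero c) x.2
  have hle : ∀ x : ↥(I ^ (c + 1)), X.basicOpen (gA A (x : A)) ≤ U :=
    fun x => basicOpen_le_punctured A I (hIc x)
  have hcov : U ≤ ⨆ x : ↥(I ^ (c + 1)), X.basicOpen (gA A (x : A)) := by
    intro p hp
    have hp' : ¬ ((I : Set A) ⊆ p.asIdeal) := hp
    obtain ⟨a, haI, hap⟩ := Set.not_subset.mp hp'
    rw [Opens.mem_iSup]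
    refine ⟨⟨a ^ (c + 1), Ideal.pow_mem_pow haI _⟩, ?_⟩
    rw [basicOpen_gA]
    intro h
    exact hap (p.isPrime.mem_of_pow_mem _ h)
  have hcompat : ∀ (j : Fin r) (x y : ↥(I ^ (c + 1))),
      gA A (φ j x) * gA A (y : A) = gA A (φ j y) * gA A (x : A) := by
    intro j x y
    rw [← map_mul, ← map_mul]
    congr 1
    have h1 : φ j (y • x) = (y : A) • φ j x := map_smul (φ j) (y : A) x
    have h2 : φ j (x • y) = (x : A) • φ j y := map_smul (φ j) (x : A) y
    have h3 : (y : A) • x = (x : A) • y := by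
      apply Subtype.ext
      show (y : A) * (x : A) = (x : A) * (y : A)
      exact mul_comm _ _
    have h1' : φ j ((y : A) • x) = (y : A) • φ j x := map_smul (φ j) (y : A) x
    have h2' : φ j ((x : A) • y) = (x : A) • φ j y := map_smul (φ j) (x : A) y
    rw [h3, h2'] at h1'
    rw [smul_eq_mul, smul_eq_mul] at h1'
    rw [mul_comm (φ j x), ← h1', mul_comm]
  choose g hg using fun j : Fin r => exists_glue X U (fun x : ↥(I ^ (c + 1)) => gA A (φ j x))
    (fun x : ↥(I ^ (c + 1)) => gA A (x : A)) hle hcov (hcompat j)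
  have hsum := sum_eq_one X U (fun x : ↥(I ^ (c + 1)) => gA A (x : A)) hle hcov
    (fun j => gA A (f j)) g (fun j x => gA A (φ j x)) hg (by
      intro x
      simp only [← map_mul, ← map_sum]
      rw [← hφ x])
  apply isAffineOpen_of_isAffineOpen_basicOpen U
    (Set.range fun j : Fin r => res X (le_top : U ≤ ⊤) (gA A (f j)))
  · rw [Ideal.eq_top_iff_one, ← hsum]
    refine Ideal.sum_mem _ fun j _ => Ideal.mul_mem_right _ _ (Ideal.subset_span ⟨j, rfl⟩)
  · rintro _ ⟨j, rfl⟩
    have hfj : f j ∈ I := by rw [hI]; exact Ideal.subset_span ⟨j, rfl⟩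
    have h2 : X.basicOpen (res X (le_top : U ≤ ⊤) (gA A (f j))) = X.basicOpen (gA A (f j)) := by
      unfold res
      rw [Scheme.basicOpen_res]
      exact inf_eq_right.mpr (basicOpen_le_punctured A I hfj)
    rw [h2]
    exact (isAffineOpen_top X).basicOpen (gA A (f j))


theorem main [IsNoetherianRing A] (I : Ideal A) (h1 : LocCoh.CdLE A I 1)
    (h0 : ¬ LocCoh.CdLE A I 0) :
    Nonempty (↑(LocCoh.puncturedOpen A I) : Scheme.{u}) ∧
      IsAffine (↑(LocCoh.puncturedOpen A I) : Scheme.{u}) := by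
  constructor
  · obtain ⟨p, hp⟩ := nonempty_punctured A I h0
    exact ⟨⟨p, hp⟩⟩
  · have hfg : I.FG := IsNoetherian.noetherian I
    obtain ⟨r, f, hf⟩ := Submodule.fg_iff_exists_fin_generating_family.mp hfg
    have hI : I = Ideal.span (Set.range f) := hf.symm
    subst hI
    obtain ⟨c, φ, hφ⟩ := Groth.Agent.S0825.result A r f h1 h0
    exact affine_of_splitting A _ f rfl c φ hφ

end Main

end Aux

/-- For a Noetherian ring. Let I be an ideal of a Noetherian ring A with cd(A, I) = 1, i.e. H^i_I(M) = 0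
for all modules M and all i ≥ 2 but H^1_I(M) ≠ 0 for some M. Then the open subscheme Spec A minus
V(I) is nonempty and affine. -/
theorem result (A : Type u) [CommRing A] [IsNoetherianRing A] (I : Ideal A) (h1 : LocCoh.CdLE A I 1) (h0 : ¬ LocCoh.CdLE A I 0) : Nonempty (↑(LocCoh.puncturedOpen A I) : Scheme.{u}) ∧ IsAffine (↑(LocCoh.puncturedOpen A I) : Scheme.{u}) := by
  exact Aux.main A I h1 h0

end Groth.Agent.S1802
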