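import Groth.Statements.S0861
import Groth.Agent.Lib.Helper3.CechSurj
import Groth.Agent.Lib.Helper3.CechLES
import Groth.Agent.Lib.Helper3.CechInj
import Groth.Agent.Lib.Helper3.AcyClass
import Groth.Agent.Lib.Helper3.FreeMono

set_option autoImplicit false
universe u
open CategoryTheory
open CohSite

namespace Groth.Agent.S0861

open CategoryTheory.Limits in
/-- Let C be a site with fibre products, B a class of objects and Cov a class of covering families
(indexed families of objects over a member of B). Assume: (1) for a family in Cov over U, U and all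
iterated fibre products U_{i_0} x_U ... x_U U_{i_p} lie in B; (2) every covering sieve of a member
of B contains a family from Cov; (3) the abelian sheaf F has vanishing Cech cohomology in positive
degrees for every family in Cov. Then H^p(U, F) = 0 for all p > 0 and U in B. -/
theorem result {C : Type u} [SmallCategory C] [HasPullbacks C]
    (J : GrothendieckTopology C) (B : Set C) (Cov : ∀ (U : C) (ι : Type u), (ι → Over U) → Prop)
    (h1 : ∀ (U : C) (ι : Type u) (Y : ι → Over U), Cov U ι Y → U ∈ B ∧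
      Sieve.ofArrows (fun i => (Y i).left) (fun i => (Y i).hom) ∈ J U ∧
      ∀ (p : ℕ) (a : Fin (p + 1) → ι), (∏ᶜ fun k => Y (a k)).left ∈ B)
    (h2 : ∀ U ∈ B, ∀ T ∈ J U, ∃ (ι : Type u) (Y : ι → Over U), Cov U ι Y ∧ ∀ i, T.arrows (Y i).hom)
    (F : Sheaf J AddCommGrpCat.{u})
    (h3 : ∀ (U : C) (ι : Type u) (Y : ι → Over U), Cov U ι Y → ∀ p : ℕ, IsZero (CohCx.cechH F.obj Y (p + 1)))
    (U : C) (hU : U ∈ B) (p : ℕ) : Subsingleton (CohSite.HU F (p + 1) U) := by
  refine ⟨fun x y => ?_⟩
  have hsurjB : ∀ (S : ShortComplex (Sheaf J AddCommGrpCat.{u})) (hS : S.ShortExact),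
      (∀ (V : C) (ι : Type u) (Y : ι → Over V), Cov V ι Y → ∀ p : ℕ,
        IsZero (CohCx.cechH S.X₁.obj Y (p + 1))) →
      ∀ V ∈ B, Function.Surjective (S.g.hom.app (Opposite.op V)).hom := by
    intro S hS h1' V hV s
    obtain ⟨ι, Y, hc, hT⟩ := h2 V hV _ (Groth.Agent.Helper3.ShSec.imageSieve_mem hS s)
    exact Groth.Agent.Helper3.CechSurj.exists_lift Y hS (h1 V ι Y hc).2.1 (h1' V ι Y hc 0) s hT
  have h := Groth.Agent.Helper3.AcyClass.ext_eq_zero (CohCx.freeSheaf J U)
    (fun M : Sheaf J AddCommGrpCat.{u} => ∀ (V : C) (ι : Type u) (Y : ι → Over V), Cov V ι Y →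
      ∀ p : ℕ, IsZero (CohCx.cechH M.obj Y (p + 1))) (by
      intro S hS hX1 hinjX2
      refine ⟨?_, ?_⟩
      · intro V ι Y hc p
        have hYB := (h1 V ι Y hc).2.2
        exact Groth.Agent.Helper3.CechLES.isZero_cechH_quotient Y S.f.hom S.g.hom
          (fun V x => Groth.Agent.Helper3.ShSec.zero_apply V x)
          (fun n a => Groth.Agent.Helper3.ShSec.injective_f hS _)
          (fun n a y hy => Groth.Agent.Helper3.ShSec.exact_sections hS _ y hy)
          (fun n a => hsurjB S hS hX1 _ (hYB n a)) (p + 1)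
          (Groth.Agent.Helper3.CechInj.isZero_cech_of_injective Y S.X₂.obj p)
          (hX1 V ι Y hc (p + 1))
      · intro ψ
        obtain ⟨t, ht⟩ := hsurjB S hS hX1 U hU (CohFree.evalGen _ U S.X₃ ψ)
        refine ⟨CohFree.ofSect _ U S.X₂ t, ?_⟩
        apply (CohFree.homEquivSect _ U S.X₃).injective
        rw [CohFree.homEquivSect_apply, CohFree.homEquivSect_apply, ← ht]
        have := CohFree.evalGen_ofSect _ U S.X₂ t
        exact congrArg (S.g.hom.app (Opposite.op U)).hom this) p F h3
  exact (h x).trans (h y).symm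


end Groth.Agent.S0861
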