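import Groth.Statements.S0862
import Groth.Agent.S0861
import Groth.Agent.Lib.Helper3.CechColim
import Groth.Agent.Lib.Helper3.ColimDelta
import Groth.Agent.Lib.Helper3.ExtDelta
import Groth.Agent.Lib.Helper3.RPushNat

set_option autoImplicit false
universe u
open CategoryTheory
open CohSite

namespace Groth.Agent.S0862

open Opposite CategoryTheory.Limits in
/-- Let C be a site with fibre products, B a class of objects and Cov a class of finite covering
families such that (1) for a family in Cov over U, U and all iterated fibre products of its members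
lie in B, and (2) every covering sieve of a member of B contains a family from Cov. Then for every U
in B, every p and every filtered diagram of abelian sheaves, colim_i H^p(U, F_i) -> H^p(U, colim_i
F_i) is an isomorphism (phrased: H^p(U, -) preserves the colimit). -/
theorem result {C : Type u} [SmallCategory C] [HasPullbacks C]
    (J : GrothendieckTopology C) (B : Set C) (Cov : ∀ (U : C) (ι : Type u), (ι → Over U) → Prop)
    (h1 : ∀ (U : C) (ι : Type u) (Y : ι → Over U), Cov U ι Y → Finite ι ∧ U ∈ B ∧
      Sieve.ofArrows (fun i => (Y i).left) (fun i => (Y i).hom) ∈ J U ∧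
      ∀ (p : ℕ) (a : Fin (p + 1) → ι), (∏ᶜ fun k => Y (a k)).left ∈ B)
    (h2 : ∀ U ∈ B, ∀ T ∈ J U, ∃ (ι : Type u) (Y : ι → Over U), Cov U ι Y ∧ ∀ i, T.arrows (Y i).hom)
    (U : C) (hU : U ∈ B) (p : ℕ) (I : Type u) [SmallCategory I] [IsFiltered I]
    (F : I ⥤ Sheaf J AddCommGrpCat.{u}) :
    PreservesColimit F ((Sheaf.cohomologyPresheafFunctor J p).flip.obj (op U)) := by
  let Z : Sheaf J AddCommGrpCat.{u} := (yoneda ⋙ (Functor.whiskeringRight _ _ _).obj
      AddCommGrpCat.free ⋙ presheafToSheaf J AddCommGrpCat.{u}).obj U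
  let T := Groth.Agent.Helper3.ExtDelta.extDelta.{u} Z
  have h1' : ∀ (U : C) (ι : Type u) (Y : ι → Over U), Cov U ι Y → U ∈ B ∧
      Sieve.ofArrows (fun i => (Y i).left) (fun i => (Y i).hom) ∈ J U ∧
      ∀ (p : ℕ) (a : Fin (p + 1) → ι), (∏ᶜ fun k => Y (a k)).left ∈ B :=
    fun U ι Y hc => (h1 U ι Y hc).2
  have key : PreservesColimit F (T.F p) := by
    apply Groth.Agent.Helper3.ColimDelta.main T
    · intro G
      have e : T.F 0 ≅ sheafToPresheaf J AddCommGrpCat.{u} ⋙
          (evaluation Cᵒᵖ AddCommGrpCat.{u}).obj (op U) :=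
        Functor.isoWhiskerRight (Groth.Agent.Helper3.RPushNat.h0Nat J)
          ((evaluation Cᵒᵖ AddCommGrpCat.{u}).obj (op U))
      have := Groth.Agent.Helper3.QcSect.preservesColimit_sections J G B Cov h1 h2 U hU
      exact preservesColimit_of_natIso G e.symm
    · intro q E hE
      have hs : Subsingleton (CohSite.HU (colimit E) (q + 1) U) :=
        Groth.Agent.S0861.result J B Cov h1' h2 (colimit E)
          (fun V ι Y hc n => Groth.Agent.Helper3.CechColim.isZero_cechH J E B Cov h1 h2 Y hE hc n)
          U hU q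
      exact @AddCommGrpCat.isZero_of_subsingleton _ hs
    · intro q X hX
      exact Groth.Agent.Helper3.ExtDelta.isZero_of_injective Z X q
  exact key


end Groth.Agent.S0862
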