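import Groth.Statements.S0800
import Groth.Agent.S0862
import Groth.Agent.S0855
import Groth.Agent.Lib.Helper3.SpecCov

set_option autoImplicit false
universe u
open Coherent

namespace Groth.Agent.S0800

open CategoryTheory CategoryTheory.Limits AlgebraicGeometry TopologicalSpace Opposite

lemma isCompact_iInf_fin' {X : TopCat.{u}} (s : Set X) (hs : IsQuasiSeparated s) (n : ℕ)
    (f : Fin (n + 1) → Opens X)
    (hf : ∀ k, IsCompact (f k : Set X)) (hle : ∀ k, (f k : Set X) ⊆ s) :
    IsCompact ((⨅ k, f k : Opens X) : Set X) := by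
  induction n with
  | zero =>
    have : (⨅ k, f k) = f 0 := by
      apply le_antisymm (iInf_le _ 0)
      exact le_iInf fun k => by
        have hk : k = 0 := Fin.ext (by have := k.2; omega)
        rw [hk]
    rw [this]
    exact hf 0
  | succ n ih =>
    have e : (⨅ k, f k) = f 0 ⊓ ⨅ k : Fin (n + 1), f k.succ := by
      apply le_antisymm
      · exact le_inf (iInf_le _ 0) (le_iInf fun k => iInf_le _ k.succ)
      · exact le_iInf (Fin.cases inf_le_left (fun k => inf_le_right.trans (iInf_le _ k)))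
    rw [e, Opens.coe_inf]
    refine hs _ _ (hle 0) (f 0).2 (hf 0) ?_ (⨅ k : Fin (n + 1), f k.succ).2
      (ih (fun k => f k.succ) (fun k => hf k.succ) (fun k => hle k.succ))
    intro x hx
    exact hle (Fin.succ 0) ((iInf_le (fun k : Fin (n + 1) => f k.succ) 0 : _) hx)

open CategoryTheory CategoryTheory.Limits AlgebraicGeometry in
/-- Let f : X → S be quasi-compact and quasi-separated. Then for every p the higher direct image functor
R^p f_* on abelian sheaves (on the underlying spaces) preserves filtered colimits. -/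
theorem result {X S : Scheme.{u}} (f : X ⟶ S) [QuasiCompact f]
    [QuasiSeparated f] (p : ℕ) (J : Type u) [SmallCategory J] [IsFiltered J] :
    PreservesColimitsOfShape J (Coh.RpushAb f p) := by
  constructor
  intro F
  refine Groth.Agent.S0855.result f.base F p ?_
  rw [TopologicalSpace.Opens.isBasis_iff_nbhd]
  intro U x hx
  obtain ⟨V, hV, hxV, hVU⟩ :=
    (TopologicalSpace.Opens.isBasis_iff_nbhd.1 (S.isBasis_affineOpens)) hx
  refine ⟨V, ?_, hxV, hVU⟩
  have hV' : IsAffineOpen V := hV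
  have hqc : IsCompact ((f ⁻¹ᵁ V : X.Opens) : Set X) := f.isCompact_preimage hV'.isCompact
  have hqs : IsQuasiSeparated ((f ⁻¹ᵁ V : X.Opens) : Set X) :=
    f.isQuasiSeparated_preimage hV'.isQuasiSeparated
  change CategoryTheory.Limits.PreservesColimit F
    ((Sheaf.cohomologyPresheafFunctor (Opens.grothendieckTopology X) p).flip.obj
      (Opposite.op (f ⁻¹ᵁ V)))
  let B : Set (TopologicalSpace.Opens X) := {W | W ≤ f ⁻¹ᵁ V ∧ IsCompact (W : Set X)}
  let Cov : ∀ (W : TopologicalSpace.Opens X) (κ : Type u), (κ → Over W) → Prop :=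
    fun W κ Y => Finite κ ∧ (W ≤ f ⁻¹ᵁ V ∧ IsCompact (W : Set X)) ∧
      (∀ k, IsCompact ((Y k).left : Set X)) ∧
      Sieve.ofArrows (fun k => (Y k).left) (fun k => (Y k).hom) ∈ Opens.grothendieckTopology X W
  refine Groth.Agent.S0862.result (Opens.grothendieckTopology X) B Cov ?_ ?_ (f ⁻¹ᵁ V)
    ⟨le_rfl, hqc⟩ p J F
  · intro W κ Y hc
    obtain ⟨hfin, hW, hY, hcov⟩ := hc
    refine ⟨hfin, hW, hcov, fun q a => ?_⟩
    change ((∏ᶜ fun k => Y (a k)).left : TopologicalSpace.Opens X) ≤ f ⁻¹ᵁ V ∧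
      IsCompact (((∏ᶜ fun k => Y (a k)).left : TopologicalSpace.Opens X) : Set X)
    rw [Groth.Agent.Helper3.SpecCov.prod_left_eq_iInf Y a]
    refine ⟨(iInf_le (fun k => (Y (a k)).left) 0).trans ((leOfHom (Y (a 0)).hom).trans hW.1), ?_⟩
    exact isCompact_iInf_fin' _ hqs q _ (fun k => hY (a k))
      (fun k => (leOfHom (Y (a k)).hom).trans hW.1)
  · intro W hW T hT
    obtain ⟨κ, Y, hfin, hYc, hcov, hYT⟩ :=
      Groth.Agent.Helper3.SpecCov.exists_finite_refinement W hW.2 T hT
    exact ⟨κ, Y, ⟨hfin, hW, hYc, hcov⟩, hYT⟩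


end Groth.Agent.S0800
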