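import Groth.Statements.S15233
import Mathlib

set_option autoImplicit false
universe u
open CategoryTheory CategoryTheory.Limits Opposite
open CohSite

namespace Groth.Agent.S15233

/-- Let C be a small category with a Grothendieck topology J, and let B be a class of objects forming a
prebasis: for every object V and every covering sieve S of V, the arrows of S whose domain lies in B
generate a covering sieve of V. If F is a presheaf of abelian groups on C such that F(U) = 0 for
every object U in B, then the sheafification of F is zero. -/
theorem result {C : Type u} [SmallCategory C] (J : GrothendieckTopology C)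
    (B : ObjectProperty C)
    (hB : ∀ (V : C) (S : Sieve V), S ∈ J V →
      Sieve.generate (fun (U : C) => {g : U ⟶ V | S.arrows g ∧ B U}) ∈ J V)
    (F : Cᵒᵖ ⥤ AddCommGrpCat.{u}) (hF : ∀ U : C, B U → IsZero (F.obj (op U))) :
    IsZero ((presheafToSheaf J AddCommGrpCat.{u}).obj F) := by
  -- every morphism from F to a sheaf is zero
  have key : ∀ (G : Sheaf J AddCommGrpCat.{u}) (φ : F ⟶ (sheafToPresheaf J _).obj G), φ = 0 := by
    intro G φ
    ext X : 2
    induction X using Opposite.rec with | _ X => ?_
    let S : J.Cover X := ⟨_, hB X ⊤ (J.top_mem X)⟩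
    refine Presheaf.IsSheaf.hom_ext G.property S _ _ ?_
    intro I
    obtain ⟨U, h, g, ⟨_, hU⟩, hfac⟩ := I.hf
    rw [NatTrans.app_zero, zero_comp]
    have hnat := φ.naturality I.f.op
    change φ.app (op X) ≫ G.obj.map I.f.op = 0
    change F.map I.f.op ≫ φ.app (op I.Y) = φ.app (op X) ≫ G.obj.map I.f.op at hnat
    rw [← hnat, ← hfac, op_comp, F.map_comp, Category.assoc]
    have hz : F.map g.op = 0 := (hF U hU).eq_of_tgt _ _
    rw [hz, zero_comp]
  rw [IsZero.iff_id_eq_zero]
  apply ((sheafificationAdjunction J AddCommGrpCat.{u}).homEquiv F _).injective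
  rw [key _ ((sheafificationAdjunction J AddCommGrpCat.{u}).homEquiv F _ (𝟙 _)),
    key _ ((sheafificationAdjunction J AddCommGrpCat.{u}).homEquiv F _ 0)]

end Groth.Agent.S15233
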