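import Groth.Statements.S0022
import Mathlib
import Groth.Agent.Lib.Helper1.ProjVan

set_option autoImplicit false
universe u
open Coherent

namespace Groth.Agent.S0022

open AlgebraicGeometry in
/-- For any ring R, any quasi-coherent module F on projective space ℙ^n_R and any i > n, H^i(ℙ^n_R, F) =
0. (The published statement is for coherent modules over a Noetherian ring; it is stated here for
quasi-coherent modules over any ring.) -/
theorem result (n : ℕ) (R : Type u) [CommRing R]
    (M : (CohB1.ProjSpace n R).Modules) [Coh.IsQCoh M] (i : ℕ) (hi : n < i) :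
    Subsingleton (Coh.HH (CohB1.ProjSpace n R) M i) := by
  classical
  have hgen : Algebra.adjoin R (Set.range (MvPolynomial.X : Fin (n + 1) → MvPolynomial (Fin (n + 1)) R)) = ⊤ :=
    MvPolynomial.adjoin_range_X
  have hg1 : ∀ i : Fin (n + 1), (MvPolynomial.X i : MvPolynomial (Fin (n + 1)) R) ∈ CohB1.polyGrading n R 1 :=
    fun i => MvPolynomial.isHomogeneous_X R i
  have hirr := Groth.Agent.Helper1.ProjVan.irrelevant_le_span (CohB1.polyGrading n R)
    (MvPolynomial.X : Fin (n + 1) → MvPolynomial (Fin (n + 1)) R) (fun i => ⟨1, hg1 i⟩) hgen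
  let M' : (AlgebraicGeometry.Proj (CohB1.polyGrading n R)).Modules := M
  have hq : Coh.IsQCoh M' := ‹Coh.IsQCoh M›
  exact @Groth.Agent.Helper1.ProjVan.subsingleton_HH _ _ _ _ _ (CohB1.polyGrading n R) _ n
    (MvPolynomial.X : Fin (n + 1) → MvPolynomial (Fin (n + 1)) R) (fun _ => 1) hg1 (fun _ => Nat.one_pos) hirr M' hq i hi

end Groth.Agent.S0022
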