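import Groth.Statements.S0009
import Mathlib
import Groth.Agent.Lib.Helper1.H1Ext
import Groth.Agent.Lib.Helper1.SerreCrit2

set_option autoImplicit false
universe u
open Coherent

namespace Groth.Agent.S0009

open AlgebraicGeometry CategoryTheory in
/-- If X is quasi-compact and H^1 vanishes for every quasi-coherent submodule of the structure sheaf,
then X is affine. A quasi-coherent sheaf of ideals is modelled as a quasi-coherent module with a
monomorphism into the structure sheaf. -/
theorem result (X : Scheme.{u}) [CompactSpace X]
    (h : ∀ (I : X.Modules) (i : I ⟶ Coh.structureModule X), Mono i →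
      Coh.IsQCoh I → Subsingleton (Coh.HH X I 1)) : IsAffine X := by
  have hO : Groth.Agent.Helper1.H1Ext.SubH1 (Coh.structureModule X) := fun I i hi hI => h I i hi hI
  apply Groth.Agent.Helper1.SerreCrit.isAffine_of_sections_exact
  intro n F F'' i p hi hp hF hF''
  let S : ShortComplex X.Modules := ShortComplex.mk (Limits.kernel.ι p) p (Limits.kernel.condition p)
  have hSx : S.Exact := ShortComplex.exact_of_f_is_kernel _ (Limits.kernelIsKernel p)
  have : Mono S.f := inferInstanceAs (Mono (Limits.kernel.ι p))
  have : Epi S.g := hp
  have hS : S.ShortExact := { exact := hSx }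
  have hK : (Limits.kernel p).IsQuasicoherent :=
    Groth.Agent.Helper1.QcAbel.isQuasicoherent_kernel p
  have h1 := Groth.Agent.Helper1.H1Ext.subH1_freeMod hO n (Limits.kernel p) (Limits.kernel.ι p ≫ i)
    (mono_comp _ _) hK
  exact Groth.Agent.Helper1.H1Surj.app_top_surjective_of_H1 hS h1

end Groth.Agent.S0009
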