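import Groth.Statements.S0016
import Mathlib
import Groth.Agent.Lib.Helper1.QcsVan
import Groth.Agent.Lib.Helper1.CohUtil

set_option autoImplicit false
universe u
open Coherent

namespace Groth.Agent.S0016

open AlgebraicGeometry in
/-- For a quasi-compact quasi-separated scheme X there is a natural number d such that H^p(X, F) = 0 for
every quasi-coherent F and every p ≥ d; vanishing is stated as Subsingleton of the cohomology group.
(The published statement gives an explicit d in terms of a covering by quasi-compact separated
opens; here only existence of some d is asserted.) -/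
theorem result (X : Scheme.{u}) [CompactSpace X]
    [QuasiSeparatedSpace X] :
    ∃ d : ℕ, ∀ (M : X.Modules), Coh.IsQCoh M → ∀ p : ℕ, d ≤ p → Subsingleton (Coh.HH X M p) := by
  classical
  obtain ⟨d, hd⟩ := Groth.Agent.Helper1.QcsVan.exists_bound (X := X) ⊤ CompactSpace.isCompact_univ
  refine ⟨d, fun M hM p hp => ?_⟩
  haveI : M.IsQuasicoherent := hM
  have h := hd M p hp
  exact (Groth.Agent.Helper1.CohUtil.HHequivHU M p).toEquiv.subsingleton

end Groth.Agent.S0016
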