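import Groth.Statements.S4541
import Mathlib
import Groth.Agent.Lib.Helper2.PBasis7

set_option autoImplicit false
universe u
open EGA41

namespace Groth.Agent.S4541

/-- Let p be a prime, A a perfect ring of characteristic p and B a reduced A-algebra of characteristic p
which admits a p-basis (x_α) over A. Then B is a formally smooth A-algebra (discrete topologies);
more precisely, for every A-algebra E, every nilpotent ideal R of E, every A-algebra homomorphism v
: B → E/R and every family (z_α) of elements of E lifting the v(x_α), there is a unique A-algebra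
homomorphism w : B → E lifting v with w(x_α) = z_α for all α. (The published statement assumes,
instead of A perfect and B reduced, that the canonical map A^(p) ⊗_A B → B^(p), a ⊗ b ↦ a b^p with
Frobenius-twisted structures, is injective; when A is perfect that condition says exactly that B is
reduced, which is the case stated here. The published statement also treats admissible topological
E; only discrete E is stated.) -/
theorem result (p : ℕ) [Fact p.Prime] {A B : Type u} [CommRing A] [CharP A p]
    [PerfectRing A p] [CommRing B] [Algebra A B] [CharP B p] [IsReduced B]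
    {ι : Type u} (x : ι → B) (hx : EGA41.IsPBasis p A x) :
    Algebra.FormallySmooth A B ∧
    ∀ (E : Type u) [CommRing E] [Algebra A E] (R : Ideal E), IsNilpotent R →
      ∀ (v : B →ₐ[A] E ⧸ R) (z : ι → E), (∀ i, Ideal.Quotient.mk R (z i) = v (x i)) →
        ∃! w : B →ₐ[A] E, (Ideal.Quotient.mkₐ A R).comp w = v ∧ ∀ i, w (x i) = z i := by
  have hp : p.Prime := Fact.out
  have main : ∀ (E : Type u) [CommRing E] [Algebra A E] (R : Ideal E), IsNilpotent R →
      ∀ (v : B →ₐ[A] E ⧸ R) (z : ι → E), (∀ i, Ideal.Quotient.mk R (z i) = v (x i)) →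
        ∃! w : B →ₐ[A] E, (Ideal.Quotient.mkₐ A R).comp w = v ∧ ∀ i, w (x i) = z i := by
    intro E _ _ R hR v z hz
    obtain ⟨n, hn⟩ := hR
    refine Groth.Agent.Helper2.PBasis.existsUnique_lift p hx n (Ideal.Quotient.mkₐ A R)
      (Ideal.Quotient.mkₐ_surjective A R) ?_ v z hz
    intro k hk
    have hk' : k ∈ R := Ideal.Quotient.eq_zero_iff_mem.mp hk
    have h1 : k ^ p ^ n ∈ R ^ p ^ n := Ideal.pow_mem_pow hk' _
    have h2 : R ^ p ^ n ≤ R ^ n := Ideal.pow_le_pow_right (Nat.lt_pow_self hp.one_lt).le
    have h3 := h2 h1
    rw [hn] at h3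
    exact h3
  refine ⟨?_, main⟩
  apply Algebra.FormallySmooth.of_comp_surjective
  intro E _ _ I hI f
  choose z hz using fun i => Ideal.Quotient.mk_surjective (f (x i))
  obtain ⟨w, ⟨hw, -⟩, -⟩ := main E I ⟨2, hI⟩ f z hz
  exact ⟨w, hw⟩

end Groth.Agent.S4541
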