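import Groth.Statements.S9455
-- import your own Groth.Agent.* helpers here
import Mathlib
import Groth.Agent.Lib.Helper7.SqZero.QuotPowSmooth
import Groth.Agent.Lib.Helper2.SepPerfect

set_option autoImplicit false
universe u
open CAlg

namespace Groth.Agent.S9455

/-- If Λ is a Cohen ring (a complete discrete valuation ring with maximal ideal generated by a prime
number p) then Λ/p^nΛ is formally smooth over ℤ/p^nℤ for every n ≥ 1; the ℤ/p^nℤ-algebra structure
on Λ/p^nΛ is the unique one and is taken as a hypothesis. -/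
theorem result (Λ : Type u) [CommRing Λ] [IsDomain Λ]
    [IsDiscreteValuationRing Λ] [IsAdicComplete (IsLocalRing.maximalIdeal Λ) Λ] (p : ℕ)
    (hp : p.Prime) (hm : IsLocalRing.maximalIdeal Λ = Ideal.span {(p : Λ)}) (n : ℕ) (hn : 1 ≤ n)
    [Algebra (ZMod (p ^ n)) (Λ ⧸ Ideal.span {((p : Λ) ^ n)})] :
    Algebra.FormallySmooth (ZMod (p ^ n)) (Λ ⧸ Ideal.span {((p : Λ) ^ n)}) := by
  classical
  have hpF : Fact p.Prime := ⟨hp⟩
  -- `p` is nonzero and a nonunit in `Λ`
  have hpmem : (p : Λ) ∈ IsLocalRing.maximalIdeal Λ := by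
    rw [hm]; exact Ideal.mem_span_singleton_self _
  have hp0 : (p : Λ) ≠ 0 := by
    intro h0
    apply IsDiscreteValuationRing.not_isField Λ
    rw [IsLocalRing.isField_iff_maximalIdeal_eq, hm, h0, Ideal.span_singleton_eq_bot]
  have hchar : CharZero Λ := by
    obtain ⟨c, hc⟩ := CharP.exists Λ
    rcases CharP.char_is_prime_or_zero Λ c with hcp | hc0
    · exfalso
      have hcΛ : (c : Λ) = 0 := CharP.cast_eq_zero Λ c
      by_cases hcp' : c = p
      · exact hp0 (hcp' ▸ hcΛ)
      · have hcop : Nat.Coprime c p := (Nat.coprime_primes hcp hp).mpr hcp'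
        have hcopZ : IsCoprime (c : ℤ) (p : ℤ) := Nat.isCoprime_iff_coprime.mpr hcop
        obtain ⟨a, b, hab⟩ := hcopZ
        have h1 : ((a * c + b * p : ℤ) : Λ) = 1 := by rw [hab]; simp
        push_cast at h1
        rw [hcΛ, mul_zero, zero_add] at h1
        have : (1 : Λ) ∈ IsLocalRing.maximalIdeal Λ := by
          rw [← h1]
          exact Ideal.mul_mem_left _ _ hpmem
        exact (IsLocalRing.maximalIdeal.isMaximal Λ).ne_top
          ((Ideal.eq_top_iff_one _).mpr this)
    · subst hc0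
      exact CharP.charP_to_charZero Λ
  have hflat : Module.Flat ℤ Λ := inferInstance
  -- ideals
  have hideal : ∀ m : ℕ, (Ideal.span {(p : ℤ) ^ m}).map (algebraMap ℤ Λ) =
      Ideal.span {(p : Λ) ^ m} := by
    intro m
    rw [Ideal.map_span, Set.image_singleton]
    simp
  -- base case
  have hbase : (Groth.Agent.Helper7.SqZero.quotMapRingHom ℤ Λ
      (Ideal.span {(p : ℤ)})).FormallySmooth := by
    have hI1 : (Ideal.span {(p : ℤ)}).map (algebraMap ℤ Λ) = IsLocalRing.maximalIdeal Λ := by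
      have := hideal 1
      rw [pow_one, pow_one] at this
      rw [this, hm]
    have hmax : ((Ideal.span {(p : ℤ)}).map (algebraMap ℤ Λ)).IsMaximal := by
      rw [hI1]; exact IsLocalRing.maximalIdeal.isMaximal Λ
    let _ : Field (Λ ⧸ (Ideal.span {(p : ℤ)}).map (algebraMap ℤ Λ)) := Ideal.Quotient.field _
    let E : (ℤ ⧸ Ideal.span {(p : ℤ)}) ≃+* ULift.{u} (ZMod p) :=
      (Int.quotientSpanNatEquivZMod p).trans ULift.ringEquiv.symm
    let ψ : ULift.{u} (ZMod p) →+* (Λ ⧸ (Ideal.span {(p : ℤ)}).map (algebraMap ℤ Λ)) :=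
      (Groth.Agent.Helper7.SqZero.quotMapRingHom ℤ Λ (Ideal.span {(p : ℤ)})).comp
        E.symm.toRingHom
    have hψ : ψ.FormallySmooth := by
      let _ : Algebra (ULift.{u} (ZMod p))
        (Λ ⧸ (Ideal.span {(p : ℤ)}).map (algebraMap ℤ Λ)) := ψ.toAlgebra
      exact Groth.Agent.Helper2.Sep.formallySmooth_of_perfect p (ULift.{u} (ZMod p))
        (Λ ⧸ (Ideal.span {(p : ℤ)}).map (algebraMap ℤ Λ))
    have hE : E.toRingHom.FormallySmooth := RingHom.FormallySmooth.of_bijective E.bijective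
    have hcomp := hE.comp hψ
    have heq : ψ.comp E.toRingHom = Groth.Agent.Helper7.SqZero.quotMapRingHom ℤ Λ
        (Ideal.span {(p : ℤ)}) := by
      ext x
      simp [ψ]
    rw [heq] at hcomp
    exact hcomp
  have hmain := Groth.Agent.Helper7.SqZero.formallySmooth_quotMapRingHom_pow (p : ℤ) hbase n hn
  -- transport along the canonical isomorphisms
  have hcast : Ideal.span {((p ^ n : ℕ) : ℤ)} = Ideal.span {(p : ℤ) ^ n} := by
    rw [Nat.cast_pow]
  let eR : ZMod (p ^ n) ≃+* (ℤ ⧸ Ideal.span {(p : ℤ) ^ n}) :=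
    (Int.quotientSpanNatEquivZMod (p ^ n)).symm.trans (Ideal.quotEquivOfEq hcast)
  let eS : (Λ ⧸ (Ideal.span {(p : ℤ) ^ n}).map (algebraMap ℤ Λ)) ≃+*
      (Λ ⧸ Ideal.span {(p : Λ) ^ n}) := Ideal.quotEquivOfEq (hideal n)
  have h1 : eR.toRingHom.FormallySmooth := RingHom.FormallySmooth.of_bijective eR.bijective
  have h2 : eS.toRingHom.FormallySmooth := RingHom.FormallySmooth.of_bijective eS.bijective
  have h3 := (h1.comp hmain).comp h2
  have h4 : eS.toRingHom.comp ((Groth.Agent.Helper7.SqZero.quotMapRingHom ℤ Λ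
      (Ideal.span {(p : ℤ) ^ n})).comp eR.toRingHom) =
      algebraMap (ZMod (p ^ n)) (Λ ⧸ Ideal.span {(p : Λ) ^ n}) := Subsingleton.elim _ _
  rw [h4] at h3
  exact RingHom.formallySmooth_algebraMap.mp h3

end Groth.Agent.S9455
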