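import Groth.Statements.S0579
import Mathlib

set_option autoImplicit false
universe u
open CAlg

namespace Groth.Agent.S0579

/-- A local ring which is complete with respect to its maximal ideal and whose residue field has
characteristic zero admits a coefficient field: there is a ring homomorphism from the residue field
to the ring which is a section of the residue map. -/
theorem result (R : Type u) [CommRing R] [IsLocalRing R]
    [IsAdicComplete (IsLocalRing.maximalIdeal R) R] [CharZero (IsLocalRing.ResidueField R)] :
    ∃ s : IsLocalRing.ResidueField R →+* R, (IsLocalRing.residue R).comp s = RingHom.id _ := by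
  have hunit : ∀ y : nonZeroDivisors ℤ, IsUnit (Int.castRingHom R y) := by
    intro y
    rw [← IsLocalRing.residue_ne_zero_iff_isUnit]
    have h1 : IsLocalRing.residue R (Int.castRingHom R y) = ((y : ℤ) : IsLocalRing.ResidueField R) := by
      simp
    rw [h1]
    exact Int.cast_ne_zero.mpr (nonZeroDivisors.ne_zero y.2)
  let f : ℚ →+* R := IsLocalization.lift hunit
  letI algQR : Algebra ℚ R := f.toAlgebra
  letI algQk : Algebra ℚ (IsLocalRing.ResidueField R) :=
    inferInstanceAs (Algebra ℚ (R ⧸ IsLocalRing.maximalIdeal R))
  obtain ⟨ι, x, hx⟩ := exists_isTranscendenceBasis' ℚ (IsLocalRing.ResidueField R)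
  haveI := hx.isAlgebraic_field
  haveI : Algebra.IsSeparable (IntermediateField.adjoin ℚ (Set.range x))
      (IsLocalRing.ResidueField R) := Algebra.IsAlgebraic.isSeparable_of_perfectField
  haveI : Algebra.FormallySmooth ℚ (IsLocalRing.ResidueField R) :=
    Algebra.FormallySmooth.of_algebraicIndependent_of_isSeparable hx.1
  obtain ⟨g, hg⟩ := Algebra.FormallySmooth.exists_mkₐ_comp_eq_of_isAdicComplete
    (I := IsLocalRing.maximalIdeal R) (AlgHom.id ℚ (IsLocalRing.ResidueField R))
  exact ⟨g.toRingHom, RingHom.ext fun z => congr($hg z)⟩

end Groth.Agent.S0579
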