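import Groth.Statements.S4514
import Groth.Agent.Lib.Helper8.CohenFact6

set_option autoImplicit false
universe u
open EGA41

namespace Groth.Agent.S4514

open IsLocalRing TensorProduct in
/-- Let A be a Noetherian local ring with residue field k, and let B₀ be a k-algebra which is a complete
regular local ring. Then there exist a complete Noetherian local ring B and a local homomorphism A →
B making B a flat A-module, such that B₀ is k-isomorphic to k ⊗_A B = B/𝔪B. -/
theorem result {A : Type u} [CommRing A] [IsLocalRing A] [IsNoetherianRing A]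
    (B₀ : Type u) [CommRing B₀] [IsRegularLocalRing B₀] [IsAdicComplete (maximalIdeal B₀) B₀]
    [Algebra (ResidueField A) B₀] :
    ∃ (B : Type u) (_ : CommRing B) (_ : IsLocalRing B) (_ : IsNoetherianRing B) (_ : Algebra A B)
      (_ : IsLocalHom (algebraMap A B)),
      IsAdicComplete (maximalIdeal B) B ∧ Module.Flat A B ∧
        Nonempty (ResidueField A ⊗[A] B ≃ₐ[ResidueField A] B₀) := by
  classical
  haveI : IsNoetherianRing (AdicCompletion (maximalIdeal A) A) :=
    Groth.Agent.Helper2.CompleteNoeth.isNoetherianRing_adicCompletion A (maximalIdeal A)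
      (maximalIdeal A).fg_of_isNoetherianRing
  have hkerψ := Groth.Agent.Helper8.CohenFact.maximalIdeal_le_ker_toFibre (A := A) B₀
  letI algÂB₀ : Algebra (AdicCompletion (maximalIdeal A) A) B₀ :=
    (Groth.Agent.Helper8.CohenFact.toFibre (A := A) B₀).toAlgebra
  have hAB : ∀ a ∈ maximalIdeal (AdicCompletion (maximalIdeal A) A),
      algebraMap (AdicCompletion (maximalIdeal A) A) B₀ a = 0 :=
    fun a ha => RingHom.mem_ker.1 (hkerψ ha)
  haveI : IsLocalHom (algebraMap (AdicCompletion (maximalIdeal A) A) B₀) := by
    refine ((IsLocalRing.local_hom_TFAE _).out 0 2).mpr ?_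
    rw [Ideal.map_le_iff_le_comap]
    intro a ha
    rw [Ideal.mem_comap, hAB a ha]
    exact Ideal.zero_mem _
  -- generators of the maximal ideal of `B₀`
  obtain ⟨s, hscard, hsspan⟩ := Submodule.FG.exists_span_finset_card_eq_spanFinrank
    (IsNoetherian.noetherian (maximalIdeal B₀))
  let c : Fin (maximalIdeal B₀).spanFinrank → B₀ :=
    fun j => ((Finset.equivFinOfCardEq hscard).symm j : B₀)
  have hc : Ideal.span (Set.range c) = maximalIdeal B₀ := by
    have : Set.range c = (s : Set B₀) := by
      ext z
      constructor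
      · rintro ⟨j, rfl⟩
        exact ((Finset.equivFinOfCardEq hscard).symm j).2
      · intro hz
        exact ⟨Finset.equivFinOfCardEq hscard ⟨z, hz⟩, by simp [c]⟩
    rw [this]
    exact hsspan
  have hm : ((maximalIdeal B₀).spanFinrank : WithBot ℕ∞) ≤ ringKrullDim B₀ :=
    le_of_eq IsRegularLocalRing.spanFinrank_maximalIdeal
  obtain ⟨q, hq⟩ := CharP.exists (ResidueField A)
  rcases CharP.char_is_prime_or_zero (ResidueField A) q with hqp | hq0
  · haveI : CharP (ResidueField (AdicCompletion (maximalIdeal A) A)) q :=
      charP_of_injective_ringHom (IsLocalRing.ResidueField.map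
        (algebraMap A (AdicCompletion (maximalIdeal A) A))).injective q
    haveI : CharP (ResidueField B₀) q :=
      charP_of_injective_ringHom
        ((residue B₀).comp (algebraMap (ResidueField A) B₀)).injective q
    obtain ⟨Λ, hΛ, hd, hv, hc1, φ, hm1, hφ⟩ :=
      Groth.Agent.Helper8.CohenFact.exists_cohen_section (AdicCompletion (maximalIdeal A) A) q hqp
    obtain ⟨Λ', hΛ', hd', hv', hc', φ', hm', hφ'⟩ :=
      Groth.Agent.Helper8.CohenFact.exists_cohen_section B₀ q hqp
    have hdim : ringKrullDim Λ = ringKrullDim Λ' := by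
      rw [Groth.Agent.Helper8.CohenFact.ringKrullDim_eq_one_of_dvr,
        Groth.Agent.Helper8.CohenFact.ringKrullDim_eq_one_of_dvr]
    have hLP : ∀ N : ℕ, Groth.Agent.Helper8.CohenLift.LiftProp Λ
        (IsLocalRing.maximalIdeal (MvPowerSeries (Fin N) Λ')) := by
      intro N
      refine Groth.Agent.Helper8.CohenLift.liftProp_of_cohen Λ q hqp hm1 _ ?_
      rw [Groth.Agent.Helper8.FinPS.maximalIdeal_mvPowerSeries_eq_sup]
      refine Ideal.mem_sup_left ?_
      rw [← map_natCast (MvPowerSeries.C : Λ' →+* MvPowerSeries (Fin N) Λ')]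
      refine Ideal.mem_map_of_mem _ ?_
      rw [hm']
      exact Ideal.mem_span_singleton_self _
    obtain ⟨n, ρ, σ, τ, hρ, hσ, hcomp, hflat, hker⟩ :=
      Groth.Agent.Helper8.CohenFact.exists_factorization_of_regular Λ Λ' hdim q hm1 hm' hLP φ hφ
        φ' hφ' hAB _ c hc hm
    haveI : IsAdicComplete (maximalIdeal (MvPowerSeries (Fin (n + (maximalIdeal B₀).spanFinrank)) Λ'))
        (MvPowerSeries (Fin (n + (maximalIdeal B₀).spanFinrank)) Λ') :=
      Groth.Agent.Helper3.ArtFunLib.isAdicComplete_ps_local
    exact Groth.Agent.Helper8.CohenFact.exists_of_factorization B₀ _ _ ρ σ τ hρ hσ hcomp hflat hker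
  · subst hq0
    haveI : CharZero (ResidueField A) := CharP.charP_to_charZero _
    haveI : CharZero (ResidueField (AdicCompletion (maximalIdeal A) A)) :=
      charZero_of_injective_ringHom (IsLocalRing.ResidueField.map
        (algebraMap A (AdicCompletion (maximalIdeal A) A))).injective
    haveI : CharZero (ResidueField B₀) :=
      charZero_of_injective_ringHom
        ((residue B₀).comp (algebraMap (ResidueField A) B₀)).injective
    obtain ⟨s1, hs1⟩ := Groth.Agent.S0579.result (AdicCompletion (maximalIdeal A) A)
    obtain ⟨s2, hs2⟩ := Groth.Agent.S0579.result B₀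
    have hφ : Function.Surjective ((residue (AdicCompletion (maximalIdeal A) A)).comp s1) := by
      rw [hs1]; exact Function.surjective_id
    have hφ' : Function.Surjective ((residue B₀).comp s2) := by
      rw [hs2]; exact Function.surjective_id
    haveI : IsAdicComplete (maximalIdeal (ResidueField B₀)) (ResidueField B₀) := by
      rw [IsLocalRing.maximalIdeal_eq_bot]
      infer_instance
    have hdim : ringKrullDim (ResidueField (AdicCompletion (maximalIdeal A) A)) =
        ringKrullDim (ResidueField B₀) := by
      rw [ringKrullDim_eq_zero_of_field, ringKrullDim_eq_zero_of_field]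
    have hm1 : maximalIdeal (ResidueField (AdicCompletion (maximalIdeal A) A)) =
        Ideal.span {((0 : ℕ) : ResidueField (AdicCompletion (maximalIdeal A) A))} := by
      rw [IsLocalRing.maximalIdeal_eq_bot, Nat.cast_zero, eq_comm, Ideal.span_singleton_eq_bot]
    have hm' : maximalIdeal (ResidueField B₀) = Ideal.span {((0 : ℕ) : ResidueField B₀)} := by
      rw [IsLocalRing.maximalIdeal_eq_bot, Nat.cast_zero, eq_comm, Ideal.span_singleton_eq_bot]
    obtain ⟨n, ρ, σ, τ, hρ, hσ, hcomp, hflat, hker⟩ :=
      Groth.Agent.Helper8.CohenFact.exists_factorization_of_regular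
        (ResidueField (AdicCompletion (maximalIdeal A) A)) (ResidueField B₀) hdim 0 hm1 hm'
        (fun N => Groth.Agent.Helper8.CohenLift.liftProp_of_charZero _ _) s1 hφ s2 hφ' hAB _ c hc hm
    haveI : IsAdicComplete (maximalIdeal (MvPowerSeries (Fin (n + (maximalIdeal B₀).spanFinrank))
        (ResidueField B₀))) (MvPowerSeries (Fin (n + (maximalIdeal B₀).spanFinrank))
        (ResidueField B₀)) :=
      Groth.Agent.Helper3.ArtFunLib.isAdicComplete_ps_local
    exact Groth.Agent.Helper8.CohenFact.exists_of_factorization B₀ _ _ ρ σ τ hρ hσ hcomp hflat hker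

end Groth.Agent.S4514
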