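import Groth.Statements.S18156
import Mathlib

set_option autoImplicit false
universe u v
open CAlg

namespace Groth.Agent.S18156

section
open AdicCompletion

variable {k : Type*} [CommRing k] {A : Type*} [CommRing A] [Algebra k A] (I : Ideal A)
  (D : Derivation k A A)

theorem D_mem_pow (n : ℕ) : ∀ a ∈ I ^ (n + 1), D a ∈ I ^ n := by
  induction n with
  | zero => intro a _; simp
  | succ n ih =>
    intro a ha
    rw [pow_succ] at ha
    refine Submodule.mul_induction_on ha ?_ ?_
    · intro x hx y hy
      rw [Derivation.leibniz]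
      refine Ideal.add_mem _ ?_ ?_
      · rw [smul_eq_mul]
        exact Ideal.mul_mem_right _ _ hx
      · rw [smul_eq_mul, mul_comm y, pow_succ]
        exact Ideal.mul_mem_mul (ih x hx) hy
    · intro x y hx hy
      rw [map_add]
      exact Ideal.add_mem _ hx hy

theorem cauchy_diff (a : AdicCauchySequence I A) {m n : ℕ} (h : m ≤ n) : a n - a m ∈ I ^ m := by
  have := a.property h
  rw [SModEq.sub_mem] at this
  have h2 : a m - a n ∈ I ^ m := by simpa using this
  have := Ideal.neg_mem_iff (I ^ m) |>.mpr h2
  simpa using this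

/-- shifted derivative of a Cauchy sequence -/
noncomputable def shiftD (a : AdicCauchySequence I A) : AdicCauchySequence I A :=
  AdicCauchySequence.mk I A (fun n => D (a (n + 1))) (by
    intro n
    rw [SModEq.sub_mem]
    have h1 : a (n + 1 + 1) - a (n + 1) ∈ I ^ (n + 1) := cauchy_diff I a (Nat.le_succ _)
    have h2 := D_mem_pow I D n _ h1
    rw [map_sub] at h2
    have := Ideal.neg_mem_iff (I ^ n) |>.mpr h2
    simpa using this)

theorem shiftD_apply (a : AdicCauchySequence I A) (n : ℕ) : shiftD I D a n = D (a (n + 1)) := rfl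

theorem mk_eq_mk_iff (a b : AdicCauchySequence I A) :
    AdicCompletion.mkₐ I a = AdicCompletion.mkₐ I b ↔ ∀ n, a n - b n ∈ I ^ n := by
  constructor
  · intro h n
    have := congrArg (AdicCompletion.evalₐ I n) h
    rw [AdicCompletion.evalₐ_mkₐ, AdicCompletion.evalₐ_mkₐ, Ideal.Quotient.eq] at this
    exact this
  · intro h
    apply AdicCompletion.ext_evalₐ
    intro n
    rw [AdicCompletion.evalₐ_mkₐ, AdicCompletion.evalₐ_mkₐ, Ideal.Quotient.eq]
    exact h n

theorem mkₐ_surjective : Function.Surjective (AdicCompletion.mkₐ I : AdicCauchySequence I A → _) :=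
  AdicCompletion.mk_surjective I A

noncomputable def Dhat (x : AdicCompletion I A) : AdicCompletion I A :=
  AdicCompletion.mkₐ I (shiftD I D (Function.surjInv (mkₐ_surjective I) x))

theorem Dhat_mk (a : AdicCauchySequence I A) :
    Dhat I D (AdicCompletion.mkₐ I a) = AdicCompletion.mkₐ I (shiftD I D a) := by
  unfold Dhat
  rw [mk_eq_mk_iff]
  intro n
  have h := Function.surjInv_eq (mkₐ_surjective I) (AdicCompletion.mkₐ I a)
  rw [mk_eq_mk_iff] at h
  rw [shiftD_apply, shiftD_apply, ← map_sub]
  exact D_mem_pow I D n _ (h (n + 1))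


theorem Dhat_add (x y : AdicCompletion I A) : Dhat I D (x + y) = Dhat I D x + Dhat I D y := by
  obtain ⟨a, rfl⟩ := mkₐ_surjective I x
  obtain ⟨b, rfl⟩ := mkₐ_surjective I y
  rw [← map_add, Dhat_mk, Dhat_mk, Dhat_mk, ← map_add, mk_eq_mk_iff]
  intro n
  have : shiftD I D (a + b) n - (shiftD I D a + shiftD I D b) n = 0 := by
    show D ((a + b) (n + 1)) - (D (a (n + 1)) + D (b (n + 1))) = 0
    rw [show (a + b) (n + 1) = a (n + 1) + b (n + 1) from rfl, map_add, sub_self]
  rw [this]
  exact zero_mem _

theorem Dhat_mul (x y : AdicCompletion I A) :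
    Dhat I D (x * y) = x * Dhat I D y + y * Dhat I D x := by
  obtain ⟨a, rfl⟩ := mkₐ_surjective I x
  obtain ⟨b, rfl⟩ := mkₐ_surjective I y
  rw [← map_mul, Dhat_mk, Dhat_mk, Dhat_mk, ← map_mul, ← map_mul, ← map_add, mk_eq_mk_iff]
  intro n
  have : shiftD I D (a * b) n - (a * shiftD I D b + b * shiftD I D a) n
      = (a (n + 1) - a n) * D (b (n + 1)) + (b (n + 1) - b n) * D (a (n + 1)) := by
    show D ((a * b) (n + 1)) - (a n * D (b (n + 1)) + b n * D (a (n + 1))) = _
    rw [show (a * b) (n + 1) = a (n + 1) * b (n + 1) from rfl, Derivation.leibniz]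
    simp only [smul_eq_mul]
    ring
  rw [this]
  refine Ideal.add_mem _ ?_ ?_
  · exact Ideal.mul_mem_right _ _ (cauchy_diff I a (Nat.le_succ n))
  · exact Ideal.mul_mem_right _ _ (cauchy_diff I b (Nat.le_succ n))

theorem Dhat_of (r : A) : Dhat I D (algebraMap A (AdicCompletion I A) r) =
    algebraMap A (AdicCompletion I A) (D r) := by
  have h1 : ∀ r : A, algebraMap A (AdicCompletion I A) r =
      AdicCompletion.mkₐ I (algebraMap A (AdicCauchySequence I A) r) := by
    intro r
    rw [AlgHom.commutes]
  rw [h1, h1, Dhat_mk, mk_eq_mk_iff]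
  intro n
  have : shiftD I D (algebraMap A (AdicCauchySequence I A) r) n -
      (algebraMap A (AdicCauchySequence I A) (D r)) n = 0 := by
    show D r - D r = 0
    rw [sub_self]
  rw [this]
  exact zero_mem _

theorem Dhat_algebraMap_k (c : k) : Dhat I D (algebraMap k (AdicCompletion I A) c) = 0 := by
  rw [IsScalarTower.algebraMap_apply k A (AdicCompletion I A), Dhat_of, Derivation.map_algebraMap,
    _root_.map_zero]

theorem exists_Dhat : ∃ Dh : Derivation k (AdicCompletion I A) (AdicCompletion I A),
    ∀ a : A, Dh (algebraMap A (AdicCompletion I A) a) = algebraMap A (AdicCompletion I A) (D a) := by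
  let L : AdicCompletion I A →ₗ[k] AdicCompletion I A :=
    { toFun := Dhat I D
      map_add' := Dhat_add I D
      map_smul' := by
        intro c x
        rw [Algebra.smul_def, Dhat_mul, Dhat_algebraMap_k, mul_zero, add_zero, RingHom.id_apply,
          Algebra.smul_def] }
  refine ⟨Derivation.mk' L ?_, ?_⟩
  · intro x y
    show Dhat I D (x * y) = x • Dhat I D y + y • Dhat I D x
    rw [Dhat_mul]; rfl
  · intro a
    exact Dhat_of I D a


theorem main (k : Type*) [Field k] (A : Type*) [CommRing A] [Algebra k A] [IsRegularLocalRing A]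
    (D : Derivation k A A) :
    ∃ Dhat : Derivation k (AdicCompletion (IsLocalRing.maximalIdeal A) A)
        (AdicCompletion (IsLocalRing.maximalIdeal A) A),
      ∀ a : A, Dhat (algebraMap A (AdicCompletion (IsLocalRing.maximalIdeal A) A) a) =
        algebraMap A (AdicCompletion (IsLocalRing.maximalIdeal A) A) (D a) :=
  exists_Dhat (IsLocalRing.maximalIdeal A) D


end


/-- Let k be a field and A a regular local ring that is a k-algebra, with maximal ideal m and m-adic
completion Â. Then every k-derivation D of A into itself extends to a k-derivation D̂ of Â into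
itself along the canonical map ρ : A → Â, in the sense that D̂(ρ(a)) = ρ(D(a)) for every a ∈ A. (The
source works throughout over an algebraically closed field of characteristic p; neither assumption
enters this statement.) -/
theorem result
    (k : Type u) [Field k] (A : Type v) [CommRing A] [Algebra k A] [IsRegularLocalRing A]
    (D : Derivation k A A) :
    ∃ Dhat : Derivation k (AdicCompletion (IsLocalRing.maximalIdeal A) A)
        (AdicCompletion (IsLocalRing.maximalIdeal A) A),
      ∀ a : A, Dhat (algebraMap A (AdicCompletion (IsLocalRing.maximalIdeal A) A) a) =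
        algebraMap A (AdicCompletion (IsLocalRing.maximalIdeal A) A) (D a) := by
  classical
  exact main k A D

end Groth.Agent.S18156
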