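import Groth.Statements.S9293
import Groth.Agent.Lib.Helper8.GRBase6

set_option autoImplicit false
universe u
open CAlg

namespace Groth.Agent.S9293

/-- If R → Λ is a regular ring map and R' is an R-algebra of finite type, then R' → R' ⊗_R Λ is again
regular. -/
theorem result (R Λ R' : Type u) [CommRing R] [CommRing Λ] [CommRing R']
    [Algebra R Λ] [Algebra R R'] [Algebra.FiniteType R R'] (h : CAlg.IsRegularHom R Λ) :
    CAlg.IsRegularHom R' (TensorProduct R R' Λ) := by
  exact Groth.Agent.Helper8.GRBase.isRegularHom_baseChange R Λ R' h
    (fun p' _ => Groth.Agent.Helper8.GRBase.isNoetherianRing_fiber_baseChange_of_finiteType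
      R Λ R' h p')

end Groth.Agent.S9293
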