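import Groth.Statements.S1570
import Mathlib
import Groth.Agent.Lib.Helper4.EffCartier

set_option autoImplicit false
universe u
open CategoryTheory CategoryTheory.Limits AlgebraicGeometry
open Divisors

namespace Groth.Agent.S1570

open CategoryTheory AlgebraicGeometry TopologicalSpace
namespace H1570
open Groth.Agent.Helper4
/-- a finitely generated ideal all of whose elements are killed (mod a predicate closed under
sums and multiples) by elements outside `p` is uniformly killed -/
theorem exists_uniform {A : Type u} [CommRing A] (J : Ideal A) (hJ : J.FG) (p : Ideal A) [p.IsPrime]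
    (N : Ideal A) (h : ∀ x ∈ J, ∃ u : A, u ∉ p ∧ u * x ∈ N) :
    ∃ r : A, r ∉ p ∧ ∀ x ∈ J, r * x ∈ N := by
  classical
  obtain ⟨T, hT⟩ := hJ
  have hT' : ∀ x ∈ T, x ∈ J := fun x hx => hT ▸ Ideal.subset_span hx
  choose! u hu1 hu2 using h
  refine ⟨∏ x ∈ T, u x, ?_, ?_⟩
  · intro hmem
    obtain ⟨x, hxT, hx⟩ := (Ideal.IsPrime.prod_mem_iff).mp hmem
    exact hu1 x (hT' x hxT) hx
  · intro x hx
    rw [← hT] at hx
    refine Submodule.span_induction ?_ ?_ ?_ ?_ hx
    · intro y hy
      obtain ⟨c, hc⟩ := Finset.dvd_prod_of_mem u hy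
      rw [hc, mul_assoc, mul_comm c, ← mul_assoc]
      exact N.mul_mem_right c (hu2 y (hT' y hy))
    · rw [mul_zero]; exact N.zero_mem
    · intro y z _ _ hy hz
      rw [mul_add]; exact N.add_mem hy hz
    · intro c y _ hy
      rw [smul_eq_mul, mul_left_comm]
      exact N.mul_mem_left c hy

theorem ring_spread (A : Type u) [CommRing A] [IsNoetherianRing A] (I : Ideal A) (p : Ideal A)
    [p.IsPrime] (S : Type u) [CommRing S] [Algebra A S] [IsLocalization.AtPrime S p]
    (g : S) (hg : g ∈ nonZeroDivisors S) (hI : I.map (algebraMap A S) = Ideal.span {g}) :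
    ∃ r : A, r ∉ p ∧ ∃ a ∈ I, ∀ (R' : Type u) [CommRing R'] [Algebra A R']
      [IsLocalization.Away r R'],
      algebraMap A R' a ∈ nonZeroDivisors R' ∧
        I.map (algebraMap A R') = Ideal.span {algebraMap A R' a} := by
  -- Step 1
  have hgI : g ∈ I.map (algebraMap A S) := hI ▸ Ideal.subset_span rfl
  obtain ⟨⟨a, s⟩, has⟩ := (IsLocalization.mem_map_algebraMap_iff p.primeCompl S).mp hgI
  have has : g * algebraMap A S s = algebraMap A S a := has
  have hsu : IsUnit (algebraMap A S (s : A)) := IsLocalization.map_units S s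
  have ha'nzd : algebraMap A S a ∈ nonZeroDivisors S := by
    rw [← has]
    exact Submonoid.mul_mem _ hg hsu.mem_nonZeroDivisors
  have hspan : Ideal.span {algebraMap A S a.1} = Ideal.span {g} := by
    rw [← has]
    obtain ⟨v, hv⟩ := hsu
    rw [← hv, Ideal.span_singleton_mul_right_unit v.isUnit]
  -- Step 2/3
  have h2 : ∀ x ∈ I, ∃ u : A, u ∉ p ∧ u * x ∈ Ideal.span {a.1} := by
    intro x hx
    have hx' : algebraMap A S x ∈ Ideal.span {algebraMap A S a.1} := by
      rw [hspan, ← hI]; exact Ideal.mem_map_of_mem _ hx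
    obtain ⟨c, hc⟩ := Ideal.mem_span_singleton'.mp hx'
    obtain ⟨⟨b', s'⟩, hbs⟩ := IsLocalization.surj p.primeCompl c
    have hbs : c * algebraMap A S s' = algebraMap A S b' := hbs
    have e1 : algebraMap A S (s' * x) = algebraMap A S (b' * a.1) := by
      rw [map_mul, map_mul, ← hbs, ← hc]; ring
    obtain ⟨v, hv⟩ := (IsLocalization.eq_iff_exists p.primeCompl S).mp e1
    refine ⟨v * s', ?_, ?_⟩
    · exact (Submonoid.mul_mem _ v.2 s'.2)
    · rw [mul_assoc, hv, Ideal.mem_span_singleton']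
      exact ⟨v * b', by ring⟩
  obtain ⟨r₁, hr₁, hr₁I⟩ := exists_uniform I (IsNoetherian.noetherian I) p _ h2
  -- Step 4
  let K : Ideal A := (Ideal.span {a.1}).annihilator
  have hK : ∀ k ∈ K, k * a.1 = 0 := by
    intro k hk
    have := Submodule.mem_annihilator.mp hk a.1 (Ideal.subset_span rfl)
    rwa [smul_eq_mul] at this
  have h4 : ∀ k ∈ K, ∃ v : A, v ∉ p ∧ v * k ∈ (⊥ : Ideal A) := by
    intro k hk
    have e : algebraMap A S k * algebraMap A S a.1 = 0 := by
      rw [← map_mul, hK k hk, map_zero]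
    have e0 : algebraMap A S k = 0 := mem_nonZeroDivisors_iff_right.mp ha'nzd _ e
    obtain ⟨v, hv⟩ := (IsLocalization.map_eq_zero_iff p.primeCompl S k).mp e0
    exact ⟨v, v.2, by rw [Ideal.mem_bot]; exact hv⟩
  obtain ⟨r₂, hr₂, hr₂K⟩ := exists_uniform K (IsNoetherian.noetherian K) p _ h4
  -- Step 5
  refine ⟨r₁ * r₂, ?_, a.1, a.2, ?_⟩
  · intro hmem
    rcases Ideal.IsPrime.mem_or_mem inferInstance hmem with h | h
    · exact hr₁ h
    · exact hr₂ h
  intro R' _ _ _
  have hru : IsUnit (algebraMap A R' (r₁ * r₂)) := IsLocalization.Away.algebraMap_isUnit _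
  constructor
  · rw [mem_nonZeroDivisors_iff_right]
    intro z hz
    obtain ⟨⟨y, m⟩, hym⟩ := IsLocalization.surj (Submonoid.powers (r₁ * r₂)) z
    have hym : z * algebraMap A R' m = algebraMap A R' y := hym
    have hmu : IsUnit (algebraMap A R' (m : A)) := IsLocalization.map_units R' m
    have e1 : algebraMap A R' (y * a.1) = 0 := by
      rw [map_mul, ← hym]
      calc z * algebraMap A R' m * algebraMap A R' a.1
          = (z * algebraMap A R' a.1) * algebraMap A R' m := by ring
        _ = 0 := by rw [hz, zero_mul]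
    obtain ⟨l, hl⟩ := (IsLocalization.map_eq_zero_iff (Submonoid.powers (r₁ * r₂)) R' _).mp e1
    have hlK : (l : A) * y ∈ K := by
      rw [Submodule.mem_annihilator_span_singleton, smul_eq_mul, mul_assoc]
      exact hl
    have h0 : r₂ * (l * y) = 0 := by
      have := hr₂K _ hlK
      rwa [Ideal.mem_bot] at this
    have e2 : algebraMap A R' y = 0 := by
      rw [IsLocalization.map_eq_zero_iff (Submonoid.powers (r₁ * r₂)) R']
      refine ⟨⟨(r₁ * r₂), 1, pow_one _⟩ * l, ?_⟩
      show r₁ * r₂ * l * y = 0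
      calc r₁ * r₂ * l * y = r₁ * (r₂ * (l * y)) := by ring
        _ = 0 := by rw [h0, mul_zero]
    rw [e2] at hym
    exact (hmu.mul_left_eq_zero).mp hym
  · apply le_antisymm
    · rw [Ideal.map_le_iff_le_comap]
      intro x hx
      rw [Ideal.mem_comap]
      obtain ⟨b, hb⟩ := Ideal.mem_span_singleton'.mp (hr₁I x hx)
      obtain ⟨w, hw⟩ := hru
      rw [Ideal.mem_span_singleton']
      refine ⟨↑w⁻¹ * algebraMap A R' (r₂ * b), ?_⟩
      have e3 : algebraMap A R' (r₂ * b) * algebraMap A R' a.1 = ↑w * algebraMap A R' x := by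
        rw [hw, ← map_mul, ← map_mul]
        congr 1
        calc r₂ * b * a.1 = r₂ * (b * a.1) := by ring
          _ = r₂ * (r₁ * x) := by rw [hb]
          _ = r₁ * r₂ * x := by ring
      rw [mul_assoc, e3, ← mul_assoc, Units.inv_mul, one_mul]
    · rw [Ideal.span_le, Set.singleton_subset_iff]
      exact Ideal.mem_map_of_mem _ a.2



theorem main (X : Scheme.{u}) [IsLocallyNoetherian X]
    (D : X.IdealSheafData)
    (h : ∀ x ∈ D.support, ∀ (U : X.affineOpens) (hx : x ∈ (U : X.Opens)),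
      ∃ g : X.presheaf.stalk x, g ∈ nonZeroDivisors (X.presheaf.stalk x) ∧
        (D.ideal U).map (X.presheaf.germ U x hx).hom = Ideal.span {g}) :
    BlowUp.IsEffCartierIdeal D := by
  intro x
  obtain ⟨U, hU, hxU, -⟩ := Opens.isBasis_iff_nbhd.mp (X.isBasis_affineOpens)
    (show x ∈ (⊤ : X.Opens) from trivial)
  by_cases hxs : x ∈ D.support
  · obtain ⟨g, hg, hgI⟩ := h x hxs ⟨U, hU⟩ hxU
    have hnoeth : IsNoetherianRing Γ(X, U) := IsLocallyNoetherian.component_noetherian ⟨U, hU⟩
    let _ := TopCat.Presheaf.algebra_section_stalk X.presheaf (⟨x, hxU⟩ : U)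
    have hloc : IsLocalization.AtPrime (X.presheaf.stalk x) (hU.primeIdealOf ⟨x, hxU⟩).asIdeal :=
      hU.isLocalization_stalk ⟨x, hxU⟩
    obtain ⟨r, hr, a, ha, hkey⟩ := ring_spread Γ(X, U) (D.ideal ⟨U, hU⟩)
      (hU.primeIdealOf ⟨x, hxU⟩).asIdeal (X.presheaf.stalk x) g hg hgI
    have hxr : x ∈ X.basicOpen r := by
      rw [Scheme.mem_basicOpen _ _ _ hxU]
      by_contra hnu
      apply hr
      rw [← IsLocalization.AtPrime.under_maximalIdeal (X.presheaf.stalk x)
        (hU.primeIdealOf ⟨x, hxU⟩).asIdeal, Ideal.mem_comap, IsLocalRing.mem_maximalIdeal]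
      exact hnu
    have hlocr := hU.isLocalization_basicOpen r
    obtain ⟨h1, h2⟩ := hkey Γ(X, X.basicOpen r)
    refine ⟨X.affineBasicOpen (U := ⟨U, hU⟩) r, hxr, algebraMap Γ(X, U) Γ(X, X.basicOpen r) a, h1, ?_⟩
    rw [← D.map_ideal_basicOpen ⟨U, hU⟩ r]
    exact h2
  · rw [Scheme.IdealSheafData.mem_support_iff_of_mem (U := ⟨U, hU⟩) hxU,
      Scheme.mem_zeroLocus_iff] at hxs
    push Not at hxs
    obtain ⟨f, hf, hxf⟩ := hxs
    refine ⟨X.affineBasicOpen (U := ⟨U, hU⟩) f, hxf, 1, one_mem _, ?_⟩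
    rw [← D.map_ideal_basicOpen ⟨U, hU⟩ f, Ideal.span_singleton_one]
    exact Ideal.eq_top_of_isUnit_mem _ (Ideal.mem_map_of_mem _ hf)
      (X.toRingedSpace.isUnit_res_basicOpen f)

end H1570

/-- Let X be locally Noetherian and D a closed subscheme with ideal sheaf I. If for every point x of D
the ideal generated by I in the local ring at x is generated by one nonzerodivisor, then D is an
effective Cartier divisor. -/
theorem result (X : Scheme.{u}) [IsLocallyNoetherian X]
    (D : X.IdealSheafData)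
    (h : ∀ x ∈ D.support, ∀ (U : X.affineOpens) (hx : x ∈ (U : X.Opens)),
      ∃ g : X.presheaf.stalk x, g ∈ nonZeroDivisors (X.presheaf.stalk x) ∧
        (D.ideal U).map (X.presheaf.germ U x hx).hom = Ideal.span {g}) :
    BlowUp.IsEffCartierIdeal D := by
  exact H1570.main X D h

end Groth.Agent.S1570
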