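import Groth.Statements.S8914
import Mathlib
import Groth.Agent.Lib.Lead.IdM2
import Groth.Agent.Lib.Helper4.EffCartier
import Groth.Agent.Lib.Helper1.TwistAmple

set_option autoImplicit false
universe u
open CategoryTheory CategoryTheory.Limits AlgebraicGeometry TopologicalSpace
open SDiv

namespace Groth.Agent.S8914

section
open CategoryTheory AlgebraicGeometry

open Groth.Agent.Lead.IdM Groth.Agent.Lead.BCU Groth.Agent.Helper1 TopologicalSpace

variable {S : Scheme.{u}} (𝓘 : S.IdealSheafData)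

theorem forward (h : PicF.IsInvertible (ClSub.idealMod 𝓘)) : BlowUp.IsEffCartierIdeal 𝓘 := by
  intro x
  obtain ⟨U, hxU, ⟨e⟩⟩ := h x
  obtain ⟨_, ⟨W', hW', rfl⟩, hxW', -⟩ := (U : Scheme).isBasis_affineOpens.exists_subset_of_mem_open
    (Set.mem_univ (⟨x, hxU⟩ : ↥U)) isOpen_univ
  have hW : IsAffineOpen (U.ι ''ᵁ W') := hW'.image_of_isOpenImmersion U.ι
  refine ⟨⟨U.ι ''ᵁ W', hW⟩, ⟨⟨x, hxU⟩, hxW', rfl⟩, ?_⟩
  -- the generator
  let one' : Γ(Coh.structureModule (U : Scheme), W') := (1 : Γ((U : Scheme), W'))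
  let m₁ : Γ(ClSub.idealMod 𝓘, U.ι ''ᵁ W') := e.inv.app W' one'
  have key : ∀ c : Γ(S, U.ι ''ᵁ W'), c • m₁ =
      e.inv.app W' (show Γ(Coh.structureModule (U : Scheme), W') from (U.ι.appIso W').hom.hom c) := by
    intro c
    have h1 := Scheme.Modules.Hom.app_smul e.inv ((U.ι.appIso W').hom.hom c) one'
    have h2 : ((U.ι.appIso W').hom.hom c) • one' =
        (show Γ(Coh.structureModule (U : Scheme), W') from (U.ι.appIso W').hom.hom c) :=
      mul_one ((U.ι.appIso W').hom.hom c)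
    rw [h2] at h1
    rw [h1]
    change c • m₁ = ((U.ι.appIso W').inv.hom ((U.ι.appIso W').hom.hom c)) • m₁
    congr 1
    exact (congrArg (fun f => f.hom c) (U.ι.appIso W').hom_inv_id).symm
  have hinj : Function.Injective (e.inv.app W') := by
    intro a b hab
    have h1 := congrArg (e.hom.app W') hab
    have h2 : ∀ t, e.hom.app W' (e.inv.app W' t) = t := by
      intro t
      change (e.inv.app W' ≫ e.hom.app W') t = t
      rw [← Scheme.Modules.Hom.comp_app, e.inv_hom_id]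
      rfl
    rw [h2, h2] at h1
    exact h1
  have hsurj : ∀ n : Γ(ClSub.idealMod 𝓘, U.ι ''ᵁ W'), ∃ c : Γ(S, U.ι ''ᵁ W'), c • m₁ = n := by
    intro n
    refine ⟨(U.ι.appIso W').inv.hom (e.hom.app W' n), ?_⟩
    rw [key]
    have h3 : (U.ι.appIso W').hom.hom ((U.ι.appIso W').inv.hom (e.hom.app W' n)) =
        e.hom.app W' n :=
      congrArg (fun f => f.hom (e.hom.app W' n)) (U.ι.appIso W').inv_hom_id
    rw [h3]
    change (e.hom.app W' ≫ e.inv.app W') n = n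
    rw [← Scheme.Modules.Hom.comp_app, e.hom_inv_id]
    rfl
  refine ⟨ιL 𝓘 (U.ι ''ᵁ W') m₁, ?_, ?_⟩
  · rw [mem_nonZeroDivisors_iff_right]
    intro c hc
    have h1 : ιL 𝓘 (U.ι ''ᵁ W') (c • m₁) = 0 := by
      rw [map_smul, smul_eq_mul]
      exact hc
    have h2 : c • m₁ = 0 := ιL_injective 𝓘 _ (h1.trans (map_zero _).symm)
    rw [key] at h2
    have h3 := hinj (h2.trans (map_zero (e.inv.app W').hom).symm)
    have h4 : (U.ι.appIso W').hom.hom c = (U.ι.appIso W').hom.hom 0 := h3.trans (map_zero _).symm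
    exact (ConcreteCategory.bijective_of_isIso (U.ι.appIso W').hom).1 h4
  · rw [← range_ιL 𝓘 ⟨U.ι ''ᵁ W', hW⟩]
    ext r
    constructor
    · rintro ⟨n, rfl⟩
      obtain ⟨c, rfl⟩ := hsurj n
      rw [map_smul, smul_eq_mul]
      exact Ideal.mem_span_singleton'.2 ⟨c, rfl⟩
    · intro hr
      obtain ⟨c, rfl⟩ := Ideal.mem_span_singleton'.1 hr
      exact ⟨c • m₁, by rw [map_smul, smul_eq_mul]⟩

theorem backward (h : BlowUp.IsEffCartierIdeal 𝓘) : PicF.IsInvertible (ClSub.idealMod 𝓘) := by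
  intro x
  obtain ⟨W, hxW, f, hf, hI⟩ := h x
  refine ⟨W.1, hxW, ?_⟩
  have hle : ∀ V : (W.1 : Scheme).Opens, W.1.ι ''ᵁ V ≤ W.1 := by
    rintro V _ ⟨y, -, rfl⟩
    exact y.2
  have hWtop : IsAffineOpen (W.1.ι ''ᵁ (⊤ : (W.1 : Scheme).Opens)) := by
    rw [Scheme.Opens.ι_image_top]
    exact W.2
  obtain ⟨-, hI0⟩ := Groth.Agent.Helper4.EffCartier.restrict 𝓘 W f hf hI ⟨_, hWtop⟩ (hle ⊤)
  obtain ⟨m₀, hm₀⟩ : ∃ m₀ : Γ(ClSub.idealMod 𝓘, W.1.ι ''ᵁ (⊤ : (W.1 : Scheme).Opens)),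
      ιL 𝓘 _ m₀ = (S.presheaf.map (homOfLE (hle ⊤)).op).hom f := by
    have : (S.presheaf.map (homOfLE (hle ⊤)).op).hom f ∈ LinearMap.range (ιL 𝓘 _) := by
      rw [range_ιL 𝓘 ⟨_, hWtop⟩, hI0]
      exact Ideal.mem_span_singleton_self _
    exact this
  let N : (W.1 : Scheme).Modules := (ClSub.idealMod 𝓘).restrict W.1.ι
  let b : Coh.structureModule (W.1 : Scheme) ⟶ N := TwistAmple.homOfSec N m₀
  have hb : ∀ (V : (W.1 : Scheme).Opens) (r : Γ((W.1 : Scheme), V)),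
      ιL 𝓘 (W.1.ι ''ᵁ V) (b.app V r) =
        (W.1.ι.appIso V).inv.hom r * (S.presheaf.map (homOfLE (hle V)).op).hom f := by
    intro V r
    have h1 : b.app V r = r • N.presheaf.map (homOfLE (le_top : V ≤ ⊤)).op m₀ :=
      TwistAmple.homOfSec_app N m₀ V r
    have h2 : (r • N.presheaf.map (homOfLE (le_top : V ≤ ⊤)).op m₀ : Γ(N, V)) =
        ((W.1.ι.appIso V).inv.hom r) • ((ClSub.idealMod 𝓘).presheaf.map
          (homOfLE (W.1.ι.image_mono (le_top : V ≤ ⊤))).op m₀ :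
            Γ(ClSub.idealMod 𝓘, W.1.ι ''ᵁ V)) := rfl
    rw [h1, h2, map_smul, smul_eq_mul, ιL_res, hm₀]
    congr 1
    rw [← CommRingCat.comp_apply, ← Functor.map_comp]
    rfl
  have : IsIso b := by
    apply isIso_of_bijective_nhds
    intro O y hy
    obtain ⟨_, ⟨V, hV, rfl⟩, hyV, hVO⟩ :=
      (W.1 : Scheme).isBasis_affineOpens.exists_subset_of_mem_open hy O.2
    refine ⟨V, hVO, hyV, ?_⟩
    have hV' : IsAffineOpen (W.1.ι ''ᵁ V) := hV.image_of_isOpenImmersion W.1.ι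
    obtain ⟨hfV, hIV⟩ := Groth.Agent.Helper4.EffCartier.restrict 𝓘 W f hf hI ⟨_, hV'⟩ (hle V)
    constructor
    · intro r r' hrr
      have h1 := congrArg (ιL 𝓘 (W.1.ι ''ᵁ V)) hrr
      rw [hb, hb] at h1
      have h2 : ((W.1.ι.appIso V).inv.hom r - (W.1.ι.appIso V).inv.hom r') *
          (S.presheaf.map (homOfLE (hle V)).op).hom f = 0 := by
        rw [sub_mul, h1, sub_self]
      have h3 := (mem_nonZeroDivisors_iff_right.1 hfV) _ h2
      have h4 : (W.1.ι.appIso V).inv.hom r = (W.1.ι.appIso V).inv.hom r' := sub_eq_zero.1 h3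
      exact (ConcreteCategory.bijective_of_isIso (W.1.ι.appIso V).inv).1 h4
    · intro n
      change Γ(ClSub.idealMod 𝓘, W.1.ι ''ᵁ V) at n
      have h1 : ιL 𝓘 (W.1.ι ''ᵁ V) n ∈ LinearMap.range (ιL 𝓘 (W.1.ι ''ᵁ V)) := ⟨n, rfl⟩
      rw [range_ιL 𝓘 ⟨_, hV'⟩, hIV] at h1
      obtain ⟨c, hc⟩ := Ideal.mem_span_singleton'.1 h1
      refine ⟨(W.1.ι.appIso V).hom.hom c, ?_⟩
      apply ιL_injective 𝓘 (W.1.ι ''ᵁ V)
      rw [hb, ← hc]
      congr 1
      exact congrArg (fun g => g.hom c) (W.1.ι.appIso V).hom_inv_id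
  exact ⟨(asIso b).symm⟩

theorem main : PicF.IsInvertible (ClSub.idealMod 𝓘) ↔ BlowUp.IsEffCartierIdeal 𝓘 :=
  ⟨forward 𝓘, backward 𝓘⟩


end


/-- Let S be a scheme and D ⊆ S a closed subscheme with quasi-coherent ideal sheaf 𝓘. Then the ideal
sheaf of D is an invertible O_S-module (that is, D is an effective Cartier divisor) if and only if
every point has an affine open neighbourhood Spec A in S with D ∩ Spec A = Spec A/(f) for a
nonzerodivisor f ∈ A. -/
theorem result {S : Scheme.{u}} (𝓘 : S.IdealSheafData) :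
    PicF.IsInvertible (ClSub.idealMod 𝓘) ↔ BlowUp.IsEffCartierIdeal 𝓘 := by
  classical
  exact main 𝓘

end Groth.Agent.S8914
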