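import Groth.Statements.S6151
import Groth.Agent.Lib.Helper3.NerveRes
import Groth.Agent.Lib.Helper3.AcyRes
import Groth.Agent.Lib.Helper3.CechExt

set_option autoImplicit false
universe u
open CategoryTheory
open CohSite

namespace Groth.Agent.S6151

open CategoryTheory.Limits Simplicial in
/-- the differential of the Čech nerve complex is precomposition with the differential of the
complex of free sheaves -/
lemma cechNerveCx_d {C : Type u} [SmallCategory C] {J : GrothendieckTopology C}
    (F : Sheaf J AddCommGrpCat.{u}) {K' K : Sheaf J (Type u)} (f : K' ⟶ K) (n : ℕ)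
    (x : (AlgebraicTopology.AlternatingFaceMapComplex.obj (Groth.Agent.Helper3.NerveRes.Xs J f).left).X n ⟶ F) :
    ((CohCx.cechNerveCx F f).d n (n + 1)).hom x =
      (AlgebraicTopology.AlternatingFaceMapComplex.obj (Groth.Agent.Helper3.NerveRes.Xs J f).left).d (n + 1) n ≫ x := by
  have hL : (AlgebraicTopology.AlternatingFaceMapComplex.obj (Groth.Agent.Helper3.NerveRes.Xs J f).left).d (n + 1) n =
      ∑ j : Fin (n + 2), (-1 : ℤ) ^ (j : ℕ) •
        SimplicialObject.δ (Groth.Agent.Helper3.NerveRes.Xs J f).left j :=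
    AlgebraicTopology.AlternatingFaceMapComplex.obj_d_eq _ n
  have hR : (CohCx.cechNerveCx F f).d n (n + 1) =
      ∑ j : Fin (n + 2), (-1 : ℤ) ^ (j : ℕ) •
        CosimplicialObject.δ ((Arrow.mk f).cechNerve.rightOp ⋙ CohCx.HK0Functor J F) j := by
    exact CochainComplex.of_d (V := AddCommGrpCat.{u}) _
      (AlgebraicTopology.AlternatingCofaceMapComplex.objD
        ((Arrow.mk f).cechNerve.rightOp ⋙ CohCx.HK0Functor J F)) n
  rw [hL, hR, Preadditive.sum_comp]
  refine (Groth.Agent.Helper3.CechExt.hom_sum_apply _ _ _).trans ?_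
  refine Finset.sum_congr rfl fun j _ => ?_
  rw [Preadditive.zsmul_comp]
  refine (Groth.Agent.Helper3.CechExt.hom_zsmul_apply _ _ _).trans ?_
  rfl

open CategoryTheory.Limits in
/-- Abelian sheaves on the topos of sheaves of sets on a small site: if F is flasque (totally acyclic:
H^q(K, F) = 0 for all sheaves of sets K and q > 0), then for every epimorphism of sheaves of sets K'
-> K the Cech cohomology groups H^q(K'/K, F), computed from the complex H^0(K', F) -> H^0(K' x_K K',
F) -> ..., vanish for all q > 0. (An epimorphic family (X_i -> X) is replaced here by the single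
epimorphism from its coproduct, which has the same Cech complex.) -/
theorem result {C : Type u} [SmallCategory C] {J : GrothendieckTopology C}
    (F : Sheaf J AddCommGrpCat.{u}) (hF : CohCx.IsTotallyAcyclic F) {K' K : Sheaf J (Type u)} (f : K' ⟶ K) [Epi f]
    (q : ℕ) : IsZero ((CohCx.cechNerveCx F f).homology (q + 1)) := by
  have hqi := Groth.Agent.Helper3.NerveRes.quasiIso_sheaf J f
  have key := Groth.Agent.Helper3.AcyRes.exists_lift
    (AlgebraicTopology.AlternatingFaceMapComplex.obj (Groth.Agent.Helper3.NerveRes.Xs J f).left)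
    (Groth.Agent.Helper3.NerveRes.Xs J f).right
    (AlgebraicTopology.AlternatingFaceMapComplex.ε.app (Groth.Agent.Helper3.NerveRes.Xs J f)) F
    (fun n p x => (hF ((Arrow.mk f).cechNerve.obj (Opposite.op (SimplexCategory.mk n))) p).elim x 0)
    (fun p x => (hF K p).elim x 0)
  rw [← HomologicalComplex.exactAt_iff_isZero_homology,
    (CohCx.cechNerveCx F f).exactAt_iff' q (q + 1) (q + 2) (by simp) (by simp),
    ShortComplex.ab_exact_iff]
  intro x hx
  have hx' : (AlgebraicTopology.AlternatingFaceMapComplex.obj
      (Groth.Agent.Helper3.NerveRes.Xs J f).left).d (q + 2) (q + 1) ≫ x = 0 :=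
    (cechNerveCx_d F f (q + 1) x).symm.trans hx
  obtain ⟨χ, hχ⟩ := key q x hx'
  exact ⟨χ, (cechNerveCx_d F f q χ).trans hχ⟩


end Groth.Agent.S6151
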