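import Groth.Statements.S3089
import Mathlib

set_option autoImplicit false
universe u
open CategoryTheory
open CohSite

open CategoryTheory CategoryTheory.Limits Opposite Abelian
namespace Groth.Agent.S3089

variable {C : Type u} [SmallCategory C] (J : GrothendieckTopology C)

/-- the free abelian sheaf functor on sheaves of sets -/
noncomputable abbrev Z : Sheaf J (Type u) ⥤ Sheaf J AddCommGrpCat.{u} :=
  sheafToPresheaf J (Type u) ⋙ (Functor.whiskeringRight _ _ _).obj AddCommGrpCat.free.{u} ⋙
    presheafToSheaf J AddCommGrpCat.{u}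

instance : (Z J).IsLeftAdjoint :=
  inferInstanceAs (Sheaf.composeAndSheafify J AddCommGrpCat.free.{u}).IsLeftAdjoint

instance : ((Functor.whiskeringRight Cᵒᵖ _ _).obj AddCommGrpCat.free.{u}).PreservesMonomorphisms where
  preserves {P Q} f hf := by
    have : ∀ U, Mono (f.app U) := fun U => inferInstance
    have : ∀ U, Mono ((((Functor.whiskeringRight Cᵒᵖ _ _).obj AddCommGrpCat.free.{u}).map f).app U) := by
      intro U
      change Mono (AddCommGrpCat.free.{u}.map (f.app U))
      infer_instance
    exact NatTrans.mono_of_mono_app _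

instance : (Z J).PreservesMonomorphisms where
  preserves {X Y} f hf := by
    have h1 : Mono ((sheafToPresheaf J (Type u)).map f) := inferInstance
    have h2 : Mono (((Functor.whiskeringRight Cᵒᵖ _ _).obj AddCommGrpCat.free.{u}).map
        ((sheafToPresheaf J (Type u)).map f)) := inferInstance
    have h3 : Mono ((presheafToSheaf J AddCommGrpCat.{u}).map
        (((Functor.whiskeringRight Cᵒᵖ _ _).obj AddCommGrpCat.free.{u}).map
          ((sheafToPresheaf J (Type u)).map f))) := inferInstance
    exact h3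

/-- the Mayer–Vietoris trick in an abelian category -/
theorem lift_of_isPushout {A : Type*} [Category A] [Abelian A] [HasExt A] {P Q R : A} {a : P ⟶ Q}
    {i₁ i₂ : Q ⟶ R} (sq : IsPushout a a i₁ i₂) [Mono a] (F : A)
    (hsub : Subsingleton (Ext R F 1)) (φ : P ⟶ F) : ∃ ψ : Q ⟶ F, a ≫ ψ = φ := by
  let S : ShortComplex A := ShortComplex.mk (biprod.lift a (-a)) (biprod.desc i₁ i₂)
    (by simp [sq.w])
  have hS : S.ShortExact :=
    { exact := ShortComplex.exact_of_g_is_cokernel _ sq.isColimitCokernelCofork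
      mono_f := by
        have : Mono (S.f ≫ biprod.fst) := by
          dsimp [S]
          rw [biprod.lift_fst]
          infer_instance
        exact mono_of_mono _ biprod.fst
      epi_g := sq.epi_shortComplex_g }
  obtain ⟨x₂, hx₂⟩ := Ext.contravariant_sequence_exact₁ hS F (Ext.mk₀ φ)
    (n₁ := 1) (by omega) (Subsingleton.elim _ _)
  obtain ⟨ψ, rfl⟩ := (Ext.mk₀_bijective _ _).2 x₂
  rw [Ext.mk₀_comp_mk₀] at hx₂
  have hφ : biprod.lift a (-a) ≫ ψ = φ := (Ext.mk₀_bijective _ _).1 hx₂
  refine ⟨biprod.inl ≫ ψ - biprod.inr ≫ ψ, ?_⟩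
  rw [← hφ]
  have hψ : ψ = biprod.desc (biprod.inl ≫ ψ) (biprod.inr ≫ ψ) := by
    apply biprod.hom_ext'
    · rw [biprod.inl_desc]
    · rw [biprod.inr_desc]
  conv_rhs => rw [hψ, biprod.lift_desc]
  rw [Preadditive.comp_sub, Preadditive.neg_comp, sub_eq_add_neg]

theorem main (F : Sheaf J AddCommGrpCat.{u}) (hF : CohCx.IsTotallyAcyclic F)
    {Y X : Sheaf J (Type u)} (ι : Y ⟶ X) [Mono ι] :
    Function.Surjective ((CohCx.HK0Functor J F).map ι.op) := by
  have sq : IsPushout ι ι (pushout.inl ι ι) (pushout.inr ι ι) := IsPushout.of_hasPushout ι ι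
  have sqZ : IsPushout ((Z J).map ι) ((Z J).map ι) ((Z J).map (pushout.inl ι ι))
      ((Z J).map (pushout.inr ι ι)) := sq.map (Z J)
  have hmono : Mono ((Z J).map ι) := (Z J).map_mono ι
  intro φ
  obtain ⟨ψ, hψ⟩ := lift_of_isPushout sqZ F (hF (pushout ι ι) 0) φ
  exact ⟨ψ, hψ⟩

end Groth.Agent.S3089

namespace Groth.Agent.S3089

open Opposite in
/-- For abelian sheaves on the topos of sheaves of sets on a small site: let F be an abelian sheaf which
is totally acyclic, i.e. H^q(X, F) = 0 for every sheaf of sets X and every q > 0, and let Y -> X be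
a monomorphism of sheaves of sets. Then the restriction map H^0(X, F) -> H^0(Y, F) is surjective. -/
theorem result {C : Type u} [SmallCategory C] {J : GrothendieckTopology C}
    (F : Sheaf J AddCommGrpCat.{u}) (hF : CohCx.IsTotallyAcyclic F) {Y X : Sheaf J (Type u)} (ι : Y ⟶ X) [Mono ι] :
    Function.Surjective ((CohCx.HK0Functor J F).map ι.op) := by
  exact main J F hF ι

end Groth.Agent.S3089
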