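import Groth.Statements.S2068
import Mathlib

set_option autoImplicit false
universe u
open CategoryTheory
attribute [local instance] HasDerivedCategory.standard
open CAlg

namespace Groth.Agent.S2068

section
open CategoryTheory

attribute [local instance] HasDerivedCategory.standard

/-- kernel of a split surjection onto a projective module from a finite projective module -/
theorem ker_fin_proj {A : Type u} [CommRing A] {M N : Type u} [AddCommGroup M] [AddCommGroup N]
    [Module A M] [Module A N] [Module.Finite A M] [Module.Projective A M] [Module.Projective A N]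
    (f : M →ₗ[A] N) (hf : Function.Surjective f) :
    Module.Finite A (LinearMap.ker f) ∧ Module.Projective A (LinearMap.ker f) := by
  obtain ⟨s, hs⟩ := Module.projective_lifting_property f LinearMap.id hf
  have hs' : ∀ x, f (s x) = x := fun x => by
    have := congrArg (fun g => g x) hs
    simpa using this
  -- retraction
  let r : M →ₗ[A] LinearMap.ker f :=
    LinearMap.codRestrict (LinearMap.ker f) (LinearMap.id - s.comp f) (by
      intro x
      simp [LinearMap.mem_ker, hs'])
  have hr : r.comp (LinearMap.ker f).subtype = LinearMap.id := by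
    ext ⟨x, hx⟩
    simp only [LinearMap.mem_ker] at hx
    simp [r, hx]
  have hrs : Function.Surjective r := by
    intro x
    exact ⟨x.1, by
      have := congrArg (fun g => g x) hr
      simpa using this⟩
  exact ⟨Module.Finite.of_surjective r hrs, Module.Projective.of_split _ r hr⟩

theorem ker_proj {A : Type u} [CommRing A] (E : CochainComplex (ModuleCat.{u} A) ℤ)
    (hE : ∀ i, Module.Finite A (E.X i) ∧ Module.Projective A (E.X i))
    (b : ℤ) (hb : ∀ i, b < i → Limits.IsZero (E.X i)) (m : ℤ)
    (hex : ∀ i, m < i → E.ExactAt i) :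
    ∀ (k : ℕ) (j : ℤ), m ≤ j → b ≤ j + k →
      Module.Finite A (LinearMap.ker (E.d j (j+1)).hom) ∧
        Module.Projective A (LinearMap.ker (E.d j (j+1)).hom) := by
  intro k
  induction k with
  | zero =>
    intro j _ hbj
    have hz : Limits.IsZero (E.X (j+1)) := hb _ (by omega)
    have hd : (E.d j (j+1)).hom = 0 := by
      have : E.d j (j+1) = 0 := hz.eq_of_tgt _ _
      rw [this]; rfl
    rw [hd, LinearMap.ker_zero]
    have := (hE j).1
    have := (hE j).2
    let e : (⊤ : Submodule A (E.X j)) ≃ₗ[A] E.X j := Submodule.topEquiv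
    exact ⟨Module.Finite.equiv e.symm, Module.Projective.of_equiv e.symm⟩
  | succ k ih =>
    intro j hmj hbj
    obtain ⟨h1, h2⟩ := ih (j+1) (by omega) (by push_cast at hbj ⊢; omega)
    have hexj : E.ExactAt (j+1) := hex _ (by omega)
    rw [HomologicalComplex.exactAt_iff' E j (j+1) (j+1+1) (by simp) (by simp)] at hexj
    rw [ShortComplex.moduleCat_exact_iff_range_eq_ker] at hexj
    replace hexj : LinearMap.range (E.d j (j+1)).hom = LinearMap.ker (E.d (j+1) (j+1+1)).hom := hexj
    have := (hE j).1
    have := (hE j).2
    let f : E.X j →ₗ[A] LinearMap.ker (E.d (j+1) (j+1+1)).hom :=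
      LinearMap.codRestrict _ (E.d j (j+1)).hom (by
        intro x
        rw [← hexj]
        exact ⟨x, rfl⟩)
    have hf : Function.Surjective f := by
      rintro ⟨y, hy⟩
      rw [← hexj] at hy
      obtain ⟨x, hx⟩ := hy
      exact ⟨x, Subtype.ext hx⟩
    have hk : LinearMap.ker f = LinearMap.ker (E.d j (j+1)).hom := by
      ext x
      simp [f, LinearMap.mem_ker, Subtype.ext_iff]
    rw [← hk]
    exact ker_fin_proj f hf

noncomputable def homIso {A : Type u} [CommRing A] (E : CochainComplex (ModuleCat.{u} A) ℤ) (j : ℤ) :
    E.homology j ≅ ModuleCat.of A (LinearMap.ker (E.sc' (j-1) j (j+1)).g.hom ⧸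
      LinearMap.range (E.sc' (j-1) j (j+1)).moduleCatToCycles) :=
  ShortComplex.homologyMapIso (E.isoSc' (j-1) j (j+1) (by simp) (by simp)) ≪≫
    (E.sc' (j-1) j (j+1)).moduleCatHomologyIso

theorem homology_fin {A : Type u} [CommRing A] (E : CochainComplex (ModuleCat.{u} A) ℤ) (j : ℤ)
    (h1 : Module.Finite A (LinearMap.ker (E.d j (j+1)).hom)) :
    Module.Finite A (E.homology j) := by
  have : Module.Finite A (LinearMap.ker (E.sc' (j-1) j (j+1)).g.hom) := h1
  exact Module.Finite.equiv (homIso E j).symm.toLinearEquiv

theorem homology_fp {A : Type u} [CommRing A] (E : CochainComplex (ModuleCat.{u} A) ℤ) (j : ℤ)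
    (hX : Module.Finite A (E.X (j-1)))
    (h1 : Module.Finite A (LinearMap.ker (E.d j (j+1)).hom))
    (h2 : Module.Projective A (LinearMap.ker (E.d j (j+1)).hom)) :
    Module.FinitePresentation A (E.homology j) := by
  have : Module.Finite A (LinearMap.ker (E.sc' (j-1) j (j+1)).g.hom) := h1
  have : Module.Projective A (LinearMap.ker (E.sc' (j-1) j (j+1)).g.hom) := h2
  have : Module.Finite A ((E.sc' (j-1) j (j+1)).X₁) := hX
  have : Module.FinitePresentation A (LinearMap.ker (E.sc' (j-1) j (j+1)).g.hom) :=
    Module.finitePresentation_of_projective _ _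
  have : Module.FinitePresentation A (LinearMap.ker (E.sc' (j-1) j (j+1)).g.hom ⧸
      LinearMap.range (E.sc' (j-1) j (j+1)).moduleCatToCycles) := by
    refine Module.finitePresentation_of_surjective
      (LinearMap.range (E.sc' (j-1) j (j+1)).moduleCatToCycles).mkQ
      (Submodule.mkQ_surjective _) ?_
    rw [Submodule.ker_mkQ, LinearMap.range_eq_map]
    exact Submodule.FG.map _ Module.Finite.fg_top
  exact Module.FinitePresentation.of_equiv (homIso E j).symm.toLinearEquiv

theorem exact_of_zero {A : Type u} [CommRing A] (K : Dual.D A) (E : DRing.Cx A)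
    (α : DRing.toD E ⟶ K) (i : ℤ)
    (hα : IsIso ((DerivedCategory.homologyFunctor (ModuleCat.{u} A) i).map α))
    (hz : Limits.IsZero ((DerivedCategory.homologyFunctor (ModuleCat.{u} A) i).obj K)) :
    E.ExactAt i := by
  rw [HomologicalComplex.exactAt_iff_isZero_homology]
  have h1 : Limits.IsZero ((DerivedCategory.homologyFunctor (ModuleCat.{u} A) i).obj (DRing.toD E)) :=
    hz.of_iso (asIso ((DerivedCategory.homologyFunctor (ModuleCat.{u} A) i).map α))
  exact h1.of_iso ((DerivedCategory.homologyFunctorFactors (ModuleCat.{u} A) i).app E).symm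

theorem main {A : Type u} [CommRing A] (K : Dual.D A) (m : ℤ)
    (hK : DRing.IsPseudoCoherent A m K) :
    ((∀ i : ℤ, m < i → Limits.IsZero ((DerivedCategory.homologyFunctor (ModuleCat.{u} A) i).obj K)) →
        Module.Finite A ((DerivedCategory.homologyFunctor (ModuleCat.{u} A) m).obj K)) ∧
      ((∀ i : ℤ, m + 1 < i → Limits.IsZero ((DerivedCategory.homologyFunctor (ModuleCat.{u} A) i).obj K)) →
        Module.FinitePresentation A ((DerivedCategory.homologyFunctor (ModuleCat.{u} A) (m + 1)).obj K)) := by
  obtain ⟨E, a, b, α, hab, hff, hiso, hepi⟩ := hK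
  have hE : ∀ i, Module.Finite A (E.X i) ∧ Module.Projective A (E.X i) := fun i => by
    obtain ⟨h1, h2⟩ := hff i
    exact ⟨h1, inferInstance⟩
  have hb : ∀ i, b < i → Limits.IsZero (E.X i) := fun i hi => hab i (Or.inr hi)
  constructor
  · intro hz
    have hex : ∀ i, m < i → E.ExactAt i := fun i hi => exact_of_zero K E α i (hiso i hi) (hz i hi)
    obtain ⟨h1, -⟩ := ker_proj E hE b hb m hex (b - m).toNat m le_rfl (by
      have := Int.self_le_toNat (b - m); omega)
    have hfin : Module.Finite A
        ((HomologicalComplex.homologyFunctor (ModuleCat.{u} A) (ComplexShape.up ℤ) m).obj E) :=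
      homology_fin E m h1
    let e := (DerivedCategory.homologyFunctorFactors (ModuleCat.{u} A) m).app E
    have hfin' : Module.Finite A
        ((DerivedCategory.homologyFunctor (ModuleCat.{u} A) m).obj (DRing.toD E)) :=
      Module.Finite.equiv e.symm.toLinearEquiv
    have hsurj := (ModuleCat.epi_iff_surjective _).1 hepi
    exact Module.Finite.of_surjective
      ((DerivedCategory.homologyFunctor (ModuleCat.{u} A) m).map α).hom hsurj
  · intro hz
    have hex : ∀ i, m + 1 < i → E.ExactAt i := fun i hi =>
      exact_of_zero K E α i (hiso i (by omega)) (hz i hi)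
    obtain ⟨h1, h2⟩ := ker_proj E hE b hb (m+1) hex (b - (m+1)).toNat (m+1) le_rfl (by
      have := Int.self_le_toNat (b - (m+1)); omega)
    have hfp : Module.FinitePresentation A
        ((HomologicalComplex.homologyFunctor (ModuleCat.{u} A) (ComplexShape.up ℤ) (m+1)).obj E) :=
      homology_fp E (m+1) (hE _).1 h1 h2
    let e := (DerivedCategory.homologyFunctorFactors (ModuleCat.{u} A) (m+1)).app E
    have hfp' : Module.FinitePresentation A
        ((DerivedCategory.homologyFunctor (ModuleCat.{u} A) (m+1)).obj (DRing.toD E)) :=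
      Module.FinitePresentation.of_equiv e.symm.toLinearEquiv
    have := hiso (m+1) (by omega)
    exact Module.FinitePresentation.of_equiv
      (asIso ((DerivedCategory.homologyFunctor (ModuleCat.{u} A) (m+1)).map α)).toLinearEquiv


end


/-- If `K` is `m`-pseudo-coherent in `D(A)`, its cohomology in degree `m` is a finitely generated module
when nothing above degree `m` survives, and its cohomology in degree `m+1` is finitely presented
when nothing above degree `m+1` survives. -/
theorem result {A : Type u} [CommRing A] (K : Dual.D A) (m : ℤ)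
    (hK : DRing.IsPseudoCoherent A m K) :
    ((∀ i : ℤ, m < i → Limits.IsZero ((DerivedCategory.homologyFunctor (ModuleCat.{u} A) i).obj K)) →
        Module.Finite A ((DerivedCategory.homologyFunctor (ModuleCat.{u} A) m).obj K)) ∧
      ((∀ i : ℤ, m + 1 < i → Limits.IsZero ((DerivedCategory.homologyFunctor (ModuleCat.{u} A) i).obj K)) →
        Module.FinitePresentation A ((DerivedCategory.homologyFunctor (ModuleCat.{u} A) (m + 1)).obj K)) := by
  classical
  exact main K m hK

end Groth.Agent.S2068
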