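import Groth.Statements.S2067
import Mathlib

set_option autoImplicit false
universe u
open CategoryTheory
attribute [local instance] HasDerivedCategory.standard
open CAlg

namespace Groth.Agent.S2067

section
open CategoryTheory Limits Pretriangulated DerivedCategory

attribute [local instance] HasDerivedCategory.standard

variable {A : Type u} [CommRing A]

/-- Component C: vanishing of morphisms from a K-projective complex concentrated in degrees `≥ n`
to an object of `D^{≤ n-1}`. -/
theorem hom_eq_zero (P : CochainComplex (ModuleCat.{u} A) ℤ) [P.IsKProjective] (n : ℤ)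
    (hP : ∀ i, i < n → IsZero (P.X i)) (X : DerivedCategory (ModuleCat.{u} A))
    (hX : ∀ i, n ≤ i → IsZero ((homologyFunctor (ModuleCat.{u} A) i).obj X))
    (g : Q.obj P ⟶ X) : g = 0 := by
  have hX' : X.IsLE (n-1) := by
    rw [DerivedCategory.isLE_iff]
    intro i hi
    exact hX i (by omega)
  obtain ⟨K, hK, ⟨e⟩⟩ := X.exists_iso_Q_obj_of_isLE (n-1)
  suffices h : g ≫ e.hom = 0 by
    have := congrArg (fun t => t ≫ e.inv) h
    simpa using this
  obtain ⟨h, hh⟩ := (CochainComplex.IsKProjective.Qh_map_bijective P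
    ((HomotopyCategory.quotient _ _).obj K)).surjective
      ((quotientCompQhIso _).hom.app P ≫ g ≫ e.hom ≫ (quotientCompQhIso _).inv.app K)
  obtain ⟨h', rfl⟩ := (HomotopyCategory.quotient _ _).map_surjective h
  have h0 : h' = 0 := by
    ext i : 1
    by_cases hi : i < n
    · exact (hP i hi).eq_of_src _ _
    · exact (K.isZero_of_isStrictlyLE (n-1) i (by omega)).eq_of_tgt _ _
  rw [h0] at hh
  simp only [Functor.map_zero] at hh
  have h2 := congrArg (fun t => (quotientCompQhIso _).inv.app P ≫ t ≫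
    (quotientCompQhIso _).hom.app K) hh
  simp only [zero_comp, comp_zero, Category.assoc, Iso.inv_hom_id_app, Category.comp_id,
    Iso.inv_hom_id_app_assoc] at h2
  exact h2.symm

/-- The cone of an `(n-1)`-approximation has no cohomology in degrees `≥ n - 1`. -/
theorem cone_isZero {X L C : DerivedCategory (ModuleCat.{u} A)} (β : X ⟶ L) (g : L ⟶ C)
    (h : C ⟶ X⟦(1 : ℤ)⟧) (hT : Triangle.mk β g h ∈ distTriang _) (n : ℤ)
    (hβ : ∀ i, n ≤ i → IsIso ((homologyFunctor (ModuleCat.{u} A) i).map β))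
    (hβ' : Epi ((homologyFunctor (ModuleCat.{u} A) (n-1)).map β)) :
    ∀ i, n - 1 ≤ i → IsZero ((homologyFunctor (ModuleCat.{u} A) i).obj C) := by
  intro i hi
  have hepi : Epi ((homologyFunctor (ModuleCat.{u} A) i).map β) := by
    rcases eq_or_lt_of_le hi with h | h
    · rw [← h]; exact hβ'
    · have := hβ i (by omega); infer_instance
  have hmono : Mono ((homologyFunctor (ModuleCat.{u} A) (i+1)).map β) := by
    have := hβ (i+1) (by omega); infer_instance
  have h1 := ((homologyFunctor (ModuleCat.{u} A) 0).homologySequence_epi_shift_map_mor₁_iff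
    _ hT i).1 hepi
  have h2 := ((homologyFunctor (ModuleCat.{u} A) 0).homologySequence_mono_shift_map_mor₁_iff
    _ hT i (i+1) rfl).1 hmono
  have hex := (homologyFunctor (ModuleCat.{u} A) 0).homologySequence_exact₃ _ hT i (i+1) rfl
  exact hex.isZero_of_both_zeros h1 h2

/-- Component D: lifting. -/
theorem lift (P : CochainComplex (ModuleCat.{u} A) ℤ) [P.IsKProjective] (n : ℤ)
    (hP : ∀ i, i < n → IsZero (P.X i)) (R : CochainComplex (ModuleCat.{u} A) ℤ)
    (L : DerivedCategory (ModuleCat.{u} A)) (β : Q.obj R ⟶ L)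
    (hβ : ∀ i, n ≤ i → IsIso ((homologyFunctor (ModuleCat.{u} A) i).map β))
    (hβ' : Epi ((homologyFunctor (ModuleCat.{u} A) (n-1)).map β))
    (u : Q.obj P ⟶ L) : ∃ φ : P ⟶ R, Q.map φ ≫ β = u := by
  obtain ⟨C, g, h, hT⟩ := distinguished_cocone_triangle β
  have hC := cone_isZero β g h hT n hβ hβ'
  have hz : u ≫ g = 0 := hom_eq_zero P n hP C (fun i hi => hC i (by omega)) _
  obtain ⟨v, hv⟩ : ∃ v : Q.obj P ⟶ Q.obj R, u = v ≫ β := Triangle.coyoneda_exact₂ _ hT u hz
  obtain ⟨w, hw⟩ := (CochainComplex.IsKProjective.Qh_map_bijective P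
    ((HomotopyCategory.quotient _ _).obj R)).surjective
      ((quotientCompQhIso _).hom.app P ≫ v ≫ (quotientCompQhIso _).inv.app R)
  obtain ⟨φ, rfl⟩ := (HomotopyCategory.quotient _ _).map_surjective w
  refine ⟨φ, ?_⟩
  have h3 : Q.map φ = v := by
    have := quotientCompQhIso_hom_naturality φ
    have h4 : Q.map φ = (quotientCompQhIso _).inv.app P ≫
        Qh.map ((HomotopyCategory.quotient _ _).map φ) ≫ (quotientCompQhIso _).hom.app R := by
      rw [this]; simp
    rw [h4, hw]
    simp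
  rw [h3, hv]

/-- The submodules defining the brutal truncation `σ_{≥ n}`. -/
def F (E : CochainComplex (ModuleCat.{u} A) ℤ) (n i : ℤ) : Submodule A (E.X i) :=
  if n ≤ i then ⊤ else ⊥

theorem F_pos (E : CochainComplex (ModuleCat.{u} A) ℤ) {n i : ℤ} (h : n ≤ i) : F E n i = ⊤ := by
  simp [F, h]

theorem F_neg (E : CochainComplex (ModuleCat.{u} A) ℤ) {n i : ℤ} (h : i < n) : F E n i = ⊥ := by
  simp [F, not_le.2 h]

theorem F_d (E : CochainComplex (ModuleCat.{u} A) ℤ) (n i j : ℤ) (x : E.X i) (hx : x ∈ F E n i) :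
    (E.d i j).hom x ∈ F E n j := by
  by_cases hij : i + 1 = j
  · by_cases hi : n ≤ i
    · rw [F_pos E (by omega : n ≤ j)]; trivial
    · rw [F_neg E (by omega : i < n), Submodule.mem_bot] at hx
      rw [hx, map_zero]; exact Submodule.zero_mem _
  · rw [E.shape i j hij]
    exact Submodule.zero_mem _

/-- The brutal truncation `σ_{≥ n} E` as a subcomplex. -/
noncomputable def trunc (E : CochainComplex (ModuleCat.{u} A) ℤ) (n : ℤ) :
    CochainComplex (ModuleCat.{u} A) ℤ where
  X i := ModuleCat.of A (F E n i)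
  d i j := ModuleCat.ofHom ((E.d i j).hom.restrict (F_d E n i j))
  shape i j hij := by
    ext x
    simp [E.shape i j hij]
  d_comp_d' i j k _ _ := by
    ext x
    have := congrArg (fun t => t.hom x.1) (E.d_comp_d i j k)
    simp only [ModuleCat.hom_comp, LinearMap.comp_apply] at this
    simpa using this

/-- The inclusion `σ_{≥ n} E → E`. -/
noncomputable def truncι (E : CochainComplex (ModuleCat.{u} A) ℤ) (n : ℤ) : trunc E n ⟶ E where
  f i := ModuleCat.ofHom (F E n i).subtype
  comm' i j _ := by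
    ext x
    rfl

theorem trunc_isZero (E : CochainComplex (ModuleCat.{u} A) ℤ) (n i : ℤ) (h : i < n) :
    IsZero ((trunc E n).X i) := by
  have : Subsingleton (F E n i) := by
    rw [F_neg E h]; infer_instance
  have : Subsingleton ((trunc E n).X i) := this
  exact ModuleCat.isZero_of_subsingleton _

theorem truncι_isIso (E : CochainComplex (ModuleCat.{u} A) ℤ) (n i : ℤ) (h : n ≤ i) :
    IsIso ((truncι E n).f i) := by
  rw [ConcreteCategory.isIso_iff_bijective]
  constructor
  · exact Subtype.val_injective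
  · intro x
    exact ⟨⟨x, by rw [F_pos E h]; trivial⟩, rfl⟩

theorem truncι_homology_isIso (E : CochainComplex (ModuleCat.{u} A) ℤ) (n i : ℤ) (h : n < i) :
    IsIso (HomologicalComplex.homologyMap (truncι E n) i) := by
  have h1 : IsIso (((HomologicalComplex.shortComplexFunctor _ _ i).map (truncι E n)).τ₁) := by
    show IsIso ((truncι E n).f ((ComplexShape.up ℤ).prev i))
    apply truncι_isIso
    simp; omega
  have h2 : IsIso (((HomologicalComplex.shortComplexFunctor _ _ i).map (truncι E n)).τ₂) := by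
    show IsIso ((truncι E n).f i)
    apply truncι_isIso
    omega
  have h3 : IsIso (((HomologicalComplex.shortComplexFunctor _ _ i).map (truncι E n)).τ₃) := by
    show IsIso ((truncι E n).f ((ComplexShape.up ℤ).next i))
    apply truncι_isIso
    simp; omega
  have := ShortComplex.isIso_of_isIso ((HomologicalComplex.shortComplexFunctor _ _ i).map (truncι E n))
  exact ShortComplex.isIso_homologyMap_of_iso
    ((HomologicalComplex.shortComplexFunctor _ _ i).map (truncι E n))

theorem truncι_homology_epi (E : CochainComplex (ModuleCat.{u} A) ℤ) (n : ℤ) :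
    Epi (HomologicalComplex.homologyMap (truncι E n) n) := by
  have h2 : IsIso (((HomologicalComplex.shortComplexFunctor _ _ n).map (truncι E n)).τ₂) := by
    show IsIso ((truncι E n).f n)
    apply truncι_isIso
    omega
  have h3 : IsIso (((HomologicalComplex.shortComplexFunctor _ _ n).map (truncι E n)).τ₃) := by
    show IsIso ((truncι E n).f ((ComplexShape.up ℤ).next n))
    apply truncι_isIso
    simp
  have h4 : Mono (((HomologicalComplex.shortComplexFunctor _ _ n).map (truncι E n)).τ₃) :=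
    inferInstance
  have h5 := ShortComplex.isIso_cyclesMap_of_isIso_of_mono'
    ((HomologicalComplex.shortComplexFunctor _ _ n).map (truncι E n)) h2 h4
  exact ShortComplex.epi_homologyMap_of_epi_cyclesMap'
    ((HomologicalComplex.shortComplexFunctor _ _ n).map (truncι E n)) inferInstance

theorem epi_map_of_natIso {C D : Type*} [Category C] [Category D] {F G : C ⥤ D} (e : F ≅ G)
    {X Y : C} (f : X ⟶ Y) (h : Epi (G.map f)) : Epi (F.map f) := by
  have : F.map f = e.hom.app X ≫ G.map f ≫ e.inv.app Y := by simp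
  rw [this]
  infer_instance

theorem H_Q_map_isIso {K L : CochainComplex (ModuleCat.{u} A) ℤ} (f : K ⟶ L) (n : ℤ)
    (h : IsIso (HomologicalComplex.homologyMap f n)) :
    IsIso ((homologyFunctor (ModuleCat.{u} A) n).map (Q.map f)) := by
  have h' : IsIso ((HomologicalComplex.homologyFunctor (ModuleCat.{u} A) _ n).map f) := h
  exact (NatIso.isIso_map_iff (homologyFunctorFactors (ModuleCat.{u} A) n) f).2 h'

theorem H_Q_map_epi {K L : CochainComplex (ModuleCat.{u} A) ℤ} (f : K ⟶ L) (n : ℤ)
    (h : Epi (HomologicalComplex.homologyMap f n)) :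
    Epi ((homologyFunctor (ModuleCat.{u} A) n).map (Q.map f)) := by
  have h' : Epi ((HomologicalComplex.homologyFunctor (ModuleCat.{u} A) _ n).map f) := h
  exact epi_map_of_natIso (homologyFunctorFactors (ModuleCat.{u} A) n) f h'

theorem trunc_finiteFree (E : CochainComplex (ModuleCat.{u} A) ℤ) (n : ℤ)
    (hE : DRing.TermwiseFiniteFree E) : DRing.TermwiseFiniteFree (trunc E n) := by
  intro i
  by_cases h : n ≤ i
  · obtain ⟨h1, h2⟩ := hE i
    let e : (F E n i) ≃ₗ[A] E.X i := LinearEquiv.ofTop (F E n i) (F_pos E h)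
    exact ⟨Module.Finite.equiv e.symm, Module.Free.of_equiv e.symm⟩
  · have : Subsingleton (F E n i) := by
      rw [F_neg E (not_le.1 h)]; infer_instance
    have : Subsingleton ((trunc E n).X i) := this
    exact ⟨inferInstance, Module.Free.of_subsingleton _ _⟩

/-- Component A: truncated approximations. -/
theorem exists_trunc_approx (K : Dual.D A) (m : ℤ) (hK : DRing.IsPseudoCoherent A m K) :
    ∃ (E : DRing.Cx A) (b : ℤ) (α : DRing.toD E ⟶ K), (∀ i, i < m → IsZero (E.X i)) ∧
      (∀ i, b < i → IsZero (E.X i)) ∧ DRing.TermwiseFiniteFree E ∧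
      (∀ i : ℤ, m < i → IsIso ((homologyFunctor (ModuleCat.{u} A) i).map α)) ∧
      Epi ((homologyFunctor (ModuleCat.{u} A) m).map α) := by
  obtain ⟨E, a, b, α, hab, hff, hiso, hepi⟩ := hK
  refine ⟨trunc E m, b, Q.map (truncι E m) ≫ α, fun i hi => trunc_isZero E m i hi, ?_,
    trunc_finiteFree E m hff, ?_, ?_⟩
  · intro i hi
    have hz : IsZero (E.X i) := hab i (Or.inr hi)
    have : Subsingleton (E.X i) := ModuleCat.subsingleton_of_isZero hz
    have : Subsingleton ((trunc E m).X i) :=
      Subtype.val_injective.subsingleton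
    exact ModuleCat.isZero_of_subsingleton _
  · intro i hi
    rw [Functor.map_comp]
    have := H_Q_map_isIso _ i (truncι_homology_isIso E m i hi)
    have := hiso i hi
    infer_instance
  · rw [Functor.map_comp]
    have := H_Q_map_epi _ m (truncι_homology_epi E m)
    exact epi_comp _ _

theorem cone_finiteFree {P R : CochainComplex (ModuleCat.{u} A) ℤ} (φ : P ⟶ R)
    (hP : DRing.TermwiseFiniteFree P) (hR : DRing.TermwiseFiniteFree R) :
    DRing.TermwiseFiniteFree (CochainComplex.mappingCone φ) := by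
  intro i
  obtain ⟨h1, h2⟩ := hP (i+1)
  obtain ⟨h3, h4⟩ := hR i
  let e : (CochainComplex.mappingCone φ).X i ≅ ModuleCat.of A (P.X (i+1) × R.X i) :=
    HomologicalComplex.homotopyCofiber.XIsoBiprod φ i (i + 1) rfl ≪≫ ModuleCat.biprodIsoProd _ _
  exact ⟨Module.Finite.equiv e.symm.toLinearEquiv, Module.Free.of_equiv e.symm.toLinearEquiv⟩

theorem four_epi {B C D E B' C' D' E' : ModuleCat.{u} A} (f : B ⟶ C) (g : C ⟶ D) (h : D ⟶ E)
    (f' : B' ⟶ C') (g' : C' ⟶ D') (h' : D' ⟶ E')
    (b : B ⟶ B') (c : C ⟶ C') (d : D ⟶ D') (e : E ⟶ E')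
    (c1 : f ≫ c = b ≫ f') (c2 : g ≫ d = c ≫ g') (c3 : h ≫ e = d ≫ h')
    (w' : g' ≫ h' = 0) (w1 : f' ≫ g' = 0) (wD : g ≫ h = 0)
    (exC' : (ShortComplex.mk f' g' w1).Exact) (exD : (ShortComplex.mk g h wD).Exact)
    (hb : Epi b) (hd : Epi d) (he : Mono e) : Epi c := by
  rw [ModuleCat.epi_iff_surjective] at hb hd ⊢
  rw [ModuleCat.mono_iff_injective] at he
  rw [ShortComplex.moduleCat_exact_iff] at exC' exD
  dsimp at exC' exD
  have k1 : ∀ x, c.hom (f.hom x) = f'.hom (b.hom x) := fun x => by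
    have := congrArg (fun t => t.hom x) c1
    simpa only [ModuleCat.hom_comp, LinearMap.comp_apply] using this
  have k2 : ∀ x, d.hom (g.hom x) = g'.hom (c.hom x) := fun x => by
    have := congrArg (fun t => t.hom x) c2
    simpa only [ModuleCat.hom_comp, LinearMap.comp_apply] using this
  have k3 : ∀ x, e.hom (h.hom x) = h'.hom (d.hom x) := fun x => by
    have := congrArg (fun t => t.hom x) c3
    simpa only [ModuleCat.hom_comp, LinearMap.comp_apply] using this
  have k4 : ∀ x, h'.hom (g'.hom x) = 0 := fun x => by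
    have := congrArg (fun t => t.hom x) w'
    simpa only [ModuleCat.hom_comp, LinearMap.comp_apply, ModuleCat.hom_zero,
      LinearMap.zero_apply] using this
  intro y
  obtain ⟨z, hz⟩ := hd (g'.hom y)
  have hz0 : h.hom z = 0 := by
    apply he
    rw [map_zero]
    show e.hom (h.hom z) = 0
    rw [k3, hz, k4]
  obtain ⟨x, hx⟩ := exD z hz0
  have hx' : g.hom x = z := hx
  have h5 : g'.hom (y - c.hom x) = 0 := by
    rw [map_sub, ← k2, hx', hz, sub_self]
  obtain ⟨w, hw⟩ := exC' (y - c.hom x) h5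
  have hw' : f'.hom w = y - c.hom x := hw
  obtain ⟨v, hv⟩ := hb w
  have hv' : b.hom v = w := hv
  refine ⟨x + f.hom v, ?_⟩
  show c.hom (x + f.hom v) = y
  rw [map_add, k1, hv', hw']
  abel

theorem four_mono {B C D E B' C' D' E' : ModuleCat.{u} A} (f : B ⟶ C) (g : C ⟶ D) (h : D ⟶ E)
    (f' : B' ⟶ C') (g' : C' ⟶ D') (h' : D' ⟶ E')
    (b : B ⟶ B') (c : C ⟶ C') (d : D ⟶ D') (e : E ⟶ E')
    (c1 : f ≫ c = b ≫ f') (c2 : g ≫ d = c ≫ g') (c3 : h ≫ e = d ≫ h')
    (w : f ≫ g = 0) (w1 : f' ≫ g' = 0) (wD : g ≫ h = 0)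
    (exC' : (ShortComplex.mk f' g' w1).Exact) (exD : (ShortComplex.mk g h wD).Exact)
    (hb : Epi b) (hc : Mono c) (he : Mono e) : Mono d := by
  rw [ModuleCat.epi_iff_surjective] at hb
  rw [ModuleCat.mono_iff_injective] at he hc ⊢
  rw [ShortComplex.moduleCat_exact_iff] at exC' exD
  dsimp at exC' exD
  have k1 : ∀ x, c.hom (f.hom x) = f'.hom (b.hom x) := fun x => by
    have := congrArg (fun t => t.hom x) c1
    simpa only [ModuleCat.hom_comp, LinearMap.comp_apply] using this
  have k2 : ∀ x, d.hom (g.hom x) = g'.hom (c.hom x) := fun x => by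
    have := congrArg (fun t => t.hom x) c2
    simpa only [ModuleCat.hom_comp, LinearMap.comp_apply] using this
  have k3 : ∀ x, e.hom (h.hom x) = h'.hom (d.hom x) := fun x => by
    have := congrArg (fun t => t.hom x) c3
    simpa only [ModuleCat.hom_comp, LinearMap.comp_apply] using this
  have k4 : ∀ x, g.hom (f.hom x) = 0 := fun x => by
    have := congrArg (fun t => t.hom x) w
    simpa only [ModuleCat.hom_comp, LinearMap.comp_apply, ModuleCat.hom_zero,
      LinearMap.zero_apply] using this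
  rw [injective_iff_map_eq_zero]
  intro x hx
  have hx' : d.hom x = 0 := hx
  have h1 : h.hom x = 0 := by
    apply he
    rw [map_zero]
    show e.hom (h.hom x) = 0
    rw [k3, hx', map_zero]
  obtain ⟨v, hv⟩ := exD x h1
  have hv' : g.hom v = x := hv
  have h2 : g'.hom (c.hom v) = 0 := by rw [← k2, hv', hx']
  obtain ⟨u', hu'⟩ := exC' (c.hom v) h2
  have hu'' : f'.hom u' = c.hom v := hu'
  obtain ⟨t, ht⟩ := hb u'
  have ht' : b.hom t = u' := ht
  have h3 : v = f.hom t := by
    apply hc
    show c.hom v = c.hom (f.hom t)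
    rw [k1, ht', hu'']
  rw [← hv', h3, k4]

section tri

variable {T₁ T : Triangle (DerivedCategory (ModuleCat.{u} A))} (hT₁ : T₁ ∈ distTriang _)
  (hT : T ∈ distTriang _) (φ : T₁ ⟶ T)

include hT₁ hT in
theorem tri_epi (i : ℤ) (hb : Epi ((homologyFunctor (ModuleCat.{u} A) i).map φ.hom₂))
    (ha : Epi ((homologyFunctor (ModuleCat.{u} A) (i+1)).map φ.hom₁))
    (hb' : Mono ((homologyFunctor (ModuleCat.{u} A) (i+1)).map φ.hom₂)) :
    Epi ((homologyFunctor (ModuleCat.{u} A) i).map φ.hom₃) := by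
  let F := homologyFunctor (ModuleCat.{u} A) 0
  refine four_epi ((F.shift i).map T₁.mor₂) (F.homologySequenceδ T₁ i (i+1) rfl)
    ((F.shift (i+1)).map T₁.mor₁) ((F.shift i).map T.mor₂) (F.homologySequenceδ T i (i+1) rfl)
    ((F.shift (i+1)).map T.mor₁) ((F.shift i).map φ.hom₂) ((F.shift i).map φ.hom₃)
    ((F.shift (i+1)).map φ.hom₁) ((F.shift (i+1)).map φ.hom₂) ?_ ?_ ?_ ?_ ?_ ?_ ?_ ?_ hb ha hb'
  · rw [← Functor.map_comp, ← Functor.map_comp, φ.comm₂]
  · exact (F.homologySequenceδ_naturality T₁ T φ i (i+1) rfl).symm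
  · rw [← Functor.map_comp, ← Functor.map_comp, φ.comm₁]
  · exact F.homologySequenceδ_comp T hT i (i+1) rfl
  · exact F.comp_homologySequenceδ T hT i (i+1) rfl
  · exact F.homologySequenceδ_comp T₁ hT₁ i (i+1) rfl
  · exact F.homologySequence_exact₃ T hT i (i+1) rfl
  · exact F.homologySequence_exact₁ T₁ hT₁ i (i+1) rfl

include hT₁ hT in
theorem tri_mono (i : ℤ) (hb : Mono ((homologyFunctor (ModuleCat.{u} A) i).map φ.hom₂))
    (ha : Epi ((homologyFunctor (ModuleCat.{u} A) i).map φ.hom₁))
    (ha' : Mono ((homologyFunctor (ModuleCat.{u} A) (i+1)).map φ.hom₁)) :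
    Mono ((homologyFunctor (ModuleCat.{u} A) i).map φ.hom₃) := by
  let F := homologyFunctor (ModuleCat.{u} A) 0
  refine four_mono ((F.shift i).map T₁.mor₁) ((F.shift i).map T₁.mor₂)
    (F.homologySequenceδ T₁ i (i+1) rfl) ((F.shift i).map T.mor₁) ((F.shift i).map T.mor₂)
    (F.homologySequenceδ T i (i+1) rfl) ((F.shift i).map φ.hom₁) ((F.shift i).map φ.hom₂)
    ((F.shift i).map φ.hom₃) ((F.shift (i+1)).map φ.hom₁) ?_ ?_ ?_ ?_ ?_ ?_ ?_ ?_ ha hb ha'
  · rw [← Functor.map_comp, ← Functor.map_comp, φ.comm₁]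
  · rw [← Functor.map_comp, ← Functor.map_comp, φ.comm₂]
  · exact (F.homologySequenceδ_naturality T₁ T φ i (i+1) rfl).symm
  · exact F.homologySequence_comp T₁ hT₁ i
  · exact F.homologySequence_comp T hT i
  · exact F.comp_homologySequenceδ T₁ hT₁ i (i+1) rfl
  · exact F.homologySequence_exact₂ T hT i
  · exact F.homologySequence_exact₃ T₁ hT₁ i (i+1) rfl

end tri

theorem kproj_of (P : CochainComplex (ModuleCat.{u} A) ℤ) (b : ℤ)
    (hb : ∀ i, b < i → IsZero (P.X i)) (hff : DRing.TermwiseFiniteFree P) : P.IsKProjective := by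
  have : P.IsStrictlyLE b := by
    rw [CochainComplex.isStrictlyLE_iff]
    exact hb
  have : ∀ n, Projective (P.X n) := fun n => by
    obtain ⟨h1, h2⟩ := hff n
    exact ModuleCat.projective_of_free (Module.Free.chooseBasis A (P.X n))
  exact CochainComplex.isKProjective_of_projective P b

theorem part1 (T : Triangle (Dual.D A)) (hT : T ∈ distTriang _) (m : ℤ)
    (h1 : DRing.IsPseudoCoherent A (m + 1) T.obj₁) (h2 : DRing.IsPseudoCoherent A m T.obj₂) :
    DRing.IsPseudoCoherent A m T.obj₃ := by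
  obtain ⟨P, bP, α, hPlow, hPhigh, hPff, hαiso, hαepi⟩ := exists_trunc_approx T.obj₁ (m+1) h1
  obtain ⟨R, aR, bR, β, hRab, hRff, hβiso, hβepi⟩ := h2
  have := kproj_of P bP hPhigh hPff
  have hm : m + 1 - 1 = m := by omega
  obtain ⟨φ, hφ⟩ := lift P (m+1) hPlow R T.obj₂ β (fun i hi => hβiso i (by omega))
    (by rw [hm]; exact hβepi) (α ≫ T.mor₁)
  have hT₁ := mappingCone_triangle_distinguished φ
  obtain ⟨c, hc2, hc3⟩ := complete_distinguished_triangle_morphism _ T hT₁ hT α β hφ
  let ψ : Q.mapTriangle.obj (CochainComplex.mappingCone.triangle φ) ⟶ T :=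
    { hom₁ := α, hom₂ := β, hom₃ := c, comm₁ := hφ, comm₂ := hc2, comm₃ := hc3 }
  refine ⟨CochainComplex.mappingCone φ, min m aR, max bP bR, c, ?_, cone_finiteFree φ hPff hRff,
    ?_, ?_⟩
  · intro i hi
    rw [CochainComplex.mappingCone.isZero_X_iff]
    rcases hi with hi | hi
    · exact ⟨hPlow _ (by have := min_le_left m aR; omega),
        hRab i (Or.inl (by have := min_le_right m aR; omega))⟩
    · exact ⟨hPhigh _ (by have := le_max_left bP bR; omega),
        hRab i (Or.inr (by have := le_max_right bP bR; omega))⟩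
  · intro i hi
    have hβi := hβiso i hi
    have hβi' := hβiso (i+1) (by omega)
    have hαi' := hαiso (i+1) (by omega)
    have hαi : Epi ((homologyFunctor (ModuleCat.{u} A) i).map α) := by
      rcases eq_or_lt_of_le (show m + 1 ≤ i by omega) with h | h
      · rw [← h]; exact hαepi
      · have := hαiso i h; infer_instance
    have x1 : Epi ((homologyFunctor (ModuleCat.{u} A) i).map β) := inferInstance
    have x2 : Epi ((homologyFunctor (ModuleCat.{u} A) (i+1)).map α) := inferInstance
    have x3 : Mono ((homologyFunctor (ModuleCat.{u} A) (i+1)).map β) := inferInstance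
    have x4 : Mono ((homologyFunctor (ModuleCat.{u} A) i).map β) := inferInstance
    have x5 : Mono ((homologyFunctor (ModuleCat.{u} A) (i+1)).map α) := inferInstance
    have e1 : Epi ((homologyFunctor (ModuleCat.{u} A) i).map c) :=
      tri_epi hT₁ hT ψ i x1 x2 x3
    have e2 : Mono ((homologyFunctor (ModuleCat.{u} A) i).map c) :=
      tri_mono hT₁ hT ψ i x4 hαi x5
    exact @isIso_of_mono_of_epi _ _ _ _ _ _ e2 e1
  · have hβi' := hβiso (m+1) (by omega)
    have x3 : Mono ((homologyFunctor (ModuleCat.{u} A) (m+1)).map β) := inferInstance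
    exact tri_epi hT₁ hT ψ m hβepi hαepi x3

theorem shift_pc (X : Dual.D A) (n : ℤ) (h : DRing.IsPseudoCoherent A n X) :
    DRing.IsPseudoCoherent A (n + 1) (X⟦(-1 : ℤ)⟧) := by
  obtain ⟨E, a, b, α, hab, hff, hiso, hepi⟩ := h
  let F := homologyFunctor (ModuleCat.{u} A) 0
  have key : ∀ i : ℤ, ∀ j : ℤ, (-1 : ℤ) + i = j →
      (IsIso ((homologyFunctor (ModuleCat.{u} A) i).map (α⟦(-1 : ℤ)⟧')) ↔
        IsIso ((homologyFunctor (ModuleCat.{u} A) j).map α)) := fun i j hij =>
    NatIso.isIso_map_iff (F.shiftIso (-1) i j hij) α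
  have key' : ∀ i : ℤ, ∀ j : ℤ, (-1 : ℤ) + i = j →
      Epi ((homologyFunctor (ModuleCat.{u} A) j).map α) →
        Epi ((homologyFunctor (ModuleCat.{u} A) i).map (α⟦(-1 : ℤ)⟧')) := fun i j hij hj =>
    epi_map_of_natIso (F.shiftIso (-1) i j hij) α hj
  refine ⟨E⟦(-1 : ℤ)⟧, a + 1, b + 1, (Q.commShiftIso (-1 : ℤ)).hom.app E ≫ α⟦(-1 : ℤ)⟧',
    ?_, ?_, ?_, ?_⟩
  · intro i hi
    exact hab (i + (-1)) (by omega)
  · intro i
    exact hff (i + (-1))
  · intro i hi
    rw [Functor.map_comp]
    have := (key i (i - 1) (by omega)).2 (hiso (i-1) (by omega))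
    infer_instance
  · rw [Functor.map_comp]
    have := key' (n+1) n (by omega) hepi
    exact epi_comp _ _

theorem main (T : Triangle (Dual.D A))
    (hT : T ∈ distinguishedTriangles) (m : ℤ) :
    (DRing.IsPseudoCoherent A (m + 1) T.obj₁ → DRing.IsPseudoCoherent A m T.obj₂ →
        DRing.IsPseudoCoherent A m T.obj₃) ∧
      (DRing.IsPseudoCoherent A m T.obj₁ → DRing.IsPseudoCoherent A m T.obj₃ →
        DRing.IsPseudoCoherent A m T.obj₂) ∧
      (DRing.IsPseudoCoherent A (m + 1) T.obj₂ → DRing.IsPseudoCoherent A m T.obj₃ →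
        DRing.IsPseudoCoherent A (m + 1) T.obj₁) := by
  refine ⟨part1 T hT m, ?_, ?_⟩
  · intro h1 h3
    exact part1 T.invRotate (inv_rot_of_distTriang T hT) m (shift_pc _ _ h3) h1
  · intro h2 h3
    exact part1 T.invRotate.invRotate
      (inv_rot_of_distTriang _ (inv_rot_of_distTriang T hT)) (m+1)
      (shift_pc _ _ h2) (shift_pc _ _ h3)


end


open CategoryTheory.Pretriangulated in
/-- In a distinguished triangle `K → L → M` of `D(A)`, pseudo-coherence passes to the third vertex as
follows: `K` `(m+1)` and `L` `m` give `M` `m`; `K` `m` and `M` `m` give `L` `m`; `L` `(m+1)` and `M`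
`m` give `K` `(m+1)`. -/
theorem result {A : Type u} [CommRing A] (T : Triangle (Dual.D A))
    (hT : T ∈ distinguishedTriangles) (m : ℤ) :
    (DRing.IsPseudoCoherent A (m + 1) T.obj₁ → DRing.IsPseudoCoherent A m T.obj₂ →
        DRing.IsPseudoCoherent A m T.obj₃) ∧
      (DRing.IsPseudoCoherent A m T.obj₁ → DRing.IsPseudoCoherent A m T.obj₃ →
        DRing.IsPseudoCoherent A m T.obj₂) ∧
      (DRing.IsPseudoCoherent A (m + 1) T.obj₂ → DRing.IsPseudoCoherent A m T.obj₃ →
        DRing.IsPseudoCoherent A (m + 1) T.obj₁) := by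
  classical
  exact main T hT m

end Groth.Agent.S2067
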