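import Groth.Statements.S2087
import Mathlib
import Groth.Agent.S2067
import Groth.Agent.S2068

set_option autoImplicit false
universe u
open CategoryTheory
attribute [local instance] HasDerivedCategory.standard
open CAlg

namespace Groth.Agent.S2087

section
open CategoryTheory Limits Pretriangulated DerivedCategory

attribute [local instance] HasDerivedCategory.standard

variable {R : Type u} [CommRing R]

section loc
variable (g : R)

/-- the localisation functor -/
noncomputable abbrev Lf : ModuleCat.{u} R ⥤ ModuleCat.{u} (Localization.Away g) :=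
  ModuleCat.extendScalars (algebraMap R (Localization.Away g))

theorem flat_g : (algebraMap R (Localization.Away g)).Flat := by
  rw [RingHom.flat_algebraMap_iff]
  infer_instance

instance : PreservesFiniteLimits (Lf g) :=
  ModuleCat.preservesFiniteLimits_extendScalars_of_flat (flat_g g)

instance : (Lf g).PreservesHomology := inferInstance

instance : (Lf g).Additive := Functor.additive_of_preserves_binary_products _

/-- homology commutes with localisation -/
noncomputable def homIso (K : CochainComplex (ModuleCat.{u} R) ℤ) (j : ℤ) :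
    (((Lf g).mapHomologicalComplex (ComplexShape.up ℤ)).obj K).homology j ≅
      (Lf g).obj (K.homology j) :=
  (K.sc j).mapHomologyIso (Lf g)

open TensorProduct in
/-- `R_g` with the restricted module structure -/
noncomputable abbrev S' : ModuleCat.{u} R :=
  (ModuleCat.restrictScalars (algebraMap R (Localization.Away g))).obj
    (ModuleCat.of _ (Localization.Away g))

instance : IsScalarTower R (Localization.Away g) (S' g) :=
  ⟨fun r s x => by
    rw [ModuleCat.restrictScalars.smul_def]
    show (r • s) * (show Localization.Away g from x) =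
      algebraMap R _ r * (s * (show Localization.Away g from x))
    rw [Algebra.smul_def, mul_assoc]⟩

/-- the localised module with its `R`-structure -/
noncomputable abbrev N' (M : ModuleCat.{u} R) : ModuleCat.{u} R :=
  (ModuleCat.restrictScalars (algebraMap R (Localization.Away g))).obj ((Lf g).obj M)

instance (M : ModuleCat.{u} R) : IsScalarTower R (Localization.Away g) (N' g M) :=
  IsScalarTower.of_algebraMap_smul (fun _ _ => rfl)

open TensorProduct in
/-- comparison with the usual tensor product -/
noncomputable def eqv (M : ModuleCat.{u} R) :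
    Localization.Away g ⊗[R] M ≃ₗ[Localization.Away g] N' g M :=
  AlgebraTensorModule.congr (LinearEquiv.refl (Localization.Away g) (S' g)) (LinearEquiv.refl R M)

open TensorProduct in
/-- the canonical map `M → M_g` -/
noncomputable def ι (M : ModuleCat.{u} R) : M →ₗ[R] N' g M :=
  ((eqv g M).toLinearMap.restrictScalars R) ∘ₗ (TensorProduct.mk R (Localization.Away g) M 1)

theorem ι_baseChange (M : ModuleCat.{u} R) : IsBaseChange (Localization.Away g) (ι g M) :=
  IsBaseChange.of_equiv (eqv g M) (fun _ => rfl)

instance ι_loc (M : ModuleCat.{u} R) : IsLocalizedModule (Submonoid.powers g) (ι g M) :=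
  (isLocalizedModule_iff_isBaseChange (Submonoid.powers g) (Localization.Away g) (ι g M)).2
    (ι_baseChange g M)

end loc

section span
variable {r : ℕ} (f : Fin r → R) (hf : Ideal.span (Set.range f) = ⊤)

include hf in
theorem fin_of_loc (M : ModuleCat.{u} R)
    (h : ∀ i, Module.Finite (Localization.Away (f i)) ((Lf (f i)).obj M)) : Module.Finite R M := by
  refine Module.Finite.of_localizationSpan' (Set.range f) hf (Mₚ := fun t => N' t.1 M)
    (Rₚ := fun t => Localization.Away t.1) (fun t => ι t.1 M) ?_
  rintro ⟨_, i, rfl⟩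
  exact h i

include hf in
theorem zero_of_loc (M : ModuleCat.{u} R) (h : ∀ i, IsZero ((Lf (f i)).obj M)) : IsZero M := by
  have hx : ∀ x : M, x = 0 := by
    intro x
    have h1 := Submodule.mem_of_span_eq_top_of_smul_pow_mem (⊥ : Submodule R M) (Set.range f) hf x (by
      rintro ⟨_, i, rfl⟩
      have hs : Subsingleton ((Lf (f i)).obj M) := ModuleCat.subsingleton_of_isZero (h i)
      have h0 : ι (f i) M x = 0 := hs.elim _ _
      obtain ⟨⟨_, n, rfl⟩, hc⟩ :=
        (IsLocalizedModule.eq_zero_iff (Submonoid.powers (f i)) (ι (f i) M)).1 h0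
      exact ⟨n, (Submodule.mem_bot R).2 hc⟩)
    exact (Submodule.mem_bot R).1 h1
  have : Subsingleton M := ⟨fun a b => (hx a).trans (hx b).symm⟩
  exact ModuleCat.isZero_of_subsingleton M

end span

section pc
variable {A : Type u} [CommRing A]

theorem pc_mono (K : Dual.D A) {m m' : ℤ} (h : m ≤ m') (hK : DRing.IsPseudoCoherent A m K) :
    DRing.IsPseudoCoherent A m' K := by
  obtain ⟨E, a, b, α, hab, hff, hiso, hepi⟩ := hK
  refine ⟨E, a, b, α, hab, hff, fun i hi => hiso i (by omega), ?_⟩
  rcases eq_or_lt_of_le h with rfl | h'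
  · exact hepi
  · have := hiso m' h'
    infer_instance

theorem pc_of_iso {K K' : Dual.D A} (e : K ≅ K') {m : ℤ} (hK : DRing.IsPseudoCoherent A m K) :
    DRing.IsPseudoCoherent A m K' := by
  obtain ⟨E, a, b, α, hab, hff, hiso, hepi⟩ := hK
  refine ⟨E, a, b, α ≫ e.hom, hab, hff, fun i hi => ?_, ?_⟩
  · rw [Functor.map_comp]
    have := hiso i hi
    infer_instance
  · rw [Functor.map_comp]
    exact epi_comp _ _

theorem ff_of_isZero (M : ModuleCat.{u} A) (h : IsZero M) : Module.Finite A M ∧ Module.Free A M := by
  have : Subsingleton M := ModuleCat.subsingleton_of_isZero h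
  exact ⟨inferInstance, inferInstance⟩

theorem pc_single (F : ModuleCat.{u} A) [Module.Finite A F] [Module.Free A F] (b m : ℤ) :
    DRing.IsPseudoCoherent A m
      (DRing.toD ((HomologicalComplex.single (ModuleCat.{u} A) (ComplexShape.up ℤ) b).obj F)) := by
  refine ⟨_, b, b, 𝟙 _, ?_, ?_, ?_, ?_⟩
  · intro i hi
    exact HomologicalComplex.isZero_single_obj_X _ _ _ _ (by omega)
  · intro i
    by_cases hi : i = b
    · subst hi
      let e := (HomologicalComplex.singleObjXSelf (ComplexShape.up ℤ) i F).toLinearEquiv
      exact ⟨Module.Finite.equiv e.symm, Module.Free.of_equiv e.symm⟩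
    · exact ff_of_isZero _ (HomologicalComplex.isZero_single_obj_X _ _ _ _ hi)
  · intro i _
    rw [CategoryTheory.Functor.map_id]
    infer_instance
  · rw [CategoryTheory.Functor.map_id]
    infer_instance

theorem pc_of_vanish (K : DRing.Cx A) (m : ℤ) (h : ∀ j, m ≤ j → IsZero (K.homology j)) :
    DRing.IsPseudoCoherent A m (DRing.toD K) := by
  have hz : ∀ i, IsZero
      (((HomologicalComplex.single (ModuleCat.{u} A) (ComplexShape.up ℤ) 0).obj
        (ModuleCat.of A PUnit)).X i) := by
    intro i
    by_cases hi : i = 0
    · subst hi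
      have : Subsingleton (ModuleCat.of A PUnit.{u+1}) := inferInstanceAs (Subsingleton PUnit)
      exact (ModuleCat.isZero_of_subsingleton _).of_iso
        (HomologicalComplex.singleObjXSelf (ComplexShape.up ℤ) 0 (ModuleCat.of A PUnit))
    · exact HomologicalComplex.isZero_single_obj_X _ _ _ _ hi
  have hK : ∀ j, m ≤ j → IsZero ((homologyFunctor (ModuleCat.{u} A) j).obj (DRing.toD K)) :=
    fun j hj => (h j hj).of_iso ((homologyFunctorFactors (ModuleCat.{u} A) j).app K)
  refine ⟨(HomologicalComplex.single (ModuleCat.{u} A) (ComplexShape.up ℤ) 0).obj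
    (ModuleCat.of A PUnit), 0, 0, 0, fun i _ => hz i, fun i => ff_of_isZero _ (hz i), ?_, ?_⟩
  · intro i hi
    have h1 : IsZero ((homologyFunctor (ModuleCat.{u} A) i).obj (DRing.toD
        ((HomologicalComplex.single (ModuleCat.{u} A) (ComplexShape.up ℤ) 0).obj
          (ModuleCat.of A PUnit)))) := by
      refine IsZero.of_iso ?_ ((homologyFunctorFactors (ModuleCat.{u} A) i).app _)
      exact ShortComplex.isZero_homology_of_isZero_X₂ _ (hz i)
    have h2 := hK i hi.le
    exact ⟨⟨0, h1.eq_of_src _ _, h2.eq_of_src _ _⟩⟩
  · have h2 := hK m le_rfl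
    exact ⟨fun g h _ => h2.eq_of_src g h⟩

end pc

section step1
variable {A : Type u} [CommRing A]

theorem cone_vanish (T : Triangle (Dual.D A)) (hT : T ∈ distTriang _) (b : ℤ)
    (h1 : ∀ j, b < j → IsZero ((homologyFunctor (ModuleCat.{u} A) j).obj T.obj₁))
    (h2 : ∀ j, b < j → IsZero ((homologyFunctor (ModuleCat.{u} A) j).obj T.obj₂))
    (he : Epi ((homologyFunctor (ModuleCat.{u} A) b).map T.mor₁)) :
    ∀ j, b ≤ j → IsZero ((homologyFunctor (ModuleCat.{u} A) j).obj T.obj₃) := by
  intro j hj
  have hex := HomologySequence.exact₃ T hT j (j+1) rfl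
  have hδ : HomologySequence.δ T j (j+1) rfl = 0 := (h1 (j+1) (by omega)).eq_of_tgt _ _
  have hm : (homologyFunctor (ModuleCat.{u} A) j).map T.mor₂ = 0 := by
    rcases eq_or_lt_of_le hj with rfl | h
    · exact (HomologySequence.epi_homologyMap_mor₁_iff T hT b).1 he
    · exact (h2 j h).eq_of_src _ _
  exact hex.isZero_of_both_zeros hm hδ

end step1

section loc2
variable (g : R)

/-- termwise localisation of a complex -/
noncomputable abbrev Lc (K : DRing.Cx R) : DRing.Cx (Localization.Away g) :=
  ((Lf g).mapHomologicalComplex (ComplexShape.up ℤ)).obj K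

/-- cohomology of the localised complex -/
noncomputable def hIso (K : DRing.Cx R) (j : ℤ) :
    (homologyFunctor (ModuleCat.{u} (Localization.Away g)) j).obj (DRing.toD (Lc g K)) ≅
      (Lf g).obj (K.homology j) :=
  (homologyFunctorFactors (ModuleCat.{u} (Localization.Away g)) j).app (Lc g K) ≪≫ homIso g K j

theorem loc_hom_zero (K : DRing.Cx R) (j : ℤ) (h : IsZero (K.homology j)) :
    IsZero ((homologyFunctor (ModuleCat.{u} (Localization.Away g)) j).obj (DRing.toD (Lc g K))) :=
  ((Lf g).map_isZero h).of_iso (hIso g K j)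

end loc2

section span2
variable {r : ℕ} (f : Fin r → R) (hf : Ideal.span (Set.range f) = ⊤)

include hf in
theorem hom_zero_of_loc (K : DRing.Cx R) (j : ℤ)
    (h : ∀ i, IsZero ((homologyFunctor (ModuleCat.{u} (Localization.Away (f i))) j).obj
      (DRing.toD (Lc (f i) K)))) : IsZero (K.homology j) :=
  zero_of_loc f hf _ (fun i => (h i).of_iso (hIso (f i) K j).symm)

include hf in
theorem hom_fin_of_loc (K : DRing.Cx R) (j : ℤ)
    (h : ∀ i, Module.Finite (Localization.Away (f i))
      ((homologyFunctor (ModuleCat.{u} (Localization.Away (f i))) j).obj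
      (DRing.toD (Lc (f i) K)))) : Module.Finite R (K.homology j) :=
  fin_of_loc f hf _ (fun i => by
    have := h i
    exact Module.Finite.equiv (hIso (f i) K j).toLinearEquiv)

end span2

section step2
variable {r : ℕ} (f : Fin r → R) (hf : Ideal.span (Set.range f) = ⊤)

theorem single_hom_zero {A : Type u} [CommRing A] (F : ModuleCat.{u} A) (b j : ℤ) (h : j ≠ b) :
    IsZero ((homologyFunctor (ModuleCat.{u} A) j).obj (DRing.toD
      ((HomologicalComplex.single (ModuleCat.{u} A) (ComplexShape.up ℤ) b).obj F))) := by
  refine IsZero.of_iso ?_ ((homologyFunctorFactors (ModuleCat.{u} A) j).app _)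
  exact ShortComplex.isZero_homology_of_isZero_X₂ _
    (HomologicalComplex.isZero_single_obj_X (ComplexShape.up ℤ) b F j h)

theorem exists_phi (K : DRing.Cx R) (b : ℤ) [Module.Finite R (K.homology b)] :
    ∃ (k : ℕ) (φ : (HomologicalComplex.single (ModuleCat.{u} R) (ComplexShape.up ℤ) b).obj
      (ModuleCat.of R (Fin k → R)) ⟶ K), Epi (HomologicalComplex.homologyMap φ b) := by
  obtain ⟨k, π, hπ⟩ := Module.Finite.exists_fin' R (K.homology b)
  refine ⟨k, ?_⟩
  let F : ModuleCat.{u} R := ModuleCat.of R (Fin k → R)
  let π' : F ⟶ K.homology b := ModuleCat.ofHom π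
  have hπ' : Epi π' := (ModuleCat.epi_iff_surjective _).2 hπ
  have : Epi (K.homologyπ b) := inferInstance
  let g : F ⟶ K.cycles b := Projective.factorThru π' (K.homologyπ b)
  have hg : g ≫ K.homologyπ b = π' := Projective.factorThru_comp _ _
  let φ : (HomologicalComplex.single (ModuleCat.{u} R) (ComplexShape.up ℤ) b).obj F ⟶ K :=
    HomologicalComplex.mkHomFromSingle (g ≫ K.iCycles b) (by
      intro j hj
      simp)
  refine ⟨φ, ?_⟩
  have h1 : HomologicalComplex.cyclesMap φ b =
      (HomologicalComplex.singleObjCyclesSelfIso (ComplexShape.up ℤ) b F).hom ≫ g := by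
    rw [← cancel_mono (K.iCycles b)]
    rw [HomologicalComplex.cyclesMap_i, HomologicalComplex.mkHomFromSingle_f,
      HomologicalComplex.singleObjCyclesSelfIso_hom]
    simp
  have h2 : HomologicalComplex.homologyπ _ b ≫ HomologicalComplex.homologyMap φ b =
      (HomologicalComplex.singleObjCyclesSelfIso (ComplexShape.up ℤ) b F).hom ≫ π' := by
    rw [HomologicalComplex.homologyπ_naturality, h1, Category.assoc, hg]
  have h3 : Epi (HomologicalComplex.homologyπ _ b ≫ HomologicalComplex.homologyMap φ b) := by
    rw [h2]
    infer_instance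
  exact epi_of_epi (HomologicalComplex.homologyπ _ b) _

end step2

section step3
variable (g : R)

open TensorProduct in
theorem Lf_ff (F : ModuleCat.{u} R) [Module.Finite R F] [Module.Free R F] :
    Module.Finite (Localization.Away g) ((Lf g).obj F) ∧
      Module.Free (Localization.Away g) ((Lf g).obj F) := by
  have h1 : Module.Finite (Localization.Away g) (Localization.Away g ⊗[R] F) := inferInstance
  have h2 : Module.Free (Localization.Away g) (Localization.Away g ⊗[R] F) := inferInstance
  have e := eqv g F
  have h3 : Module.Finite (Localization.Away g) (N' g F) := Module.Finite.equiv e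
  have h4 : Module.Free (Localization.Away g) (N' g F) := Module.Free.of_equiv e
  exact ⟨h3, h4⟩

theorem Lc_single_pc (F : ModuleCat.{u} R) [Module.Finite R F] [Module.Free R F] (b m : ℤ) :
    DRing.IsPseudoCoherent (Localization.Away g) m (DRing.toD (Lc g
      ((HomologicalComplex.single (ModuleCat.{u} R) (ComplexShape.up ℤ) b).obj F))) := by
  obtain ⟨h1, h2⟩ := Lf_ff g F
  have h := pc_single ((Lf g).obj F) b m
  exact pc_of_iso (Q.mapIso
    ((HomologicalComplex.singleMapHomologicalComplex (Lf g) (ComplexShape.up ℤ) b).app F).symm) h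

theorem Lc_cone_pc {S K : DRing.Cx R} (φ : S ⟶ K) (m : ℤ)
    (hS : DRing.IsPseudoCoherent (Localization.Away g) (m+1) (DRing.toD (Lc g S)))
    (hK : DRing.IsPseudoCoherent (Localization.Away g) m (DRing.toD (Lc g K))) :
    DRing.IsPseudoCoherent (Localization.Away g) m
      (DRing.toD (Lc g (CochainComplex.mappingCone φ))) := by
  let φ' := ((Lf g).mapHomologicalComplex (ComplexShape.up ℤ)).map φ
  have hT := mappingCone_triangle_distinguished φ'
  have h3 := Groth.Agent.S2067.part1 _ hT m hS hK
  exact pc_of_iso (Q.mapIso (CochainComplex.mappingCone.mapHomologicalComplexIso φ (Lf g)).symm) h3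

end step3

section step4
variable {r : ℕ} (f : Fin r → R) (hf : Ideal.span (Set.range f) = ⊤)

include hf in
theorem step (m : ℤ) : ∀ (n : ℕ) (K : DRing.Cx R),
    (∀ j, m - 1 + n < j → IsZero (K.homology j)) →
    (∀ i, DRing.IsPseudoCoherent (Localization.Away (f i)) m (DRing.toD (Lc (f i) K))) →
    DRing.IsPseudoCoherent R m (DRing.toD K) := by
  intro n
  induction n with
  | zero =>
    intro K hv _
    exact pc_of_vanish K m (fun j hj => hv j (by simp; omega))
  | succ n ih =>
    intro K hv hloc
    obtain ⟨b, hb⟩ : ∃ b : ℤ, b = m + n := ⟨_, rfl⟩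
    have hvb : ∀ j, b < j → IsZero (K.homology j) := fun j hj => hv j (by push_cast; omega)
    have hfin : Module.Finite R (K.homology b) := by
      refine hom_fin_of_loc f hf K b (fun i => ?_)
      have h1 := pc_mono _ (show m ≤ b by omega) (hloc i)
      exact (Groth.Agent.S2068.result _ b h1).1 (fun j hj => loc_hom_zero (f i) K j (hvb j hj))
    obtain ⟨k, φ, hφ⟩ := exists_phi K b
    have hT := mappingCone_triangle_distinguished φ
    have hL : ∀ j, b ≤ j → IsZero ((CochainComplex.mappingCone φ).homology j) := by
      intro j hj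
      have := cone_vanish _ hT b (fun j hj => single_hom_zero _ b j (by omega))
        (fun j hj => (hvb j hj).of_iso ((homologyFunctorFactors (ModuleCat.{u} R) j).app K))
        (Groth.Agent.S2067.H_Q_map_epi φ b hφ) j hj
      exact this.of_iso ((homologyFunctorFactors (ModuleCat.{u} R) j).app _).symm
    have h3 : DRing.IsPseudoCoherent R m (DRing.toD (CochainComplex.mappingCone φ)) := by
      refine ih _ (fun j hj => hL j (by omega)) (fun i => ?_)
      exact Lc_cone_pc (f i) φ m (Lc_single_pc (f i) _ b (m+1)) (hloc i)
    exact (Groth.Agent.S2067.main _ hT m).2.1 (pc_single _ b m) h3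

end step4

section fin
variable {r : ℕ} (f : Fin r → R) (hf : Ideal.span (Set.range f) = ⊤)

theorem pc_bound {A : Type u} [CommRing A] (K : Dual.D A) (m : ℤ)
    (h : DRing.IsPseudoCoherent A m K) :
    ∃ B : ℤ, ∀ j, B < j → IsZero ((homologyFunctor (ModuleCat.{u} A) j).obj K) := by
  obtain ⟨E, a, b, α, hab, hff, hiso, hepi⟩ := h
  refine ⟨max b m, fun j hj => ?_⟩
  have h1 : IsZero ((homologyFunctor (ModuleCat.{u} A) j).obj (DRing.toD E)) := by
    refine IsZero.of_iso ?_ ((homologyFunctorFactors (ModuleCat.{u} A) j).app _)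
    exact ShortComplex.isZero_homology_of_isZero_X₂ _
      (hab j (Or.inr (by have := le_max_left b m; omega)))
  have := hiso j (by have := le_max_right b m; omega)
  exact h1.of_iso (asIso ((homologyFunctor (ModuleCat.{u} A) j).map α)).symm

include hf in
theorem main (K : DRing.Cx R) (m : ℤ)
    (hK : ∀ i, DRing.IsPseudoCoherent (Localization.Away (f i)) m
      (DRing.toD (((ModuleCat.extendScalars (algebraMap R (Localization.Away (f i)))).mapHomologicalComplex
        (ComplexShape.up ℤ)).obj K))) :
    DRing.IsPseudoCoherent R m (DRing.toD K) := by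
  choose B hB using fun i => pc_bound _ m (hK i)
  obtain ⟨B', hB'⟩ := Finset.exists_le (Finset.univ.image B)
  have hB'' : ∀ i, B i ≤ B' := fun i => hB' _ (Finset.mem_image_of_mem _ (Finset.mem_univ i))
  refine step f hf m (B' - m + 1).toNat K (fun j hj => ?_) hK
  have := Int.self_le_toNat (B' - m + 1)
  exact hom_zero_of_loc f hf K j (fun i => hB i j (by have := hB'' i; omega))

end fin


end


/-- `m`-pseudo-coherence of a complex of `R`-modules may be checked after base change to each `R_{f_i}`
for finitely many `f_i` generating the unit ideal (the base change is taken termwise on a chosen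
complex, which is the derived base change since `R → R_{f_i}` is flat). -/
theorem result {R : Type u} [CommRing R] {r : ℕ} (f : Fin r → R)
    (hf : Ideal.span (Set.range f) = ⊤) (K : DRing.Cx R) (m : ℤ)
    (hK : ∀ i, DRing.IsPseudoCoherent (Localization.Away (f i)) m
      (DRing.toD (((ModuleCat.extendScalars (algebraMap R (Localization.Away (f i)))).mapHomologicalComplex
        (ComplexShape.up ℤ)).obj K))) :
    DRing.IsPseudoCoherent R m (DRing.toD K) := by
  classical
  exact main f hf K m hK

end Groth.Agent.S2087
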