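import Groth.Statements.S0865
import Mathlib
import Groth.Agent.Lib.Helper5.Misc.PushTotAcyc
import Groth.Agent.Lib.Helper3.RDTwo

set_option autoImplicit false
universe u
open CategoryTheory
open CohSite

open Groth.Agent.Lib.Helper5.Misc
open Groth.Agent.Helper3.RDPlus Groth.Agent.Helper3.RDAcyc Groth.Agent.Helper3.RDBridge
  Groth.Agent.Helper3.RDTwo
open CategoryTheory.Limits

namespace Groth.Agent.S0865

attribute [local instance] HasDerivedCategory.standard

variable {C D : Type u} [SmallCategory C] [SmallCategory D]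
    (J : GrothendieckTopology C) (K : GrothendieckTopology D) (u : D ⥤ C) [u.IsContinuous K J]

theorem isZero_HF_injective (I : Sheaf J AddCommGrpCat.{u}) [Injective I] (n : ℕ) :
    IsZero ((HF (CohSite.push J K u) ((n + 1 : ℕ) : ℤ)).obj (sgDF.obj I)) :=
  (Functor.isZero_rightDerived_obj_injective_succ (CohSite.push J K u) n I).of_iso
    (hb (CohSite.push J K u) (injectiveResolution I) (n + 1)).symm

theorem key (n : ℕ) : ∀ (F : Sheaf J AddCommGrpCat.{u}), CohCx.IsTotallyAcyclic F →
    IsZero ((HF (CohSite.push J K u) ((n + 1 : ℕ) : ℤ)).obj (sgDF.obj F)) := by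
  induction n with
  | zero =>
    intro F hF
    have hS := PushTotAcyc.sesInj_shortExact J F
    have hS' := PushTotAcyc.shortExact_push J K u (PushTotAcyc.sesInj J F) hS hF
    obtain ⟨-, δ, w₁, w₂, hex₁, hex₂⟩ := les (CohSite.push J K u) (PushTotAcyc.sesInj J F) hS 0 1 rfl
    have hg : Epi ((HF (CohSite.push J K u) 0).map (sgDF.map (PushTotAcyc.sesInj J F).g)) :=
      (epi_map_iff (CohSite.push J K u) (PushTotAcyc.sesInj J F).g).1 hS'.epi_g
    have hδ : δ = 0 := by
      rw [← cancel_epi ((HF (CohSite.push J K u) 0).map (sgDF.map (PushTotAcyc.sesInj J F).g)),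
        w₁, comp_zero]
    exact hex₂.isZero_X₂ hδ ((isZero_HF_injective J K u (Injective.under F) 0).eq_of_tgt _ _)
  | succ n ih =>
    intro F hF
    have hS := PushTotAcyc.sesInj_shortExact J F
    have hQ : CohCx.IsTotallyAcyclic (PushTotAcyc.sesInj J F).X₃ :=
      TotAcyc.isTotallyAcyclic_X₃ _ hS hF (TotAcyc.isTotallyAcyclic_of_injective _)
    obtain ⟨-, δ, w₁, w₂, hex₁, hex₂⟩ := les (CohSite.push J K u) (PushTotAcyc.sesInj J F) hS
      ((n + 1 : ℕ) : ℤ) ((n + 1 + 1 : ℕ) : ℤ) (by push_cast; ring)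
    exact hex₂.isZero_X₂ ((ih _ hQ).eq_of_src _ _)
      ((isZero_HF_injective J K u (Injective.under F) (n + 1)).eq_of_tgt _ _)

theorem final (F : Sheaf J AddCommGrpCat.{u}) (hF : CohCx.IsTotallyAcyclic F) (p : ℕ) :
    IsZero ((CohSite.Rpush J K u (p + 1)).obj F) :=
  (key J K u p F hF).of_iso (hb (CohSite.push J K u) (injectiveResolution F) (p + 1))

end Groth.Agent.S0865

namespace Groth.Agent.S0865

open CategoryTheory.Limits in
/-- Part (4) (for a morphism of topoi coming from a continuous functor of sites u : D -> C): if F is a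
totally acyclic abelian sheaf on C then R^p u_* F = 0 for all p > 0, where u_* F is the sheaf V ↦
F(u(V)) and R^p u_* its right derived functors. -/
theorem result {C D : Type u} [SmallCategory C] [SmallCategory D]
    (J : GrothendieckTopology C) (K : GrothendieckTopology D) (u : D ⥤ C) [u.IsContinuous K J]
    (F : Sheaf J AddCommGrpCat.{u}) (hF : CohCx.IsTotallyAcyclic F) (p : ℕ) :
    IsZero ((CohSite.Rpush J K u (p + 1)).obj F) := by
  exact Groth.Agent.S0865.final J K u F hF p

end Groth.Agent.S0865
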