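import Groth.Statements.S0453
import Groth.Agent.S0454
import Groth.Agent.Lib.Helper3.AcyClass

set_option autoImplicit false
universe u
open CategoryTheory
open CohTop

namespace Groth.Agent.S0453

/-- A flasque abelian sheaf F on X has H^(n+1)(X, F) = 0. -/
theorem result {X : TopCat.{u}} (F : CohTop.Ab X) [TopCat.Sheaf.IsFlasque F]
    (n : ℕ) : Subsingleton (CohTop.H F (n + 1)) := by
  refine ⟨fun x y => ?_⟩
  have hT : Limits.IsTerminal (⊤ : TopologicalSpace.Opens X) := Limits.isTerminalTop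
  have h := Groth.Agent.Helper3.AcyClass.ext_eq_zero
    ((constantSheaf (Opens.grothendieckTopology X) AddCommGrpCat.{u}).obj
      (AddCommGrpCat.of (ULift ℤ)))
    (fun M : CohTop.Ab X => TopCat.Sheaf.IsFlasque M) (by
      intro S hS h1 h2
      have h2' : TopCat.Sheaf.IsFlasque S.X₂ := Groth.Agent.S0454.result S.X₂
      have h1' : TopCat.Sheaf.IsFlasque S.X₁ := h1
      refine ⟨TopCat.Sheaf.IsFlasque.of_shortExact_of_isFlasque₁₂ hS, fun ψ => ?_⟩
      have hepi := TopCat.Sheaf.IsFlasque.epi_of_shortExact (U := ⊤) hS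
      rw [AddCommGrpCat.epi_iff_surjective] at hepi
      obtain ⟨t, ht⟩ := hepi (Sheaf.H.equiv₀ S.X₃ hT (Abelian.Ext.mk₀ ψ))
      obtain ⟨ψ', hψ'⟩ := (Abelian.Ext.mk₀_bijective _ _).2 ((Sheaf.H.equiv₀ S.X₂ hT).symm t)
      refine ⟨ψ', ?_⟩
      apply (Abelian.Ext.mk₀_bijective _ _).1
      apply (Sheaf.H.equiv₀ S.X₃ hT).injective
      rw [← ht]
      have h3 := Sheaf.H.equiv₀_naturality hT S.g ((Sheaf.H.equiv₀ S.X₂ hT).symm t)
      rw [AddEquiv.apply_symm_apply] at h3
      rw [h3, ← hψ']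
      congr 1
      exact (Abelian.Ext.mk₀_comp_mk₀ ψ' S.g).symm) n F inferInstance
  exact (h x).trans (h y).symm


end Groth.Agent.S0453
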