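import Groth.Statements.S1576
-- import your own Groth.Agent.* helpers here
import Mathlib
import Groth.Agent.Lib.Helper7.CohStalk.FiniteAss

set_option autoImplicit false
universe u
open CategoryTheory CategoryTheory.Limits AlgebraicGeometry
open Divisors

namespace Groth.Agent.S1576

/-- Let X be locally Noetherian and F coherent. Then the associated points of F lying in any
quasi-compact open subset form a finite set. -/
theorem result (X : Scheme.{u}) [IsLocallyNoetherian X]
    (F : X.Modules) (hF : Coh.IsCoh F) (U : X.Opens) (hU : IsCompact (U : Set X)) :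
    {x : X | x ∈ U ∧ Curv2.IsAssPoint F x}.Finite := by
  refine (Groth.Agent.Helper7.FinType.finite_isWeakAssPoint_of_isCompact F hF U hU).subset ?_
  rintro x ⟨hxU, hx⟩
  exact ⟨hxU, (Groth.Agent.Helper7.FinType.isAssPoint_iff_isWeakAssPoint F x).mp hx⟩

end Groth.Agent.S1576
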