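import Groth.Statements.S0820
import Mathlib
import Groth.Agent.Lib.Helper1.Dv29

set_option autoImplicit false
universe u
open Coherent

namespace Groth.Agent.S0820

open CategoryTheory AlgebraicGeometry in
/-- Let f : Y → X be finite and surjective with X locally Noetherian, and let i : Z → X be a closed
immersion from an integral scheme, ξ the image of the generic point of Z. Then some coherent
O_Y-module F has f_* F supported exactly on i(Z), with the stalk of f_* F at ξ killed by every
element of 𝔪_{X,ξ}, the maximal ideal of O_{X,ξ}. -/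
theorem result {Y X : Scheme.{u}} (f : Y ⟶ X) [IsFinite f]
    [Surjective f] [IsLocallyNoetherian X] (Z : Scheme.{u}) (i : Z ⟶ X) [IsClosedImmersion i] [IsIntegral Z] :
    ∃ F : Y.Modules, Coh.IsCoh F ∧ CohB1.support ((Coh.push f).obj F) = Set.range ⇑i ∧
      ∀ a ∈ IsLocalRing.maximalIdeal (X.presheaf.stalk (i (genericPoint Z))),
        ∀ m : ↑(((Coh.push f).obj F).presheaf.stalk (i (genericPoint Z))), a • m = 0 := by
  obtain ⟨ξ', hξ'⟩ := ‹AlgebraicGeometry.Surjective f›.surj (i (genericPoint Z))
  obtain ⟨Z', i', hi', hint', hr', hη'⟩ := Groth.Agent.Helper1.Dv.exists_integral_subscheme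
    (closure {ξ'}) isClosed_closure isIrreducible_singleton.closure ξ' rfl
  haveI := hi'
  haveI := hint'
  let F : Y.Modules := (AlgebraicGeometry.Scheme.Modules.pushforward i').obj (Coh.structureModule Z')
  have hF : Coh.IsCoh F := Groth.Agent.Helper1.FinPush.isCoh_pushforward i' _
    (Groth.Agent.Helper1.Dv.isCoh_structureModule Z')
  have hrange : Set.range ⇑(i' ≫ f) = Set.range ⇑i := by
    have h1 : Set.range ⇑(i' ≫ f) = ⇑f '' Set.range ⇑i' := by
      ext x
      constructor
      · rintro ⟨z, rfl⟩
        exact ⟨i' z, ⟨z, rfl⟩, rfl⟩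
      · rintro ⟨_, ⟨z, rfl⟩, rfl⟩
        exact ⟨z, rfl⟩
    have hfcl : IsClosedMap ⇑f := f.isClosedMap
    rw [h1, hr', ← hfcl.closure_image_eq_of_continuous f.continuous, Set.image_singleton, hξ']
    have hcl : Topology.IsClosedEmbedding ⇑i := i.isClosedEmbedding
    rw [← Set.image_singleton, hcl.closure_image_eq, (genericPoint_spec Z).def, Set.image_univ]
  have hpt : (i' ≫ f) (genericPoint Z') = i (genericPoint Z) := by
    rw [AlgebraicGeometry.Scheme.Hom.comp_apply, hη', hξ']
  refine ⟨F, hF, ?_, ?_⟩
  · change CohB1.support ((AlgebraicGeometry.Scheme.Modules.pushforward (i' ≫ f)).obj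
      (Coh.structureModule Z')) = _
    rw [← hrange]
    refine le_antisymm (Groth.Agent.Helper1.Dv.support_push_subset_of_isClosed_range _ _ ?_)
      (Groth.Agent.Helper1.Dv.range_subset_support_push_structure _)
    rw [hrange]
    exact i.isClosedEmbedding.isClosed_range
  · rw [← hpt]
    exact fun a ha m => Groth.Agent.Helper1.Dv.smul_stalk_push_eq_zero (i' ≫ f)
      (Coh.structureModule Z') a ha m

end Groth.Agent.S0820
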