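import Groth.Statements.S9522
import Mathlib
import Groth.Agent.Lib.Helper1.Dv33

set_option autoImplicit false
universe u
open CategoryTheory CategoryTheory.Limits AlgebraicGeometry
attribute [local instance] HasDerivedCategory.standard
open Coherent

namespace Groth.Agent.S9522

/-- Let X be a Noetherian scheme, Z₀ ⊆ X an irreducible closed subset with generic point ξ, and P an
isomorphism-invariant property of O_X-modules that holds for every zero module and such that (1) for
every short exact sequence 0 → F₁ → F → F₂ → 0 of coherent modules, P(F₁) and P(F₂) imply P(F); (2)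
for coherent F, P(F^⊕r) for some r ≥ 1 implies P(F); (3) P holds for i_*I for every closed immersion
i : Z → X with Z integral, i(Z) a proper subset of Z₀, and every quasi-coherent ideal sheaf I ⊆ O_Z;
(4) there is a coherent module G with support equal to Z₀, whose stalk at ξ is annihilated by the
maximal ideal of O_{X,ξ}, and such that for every quasi-coherent sheaf of ideals J on X with ξ ∉
V(J) there is a quasi-coherent submodule G' ⊆ J·G whose inclusion into G induces an isomorphism on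
stalks at ξ and for which P holds. Then P holds for every coherent O_X-module whose support is
contained in Z₀. (The published statement does not ask that P hold for the zero module, although its
proof uses this for a filtration with no steps; without it the conclusion fails for the zero module
when Z₀ is a closed point: on the spectrum of a field, with P(F) meaning that F is nonzero, every
other hypothesis holds. This row assumes that P holds for every zero module.) -/
theorem result (X : Scheme.{u}) [IsNoetherian X]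
    (Z₀ : Set X) (hZ₀ : IsClosed Z₀) (hirr : IsIrreducible Z₀) (ξ : X) (hξ : ξ ∈ Z₀ ∧ closure {ξ} = Z₀)
    (P : X.Modules → Prop) (hP : ∀ M N : X.Modules, Nonempty (M ≅ N) → P M → P N)
    (h₀ : ∀ M : X.Modules, IsZero M → P M)
    (h₁ : ∀ S : ShortComplex X.Modules, S.ShortExact → Coh.IsCoh S.X₁ → Coh.IsCoh S.X₂ → Coh.IsCoh S.X₃ →
      P S.X₁ → P S.X₃ → P S.X₂)
    (h₂ : ∀ (F : X.Modules) (r : ℕ), Coh.IsCoh F → 1 ≤ r → P (∐ fun _ : Fin r => F) → P F)
    (h₃ : ∀ (Z : Scheme.{u}) (i : Z ⟶ X), IsClosedImmersion i → IsIntegral Z →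
      Set.range ⇑i ⊆ Z₀ → Set.range ⇑i ≠ Z₀ →
      ∀ (I : Z.Modules) (ι : I ⟶ Coh.structureModule Z), Mono ι → Coh.IsQCoh I → P ((Coh.push i).obj I))
    (h₄ : ∃ G : X.Modules, Coh.IsCoh G ∧ CohB1.support G = Z₀ ∧
      (∀ a ∈ IsLocalRing.maximalIdeal (X.presheaf.stalk ξ), ∀ m : ↑(G.presheaf.stalk ξ), a • m = 0) ∧
      ∀ J : X.IdealSheafData, ξ ∉ (J.support : Set X) →
        ∃ (G' : X.Modules) (ι' : G' ⟶ (Dual3.idealMul J).obj G), Mono ι' ∧ Coh.IsQCoh G' ∧
          IsIso ((TopCat.Presheaf.stalkFunctor _ ξ).map (ι' ≫ Dual3.idealMulι J G).mapPresheaf) ∧ P G')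
    (F : X.Modules) (hF : Coh.IsCoh F) (hsupp : CohB1.support F ⊆ Z₀) : P F := by
  obtain ⟨G, hG, hGsupp, hGann, hG4⟩ := h₄
  have hiso : ∀ M N : X.Modules, (M ≅ N) → P M → P N := fun M N e h => hP M N ⟨e⟩ h
  have IH : ∀ M' : X.Modules, Coh.IsCoh M' → CohB1.support M' ⊆ Z₀ → ξ ∉ CohB1.support M' →
      P M' := by
    intro M' hM' hM'Z hξM'
    refine Groth.Agent.Helper1.Dv.dev_ideal P hiso h₀ (CohB1.support M') ?_ ?_ M' hM' le_rfl
    · intro S hS c1 c2 c3 _ p1 p3
      exact h₁ S hS c1 c2 c3 p1 p3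
    · intro Z i hi hint hr I ι hι hI
      refine h₃ Z i hi hint (hr.trans hM'Z) ?_ I ι hι hI
      intro heq
      exact hξM' (hr (heq ▸ hξ.1))
  refine Groth.Agent.Helper1.Dv.gen_step' P hiso h₀ Z₀ ξ hξ.2
    (fun S hS c1 c2 c3 _ p1 p3 => h₁ S hS c1 c2 c3 p1 p3) IH G hG hGsupp.le
    (hGsupp ▸ hξ.1) hGann ?_ ?_ F hF hsupp
  · intro e he _ F' hF' hK
    exact h₂ F' e hF' (Nat.one_le_iff_ne_zero.2 he) hK
  · intro Im j hj hImc hsurj
    haveI := hj
    have hξc : ξ ∉ CohB1.support (CategoryTheory.Limits.cokernel j) :=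
      Groth.Agent.Helper1.Dv.notMem_support_cokernel' j ξ hsurj
    obtain ⟨J, hJξ, f, hf⟩ := Groth.Agent.Helper1.Dv.exists_idealMul_le G Im hG hImc j ξ hξc
    obtain ⟨G', ι', hι', hG'q, hiso', hPG'⟩ := hG4 J hJξ
    haveI := hι'
    have hgj : (ι' ≫ f) ≫ j = ι' ≫ Dual3.idealMulι J G := by
      rw [CategoryTheory.Category.assoc, hf]
    haveI : CategoryTheory.Mono ((ι' ≫ f) ≫ j) := by
      rw [hgj]
      exact CategoryTheory.mono_comp _ _
    haveI : CategoryTheory.Mono (ι' ≫ f) := CategoryTheory.mono_of_mono (ι' ≫ f) j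
    have hG'c : Coh.IsCoh G' := Groth.Agent.Helper1.FtLocal.isCoh_of_mono (ι' ≫ f) hImc hG'q
    have hbij : Function.Bijective (Groth.Agent.Helper1.Dv.stalkL ((ι' ≫ f) ≫ j) ξ) := by
      rw [hgj, Groth.Agent.Helper1.Dv.stalkL_eq_stalkFunctor]
      exact (CategoryTheory.ConcreteCategory.isIso_iff_bijective _).1 hiso'
    have hgs : Function.Surjective (Groth.Agent.Helper1.Dv.stalkL (ι' ≫ f) ξ) := by
      intro v
      have hc : Groth.Agent.Helper1.Dv.stalkL ((ι' ≫ f) ≫ j) ξ =
          (Groth.Agent.Helper1.Dv.stalkL j ξ).comp (Groth.Agent.Helper1.Dv.stalkL (ι' ≫ f) ξ) :=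
        Groth.Agent.Helper1.Dv.stalkL_comp (ι' ≫ f) j ξ
      obtain ⟨w, hw⟩ := hbij.2 (Groth.Agent.Helper1.Dv.stalkL j ξ v)
      rw [hc] at hw
      exact ⟨w, Groth.Agent.Helper1.Dv.stalkL_injective_of_mono j ξ hw⟩
    have hC : Coh.IsCoh (CategoryTheory.Limits.cokernel (ι' ≫ f)) :=
      Groth.Agent.Helper1.FtLocal.isCoh_cokernel hG'c hImc (ι' ≫ f)
    have hPC : P (CategoryTheory.Limits.cokernel (ι' ≫ f)) := by
      refine IH _ hC ?_ (Groth.Agent.Helper1.Dv.notMem_support_cokernel' (ι' ≫ f) ξ hgs)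
      exact (Groth.Agent.Helper1.Dv.support_epi (CategoryTheory.Limits.cokernel.π (ι' ≫ f))).trans
        ((Groth.Agent.Helper1.Dv.support_mono j).trans hGsupp.le)
    have hSE : (CategoryTheory.ShortComplex.cokernelSequence (ι' ≫ f)).ShortExact :=
      CategoryTheory.ShortComplex.ShortExact.mk'
        (CategoryTheory.ShortComplex.cokernelSequence_exact (ι' ≫ f))
        (inferInstanceAs (CategoryTheory.Mono (ι' ≫ f)))
        (inferInstanceAs (CategoryTheory.Epi (CategoryTheory.Limits.cokernel.π (ι' ≫ f))))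
    exact h₁ _ hSE hG'c hImc hC hPG' hPC

end Groth.Agent.S9522
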