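import Groth.Statements.S0854
import Groth.Agent.Lib.Helper3.RestrPush
import Groth.Agent.Lib.Helper3.LocCohKer
import Groth.Agent.Lib.Helper5.Misc.RDComp

set_option autoImplicit false
universe u
open CategoryTheory
open CohTop

namespace Groth.Agent.S0854

open Groth.Agent.Helper3 Groth.Agent.Lib.Helper5.Misc CategoryTheory CategoryTheory.Limits Opposite

open TopologicalSpace in
/-- For abelian sheaves, one degree at a time: for a continuous map f : X -> Y, an abelian sheaf F on X,
an open V of Y and g : f^{-1}(V) -> V the restriction of f, the restriction of R^p f_* F to V is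
isomorphic to R^p g_* (F|_{f^{-1} V}). -/
theorem result {X Y : TopCat.{u}} (f : X ⟶ Y) (F : CohTop.Ab X)
    (V : Opens Y) (p : ℕ) :
    Nonempty (CohTop.restr ((CohTop.Rpush f p).obj F) V ≅
      (CohTop.Rpush (TopCat.ofHom ⟨(V : Set Y).restrictPreimage f, f.hom.continuous.restrictPreimage⟩ :
          TopCat.of ((Opens.map f).obj V) ⟶ TopCat.of V) p).obj
        (CohTop.restr F ((Opens.map f).obj V))) := by
  obtain ⟨h1, h2, h3⟩ := LocCohKer.restr_instances V
  obtain ⟨h1', h2', h3'⟩ := LocCohKer.restr_instances ((Opens.map f).obj V)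
  have e1 := RDComp.postIso (CohTop.push f) (CohTop.restrFunctor V) F p
  haveI hp : (CohTop.push (RestrPush.gmap f V)).Additive := { }
  haveI hc : (CohTop.restrFunctor ((Opens.map f).obj V) ⋙ CohTop.push (RestrPush.gmap f V)).Additive :=
    Functor.instAdditiveComp _ _
  have e2 := (RDComp.natIso (RestrPush.compIso f V) p).app F
  have e3 := RDComp.preIso (CohTop.restrFunctor ((Opens.map f).obj V))
    (CohTop.push (RestrPush.gmap f V)) F p
  exact ⟨e1.symm ≪≫ e2 ≪≫ e3⟩


end Groth.Agent.S0854
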