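import Groth.Statements.S6147
import Mathlib
import Groth.Agent.Lib.Helper5.Misc.ShriekProjNat
import Groth.Agent.Lib.Helper5.Misc.TensorSES

set_option autoImplicit false
universe u
open CategoryTheory
open ModSite

open CategoryTheory CategoryTheory.Limits Opposite MonoidalCategory
open Groth.Agent.Lib.Helper5.TensorSheaf Groth.Agent.Lib.Helper5

namespace Groth.Agent.S6147

/-- Ringed topos of sheaves on a small site with commutative structure sheaf O: if M is a flat O-module
then for every object V of the site the restriction j_V^* M = M|V is a flat O|V-module on C/V. -/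
theorem result {C : Type u} [SmallCategory C] {J : GrothendieckTopology C} (O : Sheaf J CommRingCat.{u})
    (M : ModSite.Mod O) (hM : ModSite.IsFlat M) (V : C) :
    ModSite.IsFlat ((ModSite.restr O V).obj M) := by
  rw [isFlat_iff, Functor.preservesFiniteLimits_iff_forall_exact_map_and_mono]
  intro R hR
  refine ⟨(TensorSES.map_exact_epi ((ModSite.restr O V).obj M) R hR).1, ?_⟩
  have : Mono R.f := hR.mono_f
  have h3 : PreservesFiniteLimits (ModSite.extZero O V) :=
    ShriekSheaf.extZero_preservesFiniteLimits O V
  have h4 : Mono ((ModSite.extZero O V).map R.f) := inferInstance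
  have h5 : PreservesFiniteLimits ((ModSite.tensorBi O).flip.obj M) := hM.1
  have h6 : Mono (((ModSite.tensorBi O).flip.obj M).map ((ModSite.extZero O V).map R.f)) :=
    inferInstance
  have hf : (ModSite.extZero O V).Faithful := ShriekSheaf.extZero_faithful O V
  apply Functor.mono_of_mono_map (ModSite.extZero O V)
  have nat := ShriekSheaf.projIso_naturality_left R.f M
  have e : (ModSite.extZero O V).map
      (((ModSite.tensorBi (O.over V)).flip.obj ((ModSite.restr O V).obj M)).map R.f) =
      (ShriekSheaf.projIso R.X₁ M).hom ≫
        (((ModSite.tensorBi O).flip.obj M).map ((ModSite.extZero O V).map R.f) ≫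
          (ShriekSheaf.projIso R.X₂ M).inv) := by
    have nat' : (ModSite.extZero O V).map
        (((ModSite.tensorBi (O.over V)).flip.obj ((ModSite.restr O V).obj M)).map R.f) ≫
        (ShriekSheaf.projIso R.X₂ M).hom =
        (ShriekSheaf.projIso R.X₁ M).hom ≫
          ((ModSite.tensorBi O).flip.obj M).map ((ModSite.extZero O V).map R.f) := nat
    rw [← Category.assoc, ← nat', Category.assoc, Iso.hom_inv_id, Category.comp_id]
  rw [e]
  infer_instance

end Groth.Agent.S6147
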