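import Groth.Statements.S12083
import Mathlib
import Groth.Agent.Lib.Helper9.RelFP.BaseChange
-- import your own Groth.Agent.* helpers here

set_option autoImplicit false
universe u
open CAlg

namespace Groth.Agent.S12083

namespace Aux
open TensorProduct MvPolynomial Groth.Agent.Helper9.RelFP

attribute [local instance] MvPolynomial.algebraMvPolynomial

/-- abstract pushout step -/
lemma pushout_step {P P' A A' : Type*} [CommRing P] [CommRing P'] [CommRing A] [CommRing A']
    [Algebra P P'] [Algebra P A] [Algebra P' A'] [Algebra A A'] [Algebra P A']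
    [IsScalarTower P A A'] [IsScalarTower P P' A'] [Algebra.IsPushout P P' A A']
    (M : Type*) [AddCommGroup M] [Module A M] [Module P M] [IsScalarTower P A M]
    [Module.FinitePresentation P M] : Module.FinitePresentation P' (A' ⊗[A] M) :=
  Module.FinitePresentation.of_equiv (Algebra.IsPushout.cancelBaseChange P P' A A' M).symm

theorem main {R A R' A' : Type u} [CommRing R] [CommRing A] [CommRing R'] [CommRing A']
    [Algebra R A] [Algebra R R'] [Algebra A A'] [Algebra R' A'] [Algebra R A'] [IsScalarTower R A A']
    [IsScalarTower R R' A']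
    [Algebra.IsPushout R A R' A'] (M : Type u) [AddCommGroup M] [Module A M] {n k : ℕ}
    (α : MvPolynomial (Fin n) R →ₐ[R] A) (hα : Function.Surjective α)
    (hM : FPThrough α.toRingHom M)
    (γ : MvPolynomial (Fin k) R' →ₐ[R'] A') (hγ : Function.Surjective γ) :
    FPThrough γ.toRingHom (A' ⊗[A] M) := by
  let α' : MvPolynomial (Fin n) R' →ₐ[R'] A' :=
    MvPolynomial.aeval (fun i => algebraMap A A' (α (MvPolynomial.X i)))
  let _ : Algebra (MvPolynomial (Fin n) R) A := α.toRingHom.toAlgebra
  let _ : Algebra (MvPolynomial (Fin n) R') A' := α'.toRingHom.toAlgebra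
  let _ : Algebra (MvPolynomial (Fin n) R) A' :=
    ((algebraMap A A').comp (algebraMap (MvPolynomial (Fin n) R) A)).toAlgebra
  have t1 : IsScalarTower (MvPolynomial (Fin n) R) A A' := IsScalarTower.of_algebraMap_eq' rfl
  have t2 : IsScalarTower (MvPolynomial (Fin n) R) (MvPolynomial (Fin n) R') A' := by
    apply IsScalarTower.of_algebraMap_eq'
    apply MvPolynomial.ringHom_ext
    · intro c
      show algebraMap A A' (α (MvPolynomial.C c)) =
        α' (MvPolynomial.map (algebraMap R R') (MvPolynomial.C c))
      rw [MvPolynomial.map_C, MvPolynomial.aeval_C,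
        show α (MvPolynomial.C c) = algebraMap R A c from α.commutes c,
        ← IsScalarTower.algebraMap_apply, ← IsScalarTower.algebraMap_apply]
    · intro i
      show algebraMap A A' (α (MvPolynomial.X i)) =
        α' (MvPolynomial.map (algebraMap R R') (MvPolynomial.X i))
      rw [MvPolynomial.map_X, MvPolynomial.aeval_X]
  have t3 : IsScalarTower R (MvPolynomial (Fin n) R) A := IsScalarTower.of_algebraMap_eq'
    (by ext c; exact (α.commutes c).symm)
  have t4 : IsScalarTower R' (MvPolynomial (Fin n) R') A' := IsScalarTower.of_algebraMap_eq'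
    (by ext c; exact (α'.commutes c).symm)
  have t5 : IsScalarTower R (MvPolynomial (Fin n) R') A' := by
    apply IsScalarTower.of_algebraMap_eq'
    ext c
    show algebraMap R A' c = α' (algebraMap R (MvPolynomial (Fin n) R') c)
    rw [IsScalarTower.algebraMap_apply R R' (MvPolynomial (Fin n) R'), α'.commutes,
      ← IsScalarTower.algebraMap_apply]
  have t6 : IsScalarTower R (MvPolynomial (Fin n) R) A' := by
    apply IsScalarTower.of_algebraMap_eq'
    ext c
    show algebraMap R A' c = algebraMap A A' (α (algebraMap R _ c))
    rw [α.commutes, ← IsScalarTower.algebraMap_apply]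
  have hp : Algebra.IsPushout (MvPolynomial (Fin n) R) A (MvPolynomial (Fin n) R') A' :=
    (Algebra.IsPushout.comp_iff R (MvPolynomial (Fin n) R) R'
      (S' := MvPolynomial (Fin n) R') (T := A) (T' := A')).mp inferInstance
  have hp' : Algebra.IsPushout (MvPolynomial (Fin n) R) (MvPolynomial (Fin n) R') A A' := hp.symm
  let _ : Module (MvPolynomial (Fin n) R) M := Module.compHom M α.toRingHom
  have t7 : IsScalarTower (MvPolynomial (Fin n) R) A M := ⟨fun p a m => by
    show (α p * a) • m = α p • (a • m)
    rw [mul_smul]⟩
  have : Module.FinitePresentation (MvPolynomial (Fin n) R) M := hM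
  have h1 : Module.FinitePresentation (MvPolynomial (Fin n) R') (A' ⊗[A] M) :=
    pushout_step (P := MvPolynomial (Fin n) R) M
  have h2 : FPThrough (algebraMap (MvPolynomial (Fin n) R') A') (A' ⊗[A] M) :=
    fpThrough_iff.mpr h1
  have hα' : Function.Surjective α' := by
    intro x
    have hb : Algebra.IsPushout R R' A A' := Algebra.IsPushout.symm inferInstance
    refine hb.out.inductionOn x (motive := fun x => ∃ q, α' q = x) ⟨0, map_zero _⟩ ?_ ?_ ?_
    · intro a
      obtain ⟨p, rfl⟩ := hα a
      refine ⟨MvPolynomial.map (algebraMap R R') p, ?_⟩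
      have := congrArg (fun g : MvPolynomial (Fin n) R →+* A' => g p)
        (IsScalarTower.algebraMap_eq (MvPolynomial (Fin n) R) (MvPolynomial (Fin n) R') A')
      exact this.symm
    · rintro r' x ⟨q, rfl⟩
      exact ⟨r' • q, map_smul α' r' q⟩
    · rintro x y ⟨q, rfl⟩ ⟨q', rfl⟩
      exact ⟨q + q', map_add α' q q'⟩
  exact FPThrough.indep α' hα' γ hγ h2

end Aux

/-- Let `R → A` be a finite type ring map with a surjective presentation `α : R[x_1, …, x_n] → A` and
`M` an `A`-module finitely presented relative to `R` (finitely presented as an `R[x_1, …,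
x_n]`-module through `α`). For a ring map `R → R'` let `A' = R' ⊗_R A` (a pushout square) and `γ :
R'[z_1, …, z_k] → A'` any surjective presentation. Then `A' ⊗_A M = R' ⊗_R M` is finitely presented
relative to `R'`, i.e. finitely presented as an `R'[z_1, …, z_k]`-module through `γ`. -/
theorem result {R A R' A' : Type u} [CommRing R] [CommRing A] [CommRing R'] [CommRing A']
    [Algebra R A] [Algebra R R'] [Algebra A A'] [Algebra R' A'] [Algebra R A'] [IsScalarTower R A A'] [IsScalarTower R R' A']
    [Algebra.IsPushout R A R' A'] [Algebra.FiniteType R A] (M : Type u) [AddCommGroup M] [Module A M] {n k : ℕ}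
    (α : MvPolynomial (Fin n) R →ₐ[R] A) (hα : Function.Surjective α)
    (hM : @Module.FinitePresentation (MvPolynomial (Fin n) R) M _ _ (Module.compHom M α.toRingHom))
    (γ : MvPolynomial (Fin k) R' →ₐ[R'] A') (hγ : Function.Surjective γ) :
    @Module.FinitePresentation (MvPolynomial (Fin k) R') (TensorProduct A A' M) _ _
      (Module.compHom (TensorProduct A A' M) γ.toRingHom) := by
  exact Aux.main M α hα hM γ hγ

end Groth.Agent.S12083
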