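import Groth.Statements.S6991
import Mathlib
import Mathlib

set_option autoImplicit false
universe u
open CAlg

namespace Groth.Agent.S6991

open TensorProduct

namespace H6991

/-- descent of finite presentation along a surjection -/
theorem fp_of_surjective {S T M : Type*} [CommRing S] [CommRing T] [Algebra S T]
    [AddCommGroup M] [Module S M] [Module T M] [IsScalarTower S T M]
    (hπ : Function.Surjective (algebraMap S T)) [Module.FinitePresentation S M] :
    Module.FinitePresentation T M := by
  let μ : T ⊗[S] M →ₗ[T] M := LinearMap.liftBaseChange T (LinearMap.id : M →ₗ[S] M)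
  have hμ : ∀ t m, μ (t ⊗ₜ m) = t • m := fun t m => by simp [μ]
  have hsurj : Function.Surjective μ := fun m => ⟨1 ⊗ₜ m, by rw [hμ, one_smul]⟩
  have hinj : Function.Injective μ := by
    have key : ∀ z : T ⊗[S] M, (1 : T) ⊗ₜ[S] (μ z) = z := by
      intro z
      induction z using TensorProduct.induction_on with
      | zero => simp
      | tmul t m =>
        obtain ⟨s, rfl⟩ := hπ t
        rw [hμ, algebraMap_smul, TensorProduct.tmul_smul, TensorProduct.smul_tmul',
          Algebra.smul_def, mul_one]
      | add x y hx hy => rw [map_add, TensorProduct.tmul_add, hx, hy]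
    intro x y hxy
    rw [← key x, ← key y, hxy]
  exact Module.FinitePresentation.of_equiv (LinearEquiv.ofBijective μ ⟨hinj, hsurj⟩)

/-- ascent of finite presentation along a surjection with finitely generated kernel -/
theorem fp_of_fg_ker {S T M : Type*} [CommRing S] [CommRing T] [Algebra S T]
    [AddCommGroup M] [Module S M] [Module T M] [IsScalarTower S T M]
    (hπ : Function.Surjective (algebraMap S T)) (hker : (RingHom.ker (algebraMap S T)).FG)
    [Module.FinitePresentation T M] : Module.FinitePresentation S M := by
  have : Module.FinitePresentation S T :=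
    Module.finitePresentation_of_surjective (Algebra.linearMap S T) hπ hker
  exact Module.FinitePresentation.trans S M T

/-- compHom version -/
theorem iff_compHom {S T M : Type*} [CommRing S] [CommRing T] [AddCommGroup M] [Module T M]
    (π : S →+* T) (hπ : Function.Surjective π) (hker : (RingHom.ker π).FG) :
    @Module.FinitePresentation S M _ _ (Module.compHom M π) ↔ Module.FinitePresentation T M := by
  letI : Module S M := Module.compHom M π
  letI : Algebra S T := π.toAlgebra
  haveI : IsScalarTower S T M := ⟨fun s t m => by
    show (π s * t) • m = π s • (t • m)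
    rw [mul_smul]⟩
  exact ⟨fun h => fp_of_surjective (S := S) (T := T) hπ, fun h => fp_of_fg_ker (S := S) (T := T) hπ hker⟩

theorem of_compHom {S T M : Type*} [CommRing S] [CommRing T] [AddCommGroup M] [Module T M]
    (π : S →+* T) (hπ : Function.Surjective π)
    (h : @Module.FinitePresentation S M _ _ (Module.compHom M π)) :
    Module.FinitePresentation T M := by
  letI : Module S M := Module.compHom M π
  letI : Algebra S T := π.toAlgebra
  haveI : IsScalarTower S T M := ⟨fun s t m => by
    show (π s * t) • m = π s • (t • m)
    rw [mul_smul]⟩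
  exact fp_of_surjective (S := S) (T := T) hπ


theorem compHom_comp {S T A M : Type*} [CommRing S] [CommRing T] [CommRing A] [AddCommGroup M]
    [Module A M] (π : S →+* T) (α : T →+* A) (γ : S →+* A) (h : ∀ s, α (π s) = γ s) :
    @Module.compHom T S M _ _ (Module.compHom M α) _ π = Module.compHom M γ := by
  refine Module.ext' _ _ fun s m => ?_
  show α (π s) • m = γ s • m
  rw [h]

theorem main {R A : Type u} [CommRing R] [CommRing A] [Algebra R A]
    (M : Type u) [AddCommGroup M] [Module A M] {n k : ℕ}
    (α : MvPolynomial (Fin n) R →ₐ[R] A) (hα : Function.Surjective α)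
    (β : MvPolynomial (Fin k) R →ₐ[R] A) (hβ : Function.Surjective β) :
    (@Module.FinitePresentation (MvPolynomial (Fin n) R) M _ _ (Module.compHom M α.toRingHom) ↔
      @Module.FinitePresentation (MvPolynomial (Fin k) R) M _ _ (Module.compHom M β.toRingHom)) ∧
      (@Module.FinitePresentation (MvPolynomial (Fin n) R) M _ _ (Module.compHom M α.toRingHom) →
        Module.FinitePresentation A M) := by
  classical
  refine ⟨?_, fun h => of_compHom α.toRingHom hα h⟩
  choose p hp using fun j : Fin k => hα (β (MvPolynomial.X j))
  choose q hq using fun i : Fin n => hβ (α (MvPolynomial.X i))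
  let W := MvPolynomial (Fin n ⊕ Fin k) R
  let γ : W →ₐ[R] A := MvPolynomial.aeval (Sum.elim (fun i => α (MvPolynomial.X i))
    (fun j => β (MvPolynomial.X j)))
  let π₁ : W →ₐ[R] MvPolynomial (Fin n) R := MvPolynomial.aeval (Sum.elim MvPolynomial.X p)
  let π₂ : W →ₐ[R] MvPolynomial (Fin k) R := MvPolynomial.aeval (Sum.elim q MvPolynomial.X)
  have hπ₁ : Function.Surjective π₁ := by
    intro x
    refine ⟨MvPolynomial.rename Sum.inl x, ?_⟩
    have : (Sum.elim MvPolynomial.X p ∘ Sum.inl : Fin n → MvPolynomial (Fin n) R) =
        MvPolynomial.X := rfl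
    show MvPolynomial.aeval (Sum.elim MvPolynomial.X p) (MvPolynomial.rename Sum.inl x) = x
    rw [MvPolynomial.aeval_rename, this, MvPolynomial.aeval_X_left, AlgHom.id_apply]
  have hπ₂ : Function.Surjective π₂ := by
    intro x
    refine ⟨MvPolynomial.rename Sum.inr x, ?_⟩
    have : (Sum.elim q MvPolynomial.X ∘ Sum.inr : Fin k → MvPolynomial (Fin k) R) =
        MvPolynomial.X := rfl
    show MvPolynomial.aeval (Sum.elim q MvPolynomial.X) (MvPolynomial.rename Sum.inr x) = x
    rw [MvPolynomial.aeval_rename, this, MvPolynomial.aeval_X_left, AlgHom.id_apply]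
  have h1 : α.comp π₁ = γ := by
    apply MvPolynomial.algHom_ext
    rintro (i | j)
    · simp [π₁, γ]
    · simp [π₁, γ, hp]
  have h2 : β.comp π₂ = γ := by
    apply MvPolynomial.algHom_ext
    rintro (i | j)
    · simp [π₂, γ, hq]
    · simp [π₂, γ]
  have k1 : (RingHom.ker π₁.toRingHom).FG :=
    Algebra.FinitePresentation.ker_fG_of_surjective π₁ hπ₁
  have k2 : (RingHom.ker π₂.toRingHom).FG :=
    Algebra.FinitePresentation.ker_fG_of_surjective π₂ hπ₂
  have e1 := @iff_compHom W (MvPolynomial (Fin n) R) M _ _ _ (Module.compHom M α.toRingHom)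
    π₁.toRingHom hπ₁ k1
  have e2 := @iff_compHom W (MvPolynomial (Fin k) R) M _ _ _ (Module.compHom M β.toRingHom)
    π₂.toRingHom hπ₂ k2
  rw [compHom_comp π₁.toRingHom α.toRingHom γ.toRingHom (fun s => congr($h1 s))] at e1
  rw [compHom_comp π₂.toRingHom β.toRingHom γ.toRingHom (fun s => congr($h2 s))] at e2
  exact e1.symm.trans e2

end H6991

/-- Let R → A be a finite type homomorphism of commutative rings, M an A-module, and α : R[x_1, ...,
x_n] → A, β : R[y_1, ..., y_k] → A surjective R-algebra homomorphisms. Then M is finitely presented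
as an R[x_1, ..., x_n]-module through α if and only if M is finitely presented as an R[y_1, ...,
y_k]-module through β. If this holds, M is a finitely presented A-module. -/
theorem result {R A : Type u} [CommRing R] [CommRing A] [Algebra R A]
    [Algebra.FiniteType R A] (M : Type u) [AddCommGroup M] [Module A M] {n k : ℕ}
    (α : MvPolynomial (Fin n) R →ₐ[R] A) (hα : Function.Surjective α)
    (β : MvPolynomial (Fin k) R →ₐ[R] A) (hβ : Function.Surjective β) :
    (@Module.FinitePresentation (MvPolynomial (Fin n) R) M _ _ (Module.compHom M α.toRingHom) ↔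
      @Module.FinitePresentation (MvPolynomial (Fin k) R) M _ _ (Module.compHom M β.toRingHom)) ∧
      (@Module.FinitePresentation (MvPolynomial (Fin n) R) M _ _ (Module.compHom M α.toRingHom) →
        Module.FinitePresentation A M) := by
  exact H6991.main M α hα β hβ

end Groth.Agent.S6991
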