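import Groth.Statements.S6992
import Mathlib
import Groth.Agent.S6991
import Mathlib

set_option autoImplicit false
universe u
open CAlg

namespace Groth.Agent.S6992

namespace H6992
open Groth.Agent.S6991

/-- Stacks 0564 (module form): over a finite, finitely presented algebra `C` of `P`, a `C`-module is
finitely presented over `P` iff over `C`. -/
theorem fp_iff_of_finite {P C M : Type*} [CommRing P] [CommRing C] [Algebra P C]
    [Module.Finite P C] [Module.FinitePresentation P C] [AddCommGroup M] [Module C M] [Module P M]
    [IsScalarTower P C M] : Module.FinitePresentation P M ↔ Module.FinitePresentation C M := by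
  constructor
  · intro h
    have : Module.Finite C M := Module.Finite.of_restrictScalars_finite P C M
    obtain ⟨m, φ, hφ⟩ := Module.Finite.exists_fin' C M
    refine Module.finitePresentation_of_free_of_surjective φ hφ ?_
    have h1 : (LinearMap.ker (φ.restrictScalars P)).FG :=
      Module.FinitePresentation.fg_ker (φ.restrictScalars P) hφ
    apply Submodule.FG.of_restrictScalars P
    rwa [LinearMap.ker_restrictScalars] at h1
  · intro h
    exact Module.FinitePresentation.trans P M C


theorem fp_iff_of_finite_compHom {P C M : Type*} [CommRing P] [CommRing C] [Algebra P C]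
    [Module.Finite P C] [Module.FinitePresentation P C] [AddCommGroup M] [Module C M] :
    @Module.FinitePresentation P M _ _ (Module.compHom M (algebraMap P C)) ↔
      Module.FinitePresentation C M := by
  letI : Module P M := Module.compHom M (algebraMap P C)
  haveI : IsScalarTower P C M := ⟨fun p c m => by
    show (p • c) • m = algebraMap P C p • (c • m)
    rw [Algebra.smul_def, mul_smul]⟩
  exact fp_iff_of_finite

theorem compHom_congr {S M : Type*} [Semiring S] [AddCommMonoid M] (m₁ m₂ : Module S M)
    (h : m₁ = m₂) :
    @Module.FinitePresentation S M _ _ m₁ ↔ @Module.FinitePresentation S M _ _ m₂ := by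
  subst h; rfl

theorem main {R A B : Type u} [CommRing R] [CommRing A] [CommRing B]
    [Algebra R A] [Algebra A B] [Algebra R B] [IsScalarTower R A B]
    [Module.Finite A B] (M : Type u) [AddCommGroup M] [Module B M] [Module A M]
    [IsScalarTower A B M] {n k : ℕ} (α : MvPolynomial (Fin n) R →ₐ[R] A) (hα : Function.Surjective α)
    (β : MvPolynomial (Fin k) R →ₐ[R] B) (hβ : Function.Surjective β) :
    @Module.FinitePresentation (MvPolynomial (Fin n) R) M _ _ (Module.compHom M α.toRingHom) ↔
      @Module.FinitePresentation (MvPolynomial (Fin k) R) M _ _ (Module.compHom M β.toRingHom) := by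
  classical
  let P := MvPolynomial (Fin n) R
  let φP : P →+* B := (algebraMap A B).comp α.toRingHom
  letI algPA : Algebra P A := α.toRingHom.toAlgebra
  letI algPB : Algebra P B := φP.toAlgebra
  haveI : IsScalarTower P A B := IsScalarTower.of_algebraMap_eq (fun x => rfl)
  haveI : Module.Finite P A := Module.Finite.of_surjective (Algebra.linearMap P A) hα
  haveI : Module.Finite P B := Module.Finite.trans A B
  obtain ⟨C, _, _, _, _, hCfp, f, hf⟩ := Module.Finite.exists_free_surjective P B
  haveI : Module.FinitePresentation P C := Module.finitePresentation_of_projective P C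
  obtain ⟨m, g, hg, hkerg⟩ := hCfp.out
  let Pt := MvPolynomial (Fin m) P
  have hPt : Algebra.FinitePresentation R Pt := Algebra.FinitePresentation.trans R P Pt
  obtain ⟨N, τ, hτ, hkerτ⟩ := hPt.out
  let φC : C →+* B := f.toRingHom
  let φPt : Pt →+* B := φC.comp g.toRingHom
  let φW : MvPolynomial (Fin N) R →+* B := φPt.comp τ.toRingHom
  have hφW : ∀ r : R, φW (algebraMap R _ r) = algebraMap R B r := by
    intro r
    show f (g (τ (algebraMap R _ r))) = algebraMap R B r
    rw [τ.commutes, IsScalarTower.algebraMap_apply R P Pt, g.commutes, f.commutes]
    show algebraMap A B (α (algebraMap R P r)) = algebraMap R B r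
    rw [α.commutes, ← IsScalarTower.algebraMap_apply]
  let δ : MvPolynomial (Fin N) R →ₐ[R] B := { φW with commutes' := hφW }
  have hδ : Function.Surjective δ := hf.comp (hg.comp hτ)
  -- step 1
  have s1 : Module.compHom M α.toRingHom = Module.compHom M φP := by
    refine Module.ext' _ _ fun p x => ?_
    show α p • x = algebraMap A B (α p) • x
    rw [algebraMap_smul]
  -- step 2
  have s2 := @fp_iff_of_finite_compHom P C M _ _ _ _ _ _ (Module.compHom M φC)
  have s2' : @Module.compHom C P M _ _ (Module.compHom M φC) _ (algebraMap P C) =
      Module.compHom M φP := by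
    refine Module.ext' _ _ fun p x => ?_
    show f (algebraMap P C p) • x = φP p • x
    rw [f.commutes]; rfl
  rw [s2'] at s2
  -- step 3
  have s3 := @H6991.iff_compHom Pt C M _ _ _ (Module.compHom M φC) g.toRingHom hg hkerg
  rw [H6991.compHom_comp g.toRingHom φC φPt (fun s => rfl)] at s3
  -- step 4
  have s4 := @H6991.iff_compHom (MvPolynomial (Fin N) R) Pt M _ _ _ (Module.compHom M φPt)
    τ.toRingHom hτ hkerτ
  rw [H6991.compHom_comp τ.toRingHom φPt φW (fun s => rfl)] at s4
  -- step 5
  have s5 := (H6991.main M δ hδ β hβ).1
  have s5' : Module.compHom M δ.toRingHom = Module.compHom M φW :=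
    Module.ext' _ _ fun p x => rfl
  rw [s5'] at s5
  rw [s1]
  exact s2.trans (s3.symm.trans (s4.symm.trans s5))

end H6992

/-- Let R be a commutative ring, A → B a finite homomorphism of finite type R-algebras, M a B-module,
and α : R[x_1, ..., x_n] → A, β : R[y_1, ..., y_k] → B surjective R-algebra homomorphisms. Then M is
finitely presented as an R[x_1, ..., x_n]-module through α and A → B (M is finitely presented
relative to R as an A-module) if and only if M is finitely presented as an R[y_1, ..., y_k]-module
through β (M is finitely presented relative to R as a B-module). -/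
theorem result {R A B : Type u} [CommRing R] [CommRing A] [CommRing B]
    [Algebra R A] [Algebra A B] [Algebra R B] [IsScalarTower R A B] [Algebra.FiniteType R A]
    [Algebra.FiniteType R B] [Module.Finite A B] (M : Type u) [AddCommGroup M] [Module B M] [Module A M]
    [IsScalarTower A B M] {n k : ℕ} (α : MvPolynomial (Fin n) R →ₐ[R] A) (hα : Function.Surjective α)
    (β : MvPolynomial (Fin k) R →ₐ[R] B) (hβ : Function.Surjective β) :
    @Module.FinitePresentation (MvPolynomial (Fin n) R) M _ _ (Module.compHom M α.toRingHom) ↔
      @Module.FinitePresentation (MvPolynomial (Fin k) R) M _ _ (Module.compHom M β.toRingHom) := by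
  exact H6992.main M α hα β hβ

end Groth.Agent.S6992
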