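import Groth.Statements.S7007
import Mathlib
import Groth.Agent.Lib.Helper9.RelFP.Local
-- import your own Groth.Agent.* helpers here

set_option autoImplicit false
universe u
open CAlg

namespace Groth.Agent.S7007

namespace Aux
open TensorProduct MvPolynomial Groth.Agent.Helper9.RelFP

theorem main {R A : Type u} [CommRing R] [CommRing A] [Algebra R A]
    {n : ℕ} (α : MvPolynomial (Fin n) R →ₐ[R] A) (hα : Function.Surjective α) (M : Type u)
    [AddCommGroup M] [Module A M] {r : ℕ} (f : Fin r → A) (hf : Ideal.span (Set.range f) = ⊤)
    (k : Fin r → ℕ)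
    (γ : ∀ i, MvPolynomial (Fin (k i)) R →ₐ[R] Localization.Away (f i))
    (hγ : ∀ i, Function.Surjective (γ i)) :
    FPThrough α.toRingHom M ↔
      ∀ i, FPThrough (γ i).toRingHom (LocalizedModule (Submonoid.powers (f i)) M) := by
  constructor
  · intro h i
    have h1 : FPThrough (γ i).toRingHom (Localization.Away (f i) ⊗[A] M) :=
      FPThrough.baseChange_fp M α hα h (γ i) (hγ i)
    exact FPThrough.of_equiv (γ i).toRingHom
      (LocalizedModule.equivTensorProduct (Submonoid.powers (f i)) M).symm h1
  · intro h
    choose F hF using fun i => hα (f i)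
    obtain rfl : f = fun i => α (F i) := funext (fun i => (hF i).symm)
    let _ : Algebra (MvPolynomial (Fin n) R) A := α.toRingHom.toAlgebra
    let _ : Module (MvPolynomial (Fin n) R) M := Module.compHom M α.toRingHom
    have tower : IsScalarTower (MvPolynomial (Fin n) R) A M := ⟨fun p a m => by
      show (α p * a) • m = α p • (a • m)
      rw [mul_smul]⟩
    show Module.FinitePresentation (MvPolynomial (Fin n) R) M
    refine fp_of_cover (A := A) hα F hf (fun i => loc_transfer (A := A) (F i) ?_)
    have h1 : FPThrough (beta α (F i)).toRingHom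
        (LocalizedModule (Submonoid.powers (α (F i))) M) :=
      FPThrough.indep (γ i) (hγ i) (beta α (F i)) (beta_surjective α hα (F i)) (h i)
    rw [beta_eq] at h1
    exact FPThrough.of_comp_surjective _ _ (psi_surjective (F i)) h1

end Aux

/-- Let R → A be a finite type homomorphism of commutative rings with a surjective R-algebra
homomorphism α : R[x_1, ..., x_n] → A, M an A-module, f_1, ..., f_r elements of A generating the
unit ideal, and for each i a surjective R-algebra homomorphism γ_i : R[z_1, ..., z_(k_i)] → A_(f_i).
Then M is finitely presented as an R[x_1, ..., x_n]-module through α if and only if, for every i,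
the localization M_(f_i) is finitely presented as an R[z_1, ..., z_(k_i)]-module through γ_i. -/
theorem result {R A : Type u} [CommRing R] [CommRing A] [Algebra R A]
    {n : ℕ} (α : MvPolynomial (Fin n) R →ₐ[R] A) (hα : Function.Surjective α) (M : Type u) [AddCommGroup M]
    [Module A M] {r : ℕ} (f : Fin r → A) (hf : Ideal.span (Set.range f) = ⊤) (k : Fin r → ℕ)
    (γ : ∀ i, MvPolynomial (Fin (k i)) R →ₐ[R] Localization.Away (f i)) (hγ : ∀ i, Function.Surjective (γ i)) :
    @Module.FinitePresentation (MvPolynomial (Fin n) R) (M) _ _ (Module.compHom (M) α.toRingHom) ↔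
      ∀ i, @Module.FinitePresentation (MvPolynomial (Fin (k i)) R) (LocalizedModule (Submonoid.powers (f i)) M) _ _ (Module.compHom (LocalizedModule (Submonoid.powers (f i)) M) (γ i).toRingHom) := by
  exact Aux.main α hα M f hf k γ hγ

end Groth.Agent.S7007
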