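import Groth.Statements.S14402
import Mathlib
import Groth.Agent.Lib.Helper5.Misc.ClosedPush
import Groth.Agent.Lib.Helper5.Misc.RDExact

set_option autoImplicit false
universe u
open CategoryTheory CategoryTheory.Limits
open CohTop



namespace Groth.Agent.S14402

/-- If a continuous map f : X → Y is a closed embedding (a homeomorphism onto a closed subset), then for
every abelian sheaf F on X and every q ≥ 0 the higher direct image R^{q+1} f_* F is zero. (The
published statement is for modules over a sheaf of rings on X along a morphism of ringed spaces;
this row is the case of abelian sheaves, the sheaf of rings being the constant sheaf ℤ.) -/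
theorem result {X Y : TopCat.{u}} (f : X ⟶ Y)
    (hf : Topology.IsClosedEmbedding f) (F : CohTop.Ab X) (q : ℕ) :
    IsZero ((CohTop.Rpush f (q + 1)).obj F) := by
  haveI : (CohTop.push f).IsRightAdjoint :=
    (TopCat.Sheaf.pullbackPushforwardAdjunction AddCommGrpCat.{u} f).isRightAdjoint
  haveI : PreservesFiniteLimits (CohTop.push f) := inferInstance
  haveI : PreservesFiniteColimits (CohTop.push f) := by
    have h : PreservesColimitsOfSize.{u, u} (CohTop.push f) :=
      Groth.Agent.Lib.Helper5.ClosedPush.preservesColimits_pushforward f hf
    exact PreservesColimitsOfSize.preservesFiniteColimits.{u, u} _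
  exact Groth.Agent.Lib.Helper5.Misc.RDExact.isZero_rightDerived_succ (CohTop.push f) F q

end Groth.Agent.S14402
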