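import Groth.Statements.S6857
import Mathlib
import Groth.Agent.Lib.Helper5.Misc.ClosedPush
import Groth.Agent.Lib.Helper5.Misc.ClosedEmbSh

set_option autoImplicit false
universe u
open CategoryTheory CategoryTheory.Limits TopologicalSpace
open CohTop

open Opposite

namespace Groth.Agent.S6857

/-- Let i : Z → X be the inclusion of a closed subset of a topological space (a closed embedding). Then
i_* : Ab(Z) → Ab(X) is exact (right exactness being the content, i_* is a right adjoint) and fully
faithful, an abelian sheaf on X lies in its essential image exactly when its stalks at points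
outside i(Z) are zero (support contained in Z), and i⁻¹ ∘ i_* is isomorphic to the identity functor
(existence of an isomorphism of functors is asserted). -/
theorem result {Z X : TopCat.{u}} (i : Z ⟶ X)
    (hi : Topology.IsClosedEmbedding i) :
    PreservesFiniteColimits (CohTop.push i) ∧ (CohTop.push i).Full ∧ (CohTop.push i).Faithful ∧
      (∀ F : CohTop.Ab X, (CohTop.push i).essImage F ↔ ∀ x : X, x ∉ Set.range i → IsZero (CohTop.stalk F x)) ∧
      Nonempty (CohTop.push i ⋙ CohTop.pull i ≅ 𝟭 (CohTop.Ab Z)) := by
  have hff := Groth.Agent.Lib.Helper5.ClosedEmbSh.fullyFaithfulPushforward i hi AddCommGrpCat.{u}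
  refine ⟨?_, hff.full, hff.faithful, ?_, ?_⟩
  · have h : PreservesColimitsOfSize.{u, u} (CohTop.push i) :=
      Groth.Agent.Lib.Helper5.ClosedPush.preservesColimits_pushforward i hi
    exact PreservesColimitsOfSize.preservesFiniteColimits.{u, u} _
  · intro F
    refine (Groth.Agent.Lib.Helper5.ClosedEmbSh.essImage_iff i hi AddCommGrpCat.{u} F).trans ?_
    constructor
    · intro h x hx
      obtain ⟨h'⟩ := h x hx
      exact h'.isZero
    · intro h x hx
      exact ⟨(h x hx).isTerminal⟩
  · have h := Groth.Agent.Lib.Helper5.ClosedEmbSh.isIso_counit i hi AddCommGrpCat.{u}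
    exact ⟨@asIso _ _ _ _ (TopCat.Sheaf.pullbackPushforwardAdjunction AddCommGrpCat.{u} i).counit h⟩

end Groth.Agent.S6857
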