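import Groth.Statements.S1630
import Mathlib

set_option autoImplicit false
universe u
open CategoryTheory CategoryTheory.Limits AlgebraicGeometry
open Variety

namespace Groth.Agent.S1630

section
open CategoryTheory CategoryTheory.Limits AlgebraicGeometry

open TopologicalSpace in
lemma irreducible_of_cover {T : Type*} [TopologicalSpace T] {ι : Type*} [Nonempty ι]
    (V : ι → Opens T) (hcov : (⨆ i, V i) = ⊤) (hirr : ∀ i, IsIrreducible (V i : Set T))
    (hmeet : ∀ i j, ((V i : Set T) ∩ (V j : Set T)).Nonempty) : IrreducibleSpace T := by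
  have hpre : IsPreirreducible (Set.univ : Set T) := by
    intro u v hu hv ⟨x, _, hxu⟩ ⟨y, _, hyv⟩
    have hx : x ∈ (⨆ i, V i : Opens T) := hcov ▸ trivial
    have hy : y ∈ (⨆ i, V i : Opens T) := hcov ▸ trivial
    rw [Opens.mem_iSup] at hx hy
    obtain ⟨i, hxi⟩ := hx
    obtain ⟨j, hyj⟩ := hy
    -- in V i : u and V j meet
    obtain ⟨z, hzi, hzu, hzj⟩ := (hirr i).2 u (V j) hu (V j).2 ⟨x, hxi, hxu⟩ (hmeet i j)
    -- in V j : (u ∩ V i) hmm use u and v
    obtain ⟨w, hwj, hwu, hwv⟩ := (hirr j).2 u v hu hv ⟨z, hzj, hzu⟩ ⟨y, hyj, hyv⟩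
    exact ⟨w, trivial, hwu, hwv⟩
  have hne : Nonempty T := by
    obtain ⟨i⟩ := (inferInstance : Nonempty ι)
    obtain ⟨x, _⟩ := (hirr i).1
    exact ⟨x⟩
  haveI : PreirreducibleSpace T := ⟨hpre⟩
  exact ⟨hne⟩

lemma surj_spec (k K : Type u) [Field k] [Field K]
    (y : Spec (CommRingCat.of K) ⟶ Spec (CommRingCat.of k)) : Surjective y := by
  refine ⟨fun x => ?_⟩
  obtain ⟨z⟩ := (inferInstance : Nonempty (Spec (CommRingCat.of K)))
  refine ⟨z, ?_⟩
  haveI : Subsingleton (Spec (CommRingCat.of k)) :=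
    inferInstanceAs (Subsingleton (PrimeSpectrum k))
  exact Subsingleton.elim _ _

theorem main (k : Type u) [Field k] (X : Scheme.{u}) [X.Over (Spec (CommRingCat.of k))]
    (ι : Type u) (U : ι → X.Opens) (hne : Nonempty ι) (hcov : (⨆ i, U i) = ⊤)
    (hmeet : ∀ i j, ((U i : Set X) ∩ (U j : Set X)).Nonempty)
    (hU : ∀ i, GeometricallyIrreducible ((U i).ι ≫ (X ↘ (Spec (CommRingCat.of k))))) :
    GeometricallyIrreducible (X ↘ (Spec (CommRingCat.of k))) := by
  refine ⟨?_⟩
  intro K _ y Z fst snd h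
  -- fst is surjective
  have hfst : Surjective fst :=
    MorphismProperty.of_isPullback (P := @Surjective) h.flip (surj_spec k K y)
  refine irreducible_of_cover (fun i => fst ⁻¹ᵁ (U i)) ?_ ?_ ?_
  · ext z
    simp only [TopologicalSpace.Opens.coe_iSup, Set.mem_iUnion, SetLike.mem_coe,
      TopologicalSpace.Opens.coe_top, Set.mem_univ, iff_true]
    have hz : fst z ∈ (⨆ i, U i : X.Opens) := hcov ▸ trivial
    rw [TopologicalSpace.Opens.mem_iSup] at hz
    exact hz
  · intro i
    rw [isIrreducible_iff_irreducibleSpace]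
    have h1 : IsPullback (fst ∣_ (U i)) (fst ⁻¹ᵁ (U i)).ι (U i).ι fst :=
      isPullback_morphismRestrict fst (U i)
    have h2 := h1.paste_vert h
    exact (hU i).1 y _ _ h2
  · intro i j
    obtain ⟨x, hxi, hxj⟩ := hmeet i j
    obtain ⟨z, rfl⟩ := hfst.surj x
    exact ⟨z, hxi, hxj⟩


end


/-- Let X be a scheme over k. If X has a cover by a nonempty family of open subschemes, each
geometrically irreducible over k and any two of which meet, then X is geometrically irreducible over
k. -/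
theorem result (k : Type u) [Field k] (X : Scheme.{u}) [X.Over (Spec (CommRingCat.of k))]
    (ι : Type u) (U : ι → X.Opens) (hne : Nonempty ι) (hcov : (⨆ i, U i) = ⊤)
    (hmeet : ∀ i j, ((U i : Set X) ∩ (U j : Set X)).Nonempty)
    (hU : ∀ i, GeometricallyIrreducible ((U i).ι ≫ (X ↘ (Spec (CommRingCat.of k))))) : GeometricallyIrreducible (X ↘ (Spec (CommRingCat.of k))) := by
  classical
  exact main k X ι U hne hcov hmeet hU

end Groth.Agent.S1630
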