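import Groth.Statements.S1609
import Mathlib
import Groth.Agent.S1630

set_option autoImplicit false
universe u
open CategoryTheory CategoryTheory.Limits AlgebraicGeometry
open Variety

namespace Groth.Agent.S1609

section
open CategoryTheory CategoryTheory.Limits AlgebraicGeometry
open Groth.Agent.S1630

/-- a common field extension -/
lemma exists_compositum (k k' K : Type u) [Field k] [Field k'] [Field K] (i : k →+* k') (a : k →+* K) :
    ∃ (Ω : Type u) (_ : Field Ω) (b : k' →+* Ω) (c : K →+* Ω), b.comp i = c.comp a := by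
  letI := i.toAlgebra
  letI := a.toAlgebra
  haveI : Nontrivial (TensorProduct k k' K) := inferInstance
  obtain ⟨m, hm⟩ := Ideal.exists_maximal (TensorProduct k k' K)
  letI : Field (TensorProduct k k' K ⧸ m) := Ideal.Quotient.field m
  refine ⟨TensorProduct k k' K ⧸ m, inferInstance,
    (Ideal.Quotient.mk m).comp (Algebra.TensorProduct.includeLeft (R := k) (S := k) (A := k') (B := K)).toRingHom,
    (Ideal.Quotient.mk m).comp (Algebra.TensorProduct.includeRight (R := k) (A := k') (B := K)).toRingHom, ?_⟩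
  ext x
  simp only [RingHom.coe_comp, Function.comp_apply, AlgHom.toRingHom_eq_coe, RingHom.coe_coe]
  congr 1
  show (i x) ⊗ₜ[k] (1 : K) = (1 : k') ⊗ₜ[k] (a x)
  have h1 : i x = x • (1 : k') := by rw [Algebra.smul_def, mul_one]; rfl
  have h2 : a x = x • (1 : K) := by rw [Algebra.smul_def, mul_one]; rfl
  rw [h1, h2, TensorProduct.smul_tmul]

theorem main (k : Type u) [Field k] (X : Scheme.{u}) [X.Over (Spec (CommRingCat.of k))] (k' : Type u)
    [Field k'] [Algebra k k'] [GeometricallyIrreducible (Curv2.bcSnd k X k')] :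
    GeometricallyIrreducible (X ↘ (Spec (CommRingCat.of k))) := by
  refine ⟨?_⟩
  intro K _ y Z fst snd h
  obtain ⟨a, ha⟩ : ∃ a : k →+* K, y = Spec.map (CommRingCat.ofHom a) :=
    ⟨(Spec.preimage y).hom, by rw [CommRingCat.ofHom_hom, Spec.map_preimage]⟩
  obtain ⟨Ω, _, b, c, hbc⟩ := exists_compositum k k' K (algebraMap k k') a
  -- W
  have hW : IsPullback (pullback.fst snd (Spec.map (CommRingCat.ofHom c)))
      (pullback.snd snd (Spec.map (CommRingCat.ofHom c))) snd (Spec.map (CommRingCat.ofHom c)) :=
    IsPullback.of_hasPullback _ _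
  have hbig := hW.paste_horiz h
  -- rewrite the bottom
  have hbot : Spec.map (CommRingCat.ofHom c) ≫ y
      = Spec.map (CommRingCat.ofHom b) ≫ Spec.map (CommRingCat.ofHom (algebraMap k k')) := by
    rw [ha, ← Spec.map_comp, ← Spec.map_comp, ← CommRingCat.ofHom_comp, ← CommRingCat.ofHom_comp,
      hbc]
  rw [hbot] at hbig
  -- lift to X_{k'}
  have hXk' : IsPullback (Curv2.bcFst k X k') (Curv2.bcSnd k X k') (X ↘ Spec (CommRingCat.of k))
      (Spec.map (CommRingCat.ofHom (algebraMap k k'))) := IsPullback.of_hasPullback _ _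
  have hcomm : (pullback.fst snd (Spec.map (CommRingCat.ofHom c)) ≫ fst) ≫ (X ↘ Spec (CommRingCat.of k))
      = (pullback.snd snd (Spec.map (CommRingCat.ofHom c)) ≫ Spec.map (CommRingCat.ofHom b)) ≫
        Spec.map (CommRingCat.ofHom (algebraMap k k')) := by
    rw [Category.assoc]
    exact hbig.w
  obtain ⟨ℓ, hℓ1, hℓ2⟩ : ∃ ℓ : pullback snd (Spec.map (CommRingCat.ofHom c)) ⟶ Curv2.bc k X k',
      ℓ ≫ Curv2.bcFst k X k' = pullback.fst snd (Spec.map (CommRingCat.ofHom c)) ≫ fst ∧
      ℓ ≫ Curv2.bcSnd k X k' = pullback.snd snd (Spec.map (CommRingCat.ofHom c)) ≫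
        Spec.map (CommRingCat.ofHom b) :=
    ⟨hXk'.lift _ _ hcomm, hXk'.lift_fst _ _ hcomm, hXk'.lift_snd _ _ hcomm⟩
  have hleft : IsPullback ℓ (pullback.snd snd (Spec.map (CommRingCat.ofHom c)))
      (Curv2.bcSnd k X k') (Spec.map (CommRingCat.ofHom b)) := by
    apply IsPullback.of_right _ hℓ2 hXk'
    rw [hℓ1]
    exact hbig
  haveI : IrreducibleSpace ↥(pullback snd (Spec.map (CommRingCat.ofHom c))) :=
    (inferInstance : GeometricallyIrreducible (Curv2.bcSnd k X k')).1 _ _ _ hleft
  have hsurj : Surjective (pullback.fst snd (Spec.map (CommRingCat.ofHom c))) :=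
    MorphismProperty.of_isPullback (P := @Surjective) hW.flip (surj_spec K Ω _)
  have himg := (IrreducibleSpace.isIrreducible_univ
    ↥(pullback snd (Spec.map (CommRingCat.ofHom c)))).image
      (pullback.fst snd (Spec.map (CommRingCat.ofHom c)))
      (pullback.fst snd (Spec.map (CommRingCat.ofHom c))).continuous.continuousOn
  rw [Set.image_univ, Set.range_eq_univ.2 hsurj.surj] at himg
  exact (irreducibleSpace_def _).2 himg


end


/-- Geometric irreducibility of a k-scheme can be checked after an arbitrary extension of the base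
field. -/
theorem result (k : Type u) [Field k] (X : Scheme.{u}) [X.Over (Spec (CommRingCat.of k))] (k' : Type u) [Field k'] [Algebra k k']
    [GeometricallyIrreducible (Curv2.bcSnd k X k')] : GeometricallyIrreducible (X ↘ (Spec (CommRingCat.of k))) := by
  classical
  exact main k X k'

end Groth.Agent.S1609
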