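import Groth.Statements.S7590
import Mathlib
import Groth.Agent.S2500

set_option autoImplicit false
universe u
open CategoryTheory CategoryTheory.Limits AlgebraicGeometry
open Variety

namespace Groth.Agent.S7590

section
open CategoryTheory CategoryTheory.Limits AlgebraicGeometry

open TensorProduct

section Alg

/-- if the prime spectrum is a single point then the nilradical is a maximal ideal -/
lemma nilradical_isMaximal_of_subsingleton (A : Type*) [CommRing A] [Nontrivial A]
    [Subsingleton (PrimeSpectrum A)] : (nilradical A).IsMaximal := by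
  obtain ⟨m, hm⟩ := Ideal.exists_maximal A
  have : nilradical A = m := by
    rw [nilradical_eq_sInf]
    apply le_antisymm
    · exact sInf_le hm.isPrime
    · refine le_sInf fun p hp => ?_
      have hp' : p.IsPrime := hp
      have := Subsingleton.elim (⟨p, hp'⟩ : PrimeSpectrum A) ⟨m, hm.isPrime⟩
      rw [PrimeSpectrum.ext_iff] at this
      exact this.ge
  rw [this]; exact hm

/-- Over an algebraically closed field, the tensor product of two algebras whose nilradicals are
maximal ideals has a prime nilradical. -/
theorem nilradical_tensor_isPrime (F A B : Type*) [Field F] [IsAlgClosed F] [CommRing A]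
    [CommRing B] [Algebra F A] [Algebra F B] (hA : (nilradical A).IsMaximal)
    (hB : (nilradical B).IsMaximal) : (nilradical (A ⊗[F] B)).IsPrime := by
  letI : Field (A ⧸ nilradical A) := Ideal.Quotient.field _
  letI : Field (B ⧸ nilradical B) := Ideal.Quotient.field _
  haveI : IsDomain ((A ⧸ nilradical A) ⊗[F] (B ⧸ nilradical B)) :=
    Groth.Agent.S2500.isDomain_tensor (k := F) _ _
  let π := Algebra.TensorProduct.map (Ideal.Quotient.mkₐ F (nilradical A))
    (Ideal.Quotient.mkₐ F (nilradical B))
  have hker : RingHom.ker π = nilradical (A ⊗[F] B) := by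
    apply le_antisymm
    · rw [Algebra.TensorProduct.map_ker _ _ (Ideal.Quotient.mkₐ_surjective F _)
        (Ideal.Quotient.mkₐ_surjective F _)]
      refine sup_le ?_ ?_
      · rw [Ideal.map_le_iff_le_comap]
        intro a ha
        have ha' : a ∈ nilradical A := Ideal.Quotient.eq_zero_iff_mem.mp (by simpa using ha)
        rw [Ideal.mem_comap, mem_nilradical]
        exact (mem_nilradical.mp ha').map _
      · rw [Ideal.map_le_iff_le_comap]
        intro a ha
        have ha' : a ∈ nilradical B := Ideal.Quotient.eq_zero_iff_mem.mp (by simpa using ha)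
        rw [Ideal.mem_comap, mem_nilradical]
        exact (mem_nilradical.mp ha').map _
    · haveI : (RingHom.ker π).IsPrime := RingHom.ker_isPrime π
      exact nilradical_le_prime _
  rw [← hker]
  exact RingHom.ker_isPrime π

lemma nilradical_isMaximal_closure_tensor (k K : Type u) [Field k] [IsSepClosed k] [Field K]
    [Algebra k K] : (nilradical (AlgebraicClosure k ⊗[k] K)).IsMaximal := by
  have h1 := PrimeSpectrum.isHomeomorph_comap_of_isPurelyInseparable k (AlgebraicClosure k) K
  haveI : Subsingleton (PrimeSpectrum (K ⊗[k] AlgebraicClosure k)) :=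
    h1.homeomorph.subsingleton
  haveI : Subsingleton (PrimeSpectrum (AlgebraicClosure k ⊗[k] K)) :=
    (PrimeSpectrum.homeomorphOfRingEquiv
      (Algebra.TensorProduct.comm k (AlgebraicClosure k) K).toRingEquiv).subsingleton
  haveI : Nontrivial (AlgebraicClosure k ⊗[k] K) := by
    have hinj : Function.Injective
        (Algebra.TensorProduct.includeRight : K →ₐ[k] AlgebraicClosure k ⊗[k] K) :=
      Algebra.TensorProduct.includeRight_injective
        (FaithfulSMul.algebraMap_injective k (AlgebraicClosure k))
    exact hinj.nontrivial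
  exact nilradical_isMaximal_of_subsingleton _

theorem irreducible_tensor_of_isSepClosed (k K L : Type u) [Field k] [IsSepClosed k] [Field K]
    [Algebra k K] [Field L] [Algebra k L] : IrreducibleSpace (PrimeSpectrum (K ⊗[k] L)) := by
  have h1 := PrimeSpectrum.isHomeomorph_comap_of_isPurelyInseparable k (AlgebraicClosure k)
    (K ⊗[k] L)
  rw [← h1.homeomorph.irreducibleSpace_iff]
  let e1 : (K ⊗[k] L) ⊗[k] AlgebraicClosure k ≃ₐ[k] AlgebraicClosure k ⊗[k] (K ⊗[k] L) :=
    Algebra.TensorProduct.comm k _ _
  let e2 : (AlgebraicClosure k ⊗[k] K) ⊗[k] L ≃ₐ[k] AlgebraicClosure k ⊗[k] (K ⊗[k] L) :=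
    Algebra.TensorProduct.assoc k k k (AlgebraicClosure k) K L
  let e3 : (AlgebraicClosure k ⊗[k] K) ⊗[AlgebraicClosure k] (AlgebraicClosure k ⊗[k] L) ≃ₐ[AlgebraicClosure k]
      (AlgebraicClosure k ⊗[k] K) ⊗[k] L :=
    Algebra.TensorProduct.cancelBaseChange k (AlgebraicClosure k) (AlgebraicClosure k)
      (AlgebraicClosure k ⊗[k] K) L
  let e : (K ⊗[k] L) ⊗[k] AlgebraicClosure k ≃+*
      (AlgebraicClosure k ⊗[k] K) ⊗[AlgebraicClosure k] (AlgebraicClosure k ⊗[k] L) :=
    e1.toRingEquiv.trans (e2.symm.toRingEquiv.trans e3.symm.toRingEquiv)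
  rw [(PrimeSpectrum.homeomorphOfRingEquiv e).irreducibleSpace_iff]
  rw [PrimeSpectrum.irreducibleSpace_iff_isPrime_nilradical]
  exact nilradical_tensor_isPrime _ _ _ (nilradical_isMaximal_closure_tensor k K)
    (nilradical_isMaximal_closure_tensor k L)

end Alg
section Geo

theorem geomIrr_spec_field_sep (k K : Type u) [Field k] [IsSepClosed k] [Field K] [Algebra k K] :
    GeometricallyIrreducible (Spec.map (CommRingCat.ofHom (algebraMap k K))) := by
  refine ⟨geometrically_iff_of_commRing_of_isClosedUnderIsomorphisms.mpr fun L _ _ => ?_⟩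
  rw [(pullbackSpecIso k K L).hom.homeomorph.irreducibleSpace_iff]
  exact irreducible_tensor_of_isSepClosed k K L

theorem geomConn_spec_field_sep (k K : Type u) [Field k] [IsSepClosed k] [Field K] [Algebra k K] :
    GeometricallyConnected (Spec.map (CommRingCat.ofHom (algebraMap k K))) := by
  refine ⟨geometrically_iff_of_commRing_of_isClosedUnderIsomorphisms.mpr fun L _ _ => ?_⟩
  haveI : IrreducibleSpace ↥(Limits.pullback (Spec.map (CommRingCat.ofHom (algebraMap k K)))
      (Spec.map (CommRingCat.ofHom (algebraMap k L)))) := by
    rw [(pullbackSpecIso k K L).hom.homeomorph.irreducibleSpace_iff]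
    exact irreducible_tensor_of_isSepClosed k K L
  infer_instance

theorem main (k : Type u) [Field k] [IsSepClosed k] (X : Scheme.{u}) [X.Over (Spec (CommRingCat.of k))]
    (K : Type u) [Field K] [Algebra k K] :
    Function.Bijective (Continuous.connectedComponentsMap (Curv2.bcFst k X K).continuous) := by
  haveI := geomConn_spec_field_sep k K
  have h1 : GeometricallyConnected (Curv2.bcFst k X K) :=
    MorphismProperty.pullback_fst (P := @GeometricallyConnected) _ _ inferInstance
  have h2 : UniversallyOpen (Curv2.bcFst k X K) :=
    MorphismProperty.pullback_fst (P := @UniversallyOpen) _ _ inferInstance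
  exact ((Curv2.bcFst k X K).connectedComponentsHomeomorph (Curv2.bcFst k X K).isOpenMap).bijective

end Geo

end


/-- Let k be a separably closed field, K any extension field of k and X a scheme over k. Then the
projection X_K → X induces a bijection between the sets of connected components. -/
theorem result (k : Type u) [Field k] [IsSepClosed k] (X : Scheme.{u}) [X.Over (Spec (CommRingCat.of k))]
    (K : Type u) [Field K] [Algebra k K] :
    Function.Bijective (Continuous.connectedComponentsMap (Curv2.bcFst k X K).continuous) := by
  classical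
  exact main k X K

end Groth.Agent.S7590
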