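import Groth.Statements.S1559
import Mathlib
import Groth.Agent.S7590
import Groth.Agent.S1609

set_option autoImplicit false
universe u
open CategoryTheory CategoryTheory.Limits AlgebraicGeometry
open Variety

namespace Groth.Agent.S1559

section
open CategoryTheory CategoryTheory.Limits AlgebraicGeometry

/-- common construction: given a base change Z of X along Spec K → Spec k, there is a scheme W with a
surjection onto Z and a morphism to X_{k^s} which is geometrically irreducible, geometrically
connected and open. -/
theorem exists_common (k : Type u) [Field k] (X : Scheme.{u}) [X.Over (Spec (CommRingCat.of k))]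
    {K : Type u} [Field K] (y : Spec (CommRingCat.of K) ⟶ Spec (CommRingCat.of k))
    {Z : Scheme.{u}} (fst : Z ⟶ X) (snd : Z ⟶ Spec (CommRingCat.of K))
    (h : IsPullback fst snd (X ↘ Spec (CommRingCat.of k)) y) :
    ∃ (W : Scheme.{u}) (q : W ⟶ Z) (ℓ : W ⟶ Curv2.bc k X (SeparableClosure k)),
      Function.Surjective q ∧ GeometricallyIrreducible ℓ ∧ GeometricallyConnected ℓ ∧
        IsOpenMap ℓ := by
  obtain ⟨a, ha⟩ : ∃ a : k →+* K, y = Spec.map (CommRingCat.ofHom a) :=
    ⟨(Spec.preimage y).hom, by rw [CommRingCat.ofHom_hom, Spec.map_preimage]⟩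
  obtain ⟨Ω, _, b, c, hbc⟩ := Groth.Agent.S1609.exists_compositum k (SeparableClosure k) K
    (algebraMap k (SeparableClosure k)) a
  letI : Algebra (SeparableClosure k) Ω := b.toAlgebra
  have hW : IsPullback (pullback.fst snd (Spec.map (CommRingCat.ofHom c)))
      (pullback.snd snd (Spec.map (CommRingCat.ofHom c))) snd (Spec.map (CommRingCat.ofHom c)) :=
    IsPullback.of_hasPullback _ _
  have hbig := hW.paste_horiz h
  have hbot : Spec.map (CommRingCat.ofHom c) ≫ y
      = Spec.map (CommRingCat.ofHom b) ≫
        Spec.map (CommRingCat.ofHom (algebraMap k (SeparableClosure k))) := by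
    rw [ha, ← Spec.map_comp, ← Spec.map_comp, ← CommRingCat.ofHom_comp, ← CommRingCat.ofHom_comp,
      hbc]
  rw [hbot] at hbig
  have hXk' : IsPullback (Curv2.bcFst k X (SeparableClosure k))
      (Curv2.bcSnd k X (SeparableClosure k)) (X ↘ Spec (CommRingCat.of k))
      (Spec.map (CommRingCat.ofHom (algebraMap k (SeparableClosure k)))) :=
    IsPullback.of_hasPullback _ _
  have hcomm : (pullback.fst snd (Spec.map (CommRingCat.ofHom c)) ≫ fst) ≫
        (X ↘ Spec (CommRingCat.of k))
      = (pullback.snd snd (Spec.map (CommRingCat.ofHom c)) ≫ Spec.map (CommRingCat.ofHom b)) ≫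
        Spec.map (CommRingCat.ofHom (algebraMap k (SeparableClosure k))) := by
    rw [Category.assoc]
    exact hbig.w
  have hleft : IsPullback (hXk'.lift _ _ hcomm) (pullback.snd snd (Spec.map (CommRingCat.ofHom c)))
      (Curv2.bcSnd k X (SeparableClosure k)) (Spec.map (CommRingCat.ofHom b)) := by
    apply IsPullback.of_right _ (hXk'.lift_snd _ _ hcomm) hXk'
    rw [hXk'.lift_fst]
    exact hbig
  have hgi : GeometricallyIrreducible (Spec.map (CommRingCat.ofHom b)) :=
    Groth.Agent.S7590.geomIrr_spec_field_sep (SeparableClosure k) Ω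
  have hgc : GeometricallyConnected (Spec.map (CommRingCat.ofHom b)) :=
    Groth.Agent.S7590.geomConn_spec_field_sep (SeparableClosure k) Ω
  have huo : UniversallyOpen (Spec.map (CommRingCat.ofHom b)) := inferInstance
  have hℓo : UniversallyOpen (hXk'.lift _ _ hcomm) :=
    MorphismProperty.of_isPullback (P := @UniversallyOpen) hleft.flip huo
  refine ⟨_, pullback.fst snd (Spec.map (CommRingCat.ofHom c)), hXk'.lift _ _ hcomm, ?_, ?_, ?_, ?_⟩
  · have : Surjective (pullback.fst snd (Spec.map (CommRingCat.ofHom c))) :=
      MorphismProperty.of_isPullback (P := @Surjective) hW.flip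
        (Groth.Agent.S1630.surj_spec K Ω _)
    exact this.surj
  · exact MorphismProperty.of_isPullback (P := @GeometricallyIrreducible) hleft.flip hgi
  · exact MorphismProperty.of_isPullback (P := @GeometricallyConnected) hleft.flip hgc
  · exact (hXk'.lift _ _ hcomm).isOpenMap

theorem main (k : Type u) [Field k] (X : Scheme.{u}) [X.Over (Spec (CommRingCat.of k))]
    [ConnectedSpace (Curv2.bc k X (SeparableClosure k))] :
    GeometricallyConnected (X ↘ (Spec (CommRingCat.of k))) := by
  refine ⟨?_⟩
  intro K _ y Z fst snd h
  obtain ⟨W, q, ℓ, hq, -, hgc, ho⟩ := exists_common k X y fst snd h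
  haveI : ConnectedSpace ↥W := GeometricallyConnected.connectedSpace ℓ ho
  have himg := (isConnected_univ (α := ↥W)).image q q.continuous.continuousOn
  rw [Set.image_univ, Set.range_eq_univ.2 hq] at himg
  exact connectedSpace_iff_univ.mpr himg

theorem main_irr (k : Type u) [Field k] (X : Scheme.{u}) [X.Over (Spec (CommRingCat.of k))]
    [IrreducibleSpace (Curv2.bc k X (SeparableClosure k))] :
    GeometricallyIrreducible (X ↘ (Spec (CommRingCat.of k))) := by
  refine ⟨?_⟩
  intro K _ y Z fst snd h
  obtain ⟨W, q, ℓ, hq, hgi, -, ho⟩ := exists_common k X y fst snd h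
  haveI : IrreducibleSpace ↥W := GeometricallyIrreducible.irreducibleSpace ℓ ho
  have himg := (IrreducibleSpace.isIrreducible_univ ↥W).image q q.continuous.continuousOn
  rw [Set.image_univ, Set.range_eq_univ.2 hq] at himg
  exact (irreducibleSpace_def _).2 himg


end


/-- A scheme X over a field k is geometrically connected as soon as its base change to a separable
algebraic closure of k is connected. -/
theorem result (k : Type u) [Field k] (X : Scheme.{u}) [X.Over (Spec (CommRingCat.of k))]
    [ConnectedSpace (Curv2.bc k X (SeparableClosure k))] :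
    GeometricallyConnected (X ↘ (Spec (CommRingCat.of k))) := by
  classical
  exact main k X

end Groth.Agent.S1559
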