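import Groth.Statements.S4619
import Mathlib
import Groth.Agent.S2502

set_option autoImplicit false
open CategoryTheory AlgebraicGeometry
universe u
open FBase

namespace Groth.Agent.S4619

section
open CategoryTheory AlgebraicGeometry
open FBase

open CategoryTheory.Limits Polynomial TensorProduct

section Alg

/-- an irreducible separable polynomial stays irreducible over an extension in which the base field
is separably closed. -/
theorem irreducible_map_of_separableClosure_eq_bot {k K : Type*} [Field k] [Field K] [Algebra k K]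
    (h : separableClosure k K = ⊥) {P : k[X]} (hP : Irreducible P) (hsep : P.Separable) :
    Irreducible (P.map (algebraMap k K)) := by
  classical
  have hPK0 : P.map (algebraMap k K) ≠ 0 := Polynomial.map_ne_zero hP.ne_zero
  have hnu : ¬ IsUnit (P.map (algebraMap k K)) := by
    intro hu
    have h1 := Polynomial.degree_eq_zero_of_isUnit hu
    rw [Polynomial.degree_map] at h1
    exact hP.not_isUnit (Polynomial.isUnit_iff_degree_eq_zero.mpr h1)
  obtain ⟨Q₁, hQ₁irr, hQ₁dvd⟩ := WfDvdMonoid.exists_irreducible_factor hnu hPK0
  -- make monic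
  set Q := Q₁ * C (leadingCoeff Q₁)⁻¹ with hQdef
  have hQirr : Irreducible Q := Polynomial.irreducible_mul_leadingCoeff_inv.mpr hQ₁irr
  have hQm : Q.Monic := Polynomial.monic_mul_leadingCoeff_inv hQ₁irr.ne_zero
  have hQdvd : Q ∣ P.map (algebraMap k K) := by
    have hu : IsUnit (C (leadingCoeff Q₁)⁻¹) :=
      isUnit_C.mpr (IsUnit.mk0 _ (inv_ne_zero (leadingCoeff_ne_zero.mpr hQ₁irr.ne_zero)))
    exact (hu.mul_right_dvd).mpr hQ₁dvd
  -- work in an algebraic closure
  let E := AlgebraicClosure K
  have hsplit : (Q.map (algebraMap K E)).Splits := IsAlgClosed.splits _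
  have hQE := hsplit.eq_prod_roots_of_monic (hQm.map _)
  -- roots are separable over k
  have hroots : ∀ r ∈ (Q.map (algebraMap K E)).roots, r ∈ separableClosure k E := by
    intro r hr
    rw [mem_separableClosure_iff]
    have hr0 : (Q.map (algebraMap K E)).eval r = 0 := (Polynomial.mem_roots'.mp hr).2
    have hPr : Polynomial.aeval r P = 0 := by
      obtain ⟨R, hR⟩ := hQdvd
      have : (P.map (algebraMap k E)).eval r = 0 := by
        have e : P.map (algebraMap k E) = (P.map (algebraMap k K)).map (algebraMap K E) := by
          rw [Polynomial.map_map, ← IsScalarTower.algebraMap_eq]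
        rw [e, hR, Polynomial.map_mul, Polynomial.eval_mul, hr0, zero_mul]
      rwa [Polynomial.aeval_def, Polynomial.eval₂_eq_eval_map]
    exact hsep.of_dvd (minpoly.dvd k r hPr)
  -- the coefficients of Q_E lie in the separable closure
  let S := separableClosure k E
  have hmem : Q.map (algebraMap K E) ∈ (Polynomial.mapRingHom (algebraMap S E)).range := by
    rw [hQE]
    apply Subring.multiset_prod_mem
    intro p hp
    obtain ⟨r, hr, rfl⟩ := Multiset.mem_map.mp hp
    refine ⟨X - C ⟨r, hroots r hr⟩, ?_⟩
    simp
  obtain ⟨QS, hQS⟩ := hmem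
  have hcoeff : ∀ n, Q.coeff n ∈ Set.range (algebraMap k K) := by
    intro n
    have h1 : algebraMap K E (Q.coeff n) = algebraMap S E (QS.coeff n) := by
      rw [← Polynomial.coeff_map, ← hQS]
      simp
    have h2 : IsSeparable k (algebraMap K E (Q.coeff n)) := by
      rw [h1]
      exact mem_separableClosure_iff.mp (QS.coeff n).2
    have h3 : IsSeparable k (Q.coeff n) :=
      IsSeparable.of_algHom (IsScalarTower.toAlgHom k K E) h2
    have h4 : Q.coeff n ∈ separableClosure k K := mem_separableClosure_iff.mpr h3
    rw [h] at h4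
    exact IntermediateField.mem_bot.mp h4
  obtain ⟨Q₀, hQ₀⟩ := (Polynomial.mem_lifts _).mp ((Polynomial.lifts_iff_coeff_lifts _).mpr hcoeff)
  have hdvd₀ : Q₀ ∣ P := by
    rw [← Polynomial.map_dvd_map' (algebraMap k K), hQ₀]
    exact hQdvd
  obtain ⟨R, hR⟩ := hdvd₀
  rcases hP.isUnit_or_isUnit hR with hu | hu
  · exfalso
    apply hQirr.not_isUnit
    rw [← hQ₀]
    exact hu.map (Polynomial.mapRingHom (algebraMap k K))
  · have : P.map (algebraMap k K) = Q * R.map (algebraMap k K) := by
      rw [hR, Polynomial.map_mul, hQ₀]
    rw [this]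
    exact (irreducible_mul_isUnit (hu.map (Polynomial.mapRingHom (algebraMap k K)))).mpr hQirr


theorem isDomain_tensor_of_finite_separable {k K L : Type*} [Field k] [Field K] [Algebra k K]
    [Field L] [Algebra k L] [FiniteDimensional k L] [Algebra.IsSeparable k L]
    (h : separableClosure k K = ⊥) : IsDomain (K ⊗[k] L) := by
  classical
  let pb := Field.powerBasisOfFiniteOfSeparable k L
  let P := minpoly k pb.gen
  have hPirr : Irreducible P := minpoly.irreducible (Algebra.IsIntegral.isIntegral _)
  have hPsep : P.Separable := Algebra.IsSeparable.isSeparable k pb.gen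
  have hPK := irreducible_map_of_separableClosure_eq_bot h hPirr hPsep
  haveI : Fact (Irreducible (P.map (algebraMap k K))) := ⟨hPK⟩
  let E := AdjoinRoot (P.map (algebraMap k K))
  have hroot : (P.map (algebraMap k K)).eval₂ (Algebra.ofId K (K ⊗[k] L))
      ((1 : K) ⊗ₜ[k] pb.gen) = 0 := by
    rw [Polynomial.eval₂_map]
    have e1 : ((Algebra.ofId K (K ⊗[k] L)) : K →+* _).comp (algebraMap k K) =
        algebraMap k (K ⊗[k] L) := by
      ext x
      simp [Algebra.TensorProduct.algebraMap_apply]
    rw [e1, ← Polynomial.aeval_def]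
    have e2 : (1 : K) ⊗ₜ[k] pb.gen =
        (Algebra.TensorProduct.includeRight : L →ₐ[k] K ⊗[k] L) pb.gen := rfl
    rw [e2, Polynomial.aeval_algHom_apply, minpoly.aeval, map_zero]
  let ψ : E →ₐ[K] K ⊗[k] L := AdjoinRoot.liftAlgHom _ (Algebra.ofId K _) _ hroot
  have hinj : Function.Injective ψ := (ψ : E →+* K ⊗[k] L).injective
  haveI : FiniteDimensional K E := (AdjoinRoot.powerBasis hPK.ne_zero).finite
  have hfin : Module.finrank K E = Module.finrank K (K ⊗[k] L) := by
    rw [Module.finrank_baseChange, (AdjoinRoot.powerBasis hPK.ne_zero).finrank,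
      AdjoinRoot.powerBasis_dim, natDegree_map, pb.finrank, ← pb.natDegree_minpoly]
  have hsurj : Function.Surjective ψ :=
    (LinearMap.injective_iff_surjective_of_finrank_eq_finrank hfin (f := ψ.toLinearMap)).mp hinj
  exact (RingEquiv.ofBijective ψ ⟨hinj, hsurj⟩).symm.toMulEquiv.isDomain E


/-- the canonical map `A ⊗ L' → A ⊗ L` for an intermediate field `L'`. -/
noncomputable abbrev tmap {k : Type*} (A : Type*) {L : Type*} [Field k] [CommRing A] [Algebra k A]
    [Field L] [Algebra k L] (L' : IntermediateField k L) : A ⊗[k] L' →ₐ[k] A ⊗[k] L :=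
  Algebra.TensorProduct.map (AlgHom.id k A) L'.val

theorem tmap_injective {k : Type*} (A : Type*) {L : Type*} [Field k] [CommRing A] [Algebra k A]
    [Field L] [Algebra k L] (L' : IntermediateField k L) : Function.Injective (tmap A L') := by
  have h1 := TensorProduct.map_injective_of_flat_flat (LinearMap.id : A →ₗ[k] A)
    L'.val.toLinearMap Function.injective_id Subtype.val_injective
  have h2 : (tmap A L').toLinearMap =
      TensorProduct.map (LinearMap.id : A →ₗ[k] A) L'.val.toLinearMap := by
    ext p q
    simp [tmap]
  intro p q hpq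
  apply h1
  rw [← h2]
  exact hpq

theorem tmap_range_mono {k : Type*} (A : Type*) {L : Type*} [Field k] [CommRing A] [Algebra k A]
    [Field L] [Algebra k L] {L' L'' : IntermediateField k L} (hle : L' ≤ L'') :
    (tmap A L').range ≤ (tmap A L'').range := by
  rintro _ ⟨x, rfl⟩
  refine ⟨Algebra.TensorProduct.map (AlgHom.id k A) (IntermediateField.inclusion hle) x, ?_⟩
  have : (tmap A L'').comp (Algebra.TensorProduct.map (AlgHom.id k A)
      (IntermediateField.inclusion hle)) = tmap A L' := by
    ext a
    · simp [tmap]
    · simp [tmap]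
  exact DFunLike.congr_fun this x

theorem exists_finite_mem_range {k : Type*} (A : Type*) {L : Type*} [Field k] [CommRing A]
    [Algebra k A] [Field L] [Algebra k L] [Algebra.IsAlgebraic k L] (x : A ⊗[k] L) :
    ∃ L' : IntermediateField k L, FiniteDimensional k L' ∧ x ∈ (tmap A L').range := by
  induction x using TensorProduct.induction_on with
  | zero => exact ⟨⊥, inferInstance, zero_mem _⟩
  | tmul a c =>
    refine ⟨IntermediateField.adjoin k {c},
      IntermediateField.adjoin.finiteDimensional (Algebra.IsIntegral.isIntegral c), ?_⟩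
    exact ⟨a ⊗ₜ ⟨c, IntermediateField.mem_adjoin_simple_self k c⟩, by simp [tmap]⟩
  | add x y hx hy =>
    obtain ⟨L₁, h1, hx⟩ := hx
    obtain ⟨L₂, h2, hy⟩ := hy
    refine ⟨L₁ ⊔ L₂, IntermediateField.finiteDimensional_sup L₁ L₂, ?_⟩
    exact add_mem (tmap_range_mono A le_sup_left hx) (tmap_range_mono A le_sup_right hy)

theorem exists_finite_mem_range₂ {k : Type*} (A : Type*) {L : Type*} [Field k] [CommRing A]
    [Algebra k A] [Field L] [Algebra k L] [Algebra.IsAlgebraic k L] (x y : A ⊗[k] L) :
    ∃ L' : IntermediateField k L, FiniteDimensional k L' ∧ x ∈ (tmap A L').range ∧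
      y ∈ (tmap A L').range := by
  obtain ⟨L₁, h1, hx⟩ := exists_finite_mem_range A x
  obtain ⟨L₂, h2, hy⟩ := exists_finite_mem_range A y
  exact ⟨L₁ ⊔ L₂, IntermediateField.finiteDimensional_sup L₁ L₂,
    tmap_range_mono A le_sup_left hx, tmap_range_mono A le_sup_right hy⟩

theorem isDomain_tensor_of_separable {k K L : Type*} [Field k] [Field K] [Algebra k K]
    [Field L] [Algebra k L] [Algebra.IsSeparable k L]
    (h : separableClosure k K = ⊥) : IsDomain (K ⊗[k] L) := by
  haveI : Nontrivial (K ⊗[k] L) := by
    have hinj : Function.Injective (Algebra.TensorProduct.includeRight : L →ₐ[k] K ⊗[k] L) :=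
      Algebra.TensorProduct.includeRight_injective (FaithfulSMul.algebraMap_injective k K)
    exact hinj.nontrivial
  haveI : NoZeroDivisors (K ⊗[k] L) := by
    refine ⟨fun {x y} hxy => ?_⟩
    obtain ⟨L', hfin, ⟨x', rfl⟩, ⟨y', rfl⟩⟩ := exists_finite_mem_range₂ K x y
    haveI : Algebra.IsSeparable k L' := Algebra.isSeparable_tower_bot_of_isSeparable k L' L
    haveI hdom : IsDomain (K ⊗[k] L') := isDomain_tensor_of_finite_separable (k := k) (K := K) (L := L') h
    have h0 : x' * y' = 0 := by
      apply tmap_injective K L'
      rw [map_mul, map_zero]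
      exact hxy
    haveI hnzd : NoZeroDivisors (K ⊗[k] L') := @IsDomain.to_noZeroDivisors _ _ hdom
    rcases mul_eq_zero.mp h0 with h1 | h1
    · left; rw [h1, map_zero]
    · right; rw [h1, map_zero]
  exact NoZeroDivisors.to_isDomain _

end Alg


section Geo

theorem irreducibleSpace_bc_sep_of_separableClosure_eq_bot (k K : Type u) [Field k] [Field K]
    [Algebra k K] (h : separableClosure k K = ⊥) :
    IrreducibleSpace ↥(Groth.Agent.S2502.bc (Spec.map (CommRingCat.ofHom (algebraMap k K)))
      (SeparableClosure k)) := by
  show IrreducibleSpace ↥(Limits.pullback (Spec.map (CommRingCat.ofHom (algebraMap k K)))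
      (Spec.map (CommRingCat.ofHom (algebraMap k (SeparableClosure k)))))
  rw [(pullbackSpecIso k K (SeparableClosure k)).hom.homeomorph.irreducibleSpace_iff]
  haveI := isDomain_tensor_of_separable (k := k) (K := K) (L := SeparableClosure k) h
  exact (inferInstance : IrreducibleSpace (PrimeSpectrum (K ⊗[k] SeparableClosure k)))

theorem geomIrr_spec_of_separableClosure_eq_bot (k K : Type u) [Field k] [Field K]
    [Algebra k K] (h : separableClosure k K = ⊥) :
    GeometricallyIrreducible (Spec.map (CommRingCat.ofHom (algebraMap k K))) := by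
  letI : (Spec (CommRingCat.of K)).Over (Spec (CommRingCat.of k)) :=
    ⟨Spec.map (CommRingCat.ofHom (algebraMap k K))⟩
  haveI : IrreducibleSpace ↥(Curv2.bc k (Spec (CommRingCat.of K)) (SeparableClosure k)) :=
    irreducibleSpace_bc_sep_of_separableClosure_eq_bot k K h
  exact Groth.Agent.S1559.main_irr k (Spec (CommRingCat.of K))

theorem geomConn_spec_of_separableClosure_eq_bot (k K : Type u) [Field k] [Field K]
    [Algebra k K] (h : separableClosure k K = ⊥) :
    GeometricallyConnected (Spec.map (CommRingCat.ofHom (algebraMap k K))) := by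
  letI : (Spec (CommRingCat.of K)).Over (Spec (CommRingCat.of k)) :=
    ⟨Spec.map (CommRingCat.ofHom (algebraMap k K))⟩
  haveI : IrreducibleSpace ↥(Curv2.bc k (Spec (CommRingCat.of K)) (SeparableClosure k)) :=
    irreducibleSpace_bc_sep_of_separableClosure_eq_bot k K h
  haveI : ConnectedSpace ↥(Curv2.bc k (Spec (CommRingCat.of K)) (SeparableClosure k)) :=
    inferInstance
  exact Groth.Agent.S1559.main k (Spec (CommRingCat.of K))

theorem main {k : Type u} [Field k] {X : Scheme.{u}}
    [ConnectedSpace X] (f : X ⟶ Spec (CommRingCat.of k)) (x : X)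
    (hx : FBase.ResidueFieldProp f x (fun K _ _ => separableClosure k K = ⊥)) :
    GeometricallyConnected f := by
  obtain ⟨φ, hφ, hsep⟩ := hx
  letI := φ.toAlgebra
  haveI : GeometricallyConnected (X.fromSpecResidueField x ≫ f) := by
    rw [← hφ]
    exact geomConn_spec_of_separableClosure_eq_bot k (X.residueField x) hsep
  exact Groth.Agent.S2502.main (X.fromSpecResidueField x) f

end Geo


end


/-- For a connected scheme: let X be a connected scheme over a field k and x a point of X whose residue
field κ(x) is a primary extension of k, i.e. the separable algebraic closure of k in κ(x) is k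
itself (this holds in particular when x is a k-rational point). Then X is geometrically connected
over k. (The published statement concerns the connected component of x in an arbitrary scheme over
k; this row takes X connected.) -/
theorem result {k : Type u} [Field k] {X : Scheme.{u}}
    [ConnectedSpace X] (f : X ⟶ Spec (CommRingCat.of k)) (x : X)
    (hx : FBase.ResidueFieldProp f x (fun K _ _ => separableClosure k K = ⊥)) :
    GeometricallyConnected f := by
  classical
  exact main f x hx

end Groth.Agent.S4619
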