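import Groth.Statements.S7591
import Mathlib
import Groth.Agent.S4619

set_option autoImplicit false
universe u
open CategoryTheory CategoryTheory.Limits AlgebraicGeometry
open Variety

namespace Groth.Agent.S7591

section
open CategoryTheory CategoryTheory.Limits AlgebraicGeometry
open Variety

open TensorProduct

section Tower

variable {k : Type u} [Field k]

/-- transition map between base changes along a tower `k → K → L`. -/
noncomputable def bcTrans {X : Scheme.{u}} (f : X ⟶ Spec (CommRingCat.of k)) (K L : Type u)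
    [Field K] [Field L] [Algebra k K] [Algebra k L] [Algebra K L] [IsScalarTower k K L] :
    Groth.Agent.S2502.bc f L ⟶ Groth.Agent.S2502.bc f K :=
  pullback.lift (pullback.fst _ _)
    (pullback.snd _ _ ≫ Spec.map (CommRingCat.ofHom (algebraMap K L))) (by
      rw [Category.assoc, ← Spec.map_comp, ← CommRingCat.ofHom_comp,
        ← IsScalarTower.algebraMap_eq]
      exact pullback.condition)

theorem bcTrans_fst {X : Scheme.{u}} (f : X ⟶ Spec (CommRingCat.of k)) (K L : Type u)
    [Field K] [Field L] [Algebra k K] [Algebra k L] [Algebra K L] [IsScalarTower k K L] :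
    bcTrans f K L ≫ Groth.Agent.S2502.bcπ f K = Groth.Agent.S2502.bcπ f L :=
  pullback.lift_fst _ _ _

theorem bcTrans_snd {X : Scheme.{u}} (f : X ⟶ Spec (CommRingCat.of k)) (K L : Type u)
    [Field K] [Field L] [Algebra k K] [Algebra k L] [Algebra K L] [IsScalarTower k K L] :
    bcTrans f K L ≫ pullback.snd f (Spec.map (CommRingCat.ofHom (algebraMap k K))) =
      pullback.snd f (Spec.map (CommRingCat.ofHom (algebraMap k L))) ≫
        Spec.map (CommRingCat.ofHom (algebraMap K L)) :=
  pullback.lift_snd _ _ _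

theorem isPullback_bcTrans {X : Scheme.{u}} (f : X ⟶ Spec (CommRingCat.of k)) (K L : Type u)
    [Field K] [Field L] [Algebra k K] [Algebra k L] [Algebra K L] [IsScalarTower k K L] :
    IsPullback (bcTrans f K L) (pullback.snd f (Spec.map (CommRingCat.ofHom (algebraMap k L))))
      (pullback.snd f (Spec.map (CommRingCat.ofHom (algebraMap k K))))
      (Spec.map (CommRingCat.ofHom (algebraMap K L))) := by
  apply IsPullback.of_right _ (bcTrans_snd f K L) (IsPullback.of_hasPullback f _)
  rw [bcTrans_fst]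
  have e : Spec.map (CommRingCat.ofHom (algebraMap K L)) ≫
      Spec.map (CommRingCat.ofHom (algebraMap k K)) =
      Spec.map (CommRingCat.ofHom (algebraMap k L)) := by
    rw [← Spec.map_comp, ← CommRingCat.ofHom_comp, ← IsScalarTower.algebraMap_eq]
  rw [e]
  exact IsPullback.of_hasPullback f _

/-- functoriality of base change in the scheme. -/
noncomputable def bcMap {X W : Scheme.{u}} (g : W ⟶ X) (f : X ⟶ Spec (CommRingCat.of k))
    (K : Type u) [Field K] [Algebra k K] :
    Groth.Agent.S2502.bc (g ≫ f) K ⟶ Groth.Agent.S2502.bc f K :=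
  pullback.lift (pullback.fst _ _ ≫ g) (pullback.snd _ _) (by
    rw [Category.assoc]
    exact pullback.condition)

theorem bcMap_fst {X W : Scheme.{u}} (g : W ⟶ X) (f : X ⟶ Spec (CommRingCat.of k))
    (K : Type u) [Field K] [Algebra k K] :
    bcMap g f K ≫ Groth.Agent.S2502.bcπ f K = Groth.Agent.S2502.bcπ (g ≫ f) K ≫ g :=
  pullback.lift_fst _ _ _

theorem bcMap_snd {X W : Scheme.{u}} (g : W ⟶ X) (f : X ⟶ Spec (CommRingCat.of k))
    (K : Type u) [Field K] [Algebra k K] :
    bcMap g f K ≫ pullback.snd f (Spec.map (CommRingCat.ofHom (algebraMap k K))) =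
      pullback.snd (g ≫ f) (Spec.map (CommRingCat.ofHom (algebraMap k K))) :=
  pullback.lift_snd _ _ _

theorem isPullback_bcMap {X W : Scheme.{u}} (g : W ⟶ X) (f : X ⟶ Spec (CommRingCat.of k))
    (K : Type u) [Field K] [Algebra k K] :
    IsPullback (bcMap g f K) (Groth.Agent.S2502.bcπ (g ≫ f) K) (Groth.Agent.S2502.bcπ f K) g := by
  have hX : IsPullback (pullback.snd f (Spec.map (CommRingCat.ofHom (algebraMap k K))))
      (Groth.Agent.S2502.bcπ f K) (Spec.map (CommRingCat.ofHom (algebraMap k K))) f :=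
    (IsPullback.of_hasPullback f _).flip
  apply IsPullback.of_right _ (bcMap_fst g f K) hX
  rw [bcMap_snd]
  exact (IsPullback.of_hasPullback (g ≫ f) _).flip

theorem isPullback_bcMap_bcTrans {X W : Scheme.{u}} (g : W ⟶ X) (f : X ⟶ Spec (CommRingCat.of k))
    (K L : Type u)
    [Field K] [Field L] [Algebra k K] [Algebra k L] [Algebra K L] [IsScalarTower k K L] :
    IsPullback (bcMap g f L) (bcTrans (g ≫ f) K L) (bcTrans f K L) (bcMap g f K) := by
  have comm : bcMap g f L ≫ bcTrans f K L = bcTrans (g ≫ f) K L ≫ bcMap g f K := by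
    apply pullback.hom_ext
    · rw [Category.assoc, Category.assoc]
      erw [bcTrans_fst f K L, bcMap_fst g f K, bcMap_fst g f L]
      rw [← Category.assoc]
      erw [bcTrans_fst (g ≫ f) K L]
    · rw [Category.assoc, Category.assoc, bcTrans_snd f K L, bcMap_snd g f K,
        bcTrans_snd (g ≫ f) K L, ← Category.assoc, bcMap_snd g f L]
  apply IsPullback.of_bot _ comm (isPullback_bcMap g f K)
  erw [bcTrans_fst (g ≫ f) K L, bcTrans_fst f K L]
  exact isPullback_bcMap g f L

end Tower


section TransProps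

variable {k : Type u} [Field k]

theorem isOpenMap_bcTrans {X : Scheme.{u}} (f : X ⟶ Spec (CommRingCat.of k)) (K L : Type u)
    [Field K] [Field L] [Algebra k K] [Algebra k L] [Algebra K L] [IsScalarTower k K L] :
    IsOpenMap (bcTrans f K L) := by
  have h : UniversallyOpen (bcTrans f K L) :=
    MorphismProperty.of_isPullback (P := @UniversallyOpen) (isPullback_bcTrans f K L).flip
      inferInstance
  exact (bcTrans f K L).isOpenMap

theorem surjective_bcTrans {X : Scheme.{u}} (f : X ⟶ Spec (CommRingCat.of k)) (K L : Type u)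
    [Field K] [Field L] [Algebra k K] [Algebra k L] [Algebra K L] [IsScalarTower k K L] :
    Function.Surjective (bcTrans f K L) := by
  have h : Surjective (bcTrans f K L) :=
    MorphismProperty.of_isPullback (P := @Surjective) (isPullback_bcTrans f K L).flip
      (Groth.Agent.S1630.surj_spec K L _)
  exact h.surj

theorem isClosedMap_bcTrans {X : Scheme.{u}} (f : X ⟶ Spec (CommRingCat.of k)) (K L : Type u)
    [Field K] [Field L] [Algebra k K] [Algebra k L] [Algebra K L] [IsScalarTower k K L]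
    [Algebra.IsAlgebraic K L] :
    IsClosedMap (bcTrans f K L) := by
  have h : IsIntegralHom (bcTrans f K L) :=
    MorphismProperty.of_isPullback (P := @IsIntegralHom) (isPullback_bcTrans f K L).flip
      (Groth.Agent.S2502.isIntegralHom_spec_of_isAlgebraic K L)
  exact (bcTrans f K L).isClosedMap

end TransProps

section Topo

theorem clopen_trivial_of_descent {α β : Type*} [TopologicalSpace α] [TopologicalSpace β]
    [PreconnectedSpace β] {p : α → β} (ho : IsOpenMap p) (hcl : IsClosedMap p)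
    (hsurj : Function.Surjective p) {U : Set α} (hU : IsClopen U) (S : Set β) (hS : S.Nonempty)
    (hdisj : ∀ u ∈ U, ∀ v ∈ Uᶜ, p u = p v → p u ∉ S) : U = ∅ ∨ U = Set.univ := by
  have hA : IsClopen (p '' U) := ⟨hcl _ hU.1, ho _ hU.2⟩
  have hB : IsClopen (p '' Uᶜ) := ⟨hcl _ hU.compl.1, ho _ hU.compl.2⟩
  have hAB : p '' U ∩ p '' Uᶜ = ∅ := by
    rcases isClopen_iff.mp (hA.inter hB) with h | h
    · exact h
    · exfalso
      obtain ⟨s, hs⟩ := hS
      have : s ∈ p '' U ∩ p '' Uᶜ := by rw [h]; trivial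
      obtain ⟨⟨u, hu, rfl⟩, ⟨v, hv, hvu⟩⟩ := this
      exact hdisj u hu v hv hvu.symm hs
  rcases isClopen_iff.mp hA with h | h
  · left
    exact Set.image_eq_empty.mp h
  · right
    have hB0 : p '' Uᶜ = ∅ := by
      rw [h, Set.univ_inter] at hAB
      exact hAB
    exact Set.compl_empty_iff.mp (Set.image_eq_empty.mp hB0)

end Topo

section Affine

variable {k : Type u} [Field k] (A : Type u) [CommRing A] [Algebra k A]

theorem bcTrans_affine (Ω : Type u) [Field Ω] [Algebra k Ω] (E : IntermediateField k Ω) :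
    bcTrans (Spec.map (CommRingCat.ofHom (algebraMap k A))) E Ω ≫ (pullbackSpecIso k A E).hom =
      (pullbackSpecIso k A Ω).hom ≫
        Spec.map (CommRingCat.ofHom (Groth.Agent.S4619.tmap A E).toRingHom) := by
  rw [← Iso.eq_comp_inv, Category.assoc, ← Iso.inv_comp_eq]
  apply pullback.hom_ext
  · rw [Category.assoc, Category.assoc]
    erw [bcTrans_fst]
    rw [pullbackSpecIso_inv_fst, pullbackSpecIso_inv_fst, ← Spec.map_comp]
    congr 1
  · rw [Category.assoc, Category.assoc, bcTrans_snd, pullbackSpecIso_inv_snd_assoc,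
      pullbackSpecIso_inv_snd, ← Spec.map_comp, ← Spec.map_comp]
    congr 1


theorem exists_clopen_descent_aux (Ω : Type u) [Field Ω] [Algebra k Ω] [Algebra.IsAlgebraic k Ω]
    (U : Set ↥(Groth.Agent.S2502.bc (Spec.map (CommRingCat.ofHom (algebraMap k A))) Ω))
    (hU : IsClopen U) :
    ∃ E : IntermediateField k Ω, FiniteDimensional k E ∧
      ∃ U' : Set ↥(Groth.Agent.S2502.bc (Spec.map (CommRingCat.ofHom (algebraMap k A))) E),
        IsClopen U' ∧
        U = ⇑(bcTrans (Spec.map (CommRingCat.ofHom (algebraMap k A))) E Ω) ⁻¹' U' := by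
  -- transport to the prime spectrum
  have hU₁ : IsClopen (⇑(pullbackSpecIso k A Ω).inv ⁻¹' U) :=
    hU.preimage (pullbackSpecIso k A Ω).inv.continuous
  obtain ⟨e, he, hUe⟩ := PrimeSpectrum.isClopen_iff.mp hU₁
  obtain ⟨E, hE, ⟨e', rfl⟩⟩ := Groth.Agent.S4619.exists_finite_mem_range A e
  have he' : IsIdempotentElem e' := by
    apply Groth.Agent.S4619.tmap_injective A E
    rw [map_mul]
    exact he
  refine ⟨E, hE, ⇑(pullbackSpecIso k A E).hom ⁻¹' (show Set ↥(Spec (CommRingCat.of (A ⊗[k] ↥E))) from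
      (↑(PrimeSpectrum.basicOpen e') : Set (PrimeSpectrum (A ⊗[k] ↥E)))),
    ?_, ?_⟩
  · exact (PrimeSpectrum.isClopen_iff.mpr ⟨e', he', rfl⟩).preimage
      (pullbackSpecIso k A E).hom.continuous
  · ext z
    have h1 : z ∈ U ↔ (pullbackSpecIso k A Ω).hom z ∈ ⇑(pullbackSpecIso k A Ω).inv ⁻¹' U := by
      rw [Set.mem_preimage, ← Scheme.Hom.comp_apply, Iso.hom_inv_id]
      rfl
    rw [h1, hUe, Set.mem_preimage, Set.mem_preimage, ← Scheme.Hom.comp_apply, bcTrans_affine,
      Scheme.Hom.comp_apply, Spec.map_apply]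
    rfl

theorem exists_clopen_descent {R : CommRingCat.{u}} (h0 : Spec R ⟶ Spec (CommRingCat.of k))
    (Ω : Type u) [Field Ω] [Algebra k Ω] [Algebra.IsAlgebraic k Ω]
    (U : Set ↥(Groth.Agent.S2502.bc h0 Ω)) (hU : IsClopen U) :
    ∃ E : IntermediateField k Ω, FiniteDimensional k E ∧
      ∃ U' : Set ↥(Groth.Agent.S2502.bc h0 E), IsClopen U' ∧ U = ⇑(bcTrans h0 E Ω) ⁻¹' U' := by
  obtain ⟨ψ, rfl⟩ : ∃ ψ : CommRingCat.of k ⟶ R, h0 = Spec.map ψ :=
    ⟨Spec.preimage h0, (Spec.map_preimage h0).symm⟩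
  letI : Algebra k R := ψ.hom.toAlgebra
  exact exists_clopen_descent_aux (k := k) R Ω U hU

end Affine


section Main

variable {k : Type u} [Field k]

theorem connectedSpace_of_finite_levels {X : Scheme.{u}} (f : X ⟶ Spec (CommRingCat.of k))
    (Ω : Type u) [Field Ω] [Algebra k Ω] [Algebra.IsAlgebraic k Ω]
    (h : ∀ E : IntermediateField k Ω, FiniteDimensional k E →
      ConnectedSpace ↥(Groth.Agent.S2502.bc f E)) :
    ConnectedSpace ↥(Groth.Agent.S2502.bc f Ω) := by
  -- a point of X
  obtain ⟨x⟩ : Nonempty X := by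
    haveI := h ⊥ inferInstance
    obtain ⟨z⟩ := (inferInstance : Nonempty ↥(Groth.Agent.S2502.bc f (⊥ : IntermediateField k Ω)))
    exact ⟨Groth.Agent.S2502.bcπ f _ z⟩
  let j : Spec (X.residueField x) ⟶ X := X.fromSpecResidueField x
  obtain ⟨w⟩ : Nonempty ↥(Spec (X.residueField x)) := inferInstance
  rw [connectedSpace_iff_clopen]
  refine ⟨?_, ?_⟩
  · obtain ⟨z, -⟩ := Groth.Agent.S2502.surjective_bcπ f Ω x
    exact ⟨z⟩
  intro U hU
  have hUW : IsClopen (⇑(bcMap j f Ω) ⁻¹' U) := hU.preimage (bcMap j f Ω).continuous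
  obtain ⟨E, hE, U', hU', hUU'⟩ := exists_clopen_descent (j ≫ f) Ω _ hUW
  haveI := h E hE
  haveI : Algebra.IsAlgebraic E Ω := Algebra.IsAlgebraic.tower_top (K := k) E
  obtain ⟨w', -⟩ := Groth.Agent.S2502.surjective_bcπ (j ≫ f) E w
  refine clopen_trivial_of_descent (isOpenMap_bcTrans f E Ω) (isClosedMap_bcTrans f E Ω)
    (surjective_bcTrans f E Ω) hU (Set.range (bcMap j f E)) ⟨_, ⟨w', rfl⟩⟩ ?_
  rintro u hu v hv huv ⟨t, ht⟩
  obtain ⟨w₁, hw₁, hw₁'⟩ := Groth.Agent.S2502.exists_preimage_of_isPullback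
    (isPullback_bcMap_bcTrans j f E Ω) u t ht.symm
  obtain ⟨w₂, hw₂, hw₂'⟩ := Groth.Agent.S2502.exists_preimage_of_isPullback
    (isPullback_bcMap_bcTrans j f E Ω) v t (huv ▸ ht.symm)
  have h1 : w₁ ∈ ⇑(bcMap j f Ω) ⁻¹' U := by
    show (bcMap j f Ω) w₁ ∈ U
    rw [hw₁]; exact hu
  have h2 : w₂ ∉ ⇑(bcMap j f Ω) ⁻¹' U := by
    show (bcMap j f Ω) w₂ ∉ U
    rw [hw₂]; exact hv
  rw [hUU', Set.mem_preimage] at h1 h2
  rw [hw₁'] at h1
  rw [hw₂'] at h2
  exact h2 h1


theorem geomConn_of_finite_separable {X : Scheme.{u}} (f : X ⟶ Spec (CommRingCat.of k))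
    (h : ∀ (k' : Type u) [Field k'] [Algebra k k'] [FiniteDimensional k k']
      [Algebra.IsSeparable k k'], ConnectedSpace ↥(Groth.Agent.S2502.bc f k')) :
    GeometricallyConnected f := by
  letI : X.Over (Spec (CommRingCat.of k)) := ⟨f⟩
  haveI : ConnectedSpace ↥(Curv2.bc k X (SeparableClosure k)) := by
    refine connectedSpace_of_finite_levels f (SeparableClosure k) (fun E hE => ?_)
    haveI : Algebra.IsSeparable k E :=
      Algebra.isSeparable_tower_bot_of_isSeparable k E (SeparableClosure k)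
    exact h E
  exact Groth.Agent.S1559.main k X

theorem main (k : Type u) [Field k] (X : Scheme.{u}) [X.Over (Spec (CommRingCat.of k))] :
    GeometricallyConnected (X ↘ (Spec (CommRingCat.of k))) ↔
      ∀ (k' : Type u) [Field k'] [Algebra k k'] [FiniteDimensional k k'] [Algebra.IsSeparable k k'],
        ConnectedSpace ↥(Curv2.bc k X k') := by
  constructor
  · intro hgc k' _ _ _ _
    exact GeometricallyConnected.geometrically_connectedSpace _ _ _ (.of_hasPullback _ _)
  · intro h
    exact geomConn_of_finite_separable (X ↘ (Spec (CommRingCat.of k))) h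

end Main


end


/-- For a scheme X over a field k, geometric connectedness of X over k holds exactly when, for each
finite separable extension field k' of k, the base change X_{k'} is a connected (so nonempty)
scheme. -/
theorem result (k : Type u) [Field k] (X : Scheme.{u}) [X.Over (Spec (CommRingCat.of k))] :
    GeometricallyConnected (X ↘ (Spec (CommRingCat.of k))) ↔
      ∀ (k' : Type u) [Field k'] [Algebra k k'] [FiniteDimensional k k'] [Algebra.IsSeparable k k'],
        ConnectedSpace ↥(Curv2.bc k X k') := by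
  classical
  exact main k X

end Groth.Agent.S7591
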