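import Groth.Statements.S1560
import Mathlib
import Groth.Agent.S2536

set_option autoImplicit false
universe u
open CategoryTheory CategoryTheory.Limits AlgebraicGeometry
open Variety

namespace Groth.Agent.S1560

section
open CategoryTheory CategoryTheory.Limits AlgebraicGeometry

open TensorProduct

theorem flat_fromSpecStalk (X : Scheme.{u}) (x : X) : Flat (X.fromSpecStalk x) := by
  obtain ⟨_, ⟨U, hU, rfl⟩, hxU, -⟩ :=
    X.isBasis_affineOpens.exists_subset_of_mem_open (Set.mem_univ x) isOpen_univ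
  rw [← hU.fromSpecStalk_eq_fromSpecStalk hxU, IsAffineOpen.fromSpecStalk]
  haveI : Flat (Spec.map (X.presheaf.germ U x hxU)) := by
    rw [Flat.SpecMap_iff]
    letI : Algebra Γ(X, U) (X.presheaf.stalk x) := (X.presheaf.germ U x hxU).hom.toAlgebra
    haveI := hU.isLocalization_stalk ⟨x, hxU⟩
    exact RingHom.flat_algebraMap_iff.mpr
      (IsLocalization.flat (X.presheaf.stalk x) (hU.primeIdealOf ⟨x, hxU⟩).asIdeal.primeCompl)
  infer_instance

/-- a flat preimmersion induces bijections on stalks -/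
theorem stalkMap_bijective_of_flat_preimmersion {X Y : Scheme.{u}} (g : X ⟶ Y) [Flat g]
    [IsPreimmersion g] (z : X) : Function.Bijective (g.stalkMap z).hom := by
  refine ⟨?_, g.stalkMap_surjective z⟩
  letI : Algebra (Y.presheaf.stalk (g z)) (X.presheaf.stalk z) := (g.stalkMap z).hom.toAlgebra
  haveI : Module.Flat (Y.presheaf.stalk (g z)) (X.presheaf.stalk z) :=
    RingHom.flat_algebraMap_iff.mp (Flat.stalkMap g z)
  haveI : IsLocalHom (algebraMap (Y.presheaf.stalk (g z)) (X.presheaf.stalk z)) :=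
    inferInstanceAs (IsLocalHom (g.stalkMap z).hom)
  haveI : Module.FaithfullyFlat (Y.presheaf.stalk (g z)) (X.presheaf.stalk z) :=
    Module.FaithfullyFlat.of_flat_of_isLocalHom
  exact FaithfulSMul.algebraMap_injective (Y.presheaf.stalk (g z)) (X.presheaf.stalk z)

/-- stalks of `Spec R ×_k Spec K` -/
theorem exists_stalk_equiv_spec {k K : Type u} [Field k] [Field K] [Algebra k K]
    (R : Type u) [CommRing R] [Algebra k R]
    (z : ↥(Groth.Agent.S2502.bc (Spec.map (CommRingCat.ofHom (algebraMap k R))) K)) :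
    ∃ q : PrimeSpectrum (R ⊗[k] K),
      q.comap (algebraMap R (R ⊗[k] K)) =
        Groth.Agent.S2502.bcπ (Spec.map (CommRingCat.ofHom (algebraMap k R))) K z ∧
      Nonempty ((Groth.Agent.S2502.bc (Spec.map (CommRingCat.ofHom (algebraMap k R))) K).presheaf.stalk z
        ≃+* Localization.AtPrime q.asIdeal) := by
  let e := pullbackSpecIso k R K
  refine ⟨e.hom z, ?_, ?_⟩
  · have h1 := pullbackSpecIso_hom_fst' k R K
    have h2 := congrArg (fun g => g z) h1
    simp only [Scheme.Hom.comp_apply] at h2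
    exact h2
  · have i1 : (Spec (CommRingCat.of (R ⊗[k] K))).presheaf.stalk (e.hom z) ≅
        (Groth.Agent.S2502.bc (Spec.map (CommRingCat.ofHom (algebraMap k R))) K).presheaf.stalk z :=
      asIso (e.hom.stalkMap z)
    have i2 := Spec.stalkIso (CommRingCat.of (R ⊗[k] K)) (e.hom z)
    exact ⟨(i1.symm ≪≫ i2).commRingCatIsoToRingEquiv⟩

theorem exists_stalk_equiv_spec' {k K : Type u} [Field k] [Field K] [Algebra k K]
    (R : CommRingCat.{u}) [Algebra k R] (h : Spec R ⟶ Spec (CommRingCat.of k))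
    (hφ : Spec.map (CommRingCat.ofHom (algebraMap k R)) = h)
    (z : ↥(Groth.Agent.S2502.bc h K)) :
    ∃ q : PrimeSpectrum (R ⊗[k] K),
      q.comap (algebraMap R (R ⊗[k] K)) = Groth.Agent.S2502.bcπ h K z ∧
      Nonempty ((Groth.Agent.S2502.bc h K).presheaf.stalk z ≃+* Localization.AtPrime q.asIdeal) := by
  subst hφ
  exact exists_stalk_equiv_spec R z

/-- bijectivity of the stalk maps of `Spec O_{X,x} ×_k K → X_K` -/
theorem stalkMap_bcMap_fromSpecStalk_bijective {k K : Type u} [Field k] [Field K] [Algebra k K]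
    {X : Scheme.{u}} (f : X ⟶ Spec (CommRingCat.of k)) (x : X)
    (z : ↥(Groth.Agent.S2502.bc (X.fromSpecStalk x ≫ f) K)) :
    Function.Bijective ((Groth.Agent.S7591.bcMap (X.fromSpecStalk x) f K).stalkMap z).hom := by
  have hpb := Groth.Agent.S7591.isPullback_bcMap (X.fromSpecStalk x) f K
  haveI : Flat (Groth.Agent.S7591.bcMap (X.fromSpecStalk x) f K) :=
    MorphismProperty.of_isPullback (P := @Flat) hpb.flip (flat_fromSpecStalk X x)
  haveI : IsPreimmersion (Groth.Agent.S7591.bcMap (X.fromSpecStalk x) f K) :=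
    MorphismProperty.of_isPullback (P := @IsPreimmersion) hpb.flip inferInstance
  exact stalkMap_bijective_of_flat_preimmersion _ z

/-- general form: points of `X_K` in the image of `Spec (O_{X,x} ⊗ K)` -/
theorem exists_stalk_equiv_of_mem {k K : Type u} [Field k] [Field K] [Algebra k K]
    {X : Scheme.{u}} (f : X ⟶ Spec (CommRingCat.of k)) (x : X) [Algebra k (X.presheaf.stalk x)]
    (hφ : Spec.map (CommRingCat.ofHom (algebraMap k (X.presheaf.stalk x))) = X.fromSpecStalk x ≫ f)
    (x' : ↥(Groth.Agent.S2502.bc f K)) (y : ↥(Spec (X.presheaf.stalk x)))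
    (hx' : Groth.Agent.S2502.bcπ f K x' = X.fromSpecStalk x y) :
    ∃ q : PrimeSpectrum (X.presheaf.stalk x ⊗[k] K),
      q.comap (algebraMap (X.presheaf.stalk x) (X.presheaf.stalk x ⊗[k] K)) = y ∧
      Nonempty ((Groth.Agent.S2502.bc f K).presheaf.stalk x' ≃+* Localization.AtPrime q.asIdeal) := by
  have hpb := Groth.Agent.S7591.isPullback_bcMap (X.fromSpecStalk x) f K
  obtain ⟨z, rfl, hz2⟩ := Groth.Agent.S2502.exists_preimage_of_isPullback hpb x' y hx'
  have hbij := stalkMap_bcMap_fromSpecStalk_bijective f x z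
  let e1 : (Groth.Agent.S2502.bc f K).presheaf.stalk
      (Groth.Agent.S7591.bcMap (X.fromSpecStalk x) f K z) ≃+*
      (Groth.Agent.S2502.bc (X.fromSpecStalk x ≫ f) K).presheaf.stalk z :=
    RingEquiv.ofBijective _ hbij
  obtain ⟨q, hq1, ⟨e2⟩⟩ := exists_stalk_equiv_spec' (K := K) (X.presheaf.stalk x) _ hφ z
  exact ⟨q, hq1.trans hz2, ⟨e1.trans e2⟩⟩

theorem specMap_stalkMap (k : Type u) [Field k] (X : Scheme.{u}) [X.Over (Spec (CommRingCat.of k))]
    (x : X) :
    Spec.map (CommRingCat.ofHom (Curv2.stalkMap k X x)) =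
      X.fromSpecStalk x ≫ (X ↘ Spec (CommRingCat.of k)) := by
  have e1 : CommRingCat.ofHom (Curv2.stalkMap k X x) =
      (Scheme.ΓSpecIso (CommRingCat.of k)).inv ≫ (X ↘ Spec (CommRingCat.of k)).appTop ≫
        X.presheaf.germ ⊤ x trivial := rfl
  have e2 : (X ↘ Spec (CommRingCat.of k)) =
      X.toSpecΓ ≫ Spec.map (X ↘ Spec (CommRingCat.of k)).appTop ≫
        Spec.map (Scheme.ΓSpecIso (CommRingCat.of k)).inv := by
    rw [← Scheme.toSpecΓ_naturality_assoc, ← SpecMap_ΓSpecIso_hom, ← Spec.map_comp,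
      Iso.inv_hom_id, Spec.map_id, Category.comp_id]
  rw [e1, Spec.map_comp, Spec.map_comp]
  conv_rhs => rw [e2]
  rw [Scheme.fromSpecStalk_toSpecΓ_assoc, Category.assoc]

/-- reducedness of the stalk from reducedness of `O_{X,x} ⊗ K` -/
theorem isReduced_stalk_of_isReduced_tensor {k K : Type u} [Field k] [Field K] [Algebra k K]
    {X : Scheme.{u}} (f : X ⟶ Spec (CommRingCat.of k)) (x : X) [Algebra k (X.presheaf.stalk x)]
    (hφ : Spec.map (CommRingCat.ofHom (algebraMap k (X.presheaf.stalk x))) = X.fromSpecStalk x ≫ f)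
    [_root_.IsReduced (X.presheaf.stalk x ⊗[k] K)]
    (x' : ↥(Groth.Agent.S2502.bc f K)) (y : ↥(Spec (X.presheaf.stalk x)))
    (hx' : Groth.Agent.S2502.bcπ f K x' = X.fromSpecStalk x y) :
    _root_.IsReduced ((Groth.Agent.S2502.bc f K).presheaf.stalk x') := by
  obtain ⟨q, -, ⟨e⟩⟩ := exists_stalk_equiv_of_mem f x hφ x' y hx'
  exact isReduced_of_injective e.toRingHom e.injective

theorem main (k : Type u) [Field k] (X : Scheme.{u}) [X.Over (Spec (CommRingCat.of k))] [PerfectField k] (x : X)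
    [_root_.IsReduced (X.presheaf.stalk x)] : Curv2.IsGeomReducedAt k X x := by
  intro k' _ _ x' hx'
  letI := Curv2.stalkAlgebra k X x
  haveI : _root_.IsReduced (X.presheaf.stalk x ⊗[k] k') :=
    Groth.Agent.S2536.isReduced_tensor_of_perfect k _ k'
  refine isReduced_stalk_of_isReduced_tensor (X ↘ Spec (CommRingCat.of k)) x
    (specMap_stalkMap k X x) x' (IsLocalRing.closedPoint _) ?_
  rw [Scheme.fromSpecStalk_closedPoint]
  exact hx'


end


/-- Let X be a scheme over a perfect field k and x a point whose local ring is reduced. Then X is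
geometrically reduced at x. -/
theorem result (k : Type u) [Field k] (X : Scheme.{u}) [X.Over (Spec (CommRingCat.of k))] [PerfectField k] (x : X)
    [IsReduced (X.presheaf.stalk x)] : Curv2.IsGeomReducedAt k X x := by
  classical
  exact main k X x

end Groth.Agent.S1560
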