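import Groth.Statements.S1541
import Mathlib
import Groth.Agent.S1560

set_option autoImplicit false
universe u
open CategoryTheory CategoryTheory.Limits AlgebraicGeometry
attribute [local instance] Curv2.resAlgebra Curv2.stalkAlgebra
open Variety

namespace Groth.Agent.S1541

section
open CategoryTheory CategoryTheory.Limits AlgebraicGeometry

open TensorProduct

/-- converse stalk lemma, affine case -/
theorem exists_point_stalk_equiv_spec {k K : Type u} [Field k] [Field K] [Algebra k K]
    (R : Type u) [CommRing R] [Algebra k R] (q : PrimeSpectrum (R ⊗[k] K)) :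
    ∃ z : ↥(Groth.Agent.S2502.bc (Spec.map (CommRingCat.ofHom (algebraMap k R))) K),
      Groth.Agent.S2502.bcπ (Spec.map (CommRingCat.ofHom (algebraMap k R))) K z =
        q.comap (algebraMap R (R ⊗[k] K)) ∧
      Nonempty ((Groth.Agent.S2502.bc (Spec.map (CommRingCat.ofHom (algebraMap k R))) K).presheaf.stalk z
        ≃+* Localization.AtPrime q.asIdeal) := by
  let e := pullbackSpecIso k R K
  refine ⟨e.inv q, ?_, ?_⟩
  · have h1 := pullbackSpecIso_inv_fst' k R K
    have h2 := congrArg (fun g => g q) h1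
    simp only [Scheme.Hom.comp_apply] at h2
    exact h2
  · have i1 : (Groth.Agent.S2502.bc (Spec.map (CommRingCat.ofHom (algebraMap k R))) K).presheaf.stalk
        (e.inv q) ≅ (Spec (CommRingCat.of (R ⊗[k] K))).presheaf.stalk q :=
      asIso (e.inv.stalkMap q)
    have i2 := Spec.stalkIso (CommRingCat.of (R ⊗[k] K)) q
    exact ⟨(i1 ≪≫ i2).commRingCatIsoToRingEquiv⟩

theorem exists_point_stalk_equiv_spec' {k K : Type u} [Field k] [Field K] [Algebra k K]
    (R : CommRingCat.{u}) [Algebra k R] (h : Spec R ⟶ Spec (CommRingCat.of k))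
    (hφ : Spec.map (CommRingCat.ofHom (algebraMap k R)) = h) (q : PrimeSpectrum (R ⊗[k] K)) :
    ∃ z : ↥(Groth.Agent.S2502.bc h K),
      Groth.Agent.S2502.bcπ h K z = q.comap (algebraMap R (R ⊗[k] K)) ∧
      Nonempty ((Groth.Agent.S2502.bc h K).presheaf.stalk z ≃+* Localization.AtPrime q.asIdeal) := by
  subst hφ
  exact exists_point_stalk_equiv_spec R q

/-- converse stalk lemma -/
theorem exists_point_stalk_equiv {k K : Type u} [Field k] [Field K] [Algebra k K]
    {X : Scheme.{u}} (f : X ⟶ Spec (CommRingCat.of k)) (x : X) [Algebra k (X.presheaf.stalk x)]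
    (hφ : Spec.map (CommRingCat.ofHom (algebraMap k (X.presheaf.stalk x))) = X.fromSpecStalk x ≫ f)
    (q : PrimeSpectrum (X.presheaf.stalk x ⊗[k] K)) :
    ∃ x' : ↥(Groth.Agent.S2502.bc f K),
      Groth.Agent.S2502.bcπ f K x' = X.fromSpecStalk x
        (q.comap (algebraMap (X.presheaf.stalk x) (X.presheaf.stalk x ⊗[k] K))) ∧
      Nonempty ((Groth.Agent.S2502.bc f K).presheaf.stalk x' ≃+* Localization.AtPrime q.asIdeal) := by
  obtain ⟨z, hz1, ⟨e2⟩⟩ := exists_point_stalk_equiv_spec' (K := K) (X.presheaf.stalk x) _ hφ q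
  have hbij := Groth.Agent.S1560.stalkMap_bcMap_fromSpecStalk_bijective f x z
  refine ⟨Groth.Agent.S7591.bcMap (X.fromSpecStalk x) f K z, ?_, ⟨(RingEquiv.ofBijective _ hbij).trans e2⟩⟩
  have h1 := Groth.Agent.S7591.bcMap_fst (X.fromSpecStalk x) f K
  have h2 := congrArg (fun g => g z) h1
  simp only [Scheme.Hom.comp_apply] at h2
  rw [← hz1]
  exact h2

/-- Lemma D -/
theorem isReduced_tensor_of_forall_stalk {k K : Type u} [Field k] [Field K] [Algebra k K]
    [Algebra.IsAlgebraic k K]
    {X : Scheme.{u}} (f : X ⟶ Spec (CommRingCat.of k)) (x : X) [Algebra k (X.presheaf.stalk x)]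
    (hφ : Spec.map (CommRingCat.ofHom (algebraMap k (X.presheaf.stalk x))) = X.fromSpecStalk x ≫ f)
    (h : ∀ x' : ↥(Groth.Agent.S2502.bc f K), Groth.Agent.S2502.bcπ f K x' = x →
      _root_.IsReduced ((Groth.Agent.S2502.bc f K).presheaf.stalk x')) :
    _root_.IsReduced (X.presheaf.stalk x ⊗[k] K) := by
  apply isReduced_ofLocalizationMaximal
  intro J hJ
  haveI : Algebra.IsIntegral k K := Algebra.IsAlgebraic.isIntegral
  haveI hmax : (J.comap (algebraMap (X.presheaf.stalk x) (X.presheaf.stalk x ⊗[k] K))).IsMaximal :=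
    Ideal.isMaximal_comap_of_isIntegral_of_isMaximal J
  obtain ⟨x', hx'1, ⟨e⟩⟩ := exists_point_stalk_equiv f x hφ ⟨J, hJ.isPrime⟩
  have hcl : (PrimeSpectrum.comap (algebraMap (X.presheaf.stalk x) (X.presheaf.stalk x ⊗[k] K))
      ⟨J, hJ.isPrime⟩) = IsLocalRing.closedPoint (X.presheaf.stalk x) := by
    apply PrimeSpectrum.ext
    exact IsLocalRing.eq_maximalIdeal hmax
  rw [hcl, Scheme.fromSpecStalk_closedPoint] at hx'1
  haveI := h x' hx'1
  exact isReduced_of_injective e.symm.toRingHom e.symm.injective

theorem main (k : Type u) [Field k] (X : Scheme.{u}) [X.Over (Spec (CommRingCat.of k))] (x : X) :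
    Curv2.IsGeomReducedAt k X x ↔ Algebra.IsGeometricallyReduced k (X.presheaf.stalk x) := by
  constructor
  · intro h
    haveI : _root_.IsReduced (X.presheaf.stalk x ⊗[k] AlgebraicClosure k) :=
      isReduced_tensor_of_forall_stalk (X ↘ Spec (CommRingCat.of k)) x
        (Groth.Agent.S1560.specMap_stalkMap k X x) (fun x' hx' => h (AlgebraicClosure k) x' hx')
    rw [Algebra.isGeometricallyReduced_field_iff]
    exact isReduced_of_injective
      (Algebra.TensorProduct.comm k (AlgebraicClosure k) (X.presheaf.stalk x)).toRingEquiv.toRingHom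
      (Algebra.TensorProduct.comm k (AlgebraicClosure k) (X.presheaf.stalk x)).injective
  · intro h k' _ _ x' hx'
    haveI : _root_.IsReduced (k' ⊗[k] X.presheaf.stalk x) :=
      Groth.Agent.S2536.isReduced_field_tensor_of_geomReduced k _ k'
    haveI : _root_.IsReduced (X.presheaf.stalk x ⊗[k] k') := isReduced_of_injective
      (Algebra.TensorProduct.comm k (X.presheaf.stalk x) k').toRingEquiv.toRingHom
      (Algebra.TensorProduct.comm k (X.presheaf.stalk x) k').injective
    refine Groth.Agent.S1560.isReduced_stalk_of_isReduced_tensor (X ↘ Spec (CommRingCat.of k)) x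
      (Groth.Agent.S1560.specMap_stalkMap k X x) x' (IsLocalRing.closedPoint _) ?_
    rw [Scheme.fromSpecStalk_closedPoint]
    exact hx'


end


/-- Let X be a scheme over a field k and x a point of X. Then X is geometrically reduced at x (all local
rings of all base changes X_{k'} at points over x are reduced) if and only if the local ring 𝒪_{X,x}
is geometrically reduced as a k-algebra. -/
theorem result (k : Type u) [Field k] (X : Scheme.{u}) [X.Over (Spec (CommRingCat.of k))] (x : X) :
    Curv2.IsGeomReducedAt k X x ↔ Algebra.IsGeometricallyReduced k (X.presheaf.stalk x) := by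
  classical
  exact main k X x

end Groth.Agent.S1541
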