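import Groth.Statements.S8872
import Mathlib
import Groth.Agent.Lib.Lead.FittSh
import Groth.Agent.Lib.Lead.PBQc
import Groth.Agent.Lib.Helper4.IdealComap

set_option autoImplicit false
universe u
open CategoryTheory CategoryTheory.Limits AlgebraicGeometry TopologicalSpace
open SDiv

namespace Groth.Agent.S8872

section
open CategoryTheory CategoryTheory.Limits AlgebraicGeometry TopologicalSpace
open Groth.Agent.Lead.FittSh Groth.Agent.Helper4.Fitting Groth.Agent.Lead.FLF Groth.Agent.Lead.PB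
open TensorProduct

theorem fitt_pullback {T S : Scheme.{u}} (f : T ⟶ S) (F : S.Modules) [F.IsQuasicoherent]
    (hft : CohB1.IsFT F) (i : ℕ) {V : S.Opens} {U' : T.Opens} (hV : IsAffineOpen V)
    (hU' : IsAffineOpen U') (e : U' ≤ f ⁻¹ᵁ V) :
    Fitt.ideal Γ(T, U') Γ((Scheme.Modules.pullback f).obj F, U') i =
      (Fitt.ideal Γ(S, V) Γ(F, V) i).map (f.appLE V U' e).hom := by
  letI : Algebra Γ(S, V) Γ(T, U') := (f.appLE V U' e).hom.toAlgebra
  haveI := ft_sections F hft hV
  let e1 : Γ((Scheme.Modules.pullback f).obj F, U') ≃ₗ[Γ(T, U')] Γ(T, U') ⊗[Γ(S, V)] Γ(F, V) :=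
    (sectionsLinearEquiv hU' ((Scheme.Modules.pullback f).obj F)).symm ≪≫ₗ
      sectionsPullbackEquiv f F hV hU' e ≪≫ₗ
      TensorProduct.AlgebraTensorModule.congr (LinearEquiv.refl Γ(T, U') Γ(T, U'))
        (sectionsLinearEquiv hV F)
  rw [ideal_congr e1 i]
  exact ideal_baseChange (R := Γ(S, V)) (R' := Γ(T, U')) (M := Γ(F, V)) i

theorem main {T S : Scheme.{u}} (f : T ⟶ S) (F : S.Modules) (hF : Coh.IsQCoh F) (hft : CohB1.IsFT F)
    (i : ℕ) : (Fitt.sheafIdeal F i).comap f = Fitt.sheafIdeal ((Scheme.Modules.pullback f).obj F) i := by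
  haveI : F.IsQuasicoherent := hF
  haveI := isQuasicoherent_pullback f F
  have hft' := isFT_pullback f F hft
  choose U U' hU hU' hxU' hle using exists_affine_pair f
  refine Scheme.IdealSheafData.ext_of_iSup_eq_top (fun x : T => (⟨U' x, hU' x⟩ : T.affineOpens)) ?_
    (fun x => ?_)
  · rw [eq_top_iff]
    intro x _
    exact Opens.mem_iSup.2 ⟨x, hxU' x⟩
  · rw [Groth.Agent.Helper4.IdealComap.ideal_comap_eq_map f _ ⟨U' x, hU' x⟩ ⟨U x, hU x⟩ (hle x),
      sheafIdeal_ideal F hft i ⟨U x, hU x⟩, sheafIdeal_ideal _ hft' i ⟨U' x, hU' x⟩]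
    exact (fitt_pullback f F hft i (hU x) (hU' x) (hle x)).symm


end


/-- Let f : T ⟶ S be a morphism of schemes and F a quasi-coherent O_S-module of finite type. Then for
every i the inverse image ideal sheaf on T of the i-th Fitting ideal of F is the i-th Fitting ideal
of f^*F. -/
theorem result {T S : Scheme.{u}} (f : T ⟶ S) (F : S.Modules) (hF : Coh.IsQCoh F) (hft : CohB1.IsFT F)
    (i : ℕ) : (Fitt.sheafIdeal F i).comap f = Fitt.sheafIdeal ((Scheme.Modules.pullback f).obj F) i := by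
  classical
  exact main f F hF hft i

end Groth.Agent.S8872
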