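import Groth.Statements.S8876
import Mathlib
import Groth.Agent.Lib.Lead.FittSh

set_option autoImplicit false
universe u
open CategoryTheory CategoryTheory.Limits AlgebraicGeometry TopologicalSpace
open SDiv

namespace Groth.Agent.S8876

section
open CategoryTheory CategoryTheory.Limits AlgebraicGeometry TopologicalSpace
open Groth.Agent.Lead.FittSh Groth.Agent.Helper4.Fitting

theorem exists_affine (S : Scheme.{u}) (s : S) : ∃ U : S.Opens, IsAffineOpen U ∧ s ∈ U := by
  obtain ⟨_, ⟨U, hU, rfl⟩, hsU, -⟩ :=
    S.isBasis_affineOpens.exists_subset_of_mem_open (Set.mem_univ s) isOpen_univ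
  exact ⟨U, hU, hsU⟩

theorem main (S : Scheme.{u}) (F : S.Modules) (hF : Coh.IsQCoh F) (hft : CohB1.IsFT F) :
    ((Fitt.sheafIdeal F 0).support : Set ↥S) = CohB1.support F := by
  haveI : F.IsQuasicoherent := hF
  ext s
  obtain ⟨U, hU, hsU⟩ := exists_affine S s
  haveI := Groth.Agent.Lead.FLF.ft_sections F hft hU
  have h1 := mem_support_iff_le (Fitt.sheafIdeal F 0) hU ⟨s, hsU⟩
  rw [sheafIdeal_ideal F hft 0 ⟨U, hU⟩] at h1
  have h2 := subsingleton_stalk_iff F hU ⟨s, hsU⟩
  rw [← zeroLocus_ideal_zero, PrimeSpectrum.mem_zeroLocus] at h2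
  show s ∈ (Fitt.sheafIdeal F 0).support ↔ ¬ Subsingleton (F.presheaf.stalk s)
  rw [h2, not_not]
  exact h1


end


/-- Let S be a scheme and F a quasi-coherent O_S-module of finite type. Then the closed subset of S cut
out by Fit_0(F) equals the support of F (the scheme-theoretic support and the Fit_0 subscheme have
the same underlying set). -/
theorem result (S : Scheme.{u}) (F : S.Modules) (hF : Coh.IsQCoh F) (hft : CohB1.IsFT F) :
    ((Fitt.sheafIdeal F 0).support : Set ↥S) = CohB1.support F := by
  classical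
  exact main S F hF hft

end Groth.Agent.S8876
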