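import Groth.Statements.S0079
-- import your own Groth.Agent.* helpers here

set_option autoImplicit false
open CategoryTheory CategoryTheory.Limits AlgebraicGeometry Opposite
universe u
open EtBase

namespace Groth.Agent.S0079

/-- Quasi-compactness of a morphism descends along a quasi-compact flat surjective base change: if the
base change of a morphism g along a quasi-compact, flat, surjective morphism to its target is
quasi-compact, then g is quasi-compact. (Stated for a single quasi-compact faithfully flat cover;
combined with Zariski-locality on the target this gives the fpqc-local form.) -/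
theorem result :
    MorphismProperty.DescendsAlong @QuasiCompact (@Surjective ⊓ @Flat ⊓ @QuasiCompact : MorphismProperty Scheme.{u}) := by
  refine ⟨fun {A X Y Z fst snd f g} h hf hfst ↦ ?_⟩
  obtain ⟨⟨hs, _⟩, hqc⟩ := hf
  have hs' : Surjective f := hs
  have hqc' : QuasiCompact f := hqc
  have hfst' : QuasiCompact fst := hfst
  refine ⟨fun U hU hU' ↦ ?_⟩
  have h1 : IsCompact (f ⁻¹' U) := QuasiCompact.isCompact_preimage U hU hU'
  have h2 : IsCompact (fst ⁻¹' (f ⁻¹' U)) :=
    QuasiCompact.isCompact_preimage _ (hU.preimage f.continuous) h1
  have h3 : snd.base '' (fst.base ⁻¹' (f.base ⁻¹' U)) = g.base ⁻¹' U := by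
    rw [Scheme.image_preimage_eq_of_isPullback h, Set.image_preimage_eq _ f.surjective]
  rw [← h3]
  exact h2.image snd.continuous

end Groth.Agent.S0079
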