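import Groth.Statements.S0081
import Mathlib

set_option autoImplicit false
open CategoryTheory CategoryTheory.Limits AlgebraicGeometry Opposite
universe u
open EtBase

namespace Groth.Agent.S0081

section
open CategoryTheory CategoryTheory.Limits AlgebraicGeometry Opposite

theorem isSeparated_eq_diagonal_universallyClosed :
    @IsSeparated = MorphismProperty.diagonal.{u} @UniversallyClosed := by
  ext X Y f
  rw [IsSeparated.isSeparated_eq_diagonal_isClosedImmersion]
  constructor
  · intro (h : IsClosedImmersion (pullback.diagonal f))
    show UniversallyClosed (pullback.diagonal f)
    infer_instance
  · intro (h : UniversallyClosed (pullback.diagonal f))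
    show IsClosedImmersion (pullback.diagonal f)
    exact IsClosedImmersion.of_isPreimmersion _ (pullback.diagonal f).isClosedMap.isClosed_range

set_option backward.isDefEq.respectTransparency.types false in
theorem main : MorphismProperty.DescendsAlong @IsSeparated
    (@Surjective ⊓ @Flat ⊓ @QuasiCompact : MorphismProperty Scheme.{u}) := by
  rw [isSeparated_eq_diagonal_universallyClosed]
  infer_instance


end


/-- Separatedness descends along a quasi-compact flat surjective base change: if the base change of a
morphism along a quasi-compact, flat, surjective morphism is separated, then so is the morphism.
(Stated for a single quasi-compact faithfully flat cover; combined with Zariski-locality on the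
target this gives the fpqc-local statement.) -/
theorem result :
    MorphismProperty.DescendsAlong @IsSeparated (@Surjective ⊓ @Flat ⊓ @QuasiCompact : MorphismProperty Scheme.{u}) := by
  classical
  exact main

end Groth.Agent.S0081
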