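import Groth.Statements.S0082
import Mathlib

set_option autoImplicit false
open CategoryTheory CategoryTheory.Limits AlgebraicGeometry Opposite
universe u
open EtBase

namespace Groth.Agent.S0082

section
open CategoryTheory CategoryTheory.Limits AlgebraicGeometry Opposite MorphismProperty

set_option backward.isDefEq.respectTransparency.types false in
theorem isAffine_of_isPullback {S T Y Y' : Scheme.{u}} [IsAffine S] [IsAffine T] [IsAffine Y']
    {f : T ⟶ S} {g : Y ⟶ S} {p₁ : Y' ⟶ T} {p₂ : Y' ⟶ Y}
    (H : IsPullback p₂ p₁ g f) [Flat f] [Surjective f] : IsAffine Y := by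
  have hp₂aff : IsAffineHom p₂ := MorphismProperty.of_isPullback H.flip inferInstance
  have hp₂surj : Surjective p₂ := MorphismProperty.of_isPullback H.flip inferInstance
  have hcomp : CompactSpace Y := by
    constructor
    rw [← Set.range_eq_univ.mpr p₂.surjective]
    exact isCompact_range p₂.continuous
  have hqs : QuasiSeparatedSpace Y := by
    rw [quasiSeparatedSpace_iff_forall_affineOpens]
    intro U V
    have hU : IsAffineOpen (p₂ ⁻¹ᵁ U.1) := U.2.preimage p₂
    have hV : IsAffineOpen (p₂ ⁻¹ᵁ V.1) := V.2.preimage p₂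
    have h1 : IsCompact ((p₂ ⁻¹ᵁ U.1 : Set Y') ∩ (p₂ ⁻¹ᵁ V.1 : Set Y')) :=
      QuasiSeparatedSpace.inter_isCompact _ _ (p₂ ⁻¹ᵁ U.1).isOpen hU.isCompact
        (p₂ ⁻¹ᵁ V.1).isOpen hV.isCompact
    have h2 := h1.image p₂.continuous
    have h3 : p₂.base '' ((p₂ ⁻¹ᵁ U.1 : Set Y') ∩ (p₂ ⁻¹ᵁ V.1 : Set Y')) = (U : Set Y) ∩ V := by
      show p₂.base '' (p₂.base ⁻¹' U ∩ p₂.base ⁻¹' V) = _
      rw [← Set.preimage_inter, Set.image_preimage_eq _ p₂.surjective]
    rwa [h3] at h2
  have hiso := isIso_pushoutSection_of_isQuasiSeparated_of_flat_right H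
    (US := ⊤) (UT := ⊤) (UX := ⊤) (UY := ⊤) le_top le_top (by simp)
    (isAffineOpen_top S) (isAffineOpen_top T) isCompact_univ (isQuasiSeparated_univ)
  have hpo := (isIso_pushoutSection_iff ..).mp hiso
  have hpo' : IsPushout g.appTop f.appTop p₂.appTop p₁.appTop := by
    convert hpo using 1 <;> simp [Scheme.Hom.appTop, Scheme.Hom.appLE]
  have hbot := isPullback_SpecMap_of_isPushout _ _ _ _ hpo'
  have hsq : IsPullback f T.toSpecΓ S.toSpecΓ (Spec.map f.appTop) :=
    IsPullback.of_vert_isIso ⟨Scheme.toSpecΓ_naturality f⟩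
  have houter := H.paste_vert hsq
  rw [Scheme.toSpecΓ_naturality p₁, Scheme.toSpecΓ_naturality g] at houter
  have htop : IsPullback p₂ Y'.toSpecΓ Y.toSpecΓ (Spec.map p₂.appTop) :=
    houter.of_bot (Scheme.toSpecΓ_naturality p₂) hbot
  have hQf : (@Surjective ⊓ @Flat ⊓ @QuasiCompact : MorphismProperty Scheme.{u}) f :=
    ⟨⟨inferInstance, inferInstance⟩, inferInstance⟩
  have hQ1 : (@Surjective ⊓ @Flat ⊓ @QuasiCompact : MorphismProperty Scheme.{u})
      (Spec.map f.appTop) := by
    have h1 : Spec.map f.appTop = inv T.toSpecΓ ≫ f ≫ S.toSpecΓ := by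
      rw [Scheme.toSpecΓ_naturality f, IsIso.inv_hom_id_assoc]
    rw [h1, MorphismProperty.cancel_left_of_respectsIso
      (@Surjective ⊓ @Flat ⊓ @QuasiCompact : MorphismProperty Scheme.{u}),
      MorphismProperty.cancel_right_of_respectsIso
      (@Surjective ⊓ @Flat ⊓ @QuasiCompact : MorphismProperty Scheme.{u})]
    exact hQf
  have hQ2 : (@Surjective ⊓ @Flat ⊓ @QuasiCompact : MorphismProperty Scheme.{u})
      (Spec.map p₂.appTop) := MorphismProperty.of_isPullback hbot.flip hQ1
  have hisoΓ : IsIso Y.toSpecΓ :=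
    MorphismProperty.of_isPullback_of_descendsAlong (P := isomorphisms Scheme.{u})
      (Q := (@Surjective ⊓ @Flat ⊓ @QuasiCompact : MorphismProperty Scheme.{u}))
      htop.flip hQ2 (inferInstanceAs (IsIso Y'.toSpecΓ))
  exact ⟨hisoΓ⟩

set_option backward.isDefEq.respectTransparency.types false in
theorem main : MorphismProperty.DescendsAlong @IsAffineHom
    (@Surjective ⊓ @Flat ⊓ @QuasiCompact : MorphismProperty Scheme.{u}) := by
  refine IsZariskiLocalAtTarget.descendsAlong_inf_quasiCompact _ _ ?_ ?_
  · rw [inf_comm]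
    exact inf_le_inf le_rfl (IsLocalIso.le_of_isZariskiLocalAtSource _)
  intro R S Y φ g h hfst
  have hsurj : Surjective (Spec.map φ) := h.1
  have hflat : Flat (Spec.map φ) := h.2
  have haff : IsAffineHom (pullback.fst (Spec.map φ) g) := hfst
  have hY' : IsAffine (pullback (Spec.map φ) g) := isAffine_of_isAffineHom (pullback.fst (Spec.map φ) g)
  have hY : IsAffine Y := isAffine_of_isPullback (IsPullback.of_hasPullback (Spec.map φ) g).flip
  show IsAffineHom g
  infer_instance


end


/-- If the base change of a morphism of schemes along a quasi-compact, flat, surjective morphism is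
affine, then the morphism itself is affine. (Stated for a single quasi-compact flat surjective base
change; together with Zariski-locality on the target this is fpqc descent for affineness.) -/
theorem result :
    MorphismProperty.DescendsAlong @IsAffineHom (@Surjective ⊓ @Flat ⊓ @QuasiCompact : MorphismProperty Scheme.{u}) := by
  classical
  exact main

end Groth.Agent.S0082
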