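import Groth.Statements.S0083
import Mathlib
import Groth.Agent.S0086

set_option autoImplicit false
open CategoryTheory CategoryTheory.Limits AlgebraicGeometry Opposite
universe u
open EtBase

namespace Groth.Agent.S0083

section
open CategoryTheory CategoryTheory.Limits AlgebraicGeometry Opposite

set_option backward.isDefEq.respectTransparency.types false in
theorem mono_descends : MorphismProperty.DescendsAlong (MorphismProperty.monomorphisms Scheme.{u})
    (@Surjective ⊓ @Flat ⊓ @QuasiCompact : MorphismProperty Scheme.{u}) := by
  rw [← MorphismProperty.diagonal_isomorphisms]
  infer_instance

set_option backward.isDefEq.respectTransparency.types false in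
theorem main : MorphismProperty.DescendsAlong @IsClosedImmersion
    (@Surjective ⊓ @Flat ⊓ @QuasiCompact : MorphismProperty Scheme.{u}) := by
  rw [IsClosedImmersion.eq_proper_inf_monomorphisms]
  have := Groth.Agent.S0086.result.{u}
  have := mono_descends.{u}
  infer_instance


end


/-- Being a closed immersion descends along a quasi-compact flat surjective base change: if the base
change of a morphism g along a quasi-compact, flat, surjective morphism to its target is a closed
immersion, then g is a closed immersion. (Stated for a single quasi-compact faithfully flat cover;
combined with Zariski-locality on the target this gives the fpqc-local form.) -/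
theorem result :
    MorphismProperty.DescendsAlong @IsClosedImmersion (@Surjective ⊓ @Flat ⊓ @QuasiCompact : MorphismProperty Scheme.{u}) := by
  classical
  exact main

end Groth.Agent.S0083
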