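import Groth.Statements.S0087
import Mathlib

set_option autoImplicit false
open CategoryTheory CategoryTheory.Limits AlgebraicGeometry Opposite
universe u
open EtBase

namespace Groth.Agent.S0087

section
open CategoryTheory CategoryTheory.Limits AlgebraicGeometry Opposite MorphismProperty

set_option backward.isDefEq.respectTransparency.types false in
theorem main : MorphismProperty.DescendsAlong
    (@LocallyQuasiFinite ⊓ @LocallyOfFiniteType : MorphismProperty Scheme.{u})
    (@Surjective ⊓ @Flat ⊓ @QuasiCompact : MorphismProperty Scheme.{u}) := by
  apply IsZariskiLocalAtTarget.descendsAlong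
  intro R X Y f g hf hfst
  obtain ⟨h1, h2⟩ := hfst
  have h1' : LocallyQuasiFinite (pullback.fst f g) := h1
  have h2' : LocallyOfFiniteType (pullback.fst f g) := h2
  have hlft : LocallyOfFiniteType g :=
    MorphismProperty.of_pullback_fst_of_descendsAlong (P := @LocallyOfFiniteType)
      (Q := @Surjective ⊓ @Flat ⊓ @QuasiCompact) (f := f) hf h2
  refine ⟨?_, hlft⟩
  have hsurj : Surjective f := hf.1.1
  have hqc : QuasiCompact f := hf.2
  show LocallyQuasiFinite g
  rw [IsZariskiLocalAtSource.iff_of_openCover (P := @LocallyQuasiFinite) Y.affineCover]
  intro i
  let j := Y.affineCover.f i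
  show LocallyQuasiFinite (j ≫ g)
  have hlft' : LocallyOfFiniteType (j ≫ g) := inferInstance
  have hqc' : QuasiCompact (j ≫ g) := inferInstance
  apply LocallyQuasiFinite.of_finite_preimage_singleton
  intro z
  obtain ⟨x, rfl⟩ := f.surjective z
  have hLQF : LocallyQuasiFinite (pullback.fst f (j ≫ g)) := by
    rw [← pullbackLeftPullbackSndIso_inv_fst f g j]
    infer_instance
  have hqc'' : QuasiCompact (pullback.fst f (j ≫ g)) := inferInstance
  have hfin := (pullback.fst f (j ≫ g)).finite_preimage_singleton x
  refine (hfin.image (pullback.snd f (j ≫ g))).subset ?_
  intro y hy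
  obtain ⟨w, hw1, hw2⟩ := Scheme.Pullback.exists_preimage_pullback (f := f) (g := j ≫ g) x y hy.symm
  exact ⟨w, hw1, hw2⟩


end


/-- Being locally quasi-finite (in the sense that includes being locally of finite type; encoded as the
conjunction of the two properties) descends along a quasi-compact flat surjective base change: if
the base change of a morphism g along a quasi-compact, flat, surjective morphism to its target is
locally quasi-finite and locally of finite type, then so is g. (Stated for a single quasi-compact
faithfully flat cover; combined with Zariski-locality on the target this gives the fpqc-local form.) -/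
theorem result :
    MorphismProperty.DescendsAlong (@LocallyQuasiFinite ⊓ @LocallyOfFiniteType : MorphismProperty Scheme.{u}) (@Surjective ⊓ @Flat ⊓ @QuasiCompact : MorphismProperty Scheme.{u}) := by
  classical
  exact main

end Groth.Agent.S0087
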