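import Groth.Statements.S1577
-- import your own Groth.Agent.* helpers here
import Mathlib
import Groth.Agent.Lib.Helper7.CohStalk.Ass

set_option autoImplicit false
universe u
open CategoryTheory CategoryTheory.Limits AlgebraicGeometry
open Divisors

namespace Groth.Agent.S1577

/-- Let X be locally Noetherian and F quasi-coherent. A point of the support of F which is not a
specialisation of a different point of the support is an associated point of F. -/
theorem result (X : Scheme.{u}) [IsLocallyNoetherian X]
    (F : X.Modules) (hF : Coh.IsQCoh F) (x : X) (hx : x ∈ CohB1.support F)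
    (hmax : ∀ y ∈ CohB1.support F, y ⤳ x → y = x) : Curv2.IsAssPoint F x := by
  have hnt : Nontrivial (F.presheaf.stalk x) := not_subsingleton_iff_nontrivial.mp hx
  obtain ⟨m, hm⟩ := exists_ne (0 : F.presheaf.stalk x)
  refine ⟨inferInstance, m, ?_⟩
  symm
  refine Groth.Agent.Helper7.FinType.radical_ann_eq_maximalIdeal ?_ m hm _ ?_
  · intro q hqp hqm m'
    exact Groth.Agent.Helper7.FinType.exists_smul_eq_zero_of_forall_specializes F hF x
      (fun y hy hyx => hmax y hy hyx) q hqp hqm m'
  · intro r
    rw [Submodule.mem_colon_singleton, Submodule.mem_bot]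

end Groth.Agent.S1577
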