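import Groth.Statements.S10855
import Mathlib
import Groth.Agent.Lib.Helper4.IdealComap

set_option autoImplicit false
universe u
open BlowUp

namespace Groth.Agent.S10855

open AlgebraicGeometry CategoryTheory TopologicalSpace
namespace H10855

theorem nzd_of_flat {R S : Type u} [CommRing R] [CommRing S] (φ : R →+* S) (hφ : φ.Flat) (r : R)
    (hr : r ∈ nonZeroDivisors R) : φ r ∈ nonZeroDivisors S := by
  algebraize [φ]
  have hreg : IsSMulRegular S r := Module.Flat.isSMulRegular_of_nonZeroDivisors hr
  rw [mem_nonZeroDivisors_iff_right]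
  intro b hb
  apply hreg
  simp only [smul_zero]
  rw [Algebra.smul_def, mul_comm]
  exact hb

theorem main {X Y : Scheme.{u}} (f : X ⟶ Y) [Flat f]
    (𝓘 : Y.IdealSheafData) (hD : BlowUp.IsEffCartierIdeal 𝓘) :
    BlowUp.IsEffCartierIdeal (𝓘.comap f) := by
  intro x
  obtain ⟨V, hxV, g, hg, hIg⟩ := hD (f x)
  have hxfV : x ∈ f ⁻¹ᵁ V.1 := hxV
  obtain ⟨U, hU, hxU, hUV⟩ := Opens.isBasis_iff_nbhd.mp (X.isBasis_affineOpens) hxfV
  let U' : X.affineOpens := ⟨U, hU⟩
  have hcomap := Groth.Agent.Helper4.IdealComap.ideal_comap_eq_map f 𝓘 U' V hUV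
  rw [hIg, Ideal.map_span, Set.image_singleton] at hcomap
  refine ⟨U', hxU, (f.appLE V.1 U hUV).hom g, ?_, hcomap⟩
  have hflat : (f.appLE V.1 U hUV).hom.Flat :=
    HasRingHomProperty.appLE (P := @Flat) f inferInstance V U' hUV
  exact nzd_of_flat _ hflat g hg

end H10855

open AlgebraicGeometry CategoryTheory in
/-- Let f : X → Y be a flat morphism of schemes and 𝓘 the quasi-coherent ideal sheaf of an effective
Cartier divisor on Y (near every point generated on an affine open by one non-zero-divisor). Then
the inverse image ideal sheaf of 𝓘 on X is again the ideal of an effective Cartier divisor: the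
subscheme f⁻¹(Z) is an effective Cartier divisor on X. (The published corollary also identifies this
divisor with the pullback of Z as a divisor; that clause is not included here.) -/
theorem result {X Y : Scheme.{u}} (f : X ⟶ Y) [Flat f]
    (𝓘 : Y.IdealSheafData) (hD : BlowUp.IsEffCartierIdeal 𝓘) :
    BlowUp.IsEffCartierIdeal (𝓘.comap f) := by
  exact H10855.main f 𝓘 hD

end Groth.Agent.S10855
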