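import Groth.Statements.S1682
import Mathlib
import Groth.Agent.Lib.Helper4.EffCartier

set_option autoImplicit false
universe u
open CategoryTheory CategoryTheory.Limits AlgebraicGeometry TopologicalSpace
open SDiv

namespace Groth.Agent.S1682

open CategoryTheory AlgebraicGeometry TopologicalSpace
namespace H1682
open Groth.Agent.Helper4

theorem comap_eq_top_of_disjoint {X : Scheme.{u}} (𝓘 : X.IdealSheafData) (U : X.Opens)
    (hU : Disjoint (𝓘.support : Set X) (U : Set X)) :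
    𝓘.comap U.ι = ⊤ := by
  rw [← Scheme.IdealSheafData.support_eq_bot_iff, Scheme.IdealSheafData.support_comap]
  ext y
  simp only [Closeds.coe_preimage, Set.mem_preimage, SetLike.mem_coe, Closeds.coe_bot,
    Set.mem_empty_iff_false, iff_false]
  intro hy
  exact Set.disjoint_left.mp hU hy y.2

theorem main {X X' : Scheme.{u}} (𝓘 : X.IdealSheafData) (b : X' ⟶ X) (hb : BlowUp.IsBlowUp b 𝓘) :
    IsIso (b ∣_ 𝓘.support.compl) := by
  let U : X.Opens := 𝓘.support.compl
  show IsIso (b ∣_ U)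
  have hUtop : 𝓘.comap U.ι = ⊤ := by
    apply comap_eq_top_of_disjoint
    rw [Set.disjoint_left]
    intro y hy hyU
    exact hyU hy
  have hUeff : BlowUp.IsEffCartierIdeal (𝓘.comap U.ι) := by rw [hUtop]; exact EffCartier.top
  obtain ⟨h, hh, -⟩ := hb.2 _ U.ι hUeff
  have hh : h ≫ b = U.ι := hh
  have hrange : Set.range h ⊆ Set.range (b ⁻¹ᵁ U).ι := by
    rintro _ ⟨y, rfl⟩
    rw [Scheme.Opens.range_ι]
    show b (h y) ∈ U
    have : (h ≫ b) y = U.ι y := by rw [hh]
    rw [Scheme.Hom.comp_apply] at this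
    rw [this]
    exact y.2
  let k : (U : Scheme.{u}) ⟶ (b ⁻¹ᵁ U : Scheme.{u}) := IsOpenImmersion.lift (b ⁻¹ᵁ U).ι h hrange
  have hk : k ≫ (b ⁻¹ᵁ U).ι = h := IsOpenImmersion.lift_fac _ _ _
  have h1 : k ≫ (b ∣_ U) = 𝟙 _ := by
    rw [← cancel_mono U.ι, Category.assoc, morphismRestrict_ι, ← Category.assoc, hk, hh,
      Category.id_comp]
  have h2 : (b ∣_ U) ≫ k = 𝟙 _ := by
    rw [← cancel_mono (b ⁻¹ᵁ U).ι, Category.assoc, hk, Category.id_comp]
    -- both are lifts of `(b ⁻¹ᵁ U).ι ≫ b`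
    have heff : BlowUp.IsEffCartierIdeal (𝓘.comap ((b ⁻¹ᵁ U).ι ≫ b)) := by
      rw [← morphismRestrict_ι, Scheme.IdealSheafData.comap_comp, hUtop,
        Scheme.IdealSheafData.comap_top]
      exact EffCartier.top
    obtain ⟨h', -, huniq⟩ := hb.2 _ ((b ⁻¹ᵁ U).ι ≫ b) heff
    rw [huniq ((b ∣_ U) ≫ h) (by show ((b ∣_ U) ≫ h) ≫ b = _; rw [Category.assoc, hh, morphismRestrict_ι]),
      huniq (b ⁻¹ᵁ U).ι rfl]
  exact ⟨k, h2, h1⟩

end H1682

/-- Let b : X' ⟶ X be a blowing-up of X along the quasi-coherent ideal sheaf 𝓘, with centre Z = support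
of 𝓘. Then b restricted over the open complement of Z is an isomorphism. -/
theorem result {X X' : Scheme.{u}} (𝓘 : X.IdealSheafData) (b : X' ⟶ X) (hb : BlowUp.IsBlowUp b 𝓘) :
    IsIso (b ∣_ 𝓘.support.compl) := by
  exact H1682.main 𝓘 b hb

end Groth.Agent.S1682
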