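import Groth.Statements.S4562
import Mathlib
import Groth.Prelude.Def_Found
-- import your own Groth.Agent.* helpers here

set_option autoImplicit false
universe u
open CAlg

namespace Groth.Agent.S4562

namespace Aux

open Polynomial IntermediateField

section Field

variable (K N : Type*) [Field K] [Field N] [Algebra K N] [FiniteDimensional K N] [Normal K N]

/-- the fixed field of the full automorphism group of a finite normal extension is purely
inseparable over the base -/
theorem isPurelyInseparable_fixedField :
    IsPurelyInseparable K (fixedField (⊤ : Subgroup (N ≃ₐ[K] N))) := by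
  classical
  rw [isPurelyInseparable_iff_natSepDegree_eq_one]
  intro y
  have hmin : minpoly K y = minpoly K (y : N) :=
    (minpoly.algebraMap_eq (algebraMap (fixedField (⊤ : Subgroup (N ≃ₐ[K] N))) N).injective y).symm
  rw [hmin]
  have hsplit : ((minpoly K (y : N)).map (algebraMap K N)).Splits := Normal.splits inferInstance _
  rw [natSepDegree_eq_of_splits _ hsplit]
  have halg : IsAlgebraic K (y : N) := Algebra.IsAlgebraic.isAlgebraic _
  have hne : minpoly K (y : N) ≠ 0 := minpoly.ne_zero halg.isIntegral
  have : ((minpoly K (y : N)).aroots N).toFinset = {(y : N)} := by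
    ext z
    rw [Multiset.mem_toFinset, mem_aroots, Finset.mem_singleton]
    constructor
    · rintro ⟨_, hz⟩
      obtain ⟨σ, hσ⟩ := minpoly.exists_algEquiv_of_root' halg hz
      have hy : σ (y : N) = y := (mem_fixedField_iff _ _).mp y.2 σ (Subgroup.mem_top σ)
      rw [← hσ, hy]
    · rintro rfl
      exact ⟨hne, minpoly.aeval K _⟩
  rw [this, Finset.card_singleton]

end Field

section Generic

theorem finite_generic (A : Type u) [CommRing A] [IsDomain A] [IsNoetherianRing A]
    (B : Type u) [CommRing B] [IsDomain B] [Algebra A B] [Module.Finite A B]
    [IsIntegrallyClosed B]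
    (P N : Type u) [Field P] [Field N] [Algebra B P] [IsFractionRing B P] [Algebra P N]
    [Algebra B N] [IsScalarTower B P N] [Algebra A N] [IsScalarTower A B N]
    [FiniteDimensional P N] [Algebra.IsSeparable P N] :
    Module.Finite A (integralClosure A N) := by
  have hnoeth : IsNoetherianRing B := IsNoetherianRing.of_finite A B
  have hfinC : Module.Finite B (integralClosure B N) :=
    IsIntegralClosure.finite B P N (integralClosure B N)
  have hfinC' : Module.Finite A (integralClosure B N) := Module.Finite.trans B _
  have hN : IsNoetherian A (integralClosure B N) := isNoetherian_of_isNoetherianRing_of_finite A _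
  let j : integralClosure A N →ₗ[A] integralClosure B N :=
    { toFun := fun x => ⟨x.1, x.2.tower_top⟩
      map_add' := fun _ _ => rfl
      map_smul' := fun a x => by
        apply Subtype.ext
        show a • (x : N) = a • (x : N)
        rfl }
  have hj : Function.Injective j := fun x y hxy => by
    have h1 : (j x : N) = (j y : N) := congrArg Subtype.val hxy
    exact Subtype.ext h1
  exact Module.Finite.of_injective j hj

end Generic

section Mid

theorem finite_mid (A : Type u) [CommRing A] [IsDomain A] [IsNoetherianRing A]
    (P N : Type u) [Field P] [Field N] [Algebra (FractionRing A) P] [Algebra P N]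
    [Algebra A P] [IsScalarTower A (FractionRing A) P] [Algebra A N] [IsScalarTower A P N]
    [FiniteDimensional (FractionRing A) P] [FiniteDimensional P N] [Algebra.IsSeparable P N]
    (hfin : Module.Finite A (integralClosure A P)) :
    Module.Finite A (integralClosure A N) := by
  have hic : IsIntegrallyClosed (integralClosure A P) :=
    integralClosure.isIntegrallyClosedOfFiniteExtension (FractionRing A)
  have hfr : IsFractionRing (integralClosure A P) P :=
    integralClosure.isFractionRing_of_finite_extension (FractionRing A) P
  exact finite_generic A (integralClosure A P) P N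

end Mid

section Core

variable (A : Type u) [CommRing A] [IsDomain A] [IsNoetherianRing A]

theorem finite_of_normal
    (h : ∀ (K' : Type u) [Field K'] [Algebra A K'] [Algebra (FractionRing A) K']
      [IsScalarTower A (FractionRing A) K'], FiniteDimensional (FractionRing A) K' →
      IsPurelyInseparable (FractionRing A) K' → Module.Finite A (integralClosure A K'))
    (N : Type u) [Field N] [Algebra A N] [Algebra (FractionRing A) N]
    [IsScalarTower A (FractionRing A) N]
    [FiniteDimensional (FractionRing A) N] [Normal (FractionRing A) N] :
    Module.Finite A (integralClosure A N) := by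
  have hPI : IsPurelyInseparable (FractionRing A)
      (fixedField (⊤ : Subgroup (N ≃ₐ[FractionRing A] N))) :=
    isPurelyInseparable_fixedField (FractionRing A) N
  have hGal : IsGalois (fixedField (⊤ : Subgroup (N ≃ₐ[FractionRing A] N))) N :=
    IsGalois.of_fixed_field N (⊤ : Subgroup (N ≃ₐ[FractionRing A] N))
  have hfinP : Module.Finite A
      (integralClosure A (fixedField (⊤ : Subgroup (N ≃ₐ[FractionRing A] N)))) :=
    h (fixedField (⊤ : Subgroup (N ≃ₐ[FractionRing A] N))) inferInstance hPI
  have hsep : Algebra.IsSeparable (fixedField (⊤ : Subgroup (N ≃ₐ[FractionRing A] N))) N :=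
    hGal.to_isSeparable
  have htower : IsScalarTower A (fixedField (⊤ : Subgroup (N ≃ₐ[FractionRing A] N))) N :=
    IsScalarTower.of_algebraMap_eq (fun a => rfl)
  exact finite_mid A (fixedField (⊤ : Subgroup (N ≃ₐ[FractionRing A] N))) N hfinP

theorem main
    (h : ∀ (K' : Type u) [Field K'] [Algebra A K'] [Algebra (FractionRing A) K']
      [IsScalarTower A (FractionRing A) K'], FiniteDimensional (FractionRing A) K' →
      IsPurelyInseparable (FractionRing A) K' → Module.Finite A (integralClosure A K')) :
    CAlg.IsN2 A := by
  intro L _ _ _ _ hfin
  have hfin' : FiniteDimensional (FractionRing A) L := hfin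
  have hnormΩ : Normal (FractionRing A) (AlgebraicClosure L) := IsAlgClosure.normal _ _
  let N := IntermediateField.normalClosure (FractionRing A) L (AlgebraicClosure L)
  let _ : Algebra A N :=
    ((algebraMap (FractionRing A) N).comp (algebraMap A (FractionRing A))).toAlgebra
  have : IsScalarTower A (FractionRing A) N := IsScalarTower.of_algebraMap_eq (fun _ => rfl)
  have hN : Module.Finite A (integralClosure A N) := finite_of_normal A h N
  have hNoeth : IsNoetherian A (integralClosure A N) :=
    isNoetherian_of_isNoetherianRing_of_finite A _
  have hcomm : ∀ a : A, algebraMap L N (algebraMap A L a) = algebraMap A N a := by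
    intro a
    rw [IsScalarTower.algebraMap_apply A (FractionRing A) L,
      ← IsScalarTower.algebraMap_apply (FractionRing A) L N]
    rfl
  let f : L →ₐ[A] N := { (algebraMap L N) with commutes' := hcomm }
  let j : integralClosure A L →ₗ[A] integralClosure A N :=
    { toFun := fun x => ⟨f x.1, x.2.map f⟩
      map_add' := fun x y => Subtype.ext (map_add f x.1 y.1)
      map_smul' := fun a x => Subtype.ext (map_smul f a x.1) }
  have hj : Function.Injective j := fun x y hxy => by
    have h1 : f x.1 = f y.1 := congrArg Subtype.val hxy
    exact Subtype.ext ((algebraMap L N).injective h1)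
  exact Module.Finite.of_injective j hj

end Core

end Aux

/-- Let A be a Noetherian domain with fraction field K. If the integral closure of A in every finite
purely inseparable extension of K is a finitely generated A-module, then A is Japanese (N-2). -/
theorem result (A : Type u) [CommRing A] [IsDomain A]
    [IsNoetherianRing A]
    (h : ∀ (K' : Type u) [Field K'] [Algebra A K'] [Algebra (FractionRing A) K']
      [IsScalarTower A (FractionRing A) K'], FiniteDimensional (FractionRing A) K' →
      IsPurelyInseparable (FractionRing A) K' → Module.Finite A (integralClosure A K')) :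
    CAlg.IsN2 A := by
  exact Aux.main A h

end Groth.Agent.S4562
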