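import Groth.Statements.S0571
import Mathlib
import Groth.Prelude.Def_Found
import Groth.Agent.Lib.Helper6.Japanese
-- import your own Groth.Agent.* helpers here

set_option autoImplicit false
universe u
open CAlg

namespace Groth.Agent.S0571

namespace Aux

open Groth.Agent.Lib.Helper6.Japanese

variable (R : Type u) [CommRing R] [IsDomain R]

local notation "K" => FractionRing R

/-- local step -/
theorem local_step (m : Ideal R) [m.IsPrime] (h : CAlg.IsN1 (Localization.AtPrime m)) :
    ∃ T : Finset K, (∀ z ∈ T, IsIntegral R z) ∧ ∀ y : K, IsIntegral R y →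
      ∃ u : R, u ∉ m ∧ u • y ∈ Submodule.span R (T : Set K) := by
  have hM : m.primeCompl ≤ (nonZeroDivisors R).comap (RingHom.id R) :=
    m.primeCompl_le_nonZeroDivisors
  let g : Localization.AtPrime m →+* K :=
    IsLocalization.map (M := m.primeCompl) (T := nonZeroDivisors R) K (RingHom.id R) hM
  let _ : Algebra (Localization.AtPrime m) K := g.toAlgebra
  have : IsScalarTower R (Localization.AtPrime m) K := IsScalarTower.of_algebraMap_eq
    (fun r => (IsLocalization.map_eq (S := Localization.AtPrime m) (Q := K) hM r).symm)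
  have : IsFractionRing (Localization.AtPrime m) K :=
    IsFractionRing.isFractionRing_of_isDomain_of_isLocalization m.primeCompl
      (Localization.AtPrime m) K
  have hfin : Module.Finite (Localization.AtPrime m) (integralClosure (Localization.AtPrime m) K) :=
    finite_of_n1 K h
  obtain ⟨T, hT1, hT2⟩ := exists_integral_gens m.primeCompl (Localization.AtPrime m) K hfin
  refine ⟨T, hT1, fun y hy => ?_⟩
  have h2 := hT2 y hy.tower_top
  rw [IsLocalization.mem_span_iff m.primeCompl] at h2
  obtain ⟨y', hy', z, rfl⟩ := h2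
  refine ⟨z, z.2, ?_⟩
  have : (z : R) • (IsLocalization.mk' (Localization.AtPrime m) (1 : R) z • y') = y' := by
    rw [← algebraMap_smul (Localization.AtPrime m) (z : R), smul_smul, IsLocalization.mk'_spec',
      map_one, one_smul]
  rw [this]
  exact hy'

variable {R}

/-- the piece of the integral closure with denominators `f ^ n` -/
noncomputable def Npc (f : R) (n : ℕ) : Submodule R K :=
  Subalgebra.toSubmodule (integralClosure R K) ⊓
    (1 : Submodule R K).comap (LinearMap.lsmul R K (f ^ n))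

theorem mem_Npc {f : R} {n : ℕ} {x : K} :
    x ∈ Npc f n ↔ IsIntegral R x ∧ ∃ r : R, algebraMap R K r = f ^ n • x := by
  unfold Npc
  rw [Submodule.mem_inf, Submodule.mem_comap, Submodule.mem_one]
  rfl

theorem Npc_succ_le (f : R) (n : ℕ) : Npc f n ≤ Npc f (n + 1) := by
  intro x hx
  rw [mem_Npc] at hx ⊢
  obtain ⟨hx1, r, hr⟩ := hx
  refine ⟨hx1, f * r, ?_⟩
  rw [map_mul, hr, pow_succ', mul_smul, Algebra.smul_def f]

theorem Npc_mono (f : R) : Monotone (Npc f) := monotone_nat_of_le_succ (Npc_succ_le f)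

theorem Npc_fg [IsNoetherianRing R] (f : R) (hf : f ≠ 0) (n : ℕ) : (Npc f n).FG := by
  have hμ : Function.Injective (LinearMap.lsmul R K (f ^ n)) := by
    intro x y hxy
    simp only [LinearMap.lsmul_apply, Algebra.smul_def] at hxy
    have h0 : algebraMap R K (f ^ n) ≠ 0 := by
      rw [map_ne_zero_iff _ (IsFractionRing.injective R K)]
      exact pow_ne_zero n hf
    exact mul_left_cancel₀ h0 hxy
  apply Submodule.fg_of_fg_map_injective _ hμ
  have hle : (Npc f n).map (LinearMap.lsmul R K (f ^ n)) ≤ LinearMap.range (Algebra.linearMap R K) := by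
    rintro _ ⟨x, hx, rfl⟩
    obtain ⟨_, r, hr⟩ := mem_Npc.mp hx
    exact ⟨r, hr⟩
  have : (Npc f n).map (LinearMap.lsmul R K (f ^ n)) =
      (((Npc f n).map (LinearMap.lsmul R K (f ^ n))).comap (Algebra.linearMap R K)).map
        (Algebra.linearMap R K) := by
    rw [Submodule.map_comap_eq, inf_eq_right.mpr hle]
  rw [this]
  exact (IsNoetherian.noetherian _).map _

theorem exists_mem_Npc (f : R) (hf : f ≠ 0) (hn : IsIntegrallyClosed (Localization.Away f))
    (x : K) (hx : IsIntegral R x) : ∃ n : ℕ, x ∈ Npc f n := by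
  have hle : Submonoid.powers f ≤ nonZeroDivisors R := powers_le_nonZeroDivisors_of_noZeroDivisors hf
  let Sf : Subalgebra R K := Localization.subalgebra.ofField K (Submonoid.powers f) hle
  have hfr : IsFractionRing Sf K := Localization.subalgebra.isFractionRing_ofField K _ _
  have e : Localization.Away f ≃ₐ[R] Sf :=
    IsLocalization.algEquiv (Submonoid.powers f) (Localization.Away f) Sf
  have hic : IsIntegrallyClosed Sf := hn.of_equiv e.toRingEquiv
  have hx' : IsIntegral Sf x := hx.tower_top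
  obtain ⟨y, hy⟩ := (isIntegrallyClosed_iff K).mp hic hx'
  have hmem : x ∈ Sf := by rw [← hy]; exact y.2
  obtain ⟨a, s, hs, hxs⟩ : ∃ (a s : R) (_ : s ∈ Submonoid.powers f),
      x = algebraMap R K a * (algebraMap R K s)⁻¹ := hmem
  obtain ⟨n, rfl⟩ := hs
  refine ⟨n, mem_Npc.mpr ⟨hx, a, ?_⟩⟩
  have h0 : algebraMap R K (f ^ n) ≠ 0 := by
    rw [map_ne_zero_iff _ (IsFractionRing.injective R K)]
    exact pow_ne_zero n hf
  rw [hxs, Algebra.smul_def, mul_comm (algebraMap R K a), ← mul_assoc, mul_inv_cancel₀ h0, one_mul]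

theorem colon_mono (f : R) (n : ℕ) :
    (Npc f n).colon (Npc f (n + 1) : Set K) ≤ (Npc f (n + 1)).colon (Npc f (n + 2) : Set K) := by
  intro r hr
  rw [Submodule.mem_colon] at hr ⊢
  intro x hx
  obtain ⟨hx1, a, ha⟩ := mem_Npc.mp hx
  -- f • x ∈ Npc f (n+1)
  have hfx : f • x ∈ Npc f (n + 1) := by
    refine mem_Npc.mpr ⟨?_, a, ?_⟩
    · rw [Algebra.smul_def]; exact (isIntegral_algebraMap).mul hx1
    · rw [ha, smul_smul, ← pow_succ]
  obtain ⟨h1, b, hb⟩ := mem_Npc.mp (hr _ hfx)
  refine mem_Npc.mpr ⟨?_, b, ?_⟩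
  · rw [Algebra.smul_def]; exact (isIntegral_algebraMap).mul hx1
  · rw [hb, smul_smul, smul_smul, smul_smul, pow_succ]
    congr 1
    ring

theorem n1_of_local [IsNoetherianRing R] (f : R) (hf : f ≠ 0)
    (hn : IsIntegrallyClosed (Localization.Away f))
    (hb : ∀ (m : Ideal R) [m.IsMaximal], CAlg.IsN1 (Localization.AtPrime m)) : CAlg.IsN1 R := by
  let I : ℕ →o Ideal R := ⟨fun n => (Npc f n).colon (Npc f (n + 1) : Set K),
    monotone_nat_of_le_succ (colon_mono f)⟩
  obtain ⟨N₀, hN₀⟩ := monotone_stabilizes_iff_noetherian.mpr inferInstance I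
  have htop : I N₀ = ⊤ := by
    by_contra hne
    obtain ⟨m, hm, hIm⟩ := Ideal.exists_le_maximal _ hne
    obtain ⟨T, hT1, hT2⟩ := local_step R m (hb m)
    have hex : ∃ n₁, ∀ z ∈ T, z ∈ Npc f n₁ := by
      have h1 : ∀ z ∈ T, ∃ n, z ∈ Npc f n := fun z hz => exists_mem_Npc f hf hn z (hT1 z hz)
      choose! nn hnn using h1
      exact ⟨T.sup nn, fun z hz => Npc_mono f (Finset.le_sup hz) (hnn z hz)⟩
    obtain ⟨n₁, hn₁⟩ := hex
    have hspan : Submodule.span R (T : Set K) ≤ Npc f (max N₀ n₁) :=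
      Submodule.span_le.mpr (fun z hz => Npc_mono f (le_max_right _ _) (hn₁ z hz))
    obtain ⟨G, hG⟩ := Npc_fg f hf (max N₀ n₁ + 1)
    have hu : ∀ x ∈ G, ∃ u : R, u ∉ m ∧ u • x ∈ Npc f (max N₀ n₁) := fun x hx => by
      have hxN : x ∈ Npc f (max N₀ n₁ + 1) := hG ▸ Submodule.subset_span hx
      obtain ⟨u, hu1, hu2⟩ := hT2 x (mem_Npc.mp hxN).1
      exact ⟨u, hu1, hspan hu2⟩
    choose! u hu1 hu2 using hu
    have hU : ∏ x ∈ G, u x ∉ m := by
      intro h
      obtain ⟨x, hx, hxm⟩ := (Ideal.IsPrime.prod_mem_iff).mp h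
      exact hu1 x hx hxm
    have hUI : ∏ x ∈ G, u x ∈ I (max N₀ n₁) := by
      show _ ∈ (Npc f (max N₀ n₁)).colon (Npc f (max N₀ n₁ + 1) : Set K)
      rw [Submodule.mem_colon]
      intro p hp
      have hp' : p ∈ Submodule.span R (G : Set K) := hG ▸ hp
      classical
      induction hp' using Submodule.span_induction with
      | mem x hx =>
        rw [← Finset.mul_prod_erase G u hx, mul_comm, mul_smul]
        exact Submodule.smul_mem _ _ (hu2 x hx)
      | zero => rw [smul_zero]; exact Submodule.zero_mem _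
      | add x y _ _ hx hy =>
        rw [smul_add]
        exact add_mem (hx (hG ▸ ‹x ∈ Submodule.span R (G : Set K)›))
          (hy (hG ▸ ‹y ∈ Submodule.span R (G : Set K)›))
      | smul a x _ hx =>
        rw [smul_comm]
        exact Submodule.smul_mem _ _ (hx (hG ▸ ‹x ∈ Submodule.span R (G : Set K)›))
    have hI : I (max N₀ n₁) = I N₀ := (hN₀ _ (le_max_left _ _)).symm
    exact hU (hIm (hI ▸ hUI))
  have hle : ∀ n, N₀ ≤ n → Npc f (n + 1) ≤ Npc f n := by
    intro n hn' x hx
    have h1 : (1 : R) ∈ I n := by rw [← hN₀ n hn', htop]; trivial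
    have h2 : (1 : R) ∈ (Npc f n).colon (Npc f (n + 1) : Set K) := h1
    have := (Submodule.mem_colon.mp h2) x hx
    simpa using this
  have hall : ∀ k, Npc f (N₀ + k) ≤ Npc f N₀ := by
    intro k
    induction k with
    | zero => exact le_rfl
    | succ k ih => exact (hle _ (Nat.le_add_right _ _)).trans ih
  have hall' : ∀ n, Npc f n ≤ Npc f N₀ := by
    intro n
    by_cases h : n ≤ N₀
    · exact Npc_mono f h
    · push Not at h
      obtain ⟨k, rfl⟩ := Nat.exists_eq_add_of_le h.le
      exact hall k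
  have heq : Subalgebra.toSubmodule (integralClosure R K) = Npc f N₀ := by
    apply le_antisymm
    · intro x hx
      obtain ⟨n, hn'⟩ := exists_mem_Npc f hf hn x hx
      exact hall' n hn'
    · exact inf_le_left
  unfold CAlg.IsN1
  exact Module.Finite.iff_fg.mpr
    (heq ▸ Npc_fg f hf N₀ : (Subalgebra.toSubmodule (integralClosure R K)).FG)

theorem exists_normal_away (h : CAlg.IsN1 R) :
    ∃ f : R, f ≠ 0 ∧ IsIntegrallyClosed (Localization.Away f) := by
  unfold CAlg.IsN1 at h
  obtain ⟨G, hG⟩ : (Subalgebra.toSubmodule (integralClosure R K)).FG := Module.Finite.iff_fg.mp h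
  obtain ⟨b, hb⟩ := IsLocalization.exist_integer_multiples_of_finset (nonZeroDivisors R) G
  have hb0 : (b : R) ≠ 0 := nonZeroDivisors.ne_zero b.2
  refine ⟨b, hb0, ?_⟩
  have hle : Submonoid.powers (b : R) ≤ nonZeroDivisors R :=
    powers_le_nonZeroDivisors_of_noZeroDivisors hb0
  let Sf : Subalgebra R K := Localization.subalgebra.ofField K (Submonoid.powers (b : R)) hle
  have hfr : IsFractionRing Sf K := Localization.subalgebra.isFractionRing_ofField K _ _
  have e : Localization.Away (b : R) ≃ₐ[R] Sf :=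
    IsLocalization.algEquiv (Submonoid.powers (b : R)) (Localization.Away (b : R)) Sf
  suffices hic : IsIntegrallyClosed Sf from hic.of_equiv e.symm.toRingEquiv
  rw [isIntegrallyClosed_iff K]
  intro x hx
  obtain ⟨⟨_, k, rfl⟩, hm⟩ :=
    IsIntegral.exists_multiple_integral_of_isLocalization (Submonoid.powers (b : R)) x hx
  have hm' : ((b : R) ^ k) • x ∈ Submodule.span R (G : Set K) := by
    rw [hG]; exact hm
  -- multiplying an element of the span by `b` lands in `R`
  have hspan : ∀ y ∈ Submodule.span R (G : Set K), ∃ r : R, algebraMap R K r = (b : R) • y := by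
    intro y hy
    induction hy using Submodule.span_induction with
    | mem g hg =>
      obtain ⟨r, hr⟩ := hb g hg
      exact ⟨r, hr⟩
    | zero => exact ⟨0, by simp⟩
    | add y z _ _ hy hz =>
      obtain ⟨r, hr⟩ := hy
      obtain ⟨r', hr'⟩ := hz
      exact ⟨r + r', by rw [map_add, hr, hr', smul_add]⟩
    | smul a y _ hy =>
      obtain ⟨r, hr⟩ := hy
      exact ⟨a * r, by rw [map_mul, hr, smul_comm, Algebra.smul_def a]⟩
  obtain ⟨r, hr⟩ := hspan _ hm'
  have h0 : algebraMap R K ((b : R) ^ (k + 1)) ≠ 0 := by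
    rw [map_ne_zero_iff _ (IsFractionRing.injective R K)]
    exact pow_ne_zero _ hb0
  have hxmem : x ∈ Sf := by
    show ∃ (a s : R) (_ : s ∈ Submonoid.powers (b : R)),
      x = algebraMap R K a * (algebraMap R K s)⁻¹
    refine ⟨r, (b : R) ^ (k + 1), ⟨k + 1, rfl⟩, ?_⟩
    rw [hr, eq_mul_inv_iff_mul_eq₀ h0, smul_smul, ← pow_succ', Algebra.smul_def, mul_comm]
  exact ⟨⟨x, hxmem⟩, rfl⟩

theorem main (R : Type u) [CommRing R] [IsDomain R] [IsNoetherianRing R] :
    CAlg.IsN1 R ↔ ((∃ f : R, f ≠ 0 ∧ IsIntegrallyClosed (Localization.Away f)) ∧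
      ∀ (m : Ideal R) [m.IsMaximal], CAlg.IsN1 (Localization.AtPrime m)) := by
  constructor
  · intro h
    refine ⟨exists_normal_away h, fun m _ => ?_⟩
    exact n1_loc R m.primeCompl (Localization.AtPrime m) h
  · rintro ⟨⟨f, hf, hn⟩, hb⟩
    exact n1_of_local f hf hn hb

end Aux

/-- A Noetherian domain `R` is N-1 exactly when (a) `R_f` is integrally closed for some nonzero `f`, and
(b) the localization of `R` at every maximal ideal is N-1. -/
theorem result (R : Type u) [CommRing R] [IsDomain R]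
    [IsNoetherianRing R] :
    CAlg.IsN1 R ↔ ((∃ f : R, f ≠ 0 ∧ IsIntegrallyClosed (Localization.Away f)) ∧
      ∀ (m : Ideal R) [m.IsMaximal], CAlg.IsN1 (Localization.AtPrime m)) := by
  exact Aux.main R

end Groth.Agent.S0571
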