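import Groth.Statements.S12125
import Mathlib
import Groth.Prelude.Def_Found
import Groth.Agent.Lib.Helper6.Japanese
import Groth.Agent.S0571
import Groth.Agent.S4562
-- import your own Groth.Agent.* helpers here

set_option autoImplicit false
universe u
open EGA4

namespace Groth.Agent.S12125

namespace Aux

open Groth.Agent.Lib.Helper6.Japanese

/-- integral closure finite over base ⇒ finite over an integral intermediate ring -/
theorem finite_of_integral_mid {R S L : Type*} [CommRing R] [CommRing S] [CommRing L]
    [Algebra R S] [Algebra S L] [Algebra R L] [IsScalarTower R S L] [Algebra.IsIntegral R S]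
    (h : Module.Finite R (integralClosure R L)) : Module.Finite S (integralClosure S L) := by
  have hfg : (Subalgebra.toSubmodule (integralClosure R L)).FG := Module.Finite.iff_fg.mp h
  obtain ⟨t, ht⟩ := hfg
  refine Module.Finite.iff_fg.mpr (⟨t, ?_⟩ : (Subalgebra.toSubmodule (integralClosure S L)).FG)
  apply le_antisymm
  · rw [Submodule.span_le]
    intro x hx
    have h1 : x ∈ Subalgebra.toSubmodule (integralClosure R L) := by
      rw [← ht]; exact Submodule.subset_span hx
    have h2 : IsIntegral R x := h1
    exact h2.tower_top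
  · intro y hy
    have hy' : IsIntegral S y := hy
    have hy'' : IsIntegral R y := isIntegral_trans y hy'
    have h1 : y ∈ Submodule.span R (t : Set L) := by rw [ht]; exact hy''
    exact Submodule.span_le_restrictScalars R S _ h1

/-- existence of a finite subalgebra with the right fraction field -/
theorem exists_finite_subalgebra (B : Type*) [CommRing B] [IsDomain B] (K K' : Type*) [Field K]
    [Field K'] [Algebra B K] [IsFractionRing B K] [Algebra K K'] [Algebra B K']
    [IsScalarTower B K K'] [FiniteDimensional K K'] :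
    ∃ B' : Subalgebra B K', Module.Finite B B' ∧ IsFractionRing B' K' := by
  obtain ⟨s, b, hb⟩ := FiniteDimensional.exists_is_basis_integral B K K'
  refine ⟨Algebra.adjoin B (Set.range b), ?_, ?_⟩
  · exact Module.Finite.iff_fg.mpr
      (fg_adjoin_of_finite (Set.finite_range b) (by rintro _ ⟨i, rfl⟩; exact hb i))
  · have hinjB : Function.Injective (algebraMap B K') := by
      rw [IsScalarTower.algebraMap_eq B K K']
      exact (algebraMap K K').injective.comp (IsFractionRing.injective B K)
    have : FaithfulSMul (Algebra.adjoin B (Set.range b)) K' :=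
      (faithfulSMul_iff_algebraMap_injective _ K').mpr Subtype.val_injective
    refine IsFractionRing.of_field _ K' (fun z => ?_)
    obtain ⟨d, hd⟩ := IsLocalization.exist_integer_multiples_of_finite (nonZeroDivisors B)
      (fun i : s => b.repr z i)
    have hd0 : algebraMap B K' (d : B) ≠ 0 := by
      rw [map_ne_zero_iff _ hinjB]; exact nonZeroDivisors.ne_zero d.2
    have hmem : (d : B) • z ∈ Algebra.adjoin B (Set.range b) := by
      have hz : (d : B) • z = ∑ i, (d : B) • ((b.repr z) i • b i) := by
        rw [← Finset.smul_sum, b.sum_repr z]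
      rw [hz]
      refine Subalgebra.sum_mem _ (fun i _ => ?_)
      obtain ⟨a, ha⟩ := hd i
      rw [← smul_assoc, ← ha, algebraMap_smul]
      exact Subalgebra.smul_mem _ (Algebra.subset_adjoin (Set.mem_range_self i)) a
    refine ⟨⟨(d : B) • z, hmem⟩, algebraMap B _ (d : B), ?_⟩
    have h1 : algebraMap (Algebra.adjoin B (Set.range b)) K' (algebraMap B _ (d : B)) =
        algebraMap B K' (d : B) := rfl
    have h2 : algebraMap (Algebra.adjoin B (Set.range b)) K' ⟨(d : B) • z, hmem⟩ = (d : B) • z := rfl
    rw [h1, h2, eq_div_iff hd0, Algebra.smul_def, mul_comm]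


/-- local generators from N-2 of a localization -/
theorem local_gens (B : Type u) [CommRing B] [IsDomain B] (M : Submonoid B) (S : Type u)
    [CommRing S] [IsDomain S] [Algebra B S] [IsLocalization M S] (hS : CAlg.IsN2 S)
    (K K' : Type u) [Field K] [Field K'] [Algebra B K] [IsFractionRing B K] [Algebra K K']
    [Algebra B K'] [IsScalarTower B K K'] [FiniteDimensional K K'] :
    ∃ T : Finset K', (∀ z ∈ T, IsIntegral B z) ∧ ∀ y : K', IsIntegral B y →
      ∃ u ∈ M, u • y ∈ Submodule.span B (T : Set K') := by
  have hM : M ≤ nonZeroDivisors B := by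
    intro y hy
    rw [mem_nonZeroDivisors_iff_ne_zero]
    rintro rfl
    have := IsLocalization.map_units S (⟨0, hy⟩ : M)
    simp at this
  have hunits : ∀ y : M, IsUnit (algebraMap B K (y : B)) := fun y =>
    IsLocalization.map_units K (⟨y, hM y.2⟩ : nonZeroDivisors B)
  let g : S →+* K := IsLocalization.lift (M := M) (g := algebraMap B K) hunits
  let _ : Algebra S K := g.toAlgebra
  have t1 : IsScalarTower B S K := IsScalarTower.of_algebraMap_eq
    (fun r => (IsLocalization.lift_eq (M := M) hunits r).symm)
  have hfr : IsFractionRing S K :=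
    IsFractionRing.isFractionRing_of_isDomain_of_isLocalization M S K
  let _ : Algebra S K' := ((algebraMap K K').comp (algebraMap S K)).toAlgebra
  have t2 : IsScalarTower S K K' := IsScalarTower.of_algebraMap_eq (fun _ => rfl)
  have t3 : IsScalarTower B S K' := IsScalarTower.of_algebraMap_eq (fun r => by
    rw [IsScalarTower.algebraMap_apply B K K', IsScalarTower.algebraMap_apply B S K]
    rfl)
  have hfin : Module.Finite S (integralClosure S K') := n2_apply hS K K'
  obtain ⟨T, hT1, hT2⟩ := exists_integral_gens M S K' hfin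
  refine ⟨T, hT1, fun y hy => ?_⟩
  have h2 := hT2 y hy.tower_top
  rw [IsLocalization.mem_span_iff M] at h2
  obtain ⟨y', hy', z, rfl⟩ := h2
  refine ⟨z, z.2, ?_⟩
  have : (z : B) • (IsLocalization.mk' S (1 : B) z • y') = y' := by
    rw [← algebraMap_smul S (z : B), smul_smul, IsLocalization.mk'_spec', map_one, one_smul]
  rw [this]
  exact hy'

open Groth.Agent.S0571.Aux in
theorem n1_of_local' {R : Type u} [CommRing R] [IsDomain R] [IsNoetherianRing R] (f : R)
    (hf : f ≠ 0) (hn : IsIntegrallyClosed (Localization.Away f))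
    (hb : ∀ (m : Ideal R) [m.IsMaximal], ∃ T : Finset (FractionRing R),
      (∀ z ∈ T, IsIntegral R z) ∧ ∀ y : FractionRing R, IsIntegral R y →
      ∃ u : R, u ∉ m ∧ u • y ∈ Submodule.span R (T : Set (FractionRing R))) : CAlg.IsN1 R := by
  let I : ℕ →o Ideal R := ⟨fun n => (Npc f n).colon (Npc f (n + 1) : Set (FractionRing R)),
    monotone_nat_of_le_succ (colon_mono f)⟩
  obtain ⟨N₀, hN₀⟩ := monotone_stabilizes_iff_noetherian.mpr inferInstance I
  have htop : I N₀ = ⊤ := by
    by_contra hne
    obtain ⟨m, hm, hIm⟩ := Ideal.exists_le_maximal _ hne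
    obtain ⟨T, hT1, hT2⟩ := hb m
    have hex : ∃ n₁, ∀ z ∈ T, z ∈ Npc f n₁ := by
      have h1 : ∀ z ∈ T, ∃ n, z ∈ Npc f n := fun z hz => exists_mem_Npc f hf hn z (hT1 z hz)
      choose! nn hnn using h1
      exact ⟨T.sup nn, fun z hz => Npc_mono f (Finset.le_sup hz) (hnn z hz)⟩
    obtain ⟨n₁, hn₁⟩ := hex
    have hspan : Submodule.span R (T : Set (FractionRing R)) ≤ Npc f (max N₀ n₁) :=
      Submodule.span_le.mpr (fun z hz => Npc_mono f (le_max_right _ _) (hn₁ z hz))
    obtain ⟨G, hG⟩ := Npc_fg f hf (max N₀ n₁ + 1)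
    have hu : ∀ x ∈ G, ∃ u : R, u ∉ m ∧ u • x ∈ Npc f (max N₀ n₁) := fun x hx => by
      have hxN : x ∈ Npc f (max N₀ n₁ + 1) := hG ▸ Submodule.subset_span hx
      obtain ⟨u, hu1, hu2⟩ := hT2 x (mem_Npc.mp hxN).1
      exact ⟨u, hu1, hspan hu2⟩
    choose! u hu1 hu2 using hu
    have hU : ∏ x ∈ G, u x ∉ m := by
      intro h
      obtain ⟨x, hx, hxm⟩ := (Ideal.IsPrime.prod_mem_iff).mp h
      exact hu1 x hx hxm
    have hUI : ∏ x ∈ G, u x ∈ I (max N₀ n₁) := by
      show _ ∈ (Npc f (max N₀ n₁)).colon (Npc f (max N₀ n₁ + 1) : Set (FractionRing R))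
      rw [Submodule.mem_colon]
      intro p hp
      have hp' : p ∈ Submodule.span R (G : Set (FractionRing R)) := hG ▸ hp
      classical
      induction hp' using Submodule.span_induction with
      | mem x hx =>
        rw [← Finset.mul_prod_erase G u hx, mul_comm, mul_smul]
        exact Submodule.smul_mem _ _ (hu2 x hx)
      | zero => rw [smul_zero]; exact Submodule.zero_mem _
      | add x y _ _ hx hy =>
        rw [smul_add]
        exact add_mem (hx (hG ▸ ‹x ∈ Submodule.span R (G : Set (FractionRing R))›))
          (hy (hG ▸ ‹y ∈ Submodule.span R (G : Set (FractionRing R))›))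
      | smul a x _ hx =>
        rw [smul_comm]
        exact Submodule.smul_mem _ _ (hx (hG ▸ ‹x ∈ Submodule.span R (G : Set (FractionRing R))›))
    have hI : I (max N₀ n₁) = I N₀ := (hN₀ _ (le_max_left _ _)).symm
    exact hU (hIm (hI ▸ hUI))
  have hle : ∀ n, N₀ ≤ n → Npc f (n + 1) ≤ Npc f n := by
    intro n hn' x hx
    have h1 : (1 : R) ∈ I n := by rw [← hN₀ n hn', htop]; trivial
    have h2 : (1 : R) ∈ (Npc f n).colon (Npc f (n + 1) : Set (FractionRing R)) := h1
    have := (Submodule.mem_colon.mp h2) x hx
    simpa using this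
  have hall : ∀ k, Npc f (N₀ + k) ≤ Npc f N₀ := by
    intro k
    induction k with
    | zero => exact le_rfl
    | succ k ih => exact (hle _ (Nat.le_add_right _ _)).trans ih
  have hall' : ∀ n, Npc f n ≤ Npc f N₀ := by
    intro n
    by_cases h : n ≤ N₀
    · exact Npc_mono f h
    · push Not at h
      obtain ⟨k, rfl⟩ := Nat.exists_eq_add_of_le h.le
      exact hall k
  have heq : Subalgebra.toSubmodule (integralClosure R (FractionRing R)) = Npc f N₀ := by
    apply le_antisymm
    · intro x hx
      obtain ⟨n, hn'⟩ := exists_mem_Npc f hf hn x hx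
      exact hall' n hn'
    · exact inf_le_left
  unfold CAlg.IsN1
  exact Module.Finite.iff_fg.mpr
    (heq ▸ Npc_fg f hf N₀ : (Subalgebra.toSubmodule (integralClosure R (FractionRing R))).FG)

/-- version over an arbitrary fraction field -/
theorem n1_of_local_K {R : Type u} [CommRing R] [IsDomain R] [IsNoetherianRing R]
    (K' : Type u) [Field K'] [Algebra R K'] [IsFractionRing R K'] (f : R)
    (hf : f ≠ 0) (hn : IsIntegrallyClosed (Localization.Away f))
    (hb : ∀ (m : Ideal R) [m.IsMaximal], ∃ T : Finset K',
      (∀ z ∈ T, IsIntegral R z) ∧ ∀ y : K', IsIntegral R y →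
      ∃ u : R, u ∉ m ∧ u • y ∈ Submodule.span R (T : Set K')) :
    Module.Finite R (integralClosure R K') := by
  apply finite_of_n1 K'
  apply n1_of_local' f hf hn
  intro m _
  obtain ⟨T, hT1, hT2⟩ := hb m
  let e : K' ≃ₐ[R] FractionRing R := (FractionRing.algEquiv R K').symm
  classical
  refine ⟨T.image e, ?_, ?_⟩
  · intro z hz
    obtain ⟨z', hz', rfl⟩ := Finset.mem_image.mp hz
    exact (hT1 z' hz').map e
  · intro y hy
    obtain ⟨u, hu1, hu2⟩ := hT2 (e.symm y) (hy.map e.symm)
    refine ⟨u, hu1, ?_⟩
    have h1 : e (u • e.symm y) ∈ (Submodule.span R (T : Set K')).map e.toLinearMap :=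
      Submodule.mem_map_of_mem hu2
    rw [Submodule.map_span] at h1
    have h2 : e (u • e.symm y) = u • y := by
      rw [map_smul, AlgEquiv.apply_symm_apply]
    rw [h2] at h1
    rw [Finset.coe_image]
    exact h1

/-- N-2 passes to the quotient of a localization -/
theorem n2_quot_loc (A : Type u) [CommRing A] (m : Ideal A) [m.IsPrime] (p : Ideal A) [p.IsPrime]
    (h : CAlg.IsN2 (A ⧸ p)) (Q : Ideal (Localization.AtPrime m))
    (hQ : Q = p.map (algebraMap A (Localization.AtPrime m))) [Q.IsPrime] :
    CAlg.IsN2 (Localization.AtPrime m ⧸ Q) := by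
  subst hQ
  exact n2_loc (A ⧸ p) (Algebra.algebraMapSubmonoid (A ⧸ p) m.primeCompl)
    (Localization.AtPrime m ⧸ p.map (algebraMap A (Localization.AtPrime m))) h

theorem forward (A : Type u) [CommRing A] [IsNoetherianRing A] (h : CAlg.IsNagata A) :
    ((∀ (m : Ideal A) [m.IsMaximal] (P : Ideal (Localization.AtPrime m)) [P.IsPrime],
          CAlg.IsN2 (Localization.AtPrime m ⧸ P)) ∧
        ∀ (p : Ideal A) [p.IsPrime] (K' : Type u) [Field K'] [Algebra (A ⧸ p) K']
          [Algebra (FractionRing (A ⧸ p)) K'] [IsScalarTower (A ⧸ p) (FractionRing (A ⧸ p)) K']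
          [FiniteDimensional (FractionRing (A ⧸ p)) K'] [IsPurelyInseparable (FractionRing (A ⧸ p)) K']
          (B' : Subalgebra (A ⧸ p) K'), Module.Finite (A ⧸ p) B' → IsFractionRing B' K' →
            ∃ f : B', f ≠ 0 ∧ IsIntegrallyClosed (Localization.Away f)) := by
  obtain ⟨_, hN⟩ := h
  constructor
  · intro m _ P _
    have hp : (P.comap (algebraMap A (Localization.AtPrime m))).IsPrime := Ideal.comap_isPrime _ _
    exact n2_quot_loc A m (P.comap (algebraMap A (Localization.AtPrime m))) (hN _) P
      (IsLocalization.map_under m.primeCompl (Localization.AtPrime m) P).symm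
  · intro p _ K' _ _ _ _ _ _ B' hfin hfr
    have h1 : Module.Finite (A ⧸ p) (integralClosure (A ⧸ p) K') := hN p K' inferInstance
    have hint : Algebra.IsIntegral (A ⧸ p) B' := Algebra.IsIntegral.of_finite _ _
    have h2 : Module.Finite B' (integralClosure B' K') := finite_of_integral_mid h1
    have h3 : CAlg.IsN1 B' := n1_of_finite K' h2
    exact Groth.Agent.S0571.Aux.exists_normal_away h3

theorem backward (A : Type u) [CommRing A] [IsNoetherianRing A]
    (h1 : ∀ (m : Ideal A) [m.IsMaximal] (P : Ideal (Localization.AtPrime m)) [P.IsPrime],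
          CAlg.IsN2 (Localization.AtPrime m ⧸ P))
    (h2 : ∀ (p : Ideal A) [p.IsPrime] (K' : Type u) [Field K'] [Algebra (A ⧸ p) K']
          [Algebra (FractionRing (A ⧸ p)) K'] [IsScalarTower (A ⧸ p) (FractionRing (A ⧸ p)) K']
          [FiniteDimensional (FractionRing (A ⧸ p)) K'] [IsPurelyInseparable (FractionRing (A ⧸ p)) K']
          (B' : Subalgebra (A ⧸ p) K'), Module.Finite (A ⧸ p) B' → IsFractionRing B' K' →
            ∃ f : B', f ≠ 0 ∧ IsIntegrallyClosed (Localization.Away f)) :
    CAlg.IsNagata A := by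
  refine ⟨inferInstance, fun p _ => ?_⟩
  apply Groth.Agent.S4562.result
  intro K' _ _ _ _ hfd hpi
  have hfd' : FiniteDimensional (FractionRing (A ⧸ p)) K' := hfd
  obtain ⟨B', hfin, hfr⟩ := exists_finite_subalgebra (A ⧸ p) (FractionRing (A ⧸ p)) K'
  obtain ⟨f, hf, hn⟩ := h2 p K' B' hfin hfr
  have hnoeth : IsNoetherianRing B' := IsNoetherianRing.of_finite (A ⧸ p) B'
  have hint : Algebra.IsIntegral (A ⧸ p) B' := Algebra.IsIntegral.of_finite _ _
  have hN1 : Module.Finite B' (integralClosure B' K') := by
    refine n1_of_local_K K' f hf hn (fun n _ => ?_)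
    -- the maximal ideals below `n`
    have hmb : (n.comap (algebraMap (A ⧸ p) B')).IsMaximal :=
      Ideal.isMaximal_comap_of_isIntegral_of_isMaximal n
    let m : Ideal A := (n.comap (algebraMap (A ⧸ p) B')).comap (Ideal.Quotient.mk p)
    have hm : m.IsMaximal := Ideal.comap_isMaximal_of_surjective _ Ideal.Quotient.mk_surjective
    have hpm : p ≤ m := by
      intro x hx
      show algebraMap (A ⧸ p) B' (Ideal.Quotient.mk p x) ∈ n
      rw [Ideal.Quotient.eq_zero_iff_mem.mpr hx, map_zero]
      exact n.zero_mem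
    have hdisj : Disjoint (m.primeCompl : Set A) (p : Set A) := by
      rw [Set.disjoint_left]
      intro x hx hxp
      exact hx (hpm hxp)
    have hP : (p.map (algebraMap A (Localization.AtPrime m))).IsPrime :=
      IsLocalization.isPrime_of_isPrime_disjoint m.primeCompl _ p inferInstance hdisj
    have hS : CAlg.IsN2 (Localization.AtPrime m ⧸ p.map (algebraMap A (Localization.AtPrime m))) :=
      h1 m _
    obtain ⟨T, hT1, hT2⟩ := local_gens (A ⧸ p) (Algebra.algebraMapSubmonoid (A ⧸ p) m.primeCompl)
      (Localization.AtPrime m ⧸ p.map (algebraMap A (Localization.AtPrime m))) hS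
      (FractionRing (A ⧸ p)) K'
    refine ⟨T, fun z hz => (hT1 z hz).tower_top, fun y hy => ?_⟩
    obtain ⟨u, hu, hu2⟩ := hT2 y (isIntegral_trans y hy)
    refine ⟨algebraMap (A ⧸ p) B' u, ?_, ?_⟩
    · obtain ⟨a, ha, rfl⟩ := hu
      exact ha
    · rw [algebraMap_smul]
      exact Submodule.span_le_restrictScalars (A ⧸ p) B' _ hu2
  have hN1' : Module.Finite (A ⧸ p) (integralClosure B' K') := Module.Finite.trans B' _
  have hNoeth : IsNoetherian (A ⧸ p) (integralClosure B' K') :=
    isNoetherian_of_isNoetherianRing_of_finite (A ⧸ p) _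
  let j : integralClosure (A ⧸ p) K' →ₗ[A ⧸ p] integralClosure B' K' :=
    { toFun := fun x => ⟨x.1, x.2.tower_top⟩
      map_add' := fun _ _ => rfl
      map_smul' := fun a x => by
        apply Subtype.ext
        show a • (x : K') = a • (x : K')
        rfl }
  have hj : Function.Injective j := fun x y hxy => by
    have h1 : (j x : K') = (j y : K') := congrArg Subtype.val hxy
    exact Subtype.ext h1
  exact Module.Finite.of_injective j hj

theorem main (A : Type u) [CommRing A] [IsNoetherianRing A] :
    CAlg.IsNagata A ↔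
      ((∀ (m : Ideal A) [m.IsMaximal] (P : Ideal (Localization.AtPrime m)) [P.IsPrime],
          CAlg.IsN2 (Localization.AtPrime m ⧸ P)) ∧
        ∀ (p : Ideal A) [p.IsPrime] (K' : Type u) [Field K'] [Algebra (A ⧸ p) K']
          [Algebra (FractionRing (A ⧸ p)) K'] [IsScalarTower (A ⧸ p) (FractionRing (A ⧸ p)) K']
          [FiniteDimensional (FractionRing (A ⧸ p)) K'] [IsPurelyInseparable (FractionRing (A ⧸ p)) K']
          (B' : Subalgebra (A ⧸ p) K'), Module.Finite (A ⧸ p) B' → IsFractionRing B' K' →
            ∃ f : B', f ≠ 0 ∧ IsIntegrallyClosed (Localization.Away f)) :=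
  ⟨forward A, fun h => backward A h.1 h.2⟩

end Aux

/-- Let A be a Noetherian ring. Then every quotient of A by a prime ideal is N-2 (i.e. A is a Nagata
ring) if and only if (1) for every maximal ideal m of A every quotient of A_m by a prime ideal is
N-2, and (2) for every prime p of A, writing B = A/p with fraction field K, for every finite purely
inseparable field extension K' of K and every sub-B-algebra B' of K' which is a finite B-module and
has K' as its fraction field, there is a nonzero element f of B' such that B'_f is an integrally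
closed domain. -/
theorem result (A : Type u) [CommRing A] [IsNoetherianRing A] :
    CAlg.IsNagata A ↔
      ((∀ (m : Ideal A) [m.IsMaximal] (P : Ideal (Localization.AtPrime m)) [P.IsPrime],
          CAlg.IsN2 (Localization.AtPrime m ⧸ P)) ∧
        ∀ (p : Ideal A) [p.IsPrime] (K' : Type u) [Field K'] [Algebra (A ⧸ p) K']
          [Algebra (FractionRing (A ⧸ p)) K'] [IsScalarTower (A ⧸ p) (FractionRing (A ⧸ p)) K']
          [FiniteDimensional (FractionRing (A ⧸ p)) K'] [IsPurelyInseparable (FractionRing (A ⧸ p)) K']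
          (B' : Subalgebra (A ⧸ p) K'), Module.Finite (A ⧸ p) B' → IsFractionRing B' K' →
            ∃ f : B', f ≠ 0 ∧ IsIntegrallyClosed (Localization.Away f)) := by
  exact Aux.main A

end Groth.Agent.S12125
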