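import Groth.Statements.S2171
import Mathlib

set_option autoImplicit false
open Finset
open Models

namespace Groth.Agent.S2171

/-- Let A be a symmetric real n by n matrix with non-negative off-diagonal entries, m a vector with
positive entries such that A m = 0, and assume no proper non-empty index set I has A i j = 0 for all
i in I and j outside I. Then x^t A x is at most 0 for every real vector x, with equality exactly
when x is a real multiple of m. -/
theorem result {n : ℕ} (A : Matrix (Fin n) (Fin n) ℝ)
    (m : Fin n → ℝ) (hsymm : A.IsSymm) (hA : ∀ i j, i ≠ j → 0 ≤ A i j) (hm : ∀ i, 0 < m i)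
    (hAm : A.mulVec m = 0)
    (hconn : ∀ I : Finset (Fin n), I.Nonempty → I ≠ univ → ∃ i ∈ I, ∃ j ∉ I, A i j ≠ 0)
    (x : Fin n → ℝ) :
    dotProduct x (A.mulVec x) ≤ 0 ∧ (dotProduct x (A.mulVec x) = 0 ↔ ∃ q : ℝ, x = q • m) := by
  classical
  have hmne : ∀ i, m i ≠ 0 := fun i => (hm i).ne'
  set y : Fin n → ℝ := fun i => x i / m i with hy
  have hx : ∀ i, x i = m i * y i := fun i => by
    simp only [hy]
    field_simp [hmne i]
  have hrow : ∀ i, ∑ j, A i j * m j = 0 := fun i => by
    have := congrFun hAm i
    simpa [Matrix.mulVec, dotProduct] using this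
  have hcol : ∀ j, ∑ i, A i j * m i = 0 := by
    intro j
    rw [← hrow j]
    refine Finset.sum_congr rfl fun i _ => ?_
    rw [hsymm.apply i j]
  have e1 : dotProduct x (A.mulVec x) = ∑ i, ∑ j, A i j * m i * m j * (y i * y j) := by
    simp only [dotProduct, Matrix.mulVec, Finset.mul_sum]
    refine Finset.sum_congr rfl fun i _ => Finset.sum_congr rfl fun j _ => ?_
    rw [hx i, hx j]
    ring
  have e2 : ∑ i, ∑ j, A i j * m i * m j * (y i) ^ 2 = 0 := by
    refine Finset.sum_eq_zero fun i _ => ?_
    have : ∑ j, A i j * m i * m j * (y i) ^ 2 = m i * (y i) ^ 2 * ∑ j, A i j * m j := by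
      rw [Finset.mul_sum]
      refine Finset.sum_congr rfl fun j _ => by ring
    rw [this, hrow, mul_zero]
  have e3 : ∑ i, ∑ j, A i j * m i * m j * (y j) ^ 2 = 0 := by
    rw [Finset.sum_comm]
    refine Finset.sum_eq_zero fun j _ => ?_
    have : ∑ i, A i j * m i * m j * (y j) ^ 2 = m j * (y j) ^ 2 * ∑ i, A i j * m i := by
      rw [Finset.mul_sum]
      refine Finset.sum_congr rfl fun i _ => by ring
    rw [this, hcol, mul_zero]
  have e4 : ∑ i, ∑ j, A i j * m i * m j * (y i - y j) ^ 2 =
      ∑ i, ∑ j, A i j * m i * m j * (y i) ^ 2 + ∑ i, ∑ j, A i j * m i * m j * (y j) ^ 2 -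
        2 * ∑ i, ∑ j, A i j * m i * m j * (y i * y j) := by
    simp only [← Finset.sum_add_distrib, Finset.mul_sum, ← Finset.sum_sub_distrib]
    refine Finset.sum_congr rfl fun i _ => Finset.sum_congr rfl fun j _ => by ring
  have key : dotProduct x (A.mulVec x) =
      -(1 / 2) * ∑ i, ∑ j, A i j * m i * m j * (y i - y j) ^ 2 := by
    rw [e1, e4, e2, e3]
    ring
  have hterm : ∀ i j, 0 ≤ A i j * m i * m j * (y i - y j) ^ 2 := by
    intro i j
    by_cases hij : i = j
    · subst hij
      simp
    · have := hA i j hij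
      have := (hm i).le
      have := (hm j).le
      positivity
  have hsum_nonneg : 0 ≤ ∑ i, ∑ j, A i j * m i * m j * (y i - y j) ^ 2 :=
    Finset.sum_nonneg fun i _ => Finset.sum_nonneg fun j _ => hterm i j
  refine ⟨by rw [key]; nlinarith, ?_⟩
  constructor
  · intro h0
    have hsum0 : ∑ i, ∑ j, A i j * m i * m j * (y i - y j) ^ 2 = 0 := by
      rw [key] at h0
      linarith
    have hall : ∀ i j, A i j * m i * m j * (y i - y j) ^ 2 = 0 := by
      intro i j
      have h1 := (Finset.sum_eq_zero_iff_of_nonneg
        (fun i _ => Finset.sum_nonneg fun j _ => hterm i j)).mp hsum0 i (Finset.mem_univ i)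
      exact (Finset.sum_eq_zero_iff_of_nonneg (fun j _ => hterm i j)).mp h1 j (Finset.mem_univ j)
    have hadj : ∀ i j, A i j ≠ 0 → y i = y j := by
      intro i j hAij
      have := hall i j
      have h2 : (y i - y j) ^ 2 = 0 := by
        rcases mul_eq_zero.mp this with h | h
        · exfalso
          rcases mul_eq_zero.mp h with h | h
          · rcases mul_eq_zero.mp h with h | h
            · exact hAij h
            · exact hmne i h
          · exact hmne j h
        · exact h
      have := pow_eq_zero_iff (two_ne_zero) |>.mp h2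
      linarith
    rcases Nat.eq_zero_or_pos n with hn | hn
    · subst hn
      exact ⟨0, funext fun i => i.elim0⟩
    · let i0 : Fin n := ⟨0, hn⟩
      let I : Finset (Fin n) := Finset.univ.filter fun i => y i = y i0
      have hI_ne : I.Nonempty := ⟨i0, by simp [I]⟩
      have hI_univ : I = Finset.univ := by
        by_contra hne
        obtain ⟨i, hi, j, hj, hAij⟩ := hconn I hI_ne hne
        have hyi : y i = y i0 := by simpa [I] using hi
        have hyj : y j = y i0 := by rw [← hadj i j hAij, hyi]
        exact hj (by simp [I, hyj])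
      refine ⟨y i0, funext fun i => ?_⟩
      have hi : i ∈ I := by rw [hI_univ]; exact Finset.mem_univ i
      have hyi : y i = y i0 := by simpa [I] using hi
      rw [hx i, hyi]
      simp [mul_comm]
  · rintro ⟨q, rfl⟩
    rw [Matrix.mulVec_smul, hAm, smul_zero, dotProduct_zero]

end Groth.Agent.S2171
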