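import Groth.Statements.S3325
import Mathlib
import Groth.Agent.Lib.Helper1.PicV7
import Groth.Agent.Lib.Helper1.ChiA3

set_option autoImplicit false
universe u
open CategoryTheory CategoryTheory.Limits AlgebraicGeometry
open Models

namespace Groth.Agent.S3325

/-- In the following situation (R a discrete valuation ring with residue field k, C a smooth proper
curve over its fraction field K with H^0(C, O_C) = K, X a regular proper model, Γ_1, …, Γ_n the
irreducible components of the closed fibre with multiplicities m_i, L_j ⊗ I(Γ_j) ≅ O_X) let D = Σ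
a_j Γ_j and D' = D + Γ_i be effective Cartier divisors with D' contained in the closed fibre (a_j +
δ_ij ≤ m_j). Then χ(O_{D'}) - χ(O_D) = -(D · Γ_i) + χ(Γ_i, O_{Γ_i}), where (D · Γ_i) = Σ_j a_j
deg_k(L_i|Γ_j), χ(Γ_i, O_{Γ_i}) = dim_k H^0(Γ_i, O) - dim_k H^1(Γ_i, O), and the Euler
characteristics of O_D, O_{D'} are dim_k H^0 - dim_k H^1 computed as R-lengths of the cohomology on
X. -/
theorem result (R : Type u) [CommRing R] [IsDomain R] [IsDiscreteValuationRing R]
    (C X : Scheme.{u}) (f : C ⟶ Spec (CommRingCat.of (FractionRing R))) (p : X ⟶ Spec (CommRingCat.of R))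
    (hC : Curve.IsSmoothProperCurve (FractionRing R) C f) (hH0 : IsIso f.appTop)
    (hX : Models.IsRegularProperModel R X p C f)
    {n : ℕ} (Γ : Fin n → ArSurf.VertComp R (Over.mk p)) (hΓ : Models.IsComponentList R (Over.mk p) Γ)
    (L : Fin n → X.Modules) (hL : ∀ i, ClSub.IsInverseOf (L i) (ClSub.idealMod (Γ i).ι.ker)) (a : Fin n → ℕ) (i : Fin n) (ha : ∀ j, a j + (if j = i then 1 else 0) ≤ Models.mult R (Over.mk p) (Γ j)) :
    ((Models.lengthH R (Over.mk p) (ClSub.quotMod (∏ j, (Γ j).ι.ker ^ (a j + if j = i then 1 else 0))) 0 : ℤ) -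
          (Models.lengthH R (Over.mk p) (ClSub.quotMod (∏ j, (Γ j).ι.ker ^ (a j + if j = i then 1 else 0))) 1 : ℤ)) -
        ((Models.lengthH R (Over.mk p) (ClSub.quotMod (∏ j, (Γ j).ι.ker ^ a j)) 0 : ℤ) -
          (Models.lengthH R (Over.mk p) (ClSub.quotMod (∏ j, (Γ j).ι.ker ^ a j)) 1 : ℤ)) =
      -(∑ j, (a j : ℤ) * ArSurf.inter R (Over.mk p) (L i) (Γ j)) +
        ((Models.wdeg R (Over.mk p) (Γ i) : ℤ) - (Models.h1 R (Over.mk p) (Γ i) : ℤ)) := by
  classical
  obtain ⟨⟨hflat, hlft, hqc, g', H⟩, hp, hreg⟩ := hX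
  haveI := hlft
  haveI := hp
  haveI : Flat p := hflat
  haveI : IsLocallyNoetherian (Over.mk p).left :=
    LocallyOfFiniteType.isLocallyNoetherian (Y := Spec (CommRingCat.of R)) p
  haveI : Flat (Over.mk p).hom := hflat
  have hinj := hΓ.1
  have hcov := Groth.Agent.Helper1.SpFib.cover_of_isComponentList R (Over.mk p) Γ hΓ
  have hinv : ∀ j, PicF.IsInvertible (ClSub.idealMod (Γ j).ι.ker) := fun j =>
    Groth.Agent.Helper1.ArInt.isInvertible_idealMod_of_isInverseOf R (Over.mk p) _ (L j) (hL j)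
  have hI : PicF.IsInvertible (ClSub.idealMod (∏ j, (Γ j).ι.ker ^ a j)) :=
    Groth.Agent.Helper1.SpFib.isInvertible_prod_pow (fun j => (Γ j).ι.ker) a hinv Finset.univ
  have hprod : ∏ j, (Γ j).ι.ker ^ (a j + if j = i then 1 else 0) =
      (∏ j, (Γ j).ι.ker ^ a j) * (Γ i).ι.ker := by
    simp only [pow_add]
    rw [Finset.prod_mul_distrib]
    congr 1
    rw [Finset.prod_eq_single i]
    · rw [if_pos rfl, pow_one]
    · intro j _ hji
      rw [if_neg hji, pow_zero]
    · intro h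
      exact absurd (Finset.mem_univ i) h
  have mul_le : ∀ A B : X.IdealSheafData, A * B ≤ A := fun A B U =>
    (Ideal.mul_le_left : A.ideal U * B.ideal U ≤ A.ideal U)
  have hle : Models.specialFibreIdeal R (Over.mk p) ≤
      (∏ j, (Γ j).ι.ker ^ a j) * (Γ i).ι.ker := by
    rw [← hprod,
      Groth.Agent.Helper1.SpFib.specialFibreIdeal_eq_prod R (Over.mk p) hreg Γ hinj hcov]
    have hsplit : ∀ j, (Γ j).ι.ker ^ Models.mult R (Over.mk p) (Γ j) =
        (Γ j).ι.ker ^ (a j + if j = i then 1 else 0) *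
          (Γ j).ι.ker ^ (Models.mult R (Over.mk p) (Γ j) - (a j + if j = i then 1 else 0)) := by
      intro j
      rw [← pow_add, Nat.add_sub_cancel' (ha j)]
    rw [Finset.prod_congr rfl (fun j _ => hsplit j), Finset.prod_mul_distrib]
    exact mul_le _ _
  have step := Groth.Agent.Helper1.ChiA.chi_step R (Over.mk p) hp (Γ i)
    (∏ j, (Γ j).ι.ker ^ a j) hI hle
  rw [hprod, step]
  congr 1
  have hv := Groth.Agent.Helper1.PicV.isInvertibleCl_v R (Over.mk p) Γ L hL
  have hu := Groth.Agent.Helper1.PicV.isInvertibleCl_u R (Over.mk p) Γ L hL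
  have hB := Groth.Agent.Helper1.PicV.degCl_prod_pow R (Over.mk p) hp (Γ i)
    (fun j => PicF.cl (ClSub.idealMod (Γ j).ι.ker)) hv a Finset.univ
  have hcl := Groth.Agent.Helper1.PicV.cl_idealMod_prod_pow (fun j => (Γ j).ι.ker) a hinv
    Finset.univ
  have h0 : ArSurf.inter R (Over.mk p) (ClSub.idealMod (∏ j, (Γ j).ι.ker ^ a j)) (Γ i) =
      Groth.Agent.Helper1.PicV.degCl R (Over.mk p) hp (Γ i)
        (PicF.cl (ClSub.idealMod (∏ j, (Γ j).ι.ker ^ a j))) := rfl
  rw [h0, hcl, hB.2, ← Finset.sum_neg_distrib]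
  apply Finset.sum_congr rfl
  intro j _
  have hneg : Groth.Agent.Helper1.PicV.degCl R (Over.mk p) hp (Γ i)
      (PicF.cl (ClSub.idealMod (Γ j).ι.ker)) = - ArSurf.inter R (Over.mk p) (L j) (Γ i) := by
    have h1 := Groth.Agent.Helper1.PicV.degCl_mul R (Over.mk p) hp (Γ i) (hu j) (hv j)
    have h2 : (@PicF.cl (Over.mk p).left (L j)) * PicF.cl (ClSub.idealMod (Γ j).ι.ker) = 1 :=
      Groth.Agent.Lead.PicCalc.cl_eq_of_iso (hL j).some
    rw [h2, Groth.Agent.Helper1.PicV.degCl_one] at h1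
    have h3 : Groth.Agent.Helper1.PicV.degCl R (Over.mk p) hp (Γ i) (PicF.cl (L j)) =
        ArSurf.inter R (Over.mk p) (L j) (Γ i) := rfl
    rw [h3] at h1
    linarith
  have hsymm : ArSurf.inter R (Over.mk p) (L j) (Γ i) = ArSurf.inter R (Over.mk p) (L i) (Γ j) := by
    by_cases hji : j = i
    · subst hji
      rfl
    · exact Groth.Agent.Helper1.ArInt.inter_symm R (Over.mk p) hp (Γ i) (Γ j)
        (fun e => hji (hinj e).symm) (L i) (L j) (hL i) (hL j)
  rw [hneg, hsymm]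
  ring

end Groth.Agent.S3325
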