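import Groth.Statements.S3321
import Mathlib
import Mathlib
import Groth.Agent.S3325
import Groth.Agent.Lib.Helper1.GenF2

set_option autoImplicit false
universe u
open CategoryTheory CategoryTheory.Limits AlgebraicGeometry
open Models

namespace Groth.Agent.S3321

/-- In the following situation (R a discrete valuation ring with residue field k, C a smooth proper
curve over its fraction field K with H^0(C, O_C) = K, X a regular proper model, Γ_1, …, Γ_n the
irreducible components of the closed fibre with multiplicities m_i, L_i ⊗ I(Γ_i) ≅ O_X) one has g_C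
= 1 + Σ_i m_i ([κ_i : k] (g_i - 1) - (Γ_i · Γ_i) / 2), where g_C = dim_K H^1(C, O_C), κ_i = H^0(Γ_i,
O) and g_i is the genus of Γ_i, so that [κ_i : k] g_i = dim_k H^1(Γ_i, O). Stated multiplied by 2
and with [κ_i : k](g_i - 1) written as dim_k H^1(Γ_i, O) - dim_k H^0(Γ_i, O). -/
theorem result (R : Type u) [CommRing R] [IsDomain R] [IsDiscreteValuationRing R]
    (C X : Scheme.{u}) (f : C ⟶ Spec (CommRingCat.of (FractionRing R))) (p : X ⟶ Spec (CommRingCat.of R))
    (hC : Curve.IsSmoothProperCurve (FractionRing R) C f) (hH0 : IsIso f.appTop)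
    (hX : Models.IsRegularProperModel R X p C f)
    {n : ℕ} (Γ : Fin n → ArSurf.VertComp R (Over.mk p)) (hΓ : Models.IsComponentList R (Over.mk p) Γ)
    (L : Fin n → X.Modules) (hL : ∀ i, ClSub.IsInverseOf (L i) (ClSub.idealMod (Γ i).ι.ker)) :
    2 * (Models.curveGenus (FractionRing R) C f : ℤ) =
      2 + ∑ i, (Models.mult R (Over.mk p) (Γ i) : ℤ) *
        (2 * ((Models.h1 R (Over.mk p) (Γ i) : ℤ) - (Models.wdeg R (Over.mk p) (Γ i) : ℤ)) - ArSurf.inter R (Over.mk p) (L i) (Γ i)) := by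
  classical
  obtain ⟨⟨hflat, hlft, hqc, g', H⟩, hp, hreg⟩ := id hX
  haveI := hlft
  haveI := hp
  haveI : Flat p := hflat
  haveI : IsLocallyNoetherian (Over.mk p).left :=
    LocallyOfFiniteType.isLocallyNoetherian (Y := Spec (CommRingCat.of R)) p
  haveI : Flat (Over.mk p).hom := hflat
  have hinj := hΓ.1
  have hcov := Groth.Agent.Helper1.SpFib.cover_of_isComponentList R (Over.mk p) Γ hΓ
  have hinv : ∀ j, PicF.IsInvertible (ClSub.idealMod (Γ j).ι.ker) := fun j =>
    Groth.Agent.Helper1.ArInt.isInvertible_idealMod_of_isInverseOf R (Over.mk p) _ (L j) (hL j)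
  have hprod : ∀ (a : Fin n → ℕ) (i : Fin n),
      ∏ j, (Γ j).ι.ker ^ (a j + if j = i then 1 else 0) =
        (∏ j, (Γ j).ι.ker ^ a j) * (Γ i).ι.ker := by
    intro a i
    simp only [pow_add]
    rw [Finset.prod_mul_distrib]
    congr 1
    rw [Finset.prod_eq_single i]
    · rw [if_pos rfl, pow_one]
    · intro j _ hji
      rw [if_neg hji, pow_zero]
    · intro h
      exact absurd (Finset.mem_univ i) h
  have htop : (∏ j : Fin n, (Γ j).ι.ker ^ (0 : ℕ)) = (⊤ : X.IdealSheafData) := by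
    simp only [pow_zero, Finset.prod_const_one]
    rfl
  have hc : ∀ i j, ArSurf.inter R (Over.mk p) (L i) (Γ j) =
      ArSurf.inter R (Over.mk p) (L j) (Γ i) := by
    intro i j
    by_cases hij : i = j
    · subst hij
      rfl
    · exact Groth.Agent.Helper1.ArInt.inter_symm R (Over.mk p) hp (Γ j) (Γ i)
        (fun e => hij (hinj e).symm) (L j) (L i) (hL j) (hL i)
  have hz : ∀ i, Models.lengthH R (Over.mk p) (ClSub.quotMod (⊤ : X.IdealSheafData)) i = 0 := by
    intro i
    haveI : Subsingleton (Coh.HH (Over.mk p).left (ClSub.quotMod (⊤ : X.IdealSheafData)) i) :=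
      Groth.Agent.Helper1.GenF.subsingleton_HH_quotMod_top (X := X) i
    unfold Models.lengthH
    rw [Module.length_eq_zero]
    rfl
  have h0 : ((Models.lengthH R (Over.mk p)
        (ClSub.quotMod (∏ j : Fin n, (Γ j).ι.ker ^ (0 : ℕ))) 0 : ℤ) -
      (Models.lengthH R (Over.mk p)
        (ClSub.quotMod (∏ j : Fin n, (Γ j).ι.ker ^ (0 : ℕ))) 1 : ℤ)) = 0 := by
    rw [htop, hz 0, hz 1]
    norm_num
  have hstep : ∀ (a : Fin n → ℕ) (i : Fin n),
      (∀ j, a j + (if j = i then 1 else 0) ≤ Models.mult R (Over.mk p) (Γ j)) →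
      ((Models.lengthH R (Over.mk p)
            (ClSub.quotMod (∏ j, (Γ j).ι.ker ^ (a j + if j = i then 1 else 0))) 0 : ℤ) -
          (Models.lengthH R (Over.mk p)
            (ClSub.quotMod (∏ j, (Γ j).ι.ker ^ (a j + if j = i then 1 else 0))) 1 : ℤ)) -
        ((Models.lengthH R (Over.mk p) (ClSub.quotMod (∏ j, (Γ j).ι.ker ^ a j)) 0 : ℤ) -
          (Models.lengthH R (Over.mk p) (ClSub.quotMod (∏ j, (Γ j).ι.ker ^ a j)) 1 : ℤ)) =
      -(∑ j, (a j : ℤ) * ArSurf.inter R (Over.mk p) (L i) (Γ j)) +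
        ((Models.wdeg R (Over.mk p) (Γ i) : ℤ) - (Models.h1 R (Over.mk p) (Γ i) : ℤ)) :=
    fun a i ha => Groth.Agent.S3325.result R C X f p hC hH0 hX Γ hΓ L hL a i ha
  have hquad := Groth.Agent.Helper1.GenF.quad_induction
    (fun j => Models.mult R (Over.mk p) (Γ j))
    (fun i j => ArSurf.inter R (Over.mk p) (L i) (Γ j)) hc
    (fun j => (Models.wdeg R (Over.mk p) (Γ j) : ℤ) - (Models.h1 R (Over.mk p) (Γ j) : ℤ))
    (fun e => ((Models.lengthH R (Over.mk p)
        (ClSub.quotMod (∏ j, (Γ j).ι.ker ^ e j)) 0 : ℤ) -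
      (Models.lengthH R (Over.mk p) (ClSub.quotMod (∏ j, (Γ j).ι.ker ^ e j)) 1 : ℤ)))
    h0 hstep (fun j => Models.mult R (Over.mk p) (Γ j)) (fun j => le_rfl)
  beta_reduce at hquad
  have hvanE : ∀ e : Fin n → ℕ, (∀ j, e j ≤ Models.mult R (Over.mk p) (Γ j)) → ∀ i, 1 < i →
      Subsingleton (Coh.HH X (ClSub.quotMod (∏ j, (Γ j).ι.ker ^ e j)) i) := by
    intro e he
    refine Groth.Agent.Helper1.GenF.vert_induction (fun j => Models.mult R (Over.mk p) (Γ j))
      (fun e => ∀ i, 1 < i →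
        Subsingleton (Coh.HH X (ClSub.quotMod (∏ j, (Γ j).ι.ker ^ e j)) i)) ?_ ?_ e he
    · intro i _
      show Subsingleton (Coh.HH X (ClSub.quotMod (∏ j : Fin n, (Γ j).ι.ker ^ (0 : ℕ))) i)
      rw [htop]
      exact Groth.Agent.Helper1.GenF.subsingleton_HH_quotMod_top i
    · intro a i _ hPa k hk
      show Subsingleton (Coh.HH X
        (ClSub.quotMod (∏ j, (Γ j).ι.ker ^ (a j + if j = i then 1 else 0))) k)
      rw [hprod a i]
      exact Groth.Agent.Helper1.GenF.subsingleton_HH_step R (Over.mk p) hp (Γ i)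
        (∏ j, (Γ j).ι.ker ^ a j)
        (Groth.Agent.Helper1.SpFib.isInvertible_prod_pow (fun j => (Γ j).ι.ker) a hinv
          Finset.univ) k hk (hPa k hk)
  have hsf := Groth.Agent.Helper1.SpFib.specialFibreIdeal_eq_prod R (Over.mk p) hreg Γ hinj hcov
  have hvan : ∀ i, 1 < i → Subsingleton
      (Coh.HH X (ClSub.quotMod (Models.specialFibreIdeal R (Over.mk p))) i) := by
    intro i hi
    rw [hsf]
    exact hvanE (fun j => Models.mult R (Over.mk p) (Γ j)) (fun j => le_rfl) i hi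
  have hchi := Groth.Agent.Helper1.GenF.chi_closed_eq R C X f p hC hH0 hX hvan
  rw [← hsf] at hquad
  have hzero : ∑ j, ∑ l, (Models.mult R (Over.mk p) (Γ j) : ℤ) *
      (Models.mult R (Over.mk p) (Γ l) : ℤ) * ArSurf.inter R (Over.mk p) (L j) (Γ l) = 0 := by
    apply Finset.sum_eq_zero
    intro j _
    have h := Groth.Agent.Helper1.SpFib.sum_mult_mul_inter_eq_zero R (Over.mk p) hp hreg Γ hinj
      hcov L hL j
    calc ∑ l, (Models.mult R (Over.mk p) (Γ j) : ℤ) * (Models.mult R (Over.mk p) (Γ l) : ℤ) *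
          ArSurf.inter R (Over.mk p) (L j) (Γ l)
        = (Models.mult R (Over.mk p) (Γ j) : ℤ) * ∑ l, (Models.mult R (Over.mk p) (Γ l) : ℤ) *
            ArSurf.inter R (Over.mk p) (L l) (Γ j) := by
          rw [Finset.mul_sum]
          exact Finset.sum_congr rfl (fun l _ => by rw [hc j l, mul_assoc])
      _ = 0 := by rw [h, mul_zero]
  rw [hzero, sub_zero, hchi] at hquad
  have hfin : ∑ i, (Models.mult R (Over.mk p) (Γ i) : ℤ) *
      (2 * ((Models.h1 R (Over.mk p) (Γ i) : ℤ) - (Models.wdeg R (Over.mk p) (Γ i) : ℤ)) -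
        ArSurf.inter R (Over.mk p) (L i) (Γ i)) =
      -∑ j, (Models.mult R (Over.mk p) (Γ j) : ℤ) *
        (2 * ((Models.wdeg R (Over.mk p) (Γ j) : ℤ) - (Models.h1 R (Over.mk p) (Γ j) : ℤ)) +
          ArSurf.inter R (Over.mk p) (L j) (Γ j)) := by
    rw [← Finset.sum_neg_distrib]
    exact Finset.sum_congr rfl (fun j _ => by ring)
  rw [hfin]
  linarith

end Groth.Agent.S3321
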