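import Groth.Statements.S3326
import Mathlib
import Groth.Agent.Lib.Helper1.ExcC2
import Groth.Agent.Lib.Helper1.SpFib5

set_option autoImplicit false
universe u
open CategoryTheory CategoryTheory.Limits AlgebraicGeometry
open Models

namespace Groth.Agent.S3326

/-- Let R be a discrete valuation ring with residue field k and fraction field K, C a smooth proper
curve over K with H^0(C, O_C) = K, X a regular proper model of C over R, Γ_1, …, Γ_n the irreducible
components of the closed fibre of X, and L_i an O_X-module inverse to the ideal sheaf of Γ_i (L_i ⊗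
I(Γ_i) ≅ O_X). Then the component Γ_i is an exceptional curve of the first kind (an effective
Cartier divisor isomorphic to a projective line over a field, with conormal sheaf of degree one) if
and only if its genus is zero, i.e. H^1(Γ_i, O) = 0, and its self-intersection (Γ_i · Γ_i) =
deg_k(L_i|Γ_i) equals -[κ_i : k] = -dim_k H^0(Γ_i, O). The published statement is phrased
differently; this is a per-component form of it. -/
theorem result (R : Type u) [CommRing R] [IsDomain R] [IsDiscreteValuationRing R]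
    (C X : Scheme.{u}) (f : C ⟶ Spec (CommRingCat.of (FractionRing R))) (p : X ⟶ Spec (CommRingCat.of R))
    (hC : Curve.IsSmoothProperCurve (FractionRing R) C f) (hH0 : IsIso f.appTop)
    (hX : Models.IsRegularProperModel R X p C f)
    {n : ℕ} (Γ : Fin n → ArSurf.VertComp R (Over.mk p)) (hΓ : Models.IsComponentList R (Over.mk p) Γ)
    (L : Fin n → X.Modules) (hL : ∀ i, ClSub.IsInverseOf (L i) (ClSub.idealMod (Γ i).ι.ker)) (i : Fin n) :
    Models.IsExcCurve (Γ i).ι ↔
      Models.h1 R (Over.mk p) (Γ i) = 0 ∧ ArSurf.inter R (Over.mk p) (L i) (Γ i) = -(Models.wdeg R (Over.mk p) (Γ i) : ℤ) := by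
  obtain ⟨⟨hflat, hlft, -, -⟩, hp, hreg⟩ := hX
  haveI := hlft
  haveI : IsLocallyNoetherian (Over.mk p).left :=
    LocallyOfFiniteType.isLocallyNoetherian (Y := Spec (CommRingCat.of R)) p
  haveI : Flat (Over.mk p).hom := hflat
  have hcov := Groth.Agent.Helper1.SpFib.cover_of_isComponentList R (Over.mk p) Γ hΓ
  haveI : IsProper ((Γ i).curve.left ↘ Spec (CommRingCat.of (IsLocalRing.ResidueField R))) :=
    Groth.Agent.Helper1.ArInt.isProper_curve R (Over.mk p) hp (Γ i)
  have hDinv := Groth.Agent.Helper1.ArInt.isInvertible_idealMod_of_isInverseOf R (Over.mk p) _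
    (L i) (hL i)
  have hN : PicF.IsInvertible ((Scheme.Modules.pullback (Γ i).ι).obj
      (ClSub.idealMod (Γ i).ι.ker)) :=
    Groth.Agent.Helper1.PullGen.isInvertible_pullback (Γ i).ι hDinv
  have hinter : ArSurf.inter R (Over.mk p) (L i) (Γ i) =
      - ArSurf.curveDeg (IsLocalRing.ResidueField R) (Γ i).curve.left
        ((Scheme.Modules.pullback (Γ i).ι).obj (ClSub.idealMod (Γ i).ι.ker)) :=
    Groth.Agent.Helper1.ArInt.inter_eq_neg_curveDeg R (Over.mk p) hp (Γ i) (Γ i).ι.ker hDinv
      (L i) (hL i)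
  constructor
  · rintro ⟨-, K, hK, e, ⟨φ'⟩⟩
    letI := hK
    have φ : (Scheme.Modules.pullback e.hom).obj ((Scheme.Modules.pullback (Γ i).ι).obj
        (ClSub.idealMod (Γ i).ι.ker)) ≅ Twist.twistProjSpace 1 K 1 :=
      (Scheme.Modules.pullbackComp e.hom (Γ i).ι).app _ ≪≫ φ'
    obtain ⟨h1, h2⟩ := Groth.Agent.Helper1.ExcC.numerics_of_exc (IsLocalRing.ResidueField R)
      (Γ i).curve.left (Γ i).dim_eq K e _ hN φ
    refine ⟨h1, ?_⟩
    rw [hinter, h2]
    rfl
  · rintro ⟨h1, h2⟩
    refine ⟨Groth.Agent.Helper1.SpFib.isEffCartier_component R (Over.mk p) hreg Γ hΓ.1 hcov i, ?_⟩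
    have hdeg : ArSurf.curveDeg (IsLocalRing.ResidueField R) (Γ i).curve.left
        ((Scheme.Modules.pullback (Γ i).ι).obj (ClSub.idealMod (Γ i).ι.ker)) =
        (Module.finrank (IsLocalRing.ResidueField R)
          (Coh.HH (Γ i).curve.left (Coh.structureModule (Γ i).curve.left) 0) : ℤ) := by
      have h3 := hinter
      rw [h2] at h3
      have h4 : (Models.wdeg R (Over.mk p) (Γ i) : ℤ) = (Module.finrank (IsLocalRing.ResidueField R)
          (Coh.HH (Γ i).curve.left (Coh.structureModule (Γ i).curve.left) 0) : ℤ) := rfl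
      rw [← h4]
      linarith
    obtain ⟨K, hK, e, ⟨θ⟩⟩ := Groth.Agent.Helper1.ExcC.exc_of_numerics
      (IsLocalRing.ResidueField R) (Γ i).curve.left (Γ i).dim_eq _ hN h1 hdeg
    exact ⟨K, hK, e, ⟨(Scheme.Modules.pullbackComp e.hom (Γ i).ι).symm.app _ ≪≫ θ⟩⟩

end Groth.Agent.S3326
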