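import Groth.Statements.S1497
import Mathlib
import Groth.Agent.Lib.Helper1.VA6
import Groth.Agent.Lib.Helper1.CompAmple

set_option autoImplicit false
universe u
attribute [local instance] HasDerivedCategory.standard
open FlatMor

namespace Groth.Agent.S1497

open AlgebraicGeometry CategoryTheory Limits in
/-- Let S be a scheme with an ample invertible sheaf and f : X → S a morphism. Then f is a quasi-compact
immersion into some projective space P^n_S over S if and only if f is of finite type and X has an
ample invertible sheaf. -/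
theorem result {X S : Scheme.{u}} (hS : ∃ N : S.Modules, CohB1.IsAmple N) (f : X ⟶ S) :
    (∃ (n : ℕ) (i : X ⟶ CohB1.ProjSpaceOver n S), IsImmersion i ∧ QuasiCompact i ∧ i ≫ pullback.snd (CohB1.ProjSpace.toSpec n (ULift.{u} ℤ)) (specULiftZIsTerminal.from S) = f) ↔
      (LocallyOfFiniteType f ∧ QuasiCompact f ∧ ∃ L : X.Modules, CohB1.IsAmple L) := by
  constructor
  · rintro ⟨n, i, hi, hqi, hif⟩
    have hif' : i ≫ CohB1.ProjSpaceOver.toBase n S = f := hif
    have hlft0 : LocallyOfFiniteType (CohB1.ProjSpace.toSpec n (ULift.{u} ℤ)) :=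
      Groth.Agent.Helper1.VA5.locallyOfFiniteType_toSpec n _
    have hqc0 : QuasiCompact (CohB1.ProjSpace.toSpec n (ULift.{u} ℤ)) :=
      Groth.Agent.Helper1.VA5.quasiCompact_toSpec n _
    have hlft : LocallyOfFiniteType (CohB1.ProjSpaceOver.toBase n S) := by
      have : LocallyOfFiniteType (pullback.snd (CohB1.ProjSpace.toSpec n (ULift.{u} ℤ))
        (specULiftZIsTerminal.from S)) := inferInstance
      exact this
    have hqc : QuasiCompact (CohB1.ProjSpaceOver.toBase n S) := by
      have : QuasiCompact (pullback.snd (CohB1.ProjSpace.toSpec n (ULift.{u} ℤ))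
        (specULiftZIsTerminal.from S)) := inferInstance
      exact this
    subst hif'
    refine ⟨inferInstance, inferInstance, ?_⟩
    obtain ⟨N, hN⟩ := hS
    obtain ⟨n₀, -, hn₀⟩ := Groth.Agent.Helper1.CompAmple.isAmple_tensor_pullback_pow
      (CohB1.ProjSpaceOver.toBase n S) hN (Groth.Agent.Helper1.VA5.isRelAmple_twistOver n S)
    have hcS : CompactSpace S := hN.2.1
    have hcP : CompactSpace (CohB1.ProjSpaceOver n S) :=
      QuasiCompact.compactSpace_of_compactSpace (CohB1.ProjSpaceOver.toBase n S)
    have hcX : CompactSpace X := QuasiCompact.compactSpace_of_compactSpace i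
    exact ⟨_, Groth.Agent.Helper1.PullAmple.isAmple_pullback_of_isEmbedding i i.isEmbedding
      (hn₀ n₀ le_rfl)⟩
  · rintro ⟨hlft, hqc, L, hL⟩
    obtain ⟨n₀, hn₀⟩ := Groth.Agent.Helper1.VA4.exists_veryAmple_powers' f hL
    obtain ⟨n, i, hi, hif, -⟩ := hn₀ n₀ le_rfl
    refine ⟨n, i, hi, ?_, hif⟩
    have hsep0 : IsSeparated (CohB1.ProjSpace.toSpec n (ULift.{u} ℤ)) :=
      Groth.Agent.Helper1.VA5.isSeparated_toSpec n _
    have hqs : QuasiSeparated (CohB1.ProjSpaceOver.toBase n S) := by
      have : QuasiSeparated (pullback.snd (CohB1.ProjSpace.toSpec n (ULift.{u} ℤ))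
        (specULiftZIsTerminal.from S)) := inferInstance
      exact this
    have hif' : i ≫ CohB1.ProjSpaceOver.toBase n S = f := hif
    subst hif'
    exact QuasiCompact.of_comp i (CohB1.ProjSpaceOver.toBase n S)

end Groth.Agent.S1497
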