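import Groth.Statements.S1664
import Mathlib
import Groth.Agent.Lib.Helper1.AmpleLib4

set_option autoImplicit false
universe u
open CategoryTheory CategoryTheory.Limits AlgebraicGeometry
open Variety

namespace Groth.Agent.S1664

/-- Let X be quasi-compact. Suppose every point of X lies in the locus where some global section s of
some globally generated invertible module L generates L, with that locus affine. Then X has an ample
invertible module. -/
theorem result (X : Scheme.{u}) [CompactSpace X]
    (h : ∀ x : X, ∃ (L : X.Modules) (s : Coh.structureModule X ⟶ L), PicF.IsInvertible L ∧ Curv2.IsGloballyGenerated L ∧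
      x ∈ CohB1.genLocus L s ∧ IsAffineOpen (CohB1.genLocus L s)) :
    ∃ M : X.Modules, CohB1.IsAmple M := by
  classical
  choose L s hinv hgg hx haff using h
  obtain ⟨S, hS⟩ := isCompact_univ.elim_finite_subcover
    (fun x => ((CohB1.genLocus (L x) (s x) : X.Opens) : Set X))
    (fun x => (CohB1.genLocus (L x) (s x)).isOpen) (fun x _ => Set.mem_iUnion.2 ⟨x, hx x⟩)
  let T : List X → X.Modules :=
    fun l => l.foldr (fun x acc => CohB1.tensorMod (L x) acc) (Coh.structureModule X)
  have hA : ∀ l : List X, PicF.IsInvertible (T l) ∧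
      ∀ y : X, ∃ σ : Coh.structureModule X ⟶ T l, y ∈ CohB1.genLocus (T l) σ := by
    intro l
    induction l with
    | nil =>
      refine ⟨Groth.Agent.Helper1.GenLoc.isInvertible_O, fun y => ⟨𝟙 _, ?_⟩⟩
      change y ∈ CohB1.genLocus (Coh.structureModule X) (𝟙 _)
      rw [Groth.Agent.Helper1.AmpleLib.genLocus_id]
      trivial
    | cons x l ih =>
      refine ⟨Groth.Agent.Helper1.TwForm.isInvertible_tensorMod (hinv x) ih.1, fun y => ?_⟩
      obtain ⟨σ, hσ⟩ := ih.2 y
      obtain ⟨t, ht⟩ := Groth.Agent.Helper1.AmpleLib.exists_section_of_globallyGenerated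
        (hinv x) (hgg x) y
      refine ⟨SecTwist.tmulHom t σ, ?_⟩
      change y ∈ CohB1.genLocus (CohB1.tensorMod (L x) (T l)) (SecTwist.tmulHom t σ)
      rw [Groth.Agent.Helper1.TensGen.genLocus_tmulHom (hinv x) ih.1]
      exact ⟨ht, hσ⟩
  have hB : ∀ l : List X, ∀ x ∈ l, ∀ y ∈ CohB1.genLocus (L x) (s x),
      ∃ σ : Coh.structureModule X ⟶ T l, y ∈ CohB1.genLocus (T l) σ ∧
        IsAffineOpen (CohB1.genLocus (T l) σ) := by
    intro l
    induction l with
    | nil => intro x hx; simp at hx
    | cons x' l ih =>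
      intro x hxl y hy
      by_cases hxx : x = x'
      · subst hxx
        obtain ⟨σ, hσ⟩ := (hA l).2 y
        refine ⟨SecTwist.tmulHom (s x) σ, ?_, ?_⟩
        · change y ∈ CohB1.genLocus (CohB1.tensorMod (L x) (T l)) (SecTwist.tmulHom (s x) σ)
          rw [Groth.Agent.Helper1.TensGen.genLocus_tmulHom (hinv x) (hA l).1]
          exact ⟨hy, hσ⟩
        · change IsAffineOpen (CohB1.genLocus (CohB1.tensorMod (L x) (T l))
            (SecTwist.tmulHom (s x) σ))
          rw [Groth.Agent.Helper1.TensGen.genLocus_tmulHom (hinv x) (hA l).1, inf_comm]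
          exact Groth.Agent.Helper1.AmpleLib.isAffineOpen_genLocus_inf (hA l).1 σ (haff x)
      · have hxl' : x ∈ l := by
          rcases List.mem_cons.1 hxl with h | h
          · exact absurd h hxx
          · exact h
        obtain ⟨σ, hσ, hσaff⟩ := ih x hxl' y hy
        obtain ⟨t, ht⟩ := Groth.Agent.Helper1.AmpleLib.exists_section_of_globallyGenerated
          (hinv x') (hgg x') y
        refine ⟨SecTwist.tmulHom t σ, ?_, ?_⟩
        · change y ∈ CohB1.genLocus (CohB1.tensorMod (L x') (T l)) (SecTwist.tmulHom t σ)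
          rw [Groth.Agent.Helper1.TensGen.genLocus_tmulHom (hinv x') (hA l).1]
          exact ⟨ht, hσ⟩
        · change IsAffineOpen (CohB1.genLocus (CohB1.tensorMod (L x') (T l))
            (SecTwist.tmulHom t σ))
          rw [Groth.Agent.Helper1.TensGen.genLocus_tmulHom (hinv x') (hA l).1]
          exact Groth.Agent.Helper1.AmpleLib.isAffineOpen_genLocus_inf (hinv x') t hσaff
  refine ⟨T S.toList, Groth.Agent.Helper1.TwistAmpleOpen.isAmple_of_sections _
    (hA S.toList).1 fun y => ?_⟩
  obtain ⟨x, hxS, hyx⟩ : ∃ x ∈ S, y ∈ CohB1.genLocus (L x) (s x) := by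
    have := hS (Set.mem_univ y)
    simpa using this
  exact hB S.toList x (Finset.mem_toList.2 hxS) y hyx

end Groth.Agent.S1664
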