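import Groth.Statements.S19695
import Mathlib
import Groth.Agent.Lib.Lead.FLF5

set_option autoImplicit false
universe u
open CategoryTheory CategoryTheory.Limits AlgebraicGeometry Opposite
open FinCov

namespace Groth.Agent.S19695

section
open CategoryTheory CategoryTheory.Limits AlgebraicGeometry Opposite

open Groth.Agent.Lead.FLF RelSpec FinCov

variable {X : Scheme.{u}} (A : RelSpec.QCAlg X)

/-- sections of `A.toModule` as a module are `A(U)` with its algebra structure -/
noncomputable def secEquiv (U : X.Opens) :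
    letI : Algebra Γ(X, U) (A.presheaf.obj (op U)) := (A.str.app (op U)).hom.toAlgebra
    Γ(A.toModule, U) ≃ₗ[Γ(X, U)] (A.presheaf.obj (op U)) :=
  letI : Algebra Γ(X, U) (A.presheaf.obj (op U)) := (A.str.app (op U)).hom.toAlgebra
  { toFun := fun x => x
    invFun := fun x => x
    map_add' := fun _ _ => rfl
    map_smul' := fun _ _ => rfl
    left_inv := fun _ => rfl
    right_inv := fun _ => rfl }

lemma trace_str {U : X.Opens} (hU : IsAffineOpen U) (d : ℕ)
    (e : A.toModule.restrict U.ι ≅ FlatMod.freeMod (↑U) d)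
    (τ : A.toModule ⟶ Coh.structureModule X) (hτ : FinCov.IsTrace A τ) (t : Γ(X, U)) :
    (τ.val.app (op U)).hom ((A.str.app (op U)).hom t) = d • t := by
  letI : Algebra Γ(X, U) (A.presheaf.obj (op U)) := (A.str.app (op U)).hom.toAlgebra
  let E : (A.presheaf.obj (op U)) ≃ₗ[Γ(X, U)] (ULift.{u} (Fin d) →₀ Γ(X, U)) :=
    (secEquiv A U).symm ≪≫ₗ sectionsFreeEquiv hU A.toModule d e
  let b : Module.Basis (ULift.{u} (Fin d)) Γ(X, U) (A.presheaf.obj (op U)) := ⟨E⟩
  have h1 := hτ U hU (Module.Free.of_basis b) (Module.Finite.of_basis b)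
    ((A.str.app (op U)).hom t)
  rw [h1]
  have h2 := Algebra.trace_algebraMap_of_basis b t
  rw [RingHom.algebraMap_toAlgebra] at h2
  rw [h2]
  simp


theorem main (d : ℕ) (hA : FlatMod.IsFinLocFreeOfRank d A.toModule)
    (τ : A.toModule ⟶ Coh.structureModule X) (hτ : FinCov.IsTrace A τ) :
    FinCov.strMod A ≫ τ = d • 𝟙 (Coh.structureModule X) := by
  apply Scheme.Modules.hom_ext
  intro V
  ext s
  let J := {W : X.Opens // IsAffineOpen W ∧ W ≤ V ∧
    Nonempty (A.toModule.restrict W.ι ≅ FlatMod.freeMod (↑W) d)}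
  apply TopCat.Sheaf.eq_of_locally_eq'
    (⟨(Coh.structureModule X).presheaf, (Coh.structureModule X).isSheaf⟩ : TopCat.Sheaf Ab X)
    (fun W : J => W.1) V (fun W => homOfLE W.2.2.1)
  · intro x hx
    obtain ⟨U, hxU, ⟨e⟩⟩ := hA x
    have e' := freeOfLE (inf_le_left : U ⊓ V ≤ U) A.toModule d e
    obtain ⟨W, hW, hxW, hWUV, ⟨e''⟩⟩ := exists_affine_free A.toModule x (U ⊓ V) ⟨hxU, hx⟩ d e'
    exact TopologicalSpace.Opens.mem_iSup.2 ⟨⟨W, hW, hWUV.trans inf_le_right, ⟨e''⟩⟩, hxW⟩
  · rintro ⟨W, hW, hWV, ⟨e⟩⟩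
    have h1 := trace_str A hW d e τ hτ (X.presheaf.map (homOfLE hWV).op s)
    have n1 := (FinCov.strMod A ≫ τ).val.naturality (homOfLE hWV).op
    have n2 := (d • 𝟙 (Coh.structureModule X) : Coh.structureModule X ⟶ _).val.naturality
      (homOfLE hWV).op
    have m1 := congrArg (fun f => f.hom s) n1
    have m2 := congrArg (fun f => f.hom s) n2
    refine (m1.symm.trans ?_).trans m2
    refine h1.trans ?_
    have h3 : ∀ (k : ℕ) (t : Γ(X, W)),
        ((k • 𝟙 (Coh.structureModule X) : Coh.structureModule X ⟶ _).val.app (op W)).hom t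
          = k • t := by
      intro k t
      induction k with
      | zero => simp; rfl
      | succ k ih =>
        rw [succ_nsmul, succ_nsmul, ← ih]
        rfl
    exact (h3 d _).symm


end


/-- Let X be a scheme, A a quasi-coherent O_X-algebra which is locally free of rank d as an O_X-module,
and τ : A → O_X its trace (the O_X-linear map which over every affine open where A is finite free is
the trace of the regular representation). Then the structure map O_X → A followed by τ equals
multiplication by d on O_X. -/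
theorem result {X : Scheme.{u}} (A : RelSpec.QCAlg X) (d : ℕ)
    (hA : FlatMod.IsFinLocFreeOfRank d A.toModule)
    (τ : A.toModule ⟶ Coh.structureModule X) (hτ : FinCov.IsTrace A τ) :
    FinCov.strMod A ≫ τ = d • 𝟙 (Coh.structureModule X) := by
  classical
  exact main A d hA τ hτ

end Groth.Agent.S19695
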