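import Groth.Statements.S19696
import Mathlib
import Groth.Agent.Lib.Lead.FLF6
import Groth.Agent.S19695

set_option autoImplicit false
universe u
open CategoryTheory CategoryTheory.Limits AlgebraicGeometry Opposite
open FinCov

namespace Groth.Agent.S19696

section
open CategoryTheory CategoryTheory.Limits AlgebraicGeometry Opposite

open Groth.Agent.Lead.FLF RelSpec FinCov Scheme.Modules

variable {X : Scheme.{u}}

/-- a morphism of modules as a linear map on sections -/
noncomputable def appₗ {M N : X.Modules} (φ : M ⟶ N) (U : X.Opens) :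
    Γ(M, U) →ₗ[Γ(X, U)] Γ(N, U) where
  toFun := φ.app U
  map_add' := map_add _
  map_smul' := Hom.app_smul φ

lemma nsmul_id_app (k : ℕ) (U : X.Opens) (t : Γ(Coh.structureModule X, U)) :
    (k • 𝟙 (Coh.structureModule X) : Coh.structureModule X ⟶ _).app U t = k • t := by
  induction k with
  | zero => simp
  | succ k ih =>
    rw [succ_nsmul, succ_nsmul, ← ih]
    rfl

lemma isIso_nsmul_id (d : ℕ) (hd : IsUnit ((d : Γ(X, ⊤)))) :
    IsIso (d • 𝟙 (Coh.structureModule X) : Coh.structureModule X ⟶ _) := by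
  rw [Scheme.Modules.Hom.isIso_iff_isIso_app]
  intro U
  rw [ConcreteCategory.isIso_iff_bijective]
  have hu : IsUnit ((d : Γ(X, U))) := by
    have := hd.map (X.presheaf.map (homOfLE (le_top : U ≤ ⊤)).op).hom
    rwa [map_natCast] at this
  obtain ⟨u, hu'⟩ := hu
  have key : ∀ t : Γ(Coh.structureModule X, U),
      (d • 𝟙 (Coh.structureModule X) : Coh.structureModule X ⟶ _).app U t
        = (u : Γ(X, U)) • t := by
    intro t
    rw [nsmul_id_app, hu', Nat.cast_smul_eq_nsmul]
  constructor
  · intro a b hab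
    have h1 : (u : Γ(X, U)) • a = (u : Γ(X, U)) • b := by
      rw [← key a, ← key b]; exact hab
    have := congrArg (fun z => (↑u⁻¹ : Γ(X, U)) • z) h1
    simpa [smul_smul] using this
  · intro b
    refine ⟨(↑u⁻¹ : Γ(X, U)) • b, ?_⟩
    exact (key _).trans (by rw [smul_smul, Units.mul_inv, one_smul])


lemma appₗ_apply {M N : X.Modules} (φ : M ⟶ N) (U : X.Opens) (m : Γ(M, U)) :
    appₗ φ U m = φ.app U m := rfl

lemma appₗ_comp {M N K : X.Modules} (φ : M ⟶ N) (ψ : N ⟶ K) (U : X.Opens) :
    appₗ (φ ≫ ψ) U = (appₗ ψ U).comp (appₗ φ U) := rfl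

noncomputable def unitSecEquiv (U : X.Opens) : Γ(Coh.structureModule X, U) ≃ₗ[Γ(X, U)] Γ(X, U) where
  toFun x := x
  invFun x := x
  map_add' _ _ := rfl
  map_smul' _ _ := rfl
  left_inv _ := rfl
  right_inv _ := rfl

theorem main (A : RelSpec.QCAlg X) (d : ℕ) (hA : FlatMod.IsFinLocFreeOfRank d A.toModule)
    (τ : A.toModule ⟶ Coh.structureModule X) (hτ : FinCov.IsTrace A τ)
    (hd : IsUnit ((d : Γ(X, ⊤)))) :
    IsSplitEpi τ ∧ FlatMod.IsFinLocFreeOfRank (d - 1) (kernel τ) := by
  have h0 : FinCov.strMod A ≫ τ = d • 𝟙 _ := Groth.Agent.S19695.result A d hA τ hτ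
  haveI : IsIso (FinCov.strMod A ≫ τ) := by rw [h0]; exact isIso_nsmul_id d hd
  let σ : Coh.structureModule X ⟶ A.toModule := inv (FinCov.strMod A ≫ τ) ≫ FinCov.strMod A
  have hσ : σ ≫ τ = 𝟙 _ := by simp [σ]
  refine ⟨⟨⟨σ, hσ⟩⟩, ?_⟩
  let i := kernel.ι τ
  let r : A.toModule ⟶ kernel τ := kernel.lift τ (𝟙 _ - τ ≫ σ) (by
    rw [Preadditive.sub_comp, Category.assoc, hσ]; simp)
  have hri : r ≫ i = 𝟙 _ - τ ≫ σ := kernel.lift_ι _ _ _
  have hir : i ≫ r = 𝟙 _ := by
    rw [← cancel_mono i, Category.assoc, hri, Preadditive.comp_sub, ← Category.assoc,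
      kernel.condition]
    simp
  have hσr : σ ≫ r = 0 := by
    rw [← cancel_mono i, Category.assoc, hri, Preadditive.comp_sub, ← Category.assoc, hσ]
    simp
  have hM := isFinLocFree_of_isFinLocFreeOfRank _ d hA
  have hK : FlatMod.IsFinLocFree (kernel τ) := isFinLocFree_of_retract_of_isFinLocFree i r hir hM
  rw [isFinLocFreeOfRank_iff]
  refine ⟨hK, fun U hU p => ?_⟩
  haveI := isQuasicoherent_of_isFinLocFree _ hM
  haveI := isQuasicoherent_of_isFinLocFree _ hK
  obtain ⟨f1, p1⟩ := (isFinLocFree_iff_affineOpens _).1 hM U hU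
  obtain ⟨f2, p2⟩ := (isFinLocFree_iff_affineOpens _).1 hK U hU
  have hrA := ((isFinLocFreeOfRank_iff _ d).1 hA).2 U hU p
  have e1 : ∀ k : Γ(kernel τ, U), r.app U (i.app U k) = k := fun k =>
    congrArg (fun φ : kernel τ ⟶ kernel τ => φ.app U k) hir
  have e2 : ∀ s : Γ(Coh.structureModule X, U), r.app U (σ.app U s) = 0 := fun s =>
    congrArg (fun φ : Coh.structureModule X ⟶ kernel τ => φ.app U s) hσr
  have e3 : ∀ k : Γ(kernel τ, U), τ.app U (i.app U k) = 0 := fun k =>
    congrArg (fun φ : kernel τ ⟶ Coh.structureModule X => φ.app U k) (kernel.condition τ)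
  have e4 : ∀ s : Γ(Coh.structureModule X, U), τ.app U (σ.app U s) = s := fun s =>
    congrArg (fun φ : Coh.structureModule X ⟶ Coh.structureModule X => φ.app U s) hσ
  have e5 : ∀ a : Γ(A.toModule, U), i.app U (r.app U a) = a - σ.app U (τ.app U a) := fun a =>
    congrArg (fun φ : A.toModule ⟶ A.toModule => φ.app U a) hri
  let E : Γ(A.toModule, U) ≃ₗ[Γ(X, U)] Γ(kernel τ, U) × Γ(X, U) :=
    LinearEquiv.ofLinear (LinearMap.prod (appₗ r U) ((unitSecEquiv U).toLinearMap.comp (appₗ τ U)))
      (LinearMap.coprod (appₗ i U) ((appₗ σ U).comp (unitSecEquiv U).symm.toLinearMap))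
      (by
        apply LinearMap.ext
        rintro ⟨k, s⟩
        apply Prod.ext
        · change r.app U (i.app U k + σ.app U s) = k
          rw [map_add, e1, e2, add_zero]
        · change τ.app U (i.app U k + σ.app U s) = s
          rw [map_add, e3, e4, zero_add])
      (by
        apply LinearMap.ext
        intro a
        change i.app U (r.app U a) + σ.app U (τ.app U a) = a
        rw [e5, sub_add_cancel])
  rw [Module.rankAtStalk_eq_of_equiv E, Module.rankAtStalk_prod] at hrA
  haveI : Nontrivial Γ(X, U) := p.nontrivial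
  rw [Pi.add_apply, Module.rankAtStalk_self, Pi.one_apply] at hrA
  omega


end


/-- Let X be a scheme, A a quasi-coherent O_X-algebra which is locally free of rank d as an O_X-module,
and τ : A → O_X its trace (the O_X-linear map which over every affine open where A is finite free is
the trace of the regular representation). If d is invertible in O_X(X), then τ is a split
epimorphism of O_X-modules — so 0 → ker τ → A → O_X → 0 is split exact — and its kernel ker τ is
locally free of rank d − 1 as an O_X-module. -/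
theorem result {X : Scheme.{u}}
    (A : RelSpec.QCAlg X) (d : ℕ) (hA : FlatMod.IsFinLocFreeOfRank d A.toModule)
    (τ : A.toModule ⟶ Coh.structureModule X) (hτ : FinCov.IsTrace A τ)
    (hd : IsUnit ((d : Γ(X, ⊤)))) :
    IsSplitEpi τ ∧ FlatMod.IsFinLocFreeOfRank (d - 1) (kernel τ) := by
  classical
  exact main A d hA τ hτ hd

end Groth.Agent.S19696
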