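import Groth.Statements.S4793
import Mathlib
import Groth.Agent.Lib.Lead.EpiPull

set_option autoImplicit false
universe u
open CategoryTheory AlgebraicGeometry
open Lim8

namespace Groth.Agent.S4793

section
open CategoryTheory AlgebraicGeometry

open Groth.Agent.Lead.EpiPull Groth.Agent.Helper1

theorem main {I : Type u} [SmallCategory I] [IsCofiltered I]
    (D : I ⥤ Scheme.{u}) (c : Limits.Cone D) (hc : Limits.IsLimit c)
    [∀ (i j : I) (f : i ⟶ j), IsAffineHom (D.map f)] (i₀ : I) [CompactSpace (D.obj i₀)]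
    {F₀ G₀ : (D.obj i₀).Modules} [Coh.IsQCoh F₀]
    [Coh.IsQCoh G₀] (hG₀ft : CohB1.IsFT G₀) (f₀ : F₀ ⟶ G₀) :
    Epi ((Scheme.Modules.pullback (c.π.app i₀)).map f₀) ↔
      ∃ (j : I) (φ : j ⟶ i₀), Epi ((Scheme.Modules.pullback (D.map φ)).map f₀) := by
  haveI : F₀.IsQuasicoherent := ‹Coh.IsQCoh F₀›
  haveI : G₀.IsQuasicoherent := ‹Coh.IsQCoh G₀›
  obtain ⟨hCq, hCft⟩ := cokernel_qcoh_ft hG₀ft f₀
  have hcl : IsClosed (CohB1.support (Limits.cokernel f₀)) := FtGen.isClosed_support _ hCft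
  set U : (D.obj i₀).Opens := ⟨(CohB1.support (Limits.cokernel f₀))ᶜ, hcl.isOpen_compl⟩ with hU
  rw [epi_pullback_iff _ hG₀ft f₀]
  constructor
  · intro h
    let D' : Over i₀ ⥤ Scheme.{u} := Over.forget i₀ ⋙ D
    haveI : ∀ {a b : Over i₀} (f : a ⟶ b), IsAffineHom (D'.map f) := by
      intro a b f; dsimp [D']; infer_instance
    haveI : ∀ a : Over i₀, CompactSpace (D'.obj a) := by
      intro a
      exact QuasiCompact.compactSpace_of_compactSpace (D.map a.hom)
    have hc' := (Functor.Initial.isLimitWhiskerEquiv (Over.forget i₀) c).symm hc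
    have hU' : (c.whisker (Over.forget i₀)).π.app (Over.mk (𝟙 i₀)) ⁻¹ᵁ U = ⊤ := by
      rw [eq_top_iff]
      intro x _
      exact h ⟨x, rfl⟩
    obtain ⟨j, fji, hj⟩ := exists_map_eq_top D' _ hc' (i := Over.mk (𝟙 i₀)) U hU'
    refine ⟨j.left, fji.left, ?_⟩
    rw [epi_pullback_iff _ hG₀ft f₀]
    rintro _ ⟨y, rfl⟩
    have : y ∈ D'.map fji ⁻¹ᵁ U := by rw [hj]; trivial
    exact this
  · rintro ⟨j, φ, h⟩
    rw [epi_pullback_iff _ hG₀ft f₀] at h
    rintro _ ⟨y, rfl⟩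
    apply h
    refine ⟨c.π.app j y, ?_⟩
    have := c.w φ
    rw [← this]
    rfl


end


/-- Let S = lim S_i be a cofiltered limit of schemes with affine transition maps and S_{i₀} a
quasi-compact stage; let F₀ be a quasi-coherent O-module and G₀ a quasi-coherent O-module of finite
type on S_{i₀}, and f₀ : F₀ ⟶ G₀ a homomorphism. Then the pullback of f₀ along S ⟶ S_{i₀} is
surjective (an epimorphism of O_S-modules) if and only if, for some index j over i₀, the pullback of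
f₀ along S_j ⟶ S_{i₀} is surjective. -/
theorem result {I : Type u} [SmallCategory I] [IsCofiltered I]
    (D : I ⥤ Scheme.{u}) (c : Limits.Cone D) (hc : Limits.IsLimit c)
    [∀ (i j : I) (f : i ⟶ j), IsAffineHom (D.map f)] (i₀ : I) [CompactSpace (D.obj i₀)]
    {F₀ G₀ : (D.obj i₀).Modules} [Coh.IsQCoh F₀]
    [Coh.IsQCoh G₀] (hG₀ft : CohB1.IsFT G₀) (f₀ : F₀ ⟶ G₀) :
    Epi ((Scheme.Modules.pullback (c.π.app i₀)).map f₀) ↔
      ∃ (j : I) (φ : j ⟶ i₀), Epi ((Scheme.Modules.pullback (D.map φ)).map f₀) := by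
  classical
  exact main D c hc i₀ hG₀ft f₀

end Groth.Agent.S4793
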