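import Groth.Statements.S4597
import Mathlib.AlgebraicGeometry.PullbackCarrier
import Mathlib.AlgebraicGeometry.Morphisms.QuasiCompact
import Mathlib.Tactic

set_option autoImplicit false
universe u
open AlgebraicGeometry CategoryTheory CategoryTheory.Limits
open EGA41

namespace Groth.Agent.S4597

/-- Let f : X → Y, g : Y' → Y and f' : X ×_Y Y' → Y' the base change. If g is quasi-compact surjective
and f' quasi-compact, f is quasi-compact; if g is surjective and f' dominant, f is dominant. -/
theorem result {X Y Y' : Scheme.{u}} (f : X ⟶ Y)
    (g : Y' ⟶ Y) [Surjective g] :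
    (QuasiCompact g → QuasiCompact (pullback.snd f g) → QuasiCompact f) ∧
    (IsDominant (pullback.snd f g) → IsDominant f) := by
  have hsurj : Function.Surjective (pullback.fst f g) :=
    (inferInstance : Surjective (pullback.fst f g)).surj
  have hcomm : ∀ z : ↥(pullback f g), f (pullback.fst f g z) = g (pullback.snd f g z) := by
    intro z
    have h := pullback.condition (f := f) (g := g)
    have := congrArg (fun φ : pullback f g ⟶ Y => φ z) h
    simpa using this
  constructor
  · intro hg hf'
    refine ⟨fun U hU hUc => ?_⟩
    have h1 : IsCompact (g ⁻¹' U) := hg.isCompact_preimage U hU hUc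
    have h2 : IsCompact (pullback.snd f g ⁻¹' (g ⁻¹' U)) :=
      hf'.isCompact_preimage _ (hU.preimage g.continuous) h1
    have h3 : f ⁻¹' U = pullback.fst f g '' (pullback.snd f g ⁻¹' (g ⁻¹' U)) := by
      ext x
      constructor
      · intro hx
        obtain ⟨z, rfl⟩ := hsurj x
        refine ⟨z, ?_, rfl⟩
        simp only [Set.mem_preimage] at hx ⊢
        rw [← hcomm]; exact hx
      · rintro ⟨z, hz, rfl⟩
        simp only [Set.mem_preimage] at hz ⊢
        rw [hcomm]; exact hz
    rw [h3]
    exact h2.image (pullback.fst f g).continuous
  · intro hf'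
    refine ⟨?_⟩
    have hg : DenseRange g := (inferInstance : Surjective g).surj.denseRange
    have h1 : DenseRange (g ∘ pullback.snd f g) := hg.comp hf'.denseRange g.continuous
    have h2 : (g ∘ pullback.snd f g : ↥(pullback f g) → ↥Y) = f ∘ pullback.fst f g := by
      funext z
      exact (hcomm z).symm
    rw [h2] at h1
    exact h1.of_comp

end Groth.Agent.S4597
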