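import Groth.Statements.S4598
import Groth.Agent.S4597
import Mathlib.CategoryTheory.MorphismProperty.Descent
import Mathlib.AlgebraicGeometry.Morphisms.QuasiSeparated
import Mathlib.Tactic

set_option autoImplicit false
universe u
open AlgebraicGeometry CategoryTheory CategoryTheory.Limits
open EGA41

namespace Groth.Agent.S4598


instance quasiCompact_descendsAlong :
    MorphismProperty.DescendsAlong @QuasiCompact.{u} (@Surjective ⊓ @QuasiCompact) := by
  apply MorphismProperty.DescendsAlong.mk'
  intro X Y Z f g _ hf hfst
  -- here `f : X ⟶ Z` is surjective quasi-compact and `pullback.fst f g` is quasi-compact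
  haveI : Surjective f := hf.1
  have hsnd : QuasiCompact (pullback.snd g f) := by
    have e : pullback.snd g f = (pullbackSymmetry g f).hom ≫ pullback.fst f g := by simp
    rw [e]
    haveI := hfst
    infer_instance
  exact (Groth.Agent.S4597.result g f).1 hf.2 hsnd

/-- If g : Y' → Y is quasi-compact and surjective and the base change X ×_Y Y' → Y' of f : X → Y is
quasi-separated, then f is quasi-separated. -/
theorem result {X Y Y' : Scheme.{u}} (f : X ⟶ Y)
    (g : Y' ⟶ Y) [QuasiCompact g] [Surjective g] [QuasiSeparated (pullback.snd f g)] :
    QuasiSeparated f := by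
  have hdiag : MorphismProperty.diagonal @QuasiCompact.{u} f := by
    apply MorphismProperty.of_pullback_snd_of_descendsAlong
      (P := MorphismProperty.diagonal @QuasiCompact.{u}) (Q := @Surjective ⊓ @QuasiCompact)
      (f := f) (g := g)
    · exact ⟨inferInstance, inferInstance⟩
    · rw [← quasiSeparated_eq_diagonal_is_quasiCompact]
      infer_instance
  rw [← quasiSeparated_eq_diagonal_is_quasiCompact] at hdiag
  exact hdiag

end Groth.Agent.S4598
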