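import Groth.Statements.S8875
import Mathlib
import Groth.Agent.Lib.Lead.FittSh
import Groth.Agent.Lib.Lead.FittAlg

set_option autoImplicit false
universe u
open CategoryTheory CategoryTheory.Limits AlgebraicGeometry TopologicalSpace
open SDiv

namespace Groth.Agent.S8875

section
open CategoryTheory CategoryTheory.Limits AlgebraicGeometry TopologicalSpace
open Groth.Agent.Lead.FittSh Groth.Agent.Helper4.Fitting Groth.Agent.Lead.FittAlg Groth.Agent.Lead.FLF

theorem sheafIdeal_eq_bot_iff {S : Scheme.{u}} (F : S.Modules) [F.IsQuasicoherent]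
    (hft : CohB1.IsFT F) (k : ℕ) :
    Fitt.sheafIdeal F k = ⊥ ↔
      ∀ U : S.Opens, IsAffineOpen U → Fitt.ideal Γ(S, U) Γ(F, U) k = ⊥ := by
  constructor
  · intro h U hU
    rw [← sheafIdeal_ideal F hft k ⟨U, hU⟩, h]
    rfl
  · intro h
    apply Scheme.IdealSheafData.ext
    funext U
    rw [sheafIdeal_ideal F hft k U, h U.1 U.2]
    rfl

theorem sheafIdeal_eq_top_iff {S : Scheme.{u}} (F : S.Modules) [F.IsQuasicoherent]
    (hft : CohB1.IsFT F) (k : ℕ) :
    Fitt.sheafIdeal F k = ⊤ ↔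
      ∀ U : S.Opens, IsAffineOpen U → Fitt.ideal Γ(S, U) Γ(F, U) k = ⊤ := by
  constructor
  · intro h U hU
    rw [← sheafIdeal_ideal F hft k ⟨U, hU⟩, h]
    rfl
  · intro h
    apply Scheme.IdealSheafData.ext
    funext U
    rw [sheafIdeal_ideal F hft k U, h U.1 U.2]
    rfl

theorem main (S : Scheme.{u}) (F : S.Modules) (hF : Coh.IsQCoh F) (hft : CohB1.IsFT F)
    (r : ℕ) :
    FlatMod.IsFinLocFreeOfRank r F ↔
      (∀ k : ℕ, k < r → Fitt.sheafIdeal F k = ⊥) ∧ (∀ k : ℕ, r ≤ k → Fitt.sheafIdeal F k = ⊤) := by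
  haveI : F.IsQuasicoherent := hF
  rw [isFinLocFreeOfRank_iff, isFinLocFree_iff_affineOpens]
  constructor
  · rintro ⟨hfp, hr⟩
    have key : ∀ U : S.Opens, IsAffineOpen U →
        ((∀ k, k < r → Fitt.ideal Γ(S, U) Γ(F, U) k = ⊥) ∧
          (∀ k, r ≤ k → Fitt.ideal Γ(S, U) Γ(F, U) k = ⊤)) := by
      intro U hU
      haveI := (hfp U hU).1
      exact (conditions_iff (R := Γ(S, U)) Γ(F, U) r).1 ⟨(hfp U hU).2, hr U hU⟩
    exact ⟨fun k hk => (sheafIdeal_eq_bot_iff F hft k).2 fun U hU => (key U hU).1 k hk,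
      fun k hk => (sheafIdeal_eq_top_iff F hft k).2 fun U hU => (key U hU).2 k hk⟩
  · rintro ⟨h1, h2⟩
    have key : ∀ U : S.Opens, IsAffineOpen U →
        (Module.Projective Γ(S, U) Γ(F, U) ∧
          ∀ p : PrimeSpectrum Γ(S, U), Module.rankAtStalk (R := Γ(S, U)) Γ(F, U) p = r) := by
      intro U hU
      haveI := ft_sections F hft hU
      exact (conditions_iff (R := Γ(S, U)) Γ(F, U) r).2
        ⟨fun k hk => (sheafIdeal_eq_bot_iff F hft k).1 (h1 k hk) U hU,
          fun k hk => (sheafIdeal_eq_top_iff F hft k).1 (h2 k hk) U hU⟩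
    exact ⟨fun U hU => ⟨ft_sections F hft hU, (key U hU).1⟩, fun U hU => (key U hU).2⟩


end


/-- (1) ⇔ (3): let S be a scheme, F a quasi-coherent O_S-module of finite type and r ≥ 0. Then F is
finite locally free of rank r if and only if Fit_k(F) = 0 for every k < r and Fit_k(F) = O_S for
every k ≥ r. -/
theorem result (S : Scheme.{u}) (F : S.Modules) (hF : Coh.IsQCoh F) (hft : CohB1.IsFT F)
    (r : ℕ) :
    FlatMod.IsFinLocFreeOfRank r F ↔
      (∀ k : ℕ, k < r → Fitt.sheafIdeal F k = ⊥) ∧ (∀ k : ℕ, r ≤ k → Fitt.sheafIdeal F k = ⊤) := by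
  classical
  exact main S F hF hft r

end Groth.Agent.S8875
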