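import Groth.Statements.S4495
import Mathlib

set_option autoImplicit false
universe u
open FlatCx

namespace Groth.Agent.S4495

section
open CategoryTheory AlgebraicGeometry Opposite TopologicalSpace

lemma sub_of_bot (X : RingedSpace.{u, u}) (W : Opens X) (hW : W = ⊥) (s t : X.presheaf.obj (op W)) :
    s = t := by
  subst hW
  exact X.sheaf.eq_of_locally_eq' (ι := PEmpty.{u+1}) (fun i => i.elim) ⊥ (fun i => i.elim) (by simp) s t
    (fun i => i.elim)

theorem main (Z : LocallyRingedSpace.{u}) :
    PreconnectedSpace Z ↔
      ∀ e : Z.presheaf.obj (op ⊤), IsIdempotentElem e → e = 0 ∨ e = 1 := by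
  have hlocal : ∀ x : Z, IsLocalRing (Z.toRingedSpace.presheaf.stalk x) := fun x => Z.isLocalRing x
  constructor
  · intro hconn e he
    have key : ∀ (x : Z) (e : Z.toRingedSpace.presheaf.obj (op ⊤)), IsIdempotentElem e →
        (¬ IsUnit (Z.toRingedSpace.presheaf.Γgerm x e) ↔
          IsUnit (Z.toRingedSpace.presheaf.Γgerm x (1 - e))) := by
      intro x e he
      haveI := hlocal x
      have h1 : Z.toRingedSpace.presheaf.Γgerm x e * Z.toRingedSpace.presheaf.Γgerm x (1 - e) = 0 := by
        rw [← map_mul, mul_sub, mul_one, he.eq, sub_self, map_zero]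
      have h2 : Z.toRingedSpace.presheaf.Γgerm x e + Z.toRingedSpace.presheaf.Γgerm x (1 - e) = 1 := by
        rw [← map_add]; simp
      constructor
      · intro hne
        have := IsLocalRing.isUnit_or_isUnit_of_add_one h2
        tauto
      · intro hu hu'
        have : IsUnit (0 : Z.toRingedSpace.presheaf.stalk x) := h1 ▸ hu'.mul hu
        exact not_isUnit_zero this
    have hU : IsClopen (SetLike.coe (Z.toRingedSpace.basicOpen e) : Set Z) := by
      refine ⟨?_, (Z.toRingedSpace.basicOpen e).2⟩
      have : (SetLike.coe (Z.toRingedSpace.basicOpen e) : Set Z)ᶜ =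
          (SetLike.coe (Z.toRingedSpace.basicOpen (1 - e)) : Set Z) := by
        ext x
        simp only [Set.mem_compl_iff, SetLike.mem_coe]
        rw [RingedSpace.mem_top_basicOpen, RingedSpace.mem_top_basicOpen]
        exact key x e he
      rw [← isOpen_compl_iff, this]; exact (Z.toRingedSpace.basicOpen (1 - e)).2
    rcases (preconnectedSpace_iff_clopen.mp hconn) _ hU with h | h
    · left
      have hunit : IsUnit (1 - e) := by
        apply Z.toRingedSpace.isUnit_of_isUnit_germ ⊤
        intro x hx
        have hx' : x ∉ (SetLike.coe (Z.toRingedSpace.basicOpen e) : Set Z) := by rw [h]; simp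
        simp only [SetLike.mem_coe] at hx'
        rw [RingedSpace.mem_top_basicOpen] at hx'
        exact (key x e he).mp hx'
      have := (IsIdempotentElem.iff_eq_one_of_isUnit hunit).mp he.one_sub
      exact sub_eq_self.mp this
    · right
      have hunit : IsUnit e := by
        apply Z.toRingedSpace.isUnit_of_isUnit_germ ⊤
        intro x hx
        have hx' : x ∈ (SetLike.coe (Z.toRingedSpace.basicOpen e) : Set Z) := by rw [h]; simp
        simp only [SetLike.mem_coe] at hx'
        rw [RingedSpace.mem_top_basicOpen] at hx'
        exact hx'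
      exact (IsIdempotentElem.iff_eq_one_of_isUnit hunit).mp he
  · intro hidem
    rw [preconnectedSpace_iff_clopen]
    intro s hs
    let X := Z.toRingedSpace
    let U : Opens X := ⟨s, hs.isOpen⟩
    let V : Opens X := ⟨sᶜ, hs.compl.isOpen⟩
    have hUV : U ⊓ V = ⊥ := by
      ext x; simp [U, V]
    have hcov : (⊤ : Opens X) ≤ U ⊔ V := by
      intro x _
      by_cases hx : x ∈ s
      · exact Or.inl hx
      · exact Or.inr hx
    let Ufam : Bool → Opens X := fun b => cond b U V
    let sf : ∀ b : Bool, X.presheaf.obj (op (Ufam b)) := fun b =>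
      match b with
      | true => (1 : X.presheaf.obj (op U))
      | false => (0 : X.presheaf.obj (op V))
    have hcompat : TopCat.Presheaf.IsCompatible X.sheaf.1 Ufam sf := by
      intro b b'
      cases b <;> cases b'
      · rfl
      · apply sub_of_bot X
        change V ⊓ U = ⊥
        rw [inf_comm]; exact hUV
      · apply sub_of_bot X
        exact hUV
      · rfl
    obtain ⟨e, he, -⟩ : ∃ gl : X.presheaf.obj (op ⊤),
        (∀ i, (X.presheaf.map (homOfLE le_top : Ufam i ⟶ ⊤).op).hom gl = sf i) ∧ _ :=
      X.sheaf.existsUnique_gluing' Ufam ⊤ (fun b => homOfLE le_top)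
      (by
        refine hcov.trans ?_
        rw [sup_le_iff]
        exact ⟨le_iSup Ufam true, le_iSup Ufam false⟩) sf hcompat
    have heU : (X.presheaf.map (homOfLE le_top : U ⟶ ⊤).op).hom e = 1 := he true
    have heV : (X.presheaf.map (homOfLE le_top : V ⟶ ⊤).op).hom e = 0 := he false
    have hidem_e : IsIdempotentElem e := by
      refine X.sheaf.eq_of_locally_eq₂ (homOfLE le_top : U ⟶ ⊤) (homOfLE le_top : V ⟶ ⊤) hcov _ _ ?_ ?_
      · change (X.presheaf.map (homOfLE le_top : U ⟶ ⊤).op).hom (e * e) = (X.presheaf.map (homOfLE le_top : U ⟶ ⊤).op).hom e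
        rw [map_mul, heU, mul_one]
      · change (X.presheaf.map (homOfLE le_top : V ⟶ ⊤).op).hom (e * e) = (X.presheaf.map (homOfLE le_top : V ⟶ ⊤).op).hom e
        rw [map_mul, heV, mul_zero]
    rcases hidem e hidem_e with h0 | h1
    · left
      rw [Set.eq_empty_iff_forall_notMem]
      intro x hx
      haveI := hlocal x
      have h10 : (1 : X.presheaf.obj (op U)) = 0 := by
        rw [← heU, h0, map_zero]
      have := congrArg (X.presheaf.germ U x hx) h10
      rw [map_one, map_zero] at this
      exact one_ne_zero this
    · right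
      rw [Set.eq_univ_iff_forall]
      intro x
      by_contra hx
      haveI := hlocal x
      have h10 : (0 : X.presheaf.obj (op V)) = 1 := by
        rw [← heV, h1, map_one]
      have := congrArg (X.presheaf.germ V x hx) h10
      rw [map_one, map_zero] at this
      exact zero_ne_one this


end


open CategoryTheory AlgebraicGeometry Opposite in
/-- A locally ringed space Z is connected, in the sense that it is not the disjoint union of two
nonempty open subsets (the empty space being allowed), if and only if every idempotent of the ring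
of global sections Γ(Z, O_Z) is 0 or 1 (equivalently, Γ(Z, O_Z) is not isomorphic to a product of
two nonzero rings). -/
theorem result (Z : LocallyRingedSpace.{u}) :
    PreconnectedSpace Z ↔
      ∀ e : Z.presheaf.obj (op ⊤), IsIdempotentElem e → e = 0 ∨ e = 1 := by
  classical
  exact main Z

end Groth.Agent.S4495
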