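import Groth.Statements.S3573
import Mathlib
import Groth.Agent.Lib.Helper1.ProjUP8

set_option autoImplicit false
universe u
open CategoryTheory CategoryTheory.Limits AlgebraicGeometry
open EGA2

namespace Groth.Agent.S3573

/-- Let R be a commutative ring, X a scheme, and r, r' : X → P^n_R two morphisms over Spec R. If there
is an isomorphism τ : r^*O(1) ≅ r'^*O(1) carrying, for each i = 0, …, n, the pullback under r of the
coordinate section T_i of O(1) to its pullback under r', then r = r'. (Stated here for projective
n-space over an affine base Spec R, that is, for a free module of rank n + 1; the published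
statement is for the projective bundle of a more general module over a general base.) -/
theorem result {R : Type u} [CommRing R] (n : ℕ) {X : Scheme.{u}}
    (r r' : X ⟶ CohB1.ProjSpace n R) (hrr' : r ≫ CohB1.ProjSpace.toSpec n R = r' ≫ CohB1.ProjSpace.toSpec n R)
    (τ : (Scheme.Modules.pullback r).obj (Twist.twistProjSpace n R 1) ≅
      (Scheme.Modules.pullback r').obj (Twist.twistProjSpace n R 1))
    (hτ : ∀ i, τ.hom.app ⊤ (ProjUP.pullSec r (Twist.twistProjSpace n R 1) (ProjUP.coord n R i)) =
      ProjUP.pullSec r' (Twist.twistProjSpace n R 1) (ProjUP.coord n R i)) :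
    r = r' := by
  have hbase : r ≫ Proj.toSpecZero (CohB1.polyGrading n R) =
      r' ≫ Proj.toSpecZero (CohB1.polyGrading n R) := by
    have hiso : IsIso (CommRingCat.ofHom (algebraMap R (CohB1.polyGrading n R 0))) := by
      rw [ConcreteCategory.isIso_iff_bijective]
      exact Groth.Agent.Helper1.ProjSpaceLib.algebraMap_bijective n R
    have : Mono (Spec.map (CommRingCat.ofHom (algebraMap R (CohB1.polyGrading n R 0)))) :=
      inferInstance
    rw [← cancel_mono (Spec.map (CommRingCat.ofHom (algebraMap R (CohB1.polyGrading n R 0))))]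
    rw [Category.assoc, Category.assoc]
    exact hrr'
  exact Groth.Agent.Helper1.ProjUP7.hom_ext_of_iso' (CohB1.polyGrading n R)
    (Groth.Agent.Helper1.ProjUP8.tX n R) (Groth.Agent.Helper1.ProjUP8.htX n R)
    (Groth.Agent.Helper1.ProjUP8.hcov n R)
    (fun k _ _ ρ ρ' h0 h1 => Groth.Agent.Helper1.ProjUP8.hext n R k ρ ρ' h0 h1)
    r r' hbase τ hτ

end Groth.Agent.S3573
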