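import Groth.Statements.S0938
import Mathlib
import Groth.Agent.S2882

set_option autoImplicit false
universe u
open CategoryTheory
open Coh

namespace Groth.Agent.S0938

section
open CategoryTheory
open AlgebraicGeometry CategoryTheory.Limits

open Scheme.Modules Groth.Agent.S2882

variable {X : Scheme.{u}}

/-- global sections as a module over `Γ(X, ⊤)` -/
noncomputable def GammaR (X : Scheme.{u}) : X.Modules ⥤ ModuleCat.{u} (Γ(X, ⊤)) where
  obj M := ModuleCat.of Γ(X, ⊤) Γ(M, ⊤)
  map {M N} φ := ModuleCat.ofHom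
    { toFun := fun s => φ.app ⊤ s
      map_add' := fun a b => map_add _ a b
      map_smul' := fun r a => Hom.app_smul φ r a }
  map_id M := rfl
  map_comp f g := rfl

theorem GammaR_map_apply {M N : X.Modules} (φ : M ⟶ N) (s : Γ(M, ⊤)) :
    ((GammaR X).map φ).hom s = φ.app ⊤ s := rfl

/-- the section of `F` over all opens determined by a global section -/
noncomputable def topSection (F : X.Modules) (t : Γ(F, ⊤)) : F.sections :=
  PresheafOfModules.sectionsMk (fun U => F.presheaf.map (homOfLE (le_top : U.unop ≤ ⊤)).op t)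
    (by
      intro U V f
      show F.presheaf.map f (F.presheaf.map (homOfLE (le_top : U.unop ≤ ⊤)).op t) = _
      rw [← ConcreteCategory.comp_apply, ← Functor.map_comp]
      rfl)

/-- the morphism from the structure sheaf determined by a global section -/
noncomputable def ofSection (F : X.Modules) (t : Γ(F, ⊤)) : Coh.structureModule X ⟶ F :=
  F.unitHomEquiv.symm (topSection F t)

theorem ofSection_app (F : X.Modules) (t : Γ(F, ⊤)) :
    (ofSection F t).app ⊤ (1 : Γ(X, ⊤)) = t := by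
  have h1 := SheafOfModules.unitHomEquiv_apply_coe F (ofSection F t) (Opposite.op ⊤)
  rw [ofSection, Equiv.apply_symm_apply] at h1
  have h2 : (topSection F t).val (Opposite.op ⊤) = t := by
    show F.presheaf.map (homOfLE (le_top : (⊤ : X.Opens) ≤ ⊤)).op t = t
    have : (homOfLE (le_top : (⊤ : X.Opens) ≤ ⊤)).op = 𝟙 _ := rfl
    rw [this, F.presheaf.map_id]
    rfl
  rw [h2] at h1
  exact h1.symm

theorem hom_ext_unit (F : X.Modules) (θ θ' : Coh.structureModule X ⟶ F)
    (h : θ.app ⊤ (1 : Γ(X, ⊤)) = θ'.app ⊤ (1 : Γ(X, ⊤))) : θ = θ' := by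
  apply F.unitHomEquiv.injective
  apply PresheafOfModules.sections_ext
  intro U
  rw [SheafOfModules.unitHomEquiv_apply_coe, SheafOfModules.unitHomEquiv_apply_coe]
  have e1 : ∀ ψ : Coh.structureModule X ⟶ F, ψ.val.app U (1 : X.ringCatSheaf.obj.obj U) =
      F.presheaf.map (homOfLE (le_top : U.unop ≤ ⊤)).op (ψ.app ⊤ (1 : Γ(X, ⊤))) := by
    intro ψ
    have := naturality_apply X ψ (le_top : U.unop ≤ ⊤) (1 : Γ(X, ⊤))
    rw [← this]
    show ψ.app U.unop _ = ψ.app U.unop _
    congr 1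
    exact (map_one (X.presheaf.map (homOfLE (le_top : U.unop ≤ ⊤)).op).hom).symm
  rw [e1 θ, e1 θ', h]

section free
variable (X) (n : ℕ)

/-- the basis sections of the free module -/
noncomputable def e (j : Fin n) : Γ(FlatMod.freeMod X n, ⊤) := (inj X n j).app ⊤ (1 : Γ(X, ⊤))

theorem inj_app_eq (j : Fin n) (r : Γ(X, ⊤)) :
    (inj X n j).app ⊤ (show Γ(Coh.structureModule X, ⊤) from r) = r • e X n j := by
  rw [e, ← Hom.app_smul]
  congr 1
  exact (mul_one r).symm

/-- coordinates of a section of the free module -/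
noncomputable def coord (j : Fin n) : Γ(FlatMod.freeMod X n, ⊤) →ₗ[Γ(X, ⊤)] Γ(X, ⊤) where
  toFun s := (prj X n j).app ⊤ s
  map_add' a b := map_add _ a b
  map_smul' r a := by
    show (prj X n j).app ⊤ (r • a) = r * _
    rw [Hom.app_smul]
    rfl

theorem gen (s : Γ(FlatMod.freeMod X n, ⊤)) :
    s = ∑ j : Fin n, coord X n j s • e X n j := by
  conv_lhs => rw [sum_inj_prj_apply X n ⊤ s]
  refine Finset.sum_congr rfl fun j _ => ?_
  exact inj_app_eq X n j _

theorem coord_e (j k : Fin n) :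
    coord X n k (e X n j) = if j = k then (1 : Γ(X, ⊤)) else 0 :=
  prj_inj_apply X n ⊤ k j (1 : Γ(X, ⊤))

variable {X n}

theorem free_hom_ext {F : X.Modules} (θ θ' : FlatMod.freeMod X n ⟶ F)
    (h : ∀ j, θ.app ⊤ (e X n j) = θ'.app ⊤ (e X n j)) : θ = θ' := by
  apply Sigma.hom_ext
  intro j
  apply hom_ext_unit
  exact h j

/-- morphisms from the free module with prescribed values on the basis sections -/
noncomputable def freeDesc {F : X.Modules} (t : Fin n → Γ(F, ⊤)) : FlatMod.freeMod X n ⟶ F :=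
  Sigma.desc (fun j => ofSection F (t j))

theorem freeDesc_e {F : X.Modules} (t : Fin n → Γ(F, ⊤)) (j : Fin n) :
    (freeDesc t).app ⊤ (e X n j) = t j := by
  have h1 : inj X n j ≫ freeDesc t = ofSection F (t j) := by
    simp [inj, freeDesc]
  have h2 := congrArg (fun φ => φ.app ⊤ (1 : Γ(X, ⊤))) h1
  simp only [Hom.comp_app] at h2
  rw [ofSection_app] at h2
  exact h2

theorem free_full {F : X.Modules} (g : Γ(FlatMod.freeMod X n, ⊤) →ₗ[Γ(X, ⊤)] Γ(F, ⊤)) :
    ∃ θ : FlatMod.freeMod X n ⟶ F, ∀ s, θ.app ⊤ s = g s := by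
  refine ⟨freeDesc (fun j => g (e X n j)), fun s => ?_⟩
  conv_lhs => rw [gen X n s]
  conv_rhs => rw [gen X n s]
  rw [map_sum, map_sum]
  refine Finset.sum_congr rfl fun j _ => ?_
  rw [Hom.app_smul, freeDesc_e, _root_.map_smul]

variable (X n)

/-- global sections of the free module -/
noncomputable def freeSectionsEquiv : Γ(FlatMod.freeMod X n, ⊤) ≃ₗ[Γ(X, ⊤)] (Fin n → Γ(X, ⊤)) where
  toFun s := fun j => coord X n j s
  map_add' a b := by funext j; exact map_add _ a b
  map_smul' r a := by funext j; exact _root_.map_smul (coord X n j) r a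
  invFun c := ∑ j : Fin n, c j • e X n j
  left_inv s := (gen X n s).symm
  right_inv c := by
    funext k
    show coord X n k (∑ j : Fin n, c j • e X n j) = c k
    rw [map_sum]
    have : ∀ j : Fin n, coord X n k (c j • e X n j) = if j = k then c j else 0 := by
      intro j
      rw [_root_.map_smul, coord_e]
      by_cases hjk : j = k
      · rw [if_pos hjk, if_pos hjk, smul_eq_mul, mul_one]
      · rw [if_neg hjk, if_neg hjk, smul_zero]
    simp only [this]
    rw [Finset.sum_ite_eq' Finset.univ k]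
    simp

end free

section retract
variable {M : X.Modules} {n : ℕ} (i : M ⟶ FlatMod.freeMod X n) (r : FlatMod.freeMod X n ⟶ M)
  (hir : i ≫ r = 𝟙 M)

include hir in
theorem retract_faithful {F : X.Modules} (φ ψ : M ⟶ F)
    (h : (GammaR X).map φ = (GammaR X).map ψ) : φ = ψ := by
  have h1 : r ≫ φ = r ≫ ψ := by
    apply free_hom_ext
    intro j
    have := congrArg (fun g => g.hom (r.app ⊤ (e X n j))) h
    exact this
  calc φ = (i ≫ r) ≫ φ := by rw [hir, Category.id_comp]
    _ = (i ≫ r) ≫ ψ := by rw [Category.assoc, h1, ← Category.assoc]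
    _ = ψ := by rw [hir, Category.id_comp]

include hir in
theorem retract_full {F : X.Modules} (g : (GammaR X).obj M ⟶ (GammaR X).obj F) :
    ∃ φ : M ⟶ F, (GammaR X).map φ = g := by
  obtain ⟨θ, hθ⟩ := free_full (g.hom ∘ₗ ((GammaR X).map r).hom)
  refine ⟨i ≫ θ, ?_⟩
  ext s
  show θ.app ⊤ (i.app ⊤ s) = g.hom s
  rw [hθ]
  show g.hom (r.app ⊤ (i.app ⊤ s)) = g.hom s
  congr 1
  have := congrArg (fun φ => φ.app ⊤ s) hir
  exact this

include hir in
theorem retract_finite_projective :
    Module.Finite Γ(X, ⊤) ((GammaR X).obj M) ∧ Module.Projective Γ(X, ⊤) ((GammaR X).obj M) := by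
  haveI : Module.Finite Γ(X, ⊤) ((GammaR X).obj (FlatMod.freeMod X n)) :=
    Module.Finite.equiv (freeSectionsEquiv X n).symm
  haveI : Module.Projective Γ(X, ⊤) ((GammaR X).obj (FlatMod.freeMod X n)) :=
    Module.Projective.of_equiv (freeSectionsEquiv X n).symm
  have hcomp : ((GammaR X).map r).hom ∘ₗ ((GammaR X).map i).hom = LinearMap.id := by
    ext s
    have := congrArg (fun φ => φ.app ⊤ s) hir
    exact this
  constructor
  · refine Module.Finite.of_surjective ((GammaR X).map r).hom fun s => ⟨i.app ⊤ s, ?_⟩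
    exact LinearMap.congr_fun hcomp s
  · exact Module.Projective.of_split ((GammaR X).map i).hom ((GammaR X).map r).hom hcomp

end retract

theorem ess_surj (N : ModuleCat.{u} (Γ(X, ⊤))) [Module.Finite Γ(X, ⊤) N]
    [Module.Projective Γ(X, ⊤) N] :
    ∃ (M : X.Modules) (n : ℕ) (i : M ⟶ FlatMod.freeMod X n) (r : FlatMod.freeMod X n ⟶ M),
      i ≫ r = 𝟙 M ∧ Nonempty ((GammaR X).obj M ≅ N) := by
  obtain ⟨n, f, g, -, -, hfg⟩ := Module.Finite.exists_comp_eq_id_of_projective Γ(X, ⊤) N
  let ε := freeSectionsEquiv X n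
  let p : Γ(FlatMod.freeMod X n, ⊤) →ₗ[Γ(X, ⊤)] Γ(FlatMod.freeMod X n, ⊤) :=
    ε.symm.toLinearMap ∘ₗ g ∘ₗ f ∘ₗ ε.toLinearMap
  have hfg' : ∀ y, f (g y) = y := fun y => LinearMap.congr_fun hfg y
  have hpp : ∀ s, p (p s) = p s := by
    intro s
    show ε.symm (g (f (ε (ε.symm (g (f (ε s))))))) = ε.symm (g (f (ε s)))
    rw [LinearEquiv.apply_symm_apply, hfg']
  obtain ⟨θ, hθ⟩ := free_full p
  have hθθ : θ ≫ θ = θ := by
    apply free_hom_ext
    intro j
    show θ.app ⊤ (θ.app ⊤ (e X n j)) = θ.app ⊤ (e X n j)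
    rw [hθ, hθ, hpp]
  obtain ⟨M, iM, rM, h1, h2⟩ := IsIdempotentComplete.idempotents_split (FlatMod.freeMod X n) θ hθθ
  refine ⟨M, n, iM, rM, h1, ⟨?_⟩⟩
  have hrm : ∀ s : Γ(FlatMod.freeMod X n, ⊤), iM.app ⊤ (rM.app ⊤ s) = p s := by
    intro s
    have := congrArg (fun φ => φ.app ⊤ s) h2
    simp only [Hom.comp_app] at this
    rw [← hθ]
    exact this
  have hmr : ∀ s : Γ(M, ⊤), rM.app ⊤ (iM.app ⊤ s) = s := by
    intro s
    have := congrArg (fun φ => φ.app ⊤ s) h1
    exact this
  let fwd : (GammaR X).obj M →ₗ[Γ(X, ⊤)] N :=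
    f ∘ₗ ε.toLinearMap ∘ₗ ((GammaR X).map iM).hom
  let bwd : N →ₗ[Γ(X, ⊤)] (GammaR X).obj M :=
    ((GammaR X).map rM).hom ∘ₗ ε.symm.toLinearMap ∘ₗ g
  refine (LinearEquiv.ofLinear fwd bwd ?_ ?_).toModuleIso
  · ext y
    show f (ε (iM.app ⊤ (rM.app ⊤ (ε.symm (g y))))) = y
    rw [hrm]
    show f (ε (ε.symm (g (f (ε (ε.symm (g y))))))) = y
    rw [LinearEquiv.apply_symm_apply, LinearEquiv.apply_symm_apply, hfg', hfg']
  · ext s
    show rM.app ⊤ (ε.symm (g (f (ε (iM.app ⊤ s))))) = s
    have h3 : ε.symm (g (f (ε (iM.app ⊤ s)))) = p (iM.app ⊤ s) := rfl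
    rw [h3, ← hrm, hmr, hmr]

section equiv
variable (X)

abbrev PA : ObjectProperty X.Modules := fun M : X.Modules =>
  ∃ (n : ℕ) (i : M ⟶ FlatMod.freeMod X n) (r : FlatMod.freeMod X n ⟶ M), i ≫ r = 𝟙 M

abbrev PB : ObjectProperty (ModuleCat.{u} (Γ(X, ⊤))) := fun N : ModuleCat.{u} (Γ(X, ⊤)) =>
  Module.Finite (Γ(X, ⊤)) N ∧ Module.Projective (Γ(X, ⊤)) N

noncomputable def Phi : (PA X).FullSubcategory ⥤ (PB X).FullSubcategory :=
  (PB X).lift ((PA X).ι ⋙ GammaR X) (fun A => by
    obtain ⟨n, i, r, hir⟩ := A.2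
    exact retract_finite_projective i r hir)

instance : (Phi X).Faithful where
  map_injective {A B} φ ψ h := by
    obtain ⟨n, i, r, hir⟩ := A.2
    apply ObjectProperty.hom_ext
    apply retract_faithful i r hir
    exact congrArg (fun t => t.hom) h

instance : (Phi X).Full where
  map_surjective {A B} g := by
    obtain ⟨n, i, r, hir⟩ := A.2
    obtain ⟨φ, hφ⟩ := retract_full i r hir (F := B.obj) g.hom
    refine ⟨ObjectProperty.homMk φ, ?_⟩
    apply ObjectProperty.hom_ext
    exact hφ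

instance : (Phi X).EssSurj where
  mem_essImage N := by
    haveI := N.2.1
    haveI := N.2.2
    obtain ⟨M, n, i, r, hir, ⟨e⟩⟩ := ess_surj (X := X) N.obj
    exact ⟨⟨M, n, i, r, hir⟩, ⟨ObjectProperty.isoMk _ e⟩⟩

end equiv

theorem main {X : Scheme.{u}} :
    Nonempty ((ObjectProperty.FullSubcategory fun M : X.Modules =>
        ∃ (n : ℕ) (i : M ⟶ FlatMod.freeMod X n) (r : FlatMod.freeMod X n ⟶ M), i ≫ r = 𝟙 M) ≌
      (ObjectProperty.FullSubcategory fun N : ModuleCat.{u} (Γ(X, ⊤)) =>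
        Module.Finite (Γ(X, ⊤)) N ∧ Module.Projective (Γ(X, ⊤)) N)) := by
  haveI : (Phi X).IsEquivalence := { }
  exact ⟨(Phi X).asEquivalence⟩


end


open AlgebraicGeometry CategoryTheory.Limits in
/-- For a scheme X with R = Γ(X, O_X), the full subcategory of O_X-modules which are retracts of a
finite free O_X-module is equivalent to the full subcategory of R-modules which are finite and
projective (existence of an equivalence of categories). The published statement is for ringed
spaces; stated here for schemes. -/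
theorem result {X : Scheme.{u}} :
    Nonempty ((ObjectProperty.FullSubcategory fun M : X.Modules =>
        ∃ (n : ℕ) (i : M ⟶ FlatMod.freeMod X n) (r : FlatMod.freeMod X n ⟶ M), i ≫ r = 𝟙 M) ≌
      (ObjectProperty.FullSubcategory fun N : ModuleCat.{u} (Γ(X, ⊤)) =>
        Module.Finite (Γ(X, ⊤)) N ∧ Module.Projective (Γ(X, ⊤)) N)) := by
  classical
  exact main

end Groth.Agent.S0938
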