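import Groth.Statements.S0249
import Mathlib
import Mathlib.RingTheory.Ideal.KrullsHeightTheorem

set_option autoImplicit false
universe u
open Pi1

namespace Groth.Agent.S0249

open AlgebraicGeometry CategoryTheory CategoryTheory.Limits in
/-- Let A be a Noetherian local ring of dimension at least 1 and f an element of its maximal ideal. Then
some prime ideal of height exactly 1 contains f. -/
theorem result (A : Type u) [CommRing A] [IsNoetherianRing A] [IsLocalRing A]
    (h : (1 : WithBot ℕ∞) ≤ ringKrullDim A) (f : A) (hf : f ∈ IsLocalRing.maximalIdeal A) :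
    ∃ p : Ideal A, p.IsPrime ∧ f ∈ p ∧ p.height = 1 := by
  have key : ∀ n : ℕ, ∀ P : Ideal A, P.IsPrime → f ∈ P → 1 ≤ P.height → P.height = n →
      ∃ p : Ideal A, p.IsPrime ∧ f ∈ p ∧ p.height = 1 := by
    intro n
    induction n using Nat.strong_induction_on with
    | _ n ih =>
      intro P hP hfP h1 hn
      by_cases h2 : P.height ≤ 1
      · exact ⟨P, hP, hfP, le_antisymm h2 h1⟩
      · have h2' := h2
        rw [show (1 : ℕ∞) = ((1 : ℕ) : ℕ∞) from rfl, Ideal.height_le_iff] at h2'
        push Not at h2'
        obtain ⟨q1, hq1, hq1P, hq1h⟩ := h2'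
        have hq1h' : ¬ q1.height ≤ ((0 : ℕ) : ℕ∞) := by
          intro h0
          exact absurd (lt_of_le_of_lt h0 (by norm_num)) (not_lt.mpr hq1h)
        rw [Ideal.height_le_iff] at hq1h'
        push Not at hq1h'
        obtain ⟨q0, hq0, hq0q1, -⟩ := hq1h'
        have hlt : ∀ Q : Ideal A, Q.IsPrime → Q < P → ∃ m : ℕ, m < n ∧ Q.height = m := by
          intro Q hQ hQP
          have := Ideal.height_strict_mono_of_isPrime_of_isPrime hQP
          rw [hn] at this
          obtain ⟨m, hm⟩ := ENat.ne_top_iff_exists.mp (ne_top_of_lt this)
          exact ⟨m, by rw [← hm] at this; exact_mod_cast this, hm.symm⟩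
        by_cases hfq1 : f ∈ q1
        · obtain ⟨m, hmn, hm⟩ := hlt q1 hq1 hq1P
          exact ih m hmn q1 hq1 hfq1 (by exact_mod_cast hq1h) hm
        · have hIP : q0 ⊔ Ideal.span {f} ≤ P :=
            sup_le (hq0q1.le.trans hq1P.le) ((Ideal.span_singleton_le_iff_mem _).mpr hfP)
          obtain ⟨P', hP'min, hP'P⟩ := Ideal.exists_minimalPrimes_le hIP
          have hP' : P'.IsPrime := hP'min.isPrime
          have hfP' : f ∈ P' := hP'min.1.2 (le_sup_right (a := q0) (Ideal.mem_span_singleton_self f))
          have hq0P' : q0 < P' := by
            refine lt_of_le_of_ne (le_sup_left.trans hP'min.1.2) ?_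
            rintro rfl
            exact hfq1 (hq0q1.le hfP')
          have h1P' : 1 ≤ P'.height := by
            have := Ideal.height_add_one_le_of_lt_of_isPrime hq0P'
            exact le_trans (by simp) this
          have hne : P' ≠ P := by
            rintro rfl
            have hle := Ideal.map_height_le_one_of_mem_minimalPrimes hP'min
            -- chain in quotient
            let π := Ideal.Quotient.mk q0
            have hπ : Function.Surjective π := Ideal.Quotient.mk_surjective
            have hcm : ∀ I : Ideal A, q0 ≤ I → (I.map π).comap π = I := by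
              intro I hI
              rw [Ideal.comap_map_of_surjective _ hπ, ← RingHom.ker_eq_comap_bot, Ideal.mk_ker]
              exact sup_eq_left.mpr hI
            have hpr : ∀ I : Ideal A, I.IsPrime → q0 ≤ I → (I.map π).IsPrime := by
              intro I hI hqI
              exact Ideal.map_isPrime_of_surjective hπ (by rw [Ideal.mk_ker]; exact hqI)
            have hlt' : ∀ I J : Ideal A, q0 ≤ I → I < J → I.map π < J.map π := by
              intro I J hI hIJ
              refine lt_of_le_of_ne (Ideal.map_mono hIJ.le) ?_
              intro heq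
              have := congrArg (Ideal.comap π) heq
              rw [hcm I hI, hcm J (hI.trans hIJ.le)] at this
              exact hIJ.ne this
            have i0 := hpr q0 hq0 le_rfl
            have i1 := hpr q1 hq1 hq0q1.le
            have i2 := hpr P' hP' hq0P'.le
            have e1 := Ideal.height_add_one_le_of_lt_of_isPrime (hlt' q0 q1 le_rfl hq0q1)
            have e2 := Ideal.height_add_one_le_of_lt_of_isPrime (hlt' q1 P' hq0q1.le hq1P)
            have e3 : (1 : ℕ∞) + 1 ≤ (P'.map π).height :=
              le_trans (add_le_add (le_trans (by simp) e1) le_rfl) e2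
            have e4 := le_trans e3 hle
            norm_num at e4
          obtain ⟨m, hmn, hm⟩ := hlt P' hP' (lt_of_le_of_ne hP'P hne)
          exact ih m hmn P' hP' hfP' h1P' hm
  have hm : (IsLocalRing.maximalIdeal A).height ≠ ⊤ := Ideal.height_ne_top_of_isPrime
  obtain ⟨n, hn⟩ := ENat.ne_top_iff_exists.mp hm
  refine key n _ inferInstance hf ?_ hn.symm
  have := IsLocalRing.maximalIdeal_height_eq_ringKrullDim (R := A)
  rw [← this] at h
  exact_mod_cast h

end Groth.Agent.S0249
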