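import Groth.Statements.S0421
import Groth.Agent.Lib.Helper6.DVRFib.Sch

set_option autoImplicit false
universe u
open FlatMor

namespace Groth.Agent.S0421

open AlgebraicGeometry CategoryTheory Limits in
/-- For a flat morphism from a connected scheme to the spectrum of a discrete valuation ring with
reduced closed fibre, the generic fibre is connected. -/
theorem result {R : Type u} [CommRing R] [IsDomain R] [IsDiscreteValuationRing R] {X : Scheme.{u}}
    (f : X ⟶ Spec (CommRingCat.of R)) [Flat f] [ConnectedSpace ↑X]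
    (hred : IsReduced (f.fiber (IsLocalRing.closedPoint R))) :
    ConnectedSpace ↑(f.fiber (⟨⊥, Ideal.isPrime_bot⟩ : PrimeSpectrum R)) := by
  classical
  obtain ⟨π, hπ⟩ := IsDiscreteValuationRing.exists_irreducible R
  -- the generic fibre as a subset
  have hsingle : ({(⟨⊥, Ideal.isPrime_bot⟩ : PrimeSpectrum R)} : Set (PrimeSpectrum R)) =
      (PrimeSpectrum.basicOpen π : Set (PrimeSpectrum R)) := by
    ext p
    simp only [Set.mem_singleton_iff, SetLike.mem_coe, PrimeSpectrum.mem_basicOpen]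
    rw [PrimeSpectrum.ext_iff]
    exact Groth.Agent.Lib.Helper6.DVRFib.dvr_prime_eq_bot_iff π hπ p.asIdeal
  have hopen0 : IsOpen ({(⟨⊥, Ideal.isPrime_bot⟩ : PrimeSpectrum R)} : Set (PrimeSpectrum R)) := by
    rw [hsingle]
    exact (PrimeSpectrum.basicOpen π).2
  have hGopen : IsOpen (f ⁻¹' {(⟨⊥, Ideal.isPrime_bot⟩ : PrimeSpectrum R)}) :=
    IsOpen.preimage f.continuous hopen0
  have hgen := Flat.generalizingMap f
  have hlift : ∀ x : X, ∃ x' : X, x' ⤳ x ∧
      x' ∈ f ⁻¹' {(⟨⊥, Ideal.isPrime_bot⟩ : PrimeSpectrum R)} := by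
    intro x
    have hspec : (⟨⊥, Ideal.isPrime_bot⟩ : PrimeSpectrum R) ⤳ f x :=
      (PrimeSpectrum.le_iff_specializes _ _).mp bot_le
    obtain ⟨x', hx', hfx'⟩ := hgen hspec
    exact ⟨x', hx', hfx'⟩
  have hGdense : Dense (f ⁻¹' {(⟨⊥, Ideal.isPrime_bot⟩ : PrimeSpectrum R)}) := by
    intro x
    obtain ⟨x', hx', hx'G⟩ := hlift x
    exact closure_mono (Set.singleton_subset_iff.mpr hx'G) (specializes_iff_mem_closure.mp hx')
  have hpre : _root_.IsPreconnected (f ⁻¹' {(⟨⊥, Ideal.isPrime_bot⟩ : PrimeSpectrum R)}) :=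
    Groth.Agent.Lib.Helper6.DVRFib.isPreconnected_of_disjoint_closure _ hGopen hGdense
      (fun u v hu hv huv hcov =>
        Groth.Agent.Lib.Helper6.DVRFib.disjoint_closure_generic f hred u v hu hv huv hcov)
  have hne : (f ⁻¹' {(⟨⊥, Ideal.isPrime_bot⟩ : PrimeSpectrum R)}).Nonempty := by
    obtain ⟨x⟩ := (inferInstance : Nonempty X)
    obtain ⟨x', -, hx'G⟩ := hlift x
    exact ⟨x', hx'G⟩
  have hconn : ConnectedSpace (f ⁻¹' {(⟨⊥, Ideal.isPrime_bot⟩ : PrimeSpectrum R)}) :=
    isConnected_iff_connectedSpace.mp ⟨hne, hpre⟩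
  exact (f.fiberHomeo _).symm.surjective.connectedSpace (f.fiberHomeo _).symm.continuous

end Groth.Agent.S0421
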