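import Groth.Statements.S1538
import Mathlib
import Groth.Agent.S1559

set_option autoImplicit false
universe u
open CategoryTheory CategoryTheory.Limits AlgebraicGeometry
open Variety

namespace Groth.Agent.S1538

section
open CategoryTheory CategoryTheory.Limits AlgebraicGeometry

theorem main (k : Type u) [Field k] (X : Scheme.{u}) [X.Over (Spec (CommRingCat.of k))]
    [IrreducibleSpace (Curv2.bc k X (SeparableClosure k))] :
    GeometricallyIrreducible (X ↘ (Spec (CommRingCat.of k))) := Groth.Agent.S1559.main_irr k X


end


/-- A scheme X over a field k is geometrically irreducible as soon as its base change to a separable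
algebraic closure of k is irreducible. -/
theorem result (k : Type u) [Field k] (X : Scheme.{u}) [X.Over (Spec (CommRingCat.of k))]
    [IrreducibleSpace (Curv2.bc k X (SeparableClosure k))] :
    GeometricallyIrreducible (X ↘ (Spec (CommRingCat.of k))) := by
  classical
  exact main k X

end Groth.Agent.S1538
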