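import Groth.Statements.S2156
import Groth.Agent.Lib.Helper6.EtLoc.SmoothFiber

set_option autoImplicit false
universe u
open CategoryTheory AlgebraicGeometry
open Mor Groth.Agent.Lib.Helper6.EtLoc CategoryTheory.Limits

namespace Groth.Agent.S2156

/-- Let `f : X → S` be locally of finite presentation and `x ∈ X` with image `s`. Then `f` is smooth at
`x` if and only if `O_{S,s} → O_{X,x}` is flat and the fibre `X_s → Spec κ(s)` is smooth at the
point corresponding to `x`. -/
theorem result {X S : Scheme.{u}} (f : X ⟶ S) [LocallyOfFinitePresentation f] (x : X)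
    [LocallyOfFinitePresentation (f.fiberToSpecResidueField (f.base x))] :
    x ∈ f.smoothLocus ↔
      (f.stalkMap x).hom.Flat ∧ f.asFiber x ∈ (f.fiberToSpecResidueField (f.base x)).smoothLocus := by
  constructor
  · intro hx
    refine ⟨flat_stalkMap_of_mem_smoothLocus f x hx, ?_⟩
    apply mem_smoothLocus_snd f (S.fromSpecResidueField (f.base x)) (f.asFiber x)
    have e : pullback.fst f (S.fromSpecResidueField (f.base x)) (f.asFiber x) = x :=
      f.fiberι_asFiber x
    rw [e]; exact hx
  · rintro ⟨hflat, hfib⟩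
    -- an open `V₀` of `X` cutting out the smooth locus of the fibre
    have hemb := (f.fiberι (f.base x)).isEmbedding
    obtain ⟨V₀, hV₀o, hV₀⟩ := hemb.isInducing.isOpen_iff.mp
      (f.fiberToSpecResidueField (f.base x)).smoothLocus.2
    have hxV₀ : x ∈ V₀ := by
      have : f.asFiber x ∈ (f.fiberι (f.base x)) ⁻¹' V₀ := by rw [hV₀]; exact hfib
      rwa [Set.mem_preimage, f.fiberι_asFiber] at this
    obtain ⟨_, ⟨U, hU, rfl⟩, hxU, -⟩ :=
      S.isBasis_affineOpens.exists_subset_of_mem_open (Set.mem_univ (f x)) isOpen_univ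
    obtain ⟨_, ⟨V, hV, rfl⟩, hxV, hVU'⟩ :=
      X.isBasis_affineOpens.exists_subset_of_mem_open
        (show x ∈ (f ⁻¹ᵁ U : Set X) ∩ V₀ from ⟨hxU, hxV₀⟩)
        ((U.2.preimage f.continuous).inter hV₀o)
    have hVU : V ≤ f ⁻¹ᵁ U := fun y hy => (hVU' hy).1
    have hVV₀ : (V : Set X) ⊆ V₀ := fun y hy => (hVU' hy).2
    have hfp := f.finitePresentation_appLE hU hV hVU
    rw [Scheme.Hom.mem_smoothLocus, formallySmooth_stalkMap_iff U hU V hV hVU hxV]
    algebraize [(f.appLE U V hVU).hom]
    let u : PrimeSpectrum Γ(S, U) := hU.primeIdealOf ⟨f x, hVU hxV⟩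
    let p := u.asIdeal
    let q := (hV.primeIdealOf ⟨x, hxV⟩).asIdeal
    have hlo : q.LiesOver p :=
      ⟨congr($(IsAffineOpen.comap_primeIdealOf_appLE U hU V hV hVU hxV).1).symm⟩
    -- fibre smoothness
    have hoV : IsOpenImmersion hV.fromSpec := hV.isOpenImmersion_fromSpec
    have hoU : IsOpenImmersion hU.fromSpec := hU.isOpenImmersion_fromSpec
    have hri : MorphismProperty.RespectsIso @Smooth :=
      MorphismProperty.IsStableUnderBaseChange.respectsIso
    have hsm : Smooth ((Spec.map (f.appLE U V hVU)).fiberToSpecResidueField u) := by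
      refine smooth_fiberToSpec_of_chart f hV.fromSpec hU.fromSpec _
        (IsAffineOpen.SpecMap_appLE_fromSpec f hU hV hVU) u (f.base x)
        (hU.fromSpec_primeIdealOf ⟨f x, hVU hxV⟩) ?_
      rintro z ⟨t, ht⟩
      have : z ∈ (f.fiberι (f.base x)) ⁻¹' V₀ := by
        rw [Set.mem_preimage, ← ht]
        apply hVV₀
        rw [← hV.range_fromSpec]
        exact ⟨t, rfl⟩
      rw [hV₀] at this
      exact this
    have hsm2 : Smooth (Spec.map (CommRingCat.ofHom
        (algebraMap p.ResidueField (p.Fiber Γ(X, V))))) :=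
      ((MorphismProperty.arrow_mk_iso_iff @Smooth
        (Spec.fiberToSpecResidueFieldIso Γ(S, U) Γ(X, V) u)).mp hsm)
    have hsm3 : Algebra.Smooth p.ResidueField (p.Fiber Γ(X, V)) :=
      RingHom.smooth_algebraMap.mp (HasRingHomProperty.Spec_iff.mp hsm2)
    have hfl : letI := Localization.AtPrime.algebraOfLiesOver p q
        Module.Flat (Localization.AtPrime p) (Localization.AtPrime q) :=
      (RingHom.Flat.respectsIso.arrow_mk_iso_iff
        (IsAffineOpen.arrowStalkMapIso f U hU V hV hVU hxV)).mp hflat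
    exact isSmoothAt_of_flat_of_fiber p q hfl

end Groth.Agent.S2156
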