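import Groth.Statements.S9716
import Mathlib
import Groth.Agent.Lib.Lead.FLF4
import Groth.Agent.Lib.Helper1.PushQc

set_option autoImplicit false
universe u
open CategoryTheory AlgebraicGeometry
open Mor

namespace Groth.Agent.S9716

section
open CategoryTheory AlgebraicGeometry

open Groth.Agent.Lead.FLF Groth.Agent.Helper1

variable {X S : Scheme.{u}} (f : X ⟶ S)

/-- for an affine morphism, a ring-hom-property can be checked on `f.app U` for affine `U` -/
lemma iff_app {P : MorphismProperty Scheme.{u}}
    {Q : ∀ {R S : Type u} [CommRing R] [CommRing S], (R →+* S) → Prop}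
    [HasRingHomProperty P Q] [IsAffineHom f] :
    P f ↔ ∀ U : S.Opens, IsAffineOpen U → Q (f.app U).hom := by
  have hQ : RingHom.RespectsIso Q := (HasRingHomProperty.isLocal_ringHomProperty P).respectsIso
  constructor
  · intro H U hU
    have := HasRingHomProperty.appLE P f H ⟨U, hU⟩ ⟨f ⁻¹ᵁ U, hU.preimage f⟩ le_rfl
    rwa [← Scheme.Hom.app_eq_appLE] at this
  · intro H
    rw [IsZariskiLocalAtTarget.iff_of_iSup_eq_top (P := P) (fun U : S.affineOpens => U.1)
      (iSup_affineOpens_eq_top S)]
    intro U
    haveI : IsAffine (U.1 : Scheme) := U.2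
    haveI : IsAffine ((f ⁻¹ᵁ U.1 : X.Opens) : Scheme) := U.2.preimage f
    rw [HasRingHomProperty.iff_of_isAffine (P := P), morphismRestrict_appTop]
    have hU' : IsAffineOpen (U.1.ι ''ᵁ ⊤) := by
      have : U.1.ι ''ᵁ ⊤ = U.1 := by simp
      rw [this]; exact U.2
    have := H _ hU'
    exact (hQ.cancel_right_isIso (f.app (U.1.ι ''ᵁ ⊤))
      (X.presheaf.map (eqToHom (image_morphismRestrict_preimage f U.1 ⊤)).op)).2 this


open Scheme.Modules in
lemma push_smul (V : S.Opens) (r : Γ(S, V))
    (x : Γ((Scheme.Modules.pushforward f).obj (Coh.structureModule X), V)) :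
    r • x = (show Γ(X, f ⁻¹ᵁ V) from (f.app V).hom r * (show Γ(X, f ⁻¹ᵁ V) from x)) := by
  rfl


lemma isQuasicoherent_structureModule (Y : Scheme.{u}) : (Coh.structureModule Y).IsQuasicoherent := by
  have h1 : SheafOfModules.IsQuasicoherent.{u, u, u}
      (SheafOfModules.free (R := Y.ringCatSheaf) PUnit.{u + 1}) := inferInstance
  let e : (∐ fun _ : PUnit.{u + 1} => SheafOfModules.unit Y.ringCatSheaf) ≅
      SheafOfModules.unit Y.ringCatSheaf := Limits.coproductUniqueIso _
  exact (SheafOfModules.isQuasicoherent Y.ringCatSheaf).prop_of_iso e h1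

/-- the sections of `f_* O_X` over `V`, as a `Γ(S,V)`-module, are `Γ(X, f⁻¹V)` with its algebra module structure -/
noncomputable def pushEquiv (V : S.Opens) :
    letI := (f.app V).hom.toAlgebra
    Γ((Scheme.Modules.pushforward f).obj (Coh.structureModule X), V) ≃ₗ[Γ(S, V)] Γ(X, f ⁻¹ᵁ V) :=
  letI := (f.app V).hom.toAlgebra
  { toFun := fun x => x
    invFun := fun x => x
    map_add' := fun _ _ => rfl
    map_smul' := fun _ _ => rfl
    left_inv := fun _ => rfl
    right_inv := fun _ => rfl }


theorem main : (IsAffineHom f ∧ FlatMod.IsFinLocFree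
      ((Scheme.Modules.pushforward f).obj (Coh.structureModule X))) ↔ Mor2.IsFinLocFree f := by
  constructor
  · rintro ⟨hf, h⟩
    haveI := hf
    haveI := isQuasicoherent_structureModule X
    haveI : ((Scheme.Modules.pushforward f).obj (Coh.structureModule X)).IsQuasicoherent :=
      PushQc.isQuasicoherent_pushforward f _
    rw [isFinLocFree_iff_affineOpens] at h
    have key : ∀ U : S.Opens, IsAffineOpen U →
        letI := (f.app U).hom.toAlgebra
        Module.Finite Γ(S, U) Γ(X, f ⁻¹ᵁ U) ∧ Module.Projective Γ(S, U) Γ(X, f ⁻¹ᵁ U) := by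
      intro U hU
      letI := (f.app U).hom.toAlgebra
      obtain ⟨h1, h2⟩ := h U hU
      exact ⟨Module.Finite.equiv (pushEquiv f U), Module.Projective.of_equiv (pushEquiv f U)⟩
    refine ⟨@IsFinite.mk _ _ f hf fun U hU => (key U hU).1, (iff_app f).2 fun U hU => ?_,
      (iff_app f).2 fun U hU => ?_⟩
    · letI := (f.app U).hom.toAlgebra
      obtain ⟨h1, h2⟩ := key U hU
      show Module.Flat Γ(S, U) Γ(X, f ⁻¹ᵁ U)
      infer_instance
    · letI := (f.app U).hom.toAlgebra
      obtain ⟨h1, h2⟩ := key U hU
      show Algebra.FinitePresentation Γ(S, U) Γ(X, f ⁻¹ᵁ U)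
      haveI : Module.FinitePresentation Γ(S, U) Γ(X, f ⁻¹ᵁ U) :=
        Module.finitePresentation_of_projective _ _
      infer_instance
  · rintro ⟨h1, h2, h3⟩
    haveI : IsAffineHom f := inferInstance
    refine ⟨inferInstance, ?_⟩
    haveI := isQuasicoherent_structureModule X
    haveI : ((Scheme.Modules.pushforward f).obj (Coh.structureModule X)).IsQuasicoherent :=
      PushQc.isQuasicoherent_pushforward f _
    rw [isFinLocFree_iff_affineOpens]
    intro U hU
    letI := (f.app U).hom.toAlgebra
    have a1 : Module.Finite Γ(S, U) Γ(X, f ⁻¹ᵁ U) := h1.finite_app U hU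
    have a2 : Module.Flat Γ(S, U) Γ(X, f ⁻¹ᵁ U) := (iff_app f).1 h2 U hU
    have a3 : Algebra.FinitePresentation Γ(S, U) Γ(X, f ⁻¹ᵁ U) := (iff_app f).1 h3 U hU
    haveI : Module.FinitePresentation Γ(S, U) Γ(X, f ⁻¹ᵁ U) :=
      Module.FinitePresentation.of_finite_of_finitePresentation _ _
    haveI : Module.Projective Γ(S, U) Γ(X, f ⁻¹ᵁ U) :=
      Module.Flat.projective_of_finitePresentation
    exact ⟨Module.Finite.equiv (pushEquiv f U).symm, Module.Projective.of_equiv (pushEquiv f U).symm⟩


end


/-- (1) ⇔ (2): a morphism f : X ⟶ S is affine with direct image f_*O_X a finite locally free O_S-module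
(locally on S isomorphic to a finite direct sum of copies of the structure sheaf, of possibly
varying rank) if and only if f is finite, flat and locally of finite presentation. -/
theorem result {X S : Scheme.{u}} (f : X ⟶ S) :
    (IsAffineHom f ∧ FlatMod.IsFinLocFree ((Scheme.Modules.pushforward f).obj (Coh.structureModule X))) ↔
      Mor2.IsFinLocFree f := by
  classical
  exact main f

end Groth.Agent.S9716
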