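import Groth.Statements.S16764
import Mathlib
import Groth.Agent.Lib.Lead.CritFib21

set_option autoImplicit false
universe u
open Unram17

namespace Groth.Agent.S16764

open AlgebraicGeometry CategoryTheory CategoryTheory.Limits in
/-- Let g : Y → S and h : X → S be locally of finite presentation, f : X → Y an S-morphism (f ≫ g = h),
and x a point of X with image s = h(x) such that h is flat at x. Then f is étale at x (étale on an
open neighbourhood of x) if and only if the induced morphism of fibres X_s → Y_s is étale at the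
point of X_s lying over x. -/
theorem result {X Y S : Scheme.{u}} (g : Y ⟶ S) (h : X ⟶ S)
    [LocallyOfFinitePresentation g] [LocallyOfFinitePresentation h] (f : X ⟶ Y) (w : f ≫ g = h)
    (x : ↥X) (hflat : (h.stalkMap x).hom.Flat)
    (x' : ↥(h.fiber (h x))) (hx' : (h.fiberι (h x)) x' = x) :
    (∃ U : X.Opens, x ∈ U ∧ Etale (U.ι ≫ f)) ↔
      ∃ V : (h.fiber (h x)).Opens, x' ∈ V ∧ Etale (V.ι ≫ CohIII.fiberMapOver f h g w (h x)) := by
  classical
  subst w
  haveI : LocallyOfFiniteType g := inferInstance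
  haveI := Groth.Agent.Lead.CritFib.locallyOfFinitePresentation_of_comp f g
  have sq := Groth.Agent.Lib.Helper6.EtLoc.isPullback_fiberMapOver g (f ≫ g) f rfl ((f ≫ g) x)
  constructor
  · rintro ⟨U, hxU, hU⟩
    refine ⟨((f ≫ g).fiberι ((f ≫ g) x)) ⁻¹ᵁ U, ?_, ?_⟩
    · show ((f ≫ g).fiberι ((f ≫ g) x)) x' ∈ U
      rw [hx']; exact hxU
    · exact MorphismProperty.of_isPullback (P := @Etale)
        ((isPullback_morphismRestrict ((f ≫ g).fiberι ((f ≫ g) x)) U).paste_vert sq) hU
  · rintro ⟨V, hxV, hV⟩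
    have hflat' := (Groth.Agent.Lead.CritFib.flat_stalkMap_iff_of_eq (f ≫ g) hx').mpr hflat
    have h1 : ((CohIII.fiberMapOver f (f ≫ g) g rfl ((f ≫ g) x)).stalkMap x').hom.Flat :=
      (Groth.Agent.Lib.Helper6.EtLoc.flat_stalkMap_comp_iff V.ι _ ⟨x', hxV⟩).mpr
        (Flat.stalkMap _ _)
    rw [Groth.Agent.Lead.CritFib.fiberMapOver_eq] at h1
    have h2 := ((Groth.Agent.Lead.CritFib.critere_fibre_point f g _ x').mp ⟨hflat', h1⟩).2
    have h3 := (Groth.Agent.Lead.CritFib.flat_stalkMap_iff_of_eq f hx').mp h2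
    obtain ⟨U₁, hU1, hU2⟩ :=
      Groth.Agent.Lib.Helper6.EtLoc.formallyUnramified_of_local_isPullback f
        (g.fiberι ((f ≫ g) x)) _ _ sq V inferInstance x' hxV
    exact Groth.Agent.Lead.CritFib.exists_etale_nhd_of_flat_of_unramified f x h3 U₁
      (hx' ▸ hU1) hU2

end Groth.Agent.S16764
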