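import Groth.Statements.S19692
import Mathlib
import Groth.Agent.Lib.Lead.FLF5
import Groth.Agent.S9716

set_option autoImplicit false
universe u
open CategoryTheory CategoryTheory.Limits AlgebraicGeometry Opposite
open FinCov

namespace Groth.Agent.S19692

section
open CategoryTheory CategoryTheory.Limits AlgebraicGeometry Opposite

open Groth.Agent.Lead.FLF

variable {X Y : Scheme.{u}} (f : X ⟶ Y)

lemma finrank_eq_of_free [Flat f] [IsFinite f] {V : Y.Opens} (hV : IsAffineOpen V) (y : Y)
    (hy : y ∈ V) (n : ℕ)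
    (e : ((Scheme.Modules.pushforward f).obj (Coh.structureModule X)).restrict V.ι ≅
      FlatMod.freeMod (↑V) n) : f.finrank y = n := by
  obtain ⟨z, hz⟩ : ∃ z : V, z.1 = y := ⟨⟨y, hy⟩, rfl⟩
  have h1 := finrank_fromSpec f hV (hV.primeIdealOf z)
  rw [hV.fromSpec_primeIdealOf z, hz] at h1
  rw [h1, RingHom.finrank]
  letI := (f.app V).hom.toAlgebra
  let E : Γ(X, f ⁻¹ᵁ V) ≃ₗ[Γ(Y, V)] (ULift.{u} (Fin n) →₀ Γ(Y, V)) :=
    (Groth.Agent.S9716.pushEquiv f V).symm ≪≫ₗ sectionsFreeEquiv hV _ n e
  haveI : Nontrivial Γ(Y, V) := (hV.primeIdealOf z).nontrivial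
  rw [Module.rankAtStalk_eq_of_equiv E, Module.rankAtStalk_eq_finrank_of_free]
  simp

theorem main (d : ℕ) : FinCov.IsCover f d ↔
      IsAffineHom f ∧ FlatMod.IsFinLocFreeOfRank d
        ((Scheme.Modules.pushforward f).obj (Coh.structureModule X)) := by
  constructor
  · rintro ⟨h, hd⟩
    obtain ⟨ha, hM⟩ := (Groth.Agent.S9716.result f).2 h
    obtain ⟨h1, h2, h3⟩ := h
    refine ⟨ha, fun y => ?_⟩
    obtain ⟨U, n, hyU, ⟨e⟩⟩ := hM y
    obtain ⟨V, hV, hyV, hVU, ⟨e'⟩⟩ := exists_affine_free _ y U hyU n e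
    have := finrank_eq_of_free f hV y hyV n e'
    rw [hd y] at this
    subst this
    exact ⟨U, hyU, ⟨e⟩⟩
  · rintro ⟨ha, hM⟩
    have hM' : FlatMod.IsFinLocFree
        ((Scheme.Modules.pushforward f).obj (Coh.structureModule X)) := fun y => by
      obtain ⟨U, hyU, he⟩ := hM y
      exact ⟨U, d, hyU, he⟩
    have h := (Groth.Agent.S9716.result f).1 ⟨ha, hM'⟩
    refine ⟨h, fun y => ?_⟩
    obtain ⟨h1, h2, h3⟩ := h
    obtain ⟨U, hyU, ⟨e⟩⟩ := hM y
    obtain ⟨V, hV, hyV, hVU, ⟨e'⟩⟩ := exists_affine_free _ y U hyU d e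
    exact finrank_eq_of_free f hV y hyV d e'


end


/-- A morphism of schemes f : X → Y is a cover of degree d — finite, flat, locally of finite
presentation and of rank d at every point of Y — if and only if f is affine and the direct image
f_*O_X is locally free of rank d as an O_Y-module, i.e. every point of Y has an open neighbourhood
over which f_*O_X is isomorphic to the direct sum of d copies of the structure sheaf. This is the
object-level content of the equivalence between degree-d covers of Y and O_Y-algebras locally free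
of rank d. -/
theorem result {X Y : Scheme.{u}} (f : X ⟶ Y) (d : ℕ) :
    FinCov.IsCover f d ↔
      IsAffineHom f ∧ FlatMod.IsFinLocFreeOfRank d ((Scheme.Modules.pushforward f).obj (Coh.structureModule X)) := by
  classical
  exact main f d

end Groth.Agent.S19692
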