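import Groth.Statements.S1894
import Mathlib
import Groth.Prelude.Def_Grpd
-- import your own Groth.Agent.* helpers here

set_option autoImplicit false
universe u
open CategoryTheory CategoryTheory.Limits AlgebraicGeometry
open Grpd

namespace Groth.Agent.S1894

open CategoryTheory CategoryTheory.Limits AlgebraicGeometry
namespace Aux

/-- For a quasi-compact morphism, a point in the closure of the image of a closed set is a
specialization of a point of the image. -/
lemma exists_specializes_of_mem_closure_image {X Y : Scheme.{u}} (f : X ⟶ Y) [QuasiCompact f]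
    {C : Set X} (hC : IsClosed C) {y : Y} (hy : y ∈ closure (f '' C)) : ∃ x ∈ C, f x ⤳ y := by
  obtain ⟨_, ⟨U, hU₀, rfl⟩, hyU, -⟩ :=
    Y.isBasis_affineOpens.exists_subset_of_mem_open (Set.mem_univ y) isOpen_univ
  have hU : IsAffineOpen U := hU₀
  obtain ⟨s, hs, hsU⟩ := isCompact_iff_finite_and_eq_biUnion_affineOpens.1
    (f.isCompact_preimage hU.isCompact)
  have hsU' : (f ⁻¹' (U : Set Y)) = ⋃ i ∈ s, ((i : X.Opens) : Set X) := by
    have := congrArg (fun W : X.Opens => (W : Set X)) hsU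
    simpa using this
  have h1 : y ∈ closure (f '' (C ∩ f ⁻¹' (U : Set Y))) := by
    have h2 : (U : Set Y) ∩ closure (f '' C) ⊆ closure ((U : Set Y) ∩ f '' C) :=
      U.2.inter_closure
    refine closure_mono ?_ (h2 ⟨hyU, hy⟩)
    rintro _ ⟨h3, x, hx, rfl⟩
    exact ⟨x, ⟨hx, h3⟩, rfl⟩
  have h2 : f '' (C ∩ f ⁻¹' (U : Set Y)) = ⋃ i ∈ s, f '' (C ∩ ((i : X.Opens) : Set X)) := by
    rw [hsU', Set.inter_iUnion₂, Set.image_iUnion₂]
  rw [h2, hs.closure_biUnion] at h1
  simp only [Set.mem_iUnion] at h1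
  obtain ⟨V, hVs, hyV⟩ := h1
  have hle : (V : X.Opens) ≤ f ⁻¹ᵁ U := by
    rw [hsU]
    exact le_iSup₂ (f := fun i (_ : i ∈ s) => (i : X.Opens)) V hVs
  have hV : IsAffineOpen (V : X.Opens) := V.2
  have hcomm := IsAffineOpen.SpecMap_appLE_fromSpec f hU hV hle
  set φ := f.appLE U V hle with hφ
  -- the closed subset of Spec Γ(X, V)
  set C' : Set (Spec Γ(X, (V : X.Opens))) := hV.fromSpec ⁻¹' C with hC'
  have hC'cl : IsClosed C' := hC.preimage hV.fromSpec.continuous
  obtain ⟨I, hI⟩ := (PrimeSpectrum.isClosed_iff_zeroLocus_ideal C').1 hC'cl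
  have himg : C ∩ ((V : X.Opens) : Set X) = hV.fromSpec '' C' := by
    rw [hC', Set.image_preimage_eq_inter_range, hV.range_fromSpec]
  have himg2 : f '' (C ∩ ((V : X.Opens) : Set X)) =
      hU.fromSpec '' ((Spec.map φ) '' C') := by
    rw [himg, ← Set.image_comp, ← Set.image_comp]
    have : (⇑f ∘ ⇑hV.fromSpec) = (⇑hU.fromSpec ∘ ⇑(Spec.map φ)) := by
      have := congrArg (fun g : Spec Γ(X, (V : X.Opens)) ⟶ Y => (⇑g : _ → _)) hcomm
      simp only [Scheme.Hom.comp_base, TopCat.hom_comp, ContinuousMap.coe_comp] at this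
      exact this.symm
    rw [this]
  obtain ⟨p, hp⟩ : ∃ p, hU.fromSpec p = y := by
    have : y ∈ Set.range hU.fromSpec := by rw [hU.range_fromSpec]; exact hyU
    exact this
  rw [himg2, ← hp] at hyV
  have hp2 : p ∈ closure ((Spec.map φ) '' C') := by
    rw [hU.fromSpec.isOpenEmbedding.isInducing.closure_eq_preimage_closure_image]
    exact hyV
  have hp3 : p ∈ PrimeSpectrum.zeroLocus ((I.comap φ.hom : Ideal _) : Set _) := by
    rw [← PrimeSpectrum.closure_image_comap_zeroLocus, ← hI]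
    exact hp2
  obtain ⟨P, hPp⟩ : ∃ P : PrimeSpectrum Γ(Y, U), P = p := ⟨p, rfl⟩
  have hle2 : I.comap φ.hom ≤ P.asIdeal := by
    rw [hPp]
    exact fun a ha => hp3 ha
  obtain ⟨Q, hQI, hQp, hQle⟩ := Ideal.exists_ideal_comap_le_prime P.asIdeal I hle2
  let q : Spec Γ(X, (V : X.Opens)) := ⟨Q, hQp⟩
  have hqC' : q ∈ C' := by
    rw [hI]
    exact fun a ha => hQI ha
  refine ⟨hV.fromSpec q, hqC', ?_⟩
  have e1 : f (hV.fromSpec q) = hU.fromSpec ((Spec.map φ) q) := by
    have := congrArg (fun g : Spec Γ(X, (V : X.Opens)) ⟶ Y => g q) hcomm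
    simpa using this.symm
  rw [e1, ← hp]
  apply Specializes.map _ hU.fromSpec.continuous
  rw [← hPp]
  exact (PrimeSpectrum.le_iff_specializes (PrimeSpectrum.comap φ.hom ⟨Q, hQp⟩) P).1 hQle

section groupoid

variable {S : Scheme.{u}} (G : Grpd.GroupoidScheme S)

lemma c_s : G.c ≫ G.s = pullback.snd G.s G.t ≫ G.s := by
  have := G.comp_s (pullback.fst G.s G.t) (pullback.snd G.s G.t) pullback.condition
  have e : pullback.lift (pullback.fst G.s G.t) (pullback.snd G.s G.t) pullback.condition =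
      𝟙 _ := by
    apply pullback.hom_ext <;> simp
  rw [e, Category.id_comp] at this
  exact this

lemma c_t : G.c ≫ G.t = pullback.fst G.s G.t ≫ G.t := by
  have := G.comp_t (pullback.fst G.s G.t) (pullback.snd G.s G.t) pullback.condition
  have e : pullback.lift (pullback.fst G.s G.t) (pullback.snd G.s G.t) pullback.condition =
      𝟙 _ := by
    apply pullback.hom_ext <;> simp
  rw [e, Category.id_comp] at this
  exact this

lemma sat_inv₁ (A : Set G.U) (r : G.R) (h : G.s r ∈ G.t '' (G.s ⁻¹' A)) :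
    G.t r ∈ G.t '' (G.s ⁻¹' A) := by
  obtain ⟨r₁, hr₁, hr₁'⟩ := h
  obtain ⟨z, hz1, hz2⟩ := Scheme.Pullback.exists_preimage_pullback (f := G.s) (g := G.t) r r₁
    hr₁'.symm
  refine ⟨G.c z, ?_, ?_⟩
  · have : G.s (G.c z) = G.s (pullback.snd G.s G.t z) := by
      have := congrArg (fun g : pullback G.s G.t ⟶ G.U => g z) (c_s G)
      simpa using this
    show G.s (G.c z) ∈ A
    rw [this, hz2]
    exact hr₁
  · have : G.t (G.c z) = G.t (pullback.fst G.s G.t z) := by
      have := congrArg (fun g : pullback G.s G.t ⟶ G.U => g z) (c_t G)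
      simpa using this
    rw [this, hz1]

lemma sat_inv₂ (A : Set G.U) (r : G.R) (h : G.t r ∈ G.t '' (G.s ⁻¹' A)) :
    G.s r ∈ G.t '' (G.s ⁻¹' A) := by
  have h1 : G.s (G.i r) = G.t r := by
    have := congrArg (fun g : G.R ⟶ G.U => g r) G.i_s
    simpa using this
  have h2 : G.t (G.i r) = G.s r := by
    have := congrArg (fun g : G.R ⟶ G.U => g r) G.i_t
    simpa using this
  rw [← h2]
  apply sat_inv₁
  rw [h1]
  exact h

lemma sub_sat (A : Set G.U) : A ⊆ G.t '' (G.s ⁻¹' A) := by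
  intro u hu
  have h1 : G.s (G.e u) = u := by
    have := congrArg (fun g : G.U ⟶ G.U => g u) G.e_s
    simpa using this
  have h2 : G.t (G.e u) = u := by
    have := congrArg (fun g : G.U ⟶ G.U => g u) G.e_t
    simpa using this
  exact ⟨G.e u, by show G.s (G.e u) ∈ A; rw [h1]; exact hu, h2⟩

theorem main [QuasiCompact G.s] [Flat G.s] [QuasiCompact G.t] [Flat G.t]
    (W : G.U.Opens) (hW : IsCompact (W : Set G.U)) :
    ∃ V W' : G.U.Opens, G.s ⁻¹ᵁ V = G.t ⁻¹ᵁ V ∧ IsCompact (W' : Set G.U) ∧ W ≤ V ∧ V ≤ W' := by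
  set E : Set G.U := G.t '' (G.s ⁻¹' (W : Set G.U)) with hE
  have hEc : IsCompact E :=
    (QuasiCompact.isCompact_preimage (f := G.s) _ W.2 hW).image G.t.continuous
  have hEg : StableUnderGeneralization E :=
    (Flat.generalizingMap G.t).stableUnderGeneralization_image
      (W.2.preimage G.s.continuous).stableUnderGeneralization
  obtain ⟨W', hW'c, hW'o, hEW', -⟩ := PrespectralSpace.exists_isCompact_and_isOpen_between hEc
    isOpen_univ (Set.subset_univ _)
  set Z : Set G.U := W'ᶜ with hZ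
  have hZcl : IsClosed Z := hW'o.isClosed_compl
  set T : Set G.U := G.t '' (G.s ⁻¹' Z) with hT
  have hET : Disjoint E T := by
    rw [Set.disjoint_left]
    rintro u huE ⟨r, hr, rfl⟩
    have : G.s r ∈ E := sat_inv₂ G _ r huE
    exact hr (hEW' this)
  -- closure of T is invariant
  have hspec : ∀ ξ ∈ closure T, ∃ ξ' ∈ T, ξ' ⤳ ξ := by
    intro ξ hξ
    obtain ⟨x, hx, hx'⟩ := exists_specializes_of_mem_closure_image G.t
      (hZcl.preimage G.s.continuous) hξ
    exact ⟨G.t x, ⟨x, hx, rfl⟩, hx'⟩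
  have hinv₁ : ∀ r : G.R, G.s r ∈ closure T → G.t r ∈ closure T := by
    intro r hr
    obtain ⟨ξ', hξ'T, hξ'⟩ := hspec _ hr
    obtain ⟨r', hr', hr'ξ⟩ := Flat.generalizingMap G.s hξ'
    have h1 : G.t r' ∈ T := sat_inv₁ G _ r' (by rw [hr'ξ]; exact hξ'T)
    have h2 : G.t r' ⤳ G.t r := hr'.map G.t.continuous
    exact h2.mem_closed isClosed_closure (subset_closure h1)
  have hinv₂ : ∀ r : G.R, G.t r ∈ closure T → G.s r ∈ closure T := by
    intro r hr
    have h1 : G.s (G.i r) = G.t r := by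
      have := congrArg (fun g : G.R ⟶ G.U => g r) G.i_s
      simpa using this
    have h2 : G.t (G.i r) = G.s r := by
      have := congrArg (fun g : G.R ⟶ G.U => g r) G.i_t
      simpa using this
    rw [← h2]
    apply hinv₁
    rw [h1]
    exact hr
  refine ⟨⟨(closure T)ᶜ, isClosed_closure.isOpen_compl⟩, ⟨W', hW'o⟩, ?_, hW'c, ?_, ?_⟩
  · ext r
    simp only [Scheme.Hom.coe_preimage, TopologicalSpace.Opens.coe_mk, Set.mem_preimage,
      Set.mem_compl_iff]
    exact not_congr ⟨hinv₁ r, hinv₂ r⟩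
  · intro u hu hcl
    obtain ⟨ξ', hξ'T, hξ'⟩ := hspec _ hcl
    have huE : u ∈ E := sub_sat G _ hu
    exact Set.disjoint_left.1 hET (hEg hξ' huE) hξ'T
  · intro u hu
    by_contra hcon
    exact hu (subset_closure (sub_sat G _ hcon))

end groupoid

end Aux

/-- Let (U, R, s, t, c) be a groupoid scheme over S with s, t quasi-compact and flat and U
quasi-separated, and W ⊆ U a quasi-compact open. Then there are an R-invariant open V (s⁻¹V = t⁻¹V)
and a quasi-compact open W' with W ⊆ V ⊆ W'. (A groupoid scheme carries U, R, s, t, c, e, i over S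
with the groupoid axioms on T-points; 'finite locally free' is finite, flat and locally of finite
presentation; C ⊂ Γ(U) is the ring of functions a with s♯(a) = t♯(a) and M = Spec C.) -/
theorem result (S : Scheme.{u}) (G : Grpd.GroupoidScheme S) [QuasiCompact G.s] [Flat G.s] [QuasiCompact G.t] [Flat G.t] [QuasiSeparatedSpace G.U] (W : G.U.Opens) (hW : IsCompact (W : Set G.U)) : ∃ V W' : G.U.Opens, G.s ⁻¹ᵁ V = G.t ⁻¹ᵁ V ∧ IsCompact (W' : Set G.U) ∧ W ≤ V ∧ V ≤ W' := by
  exact Aux.main G W hW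

end Groth.Agent.S1894
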