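import Groth.Statements.S1888
import Mathlib
import Groth.Prelude.Def_Grpd
-- import your own Groth.Agent.* helpers here

set_option autoImplicit false
universe u
open CategoryTheory CategoryTheory.Limits AlgebraicGeometry
open Grpd

namespace Groth.Agent.S1888

open CategoryTheory CategoryTheory.Limits AlgebraicGeometry
namespace Aux

variable {S : Scheme.{u}} (G : Grpd.GroupoidScheme S)

/-- composition of `T`-points -/
noncomputable def comp {T : Scheme.{u}} (α β : T ⟶ G.R) (h : α ≫ G.s = β ≫ G.t) : T ⟶ G.R :=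
  pullback.lift α β h ≫ G.c

lemma comp_congr {T : Scheme.{u}} {α α' β β' : T ⟶ G.R} (h : α ≫ G.s = β ≫ G.t)
    (hα : α = α') (hβ : β = β') :
    comp G α β h = comp G α' β' (by rw [← hα, ← hβ]; exact h) := by
  subst hα hβ
  rfl

lemma precomp {T T' : Scheme.{u}} (γ : T' ⟶ T) (α β : T ⟶ G.R) (h : α ≫ G.s = β ≫ G.t) :
    γ ≫ comp G α β h = comp G (γ ≫ α) (γ ≫ β) (by rw [Category.assoc, Category.assoc, h]) := by
  unfold comp
  rw [← Category.assoc]
  congr 1
  apply pullback.hom_ext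
  · rw [Category.assoc, pullback.lift_fst, pullback.lift_fst]
  · rw [Category.assoc, pullback.lift_snd, pullback.lift_snd]

lemma comp_s {T : Scheme.{u}} (α β : T ⟶ G.R) (h : α ≫ G.s = β ≫ G.t) :
    comp G α β h ≫ G.s = β ≫ G.s := G.comp_s α β h

lemma comp_t {T : Scheme.{u}} (α β : T ⟶ G.R) (h : α ≫ G.s = β ≫ G.t) :
    comp G α β h ≫ G.t = α ≫ G.t := G.comp_t α β h

lemma comp_assoc {T : Scheme.{u}} (α β γ : T ⟶ G.R) (h₁ : α ≫ G.s = β ≫ G.t)
    (h₂ : β ≫ G.s = γ ≫ G.t) :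
    comp G (comp G α β h₁) γ ((comp_s G α β h₁).trans h₂) =
      comp G α (comp G β γ h₂) (h₁.trans (comp_t G β γ h₂).symm) :=
  G.assoc α β γ h₁ h₂

lemma e_comp' {T : Scheme.{u}} (α : T ⟶ G.R) (ε : T ⟶ G.R) (hε : ε = α ≫ G.t ≫ G.e) :
    comp G ε α (by rw [hε, Category.assoc, Category.assoc, G.e_s, Category.comp_id]) = α := by
  subst hε
  exact G.e_comp α

lemma comp_e' {T : Scheme.{u}} (α : T ⟶ G.R) (ε : T ⟶ G.R) (hε : ε = α ≫ G.s ≫ G.e) :
    comp G α ε (by rw [hε, Category.assoc, Category.assoc, G.e_t, Category.comp_id]) = α := by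
  subst hε
  exact G.comp_e α

lemma i_comp' {T : Scheme.{u}} (α : T ⟶ G.R) (ι : T ⟶ G.R) (hι : ι = α ≫ G.i) :
    comp G ι α (by rw [hι, Category.assoc, G.i_s]) = α ≫ G.s ≫ G.e := by
  subst hι
  exact G.i_comp α

lemma comp_i' {T : Scheme.{u}} (α : T ⟶ G.R) (ι : T ⟶ G.R) (hι : ι = α ≫ G.i) :
    comp G α ι (by rw [hι, Category.assoc, G.i_t]) = α ≫ G.t ≫ G.e := by
  subst hι
  exact G.comp_i α

lemma cancel_left {T : Scheme.{u}} (α ι x : T ⟶ G.R) (hι : ι = α ≫ G.i)
    (h : α ≫ G.s = x ≫ G.t) :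
    comp G ι (comp G α x h) (by rw [hι, Category.assoc, G.i_s, comp_t]) = x := by
  subst hι
  rw [← comp_assoc G (α ≫ G.i) α x (by rw [Category.assoc, G.i_s]) h]
  rw [comp_congr G _ (i_comp' G α (α ≫ G.i) rfl) rfl]
  refine e_comp' G x _ ?_
  rw [← Category.assoc, h, Category.assoc]

lemma cancel_left' {T : Scheme.{u}} (α x : T ⟶ G.R)
    (h : (α ≫ G.i) ≫ G.s = x ≫ G.t) :
    comp G α (comp G (α ≫ G.i) x h) (by rw [comp_t, Category.assoc, G.i_t]) = x := by
  rw [← comp_assoc G α (α ≫ G.i) x (by rw [Category.assoc, G.i_t]) h]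
  rw [comp_congr G _ (comp_i' G α (α ≫ G.i) rfl) rfl]
  refine e_comp' G x _ ?_
  have : α ≫ G.t = x ≫ G.t := by rw [← h, Category.assoc, G.i_s]
  rw [← Category.assoc, this, Category.assoc]

/-- left translation by a bisection `β` -/
theorem exists_translation (β : G.U ⟶ G.R) (hβs : β ≫ G.s = 𝟙 G.U) [IsIso (β ≫ G.t)] :
    ∃ φ : G.R ≅ G.R, G.e ≫ φ.hom = β := by
  have h1 : (G.t ≫ β) ≫ G.s = 𝟙 G.R ≫ G.t := by
    rw [Category.assoc, hβs, Category.comp_id, Category.id_comp]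
  have h2 : ((G.t ≫ inv (β ≫ G.t) ≫ β) ≫ G.i) ≫ G.s = 𝟙 G.R ≫ G.t := by
    rw [Category.assoc, G.i_s, Category.assoc, Category.assoc, IsIso.inv_hom_id,
      Category.comp_id, Category.id_comp]
  have hLt : comp G (G.t ≫ β) (𝟙 G.R) h1 ≫ G.t = G.t ≫ β ≫ G.t := by
    rw [comp_t, Category.assoc]
  have hL't : comp G ((G.t ≫ inv (β ≫ G.t) ≫ β) ≫ G.i) (𝟙 G.R) h2 ≫ G.t =
      G.t ≫ inv (β ≫ G.t) := by
    rw [comp_t, Category.assoc, G.i_t, Category.assoc, Category.assoc, hβs, Category.comp_id]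
  refine ⟨⟨comp G (G.t ≫ β) (𝟙 G.R) h1,
    comp G ((G.t ≫ inv (β ≫ G.t) ≫ β) ≫ G.i) (𝟙 G.R) h2, ?_, ?_⟩, ?_⟩
  · -- L ≫ L' = 𝟙
    rw [precomp]
    have e1 : comp G (G.t ≫ β) (𝟙 G.R) h1 ≫ (G.t ≫ inv (β ≫ G.t) ≫ β) ≫ G.i =
        (G.t ≫ β) ≫ G.i := by
      rw [← Category.assoc, ← Category.assoc, ← Category.assoc, hLt]
      have : (β ≫ G.t) ≫ inv (β ≫ G.t) = 𝟙 _ := IsIso.hom_inv_id _
      calc (((G.t ≫ β ≫ G.t) ≫ inv (β ≫ G.t)) ≫ β) ≫ G.i
          = G.t ≫ ((β ≫ G.t) ≫ inv (β ≫ G.t)) ≫ β ≫ G.i := by simp only [Category.assoc]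
        _ = (G.t ≫ β) ≫ G.i := by rw [this, Category.id_comp, Category.assoc]
    rw [comp_congr G _ e1 (Category.comp_id _)]
    exact cancel_left G (G.t ≫ β) _ (𝟙 G.R) rfl h1
  · -- L' ≫ L = 𝟙
    rw [precomp]
    have e1 : comp G ((G.t ≫ inv (β ≫ G.t) ≫ β) ≫ G.i) (𝟙 G.R) h2 ≫ G.t ≫ β =
        G.t ≫ inv (β ≫ G.t) ≫ β := by
      rw [← Category.assoc, hL't, Category.assoc]
    rw [comp_congr G _ e1 (Category.comp_id _)]
    exact cancel_left' G (G.t ≫ inv (β ≫ G.t) ≫ β) (𝟙 G.R) h2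
  · -- e ≫ L = β
    show G.e ≫ comp G (G.t ≫ β) (𝟙 G.R) h1 = β
    rw [precomp]
    have e1 : G.e ≫ G.t ≫ β = β := by rw [← Category.assoc, G.e_t, Category.id_comp]
    have e2 : G.e ≫ 𝟙 G.R = β ≫ G.s ≫ G.e := by
      rw [Category.comp_id, ← Category.assoc, hβs, Category.id_comp]
    rw [comp_congr G _ e1 e2]
    exact comp_e' G β _ rfl

lemma isIso_fromSpecResidueField_of_field {U : Scheme.{u}} (k : Type u) [Field k]
    (eU : U ≅ Spec (CommRingCat.of k)) (x : U) : IsIso (U.fromSpecResidueField x) := by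
  have hx : x = eU.inv (IsLocalRing.closedPoint k) := by
    have h1 : eU.hom x = IsLocalRing.closedPoint k := Subsingleton.elim _ _
    rw [← h1, ← Scheme.Hom.comp_apply, eU.hom_inv_id]
    rfl
  subst hx
  have key := Scheme.descResidueField_stalkClosedPointTo_fromSpecResidueField k U eU.inv
  set F := U.fromSpecResidueField (eU.inv (IsLocalRing.closedPoint k)) with hF
  set g := eU.hom ≫ Spec.map (Scheme.descResidueField (Scheme.stalkClosedPointTo eU.inv)) with hg
  have h1 : g ≫ F = 𝟙 U := by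
    rw [hg, Category.assoc, key, eU.hom_inv_id]
  have h2 : F ≫ g = 𝟙 _ := by
    rw [← cancel_mono F, Category.assoc, h1, Category.comp_id, Category.id_comp]
  exact ⟨g, h2, h1⟩

theorem main (S : Scheme.{u}) (G : Grpd.GroupoidScheme S) (k : Type u) [Field k]
    (eU : G.U ≅ Spec (CommRingCat.of k)) (r : G.R) (hs : IsIso (G.s.residueFieldMap r))
    (ht : IsIso (G.t.residueFieldMap r)) :
    ∃ φ : G.R ≅ G.R, φ.hom (G.e (eU.inv (IsLocalRing.closedPoint k))) = r := by
  have hU := isIso_fromSpecResidueField_of_field k eU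
  have e_s : G.R.fromSpecResidueField r ≫ G.s =
      Spec.map (G.s.residueFieldMap r) ≫ G.U.fromSpecResidueField (G.s r) :=
    (Scheme.Hom.SpecMap_residueFieldMap_fromSpecResidueField (f := G.s) r).symm
  have e_t : G.R.fromSpecResidueField r ≫ G.t =
      Spec.map (G.t.residueFieldMap r) ≫ G.U.fromSpecResidueField (G.t r) :=
    (Scheme.Hom.SpecMap_residueFieldMap_fromSpecResidueField (f := G.t) r).symm
  have is_s : IsIso (G.R.fromSpecResidueField r ≫ G.s) := by
    rw [e_s]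
    have := hU (G.s r)
    infer_instance
  have is_t : IsIso (G.R.fromSpecResidueField r ≫ G.t) := by
    rw [e_t]
    have := hU (G.t r)
    infer_instance
  set ρ := G.R.fromSpecResidueField r with hρ
  let β : G.U ⟶ G.R := inv (ρ ≫ G.s) ≫ ρ
  have hβs : β ≫ G.s = 𝟙 G.U := by
    show (inv (ρ ≫ G.s) ≫ ρ) ≫ G.s = 𝟙 G.U
    rw [Category.assoc, IsIso.inv_hom_id]
  have hβt : IsIso (β ≫ G.t) := by
    show IsIso ((inv (ρ ≫ G.s) ≫ ρ) ≫ G.t)
    rw [Category.assoc]
    infer_instance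
  obtain ⟨φ, hφ⟩ := exists_translation G β hβs
  refine ⟨φ, ?_⟩
  rw [← Scheme.Hom.comp_apply, hφ]
  show (inv (ρ ≫ G.s) ≫ ρ) _ = r
  rw [Scheme.Hom.comp_apply]
  exact Scheme.fromSpecResidueField_apply r _

end Aux

/-- Let (U, R, s, t, c) be a groupoid scheme over S with U the spectrum of a field k, and r a point of R
such that both s and t induce isomorphisms from k to κ(r). Then there is an automorphism of the
scheme R carrying the identity point e to r. (The source's automorphism is x ↦ c(r, x); only the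
existence of an automorphism moving e to r is stated here.) (A groupoid scheme carries U, R, s, t,
c, e, i over S with the groupoid axioms on T-points; 'finite locally free' is finite, flat and
locally of finite presentation; C ⊂ Γ(U) is the ring of functions a with s♯(a) = t♯(a) and M = Spec
C.) -/
theorem result (S : Scheme.{u}) (G : Grpd.GroupoidScheme S) (k : Type u) [Field k] (eU : G.U ≅ Spec (CommRingCat.of k)) (r : G.R) (hs : IsIso (G.s.residueFieldMap r)) (ht : IsIso (G.t.residueFieldMap r)) : ∃ φ : G.R ≅ G.R, φ.hom (G.e (eU.inv (IsLocalRing.closedPoint k))) = r := by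
  exact Aux.main S G k eU r hs ht

end Groth.Agent.S1888
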