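import Groth.Statements.S1889
import Mathlib
import Groth.Prelude.Def_Grpd
import Groth.Agent.S1888
-- import your own Groth.Agent.* helpers here

set_option autoImplicit false
universe u
open CategoryTheory CategoryTheory.Limits AlgebraicGeometry
open Grpd

namespace Groth.Agent.S1889

open CategoryTheory CategoryTheory.Limits AlgebraicGeometry
open Groth.Agent.S1888.Aux
namespace Aux

variable {S : Scheme.{u}} (G : Grpd.GroupoidScheme S)

lemma field_base (k : Type u) [Field k] (eU : G.U ≅ Spec (CommRingCat.of k)) :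
    IsIntegral G.U ∧ Subsingleton G.U := by
  have hsub : Subsingleton G.U := by
    refine Function.Injective.subsingleton (f := eU.hom) ?_
    intro x y h
    have := congrArg eU.inv h
    rwa [← Scheme.Hom.comp_apply, ← Scheme.Hom.comp_apply, eU.hom_inv_id] at this
  have hne : Nonempty G.U := ⟨eU.inv (IsLocalRing.closedPoint k)⟩
  exact ⟨isIntegral_of_isOpenImmersion eU.hom, hsub⟩

theorem main (k : Type u) [Field k] (eU : G.U ≅ Spec (CommRingCat.of k)) (W : G.R.Opens)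
    (Z : Scheme.{u}) (a : Z ⟶ G.R) :
    IsOpen (Set.range ⇑(pullback.lift (pullback.fst (a ≫ G.s) (W.ι ≫ G.t) ≫ a)
      (pullback.snd (a ≫ G.s) (W.ι ≫ G.t) ≫ W.ι)
      ((Category.assoc _ _ _).trans (pullback.condition.trans (Category.assoc _ _ _).symm)) ≫
        G.c)) := by
  obtain ⟨hint, hsub⟩ := field_base G k eU
  have hUO : UniversallyOpen (a ≫ G.t) := inferInstance
  -- notation
  set m : pullback (a ≫ G.s) (W.ι ≫ G.t) ⟶ G.R :=
    comp G (pullback.fst (a ≫ G.s) (W.ι ≫ G.t) ≫ a) (pullback.snd (a ≫ G.s) (W.ι ≫ G.t) ≫ W.ι)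
      ((Category.assoc _ _ _).trans (pullback.condition.trans (Category.assoc _ _ _).symm))
    with hm
  change IsOpen (Set.range ⇑m)
  have hn0 : ((pullback.fst (a ≫ G.t) G.t ≫ a) ≫ G.i) ≫ G.s = pullback.snd (a ≫ G.t) G.t ≫ G.t := by
    rw [Category.assoc, G.i_s, Category.assoc, pullback.condition]
  set n : pullback (a ≫ G.t) G.t ⟶ G.R :=
    comp G ((pullback.fst (a ≫ G.t) G.t ≫ a) ≫ G.i) (pullback.snd (a ≫ G.t) G.t) hn0 with hn
  have hnt : n ≫ G.t = pullback.fst (a ≫ G.t) G.t ≫ a ≫ G.s := by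
    rw [hn, comp_t, Category.assoc, G.i_t, Category.assoc]
  have hopen : IsOpenMap ⇑(pullback.snd (a ≫ G.t) G.t) := (pullback.snd (a ≫ G.t) G.t).isOpenMap
  suffices hrange : Set.range ⇑m = ⇑(pullback.snd (a ≫ G.t) G.t) '' (⇑n ⁻¹' (W : Set G.R)) by
    rw [hrange]
    exact hopen _ (W.2.preimage n.continuous)
  apply Set.Subset.antisymm
  · rintro _ ⟨p, rfl⟩
    have hθ0 : pullback.fst (a ≫ G.s) (W.ι ≫ G.t) ≫ a ≫ G.t = m ≫ G.t := by
      rw [hm, comp_t, Category.assoc]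
    set θ : pullback (a ≫ G.s) (W.ι ≫ G.t) ⟶ pullback (a ≫ G.t) G.t :=
      pullback.lift (pullback.fst (a ≫ G.s) (W.ι ≫ G.t)) m hθ0 with hθ
    refine ⟨θ p, ?_, ?_⟩
    · have hθn : θ ≫ n = pullback.snd (a ≫ G.s) (W.ι ≫ G.t) ≫ W.ι := by
        rw [hn, precomp]
        have e1 : θ ≫ (pullback.fst (a ≫ G.t) G.t ≫ a) ≫ G.i =
            (pullback.fst (a ≫ G.s) (W.ι ≫ G.t) ≫ a) ≫ G.i := by
          rw [hθ, ← Category.assoc, ← Category.assoc, pullback.lift_fst]
        have e2 : θ ≫ pullback.snd (a ≫ G.t) G.t = m := by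
          rw [hθ, pullback.lift_snd]
        rw [comp_congr G _ e1 e2]
        exact cancel_left G _ _ _ rfl _
      show n (θ p) ∈ (W : Set G.R)
      rw [← Scheme.Hom.comp_apply, hθn, Scheme.Hom.comp_apply]
      exact (pullback.snd (a ≫ G.s) (W.ι ≫ G.t) p).2
    · rw [← Scheme.Hom.comp_apply, hθ, pullback.lift_snd]
  · rintro _ ⟨q, hq, rfl⟩
    let V : (pullback (a ≫ G.t) G.t).Opens := n ⁻¹ᵁ W
    have hκ0 : (V.ι ≫ pullback.fst (a ≫ G.t) G.t) ≫ a ≫ G.s = (n ∣_ W) ≫ W.ι ≫ G.t := by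
      rw [← Category.assoc (n ∣_ W), morphismRestrict_ι, Category.assoc, Category.assoc, hnt]
    set κ : (V : Scheme) ⟶ pullback (a ≫ G.s) (W.ι ≫ G.t) :=
      pullback.lift (V.ι ≫ pullback.fst (a ≫ G.t) G.t) (n ∣_ W) hκ0 with hκ
    have hκm : κ ≫ m = V.ι ≫ pullback.snd (a ≫ G.t) G.t := by
      rw [hm, precomp]
      have e1 : κ ≫ pullback.fst (a ≫ G.s) (W.ι ≫ G.t) ≫ a =
          V.ι ≫ pullback.fst (a ≫ G.t) G.t ≫ a := by
        rw [hκ, ← Category.assoc, pullback.lift_fst, Category.assoc]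
      have e2 : κ ≫ pullback.snd (a ≫ G.s) (W.ι ≫ G.t) ≫ W.ι = V.ι ≫ n := by
        rw [hκ, ← Category.assoc, pullback.lift_snd, morphismRestrict_ι]
      rw [comp_congr G _ e1 e2, ← precomp G V.ι (pullback.fst (a ≫ G.t) G.t ≫ a) n
        (by rw [hnt, Category.assoc])]
      congr 1
      exact cancel_left' G (pullback.fst (a ≫ G.t) G.t ≫ a) (pullback.snd (a ≫ G.t) G.t) hn0
    have hqV : q ∈ V := hq
    refine ⟨κ ⟨q, hqV⟩, ?_⟩
    show (κ ≫ m) ⟨q, hqV⟩ = _
    rw [hκm]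
    rfl

end Aux

/-- Let (U, R, s, t, c) be a groupoid scheme over S with U the spectrum of a field, W ⊆ R open and a : Z
→ R a morphism. Then the image of Z ×_{s∘a, U, t} W → R ×_{s,U,t} R → R (composition) is open. (A
groupoid scheme carries U, R, s, t, c, e, i over S with the groupoid axioms on T-points; 'finite
locally free' is finite, flat and locally of finite presentation; C ⊂ Γ(U) is the ring of functions
a with s♯(a) = t♯(a) and M = Spec C.) -/
theorem result (S : Scheme.{u}) (G : Grpd.GroupoidScheme S) (k : Type u) [Field k] (eU : G.U ≅ Spec (CommRingCat.of k)) (W : G.R.Opens) (Z : Scheme.{u}) (a : Z ⟶ G.R) : IsOpen (Set.range ⇑(pullback.lift (pullback.fst (a ≫ G.s) (W.ι ≫ G.t) ≫ a) (pullback.snd (a ≫ G.s) (W.ι ≫ G.t) ≫ W.ι) ((Category.assoc _ _ _).trans (pullback.condition.trans (Category.assoc _ _ _).symm)) ≫ G.c)) := by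
  exact Aux.main G k eU W Z a

end Groth.Agent.S1889
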