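import Groth.Statements.S1891
import Mathlib
import Groth.Prelude.Def_Grpd
import Groth.Agent.S1888
import Groth.Agent.S1889
-- import your own Groth.Agent.* helpers here

set_option autoImplicit false
universe u
open CategoryTheory CategoryTheory.Limits AlgebraicGeometry
open Grpd

namespace Groth.Agent.S1891

open CategoryTheory CategoryTheory.Limits AlgebraicGeometry
open Groth.Agent.S1888.Aux
namespace Aux

variable {S : Scheme.{u}}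

lemma cancel_right (G : Grpd.GroupoidScheme S) {T : Scheme.{u}} (ζ ω : T ⟶ G.R)
    (h : ζ ≫ G.s = ω ≫ G.t) :
    comp G (comp G ζ ω h) (ω ≫ G.i) (by rw [comp_s, Category.assoc, G.i_t]) = ζ := by
  rw [comp_assoc G ζ ω (ω ≫ G.i) h (by rw [Category.assoc, G.i_t])]
  rw [comp_congr G _ rfl (comp_i' G ω (ω ≫ G.i) rfl)]
  refine comp_e' G ζ _ ?_
  rw [← Category.assoc, ← h, Category.assoc]

/-- uniqueness of inverses -/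
lemma eq_inv_of_comp (G : Grpd.GroupoidScheme S) {T : Scheme.{u}} (β γ : T ⟶ G.R)
    (h : β ≫ G.s = γ ≫ G.t) (hc : comp G β γ h = γ ≫ G.s ≫ G.e) : β = γ ≫ G.i := by
  have h1 := cancel_right G β γ h
  rw [comp_congr G _ hc rfl] at h1
  rw [← h1]
  refine e_comp' G (γ ≫ G.i) _ ?_
  rw [Category.assoc, ← Category.assoc G.i, G.i_t]

variable {G₁ G₂ : Grpd.GroupoidScheme S} (a : Grpd.GroupoidScheme.Hom G₁ G₂)

lemma hom_comp {T : Scheme.{u}} (α β : T ⟶ G₁.R) (h : α ≫ G₁.s = β ≫ G₁.t) :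
    comp G₁ α β h ≫ a.fR = comp G₂ (α ≫ a.fR) (β ≫ a.fR)
      (by rw [Category.assoc, Category.assoc, a.comm_s, a.comm_t, ← Category.assoc,
        ← Category.assoc, h]) :=
  a.comm_c α β h

lemma hom_e : G₁.e ≫ a.fR = a.fU ≫ G₂.e := by
  have hee : comp G₁ G₁.e G₁.e (by rw [G₁.e_s, G₁.e_t]) = G₁.e := by
    refine comp_e' G₁ G₁.e _ ?_
    rw [← Category.assoc, G₁.e_s, Category.id_comp]
  have h1 := hom_comp a G₁.e G₁.e (by rw [G₁.e_s, G₁.e_t])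
  rw [hee] at h1
  -- ε = comp ε ε
  set ε := G₁.e ≫ a.fR with hε
  have hs : ε ≫ G₂.s = ε ≫ G₂.t := by
    rw [hε, Category.assoc, Category.assoc, a.comm_s, a.comm_t, ← Category.assoc,
      ← Category.assoc, G₁.e_s, G₁.e_t]
  have h2 := cancel_left G₂ ε (ε ≫ G₂.i) ε rfl hs
  rw [comp_congr G₂ _ rfl h1.symm] at h2
  rw [i_comp' G₂ ε (ε ≫ G₂.i) rfl] at h2
  rw [← h2, hε, Category.assoc, ← Category.assoc a.fR, a.comm_s, Category.assoc,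
    ← Category.assoc G₁.e, G₁.e_s, Category.id_comp]

lemma hom_i : G₁.i ≫ a.fR = a.fR ≫ G₂.i := by
  have h0 : (G₁.i ≫ a.fR) ≫ G₂.s = a.fR ≫ G₂.t := by
    rw [Category.assoc, a.comm_s, a.comm_t, ← Category.assoc, G₁.i_s]
  refine eq_inv_of_comp G₂ (G₁.i ≫ a.fR) a.fR h0 ?_
  have h1 := hom_comp a (𝟙 G₁.R ≫ G₁.i) (𝟙 G₁.R) (by rw [Category.assoc, G₁.i_s])
  rw [i_comp' G₁ (𝟙 G₁.R) _ rfl] at h1
  rw [comp_congr G₂ _ (show G₁.i ≫ a.fR = (𝟙 G₁.R ≫ G₁.i) ≫ a.fR by rw [Category.id_comp])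
    (show a.fR = 𝟙 G₁.R ≫ a.fR by rw [Category.id_comp])]
  rw [← h1, Category.id_comp, Category.assoc, hom_e, ← Category.assoc, ← a.comm_s,
    Category.assoc]


lemma key [IsIso a.fU] {T : Scheme.{u}} (ζ ω : T ⟶ G₂.R) (hζω : ζ ≫ G₂.s = ω ≫ G₂.t)
    (ρ₁ ρ₁' : T ⟶ G₁.R) (hμ : comp G₂ ζ ω hζω = ρ₁ ≫ a.fR) (hω' : ω = ρ₁' ≫ a.fR) :
    ∃ ρ : T ⟶ G₁.R, ζ = ρ ≫ a.fR := by
  have hs : ρ₁ ≫ G₁.s = ρ₁' ≫ G₁.s := by
    have h3 : (ρ₁ ≫ a.fR) ≫ G₂.s = (ρ₁' ≫ a.fR) ≫ G₂.s := by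
      rw [← hμ, comp_s, hω']
    rw [Category.assoc, Category.assoc, a.comm_s, ← Category.assoc, ← Category.assoc] at h3
    exact (cancel_mono a.fU).mp h3
  have hcr := cancel_right G₂ ζ ω hζω
  have hcomp1 : ρ₁ ≫ G₁.s = (ρ₁' ≫ G₁.i) ≫ G₁.t := by
    rw [Category.assoc, G₁.i_t, hs]
  refine ⟨comp G₁ ρ₁ (ρ₁' ≫ G₁.i) hcomp1, ?_⟩
  rw [hom_comp a, ← hcr]
  refine comp_congr G₂ _ hμ ?_
  rw [hω', Category.assoc, Category.assoc, hom_i]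

lemma key2 [IsIso a.fU] {Z : Scheme.{u}} (z : Z ⟶ G₂.R) (Wo : G₂.R.Opens)
    (m : pullback (z ≫ G₂.s) (Wo.ι ≫ G₂.t) ⟶ G₂.R)
    (hcompat : (pullback.fst (z ≫ G₂.s) (Wo.ι ≫ G₂.t) ≫ z) ≫ G₂.s =
      (pullback.snd (z ≫ G₂.s) (Wo.ι ≫ G₂.t) ≫ Wo.ι) ≫ G₂.t)
    (hm : m = comp G₂ (pullback.fst _ _ ≫ z) (pullback.snd _ _ ≫ Wo.ι) hcompat)
    {T : Scheme.{u}} (pT : T ⟶ pullback (z ≫ G₂.s) (Wo.ι ≫ G₂.t)) (ρ₁ ρ₁' : T ⟶ G₁.R)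
    (h1 : pT ≫ m = ρ₁ ≫ a.fR)
    (h2 : pT ≫ pullback.snd (z ≫ G₂.s) (Wo.ι ≫ G₂.t) ≫ Wo.ι = ρ₁' ≫ a.fR) :
    ∃ ρ : T ⟶ G₁.R, pT ≫ pullback.fst (z ≫ G₂.s) (Wo.ι ≫ G₂.t) ≫ z = ρ ≫ a.fR := by
  have hζω : (pT ≫ pullback.fst (z ≫ G₂.s) (Wo.ι ≫ G₂.t) ≫ z) ≫ G₂.s =
      (pT ≫ pullback.snd (z ≫ G₂.s) (Wo.ι ≫ G₂.t) ≫ Wo.ι) ≫ G₂.t := by
    rw [Category.assoc, Category.assoc, Category.assoc, Category.assoc, pullback.condition]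
  refine key a _ _ hζω ρ₁ ρ₁' ?_ h2
  rw [← h1, hm, precomp]

theorem main (k : Type u) [Field k] (eU : G₂.U ≅ Spec (CommRingCat.of k)) [IsIso a.fU]
    (hopen : IsOpen (Set.range ⇑a.fR)) : IsClosed (Set.range ⇑a.fR) := by
  rw [← closure_subset_iff_isClosed]
  intro r₂ hr₂
  let Wo : G₂.R.Opens := ⟨Set.range ⇑a.fR, hopen⟩
  let Z : Scheme.{u} := Spec (G₂.R.residueField r₂)
  let z : Z ⟶ G₂.R := G₂.R.fromSpecResidueField r₂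
  have hz : ∀ x : Z, z x = r₂ := by
    intro x
    have : z x ∈ Set.range ⇑(G₂.R.fromSpecResidueField r₂) := ⟨x, rfl⟩
    rw [Scheme.range_fromSpecResidueField] at this
    exact this
  have hO := Groth.Agent.S1889.Aux.main G₂ k eU Wo Z z
  have hcompat : (pullback.fst (z ≫ G₂.s) (Wo.ι ≫ G₂.t) ≫ z) ≫ G₂.s =
      (pullback.snd (z ≫ G₂.s) (Wo.ι ≫ G₂.t) ≫ Wo.ι) ≫ G₂.t :=
    (Category.assoc _ _ _).trans (pullback.condition.trans (Category.assoc _ _ _).symm)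
  set m : pullback (z ≫ G₂.s) (Wo.ι ≫ G₂.t) ⟶ G₂.R :=
    comp G₂ (pullback.fst _ _ ≫ z) (pullback.snd _ _ ≫ Wo.ι) hcompat with hm
  change IsOpen (Set.range ⇑m) at hO
  -- `r₂ ∈ range m`
  have he : G₂.e = inv a.fU ≫ G₁.e ≫ a.fR := by rw [hom_e, IsIso.inv_hom_id_assoc]
  have hsub : Set.range ⇑(z ≫ G₂.s ≫ G₂.e) ⊆ Set.range ⇑Wo.ι := by
    rw [Scheme.Opens.range_ι]
    rintro _ ⟨x, rfl⟩
    refine ⟨(inv a.fU ≫ G₁.e) ((z ≫ G₂.s) x), ?_⟩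
    rw [← Scheme.Hom.comp_apply, ← Scheme.Hom.comp_apply, he]
    simp only [Category.assoc]
  set ε : Z ⟶ Wo := IsOpenImmersion.lift Wo.ι (z ≫ G₂.s ≫ G₂.e) hsub with hε
  have hεfac : ε ≫ Wo.ι = z ≫ G₂.s ≫ G₂.e := IsOpenImmersion.lift_fac _ _ _
  have hp0 : 𝟙 Z ≫ z ≫ G₂.s = ε ≫ Wo.ι ≫ G₂.t := by
    rw [← Category.assoc ε, hεfac, Category.id_comp, Category.assoc, Category.assoc, G₂.e_t,
      Category.comp_id]
  set p0 : Z ⟶ pullback (z ≫ G₂.s) (Wo.ι ≫ G₂.t) := pullback.lift (𝟙 Z) ε hp0 with hp0def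
  have hp0m : p0 ≫ m = z := by
    rw [hm, precomp]
    have e1 : p0 ≫ pullback.fst (z ≫ G₂.s) (Wo.ι ≫ G₂.t) ≫ z = z := by
      rw [hp0def, ← Category.assoc, pullback.lift_fst, Category.id_comp]
    have e2 : p0 ≫ pullback.snd (z ≫ G₂.s) (Wo.ι ≫ G₂.t) ≫ Wo.ι = z ≫ G₂.s ≫ G₂.e := by
      rw [hp0def, ← Category.assoc, pullback.lift_snd, hεfac]
    rw [comp_congr G₂ _ e1 e2]
    exact comp_e' G₂ z _ rfl
  obtain ⟨z0⟩ : Nonempty Z := inferInstance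
  have hr₂O : r₂ ∈ Set.range ⇑m := by
    refine ⟨p0 z0, ?_⟩
    rw [← Scheme.Hom.comp_apply, hp0m]
    exact hz z0
  obtain ⟨_, ⟨p, rfl⟩, ⟨r₁, hr₁⟩⟩ := mem_closure_iff.mp hr₂ _ hO hr₂O
  obtain ⟨r₁', hr₁'⟩ : ∃ r₁' : G₁.R, a.fR r₁' = Wo.ι (pullback.snd (z ≫ G₂.s) (Wo.ι ≫ G₂.t) p) := by
    have : Wo.ι (pullback.snd (z ≫ G₂.s) (Wo.ι ≫ G₂.t) p) ∈ (Wo : Set G₂.R) :=
      (pullback.snd (z ≫ G₂.s) (Wo.ι ≫ G₂.t) p).2
    exact this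
  -- the test scheme
  obtain ⟨t₁, ht₁p, ht₁r⟩ := Scheme.Pullback.exists_preimage_pullback (f := m) (g := a.fR) p r₁ hr₁.symm
  have h2 : (pullback.fst m a.fR ≫ pullback.snd (z ≫ G₂.s) (Wo.ι ≫ G₂.t) ≫ Wo.ι) t₁ = a.fR r₁' := by
    rw [Scheme.Hom.comp_apply, ht₁p, hr₁']
    rfl
  obtain ⟨τ, hτ1, hτ2⟩ := Scheme.Pullback.exists_preimage_pullback
    (f := pullback.fst m a.fR ≫ pullback.snd (z ≫ G₂.s) (Wo.ι ≫ G₂.t) ≫ Wo.ι) (g := a.fR) t₁ r₁' h2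
  have hq1 : (pullback.fst (pullback.fst m a.fR ≫ pullback.snd (z ≫ G₂.s) (Wo.ι ≫ G₂.t) ≫ Wo.ι) a.fR ≫
      pullback.fst m a.fR) ≫ pullback.snd (z ≫ G₂.s) (Wo.ι ≫ G₂.t) ≫ Wo.ι =
      pullback.snd (pullback.fst m a.fR ≫ pullback.snd (z ≫ G₂.s) (Wo.ι ≫ G₂.t) ≫ Wo.ι) a.fR ≫ a.fR := by
    rw [Category.assoc]
    exact pullback.condition
  have hq2 : (pullback.fst (pullback.fst m a.fR ≫ pullback.snd (z ≫ G₂.s) (Wo.ι ≫ G₂.t) ≫ Wo.ι) a.fR ≫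
      pullback.fst m a.fR) ≫ m =
      (pullback.fst (pullback.fst m a.fR ≫ pullback.snd (z ≫ G₂.s) (Wo.ι ≫ G₂.t) ≫ Wo.ι) a.fR ≫
        pullback.snd m a.fR) ≫ a.fR := by
    rw [Category.assoc, Category.assoc, pullback.condition]
  obtain ⟨ρ, hρ⟩ := key2 a z Wo m hcompat hm _ _ _ hq2 hq1
  refine ⟨ρ τ, ?_⟩
  rw [← Scheme.Hom.comp_apply, ← hρ]
  simp only [Scheme.Hom.comp_apply]
  exact hz _

end Aux

/-- Let (U, R₁, s₁, t₁, c₁) and (U, R₂, s₂, t₂, c₂) be groupoid schemes over S on the same U = Spec k, k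
a field, and a : R₁ → R₂ a morphism of groupoid schemes over the identity of U (here: over an
isomorphism on objects). If a(R₁) is open in R₂ then it is closed. (A groupoid scheme carries U, R,
s, t, c, e, i over S with the groupoid axioms on T-points; 'finite locally free' is finite, flat and
locally of finite presentation; C ⊂ Γ(U) is the ring of functions a with s♯(a) = t♯(a) and M = Spec
C.) -/
theorem result (S : Scheme.{u}) (G₁ G₂ : Grpd.GroupoidScheme S) (k : Type u) [Field k] (eU : G₂.U ≅ Spec (CommRingCat.of k)) (a : Grpd.GroupoidScheme.Hom G₁ G₂) [IsIso a.fU] (hopen : IsOpen (Set.range ⇑a.fR)) : IsClosed (Set.range ⇑a.fR) := by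
  exact Aux.main a k eU hopen

end Groth.Agent.S1891
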