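import Groth.Statements.S7457
import Mathlib
import Groth.Prelude.Def_Grpd
import Groth.Agent.S1888
import Groth.Agent.S1891
-- import your own Groth.Agent.* helpers here

set_option autoImplicit false
universe u
open CategoryTheory CategoryTheory.Limits AlgebraicGeometry
open Grpd

namespace Groth.Agent.S7457

open CategoryTheory CategoryTheory.Limits AlgebraicGeometry
open Groth.Agent.S1888.Aux
namespace Aux
open Groth.Agent.S1891.Aux

variable {S : Scheme.{u}} (G : Grpd.GroupoidScheme S)

lemma c_eq : G.c = comp G (pullback.fst G.s G.t) (pullback.snd G.s G.t) pullback.condition := by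
  unfold comp
  have : pullback.lift (pullback.fst G.s G.t) (pullback.snd G.s G.t) pullback.condition =
      𝟙 (pullback G.s G.t) := by
    apply pullback.hom_ext
    · rw [pullback.lift_fst, Category.id_comp]
    · rw [pullback.lift_snd, Category.id_comp]
  rw [this, Category.id_comp]

lemma pre_c {T : Scheme.{u}} (γ : T ⟶ pullback G.s G.t) :
    γ ≫ G.c = comp G (γ ≫ pullback.fst G.s G.t) (γ ≫ pullback.snd G.s G.t)
      (by rw [Category.assoc, Category.assoc, pullback.condition]) := by
  conv_lhs => rw [c_eq G]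
  rw [precomp]

lemma θ_cond : pullback.fst G.s G.t ≫ G.t = G.c ≫ G.t := by
  conv_rhs => rw [c_eq G]
  rw [comp_t]

/-- `(a, b) ↦ (a, a ∘ b)` -/
noncomputable def θ : pullback G.s G.t ⟶ pullback G.t G.t :=
  pullback.lift (pullback.fst G.s G.t) G.c (θ_cond G)

lemma φ₀_cond1 : (pullback.fst G.t G.t ≫ G.i) ≫ G.s = pullback.snd G.t G.t ≫ G.t :=
  (Category.assoc _ _ _).trans ((congrArg (fun x => pullback.fst G.t G.t ≫ x) G.i_s).trans
    pullback.condition)

lemma φ₀_cond : pullback.fst G.t G.t ≫ G.s =
    comp G (pullback.fst G.t G.t ≫ G.i) (pullback.snd G.t G.t) (φ₀_cond1 G) ≫ G.t := by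
  rw [comp_t, Category.assoc, G.i_t]

/-- `(a, b) ↦ (a, a⁻¹ ∘ b)` -/
noncomputable def φ₀ : pullback G.t G.t ⟶ pullback G.s G.t :=
  pullback.lift (pullback.fst G.t G.t)
    (comp G (pullback.fst G.t G.t ≫ G.i) (pullback.snd G.t G.t) (φ₀_cond1 G)) (φ₀_cond G)

lemma φ₀_c : φ₀ G ≫ G.c = pullback.snd G.t G.t := by
  rw [pre_c]
  have e1 : φ₀ G ≫ pullback.fst G.s G.t = pullback.fst G.t G.t := pullback.lift_fst _ _ _
  have e2 : φ₀ G ≫ pullback.snd G.s G.t =
      comp G (pullback.fst G.t G.t ≫ G.i) (pullback.snd G.t G.t) (φ₀_cond1 G) :=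
    pullback.lift_snd _ _ _
  rw [comp_congr G _ e1 e2]
  exact cancel_left' G (pullback.fst G.t G.t) (pullback.snd G.t G.t) (φ₀_cond1 G)

lemma θ_φ₀ : θ G ≫ φ₀ G = 𝟙 _ := by
  apply pullback.hom_ext
  · rw [Category.assoc, Category.id_comp]
    unfold φ₀ θ
    rw [pullback.lift_fst, pullback.lift_fst]
  · rw [Category.assoc, Category.id_comp]
    unfold φ₀
    rw [pullback.lift_snd, precomp]
    have e1 : θ G ≫ pullback.fst G.t G.t ≫ G.i = pullback.fst G.s G.t ≫ G.i := by
      unfold θ
      rw [← Category.assoc, pullback.lift_fst]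
    have e2 : θ G ≫ pullback.snd G.t G.t =
        comp G (pullback.fst G.s G.t) (pullback.snd G.s G.t) pullback.condition := by
      unfold θ
      rw [pullback.lift_snd]
      exact c_eq G
    rw [comp_congr G _ e1 e2]
    exact cancel_left G (pullback.fst G.s G.t) _ (pullback.snd G.s G.t) rfl pullback.condition

lemma φ₀_θ : φ₀ G ≫ θ G = 𝟙 _ := by
  apply pullback.hom_ext
  · rw [Category.assoc, Category.id_comp]
    unfold θ
    rw [pullback.lift_fst]
    exact pullback.lift_fst _ _ _
  · rw [Category.assoc, Category.id_comp]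
    unfold θ
    rw [pullback.lift_snd]
    exact φ₀_c G

lemma isPullback_c : IsPullback G.c (pullback.snd G.s G.t) G.s G.s := by
  have hsq : G.c ≫ G.s = pullback.snd G.s G.t ≫ G.s := by
    conv_lhs => rw [c_eq G]
    rw [comp_s]
  refine ⟨⟨hsq⟩, ⟨PullbackCone.IsLimit.mk _ ?_ ?_ ?_ ?_⟩⟩
  · intro c
    have h1 : c.fst ≫ G.s = (c.snd ≫ G.i) ≫ G.t := by
      rw [Category.assoc, G.i_t, c.condition]
    refine pullback.lift (comp G c.fst (c.snd ≫ G.i) h1) c.snd ?_
    rw [comp_s, Category.assoc, G.i_s]
  · intro c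
    have h1 : c.fst ≫ G.s = (c.snd ≫ G.i) ≫ G.t := by
      rw [Category.assoc, G.i_t, c.condition]
    rw [pre_c]
    have e1 : pullback.lift (comp G c.fst (c.snd ≫ G.i) h1) c.snd
        (by rw [comp_s, Category.assoc, G.i_s]) ≫ pullback.fst G.s G.t =
        comp G c.fst (c.snd ≫ G.i) h1 := pullback.lift_fst _ _ _
    have e2 : pullback.lift (comp G c.fst (c.snd ≫ G.i) h1) c.snd
        (by rw [comp_s, Category.assoc, G.i_s]) ≫ pullback.snd G.s G.t = c.snd :=
      pullback.lift_snd _ _ _
    rw [comp_congr G _ e1 e2]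
    rw [comp_assoc G c.fst (c.snd ≫ G.i) c.snd h1 (by rw [Category.assoc, G.i_s])]
    rw [comp_congr G _ rfl (i_comp' G c.snd (c.snd ≫ G.i) rfl)]
    refine comp_e' G c.fst _ ?_
    rw [← Category.assoc, ← c.condition, Category.assoc]
  · intro c
    exact pullback.lift_snd _ _ _
  · intro c m hm1 hm2
    have h1 : c.fst ≫ G.s = (c.snd ≫ G.i) ≫ G.t := by
      rw [Category.assoc, G.i_t, c.condition]
    apply pullback.hom_ext
    · rw [pullback.lift_fst]
      rw [pre_c] at hm1
      have hcond : (m ≫ pullback.fst G.s G.t) ≫ G.s = c.snd ≫ G.t := by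
        rw [Category.assoc, pullback.condition, ← Category.assoc, hm2]
      have h2 := cancel_right G (m ≫ pullback.fst G.s G.t) c.snd hcond
      rw [← h2]
      refine comp_congr G _ ?_ rfl
      rw [← hm1]
      exact comp_congr G _ rfl hm2.symm
    · rw [pullback.lift_snd]
      exact hm2

theorem main : (∀ φ : pullback G.t G.t ⟶ pullback G.s G.t,
    φ ≫ pullback.fst G.s G.t = pullback.fst G.t G.t →
    φ ≫ pullback.snd G.s G.t = pullback.lift (pullback.fst G.t G.t ≫ G.i) (pullback.snd G.t G.t)
      ((Category.assoc _ _ _).trans ((congrArg (fun x => pullback.fst G.t G.t ≫ x) G.i_s).trans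
        pullback.condition)) ≫ G.c →
    IsIso φ ∧ φ ≫ G.c = pullback.snd G.t G.t) ∧
    IsPullback G.c (pullback.snd G.s G.t) G.s G.s := by
  refine ⟨fun φ h1 h2 => ?_, isPullback_c G⟩
  have hφ : φ = φ₀ G := by
    apply pullback.hom_ext
    · rw [h1]
      exact (pullback.lift_fst _ _ _).symm
    · rw [h2]
      exact (pullback.lift_snd _ _ _).symm
  subst hφ
  exact ⟨⟨θ G, φ₀_θ G, θ_φ₀ G⟩, φ₀_c G⟩

end Aux

/-- Let (U, R, s, t, c) be a groupoid scheme over S. Let φ : R x_(t,U,t) R -> R x_(s,U,t) R be the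
morphism sending a pair (a, b) with the same target to (a, a^{-1} composed with b), that is, the
morphism whose first component is the first projection and whose second component is c applied to (i
composed after the first projection, second projection). Then φ is an isomorphism and composed with
c it gives the second projection. Moreover the square with sides c, the second projection R
x_(s,U,t) R -> R, s and s is cartesian. (A groupoid scheme carries U, R, s, t, c, e, i over S with
the groupoid axioms on T-points; c is defined on the fibre product of s and t and sends a pair (a,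
b) with s(a) = t(b) to a composed with b.) -/
theorem result (S : Scheme.{u}) (G : Grpd.GroupoidScheme S) : (∀ φ : pullback G.t G.t ⟶ pullback G.s G.t, φ ≫ pullback.fst G.s G.t = pullback.fst G.t G.t → φ ≫ pullback.snd G.s G.t = pullback.lift (pullback.fst G.t G.t ≫ G.i) (pullback.snd G.t G.t) ((Category.assoc _ _ _).trans ((congrArg (fun x => pullback.fst G.t G.t ≫ x) G.i_s).trans pullback.condition)) ≫ G.c → IsIso φ ∧ φ ≫ G.c = pullback.snd G.t G.t) ∧ IsPullback G.c (pullback.snd G.s G.t) G.s G.s := by
  exact Aux.main G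

end Groth.Agent.S7457
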