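import Groth.Statements.S1879
import Mathlib
import Groth.Prelude.Def_Grpd
import Groth.Agent.S1894
import Groth.Agent.S7457
-- import your own Groth.Agent.* helpers here

set_option autoImplicit false
universe u
open CategoryTheory CategoryTheory.Limits AlgebraicGeometry
open Grpd

namespace Groth.Agent.S1879

open CategoryTheory CategoryTheory.Limits AlgebraicGeometry
open TensorProduct Polynomial
namespace Aux

section CH
variable {A B : Type u} [CommRing A] [CommRing B] [Algebra A B] {n : ℕ}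
  (p : (Fin n → A) →ₗ[A] B) (i : B →ₗ[A] (Fin n → A)) (hpi : p ∘ₗ i = LinearMap.id)

include hpi in
lemma p_pow (b : B) (k : ℕ) :
    p ∘ₗ ((i ∘ₗ LinearMap.mulLeft A b ∘ₗ p) ^ k) = ((LinearMap.mulLeft A b) ^ k) ∘ₗ p := by
  induction k with
  | zero => simp [Module.End.one_eq_id]
  | succ k ih =>
    rw [pow_succ', Module.End.mul_eq_comp, ← LinearMap.comp_assoc, ← LinearMap.comp_assoc,
      hpi, LinearMap.id_comp, LinearMap.comp_assoc, ih, pow_succ', Module.End.mul_eq_comp,
      LinearMap.comp_assoc]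

include hpi in
lemma p_aeval_i (b : B) (q : A[X]) :
    p ∘ₗ (aeval (i ∘ₗ LinearMap.mulLeft A b ∘ₗ p) q) ∘ₗ i = aeval (LinearMap.mulLeft A b) q := by
  induction q using Polynomial.induction_on' with
  | add q r hq hr =>
    rw [map_add, map_add, LinearMap.add_comp, LinearMap.comp_add, hq, hr]
  | monomial k a =>
    rw [← C_mul_X_pow_eq_monomial, map_mul, map_mul, map_pow, map_pow, aeval_C, aeval_C, aeval_X,
      aeval_X]
    rw [Algebra.algebraMap_eq_smul_one, Algebra.algebraMap_eq_smul_one, smul_mul_assoc,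
      smul_mul_assoc, one_mul, one_mul, LinearMap.smul_comp, LinearMap.comp_smul,
      ← LinearMap.comp_assoc, p_pow p i hpi, LinearMap.comp_assoc, hpi, LinearMap.comp_id]

include hpi in
theorem aeval_charpoly_eq_zero (b : B) :
    aeval b (LinearMap.toMatrix' (i ∘ₗ LinearMap.mulLeft A b ∘ₗ p)).charpoly = 0 := by
  set Φ := i ∘ₗ LinearMap.mulLeft A b ∘ₗ p with hΦ
  have h1 : (LinearMap.toMatrix' Φ).charpoly = Φ.charpoly := by
    rw [← LinearMap.toMatrix_eq_toMatrix', LinearMap.charpoly_toMatrix]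
  rw [h1]
  have h2 := LinearMap.aeval_self_charpoly Φ
  have h3 := p_aeval_i p i hpi b Φ.charpoly
  rw [h2, LinearMap.zero_comp, LinearMap.comp_zero] at h3
  have h4 : aeval (LinearMap.mulLeft A b) Φ.charpoly =
      LinearMap.mulLeft A (aeval b Φ.charpoly) := by
    have := Polynomial.aeval_algHom_apply (Algebra.lmul A B) b Φ.charpoly
    exact this
  rw [h4] at h3
  have := LinearMap.congr_fun h3 1
  simpa using this.symm

end CH
section tens
variable {R S T : Type u} [CommRing R] [CommRing S] [CommRing T] [Algebra R S] [Algebra R T]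
  {n : ℕ}

/-- the identification `T ⊗ Rⁿ = Tⁿ` -/
noncomputable def κ (R T : Type u) [CommRing R] [CommRing T] [Algebra R T] (n : ℕ) :
    T ⊗[R] (Fin n → R) ≃ₗ[T] (Fin n → T) :=
  (Algebra.TensorProduct.basis T (Pi.basisFun R (Fin n))).equivFun

lemma toMatrix'_κ (F : (Fin n → R) →ₗ[R] (Fin n → R)) :
    LinearMap.toMatrix' ((κ R T n).toLinearMap ∘ₗ F.baseChange T ∘ₗ (κ R T n).symm.toLinearMap) =
      (LinearMap.toMatrix' F).map (algebraMap R T) := by
  have h0 : (LinearMap.toMatrix' F).map (algebraMap R T) =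
      LinearMap.toMatrix (Algebra.TensorProduct.basis T (Pi.basisFun R (Fin n)))
        (Algebra.TensorProduct.basis T (Pi.basisFun R (Fin n))) (F.baseChange T) := by
    rw [LinearMap.toMatrix_baseChange]
    rfl
  rw [h0]
  ext j k
  rw [LinearMap.toMatrix'_apply, LinearMap.toMatrix_apply]
  simp only [LinearMap.coe_comp, LinearEquiv.coe_coe, Function.comp_apply]
  have h1 : (κ R T n).symm (Pi.single k 1) =
      Algebra.TensorProduct.basis T (Pi.basisFun R (Fin n)) k := by
    apply (κ R T n).injective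
    rw [LinearEquiv.apply_symm_apply]
    ext j'
    show _ = (Algebra.TensorProduct.basis T (Pi.basisFun R (Fin n))).equivFun _ j'
    rw [Module.Basis.equivFun_apply, Module.Basis.repr_self, Finsupp.single_apply, Pi.single_apply]
    simp [eq_comm]
  rw [h1]
  rfl

lemma mulLeft_baseChange (b : S) :
    (LinearMap.mulLeft R b).baseChange T = LinearMap.mulLeft T ((1 : T) ⊗ₜ[R] b) := by
  ext y
  simp

end tens

/-- base change of a presentation `p ∘ i = id` of a module along a pushout of rings, in matrix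
form -/
lemma pres_of_isPushout {R S T P : CommRingCat.{u}} {f : R ⟶ S} {g : R ⟶ T}
    {inl : S ⟶ P} {inr : T ⟶ P} (h : CategoryTheory.IsPushout f g inl inr) {n : ℕ}
    (p : letI := f.hom.toAlgebra; (Fin n → R) →ₗ[R] S)
    (i : letI := f.hom.toAlgebra; S →ₗ[R] (Fin n → R))
    (hpi : letI := f.hom.toAlgebra; p ∘ₗ i = LinearMap.id) :
    letI := f.hom.toAlgebra
    letI := inr.hom.toAlgebra
    ∃ (p' : (Fin n → T) →ₗ[T] P) (i' : P →ₗ[T] (Fin n → T)), p' ∘ₗ i' = LinearMap.id ∧
      ∀ b : S, LinearMap.toMatrix' (i' ∘ₗ LinearMap.mulLeft T (inl.hom b) ∘ₗ p') =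
        (LinearMap.toMatrix' (i ∘ₗ LinearMap.mulLeft R b ∘ₗ p)).map g.hom := by
  algebraize [f.hom, g.hom, inl.hom, inr.hom, inl.hom.comp f.hom]
  have : IsScalarTower R T P := .of_algebraMap_eq' <| congr($(h.1.1).hom)
  have h1 : Algebra.IsPushout R S T P := CommRingCat.isPushout_iff_isPushout.mp h
  have h2 : Algebra.IsPushout R T S P := h1.symm
  let e : T ⊗[R] S ≃ₐ[T] P := Algebra.IsPushout.equiv R T S P
  have he : ∀ x : S, e ((1 : T) ⊗ₜ x) = inl.hom x := by
    intro x
    show Algebra.IsPushout.equiv R T S P ((1 : T) ⊗ₜ x) = inl.hom x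
    rw [Algebra.IsPushout.equiv_tmul, map_one, one_mul]
    rfl
  let eL : T ⊗[R] S ≃ₗ[T] P := e.toLinearEquiv
  refine ⟨eL.toLinearMap ∘ₗ p.baseChange T ∘ₗ (κ R T n).symm.toLinearMap,
    (κ R T n).toLinearMap ∘ₗ i.baseChange T ∘ₗ eL.symm.toLinearMap, ?_, ?_⟩
  · ext y
    simp only [LinearMap.coe_comp, LinearEquiv.coe_coe, Function.comp_apply,
      LinearEquiv.symm_apply_apply, LinearMap.id_coe, id_eq]
    have : (p.baseChange T) ((i.baseChange T) (eL.symm y)) = eL.symm y := by
      rw [← LinearMap.comp_apply, ← LinearMap.baseChange_comp, hpi, LinearMap.baseChange_id]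
      rfl
    rw [this, LinearEquiv.apply_symm_apply]
  · intro b
    change _ = (LinearMap.toMatrix' (i ∘ₗ LinearMap.mulLeft R b ∘ₗ p)).map (algebraMap R T)
    rw [← toMatrix'_κ (T := T) (i ∘ₗ LinearMap.mulLeft R b ∘ₗ p)]
    congr 1
    have key : ∀ z, eL.symm (inl.hom b * eL z) = (LinearMap.mulLeft R b).baseChange T z := by
      intro z
      rw [mulLeft_baseChange]
      apply eL.injective
      rw [LinearEquiv.apply_symm_apply]
      show inl.hom b * e z = e (((1 : T) ⊗ₜ[R] b) * z)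
      rw [map_mul, he]
    apply LinearMap.ext
    intro v
    simp only [LinearMap.coe_comp, LinearEquiv.coe_coe, Function.comp_apply,
      LinearMap.baseChange_comp, LinearMap.mulLeft_apply]
    rw [key]

variable {S : Scheme.{u}} (G : Grpd.GroupoidScheme S)
open Groth.Agent.S1894.Aux Groth.Agent.S7457.Aux

theorem main [IsAffine G.U] [IsAffine G.R] [IsFinite G.s] [Flat G.s] [LocallyOfFinitePresentation G.s] [IsFinite G.t] [Flat G.t] [LocallyOfFinitePresentation G.t] : Algebra.IsIntegral G.invariants Γ(G.U, ⊤) := by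
  letI := G.s.appTop.hom.toAlgebra
  letI := (pullback.snd G.s G.t).appTop.hom.toAlgebra
  have hfin : Module.Finite Γ(G.U, ⊤) Γ(G.R, ⊤) := G.s.finite_appTop
  have hflat : Module.Flat Γ(G.U, ⊤) Γ(G.R, ⊤) := G.s.flat_appTop
  have hfp : Algebra.FinitePresentation Γ(G.U, ⊤) Γ(G.R, ⊤) := G.s.finitePresentation_appTop
  have hmfp : Module.FinitePresentation Γ(G.U, ⊤) Γ(G.R, ⊤) :=
    Module.FinitePresentation.of_finite_of_finitePresentation _ _
  have hproj : Module.Projective Γ(G.U, ⊤) Γ(G.R, ⊤) := Module.Flat.projective_of_finitePresentation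
  obtain ⟨n, p, i, -, -, hpi⟩ := Module.Finite.exists_comp_eq_id_of_projective Γ(G.U, ⊤) Γ(G.R, ⊤)
  have sq1 := isPushout_appTop_of_isPullback (IsPullback.of_hasPullback G.s G.t)
  have sq2 := isPushout_appTop_of_isPullback (isPullback_c G)
  obtain ⟨pα, iα, hα, hαm⟩ := pres_of_isPushout sq1 p i hpi
  obtain ⟨pβ, iβ, hβ, hβm⟩ := pres_of_isPushout sq2 p i hpi
  have h_es : ∀ a, G.e.appTop.hom (G.s.appTop.hom a) = a := by
    intro a
    have h1 := congrArg (fun φ : G.U ⟶ G.U => φ.appTop.hom a) G.e_s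
    simp only [Scheme.Hom.comp_appTop, CommRingCat.hom_comp, RingHom.coe_comp,
      Function.comp_apply] at h1
    simpa using h1
  have h_et : ∀ a, G.e.appTop.hom (G.t.appTop.hom a) = a := by
    intro a
    have h1 := congrArg (fun φ : G.U ⟶ G.U => φ.appTop.hom a) G.e_t
    simp only [Scheme.Hom.comp_appTop, CommRingCat.hom_comp, RingHom.coe_comp,
      Function.comp_apply] at h1
    simpa using h1
  have h_ct : ∀ a, G.c.appTop.hom (G.t.appTop.hom a) =
      (pullback.fst G.s G.t).appTop.hom (G.t.appTop.hom a) := by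
    intro a
    have h1 := congrArg (fun φ : pullback G.s G.t ⟶ G.U => φ.appTop.hom a) (c_t G)
    simp only [Scheme.Hom.comp_appTop, CommRingCat.hom_comp, RingHom.coe_comp,
      Function.comp_apply] at h1
    exact h1
  constructor
  intro f
  rcases subsingleton_or_nontrivial Γ(G.U, ⊤) with hsub | hnon
  · rw [Subsingleton.elim f 0]
    exact isIntegral_zero
  set b := G.t.appTop.hom f with hb
  set M := LinearMap.toMatrix' (i ∘ₗ LinearMap.mulLeft Γ(G.U, ⊤) b ∘ₗ p) with hM
  set ψ := M.charpoly with hψ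
  have hmonic : ψ.Monic := Matrix.charpoly_monic M
  -- (I) ψ(f) = 0
  have hroot : ψ.eval f = 0 := by
    have h1 := aeval_charpoly_eq_zero p i hpi b
    rw [← hM, ← hψ, aeval_def] at h1
    have h2 := congrArg G.e.appTop.hom h1
    rw [Polynomial.hom_eval₂, map_zero] at h2
    have h3 : (G.e.appTop.hom.comp (algebraMap Γ(G.U, ⊤) Γ(G.R, ⊤))) = RingHom.id _ :=
      RingHom.ext h_es
    rw [h3, hb, h_et] at h2
    rw [← Polynomial.eval₂_id] 
    exact h2
  -- (II) invariance
  have hinv : ψ.map G.s.appTop.hom = ψ.map G.t.appTop.hom := by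
    rw [hψ, ← Matrix.charpoly_map, ← Matrix.charpoly_map, ← hαm b, ← hβm b, h_ct f]
    set q := (pullback.fst G.s G.t).appTop.hom (G.t.appTop.hom f) with hq
    have e1 : iβ ∘ₗ LinearMap.mulLeft Γ(G.R, ⊤) q ∘ₗ pβ =
        (iβ ∘ₗ pα) ∘ₗ (iα ∘ₗ LinearMap.mulLeft Γ(G.R, ⊤) q ∘ₗ pβ) := by
      have : (iβ ∘ₗ pα) ∘ₗ (iα ∘ₗ LinearMap.mulLeft Γ(G.R, ⊤) q ∘ₗ pβ) =
          iβ ∘ₗ (pα ∘ₗ iα) ∘ₗ LinearMap.mulLeft Γ(G.R, ⊤) q ∘ₗ pβ := by
        simp only [LinearMap.comp_assoc]
      rw [this, hα, LinearMap.id_comp]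
    have e2 : iα ∘ₗ LinearMap.mulLeft Γ(G.R, ⊤) q ∘ₗ pα =
        (iα ∘ₗ LinearMap.mulLeft Γ(G.R, ⊤) q ∘ₗ pβ) ∘ₗ (iβ ∘ₗ pα) := by
      have : (iα ∘ₗ LinearMap.mulLeft Γ(G.R, ⊤) q ∘ₗ pβ) ∘ₗ (iβ ∘ₗ pα) =
          iα ∘ₗ LinearMap.mulLeft Γ(G.R, ⊤) q ∘ₗ (pβ ∘ₗ iβ) ∘ₗ pα := by
        simp only [LinearMap.comp_assoc]
      rw [this, hβ, LinearMap.id_comp]
    rw [e1, e2, LinearMap.toMatrix'_comp, LinearMap.toMatrix'_comp, Matrix.charpoly_mul_comm]
  -- conclude
  have hlifts : ψ ∈ Polynomial.lifts (algebraMap G.invariants Γ(G.U, ⊤)) := by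
    rw [Polynomial.lifts_iff_coeff_lifts]
    intro k
    have hk := congrArg (fun r => r.coeff k) hinv
    simp only [Polynomial.coeff_map] at hk
    exact ⟨⟨ψ.coeff k, hk⟩, rfl⟩
  obtain ⟨ψC, hψC, -, hψCm⟩ := Polynomial.lifts_and_degree_eq_and_monic hlifts hmonic
  refine ⟨ψC, hψCm, ?_⟩
  rw [← Polynomial.eval_map, hψC]
  exact hroot

end Aux

/-- Let (U, R, s, t, c) be a groupoid scheme with U, R affine and s, t finite locally free. Then Γ(U) is
integral over the subring C of R-invariant functions. (A groupoid scheme carries U, R, s, t, c, e, i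
over S with the groupoid axioms on T-points; 'finite locally free' is finite, flat and locally of
finite presentation; C ⊂ Γ(U) is the ring of functions a with s♯(a) = t♯(a) and M = Spec C.) -/
theorem result (S : Scheme.{u}) (G : Grpd.GroupoidScheme S) [IsAffine G.U] [IsAffine G.R] [IsFinite G.s] [Flat G.s] [LocallyOfFinitePresentation G.s] [IsFinite G.t] [Flat G.t] [LocallyOfFinitePresentation G.t] : Algebra.IsIntegral G.invariants Γ(G.U, ⊤) := by
  exact Aux.main G

end Groth.Agent.S1879
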