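import Groth.Statements.S7486
import Mathlib
import Groth.Prelude.Def_Grpd
import Groth.Agent.S1894
-- import your own Groth.Agent.* helpers here

set_option autoImplicit false
universe u
open CategoryTheory CategoryTheory.Limits AlgebraicGeometry
open Grpd

namespace Groth.Agent.S7486

open CategoryTheory CategoryTheory.Limits AlgebraicGeometry
open TensorProduct
namespace Aux

section core
variable {A B P : Type u} [CommRing A] [CommRing B] [CommRing P] [Algebra A B] [Algebra B P]
  (t : A →+* B) (p0 c : B →+* P) (e : B →+* A)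
  {I : Type u} (x : I → A) (b : Module.Basis I A B) (b' : Module.Basis I B P)

lemma repr_of_hom (q : B →+* P) (σ : A →+* B)
    (hq1 : ∀ a, q (algebraMap A B a) = algebraMap B P (σ a)) (hq2 : ∀ i, q (b i) = b' i)
    (v : I →₀ A) :
    q (Finsupp.linearCombination A b v) =
      Finsupp.linearCombination B b' (v.mapRange σ (map_zero σ)) := by
  induction v using Finsupp.induction_linear with
  | zero => simp
  | add f g hf hg => rw [map_add, map_add, hf, hg, Finsupp.mapRange_add (map_add σ), map_add]
  | single i a =>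
    rw [Finsupp.mapRange_single, Finsupp.linearCombination_single,
      Finsupp.linearCombination_single, Algebra.smul_def, map_mul, hq1, hq2, Algebra.smul_def]

lemma e_lin (h_es : ∀ a, e (algebraMap A B a) = a) (he : ∀ i, e (b i) = x i) (v : I →₀ A) :
    e (Finsupp.linearCombination A b v) = Finsupp.linearCombination A x v := by
  induction v using Finsupp.induction_linear with
  | zero => simp
  | add f g hf hg => rw [map_add, map_add, hf, hg, map_add]
  | single i a =>
    rw [Finsupp.linearCombination_single, Finsupp.linearCombination_single, Algebra.smul_def,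
      map_mul, h_es, he, smul_eq_mul]

variable (h_pr : ∀ a, p0 (algebraMap A B a) = algebraMap B P (t a))
  (h_cs : ∀ a, c (algebraMap A B a) = algebraMap B P (algebraMap A B a))
  (h_ct : ∀ a, c (t a) = p0 (t a))
  (h_es : ∀ a, e (algebraMap A B a) = a) (h_et : ∀ a, e (t a) = a)
  (hb : ∀ i, b i = t (x i)) (hb' : ∀ i, b' i = p0 (b i))

include h_pr h_cs h_ct hb hb' in
lemma coords_inv (a : A) (i : I) :
    algebraMap A B (b.repr (t a) i) = t (b.repr (t a) i) := by
  set v := b.repr (t a) with hv
  have hta : Finsupp.linearCombination A b v = t a := b.linearCombination_repr (t a)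
  have h1 := repr_of_hom b b' p0 t h_pr (fun i => (hb' i).symm) v
  have h2 := repr_of_hom b b' c (algebraMap A B) h_cs
    (fun i => by rw [hb' i, hb i, h_ct]) v
  rw [hta] at h1 h2
  rw [h_ct, h1] at h2
  have h3 := b'.linearIndependent h2
  have := DFunLike.congr_fun h3 i
  simpa using this.symm


include h_pr h_cs h_ct h_es h_et hb hb' in
lemma span_top : ⊤ ≤ Submodule.span (RingHom.eqLocus (algebraMap A B) t) (Set.range x) := by
  intro a _
  set v := b.repr (t a) with hv
  have hta : Finsupp.linearCombination A b v = t a := b.linearCombination_repr (t a)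
  have h1 := e_lin e x b h_es (fun i => by rw [hb i, h_et]) v
  rw [hta, h_et] at h1
  rw [h1, Finsupp.linearCombination_apply, Finsupp.sum]
  refine Submodule.sum_mem _ (fun i _ => ?_)
  have hi : v i ∈ RingHom.eqLocus (algebraMap A B) t :=
    coords_inv t p0 c x b b' h_pr h_cs h_ct hb hb' a i
  have : v i • x i = (⟨v i, hi⟩ : RingHom.eqLocus (algebraMap A B) t) • x i := rfl
  rw [this]
  exact Submodule.smul_mem _ _ (Submodule.subset_span ⟨i, rfl⟩)

include hb in
lemma linIndep : LinearIndependent (RingHom.eqLocus (algebraMap A B) t) x := by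
  rw [linearIndependent_iff]
  intro l hl
  have h1 : Finsupp.linearCombination A b
      (l.mapRange (RingHom.eqLocus (algebraMap A B) t).subtype (map_zero _)) = 0 := by
    have h2 := congrArg t hl
    rw [map_zero, Finsupp.linearCombination_apply, Finsupp.sum, map_sum] at h2
    rw [Finsupp.linearCombination_apply, Finsupp.sum_mapRange_index (by simp), Finsupp.sum]
    rw [← h2]
    refine Finset.sum_congr rfl (fun i _ => ?_)
    have hc : algebraMap A B (l i : A) = t (l i : A) := (l i).2
    show ((l i : A)) • b i = t ((l i) • x i)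
    rw [Algebra.smul_def, hc, hb i, ← map_mul]
    rfl
  have h3 := (linearIndependent_iff.1 b.linearIndependent) _ h1
  ext i
  have := DFunLike.congr_fun h3 i
  simpa using this


include hb in
theorem part2 (C : Subring A) (hC : ∀ c : C, algebraMap A B (c : A) = t (c : A))
    (bC : Module.Basis I C A)
    (hbC : ∀ i, bC i = x i)
    (φ : A ⊗[C] A → B)
    (hadd : ∀ y z, φ (y + z) = φ y + φ z) (hzero : φ 0 = 0)
    (hφ : ∀ a a', φ (a ⊗ₜ a') = t a * algebraMap A B a') : Function.Bijective φ := by
  let bT : Module.Basis I A (A ⊗[C] A) := Algebra.TensorProduct.basis A bC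
  let Λ : A ⊗[C] A ≃ₗ[A] B := bT.equiv b (Equiv.refl I)
  have hΛ1 : ∀ i, Λ (1 ⊗ₜ x i) = t (x i) := by
    intro i
    have : bT i = 1 ⊗ₜ x i := by rw [Algebra.TensorProduct.basis_apply, hbC]
    rw [← this, Module.Basis.equiv_apply, Equiv.refl_apply, hb]
  let σ : C →+* B := (algebraMap A B).comp C.subtype
  let L₁ : A →ₛₗ[σ] B :=
    { toFun := fun a => Λ (1 ⊗ₜ a)
      map_add' := fun a a' => by rw [TensorProduct.tmul_add, map_add]
      map_smul' := fun c a => by
        have h1 : (1 : A) ⊗ₜ[C] (c • a) = (c : A) • ((1 : A) ⊗ₜ[C] a) := by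
          rw [← TensorProduct.smul_tmul, TensorProduct.smul_tmul']
          rfl
        rw [h1, map_smul, Algebra.smul_def]
        rfl }
  let L₂ : A →ₛₗ[σ] B :=
    { toFun := fun a => t a
      map_add' := fun a a' => map_add t a a'
      map_smul' := fun c a => by
        have hc : algebraMap A B (c : A) = t (c : A) := hC c
        show t ((c : A) * a) = algebraMap A B (c : A) * t a
        rw [map_mul, hc] }
  have hL : L₁ = L₂ := bC.ext (fun i => by
    show Λ (1 ⊗ₜ bC i) = t (bC i)
    rw [hbC]; exact hΛ1 i)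
  have hΛ : ∀ a' a, Λ (a' ⊗ₜ a) = algebraMap A B a' * t a := by
    intro a' a
    have : a' ⊗ₜ[C] a = a' • ((1 : A) ⊗ₜ[C] a) := by
      rw [TensorProduct.smul_tmul', smul_eq_mul, mul_one]
    rw [this, map_smul, Algebra.smul_def]
    congr 1
    exact DFunLike.congr_fun hL a
  have hφΛ : ∀ y, φ y = Λ (TensorProduct.comm C A A y) := by
    intro y
    induction y using TensorProduct.induction_on with
    | zero => rw [hzero, map_zero, map_zero]
    | tmul a a' => rw [hφ, TensorProduct.comm_tmul, hΛ, mul_comm]
    | add y z hy hz => rw [hadd, hy, hz, map_add, map_add]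
  have : φ = ⇑Λ ∘ ⇑(TensorProduct.comm C A A) := funext hφΛ
  rw [this]
  exact Λ.bijective.comp (TensorProduct.comm C A A).bijective

end core

/-- base change of a basis along a pushout of commutative rings -/
lemma basis_of_isPushout {R S T P : CommRingCat.{u}} {f : R ⟶ S} {g : R ⟶ T}
    {inl : S ⟶ P} {inr : T ⟶ P} (h : CategoryTheory.IsPushout f g inl inr) {I : Type u}
    (b : letI := f.hom.toAlgebra; Module.Basis I R S) :
    letI := f.hom.toAlgebra
    letI := inr.hom.toAlgebra
    ∃ b' : Module.Basis I T P, ∀ i, b' i = inl.hom (b i) := by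
  algebraize [f.hom, g.hom, inl.hom, inr.hom, inl.hom.comp f.hom]
  have : IsScalarTower R T P := .of_algebraMap_eq' <| congr($(h.1.1).hom)
  have h1 : Algebra.IsPushout R S T P := CommRingCat.isPushout_iff_isPushout.mp h
  have h2 : Algebra.IsPushout R T S P := h1.symm
  let e : T ⊗[R] S ≃ₐ[T] P := Algebra.IsPushout.equiv R T S P
  have he : ∀ x : S, e ((1 : T) ⊗ₜ x) = inl.hom x := by
    intro x
    show Algebra.IsPushout.equiv R T S P ((1 : T) ⊗ₜ x) = inl.hom x
    rw [Algebra.IsPushout.equiv_tmul, map_one, one_mul]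
    rfl
  refine ⟨(Algebra.TensorProduct.basis T b).map e.toLinearEquiv, fun i => ?_⟩
  rw [Module.Basis.map_apply, Algebra.TensorProduct.basis_apply]
  exact he (b i)

open Groth.Agent.S1894.Aux

theorem main (S : Scheme.{u}) (G : Grpd.GroupoidScheme S) [IsAffine G.U] [IsAffine G.R] (I : Type u) (x : I → Γ(G.U, ⊤)) (hB : letI := G.s.appTop.hom.toAlgebra; ∃ b : Module.Basis I Γ(G.U, ⊤) Γ(G.R, ⊤), ∀ i, b i = G.t.appTop.hom (x i)) : (∃ b : Module.Basis I G.invariants Γ(G.U, ⊤), ∀ i, b i = x i) ∧ (letI := (G.s.appTop.hom.comp G.invariants.subtype).toAlgebra; ∀ φ : TensorProduct G.invariants Γ(G.U, ⊤) Γ(G.U, ⊤) →ₗ[G.invariants] Γ(G.R, ⊤), (∀ a a' : Γ(G.U, ⊤), φ (a ⊗ₜ[G.invariants] a') = G.t.appTop.hom a * G.s.appTop.hom a') → Function.Bijective φ) := by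
  letI := G.s.appTop.hom.toAlgebra
  letI := (pullback.snd G.s G.t).appTop.hom.toAlgebra
  obtain ⟨b, hb⟩ := hB
  have sq1 := isPushout_appTop_of_isPullback (IsPullback.of_hasPullback G.s G.t)
  obtain ⟨b', hb'⟩ := basis_of_isPushout sq1 b
  have h_pr : ∀ a, (pullback.fst G.s G.t).appTop.hom (G.s.appTop.hom a) =
      (pullback.snd G.s G.t).appTop.hom (G.t.appTop.hom a) := by
    intro a
    have h1 := congrArg (fun φ : pullback G.s G.t ⟶ G.U => φ.appTop.hom a)
      (pullback.condition (f := G.s) (g := G.t))
    simp only [Scheme.Hom.comp_appTop, CommRingCat.hom_comp, RingHom.coe_comp,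
      Function.comp_apply] at h1
    exact h1
  have h_cs : ∀ a, G.c.appTop.hom (G.s.appTop.hom a) =
      (pullback.snd G.s G.t).appTop.hom (G.s.appTop.hom a) := by
    intro a
    have h1 := congrArg (fun φ : pullback G.s G.t ⟶ G.U => φ.appTop.hom a) (c_s G)
    simp only [Scheme.Hom.comp_appTop, CommRingCat.hom_comp, RingHom.coe_comp,
      Function.comp_apply] at h1
    exact h1
  have h_ct : ∀ a, G.c.appTop.hom (G.t.appTop.hom a) =
      (pullback.fst G.s G.t).appTop.hom (G.t.appTop.hom a) := by
    intro a
    have h1 := congrArg (fun φ : pullback G.s G.t ⟶ G.U => φ.appTop.hom a) (c_t G)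
    simp only [Scheme.Hom.comp_appTop, CommRingCat.hom_comp, RingHom.coe_comp,
      Function.comp_apply] at h1
    exact h1
  have h_es : ∀ a, G.e.appTop.hom (G.s.appTop.hom a) = a := by
    intro a
    have h1 := congrArg (fun φ : G.U ⟶ G.U => φ.appTop.hom a) G.e_s
    simp only [Scheme.Hom.comp_appTop, CommRingCat.hom_comp, RingHom.coe_comp,
      Function.comp_apply] at h1
    simpa using h1
  have h_et : ∀ a, G.e.appTop.hom (G.t.appTop.hom a) = a := by
    intro a
    have h1 := congrArg (fun φ : G.U ⟶ G.U => φ.appTop.hom a) G.e_t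
    simp only [Scheme.Hom.comp_appTop, CommRingCat.hom_comp, RingHom.coe_comp,
      Function.comp_apply] at h1
    simpa using h1
  have hli := linIndep G.t.appTop.hom x b hb
  have hsp := span_top G.t.appTop.hom (pullback.fst G.s G.t).appTop.hom G.c.appTop.hom
    G.e.appTop.hom x b b' h_pr h_cs h_ct h_es h_et hb hb'
  let bC : Module.Basis I G.invariants Γ(G.U, ⊤) := Module.Basis.mk hli hsp
  have hbC : ∀ i, bC i = x i := fun i => Module.Basis.mk_apply hli hsp i
  refine ⟨⟨bC, hbC⟩, ?_⟩
  intro φ hφ
  exact part2 G.t.appTop.hom x b hb G.invariants (fun c => c.2) bC hbC φ (map_add φ) (map_zero φ) hφ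

end Aux

/-- Let (U, R, s, t, c) be a groupoid scheme over S with U = Spec A and R = Spec B affine (A, B the
rings of global functions), and let x_i, i in I, be elements of A such that B is free as an A-module
through s^# with basis the elements t^#(x_i). Let C be the subring of R-invariant functions (those a
with s^#(a) = t^#(a)). Then the x_i form a basis of A as a C-module, and the C-linear map A (x)_C A
-> B sending a (x) a' to t^#(a) s^#(a') is bijective (B carries the C-module structure through s^#).
(A groupoid scheme carries U, R, s, t, c, e, i over S with the groupoid axioms on T-points; c is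
defined on the fibre product of s and t and sends a pair (a, b) with s(a) = t(b) to a composed with
b.) -/
theorem result (S : Scheme.{u}) (G : Grpd.GroupoidScheme S) [IsAffine G.U] [IsAffine G.R] (I : Type u) (x : I → Γ(G.U, ⊤)) (hB : letI := G.s.appTop.hom.toAlgebra; ∃ b : Module.Basis I Γ(G.U, ⊤) Γ(G.R, ⊤), ∀ i, b i = G.t.appTop.hom (x i)) : (∃ b : Module.Basis I G.invariants Γ(G.U, ⊤), ∀ i, b i = x i) ∧ (letI := (G.s.appTop.hom.comp G.invariants.subtype).toAlgebra; ∀ φ : TensorProduct G.invariants Γ(G.U, ⊤) Γ(G.U, ⊤) →ₗ[G.invariants] Γ(G.R, ⊤), (∀ a a' : Γ(G.U, ⊤), φ (a ⊗ₜ[G.invariants] a') = G.t.appTop.hom a * G.s.appTop.hom a') → Function.Bijective φ) := by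
  exact Aux.main S G I x hB

end Groth.Agent.S7486
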