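import Groth.Statements.S10428
import Groth.Agent.Lib.Helper2.AlgSp.UBSp


set_option autoImplicit false
universe u
open CategoryTheory CategoryTheory.Limits AlgebraicGeometry Topology TopologicalSpace
open AlgSp

namespace Groth.Agent.S10428

/-- Let X be an algebraic space over a scheme S and φ : U ⟶ X a morphism from a scheme with universally
bounded fibres. Then for some integer n, every fibre of |U| → |X| contains at most n elements. -/
theorem result {S : Scheme.{u}} (X : AlgSp.Space S) {U : Over S}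
    (φ : (AlgSp.yon S).obj U ⟶ X.obj) (hφ : W4dec.HasUnivBddFibres φ) :
    ∃ n : ℕ, ∀ x : AlgSp.Points X.obj, (AlgSp.Points.ofPt φ ⁻¹' {x}).encard ≤ n := by
  obtain ⟨n, hn⟩ := hφ
  refine ⟨n, fun x => ?_⟩
  rw [Groth.Agent.Helper2.UBSp.degFibresLE_iff] at hn
  by_cases hne : (AlgSp.Points.ofPt φ ⁻¹' {x}).Nonempty
  swap
  · rw [Set.not_nonempty_iff_eq_empty] at hne
    rw [hne, Set.encard_empty]
    exact zero_le
  obtain ⟨u₀, hu₀⟩ := hne
  let str : Spec (CommRingCat.of ↑(U.left.residueField u₀)) ⟶ S :=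
    U.left.fromSpecResidueField u₀ ≫ U.hom
  let ι₀ : Over.mk str ⟶ U := Over.homMk (U.left.fromSpecResidueField u₀) rfl
  obtain ⟨W, fst, snd, sq⟩ := Groth.Agent.Helper2.AlgSpBasic.exists_isPullback_yon
    X.property.diag ((AlgSp.yon S).map ι₀ ≫ φ) φ
  have hd := hn _ str ((AlgSp.yon S).map ι₀ ≫ φ) W fst ((AlgSp.yon S).map snd) sq
  obtain ⟨hfin, hcard⟩ := Groth.Agent.Helper2.UBAlg.card_le_of_degLE fst.left hd
  haveI := hfin
  have hsub : AlgSp.Points.ofPt φ ⁻¹' {x} ⊆ Set.range snd.left := by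
    intro u hu
    let cu : ↥(Over.mk str).left := IsLocalRing.closedPoint ↥(U.left.residueField u₀)
    have e : AlgSp.Points.ofPt ((AlgSp.yon S).map ι₀ ≫ φ) cu = AlgSp.Points.ofPt φ u := by
      rw [Groth.Agent.Helper2.AlgSpBasic.ofPt_yon_map_comp]
      have h1 : ι₀.left cu = u₀ := Scheme.fromSpecResidueField_apply u₀ cu
      rw [h1]
      exact hu₀.trans hu.symm
    obtain ⟨w, -, hw⟩ := Groth.Agent.Helper2.AlgSpBasic.exists_point_of_isPullback_yon
      ((AlgSp.yon S).map ι₀ ≫ φ) φ fst snd sq cu u e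
    exact ⟨w, hw⟩
  calc (AlgSp.Points.ofPt φ ⁻¹' {x}).encard ≤ (Set.range snd.left).encard := Set.encard_mono hsub
    _ ≤ (Set.univ : Set ↥W.left).encard := by
      rw [← Set.image_univ]; exact Set.encard_image_le _ _
    _ = (Nat.card ↥W.left : ℕ∞) := by
      rw [Set.encard_univ, ENat.card_eq_coe_natCard]
    _ ≤ n := by exact_mod_cast hcard

end Groth.Agent.S10428
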