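import Groth.Statements.S10267
import Mathlib
import Groth.Agent.Lib.Helper2.AlgSp.ZarGlue

open CategoryTheory CategoryTheory.Limits AlgebraicGeometry Opposite AlgSp
open Groth.Agent.Helper2.AlgSpBasic

set_option autoImplicit false
universe u
open CategoryTheory CategoryTheory.Limits AlgebraicGeometry
open AlgSp

namespace Groth.Agent.S10267

/-- (1) ⇔ (2): a morphism of algebraic spaces is integral (resp. finite), tested on affine schemes over
the target, if and only if it is representable with integral (resp. finite) base changes to all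
schemes. -/
theorem result {S : Scheme.{u}} {X Y : AlgSp.Space S} (f : X ⟶ Y) :
    (AlgSp.IsIntegralMor f.hom ↔ AlgSp.RepWith @IsIntegralHom f.hom) ∧
    (AlgSp.IsFiniteMor f.hom ↔ AlgSp.RepWith @IsFinite f.hom) := by
  refine ⟨⟨fun hf => ?_, fun h => ?_⟩, ⟨fun hf => ?_, fun h => ?_⟩⟩
  · apply Groth.Agent.Helper2.ZarGlue.repWith_of_affine @IsIntegralHom f.hom
    intro Z hZ g
    obtain ⟨W, i, fst, sq, hW, hi⟩ := hf hZ g
    exact ⟨W, i, fst, sq, hi⟩
  · intro Z hZ g
    have hrep : Representable f.hom := h.rep
    have hi : IsIntegralHom (hrep.snd g).left := h.property g _ _ (hrep.isPullback g)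
    haveI := hZ
    exact ⟨hrep.pullback g, hrep.snd g, hrep.fst g, hrep.isPullback g,
      isAffine_of_isAffineHom (hrep.snd g).left, hi⟩
  · apply Groth.Agent.Helper2.ZarGlue.repWith_of_affine @IsFinite f.hom
    intro Z hZ g
    obtain ⟨W, i, fst, sq, hW, hi⟩ := hf hZ g
    exact ⟨W, i, fst, sq, hi⟩
  · intro Z hZ g
    have hrep : Representable f.hom := h.rep
    have hi : IsFinite (hrep.snd g).left := h.property g _ _ (hrep.isPullback g)
    haveI := hZ
    exact ⟨hrep.pullback g, hrep.snd g, hrep.fst g, hrep.isPullback g,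
      isAffine_of_isAffineHom (hrep.snd g).left, hi⟩

end Groth.Agent.S10267
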