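import Groth.Statements.S10381
import Groth.Agent.Lib.Helper2.AlgSp.Basic
import Groth.Agent.Lib.Helper2.AlgSp.Points
open Groth.Agent.Helper2

set_option autoImplicit false
universe u
open CategoryTheory CategoryTheory.Limits AlgebraicGeometry Topology TopologicalSpace
open AlgSp

namespace Groth.Agent.S10381

/-- If f : X ⟶ Y is a decent morphism of algebraic spaces over a scheme S and Y is decent, then X is
decent. -/
theorem result {S : Scheme.{u}} {X Y : AlgSp.Space S} (f : X ⟶ Y)
    (hf : AlgSp.IsDecentMor f.hom) (hY : AlgSp.IsDecent Y.obj) : AlgSp.IsDecent X.obj := by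
  intro x
  obtain ⟨p, hp, hpm, hpq⟩ := hY (AlgSp.Points.map f.hom x)
  let fst : pullback f.hom p.toHom ⟶ X.obj := pullback.fst _ _
  let snd : pullback f.hom p.toHom ⟶ (AlgSp.yon S).obj p.pt := pullback.snd _ _
  have sq : IsPullback fst snd f.hom p.toHom := IsPullback.of_hasPullback _ _
  have hF' : AlgSp.IsDecent (pullback f.hom p.toHom) := hf p.toHom fst snd sq
  let c : ↥(Spec (CommRingCat.of p.K)) := IsLocalRing.closedPoint p.K
  have e : AlgSp.Points.map f.hom x = AlgSp.Points.map p.toHom (AlgSp.Points.ofScheme p.pt c) := by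
    rw [← AlgSp.Points.ofPt_eq_map_ofScheme, AlgSp.Points.ofPt_toHom, hp]
  obtain ⟨x', hx', -⟩ := AlgSpBasic.points_exists_of_isPullback p.toHom f.hom fst snd sq x
    (AlgSp.Points.ofScheme p.pt c) e
  obtain ⟨p', hp', hp'm, hp'q⟩ := hF' x'
  haveI := hpm
  haveI : Mono fst := sq.mono_fst_of_mono
  refine ⟨p'.map fst, ?_, ?_, ?_⟩
  · rw [← AlgSp.Points.map_mk, hp', hx']
  · rw [AlgSp.FieldPt.toHom_map]
    exact @mono_comp _ _ _ _ _ _ hp'm _ inferInstance
  · rw [AlgSp.FieldPt.toHom_map]
    exact AlgSpBasic.repWith_comp @QuasiCompact hp'q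
      (AlgSpBasic.repWith_of_isPullback @QuasiCompact sq.flip hpq)

end Groth.Agent.S10381
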