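import Groth.Statements.S10496
import Groth.Agent.Lib.Helper2.AlgSp.DecentClosed


set_option autoImplicit false
universe u
open CategoryTheory CategoryTheory.Limits AlgebraicGeometry Topology TopologicalSpace
open AlgSp

namespace Groth.Agent.S10496

/-- Let X be a decent algebraic space over a scheme S. For every irreducible closed subset T of |X|
there is an integral closed subspace Z of X with |Z| = T. -/
theorem result {S : Scheme.{u}} (X : AlgSp.Space S)
    (hX : AlgSp.IsDecent X.obj) (T : Set (AlgSp.Points X.obj)) (hT : IsClosed T) (hTi : IsIrreducible T) :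
    ∃ (Z : AlgSp.Space S) (i : Z ⟶ X), AlgSp.RepWith @IsClosedImmersion i.hom ∧ AlgSp.IsIntegralSp Z.obj ∧
      Set.range (AlgSp.Points.map i.hom) = T := by
  obtain ⟨Z, i, hi, hrange, hred⟩ := Groth.Agent.S10192.result X T hT
  have hZd : AlgSp.IsDecent Z.obj :=
    Groth.Agent.Helper2.DecentOpen.isDecent_of_closedImmersion hX i.hom hi
  have hemb := Groth.Agent.Helper2.DecentOpen.isClosedEmbedding_points_of_closedImmersion
    X.property i.hom hi
  have hirr' : IsIrreducible (Set.range (AlgSp.Points.map i.hom)) := hrange ▸ hTi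
  haveI : IrreducibleSpace (Set.range (AlgSp.Points.map i.hom)) := Subtype.irreducibleSpace hirr'
  have hZi : IrreducibleSpace (AlgSp.Points Z.obj) :=
    (hemb.isEmbedding.toHomeomorph).irreducibleSpace_iff.2 inferInstance
  exact ⟨Z, i, hi, ⟨hred, hZd, hZi⟩, hrange⟩

end Groth.Agent.S10496
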