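import Groth.Statements.S2102
import Mathlib

set_option autoImplicit false
universe u
open CategoryTheory AlgebraicGeometry
open Mor

namespace Groth.Agent.S2102

section
open CategoryTheory AlgebraicGeometry TopologicalSpace Opposite

theorem main (X : Scheme.{u}) [IsIntegral X] (hX : Pi1.IsNormalScheme X) :
    IsIntegrallyClosed (Γ(X, ⊤) : Type u) := by
  have hne : Nonempty X := inferInstance
  have hneTop : Nonempty (⊤ : X.Opens) := ⟨⟨hne.some, trivial⟩⟩
  have hinj : Function.Injective (algebraMap Γ(X, ⊤) X.functionField) :=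
    Scheme.germToFunctionField_injective X ⊤
  rw [isIntegrallyClosed_iff (FractionRing Γ(X, ⊤))]
  intro α hα
  let ψ : FractionRing Γ(X, ⊤) →+* X.functionField := IsFractionRing.lift hinj
  have hψ : ∀ a : Γ(X, ⊤), ψ (algebraMap _ _ a) = algebraMap Γ(X, ⊤) X.functionField a :=
    fun a => IsFractionRing.lift_algebraMap hinj a
  have hψinj : Function.Injective ψ := ψ.injective
  have hα' : IsIntegral Γ(X, ⊤) (ψ α) :=
    IsIntegral.map_of_comp_eq (RingHom.id _) ψ (by ext a; exact (hψ a).symm) hα
  have hx : ∀ x : X, ∃ s : X.presheaf.stalk x,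
      algebraMap (X.presheaf.stalk x) X.functionField s = ψ α := by
    intro x
    obtain ⟨hdom, hic⟩ := hX x
    have h1 : IsIntegral (X.presheaf.stalk x) (ψ α) := by
      have := IsIntegral.map_of_comp_eq (X.presheaf.germ ⊤ x trivial).hom
        (RingHom.id X.functionField) (by
          ext a
          exact Scheme.algebraMap_germ_eq_germToFunctionField X (U := ⊤) (x := x) (by trivial) a) hα'
      exact this
    exact (isIntegrallyClosed_iff X.functionField).mp hic h1
  choose s hs using hx
  have hrep : ∀ x : X, ∃ (U : X.Opens) (hxU : x ∈ U) (t : Γ(X, U)),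
      X.presheaf.germ U x hxU t = s x := fun x => X.presheaf.exists_germ_eq (s x)
  choose U hxU t ht using hrep
  have hneU : ∀ x, Nonempty (U x) := fun x => ⟨⟨x, hxU x⟩⟩
  have htK : ∀ x, X.germToFunctionField (U x) (t x) = ψ α := by
    intro x
    rw [← Scheme.algebraMap_germ_eq_germToFunctionField X (hxU x), ht, hs]
  have hres : ∀ (V W : X.Opens) [Nonempty V] [Nonempty W] (i : V ⟶ W) (r : Γ(X, W)),
      X.germToFunctionField V (X.presheaf.map i.op r) = X.germToFunctionField W r := by
    intro V W _ _ i r
    exact TopCat.Presheaf.germ_res_apply X.presheaf i (genericPoint X) _ r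
  have hcompat : TopCat.Presheaf.IsCompatible X.presheaf U t := by
    intro x y
    have hneW : Nonempty (U x ⊓ U y : X.Opens) := by
      obtain ⟨z, hz⟩ := nonempty_preirreducible_inter (U x).isOpen (U y).isOpen
        ⟨x, hxU x⟩ ⟨y, hxU y⟩
      exact ⟨⟨z, hz⟩⟩
    apply Scheme.germToFunctionField_injective X (U x ⊓ U y)
    rw [hres, hres, htK, htK]
  obtain ⟨g, hg, -⟩ := X.sheaf.existsUnique_gluing' U ⊤ (fun x => homOfLE le_top)
    (fun x _ => Opens.mem_iSup.mpr ⟨x, hxU x⟩) t hcompat
  let g' : Γ(X, ⊤) := g
  refine ⟨g', ?_⟩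
  apply hψinj
  rw [hψ g']
  have hgx : X.presheaf.map (homOfLE le_top : U hne.some ⟶ ⊤).op g' = t hne.some := hg hne.some
  have : X.germToFunctionField ⊤ g' = X.germToFunctionField (U hne.some) (t hne.some) := by
    rw [← hgx]
    exact (hres (U hne.some) ⊤ (homOfLE le_top) g').symm
  exact this.trans (htK _)


end


/-- The ring of global sections of an integral normal scheme is an integrally closed domain. -/
theorem result (X : Scheme.{u}) [IsIntegral X] (hX : Pi1.IsNormalScheme X) :
    IsIntegrallyClosed (Γ(X, ⊤) : Type u) := by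
  classical
  exact main X hX

end Groth.Agent.S2102
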