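import Groth.Statements.S4808
import Mathlib
import Groth.Agent.S2102
import Mathlib

set_option autoImplicit false
universe u
open CategoryTheory AlgebraicGeometry
open Lim8

namespace Groth.Agent.S4808

open CategoryTheory AlgebraicGeometry

namespace H4808

/-- sections of an integral normal scheme over a nonempty open are integrally closed -/
theorem intClosed_sections {Y : Scheme.{u}} [IsIntegral Y]
    (hN : ∀ y : Y, IsIntegrallyClosed (Y.presheaf.stalk y)) (V : Y.Opens) [Nonempty V] :
    IsIntegrallyClosed Γ(Y, V) := by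
  have hV : Pi1.IsNormalScheme (V : Scheme.{u}) := by
    intro x
    have e : (V : Scheme.{u}).presheaf.stalk x ≅ Y.presheaf.stalk x.1 := V.stalkIso x
    have := hN x.1
    exact ⟨inferInstance, IsIntegrallyClosed.of_equiv e.commRingCatIsoToRingEquiv.symm⟩
  have h1 : IsIntegrallyClosed Γ(V, ⊤) := Groth.Agent.S2102.main (V : Scheme.{u}) hV
  exact IsIntegrallyClosed.of_equiv V.topIso.commRingCatIsoToRingEquiv


variable {Y' Y : Scheme.{u}} [IsIntegral Y'] [IsIntegral Y]
    (hN : ∀ y : Y, IsIntegrallyClosed (Y.presheaf.stalk y)) (u : Y' ⟶ Y) [IsFinite u]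
    (hgen : u (genericPoint Y') = genericPoint Y)
    (hbir : IsIso (u.stalkMap (genericPoint Y')))

include hN hgen hbir in
theorem app_bijective (V : Y.Opens) (hV : IsAffineOpen V) [Nonempty V] :
    Function.Bijective (u.app V) := by
  have hηV : genericPoint Y ∈ V :=
    ((genericPoint_spec Y).mem_open_set_iff V.isOpen).mpr (by simpa using ‹Nonempty V›)
  have hη'V : genericPoint Y' ∈ u ⁻¹ᵁ V := by
    show u (genericPoint Y') ∈ V
    rw [hgen]; exact hηV
  have : Nonempty (u ⁻¹ᵁ V : Y'.Opens) := ⟨⟨_, hη'V⟩⟩
  have hIC : IsIntegrallyClosed Γ(Y, V) := intClosed_sections hN V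
  have hFR : IsFractionRing Γ(Y, V) Y.functionField :=
    functionField_isFractionRing_of_isAffineOpen Y V hV
  -- the comparison of function fields
  let e : Inseparable (u (genericPoint Y')) (genericPoint Y) := .of_eq hgen
  let ψ : Y.functionField ⟶ Y'.functionField :=
    (Y.presheaf.stalkCongr e).inv ≫ u.stalkMap (genericPoint Y')
  have hψiso : IsIso ψ := inferInstance
  have hψbij : Function.Bijective ψ := (ConcreteCategory.isIso_iff_bijective ψ).mp hψiso
  have hcomp : Y.germToFunctionField V ≫ ψ = u.app V ≫ Y'.germToFunctionField (u ⁻¹ᵁ V) := by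
    simp only [ψ, Scheme.germToFunctionField, TopCat.Presheaf.stalkCongr_inv]
    rw [← Category.assoc, TopCat.Presheaf.germ_stalkSpecializes]
    exact Scheme.Hom.germ_stalkMap u V (genericPoint Y') _
  have hcomp' : ∀ a : Γ(Y, V), ψ (Y.germToFunctionField V a) =
      Y'.germToFunctionField (u ⁻¹ᵁ V) (u.app V a) := fun a => by
    have := congr($hcomp a)
    simpa using this
  have hinj' := Scheme.germToFunctionField_injective Y' (u ⁻¹ᵁ V)
  have hinj := Scheme.germToFunctionField_injective Y V
  constructor
  · intro a b hab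
    apply hinj
    apply hψbij.1
    rw [hcomp', hcomp', hab]
  · intro b
    have hfin : (u.app V).hom.Finite := IsFinite.finite_app u V hV
    have hint : (u.app V).hom.IsIntegralElem b := hfin.to_isIntegral b
    obtain ⟨p, hp, hpb⟩ := hint
    obtain ⟨κ, hκ⟩ := hψbij.2 (Y'.germToFunctionField (u ⁻¹ᵁ V) b)
    have hκint : IsIntegral Γ(Y, V) κ := by
      refine ⟨p, hp, ?_⟩
      apply hψbij.1
      rw [map_zero]
      show ψ.hom (Polynomial.eval₂ (algebraMap Γ(Y, V) Y.functionField) κ p) = 0
      rw [Polynomial.hom_eval₂]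
      have h2 : (ψ.hom.comp (algebraMap Γ(Y, V) Y.functionField)) =
          ((Y'.germToFunctionField (u ⁻¹ᵁ V)).hom.comp (u.app V).hom) := by
        ext a
        exact hcomp' a
      rw [h2]
      show Polynomial.eval₂ _ (ψ κ) p = 0
      rw [hκ, ← Polynomial.hom_eval₂, hpb, map_zero]
    obtain ⟨a, ha⟩ := (IsIntegrallyClosed.isIntegral_iff (K := Y.functionField)).mp hκint
    refine ⟨a, ?_⟩
    apply hinj'
    rw [← hcomp', ← hκ]
    congr 1

include hN hgen hbir in
theorem main : IsIso u := by
  show (MorphismProperty.isomorphisms Scheme) u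
  refine HasAffineProperty.of_iSup_eq_top (P := MorphismProperty.isomorphisms Scheme)
    (fun V : {V : Y.affineOpens // Nonempty V.1} => V.1) ?_ ?_
  · rw [eq_top_iff]
    intro y _
    obtain ⟨_, ⟨W, hW, rfl⟩, hy, -⟩ :=
      Y.isBasis_affineOpens.exists_subset_of_mem_open (Set.mem_univ y) isOpen_univ
    exact TopologicalSpace.Opens.mem_iSup.mpr ⟨⟨⟨W, hW⟩, ⟨⟨y, hy⟩⟩⟩, hy⟩
  · rintro ⟨V, hne⟩
    have hV : IsAffineOpen V.1 := V.2
    refine ⟨hV.preimage u, ?_⟩
    rw [morphismRestrict_appTop]
    have key : ∀ W : Y.Opens, W = V.1 → IsIso (u.app W) := by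
      rintro W rfl
      exact (ConcreteCategory.isIso_iff_bijective _).mpr (app_bijective hN u hgen hbir V.1 hV)
    have h1 := key _ (by simp : (V.1.ι ''ᵁ ⊤) = V.1)
    have h2 : IsIso (Y'.presheaf.map
        (eqToHom (image_morphismRestrict_preimage u V.1 ⊤)).op) := by
      rw [eqToHom_op, eqToHom_map]; infer_instance
    exact @IsIso.comp_isIso _ _ _ _ _ _ _ h1 h2

end H4808

/-- Let Y' and Y be integral schemes, Y normal (every local ring of Y is integrally closed), and u : Y'
⟶ Y a finite morphism which is birational: u maps the generic point of Y' to the generic point of Y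
and the stalk map of u at the generic point of Y', which is the induced homomorphism of function
fields, is an isomorphism. Then u is an isomorphism. -/
theorem result {Y' Y : Scheme.{u}} [IsIntegral Y'] [IsIntegral Y]
    (hN : ∀ y : Y, IsIntegrallyClosed (Y.presheaf.stalk y)) (u : Y' ⟶ Y) [IsFinite u]
    (hgen : u (genericPoint Y') = genericPoint Y)
    (hbir : IsIso (u.stalkMap (genericPoint Y'))) : IsIso u := by
  exact H4808.main hN u hgen hbir

end Groth.Agent.S4808
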