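import Groth.Statements.S0066
import Mathlib

set_option autoImplicit false
open CategoryTheory CategoryTheory.Limits AlgebraicGeometry Opposite
universe u
open EtBase

namespace Groth.Agent.S0066

section
open CategoryTheory CategoryTheory.Limits AlgebraicGeometry Opposite TensorProduct

/-- Artinian reduced nontrivial ring with only trivial idempotents is a field. -/
theorem isField_of_artinian_reduced_idem (L : Type*) [CommRing L] [IsArtinianRing L] [IsReduced L]
    [Nontrivial L] (h : ∀ e : L, IsIdempotentElem e → e = 0 ∨ e = 1) : IsField L := by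
  classical
  let e := IsArtinianRing.equivPi L
  have key : ∀ m m' : MaximalSpectrum L, m' = m := by
    intro m m'
    have hid : IsIdempotentElem (e.symm (Pi.single m 1)) := by
      unfold IsIdempotentElem
      rw [← map_mul, ← Pi.single_mul, mul_one]
    have hne : (Pi.single m (1 : L ⧸ m.asIdeal) : ∀ I : MaximalSpectrum L, L ⧸ I.asIdeal) ≠ 0 := by
      intro h0
      have := congrFun h0 m
      rw [Pi.single_eq_same, Pi.zero_apply] at this
      have hnt : Nontrivial (L ⧸ m.asIdeal) := Ideal.Quotient.nontrivial_iff.mpr m.isMaximal.ne_top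
      exact one_ne_zero this
    rcases h _ hid with h0 | h1
    · exfalso
      apply hne
      have := congrArg e h0
      rwa [AlgEquiv.apply_symm_apply, map_zero] at this
    · have := congrArg e h1
      rw [AlgEquiv.apply_symm_apply, map_one] at this
      by_contra hmm
      have h2 := congrFun this m'
      rw [Pi.single_eq_of_ne hmm, Pi.one_apply] at h2
      have hnt : Nontrivial (L ⧸ m'.asIdeal) := Ideal.Quotient.nontrivial_iff.mpr m'.isMaximal.ne_top
      exact zero_ne_one h2
  obtain ⟨m, hm⟩ := Ideal.exists_maximal L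
  have : IsLocalRing L := IsLocalRing.of_unique_max_ideal
    ⟨m, hm, fun I hI => congrArg MaximalSpectrum.asIdeal (key ⟨m, hm⟩ ⟨I, hI⟩)⟩
  exact IsArtinianRing.isField_of_isReduced_of_isLocalRing L

theorem idem_local {B : Type*} [CommRing B] [IsLocalRing B] (b : B) (hb : IsIdempotentElem b) :
    b = 0 ∨ b = 1 := by
  rcases IsLocalRing.isUnit_or_isUnit_one_sub_self b with h | h
  · right
    have : b * b = b * 1 := by rw [mul_one]; exact hb
    exact h.mul_left_cancel this
  · left
    have : (1 - b) * b = (1 - b) * 0 := by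
      rw [mul_zero, sub_mul, one_mul, hb.eq, sub_self]
    exact h.mul_left_cancel this

theorem bij {A₀ B₀ B : Type u} [CommRing A₀] [CommRing B₀] [Algebra A₀ B₀] [Algebra.Etale A₀ B₀]
    [CommRing B] [Algebra B₀ B] [Algebra A₀ B] [IsScalarTower A₀ B₀ B]
    (q : Ideal B₀) [q.IsPrime] [IsLocalization.AtPrime B q]
    (K : Type u) [Field K] [Algebra A₀ K] : Function.Bijective (toIntegralClosure A₀ B K) :=
  toIntegralClosure_bijective_of_tower (R := A₀) (S := B₀) (T := B) (B := K)
    toIntegralClosure_bijective_of_smooth (toIntegralClosure_bijective_of_isLocalization q.primeCompl)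

theorem closed {A₀ B₀ A B : Type u} [CommRing A₀] [CommRing B₀] [Algebra A₀ B₀] [Algebra.Etale A₀ B₀]
    [CommRing A] [CommRing B] [Algebra A₀ A] [Algebra B₀ B] [Algebra A₀ B] [IsScalarTower A₀ B₀ B]
    [Algebra A B] [IsScalarTower A₀ A B]
    (p : Ideal A₀) [p.IsPrime] (q : Ideal B₀) [q.IsPrime]
    [IsLocalization.AtPrime A p] [IsLocalization.AtPrime B q]
    [IsDomain A] [IsIntegrallyClosed A]
    (K : Type u) [Field K] [Algebra A K] [IsFractionRing A K] [Algebra A₀ K] [IsScalarTower A₀ A K]
    (z : B ⊗[A₀] K) (hz : IsIntegral B z) : ∃ b : B, algebraMap B (B ⊗[A₀] K) b = z := by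
  obtain ⟨w, hw⟩ := (bij q K).2 ⟨z, hz⟩
  have hz' : z = ((toIntegralClosure A₀ B K w : integralClosure B (B ⊗[A₀] K)) : B ⊗[A₀] K) := by
    rw [hw]
  rw [hz']
  have hcompat := IsLocalization.tensorProduct_compatibleSMul p.primeCompl A B K
  suffices h : ∀ w, ((toIntegralClosure A₀ B K w : integralClosure B (B ⊗[A₀] K)) : B ⊗[A₀] K) ∈
      (algebraMap B (B ⊗[A₀] K)).range by
    obtain ⟨b, hb⟩ := h w
    exact ⟨b, hb⟩
  intro w
  induction w with
  | zero => rw [map_zero]; exact Subring.zero_mem _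
  | add x y hx hy => rw [map_add]; exact Subring.add_mem _ hx hy
  | tmul b c =>
    have h1 : ((toIntegralClosure A₀ B K (b ⊗ₜ c) : integralClosure B (B ⊗[A₀] K)) : B ⊗[A₀] K) =
        b ⊗ₜ (c : K) := by
      simp [toIntegralClosure]
    rw [h1]
    have hc : IsIntegral A (c : K) := c.2.tower_top
    obtain ⟨a, ha⟩ := IsIntegrallyClosed.isIntegral_iff.mp hc
    refine ⟨a • b, ?_⟩
    rw [Algebra.TensorProduct.algebraMap_apply, Algebra.algebraMap_self, RingHom.id_apply,
      TensorProduct.smul_tmul, ← ha, Algebra.smul_def, mul_one]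

theorem inj {A₀ A B : Type u} [CommRing A₀] 
    [CommRing A] [CommRing B] [Algebra A₀ A] [Algebra A₀ B] 
    [Algebra A B] [IsScalarTower A₀ A B]
    (p : Ideal A₀) [p.IsPrime] 
    [IsLocalization.AtPrime A p] 
    [IsDomain A] [Module.Flat A B]
    (K : Type u) [Field K] [Algebra A K] [IsFractionRing A K] [Algebra A₀ K] [IsScalarTower A₀ A K] :
    Function.Injective (algebraMap B (B ⊗[A₀] K)) := by
  have h1 : Function.Injective ((Algebra.linearMap A K).lTensor B) :=
    Module.Flat.lTensor_preserves_injective_linearMap (M := B) (Algebra.linearMap A K)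
      (IsFractionRing.injective A K)
  let e := IsLocalization.moduleTensorEquiv p.primeCompl A B K
  have h2 : Function.Injective (fun b : B => e (((Algebra.linearMap A K).lTensor B)
      ((TensorProduct.rid A B).symm b))) :=
    e.injective.comp (h1.comp (TensorProduct.rid A B).symm.injective)
  have h3 : ⇑(algebraMap B (B ⊗[A₀] K)) = (fun b : B => e (((Algebra.linearMap A K).lTensor B)
      ((TensorProduct.rid A B).symm b))) := by
    funext b
    simp [e, IsLocalization.moduleTensorEquiv]
    rfl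
  rw [h3]
  exact h2

theorem art_red {A₀ B₀ B : Type u} [CommRing A₀] [CommRing B₀] [Algebra A₀ B₀] [Algebra.Etale A₀ B₀]
    [CommRing B] [Algebra B₀ B] [Algebra A₀ B] [IsScalarTower A₀ B₀ B]
    (q : Ideal B₀) [q.IsPrime] [IsLocalization.AtPrime B q]
    (K : Type u) [Field K] [Algebra A₀ K] : IsArtinianRing (B ⊗[A₀] K) ∧ IsReduced (B ⊗[A₀] K) := by
  have h1 : Algebra.Etale K (K ⊗[A₀] B₀) := inferInstance
  have h2 : Module.Finite K (K ⊗[A₀] B₀) := Algebra.FormallyUnramified.finite_of_free K _
  have h3 : IsArtinianRing (K ⊗[A₀] B₀) := .of_finite K _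
  have h4 : IsReduced (K ⊗[A₀] B₀) := Algebra.FormallyUnramified.isReduced_of_field K _
  let c : (K ⊗[A₀] B₀) ≃ₐ[A₀] (B₀ ⊗[A₀] K) := Algebra.TensorProduct.comm A₀ K B₀
  have h5 : IsArtinianRing (B₀ ⊗[A₀] K) := c.surjective.isArtinianRing
  have h6 : IsReduced (B₀ ⊗[A₀] K) := isReduced_of_injective c.symm c.symm.injective
  let φ : (B₀ ⊗[A₀] K) →ₐ[A₀] (B ⊗[A₀] K) :=
    Algebra.TensorProduct.map (IsScalarTower.toAlgHom A₀ B₀ B) (AlgHom.id A₀ K)
  let _ : Algebra (B₀ ⊗[A₀] K) (B ⊗[A₀] K) := φ.toRingHom.toAlgebra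
  have hst : IsScalarTower B₀ (B₀ ⊗[A₀] K) (B ⊗[A₀] K) := by
    apply IsScalarTower.of_algebraMap_eq'
    ext b
    simp [RingHom.algebraMap_toAlgebra, φ]
  have hloc : IsLocalization (Algebra.algebraMapSubmonoid (B₀ ⊗[A₀] K) q.primeCompl) (B ⊗[A₀] K) := by
    apply IsLocalization.tensorProduct_tensorProduct A₀ K q.primeCompl B
    ext k
    simp [RingHom.algebraMap_toAlgebra, φ]
  exact ⟨IsArtinianRing.localization_artinian
      (Algebra.algebraMapSubmonoid (B₀ ⊗[A₀] K) q.primeCompl) _,
    isReduced_localizationPreserves (Algebra.algebraMapSubmonoid (B₀ ⊗[A₀] K) q.primeCompl)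
      (B ⊗[A₀] K) h6⟩

theorem normal_of_etale {A₀ B₀ A B : Type u} [CommRing A₀] [CommRing B₀] [Algebra A₀ B₀]
    [Algebra.Etale A₀ B₀]
    [CommRing A] [CommRing B] [Algebra A₀ A] [Algebra B₀ B] [Algebra A₀ B] [IsScalarTower A₀ B₀ B]
    [Algebra A B] [IsScalarTower A₀ A B]
    (p : Ideal A₀) [p.IsPrime] (q : Ideal B₀) [q.IsPrime]
    [IsLocalization.AtPrime A p] [IsLocalization.AtPrime B q]
    [IsDomain A] [IsIntegrallyClosed A] [Module.Flat A B] :
    IsDomain B ∧ IsIntegrallyClosed B := by
  let K := FractionRing A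
  have : IsScalarTower A₀ A K := inferInstance
  have hinj : Function.Injective (algebraMap B (B ⊗[A₀] K)) := inj (A := A) p K
  obtain ⟨hart, hred⟩ := art_red (A₀ := A₀) (B := B) q K
  have hlocal : IsLocalRing B := IsLocalization.AtPrime.isLocalRing B q
  have hnt : Nontrivial (B ⊗[A₀] K) := hinj.nontrivial
  have hidem : ∀ e : B ⊗[A₀] K, IsIdempotentElem e → e = 0 ∨ e = 1 := by
    intro e he
    have hint : IsIntegral B e := by
      refine ⟨Polynomial.X ^ 2 - Polynomial.X,
        Polynomial.monic_X_pow_sub (by rw [Polynomial.degree_X]; norm_num), ?_⟩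
      simp [pow_two, he.eq]
    obtain ⟨b, rfl⟩ := closed (A := A) p q K e hint
    have hb : IsIdempotentElem b := hinj (by rw [map_mul]; exact he)
    rcases idem_local b hb with rfl | rfl
    · left; exact map_zero _
    · right; exact map_one _
  have hfield : IsField (B ⊗[A₀] K) := isField_of_artinian_reduced_idem _ hidem
  let _ : Field (B ⊗[A₀] K) := hfield.toField
  have hdom : IsDomain B := hinj.isDomain (algebraMap B (B ⊗[A₀] K))
  refine ⟨hdom, ?_⟩
  rw [isIntegrallyClosed_iff (FractionRing B)]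
  intro x hx
  have hinj' : Function.Injective (Algebra.ofId B (B ⊗[A₀] K)) := hinj
  let φ : FractionRing B →ₐ[B] (B ⊗[A₀] K) := IsFractionRing.liftAlgHom hinj'
  have h1 : IsIntegral B (φ x) := hx.map φ
  obtain ⟨b, hb⟩ := closed (A := A) p q K (φ x) h1
  refine ⟨b, φ.toRingHom.injective ?_⟩
  show φ (algebraMap B (FractionRing B) b) = φ x
  rw [φ.commutes, hb]


theorem descend_normal {A B : Type u} [CommRing A] [CommRing B] [Algebra A B]
    [Module.FaithfullyFlat A B] [IsDomain B] [IsIntegrallyClosed B] :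
    IsDomain A ∧ IsIntegrallyClosed A := by
  have hinj : Function.Injective (algebraMap A B) := FaithfulSMul.algebraMap_injective A B
  have hdA : IsDomain A := hinj.isDomain _
  refine ⟨hdA, ?_⟩
  rw [isIntegrallyClosed_iff (FractionRing A)]
  intro z hz
  obtain ⟨a, b, hb, rfl⟩ := IsFractionRing.div_surjective A z
  have hinj' : Function.Injective (Algebra.ofId A (FractionRing B)) := by
    have : ⇑(Algebra.ofId A (FractionRing B)) = (algebraMap B (FractionRing B)) ∘ (algebraMap A B) := by
      funext t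
      exact IsScalarTower.algebraMap_apply A B (FractionRing B) t
    rw [this]
    exact (IsFractionRing.injective B (FractionRing B)).comp hinj
  let χ : FractionRing A →ₐ[A] FractionRing B := IsFractionRing.liftAlgHom hinj'
  have h1 : IsIntegral A (χ (algebraMap A (FractionRing A) a / algebraMap A (FractionRing A) b)) :=
    hz.map χ
  have h2 : IsIntegral B (χ (algebraMap A (FractionRing A) a / algebraMap A (FractionRing A) b)) :=
    h1.tower_top
  obtain ⟨β, hβ⟩ := IsIntegrallyClosed.isIntegral_iff.mp h2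
  have hb0 : algebraMap A (FractionRing A) b ≠ 0 := by
    intro h0
    have := (IsFractionRing.injective A (FractionRing A)) (h0.trans (map_zero _).symm)
    exact nonZeroDivisors.ne_zero hb this
  have h3 : algebraMap B (FractionRing B) (β * algebraMap A B b) =
      algebraMap B (FractionRing B) (algebraMap A B a) := by
    rw [map_mul, hβ, ← IsScalarTower.algebraMap_apply A B (FractionRing B),
      ← IsScalarTower.algebraMap_apply A B (FractionRing B), ← χ.commutes b, ← χ.commutes a,
      ← map_mul, div_mul_cancel₀ _ hb0]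
  have h4 : β * algebraMap A B b = algebraMap A B a := IsFractionRing.injective B _ h3
  have h5 : a ∈ (Ideal.span {b} : Ideal A) := by
    rw [← Ideal.comap_map_eq_self_of_faithfullyFlat (B := B) (Ideal.span {b}), Ideal.mem_comap,
      Ideal.map_span, Set.image_singleton, Ideal.mem_span_singleton']
    exact ⟨β, h4⟩
  obtain ⟨c, hc⟩ := Ideal.mem_span_singleton'.mp h5
  refine ⟨c, ?_⟩
  rw [← hc, map_mul, mul_div_assoc, div_self hb0, mul_one]


theorem main {X Y : Scheme.{u}} (f : X ⟶ Y) [AlgebraicGeometry.Etale f]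
    [IsLocallyNoetherian Y] (x : X) :
    (IsDomain (X.presheaf.stalk x) ∧ IsIntegrallyClosed (X.presheaf.stalk x)) ↔
      (IsDomain (Y.presheaf.stalk (f.base x)) ∧
        IsIntegrallyClosed (Y.presheaf.stalk (f.base x))) := by
  let ψ : Y.presheaf.stalk (f x) →+* X.presheaf.stalk x := (f.stalkMap x).hom
  let _ : Algebra (Y.presheaf.stalk (f x)) (X.presheaf.stalk x) := ψ.toAlgebra
  have hflat : Module.Flat (Y.presheaf.stalk (f x)) (X.presheaf.stalk x) := Flat.stalkMap f x
  have hlocal : IsLocalHom (algebraMap (Y.presheaf.stalk (f x)) (X.presheaf.stalk x)) :=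
    inferInstanceAs (IsLocalHom (f.stalkMap x).hom)
  have hff : Module.FaithfullyFlat (Y.presheaf.stalk (f x)) (X.presheaf.stalk x) :=
    Module.FaithfullyFlat.of_flat_of_isLocalHom
  constructor
  · rintro ⟨hd, hic⟩
    exact descend_normal (A := Y.presheaf.stalk (f x)) (B := X.presheaf.stalk x)
  · rintro ⟨hd, hic⟩
    obtain ⟨V, hV, hyV, -⟩ := exists_isAffineOpen_mem_and_subset (x := f.base x) (U := ⊤) trivial
    have hxV : x ∈ f ⁻¹ᵁ V := hyV
    obtain ⟨U, hU, hxU, hUV⟩ := exists_isAffineOpen_mem_and_subset (x := x) (U := f ⁻¹ᵁ V) hxV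
    have e : U ≤ f ⁻¹ᵁ V := hUV
    let φ : Γ(Y, V) →+* Γ(X, U) := (f.appLE V U e).hom
    let _ : Algebra Γ(Y, V) Γ(X, U) := φ.toAlgebra
    have het : Algebra.Etale Γ(Y, V) Γ(X, U) :=
      HasRingHomProperty.appLE @AlgebraicGeometry.Etale f inferInstance ⟨V, hV⟩ ⟨U, hU⟩ e
    let p := (hV.primeIdealOf ⟨f x, hyV⟩).asIdeal
    let q := (hU.primeIdealOf ⟨x, hxU⟩).asIdeal
    let _ := Y.presheaf.algebra_section_stalk ⟨f x, hyV⟩
    let _ := X.presheaf.algebra_section_stalk ⟨x, hxU⟩
    have hlocY : IsLocalization.AtPrime (Y.presheaf.stalk (f x)) p :=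
      hV.isLocalization_stalk ⟨f x, hyV⟩
    have hlocX : IsLocalization.AtPrime (X.presheaf.stalk x) q := hU.isLocalization_stalk ⟨x, hxU⟩
    let _ : Algebra Γ(Y, V) (X.presheaf.stalk x) :=
      ((algebraMap (Y.presheaf.stalk (f x)) (X.presheaf.stalk x)).comp
        (algebraMap Γ(Y, V) (Y.presheaf.stalk (f x)))).toAlgebra
    have hst1 : IsScalarTower Γ(Y, V) (Y.presheaf.stalk (f x)) (X.presheaf.stalk x) :=
      .of_algebraMap_eq' rfl
    have hst2 : IsScalarTower Γ(Y, V) Γ(X, U) (X.presheaf.stalk x) := by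
      apply IsScalarTower.of_algebraMap_eq'
      show ((f.stalkMap x).hom).comp (Y.presheaf.germ V (f x) hyV).hom =
        (X.presheaf.germ U x hxU).hom.comp (f.appLE V U e).hom
      rw [← CommRingCat.hom_comp, ← CommRingCat.hom_comp, Scheme.Hom.germ_stalkMap,
        Scheme.Hom.appLE, Category.assoc, X.presheaf.germ_res]
    exact normal_of_etale (A₀ := Γ(Y, V)) (B₀ := Γ(X, U)) (A := Y.presheaf.stalk (f x))
      (B := X.presheaf.stalk x) p q


end


/-- For an étale morphism f : X → Y with Y locally Noetherian and a point x of X, the local ring O_{X,x}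
is a normal domain (a domain which is integrally closed in its fraction field) if and only if
O_{Y,f(x)} is. -/
theorem result {X Y : Scheme.{u}} (f : X ⟶ Y) [AlgebraicGeometry.Etale f]
    [IsLocallyNoetherian Y] (x : X) :
    (IsDomain (X.presheaf.stalk x) ∧ IsIntegrallyClosed (X.presheaf.stalk x)) ↔
      (IsDomain (Y.presheaf.stalk (f.base x)) ∧ IsIntegrallyClosed (Y.presheaf.stalk (f.base x))) := by
  classical
  exact main f x

end Groth.Agent.S0066
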