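import Groth.Statements.S13598
-- import your own Groth.Agent.* helpers here
import Mathlib
import Groth.Agent.Lib.Helper7.Hensel.FiniteLocal

set_option autoImplicit false
universe u
open Hensel

namespace Groth.Agent.S13598

/-- For a local ring A, a henselization A ⟶ S of A (S a henselian local ring, the structure map local,
and initial among local homomorphisms from A to henselian local rings) and an ideal I of A inside
the maximal ideal, the quotient S/IS with its induced algebra structure over A/I is a henselization
of A/I. (The local-ring and local-homomorphism instances on the quotients hold automatically; they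
are taken as hypotheses only so that the conclusion can be stated.) -/
theorem result {A S : Type u} [CommRing A] [IsLocalRing A] [CommRing S]
    [IsLocalRing S] [Algebra A S] [IsLocalHom (algebraMap A S)] [Hensel.IsHenselization A S]
    (I : Ideal A) (hI : I ≤ IsLocalRing.maximalIdeal A)
    [IsLocalRing (A ⧸ I)] [IsLocalRing (S ⧸ I.map (algebraMap A S))]
    [IsLocalHom (algebraMap (A ⧸ I) (S ⧸ I.map (algebraMap A S)))] :
    Hensel.IsHenselization (A ⧸ I) (S ⧸ I.map (algebraMap A S)) := by
  have _ := hI
  have hS : Hensel.IsHenselization A S := inferInstance
  have hhS : HenselianLocalRing S := hS.henselian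
  constructor
  · exact Groth.Agent.Helper7.Hensel.henselianLocalRing_of_finite S (S ⧸ I.map (algebraMap A S))
  · intro T _ _ f hf
    have hmk : IsLocalHom (Ideal.Quotient.mk I) :=
      IsLocalHom.of_surjective _ Ideal.Quotient.mk_surjective
    have hcomp : IsLocalHom (f.comp (Ideal.Quotient.mk I)) := RingHom.isLocalHom_comp _ _
    obtain ⟨g, hg, hguniq⟩ := hS.universal T (f.comp (Ideal.Quotient.mk I)) hcomp
    have hker : ∀ s ∈ I.map (algebraMap A S), g s = 0 := by
      intro s hs
      have hle : I.map (algebraMap A S) ≤ RingHom.ker g := by
        rw [Ideal.map_le_iff_le_comap]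
        intro a ha
        rw [Ideal.mem_comap, RingHom.mem_ker]
        have := RingHom.congr_fun hg a
        simp only [RingHom.comp_apply] at this
        rw [this, Ideal.Quotient.eq_zero_iff_mem.mpr ha, map_zero]
      exact hle hs
    refine ⟨Ideal.Quotient.lift _ g hker, ?_, ?_⟩
    · ext a
      have := RingHom.congr_fun hg a
      simp only [RingHom.comp_apply] at this ⊢
      rw [← this]
      rfl
    · intro g' hg'
      apply Ideal.Quotient.ringHom_ext
      have h1 : g'.comp (Ideal.Quotient.mk (I.map (algebraMap A S))) = g := by
        apply hguniq
        ext a
        have := RingHom.congr_fun hg' (Ideal.Quotient.mk I a)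
        simp only [RingHom.comp_apply] at this ⊢
        rw [← this]
        rfl
      rw [h1]
      ext s
      rfl

end Groth.Agent.S13598
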