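import Groth.Statements.S10360
import Groth.Agent.S10410
import Groth.Agent.Lib.Helper2.AlgSp.FieldFibre3
open Groth.Agent.Helper2


set_option autoImplicit false
universe u
open CategoryTheory CategoryTheory.Limits AlgebraicGeometry Topology TopologicalSpace
open AlgSp

namespace Groth.Agent.S10360

/-- (1) ⇔ (4): for an algebraic space X over a scheme S and x ∈ |X|, the fibres over x of |U| → |X| and
|U ×_X U| → |X| are finite for every etale h_U ⟶ X with U affine, if and only if x is represented by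
a monomorphism Spec k ⟶ X which is representable quasi-compact. -/
theorem result {S : Scheme.{u}} (X : AlgSp.Space S)
    (x : AlgSp.Points X.obj) :
    (∀ (U : Over S) (φ : (AlgSp.yon S).obj U ⟶ X.obj), IsAffine U.left → AlgSp.RepWith @Etale φ →
        ∀ (R : Over S) (s t : R ⟶ U), IsPullback ((AlgSp.yon S).map t) ((AlgSp.yon S).map s) φ φ →
          (AlgSp.Points.ofPt φ ⁻¹' {x}).Finite ∧ (AlgSp.Points.ofPt ((AlgSp.yon S).map t ≫ φ) ⁻¹' {x}).Finite) ↔
      ∃ p : AlgSp.FieldPt X.obj, AlgSp.Points.mk p = x ∧ Mono p.toHom ∧ AlgSp.RepWith @QuasiCompact p.toHom := by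
  constructor
  · intro H
    obtain ⟨V, φ, hV, hφ, hx⟩ := FieldFibre.exists_affine_chart_through X.property x
    have hfV : (AlgSp.Points.ofPt φ ⁻¹' {x}).Finite := by
      obtain ⟨R, t, s, hR⟩ := AlgSpBasic.exists_isPullback_yon X.property.diag φ φ
      exact (H V φ hV hφ R s t hR).1
    obtain ⟨p, hp, hm, -⟩ := (Groth.Agent.S10410.result X x φ hφ).mp
      ⟨hx, hfV, fun R s t hR => (H V φ hV hφ R s t hR).2⟩
    refine ⟨p, hp, hm, ?_⟩
    refine FieldFibre.repWith_quasiCompact_of_finite_fibres X.property p hm ?_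
    intro U ψ hU hψ
    obtain ⟨R, t, s, hR⟩ := AlgSpBasic.exists_isPullback_yon X.property.diag ψ ψ
    rw [hp]
    exact (H U ψ hU hψ R s t hR).1
  · rintro ⟨p, rfl, hm, hq⟩
    intro U φ hU hφ R s t hR
    haveI := hU
    have h1 := FieldFibre.finite_fibre_of_quasiCompact X.property p hm hq φ hφ
    exact ⟨h1.1, h1.2 R s t hR⟩

end Groth.Agent.S10360
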