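import Groth.Statements.S10290
import Mathlib

open CategoryTheory CategoryTheory.Limits AlgebraicGeometry Opposite AlgSp

set_option autoImplicit false
universe u
open CategoryTheory CategoryTheory.Limits AlgebraicGeometry
open AlgSp

namespace Groth.Agent.S10290

/-- A separated morphism of algebraic spaces satisfies the uniqueness part of the valuative criterion. -/
theorem result {S : Scheme.{u}} {X Y : AlgSp.Space S} (f : X ⟶ Y)
    (hf : AlgSp.IsSeparatedMor f.hom) : AlgSp.UniqVC f.hom := by
  intro sq l l' h1 h2 h1' h2'
  have hll : l ≫ f.hom = l' ≫ f.hom := h2.trans h2'.symm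
  let d : (yon S).obj sq.ptA ⟶ pullback f.hom f.hom := pullback.lift l l' hll
  have hrep := hf.rep
  have psq := hrep.isPullback d
  have hci : IsClosedImmersion (hrep.snd d).left := hf.property d _ _ psq
  -- the generic point factors through the equalizer
  have hjd : sq.top ≫ pullback.diagonal f.hom = (yon S).map sq.j ≫ d := by
    apply pullback.hom_ext
    · rw [Category.assoc, pullback.diagonal_fst, Category.comp_id, Category.assoc, pullback.lift_fst, h1]
    · rw [Category.assoc, pullback.diagonal_snd, Category.comp_id, Category.assoc, pullback.lift_snd, h1']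
  obtain ⟨m₀, hm₀⟩ := (yon S).map_surjective (psq.lift sq.top ((yon S).map sq.j) hjd)
  have hm : m₀ ≫ hrep.snd d = sq.j := by
    apply (yon S).map_injective
    rw [Functor.map_comp, hm₀, psq.lift_snd]
  have hml : m₀.left ≫ (hrep.snd d).left = Spec.map (CommRingCat.ofHom (algebraMap sq.A sq.K)) :=
    congrArg (fun t => t.left) hm
  -- the generic point is dense
  have hdom : IsDominant (Spec.map (CommRingCat.ofHom (algebraMap sq.A sq.K))) := by
    refine ⟨?_⟩
    change DenseRange (PrimeSpectrum.comap (algebraMap sq.A sq.K))
    rw [PrimeSpectrum.denseRange_comap_iff_ker_le_nilRadical]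
    have : RingHom.ker (algebraMap sq.A sq.K) = ⊥ :=
      (RingHom.injective_iff_ker_eq_bot _).1 (IsFractionRing.injective sq.A sq.K)
    rw [this]
    exact bot_le
  rw [← hml] at hdom
  haveI : IsDominant (hrep.snd d).left := IsDominant.of_comp (f := m₀.left) (g := (hrep.snd d).left)
  haveI : Surjective (hrep.snd d).left :=
    surjective_of_isDominant_of_isClosed_range _ (hrep.snd d).left.isClosedEmbedding.isClosed_range
  haveI : IsReduced sq.ptA.left := by
    change IsReduced (Spec (CommRingCat.of sq.A))
    infer_instance
  haveI : IsIso (hrep.snd d).left := isIso_of_isClosedImmersion_of_surjective _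
  haveI : IsIso ((Over.forget S).map (hrep.snd d)) := by
    change IsIso (hrep.snd d).left
    infer_instance
  haveI : IsIso (hrep.snd d) := isIso_of_reflects_iso _ (Over.forget S)
  have e1 : (yon S).map (hrep.snd d) ≫ l = hrep.fst d := by
    have := congrArg (· ≫ pullback.fst f.hom f.hom) psq.w
    simp only [Category.assoc, pullback.diagonal_fst, Category.comp_id] at this
    rw [this, pullback.lift_fst]
  have e2 : (yon S).map (hrep.snd d) ≫ l' = hrep.fst d := by
    have := congrArg (· ≫ pullback.snd f.hom f.hom) psq.w
    simp only [Category.assoc, pullback.diagonal_snd, Category.comp_id] at this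
    rw [this, pullback.lift_snd]
  exact (cancel_epi ((yon S).map (hrep.snd d))).1 (e1.trans e2.symm)

end Groth.Agent.S10290
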