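import Groth.Statements.S17897
import Mathlib
import Groth.Agent.Lib.Helper9.ValCritAff
-- import your own Groth.Agent.* helpers here

set_option autoImplicit false
universe u
open CategoryTheory AlgebraicGeometry
open ValCrit

namespace Groth.Agent.S17897

open CategoryTheory AlgebraicGeometry Groth.Agent.Lib.Helper9.ValCritAff
namespace Aux

theorem main {X Y : Scheme.{u}} (f : Y ⟶ X)
    (K : Type u) [Field K] (R : ValuationSubring K)
    (i : Spec (CommRingCat.of K) ⟶ Y) (φ : Spec (CommRingCat.of ↥R) ⟶ X)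
    (w : Spec.map (CommRingCat.ofHom R.subtype) ≫ φ = i ≫ f)
    (y : Y) (g : Y.residueField y ⟶ CommRingCat.of K)
    (hg : Spec.map g ≫ Y.fromSpecResidueField y = i)
    (ρ : ↥(R.comap g.hom) →+* ↥R)
    (hρ : ∀ x : ↥(R.comap g.hom), ((ρ x : ↥R) : K) = g.hom (x : ↑(Y.residueField y))) :
    ∃! φ' : Spec (CommRingCat.of ↥(R.comap g.hom)) ⟶ X,
      Spec.map (CommRingCat.ofHom ρ) ≫ φ' = φ ∧
      Spec.map (CommRingCat.ofHom (R.comap g.hom).subtype) ≫ φ' =
        Y.fromSpecResidueField y ≫ f := by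
  haveI : IsLocalRing (CommRingCat.of ↥R) := inferInstanceAs (IsLocalRing ↥R)
  haveI : IsLocalRing (CommRingCat.of ↥(R.comap g.hom)) :=
    inferInstanceAs (IsLocalRing ↥(R.comap g.hom))
  obtain ⟨_, ⟨U, hU, rfl⟩, hxU, -⟩ := X.isBasis_affineOpens.exists_subset_of_mem_open
    (Set.mem_univ (φ (IsLocalRing.closedPoint (CommRingCat.of ↥R)))) isOpen_univ
  obtain ⟨a, ha⟩ := factor_affine _ φ hU hxU
  have htop : φ ⁻¹ᵁ U = ⊤ := Scheme.preimage_eq_top_of_closedPoint_mem φ hxU
  set β := Y.fromSpecResidueField y ≫ f with hβ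
  have hw' : Spec.map (CommRingCat.ofHom R.subtype) ≫ φ = Spec.map g ≫ β := by
    rw [w, ← hg, Category.assoc]
  have hβU : β (IsLocalRing.closedPoint (Y.residueField y)) ∈ U := by
    have pt : Spec (CommRingCat.of K) := IsLocalRing.closedPoint K
    have h1 : (Spec.map g) pt = IsLocalRing.closedPoint (Y.residueField y) :=
      Subsingleton.elim _ _
    rw [← h1]
    have h2 : β ((Spec.map g) pt) = φ ((Spec.map (CommRingCat.ofHom R.subtype)) pt) := by
      rw [← Scheme.Hom.comp_apply, ← Scheme.Hom.comp_apply, hw']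
    rw [h2]
    have : (Spec.map (CommRingCat.ofHom R.subtype)) pt ∈ φ ⁻¹ᵁ U := by rw [htop]; trivial
    exact this
  obtain ⟨b, hb⟩ := factor_affine _ β hU hβU
  -- compare the ring maps
  have hab : a ≫ CommRingCat.ofHom R.subtype = b ≫ g := by
    apply factor_unique hU
    rw [Spec.map_comp, Spec.map_comp, Category.assoc, Category.assoc, ← ha, ← hb, hw']
  have habt : ∀ t : Γ(X, U), g.hom (b.hom t) = ((a.hom t : ↥R) : K) := by
    intro t
    have := congrArg (fun m => m.hom t) hab
    exact this.symm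
  have hmem : ∀ t : Γ(X, U), b.hom t ∈ R.comap g.hom := by
    intro t
    rw [ValuationSubring.mem_comap, habt]
    exact (a.hom t).2
  let b' : Γ(X, U) →+* ↥(R.comap g.hom) := b.hom.codRestrict (R.comap g.hom) hmem
  have hρb : CommRingCat.ofHom b' ≫ CommRingCat.ofHom ρ = a := by
    ext t
    change ((ρ (b' t) : ↥R) : K) = _
    rw [hρ, ← habt]
    rfl
  have hsb : CommRingCat.ofHom b' ≫ CommRingCat.ofHom (R.comap g.hom).subtype = b := by
    ext t
    rfl
  have hloc : IsLocalHom ρ := by
    constructor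
    intro x hx
    obtain ⟨u, hu⟩ := hx
    have hx0 : (x : ↑(Y.residueField y)) ≠ 0 := by
      intro h0
      have : ((ρ x : ↥R) : K) = 0 := by rw [hρ, h0, map_zero]
      have h1 : (ρ x : ↥R) = 0 := Subtype.ext this
      rw [← hu] at h1
      exact u.ne_zero h1
    have hinv : (x : ↑(Y.residueField y))⁻¹ ∈ R.comap g.hom := by
      rw [ValuationSubring.mem_comap, map_inv₀, ← hρ, ← hu]
      have : ((u : ↥R) : K)⁻¹ = (((u⁻¹ : (↥R)ˣ) : ↥R) : K) := by
        symm
        apply eq_inv_of_mul_eq_one_left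
        have h3 := congrArg (Subtype.val) u.inv_mul
        exact h3
      rw [this]
      exact ((u⁻¹ : (↥R)ˣ) : ↥R).2
    refine ⟨⟨x, ⟨_, hinv⟩, ?_, ?_⟩, rfl⟩
    · apply Subtype.ext; exact mul_inv_cancel₀ hx0
    · apply Subtype.ext; exact inv_mul_cancel₀ hx0
  refine ⟨Spec.map (CommRingCat.ofHom b') ≫ hU.fromSpec, ⟨?_, ?_⟩, ?_⟩
  · rw [← Category.assoc, ← Spec.map_comp, hρb, ← ha]
  · rw [← Category.assoc, ← Spec.map_comp, hsb, ← hb]
  · rintro φ'' ⟨h1, h2⟩
    have : IsLocalHom (CommRingCat.ofHom ρ).hom := hloc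
    have hcl : φ'' (IsLocalRing.closedPoint (CommRingCat.of ↥(R.comap g.hom))) ∈ U := by
      have e0 : (Spec.map (CommRingCat.ofHom ρ)) (IsLocalRing.closedPoint (CommRingCat.of ↥R)) =
          IsLocalRing.closedPoint (CommRingCat.of ↥(R.comap g.hom)) := Spec_closedPoint
      have e1 : (Spec.map (CommRingCat.ofHom ρ) ≫ φ'')
          (IsLocalRing.closedPoint (CommRingCat.of ↥R)) =
          φ (IsLocalRing.closedPoint (CommRingCat.of ↥R)) := by rw [h1]
      change φ'' ((Spec.map (CommRingCat.ofHom ρ))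
        (IsLocalRing.closedPoint (CommRingCat.of ↥R))) = _ at e1
      rw [e0] at e1
      rw [e1]
      exact hxU
    obtain ⟨c, hc⟩ := factor_affine _ φ'' hU hcl
    have hcb : c ≫ CommRingCat.ofHom (R.comap g.hom).subtype = b := by
      apply factor_unique hU
      rw [Spec.map_comp, Category.assoc, ← hc, h2, ← hb]
    have : c = CommRingCat.ofHom b' := by
      ext t
      have := congrArg (fun m => m.hom t) hcb
      exact this
    rw [hc, this]

end Aux

/-- Let f : Y → X be a morphism of schemes (not assumed separated), R a valuation ring with fraction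
field K, and i : Spec K → Y, φ : Spec R → X with i ≫ f = (Spec K → Spec R) ≫ φ. Let y be the point
of Y hit by i and g : κ(y) → K the induced embedding, R' = g⁻¹(R) the induced valuation ring of κ(y)
and ρ : R' → R the restriction of g. Then φ factors uniquely through Spec R → Spec R': there is a
unique φ' : Spec R' → X with (Spec ρ) ≫ φ' = φ whose restriction to the generic point Spec κ(y) is
the canonical morphism Spec κ(y) → Y followed by f. (Here y and g are given as data with Spec g
followed by Spec κ(y) → Y equal to i, and ρ as data by its defining equation.) -/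
theorem result {X Y : Scheme.{u}} (f : Y ⟶ X)
    (K : Type u) [Field K] (R : ValuationSubring K)
    (i : Spec (CommRingCat.of K) ⟶ Y) (φ : Spec (CommRingCat.of ↥R) ⟶ X)
    (w : Spec.map (CommRingCat.ofHom R.subtype) ≫ φ = i ≫ f)
    (y : Y) (g : Y.residueField y ⟶ CommRingCat.of K) (hg : Spec.map g ≫ Y.fromSpecResidueField y = i)
    (ρ : ↥(R.comap g.hom) →+* ↥R)
    (hρ : ∀ x : ↥(R.comap g.hom), ((ρ x : ↥R) : K) = g.hom (x : ↑(Y.residueField y))) :
    ∃! φ' : Spec (CommRingCat.of ↥(R.comap g.hom)) ⟶ X,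
      Spec.map (CommRingCat.ofHom ρ) ≫ φ' = φ ∧
      Spec.map (CommRingCat.ofHom (R.comap g.hom).subtype) ≫ φ' = Y.fromSpecResidueField y ≫ f := by
  exact Aux.main f K R i φ w y g hg ρ hρ

end Groth.Agent.S17897
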