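import Groth.Statements.S9209
import Mathlib
import Groth.Agent.Lib.Helper9.ValCritDVR
-- import your own Groth.Agent.* helpers here

set_option autoImplicit false
universe u
open CategoryTheory CategoryTheory.Limits AlgebraicGeometry
open Lim

namespace Groth.Agent.S9209

open CategoryTheory CategoryTheory.Limits AlgebraicGeometry
namespace Aux

open Groth.Agent.Lib.Helper9.ValCritDVR Groth.Agent.Lib.Helper9.ValCritGen
open Groth.Agent.Lib.Helper9.ValCritPts Groth.Agent.Lib.Helper9.ValCritGlue

/-- extension of a discrete valuation ring along a finitely generated residue field extension -/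
theorem exists_dvr_extension {U X : Scheme.{u}} (h : U ⟶ X) [LocallyOfFiniteType h] (u₀ : U)
    (R' : ValuationSubring (X.residueField (h u₀))) (hR' : IsDiscreteValuationRing ↥R') :
    ∃ A' : ValuationSubring (U.residueField u₀), IsDiscreteValuationRing ↥A' ∧
      A'.comap (h.residueFieldMap u₀).hom = R' := by
  classical
  -- affine charts
  obtain ⟨_, ⟨V, hV, rfl⟩, hxV, -⟩ := X.isBasis_affineOpens.exists_subset_of_mem_open
    (Set.mem_univ (h u₀)) isOpen_univ
  have hV' : IsAffineOpen V := hV
  obtain ⟨_, ⟨W, hW, rfl⟩, hu₀W, hWV⟩ := U.isBasis_affineOpens.exists_subset_of_mem_open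
    (show u₀ ∈ (h ⁻¹ᵁ V : Set U) from hxV) (h ⁻¹ᵁ V).2
  have hW' : IsAffineOpen W := hW
  obtain ⟨S, hS⟩ := fg_input_κ h u₀ V hV' W hW' hWV hu₀W hxV
  let ι : ↥R' →+* U.residueField u₀ := (h.residueFieldMap u₀).hom.comp R'.subtype
  have hιinj : Function.Injective ι :=
    (h.residueFieldMap u₀).hom.injective.comp Subtype.val_injective
  have hnf : ¬ IsField ↥R' := IsDiscreteValuationRing.not_isField ↥R'
  have hS' : ∀ z : U.residueField u₀, z ∈ Subfield.closure (Set.range ι ∪ (S : Set _)) := by
    intro z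
    have h1 : Subfield.closure (Set.range (X.presheaf.germ V (h u₀) hxV ≫ h.stalkMap u₀ ≫
        U.residue u₀).hom ∪ (S : Set (U.residueField u₀))) ≤
        Subfield.closure (Set.range ι ∪ (S : Set _)) := by
      rw [Subfield.closure_le]
      rintro w (⟨c, rfl⟩ | hw)
      · -- the element comes from the residue field of `X`
        have h2 : X.presheaf.germ V (h u₀) hxV ≫ h.stalkMap u₀ ≫ U.residue u₀ =
            X.presheaf.germ V (h u₀) hxV ≫ X.residue (h u₀) ≫ h.residueFieldMap u₀ := by
          rw [Scheme.residue_residueFieldMap]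
        rw [h2]
        set k : X.residueField (h u₀) := (X.presheaf.germ V (h u₀) hxV ≫ X.residue (h u₀)).hom c
          with hk
        have h3 : (X.presheaf.germ V (h u₀) hxV ≫ X.residue (h u₀) ≫ h.residueFieldMap u₀).hom c =
            (h.residueFieldMap u₀).hom k := rfl
        rw [h3]
        obtain ⟨a, b, hb, hab⟩ := IsFractionRing.div_surjective (A := ↥R') k
        rw [← hab, map_div₀]
        exact (Subfield.closure _).div_mem (Subfield.subset_closure (Or.inl ⟨a, rfl⟩))
          (Subfield.subset_closure (Or.inl ⟨b, rfl⟩))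
      · exact Subfield.subset_closure (Or.inr hw)
    exact h1 (hS z)
  haveI : IsNoetherianRing ↥R' := inferInstance
  obtain ⟨A', hA', hmem, hdom⟩ := dvr_of_local ι hιinj hnf S hS'
  refine ⟨A', hA', ?_⟩
  ext k
  rw [ValuationSubring.mem_comap]
  constructor
  · intro hk
    by_contra hkR
    have hk0 : k ≠ 0 := fun h0 => hkR (h0 ▸ R'.zero_mem)
    have hinv : k⁻¹ ∈ R' := (R'.mem_or_inv_mem k).resolve_left hkR
    have hnu : (⟨k⁻¹, hinv⟩ : ↥R') ∈ IsLocalRing.maximalIdeal ↥R' := by
      rw [ValuationSubring.valuation_lt_one_iff]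
      have := val_inv_lt_one R' k hkR
      exact this
    have h1 := hdom _ hnu
    have h2 : ι ⟨k⁻¹, hinv⟩ = ((h.residueFieldMap u₀).hom k)⁻¹ := by
      change (h.residueFieldMap u₀).hom k⁻¹ = _
      rw [map_inv₀]
    rw [h2, map_inv₀] at h1
    have h3 : A'.valuation ((h.residueFieldMap u₀).hom k) ≤ 1 := (A'.valuation_le_one_iff _).mpr hk
    have hne : (h.residueFieldMap u₀).hom k ≠ 0 := by
      rw [Ne, map_eq_zero]; exact hk0
    have hpos : 0 < A'.valuation ((h.residueFieldMap u₀).hom k) :=
      zero_lt_iff.mpr ((Valuation.ne_zero_iff _).mpr hne)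
    have : 1 ≤ (A'.valuation ((h.residueFieldMap u₀).hom k))⁻¹ := (one_le_inv₀ hpos).mpr h3
    exact absurd h1 (not_lt.mpr this)
  · intro hk
    exact hmem ⟨k, hk⟩

theorem Hdvr_of_H {X S U : Scheme.{u}} (f : X ⟶ S) (h : U ⟶ X) [LocallyOfFiniteType h]
    (H : ∀ (A : Type u) [CommRing A] [IsDomain A] [IsDiscreteValuationRing A]
      (u : Spec (CommRingCat.of (FractionRing A)) ⟶ U) (y : Spec (CommRingCat.of A) ⟶ S),
      u ≫ h ≫ f = Spec.map (CommRingCat.ofHom (algebraMap A (FractionRing A))) ≫ y →
        ∃ l : Spec (CommRingCat.of A) ⟶ X, l ≫ f = y ∧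
          Spec.map (CommRingCat.ofHom (algebraMap A (FractionRing A))) ≫ l = u ≫ h)
    (u₀ : U) (R' : ValuationSubring (X.residueField (h u₀))) (hR' : IsDiscreteValuationRing ↥R')
    (φ' : Spec (CommRingCat.of ↥R') ⟶ S)
    (hφ' : Spec.map (CommRingCat.ofHom R'.subtype) ≫ φ' = X.fromSpecResidueField (h u₀) ≫ f) :
    ∃ l' : Spec (CommRingCat.of ↥R') ⟶ X,
      Spec.map (CommRingCat.ofHom R'.subtype) ≫ l' = X.fromSpecResidueField (h u₀) ∧
        l' ≫ f = φ' := by
  obtain ⟨A', hA', rfl⟩ := exists_dvr_extension h u₀ R' hR'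
  let e : U.residueField u₀ ≃+* FractionRing ↥A' :=
    (FractionRing.algEquiv ↥A' (U.residueField u₀)).symm.toRingEquiv
  let eI : U.residueField u₀ ≅ CommRingCat.of (FractionRing ↥A') := e.toCommRingCatIso
  have he : CommRingCat.ofHom A'.subtype ≫ eI.hom =
      CommRingCat.ofHom (algebraMap ↥A' (FractionRing ↥A')) := by
    ext a
    exact (FractionRing.algEquiv ↥A' (U.residueField u₀)).symm.commutes a
  have hρ : CommRingCat.ofHom (ρof (h.residueFieldMap u₀).hom A') ≫ CommRingCat.ofHom A'.subtype =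
      CommRingCat.ofHom (A'.comap (h.residueFieldMap u₀).hom).subtype ≫ h.residueFieldMap u₀ := by
    ext x; rfl
  -- the square over the extended valuation ring
  have hsq : (Spec.map eI.hom ≫ U.fromSpecResidueField u₀) ≫ h ≫ f =
      Spec.map (CommRingCat.ofHom (algebraMap ↥A' (FractionRing ↥A'))) ≫
        Spec.map (CommRingCat.ofHom (ρof (h.residueFieldMap u₀).hom A')) ≫ φ' := by
    rw [← he, Spec.map_comp, Category.assoc, Category.assoc]
    congr 1
    rw [← Category.assoc (Spec.map (CommRingCat.ofHom A'.subtype)), ← Spec.map_comp, hρ,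
      Spec.map_comp, Category.assoc, hφ', ← Category.assoc (Spec.map (h.residueFieldMap u₀)),
      Scheme.Hom.SpecMap_residueFieldMap_fromSpecResidueField, Category.assoc]
  obtain ⟨lA, hlA1, hlA2⟩ := H ↥A' _ _ hsq
  -- descend the lift
  have hw : Spec.map (CommRingCat.ofHom A'.subtype) ≫ lA =
      (U.fromSpecResidueField u₀ ≫ h) ≫ 𝟙 X := by
    rw [Category.comp_id, ← cancel_epi (Spec.map eI.hom), ← Category.assoc, ← Spec.map_comp, he,
      hlA2, Category.assoc]
  obtain ⟨l', ⟨hl'1, hl'2⟩, -⟩ := Groth.Agent.S17897.result (𝟙 X) (U.residueField u₀) A'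
    (U.fromSpecResidueField u₀ ≫ h) lA hw (h u₀) (h.residueFieldMap u₀)
    (Scheme.Hom.SpecMap_residueFieldMap_fromSpecResidueField h u₀)
    (ρof (h.residueFieldMap u₀).hom A') (fun x => rfl)
  rw [Category.comp_id] at hl'2
  refine ⟨l', hl'2, ?_⟩
  haveI : IsLocalRing (CommRingCat.of ↥(A'.comap (h.residueFieldMap u₀).hom)) :=
    inferInstanceAs (IsLocalRing ↥(A'.comap (h.residueFieldMap u₀).hom))
  haveI : IsLocalRing (CommRingCat.of ↥A') := inferInstanceAs (IsLocalRing ↥A')
  have hs : Spec.map (CommRingCat.ofHom (ρof (h.residueFieldMap u₀).hom A')) ≫ (l' ≫ f) =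
      Spec.map (CommRingCat.ofHom (ρof (h.residueFieldMap u₀).hom A')) ≫ φ' := by
    rw [← Category.assoc, hl'1, hlA1]
  have hinj : Function.Injective (ρof (h.residueFieldMap u₀).hom A') := by
    intro a b hab
    apply Subtype.ext
    have := congrArg Subtype.val hab
    exact (h.residueFieldMap u₀).hom.injective this
  have hloc : IsLocalHom (CommRingCat.ofHom (ρof (h.residueFieldMap u₀).hom A')).hom := by
    constructor
    intro a ha
    obtain ⟨v, hv⟩ := ha
    have ha0 : (a : X.residueField (h u₀)) ≠ 0 := by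
      intro h0
      have h1 : ((v : ↥A') : U.residueField u₀) = (h.residueFieldMap u₀).hom (a : _) :=
        congrArg Subtype.val hv
      rw [h0, map_zero] at h1
      have h2 : (v : ↥A') = 0 := Subtype.ext h1
      exact v.ne_zero h2
    have hinvmem : (a : X.residueField (h u₀))⁻¹ ∈ A'.comap (h.residueFieldMap u₀).hom := by
      rw [ValuationSubring.mem_comap, map_inv₀]
      have h1 : ((v : ↥A') : U.residueField u₀) = (h.residueFieldMap u₀).hom (a : _) :=
        congrArg Subtype.val hv
      rw [← h1]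
      have h2 : (((v⁻¹ : (↥A')ˣ) : ↥A') : U.residueField u₀) =
          ((v : ↥A') : U.residueField u₀)⁻¹ := by
        have h3 := congrArg Subtype.val v.inv_mul
        have h4 : (((v⁻¹ : (↥A')ˣ) : ↥A') : U.residueField u₀) *
            ((v : ↥A') : U.residueField u₀) = 1 := h3
        exact eq_inv_of_mul_eq_one_left h4
      rw [← h2]
      exact ((v⁻¹ : (↥A')ˣ) : ↥A').2
    refine ⟨⟨a, ⟨_, hinvmem⟩, ?_, ?_⟩, rfl⟩
    · apply Subtype.ext
      exact mul_inv_cancel₀ ha0
    · apply Subtype.ext
      exact inv_mul_cancel₀ ha0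
  exact eq_of_comp_eq' (CommRingCat.ofHom (ρof (h.residueFieldMap u₀).hom A')) hinj
    (CommRingCat.ofHom (ρof (h.residueFieldMap u₀).hom A')) (l' ≫ f) φ' hs hs

theorem main {X S U : Scheme.{u}} [IsLocallyNoetherian S] (f : X ⟶ S)
    [IsSeparated f] [LocallyOfFiniteType f] [QuasiCompact f] (h : U ⟶ X) [LocallyOfFiniteType h]
    [QuasiCompact h] (hd : DenseRange h.base)
    (H : ∀ (A : Type u) [CommRing A] [IsDomain A] [IsDiscreteValuationRing A]
      (u : Spec (CommRingCat.of (FractionRing A)) ⟶ U) (y : Spec (CommRingCat.of A) ⟶ S),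
      u ≫ h ≫ f = Spec.map (CommRingCat.ofHom (algebraMap A (FractionRing A))) ≫ y →
        ∃ l : Spec (CommRingCat.of A) ⟶ X, l ≫ f = y ∧ Spec.map (CommRingCat.ofHom (algebraMap A (FractionRing A))) ≫ l = u ≫ h) :
    IsProper f := by
  have HU : ValuativeCriterion.Uniqueness f := IsSeparated.valuativeCriterion f
  have HE : ValuativeCriterion.Existence f := by
    refine existence_of_family f (fun x => x ∈ Set.range h.base) ?_ HU ?_
    · intro x
      obtain ⟨z, hz⟩ := exists_specializes_of_denseRange h hd x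
      exact ⟨h z, ⟨z, rfl⟩, hz⟩
    · rintro _ ⟨u₀, rfl⟩ R φ hφ
      refine val_of_dvr f (h u₀) ?_ R φ hφ
      intro R' hR' φ' hφ'
      exact Hdvr_of_H f h H u₀ R' hR' φ' hφ'
  haveI : UniversallyClosed f := UniversallyClosed.of_valuativeCriterion f HE
  exact {}

end Aux

/-- Let S be a locally Noetherian scheme, f : X → S a separated morphism of finite type and h : U → X a
morphism of finite type whose image is dense in X. Suppose that for every discrete valuation ring A
with fraction field K and every commutative square formed by a morphism Spec K → U → X and a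
morphism Spec A → S, there is a morphism Spec A → X making the resulting diagram commute. Then f is
proper. -/
theorem result {X S U : Scheme.{u}} [IsLocallyNoetherian S] (f : X ⟶ S)
    [IsSeparated f] [LocallyOfFiniteType f] [QuasiCompact f] (h : U ⟶ X) [LocallyOfFiniteType h] [QuasiCompact h]
    (hd : DenseRange h.base)
    (H : ∀ (A : Type u) [CommRing A] [IsDomain A] [IsDiscreteValuationRing A]
      (u : Spec (CommRingCat.of (FractionRing A)) ⟶ U) (y : Spec (CommRingCat.of A) ⟶ S),
      u ≫ h ≫ f = Spec.map (CommRingCat.ofHom (algebraMap A (FractionRing A))) ≫ y →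
        ∃ l : Spec (CommRingCat.of A) ⟶ X, l ≫ f = y ∧ Spec.map (CommRingCat.ofHom (algebraMap A (FractionRing A))) ≫ l = u ≫ h) :
    IsProper f := by
  exact Aux.main f h hd H

end Groth.Agent.S9209
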