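import Groth.Statements.S0508
-- import your own Groth.Agent.* helpers here
import Mathlib
import Groth.Agent.Lib.Helper7.Hens.Abstract

set_option autoImplicit false
universe u
open Hensel

namespace Groth.Agent.S0508

/-- The henselization of a local ring induces an isomorphism on residue fields. -/
theorem result (R : Type u) [CommRing R] [IsLocalRing R] (S : Type u) [CommRing S] [IsLocalRing S]
    [Algebra R S] [IsLocalHom (algebraMap R S)] [Hensel.IsHenselization R S] :
    Function.Bijective (IsLocalRing.ResidueField.map (algebraMap R S)) := by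
  refine ⟨RingHom.injective _, fun y => ?_⟩
  obtain ⟨s, rfl⟩ := IsLocalRing.residue_surjective y
  have hbij := (Groth.Agent.Helper7.Hens.quotient_bijective_of_isPairHenselization
    (Groth.Agent.Helper7.Hens.isPairHenselization_of_isHenselization R S)).2
  obtain ⟨x, hx⟩ := hbij (Ideal.Quotient.mk _ s)
  obtain ⟨a, rfl⟩ := Ideal.Quotient.mk_surjective x
  rw [Ideal.quotientMap_mk, Ideal.Quotient.eq,
    Groth.Agent.Helper7.Hens.map_maximalIdeal_of_isHenselization R S] at hx
  refine ⟨IsLocalRing.residue R a, ?_⟩
  rw [IsLocalRing.ResidueField.map_residue]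
  exact Ideal.Quotient.eq.mpr hx

end Groth.Agent.S0508
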