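import Groth.Statements.S10351
import Mathlib
import Groth.Agent.Lib.Helper2.AlgSp.Basic
import Groth.Agent.Lib.Helper2.AlgSp.Points
import Groth.Agent.Lib.Helper2.AlgSp.Mono

open Groth.Agent.Helper2.AlgSpBasic

set_option autoImplicit false
universe u
open CategoryTheory CategoryTheory.Limits AlgebraicGeometry Topology TopologicalSpace
open AlgSp

namespace Groth.Agent.S10351

/-- Let S be a scheme, X and Y algebraic spaces over S, and f : X ⟶ Y a morphism which is representable
by schemes. If Y is decent then X is decent. -/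
theorem result {S : Scheme.{u}} {X Y : AlgSp.Space S} (f : X ⟶ Y)
    (hf : AlgSp.Representable f.hom) (hY : AlgSp.IsDecent Y.obj) : AlgSp.IsDecent X.obj := by
  intro x
  obtain ⟨p, hp, hpm, hpq⟩ := hY (Points.map f.hom x)
  have pb := hf.isPullback p.toHom
  -- the point of `Spec K`
  let s : ↥(Spec (CommRingCat.of p.K)) := IsLocalRing.closedPoint p.K
  have hs : Points.map p.toHom (Points.ofScheme p.pt s) = Points.map f.hom x := by
    rw [← Points.ofPt_eq_map_ofScheme, Points.ofPt_toHom, hp]
  obtain ⟨π, -, hπ⟩ := points_exists_of_isPullback f.hom p.toHom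
    ((yon S).map (hf.snd p.toHom)) (hf.fst p.toHom) pb.flip (Points.ofScheme p.pt s) x hs
  -- the corresponding point of the scheme
  have hπ' : Points.ofScheme _ (Points.toScheme _ π) = π := Points.ofScheme_toScheme _ π
  set ξ := Points.toScheme (hf.pullback p.toHom) π with hξ
  have hx : Points.ofPt (hf.fst p.toHom) ξ = x := by
    rw [Points.ofPt_eq_map_ofScheme, hπ', hπ]
  refine ⟨FieldPt.ofPt (hf.fst p.toHom) ξ, hx, ?_, ?_⟩
  · rw [FieldPt.toHom_ofPt]
    have h1 : Mono (hf.fst p.toHom) := by
      exact pb.mono_fst_of_mono hpm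
    have h2 : Mono (Over.homMk ((hf.pullback p.toHom).left.fromSpecResidueField ξ) rfl :
        Over.mk ((hf.pullback p.toHom).left.fromSpecResidueField ξ ≫ (hf.pullback p.toHom).hom) ⟶
          hf.pullback p.toHom) := by
      apply (Over.forget S).mono_of_mono_map
      change Mono ((hf.pullback p.toHom).left.fromSpecResidueField ξ)
      infer_instance
    haveI := h2
    haveI := h1
    have h3 := Functor.map_mono (yon S) (Over.homMk
      ((hf.pullback p.toHom).left.fromSpecResidueField ξ) rfl :
        Over.mk ((hf.pullback p.toHom).left.fromSpecResidueField ξ ≫ (hf.pullback p.toHom).hom) ⟶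
          hf.pullback p.toHom)
    refine @mono_comp _ _ _ _ _ _ ?_ _ h1
    exact h3
  · rw [FieldPt.toHom_ofPt]
    refine repWith_comp @QuasiCompact ((repWith_yon_map_iff @QuasiCompact _).2 ?_)
      (repWith_of_isPullback @QuasiCompact pb.flip hpq)
    change QuasiCompact ((hf.pullback p.toHom).left.fromSpecResidueField ξ)
    rw [quasiCompact_iff]
    intro U _ _
    exact (Set.toFinite _).isCompact

end Groth.Agent.S10351
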