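import Groth.Statements.S10380
import Groth.Agent.S10351
import Groth.Agent.Lib.Helper2.AlgSp.Basic
open Groth.Agent.Helper2


set_option autoImplicit false
universe u
open CategoryTheory CategoryTheory.Limits AlgebraicGeometry Topology TopologicalSpace
open AlgSp

namespace Groth.Agent.S10380

/-- A morphism f : X ⟶ Y of algebraic spaces over a scheme S whose source X is decent is a decent
morphism. -/
theorem result {S : Scheme.{u}} {X Y : AlgSp.Space S} (f : X ⟶ Y)
    (hX : AlgSp.IsDecent X.obj) : AlgSp.IsDecentMor f.hom := by
  intro T F' g fst snd sq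
  have hF' : AlgSp.IsAlgSpace F' :=
    AlgSpBasic.isAlgSpace_of_isPullback Y.property.diag X.property (AlgSp.IsAlgSpace.yon_obj T)
      f.hom g fst snd sq
  have hg : AlgSp.Representable g := Y.property.representable_from_yon g
  have hfst : AlgSp.Representable fst :=
    MorphismProperty.of_isPullback (P := AlgSp.Representable) sq.flip hg
  exact Groth.Agent.S10351.result (X := ⟨F', hF'⟩) (Y := X) (ObjectProperty.homMk fst) hfst hX

end Groth.Agent.S10380
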