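import Groth.Statements.S1610
import Mathlib
import Groth.Agent.S1541

set_option autoImplicit false
universe u
open CategoryTheory CategoryTheory.Limits AlgebraicGeometry
open Variety

namespace Groth.Agent.S1610

section
open CategoryTheory CategoryTheory.Limits AlgebraicGeometry

open TensorProduct

theorem isReduced_tensor_of_isReduced_tensor_perfect (k P Ω R : Type*) [Field k] [Field P]
    [PerfectField P] [Field Ω] [Algebra k P] [Algebra P Ω] [Algebra k Ω] [IsScalarTower k P Ω]
    [CommRing R] [Algebra k R] (h : _root_.IsReduced (R ⊗[k] P)) : _root_.IsReduced (Ω ⊗[k] R) := by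
  haveI : _root_.IsReduced (P ⊗[k] R) := isReduced_of_injective
    (Algebra.TensorProduct.comm k P R).toRingEquiv.toRingHom
    (Algebra.TensorProduct.comm k P R).injective
  haveI : _root_.IsReduced ((P ⊗[k] R) ⊗[P] Ω) :=
    Groth.Agent.S2536.isReduced_tensor_of_perfect P (P ⊗[k] R) Ω
  haveI : _root_.IsReduced (Ω ⊗[P] (P ⊗[k] R)) := isReduced_of_injective
    (Algebra.TensorProduct.comm P Ω (P ⊗[k] R)).toRingEquiv.toRingHom
    (Algebra.TensorProduct.comm P Ω (P ⊗[k] R)).injective
  exact isReduced_of_injective
    (Algebra.TensorProduct.cancelBaseChange k P P Ω R).symm.toRingEquiv.toRingHom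
    (Algebra.TensorProduct.cancelBaseChange k P P Ω R).symm.injective

/-- Lemma C: purely inseparable criterion for geometric reducedness -/
theorem isGeometricallyReduced_of_forall_purelyInseparable {k : Type u} [Field k] (R : Type u)
    [CommRing R] [Algebra k R]
    (h : ∀ (k' : Type u) [Field k'] [Algebra k k'] [FiniteDimensional k k']
      [IsPurelyInseparable k k'], _root_.IsReduced (R ⊗[k] k')) :
    Algebra.IsGeometricallyReduced k R := by
  have h1 : _root_.IsReduced (R ⊗[k] ↥(perfectClosure k (AlgebraicClosure k))) := by
    apply IsReduced.tensorProduct_of_flat_of_forall_fg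
    intro B hB
    obtain ⟨S, hS⟩ := hB
    let E := IntermediateField.adjoin k (S : Set ↥(perfectClosure k (AlgebraicClosure k)))
    have hE : E.toSubalgebra = B := by
      rw [← hS]
      exact IntermediateField.adjoin_toSubalgebra (S : Set ↥(perfectClosure k (AlgebraicClosure k)))
    haveI : FiniteDimensional k E :=
      IntermediateField.finiteDimensional_adjoin fun x _ =>
        (Algebra.IsAlgebraic.isAlgebraic x).isIntegral
    haveI : IsPurelyInseparable k E :=
      IsPurelyInseparable.tower_bot k E ↥(perfectClosure k (AlgebraicClosure k))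
    have h2 := h E
    subst hE
    exact h2
  rw [Algebra.isGeometricallyReduced_field_iff]
  exact isReduced_tensor_of_isReduced_tensor_perfect k
    ↥(perfectClosure k (AlgebraicClosure k)) (AlgebraicClosure k) R h1

theorem main (k : Type u) [Field k] (p : ℕ) [Fact p.Prime] [CharP k p]
    (X : Scheme.{u}) [X.Over (Spec (CommRingCat.of k))] (x : X) :
    Curv2.IsGeomReducedAt k X x ↔
      ∀ (k' : Type u) [Field k'] [Algebra k k'] [FiniteDimensional k k'] [IsPurelyInseparable k k']
        (x' : Curv2.bc k X k'), Curv2.bcFst k X k' x' = x → _root_.IsReduced ((Curv2.bc k X k').presheaf.stalk x') := by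
  constructor
  · intro h k' _ _ _ _ x' hx'
    exact h k' x' hx'
  · intro h
    letI := Curv2.stalkAlgebra k X x
    rw [Groth.Agent.S1541.main k X x]
    apply isGeometricallyReduced_of_forall_purelyInseparable
    intro k' _ _ _ _
    haveI : Algebra.IsAlgebraic k k' := Algebra.IsAlgebraic.of_finite k k'
    exact Groth.Agent.S1541.isReduced_tensor_of_forall_stalk (X ↘ Spec (CommRingCat.of k)) x
      (Groth.Agent.S1560.specMap_stalkMap k X x) (fun x' hx' => h k' x' hx')


end


/-- Let k have characteristic p > 0, X a scheme over k and x a point. Then X is geometrically reduced at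
x if and only if for every finite purely inseparable extension k' of k and every point x' of X_{k'}
over x, the local ring of X_{k'} at x' is reduced. -/
theorem result (k : Type u) [Field k] (p : ℕ) [Fact p.Prime] [CharP k p]
    (X : Scheme.{u}) [X.Over (Spec (CommRingCat.of k))] (x : X) :
    Curv2.IsGeomReducedAt k X x ↔
      ∀ (k' : Type u) [Field k'] [Algebra k k'] [FiniteDimensional k k'] [IsPurelyInseparable k k']
        (x' : Curv2.bc k X k'), Curv2.bcFst k X k' x' = x → IsReduced ((Curv2.bc k X k').presheaf.stalk x') := by
  classical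
  exact main k p X x

end Groth.Agent.S1610
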