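import Groth.Statements.S1545
import Mathlib
import Groth.Agent.S1610
import Groth.Agent.S1609

set_option autoImplicit false
universe u
open CategoryTheory CategoryTheory.Limits AlgebraicGeometry
open Variety

namespace Groth.Agent.S1545

section
open CategoryTheory CategoryTheory.Limits AlgebraicGeometry

open TensorProduct

theorem universallyInjective_spec_of_purelyInseparable (k K : Type u) [Field k] [Field K]
    [Algebra k K] [IsPurelyInseparable k K] :
    UniversallyInjective (Spec.map (CommRingCat.ofHom (algebraMap k K))) := by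
  apply ((tfae_universallyInjective (Spec.map (CommRingCat.ofHom (algebraMap k K)))).out 0 1).mpr
  intro L _ g₁ g₂ hg
  obtain ⟨a₁, rfl⟩ : ∃ a, Spec.map a = g₁ := ⟨Spec.preimage g₁, Spec.map_preimage g₁⟩
  obtain ⟨a₂, rfl⟩ : ∃ a, Spec.map a = g₂ := ⟨Spec.preimage g₂, Spec.map_preimage g₂⟩
  simp only [← Spec.map_comp] at hg
  have h1 := Spec.map_injective hg
  have h2 : a₁.hom.comp (algebraMap k K) = a₂.hom.comp (algebraMap k K) :=
    congrArg CommRingCat.Hom.hom h1
  have h3 : a₁.hom = a₂.hom := IsPurelyInseparable.injective_comp_algebraMap k K L h2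
  congr 1
  exact CommRingCat.hom_ext h3

theorem injective_bcπ_of_purelyInseparable {k K : Type u} [Field k] [Field K]
    [Algebra k K] [IsPurelyInseparable k K] {X : Scheme.{u}} (f : X ⟶ Spec (CommRingCat.of k)) :
    Function.Injective (Groth.Agent.S2502.bcπ f K) := by
  haveI := universallyInjective_spec_of_purelyInseparable k K
  haveI : UniversallyInjective (Groth.Agent.S2502.bcπ f K) :=
    MorphismProperty.pullback_fst (P := @UniversallyInjective) f _ inferInstance
  exact (Groth.Agent.S2502.bcπ f K).injective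

theorem stalkMap_injective_of_flat {X Y : Scheme.{u}} (g : X ⟶ Y) [Flat g]
    (z : X) : Function.Injective (g.stalkMap z).hom := by
  letI : Algebra (Y.presheaf.stalk (g z)) (X.presheaf.stalk z) := (g.stalkMap z).hom.toAlgebra
  haveI : Module.Flat (Y.presheaf.stalk (g z)) (X.presheaf.stalk z) :=
    RingHom.flat_algebraMap_iff.mp (Flat.stalkMap g z)
  haveI : IsLocalHom (algebraMap (Y.presheaf.stalk (g z)) (X.presheaf.stalk z)) :=
    inferInstanceAs (IsLocalHom (g.stalkMap z).hom)
  haveI : Module.FaithfullyFlat (Y.presheaf.stalk (g z)) (X.presheaf.stalk z) :=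
    Module.FaithfullyFlat.of_flat_of_isLocalHom
  exact FaithfulSMul.algebraMap_injective (Y.presheaf.stalk (g z)) (X.presheaf.stalk z)

theorem flat_bcTrans {k : Type u} [Field k] {X : Scheme.{u}} (f : X ⟶ Spec (CommRingCat.of k))
    (K L : Type u) [Field K] [Field L] [Algebra k K] [Algebra k L] [Algebra K L]
    [IsScalarTower k K L] : Flat (Groth.Agent.S7591.bcTrans f K L) := by
  haveI : Flat (Spec.map (CommRingCat.ofHom (algebraMap K L))) := by
    rw [Flat.SpecMap_iff]
    exact RingHom.flat_algebraMap_iff.mpr inferInstance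
  exact MorphismProperty.of_isPullback (P := @Flat) (Groth.Agent.S7591.isPullback_bcTrans f K L).flip
    inferInstance

/-- stalks of `(X_K)_L` and of `X_L` -/
theorem isReduced_stalk_bc_bc_iff {k : Type u} [Field k] {X : Scheme.{u}}
    (f : X ⟶ Spec (CommRingCat.of k))
    (K L : Type u) [Field K] [Field L] [Algebra k K] [Algebra k L] [Algebra K L]
    [IsScalarTower k K L]
    (z : ↥(Groth.Agent.S2502.bc f L)) :
    _root_.IsReduced ((Groth.Agent.S2502.bc f L).presheaf.stalk z) ↔
    _root_.IsReduced ((Groth.Agent.S2502.bc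
      (pullback.snd f (Spec.map (CommRingCat.ofHom (algebraMap k K)))) L).presheaf.stalk
        ((Groth.Agent.S7591.isPullback_bcTrans f K L).isoPullback.hom z)) := by
  set φ := (Groth.Agent.S7591.isPullback_bcTrans f K L).isoPullback
  have i1 := asIso (φ.hom.stalkMap z)
  let e := i1.commRingCatIsoToRingEquiv
  constructor
  · intro h
    exact isReduced_of_injective e.toRingHom e.injective
  · intro h
    exact isReduced_of_injective e.symm.toRingHom e.symm.injective

theorem main (k : Type u) [Field k] (X : Scheme.{u}) [X.Over (Spec (CommRingCat.of k))] (k' : Type u) [Field k'] [Algebra k k']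
    (x : X) (x' : Curv2.bc k X k') (hx : Curv2.bcFst k X k' x' = x) :
    Curv2.IsGeomReducedAt k X x ↔
      @Curv2.IsGeomReducedAt k' _ (Curv2.bc k X k') ⟨Curv2.bcSnd k X k'⟩ x' := by
  constructor
  · intro h K' _ _ x'' hx''
    letI : Algebra k K' := ((algebraMap k' K').comp (algebraMap k k')).toAlgebra
    haveI : IsScalarTower k k' K' := IsScalarTower.of_algebraMap_eq fun _ => rfl
    have hpb := Groth.Agent.S7591.isPullback_bcTrans (X ↘ Spec (CommRingCat.of k)) k' K'
    have hz : hpb.isoPullback.hom (hpb.isoPullback.inv x'') = x'' := by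
      rw [← Scheme.Hom.comp_apply, Iso.inv_hom_id]; rfl
    have h1 : _root_.IsReduced ((Groth.Agent.S2502.bc (X ↘ Spec (CommRingCat.of k)) K').presheaf.stalk
        (hpb.isoPullback.inv x'')) := by
      apply h K' (hpb.isoPullback.inv x'')
      have e1 := Groth.Agent.S7591.bcTrans_fst (X ↘ Spec (CommRingCat.of k)) k' K'
      have e2 := congrArg (fun g => g (hpb.isoPullback.inv x'')) e1
      simp only [Scheme.Hom.comp_apply] at e2
      have e3 := congrArg (fun g => g x'') hpb.isoPullback_inv_fst
      simp only [Scheme.Hom.comp_apply] at e3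
      rw [← hx, ← hx'']
      exact e2.symm.trans (congrArg _ e3)
    have h2 := (isReduced_stalk_bc_bc_iff (X ↘ Spec (CommRingCat.of k)) k' K'
      (hpb.isoPullback.inv x'')).mp h1
    rw [hz] at h2
    exact h2
  · intro h
    letI := Curv2.stalkAlgebra k X x
    rw [Groth.Agent.S1541.main k X x]
    apply Groth.Agent.S1610.isGeometricallyReduced_of_forall_purelyInseparable
    intro k'' _ _ _ _
    haveI : Algebra.IsAlgebraic k k'' := Algebra.IsAlgebraic.of_finite k k''
    apply Groth.Agent.S1541.isReduced_tensor_of_forall_stalk (X ↘ Spec (CommRingCat.of k)) x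
      (Groth.Agent.S1560.specMap_stalkMap k X x)
    intro x₁ hx₁
    obtain ⟨L, _, b, c, hbc⟩ := Groth.Agent.S1609.exists_compositum k k' k'' (algebraMap k k')
      (algebraMap k k'')
    letI : Algebra k' L := b.toAlgebra
    letI : Algebra k'' L := c.toAlgebra
    letI : Algebra k L := (b.comp (algebraMap k k')).toAlgebra
    haveI : IsScalarTower k k' L := IsScalarTower.of_algebraMap_eq fun _ => rfl
    haveI : IsScalarTower k k'' L := IsScalarTower.of_algebraMap_eq fun y =>
      congrArg (fun g : k →+* L => g y) hbc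
    obtain ⟨x₂, hx₂⟩ := Groth.Agent.S7591.surjective_bcTrans (X ↘ Spec (CommRingCat.of k)) k' L x'
    have e1 := Groth.Agent.S7591.bcTrans_fst (X ↘ Spec (CommRingCat.of k)) k'' L
    have e2 := congrArg (fun g => g x₂) e1
    simp only [Scheme.Hom.comp_apply] at e2
    have e3 := Groth.Agent.S7591.bcTrans_fst (X ↘ Spec (CommRingCat.of k)) k' L
    have e4 := congrArg (fun g => g x₂) e3
    simp only [Scheme.Hom.comp_apply] at e4
    have h1 : Groth.Agent.S7591.bcTrans (X ↘ Spec (CommRingCat.of k)) k'' L x₂ = x₁ := by
      apply injective_bcπ_of_purelyInseparable (X ↘ Spec (CommRingCat.of k))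
      rw [e2, hx₁, ← e4, hx₂]
      exact hx
    have hpb := Groth.Agent.S7591.isPullback_bcTrans (X ↘ Spec (CommRingCat.of k)) k' L
    have hred : _root_.IsReduced ((Groth.Agent.S2502.bc (X ↘ Spec (CommRingCat.of k)) L).presheaf.stalk x₂) := by
      rw [isReduced_stalk_bc_bc_iff (X ↘ Spec (CommRingCat.of k)) k' L x₂]
      apply h L (hpb.isoPullback.hom x₂)
      have e5 := congrArg (fun g => g x₂) hpb.isoPullback_hom_fst
      simp only [Scheme.Hom.comp_apply] at e5
      exact e5.trans hx₂
    subst h1
    haveI := flat_bcTrans (X ↘ Spec (CommRingCat.of k)) k'' L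
    exact isReduced_of_injective _
      (stalkMap_injective_of_flat (Groth.Agent.S7591.bcTrans (X ↘ Spec (CommRingCat.of k)) k'' L) x₂)


end


/-- For a field extension k' of k, a point x of X and a point x' of X_{k'} over x, X is geometrically
reduced at x if and only if X_{k'} is geometrically reduced at x' (over k'). -/
theorem result (k : Type u) [Field k] (X : Scheme.{u}) [X.Over (Spec (CommRingCat.of k))] (k' : Type u) [Field k'] [Algebra k k']
    (x : X) (x' : Curv2.bc k X k') (hx : Curv2.bcFst k X k' x' = x) :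
    Curv2.IsGeomReducedAt k X x ↔
      @Curv2.IsGeomReducedAt k' _ (Curv2.bc k X k') ⟨Curv2.bcSnd k X k'⟩ x' := by
  classical
  exact main k X k' x x' hx

end Groth.Agent.S1545
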