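import Groth.Statements.S0342
import Groth.Agent.Lib.Helper8.ABS21

set_option autoImplicit false
universe u v
open Goren

namespace Groth.Agent.S0342

/-- Regular local rings have finite injective dimension over themselves, i.e. are Gorenstein. -/
theorem result (A : Type u) [CommRing A] [IsRegularLocalRing A] : LocCoh.IsGorensteinLocalRing A := by
  exact Groth.Agent.Helper8.ABS.isGorensteinLocalRing_of_isRegularLocalRing A

end Groth.Agent.S0342
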