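import Groth.Statements.S1482
import Groth.Agent.Lib.Helper6.EtLoc.PISplit
import Groth.Agent.Lib.Helper6.EtLoc.QFClopen

set_option autoImplicit false
universe u
open FlatMor

namespace Groth.Agent.S1482

open AlgebraicGeometry CategoryTheory Limits in
/-- Let f : X → S be locally of finite type, s a point of S and x_1, …, x_n pairwise distinct points
over s at which f is quasi-finite. Then there are an étale morphism g : U → S with a point u over s
and, for each i, finitely many opens V_{i,j} of X_U = X ×_S U, each finite over U and containing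
exactly one point v_{i,j} over u, with κ(v_{i,j}) finite purely inseparable over κ(u), the v_{i,j}
pairwise distinct, v_{i,j} mapping to x_i, and every point of X_U over u mapping to some x_i equal
to one of the v_{i,j}. -/
theorem result {X S : Scheme.{u}} (f : X ⟶ S) [LocallyOfFiniteType f] (s : S) {ι : Type} [Finite ι]
    (x : ι → ↑X) (hinj : Function.Injective x) (hs : ∀ i, f (x i) = s) (hx : ∀ i, f.QuasiFiniteAt (x i)) :
    ∃ (U : Scheme.{u}) (g : U ⟶ S) (u : U), Etale g ∧ g u = s ∧
      ∃ (J : ι → Type) (_ : ∀ i, Finite (J i)) (V : ∀ i, J i → (pullback f g).Opens) (v : ∀ i, J i → ↑(pullback f g)),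
        (∀ i j, v i j ∈ V i j ∧ IsFinite ((V i j).ι ≫ pullback.snd f g) ∧ pullback.snd f g (v i j) = u ∧
          (∀ w : ↑(pullback f g), w ∈ V i j → pullback.snd f g w = u → w = v i j) ∧
          (letI := ((pullback.snd f g).residueFieldMap (v i j)).hom.toAlgebra
           Module.Finite ↑(U.residueField (pullback.snd f g (v i j))) ↑((pullback f g).residueField (v i j)) ∧
           IsPurelyInseparable ↑(U.residueField (pullback.snd f g (v i j))) ↑((pullback f g).residueField (v i j))) ∧
          pullback.fst f g (v i j) = x i) ∧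
        (∀ i j i' j', v i j = v i' j' → i = i' ∧ HEq j j') ∧
        (∀ (w : ↑(pullback f g)) (i : ι), pullback.snd f g w = u → pullback.fst f g w = x i → ∃ j, w = v i j) := by
  classical
  open Groth.Agent.Lib.Helper6.EtLoc in
  obtain ⟨U₁, g₁, u₁, hg₁, hu₁, n, y, lab₀, hyinj, hyu, hyx, hY, hPI, hyqf⟩ :=
    exists_pi_setup f s x hs hx (ringExpChar ↑(S.residueField s))
  open Groth.Agent.Lib.Helper6.EtLoc in
  obtain ⟨U, h, u, hh, hhu, hres, hdat⟩ :=
    exists_common_nbhd_res (P := @IsFinite) (f := pullback.snd f g₁) u₁ (Fin n) y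
      (fun j => by
        obtain ⟨U, g, u, h1, h2, h3, h4⟩ := qf_point (pullback.snd f g₁) (y j) (hyqf j)
        exact ⟨U, g, u, h1, h2.trans (hyu j), h3, h4⟩)
  open Groth.Agent.Lib.Helper6.EtLoc in
  obtain ⟨K, hK, lab, V', h1, h2, h3, h4⟩ := assemble y hyinj h u hdat
  open Groth.Agent.Lib.Helper6.EtLoc in
  obtain ⟨k, w, ha, hb, hc, hdd, he, hf, hg, hh'⟩ :=
    core_split f g₁ h x (ringExpChar ↑(S.residueField s)) u₁ u hhu hres y hyu hY hPI lab V'
      (fun k => (h1 k).1) h2 h4
  have hgu : (h ≫ g₁) u = s := by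
    rw [Scheme.Hom.comp_apply, hhu, hu₁]
  have hwx : ∀ j, pullback.fst f (h ≫ g₁) (w j) = x (lab₀ j) := by
    intro j
    rw [← Groth.Agent.Lib.Helper6.EtLoc.fst_bcMap_apply, hdd j, hyx j]
  refine ⟨U, h ≫ g₁, u, inferInstance, hgu, fun i => {j : Fin n // lab₀ j = i},
    fun i => inferInstance,
    fun i j => (Groth.Agent.Lib.Helper6.EtLoc.bcIso f g₁ h).hom ⁻¹ᵁ V' (k j.1),
    fun i j => w j.1, ?_, ?_, ?_⟩
  · intro i j
    refine ⟨hb j.1, hg j.1, hc j.1, he j.1, ⟨?_, ?_⟩, ?_⟩
    · apply Groth.Agent.Lib.Helper6.EtLoc.finite_residueFieldMap_of_quasiFiniteAt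
      apply Groth.Agent.Lib.Helper6.EtLoc.quasiFiniteAt_snd
      rw [hwx j.1]
      exact hx _
    · have : ExpChar ↑(S.residueField s) (ringExpChar ↑(S.residueField s)) :=
        ringExpChar.expChar _
      have hq : ExpChar ↑(U.residueField (pullback.snd f (h ≫ g₁) (w j.1)))
          (ringExpChar ↑(S.residueField s)) :=
        Groth.Agent.Lib.Helper6.EtLoc.expChar_residueField_of_eq (h ≫ g₁) _ s
          (by rw [hc j.1]; exact hgu) _
      exact Groth.Agent.Lib.Helper6.EtLoc.PIhom.isPurelyInseparable _ (hf j.1)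
    · rw [hwx j.1, j.2]
  · intro i j i' j' hvv
    have hjj : j.1 = j'.1 := by
      apply hyinj
      rw [← hdd j.1, ← hdd j'.1]
      exact congrArg _ hvv
    have hii : i = i' := by rw [← j.2, ← j'.2, hjj]
    subst hii
    exact ⟨rfl, heq_of_eq (Subtype.ext hjj)⟩
  · intro w' i hw'u hw'x
    obtain ⟨j, hj1, hj2⟩ := hh' w' i hw'u hw'x
    have hji : lab₀ j = i := hinj ((hyx j).symm.trans hj1)
    exact ⟨⟨j, hji⟩, hj2⟩

end Groth.Agent.S1482
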