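import Groth.Statements.S18866
import Mathlib
import Groth.Agent.Lib.Helper8.Goren4

set_option autoImplicit false
universe u
open Liaison

namespace Groth.Agent.S18866

namespace H18866
open LocCoh IsLocalRing Groth.Agent.Helper8.Depth Groth.Agent.Helper8.Goren

/-- In a CM local ring, if the maximal ideal is associated then the ring has dimension 0. -/
lemma krullDim_eq_zero_of_maximalIdeal_mem_ass (A : Type u) [CommRing A] [IsCohenMacaulayLocalRing A]
    (h : maximalIdeal A ∈ associatedPrimes A A) : ringKrullDim A = 0 := by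
  have h1 := depth_le_dim_quotient_associatedPrime (A := A) (M := A) (maximalIdeal A) h
  have h2 : ringKrullDim (A ⧸ maximalIdeal A) = 0 := by
    have : IsField (A ⧸ maximalIdeal A) := (Ideal.Quotient.maximal_ideal_iff_isField_quotient _).1
      (maximalIdeal.isMaximal A)
    let _ := this.toField
    exact ringKrullDim_eq_zero_of_field _
  have h3 := IsCohenMacaulayLocalRing.supportDim_eq_depth (R := A)
  rw [Module.supportDim_self_eq_ringKrullDim] at h3
  rw [h3]
  rw [h2] at h1
  apply le_antisymm h1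
  exact_mod_cast (zero_le : (0 : ℕ∞) ≤ depth A A)

/-- In a ring whose localizations are CM local, associated primes are minimal. -/
lemma mem_minimalPrimes_of_mem_ass (B : Type u) [CommRing B] [IsNoetherianRing B]
    (hCM : ∀ (p : Ideal B) [p.IsPrime], IsCohenMacaulayLocalRing (Localization.AtPrime p))
    (P : Ideal B) (hP : P ∈ associatedPrimes B B) : P ∈ minimalPrimes B := by
  have hprime : P.IsPrime := hP.isPrime
  have := hCM P
  have h1 : maximalIdeal (Localization.AtPrime P) ∈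
      associatedPrimes (Localization.AtPrime P) (Localization.AtPrime P) := by
    have : IsLocalizedModule P.primeCompl (Algebra.linearMap B (Localization.AtPrime P)) :=
      (isLocalizedModule_iff_isLocalization).2 inferInstance
    apply Module.associatedPrimes.mem_associatedPrimes_of_comap_mem_associatedPrimes_of_isLocalizedModule
      P.primeCompl (Algebra.linearMap B (Localization.AtPrime P))
    have h0 : Ideal.comap (algebraMap B (Localization.AtPrime P))
        (maximalIdeal (Localization.AtPrime P)) = P := Localization.AtPrime.under_maximalIdeal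
    rw [h0]
    exact hP
  have h2 := krullDim_eq_zero_of_maximalIdeal_mem_ass _ h1
  rw [IsLocalization.AtPrime.ringKrullDim_eq_height P] at h2
  rw [← Ideal.height_eq_zero_iff]
  exact_mod_cast h2

/-- associated primes of `R ⧸ 𝔠` as an `R`-module are minimal over `𝔠` when `R ⧸ 𝔠` is CM. -/
lemma mem_minimalPrimes_of_mem_ass_quotient (R : Type u) [CommRing R] [IsNoetherianRing R]
    (𝔠 : Ideal R)
    (hCM : ∀ (p : Ideal (R ⧸ 𝔠)) [p.IsPrime], IsCohenMacaulayLocalRing (Localization.AtPrime p))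
    (p : Ideal R) (hp : p ∈ associatedPrimes R (R ⧸ 𝔠)) : p ∈ 𝔠.minimalPrimes := by
  obtain ⟨hprime, x, hx⟩ := (isAssociatedPrime_iff).1 hp
  -- the corresponding ideal of the quotient
  let P : Ideal (R ⧸ 𝔠) := (⊥ : Submodule (R ⧸ 𝔠) (R ⧸ 𝔠)).colon {x}
  have hcomap : P.comap (Ideal.Quotient.mk 𝔠) = p := by
    rw [hx]
    ext r
    simp only [Ideal.mem_comap, P, Submodule.mem_colon_singleton, Submodule.mem_bot]
    rfl
  have h𝔠p : 𝔠 ≤ p := by
    rw [← hcomap]
    intro r hr
    rw [Ideal.mem_comap, Ideal.Quotient.eq_zero_iff_mem.2 hr]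
    exact P.zero_mem
  have hPmap : P = p.map (Ideal.Quotient.mk 𝔠) := by
    rw [← hcomap, Ideal.map_comap_of_surjective _ Ideal.Quotient.mk_surjective]
  have hPprime : P.IsPrime := by
    rw [hPmap]
    exact Ideal.map_isPrime_of_surjective Ideal.Quotient.mk_surjective
      (by rw [Ideal.mk_ker]; exact h𝔠p)
  have hPass : P ∈ associatedPrimes (R ⧸ 𝔠) (R ⧸ 𝔠) :=
    (isAssociatedPrime_iff).2 ⟨hPprime, x, rfl⟩
  have hPmin := mem_minimalPrimes_of_mem_ass (R ⧸ 𝔠) hCM P hPass
  rw [Ideal.minimalPrimes_eq_comap]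
  exact ⟨P, hPmin, hcomap⟩

theorem main (R : Type u) [CommRing R] [IsNoetherianRing R] (𝔠 I J : Ideal R)
    [LocCoh.IsGorensteinRing (R ⧸ 𝔠)]
    (hIJ : 𝔠.colon (I : Set R) = J) (hJI : 𝔠.colon (J : Set R) = I)
    (hdisj : Disjoint (associatedPrimes R (R ⧸ I)) (associatedPrimes R (R ⧸ J))) :
    I ⊓ J = 𝔠 := by
  have hCM : ∀ (p : Ideal (R ⧸ 𝔠)) [p.IsPrime],
      IsCohenMacaulayLocalRing (Localization.AtPrime p) := by
    intro p _
    have := IsGorensteinRing.isGorensteinLocalRing_localization p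
    exact isCohenMacaulayLocalRing_of_isGorensteinLocalRing _
  have h𝔠I : 𝔠 ≤ I := by
    rw [← hJI]
    intro x hx
    rw [Submodule.mem_colon]
    intro j _
    exact 𝔠.mul_mem_right j hx
  have h𝔠J : 𝔠 ≤ J := by
    rw [← hIJ]
    intro x hx
    rw [Submodule.mem_colon]
    intro j _
    exact 𝔠.mul_mem_right j hx
  apply le_antisymm _ (le_inf h𝔠I h𝔠J)
  rintro x ⟨hxI, hxJ⟩
  by_contra hx𝔠
  have hx0 : (Ideal.Quotient.mk 𝔠 x) ≠ 0 := fun h => hx𝔠 (Ideal.Quotient.eq_zero_iff_mem.1 h)
  obtain ⟨p, hpass, hple⟩ := exists_le_isAssociatedPrime_of_isNoetherianRing R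
    (Ideal.Quotient.mk 𝔠 x) hx0
  have hpmin := mem_minimalPrimes_of_mem_ass_quotient R 𝔠 hCM p hpass
  have hpprime : p.IsPrime := hpass.isPrime
  have hann : ∀ a : R, a * x ∈ 𝔠 → a ∈ p := by
    intro a ha
    apply hple
    rw [Submodule.mem_colon_singleton, Submodule.mem_bot]
    show a • (Ideal.Quotient.mk 𝔠 x) = 0
    rw [← Ideal.Quotient.eq_zero_iff_mem] at ha
    rw [Algebra.smul_def]
    exact ha
  have hIp : I ≤ p := by
    intro a ha
    apply hann
    have : x ∈ 𝔠.colon (I : Set R) := hIJ ▸ hxJ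
    rw [Submodule.mem_colon] at this
    have := this a ha
    rwa [smul_eq_mul, mul_comm] at this
  have hJp : J ≤ p := by
    intro a ha
    apply hann
    have : x ∈ 𝔠.colon (J : Set R) := hJI ▸ hxI
    rw [Submodule.mem_colon] at this
    have := this a ha
    rwa [smul_eq_mul, mul_comm] at this
  have hminI : p ∈ I.minimalPrimes :=
    ⟨⟨hpprime, hIp⟩, fun q hq hqp => hpmin.2 ⟨hq.1, h𝔠I.trans hq.2⟩ hqp⟩
  have hminJ : p ∈ J.minimalPrimes :=
    ⟨⟨hpprime, hJp⟩, fun q hq hqp => hpmin.2 ⟨hq.1, h𝔠J.trans hq.2⟩ hqp⟩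
  have hassI : p ∈ associatedPrimes R (R ⧸ I) := by
    apply Module.associatedPrimes.minimalPrimes_annihilator_subset_associatedPrimes R (R ⧸ I)
    rwa [Ideal.annihilator_quotient]
  have hassJ : p ∈ associatedPrimes R (R ⧸ J) := by
    apply Module.associatedPrimes.minimalPrimes_annihilator_subset_associatedPrimes R (R ⧸ J)
    rwa [Ideal.annihilator_quotient]
  exact (Set.disjoint_left.1 hdisj hassI) hassJ

end H18866

/-- Let K be a field, R = K[x_0, …, x_n] graded by degree, c ≥ 2, 𝔠 ⊂ R a homogeneous ideal of height c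
such that R/𝔠 is a Gorenstein ring, and I, J ⊂ R homogeneous ideals that are directly linked by 𝔠,
that is 𝔠 : I = J and 𝔠 : J = I. If R/I and R/J have no associated prime in common, then I ∩ J = 𝔠,
so I and J are geometrically linked by 𝔠. -/
theorem result (K : Type u) [Field K] (n c : ℕ) (hc : 2 ≤ c)
    (𝔠 I J : Ideal (MvPolynomial (Fin (n + 1)) K))
    (h𝔠 : 𝔠.IsHomogeneous (GrSyz.stdGr K (Fin (n + 1)))) (hI : I.IsHomogeneous (GrSyz.stdGr K (Fin (n + 1)))) (hJ : J.IsHomogeneous (GrSyz.stdGr K (Fin (n + 1))))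
    [LocCoh.IsGorensteinRing (MvPolynomial (Fin (n + 1)) K ⧸ 𝔠)] (h𝔠c : 𝔠.height = c)
    (hIJ : 𝔠.colon (I : Set (MvPolynomial (Fin (n + 1)) K)) = J) (hJI : 𝔠.colon (J : Set (MvPolynomial (Fin (n + 1)) K)) = I)
    (hdisj : Disjoint (associatedPrimes (MvPolynomial (Fin (n + 1)) K) (MvPolynomial (Fin (n + 1)) K ⧸ I)) (associatedPrimes (MvPolynomial (Fin (n + 1)) K) (MvPolynomial (Fin (n + 1)) K ⧸ J))) :
    I ⊓ J = 𝔠 := by
  exact H18866.main _ 𝔠 I J hIJ hJI hdisj

end Groth.Agent.S18866
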