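import Groth.Statements.S2076
-- import your own Groth.Agent.* helpers here
import Groth.Agent.Lib.Helper7.LimCl

set_option autoImplicit false
universe u
open CategoryTheory AlgebraicGeometry
open Lim

namespace Groth.Agent.S2076

/-- Let `X = lim X_i` be a cofiltered limit of quasi-compact schemes over `S` with affine transition
morphisms and `h : Y → X` a closed immersion with `Y → S` locally of finite type. Then `Y → X_i` is
a closed immersion for some `i`. -/
theorem result {I : Type u} [SmallCategory I] [IsCofiltered I] (S : Scheme.{u})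
    (D : I ⥤ Over S) (c : Limits.Cone D) (hc : Limits.IsLimit c)
    [∀ (i j : I) (f : i ⟶ j), IsAffineHom (D.map f).left] [∀ i, CompactSpace (D.obj i).left]
    {Y : Scheme.{u}} (h : Y ⟶ c.pt.left) [IsClosedImmersion h] [LocallyOfFiniteType (h ≫ c.pt.hom)] :
    ∃ i : I, IsClosedImmersion (h ≫ (c.π.app i).left) := by
  have hL0 : LocallyOfFiniteType (h ≫ c.pt.hom) := inferInstance
  have hconn := IsCofiltered.isConnected I
  obtain ⟨i₀⟩ := IsCofiltered.nonempty (C := I)
  let D' : I ⥤ Scheme.{u} := D ⋙ Over.forget S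
  let t' : D' ⟶ (Functor.const I).obj S :=
    { app := fun i => (D.obj i).hom
      naturality := fun i j f => by
        simp only [Functor.const_obj_obj, Functor.const_obj_map, Category.comp_id]
        exact Over.w (D.map f) }
  let c' : Limits.Cone D' := (Over.forget S).mapCone c
  have hc' : Limits.IsLimit c' := Limits.isLimitOfPreserves (Over.forget S) hc
  have h2 : ∀ {i j : I} (f : i ⟶ j), IsAffineHom (D'.map f) := fun {i j} f =>
    inferInstanceAs (IsAffineHom (D.map f).left)
  have h3 : CompactSpace (D'.obj i₀) := inferInstanceAs (CompactSpace (D.obj i₀).left)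
  let h' : Y ⟶ c'.pt := h
  have hcl : IsClosedImmersion h' := inferInstanceAs (IsClosedImmersion h)
  have hL : LocallyOfFiniteType (h' ≫ c'.π.app i₀ ≫ t'.app i₀) := by
    have e : h' ≫ c'.π.app i₀ ≫ t'.app i₀ = h ≫ c.pt.hom := by
      change h ≫ (c.π.app i₀).left ≫ (D.obj i₀).hom = h ≫ c.pt.hom
      rw [Over.w (c.π.app i₀)]
      rfl
    rw [e]; exact hL0
  obtain ⟨j, hj⟩ := Groth.Agent.Helper7.LimCl.eventually_isClosedImmersion_comp_π D' c' hc' t' i₀
    (Y := Y) h'
  exact ⟨j, hj j (𝟙 j)⟩

end Groth.Agent.S2076
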