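import Groth.Statements.S2121
import Mathlib

set_option autoImplicit false
universe u
open CategoryTheory AlgebraicGeometry
open Mor

namespace Groth.Agent.S2121

section
open CategoryTheory AlgebraicGeometry

theorem ring_lemma {A B : Type*} [CommRing A] [CommRing B] (φ : A →+* B) (z : PrimeSpectrum A)
    (hz : z ∈ closure (Set.range (PrimeSpectrum.comap φ))) :
    ∃ q : PrimeSpectrum B, PrimeSpectrum.comap φ q ⤳ z := by
  rw [PrimeSpectrum.closure_range_comap, PrimeSpectrum.mem_zeroLocus] at hz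
  have hle : RingHom.ker φ ≤ z.asIdeal := hz
  obtain ⟨p, hp, hpz⟩ := Ideal.exists_minimalPrimes_le hle
  have hp' : p ∈ ((⊥ : Ideal B).comap φ).minimalPrimes := hp
  obtain ⟨q, hq, -, hqp⟩ := Ideal.exists_comap_eq_of_mem_minimalPrimes φ p hp'
  refine ⟨⟨q, hq⟩, ?_⟩
  rw [← PrimeSpectrum.le_iff_specializes]
  show q.comap φ ≤ z.asIdeal
  rw [hqp]; exact hpz

theorem affine_lemma {T V : Scheme.{u}} [IsAffine T] [IsAffine V] (h : T ⟶ V) (z : V)
    (hz : z ∈ closure (Set.range h.base)) : ∃ t : T, h.base t ⤳ z := by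
  have hnat := Scheme.isoSpec_hom_naturality h
  have hnat' : ∀ t : T, (Spec.map h.appTop) (T.isoSpec.hom t) = V.isoSpec.hom (h t) := by
    intro t
    rw [← Scheme.Hom.comp_apply, hnat, Scheme.Hom.comp_apply]
  have hcl : V.isoSpec.hom z ∈ closure (Set.range (Spec.map h.appTop)) := by
    have h1 : V.isoSpec.hom z ∈ V.isoSpec.hom.base '' closure (Set.range h.base) := ⟨z, hz, rfl⟩
    have h2 := image_closure_subset_closure_image (V.isoSpec.hom.continuous) h1
    refine closure_mono ?_ h2
    rintro _ ⟨_, ⟨t, rfl⟩, rfl⟩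
    exact ⟨T.isoSpec.hom t, hnat' t⟩
  obtain ⟨q, hq⟩ := ring_lemma h.appTop.hom (V.isoSpec.hom z) hcl
  let q' : ↥(Spec Γ(T, ⊤)) := q
  refine ⟨T.isoSpec.inv q', ?_⟩
  have h3 : V.isoSpec.hom (h (T.isoSpec.inv q')) ⤳ V.isoSpec.hom z := by
    rw [← hnat', Scheme.inv_hom_apply T.isoSpec q']
    exact hq
  have h4 := h3.map V.isoSpec.inv.continuous
  rwa [Scheme.hom_inv_apply, Scheme.hom_inv_apply] at h4

set_option backward.isDefEq.respectTransparency false in
theorem exists_specializes {X Y : Scheme.{u}} (f : X ⟶ Y) [QuasiCompact f] (z : Y)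
    (hz : z ∈ closure (Set.range f.base)) : ∃ x : X, f.base x ⤳ z := by
  obtain ⟨V, hV, hzV, -⟩ := exists_isAffineOpen_mem_and_subset (x := z) (U := ⊤) trivial
  have hcomp : CompactSpace (f ⁻¹ᵁ V).toScheme := by
    exact isCompact_iff_compactSpace.mp
      (QuasiCompact.isCompact_preimage (f := f) _ V.isOpen hV.isCompact)
  obtain ⟨T, p, hsurj, -, hT⟩ :=
    (f ⁻¹ᵁ V).toScheme.exists_hom_isAffine_of_isZariskiLocalAtSource @IsLocalIso
  have : IsAffine V.toScheme := hV
  let h : T ⟶ V.toScheme := p ≫ f ∣_ V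
  have hcoe : ∀ t : T, (h t).1 = f (p t).1 := by
    intro t
    show ((f ∣_ V) (p t)).1 = _
    exact morphismRestrict_base_coe f V (p t)
  let z' : V.toScheme := ⟨z, hzV⟩
  have hz' : z' ∈ closure (Set.range h.base) := by
    rw [closure_subtype]
    have h1 : (z : Y) ∈ closure ((V : Set Y) ∩ Set.range f.base) :=
      V.isOpen.inter_closure ⟨hzV, hz⟩
    refine closure_mono ?_ h1
    rintro _ ⟨hyV, x, rfl⟩
    let x' : (f ⁻¹ᵁ V).toScheme := ⟨x, hyV⟩
    obtain ⟨t, ht⟩ := hsurj.surj x'
    refine ⟨h t, ⟨t, rfl⟩, ?_⟩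
    rw [hcoe t, ht]
  obtain ⟨t, ht⟩ := affine_lemma h z' hz'
  refine ⟨(p t).1, ?_⟩
  have h2 := ht.map continuous_subtype_val
  rw [← hcoe t]
  exact h2

open IsLocalRing in
set_option backward.isDefEq.respectTransparency.types false in
theorem main {X Y : Scheme.{u}} (f : X ⟶ Y) [QuasiCompact f] (z : Y)
    (hz : z ∈ closure (Set.range f.base)) :
    ∃ (A : Type u) (_ : CommRing A) (_ : IsDomain A) (_ : ValuationRing A)
      (x : Spec (CommRingCat.of (FractionRing A)) ⟶ X) (y : Spec (CommRingCat.of A) ⟶ Y),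
      x ≫ f = Spec.map (CommRingCat.ofHom (algebraMap A (FractionRing A))) ≫ y ∧
      y.base (IsLocalRing.closedPoint A) = z := by
  obtain ⟨x', h⟩ := exists_specializes f z hz
  let stalk_y_to_residue_x' : Y.presheaf.stalk z ⟶ X.residueField x' :=
    Y.presheaf.stalkSpecializes h ≫ f.stalkMap x' ≫ X.residue x'
  obtain ⟨A, hA, hA_local⟩ := exists_factor_valuationRing stalk_y_to_residue_x'.hom
  let stalk_y_to_A : Y.presheaf.stalk z ⟶ .of A :=
    CommRingCat.ofHom (stalk_y_to_residue_x'.hom.codRestrict _ hA)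
  have w : X.fromSpecResidueField x' ≫ f =
      Spec.map (CommRingCat.ofHom (algebraMap A (X.residueField x'))) ≫
        Spec.map stalk_y_to_A ≫ Y.fromSpecStalk z := by
    rw [Scheme.fromSpecResidueField, Category.assoc, ← Scheme.SpecMap_stalkMap_fromSpecStalk,
      ← Scheme.SpecMap_stalkSpecializes_fromSpecStalk h]
    simp_rw [← Spec.map_comp_assoc]
    rfl
  let e : FractionRing A ≃ₐ[A] X.residueField x' := FractionRing.algEquiv A (X.residueField x')
  refine ⟨A, inferInstance, inferInstance, inferInstance,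
    Spec.map (CommRingCat.ofHom e.symm.toRingEquiv.toRingHom) ≫ X.fromSpecResidueField x',
    Spec.map stalk_y_to_A ≫ Y.fromSpecStalk z, ?_, ?_⟩
  · rw [Category.assoc, w, ← Spec.map_comp_assoc]
    congr 2
    ext a
    exact e.symm.commutes a
  · simp only [Scheme.Hom.comp_base, TopCat.coe_comp, Function.comp_apply]
    have : Spec.map stalk_y_to_A (closedPoint A) = closedPoint (Y.presheaf.stalk z) :=
      comap_closedPoint (S := A) (stalk_y_to_residue_x'.hom.codRestrict A.toSubring hA)
    rw [this, Y.fromSpecStalk_closedPoint]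


end


/-- Let `f : X → Y` be quasi-compact and `z` a point in the closure of `f(X)` (the underlying set of the
scheme theoretic image). Then there are a valuation ring `A` with fraction field `K` and morphisms
`Spec K → X`, `Spec A → Y` forming a commutative square with `f` and `Spec K → Spec A`, such that
the closed point of `Spec A` maps to `z`. -/
theorem result {X Y : Scheme.{u}} (f : X ⟶ Y) [QuasiCompact f] (z : Y)
    (hz : z ∈ closure (Set.range f.base)) :
    ∃ (A : Type u) (_ : CommRing A) (_ : IsDomain A) (_ : ValuationRing A)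
      (x : Spec (CommRingCat.of (FractionRing A)) ⟶ X) (y : Spec (CommRingCat.of A) ⟶ Y),
      x ≫ f = Spec.map (CommRingCat.ofHom (algebraMap A (FractionRing A))) ≫ y ∧
      y.base (IsLocalRing.closedPoint A) = z := by
  classical
  exact main f z hz

end Groth.Agent.S2121
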