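import Groth.Statements.S10587
import Mathlib
import Groth.Agent.Lib.Helper2.AlgSp.Thick

set_option autoImplicit false
universe u
open CategoryTheory CategoryTheory.Limits AlgebraicGeometry
open AlgSp

namespace Groth.Agent.S10587

/-- Consider a morphism (f, f') from the thickening X ⊂ X' to the thickening Y ⊂ Y' of algebraic spaces
over S, meaning: i : X ⟶ X' and j : Y ⟶ Y' are thickenings (representable, every base change to a
scheme a surjective closed immersion) and i ≫ f' = f ≫ j. Then f is surjective, resp. quasi-compact,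
universally closed, universally injective, universally open, if and only if f' is. -/
theorem result {S : Scheme.{u}} {X X' Y Y' : AlgSp.Space S} (i : X ⟶ X') (j : Y ⟶ Y')
    (f : X ⟶ Y) (f' : X' ⟶ Y')
    (hi : AlgSp.IsThickMor i.hom)
    (hj : AlgSp.IsThickMor j.hom) (w : i ≫ f' = f ≫ j) :
    (AlgSp.IsSurjectiveMor f.hom ↔ AlgSp.IsSurjectiveMor f'.hom) ∧
    (AlgSp.IsQuasiCompactMor f.hom ↔ AlgSp.IsQuasiCompactMor f'.hom) ∧
    (AlgSp.IsUnivClosedMor f.hom ↔ AlgSp.IsUnivClosedMor f'.hom) ∧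
    (AlgSp.IsUnivInjectiveMor f.hom ↔ AlgSp.IsUnivInjectiveMor f'.hom) ∧
    (AlgSp.IsUnivOpenMor f.hom ↔ AlgSp.IsUnivOpenMor f'.hom) := by
  classical
  have w' : i.hom ≫ f'.hom = f.hom ≫ j.hom := congrArg (fun k => k.hom) w
  have hih := Groth.Agent.Helper2.AlgSpBasic.isHomeomorph_points_of_isThickMor X'.property i.hom hi
  have hjh := Groth.Agent.Helper2.AlgSpBasic.isHomeomorph_points_of_isThickMor Y'.property j.hom hj
  have hpt : ∀ x, AlgSp.Points.map f'.hom (AlgSp.Points.map i.hom x) =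
      AlgSp.Points.map j.hom (AlgSp.Points.map f.hom x) := by
    intro x
    rw [← AlgSp.Points.map_comp, ← AlgSp.Points.map_comp, w']
  -- generic conjugation by homeomorphisms
  have conj : ∀ {α β γ δ : Type (u + 1)} [TopologicalSpace α] [TopologicalSpace β]
      [TopologicalSpace γ] [TopologicalSpace δ] (a : α → β) (b : γ → δ) (e₁ : α → γ) (e₂ : β → δ),
      IsHomeomorph e₁ → IsHomeomorph e₂ → e₂ ∘ a = b ∘ e₁ →
      ∃ (h₁ : α ≃ₜ γ) (h₂ : β ≃ₜ δ), b = h₂ ∘ a ∘ h₁.symm ∧ a = h₂.symm ∘ b ∘ h₁ := by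
    intro α β γ δ _ _ _ _ a b e₁ e₂ he₁ he₂ hc
    obtain ⟨h₁, rfl⟩ := isHomeomorph_iff_exists_homeomorph.mp he₁
    obtain ⟨h₂, rfl⟩ := isHomeomorph_iff_exists_homeomorph.mp he₂
    refine ⟨h₁, h₂, ?_, ?_⟩
    · funext x
      have := congrFun hc (h₁.symm x)
      simp only [Function.comp_apply, Homeomorph.apply_symm_apply] at this ⊢
      exact this.symm
    · funext x
      have := congrFun hc x
      simp only [Function.comp_apply] at this ⊢
      rw [← this, Homeomorph.symm_apply_apply]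
  refine ⟨?_, ?_, ?_, ?_, ?_⟩
  · constructor
    · intro hf y'
      obtain ⟨y, rfl⟩ := hjh.surjective y'
      obtain ⟨x, rfl⟩ := hf y
      exact ⟨AlgSp.Points.map i.hom x, hpt x⟩
    · intro hf' y
      obtain ⟨x', hx'⟩ := hf' (AlgSp.Points.map j.hom y)
      obtain ⟨x, rfl⟩ := hih.surjective x'
      refine ⟨x, hjh.injective ?_⟩
      rw [← hpt, hx']
  · constructor
    · intro hf Z P' hZ hZq g fst snd sq
      obtain ⟨Z₀, P₀, z₁, z₂, p₁, p₂, k, hZ₀, hP₀, hP', sq₀, hz₁, hk, hcomm⟩ :=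
        Groth.Agent.Helper2.AlgSpBasic.thick_transfer_down X.property X'.property Y.property
          Y'.property i.hom j.hom f.hom f'.hom hi hj w' hZ g fst snd sq
      have hZ₀q : AlgSp.IsQuasiCompactSp Z₀ := by
        rw [Groth.Agent.Helper2.AlgSpBasic.isQuasiCompactSp_iff_compactSpace_points hZ₀]
        rw [Groth.Agent.Helper2.AlgSpBasic.isQuasiCompactSp_iff_compactSpace_points hZ] at hZq
        obtain ⟨h₁, -⟩ := isHomeomorph_iff_exists_homeomorph.mp hz₁
        exact h₁.symm.compactSpace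
      have hP₀q : AlgSp.IsQuasiCompactSp P₀ := hf hZ₀ hZ₀q z₂ p₂ p₁ sq₀
      rw [Groth.Agent.Helper2.AlgSpBasic.isQuasiCompactSp_iff_compactSpace_points hP₀] at hP₀q
      rw [Groth.Agent.Helper2.AlgSpBasic.isQuasiCompactSp_iff_compactSpace_points hP']
      obtain ⟨h₁, -⟩ := isHomeomorph_iff_exists_homeomorph.mp hk
      exact h₁.compactSpace
    · intro hf' Z P hZ hZq g fst snd sq
      obtain ⟨P', pfst, psnd, k, hP, hP', sq', hk, hcomm⟩ :=
        Groth.Agent.Helper2.AlgSpBasic.thick_transfer_up X.property X'.property Y.property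
          Y'.property i.hom j.hom f.hom f'.hom hi hj w' hZ g fst snd sq
      have hP'q : AlgSp.IsQuasiCompactSp P' := hf' hZ hZq (g ≫ j.hom) pfst psnd sq'
      rw [Groth.Agent.Helper2.AlgSpBasic.isQuasiCompactSp_iff_compactSpace_points hP'] at hP'q
      rw [Groth.Agent.Helper2.AlgSpBasic.isQuasiCompactSp_iff_compactSpace_points hP]
      obtain ⟨h₁, -⟩ := isHomeomorph_iff_exists_homeomorph.mp hk
      exact h₁.symm.compactSpace
  · refine Groth.Agent.Helper2.AlgSpBasic.univSp_iff_of_thick X.property X'.property Y.property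
      Y'.property i.hom j.hom f.hom f'.hom hi hj w' (fun a => IsClosedMap a) ?_
    intro α β γ δ _ _ _ _ a b e₁ e₂ he₁ he₂ hc
    obtain ⟨h₁, h₂, hb, ha⟩ := conj a b e₁ e₂ he₁ he₂ hc
    constructor
    · intro h
      rw [hb]
      exact h₂.isClosedMap.comp (h.comp h₁.symm.isClosedMap)
    · intro h
      rw [ha]
      exact h₂.symm.isClosedMap.comp (h.comp h₁.isClosedMap)
  · refine Groth.Agent.Helper2.AlgSpBasic.univSp_iff_of_thick X.property X'.property Y.property
      Y'.property i.hom j.hom f.hom f'.hom hi hj w' (fun a => Function.Injective a) ?_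
    intro α β γ δ _ _ _ _ a b e₁ e₂ he₁ he₂ hc
    obtain ⟨h₁, h₂, hb, ha⟩ := conj a b e₁ e₂ he₁ he₂ hc
    constructor
    · intro h
      rw [hb]
      exact h₂.injective.comp (h.comp h₁.symm.injective)
    · intro h
      rw [ha]
      exact h₂.symm.injective.comp (h.comp h₁.injective)
  · refine Groth.Agent.Helper2.AlgSpBasic.univSp_iff_of_thick X.property X'.property Y.property
      Y'.property i.hom j.hom f.hom f'.hom hi hj w' (fun a => IsOpenMap a) ?_
    intro α β γ δ _ _ _ _ a b e₁ e₂ he₁ he₂ hc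
    obtain ⟨h₁, h₂, hb, ha⟩ := conj a b e₁ e₂ he₁ he₂ hc
    constructor
    · intro h
      rw [hb]
      exact h₂.isOpenMap.comp (h.comp h₁.symm.isOpenMap)
    · intro h
      rw [ha]
      exact h₂.symm.isOpenMap.comp (h.comp h₁.isOpenMap)

end Groth.Agent.S10587
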