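import Groth.Statements.S10424
import Groth.Agent.Lib.Helper2.AlgSp.UBSp


set_option autoImplicit false
universe u
open CategoryTheory CategoryTheory.Limits AlgebraicGeometry Topology TopologicalSpace
open AlgSp

namespace Groth.Agent.S10424

/-- Let X be an algebraic space over a scheme S, V ⟶ U a morphism of schemes over S and U ⟶ X a
morphism. Suppose that the fibres of V ⟶ U and of U ⟶ X are universally bounded. Then V ⟶ X also has
universally bounded fibres. -/
theorem result {S : Scheme.{u}} (X : AlgSp.Space S) {U V : Over S} (f : V ⟶ U)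
    (g : (AlgSp.yon S).obj U ⟶ X.obj) (hf : W4dec.HasUnivBddFibres ((AlgSp.yon S).map f)) (hg : W4dec.HasUnivBddFibres g) :
    W4dec.HasUnivBddFibres ((AlgSp.yon S).map f ≫ g) := by
  obtain ⟨m, hm⟩ := hf
  obtain ⟨n, hn⟩ := hg
  refine ⟨m * n, ?_⟩
  rw [Groth.Agent.Helper2.UBSp.degFibresLE_iff] at hm hn ⊢
  intro K _ str μ T c snd sq
  obtain ⟨snd₀, rfl⟩ := (AlgSp.yon S).map_surjective snd
  obtain ⟨TU, cU, sU, sqU⟩ := Groth.Agent.Helper2.AlgSpBasic.exists_isPullback_yon
    X.property.diag μ g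
  have hdU := hn K str μ TU cU ((AlgSp.yon S).map sU) sqU
  obtain ⟨l, hl⟩ := (AlgSp.yon S).map_surjective
    (sqU.lift ((AlgSp.yon S).map c) ((AlgSp.yon S).map snd₀ ≫ (AlgSp.yon S).map f) (by
      rw [sq.w, Category.assoc]))
  have hl1 : l ≫ cU = c := (AlgSp.yon S).map_injective (by
    rw [Functor.map_comp, hl, sqU.lift_fst])
  have hl2 : l ≫ sU = snd₀ ≫ f := (AlgSp.yon S).map_injective (by
    rw [Functor.map_comp, Functor.map_comp, hl, sqU.lift_snd])
  have sqL : IsPullback ((AlgSp.yon S).map l) ((AlgSp.yon S).map snd₀) ((AlgSp.yon S).map sU)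
      ((AlgSp.yon S).map f) := by
    refine IsPullback.of_right ?_ ?_ sqU
    · rw [← Functor.map_comp, hl1]; exact sq
    · rw [← Functor.map_comp, ← Functor.map_comp, hl2]
  have key := Groth.Agent.Helper2.UBAlg.degLE_comp (m := m) l.left cU.left hdU (by
    intro L _ y F p₁ p₂ hpb
    let strL : Spec (CommRingCat.of L) ⟶ S := y ≫ TU.hom
    let yO : Over.mk strL ⟶ TU := Over.homMk y rfl
    let FO : Over S := Over.mk (p₂ ≫ T.hom)
    let p₂O : FO ⟶ T := Over.homMk p₂ rfl
    let p₁O : FO ⟶ Over.mk strL := Over.homMk p₁ (by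
      show p₁ ≫ y ≫ TU.hom = p₂ ≫ T.hom
      rw [← Category.assoc, hpb.w, Category.assoc, Over.w l])
    have h1 := Groth.Agent.Helper2.AlgSpBasic.yon_isPullback_of_left p₁O p₂O yO l hpb
    have h2 := h1.paste_vert sqL
    exact hm L strL _ FO p₁O _ h2)
  have : (l ≫ cU).left = c.left := by rw [hl1]
  rw [← this]
  exact key

end Groth.Agent.S10424
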