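import Groth.Statements.S12766
import Mathlib
import Groth.Agent.Lib.Helper2.AlgSt.FromSpace

set_option autoImplicit false
open CategoryTheory AlgebraicGeometry
universe u
open AlgSt

namespace Groth.Agent.S12766

/-- Let `𝒳`, `𝒴`, `𝒵` be fibred in groupoids over `(Sch/S)`, `f : 𝒳 ⟶ 𝒴` representable by algebraic
spaces, `g : 𝒵 ⟶ 𝒴` a 1-morphism and `𝒵` representable by an algebraic space. Then the 2-fibre
product `𝒵 ×_𝒴 𝒳` is representable by an algebraic space. -/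
theorem result {S : Scheme.{u}} {𝒳 𝒴 𝒵 : AlgSt.Cat S}
    (h𝒳 : FibCat.IsFibGrpd 𝒳.p) (h𝒴 : FibCat.IsFibGrpd 𝒴.p) (h𝒵 : FibCat.IsFibGrpd 𝒵.p)
    (f : 𝒳 ⥤ᵇ 𝒴) (g : 𝒵 ⥤ᵇ 𝒴) (hf : AlgSt.RepByAlgSp1 f) (hZ : AlgSt.RepByAlgSp 𝒵) :
    AlgSt.RepByAlgSp (FibCat.fp g f) := by
  obtain ⟨G, eG, heG⟩ := hZ
  have h1 : AlgSt.RepByAlgSp (FibCat.fp (BasedFunctor.comp eG g) f) :=
    Groth.Agent.Helper2.AlgStLib.repByAlgSp_fp_of_space h𝒳 h𝒴 f hf G (BasedFunctor.comp eG g)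
  obtain ⟨Φ, hΦ, -, -⟩ := Groth.Agent.Helper2.AlgStLib.exists_equiv_fp_left (BasedFunctor.comp eG g) g f eG heG
    (Iso.refl _)
  exact Groth.Agent.Helper2.AlgStLib.repByAlgSp_of_isEquivOver Φ hΦ h1

end Groth.Agent.S12766
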