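import Groth.Statements.S12765
import Mathlib
import Groth.Agent.Lib.Helper2.AlgSt.FromSpace
import Groth.Agent.Lib.Helper2.AlgSt.Space
import Groth.Agent.Lib.Helper2.FibCat.DiagEq
import Groth.Agent.Lib.Helper2.FibCat.DiagEquiv
import Groth.Agent.S12766

set_option autoImplicit false
open CategoryTheory AlgebraicGeometry
universe u
open AlgSt

namespace Groth.Agent.S12765

/-- (1) ⇔ (3): for `𝒳` fibred in groupoids over `(Sch/S)`, the diagonal `𝒳 ⟶ 𝒳 × 𝒳` is representable by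
algebraic spaces if and only if for every scheme `U` over `S` every 1-morphism `(Sch/U) ⟶ 𝒳` is
representable by algebraic spaces. -/
theorem result {S : Scheme.{u}} {𝒳 : AlgSt.Cat S} (h𝒳 : FibCat.IsFibGrpd 𝒳.p) :
    AlgSt.RepByAlgSp1 (FibCat.diag (FibCat.toSelf 𝒳)) ↔
      ∀ (U : Over S) (x : FibCat.overCat U ⥤ᵇ 𝒳), AlgSt.RepByAlgSp1 x := by
  constructor
  · intro hd U x T y
    have h1 : AlgSt.RepByAlgSp (FibCat.fp (Groth.Agent.Helper2.FibCatLib.DiagRepFwd.pairing y x)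
        (Groth.Agent.Helper2.FibCatLib.DiagDict.Dg 𝒳)) :=
      hd (T ⨯ U) (Groth.Agent.Helper2.FibCatLib.DiagRepFwd.pairing y x)
    exact Groth.Agent.Helper2.AlgStLib.repByAlgSp_of_isEquivOver
      (Groth.Agent.Helper2.FibCatLib.DiagRepFwd.ΦB y x)
      (Groth.Agent.Helper2.FibCatLib.DiagRepFwd.ΦB_isEquivOver y x) h1
  · intro hall U H
    have hE : AlgSt.RepByAlgSp (Groth.Agent.Helper2.FibCatLib.DiagEq.E H) :=
      hall U (Groth.Agent.Helper2.FibCatLib.DiagDict.h₂ H) U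
        (Groth.Agent.Helper2.FibCatLib.DiagDict.h₁ H)
    have hW : AlgSt.RepByAlgSp (FibCat.overCat U) :=
      Groth.Agent.Helper2.AlgStLib.repByAlgSp_overCat U
    let F : AlgSp.Space S := ⟨(AlgSp.yon S).obj U, AlgSp.IsAlgSpace.yon_obj U⟩
    have hSS : AlgSt.RepByAlgSp (Groth.Agent.Helper2.FibCatLib.DiagDict.SS (FibCat.overCat U)) :=
      Groth.Agent.Helper2.AlgStLib.repByAlgSp_of_isEquivOver
        (Groth.Agent.Helper2.AlgStLib.prodMap (AlgSt.toOverCat U) (AlgSt.toOverCat U))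
        (Groth.Agent.Helper2.AlgStLib.prodMap_isEquivOver _ _
          (Groth.Agent.Helper2.AlgStLib.toOverCat_isEquivOver U)
          (Groth.Agent.Helper2.AlgStLib.toOverCat_isEquivOver U))
        (Groth.Agent.Helper2.AlgStLib.repByAlgSp_prod_ofSp F F)
    have hΔ : AlgSt.RepByAlgSp1 (Groth.Agent.Helper2.FibCatLib.DiagDict.Dg (FibCat.overCat U)) :=
      Groth.Agent.Helper2.AlgStLib.repByAlgSp1_of_repByAlgSp hW hSS _
    have hfW : FibCat.IsFibGrpd (FibCat.overCat U).p :=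
      Groth.Agent.Helper2.FibCatLib.isFibGrpd_overCat U
    have h2 : AlgSt.RepByAlgSp (FibCat.fp (Groth.Agent.Helper2.FibCatLib.DiagEq.ρ H)
        (Groth.Agent.Helper2.FibCatLib.DiagDict.Dg (FibCat.overCat U))) :=
      Groth.Agent.S12766.result hfW
        (Groth.Agent.Helper2.FibCatLib.DiagRepBack.isFibGrpd_SS hfW)
        (Groth.Agent.Helper2.isFibGrpd_fp _ _ hfW hfW h𝒳)
        (Groth.Agent.Helper2.FibCatLib.DiagDict.Dg (FibCat.overCat U))
        (Groth.Agent.Helper2.FibCatLib.DiagEq.ρ H) hΔ hE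
    obtain ⟨Θinv, hΘinv, -, -⟩ := Groth.Agent.Helper2.FibCatLib.isEquivOver_inverse
      (Groth.Agent.Helper2.FibCatLib.DiagEq.Θ_isEquivOver H)
    exact Groth.Agent.Helper2.AlgStLib.repByAlgSp_of_isEquivOver Θinv hΘinv h2

end Groth.Agent.S12765
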