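import Groth.Statements.S12774
import Mathlib
import Groth.Agent.Lib.Helper2.AlgSt.Mono

set_option autoImplicit false
open CategoryTheory AlgebraicGeometry
universe u
open AlgSt

namespace Groth.Agent.S12774

/-- Take categories `𝒳` and `𝒴` fibred in groupoids over `(Sch/S)` and a 1-morphism `j : 𝒳 ⟶ 𝒴` between
them which is representable by algebraic spaces and a monomorphism. Then `j` is fully faithful on
fibre categories; for categories fibred in groupoids this is the same as `j` being full and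
faithful, which is how it is stated here. -/
theorem result {S : Scheme.{u}} {𝒳 𝒴 : AlgSt.Cat S}
    (h𝒳 : FibCat.IsFibGrpd 𝒳.p) (h𝒴 : FibCat.IsFibGrpd 𝒴.p) (j : 𝒳 ⥤ᵇ 𝒴) (hj : AlgSt.IsMono j) :
    j.toFunctor.Full ∧ j.toFunctor.Faithful := by
  have hj1 : AlgSt.RepByAlgSp1 j := fun U y => by
    obtain ⟨F, e, he, -⟩ := hj U y
    exact ⟨F, e, he⟩
  refine ⟨?_, Groth.Agent.Helper2.AlgStLib.faithful_of_repByAlgSp1 h𝒳 h𝒴 j hj1⟩
  apply Groth.Agent.Helper2.StkLib.full_of_fiber h𝒳 h𝒴 j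
  intro U a b ha hb τ hτ
  obtain ⟨y, e, he⟩ := Groth.Agent.Helper2.StkLib.exists_functor_of_obj h𝒴 (j.obj b)
    ((j.w_obj b).trans hb)
  obtain ⟨F, E, hE, hmono⟩ := hj U y
  have hfull : (FibCat.fpFst y j).toFunctor.Full :=
    Groth.Agent.Helper2.AlgStLib.full_of_mono_spMapOfOver (FibCat.fpFst y j) E hE hmono
  have hτi : IsIso τ := Groth.Agent.Helper2.IsFibGrpd.isIso_of_isHomLift_id 𝒴.p h𝒴 (S := U) τ
  let θa : y.obj (Over.mk (𝟙 U)) ≅ j.obj a := e ≪≫ (@asIso _ _ _ _ τ hτi).symm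
  have hθa : 𝒴.p.IsHomLift (𝟙 U) θa.hom := by
    have h1 : 𝒴.p.IsHomLift (𝟙 U) (inv τ) := IsHomLift.lift_id_inv_isIso _ _ _
    have h2 : 𝒴.p.IsHomLift (𝟙 U ≫ 𝟙 U) (e.hom ≫ inv τ) := inferInstance
    have h3 : 𝒴.p.IsHomLift (𝟙 U) (e.hom ≫ inv τ) := by simpa using h2
    exact h3
  let Za : (FibCat.fp y j).obj :=
    Groth.Agent.Helper2.StkLib.fpMkObj y j (Over.mk (𝟙 U)) a θa hθa
  let Zb : (FibCat.fp y j).obj :=
    Groth.Agent.Helper2.StkLib.fpMkObj y j (Over.mk (𝟙 U)) b e he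
  obtain ⟨μ, hμ⟩ := @Functor.Full.map_surjective _ _ _ _ (FibCat.fpFst y j).toFunctor hfull Za Zb
    (𝟙 (Over.mk (𝟙 U)))
  have hμ' : μ.hom.fst = 𝟙 (Over.mk (𝟙 U)) := hμ
  refine ⟨μ.hom.snd, ?_⟩
  have hw : y.toFunctor.map μ.hom.fst ≫ e.hom = (e.hom ≫ inv τ) ≫ j.toFunctor.map μ.hom.snd :=
    μ.hom.w
  have h0 : y.toFunctor.map μ.hom.fst = 𝟙 (y.toFunctor.obj (Over.mk (𝟙 U))) :=
    (congrArg (fun t => y.toFunctor.map t) hμ').trans (y.toFunctor.map_id _)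
  have hw' : 𝟙 (y.toFunctor.obj (Over.mk (𝟙 U))) ≫ e.hom =
      (e.hom ≫ inv τ) ≫ j.toFunctor.map μ.hom.snd :=
    (congrArg (fun t => t ≫ e.hom) h0).symm.trans hw
  rw [Category.id_comp, Category.assoc] at hw'
  have h1 : 𝟙 _ = inv τ ≫ j.toFunctor.map μ.hom.snd := by
    have := congrArg (fun t => e.inv ≫ t) hw'
    simpa using this
  have h3 : τ = j.toFunctor.map μ.hom.snd :=
    ((Category.comp_id τ).symm.trans (congrArg (fun t => τ ≫ t) h1)).trans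
      (IsIso.hom_inv_id_assoc τ (j.toFunctor.map μ.hom.snd))
  exact h3.symm

end Groth.Agent.S12774
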