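import Groth.Statements.S0116
import Mathlib

set_option autoImplicit false
open CategoryTheory CategoryTheory.Limits AlgebraicGeometry Opposite
universe u
open EtBase

namespace Groth.Agent.S0116

section
open CategoryTheory CategoryTheory.Limits AlgebraicGeometry Opposite MorphismProperty TensorProduct

theorem isNoetherianRing_of_faithfullyFlat (A B : Type*) [CommRing A] [CommRing B] [Algebra A B]
    [Module.FaithfullyFlat A B] [IsNoetherianRing B] : IsNoetherianRing A := by
  have h1 : IsNoetherian B (B ⊗[A] A) :=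
    isNoetherian_of_linearEquiv (TensorProduct.AlgebraTensorModule.rid A B B).symm
  exact Submodule.IsNoetherian.of_isNoetherian_tensorProduct_of_faithfullyFlat h1

theorem isLocallyNoetherian_of_isLocalIso {T X : Scheme.{u}} (p : T ⟶ X) [IsLocalIso p]
    [IsLocallyNoetherian X] : IsLocallyNoetherian T := by
  choose U hU hUimm using fun t : T => IsLocalIso.exists_isOpenImmersion (f := p) t
  have hcov : TopologicalSpace.IsOpenCover U := by
    rw [TopologicalSpace.IsOpenCover, eq_top_iff]
    intro t _
    exact TopologicalSpace.Opens.mem_iSup.mpr ⟨t, hU t⟩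
  rw [isLocallyNoetherian_iff_openCover (T.openCoverOfIsOpenCover U hcov)]
  intro t
  have h1 : IsOpenImmersion ((U t).ι ≫ p) := hUimm t
  show IsLocallyNoetherian (U t).toScheme
  exact isLocallyNoetherian_of_isOpenImmersion ((U t).ι ≫ p)

set_option backward.isDefEq.respectTransparency false in
theorem main {X Y : Scheme.{u}} (f : X ⟶ Y) [Surjective f] [Flat f]
    [LocallyOfFinitePresentation f] [IsLocallyNoetherian X] : IsLocallyNoetherian Y := by
  constructor
  rintro ⟨V, hV⟩
  have hopen : IsOpenMap f.base := f.isOpenMap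
  obtain ⟨W₀, hWc, hWV⟩ := hopen.exists_opens_image_eq_of_prespectralSpace f.continuous
    (U := (V : Set Y)) (by rw [Set.range_eq_univ.mpr f.surjective]; exact Set.subset_univ _)
    V.isOpen hV.isCompact
  obtain ⟨W, rfl⟩ : ∃ W : X.Opens, W = W₀ := ⟨W₀, rfl⟩
  have hWcomp : CompactSpace W.toScheme := isCompact_iff_compactSpace.mp hWc
  obtain ⟨T, p, hpsurj, hpiso, hT⟩ :=
    W.toScheme.exists_hom_isAffine_of_isZariskiLocalAtSource @IsLocalIso
  have hpiso' : IsLocalIso p := hpiso
  have hTn : IsLocallyNoetherian T := isLocallyNoetherian_of_isLocalIso p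
  have hrange : Set.range (p ≫ W.ι ≫ f).base ⊆ Set.range V.ι.base := by
    rintro _ ⟨t, rfl⟩
    rw [Scheme.Opens.range_ι, ← hWV]
    exact ⟨(p t).1, (p t).2, rfl⟩
  let h : T ⟶ V.toScheme := IsOpenImmersion.lift V.ι (p ≫ W.ι ≫ f) hrange
  have hfac : h ≫ V.ι = p ≫ W.ι ≫ f := IsOpenImmersion.lift_fac _ _ _
  have hpflat : Flat p := IsLocalIso.le_of_isZariskiLocalAtSource @Flat _ _ _ hpiso
  have hflat : Flat h := by
    have : Flat (h ≫ V.ι) := by rw [hfac]; infer_instance
    exact MorphismProperty.of_postcomp (W := @Flat) h V.ι (inferInstance : IsOpenImmersion V.ι) this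
  have hsurj : Surjective h := by
    constructor
    rintro ⟨v, hv⟩
    have hv' : v ∈ f.base '' (W : Set X) := by rw [hWV]; exact hv
    obtain ⟨x, hxW, rfl⟩ := hv'
    obtain ⟨t, ht⟩ := hpsurj.surj ⟨x, hxW⟩
    refine ⟨t, ?_⟩
    apply V.ι.injective
    rw [← Scheme.Hom.comp_apply, hfac]
    simp only [Scheme.Hom.comp_apply, ht]
    rfl
  have hVaff : IsAffine V.toScheme := hV
  have hff : h.appTop.hom.FaithfullyFlat :=
    (Flat.flat_and_surjective_iff_faithfullyFlat_of_isAffine h).mp ⟨hflat, hsurj⟩
  have hTnoeth : IsNoetherianRing Γ(T, ⊤) :=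
    IsLocallyNoetherian.component_noetherian ⟨⊤, isAffineOpen_top T⟩
  let _ : Algebra Γ(V.toScheme, ⊤) Γ(T, ⊤) := h.appTop.hom.toAlgebra
  have hff' : Module.FaithfullyFlat Γ(V.toScheme, ⊤) Γ(T, ⊤) := hff
  have hVn : IsNoetherianRing Γ(V.toScheme, ⊤) :=
    isNoetherianRing_of_faithfullyFlat Γ(V.toScheme, ⊤) Γ(T, ⊤)
  exact isNoetherianRing_of_ringEquiv _ V.topIso.commRingCatIsoToRingEquiv


end


/-- If f : X → Y is surjective, flat and locally of finite presentation and X is locally Noetherian,
then Y is locally Noetherian. (This is the descent half of the statement that, for such f, X is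
locally Noetherian if and only if Y is; the ascent half is the fact that a scheme locally of finite
type over a locally Noetherian scheme is locally Noetherian, and is not stated here.) -/
theorem result {X Y : Scheme.{u}} (f : X ⟶ Y) [Surjective f] [Flat f] [LocallyOfFinitePresentation f]
    [IsLocallyNoetherian X] : IsLocallyNoetherian Y := by
  classical
  exact main f

end Groth.Agent.S0116
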