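import Groth.Statements.S9877
import Mathlib
import Groth.Agent.Lib.Helper2.AlgSp.GlueSp

open CategoryTheory CategoryTheory.Limits AlgebraicGeometry Opposite AlgSp
open Groth.Agent.Helper2.AlgSpBasic Groth.Agent.Helper2.Coprod Groth.Agent.Helper2.GlueSp

set_option autoImplicit false
universe u
open CategoryTheory CategoryTheory.Limits AlgebraicGeometry
open AlgSp

namespace Groth.Agent.S9877

/-- Let `F` be an fppf sheaf of sets over `S` and `F_i ⟶ F` a family of maps of sheaves such that each
`F_i` is an algebraic space over `S`, each `F_i ⟶ F` is representable by open immersions, the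
induced map from the coproduct `∐ F_i` (in sheaves) to `F` is a surjective map of sheaves, and `∐
F_i` is an algebraic space. Then `F` is an algebraic space over `S`. -/
theorem result (S : Scheme.{u}) (F : AlgSp.Sp S) {ι : Type u} (Fi : ι → AlgSp.Sp S)
    (f : ∀ i, Fi i ⟶ F) (halg : ∀ i, AlgSp.IsAlgSpace (Fi i))
    (hopen : ∀ i, AlgSp.RepWith @IsOpenImmersion (f i)) (c : Cofan Fi) (hc : IsColimit c)
    (hsurj : Sheaf.IsLocallySurjective (Cofan.IsColimit.desc hc f)) (hcop : AlgSp.IsAlgSpace c.pt) :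
    AlgSp.IsAlgSpace F := by
  classical
  let d : c.pt ⟶ F := Cofan.IsColimit.desc hc f
  have hd : ∀ i, c.inj i ≫ d = f i := fun i => Cofan.IsColimit.fac hc f i
  -- every map from a scheme lifts locally to one of the `Fi`
  have hcov : ∀ (T : Over S) (s : (yon S).obj T ⟶ F) (t : T.left), ∃ (i : ι) (Q : Over S)
      (β : Q ⟶ T) (α : (yon S).obj Q ⟶ Fi i) (q : Q.left),
      α ≫ f i = (yon S).map β ≫ s ∧ β.left q = t := by
    intro T s t
    have hmem := Presheaf.imageSieve_mem (J S) d.hom ((J S).uliftYonedaEquiv s)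
    obtain ⟨κ, W, p, hp, hs, hR⟩ := exists_family_of_mem_J _ hmem
    obtain ⟨k, w, hw⟩ := hs t
    obtain ⟨x, hx⟩ := hR k
    let x' : (yon S).obj (W k) ⟶ c.pt := (J S).uliftYonedaEquiv.symm x
    have hx' : x' ≫ d = (yon S).map (p k) ≫ s := by
      apply (J S).uliftYonedaEquiv.injective
      rw [GrothendieckTopology.uliftYonedaEquiv_comp, Equiv.apply_symm_apply,
        ← GrothendieckTopology.uliftYonedaEquiv_naturality]
      exact hx
    obtain ⟨κ', W', p', hp', hs', hx''⟩ := exists_local_lift c hc x'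
    obtain ⟨l, w', hw'⟩ := hs' w
    obtain ⟨i, y, hy⟩ := hx'' l
    refine ⟨i, W' l, p' l ≫ p k, y, w', ?_, ?_⟩
    · rw [← hd i, ← Category.assoc, hy, Category.assoc, hx', Functor.map_comp, Category.assoc]
    · show (p k).left ((p' l).left w') = t
      rw [hw', hw]
  refine ⟨representable_diag_of_open_cover Fi f hopen (fun i => (halg i).diag) hcov, ?_⟩
  obtain ⟨U, q, hqe, hqs⟩ := hcop.atlas
  choose O a sq hcl using fun k => exists_rep_inj c hc k q
  have hpe : RepWith @Etale (q ≫ d) := by
    apply repWith_of_source_openCover @Etale (q ≫ d) (fun k => opensOver (O k))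
      (fun k => opensOverι (O k)) (fun k => inferInstanceAs (IsOpenImmersion (O k).ι))
    · intro x
      obtain ⟨k, hk⟩ := exists_mem_of_isPullback_inj c hc q O a sq x
      exact ⟨k, ⟨x, hk⟩, rfl⟩
    · intro k
      have e : (yon S).map (opensOverι (O k)) ≫ q ≫ d = a k ≫ f k := by
        rw [← Category.assoc, ← (sq k).w, Category.assoc, hd]
      rw [e]
      exact repWith_comp @Etale (repWith_of_isPullback @Etale (sq k).flip hqe)
        (repWith_isOpenImmersion_le_etale (hopen k))
  refine ⟨U, q ≫ d, hpe, ?_⟩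
  apply repWith_surjective_of_surjective_ofPt (q ≫ d) hpe.rep
  intro y
  obtain ⟨T, s, t, rfl⟩ := exists_ofPt_eq y
  obtain ⟨i, Q, β, α, q', hα, hq'⟩ := hcov T s t
  obtain ⟨u, hu⟩ := surjective_ofPt q hqs (Points.ofPt (α ≫ c.inj i) q')
  refine ⟨u, ?_⟩
  rw [← Points.map_ofPt, hu, Points.map_ofPt, Category.assoc, hd, hα, ofPt_yon_map_comp, hq']

end Groth.Agent.S9877
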