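import Groth.Statements.S9881
import Mathlib
import Groth.Agent.Lib.Helper2.AlgSp.GlueSp

open CategoryTheory CategoryTheory.Limits AlgebraicGeometry Opposite AlgSp
open Groth.Agent.Helper2.AlgSpBasic Groth.Agent.Helper2.Coprod Groth.Agent.Helper2.GlueSp

set_option autoImplicit false
universe u
open CategoryTheory CategoryTheory.Limits AlgebraicGeometry
open AlgSp

namespace Groth.Agent.S9881

/-- Let `F_i` be a family of algebraic spaces over `S` indexed by a type in the universe of `S`, so that
the coproduct of any chosen atlases exists as a scheme (this realizes the size condition of the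
published statement). Then the coproduct `∐ F_i` in fppf sheaves of sets over `S` (any colimit
cofan) is an algebraic space over `S`. -/
theorem result (S : Scheme.{u}) {ι : Type u} (F : ι → AlgSp.Sp S)
    (h : ∀ i, AlgSp.IsAlgSpace (F i)) (c : Cofan F) (hc : IsColimit c) : AlgSp.IsAlgSpace c.pt := by
  classical
  have hcov : ∀ (T : Over S) (s : (yon S).obj T ⟶ c.pt) (t : T.left), ∃ (i : ι) (Q : Over S)
      (β : Q ⟶ T) (α : (yon S).obj Q ⟶ F i) (q : Q.left),
      α ≫ c.inj i = (yon S).map β ≫ s ∧ β.left q = t := by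
    intro T s t
    obtain ⟨κ, W, p, hp, hs, hx⟩ := exists_local_lift c hc s
    obtain ⟨k, w, hw⟩ := hs t
    obtain ⟨i, x, hxi⟩ := hx k
    exact ⟨i, W k, p k, x, w, hxi, hw⟩
  have hopen : ∀ i, RepWith @IsOpenImmersion (c.inj i) := fun i =>
    repWith_isOpenImmersion_inj c hc i
  refine ⟨representable_diag_of_open_cover F c.inj hopen (fun i => (h i).diag) hcov, ?_⟩
  choose U p hpe hps using fun i => (h i).atlas
  obtain ⟨P, hP⟩ := exists_desc_sigmaOver U (fun i => p i ≫ c.inj i)
  have hPe : RepWith @Etale P := by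
    apply repWith_of_source_openCover @Etale P U (sigmaOverι U) (fun i => inferInstance)
      (sigmaOverι_covers U)
    intro i
    rw [hP]
    exact repWith_comp @Etale (hpe i) (repWith_isOpenImmersion_le_etale (hopen i))
  refine ⟨sigmaOver U, P, hPe, ?_⟩
  apply repWith_surjective_of_surjective_ofPt P hPe.rep
  intro y
  obtain ⟨T, s, t, rfl⟩ := exists_ofPt_eq y
  obtain ⟨i, Q, β, α, q, hα, hq⟩ := hcov T s t
  obtain ⟨u, hu⟩ := surjective_ofPt (p i) (hps i) (Points.ofPt α q)
  refine ⟨(sigmaOverι U i).left u, ?_⟩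
  rw [← ofPt_yon_map_comp, hP, ← Points.map_ofPt, hu, Points.map_ofPt, hα, ofPt_yon_map_comp, hq]

end Groth.Agent.S9881
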