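import Groth.Statements.S12838
import Mathlib
import Groth.Prelude.Def_ChGrp

set_option autoImplicit false
universe u
open CategoryTheory AlgebraicGeometry
open AlgSt

namespace Groth.Agent.S12838

section
open CategoryTheory AlgebraicGeometry
open Limits MonoidalCategory CartesianMonoidalCategory MonObj GrpObj

variable {S : Scheme.{u}} {G : Over S} [GrpObj G]

theorem lift_leftMul {T Z : Over S} (k h : Z ⟶ G) (t : Z ⟶ T) :
    lift k (lift h t) ≫ (AlgSt.leftMul G T).act = lift (k * h) t := by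
  unfold AlgSt.leftMul
  simp only [comp_lift, comp_mul, lift_fst, lift_snd, lift_snd_assoc]

/-- right translation by `g` on the trivial torsor, followed by `f` -/
noncomputable def tr {T T' : Over S} (f : T ⟶ T') (g : T ⟶ G) : G ⊗ T ⟶ G ⊗ T' :=
  lift (fst G T * (snd G T ≫ g)) (snd G T ≫ f)

theorem lift_tr {T T' Z : Over S} (f : T ⟶ T') (g : T ⟶ G) (h : Z ⟶ G) (t : Z ⟶ T) :
    lift h t ≫ tr f g = lift (h * (t ≫ g)) (t ≫ f) := by
  unfold tr
  simp only [comp_lift, comp_mul, lift_fst, lift_snd, lift_snd_assoc]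

theorem hom_ext_lift₃' {A B C Y : Over S} {f g : A ⊗ (B ⊗ C) ⟶ Y}
    (h : ∀ (Z : Over S) (a : Z ⟶ A) (b : Z ⟶ B) (c : Z ⟶ C),
      lift a (lift b c) ≫ f = lift a (lift b c) ≫ g) : f = g := by
  apply AlgGrp.Action.hom_ext_lift₂
  intro Z a p
  have := h Z a (p ≫ fst B C) (p ≫ snd B C)
  rwa [lift_comp_fst_snd] at this

theorem tr_snd {T T' : Over S} (f : T ⟶ T') (g : T ⟶ G) : tr f g ≫ snd G T' = snd G T ≫ f := by
  unfold tr; rw [lift_snd]

theorem tr_eq {T T' : Over S} (f : T ⟶ T') (g : T ⟶ G) : tr f g = tr (𝟙 T) g ≫ (G ◁ f) := by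
  apply AlgGrp.Action.hom_ext_lift₂
  intro Z h t
  rw [lift_tr, ← Category.assoc, lift_tr, lift_whiskerLeft, Category.comp_id]

theorem isIso_tr {T : Over S} (g : T ⟶ G) : IsIso (tr (𝟙 T) g) := by
  refine ⟨⟨tr (𝟙 T) g⁻¹, ?_, ?_⟩⟩
  · apply AlgGrp.Action.hom_ext_lift₂
    intro Z h t
    rw [← Category.assoc, lift_tr, lift_tr, Category.comp_id, Category.comp_id, Category.comp_id,
      comp_inv, mul_inv_cancel_right]
  · apply AlgGrp.Action.hom_ext_lift₂
    intro Z h t
    rw [← Category.assoc, lift_tr, lift_tr, Category.comp_id, Category.comp_id, Category.comp_id,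
      comp_inv, inv_mul_cancel_right]

theorem tr_eqv {T T' : Over S} (f : T ⟶ T') (g : T ⟶ G) :
    (AlgSt.leftMul G T).act ≫ tr f g = (G ◁ tr f g) ≫ (AlgSt.leftMul G T').act := by
  apply hom_ext_lift₃'
  intro Z k h t
  rw [← Category.assoc, lift_leftMul, lift_tr, ← Category.assoc, lift_whiskerLeft, lift_tr,
    lift_leftMul, _root_.mul_assoc]

theorem tr_cart {T T' : Over S} (f : T ⟶ T') (g : T ⟶ G) :
    IsPullback (tr f g) (snd G T) (snd G T') f := by
  haveI := isIso_tr g
  have h0 : IsPullback (tr (𝟙 T) g) (snd G T) (snd G T) (𝟙 T) :=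
    IsPullback.of_horiz_isIso ⟨by rw [tr_snd]⟩
  have h1 := AlgSt.isPullback_whiskerLeft (G := G) f
  have h2 := h0.paste_horiz h1
  rw [← tr_eq, Category.id_comp] at h2
  exact h2

theorem tr_phi {X : Over S} (aX : AlgGrp.Action G X) {T T' : Over S} (f : T ⟶ T') (g : T ⟶ G)
    (x : T ⟶ X) (x' : T' ⟶ X) (hg : lift g (f ≫ x') ≫ aX.act = x) :
    tr f g ≫ (G ◁ x') ≫ aX.act = (G ◁ x) ≫ aX.act := by
  apply AlgGrp.Action.hom_ext_lift₂
  intro Z h t
  rw [← Category.assoc, lift_tr, ← Category.assoc, lift_whiskerLeft, AlgGrp.Action.lift_mul_act,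
    ← Category.assoc, lift_whiskerLeft, ← hg]
  congr 2
  rw [← Category.assoc, comp_lift, Category.assoc]

theorem main (S : Scheme.{u}) (G : Over S) [GrpObj G] (X : Over S)
    (aX : AlgGrp.Action G X) (T T' : Over S) (f : T ⟶ T') (x : T ⟶ X) (x' : T' ⟶ X) :
    (∀ h : (AlgSt.quotMap Scheme.fppfPrecoverage G aX).obj ((AlgSt.ofOverCat X).obj (Over.mk x)) ⟶ (AlgSt.quotMap Scheme.fppfPrecoverage G aX).obj ((AlgSt.ofOverCat X).obj (Over.mk x')),
        h.base = f → ∃ g : T ⟶ G, lift g (f ≫ x') ≫ aX.act = x ∧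
          h.top = lift (fst G T * (snd G T ≫ g)) (snd G T ≫ f)) ∧
    (∀ g : T ⟶ G, lift g (f ≫ x') ≫ aX.act = x →
        ∃ h : (AlgSt.quotMap Scheme.fppfPrecoverage G aX).obj ((AlgSt.ofOverCat X).obj (Over.mk x)) ⟶ (AlgSt.quotMap Scheme.fppfPrecoverage G aX).obj ((AlgSt.ofOverCat X).obj (Over.mk x')),
          h.base = f ∧ h.top = lift (fst G T * (snd G T ≫ g)) (snd G T ≫ f)) := by
  constructor
  · intro h hb
    obtain ⟨top, htop⟩ : ∃ top : G ⊗ T ⟶ G ⊗ T', top = h.top := ⟨_, rfl⟩
    have c1 : top ≫ snd G T' = snd G T ≫ f := by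
      have := h.cart.w
      rw [hb] at this
      rw [htop]
      exact this
    have eq1 : (AlgSt.leftMul G T).act ≫ top = (G ◁ top) ≫ (AlgSt.leftMul G T').act := by
      rw [htop]; exact h.eqv
    have w1 : top ≫ (G ◁ x') ≫ aX.act = (G ◁ x) ≫ aX.act := by
      rw [htop]; exact h.wφ
    let e : T ⟶ G ⊗ T := lift 1 (𝟙 T)
    have he : ∀ {Z : Over S} (t : Z ⟶ T), t ≫ e = lift 1 t := by
      intro Z t
      simp only [e]
      rw [comp_lift, Category.comp_id, comp_one]
    obtain ⟨g, hg⟩ : ∃ g : T ⟶ G, g = e ≫ top ≫ fst G T' := ⟨_, rfl⟩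
    have hetop : e ≫ top = lift g f := by
      apply CartesianMonoidalCategory.hom_ext
      · rw [lift_fst, hg, Category.assoc]
      · rw [lift_snd, Category.assoc, c1]
        simp only [e]
        rw [lift_snd_assoc, Category.id_comp]
    have key : top = tr f g := by
      apply AlgGrp.Action.hom_ext_lift₂
      intro Z h₀ t
      have h1 : lift h₀ t = lift h₀ (t ≫ e) ≫ (AlgSt.leftMul G T).act := by
        rw [he, lift_leftMul, _root_.mul_one]
      rw [lift_tr]
      calc lift h₀ t ≫ top = (lift h₀ (t ≫ e) ≫ (AlgSt.leftMul G T).act) ≫ top := by rw [← h1]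
        _ = lift h₀ (t ≫ e) ≫ (G ◁ top) ≫ (AlgSt.leftMul G T').act := by
            rw [Category.assoc, eq1]
        _ = lift h₀ ((t ≫ e) ≫ top) ≫ (AlgSt.leftMul G T').act := by
            rw [← Category.assoc, lift_whiskerLeft]
        _ = lift h₀ (lift (t ≫ g) (t ≫ f)) ≫ (AlgSt.leftMul G T').act := by
            rw [Category.assoc, hetop, comp_lift]
        _ = lift (h₀ * t ≫ g) (t ≫ f) := lift_leftMul _ _ _
    refine ⟨g, ?_, ?_⟩
    · have h2 : e ≫ top ≫ (G ◁ x') ≫ aX.act = e ≫ (G ◁ x) ≫ aX.act := by rw [w1]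
      rw [← Category.assoc, hetop, ← Category.assoc, lift_whiskerLeft] at h2
      rw [h2]
      simp only [e]
      rw [← Category.assoc, lift_whiskerLeft, Category.id_comp, AlgGrp.Action.lift_one_act]
    · rw [← htop, key]
      rfl
  · intro g hg
    refine ⟨{ base := f
              top := tr f g
              eqv := tr_eqv f g
              cart := tr_cart f g
              wφ := tr_phi aX f g x x' hg }, rfl, rfl⟩


end


open MonoidalCategory CartesianMonoidalCategory MonObj GrpObj in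
/-- Let `G` be a group scheme over `S` acting on an `S`-scheme `X`, `f : T ⟶ T'` a morphism of
`S`-schemes, `x` a `T`-point and `x'` a `T'`-point of `X`. In the quotient category `[X/G]` (scheme
torsors for the fppf topology with an equivariant morphism to `X`) the canonical functor `X ⟶ [X/G]`
sends `x` to the trivial torsor `G ×_S T ⟶ T`, with `G` acting by left multiplication on the first
factor and the equivariant morphism `(h, t) ↦ h · x(t)`, and likewise for `x'`. The morphisms from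
the image of `x` to the image of `x'` lying over `f` are exactly the maps `(h, t) ↦ (h · g(t),
f(t))` for those `T`-points `g` of `G` with `g · (x' ∘ f) = x`: every morphism over `f` is of this
form, and every such `g` defines one. -/
theorem result (S : Scheme.{u}) (G : Over S) [GrpObj G] (X : Over S)
    (aX : AlgGrp.Action G X) (T T' : Over S) (f : T ⟶ T') (x : T ⟶ X) (x' : T' ⟶ X) :
    (∀ h : (AlgSt.quotMap Scheme.fppfPrecoverage G aX).obj ((AlgSt.ofOverCat X).obj (Over.mk x)) ⟶ (AlgSt.quotMap Scheme.fppfPrecoverage G aX).obj ((AlgSt.ofOverCat X).obj (Over.mk x')),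
        h.base = f → ∃ g : T ⟶ G, lift g (f ≫ x') ≫ aX.act = x ∧
          h.top = lift (fst G T * (snd G T ≫ g)) (snd G T ≫ f)) ∧
    (∀ g : T ⟶ G, lift g (f ≫ x') ≫ aX.act = x →
        ∃ h : (AlgSt.quotMap Scheme.fppfPrecoverage G aX).obj ((AlgSt.ofOverCat X).obj (Over.mk x)) ⟶ (AlgSt.quotMap Scheme.fppfPrecoverage G aX).obj ((AlgSt.ofOverCat X).obj (Over.mk x')),
          h.base = f ∧ h.top = lift (fst G T * (snd G T ≫ g)) (snd G T ≫ f)) := by
  classical
  exact main S G X aX T T' f x x'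

end Groth.Agent.S12838
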