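import Groth.Statements.S15436
import Mathlib
import Groth.Prelude.Def_GrSyz
import Groth.Agent.Lib.Helper1.TorL
-- import your own Groth.Agent.* helpers here

set_option autoImplicit false
universe u
open GrSyz

namespace Groth.Agent.S15436

open CategoryTheory CategoryTheory.Limits MonoidalCategory
namespace Aux
open Groth.Agent.Helper1.TorL TensorProduct

section generic

variable {R : Type u} [CommRing R] {M : Type u} [AddCommGroup M] [Module R M]
  {rk : ℕ → ℕ} (d : (i : ℕ) → Matrix (Fin (rk i)) (Fin (rk (i + 1))) R) (aug : Fin (rk 0) → M)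
  (aug_surj : Function.Surjective (Fintype.linearCombination R aug))
  (ex0 : LinearMap.ker (Fintype.linearCombination R aug) = LinearMap.range (Matrix.mulVecLin (d 0)))
  (exs : ∀ i, LinearMap.ker (Matrix.mulVecLin (d i)) = LinearMap.range (Matrix.mulVecLin (d (i + 1))))

/-- the terms -/
abbrev FX (R : Type u) [CommRing R] (rk : ℕ → ℕ) (i : ℕ) : ModuleCat.{u} R := ModuleCat.of R (Fin (rk i) → R)

/-- the differentials -/
noncomputable abbrev Fd {rk : ℕ → ℕ} (d : (i : ℕ) → Matrix (Fin (rk i)) (Fin (rk (i + 1))) R) (i : ℕ) : FX R rk (i + 1) ⟶ FX R rk i := ModuleCat.ofHom (Matrix.mulVecLin (d i))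

include exs in
lemma Fd_comp (i : ℕ) : Fd d (i + 1) ≫ Fd d i = 0 := by
  apply ModuleCat.hom_ext
  apply LinearMap.ext
  intro v
  have : Matrix.mulVecLin (d (i + 1)) v ∈ LinearMap.ker (Matrix.mulVecLin (d i)) := by
    rw [exs i]; exact ⟨v, rfl⟩
  exact this

/-- the complex -/
noncomputable def cx : ChainComplex (ModuleCat.{u} R) ℕ :=
  ChainComplex.of (FX R rk) (Fd d) (Fd_comp d exs)

lemma cx_d (i : ℕ) : (cx d exs).d (i + 1) i = Fd d i := ChainComplex.of_d _ _ i

lemma cx_exactAt_succ (n : ℕ) : (cx d exs).ExactAt (n + 1) := by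
  rw [HomologicalComplex.exactAt_iff' _ (n + 1 + 1) (n + 1) n (by simp) (by simp)]
  rw [ShortComplex.moduleCat_exact_iff_range_eq_ker]
  show LinearMap.range ((cx d exs).d (n + 1 + 1) (n + 1)).hom = LinearMap.ker ((cx d exs).d (n + 1) n).hom
  rw [cx_d, cx_d]
  exact (exs n).symm

/-- the augmentation -/
noncomputable abbrev Faug (R : Type u) [CommRing R] {M : Type u} [AddCommGroup M] [Module R M] {rk : ℕ → ℕ} (aug : Fin (rk 0) → M) : FX R rk 0 ⟶ ModuleCat.of R M := ModuleCat.ofHom (Fintype.linearCombination R aug)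

include ex0 in
lemma Fd_aug : Fd d 0 ≫ Faug R aug = 0 := by
  apply ModuleCat.hom_ext
  apply LinearMap.ext
  intro v
  have : Matrix.mulVecLin (d 0) v ∈ LinearMap.ker (Fintype.linearCombination R aug) := by
    rw [ex0]; exact ⟨v, rfl⟩
  exact this


instance cx_projective (n : ℕ) : Projective ((cx d exs).X n) :=
  ModuleCat.projective_of_free (Pi.basisFun R (Fin (rk n)))

include aug_surj in
lemma Faug_epi : Epi (Faug R aug) := by
  rw [ModuleCat.epi_iff_surjective]
  exact aug_surj

lemma exact_zero : (ShortComplex.mk (Fd d 0) (Faug R aug) (Fd_aug d aug ex0)).Exact := by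
  rw [ShortComplex.moduleCat_exact_iff_range_eq_ker]
  exact ex0.symm

set_option backward.defeqAttrib.useBackward true in
set_option backward.isDefEq.respectTransparency false in
/-- The resolution. -/
noncomputable def res : ProjectiveResolution (ModuleCat.of R M) where
  complex := cx d exs
  projective := cx_projective d exs
  π := (ChainComplex.toSingle₀Equiv _ _).symm ⟨Faug R aug, by
          rw [cx_d]; exact Fd_aug d aug ex0⟩
  quasiIso := ⟨fun n => by
    haveI := Faug_epi (R := R) aug aug_surj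
    cases n
    · rw [ChainComplex.quasiIsoAt₀_iff, ShortComplex.quasiIso_iff_of_zeros']
      · dsimp
        refine (ShortComplex.exact_and_epi_g_iff_of_iso ?_).2
          ⟨exact_zero d aug ex0, by dsimp; infer_instance⟩
        exact ShortComplex.isoMk (Iso.refl _) (Iso.refl _) (Iso.refl _)
          (by simp only [cx, Iso.refl_hom, Category.id_comp, Category.comp_id]
              exact (ChainComplex.of_d _ _ 0).symm) (by simp)
      all_goals rfl
    · rw [quasiIsoAt_iff_exactAt']
      · apply cx_exactAt_succ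
      · apply ChainComplex.exactAt_succ_single_obj⟩


section minimal

variable (𝔪 : Ideal R) (hmin : ∀ i a b, d i a b ∈ 𝔪) (X : ModuleCat.{u} R)
  (hX : ∀ c ∈ 𝔪, ∀ x : X, c • x = 0)

include hmin hX in
lemma whiskerLeft_Fd_eq_zero (i : ℕ) : X ◁ Fd d i = 0 := by
  classical
  apply ModuleCat.hom_ext
  rw [ModuleCat.hom_whiskerLeft]
  apply TensorProduct.ext'
  intro x v
  show x ⊗ₜ[R] (Matrix.mulVecLin (d i) v) = 0
  rw [Matrix.mulVecLin_apply, pi_eq_sum_univ ((d i).mulVec v), tmul_sum]
  apply Finset.sum_eq_zero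
  intro a _
  have hmem : (d i).mulVec v a ∈ 𝔪 := by
    show ∑ b, d i a b * v b ∈ 𝔪
    exact Ideal.sum_mem _ (fun b _ => Ideal.mul_mem_right _ _ (hmin i a b))
  rw [TensorProduct.tmul_smul, TensorProduct.smul_tmul', hX _ hmem x, zero_tmul]

include hmin hX in
lemma tens_d_eq_zero (i j : ℕ) : (tensCx X (cx d exs)).d i j = 0 := by
  by_cases h : j + 1 = i
  · subst h
    show X ◁ (cx d exs).d (j + 1) j = 0
    rw [cx_d]
    exact whiskerLeft_Fd_eq_zero d 𝔪 hmin X hX j
  · exact (tensCx X (cx d exs)).shape i j h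

/-- homology of a complex with zero differentials -/
noncomputable def homologyIsoX (K : ChainComplex (ModuleCat.{u} R) ℕ) (hK : ∀ i j, K.d i j = 0)
    (i : ℕ) : K.homology i ≅ K.X i :=
  (K.isoHomologyπ _ i rfl (hK _ _)).symm ≪≫ K.iCyclesIso i _ rfl (hK _ _)

include hmin hX aug_surj ex0 exs in
theorem length_tor_eq (i : ℕ) :
    Module.length R (T i X (ModuleCat.of R M)) = rk i * Module.length R X := by
  let Q := res d aug aug_surj ex0 exs
  let e1 := torIso X Q i
  let e2 := homologyIsoX (tensCx X Q.complex) (tens_d_eq_zero d exs 𝔪 hmin X hX) i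
  let e3 : (X ⊗[R] (Fin (rk i) → R)) ≃ₗ[R] (Fin (rk i) → X) :=
    TensorProduct.piScalarRight R R X (Fin (rk i))
  have h1 := (e1 ≪≫ e2).toLinearEquiv.length_eq
  have h2 := e3.length_eq
  rw [Module.length_pi] at h2
  rw [h1]
  rw [ENat.card_eq_coe_fintype_card, Fintype.card_fin] at h2
  exact h2

end minimal

end generic

section poly
open MvPolynomial

variable (k : Type u) [Field k] (σ : Type) [Fintype σ]

lemma irrel_eq : (GrSyz.irrel (GrSyz.stdGr k σ)).toIdeal =
    RingHom.ker (constantCoeff (R := k) (σ := σ)) := by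
  show Ideal.span {p : MvPolynomial σ k | ∃ n : ℤ, 0 < n ∧ p ∈ GrSyz.stdGr k σ n} = _
  apply le_antisymm
  · rw [Ideal.span_le]
    rintro p ⟨n, hn, hp⟩
    rw [SetLike.mem_coe, RingHom.mem_ker, constantCoeff_eq]
    by_contra hne
    have hp' : p.IsWeightedHomogeneous (fun _ : σ => (1 : ℤ)) n := hp
    have := hp' hne
    rw [map_zero] at this
    omega
  · intro p hp
    rw [RingHom.mem_ker] at hp
    have hf : p ∈ Ideal.span ((X : σ → MvPolynomial σ k) '' Set.univ) := by
      rw [mem_ideal_span_X_image]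
      intro m hm
      have hm0 : m ≠ 0 := by
        rintro rfl
        rw [mem_support_iff] at hm
        exact hm hp
      obtain ⟨i, hi⟩ : ∃ i, m i ≠ 0 := by
        by_contra hcon
        push Not at hcon
        exact hm0 (Finsupp.ext hcon)
      exact ⟨i, Set.mem_univ _, hi⟩
    refine Ideal.span_mono ?_ hf
    rintro _ ⟨i, -, rfl⟩
    refine ⟨1, one_pos, ?_⟩
    exact isWeightedHomogeneous_X k (fun _ : σ => (1 : ℤ)) i

lemma irrel_isMaximal : (GrSyz.irrel (GrSyz.stdGr k σ)).toIdeal.IsMaximal := by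
  rw [irrel_eq]
  apply RingHom.ker_isMaximal_of_surjective
  intro c
  exact ⟨C c, by simp⟩

lemma length_quot_irrel : Module.length (MvPolynomial σ k)
    (MvPolynomial σ k ⧸ (GrSyz.irrel (GrSyz.stdGr k σ)).toIdeal) = 1 := by
  rw [Module.length_eq_one_iff]
  exact isSimpleModule_iff_quot_maximal.2 ⟨_, irrel_isMaximal k σ, ⟨LinearEquiv.refl _ _⟩⟩

end poly

lemma ideal_kills_quot {R : Type u} [CommRing R] (𝔪 : Ideal R) (c : R) (hc : c ∈ 𝔪) (x : R ⧸ 𝔪) :
    c • x = 0 := by
  obtain ⟨y, rfl⟩ := Submodule.mkQ_surjective _ x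
  rw [← map_smul, Submodule.mkQ_apply, Submodule.Quotient.mk_eq_zero, smul_eq_mul]
  exact Ideal.mul_mem_right _ _ hc

theorem main (k : Type u) [Field k] (r : ℕ)
    (M : Type u) [AddCommGroup M] [Module k M] [Module (MvPolynomial (Fin (r + 1)) k) M]
    [IsScalarTower k (MvPolynomial (Fin (r + 1)) k) M] [Module.Finite (MvPolynomial (Fin (r + 1)) k) M]
    (ℳ : ℤ → Submodule k M) [DirectSum.Decomposition ℳ] [SetLike.GradedSMul (GrSyz.stdGr k (Fin (r + 1))) ℳ]
    (F : GrSyz.FreeRes (GrSyz.stdGr k (Fin (r + 1))) ℳ) (hF : F.IsMinimal (GrSyz.irrel (GrSyz.stdGr k (Fin (r + 1)))).toIdeal) (i : ℕ) :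
    Module.length (MvPolynomial (Fin (r + 1)) k)
        (((CategoryTheory.Tor (ModuleCat.{u} (MvPolynomial (Fin (r + 1)) k)) i).obj
            (ModuleCat.of (MvPolynomial (Fin (r + 1)) k) ((MvPolynomial (Fin (r + 1)) k) ⧸ (GrSyz.irrel (GrSyz.stdGr k (Fin (r + 1)))).toIdeal))).obj
          (ModuleCat.of (MvPolynomial (Fin (r + 1)) k) M)) = (F.rk i : ℕ∞) := by
  have h := length_tor_eq (R := MvPolynomial (Fin (r + 1)) k) (M := M) F.d F.aug F.aug_surjective
    F.exact_zero F.exact_succ (GrSyz.irrel (GrSyz.stdGr k (Fin (r + 1)))).toIdeal hF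
    (ModuleCat.of (MvPolynomial (Fin (r + 1)) k) ((MvPolynomial (Fin (r + 1)) k) ⧸ (GrSyz.irrel (GrSyz.stdGr k (Fin (r + 1)))).toIdeal))
    (fun c hc x => ideal_kills_quot _ c hc x) i
  rw [h]
  show (F.rk i : ℕ∞) * Module.length (MvPolynomial (Fin (r + 1)) k)
    ((MvPolynomial (Fin (r + 1)) k) ⧸ (GrSyz.irrel (GrSyz.stdGr k (Fin (r + 1)))).toIdeal) = _
  rw [length_quot_irrel, mul_one]

end Aux

/-- Let k be a field, S = k[x_0, …, x_r] graded by degree, 𝔪 = (x_0, …, x_r), M a finitely generated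
ℤ-graded S-module and F a minimal graded free resolution of M by free modules of finite rank with
homogeneous bases (all matrix entries in 𝔪). Then for every i the rank of F_i (the number of
elements of a minimal generating set of the i-th syzygy module) equals the length, i.e. the
dimension over k = S/𝔪, of Tor_i^S(S/𝔪, M), where Tor_i is the i-th left derived functor of S/𝔪 ⊗_S
− on S-modules. (The published statement is the degree-by-degree refinement: F_i has exactly dim_k
Tor_i^S(k, M)_j basis vectors of degree j; the grading on Tor is not available here, so the counts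
are summed over j.) -/
theorem result (k : Type u) [Field k] (r : ℕ)
    (M : Type u) [AddCommGroup M] [Module k M] [Module (MvPolynomial (Fin (r + 1)) k) M]
    [IsScalarTower k (MvPolynomial (Fin (r + 1)) k) M] [Module.Finite (MvPolynomial (Fin (r + 1)) k) M]
    (ℳ : ℤ → Submodule k M) [DirectSum.Decomposition ℳ] [SetLike.GradedSMul (GrSyz.stdGr k (Fin (r + 1))) ℳ]
    (F : GrSyz.FreeRes (GrSyz.stdGr k (Fin (r + 1))) ℳ) (hF : F.IsMinimal (GrSyz.irrel (GrSyz.stdGr k (Fin (r + 1)))).toIdeal) (i : ℕ) :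
    Module.length (MvPolynomial (Fin (r + 1)) k)
        (((CategoryTheory.Tor (ModuleCat.{u} (MvPolynomial (Fin (r + 1)) k)) i).obj
            (ModuleCat.of (MvPolynomial (Fin (r + 1)) k) ((MvPolynomial (Fin (r + 1)) k) ⧸ (GrSyz.irrel (GrSyz.stdGr k (Fin (r + 1)))).toIdeal))).obj
          (ModuleCat.of (MvPolynomial (Fin (r + 1)) k) M)) = (F.rk i : ℕ∞) := by
  exact Aux.main k r M ℳ F hF i

end Groth.Agent.S15436
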