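import Groth.Statements.S15427
import Mathlib
import Groth.Prelude.Def_GrSyz
import Groth.Agent.S15436
-- import your own Groth.Agent.* helpers here

set_option autoImplicit false
universe u
open GrSyz

namespace Groth.Agent.S15427

open CategoryTheory CategoryTheory.Limits
namespace Aux
open Groth.Agent.S15436.Aux MvPolynomial

lemma weight_pos {σ : Type} (m : σ →₀ ℕ) (hm0 : m ≠ 0) :
    0 < Finsupp.weight (fun _ : σ => (1 : ℤ)) m := by
  obtain ⟨j, hj⟩ : ∃ j, m j ≠ 0 := by
    by_contra hcon
    push Not at hcon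
    exact hm0 (Finsupp.ext hcon)
  rw [Finsupp.weight_apply, Finsupp.sum]
  have hjs : j ∈ m.support := Finsupp.mem_support_iff.2 hj
  have h1 : (m j • (1 : ℤ)) ≤ ∑ a ∈ m.support, m a • (1 : ℤ) :=
    Finset.single_le_sum (f := fun a => m a • (1 : ℤ)) (fun a _ => by positivity) hjs
  have h2 : 0 < m j • (1 : ℤ) := by
    have : 0 < m j := Nat.pos_of_ne_zero hj
    simpa using this
  omega

/-- a homogeneous element outside the irrelevant ideal is a unit -/
lemma isUnit_of_not_mem_irrel (k : Type u) [Field k] (σ : Type) [Fintype σ] (p : MvPolynomial σ k)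
    (n : ℤ) (hp : p ∈ GrSyz.stdGr k σ n) (hm : p ∉ (GrSyz.irrel (GrSyz.stdGr k σ)).toIdeal) :
    IsUnit p := by
  classical
  rw [irrel_eq, RingHom.mem_ker, constantCoeff_eq] at hm
  have hn : n = 0 := by
    have := hp hm
    rw [map_zero] at this
    exact this.symm
  subst hn
  have hpC : p = C (coeff 0 p) := by
    ext m
    rw [coeff_C]
    by_cases hm0 : m = 0
    · subst hm0; simp
    · rw [if_neg (Ne.symm hm0)]
      by_contra hne
      have := hp hne
      have := weight_pos m hm0
      omega
  rw [hpC]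
  exact (IsUnit.mk0 _ hm).map C

section linalg
variable {S : Type u} [CommRing S] {N : Type*} [AddCommGroup N] [Module S N]

lemma mem_span_others_iff {n : ℕ} (g : Fin n → N) (b : Fin n) (x : N) :
    x ∈ Submodule.span S (g '' {b' | b' ≠ b}) ↔
      ∃ l : Fin n → S, l b = 0 ∧ ∑ i, l i • g i = x := by
  constructor
  · intro hx
    rw [Finsupp.mem_span_image_iff_linearCombination] at hx
    obtain ⟨l, hl, rfl⟩ := hx
    refine ⟨l, ?_, ?_⟩
    · by_contra hne
      have : b ∈ l.support := Finsupp.mem_support_iff.2 hne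
      exact (hl this) rfl
    · rw [Finsupp.linearCombination_apply, Finsupp.sum_fintype]
      intro i; exact zero_smul _ _
  · rintro ⟨l, hlb, rfl⟩
    apply Submodule.sum_mem
    intro i _
    by_cases hi : i = b
    · subst hi; rw [hlb, zero_smul]; exact zero_mem _
    · exact Submodule.smul_mem _ _ (Submodule.subset_span ⟨i, hi, rfl⟩)

/-- Lemma A -/
lemma not_mem_span_others {n : ℕ} (g : Fin n → N) (𝔪 : Ideal S) (h𝔪 : 𝔪 ≠ ⊤)
    (hker : ∀ v ∈ LinearMap.ker (Fintype.linearCombination S g), ∀ b, v b ∈ 𝔪) (b : Fin n) :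
    g b ∉ Submodule.span S (g '' {b' | b' ≠ b}) := by
  classical
  intro hmem
  rw [mem_span_others_iff] at hmem
  obtain ⟨l, hlb, hl⟩ := hmem
  have hv : (Pi.single b 1 - l : Fin n → S) ∈ LinearMap.ker (Fintype.linearCombination S g) := by
    rw [LinearMap.mem_ker, map_sub, Fintype.linearCombination_apply, Fintype.linearCombination_apply,
      hl]
    simp [Pi.single_apply, ite_smul]
  have := hker _ hv b
  rw [Pi.sub_apply, Pi.single_eq_same, hlb, sub_zero] at this
  exact h𝔪 ((Ideal.eq_top_iff_one _).2 this)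

/-- Lemma B -/
lemma mem_span_others_of_unit {n : ℕ} (g : Fin n → N) (c : Fin n → S) (hc : ∑ a, c a • g a = 0)
    (a₀ : Fin n) (hu : IsUnit (c a₀)) : g a₀ ∈ Submodule.span S (g '' {a' | a' ≠ a₀}) := by
  classical
  obtain ⟨u, hu⟩ := hu
  rw [mem_span_others_iff]
  refine ⟨fun a => if a = a₀ then 0 else -(↑u⁻¹ : S) * c a, by simp, ?_⟩
  have h1 : ∑ a, (if a = a₀ then 0 else -(↑u⁻¹ : S) * c a) • g a =
      ∑ a, (-(↑u⁻¹ : S)) • (c a • g a) - (-(↑u⁻¹ : S)) • (c a₀ • g a₀) := by
    rw [eq_sub_iff_add_eq, ← Finset.sum_erase_add _ _ (Finset.mem_univ a₀),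
      ← Finset.sum_erase_add (f := fun a => (-(↑u⁻¹ : S)) • (c a • g a)) _ (Finset.mem_univ a₀)]
    rw [if_pos rfl, zero_smul, add_zero]
    congr 1
    apply Finset.sum_congr rfl
    intro a ha
    rw [if_neg (Finset.ne_of_mem_erase ha), mul_smul]
  rw [h1, ← Finset.smul_sum, hc, smul_zero, zero_sub, ← hu, neg_smul, neg_neg, smul_smul,
    Units.inv_mul, one_smul]


lemma mulVecLin_eq_linearCombination {m n : ℕ} (D : Matrix (Fin m) (Fin n) S) :
    Matrix.mulVecLin D = Fintype.linearCombination S (fun b a => D a b) := by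
  apply LinearMap.ext
  intro v
  funext a
  rw [Matrix.mulVecLin_apply, Fintype.linearCombination_apply, Finset.sum_apply]
  show ∑ b, D a b * v b = _
  apply Finset.sum_congr rfl
  intro b _
  rw [Pi.smul_apply, smul_eq_mul, mul_comm]

end linalg

theorem main (k : Type u) [Field k] (r : ℕ)
    (M : Type u) [AddCommGroup M] [Module k M] [Module (MvPolynomial (Fin (r + 1)) k) M]
    [IsScalarTower k (MvPolynomial (Fin (r + 1)) k) M] [Module.Finite (MvPolynomial (Fin (r + 1)) k) M]
    (ℳ : ℤ → Submodule k M) [DirectSum.Decomposition ℳ] [SetLike.GradedSMul (GrSyz.stdGr k (Fin (r + 1))) ℳ]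
    (F : GrSyz.FreeRes (GrSyz.stdGr k (Fin (r + 1))) ℳ) :
    F.IsMinimal (GrSyz.irrel (GrSyz.stdGr k (Fin (r + 1)))).toIdeal ↔
      ((∀ b : Fin (F.rk 0), F.aug b ∉ Submodule.span (MvPolynomial (Fin (r + 1)) k) (F.aug '' {b' | b' ≠ b})) ∧
        ∀ (i : ℕ) (b : Fin (F.rk (i + 1))),
          (fun a => F.d i a b) ∉ Submodule.span (MvPolynomial (Fin (r + 1)) k) ((fun b' a => F.d i a b') '' {b' | b' ≠ b})) := by
  classical
  have h𝔪 : (GrSyz.irrel (GrSyz.stdGr k (Fin (r + 1)))).toIdeal ≠ ⊤ :=
    (irrel_isMaximal k (Fin (r + 1))).ne_top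
  constructor
  · intro hF
    -- elements of the range of a differential have coordinates in 𝔪
    have hrange : ∀ (i : ℕ) (w : Fin (F.rk (i + 1)) → MvPolynomial (Fin (r + 1)) k) (a : Fin (F.rk i)),
        (Matrix.mulVecLin (F.d i) w) a ∈ (GrSyz.irrel (GrSyz.stdGr k (Fin (r + 1)))).toIdeal := by
      intro i w a
      rw [Matrix.mulVecLin_apply]
      show ∑ c, F.d i a c * w c ∈ _
      exact Ideal.sum_mem _ (fun c _ => Ideal.mul_mem_right _ _ (hF i a c))
    constructor
    · intro b
      apply not_mem_span_others F.aug _ h𝔪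
      intro v hv a
      rw [F.exact_zero] at hv
      obtain ⟨w, rfl⟩ := hv
      exact hrange 0 w a
    · intro i b
      apply not_mem_span_others (fun b' a => F.d i a b') _ h𝔪
      intro v hv a
      rw [← mulVecLin_eq_linearCombination, F.exact_succ i] at hv
      obtain ⟨w, rfl⟩ := hv
      exact hrange (i + 1) w a
  · rintro ⟨h0, hs⟩ i a b
    by_contra hnot
    have hu : IsUnit (F.d i a b) :=
      isUnit_of_not_mem_irrel k (Fin (r + 1)) _ _ (F.d_mem i a b) hnot
    cases i with
    | zero =>
      apply h0 a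
      apply mem_span_others_of_unit F.aug (fun a' => F.d 0 a' b) _ a hu
      have hk : Matrix.mulVecLin (F.d 0) (Pi.single b 1) ∈
          LinearMap.ker (Fintype.linearCombination (MvPolynomial (Fin (r + 1)) k) F.aug) := by
        rw [F.exact_zero]; exact ⟨_, rfl⟩
      rw [LinearMap.mem_ker, Fintype.linearCombination_apply] at hk
      rw [← hk]
      apply Finset.sum_congr rfl
      intro a' _
      rw [Matrix.mulVecLin_apply, Matrix.mulVec_single_one]
      rfl
    | succ j =>
      apply hs j a
      apply mem_span_others_of_unit (fun b' a => F.d j a b') (fun a' => F.d (j + 1) a' b) _ a hu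
      have hk : Matrix.mulVecLin (F.d (j + 1)) (Pi.single b 1) ∈
          LinearMap.ker (Matrix.mulVecLin (F.d j)) := by
        rw [F.exact_succ j]; exact ⟨_, rfl⟩
      rw [LinearMap.mem_ker, mulVecLin_eq_linearCombination (F.d j),
        Fintype.linearCombination_apply] at hk
      rw [← hk]
      apply Finset.sum_congr rfl
      intro a' _
      rw [Matrix.mulVecLin_apply, Matrix.mulVec_single_one]
      rfl

end Aux

/-- Let k be a field, S = k[x_0, …, x_r] graded by degree, 𝔪 = (x_0, …, x_r), M a finitely generated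
ℤ-graded S-module and F a graded free resolution of M by free modules of finite rank with chosen
homogeneous bases, written as matrices d_i : F_{i+1} → F_i together with the images aug b ∈ M of the
basis of F_0. Then F is a minimal complex (every matrix entry lies in 𝔪) if and only if every map of
the resolution carries its basis to an irredundant (minimal) family of generators of its image: for
each b, aug b is not in the S-span of the remaining aug b', and for each i and each column of d_i,
that column is not in the S-span of the remaining columns. -/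
theorem result (k : Type u) [Field k] (r : ℕ)
    (M : Type u) [AddCommGroup M] [Module k M] [Module (MvPolynomial (Fin (r + 1)) k) M]
    [IsScalarTower k (MvPolynomial (Fin (r + 1)) k) M] [Module.Finite (MvPolynomial (Fin (r + 1)) k) M]
    (ℳ : ℤ → Submodule k M) [DirectSum.Decomposition ℳ] [SetLike.GradedSMul (GrSyz.stdGr k (Fin (r + 1))) ℳ]
    (F : GrSyz.FreeRes (GrSyz.stdGr k (Fin (r + 1))) ℳ) :
    F.IsMinimal (GrSyz.irrel (GrSyz.stdGr k (Fin (r + 1)))).toIdeal ↔
      ((∀ b : Fin (F.rk 0), F.aug b ∉ Submodule.span (MvPolynomial (Fin (r + 1)) k) (F.aug '' {b' | b' ≠ b})) ∧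
        ∀ (i : ℕ) (b : Fin (F.rk (i + 1))),
          (fun a => F.d i a b) ∉ Submodule.span (MvPolynomial (Fin (r + 1)) k) ((fun b' a => F.d i a b') '' {b' | b' ≠ b})) := by
  exact Aux.main k r M ℳ F

end Groth.Agent.S15427
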