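import Groth.Statements.S18858
import Mathlib
import Groth.Prelude.Def_ActBC

set_option autoImplicit false
universe u
open CategoryTheory MonoidalCategory CartesianMonoidalCategory MonObj GrpObj AlgebraicGeometry
open NonAbH1

namespace Groth.Agent.S18858

section
open CategoryTheory MonoidalCategory CartesianMonoidalCategory MonObj GrpObj AlgebraicGeometry
open Limits MorphismProperty

/-- If `q` is a base change of `h` along `t ≫ b₀` and the base change of `h` along `b₀` has `P`,
then `q` has `P`. -/
theorem of_isPullback_comp (P : MorphismProperty Scheme.{u}) [P.IsStableUnderBaseChange]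
    {X S A B B₀ : Scheme.{u}} {h : X ⟶ S} {p : A ⟶ X} {q : A ⟶ B} {b : B ⟶ S}
    (sq : IsPullback p q h b) (t : B ⟶ B₀) (b₀ : B₀ ⟶ S) (hb : b = t ≫ b₀)
    (hP : P (pullback.snd h b₀)) : P q := by
  subst hb
  have sq0 := IsPullback.of_hasPullback h b₀
  have hw : p ≫ h = (q ≫ t) ≫ b₀ := by rw [Category.assoc]; exact sq.w
  have sq' : IsPullback (sq0.lift p (q ≫ t) hw ≫ pullback.fst h b₀) q h (t ≫ b₀) := by
    rw [sq0.lift_fst]; exact sq
  have := IsPullback.of_right sq' (sq0.lift_snd _ _ _) sq0
  exact P.of_isPullback this hP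

/-- Descent of a Zariski-local property along an fpqc covering family. -/
theorem descends_fpqc_family (P : MorphismProperty Scheme.{u}) [IsZariskiLocalAtTarget P]
    [P.IsStableUnderBaseChange] [P.DescendsAlong (@Surjective ⊓ @Flat ⊓ @QuasiCompact)]
    {X S : Scheme.{u}} (h : X ⟶ S) (R : Presieve S) (hR : R ∈ Scheme.fpqcPrecoverage S)
    (H : ∀ ⦃T : Scheme.{u}⦄ (g : T ⟶ S), R g → P (pullback.snd h g)) : P h := by
  obtain ⟨𝒰, hqc, rfl⟩ := Scheme.mem_propQCPrecoverage_iff_exists_quasiCompactCover.mp hR
  rw [IsZariskiLocalAtTarget.iff_of_openCover (P := P) S.affineCover]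
  intro j
  change P (pullback.snd h (S.affineCover.f j))
  set iU := S.affineCover.f j with hiU
  set hU := pullback.snd h iU with hhU
  haveI : QuasiCompactCover 𝒰.toPreZeroHypercover := hqc
  haveI : IsAffine (S.affineCover.X j) := inferInstance
  obtain ⟨n, f, V, hV, hcov⟩ := QuasiCompactCover.exists_isAffineOpen_of_isCompact
    (𝒰.toPreZeroHypercover.pullback₁ iU) (U := ⊤) isCompact_univ
  let c : ∀ k : Fin n, (V k : Scheme.{u}) ⟶ S.affineCover.X j := fun k =>
    (V k).ι ≫ (𝒰.toPreZeroHypercover.pullback₁ iU).f (f k)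
  haveI : ∀ k, IsAffine (V k : Scheme.{u}) := fun k => hV k
  let w : (∐ fun k : Fin n => (V k : Scheme.{u})) ⟶ S.affineCover.X j := Sigma.desc c
  have hwk : ∀ k : Fin n, Sigma.ι (fun k : Fin n => (V k : Scheme.{u})) k ≫ w = c k := fun k =>
    Sigma.ι_desc _ _
  have hw : (@Surjective ⊓ @Flat ⊓ @QuasiCompact : MorphismProperty Scheme.{u}) w := by
    refine ⟨⟨⟨fun x => ?_⟩, ?_⟩, ?_⟩
    · have hx : x ∈ ((⊤ : (S.affineCover.X j).Opens) : Set _) := trivial
      rw [← hcov] at hx
      simp only [Set.mem_iUnion] at hx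
      obtain ⟨k, y, hy, rfl⟩ := hx
      refine ⟨(Sigma.ι (fun k : Fin n => (V k : Scheme.{u})) k).base ⟨y, hy⟩, ?_⟩
      rw [← Scheme.Hom.comp_apply, hwk]
      rfl
    · rw [IsZariskiLocalAtSource.iff_of_openCover (P := @Flat) (sigmaOpenCover _)]
      intro k
      change Flat (Sigma.ι (fun k : Fin n => (V k : Scheme.{u})) k ≫ w)
      rw [hwk]
      have : Flat ((𝒰.toPreZeroHypercover.pullback₁ iU).f (f k)) := by
        change Flat (pullback.fst iU (𝒰.f (f k)))
        have : Flat (𝒰.f (f k)) := 𝒰.map_prop (f k)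
        infer_instance
      infer_instance
    · infer_instance
  apply MorphismProperty.of_pullback_fst_of_descendsAlong (P := P) hw
  rw [IsZariskiLocalAtTarget.iff_of_openCover (P := P) (sigmaOpenCover _)]
  intro k
  change P (pullback.snd (pullback.fst w hU) (Sigma.ι _ k))
  have sq1 := IsPullback.of_hasPullback h iU
  have sq2 := (IsPullback.of_hasPullback w hU).flip
  have sq3 := IsPullback.of_hasPullback (pullback.fst w hU) (Sigma.ι _ k)
  have sq := (sq3.paste_horiz sq2).paste_horiz sq1
  refine of_isPullback_comp P sq ((V k).ι ≫ pullback.snd iU (𝒰.f (f k))) (𝒰.f (f k)) ?_ ?_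
  · have e := hwk k
    refine Eq.trans (congrArg (fun m => m ≫ iU) e) ?_
    change ((V k).ι ≫ pullback.fst iU (𝒰.f (f k))) ≫ iU = _
    rw [Category.assoc, Category.assoc]
    congr 1
    exact pullback.condition
  · exact H _ ⟨f k⟩

/-- Relative version: descent for a morphism of `S`-schemes along an fpqc covering family of `S`. -/
theorem descends_fpqc_family_over (P : MorphismProperty Scheme.{u}) [IsZariskiLocalAtTarget P]
    [P.IsStableUnderBaseChange] [P.DescendsAlong (@Surjective ⊓ @Flat ⊓ @QuasiCompact)]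
    {S : Scheme.{u}} {X B : Over S} (f : X ⟶ B) (R : Presieve S)
    (hR : R ∈ Scheme.fpqcPrecoverage S)
    (H : ∀ ⦃T : Scheme.{u}⦄ (g : T ⟶ S), R g → P ((Over.pullback g).map f).left) : P f.left := by
  refine descends_fpqc_family P f.left (R.pullbackArrows B.hom)
    (Precoverage.pullbackArrows_mem B.hom hR) ?_
  rintro T' g' ⟨T, u, hu⟩
  have hPu := H u hu
  have hcond : pullback.snd X.hom u ≫ u = (pullback.fst X.hom u ≫ f.left) ≫ B.hom := by
    rw [Category.assoc, Over.w f, pullback.condition]
  let q : pullback X.hom u ⟶ pullback u B.hom :=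
    pullback.lift (pullback.snd X.hom u) (pullback.fst X.hom u ≫ f.left) hcond
  have hq1 : q ≫ pullback.fst u B.hom = pullback.snd X.hom u := pullback.lift_fst _ _ _
  have hq2 : q ≫ pullback.snd u B.hom = pullback.fst X.hom u ≫ f.left := pullback.lift_snd _ _ _
  have hqeq : q = ((Over.pullback u).map f).left ≫ (pullbackSymmetry B.hom u).hom := by
    apply pullback.hom_ext
    · rw [hq1, Category.assoc, pullbackSymmetry_hom_comp_fst]
      simp only [CategoryTheory.Over.pullback]
      exact (pullback.lift_snd _ _ _).symm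
    · rw [hq2, Category.assoc, pullbackSymmetry_hom_comp_snd]
      simp only [CategoryTheory.Over.pullback]
      exact (pullback.lift_fst _ _ _).symm
  have hPq : P q := by
    rw [hqeq, P.cancel_right_of_respectsIso]
    exact hPu
  have sqX := IsPullback.of_hasPullback X.hom u
  have sqY := (IsPullback.of_hasPullback u B.hom).flip
  have sbig : IsPullback (pullback.fst X.hom u) (q ≫ pullback.fst u B.hom) (f.left ≫ B.hom) u := by
    rw [hq1, Over.w f]; exact sqX
  have sq := IsPullback.of_bot sbig hq2.symm sqY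
  -- the pullback used in `descends_fpqc_family`
  have e := sq.isoPullback
  have he : sq.isoPullback.hom ≫ pullback.snd f.left (pullback.snd u B.hom) = q :=
    sq.isoPullback_hom_snd
  rw [← P.cancel_left_of_respectsIso sq.isoPullback.hom, he]
  exact hPq

/-- The orbit map of a section of a pseudo-torsor is an isomorphism. -/
theorem isIso_orbit {S : Scheme.{u}}
    (G X : Over S) [GrpObj G] (a : AlgGrp.Action G X)
    (h : NonAbH1.IsPseudoTorsorSch a) (x : 𝟙_ (Over S) ⟶ X) :
    IsIso (lift (𝟙 G) (toUnit G ≫ x) ≫ a.act) := by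
  haveI : IsIso (lift a.act (snd G X)) := h
  let τ := lift a.act (snd G X)
  have hτfst : τ ≫ fst X X = a.act := lift_fst _ _
  have hτsnd : τ ≫ snd X X = snd G X := lift_snd _ _
  let o : G ⟶ X := lift (𝟙 G) (toUnit G ≫ x) ≫ a.act
  let p : X ⟶ G ⊗ X := lift (𝟙 X) (toUnit X ≫ x) ≫ inv τ
  let i : X ⟶ G := p ≫ fst G X
  have hpτ : p ≫ τ = lift (𝟙 X) (toUnit X ≫ x) := by
    simp only [p, Category.assoc, IsIso.inv_hom_id, Category.comp_id]
  have hpsnd : p ≫ snd G X = toUnit X ≫ x := by
    rw [← hτsnd, ← Category.assoc, hpτ, lift_snd]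
  have hpact : p ≫ a.act = 𝟙 X := by
    rw [← hτfst, ← Category.assoc, hpτ, lift_fst]
  have hp : p = lift i (toUnit X ≫ x) := by
    apply CartesianMonoidalCategory.hom_ext
    · rw [lift_fst]
    · rw [lift_snd, hpsnd]
  have hio : i ≫ o = 𝟙 X := by
    simp only [o]
    rw [← Category.assoc, comp_lift, Category.comp_id, ← Category.assoc,
      toUnit_unique (i ≫ toUnit G) (toUnit X), ← hp, hpact]
  have hoτ : lift (𝟙 G) (toUnit G ≫ x) ≫ τ = lift o (toUnit G ≫ x) := by
    simp only [τ]
    rw [comp_lift, lift_snd]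
  have hoi : o ≫ i = 𝟙 G := by
    simp only [i, p]
    rw [← Category.assoc, ← Category.assoc, comp_lift, Category.comp_id, ← Category.assoc,
      toUnit_unique (o ≫ toUnit X) (toUnit G), ← hoτ, Category.assoc, Category.assoc,
      IsIso.hom_inv_id_assoc, lift_fst]
  exact ⟨i, hoi, hio⟩

/-- An equivariant morphism between pseudo-torsors, the first of which has a section, is an
isomorphism. -/
theorem isIso_of_section {S : Scheme.{u}} {G X X' : Over S} [GrpObj G]
    (a : AlgGrp.Action G X) (a' : AlgGrp.Action G X')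
    (ha : NonAbH1.IsPseudoTorsorSch a) (ha' : NonAbH1.IsPseudoTorsorSch a')
    (f : X ⟶ X') (hf : AlgGrp.Action.IsEquivariant a a' f) (x : 𝟙_ (Over S) ⟶ X) : IsIso f := by
  have h1 := isIso_orbit G X a ha x
  have h2 := isIso_orbit G X' a' ha' (x ≫ f)
  have hf' : a.act ≫ f = (G ◁ f) ≫ a'.act := hf
  have heq : (lift (𝟙 G) (toUnit G ≫ x) ≫ a.act) ≫ f =
      lift (𝟙 G) (toUnit G ≫ x ≫ f) ≫ a'.act := by
    rw [Category.assoc, hf', ← Category.assoc]
    congr 1
    apply CartesianMonoidalCategory.hom_ext
    · simp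
    · simp
  have : f = inv (lift (𝟙 G) (toUnit G ≫ x) ≫ a.act) ≫
      (lift (𝟙 G) (toUnit G ≫ x ≫ f) ≫ a'.act) := by
    rw [← heq, IsIso.inv_hom_id_assoc]
  rw [this]
  infer_instance

theorem main {S : Scheme.{u}} {G X X' : Over S} [GrpObj G]
    (a : AlgGrp.Action G X) (a' : AlgGrp.Action G X')
    (ha : NonAbH1.IsTorsorFor Scheme.fpqcPrecoverage a)
    (ha' : NonAbH1.IsTorsorFor Scheme.fpqcPrecoverage a')
    (f : X ⟶ X') (hf : AlgGrp.Action.IsEquivariant a a' f) : IsIso f := by
  obtain ⟨hpt, R, hR, hsec⟩ := ha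
  have hpt' := ha'.1
  have hleft : IsIso f.left := by
    refine descends_fpqc_family_over (MorphismProperty.isomorphisms Scheme.{u}) f R hR ?_
    intro T g hg
    obtain ⟨s, hs⟩ := hsec g hg
    let x : 𝟙_ (Over T) ⟶ (Over.pullback g).obj X :=
      Over.homMk (pullback.lift s (𝟙 T) (by rw [hs]; exact (Category.id_comp g).symm)) (pullback.lift_snd _ _ _)
    have hiso : IsIso ((Over.pullback g).map f) :=
      isIso_of_section (a.bc g) (a'.bc g) (NonAbH1.isPseudoTorsorSch_bc g hpt)
        (NonAbH1.isPseudoTorsorSch_bc g hpt') _ (AlgGrp.Action.isEquivariant_bc g hf) x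
    change IsIso ((Over.pullback g).map f).left
    exact (inferInstance : IsIso ((Over.forget T).map ((Over.pullback g).map f)))
  haveI : IsIso ((Over.forget S).map f) := hleft
  exact isIso_of_reflects_iso f (Over.forget S)


end


/-- Let S be a scheme, G a group scheme over S and X, X' two G-torsors over S for the fpqc topology
(pseudo-torsors under G acquiring sections on the members of some fpqc covering family of S). Then
every G-equivariant S-morphism f : X → X' is an isomorphism; so the category of G-torsors over S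
with equivariant morphisms is a groupoid. (The source takes for G the base change to a scheme over a
field of a group scheme over that field; the statement and its meaning are unchanged for an
arbitrary group scheme over the base.) -/
theorem result {S : Scheme.{u}} {G X X' : Over S} [GrpObj G]
    (a : AlgGrp.Action G X) (a' : AlgGrp.Action G X')
    (ha : NonAbH1.IsTorsorFor Scheme.fpqcPrecoverage a)
    (ha' : NonAbH1.IsTorsorFor Scheme.fpqcPrecoverage a')
    (f : X ⟶ X') (hf : AlgGrp.Action.IsEquivariant a a' f) : IsIso f := by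
  classical
  exact main a a' ha ha' f hf

end Groth.Agent.S18858
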