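import Groth.Statements.S19618
import Mathlib
import Groth.Agent.Lib.Helper4.EffCartier

set_option autoImplicit false
universe u
open CategoryTheory CategoryTheory.Limits AlgebraicGeometry Opposite TopologicalSpace
open BlowUp

namespace Groth.Agent.S19618

open CategoryTheory CategoryTheory.Limits AlgebraicGeometry Opposite TopologicalSpace
namespace H19618
open Groth.Agent.Helper4
theorem le_zero_of_not_one_le (d : WithBot ℕ∞) (h : ¬ 1 ≤ d) : d ≤ 0 := by
  induction d with
  | bot => exact bot_le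
  | coe d =>
    induction d with
    | top => exact absurd le_top h
    | coe d =>
      have h1 : (1 : WithBot ℕ∞) = ((1 : ℕ) : ℕ∞) := rfl
      have h0 : (0 : WithBot ℕ∞) = ((0 : ℕ) : ℕ∞) := rfl
      rw [h1] at h
      rw [h0]
      norm_cast at h ⊢
      omega

theorem one_le_dim (R : Type*) [CommRing R] [IsLocalRing R] (g : R)
    (hg : g ∈ IsLocalRing.maximalIdeal R) (hnzd : g ∈ nonZeroDivisors R) :
    1 ≤ ringKrullDim R := by
  by_contra hcon
  have h0 : ringKrullDim R ≤ 0 := by
    exact le_zero_of_not_one_le _ hcon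
  have hK : Ring.KrullDimLE 0 R := by
    rw [Ring.krullDimLE_iff]
    exact_mod_cast h0
  have h3 := ((Ring.krullDimLE_zero_and_isLocalRing_tfae R).out 0 2 rfl rfl).mp ⟨hK, inferInstance⟩
  have hnil : IsNilpotent g := (h3 g).mpr ((IsLocalRing.mem_maximalIdeal g).mp hg)
  obtain ⟨n, hn⟩ := hnil
  have : g ^ n ∈ nonZeroDivisors R := pow_mem hnzd n
  rw [hn] at this
  exact zero_notMem_nonZeroDivisors this

theorem arith (c d : WithBot ℕ∞) (hc : 1 ≤ c) (hd1 : d ≠ ⊤) (hd2 : d ≠ ⊥) (h : d = c + d) : False := by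
  induction d with
  | bot => exact hd2 rfl
  | coe d =>
    induction c with
    | bot => simp at hc
    | coe c =>
      induction d with
      | top => exact hd1 rfl
      | coe d =>
        induction c with
        | top => 
          have : ((d : ℕ∞) : WithBot ℕ∞) = ((⊤ : ℕ∞) : WithBot ℕ∞) := by
            rw [h]; rfl
          exact ENat.natCast_ne_top d (WithBot.coe_injective this)
        | coe c =>
          have h1 : (1 : WithBot ℕ∞) = ((1 : ℕ) : ℕ∞) := rfl
          rw [h1] at hc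
          norm_cast at hc h
          omega



theorem stalk_dim_ge_one {X : Scheme.{u}} (𝓘 : X.IdealSheafData) (hY : BlowUp.IsEffCartierIdeal 𝓘)
    (y : X) (hy : y ∈ 𝓘.support) : 1 ≤ ringKrullDim (X.presheaf.stalk y) := by
  obtain ⟨U, hyU, f, hf, hI⟩ := hY y
  apply one_le_dim _ ((X.presheaf.germ U.1 y hyU).hom f)
  · rw [IsLocalRing.mem_maximalIdeal, mem_nonunits_iff]
    intro hunit
    have : y ∈ X.basicOpen f := (X.mem_basicOpen f y hyU).mpr hunit
    exact (EffCartier.mem_basicOpen_iff_not_mem_support U f hI y hyU).mp this hy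
  · exact EffCartier.germ_nzd U.1 U.2 f hf y hyU

theorem main {X Z : Scheme.{u}}
    [IsLocallyNoetherian X] (𝓘 : X.IdealSheafData) (hY : BlowUp.IsEffCartierIdeal 𝓘)
    (i : Z ⟶ X) [IsClosedImmersion i] [IsIntegral Z]
    (hprop : ∀ ζ : ↥X, ζ ∈ (𝓘.support : Set ↥X) ∩ Set.range i.base →
        (∀ ζ' : ↥X, ζ' ∈ (𝓘.support : Set ↥X) ∩ Set.range i.base → ζ' ⤳ ζ → ζ' = ζ) →
        ringKrullDim ↑(X.presheaf.stalk ζ) =
          (⨅ y : (𝓘.support : Set ↥X), ringKrullDim ↑(X.presheaf.stalk y.1)) +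
            ringKrullDim ↑(X.presheaf.stalk (i (genericPoint ↥Z)))) :
    ¬ Set.range i.base ⊆ (𝓘.support : Set ↥X) := by
  intro hsub
  have hζ : i (genericPoint ↥Z) ∈ (𝓘.support : Set ↥X) ∩ Set.range i.base :=
    ⟨hsub ⟨genericPoint Z, rfl⟩, ⟨genericPoint Z, rfl⟩⟩
  have hmax : ∀ ζ' : ↥X, ζ' ∈ (𝓘.support : Set ↥X) ∩ Set.range i.base →
      ζ' ⤳ i (genericPoint ↥Z) → ζ' = i (genericPoint ↥Z) := by
    rintro ζ' ⟨-, z, rfl⟩ hspec
    have h1 : genericPoint Z ⤳ z := genericPoint_specializes z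
    have h2 : i (genericPoint Z) ⤳ i z := h1.map i.continuous
    exact (hspec.antisymm h2).eq
  have h := hprop _ hζ hmax
  have hc : 1 ≤ ⨅ y : (𝓘.support : Set ↥X), ringKrullDim ↑(X.presheaf.stalk y.1) :=
    le_iInf (fun y => stalk_dim_ge_one 𝓘 hY y.1 y.2)
  exact arith _ _ hc ringKrullDim_ne_top ringKrullDim_ne_bot h

end H19618

/-- Let X be a locally Noetherian scheme, Y an effective Cartier divisor on X (a quasi-coherent ideal
sheaf which, near every point, is generated on some affine open by one nonzerodivisor; Y is its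
support) and Z a closed integral subscheme (a closed immersion i from an integral scheme with
generic point ξ). If Y and Z intersect properly — every point ζ of Y ∩ Z which is maximal under
generization inside Y ∩ Z satisfies dim O_{X,ζ} = codim(Y,X) + codim(Z,X), where codim(Y,X) is the
infimum over y ∈ Y of dim O_{X,y} and codim(Z,X) = dim O_{X,i(ξ)} — then Z is not contained in Y. -/
theorem result {X Z : Scheme.{u}}
    [IsLocallyNoetherian X] (𝓘 : X.IdealSheafData) (hY : BlowUp.IsEffCartierIdeal 𝓘)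
    (i : Z ⟶ X) [IsClosedImmersion i] [IsIntegral Z]
    (hprop : ∀ ζ : ↥X, ζ ∈ (𝓘.support : Set ↥X) ∩ Set.range i.base →
        (∀ ζ' : ↥X, ζ' ∈ (𝓘.support : Set ↥X) ∩ Set.range i.base → ζ' ⤳ ζ → ζ' = ζ) →
        ringKrullDim ↑(X.presheaf.stalk ζ) =
          (⨅ y : (𝓘.support : Set ↥X), ringKrullDim ↑(X.presheaf.stalk y.1)) +
            ringKrullDim ↑(X.presheaf.stalk (i (genericPoint ↥Z)))) :
    ¬ Set.range i.base ⊆ (𝓘.support : Set ↥X) := by
  exact H19618.main 𝓘 hY i hprop

end Groth.Agent.S19618
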