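import Groth.Statements.S8992
import Mathlib

set_option autoImplicit false
universe u
open HTop

namespace Groth.Agent.S8992

namespace H8992

section
variable (p : ℕ) [hp : Fact p.Prime] (A : Type u) [CommRing A] [Algebra (ZMod p) A]

theorem p_zero : (p : A) = 0 := by
  rw [← map_natCast (algebraMap (ZMod p) A), ZMod.natCast_self, map_zero]

theorem unit_of_ne (l : ℕ) (hl : l.Prime) (hne : l ≠ p) : IsUnit (l : A) := by
  have hcop : Nat.Coprime l p := (Nat.coprime_primes hl hp.out).mpr hne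
  have hu : IsUnit ((l : ZMod p)) := (ZMod.isUnit_iff_coprime l p).mpr hcop
  have := hu.map (algebraMap (ZMod p) A)
  simpa using this

variable {p A}

theorem forward (h : HTop.IsAWNRing A) : PerfectRing A p := by
  constructor
  obtain ⟨-, h2⟩ := h
  constructor
  · intro a b hab
    simp only at hab
    obtain ⟨c, -, hc⟩ := h2 p hp.out (a ^ p) 0 (by rw [p_zero p A]; simp [hp.out.ne_zero])
    have ha := hc a ⟨rfl, by rw [p_zero p A]; simp⟩
    have hb := hc b ⟨hab, by rw [p_zero p A]; simp⟩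
    rw [ha, hb]
  · intro x
    obtain ⟨c, ⟨hc, -⟩, -⟩ := h2 p hp.out x 0 (by rw [p_zero p A]; simp [hp.out.ne_zero])
    exact ⟨c, hc.symm⟩

omit hp [Algebra (ZMod p) A] in
theorem frob_inj (h : PerfectRing A p) {a b : A} (hab : a ^ p = b ^ p) : a = b :=
  h.bijective_frobenius.1 hab

theorem backward (h : PerfectRing A p) : HTop.IsAWNRing A := by
  have hred : ∀ z : A, z ^ 3 = 0 → z = 0 := by
    intro z hz
    -- z^p = 0 for p ≥ 3 ; for p = 2 : z^4 = 0
    have h4 : (z ^ p) ^ p = (0 : A) ^ p ^ 2 := by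
      have h2 : 2 ≤ p := hp.out.two_le
      have : 3 ≤ p * p := by nlinarith
      rw [← pow_mul, zero_pow (by positivity)]
      obtain ⟨k, hk⟩ := Nat.exists_eq_add_of_le this
      rw [hk, pow_add, hz, zero_mul]
    rw [pow_two, pow_mul] at h4
    exact frob_inj h (frob_inj h h4) |>.trans (by simp)
  refine ⟨?_, ?_⟩
  · intro x y hxy
    -- exponents i j with 2 i + 3 j = p
    obtain ⟨i, j, hij⟩ : ∃ i j : ℕ, 2 * i + 3 * j = p := by
      rcases hp.out.eq_two_or_odd with h2 | hodd
      · exact ⟨1, 0, by omega⟩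
      · have h3 : 3 ≤ p := by
          have := hp.out.two_le
          omega
        exact ⟨(p - 3) / 2, 1, by omega⟩
    obtain ⟨a, ha⟩ := h.bijective_frobenius.2 (x ^ i * y ^ j)
    simp only at ha
    have ha2 : a ^ 2 = x := by
      apply frob_inj h
      rw [← pow_mul, mul_comm, pow_mul, ha, mul_pow, ← pow_mul, ← pow_mul, mul_comm j 2, pow_mul y 2 j,
        ← hxy, ← pow_mul, ← pow_add, mul_comm i 2, hij]
    have ha3 : a ^ 3 = y := by
      apply frob_inj h
      rw [← pow_mul, mul_comm, pow_mul, ha, mul_pow, ← pow_mul, ← pow_mul, mul_comm i 3, pow_mul x 3 i,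
        hxy, ← pow_mul, ← pow_add, mul_comm j 3, hij]
    refine ⟨a, ⟨ha2.symm, ha3.symm⟩, ?_⟩
    rintro b ⟨hb2, hb3⟩
    have hz : (b - a) ^ 3 = 0 := by
      have e1 : b ^ 2 = a ^ 2 := by rw [← hb2, ha2]
      have e2 : b ^ 3 = a ^ 3 := by rw [← hb3, ha3]
      have : (b - a) ^ 3 = b ^ 3 - 3 * (b ^ 2) * a + 3 * b * (a ^ 2) - a ^ 3 := by ring
      rw [this, e2, e1, ← e1]
      have : a ^ 3 - 3 * b ^ 2 * a + 3 * b * b ^ 2 - a ^ 3 = 3 * b ^ 3 - 3 * b ^ 2 * a := by ring
      rw [this, e2, e1]; ring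
    exact sub_eq_zero.mp (hred _ hz)
  · intro l hl x y hxy
    by_cases hlp : l = p
    · subst hlp
      rw [p_zero l A, zero_pow hl.ne_zero, zero_mul] at hxy
      have hy : y = 0 := by
        apply frob_inj h
        rw [← hxy, zero_pow hl.ne_zero]
      obtain ⟨a, ha⟩ := h.bijective_frobenius.2 x
      simp only at ha
      refine ⟨a, ⟨ha.symm, by rw [hy, p_zero l A, zero_mul]⟩, ?_⟩
      rintro b ⟨hb, -⟩
      apply frob_inj h
      rw [ha, ← hb]
    · obtain ⟨u, hu⟩ := unit_of_ne p A l hl hlp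
      refine ⟨↑u⁻¹ * y, ⟨?_, ?_⟩, ?_⟩
      · rw [mul_pow, ← hxy, ← hu, ← mul_assoc, ← mul_pow, Units.inv_mul, one_pow, one_mul]
      · rw [← hu, ← mul_assoc, Units.mul_inv, one_mul]
      · rintro b ⟨-, hb⟩
        rw [hb, ← hu, ← mul_assoc, Units.inv_mul, one_mul]

theorem main : HTop.IsAWNRing A ↔ PerfectRing A p := ⟨forward, backward⟩

end
end H8992

/-- An algebra over the prime field with p elements is absolutely weakly normal if and only if its p-th
power map is bijective (the algebra is perfect). -/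
theorem result (p : ℕ) [Fact p.Prime] (A : Type u) [CommRing A] [Algebra (ZMod p) A] : HTop.IsAWNRing A ↔ PerfectRing A p := by
  exact H8992.main

end Groth.Agent.S8992
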