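import Groth.Statements.S0648
import Mathlib
import Groth.Agent.Lib.Helper5.Misc.ShriekMapMP

set_option autoImplicit false
open CategoryTheory CategoryTheory.Limits AlgebraicGeometry Opposite
universe u
open EtCore

open Groth.Agent.Lib.Helper5.Misc

namespace Groth.Agent.S0648

/-- For an etale morphism j : U -> X the extension by zero functor j_! on abelian sheaves preserves
finite limits (it is a left adjoint, so it is then exact). (Continuity of the composition functor of
etale sites, which always holds, is carried as an instance hypothesis.) -/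
theorem result {U X : Scheme.{u}} (j : U ⟶ X) [AlgebraicGeometry.Etale j] [EtShriek.JCont j] :
    PreservesFiniteLimits (EtShriek.extZero j) := by
  have : HasCoproducts.{u} AddCommGrpCat.{u + 1} := hasCoproducts_shrink.{u, u + 1}
  have : AB4OfSize.{u} AddCommGrpCat.{u + 1} := AB4OfSize_shrink.{u, u + 1} AddCommGrpCat.{u + 1}
  have hj : EtCoh.etaleMP.{u} j := ‹Etale j›
  have hc : (ShriekMapMP.mapF (P := EtCoh.etaleMP.{u}) hj).IsContinuous U.smallEtaleTopology
      X.smallEtaleTopology := ‹EtShriek.JCont j›
  have hs : HasSheafify X.smallEtaleTopology AddCommGrpCat.{u + 1} := inferInstance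
  exact @ShriekMapMP.preservesFiniteLimits_sheafPullback _ _ EtCoh.etaleMP.{u} _ _ _ _ _ hj
    AddCommGrpCat.{u + 1} _ _ U.smallEtaleTopology X.smallEtaleTopology hc _ _ _ hs

end Groth.Agent.S0648
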