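import Groth.Statements.S0623
import Mathlib
import Groth.Agent.S6697
import Groth.Agent.S0648
import Groth.Prelude.Def_EtBC2
import Groth.Agent.Lib.Helper5.Misc.JContGen
import Groth.Agent.Lib.Helper5.Misc.LanFlat

set_option autoImplicit false
open CategoryTheory CategoryTheory.Limits AlgebraicGeometry Opposite
universe u
open EtCore

open CategoryTheory CategoryTheory.Limits AlgebraicGeometry Opposite
open Groth.Agent.Lib.Helper5.Misc

namespace Groth.Agent.S0623

/-- inverse image of abelian étale sheaves is left exact -/
instance lexPull {X Y : Scheme.{u}} (f : X ⟶ Y) : PreservesFiniteLimits (EtCoh.pull f) := by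
  have := Groth.Agent.S6697.ab5.{u}
  exact LanFlat.preservesFiniteLimits_sheafPullback (EtCoh.bc f) AddCommGrpCat.{u + 1} _ _

section
variable {U X : Scheme.{u}} (j : U ⟶ X) [hj : Etale j]

/-- restriction along an étale morphism is left adjoint to the direct image -/
noncomputable def restrPushAdj : EtShriek.restrAlong j ⊣ EtCoh.push j :=
  haveI : (MorphismProperty.Over.map (P := EtCoh.etaleMP.{u}) ⊤ (f := j) hj).IsContinuous
      U.smallEtaleTopology X.smallEtaleTopology := JContGen.jCont j
  haveI : (MorphismProperty.Over.pullback EtCoh.etaleMP.{u} ⊤ j).IsContinuous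
      X.smallEtaleTopology U.smallEtaleTopology := EtCoh.bcCont j
  (MorphismProperty.Over.mapPullbackAdj EtCoh.etaleMP.{u} ⊤ j hj trivial).sheafPushforwardContinuous
    (E := AddCommGrpCat.{u + 1}) U.smallEtaleTopology X.smallEtaleTopology

/-- for étale `j`, the inverse image is restriction -/
noncomputable def pullIso : EtCoh.pull j ≅ EtShriek.restrAlong j :=
  (EtCoh.pullPushAdj j).leftAdjointUniq (restrPushAdj j)

instance : (EtShriek.restrAlong j).PreservesInjectiveObjects :=
  haveI : PreservesFiniteLimits (EtShriek.extZero j) := Groth.Agent.S0648.result j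
  Functor.preservesInjectiveObjects_of_adjunction_of_preservesMonomorphisms (EtShriek.extZeroAdj j)

theorem injective_pull (G : EtCoh.Ab X) [Injective G] : Injective ((EtCoh.pull j).obj G) :=
  Injective.of_iso ((pullIso j).app G).symm inferInstance

end

theorem main {X Y Z : Scheme.{u}} (f : X ⟶ Y) (g : Y ⟶ Z) (I : EtCoh.Ab X)
    [Injective I] (q : ℕ) (hq : 1 ≤ q) :
    (∀ V : Y.Etale, Subsingleton (EtCoh.H V.left ((EtCoh.pull V.hom).obj ((EtCoh.push f).obj I)) q)) ∧
    IsZero ((EtCoh.Rpush g q).obj ((EtCoh.push f).obj I)) := by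
  obtain ⟨n, rfl⟩ : ∃ n, q = n + 1 := ⟨q - 1, by omega⟩
  have hinj : Injective ((EtCoh.push f).obj I) := inferInstance
  refine ⟨fun V => ?_, ?_⟩
  · have hV : Etale V.hom := V.prop
    have := injective_pull V.hom ((EtCoh.push f).obj I)
    exact ⟨fun a b => (Abelian.Ext.eq_zero_of_injective a).trans
      (Abelian.Ext.eq_zero_of_injective b).symm⟩
  · exact Functor.isZero_rightDerived_obj_injective_succ _ n _

end Groth.Agent.S0623

namespace Groth.Agent.S0623

/-- For a morphism f : X -> Y and an injective abelian sheaf I on the small etale site of X, the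
pushforward f_* I is acyclic: its etale cohomology over any scheme V etale over Y (computed after
pulling back to V) vanishes in positive degrees, and for any g : Y -> Z the higher direct images R^q
g_* (f_* I) vanish for q > 0. Part (1) on Cech cohomology is not included. -/
theorem result {X Y Z : Scheme.{u}} (f : X ⟶ Y) (g : Y ⟶ Z) (I : EtCoh.Ab X)
    [Injective I] (q : ℕ) (hq : 1 ≤ q) :
    (∀ V : Y.Etale, Subsingleton (EtCoh.H V.left ((EtCoh.pull V.hom).obj ((EtCoh.push f).obj I)) q)) ∧
    IsZero ((EtCoh.Rpush g q).obj ((EtCoh.push f).obj I)) := by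
  exact main f g I q hq

end Groth.Agent.S0623
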