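import Groth.Statements.S12784
import Mathlib
import Groth.Agent.Lib.Helper2.FibCat.FpInv
import Groth.Agent.Lib.Helper2.EquivOver

set_option autoImplicit false
open CategoryTheory CategoryTheory.Limits
universe v u
open FibCat

namespace Groth.Agent.S12784

/-- Consider a 2-commutative square of functors over `C` with vertical arrows `f' : 𝒳' ⟶ 𝒴'`, `f : 𝒳 ⟶
𝒴` and horizontal arrows equivalences over `C`. Then `f` is a representable 1-morphism if and only
if `f'` is. (The published statement is for categories fibred in groupoids over schemes over a base;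
this row is stated for categories over any base category.) -/
theorem result {C : Type u} [Category.{v} C] {𝒳 𝒴 𝒳' 𝒴' : BasedCategory.{v, max u v} C}
    (f : 𝒳 ⥤ᵇ 𝒴) (f' : 𝒳' ⥤ᵇ 𝒴') (a : 𝒳' ⥤ᵇ 𝒳) (b : 𝒴' ⥤ᵇ 𝒴)
    (ha : FibCat.IsEquivOver a) (hb : FibCat.IsEquivOver b) (e : BasedFunctor.comp f' b ≅ BasedFunctor.comp a f) :
    FibCat.IsRepresentable1 f ↔ FibCat.IsRepresentable1 f' := by
  constructor
  · intro hf U G'
    exact (Groth.Agent.Helper2.FibCatLib.FpInv.isRepresentable_fp_square f f' a b ha hb e G').2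
      (hf U (BasedFunctor.comp G' b))
  · intro hf' U G
    obtain ⟨c, hc, -, ⟨θ⟩⟩ := Groth.Agent.Helper2.FibCatLib.isEquivOver_inverse hb
    have h1 := hf' U (BasedFunctor.comp G c)
    have h2 := (Groth.Agent.Helper2.FibCatLib.FpInv.isRepresentable_fp_square f f' a b ha hb e
      (BasedFunctor.comp G c)).1 h1
    let θ₀ : c.toFunctor ⋙ b.toFunctor ≅ 𝟭 𝒴.obj := (BasedNatTrans.forgetful _ _).mapIso θ
    let η : (BasedFunctor.comp (BasedFunctor.comp G c) b).toFunctor ≅ G.toFunctor :=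
      Functor.isoWhiskerLeft G.toFunctor θ₀ ≪≫ Functor.rightUnitor _
    refine (Groth.Agent.Helper2.FibCatLib.FpInv.isRepresentable_fp_congr _ G f η ?_).1 h2
    intro w
    have hw : 𝒴.p.IsHomLift (𝟙 (𝒴.p.obj (G.obj w))) (θ₀.hom.app (G.obj w)) :=
      BasedNatTrans.isHomLift θ.hom rfl
    have hw' : 𝒴.p.IsHomLift (𝟙 ((FibCat.overCat U).p.obj w)) (θ₀.hom.app (G.obj w)) :=
      Groth.Agent.Helper2.FibCatLib.isHomLift_id_cast 𝒴.p (G.w_obj w) _ hw
    have e' : η.hom.app w = θ₀.hom.app (G.obj w) := by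
      simp [η]
    rw [e']
    exact hw'

end Groth.Agent.S12784
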