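import Groth.Statements.S12786
import Mathlib
import Groth.Agent.Lib.Helper2.FibCat.FpInv
import Groth.Agent.Lib.Helper2.FibCat.Paste

set_option autoImplicit false
open CategoryTheory CategoryTheory.Limits
universe v u
open FibCat

namespace Groth.Agent.S12786

/-- For a representable 1-morphism `f : 𝒳 ⟶ 𝒴` of categories over `C` and any `g : 𝒵 ⟶ 𝒴` over `C`, the
base change `𝒵 ×_𝒴 𝒳 ⟶ 𝒵` is a representable 1-morphism. (The published statement is for categories
fibred in groupoids over schemes over a base; this row is stated for categories over any base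
category.) -/
theorem result {C : Type u} [Category.{v} C] {𝒳 𝒴 𝒵 : BasedCategory.{v, max u v} C}
    (f : 𝒳 ⥤ᵇ 𝒴) (g : 𝒵 ⥤ᵇ 𝒴) (hf : FibCat.IsRepresentable1 f) :
    FibCat.IsRepresentable1 (FibCat.fpFst g f) := by
  intro U G
  have h1 := hf U (BasedFunctor.comp G g)
  exact Groth.Agent.Helper2.FibCatLib.ReprInv.isRepresentable_of_isEquivOver
    (Groth.Agent.Helper2.FibCatLib.Paste.pasteB G g f)
    (Groth.Agent.Helper2.FibCatLib.Paste.pasteB_isEquivOver G g f) h1

end Groth.Agent.S12786
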