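import Groth.Statements.S11013
import Mathlib
import Groth.Prelude.Def_W4bk4goldsch23FF
import Groth.Agent.Lib.Helper4.FF.Approx
-- import your own Groth.Agent.* helpers here

set_option autoImplicit false
open FunFld

namespace Groth.Agent.S11013

open FunFld WithZero
open Groth.Agent.Lib.Helper4.FF
namespace Aux

variable {k K K' : Type*} [Field k] [Field K] [Field K'] [Algebra k K] [Algebra K K'] [Algebra k K']
  [IsScalarTower k K K']

/-- transport of a place along a `K`-automorphism -/
noncomputable def conj (σ : K' ≃ₐ[K] K') (Q : Place k K') : Place k K' :=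
  ⟨Q.1.comap (σ : K' →+* K'), by
    refine ⟨fun c => ?_, fun γ => ?_⟩
    · have : (σ : K' →+* K') (algebraMap k K' c) = algebraMap k K' c := by
        rw [IsScalarTower.algebraMap_apply k K K']
        exact σ.commutes _
      rw [Valuation.comap_apply, this]
      exact Q.2.1 c
    · obtain ⟨z, hz⟩ := Q.2.2 γ
      refine ⟨σ.symm z, ?_⟩
      rw [Valuation.comap_apply]
      simpa using hz⟩

lemma conj_apply (Q : Place k K') (σ : K' ≃ₐ[K] K') (z : K') : (conj σ Q).1 z = Q.1 (σ z) := rfl

theorem main [FiniteDimensional K K'] [IsGalois K K']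
    (Q₁ Q₂ : FunFld.Place k K')
    (h : (Q₁.1.comap (algebraMap K K')).IsEquiv (Q₂.1.comap (algebraMap K K'))) :
    ∃ σ : K' ≃ₐ[K] K', Q₁.1.comap (σ : K' →+* K') = Q₂.1 := by
  classical
  by_contra hno
  push Not at hno
  -- all conjugates are distinct
  have hne : ∀ σ τ : K' ≃ₐ[K] K', conj σ Q₁ ≠ conj τ Q₂ := by
    intro σ τ heq
    apply hno (τ.symm.trans σ)
    ext z
    have := congrArg (fun P : Place k K' => P.1 (τ.symm z)) heq
    simp only [conj_apply] at this
    rw [Valuation.comap_apply]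
    simpa using this
  set S₁ : Finset (Place k K') := Finset.univ.image (fun σ : K' ≃ₐ[K] K' => conj σ Q₁) with hS₁
  set S₂ : Finset (Place k K') := Finset.univ.image (fun σ : K' ≃ₐ[K] K' => conj σ Q₂) with hS₂
  obtain ⟨z, hz⟩ := exists_approx_le (S₁ ∪ S₂) (fun P => if P ∈ S₂ then 0 else 1) 1
  have h1 : ∀ σ : K' ≃ₐ[K] K', Q₁.1 (σ z) = 1 := by
    intro σ
    have hm : conj σ Q₁ ∈ S₁ ∪ S₂ :=
      Finset.mem_union_left _ (Finset.mem_image_of_mem _ (Finset.mem_univ σ))
    have hn : conj σ Q₁ ∉ S₂ := by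
      intro hmem
      obtain ⟨τ, -, hτ⟩ := Finset.mem_image.mp hmem
      exact hne σ τ hτ.symm
    have := hz _ hm
    rw [if_neg hn] at this
    have hlt : (conj σ Q₁).1 (z - 1) < 1 := lt_of_le_of_lt this (by
      rw [← exp_zero, exp_lt_exp]; norm_num)
    have h2 : (conj σ Q₁).1 z = 1 := by
      have : z = 1 + (z - 1) := by ring
      rw [this]
      exact Valuation.map_one_add_of_lt _ hlt
    exact h2
  have h2 : ∀ σ : K' ≃ₐ[K] K', Q₂.1 (σ z) < 1 := by
    intro σ
    have hm' : conj σ Q₂ ∈ S₂ := Finset.mem_image_of_mem _ (Finset.mem_univ σ)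
    have hm : conj σ Q₂ ∈ S₁ ∪ S₂ := Finset.mem_union_right _ hm'
    have := hz _ hm
    rw [if_pos hm', sub_zero] at this
    exact lt_of_le_of_lt this (by rw [← exp_zero, exp_lt_exp]; norm_num)
  have hnorm : algebraMap K K' (Algebra.norm K z) = ∏ σ : K' ≃ₐ[K] K', σ z :=
    Algebra.norm_eq_prod_automorphisms K z
  have e1 : (Q₁.1.comap (algebraMap K K')) (Algebra.norm K z) = 1 := by
    rw [Valuation.comap_apply, hnorm, map_prod]
    exact Finset.prod_eq_one fun σ _ => h1 σ
  have e2 : (Q₂.1.comap (algebraMap K K')) (Algebra.norm K z) < 1 := by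
    rw [Valuation.comap_apply, hnorm, map_prod,
      ← Finset.mul_prod_erase Finset.univ _ (Finset.mem_univ (1 : K' ≃ₐ[K] K'))]
    calc Q₂.1 ((1 : K' ≃ₐ[K] K') z) * ∏ σ ∈ (Finset.univ : Finset (K' ≃ₐ[K] K')).erase 1, Q₂.1 (σ z)
        ≤ Q₂.1 ((1 : K' ≃ₐ[K] K') z) * 1 :=
          mul_le_mul' le_rfl (Finset.prod_le_one' fun σ _ => (h2 σ).le)
      _ < 1 := by rw [mul_one]; exact h2 1
  have := h.lt_one_iff_lt_one.mpr e2
  rw [e1] at this
  exact lt_irrefl _ this

end Aux

/-- In a finite Galois extension `K'/K` of a geometric function field of one variable, the Galois group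
acts transitively on the places of `K'` above a given place of `K`. -/
theorem result (k K K' : Type*) [Field k] [Field K] [Field K'] [Algebra k K] [Algebra K K'] [Algebra k K']
    [IsScalarTower k K K'] [FiniteDimensional K K'] (hK : FunFld.IsFunctionField k K) (hg : FunFld.IsGeometric k K) [IsGalois K K']
    (Q₁ Q₂ : FunFld.Place k K')
    (h : (Q₁.1.comap (algebraMap K K')).IsEquiv (Q₂.1.comap (algebraMap K K'))) :
    ∃ σ : K' ≃ₐ[K] K', Q₁.1.comap (σ : K' →+* K') = Q₂.1 := by
  exact Aux.main Q₁ Q₂ h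

end Groth.Agent.S11013
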