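import Groth.Statements.S12837
import Mathlib
import Groth.Prelude.Def_ActBC
import Groth.Agent.S18858

set_option autoImplicit false
universe u
open CategoryTheory AlgebraicGeometry
open NonAbH1

namespace Groth.Agent.S12837

section
open CategoryTheory AlgebraicGeometry
open NonAbH1
open MonoidalCategory CartesianMonoidalCategory MonObj GrpObj Limits MorphismProperty

theorem flat_codescends : RingHom.CodescendsAlong RingHom.Flat RingHom.FaithfullyFlat := by
  refine .mk _ RingHom.Flat.respectsIso fun R S T _ _ _ _ _ h h' ↦ ?_
  rw [RingHom.flat_algebraMap_iff] at h' ⊢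
  rw [RingHom.faithfullyFlat_algebraMap_iff] at h
  exact Module.Flat.of_flat_tensorProduct R T S

instance flat_descendsAlong :
    DescendsAlong (@Flat : MorphismProperty Scheme.{u}) (@Surjective ⊓ @Flat ⊓ @QuasiCompact) :=
  HasRingHomProperty.descendsAlong_flat (P := @Flat) flat_codescends

/-- A torsor for the fpqc topology inherits from the group every property of the structure
morphism which is stable under base change, Zariski-local on the target and descends along
fpqc morphisms. -/
theorem torsor_prop (P : MorphismProperty Scheme.{u}) [IsZariskiLocalAtTarget P]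
    [P.IsStableUnderBaseChange] [P.DescendsAlong (@Surjective ⊓ @Flat ⊓ @QuasiCompact)]
    {S : Scheme.{u}} (G X : Over S) [GrpObj G] (a : AlgGrp.Action G X)
    (h : NonAbH1.IsTorsorFor Scheme.fpqcPrecoverage a) (hG : P G.hom) : P X.hom := by
  obtain ⟨hpt, R, hR, hsec⟩ := h
  refine Groth.Agent.S18858.descends_fpqc_family P X.hom R hR ?_
  intro T g hg
  obtain ⟨s, hs⟩ := hsec g hg
  let x : 𝟙_ (Over T) ⟶ (Over.pullback g).obj X :=
    Over.homMk (pullback.lift s (𝟙 T) (by rw [hs]; exact (Category.id_comp g).symm))
      (pullback.lift_snd _ _ _)
  have hiso := Groth.Agent.S18858.isIso_orbit (Red.bc g G) (Red.bc g X) (a.bc g)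
    (NonAbH1.isPseudoTorsorSch_bc g hpt) x
  set o : Red.bc g G ⟶ Red.bc g X := lift (𝟙 _) (toUnit _ ≫ x) ≫ (a.bc g).act with ho
  haveI : IsIso o := hiso
  haveI : IsIso o.left := (inferInstance : IsIso ((Over.forget T).map o))
  have hw : o.left ≫ pullback.snd X.hom g = pullback.snd G.hom g := Over.w o
  rw [← P.cancel_left_of_respectsIso o.left, hw]
  exact P.pullback_snd _ _ hG

theorem main {S : Scheme.{u}}
    (G X : Over S) [GrpObj G] [Flat G.hom] [LocallyOfFinitePresentation G.hom] (a : AlgGrp.Action G X)
    (h : NonAbH1.IsTorsorFor Scheme.fpqcPrecoverage a) :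
    NonAbH1.IsTorsorFor Scheme.fppfPrecoverage a := by
  have h1 : Flat X.hom := torsor_prop @Flat G X a h inferInstance
  have h2 : LocallyOfFinitePresentation X.hom :=
    torsor_prop @LocallyOfFinitePresentation G X a h inferInstance
  have hGs : Surjective G.hom := by
    have hη : η[G].left ≫ G.hom = 𝟙 S := Over.w η[G]
    refine ⟨fun x => ⟨η[G].left.base x, ?_⟩⟩
    rw [← Scheme.Hom.comp_apply, hη]
    rfl
  have h3 : Surjective X.hom := torsor_prop @Surjective G X a h hGs
  refine ⟨h.1, Presieve.singleton X.hom, Scheme.Hom.singleton_mem_fppfPrecoverage X.hom, ?_⟩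
  rintro S' f ⟨⟩
  exact ⟨𝟙 _, Category.id_comp _⟩


end


/-- Let `G` be a group scheme over `S` which is flat and locally of finite presentation over `S`, acting
on an `S`-scheme `X`. If `X` is a principal homogeneous space under `G` — a pseudo-torsor which
acquires sections on the members of some fpqc covering family of `S` — then `X` is a `G`-torsor for
the fppf topology: it acquires sections on the members of some fppf covering family of `S`. (The
published statement is the equivalence of the stack of fppf torsors with the stack of principal
homogeneous spaces for a group algebraic space `G` flat and locally of finite presentation over an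
algebraic space `B`, torsors being algebraic spaces; this row is its content for `B = S`, `G` a
scheme and a torsor that is a scheme, the other inclusion being the comparison of the two
topologies.) -/
theorem result {S : Scheme.{u}}
    (G X : Over S) [GrpObj G] [Flat G.hom] [LocallyOfFinitePresentation G.hom] (a : AlgGrp.Action G X)
    (h : NonAbH1.IsTorsorFor Scheme.fpqcPrecoverage a) :
    NonAbH1.IsTorsorFor Scheme.fppfPrecoverage a := by
  classical
  exact main G X a h

end Groth.Agent.S12837
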