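import Groth.Statements.S18404
import Mathlib
import Groth.Agent.Lib.Helper2.HesseFlex

set_option autoImplicit false
universe u
open Cubic

namespace Groth.Agent.S18404

open MvPolynomial in
/-- Let k ∈ ℂ with k³ ≠ 1 and let h = X₀³ + X₁³ + X₂³ − 3k·X₀X₁X₂ be the Hesse cubic. For a nonzero
vector v with h(v) = 0, the corresponding point is a flex of the plane curve of h — some line
through it meets the curve there with multiplicity three, i.e. there is a vector w linearly
independent from v with h(v + t·w) = t³·h(w) for every t — exactly when v is a scalar multiple of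
one of the nine vectors (0, 1, −γ), (−γ, 0, 1), (1, −γ, 0) with γ³ = 1. -/
theorem result (k : ℂ) (hk : k ^ 3 ≠ 1) (v : Fin 3 → ℂ) (hv : v ≠ 0)
    (hCv : eval v (HesseCubic.form k) = 0) :
    (∃ w : Fin 3 → ℂ, LinearIndependent ℂ ![v, w] ∧
        ∀ t : ℂ, eval (v + t • w) (HesseCubic.form k) = t ^ 3 * eval w (HesseCubic.form k)) ↔
      ∃ γ c : ℂ, γ ^ 3 = 1 ∧ (v = c • ![0, 1, -γ] ∨ v = c • ![-γ, 0, 1] ∨ v = c • ![1, -γ, 0]) := by
  open Groth.Agent.Helper2.Hesse in
  have hH : H k v = 0 := by rw [← eval_form]; exact hCv
  constructor
  · rintro ⟨w, hind, hw⟩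
    have hw' : ∀ t : ℂ, H k (v + t • w) = t ^ 3 * H k w := by
      intro t
      rw [← eval_form, ← eval_form]
      exact hw t
    obtain ⟨h1, h2⟩ := (flex_iff k v w hH).mp hw'
    have h3 := flex_coord k hk v w hv hind hH h1 h2
    have hH' : v 0 ^ 3 + v 1 ^ 3 + v 2 ^ 3 - 3 * k * (v 0 * v 1 * v 2) = 0 := hH
    rcases mul_eq_zero.mp h3 with h | h2z
    · rcases mul_eq_zero.mp h with h0z | h1z
      · -- `v 0 = 0`
        have hne : v 1 ≠ 0 := by
          intro h1z
          apply hv
          have : v 2 ^ 3 = 0 := by rw [h0z, h1z] at hH'; linear_combination hH'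
          have h2z : v 2 = 0 := pow_eq_zero_iff (by norm_num) |>.mp this
          funext i
          fin_cases i <;> simp [h0z, h1z, h2z]
        refine ⟨-(v 2) / v 1, v 1, ?_, Or.inl ?_⟩
        · field_simp
          rw [h0z] at hH'
          linear_combination -hH'
        · funext i
          fin_cases i
          · simp [h0z]
          · simp
          · simp
            field_simp
      · -- `v 1 = 0`
        have hne : v 2 ≠ 0 := by
          intro h2z
          apply hv
          have : v 0 ^ 3 = 0 := by rw [h1z, h2z] at hH'; linear_combination hH'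
          have h0z : v 0 = 0 := pow_eq_zero_iff (by norm_num) |>.mp this
          funext i
          fin_cases i <;> simp [h0z, h1z, h2z]
        refine ⟨-(v 0) / v 2, v 2, ?_, Or.inr (Or.inl ?_)⟩
        · field_simp
          rw [h1z] at hH'
          linear_combination -hH'
        · funext i
          fin_cases i
          · simp
            field_simp
          · simp [h1z]
          · simp
    · -- `v 2 = 0`
      have hne : v 0 ≠ 0 := by
        intro h0z
        apply hv
        have : v 1 ^ 3 = 0 := by rw [h0z, h2z] at hH'; linear_combination hH'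
        have h1z : v 1 = 0 := pow_eq_zero_iff (by norm_num) |>.mp this
        funext i
        fin_cases i <;> simp [h0z, h1z, h2z]
      refine ⟨-(v 1) / v 0, v 0, ?_, Or.inr (Or.inr ?_)⟩
      · field_simp
        rw [h2z] at hH'
        linear_combination -hH'
      · funext i
        fin_cases i
        · simp
        · simp
          field_simp
        · simp [h2z]
  · rintro ⟨γ, c, hγ, hcase⟩
    have hc : c ≠ 0 := by
      rintro rfl
      apply hv
      rcases hcase with h | h | h <;> rw [h] <;> simp
    have main : ∀ w : Fin 3 → ℂ, LinearIndependent ℂ ![v, w] → G k v w = 0 → G k w v = 0 →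
        ∃ w, LinearIndependent ℂ ![v, w] ∧
          ∀ t : ℂ, MvPolynomial.eval (v + t • w) (HesseCubic.form k) =
            t ^ 3 * MvPolynomial.eval w (HesseCubic.form k) := by
      intro w hind h1 h2
      refine ⟨w, hind, fun t => ?_⟩
      rw [eval_form, eval_form]
      exact (flex_iff k v w hH).mpr ⟨h1, h2⟩ t
    rcases hcase with h | h | h
    · apply main ![1, -(k * γ), 0]
      · rw [LinearIndependent.pair_iff]
        intro s t hst
        have e0 := congrFun hst 0
        have e1 := congrFun hst 1
        rw [h] at e0 e1
        simp at e0 e1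
        subst e0
        simp at e1
        exact ⟨e1.resolve_right hc, rfl⟩
      · rw [h]; simp [G]; ring
      · rw [h]; simp [G]; ring
    · apply main ![0, 1, -(k * γ)]
      · rw [LinearIndependent.pair_iff]
        intro s t hst
        have e1 := congrFun hst 1
        have e2 := congrFun hst 2
        rw [h] at e1 e2
        simp at e1 e2
        subst e1
        simp at e2
        exact ⟨e2.resolve_right hc, rfl⟩
      · rw [h]; simp [G]; ring
      · rw [h]; simp [G]; ring
    · apply main ![-(k * γ), 0, 1]
      · rw [LinearIndependent.pair_iff]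
        intro s t hst
        have e2 := congrFun hst 2
        have e0 := congrFun hst 0
        rw [h] at e0 e2
        simp at e0 e2
        subst e2
        simp at e0
        exact ⟨e0.resolve_right hc, rfl⟩
      · rw [h]; simp [G]; ring
      · rw [h]; simp [G]; ring

end Groth.Agent.S18404
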