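import Groth.Statements.S16283
import Groth.Agent.Lib.Helper3.GSS
import Groth.Agent.Lib.Helper3.AbutIso
import Groth.Agent.Lib.Helper1.RpushComp
import Groth.Agent.Lib.Helper5.Misc.PushTotAcyc
import Groth.Agent.S6150
import Groth.Agent.S0865
import Groth.Prelude.Def_CohPull

set_option autoImplicit false
universe u
open CategoryTheory CategoryTheory.Limits AlgebraicGeometry ZeroObject
open Coherent

namespace Groth.Agent.S16283

/-- Let f : X → Y and g : Y → Z be morphisms of schemes, h = g ∘ f, and F, G O_X-modules. For a morphism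
u out of X write Ext^b_u(F, -) for the b-th right derived functor of the left exact functor G ↦ u_*
Hom_{O_X}(F, G) from O_X-modules. Then there is an E₂ spectral sequence of O_Z-modules with E₂^{a,b}
≅ R^a g_*(Ext^b_f(F, G)) for a, b ≥ 0 (and 0 otherwise), bounded, abutting with finite filtrations
to Ext^n_h(F, G) (n ≥ 0; 0 for n < 0). (Stated for schemes, the published statement being for ringed
spaces. Existence only: the E₂ identifications and the abutment are some isomorphisms. The internal
Hom functor of F, injective resolutions on X and Y and additivity of the composite functors are the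
stated instance hypotheses, all true.) -/
theorem result (X Y Z : Scheme.{u}) (f : X ⟶ Y) (g : Y ⟶ Z)
    (F G : X.Modules)
    [ModSite.HasSheafHom (O := X.sheaf) F] [HasInjectiveResolutions (ModSite.Mod X.sheaf)] [HasInjectiveResolutions Y.Modules]
    [(ModSite.sheafHom (O := X.sheaf) F ⋙ Scheme.Modules.pushforward f).Additive]
    [(ModSite.sheafHom (O := X.sheaf) F ⋙ Scheme.Modules.pushforward (f ≫ g)).Additive] :
    ∃ (E : E₂CohomologicalSpectralSequence Z.Modules)
      (a : SpSeq.Abutment E (fun n : ℤ =>
        if 0 ≤ n then ((ModSite.sheafHom (O := X.sheaf) F ⋙ Scheme.Modules.pushforward (f ≫ g)).rightDerived n.toNat).obj G else (0 : Z.Modules))),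
      (∀ n : ℤ, a.IsFinite n) ∧ SpSeq.IsBounded E ∧
      ∀ p q : ℤ, Nonempty ((E.page 2 le_rfl).X (p, q) ≅
        (if 0 ≤ p ∧ 0 ≤ q then (Coh.Rpush g p.toNat).obj (((ModSite.sheafHom (O := X.sheaf) F ⋙ Scheme.Modules.pushforward f).rightDerived q.toNat).obj G)
          else (0 : Z.Modules))) := by
  haveI : PreservesFiniteLimits (Scheme.Modules.pushforward g) := inferInstance
  have hT : ∀ Q : ModSite.Mod X.sheaf, Injective Q → ∀ q : ℕ, 0 < q →
      IsZero (((Scheme.Modules.pushforward g).rightDerived q).obj
        ((ModSite.sheafHom (O := X.sheaf) F ⋙ Scheme.Modules.pushforward f).obj Q)) := by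
    intro Q hQ q hq
    obtain ⟨m, rfl⟩ : ∃ m, q = m + 1 := ⟨q - 1, by omega⟩
    haveI := hQ
    have h1 : CohCx.IsTotallyAcyclic (ModSite.toAb ((ModSite.sheafHom (O := X.sheaf) F).obj Q)) :=
      Groth.Agent.S6150.result X.sheaf F Q
    haveI : PreservesFiniteLimits (Groth.Agent.Lib.Helper5.Misc.PushTotAcyc.pull
        (Opens.grothendieckTopology X) (Opens.grothendieckTopology Y)
        (TopologicalSpace.Opens.map f.base)) := CohPull.preservesFiniteLimits_pull f.base
    have h2 := Groth.Agent.Lib.Helper5.Misc.PushTotAcyc.isTotallyAcyclic_push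
      (Opens.grothendieckTopology X) (Opens.grothendieckTopology Y)
      (TopologicalSpace.Opens.map f.base) _ h1
    have h3 := Groth.Agent.S0865.result (Opens.grothendieckTopology Y)
      (Opens.grothendieckTopology Z) (TopologicalSpace.Opens.map g.base) _ h2 m
    apply Groth.Agent.Helper1.RpushComp.isZero_of_toAb
    obtain ⟨e⟩ := Groth.Agent.Helper1.RpushComp.nonempty_iso g
      ((Scheme.Modules.pushforward f).obj ((ModSite.sheafHom (O := X.sheaf) F).obj Q)) (m + 1)
    exact IsZero.of_iso h3 e
  obtain ⟨E, a, hfin, hbdd, hE⟩ := Groth.Agent.Helper3.GSS.main'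
    (ModSite.sheafHom (O := X.sheaf) F ⋙ Scheme.Modules.pushforward f)
    (Scheme.Modules.pushforward g) hT G
  have α : (ModSite.sheafHom (O := X.sheaf) F ⋙ Scheme.Modules.pushforward f) ⋙
      Scheme.Modules.pushforward g ≅
      ModSite.sheafHom (O := X.sheaf) F ⋙ Scheme.Modules.pushforward (f ≫ g) :=
    Functor.associator _ _ _ ≪≫ Functor.isoWhiskerLeft _ (Scheme.Modules.pushforwardComp f g)
  have e : ∀ n : ℤ, (if 0 ≤ n then (((ModSite.sheafHom (O := X.sheaf) F ⋙
      Scheme.Modules.pushforward f) ⋙ Scheme.Modules.pushforward g).rightDerived n.toNat).obj G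
        else (0 : Z.Modules)) ≅
      (if 0 ≤ n then ((ModSite.sheafHom (O := X.sheaf) F ⋙
        Scheme.Modules.pushforward (f ≫ g)).rightDerived n.toNat).obj G else (0 : Z.Modules)) := by
    intro n
    by_cases hn : 0 ≤ n
    · rw [if_pos hn, if_pos hn]
      exact (Groth.Agent.Helper3.ExtRD.rightDerivedNatIso α n.toNat).app G
    · rw [if_neg hn, if_neg hn]
  obtain ⟨a', ha'⟩ := Groth.Agent.Helper3.AbutIso.exists_abutment_of_iso a e hfin
  exact ⟨E, a', ha', hbdd, hE⟩


end Groth.Agent.S16283
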