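import Groth.Statements.S15059
import Groth.Agent.Lib.Helper2.Hopf.TransFree
import Groth.Agent.Lib.Helper2.Alg.RankTower


set_option autoImplicit false
universe u v
open scoped TensorProduct
open Hopf

namespace Groth.Agent.S15059

/-- Let R be a Noetherian ring, A a commutative Hopf algebra over R which is finitely generated and
projective as an R-module (a finite flat R-group G = Spec A) and I a Hopf ideal of A such that A/I
is projective over R (a finite flat closed subgroup G' = Spec (A/I) of G). Let B ⊆ A be the
R-subalgebra of functions invariant under right translation by G', namely the equaliser of the two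
algebra maps A → A ⊗_R (A/I) given by a ↦ (id ⊗ π)(Δ a) and a ↦ a ⊗ 1, so that the quotient G/G' is
Spec B and its rank is the index (G : G'). Then for every prime q of R the rank of A at q is the
rank of A/I at q times the rank of B at q: the order of G is the order of G' times the index. -/
theorem result (R : Type u) [CommRing R] [IsNoetherianRing R] (A : Type v) [CommRing A]
    [HopfAlgebra R A] [Module.Finite R A] [Module.Projective R A] (I : Ideal A) [I.IsHopfIdeal R]
    [Module.Projective R (A ⧸ I)] (q : PrimeSpectrum R) :
    Module.rankAtStalk A q =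
      Module.rankAtStalk (A ⧸ I) q *
        Module.rankAtStalk
          (↥(AlgHom.equalizer
            ((Algebra.TensorProduct.map (AlgHom.id R A) (Ideal.Quotient.mkₐ R I)).comp (Bialgebra.comulAlgHom R A))
            (Algebra.TensorProduct.includeLeft : A →ₐ[R] A ⊗[R] (A ⧸ I)))) q := by
  classical
  set π : A →ₐc[R] A ⧸ I := Bialgebra.Quotient.mkBialgHom (R := R) I with hπdef
  have hπ : Function.Surjective π := Ideal.Quotient.mk_surjective
  set K := ↥(AlgHom.equalizer
    ((Algebra.TensorProduct.map (AlgHom.id R A) (Ideal.Quotient.mkₐ R I)).comp (Bialgebra.comulAlgHom R A))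
    (Algebra.TensorProduct.includeLeft : A →ₐ[R] A ⊗[R] (A ⧸ I))) with hK
  have htr : ∀ a : A, Groth.Agent.Helper2.HopfLib.transHom π a =
      ((Algebra.TensorProduct.map (AlgHom.id R A) (Ideal.Quotient.mkₐ R I)).comp
        (Bialgebra.comulAlgHom R A)) a := fun a => rfl
  have hK₁ : ∀ κ : K, Groth.Agent.Helper2.HopfLib.transHom π (algebraMap K A κ) =
      algebraMap K A κ ⊗ₜ[R] (1 : A ⧸ I) := fun κ => by
    rw [htr]
    exact κ.2
  have hK₂ : ∀ a : A, Groth.Agent.Helper2.HopfLib.transHom π a = a ⊗ₜ[R] (1 : A ⧸ I) →
      a ∈ Set.range (algebraMap K A) := fun a ha => ⟨⟨a, by rw [htr] at ha; exact ha⟩, rfl⟩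
  have hinj : Function.Injective (algebraMap K A) := Subtype.val_injective
  haveI : Module.Finite R (A ⧸ I) :=
    Module.Finite.of_surjective (Ideal.Quotient.mkₐ R I).toLinearMap Ideal.Quotient.mk_surjective
  haveI : IsNoetherian R A := isNoetherian_of_isNoetherianRing_of_finite R A
  haveI : Module.Finite K A := Module.Finite.of_restrictScalars_finite R K A
  haveI : Module.Finite R K := Module.Finite.of_injective
    (Subalgebra.val _).toLinearMap Subtype.val_injective
  haveI : Module.Flat K A :=
    (Groth.Agent.Helper2.HopfLib.trans_flat_and_bij π hπ hK₁ hK₂ hinj).1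
  haveI : Algebra.IsIntegral K A := inferInstance
  have hsurj : Function.Surjective (PrimeSpectrum.comap (algebraMap K A)) :=
    RingHom.IsIntegral.comap_surjective (f := algebraMap K A)
      (fun x => Algebra.IsIntegral.isIntegral x) hinj
  haveI : Module.FaithfullyFlat K A := Module.FaithfullyFlat.of_comap_surjective hsurj
  haveI : Module.Flat R K := Groth.Agent.Helper2.RankTower.flat_of_faithfullyFlat R K A
  refine Groth.Agent.Helper2.RankTower.rankAtStalk_tower R K A q _ ?_
  intro 𝔭 h𝔭
  obtain ⟨Q, rfl⟩ := hsurj 𝔭
  have h1 := Groth.Agent.Helper2.HopfLib.trans_rank π hπ hK₁ hK₂ hinj Q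
  rw [h1]
  congr 1

end Groth.Agent.S15059
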