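import Groth.Statements.S4578
import Groth.Agent.Lib.Helper8.Jac4
import Groth.Agent.Lib.Helper8.PRad12

set_option autoImplicit false
universe u
open IsLocalRing
open EGA41

namespace Groth.Agent.S4578

/-- Let k₀ be a field, k an extension field of k₀ which is separable (formally smooth) over k₀, C a
k-algebra of finite type and p a prime ideal of C. The following are equivalent: C_p is formally
smooth over k₀ (discrete topologies); C_p is formally smooth over k₀ for the adic topology of its
maximal ideal; C_f is formally smooth over k₀ for some f ∉ p; C_p is geometrically regular over k₀.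
(The published statement adds that the set of primes p having these properties is open in Spec C;
that openness is not stated here.) -/
theorem result {k₀ k C : Type u} [Field k₀] [Field k] [Algebra k₀ k]
    [Algebra.FormallySmooth k₀ k] [CommRing C] [Algebra k C] [Algebra k₀ C] [IsScalarTower k₀ k C]
    [Algebra.FiniteType k C]
    (p : Ideal C) [p.IsPrime] :
    [Algebra.FormallySmooth k₀ (Localization.AtPrime p),
     CAlgX.IsAdicFormallySmooth k₀ (Localization.AtPrime p) (maximalIdeal (Localization.AtPrime p)),
     ∃ f : C, f ∉ p ∧ Algebra.FormallySmooth k₀ (Localization.Away f),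
     CAlg.IsGeometricallyRegular k₀ (Localization.AtPrime p)].TFAE := by
  classical
  obtain ⟨n, φ, hφ⟩ := (Algebra.FiniteType.iff_quotient_mvPolynomial'' (R := k) (S := C)).1
    inferInstance
  letI : Algebra (MvPolynomial (Fin n) k) C := φ.toRingHom.toAlgebra
  haveI : IsScalarTower k (MvPolynomial (Fin n) k) C :=
    IsScalarTower.of_algebraMap_eq (fun a => (φ.commutes a).symm)
  haveI : IsScalarTower k₀ (MvPolynomial (Fin n) k) C :=
    IsScalarTower.of_algebraMap_eq (fun a => by
      rw [IsScalarTower.algebraMap_apply k₀ k C,
        IsScalarTower.algebraMap_apply k₀ k (MvPolynomial (Fin n) k),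
        ← IsScalarTower.algebraMap_apply k (MvPolynomial (Fin n) k) C])
  haveI : Algebra.FormallySmooth k₀ (MvPolynomial (Fin n) k) :=
    Algebra.FormallySmooth.comp k₀ k (MvPolynomial (Fin n) k)
  have hsurj : Function.Surjective (algebraMap (MvPolynomial (Fin n) k) C) := hφ
  haveI : IsNoetherianRing C := Algebra.FiniteType.isNoetherianRing k C
  have h123 := Groth.Agent.Helper8.Jac.tfae_local (A := k₀) (B := MvPolynomial (Fin n) k) hsurj p
  have h24 : CAlgX.IsAdicFormallySmooth k₀ (Localization.AtPrime p)
      (maximalIdeal (Localization.AtPrime p)) ↔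
      CAlg.IsGeometricallyRegular k₀ (Localization.AtPrime p) :=
    (Groth.Agent.Helper8.PRad.isGeometricallyRegular_iff_isAdicFormallySmooth).symm
  tfae_have 1 ↔ 2 := h123.out 0 1
  tfae_have 2 ↔ 3 := h123.out 1 2
  tfae_have 2 ↔ 4 := h24
  tfae_finish

end Groth.Agent.S4578
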