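import Groth.Statements.S14205
import Mathlib
import Groth.Agent.Lib.Helper6.TPow
import Groth.Agent.Lib.Helper6.SplitCancel
import Groth.Agent.Lib.Lead.CSA3

set_option autoImplicit false
universe u v
open scoped TensorProduct
open Brauer

namespace Groth.Agent.S14205

section
open scoped TensorProduct
open Groth.Agent.Helper6.TPow Groth.Agent.Helper6.MatTensor Groth.Agent.Helper6.SplitCancel
universe w w'

def Sp (k : Type u) [Field k] (X : Type w) [Ring X] [Algebra k X] : Prop :=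
  ∃ n : ℕ, n ≠ 0 ∧ Nonempty (X ≃ₐ[k] Matrix (Fin n) (Fin n) k)

theorem splits_iff (k : Type u) [Field k] (X : Type w) [Ring X] [Algebra k X] :
    Curves.Splits k X k ↔ Sp k X := by
  constructor
  · rintro ⟨n, hn, ⟨φ⟩⟩
    exact ⟨n, hn, ⟨(Algebra.TensorProduct.lid k X).symm.trans φ⟩⟩
  · rintro ⟨n, hn, ⟨φ⟩⟩
    exact ⟨n, hn, ⟨(Algebra.TensorProduct.lid k X).trans φ⟩⟩

theorem Sp_congr (k : Type u) [Field k] {X : Type w} [Ring X] [Algebra k X]
    {Y : Type w'} [Ring Y] [Algebra k Y] (e : X ≃ₐ[k] Y) : Sp k X ↔ Sp k Y := by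
  constructor
  · rintro ⟨n, hn, ⟨φ⟩⟩
    exact ⟨n, hn, ⟨e.symm.trans φ⟩⟩
  · rintro ⟨n, hn, ⟨φ⟩⟩
    exact ⟨n, hn, ⟨e.trans φ⟩⟩

theorem Sp_tensor (k : Type u) [Field k] {X : Type w} [Ring X] [Algebra k X]
    {Y : Type w'} [Ring Y] [Algebra k Y] (hX : Sp k X) (hY : Sp k Y) : Sp k (X ⊗[k] Y) := by
  obtain ⟨n, hn, ⟨φ⟩⟩ := hX
  obtain ⟨m, hm, ⟨ψ⟩⟩ := hY
  refine ⟨n * m, Nat.mul_ne_zero hn hm, ⟨?_⟩⟩
  exact (Algebra.TensorProduct.congr φ ψ).trans <|
    (matTensor k k (Matrix (Fin m) (Fin m) k) n).trans <|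
    (AlgEquiv.mapMatrix (Algebra.TensorProduct.lid k (Matrix (Fin m) (Fin m) k))).trans
      (matMat k k n m)

theorem Sp_cancel (k : Type u) [Field k] {X : Type w} [Ring X] [Algebra k X]
    {Y : Type w'} [Ring Y] [Algebra k Y] [IsSimpleRing Y] [FiniteDimensional k Y]
    (hX : Sp k X) (hXY : Sp k (X ⊗[k] Y)) : Sp k Y := by
  obtain ⟨n, hn, ⟨φ⟩⟩ := hX
  obtain ⟨m, hm, ⟨ψ⟩⟩ := hXY
  let f : Matrix (Fin n) (Fin n) Y ≃ₐ[k] Matrix (Fin m) (Fin m) k :=
    (AlgEquiv.mapMatrix (Algebra.TensorProduct.lid k Y)).symm.trans <|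
    (matTensor k k Y n).symm.trans <|
    (Algebra.TensorProduct.congr φ (AlgEquiv.refl : Y ≃ₐ[k] Y)).symm.trans ψ
  exact exists_split_of_matrix_split hn f

theorem cast_equiv (k : Type u) [Field k] (A : Type v) [Ring A] [Algebra k A] {n n' : ℕ}
    (h : n = n') : Nonempty (T k A n ≃ₐ[k] T k A n') := by
  subst h
  exact ⟨AlgEquiv.refl⟩

theorem add_equiv (k : Type u) [Field k] (A : Type v) [Ring A] [Algebra k A] (a : ℕ) :
    ∀ b : ℕ, 1 ≤ b → Nonempty (T k A (a + b) ≃ₐ[k] T k A a ⊗[k] T k A b) := by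
  intro b hb
  induction b, hb using Nat.le_induction with
  | base =>
    exact ⟨(succEquiv k A a).trans
      (Algebra.TensorProduct.congr (AlgEquiv.refl : T k A a ≃ₐ[k] T k A a) (oneEquiv k A).symm)⟩
  | succ b hb ih =>
    obtain ⟨e⟩ := ih
    exact ⟨(succEquiv k A (a + b)).trans <|
      (Algebra.TensorProduct.congr e (AlgEquiv.refl : A ≃ₐ[k] A)).trans <|
      (Algebra.TensorProduct.assoc k k k (T k A a) (T k A b) A).trans <|
      Algebra.TensorProduct.congr (AlgEquiv.refl : T k A a ≃ₐ[k] T k A a) (succEquiv k A b).symm⟩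

theorem mul_equiv (k : Type u) [Field k] (A : Type v) [Ring A] [Algebra k A] (r : ℕ) (hr : 1 ≤ r) :
    ∀ m : ℕ, 1 ≤ m → Nonempty (T k (T k A r) m ≃ₐ[k] T k A (r * m)) := by
  intro m hm
  induction m, hm using Nat.le_induction with
  | base =>
    obtain ⟨c⟩ := cast_equiv k A (Nat.mul_one r).symm
    exact ⟨(oneEquiv k (T k A r)).trans c⟩
  | succ m hm ih =>
    obtain ⟨e⟩ := ih
    obtain ⟨a⟩ := add_equiv k A (r * m) r hr
    obtain ⟨c⟩ := cast_equiv k A (Nat.mul_succ r m).symm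
    exact ⟨(succEquiv k (T k A r) m).trans <|
      (Algebra.TensorProduct.congr e (AlgEquiv.refl : T k A r ≃ₐ[k] T k A r)).trans <|
      a.symm.trans c⟩

theorem simple_fin (k : Type u) [Field k] (A : Type v) [Ring A] [Algebra k A]
    [Algebra.IsCentral k A] [IsSimpleRing A] [FiniteDimensional k A] :
    ∀ s : ℕ, 1 ≤ s → IsSimpleRing (T k A s) ∧ FiniteDimensional k (T k A s) := by
  intro s hs
  induction s, hs using Nat.le_induction with
  | base =>
    refine ⟨IsSimpleRing.of_ringEquiv (oneEquiv k A).symm.toRingEquiv inferInstance, ?_⟩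
    exact Module.Finite.equiv (oneEquiv k A).symm.toLinearEquiv
  | succ s hs ih =>
    obtain ⟨h1, h2⟩ := ih
    have h3 : IsSimpleRing (T k A s ⊗[k] A) := Groth.Agent.Lead.CSA.isSimpleRing_tensor
    refine ⟨IsSimpleRing.of_ringEquiv (succEquiv k A s).symm.toRingEquiv h3, ?_⟩
    exact Module.Finite.equiv (succEquiv k A s).symm.toLinearEquiv

theorem key (k : Type u) [Field k] (A : Type v) [Ring A] [Algebra k A]
    [Algebra.IsCentral k A] [IsSimpleRing A] [FiniteDimensional k A] (p : ℕ)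
    (hp : CSAGal.IsPeriod k A p) (n : ℕ) (hn : 1 ≤ n) : Sp k (T k A n) ↔ p ∣ n := by
  obtain ⟨hp0, hps, hpmin⟩ := hp
  rw [splits_iff] at hps
  have hback : ∀ q : ℕ, 1 ≤ q → Sp k (T k A (p * q)) := by
    intro q hq
    induction q, hq using Nat.le_induction with
    | base =>
      obtain ⟨c⟩ := cast_equiv k A (Nat.mul_one p)
      exact (Sp_congr k c).2 hps
    | succ q hq ih =>
      obtain ⟨a⟩ := add_equiv k A (p * q) p hp0
      obtain ⟨c⟩ := cast_equiv k A (Nat.mul_succ p q)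
      exact (Sp_congr k (c.trans a)).2 (Sp_tensor k ih hps)
  constructor
  · intro hsp
    by_contra hnd
    have hs : 0 < n % p := Nat.pos_of_ne_zero (fun h => hnd (Nat.dvd_of_mod_eq_zero h))
    have hs' : n % p < p := Nat.mod_lt n hp0
    rcases Nat.eq_zero_or_pos (n / p) with hq | hq
    · have hnp : n < p := by
        rcases Nat.lt_or_ge n p with h | h
        · exact h
        · have := Nat.div_pos h hp0
          omega
      apply hpmin n hn hnp
      rw [splits_iff]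
      exact hsp
    · obtain ⟨a⟩ := add_equiv k A (p * (n / p)) (n % p) hs
      obtain ⟨c⟩ := cast_equiv k A (Nat.div_add_mod n p).symm
      have h1 : Sp k (T k A (p * (n / p)) ⊗[k] T k A (n % p)) := (Sp_congr k (c.trans a)).1 hsp
      obtain ⟨hsimp, hfin⟩ := simple_fin k A (n % p) hs
      have h2 : Sp k (T k A (n % p)) := Sp_cancel k (hback (n / p) hq) h1
      apply hpmin (n % p) hs hs'
      rw [splits_iff]
      exact h2
  · rintro ⟨q, rfl⟩
    apply hback q
    rcases Nat.eq_zero_or_pos q with h | h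
    · subst h; omega
    · exact h

theorem main (k : Type u) [Field k] (A : Type v) [Ring A] [Algebra k A]
    [Algebra.IsCentral k A] [IsSimpleRing A] [FiniteDimensional k A] (p : ℕ)
    (hp : CSAGal.IsPeriod k A p) (r : ℕ) (hr : 0 < r) :
    CSAGal.IsPeriod k (CSAGal.tpow k A r) (p / Nat.gcd p r) := by
  have hp0 : 0 < p := hp.1
  have hg0 : 0 < Nat.gcd p r := Nat.gcd_pos_of_pos_left r hp0
  have hgp : Nat.gcd p r ∣ p := Nat.gcd_dvd_left p r
  have hgr : Nat.gcd p r ∣ r := Nat.gcd_dvd_right p r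
  have hp'0 : 0 < p / Nat.gcd p r := Nat.div_pos (Nat.le_of_dvd hp0 hgp) hg0
  have hiff : ∀ m : ℕ, 1 ≤ m → (Curves.Splits k (CSAGal.tpow k (CSAGal.tpow k A r) m) k ↔ p ∣ r * m) := by
    intro m hm
    rw [splits_iff]
    obtain ⟨e⟩ := mul_equiv k A r hr m hm
    exact (Sp_congr k e).trans (key k A p hp (r * m) (Nat.mul_pos hr hm))
  refine ⟨hp'0, ?_, ?_⟩
  · rw [hiff _ hp'0]
    refine ⟨r / Nat.gcd p r, ?_⟩
    calc r * (p / Nat.gcd p r) = (Nat.gcd p r * (r / Nat.gcd p r)) * (p / Nat.gcd p r) := by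
          rw [Nat.mul_div_cancel' hgr]
      _ = (Nat.gcd p r * (p / Nat.gcd p r)) * (r / Nat.gcd p r) := by ring
      _ = p * (r / Nat.gcd p r) := by rw [Nat.mul_div_cancel' hgp]
  · intro e' he' hlt hsp
    rw [hiff e' he'] at hsp
    have hcop : Nat.Coprime (p / Nat.gcd p r) (r / Nat.gcd p r) :=
      Nat.coprime_div_gcd_div_gcd hg0
    have h1 : Nat.gcd p r * (p / Nat.gcd p r) ∣ Nat.gcd p r * ((r / Nat.gcd p r) * e') := by
      rw [Nat.mul_div_cancel' hgp, ← mul_assoc, Nat.mul_div_cancel' hgr]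
      exact hsp
    have h2 : p / Nat.gcd p r ∣ (r / Nat.gcd p r) * e' := Nat.dvd_of_mul_dvd_mul_left hg0 h1
    have h3 : p / Nat.gcd p r ∣ e' := hcop.dvd_of_dvd_mul_left h2
    have := Nat.le_of_dvd he' h3
    omega


end


/-- Let A be a finite-dimensional central simple algebra over a field k with period p: p is the least
positive integer for which the p-fold tensor power of A over k is a full matrix algebra over k. Then
for every r ≥ 1 the r-fold tensor power of A has period p / gcd(p, r) (the order of the r-th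
multiple of an element of order p). -/
theorem result (k : Type u) [Field k] (A : Type v) [Ring A] [Algebra k A]
    [Algebra.IsCentral k A] [IsSimpleRing A] [FiniteDimensional k A] (p : ℕ)
    (hp : CSAGal.IsPeriod k A p) (r : ℕ) (hr : 0 < r) :
    CSAGal.IsPeriod k (CSAGal.tpow k A r) (p / Nat.gcd p r) := by
  classical
  exact main k A p hp r hr

end Groth.Agent.S14205
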