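import Groth.Statements.S0452
import Groth.Agent.S0454
import Groth.Agent.Lib.Helper3.AcyClass

set_option autoImplicit false
universe u
open CategoryTheory
open CohTop

namespace Groth.Agent.S0452

open TopologicalSpace in
/-- If every restriction map of the abelian sheaf F is surjective (F is flasque), then H^(n+1)(U, F) = 0
for every open U of X. -/
theorem result {X : TopCat.{u}} (F : CohTop.Ab X) [TopCat.Sheaf.IsFlasque F]
    (U : Opens X) (n : ℕ) : Subsingleton (CohTop.HU F (n + 1) U) := by
  refine ⟨fun x y => ?_⟩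
  have h := Groth.Agent.Helper3.AcyClass.ext_eq_zero
    (CohCx.freeSheaf (Opens.grothendieckTopology X) U)
    (fun M : CohTop.Ab X => TopCat.Sheaf.IsFlasque M) (by
      intro S hS h1 h2
      have h2' : TopCat.Sheaf.IsFlasque S.X₂ := Groth.Agent.S0454.result S.X₂
      have h1' : TopCat.Sheaf.IsFlasque S.X₁ := h1
      refine ⟨TopCat.Sheaf.IsFlasque.of_shortExact_of_isFlasque₁₂ hS, fun ψ => ?_⟩
      have hepi := TopCat.Sheaf.IsFlasque.epi_of_shortExact (U := U) hS
      rw [AddCommGrpCat.epi_iff_surjective] at hepi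
      obtain ⟨t, ht⟩ := hepi (CohFree.evalGen _ U S.X₃ ψ)
      refine ⟨CohFree.ofSect _ U S.X₂ t, ?_⟩
      apply (CohFree.homEquivSect _ U S.X₃).injective
      rw [CohFree.homEquivSect_apply, CohFree.homEquivSect_apply, ← ht]
      have := CohFree.evalGen_ofSect _ U S.X₂ t
      exact congrArg (S.g.hom.app (Opposite.op U)).hom this) n F inferInstance
  exact (h x).trans (h y).symm


end Groth.Agent.S0452
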