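import Groth.Statements.S0580
import Groth.Agent.Lib.Helper8.CohenStr1

set_option autoImplicit false
universe u
open CAlg

namespace Groth.Agent.S0580

/-- A local ring complete with respect to a finitely generated maximal ideal is a quotient of a power
series ring in finitely many variables over a ring which is either a field or a Cohen ring. -/
theorem result (R : Type u) [CommRing R]
    [IsLocalRing R] [IsAdicComplete (IsLocalRing.maximalIdeal R) R]
    (hfg : (IsLocalRing.maximalIdeal R).FG) :
    ∃ (Λ : Type u) (_ : CommRing Λ) (n : ℕ) (f : MvPowerSeries (Fin n) Λ →+* R),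
      (IsField Λ ∨ CAlg.IsCohenRing Λ) ∧ Function.Surjective f := by
  classical
  obtain ⟨q, hq⟩ := CharP.exists (IsLocalRing.ResidueField R)
  rcases CharP.char_is_prime_or_zero (IsLocalRing.ResidueField R) q with hqp | hq0
  · -- positive residue characteristic: use a Cohen ring
    haveI : Fact q.Prime := ⟨hqp⟩
    obtain ⟨Λ, hΛ, hL, ⟨hd, hv, hc, p, hp, hm⟩, ⟨e⟩⟩ :=
      Groth.Agent.Helper8.Cohen.exists_cohenRing q (IsLocalRing.ResidueField R)
    -- the residue characteristic of `Λ` is `p`, so `p = q`
    have hpΛ : (p : IsLocalRing.ResidueField Λ) = 0 := by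
      rw [← map_natCast (IsLocalRing.residue Λ), IsLocalRing.residue_eq_zero_iff, hm]
      exact Ideal.mem_span_singleton_self _
    have hpk : (p : IsLocalRing.ResidueField R) = 0 := by
      rw [← map_natCast e, hpΛ, map_zero]
    have hpR : (p : R) ∈ IsLocalRing.maximalIdeal R := by
      rw [← IsLocalRing.residue_eq_zero_iff, map_natCast]
      exact hpk
    let g : Λ →+* R ⧸ IsLocalRing.maximalIdeal R := e.toRingHom.comp (IsLocalRing.residue Λ)
    obtain ⟨φ, hφ⟩ := Groth.Agent.Helper8.CohenLift.exists_lift_complete Λ p hp hm
      (IsLocalRing.maximalIdeal R) hpR g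
    have hσ : Function.Surjective ((IsLocalRing.residue R).comp φ) := by
      have : (IsLocalRing.residue R).comp φ = g := hφ
      rw [this]
      exact e.surjective.comp IsLocalRing.residue_surjective
    obtain ⟨n, f, hf⟩ := Groth.Agent.Helper8.CohenStr.exists_surjective_of_section R hfg Λ φ hσ
    exact ⟨Λ, hΛ, n, f, Or.inr ⟨hd, hv, hc, p, hp, hm⟩, hf⟩
  · -- residue characteristic zero: use a coefficient field
    subst hq0
    haveI : CharZero (IsLocalRing.ResidueField R) := CharP.charP_to_charZero _
    obtain ⟨s, hs⟩ := Groth.Agent.S0579.result R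
    have hσ : Function.Surjective ((IsLocalRing.residue R).comp s) := by
      rw [hs]; exact Function.surjective_id
    obtain ⟨n, f, hf⟩ := Groth.Agent.Helper8.CohenStr.exists_surjective_of_section R hfg
      (IsLocalRing.ResidueField R) s hσ
    exact ⟨IsLocalRing.ResidueField R, inferInstance, n, f,
      Or.inl (Field.toIsField (IsLocalRing.ResidueField R)), hf⟩

end Groth.Agent.S0580
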