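import Groth.Statements.S6917
import Mathlib

set_option autoImplicit false
universe u
open CategoryTheory
open EtAlg

namespace Groth.Agent.S6917

open CategoryTheory CategoryTheory.Limits
namespace H6917
open PrimeSpectrum

variable {B' B A' A : Type u} [CommRing B'] [CommRing B] [CommRing A'] [CommRing A]
    [Algebra B' B] [Algebra B' A'] [Algebra B A] [Algebra A' A] [Algebra B' A]
    [IsScalarTower B' B A] [IsScalarTower B' A' A]

theorem ext' (hsq : EtMil.IsFibreSquare B' B A' A) {x y : B'}
    (h1 : algebraMap B' B x = algebraMap B' B y) (h2 : algebraMap B' A' x = algebraMap B' A' y) :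
    x = y := by
  have hc : algebraMap B A (algebraMap B' B y) = algebraMap A' A (algebraMap B' A' y) := by
    rw [← IsScalarTower.algebraMap_apply, ← IsScalarTower.algebraMap_apply]
  obtain ⟨z, -, hz⟩ := hsq.2 _ _ hc
  rw [hz x ⟨h1, h2⟩, hz y ⟨rfl, rfl⟩]

theorem p_surj (hsq : EtMil.IsFibreSquare B' B A' A) : Function.Surjective (algebraMap B' B) := by
  intro b
  obtain ⟨a', ha'⟩ := hsq.1 (algebraMap B A b)
  obtain ⟨b', ⟨hb', -⟩, -⟩ := hsq.2 b a' ha'.symm
  exact ⟨b', hb'⟩

theorem exists_J (hsq : EtMil.IsFibreSquare B' B A' A) (i : A') (hi : algebraMap A' A i = 0) :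
    ∃ j : B', algebraMap B' B j = 0 ∧ algebraMap B' A' j = i := by
  obtain ⟨j, ⟨h1, h2⟩, -⟩ := hsq.2 0 i (by rw [map_zero, hi])
  exact ⟨j, h1, h2⟩

theorem sq_zero (j : B') (hj : algebraMap B' B j = 0) : algebraMap A' A (algebraMap B' A' j) = 0 := by
  rw [← IsScalarTower.algebraMap_apply, IsScalarTower.algebraMap_apply B' B A, hj, map_zero]

theorem mem_range_q (hsq : EtMil.IsFibreSquare B' B A' A) (x : PrimeSpectrum B') (j : B')
    (hj : algebraMap B' B j = 0) (hjx : j ∉ x.asIdeal) :
    x ∈ Set.range (comap (algebraMap B' A')) := by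
  rw [PrimeSpectrum.mem_range_comap_iff]
  apply le_antisymm _ Ideal.le_comap_map
  have key : ∀ y ∈ Ideal.map (algebraMap B' A') x.asIdeal, ∃ c ∈ x.asIdeal,
      algebraMap B' B c = 0 ∧ algebraMap B' A' c = algebraMap B' A' j * y := by
    intro y hy
    unfold Ideal.map at hy
    induction hy using Submodule.span_induction with
    | mem y hy =>
      obtain ⟨x₀, hx₀, rfl⟩ := hy
      exact ⟨j * x₀, Ideal.mul_mem_left _ _ hx₀, by rw [map_mul, hj, zero_mul], by rw [map_mul]⟩
    | zero => exact ⟨0, Ideal.zero_mem _, by simp, by simp⟩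
    | add y₁ y₂ _ _ h₁ h₂ =>
      obtain ⟨c₁, hc₁, hp₁, hq₁⟩ := h₁
      obtain ⟨c₂, hc₂, hp₂, hq₂⟩ := h₂
      exact ⟨c₁ + c₂, Ideal.add_mem _ hc₁ hc₂, by rw [map_add, hp₁, hp₂, add_zero],
        by rw [map_add, hq₁, hq₂, mul_add]⟩
    | smul a' y _ h =>
      obtain ⟨c, hc, hp, hq⟩ := h
      obtain ⟨c'', hp'', hq''⟩ := exists_J hsq (a' * algebraMap B' A' c)
        (by rw [map_mul, sq_zero c hp, mul_zero])
      obtain ⟨j'', hpj, hqj⟩ := exists_J hsq (algebraMap B' A' j * a')
        (by rw [map_mul, sq_zero j hj, zero_mul])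
      have e : j * c'' = j'' * c := by
        apply ext' hsq
        · rw [map_mul, map_mul, hj, hpj, zero_mul, zero_mul]
        · rw [map_mul, map_mul, hq'', hqj]; ring
      have hmem : j * c'' ∈ x.asIdeal := by rw [e]; exact Ideal.mul_mem_left _ _ hc
      refine ⟨c'', (x.2.mem_or_mem hmem).resolve_left hjx, hp'', ?_⟩
      rw [hq'', hq, smul_eq_mul]; ring
  intro b hb
  rw [Ideal.mem_comap] at hb
  obtain ⟨c, hc, hp, hq⟩ := key _ hb
  have e : c = j * b := by
    apply ext' hsq
    · rw [hp, map_mul, hj, zero_mul]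
    · rw [hq, map_mul]
  rw [e] at hc
  exact (x.2.mem_or_mem hc).resolve_left hjx

theorem dich (hsq : EtMil.IsFibreSquare B' B A' A) (x : PrimeSpectrum B') :
    x ∈ Set.range (comap (algebraMap B' B)) ∨ x ∈ Set.range (comap (algebraMap B' A')) := by
  by_cases h : RingHom.ker (algebraMap B' B) ≤ x.asIdeal
  · left
    rw [range_comap_of_surjective _ _ (p_surj hsq)]
    exact h
  · right
    obtain ⟨j, hj, hjx⟩ := SetLike.not_le_iff_exists.mp h
    exact mem_range_q hsq x j hj hjx

theorem q_le (hsq : EtMil.IsFibreSquare B' B A' A) (y₁ y₂ : PrimeSpectrum A')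
    (h : comap (algebraMap B' A') y₁ = comap (algebraMap B' A') y₂) (i : A')
    (hi : algebraMap A' A i = 0) (hi2 : i ∉ y₂.asIdeal) : y₁.asIdeal ≤ y₂.asIdeal := by
  intro a' ha'
  obtain ⟨j', hp', hq'⟩ := exists_J hsq (i * a') (by rw [map_mul, hi, zero_mul])
  have h1 : j' ∈ (comap (algebraMap B' A') y₁).asIdeal := by
    show algebraMap B' A' j' ∈ y₁.asIdeal
    rw [hq']; exact Ideal.mul_mem_left _ _ ha'
  rw [h] at h1
  have h2 : i * a' ∈ y₂.asIdeal := by rw [← hq']; exact h1
  exact (y₂.2.mem_or_mem h2).resolve_left hi2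

theorem q_inj (hsq : EtMil.IsFibreSquare B' B A' A) (y₁ y₂ : PrimeSpectrum A')
    (h : comap (algebraMap B' A') y₁ = comap (algebraMap B' A') y₂) (i : A')
    (hi : algebraMap A' A i = 0) (hi1 : i ∉ y₁.asIdeal) : y₁ = y₂ := by
  obtain ⟨j, hp, hq⟩ := exists_J hsq i hi
  have hi2 : i ∉ y₂.asIdeal := by
    intro hi2
    apply hi1
    have h1 : j ∈ (comap (algebraMap B' A') y₂).asIdeal := by
      show algebraMap B' A' j ∈ y₂.asIdeal
      rw [hq]; exact hi2
    rw [← h] at h1
    have : algebraMap B' A' j ∈ y₁.asIdeal := h1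
    rwa [hq] at this
  apply PrimeSpectrum.ext
  exact le_antisymm (q_le hsq y₁ y₂ h i hi hi2) (q_le hsq y₂ y₁ h.symm i hi hi1)

theorem comap_comm (z : PrimeSpectrum A) :
    comap (algebraMap B' B) (comap (algebraMap B A) z) =
      comap (algebraMap B' A') (comap (algebraMap A' A) z) := by
  rw [← PrimeSpectrum.comap_comp_apply, ← PrimeSpectrum.comap_comp_apply,
    ← IsScalarTower.algebraMap_eq, ← IsScalarTower.algebraMap_eq]

theorem exists_of_eq (hsq : EtMil.IsFibreSquare B' B A' A) (x : PrimeSpectrum B) (y : PrimeSpectrum A')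
    (h : comap (algebraMap B' B) x = comap (algebraMap B' A') y) :
    ∃ z : PrimeSpectrum A, comap (algebraMap B A) z = x ∧ comap (algebraMap A' A) z = y := by
  have hy : y ∈ Set.range (comap (algebraMap A' A)) := by
    rw [range_comap_of_surjective _ _ hsq.1]
    intro i hi
    obtain ⟨j, hp, hq⟩ := exists_J hsq i hi
    have h1 : j ∈ (comap (algebraMap B' B) x).asIdeal := by
      show algebraMap B' B j ∈ x.asIdeal
      rw [hp]; exact Ideal.zero_mem _
    rw [h] at h1
    have : algebraMap B' A' j ∈ y.asIdeal := h1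
    rwa [hq] at this
  obtain ⟨z, rfl⟩ := hy
  refine ⟨z, ?_, rfl⟩
  apply comap_injective_of_surjective _ (p_surj hsq)
  rw [comap_comm (B := B) (A' := A') z, h]

theorem isClosed_of_preimages (hsq : EtMil.IsFibreSquare B' B A' A) (Z : Set (PrimeSpectrum B'))
    (hp : IsClosed (comap (algebraMap B' B) ⁻¹' Z)) (hq : IsClosed (comap (algebraMap B' A') ⁻¹' Z)) :
    IsClosed Z := by
  set K : Ideal A' := vanishingIdeal (comap (algebraMap B' A') ⁻¹' Z) with hK
  set L : Ideal B := vanishingIdeal (comap (algebraMap B' B) ⁻¹' Z) with hL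
  have hKz : zeroLocus (K : Set A') = comap (algebraMap B' A') ⁻¹' Z := by
    rw [hK, zeroLocus_vanishingIdeal_eq_closure, hq.closure_eq]
  have hLz : zeroLocus (L : Set B) = comap (algebraMap B' B) ⁻¹' Z := by
    rw [hL, zeroLocus_vanishingIdeal_eq_closure, hp.closure_eq]
  have hZ : Z = comap (algebraMap B' B) '' (zeroLocus (L : Set B)) ∪
      zeroLocus ((K.comap (algebraMap B' A') : Ideal B') : Set B') := by
    apply Set.Subset.antisymm
    · intro x hx
      rcases dich hsq x with ⟨w, rfl⟩ | ⟨y, rfl⟩
      · left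
        exact ⟨w, by rw [hLz]; exact hx, rfl⟩
      · right
        have hy : y ∈ zeroLocus (K : Set A') := by rw [hKz]; exact hx
        intro b hb
        exact hy hb
    · rintro x (⟨w, hw, rfl⟩ | hx)
      · rw [hLz] at hw
        exact hw
      · by_cases h : RingHom.ker (algebraMap B' B) ≤ x.asIdeal
        · have hx' : x ∈ Set.range (comap (algebraMap B' B)) := by
            rw [range_comap_of_surjective _ _ (p_surj hsq)]
            exact h
          obtain ⟨w, rfl⟩ := hx'
          have hw : w ∈ zeroLocus (L : Set B) := by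
            intro ℓ hℓ
            have hrad : algebraMap B A ℓ ∈ (K.map (algebraMap A' A)).radical := by
              rw [Ideal.radical_eq_sInf, Ideal.mem_sInf]
              rintro z ⟨hz1, hz2⟩
              let z' : PrimeSpectrum A := ⟨z, hz2⟩
              have h1 : comap (algebraMap A' A) z' ∈ zeroLocus (K : Set A') := by
                intro k hk
                exact hz1 (Ideal.mem_map_of_mem _ hk)
              rw [hKz] at h1
              have h2 : comap (algebraMap B A) z' ∈ zeroLocus (L : Set B) := by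
                rw [hLz]
                show comap (algebraMap B' B) (comap (algebraMap B A) z') ∈ Z
                rw [comap_comm (B := B) (A' := A') z']
                exact h1
              exact h2 hℓ
            obtain ⟨n, hn⟩ := hrad
            rw [Ideal.mem_map_iff_of_surjective _ hsq.1] at hn
            obtain ⟨k, hk, hkn⟩ := hn
            obtain ⟨b', ⟨hb1, hb2⟩, -⟩ := hsq.2 (ℓ ^ n) k (by rw [map_pow, hkn])
            have hb' : b' ∈ K.comap (algebraMap B' A') := by
              rw [Ideal.mem_comap, hb2]; exact hk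
            have := hx hb'
            have h3 : algebraMap B' B b' ∈ w.asIdeal := this
            rw [hb1] at h3
            exact w.2.mem_of_pow_mem n h3
          rw [hLz] at hw
          exact hw
        · obtain ⟨j, hj, hjx⟩ := SetLike.not_le_iff_exists.mp h
          obtain ⟨y, rfl⟩ := mem_range_q hsq x j hj hjx
          have hy : y ∈ zeroLocus (K : Set A') := by
            intro k hk
            obtain ⟨j', hp', hq'⟩ := exists_J hsq (algebraMap B' A' j * k)
              (by rw [map_mul, sq_zero j hj, zero_mul])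
            have hj' : j' ∈ K.comap (algebraMap B' A') := by
              rw [Ideal.mem_comap, hq']; exact Ideal.mul_mem_left _ _ hk
            have h1 : algebraMap B' A' j' ∈ y.asIdeal := hx hj'
            rw [hq'] at h1
            exact (y.2.mem_or_mem h1).resolve_left hjx
          rw [hKz] at hy
          exact hy
  rw [hZ]
  exact ((isClosedEmbedding_comap_of_surjective _ _ (p_surj hsq)).isClosedMap _
    (isClosed_zeroLocus _)).union (isClosed_zeroLocus _)

open Classical in
noncomputable def descFun (hsq : EtMil.IsFibreSquare B' B A' A) {T : Type u}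
    (F : PrimeSpectrum B → T) (G : PrimeSpectrum A' → T) (x : PrimeSpectrum B') : T :=
  if hx : x ∈ Set.range (comap (algebraMap B' B)) then F hx.choose
  else G ((dich hsq x).resolve_left hx).choose

theorem descFun_p (hsq : EtMil.IsFibreSquare B' B A' A) {T : Type u}
    (F : PrimeSpectrum B → T) (G : PrimeSpectrum A' → T) (w : PrimeSpectrum B) :
    descFun hsq F G (comap (algebraMap B' B) w) = F w := by
  have hx : comap (algebraMap B' B) w ∈ Set.range (comap (algebraMap B' B)) := ⟨w, rfl⟩
  rw [descFun, dif_pos hx]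
  congr 1
  exact comap_injective_of_surjective _ (p_surj hsq) hx.choose_spec

theorem descFun_q (hsq : EtMil.IsFibreSquare B' B A' A) {T : Type u}
    (F : PrimeSpectrum B → T) (G : PrimeSpectrum A' → T)
    (hFG : ∀ z : PrimeSpectrum A, F (comap (algebraMap B A) z) = G (comap (algebraMap A' A) z))
    (y : PrimeSpectrum A') :
    descFun hsq F G (comap (algebraMap B' A') y) = G y := by
  by_cases hx : comap (algebraMap B' A') y ∈ Set.range (comap (algebraMap B' B))
  · rw [descFun, dif_pos hx]
    obtain ⟨z, hz1, hz2⟩ := exists_of_eq hsq _ _ hx.choose_spec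
    rw [← hz1, hFG, hz2]
  · rw [descFun, dif_neg hx]
    have hspec := ((dich hsq (comap (algebraMap B' A') y)).resolve_left hx).choose_spec
    set y' := ((dich hsq (comap (algebraMap B' A') y)).resolve_left hx).choose with hy'
    congr 1
    rw [range_comap_of_surjective _ _ (p_surj hsq)] at hx
    have hx' : ¬ (RingHom.ker (algebraMap B' B) ≤ (comap (algebraMap B' A') y).asIdeal) := hx
    obtain ⟨j, hj, hjx⟩ := SetLike.not_le_iff_exists.mp hx'
    apply q_inj hsq y' y hspec (algebraMap B' A' j) (sq_zero j hj)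
    intro hmem
    apply hjx
    have : j ∈ (comap (algebraMap B' A') y').asIdeal := hmem
    rw [hspec] at this
    exact this

theorem descFun_continuous (hsq : EtMil.IsFibreSquare B' B A' A) {T : Type u} [TopologicalSpace T]
    (F : PrimeSpectrum B → T) (G : PrimeSpectrum A' → T) (hF : Continuous F) (hG : Continuous G)
    (hFG : ∀ z : PrimeSpectrum A, F (comap (algebraMap B A) z) = G (comap (algebraMap A' A) z)) :
    Continuous (descFun hsq F G) := by
  rw [continuous_iff_isClosed]
  intro C hC
  apply isClosed_of_preimages hsq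
  · have : comap (algebraMap B' B) ⁻¹' (descFun hsq F G ⁻¹' C) = F ⁻¹' C := by
      ext w
      simp only [Set.mem_preimage, descFun_p]
    rw [this]
    exact hC.preimage hF
  · have : comap (algebraMap B' A') ⁻¹' (descFun hsq F G ⁻¹' C) = G ⁻¹' C := by
      ext w
      simp only [Set.mem_preimage, descFun_q hsq F G hFG]
    rw [this]
    exact hC.preimage hG

theorem main (hsq : EtMil.IsFibreSquare B' B A' A) :
    IsPushout (TopCat.ofHom (ContinuousMap.mk (PrimeSpectrum.comap (algebraMap B A)) (PrimeSpectrum.continuous_comap _))) (TopCat.ofHom (ContinuousMap.mk (PrimeSpectrum.comap (algebraMap A' A)) (PrimeSpectrum.continuous_comap _)))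
      (TopCat.ofHom (ContinuousMap.mk (PrimeSpectrum.comap (algebraMap B' B)) (PrimeSpectrum.continuous_comap _)))
      (TopCat.ofHom (ContinuousMap.mk (PrimeSpectrum.comap (algebraMap B' A')) (PrimeSpectrum.continuous_comap _))) := by
  have w : (TopCat.ofHom (ContinuousMap.mk (PrimeSpectrum.comap (algebraMap B A)) (PrimeSpectrum.continuous_comap _))) ≫
      (TopCat.ofHom (ContinuousMap.mk (PrimeSpectrum.comap (algebraMap B' B)) (PrimeSpectrum.continuous_comap _))) =
      (TopCat.ofHom (ContinuousMap.mk (PrimeSpectrum.comap (algebraMap A' A)) (PrimeSpectrum.continuous_comap _))) ≫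
      (TopCat.ofHom (ContinuousMap.mk (PrimeSpectrum.comap (algebraMap B' A')) (PrimeSpectrum.continuous_comap _))) := by
    apply ConcreteCategory.hom_ext
    intro z
    exact comap_comm (B' := B') (B := B) (A' := A') z
  refine IsPushout.of_isColimit (c := PushoutCocone.mk _ _ w) (PushoutCocone.IsColimit.mk w
    (fun s => TopCat.ofHom ⟨descFun hsq s.inl s.inr, descFun_continuous hsq _ _
      s.inl.hom.continuous s.inr.hom.continuous
      (fun z => congr($(s.condition) z))⟩) ?_ ?_ ?_)
  · intro s
    ext x
    exact descFun_p hsq _ _ x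
  · intro s
    ext y
    exact descFun_q hsq _ _ (fun z => congr($(s.condition) z)) y
  · intro s m h1 h2
    ext x
    rcases dich hsq x with ⟨w', rfl⟩ | ⟨y, rfl⟩
    · refine (congr($(h1) w')).trans ?_
      exact (descFun_p hsq s.inl s.inr w').symm
    · refine (congr($(h2) y)).trans ?_
      exact (descFun_q hsq s.inl s.inr (fun z => congr($(s.condition) z)) y).symm

end H6917

/-- Let `B' = B ×_A A'` be a fibre square of rings with `A' → A` surjective. Then `Spec(B') = Spec(B)
⨿_{Spec(A)} Spec(A')`: the square of prime spectra is a pushout of topological spaces. -/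
theorem result (B' B A' A : Type u) [CommRing B'] [CommRing B] [CommRing A'] [CommRing A]
    [Algebra B' B] [Algebra B' A'] [Algebra B A] [Algebra A' A] [Algebra B' A] [IsScalarTower B' B A] [IsScalarTower B' A' A]
    (hsq : EtMil.IsFibreSquare B' B A' A) :
    IsPushout (TopCat.ofHom (ContinuousMap.mk (PrimeSpectrum.comap (algebraMap B A)) (PrimeSpectrum.continuous_comap _))) (TopCat.ofHom (ContinuousMap.mk (PrimeSpectrum.comap (algebraMap A' A)) (PrimeSpectrum.continuous_comap _)))
      (TopCat.ofHom (ContinuousMap.mk (PrimeSpectrum.comap (algebraMap B' B)) (PrimeSpectrum.continuous_comap _)))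
      (TopCat.ofHom (ContinuousMap.mk (PrimeSpectrum.comap (algebraMap B' A')) (PrimeSpectrum.continuous_comap _))) := by
  exact H6917.main hsq

end Groth.Agent.S6917
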