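import Groth.Statements.S2019
import Mathlib
import Groth.Agent.Lib.Helper4.Milnor

set_option autoImplicit false
universe u
open TensorProduct
open EtAlg

namespace Groth.Agent.S2019

open TensorProduct
open Groth.Agent.Helper4.Milnor

section
variable {B' B A' A : Type u} [CommRing B'] [CommRing B] [CommRing A'] [CommRing A]
    [Algebra B' B] [Algebra B' A'] [Algebra B A] [Algebra A' A] [Algebra B' A] [IsScalarTower B' B A] [IsScalarTower B' A' A]
    (hsq : EtMil.IsFibreSquare B' B A' A)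
    {N M' : Type u} [AddCommGroup N] [Module B N] [Module B' N] [IsScalarTower B' B N]
    [AddCommGroup M'] [Module A' M'] [Module B' M'] [IsScalarTower B' A' M'] (φ : A ⊗[B] N ≃ₗ[A] A ⊗[A'] M')

local notation "I" => RingHom.ker (algebraMap A' A)
local notation "J" => RingHom.ker (algebraMap B' B)
local notation "N'" => EtMil.glue B' φ

theorem mem_glue_iff (x : N × M') : x ∈ N' ↔ φ ((1 : A) ⊗ₜ[B] x.1) = (1 : A) ⊗ₜ[A'] x.2 := Iff.rfl

/-- `(0, d)` lies in the glued module for `d ∈ I M'` -/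
theorem zero_pair_mem (d : M') (hd : d ∈ I • (⊤ : Submodule A' M')) : ((0 : N), d) ∈ N' := by
  rw [mem_glue_iff]
  simp only [tmul_zero, map_zero]
  exact (one_tmul_eq_zero_of_mem M' d hd).symm

include hsq in
/-- lift of `n` to the glued module -/
theorem exists_lift (n : N) : ∃ ν : N', (ν : N × M').1 = n := by
  obtain ⟨m', hm'⟩ := exists_one_tmul_of_surjective M' hsq.1 (φ ((1 : A) ⊗ₜ[B] n))
  exact ⟨⟨(n, m'), hm'.symm⟩, rfl⟩

variable (B') in
abbrev g₁ : B ⊗[B'] N' →ₗ[B] N := LinearMap.liftBaseChange B (EtMil.glueFst B' φ)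
variable (B') in
abbrev g₂ : A' ⊗[B'] N' →ₗ[A'] M' := LinearMap.liftBaseChange A' (EtMil.glueSnd B' φ)

theorem g₁_tmul (b : B) (ν : N') : g₁ B' φ (b ⊗ₜ ν) = b • (ν : N × M').1 := by
  simp [g₁, EtMil.glueFst]

theorem g₂_tmul (a' : A') (ν : N') : g₂ B' φ (a' ⊗ₜ ν) = a' • (ν : N × M').2 := by
  simp [g₂, EtMil.glueSnd]

theorem smul_glue (j : B') (ν : N') :
    ((j • ν : N') : N × M') = (algebraMap B' B j • (ν : N × M').1, algebraMap B' A' j • (ν : N × M').2) := by
  rw [Submodule.coe_smul]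
  apply Prod.ext
  · simp only [Prod.smul_fst, algebraMap_smul]
  · simp only [Prod.smul_snd, algebraMap_smul]

include hsq in
/-- Lemma K -/
theorem lemK (y : A' ⊗[B'] N') (i : A') (hi : i ∈ I) :
    ∃ ν : N', ν ∈ J • (⊤ : Submodule B' N') ∧ (ν : N × M') = (0, i • g₂ B' φ y) := by
  induction y using TensorProduct.induction_on with
  | zero => exact ⟨0, Submodule.zero_mem _, by rw [map_zero, smul_zero]; rfl⟩
  | tmul a' ν₀ =>
    have hia : algebraMap A' A (i * a') = 0 := by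
      rw [map_mul, (RingHom.mem_ker).1 hi, zero_mul]
    obtain ⟨j, hj1, hj2⟩ := exists_ker hsq (i * a') hia
    refine ⟨j • ν₀, Submodule.smul_mem_smul ((RingHom.mem_ker).2 hj1) trivial, ?_⟩
    rw [smul_glue, hj1, hj2, zero_smul, g₂_tmul, mul_smul]
  | add y₁ y₂ h₁ h₂ =>
    obtain ⟨ν₁, hν₁, e₁⟩ := h₁
    obtain ⟨ν₂, hν₂, e₂⟩ := h₂
    refine ⟨ν₁ + ν₂, Submodule.add_mem _ hν₁ hν₂, ?_⟩
    rw [Submodule.coe_add, e₁, e₂, map_add, smul_add]
    simp

include hsq in
/-- surjectivity of `g₂` -/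
theorem g₂_surj : Function.Surjective (g₂ B' φ) := by
  have claim : ∀ ψ : A ⊗[B] N, ∃ y : A' ⊗[B'] N', (1 : A) ⊗ₜ[A'] (g₂ B' φ y) = φ ψ := by
    intro ψ
    induction ψ using TensorProduct.induction_on with
    | zero => exact ⟨0, by simp⟩
    | tmul a n =>
      obtain ⟨a', rfl⟩ := hsq.1 a
      obtain ⟨ν, hν⟩ := exists_lift (B' := B') hsq φ n
      refine ⟨a' ⊗ₜ ν, ?_⟩
      rw [g₂_tmul, ← hν]
      have h1 : (algebraMap A' A a') ⊗ₜ[B] (ν : N × M').1 =
          (algebraMap A' A a') • ((1 : A) ⊗ₜ[B] (ν : N × M').1) := by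
        rw [TensorProduct.smul_tmul', smul_eq_mul, mul_one]
      rw [h1, map_smul, (mem_glue_iff φ _).1 ν.2, TensorProduct.smul_tmul', smul_eq_mul, mul_one,
        ← TensorProduct.smul_tmul, Algebra.smul_def, mul_one]
    | add x y hx hy =>
      obtain ⟨y₁, e₁⟩ := hx
      obtain ⟨y₂, e₂⟩ := hy
      exact ⟨y₁ + y₂, by rw [map_add, tmul_add, e₁, e₂, map_add]⟩
  intro m'
  obtain ⟨y, hy⟩ := claim (φ.symm ((1 : A) ⊗ₜ[A'] m'))
  rw [LinearEquiv.apply_symm_apply] at hy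
  have hd : m' - g₂ B' φ y ∈ I • (⊤ : Submodule A' M') := by
    apply mem_ker_smul_top_of_surjective M' hsq.1
    rw [tmul_sub, hy, sub_self]
  refine ⟨y + (1 : A') ⊗ₜ (⟨(0, m' - g₂ B' φ y), zero_pair_mem φ _ hd⟩ : N'), ?_⟩
  rw [map_add, g₂_tmul, one_smul]
  simp

include hsq in
/-- elements `(0, d)` with `d ∈ I M'` lie in `J N'` -/
theorem zero_pair_mem_smul (d : M') (hd : d ∈ I • (⊤ : Submodule A' M')) :
    ∃ ν : N', ν ∈ J • (⊤ : Submodule B' N') ∧ (ν : N × M') = (0, d) := by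
  refine Submodule.smul_induction_on hd (fun i hi m _ => ?_) (fun d₁ d₂ h₁ h₂ => ?_)
  · obtain ⟨y, rfl⟩ := g₂_surj hsq φ m
    exact lemK hsq φ y i hi
  · obtain ⟨ν₁, hν₁, e₁⟩ := h₁
    obtain ⟨ν₂, hν₂, e₂⟩ := h₂
    refine ⟨ν₁ + ν₂, Submodule.add_mem _ hν₁ hν₂, ?_⟩
    rw [Submodule.coe_add, e₁, e₂]
    simp

include hsq in
theorem g₁_bij : Function.Bijective (g₁ B' φ) := by
  constructor
  · rw [injective_iff_map_eq_zero]
    intro x hx
    obtain ⟨ν, rfl⟩ := exists_one_tmul N' hsq x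
    rw [g₁_tmul, one_smul] at hx
    have h2 : (1 : A) ⊗ₜ[A'] (ν : N × M').2 = 0 := by
      rw [← (mem_glue_iff φ _).1 ν.2, hx, tmul_zero, map_zero]
    have hd := mem_ker_smul_top_of_surjective M' hsq.1 _ h2
    obtain ⟨ν₁, hν₁, e₁⟩ := zero_pair_mem_smul hsq φ _ hd
    have : ν = ν₁ := by
      apply Subtype.ext
      rw [e₁]
      exact Prod.ext hx rfl
    rw [this]
    exact one_tmul_eq_zero_of_mem N' ν₁ hν₁
  · intro n
    obtain ⟨ν, hν⟩ := exists_lift (B' := B') hsq φ n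
    exact ⟨(1 : B) ⊗ₜ ν, by rw [g₁_tmul, one_smul, hν]⟩


include hsq in
theorem g₂_inj : Function.Injective (g₂ B' φ) := by
  let e₁ : B ⊗[B'] N' ≃ₗ[B] N := LinearEquiv.ofBijective (g₁ B' φ) (g₁_bij hsq φ)
  let Θ : A ⊗[B'] N' ≃ₗ[A] A ⊗[A'] M' :=
    (TensorProduct.AlgebraTensorModule.cancelBaseChange B' B A A N').symm ≪≫ₗ
      (TensorProduct.AlgebraTensorModule.congr (LinearEquiv.refl A A) e₁) ≪≫ₗ φ
  have hΘ : ∀ (a : A) (ν : N'), Θ (a ⊗ₜ[B'] ν) = a • ((1 : A) ⊗ₜ[A'] (ν : N × M').2) := by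
    intro a ν
    simp only [Θ, LinearEquiv.trans_apply, TensorProduct.AlgebraTensorModule.cancelBaseChange_symm_tmul,
      TensorProduct.AlgebraTensorModule.congr_tmul, LinearEquiv.refl_apply]
    have h1 : e₁ ((1 : B) ⊗ₜ[B'] ν) = (ν : N × M').1 := by
      change g₁ B' φ ((1 : B) ⊗ₜ[B'] ν) = _
      rw [g₁_tmul, one_smul]
    rw [h1]
    have h2 : a ⊗ₜ[B] (ν : N × M').1 = a • ((1 : A) ⊗ₜ[B] (ν : N × M').1) := by
      rw [TensorProduct.smul_tmul', smul_eq_mul, mul_one]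
    rw [h2, map_smul, (mem_glue_iff φ _).1 ν.2]
  let π : A' →ₗ[B'] A := (IsScalarTower.toAlgHom B' A' A).toLinearMap
  have hπ : Function.Surjective π := hsq.1
  let ιI : ((I : Ideal A').restrictScalars B') →ₗ[B'] A' := ((I : Ideal A').restrictScalars B').subtype
  have hex : Function.Exact ιI π := by
    intro a'
    constructor
    · intro h
      exact ⟨⟨a', h⟩, rfl⟩
    · rintro ⟨x, rfl⟩
      exact x.2
  have hex' := rTensor_exact N' hex hπ
  have hid : ∀ y : A' ⊗[B'] N', Θ ((π.rTensor N') y) = (1 : A) ⊗ₜ[A'] (g₂ B' φ y) := by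
    intro y
    induction y using TensorProduct.induction_on with
    | zero => simp
    | tmul a' ν =>
      rw [LinearMap.rTensor_tmul, hΘ, g₂_tmul]
      change algebraMap A' A a' • _ = _
      rw [TensorProduct.smul_tmul', smul_eq_mul, mul_one, ← TensorProduct.smul_tmul, Algebra.smul_def,
        mul_one]
    | add y₁ y₂ h₁ h₂ => rw [map_add, map_add, h₁, h₂, map_add, tmul_add]
  have claimY : ∀ z : ((I : Ideal A').restrictScalars B') ⊗[B'] N',
      ∃ (d : M') (hd : d ∈ I • (⊤ : Submodule A' M')),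
        (ιI.rTensor N') z = (1 : A') ⊗ₜ[B'] (⟨(0, d), zero_pair_mem φ d hd⟩ : N') := by
    intro z
    induction z using TensorProduct.induction_on with
    | zero =>
      refine ⟨0, Submodule.zero_mem _, ?_⟩
      rw [map_zero]
      have : (⟨(0, 0), zero_pair_mem φ 0 (Submodule.zero_mem _)⟩ : N') = 0 := rfl
      rw [this, tmul_zero]
    | tmul i ν =>
      obtain ⟨j, hj1, hj2⟩ := exists_ker hsq (i : A') i.2
      have hd : (i : A') • (ν : N × M').2 ∈ I • (⊤ : Submodule A' M') :=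
        Submodule.smul_mem_smul i.2 trivial
      refine ⟨(i : A') • (ν : N × M').2, hd, ?_⟩
      rw [LinearMap.rTensor_tmul]
      have h1 : ιI i = j • (1 : A') := by
        rw [Algebra.smul_def, mul_one, hj2]; rfl
      rw [h1, TensorProduct.smul_tmul]
      congr 1
      apply Subtype.ext
      rw [smul_glue, hj1, hj2, zero_smul]
    | add z₁ z₂ h₁ h₂ =>
      obtain ⟨d₁, hd₁, e₁'⟩ := h₁
      obtain ⟨d₂, hd₂, e₂'⟩ := h₂
      refine ⟨d₁ + d₂, Submodule.add_mem _ hd₁ hd₂, ?_⟩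
      rw [map_add, e₁', e₂', ← tmul_add]
      congr 1
      apply Subtype.ext
      simp
  rw [injective_iff_map_eq_zero]
  intro y hy
  have h0 : (π.rTensor N') y = 0 := by
    apply Θ.injective
    rw [hid, hy, tmul_zero, map_zero]
  obtain ⟨z, rfl⟩ := (hex' y).1 h0
  obtain ⟨d, hd, hz⟩ := claimY z
  rw [hz] at hy ⊢
  rw [g₂_tmul, one_smul] at hy
  have hd0 : d = 0 := hy
  subst hd0
  have : (⟨(0, 0), zero_pair_mem φ 0 hd⟩ : N') = 0 := rfl
  rw [this, tmul_zero]

include hsq in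
theorem main : Function.Bijective (LinearMap.liftBaseChange B (EtMil.glueFst B' φ)) ∧
    Function.Bijective (LinearMap.liftBaseChange A' (EtMil.glueSnd B' φ)) :=
  ⟨g₁_bij hsq φ, g₂_inj hsq φ, g₂_surj hsq φ⟩

end


/-- Let B' = B ×_A A' be a fibre product of rings with A' -> A surjective, N a B-module, M' an A'-module
and φ : A ⊗_B N ≅ A ⊗_{A'} M' an A-linear isomorphism. For the glued B'-module N' = N ×_φ M' (pairs
with matching images), the canonical maps B ⊗_{B'} N' -> N and A' ⊗_{B'} N' -> M' induced by the two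
projections are bijective. -/
theorem result (B' B A' A : Type u) [CommRing B'] [CommRing B] [CommRing A'] [CommRing A]
    [Algebra B' B] [Algebra B' A'] [Algebra B A] [Algebra A' A] [Algebra B' A] [IsScalarTower B' B A] [IsScalarTower B' A' A]
    (hsq : EtMil.IsFibreSquare B' B A' A)
    (N M' : Type u) [AddCommGroup N] [Module B N] [Module B' N] [IsScalarTower B' B N]
    [AddCommGroup M'] [Module A' M'] [Module B' M'] [IsScalarTower B' A' M'] (φ : A ⊗[B] N ≃ₗ[A] A ⊗[A'] M') :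
    Function.Bijective (LinearMap.liftBaseChange B (EtMil.glueFst B' φ)) ∧
    Function.Bijective (LinearMap.liftBaseChange A' (EtMil.glueSnd B' φ)) := by
  classical
  exact main hsq φ

end Groth.Agent.S2019
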