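import Groth.Statements.S2009
import Mathlib

set_option autoImplicit false
universe u
open TensorProduct
open EtAlg

namespace Groth.Agent.S2009

open TensorProduct

section
variable {R S : Type u} [CommRing R] [CommRing S] [Algebra R S] (I : Ideal R)

/-- `t ⊗ m = 0` when `t ∈ IS` and `I` kills `M`. -/
theorem tmul_eq_zero_of_mem_map {M : Type u} [AddCommGroup M] [Module R M]
    (hM : ∀ a ∈ I, ∀ m : M, a • m = 0) (t : S) (ht : t ∈ I.map (algebraMap R S)) (m : M) :
    t ⊗ₜ[R] m = 0 := by
  have key : ∀ (s : S) (m : M), (s * t) ⊗ₜ[R] m = 0 := by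
    unfold Ideal.map at ht
    induction ht using Submodule.span_induction with
    | mem x hx =>
      obtain ⟨a, ha, rfl⟩ := hx
      intro s m
      have : s * algebraMap R S a = a • s := by rw [Algebra.smul_def, mul_comm]
      rw [this, TensorProduct.smul_tmul, hM a ha, tmul_zero]
    | zero => intro s m; rw [mul_zero, zero_tmul]
    | add x y _ _ hx hy => intro s m; rw [mul_add, add_tmul, hx, hy, add_zero]
    | smul s' x _ hx =>
      intro s m
      rw [smul_eq_mul, ← mul_assoc]
      exact hx (s * s') m
  have := key 1 m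
  rwa [one_mul] at this

/-- Step 1: modules killed by `I`. -/
theorem step1 (hφ : Function.Bijective (Ideal.quotientMap (I.map (algebraMap R S)) (algebraMap R S) Ideal.le_comap_map))
    (M : Type u) [AddCommGroup M] [Module R M] (hM : ∀ a ∈ I, ∀ m : M, a • m = 0) :
    Function.Bijective (TensorProduct.mk R S M 1) := by
  constructor
  · -- left inverse
    let φl : (R ⧸ I) →ₗ[R] (S ⧸ I.map (algebraMap R S)) :=
      { toFun := Ideal.quotientMap (I.map (algebraMap R S)) (algebraMap R S) Ideal.le_comap_map
        map_add' := map_add _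
        map_smul' := by
          intro r x
          obtain ⟨x, rfl⟩ := Ideal.Quotient.mk_surjective x
          simp only [RingHom.id_apply]
          rw [Algebra.smul_def, Algebra.smul_def, map_mul]
          rfl }
    let e : (R ⧸ I) ≃ₗ[R] (S ⧸ I.map (algebraMap R S)) := LinearEquiv.ofBijective φl hφ
    let mkS : S →ₗ[R] (S ⧸ I.map (algebraMap R S)) :=
      { toFun := Ideal.Quotient.mk _
        map_add' := map_add _
        map_smul' := by
          intro r x
          simp only [RingHom.id_apply]
          rw [Algebra.smul_def, map_mul, Algebra.smul_def]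
          rfl }
    let ψ : S →ₗ[R] (R ⧸ I) := e.symm.toLinearMap ∘ₗ mkS
    have hψ1 : ψ 1 = 1 := by
      show e.symm (Ideal.Quotient.mk _ 1) = 1
      rw [LinearEquiv.symm_apply_eq]
      show (Ideal.Quotient.mk _ (1 : S)) = Ideal.quotientMap (I.map (algebraMap R S)) (algebraMap R S) Ideal.le_comap_map 1
      rw [map_one, map_one]
    have hle : (I : Submodule R R) ≤ LinearMap.ker (LinearMap.lsmul R M) := by
      intro a ha
      rw [LinearMap.mem_ker]
      ext m
      exact hM a ha m
    let act : (R ⧸ I) →ₗ[R] M →ₗ[R] M := Submodule.liftQ (I : Submodule R R) (LinearMap.lsmul R M) hle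
    let L : S ⊗[R] M →ₗ[R] M := TensorProduct.lift (act ∘ₗ ψ)
    have hL : ∀ m, L (TensorProduct.mk R S M 1 m) = m := by
      intro m
      show act (ψ 1) m = m
      rw [hψ1]
      show (Submodule.liftQ (I : Submodule R R) (LinearMap.lsmul R M) hle) (Submodule.Quotient.mk 1) m = m
      rw [Submodule.liftQ_apply]
      simp
    intro m m' h
    rw [← hL m, ← hL m', h]
  · intro x
    induction x using TensorProduct.induction_on with
    | zero => exact ⟨0, map_zero _⟩
    | add x y hx hy =>
      obtain ⟨a, rfl⟩ := hx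
      obtain ⟨b, rfl⟩ := hy
      exact ⟨a + b, map_add _ _ _⟩
    | tmul s m =>
      obtain ⟨r, hr⟩ := hφ.2 (Ideal.Quotient.mk _ s)
      obtain ⟨r, rfl⟩ := Ideal.Quotient.mk_surjective r
      have h1 : s - algebraMap R S r ∈ I.map (algebraMap R S) := by
        rw [← Ideal.Quotient.eq, ← hr]
        rfl
      refine ⟨r • m, ?_⟩
      show (1 : S) ⊗ₜ[R] (r • m) = s ⊗ₜ[R] m
      have h2 := tmul_eq_zero_of_mem_map I hM _ h1 m
      rw [sub_tmul, sub_eq_zero] at h2
      rw [h2, ← TensorProduct.smul_tmul, Algebra.smul_def, mul_one]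


/-- Step 2: modules killed by a power of `I`. -/
theorem step2 [Module.Flat R S]
    (hφ : Function.Bijective (Ideal.quotientMap (I.map (algebraMap R S)) (algebraMap R S) Ideal.le_comap_map)) :
    ∀ (n : ℕ) (M : Type u) [AddCommGroup M] [Module R M], (∀ a ∈ I ^ n, ∀ m : M, a • m = 0) →
      Function.Bijective (TensorProduct.mk R S M 1) := by
  intro n
  induction n with
  | zero =>
    intro M _ _ hM
    have hz : ∀ m : M, m = 0 := by
      intro m
      have := hM 1 (by rw [pow_zero, Ideal.one_eq_top]; trivial) m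
      rwa [one_smul] at this
    have hsub : Subsingleton M := ⟨fun a b => by rw [hz a, hz b]⟩
    constructor
    · intro a b _
      exact Subsingleton.elim a b
    · intro t
      refine ⟨0, ?_⟩
      exact Subsingleton.elim _ _
  | succ n ih =>
    intro M _ _ hM
    let N : Submodule R M := I • ⊤
    have hN : ∀ a ∈ I ^ n, ∀ y : N, a • y = 0 := by
      intro a ha y
      apply Subtype.ext
      show a • (y : M) = 0
      have hy : (y : M) ∈ I • (⊤ : Submodule R M) := y.2
      refine Submodule.smul_induction_on hy ?_ ?_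
      · intro i hi m _
        rw [smul_smul]
        apply hM
        rw [pow_succ]
        exact Ideal.mul_mem_mul ha hi
      · intro x y hx hy
        rw [smul_add, hx, hy, add_zero]
    have hQ : ∀ a ∈ I, ∀ q : M ⧸ N, a • q = 0 := by
      intro a ha q
      obtain ⟨m, rfl⟩ := Submodule.Quotient.mk_surjective N q
      rw [← Submodule.Quotient.mk_smul, Submodule.Quotient.mk_eq_zero]
      exact Submodule.smul_mem_smul ha Submodule.mem_top
    have bN := ih N hN
    have bQ := step1 I hφ (M ⧸ N) hQ
    have hflat : Function.Injective (LinearMap.lTensor S N.subtype) :=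
      Module.Flat.lTensor_preserves_injective_linearMap _ (Submodule.subtype_injective N)
    have hex := lTensor_exact S (LinearMap.exact_subtype_mkQ N) (Submodule.mkQ_surjective N)
    constructor
    · rw [injective_iff_map_eq_zero]
      intro x hx
      have h1 : TensorProduct.mk R S (M ⧸ N) 1 (N.mkQ x) = 0 := by
        have : TensorProduct.mk R S (M ⧸ N) 1 (N.mkQ x) = LinearMap.lTensor S N.mkQ (TensorProduct.mk R S M 1 x) := rfl
        rw [this, hx, map_zero]
      have h2 : N.mkQ x = 0 := by
        apply bQ.1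
        rw [h1, map_zero]
      have h3 : x ∈ N := by
        rwa [Submodule.mkQ_apply, Submodule.Quotient.mk_eq_zero] at h2
      have h4 : LinearMap.lTensor S N.subtype (TensorProduct.mk R S N 1 ⟨x, h3⟩) = 0 := by
        have : LinearMap.lTensor S N.subtype (TensorProduct.mk R S N 1 ⟨x, h3⟩) = TensorProduct.mk R S M 1 x := rfl
        rw [this, hx]
      have h5 : TensorProduct.mk R S N 1 ⟨x, h3⟩ = 0 := by
        apply hflat
        rw [h4, map_zero]
      have h6 : (⟨x, h3⟩ : N) = 0 := by
        apply bN.1
        rw [h5, map_zero]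
      exact congrArg Subtype.val h6
    · intro t
      obtain ⟨q, hq⟩ := bQ.2 (LinearMap.lTensor S N.mkQ t)
      obtain ⟨z, rfl⟩ := Submodule.mkQ_surjective N q
      have h1 : LinearMap.lTensor S N.mkQ (t - TensorProduct.mk R S M 1 z) = 0 := by
        rw [map_sub, ← hq]
        exact sub_self _
      obtain ⟨u, hu⟩ := (hex _).1 h1
      obtain ⟨y, rfl⟩ := bN.2 u
      refine ⟨z + N.subtype y, ?_⟩
      rw [map_add]
      have : TensorProduct.mk R S M 1 (N.subtype y) = LinearMap.lTensor S N.subtype (TensorProduct.mk R S N 1 y) := rfl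
      rw [this, hu]
      abel

/-- Step 3: all `I`-power torsion modules. -/
theorem step3 [Module.Flat R S]
    (hφ : Function.Bijective (Ideal.quotientMap (I.map (algebraMap R S)) (algebraMap R S) Ideal.le_comap_map))
    (M : Type u) [AddCommGroup M] [Module R M] (hM : ∀ m : M, ∃ n : ℕ, ∀ a ∈ I ^ n, a • m = 0) :
    Function.Bijective (TensorProduct.mk R S M 1) := by
  have hbij : ∀ n : ℕ, Function.Bijective (TensorProduct.mk R S (Submodule.torsionBySet R M (I ^ n : Ideal R)) 1) := by
    intro n
    apply step2 I hφ n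
    intro a ha y
    apply Subtype.ext
    show a • (y : M) = 0
    have := y.2
    rw [Submodule.mem_torsionBySet_iff] at this
    exact this ⟨a, ha⟩
  have hflat : ∀ n : ℕ, Function.Injective
      (LinearMap.lTensor S (Submodule.torsionBySet R M (I ^ n : Ideal R)).subtype) :=
    fun n => Module.Flat.lTensor_preserves_injective_linearMap _ (Submodule.subtype_injective _)
  have hmem : ∀ m : M, ∃ n : ℕ, m ∈ Submodule.torsionBySet R M (I ^ n : Ideal R) := by
    intro m
    obtain ⟨n, hn⟩ := hM m
    refine ⟨n, ?_⟩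
    rw [Submodule.mem_torsionBySet_iff]
    rintro ⟨a, ha⟩
    exact hn a ha
  constructor
  · rw [injective_iff_map_eq_zero]
    intro x hx
    obtain ⟨n, hn⟩ := hmem x
    have h4 : LinearMap.lTensor S (Submodule.torsionBySet R M (I ^ n : Ideal R)).subtype
        (TensorProduct.mk R S _ 1 ⟨x, hn⟩) = 0 := by
      have : LinearMap.lTensor S (Submodule.torsionBySet R M (I ^ n : Ideal R)).subtype
        (TensorProduct.mk R S _ 1 ⟨x, hn⟩) = TensorProduct.mk R S M 1 x := rfl
      rw [this, hx]
    have h5 : TensorProduct.mk R S (Submodule.torsionBySet R M (I ^ n : Ideal R)) 1 ⟨x, hn⟩ = 0 := by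
      apply hflat n
      rw [h4, map_zero]
    have h6 : (⟨x, hn⟩ : Submodule.torsionBySet R M (I ^ n : Ideal R)) = 0 := by
      apply (hbij n).1
      rw [h5, map_zero]
    exact congrArg Subtype.val h6
  · intro t
    induction t using TensorProduct.induction_on with
    | zero => exact ⟨0, map_zero _⟩
    | add x y hx hy =>
      obtain ⟨a, rfl⟩ := hx
      obtain ⟨b, rfl⟩ := hy
      exact ⟨a + b, map_add _ _ _⟩
    | tmul s m =>
      obtain ⟨n, hn⟩ := hmem m
      obtain ⟨y, hy⟩ := (hbij n).2 (s ⊗ₜ[R] ⟨m, hn⟩)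
      refine ⟨(y : M), ?_⟩
      have h1 : TensorProduct.mk R S M 1 (y : M) =
          LinearMap.lTensor S (Submodule.torsionBySet R M (I ^ n : Ideal R)).subtype
            (TensorProduct.mk R S _ 1 y) := rfl
      rw [h1, hy]
      rfl

end

/-- Let R -> S be flat with S/IS faithfully flat over R/I. Then the natural map M -> S ⊗_R M is
bijective for every I-power torsion R-module M if and only if R/I -> S/IS is bijective. -/
theorem result (R S : Type u) [CommRing R] [CommRing S] [Algebra R S] (I : Ideal R)
    [Module.Flat R S] [Module.FaithfullyFlat (R ⧸ I) (S ⧸ I.map (algebraMap R S))] :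
    (∀ (M : Type u) [AddCommGroup M] [Module R M], (∀ m : M, ∃ n : ℕ, ∀ a ∈ I ^ n, a • m = 0) →
      Function.Bijective (TensorProduct.mk R S M 1)) ↔
    Function.Bijective (Ideal.quotientMap (I.map (algebraMap R S)) (algebraMap R S) Ideal.le_comap_map) := by
  classical
  constructor
  · intro h
    have hkill : ∀ a ∈ I, ∀ m : R ⧸ I, a • m = 0 := by
      intro a ha m
      obtain ⟨r, rfl⟩ := Ideal.Quotient.mk_surjective m
      rw [Algebra.smul_def, Ideal.Quotient.algebraMap_eq, ← map_mul, Ideal.Quotient.eq_zero_iff_mem]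
      exact I.mul_mem_right _ ha
    have hb := h (R ⧸ I) (fun m => ⟨1, fun a ha => hkill a (by rwa [pow_one] at ha) m⟩)
    constructor
    · rw [injective_iff_map_eq_zero]
      intro x hx
      obtain ⟨r, rfl⟩ := Ideal.Quotient.mk_surjective x
      have h1 : algebraMap R S r ∈ I.map (algebraMap R S) := by
        rw [← Ideal.Quotient.eq_zero_iff_mem]
        exact hx
      apply hb.1
      rw [map_zero]
      show (1 : S) ⊗ₜ[R] (Ideal.Quotient.mk I r) = 0
      have h2 : (Ideal.Quotient.mk I r) = r • (1 : R ⧸ I) := by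
        rw [Algebra.smul_def, mul_one]; rfl
      rw [h2, ← TensorProduct.smul_tmul, Algebra.smul_def, mul_one]
      exact tmul_eq_zero_of_mem_map I hkill _ h1 _
    · intro y
      obtain ⟨s, rfl⟩ := Ideal.Quotient.mk_surjective y
      obtain ⟨x, hx⟩ := hb.2 (s ⊗ₜ[R] (1 : R ⧸ I))
      obtain ⟨r, rfl⟩ := Ideal.Quotient.mk_surjective x
      refine ⟨Ideal.Quotient.mk I r, ?_⟩
      show Ideal.Quotient.mk _ (algebraMap R S r) = Ideal.Quotient.mk _ s
      rw [Ideal.Quotient.eq]
      have h3 : (algebraMap R S r - s) ⊗ₜ[R] (1 : R ⧸ I) = 0 := by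
        rw [sub_tmul, sub_eq_zero, ← hx]
        show (algebraMap R S r) ⊗ₜ[R] (1 : R ⧸ I) = (1 : S) ⊗ₜ[R] (Ideal.Quotient.mk I r)
        have h2 : (Ideal.Quotient.mk I r) = r • (1 : R ⧸ I) := by
          rw [Algebra.smul_def, mul_one]; rfl
        rw [h2, ← TensorProduct.smul_tmul, Algebra.smul_def, mul_one]
      have h4 := congrArg (TensorProduct.tensorQuotEquivQuotSMul S I) h3
      rw [map_zero] at h4
      have h5 : (1 : R ⧸ I) = Ideal.Quotient.mk I 1 := rfl
      rw [h5, TensorProduct.tensorQuotEquivQuotSMul_tmul_mk, one_smul, Submodule.Quotient.mk_eq_zero,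
        Ideal.smul_top_eq_map] at h4
      exact h4
  · intro hφ M _ _ hM
    exact step3 I hφ M hM

end Groth.Agent.S2009
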