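import Groth.Statements.S9778
import Groth.Agent.Lib.Helper6.EtLoc.PISplit
import Groth.Agent.Lib.Helper6.EtLoc.QFClopen

set_option autoImplicit false
universe u
open FlatMor

namespace Groth.Agent.S9778

open AlgebraicGeometry CategoryTheory Limits in
/-- Let f : X ⟶ S be separated and locally of finite type, s a point of S and x_1, …, x_n pairwise
distinct points of X over s at which f is quasi-finite (isolated points of the fibre). Then there
are an étale morphism g : U ⟶ S with a point u over s and finitely many pairwise disjoint open and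
closed subschemes V_{i,j} of X_U = X ×_S U, each finite over U and containing exactly one point
v_{i,j} over u, with v_{i,j} mapping to x_i and κ(v_{i,j}) purely inseparable over κ(u), such that
every point of X_U over u mapping to some x_i lies in one of the V_{i,j} (so the open and closed
complement W of their union has no point over u mapping to any x_i). -/
theorem result {X S : Scheme.{u}} (f : X ⟶ S) [LocallyOfFiniteType f] [IsSeparated f] (s : S)
    {ι : Type} [Finite ι] (x : ι → ↑X) (hinj : Function.Injective x) (hs : ∀ i, f (x i) = s) (hx : ∀ i, f.QuasiFiniteAt (x i)) :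
    ∃ (U : Scheme.{u}) (g : U ⟶ S) (u : U), Etale g ∧ g u = s ∧
      ∃ (J : ι → Type) (_ : ∀ i, Finite (J i)) (V : ∀ i, J i → (pullback f g).Opens) (v : ∀ i, J i → ↑(pullback f g)),
        (∀ i j, IsClopen ((V i j : Set ↑(pullback f g)))) ∧
        (∀ i j i' j', ((V i j : Set ↑(pullback f g)) ∩ (V i' j')).Nonempty → i = i' ∧ HEq j j') ∧
        (∀ i j, v i j ∈ V i j ∧ IsFinite ((V i j).ι ≫ pullback.snd f g) ∧ pullback.snd f g (v i j) = u ∧
          (∀ w : ↑(pullback f g), w ∈ V i j → pullback.snd f g w = u → w = v i j) ∧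
          (letI := ((pullback.snd f g).residueFieldMap (v i j)).hom.toAlgebra
           IsPurelyInseparable ↑(U.residueField (pullback.snd f g (v i j))) ↑((pullback f g).residueField (v i j))) ∧
          pullback.fst f g (v i j) = x i) ∧
        (∀ (w : ↑(pullback f g)) (i : ι), pullback.snd f g w = u → pullback.fst f g w = x i → ∃ j, w ∈ V i j) := by
  classical
  open Groth.Agent.Lib.Helper6.EtLoc in
  obtain ⟨U₁, g₁, u₁, hg₁, hu₁, n, y, lab₀, hyinj, hyu, hyx, hY, hPI, hyqf⟩ :=
    exists_pi_setup f s x hs hx (ringExpChar ↑(S.residueField s))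
  open Groth.Agent.Lib.Helper6.EtLoc in
  obtain ⟨U, h, u, hh, hhu, hres, K, hK, lab, V', hcl, hd, hfin, h2, h4⟩ :=
    qf_points_pieces (pullback.snd f g₁) u₁ y hyinj hyu hyqf
  open Groth.Agent.Lib.Helper6.EtLoc in
  obtain ⟨k, w, ha, hb, hc, hdd, he, hf, hg, hh'⟩ :=
    core_split f g₁ h x (ringExpChar ↑(S.residueField s)) u₁ u hhu hres y hyu hY hPI lab V'
      hfin h2 h4
  have hgu : (h ≫ g₁) u = s := by
    rw [Scheme.Hom.comp_apply, hhu, hu₁]
  refine ⟨U, h ≫ g₁, u, inferInstance, hgu, fun i => {j : Fin n // lab₀ j = i},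
    fun i => inferInstance,
    fun i j => (Groth.Agent.Lib.Helper6.EtLoc.bcIso f g₁ h).hom ⁻¹ᵁ V' (k j.1),
    fun i j => w j.1, ?_, ?_, ?_, ?_⟩
  · intro i j
    refine ⟨?_, ((Groth.Agent.Lib.Helper6.EtLoc.bcIso f g₁ h).hom ⁻¹ᵁ V' (k j.1)).2⟩
    exact (hcl (k j.1)).preimage (Groth.Agent.Lib.Helper6.EtLoc.bcIso f g₁ h).hom.continuous
  · rintro i j i' j' ⟨p, hp1, hp2⟩
    by_cases hjj : j.1 = j'.1
    · have hii : i = i' := by rw [← j.2, ← j'.2, hjj]
      subst hii
      exact ⟨rfl, heq_of_eq (Subtype.ext hjj)⟩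
    · exfalso
      have hkk : k j.1 ≠ k j'.1 := fun hk => hjj (by rw [← ha j.1, ← ha j'.1, hk])
      exact (hd _ _ hkk).le_bot (show (Groth.Agent.Lib.Helper6.EtLoc.bcIso f g₁ h).hom p ∈
        V' (k j.1) ⊓ V' (k j'.1) from ⟨hp1, hp2⟩)
  · intro i j
    refine ⟨hb j.1, hg j.1, hc j.1, he j.1, ?_, ?_⟩
    · have : ExpChar ↑(S.residueField s) (ringExpChar ↑(S.residueField s)) :=
        ringExpChar.expChar _
      have hq : ExpChar ↑(U.residueField (pullback.snd f (h ≫ g₁) (w j.1)))
          (ringExpChar ↑(S.residueField s)) :=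
        Groth.Agent.Lib.Helper6.EtLoc.expChar_residueField_of_eq (h ≫ g₁) _ s
          (by rw [hc j.1]; exact hgu) _
      exact Groth.Agent.Lib.Helper6.EtLoc.PIhom.isPurelyInseparable _ (hf j.1)
    · rw [← Groth.Agent.Lib.Helper6.EtLoc.fst_bcMap_apply, hdd j.1, hyx j.1, j.2]
  · intro w' i hw'u hw'x
    obtain ⟨j, hj1, hj2⟩ := hh' w' i hw'u hw'x
    have hji : lab₀ j = i := hinj ((hyx j).symm.trans hj1)
    refine ⟨⟨j, hji⟩, ?_⟩
    rw [hj2]
    exact hb j

end Groth.Agent.S9778
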