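import Groth.Statements.S0728
import Mathlib
import Groth.Agent.Lib.Helper5.Misc.EtSiteBasic
import Groth.Agent.Lib.Helper5.Misc.EtEqLocus

set_option autoImplicit false
open CategoryTheory CategoryTheory.Limits AlgebraicGeometry Opposite
universe u
open EtShriek

open Groth.Agent.Lib.Helper5

namespace Groth.Agent.S0728

variable {X : Scheme.{u}}

instance etale_left {V W : X.Etale} (g : W ⟶ V) : Etale g.left := by
  haveI : Etale W.hom := W.prop
  haveI : Etale V.hom := V.prop
  have e1 : g.left ≫ V.hom = W.hom := Over.w g.hom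
  haveI : Etale (g.left ≫ V.hom) := by rw [e1]; infer_instance
  exact Etale.of_comp g.left V.hom

/-- Sections agreeing locally (around every point) are equal. -/
lemma sect_ext_local (F : EtCoh.Ab X) {V : X.Etale} (s t : EtCoh.sect F V)
    (h : ∀ v : V.left, ∃ (W : X.Etale) (g : W ⟶ V) (w : W.left), g.left w = v ∧
      F.obj.map g.op s = F.obj.map g.op t) : s = t := by
  let R : Sieve V :=
    { arrows := fun W g => F.obj.map g.op s = F.obj.map g.op t
      downward_closed := by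
        intro Y Z f hf g
        change F.obj.map (g ≫ f).op s = F.obj.map (g ≫ f).op t
        rw [op_comp, Functor.map_comp]
        change F.obj.map g.op (F.obj.map f.op s) = F.obj.map g.op (F.obj.map f.op t)
        rw [hf] }
  have hR : R ∈ X.smallEtaleTopology V := by
    rw [EtSiteBasic.mem_smallEtale_iff]
    intro v
    obtain ⟨W, g, w, hw, hg⟩ := h v
    exact ⟨W, g, w, hg, hw⟩
  exact EtSiteBasic.sect_ext ((sheafCompose X.smallEtaleTopology (forget AddCommGrpCat.{u + 1})).obj F)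
    R hR s t (fun W g hg => hg)

/-- Fibre products with chosen points in the small étale site. -/
lemma exists_pullback_point {V W₁ W₂ : X.Etale} (g₁ : W₁ ⟶ V) (g₂ : W₂ ⟶ V) (w₁ : W₁.left)
    (w₂ : W₂.left) (h : g₁.left w₁ = g₂.left w₂) :
    ∃ (W : X.Etale) (p₁ : W ⟶ W₁) (p₂ : W ⟶ W₂) (w : W.left),
      p₁ ≫ g₁ = p₂ ≫ g₂ ∧ p₁.left w = w₁ ∧ p₂.left w = w₂ := by
  haveI : Etale W₁.hom := W₁.prop
  haveI : Etale W₂.hom := W₂.prop
  let W : X.Etale := EtSiteBasic.ofEtale (pullback.fst g₁.left g₂.left ≫ W₁.hom)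
  have hc : pullback.snd g₁.left g₂.left ≫ W₂.hom = pullback.fst g₁.left g₂.left ≫ W₁.hom := by
    have e1 : g₁.left ≫ V.hom = W₁.hom := Over.w g₁.hom
    have e2 : g₂.left ≫ V.hom = W₂.hom := Over.w g₂.hom
    rw [← e1, ← e2, ← Category.assoc, ← Category.assoc, pullback.condition]
  let p₁ : W ⟶ W₁ := MorphismProperty.Over.homMk (pullback.fst g₁.left g₂.left) rfl trivial
  let p₂ : W ⟶ W₂ := MorphismProperty.Over.homMk (pullback.snd g₁.left g₂.left) hc trivial
  obtain ⟨w, hw1, hw2⟩ := Scheme.Pullback.exists_preimage_pullback (f := g₁.left) (g := g₂.left)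
    w₁ w₂ h
  refine ⟨W, p₁, p₂, w, ?_, hw1, hw2⟩
  apply MorphismProperty.Over.Hom.ext
  exact pullback.condition

/-- The restriction of an étale `X`-scheme to an open subscheme. -/
noncomputable def restrictOpen (V : X.Etale) (O : V.left.Opens) : X.Etale :=
  haveI : Etale V.hom := V.prop
  EtSiteBasic.ofEtale (O.ι ≫ V.hom)

/-- The inclusion of the restriction to an open. -/
noncomputable def restrictOpenι (V : X.Etale) (O : V.left.Opens) : restrictOpen V O ⟶ V :=
  MorphismProperty.Over.homMk O.ι rfl trivial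

/-- A section vanishes after restriction along a map avoiding a set containing its support. -/
lemma restrict_eq_zero (F : EtCoh.Ab X) {V W : X.Etale} (s : EtCoh.sect F V) (T : Set V.left)
    (hs : sectSupp F V s ⊆ T) (h : W ⟶ V) (hh : ∀ w : W.left, h.left w ∉ T) :
    F.obj.map h.op s = 0 := by
  apply sect_ext_local
  intro w
  have hw : h.left w ∉ sectSupp F V s := fun hx => hh w (hs hx)
  simp only [sectSupp, Set.mem_ofPred_eq, not_forall, not_not] at hw
  obtain ⟨N, g, ⟨n, hn⟩, h0⟩ := hw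
  obtain ⟨W', p₁, p₂, w', hp, hw1, -⟩ := exists_pullback_point h g w n hn.symm
  refine ⟨W', p₁, w', hw1, ?_⟩
  rw [map_zero]
  change (F.obj.map h.op ≫ F.obj.map p₁.op) s = 0
  rw [← Functor.map_comp, ← op_comp, hp, op_comp, Functor.map_comp]
  change F.obj.map p₂.op (F.obj.map g.op s) = 0
  rw [h0, map_zero]

lemma map_comp_apply (F : EtCoh.Ab X) {V W Y : X.Etale} (f : W ⟶ V) (g : Y ⟶ W)
    (s : EtCoh.sect F V) : F.obj.map (g ≫ f).op s = F.obj.map g.op (F.obj.map f.op s) := by
  rw [op_comp, Functor.map_comp]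
  rfl

lemma mapsTo (F : EtCoh.Ab X) {U U' : X.Etale} (φ : U' ⟶ U) (Z : Set ↥U.left)
    (s : EtCoh.sect F U) (hs : sectSupp F U s ⊆ Z) :
    sectSupp F U' (F.obj.map φ.op s) ⊆ φ.left.base ⁻¹' Z := by
  intro x' hx'
  by_contra hn
  have hx : φ.left x' ∉ sectSupp F U s := fun h => hn (hs h)
  simp only [sectSupp, Set.mem_ofPred_eq, not_forall, not_not] at hx
  obtain ⟨N, g, ⟨n, hn'⟩, h0⟩ := hx
  obtain ⟨W', p₁, p₂, w', hp, hw1, -⟩ := exists_pullback_point φ g x' n hn'.symm
  refine hx' W' p₁ ⟨w', hw1⟩ ?_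
  rw [← map_comp_apply, hp, map_comp_apply, h0, map_zero]

lemma injOn (F : EtCoh.Ab X) {U U' : X.Etale} (φ : U' ⟶ U) (Z : Set ↥U.left)
    (hsurj : Set.SurjOn φ.left.base (φ.left.base ⁻¹' Z) Z)
    (s₁ s₂ : EtCoh.sect F U) (h₁ : sectSupp F U s₁ ⊆ Z) (h₂ : sectSupp F U s₂ ⊆ Z)
    (he : F.obj.map φ.op s₁ = F.obj.map φ.op s₂) : s₁ = s₂ := by
  apply sect_ext_local
  intro x
  by_cases hx : x ∈ Z
  · obtain ⟨x', -, hx'⟩ := hsurj hx
    exact ⟨U', φ, x', hx', he⟩
  · have hx1 : x ∉ sectSupp F U s₁ := fun h => hx (h₁ h)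
    have hx2 : x ∉ sectSupp F U s₂ := fun h => hx (h₂ h)
    simp only [sectSupp, Set.mem_ofPred_eq, not_forall, not_not] at hx1 hx2
    obtain ⟨N₁, g₁, ⟨n₁, hn₁⟩, h01⟩ := hx1
    obtain ⟨N₂, g₂, ⟨n₂, hn₂⟩, h02⟩ := hx2
    obtain ⟨W', p₁, p₂, w', hp, hw1, -⟩ := exists_pullback_point g₁ g₂ n₁ n₂ (hn₁.trans hn₂.symm)
    refine ⟨W', p₁ ≫ g₁, w', ?_, ?_⟩
    · change g₁.left (p₁.left w') = x
      rw [hw1]
      exact hn₁
    · rw [map_comp_apply, h01, map_zero, hp, map_comp_apply, h02, map_zero]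

lemma restrictOpenι_left_apply (V : X.Etale) (O : V.left.Opens) (a : (restrictOpen V O).left) :
    ((restrictOpenι V O).left a : V.left) ∈ O := by
  have m : O.ι a ∈ Set.range O.ι := ⟨_, rfl⟩
  rw [Scheme.Opens.range_ι] at m
  exact m

/-- Claim A: two lifts of the same map to `U` restrict a section supported in `φ⁻¹ Z` equally. -/
lemma claimA (F : EtCoh.Ab X) {U U' : X.Etale} (φ : U' ⟶ U) (Z : Set ↥U.left) (hZ : IsClosed Z)
    (hinj : Set.InjOn φ.left.base (φ.left.base ⁻¹' Z))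
    (hres : ∀ x ∈ φ.left.base ⁻¹' Z, Function.Bijective (φ.left.residueFieldMap x))
    (s' : EtCoh.sect F U') (hs' : sectSupp F U' s' ⊆ φ.left.base ⁻¹' Z)
    {W : X.Etale} (h₁ h₂ : W ⟶ U') (hc : h₁ ≫ φ = h₂ ≫ φ) :
    F.obj.map h₁.op s' = F.obj.map h₂.op s' := by
  have hcl : h₁.left ≫ φ.left = h₂.left ≫ φ.left := congrArg (fun a => a.left) hc
  have hpt : ∀ w : W.left, φ.left (h₁.left w) = φ.left (h₂.left w) := fun w =>
    congrArg (fun f : W.left ⟶ U.left => f w) hcl
  apply sect_ext_local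
  intro w
  by_cases hw : h₁.left w ∈ φ.left.base ⁻¹' Z
  · have hw2 : h₂.left w ∈ φ.left.base ⁻¹' Z := by
      change φ.left (h₂.left w) ∈ Z
      rw [← hpt w]
      exact hw
    have e : h₁.left w = h₂.left w := hinj hw hw2 (hpt w)
    obtain ⟨O, hO, hOe⟩ := EtEqLocus.exists_open_eq φ.left h₁.left h₂.left hcl w e (hres _ hw)
    refine ⟨restrictOpen W O, restrictOpenι W O, ⟨w, hO⟩, rfl, ?_⟩
    have e2 : restrictOpenι W O ≫ h₁ = restrictOpenι W O ≫ h₂ := by
      apply MorphismProperty.Over.Hom.ext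
      exact hOe
    rw [← map_comp_apply, e2, map_comp_apply]
  · let O : W.left.Opens := h₁.left ⁻¹ᵁ (φ.left ⁻¹ᵁ ⟨Zᶜ, hZ.isOpen_compl⟩)
    refine ⟨restrictOpen W O, restrictOpenι W O, ⟨w, hw⟩, rfl, ?_⟩
    rw [← map_comp_apply, ← map_comp_apply]
    rw [restrict_eq_zero F s' _ hs' (restrictOpenι W O ≫ h₁),
      restrict_eq_zero F s' _ hs' (restrictOpenι W O ≫ h₂)]
    · intro a
      have ha := restrictOpenι_left_apply W O a
      change φ.left (h₂.left ((restrictOpenι W O).left a)) ∉ Z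
      rw [← hpt]
      exact ha
    · intro a
      exact restrictOpenι_left_apply W O a

lemma surjOn (F : EtCoh.Ab X) {U U' : X.Etale} (φ : U' ⟶ U) (Z : Set ↥U.left) (hZ : IsClosed Z)
    (hbij : Set.BijOn φ.left.base (φ.left.base ⁻¹' Z) Z)
    (hres : ∀ x ∈ φ.left.base ⁻¹' Z, Function.Bijective (φ.left.residueFieldMap x))
    (s' : EtCoh.sect F U') (hs' : sectSupp F U' s' ⊆ φ.left.base ⁻¹' Z) :
    ∃ s : EtCoh.sect F U, sectSupp F U s ⊆ Z ∧ F.obj.map φ.op s = s' := by
  let Zc : U.left.Opens := ⟨Zᶜ, hZ.isOpen_compl⟩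
  let Y : Bool → X.Etale := fun b => if b then U' else restrictOpen U Zc
  let π : ∀ b, Y b ⟶ U := fun b => match b with
    | true => φ
    | false => restrictOpenι U Zc
  let x : ∀ b, (F.obj ⋙ forget AddCommGrpCat.{u + 1}).obj (op (Y b)) := fun b => match b with
    | true => s'
    | false => (0 : EtCoh.sect F (restrictOpen U Zc))
  have hS : Sieve.generate (Presieve.ofArrows Y π) ∈ X.smallEtaleTopology U := by
    rw [EtSiteBasic.mem_smallEtale_iff]
    intro p
    by_cases hp : p ∈ Z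
    · obtain ⟨p', -, hp'⟩ := hbij.surjOn hp
      exact ⟨U', φ, p', ⟨U', 𝟙 _, φ, Presieve.ofArrows.mk (ι := Bool) true, Category.id_comp _⟩, hp'⟩
    · exact ⟨restrictOpen U Zc, restrictOpenι U Zc, ⟨p, hp⟩,
        ⟨_, 𝟙 _, _, Presieve.ofArrows.mk (ι := Bool) false, Category.id_comp _⟩, rfl⟩
  have hsh : Presieve.IsSheafFor (F.obj ⋙ forget AddCommGrpCat.{u + 1}) (Presieve.ofArrows Y π) := by
    rw [Presieve.isSheafFor_iff_generate]
    exact ((isSheaf_iff_isSheaf_of_type _ _).1
      ((sheafCompose X.smallEtaleTopology (forget AddCommGrpCat.{u + 1})).obj F).2) _ hS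
  rw [Presieve.isSheafFor_arrows_iff] at hsh
  have hvan : ∀ {W : X.Etale} (g : W ⟶ U') (g' : W ⟶ restrictOpen U Zc),
      g ≫ φ = g' ≫ restrictOpenι U Zc → F.obj.map g.op s' = 0 := by
    intro W g g' hgg
    apply restrict_eq_zero F s' _ hs' g
    intro w
    have e1 : φ.left (g.left w) = (restrictOpenι U Zc).left (g'.left w) :=
      congrArg (fun f : W ⟶ U => f.left w) hgg
    change φ.left (g.left w) ∉ Z
    rw [e1]
    exact restrictOpenι_left_apply U Zc _
  have compat : Presieve.Arrows.Compatible (F.obj ⋙ forget AddCommGrpCat.{u + 1}) π x := by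
    intro a b W ga gb hab
    match a, b, ga, gb, hab with
    | true, true, ga, gb, hab => exact claimA F φ Z hZ hbij.injOn hres s' hs' ga gb hab
    | true, false, ga, gb, hab =>
      change F.obj.map ga.op s' = F.obj.map gb.op 0
      rw [map_zero]
      exact hvan ga gb hab
    | false, true, ga, gb, hab =>
      change F.obj.map ga.op 0 = F.obj.map gb.op s'
      rw [map_zero]
      exact (hvan gb ga hab.symm).symm
    | false, false, ga, gb, hab =>
      change F.obj.map ga.op 0 = F.obj.map gb.op 0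
      rw [map_zero, map_zero]
  obtain ⟨s, hs, -⟩ := hsh x compat
  refine ⟨s, ?_, hs true⟩
  intro p hp
  by_contra hpZ
  exact hp (restrictOpen U Zc) (restrictOpenι U Zc) ⟨⟨p, hpZ⟩, rfl⟩ (hs false)

end Groth.Agent.S0728

namespace Groth.Agent.S0728

/-- In the case where the inverse image of Z is Z' (so that the bijection is restriction): let phi : U'
-> U be a morphism of the small etale site of X and Z a closed subset of U such that phi restricted
to the inverse image Z' of Z is a bijection onto Z inducing isomorphisms of residue fields (so Z' ->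
U is a closed immersion with image Z, for the reduced structures). Then restriction along phi is a
bijection from the sections of F over U supported in Z to the sections of F over U' supported in Z'. -/
theorem result {X : Scheme.{u}} (F : EtCoh.Ab X) {U U' : X.Etale}
    (φ : U' ⟶ U) (Z : Set ↥U.left) (hZ : IsClosed Z)
    (hbij : Set.BijOn φ.left.base (φ.left.base ⁻¹' Z) Z)
    (hres : ∀ x ∈ φ.left.base ⁻¹' Z, Function.Bijective (φ.left.residueFieldMap x)) :
    Set.BijOn (F.obj.map φ.op) {s | EtShriek.sectSupp F U s ⊆ Z}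
      {s' | EtShriek.sectSupp F U' s' ⊆ φ.left.base ⁻¹' Z} := by
  refine ⟨fun s hs => mapsTo F φ Z s hs, fun s₁ h₁ s₂ h₂ he => injOn F φ Z hbij.surjOn s₁ s₂ h₁ h₂ he,
    fun s' hs' => ?_⟩
  obtain ⟨s, hs, he⟩ := surjOn F φ Z hZ hbij hres s' hs'
  exact ⟨s, hs, he⟩

end Groth.Agent.S0728
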