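import Groth.Statements.S0072
import Mathlib
import Groth.Prelude.Def_EtBase
import Groth.Agent.Lib.Helper5.Misc.EtStalk
import Groth.Agent.Lib.Helper5.Misc.EtSiteBasic
import Groth.Agent.Lib.Helper5.Misc.EtGlue
import Groth.Agent.Lib.Helper9.FE.FinGeoPt
import Groth.Agent.Lib.Helper9.FE.EtClopenLiftG
import Groth.Agent.Lib.Helper9.FE.FinDisjFib
import Groth.Agent.S0728
-- import your own Groth.Agent.* helpers here

set_option autoImplicit false
open CategoryTheory CategoryTheory.Limits AlgebraicGeometry Opposite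
universe u
open EtBase

namespace Groth.Agent.S0072

open CategoryTheory CategoryTheory.Limits AlgebraicGeometry Opposite
namespace Aux

set_option backward.isDefEq.respectTransparency false
set_option linter.style.haveILetI false
set_option linter.unusedSectionVars false

open Groth.Agent.Lib.Helper5 Groth.Agent.S0728 H9FE

variable {X Y : Scheme.{u}} (f : X ⟶ Y)

lemma bc_map_fst {W W' : Y.Etale} (φ : W ⟶ W') :
    ((EtCoh.bc f).map φ).left ≫ pullback.fst W'.hom f = pullback.fst W.hom f ≫ φ.left := by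
  dsimp [EtCoh.bc]
  exact pullback.lift_fst _ _ _

lemma bc_map_snd {W W' : Y.Etale} (φ : W ⟶ W') :
    ((EtCoh.bc f).map φ).left ≫ pullback.snd W'.hom f = pullback.snd W.hom f := by
  dsimp [EtCoh.bc]
  exact pullback.lift_snd _ _ _

variable {Ω : Type u} [Field Ω] [IsSepClosed Ω] (η : Spec (CommRingCat.of Ω) ⟶ Y)

/-- the geometric point of `X ×_Y V` over `ξ` and a geometric point `v` of `V` over `η` -/
noncomputable def liftPt (ξ : Spec (CommRingCat.of Ω) ⟶ X) (hξ : ξ ≫ f = η) (V : Y.Etale)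
    (v : (Scheme.pointSmallEtale η).fiber.obj V) :
    (Scheme.pointSmallEtale ξ).fiber.obj ((EtCoh.bc f).obj V) :=
  Over.homMk (pullback.lift v.left ξ (by rw [hξ]; exact Over.w v) :
    Spec (CommRingCat.of Ω) ⟶ pullback V.hom f) (pullback.lift_snd _ _ _)

lemma liftPt_left (ξ : Spec (CommRingCat.of Ω) ⟶ X) (hξ : ξ ≫ f = η) (V : Y.Etale)
    (v : (Scheme.pointSmallEtale η).fiber.obj V) :
    (liftPt f η ξ hξ V v).left = pullback.lift v.left ξ (by rw [hξ]; exact Over.w v) := rfl

lemma liftPt_map (ξ : Spec (CommRingCat.of Ω) ⟶ X) (hξ : ξ ≫ f = η) {V V' : Y.Etale}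
    (g : V' ⟶ V) (v' : (Scheme.pointSmallEtale η).fiber.obj V') :
    (Scheme.pointSmallEtale ξ).fiber.map ((EtCoh.bc f).map g) (liftPt f η ξ hξ V' v') =
      liftPt f η ξ hξ V ((Scheme.pointSmallEtale η).fiber.map g v') := by
  apply Over.OverMorphism.ext
  change (liftPt f η ξ hξ V' v').left ≫ ((EtCoh.bc f).map g).left =
    (liftPt f η ξ hξ V ((Scheme.pointSmallEtale η).fiber.map g v')).left
  rw [liftPt_left, liftPt_left]
  apply pullback.hom_ext
  · rw [Category.assoc, bc_map_fst, pullback.lift_fst_assoc, pullback.lift_fst]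
    rfl
  · rw [Category.assoc, bc_map_snd, pullback.lift_snd, pullback.lift_snd]

variable (F : EtCoh.Ab X)

/-- the comparison map from the stalk of `f_* F` at `η` to the stalk of `F` at `ξ` -/
noncomputable def phi (ξ : Spec (CommRingCat.of Ω) ⟶ X) (hξ : ξ ≫ f = η) :
    (EtCoh.stalk η).obj ((EtCoh.push f).obj F) ⟶ (EtCoh.stalk ξ).obj F :=
  (Scheme.pointSmallEtale η).presheafFiberDesc (P := ((EtCoh.push f).obj F).obj)
    (fun V v => (Scheme.pointSmallEtale ξ).toPresheafFiber ((EtCoh.bc f).obj V)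
      (liftPt f η ξ hξ V v) F.obj)
    (by
      intro V' V g v'
      have h1 := (Scheme.pointSmallEtale ξ).toPresheafFiber_w ((EtCoh.bc f).map g)
        (liftPt f η ξ hξ V' v') F.obj
      rw [liftPt_map] at h1
      exact h1)

lemma phi_germ (ξ : Spec (CommRingCat.of Ω) ⟶ X) (hξ : ξ ≫ f = η) (V : Y.Etale)
    (v : (Scheme.pointSmallEtale η).fiber.obj V)
    (s : EtCoh.sect F ((EtCoh.bc f).obj V)) :
    (phi f η F ξ hξ) ((Scheme.pointSmallEtale η).toPresheafFiber V v
      ((EtCoh.push f).obj F).obj s) =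
    (Scheme.pointSmallEtale ξ).toPresheafFiber ((EtCoh.bc f).obj V) (liftPt f η ξ hξ V v) F.obj s := by
  have := ConcreteCategory.congr_hom
    ((Scheme.pointSmallEtale η).toPresheafFiber_presheafFiberDesc
      (P := ((EtCoh.push f).obj F).obj)
      (fun V v => (Scheme.pointSmallEtale ξ).toPresheafFiber ((EtCoh.bc f).obj V)
        (liftPt f η ξ hξ V v) F.obj)
      (by
        intro V' V g v'
        have h1 := (Scheme.pointSmallEtale ξ).toPresheafFiber_w ((EtCoh.bc f).map g)
          (liftPt f η ξ hξ V' v') F.obj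
        rw [liftPt_map] at h1
        exact h1) V v) s
  simp only [ConcreteCategory.comp_apply] at this
  exact this


/-- the lift of a geometric point along a morphism of the small étale site -/
lemma exists_fiber_lift {V V' : Y.Etale} (π : V' ⟶ V)
    (v : (Scheme.pointSmallEtale η).fiber.obj V) (y' : V'.left)
    (hy' : π.left y' = v.left (default : Spec (CommRingCat.of Ω))) :
    ∃ v' : (Scheme.pointSmallEtale η).fiber.obj V',
      (Scheme.pointSmallEtale η).fiber.map π v' = v :=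
  let ⟨y, hy, _⟩ := EtStalk.exists_lift_fiber η π v y' hy'
  ⟨y, hy⟩

theorem phi_injective [IsFinite f] (hac : IsAlgClosed Ω)
    (a : (EtCoh.stalk η).obj ((EtCoh.push f).obj F))
    (ha : ∀ (ξ : Spec (CommRingCat.of Ω) ⟶ X) (hξ : ξ ≫ f = η), phi f η F ξ hξ a = 0) :
    a = 0 := by
  haveI := EtStalk.pfc.{u}
  obtain ⟨V, v, s, rfl⟩ := (Scheme.pointSmallEtale η).toPresheafFiber_jointly_surjective
    (P := ((EtCoh.push f).obj F).obj) a
  let s' : EtCoh.sect F ((EtCoh.bc f).obj V) := s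
  have h1 : ∀ ξ : {ξ : Spec (CommRingCat.of Ω) ⟶ X // ξ ≫ f = η}, ∃ (U : X.Etale)
      (k : U ⟶ (EtCoh.bc f).obj V) (uu : (Scheme.pointSmallEtale ξ.1).fiber.obj U),
      (Scheme.pointSmallEtale ξ.1).fiber.map k uu = liftPt f η ξ.1 ξ.2 V v ∧
        F.obj.map k.op s' = 0 := by
    intro ξ
    have h0 := ha ξ.1 ξ.2
    rw [phi_germ] at h0
    have h0' : (Scheme.pointSmallEtale ξ.1).toPresheafFiber ((EtCoh.bc f).obj V)
        (liftPt f η ξ.1 ξ.2 V v) F.obj s' =
        (Scheme.pointSmallEtale ξ.1).toPresheafFiber ((EtCoh.bc f).obj V)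
        (liftPt f η ξ.1 ξ.2 V v) F.obj 0 := h0.trans (map_zero _).symm
    rw [(Scheme.pointSmallEtale ξ.1).toPresheafFiber_eq_iff'] at h0'
    obtain ⟨U, k, uu, hk, hres⟩ := h0'
    exact ⟨U, k, uu, hk, hres.trans (map_zero _)⟩
  choose U k uu hk hres using h1
  let v₀ : V.left := v.left (default : Spec (CommRingCat.of Ω))
  haveI : IsFinite (pullback.fst V.hom f) := inferInstance
  have hcov : ∀ z : ↑(pullback V.hom f), pullback.fst V.hom f z = v₀ →
      ∃ ξ : {ξ : Spec (CommRingCat.of Ω) ⟶ X // ξ ≫ f = η}, z ∈ Set.range (k ξ).left := by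
    intro z hz
    obtain ⟨ζ, hζ1, hζ2⟩ := @FinGeoPt.exists_lift _ _ (pullback.fst V.hom f) _ Ω _ hac v.left z
      (fun a => by
        rw [hz, Subsingleton.elim a (default : Spec (CommRingCat.of Ω))]
        rfl)
    have hξ : (ζ ≫ pullback.snd V.hom f) ≫ f = η := by
      rw [Category.assoc, ← pullback.condition, ← Category.assoc, hζ1]
      exact Over.w v
    let ξ : {ξ : Spec (CommRingCat.of Ω) ⟶ X // ξ ≫ f = η} := ⟨ζ ≫ pullback.snd V.hom f, hξ⟩
    refine ⟨ξ, ?_⟩
    have e1 : (liftPt f η ξ.1 ξ.2 V v).left = ζ := by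
      rw [liftPt_left]
      apply pullback.hom_ext
      · rw [pullback.lift_fst, hζ1]
      · rw [pullback.lift_snd]
    have e2 : (uu ξ).left ≫ (k ξ).left = ζ := by
      rw [← e1]
      exact congrArg (fun a => a.left) (hk ξ)
    refine ⟨(uu ξ).left (default : Spec (CommRingCat.of Ω)), ?_⟩
    exact (congrArg (fun m => m.base (default : Spec (CommRingCat.of Ω))) e2).trans (hζ2 _)
  obtain ⟨V', p, y', hp, hpy, μ, hμ, O, hdisj, hcovO, hfac⟩ :=
    FinDisjFib.coreB' (pullback.fst V.hom f) v₀ (fun ξ => (U ξ).left) (fun ξ => (k ξ).left)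
      (fun ξ => inferInstance) hcov
  haveI := hp
  haveI : Etale V.hom := V.prop
  let V'o : Y.Etale := EtSiteBasic.ofEtale (p ≫ V.hom)
  let π : V'o ⟶ V := MorphismProperty.Over.homMk p rfl trivial
  obtain ⟨v', hv'⟩ := exists_fiber_lift η π v y' hpy
  have w := ConcreteCategory.congr_hom
    ((Scheme.pointSmallEtale η).toPresheafFiber_w π v' ((EtCoh.push f).obj F).obj) s
  simp only [ConcreteCategory.comp_apply] at w
  have w2 : ((Scheme.pointSmallEtale η).toPresheafFiber V'o v' ((EtCoh.push f).obj F).obj)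
      (((EtCoh.push f).obj F).obj.map π.op s) =
      ((Scheme.pointSmallEtale η).toPresheafFiber V v ((EtCoh.push f).obj F).obj) s := by
    refine w.trans ?_
    exact congrArg (fun z => ((Scheme.pointSmallEtale η).toPresheafFiber V z
      ((EtCoh.push f).obj F).obj) s) hv'
  have hz : ((EtCoh.push f).obj F).obj.map π.op s = 0 := by
    change F.obj.map ((EtCoh.bc f).map π).op s' = 0
    have sq := EtCoh.isPullback_bc_map f π
    let e := sq.isoPullback
    have he1 : e.hom ≫ pullback.fst (pullback.fst V.hom f) p = ((EtCoh.bc f).map π).left :=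
      sq.isoPullback_hom_fst
    apply sect_ext_local
    intro x
    obtain ⟨a, hxa⟩ := hcovO (e.hom x)
    obtain ⟨ξ, h, hh⟩ := hfac a
    let N : X.Etale := restrictOpen ((EtCoh.bc f).obj V'o) (e.hom ⁻¹ᵁ (O a))
    let ν : N ⟶ (EtCoh.bc f).obj V'o := restrictOpenι _ _
    have hrange : Set.range ((e.hom ⁻¹ᵁ (O a)).ι ≫ e.hom).base ⊆ Set.range (O a).ι.base := by
      rintro _ ⟨n, rfl⟩
      rw [Scheme.Opens.range_ι]
      exact n.2
    let r : (N.left : Scheme.{u}) ⟶ ((O a : (pullback (pullback.fst V.hom f) p).Opens) : Scheme.{u}) :=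
      IsOpenImmersion.lift (O a).ι ((e.hom ⁻¹ᵁ (O a)).ι ≫ e.hom) hrange
    have hr : r ≫ (O a).ι = (e.hom ⁻¹ᵁ (O a)).ι ≫ e.hom := IsOpenImmersion.lift_fac _ _ _
    have hk1 : (k ξ).left ≫ pullback.snd V.hom f = (U ξ).hom := Over.w (k ξ).hom
    have hm : (r ≫ h) ≫ (U ξ).hom = N.hom := by
      rw [Category.assoc, ← hk1, ← Category.assoc h, hh, ← Category.assoc, ← Category.assoc, hr,
        Category.assoc, Category.assoc, ← Category.assoc e.hom, he1, bc_map_snd]
      rfl
    let m : N ⟶ U ξ := MorphismProperty.Over.homMk (r ≫ h) hm trivial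
    have hcomp : ν ≫ (EtCoh.bc f).map π = m ≫ k ξ := by
      apply MorphismProperty.Over.Hom.ext
      change (e.hom ⁻¹ᵁ (O a)).ι ≫ ((EtCoh.bc f).map π).left = (r ≫ h) ≫ (k ξ).left
      rw [Category.assoc, hh, ← Category.assoc, hr, Category.assoc, he1]
    refine ⟨N, ν, ⟨x, hxa⟩, rfl, ?_⟩
    rw [map_zero, ← map_comp_apply, hcomp, map_comp_apply, hres ξ, map_zero]
  refine w2.symm.trans ?_
  exact (congrArg _ hz).trans (map_zero _)


omit [IsSepClosed Ω] in
lemma lift_open {Z : Scheme.{u}} (O : Z.Opens) (L : Spec (CommRingCat.of Ω) ⟶ Z)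
    (h : L (default : Spec (CommRingCat.of Ω)) ∈ O) :
    ∃ L' : Spec (CommRingCat.of Ω) ⟶ (O : Scheme.{u}), L' ≫ O.ι = L := by
  have hr : Set.range L.base ⊆ Set.range O.ι.base := by
    rintro _ ⟨a, rfl⟩
    rw [Scheme.Opens.range_ι, Subsingleton.elim a (default : Spec (CommRingCat.of Ω))]
    exact h
  exact ⟨IsOpenImmersion.lift O.ι L hr, IsOpenImmersion.lift_fac _ _ _⟩

/-- gluing a section on a clopen piece with zero on the complement -/
lemma glue_clopen (F : EtCoh.Ab X) (P : X.Etale) (O Oc : P.left.Opens)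
    (hdisj : Disjoint (O : Set P.left) (Oc : Set P.left))
    (hcov : ∀ x : P.left, x ∈ O ∨ x ∈ Oc)
    (x : EtCoh.sect F (restrictOpen P O)) :
    ∃ s : EtCoh.sect F P, F.obj.map (restrictOpenι P O).op s = x ∧
      F.obj.map (restrictOpenι P Oc).op s = 0 := by
  let Fs : EtDesc.Sh X := (sheafCompose X.smallEtaleTopology (forget AddCommGrpCat.{u + 1})).obj F
  let Wf : Bool → X.Etale := fun b => Bool.rec (restrictOpen P Oc) (restrictOpen P O) b
  let wf : ∀ b, Wf b ⟶ P := fun b =>
    Bool.rec (motive := fun b => Wf b ⟶ P) (restrictOpenι P Oc) (restrictOpenι P O) b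
  let xf : ∀ b, Fs.obj.obj (op (Wf b)) := fun b =>
    Bool.rec (motive := fun b => Fs.obj.obj (op (Wf b))) (0 : EtCoh.sect F (restrictOpen P Oc)) x b
  have hrO : Set.range (restrictOpenι P O).left = (O : Set P.left) := by
    change Set.range O.ι = _
    exact Scheme.Opens.range_ι O
  have hrOc : Set.range (restrictOpenι P Oc).left = (Oc : Set P.left) := by
    change Set.range Oc.ι = _
    exact Scheme.Opens.range_ι Oc
  obtain ⟨s, hs⟩ := EtGlue.glue_disjoint Fs Wf wf
    (fun b => by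
      cases b
      · change Mono Oc.ι
        infer_instance
      · change Mono O.ι
        infer_instance)
    (fun a b hab => by
      cases a <;> cases b
      · exact absurd rfl hab
      · change Disjoint (Set.range (restrictOpenι P Oc).left) (Set.range (restrictOpenι P O).left)
        rw [hrO, hrOc]
        exact hdisj.symm
      · change Disjoint (Set.range (restrictOpenι P O).left) (Set.range (restrictOpenι P Oc).left)
        rw [hrO, hrOc]
        exact hdisj
      · exact absurd rfl hab)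
    (fun p => by
      rcases hcov p with h | h
      · refine ⟨true, ?_⟩
        change p ∈ Set.range (restrictOpenι P O).left
        rw [hrO]
        exact h
      · refine ⟨false, ?_⟩
        change p ∈ Set.range (restrictOpenι P Oc).left
        rw [hrOc]
        exact h) xf
  exact ⟨s, hs true, hs false⟩


theorem phi_surj_single [IsFinite f] (ξ₀ : Spec (CommRingCat.of Ω) ⟶ X) (hξ₀ : ξ₀ ≫ f = η)
    (t₀ : (EtCoh.stalk ξ₀).obj F) :
    ∃ a : (EtCoh.stalk η).obj ((EtCoh.push f).obj F), phi f η F ξ₀ hξ₀ a = t₀ ∧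
      ∀ (ξ : Spec (CommRingCat.of Ω) ⟶ X) (hξ : ξ ≫ f = η), ξ ≠ ξ₀ → phi f η F ξ hξ a = 0 := by
  haveI := EtStalk.pfc.{u}
  obtain ⟨U, u, τ, rfl⟩ := (Scheme.pointSmallEtale ξ₀).toPresheafFiber_jointly_surjective
    (P := F.obj) t₀
  haveI : Etale U.hom := U.prop
  obtain ⟨U₀, hU₀, huU₀⟩ : ∃ U₀ : U.left.Opens, IsAffineOpen U₀ ∧
      u.left (default : Spec (CommRingCat.of Ω)) ∈ U₀ := by
    obtain ⟨_, ⟨U₀, hU₀, rfl⟩, hu, -⟩ := U.left.isBasis_affineOpens.exists_subset_of_mem_open
      (Set.mem_univ (u.left (default : Spec (CommRingCat.of Ω)))) isOpen_univ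
    exact ⟨U₀, hU₀, hu⟩
  haveI : IsAffine (U₀ : Scheme.{u}) := hU₀
  let t : (U₀ : Scheme.{u}) ⟶ X := U₀.ι ≫ U.hom
  haveI : LocallyQuasiFinite t := EtClopenLift.locallyQuasiFinite_of_etale t
  obtain ⟨u', hu'⟩ := lift_open U₀ u.left huU₀
  have hu't : u' ≫ t = ξ₀ := by
    rw [← Category.assoc, hu']
    exact Over.w u
  obtain ⟨V, p, v, hp, hv, W, h, hWc, hWh, ⟨c, hc1, hc2⟩, huniq⟩ :=
    EtClopenLiftG.mainG f t u' ((t ≫ f).quasiFiniteAt _)
  haveI := hp
  have hvη : v ≫ p = η := by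
    rw [hv, ← Category.assoc, hu't, hξ₀]
  let Vo : Y.Etale := EtSiteBasic.ofEtale p
  let vpt : (Scheme.pointSmallEtale η).fiber.obj Vo := Over.homMk v hvη
  let XV : X.Etale := (EtCoh.bc f).obj Vo
  let σ : pullback f p ≅ pullback p f := pullbackSymmetry f p
  have hσ1 : σ.hom ≫ pullback.snd p f = pullback.fst f p := pullbackSymmetry_hom_comp_snd f p
  have hσ2 : σ.hom ≫ pullback.fst p f = pullback.snd f p := pullbackSymmetry_hom_comp_fst f p
  have hσ3 : σ.inv ≫ pullback.fst f p = pullback.snd p f := pullbackSymmetry_inv_comp_fst f p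
  have hσ4 : σ.inv ≫ pullback.snd f p = pullback.fst p f := pullbackSymmetry_inv_comp_snd f p
  let W' : XV.left.Opens := σ.inv ⁻¹ᵁ W
  have hW'c : IsClosed (W' : Set XV.left) := hWc.preimage σ.inv.continuous
  let W'c : XV.left.Opens := ⟨(W' : Set XV.left)ᶜ, hW'c.isOpen_compl⟩
  let D : X.Etale := restrictOpen XV W'
  let Dc : X.Etale := restrictOpen XV W'c
  -- the map `D ⟶ U`
  have hrW : Set.range (W'.ι ≫ σ.inv).base ⊆ Set.range W.ι.base := by
    rintro _ ⟨n, rfl⟩
    rw [Scheme.Opens.range_ι]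
    exact n.2
  let rW : (W' : Scheme.{u}) ⟶ (W : Scheme.{u}) := IsOpenImmersion.lift W.ι (W'.ι ≫ σ.inv) hrW
  have hrWf : rW ≫ W.ι = W'.ι ≫ σ.inv := IsOpenImmersion.lift_fac _ _ _
  have hDhom : D.hom = W'.ι ≫ pullback.snd p f := rfl
  have hm : (rW ≫ h ≫ U₀.ι) ≫ U.hom = D.hom := by
    rw [hDhom, Category.assoc, Category.assoc]
    change rW ≫ h ≫ t = _
    rw [hWh, ← Category.assoc, hrWf, Category.assoc, hσ3]
  let hD : D ⟶ U := MorphismProperty.Over.homMk (rW ≫ h ≫ U₀.ι) hm trivial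
  obtain ⟨s, hs1, hs2⟩ := glue_clopen F XV W' W'c
    (by
      rw [Set.disjoint_left]
      intro x hx hxc
      exact hxc hx)
    (fun x => by
      by_cases hx : x ∈ W'
      · exact Or.inl hx
      · exact Or.inr hx)
    (F.obj.map hD.op τ)
  refine ⟨(Scheme.pointSmallEtale η).toPresheafFiber Vo vpt ((EtCoh.push f).obj F).obj s, ?_, ?_⟩
  · rw [phi_germ]
    -- the geometric point in `D`
    have hcW' : (c ≫ W.ι ≫ σ.hom) (default : Spec (CommRingCat.of Ω)) ∈ W' := by
      change σ.inv ((c ≫ W.ι ≫ σ.hom) default) ∈ W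
      rw [← Scheme.Hom.comp_apply]
      simp only [Category.assoc, Iso.hom_inv_id, Category.comp_id]
      rw [Scheme.Hom.comp_apply]
      exact (c default).2
    obtain ⟨c', hc'⟩ := lift_open W' (c ≫ W.ι ≫ σ.hom) hcW'
    have hcξ : c ≫ W.ι ≫ pullback.fst f p = ξ₀ := by
      rw [← hWh, ← Category.assoc, hc1, hu't]
    have hd : c' ≫ D.hom = ξ₀ := by
      rw [hDhom, ← Category.assoc, hc']
      simp only [Category.assoc, hσ1]
      exact hcξ
    let d : (Scheme.pointSmallEtale ξ₀).fiber.obj D := Over.homMk c' hd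
    have hd1 : (Scheme.pointSmallEtale ξ₀).fiber.map (restrictOpenι XV W') d =
        liftPt f η ξ₀ hξ₀ Vo vpt := by
      apply Over.OverMorphism.ext
      change c' ≫ W'.ι = (liftPt f η ξ₀ hξ₀ Vo vpt).left
      rw [liftPt_left, hc']
      apply pullback.hom_ext
      · refine Eq.trans ?_ (pullback.lift_fst _ _ _).symm
        change (c ≫ W.ι ≫ σ.hom) ≫ pullback.fst p f = v
        rw [Category.assoc, Category.assoc, hσ2]
        exact hc2
      · refine Eq.trans ?_ (pullback.lift_snd _ _ _).symm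
        change (c ≫ W.ι ≫ σ.hom) ≫ pullback.snd p f = ξ₀
        rw [Category.assoc, Category.assoc, hσ1]
        exact hcξ
    have hcr : c' ≫ rW = c := by
      apply (cancel_mono W.ι).1
      rw [Category.assoc, hrWf, ← Category.assoc, hc']
      simp only [Category.assoc, Iso.hom_inv_id, Category.comp_id]
    have hd2 : (Scheme.pointSmallEtale ξ₀).fiber.map hD d = u := by
      apply Over.OverMorphism.ext
      change c' ≫ rW ≫ h ≫ U₀.ι = u.left
      rw [← Category.assoc, hcr, ← Category.assoc, hc1, hu']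
    have w1 := ConcreteCategory.congr_hom
      ((Scheme.pointSmallEtale ξ₀).toPresheafFiber_w (restrictOpenι XV W') d F.obj) s
    simp only [ConcreteCategory.comp_apply] at w1
    rw [hd1] at w1
    rw [← w1, hs1]
    have w2 := ConcreteCategory.congr_hom
      ((Scheme.pointSmallEtale ξ₀).toPresheafFiber_w hD d F.obj) τ
    simp only [ConcreteCategory.comp_apply] at w2
    rw [hd2] at w2
    exact w2
  · intro ξ hξ hne
    rw [phi_germ]
    let L : Spec (CommRingCat.of Ω) ⟶ pullback p f := (liftPt f η ξ hξ Vo vpt).left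
    have hL1 : L ≫ pullback.fst p f = v := by
      change (liftPt f η ξ hξ Vo vpt).left ≫ _ = _
      rw [liftPt_left]
      exact pullback.lift_fst _ _ _
    have hL2 : L ≫ pullback.snd p f = ξ := by
      change (liftPt f η ξ hξ Vo vpt).left ≫ _ = _
      rw [liftPt_left]
      exact pullback.lift_snd _ _ _
    have hLc : L (default : Spec (CommRingCat.of Ω)) ∈ W'c := by
      intro hLW
      apply hne
      obtain ⟨c₂', hc₂'⟩ := lift_open W' L hLW
      have e1 : (c₂' ≫ rW) ≫ W.ι ≫ pullback.snd f p = v := by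
        rw [Category.assoc, ← Category.assoc rW, hrWf]
        simp only [Category.assoc, hσ4]
        rw [← Category.assoc, hc₂', hL1]
      have e2 := huniq (c₂' ≫ rW) c e1 hc2
      have hcξ : c ≫ W.ι ≫ pullback.fst f p = ξ₀ := by
        rw [← hWh, ← Category.assoc, hc1, hu't]
      rw [← hL2, ← hc₂', ← hcξ, ← e2]
      simp only [Category.assoc]
      rw [← Category.assoc rW, hrWf]
      simp only [Category.assoc, hσ3]
    obtain ⟨cc, hcc⟩ := lift_open W'c L hLc
    have hDchom : Dc.hom = W'c.ι ≫ pullback.snd p f := rfl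
    have hdc : cc ≫ Dc.hom = ξ := by
      rw [hDchom, ← Category.assoc, hcc, hL2]
    let dc : (Scheme.pointSmallEtale ξ).fiber.obj Dc := Over.homMk cc hdc
    have hdc1 : (Scheme.pointSmallEtale ξ).fiber.map (restrictOpenι XV W'c) dc =
        liftPt f η ξ hξ Vo vpt := by
      apply Over.OverMorphism.ext
      exact hcc
    have w1 := ConcreteCategory.congr_hom
      ((Scheme.pointSmallEtale ξ).toPresheafFiber_w (restrictOpenι XV W'c) dc F.obj) s
    simp only [ConcreteCategory.comp_apply] at w1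
    rw [hdc1] at w1
    rw [← w1, hs2, map_zero]


/-- the stalks over the geometric points above `η` -/
noncomputable abbrev stalkFam :
    {ξ : Spec (CommRingCat.of Ω) ⟶ X // ξ ≫ f = η} → AddCommGrpCat.{u + 1} :=
  fun ξ => (EtCoh.stalk ξ.1).obj F

noncomputable def psi :
    (EtCoh.stalk η).obj ((EtCoh.push f).obj F) ⟶ ∏ᶜ (stalkFam f η F) :=
  Pi.lift (fun ξ => phi f η F ξ.1 ξ.2)

lemma psi_π (ξ : {ξ : Spec (CommRingCat.of Ω) ⟶ X // ξ ≫ f = η}) :
    psi f η F ≫ Pi.π (stalkFam f η F) ξ = phi f η F ξ.1 ξ.2 :=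
  Pi.lift_π _ _

lemma psi_π_apply (ξ : {ξ : Spec (CommRingCat.of Ω) ⟶ X // ξ ≫ f = η})
    (x : (EtCoh.stalk η).obj ((EtCoh.push f).obj F)) :
    (Pi.π (stalkFam f η F) ξ) (psi f η F x) = phi f η F ξ.1 ξ.2 x := by
  rw [← psi_π]
  rfl

theorem main [IsFinite f] (hac : IsAlgClosed Ω) :
    Nonempty ((EtCoh.stalk η).obj ((EtCoh.push f).obj F) ≅
      ∐ fun ξ : {ξ : Spec (CommRingCat.of Ω) ⟶ X // ξ ≫ f = η} => (EtCoh.stalk ξ.1).obj F) := by
  classical
  haveI : Finite {ξ : Spec (CommRingCat.of Ω) ⟶ X // ξ ≫ f = η} := FinGeoPt.finite_lifts f η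
  haveI : Fintype {ξ : Spec (CommRingCat.of Ω) ⟶ X // ξ ≫ f = η} := Fintype.ofFinite _
  have hinj : Function.Injective (psi f η F) := by
    rw [injective_iff_map_eq_zero]
    intro x hx
    apply phi_injective f η F hac x
    intro ξ hξ
    rw [← psi_π_apply f η F ⟨ξ, hξ⟩ x, hx, map_zero]
  have hsurj : Function.Surjective (psi f η F) := by
    intro y
    have hex := fun ξ : {ξ : Spec (CommRingCat.of Ω) ⟶ X // ξ ≫ f = η} =>
      phi_surj_single f η F ξ.1 ξ.2 ((Pi.π (stalkFam f η F) ξ) y)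
    choose a ha1 ha2 using hex
    refine ⟨∑ ξ, a ξ, ?_⟩
    apply Concrete.limit_ext
    rintro ⟨ξ'⟩
    change (Pi.π (stalkFam f η F) ξ') (psi f η F (∑ ξ, a ξ)) = (Pi.π (stalkFam f η F) ξ') y
    rw [psi_π_apply, map_sum, Finset.sum_eq_single ξ']
    · exact ha1 ξ'
    · intro ξ _ hne
      exact ha2 ξ ξ'.1 ξ'.2 (fun h => hne (Subtype.ext h).symm)
    · intro h
      exact absurd (Finset.mem_univ _) h
  haveI : IsIso (psi f η F) := (ConcreteCategory.isIso_iff_bijective (psi f η F)).2 ⟨hinj, hsurj⟩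
  exact ⟨asIso (psi f η F) ≪≫ (biproduct.isoProduct (stalkFam f η F)).symm ≪≫
    biproduct.isoCoproduct (stalkFam f η F)⟩

end Aux

/-- Let f : X → Y be a finite morphism of schemes, F an abelian sheaf on X_ét, and η : Spec Ω → Y a
geometric point with Ω algebraically closed. Then the stalk (f_*F)_η is isomorphic to the direct sum
of the stalks F_ξ over the geometric points ξ : Spec Ω → X lying over η (those with f ∘ ξ = η). Only
the existence of an isomorphism is asserted; the published statement gives a canonical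
identification. -/
theorem result {X Y : Scheme.{u}} (f : X ⟶ Y) [IsFinite f] [EtCoh.BCCont f]
    (F : EtCoh.Ab X) {Ω : Type u} [Field Ω] [IsAlgClosed Ω] (η : Spec (CommRingCat.of Ω) ⟶ Y) :
    Nonempty ((EtCoh.stalk η).obj ((EtCoh.push f).obj F) ≅
      ∐ fun ξ : {ξ : Spec (CommRingCat.of Ω) ⟶ X // ξ ≫ f = η} => (EtCoh.stalk ξ.1).obj F) := by
  exact Aux.main f η F inferInstance

end Groth.Agent.S0072
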