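import Groth.Statements.S6687
import Mathlib
import Groth.Agent.S6185
import Groth.Agent.S6184
import Groth.Agent.Lib.Helper5.Misc.UnitIsoFF

set_option autoImplicit false
universe u
open CategoryTheory CategoryTheory.Limits AlgebraicGeometry Opposite
open BigSite

open Groth.Agent.Lib.Helper5.Misc

namespace Groth.Agent.S6687

variable {T S : Scheme.{u}} (f : T ⟶ S)

/-- Covariant Ext is invariant under isomorphisms in the second variable. -/
noncomputable def extCongrRight {A : Type*} [Category A] [Abelian A] [HasExt A]
    (X : A) {Y Y' : A} (e : Y ≅ Y') (n : ℕ) : Abelian.Ext X Y n ≃+ Abelian.Ext X Y' n where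
  toFun := (Abelian.Ext.mk₀ e.hom).postcomp X (add_zero n)
  invFun := (Abelian.Ext.mk₀ e.inv).postcomp X (add_zero n)
  left_inv x := by simp
  right_inv x := by simp
  map_add' x y := by simp

/-- right adjoints agree -/
noncomputable def rightIso :
    BigSite.pushBig Scheme.etalePrecoverage f AddCommGrpCat.{u+1} ⋙
      BigSite.resEt Scheme.etalePrecoverage S ≅
    BigSite.resEt Scheme.etalePrecoverage T ⋙ EtCoh.push f :=
  Iso.refl _

/-- the two composite left adjoints agree -/
noncomputable def leftIso :
    BigSite.piEtPull Scheme.etalePrecoverage S ⋙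
      BigSite.pullBig Scheme.etalePrecoverage f AddCommGrpCat.{u+1} ≅
    EtCoh.pull f ⋙ BigSite.piEtPull Scheme.etalePrecoverage T :=
  Adjunction.leftAdjointUniq
    (((BigSite.piEtAdj Scheme.etalePrecoverage S).comp
      (BigSite.bigAdj Scheme.etalePrecoverage f AddCommGrpCat.{u+1})).ofNatIsoRight (rightIso f))
    ((EtCoh.pullPushAdj f).comp (BigSite.piEtAdj Scheme.etalePrecoverage T))

theorem main (n : ℕ) (F : EtCoh.Ab S) :
    Nonempty (BigSite.HU Scheme.etalePrecoverage
      ((BigSite.piEtPull Scheme.etalePrecoverage S).obj F) n (Over.mk f) ≃+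
      EtCoh.H T ((EtCoh.pull f).obj F) n) := by
  -- step 1: replace the big sheaf
  let G : BigSite.Ab Scheme.etalePrecoverage T :=
    (BigSite.piEtPull Scheme.etalePrecoverage T).obj ((EtCoh.pull f).obj F)
  have e1 : BigSite.HU Scheme.etalePrecoverage
      ((BigSite.piEtPull Scheme.etalePrecoverage S).obj F) n (Over.mk f) ≃+
      BigSite.H Scheme.etalePrecoverage T G n :=
    extCongrRight _ ((leftIso f).app F) n
  obtain ⟨e2⟩ := Groth.Agent.S6185.result T G n
  have hu : IsIso ((BigSite.piEtAdj Scheme.etalePrecoverage T).unit.app ((EtCoh.pull f).obj F)) :=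
    (Groth.Agent.S6184.result T).2 _
  have e3 : EtCoh.H T ((EtCoh.pull f).obj F) n ≃+
      EtCoh.H T ((BigSite.resEt Scheme.etalePrecoverage T).obj G) n :=
    extCongrRight _ (asIso ((BigSite.piEtAdj Scheme.etalePrecoverage T).unit.app
      ((EtCoh.pull f).obj F))) n
  exact ⟨e1.trans (e2.symm.trans e3.symm)⟩

end Groth.Agent.S6687

namespace Groth.Agent.S6687

/-- Let f : T → S be a morphism of schemes, F an abelian sheaf on the small etale site of S and n ≥ 0.
Write π_S⁻¹ F for the pullback of F to the big etale site of S. Then the cohomology of π_S⁻¹ F over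
the object (T → S) of the big site is isomorphic to H^n(T_et, f⁻¹ F). (Existence of an isomorphism
of abelian groups only; the published statement identifies the two through the restriction of π_S⁻¹
F to the small etale site of T, which is f⁻¹ F.) -/
theorem result {T S : Scheme.{u}} (f : T ⟶ S) (n : ℕ) (F : EtCoh.Ab S) :
    Nonempty (BigSite.HU Scheme.etalePrecoverage ((BigSite.piEtPull Scheme.etalePrecoverage S).obj F) n (Over.mk f) ≃+
      EtCoh.H T ((EtCoh.pull f).obj F) n) := by
  exact main f n F

end Groth.Agent.S6687
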