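import Groth.Statements.S0071
import Mathlib
import Groth.Statements.S0071
import Groth.Agent.Lib.Helper9.FE.FinPush
-- import your own Groth.Agent.* helpers here

set_option autoImplicit false
open CategoryTheory CategoryTheory.Limits AlgebraicGeometry Opposite
universe u
open EtBase

namespace Groth.Agent.S0071

open CategoryTheory CategoryTheory.Limits AlgebraicGeometry Opposite
namespace Aux
set_option linter.style.haveILetI false
set_option linter.unusedSectionVars false
set_option backward.isDefEq.respectTransparency false

universe v₁ v₂ u₁ u₂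

theorem isZero_rightDerived_of_exact {C : Type u₁} [Category.{v₁} C] [Abelian C]
    {D : Type u₂} [Category.{v₂} D] [Abelian D] [HasInjectiveResolutions C] (F : C ⥤ D)
    [F.Additive] [PreservesFiniteLimits F] [PreservesFiniteColimits F] (X : C) (n : ℕ) :
    IsZero ((F.rightDerived (n + 1)).obj X) := by
  let I : InjectiveResolution X := (HasInjectiveResolutions.out X).out.some
  refine IsZero.of_iso ?_ (I.isoRightDerivedObj F (n + 1))
  erw [← HomologicalComplex.exactAt_iff_isZero_homology]
  have h := I.cocomplex_exactAt_succ n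
  rw [HomologicalComplex.exactAt_iff] at h ⊢
  exact h.map F

theorem preservesFiniteColimits_of_epi {C : Type u₁} [Category.{v₁} C] [Abelian C]
    {D : Type u₂} [Category.{v₂} D] [Abelian D] (F : C ⥤ D)
    [F.Additive] [PreservesFiniteLimits F] [F.PreservesEpimorphisms] :
    PreservesFiniteColimits F := by
  apply ((Functor.preservesFiniteColimits_tfae F).out 0 3).mp
  intro S hS
  have h30 := ((Functor.preservesFiniteLimits_tfae F).out 3 0).mp (inferInstance : PreservesFiniteLimits F)
  refine ⟨(h30 S hS).1, ?_⟩
  haveI := hS.epi_g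
  infer_instance

theorem main {X Y : Scheme.{u}} (f : X ⟶ Y) [IsFinite f] [EtCoh.BCCont f]
    (F : EtCoh.Ab X) (q : ℕ) (hq : 1 ≤ q) : IsZero ((EtCoh.Rpush f q).obj F) := by
  obtain ⟨n, rfl⟩ := Nat.exists_eq_succ_of_ne_zero (by omega : q ≠ 0)
  haveI : (EtCoh.push f).PreservesEpimorphisms :=
    H9FE.FinPush.preservesEpimorphisms_of_isFinite f
  haveI : PreservesLimitsOfSize.{u + 1, u + 1} (EtCoh.push f) :=
    (EtCoh.pullPushAdj f).rightAdjoint_preservesLimits
  haveI : PreservesFiniteLimits (EtCoh.push f) := PreservesLimitsOfSize.preservesFiniteLimits _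
  haveI : PreservesFiniteColimits (EtCoh.push f) := preservesFiniteColimits_of_epi _
  exact isZero_rightDerived_of_exact (EtCoh.push f) F n

end Aux

/-- Part (2) — higher direct images of an abelian étale sheaf along a finite morphism vanish in positive
degrees. -/
theorem result {X Y : Scheme.{u}} (f : X ⟶ Y) [IsFinite f] [EtCoh.BCCont f]
    (F : EtCoh.Ab X) (q : ℕ) (hq : 1 ≤ q) : IsZero ((EtCoh.Rpush f q).obj F) := by
  exact Aux.main f F q hq

end Groth.Agent.S0071
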