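import Groth.Statements.S3054
import Mathlib
import Groth.Statements.S3054
import Groth.Agent.Lib.Helper9.FE.IntDisj
import Groth.Agent.S0071
-- import your own Groth.Agent.* helpers here

set_option autoImplicit false
open CategoryTheory CategoryTheory.Limits AlgebraicGeometry Opposite
universe u
open EtDesc

namespace Groth.Agent.S3054

open CategoryTheory CategoryTheory.Limits AlgebraicGeometry Opposite
namespace Aux
set_option linter.style.haveILetI false
set_option linter.unusedSectionVars false
set_option backward.isDefEq.respectTransparency false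

theorem exact {X Y : Scheme.{u}} (f : X ⟶ Y) [IsIntegralHom f] :
    PreservesFiniteLimits (EtCoh.push f) ∧ PreservesFiniteColimits (EtCoh.push f) := by
  haveI : (EtCoh.push f).PreservesEpimorphisms :=
    H9FE.IntDisj.preservesEpimorphisms_of_isIntegralHom f
  haveI : PreservesLimitsOfSize.{u + 1, u + 1} (EtCoh.push f) :=
    (EtCoh.pullPushAdj f).rightAdjoint_preservesLimits
  haveI : PreservesFiniteLimits (EtCoh.push f) := PreservesLimitsOfSize.preservesFiniteLimits _
  exact ⟨inferInstance, Groth.Agent.S0071.Aux.preservesFiniteColimits_of_epi _⟩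

theorem main {X Y : Scheme.{u}} (f : X ⟶ Y) [IsIntegralHom f] (F : EtCoh.Ab X)
    (q : ℕ) (hq : 0 < q) : IsZero ((EtCoh.Rpush f q).obj F) := by
  obtain ⟨n, rfl⟩ := Nat.exists_eq_succ_of_ne_zero (by omega : q ≠ 0)
  obtain ⟨h1, h2⟩ := exact f
  exact Groth.Agent.S0071.Aux.isZero_rightDerived_of_exact (EtCoh.push f) F n

end Aux

/-- For an integral morphism of schemes f : X -> Y and an abelian sheaf F on X_et, R^q f_* F = 0 for
every q > 0. -/
theorem result {X Y : Scheme.{u}} (f : X ⟶ Y) [IsIntegralHom f] (F : EtCoh.Ab X)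
    (q : ℕ) (hq : 0 < q) : IsZero ((EtCoh.Rpush f q).obj F) := by
  exact Aux.main f F q hq

end Groth.Agent.S3054
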