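import Groth.Statements.S6686
import Mathlib
import Groth.Agent.S6697
import Groth.Agent.S6185
import Groth.Agent.S12465
import Groth.Agent.S12464
import Groth.Agent.Lib.Helper5.Misc.RDComp
import Groth.Agent.Lib.Helper5.Misc.OverBC

set_option autoImplicit false
universe u
open CategoryTheory CategoryTheory.Limits AlgebraicGeometry Opposite
open BigSite

open Groth.Agent.Lib.Helper5.Misc

namespace Groth.Agent.S6686

variable {T S : Scheme.{u}} (f : T ⟶ S)

instance : (BigSite.pullBig Scheme.etalePrecoverage f AddCommGrpCat.{u + 1}).IsRightAdjoint :=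
  (BigSite.shriekAbAdj Scheme.etalePrecoverage f).isRightAdjoint

instance : (BigSite.pullBig Scheme.etalePrecoverage f AddCommGrpCat.{u + 1}).IsLeftAdjoint :=
  (BigSite.bigAdj Scheme.etalePrecoverage f AddCommGrpCat.{u + 1}).isLeftAdjoint

instance : (BigSite.pullBig Scheme.etalePrecoverage f
    AddCommGrpCat.{u + 1}).PreservesInjectiveObjects :=
  Functor.preservesInjectiveObjects_of_adjunction_of_preservesMonomorphisms
    (BigSite.shriekAbAdj Scheme.etalePrecoverage f)

instance (X : Scheme.{u}) : (BigSite.resEt Scheme.etalePrecoverage X).PreservesInjectiveObjects :=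
  Functor.preservesInjectiveObjects_of_adjunction_of_preservesMonomorphisms
    (BigSite.piEtAdj Scheme.etalePrecoverage X)

instance : (BigSite.resEtAlong Scheme.etalePrecoverage f).PreservesInjectiveObjects :=
  Functor.preservesInjectiveObjects_comp _ _

instance : (BigSite.resEtAlong Scheme.etalePrecoverage f).PreservesHomology := inferInstance

theorem main {T S T' S' : Scheme.{u}} (f : T ⟶ S) (g : S' ⟶ S)
    (g' : T' ⟶ T) (f' : T' ⟶ S') (c : IsPullback g' f' f g)
    (F : BigSite.Ab Scheme.etalePrecoverage T) (q : ℕ) :
    Nonempty ((BigSite.resEtAlong Scheme.etalePrecoverage g).obj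
        ((BigSite.RpushBig Scheme.etalePrecoverage f q).obj F) ≅
      (EtCoh.Rpush f' q).obj ((BigSite.resEtAlong Scheme.etalePrecoverage g').obj F)) := by
  obtain ⟨e⟩ := Groth.Agent.S12465.result f g g' f' c
  exact ⟨(RDComp.postIso (BigSite.pushBig Scheme.etalePrecoverage f AddCommGrpCat.{u + 1})
      (BigSite.resEtAlong Scheme.etalePrecoverage g) F q).symm ≪≫
    (RDComp.natIso e q).app F ≪≫
    RDComp.preIso (BigSite.resEtAlong Scheme.etalePrecoverage g') (EtCoh.push f') F q⟩

end Groth.Agent.S6686

namespace Groth.Agent.S6686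

/-- Part (3): for an abelian sheaf and degree by degree: let f : T → S be a morphism of schemes, g : S'
→ S a scheme over S and T' = S' ×_S T with projections g' : T' → T and f' : T' → S'. For an abelian
sheaf F on the big etale site of T and every q ≥ 0, the restriction i_g⁻¹ (R^q f_{big,*} F) to the
small etale site of S' is isomorphic to R^q f'_{small,*} (i_{g'}⁻¹ F), where i_h⁻¹ restricts a
big-etale sheaf over a base to the small etale site of a scheme h over that base. (Existence of an
isomorphism only: the comparison map is not constructed here. For g the identity of S this gives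
(R^q f_{big,*} F)|_{S_et} ≅ R^q f_{small,*} (F|_{T_et}).) -/
theorem result {T S T' S' : Scheme.{u}} (f : T ⟶ S) (g : S' ⟶ S)
    (g' : T' ⟶ T) (f' : T' ⟶ S') (c : IsPullback g' f' f g) (F : BigSite.Ab Scheme.etalePrecoverage T) (q : ℕ) :
    Nonempty ((BigSite.resEtAlong Scheme.etalePrecoverage g).obj ((BigSite.RpushBig Scheme.etalePrecoverage f q).obj F) ≅
      (EtCoh.Rpush f' q).obj ((BigSite.resEtAlong Scheme.etalePrecoverage g').obj F)) := by
  exact main f g g' f' c F q

end Groth.Agent.S6686
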