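import Groth.Statements.S9075
import Groth.Agent.Lib.Helper3.TwoTop3
import Groth.Agent.Lib.Helper3.TwoTop4

set_option autoImplicit false
universe u
open CategoryTheory CategoryTheory.Limits Opposite
open SiteCmp

namespace Groth.Agent.S9075

/-- Setting (two topologies τ' coarser than τ on a category C, rendered as J' ≤ J with J the finer one;
for each object X the comparison morphism ε_X between the localised sites C_τ/X and C_τ'/X, whose
direct image ε_{X,*} regards a τ-sheaf as a τ'-sheaf): P is a class of arrows of C and for every X a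
weak Serre subcategory A'_X of the abelian τ'-sheaves on C/X is given, such that (1) arrows of P
admit all base changes and these stay in P; (2) restriction along any f : X → Y sends A'_Y into
A'_X; (3) members of A'_X satisfy the sheaf condition for τ; (4) for f : X → Y in P the higher
direct images R^i f_{τ',*} (right derived functors of the relocalisation pushforward on τ'-sheaves)
send A'_X into A'_Y for all i ≥ 0; (5) every τ-covering of any U is refined by a family obtained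
from a τ'-covering {V_j → U}, single arrows W_j → V_j in P that are τ-coverings, and τ'-coverings
{W_jk → W_j}. Write A_X for the abelian τ-sheaves F on C/X with ε_{X,*}F in A'_X. Let f : X → Y be
in P such that {X → Y} is a τ-covering, F' in A'_Y, n ≥ 0, and θ ∈ H^{n+1}_{τ'}(X, F') a class whose
two restrictions to X ×_Y X coincide. Then there is a τ'-covering {Y_i → Y} such that θ restricts to
zero in H^{n+1}_{τ'}(Y_i ×_Y X, F') for every i. Cohomology over an object Z → Y of C/Y is that of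
the τ'-sheaf F' on the localised site at that object; fibre products are expressed through pullback
squares. -/
theorem result
    {C : Type u} [SmallCategory C] {J J' : GrothendieckTopology C} (h : J' ≤ J)
    (P : MorphismProperty C)
    (A' : ∀ X : C, ObjectProperty (Sheaf (J'.over X) AddCommGrpCat.{u})) [∀ X : C, WSerre.IsWeakSerre (A' X)]
    (h1 : ∀ ⦃X Y : C⦄ (f : X ⟶ Y), P f → ∀ ⦃Y' : C⦄ (g : Y' ⟶ Y),
      ∃ (W : C) (p : W ⟶ Y') (q : W ⟶ X), IsPullback p q g f ∧ P p)
    (h2 : ∀ ⦃X Y : C⦄ (f : X ⟶ Y) (F' : Sheaf (J'.over Y) AddCommGrpCat.{u}), A' Y F' →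
      A' X ((CohSite.push (J'.over Y) (J'.over X) (Over.map f)).obj F'))
    (h3 : ∀ (X : C) (F' : Sheaf (J'.over X) AddCommGrpCat.{u}), A' X F' → Presheaf.IsSheaf (J.over X) F'.obj)
    (h4 : ∀ ⦃X Y : C⦄ (f : X ⟶ Y)
      [((Over.map f).sheafPushforwardCocontinuous AddCommGrpCat.{u} (J'.over X) (J'.over Y)).Additive],
      P f → ∀ (F' : Sheaf (J'.over X) AddCommGrpCat.{u}), A' X F' → ∀ i : ℕ,
        A' Y ((((Over.map f).sheafPushforwardCocontinuous AddCommGrpCat.{u} (J'.over X) (J'.over Y)).rightDerived i).obj F'))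
    (h5 : ∀ (U : C) (S : Sieve U), S ∈ J U → ∃ (ι : Type u) (V : ι → C) (v : ∀ j, V j ⟶ U),
      Sieve.ofArrows V v ∈ J' U ∧ ∀ j, ∃ (W : C) (w : W ⟶ V j), P w ∧
        Sieve.ofArrows (fun _ : PUnit.{u + 1} => W) (fun _ => w) ∈ J (V j) ∧
        ∃ (κ : Type u) (Wk : κ → C) (wk : ∀ k, Wk k ⟶ W), Sieve.ofArrows Wk wk ∈ J' W ∧
          ∀ k, S.arrows (wk k ≫ w ≫ v j))
    {X Y : C} (f : X ⟶ Y) (hf : P f) (hcov : Sieve.ofArrows (fun _ : PUnit.{u + 1} => X) (fun _ => f) ∈ J Y)
    (F' : Sheaf (J'.over Y) AddCommGrpCat.{u}) (hF' : A' Y F') (n : ℕ)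
    (θ : CohSite.HU F' (n + 1) (Over.mk f))
    (hθ : ∀ (W : C) (p q : W ⟶ X) (hW : IsPullback p q f f),
      CohSite.res F' (n + 1) (Over.homMk p rfl : Over.mk (p ≫ f) ⟶ Over.mk f) θ =
        CohSite.res F' (n + 1) (Over.homMk q hW.w.symm : Over.mk (p ≫ f) ⟶ Over.mk f) θ) :
    ∃ (ι : Type u) (Z : ι → C) (g : ∀ i, Z i ⟶ Y), Sieve.ofArrows Z g ∈ J' Y ∧
      ∀ (i : ι) (W : C) (p : W ⟶ Z i) (q : W ⟶ X), IsPullback p q (g i) f →
        CohSite.res F' (n + 1) (Over.homMk q rfl : Over.mk (q ≫ f) ⟶ Over.mk f) θ = 0 := by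
  classical
  haveI : HasPullbacksAlong f := fun g => by
    obtain ⟨W, p, q, hp, _⟩ := h1 f hf g
    exact hp.hasPullback
  let ℋ : (Over Y)ᵒᵖ ⥤ AddCommGrpCat.{u} := F'.cohomologyPresheaf (n + 1)
  let vu : Over Y ⥤ Over Y := Over.pullback f ⋙ Over.map f
  let Q : (Over Y)ᵒᵖ ⥤ AddCommGrpCat.{u} := vu.op ⋙ ℋ
  obtain ⟨e⟩ := Groth.Agent.Helper3.TwoTop4.nonempty_iso_sheafify J' f F' (n + 1)
  have hG : A' X ((Groth.Agent.Helper3.TwoTop4.restr J' f).obj F') := h2 f F' hF'
  have hR : A' Y (((Groth.Agent.Helper3.TwoTop4.fstar J' f).rightDerived (n + 1)).obj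
      ((Groth.Agent.Helper3.TwoTop4.restr J' f).obj F')) := h4 f hf _ hG (n + 1)
  have hsh : Presheaf.IsSheaf (J.over Y)
      ((presheafToSheaf (J'.over Y) AddCommGrpCat.{u}).obj Q).obj :=
    (Presheaf.isSheaf_of_iso_iff ((sheafToPresheaf _ _).mapIso e)).1 (h3 Y _ hR)
  let c := (Over.mapPullbackAdj f).counit
  let pt : Over Y := Over.mk (𝟙 Y)
  let ι₀ : vu.obj pt ⟶ Over.mk f := Over.homMk (pullback.snd (𝟙 Y) f) rfl
  let θ' : Q.obj (op pt) := ℋ.map ι₀.op θ
  let ts := toSheafify (J'.over Y) Q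
  let fb : Over.mk f ⟶ pt := Over.homMk f (by simp [pt])
  -- θ is locally zero
  obtain ⟨S₁, hS₁, hθ₁⟩ := Groth.Agent.Helper3.TwoTop3.locZero_cohomology F' n θ
  -- the restriction of θ' to `Over.mk f` is the pullback of θ along the first projection
  have key : Q.map fb.op θ' = ℋ.map (c.app (Over.mk f)).op θ := by
    have hW := IsPullback.of_hasPullback f f
    have h0 := hθ (pullback f f) (pullback.fst f f) (pullback.snd f f) hW
    let κ : vu.obj (Over.mk f) ⟶ Over.mk (pullback.fst f f ≫ f) :=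
      Over.homMk (𝟙 _) (by simp [vu, pullback.condition])
    have e1 : κ ≫ (Over.homMk (pullback.fst f f) rfl : Over.mk (pullback.fst f f ≫ f) ⟶ Over.mk f) =
        c.app (Over.mk f) := by
      ext
      simp [κ, c]
    have e2 : κ ≫ (Over.homMk (pullback.snd f f) hW.w.symm :
        Over.mk (pullback.fst f f ≫ f) ⟶ Over.mk f) = vu.map fb ≫ ι₀ := by
      ext
      simp only [κ, vu, ι₀, fb, Over.comp_left, Over.homMk_left, Functor.comp_map, Over.map_map_left,
        Over.pullback_map_left, Category.id_comp]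
      erw [pullback.lift_snd]
      rfl
    have h1 := congrArg (fun z => ℋ.map κ.op z) h0
    change ℋ.map κ.op (ℋ.map (Over.homMk (pullback.fst f f) rfl :
        Over.mk (pullback.fst f f ≫ f) ⟶ Over.mk f).op θ) =
      ℋ.map κ.op (ℋ.map (Over.homMk (pullback.snd f f) hW.w.symm :
        Over.mk (pullback.fst f f ≫ f) ⟶ Over.mk f).op θ) at h1
    rw [← ConcreteCategory.comp_apply, ← ConcreteCategory.comp_apply, ← ℋ.map_comp, ← ℋ.map_comp,
      ← op_comp, ← op_comp, e1, e2] at h1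
    change ℋ.map (vu.map fb).op (ℋ.map ι₀.op θ) = _
    rw [← ConcreteCategory.comp_apply, ← ℋ.map_comp, ← op_comp]
    exact h1.symm
  have hloc : Groth.Agent.Helper3.TwoTop3.LocZero (J'.over Y) Q (Q.map fb.op θ') := by
    rw [key]
    refine ⟨S₁, hS₁, fun T t ht => ?_⟩
    change ℋ.map (vu.map t).op (ℋ.map (c.app (Over.mk f)).op θ) = 0
    rw [← ConcreteCategory.comp_apply, ← ℋ.map_comp, ← op_comp, c.naturality t, op_comp, ℋ.map_comp,
      ConcreteCategory.comp_apply]
    change ℋ.map (c.app T).op (ℋ.map t.op θ) = 0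
    rw [hθ₁ t ht, map_zero]
  -- σ = 0
  have hσ : ts.app (op pt) θ' = 0 := by
    have hSf : Sieve.ofArrows (fun _ : PUnit.{u + 1} => Over.mk f) (fun _ => fb) ∈ J.over Y pt := by
      rw [GrothendieckTopology.mem_over_iff, Sieve.overEquiv_ofArrows]
      exact hcov
    refine Groth.Agent.Helper3.TwoTop3.sep_ext hsh hSf _ 0 (fun T t ht => ?_)
    obtain ⟨_, t', rfl⟩ := (Sieve.mem_ofArrows_iff _ _ _).1 ht
    rw [map_zero, op_comp, Functor.map_comp, ConcreteCategory.comp_apply]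
    have h2 : ((presheafToSheaf (J'.over Y) AddCommGrpCat.{u}).obj Q).obj.map fb.op
        (ts.app (op pt) θ') = 0 := by
      rw [← NatTrans.naturality_apply]
      exact hloc.toSheafify_eq_zero
    rw [h2, map_zero]
  obtain ⟨S₂, hS₂, hθ₂⟩ := Groth.Agent.Helper3.TwoTop3.locZero_of_toSheafify hσ
  have hS₂' : Sieve.overEquiv pt S₂ ∈ J' Y := (GrothendieckTopology.mem_over_iff _ _).1 hS₂
  refine ⟨(Σ W : C, {g : W ⟶ Y // (Sieve.overEquiv pt S₂) g}), fun i => i.1, fun i => i.2.1,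
    ?_, ?_⟩
  · refine J'.superset_covering ?_ hS₂'
    intro W g hg
    exact (Sieve.mem_ofArrows_iff _ _ _).2 ⟨⟨W, g, hg⟩, 𝟙 W, (Category.id_comp g).symm⟩
  · rintro ⟨Z, g, hg⟩ W p q hpb
    have hg' : S₂ (Over.homMk g : Over.mk (g ≫ pt.hom) ⟶ pt) := (Sieve.overEquiv_iff S₂ g).1 hg
    have h3' := hθ₂ _ hg'
    -- h3' : Q.map (homMk g).op θ' = 0
    have hpb' : IsPullback p q (g ≫ pt.hom) f := by
      simpa [pt] using hpb
    let φ : Over.mk (q ≫ f) ⟶ vu.obj (Over.mk (g ≫ pt.hom)) :=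
      Over.homMk hpb'.isoPullback.hom (by simp [vu, pt])
    have e3 : φ ≫ (vu.map (Over.homMk g : Over.mk (g ≫ pt.hom) ⟶ pt) ≫ ι₀) =
        (Over.homMk q rfl : Over.mk (q ≫ f) ⟶ Over.mk f) := by
      ext
      simp only [φ, vu, ι₀, pt, Over.comp_left, Over.homMk_left, Functor.comp_map, Over.map_map_left,
        Over.pullback_map_left]
      erw [pullback.lift_snd, IsPullback.isoPullback_hom_snd]
    change ℋ.map (vu.map (Over.homMk g : Over.mk (g ≫ pt.hom) ⟶ pt)).op (ℋ.map ι₀.op θ) = 0 at h3'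
    rw [← ConcreteCategory.comp_apply, ← ℋ.map_comp, ← op_comp] at h3'
    change ℋ.map (Over.homMk q rfl : Over.mk (q ≫ f) ⟶ Over.mk f).op θ = 0
    rw [← e3, op_comp, ℋ.map_comp, ConcreteCategory.comp_apply, h3', map_zero]


end Groth.Agent.S9075
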