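import Groth.Statements.S0108
import Mathlib
import Groth.Agent.Lib.Helper5.Misc.EtSiteBasic
import Groth.Agent.Lib.Helper5.Misc.EtRootCover

set_option autoImplicit false
open CategoryTheory CategoryTheory.Limits AlgebraicGeometry Opposite
universe u
open EtBase

open Groth.Agent.Lib.Helper5

namespace Groth.Agent.S0108

variable {S : Scheme.{u}}

/-- The unit underlying a section of `G_m`. -/
def toUnit {U : S.Etale} (t : (EtCoh.Gm S).obj.obj (op U)) : (Γ(U.left, ⊤))ˣ :=
  Additive.toMul (ULift.down t)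

/-- The section of `G_m` attached to a unit. -/
def ofUnit {U : S.Etale} (a : (Γ(U.left, ⊤))ˣ) : (EtCoh.Gm S).obj.obj (op U) :=
  ULift.up (Additive.ofMul a)

lemma map_toUnit {U W : S.Etale} (g : W ⟶ U) (t : (EtCoh.Gm S).obj.obj (op U)) :
    ((toUnit ((EtCoh.Gm S).obj.map g.op t) : (Γ(W.left, ⊤))ˣ) : Γ(W.left, ⊤)) =
      g.left.appTop.hom (toUnit t : (Γ(U.left, ⊤))ˣ) := rfl

lemma powMap_toUnit {U : S.Etale} (n : ℕ) (t : (EtCoh.Gm S).obj.obj (op U)) :
    toUnit ((EtCoh.powMap S n).hom.app (op U) t) = (toUnit t) ^ n := by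
  have h1 : (EtCoh.powMap S n).hom.app (op U) t = n • t := by
    unfold EtCoh.powMap
    induction n with
    | zero => simp
    | succ k ih =>
      rw [succ_nsmul, succ_nsmul]
      rw [← ih]
      rfl
  rw [h1]
  rfl

lemma toUnit_injective {U : S.Etale} : Function.Injective (toUnit (S := S) (U := U)) := by
  intro a b h
  exact ULift.ext _ _ (Additive.toMul.injective h)

open Polynomial in
/-- The separability certificate for `X^n - a` with `n` and `a` invertible. -/
lemma cert {R : Type*} [CommRing R] (n : ℕ) (a : Rˣ) (c : R) (hc : (n : R) * (a : R) * c = 1) :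
    derivative ((X : R[X]) ^ n - C (a : R)) * (C c * X) +
      (X ^ n - C (a : R)) * (- (C c * C (n : R))) = 1 := by
  rcases n with _ | k
  · simp at hc
    have : (1 : R) = 0 := by rw [← hc]
    have hs : Subsingleton R := subsingleton_of_zero_eq_one this.symm
    exact Subsingleton.elim _ _
  · simp only [derivative_sub, derivative_X_pow, derivative_C, sub_zero, Nat.add_sub_cancel]
    have h1 : (C c : R[X]) * C (((k + 1 : ℕ) : R)) * C (a : R) = 1 := by
      rw [← C_mul, ← C_mul, ← C_1]
      congr 1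
      rw [← hc]
      ring
    calc C (((k + 1 : ℕ) : R)) * X ^ k * (C c * X) + (X ^ (k + 1) - C (a : R)) *
          -(C c * C (((k + 1 : ℕ) : R)))
        = C c * C (((k + 1 : ℕ) : R)) * C (a : R) := by ring
      _ = 1 := h1

theorem main (S : Scheme.{u}) (n : ℕ) (hn : IsUnit (n : Γ(S, ⊤))) : Epi (EtCoh.powMap S n) := by
  rw [← Sheaf.isLocallySurjective_iff_epi']
  refine ⟨fun {U} t => ?_⟩
  rw [EtSiteBasic.mem_smallEtale_iff]
  intro x
  have hnU : IsUnit (n : Γ(U.left, ⊤)) := by
    have := hn.map U.hom.appTop.hom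
    rwa [map_natCast] at this
  haveI : Nontrivial Γ(U.left, ⊤) := by
    refine ⟨⟨0, 1, fun h01 => ?_⟩⟩
    have h2 := congrArg (U.left.presheaf.germ ⊤ x trivial).hom h01
    rw [map_zero, map_one] at h2
    exact zero_ne_one h2
  have hn0 : n ≠ 0 := by
    rintro rfl
    rw [Nat.cast_zero] at hnU
    exact not_isUnit_zero hnU
  let a : (Γ(U.left, ⊤))ˣ := toUnit t
  obtain ⟨c, hc⟩ : ∃ c : Γ(U.left, ⊤), (n : Γ(U.left, ⊤)) * (a : Γ(U.left, ⊤)) * c = 1 := by
    obtain ⟨c, hc⟩ := (hnU.mul a.isUnit).exists_right_inv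
    exact ⟨c, hc⟩
  obtain ⟨V', g, hg, v', τ, hv', hτ⟩ := EtRootCover.exists_etale_root U.left x
    (Polynomial.X ^ n - Polynomial.C (a : Γ(U.left, ⊤))) (Polynomial.monic_X_pow_sub_C _ hn0)
    (by rw [Polynomial.natDegree_X_pow_sub_C]; exact hn0) _ _ (cert n a c hc)
  haveI := hg
  haveI : Etale U.hom := U.prop
  let W : S.Etale := EtSiteBasic.ofEtale (g ≫ U.hom)
  let gW : W ⟶ U := MorphismProperty.Over.homMk g rfl trivial
  have hτn : τ ^ n = g.appTop.hom (a : Γ(U.left, ⊤)) := by
    simp only [Polynomial.map_sub, Polynomial.map_pow, Polynomial.map_X, Polynomial.map_C,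
      Polynomial.eval_sub, Polynomial.eval_pow, Polynomial.eval_X, Polynomial.eval_C] at hτ
    exact sub_eq_zero.1 hτ
  have hτu : IsUnit τ := by
    have : IsUnit (τ ^ n) := by
      rw [hτn]
      exact a.isUnit.map _
    exact (isUnit_pow_iff hn0).1 this
  refine ⟨W, gW, v', ⟨ofUnit hτu.unit, ?_⟩, hv'⟩
  apply toUnit_injective
  rw [powMap_toUnit]
  apply Units.ext
  rw [map_toUnit]
  exact hτn

end Groth.Agent.S0108

namespace Groth.Agent.S0108

/-- The Kummer sequence — when n is invertible on S, the n-th power map on the multiplicative group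
sheaf is an epimorphism of étale sheaves (its kernel μ_n is, by definition in the prelude, the sheaf
of n-th roots of unity, so the sequence 0 → μ_n → G_m → G_m → 0 is exact). -/
theorem result (S : Scheme.{u}) (n : ℕ) (hn : IsUnit (n : Γ(S, ⊤))) : Epi (EtCoh.powMap S n) := by
  exact main S n hn

end Groth.Agent.S0108
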