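import Groth.Statements.S4631
import Mathlib
import Groth.Agent.S1545
import Groth.Agent.S2500

set_option autoImplicit false
open CategoryTheory AlgebraicGeometry
universe u
open FBase

namespace Groth.Agent.S4631

section
open CategoryTheory AlgebraicGeometry

open TensorProduct CategoryTheory.Limits

/-- domain version of `isReduced_stalk_of_isReduced_tensor` -/
theorem isDomain_stalk_of_isDomain_tensor {k K : Type u} [Field k] [Field K] [Algebra k K]
    {X : Scheme.{u}} (f : X ⟶ Spec (CommRingCat.of k)) (x : X) [Algebra k (X.presheaf.stalk x)]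
    (hφ : Spec.map (CommRingCat.ofHom (algebraMap k (X.presheaf.stalk x))) = X.fromSpecStalk x ≫ f)
    [IsDomain (X.presheaf.stalk x ⊗[k] K)]
    (x' : ↥(Groth.Agent.S2502.bc f K)) (y : ↥(Spec (X.presheaf.stalk x)))
    (hx' : Groth.Agent.S2502.bcπ f K x' = X.fromSpecStalk x y) :
    IsDomain ((Groth.Agent.S2502.bc f K).presheaf.stalk x') := by
  obtain ⟨q, -, ⟨e⟩⟩ := Groth.Agent.S1560.exists_stalk_equiv_of_mem f x hφ x' y hx'
  haveI : IsDomain (Localization.AtPrime q.asIdeal) :=
    IsLocalization.isDomain_localization (le_nonZeroDivisors_of_noZeroDivisors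
      (fun h0 => h0 q.asIdeal.zero_mem))
  exact e.toMulEquiv.isDomain _

theorem specMap_stalkMap' {k : Type u} [Field k] {X : Scheme.{u}}
    (f : X ⟶ Spec (CommRingCat.of k)) (x : X) :
    letI : X.Over (Spec (CommRingCat.of k)) := ⟨f⟩
    Spec.map (CommRingCat.ofHom (Curv2.stalkMap k X x)) = X.fromSpecStalk x ≫ f := by
  letI : X.Over (Spec (CommRingCat.of k)) := ⟨f⟩
  exact Groth.Agent.S1560.specMap_stalkMap k X x

theorem isIso_bcπ_self {k : Type u} [Field k] {X : Scheme.{u}}
    (f : X ⟶ Spec (CommRingCat.of k)) : IsIso (Groth.Agent.S2502.bcπ f k) := by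
  have h1 : Spec.map (CommRingCat.ofHom (algebraMap k k)) = 𝟙 _ := by
    rw [← Spec.map_id]; rfl
  haveI : IsIso (Spec.map (CommRingCat.ofHom (algebraMap k k))) := by rw [h1]; infer_instance
  exact inferInstanceAs (IsIso (pullback.fst f (Spec.map (CommRingCat.ofHom (algebraMap k k)))))

theorem main {k : Type u} [Field k] [IsAlgClosed k] {X : Scheme.{u}}
    (f : X ⟶ Spec (CommRingCat.of k)) (x : X) :
    FBase.IsGeomPtIntegralAt f x ↔ IsDomain ↑(X.presheaf.stalk x) := by
  constructor
  · intro h
    haveI := isIso_bcπ_self f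
    let x' : ↥(Groth.Agent.S2502.bc f k) := (inv (Groth.Agent.S2502.bcπ f k)) x
    have hx' : Groth.Agent.S2502.bcπ f k x' = x := by
      show (Groth.Agent.S2502.bcπ f k) ((inv (Groth.Agent.S2502.bcπ f k)) x) = x
      rw [← Scheme.Hom.comp_apply, IsIso.inv_hom_id]; rfl
    haveI : IsDomain ((Groth.Agent.S2502.bc f k).presheaf.stalk x') := h k x' hx'
    have i1 := asIso ((Groth.Agent.S2502.bcπ f k).stalkMap x')
    have e := i1.commRingCatIsoToRingEquiv
    rw [← hx']
    exact e.toMulEquiv.isDomain _
  · intro h K _ _ x' hx'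
    letI : X.Over (Spec (CommRingCat.of k)) := ⟨f⟩
    letI := Curv2.stalkAlgebra k X x
    haveI : NoZeroDivisors (K ⊗[k] X.presheaf.stalk x) :=
      Groth.Agent.S2500.noZeroDivisors_tensor K _
    haveI : Nontrivial (K ⊗[k] X.presheaf.stalk x) := inferInstance
    haveI : IsDomain (K ⊗[k] X.presheaf.stalk x) := NoZeroDivisors.to_isDomain _
    haveI : IsDomain (X.presheaf.stalk x ⊗[k] K) :=
      (Algebra.TensorProduct.comm k (X.presheaf.stalk x) K).toMulEquiv.isDomain _
    refine isDomain_stalk_of_isDomain_tensor f x (specMap_stalkMap' f x) x'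
      (IsLocalRing.closedPoint _) ?_
    rw [Scheme.fromSpecStalk_closedPoint]
    exact hx'


end


/-- Let X be a scheme over an algebraically closed field k and x a point of X. Then X is geometrically
pointwise integral at x over k if and only if the local ring of X at x is a domain. -/
theorem result {k : Type u} [Field k] [IsAlgClosed k] {X : Scheme.{u}}
    (f : X ⟶ Spec (CommRingCat.of k)) (x : X) :
    FBase.IsGeomPtIntegralAt f x ↔ IsDomain ↑(X.presheaf.stalk x) := by
  classical
  exact main f x

end Groth.Agent.S4631
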