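import Groth.Statements.S4630
import Mathlib
import Groth.Agent.S4631

set_option autoImplicit false
open CategoryTheory AlgebraicGeometry
universe u
open FBase

namespace Groth.Agent.S4630

section
open CategoryTheory AlgebraicGeometry

open TensorProduct CategoryTheory.Limits

/-- common point lemma -/
theorem exists_common_point {k K L : Type u} [Field k] [Field K] [Field L] [Algebra k K]
    [Algebra k L] {X : Scheme.{u}} (f : X ⟶ Spec (CommRingCat.of k))
    (x' : ↥(Groth.Agent.S2502.bc f K)) (x₁ : ↥(Groth.Agent.S2502.bc f L))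
    (h : Groth.Agent.S2502.bcπ f K x' = Groth.Agent.S2502.bcπ f L x₁) :
    ∃ (M : Type u) (_ : Field M) (_ : Algebra k M) (_ : Algebra K M) (_ : Algebra L M)
      (_ : IsScalarTower k K M) (_ : IsScalarTower k L M) (x₂ : ↥(Groth.Agent.S2502.bc f M)),
      Groth.Agent.S7591.bcTrans f K M x₂ = x' ∧ Groth.Agent.S7591.bcTrans f L M x₂ = x₁ := by
  obtain ⟨w, hw1, hw2⟩ := Scheme.Pullback.exists_preimage_pullback
    (f := Groth.Agent.S2502.bcπ f K) (g := Groth.Agent.S2502.bcπ f L) x' x₁ h
  let P := pullback (Groth.Agent.S2502.bcπ f K) (Groth.Agent.S2502.bcπ f L)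
  let ι : Spec (P.residueField w) ⟶ P := P.fromSpecResidueField w
  let sK := pullback.snd f (Spec.map (CommRingCat.ofHom (algebraMap k K)))
  let sL := pullback.snd f (Spec.map (CommRingCat.ofHom (algebraMap k L)))
  let fst' : P ⟶ Groth.Agent.S2502.bc f K := pullback.fst _ _
  let snd' : P ⟶ Groth.Agent.S2502.bc f L := pullback.snd _ _
  let a : CommRingCat.of K ⟶ P.residueField w := Spec.preimage (ι ≫ fst' ≫ sK)
  let c : CommRingCat.of L ⟶ P.residueField w := Spec.preimage (ι ≫ snd' ≫ sL)
  have ha : Spec.map a = ι ≫ fst' ≫ sK := Spec.map_preimage _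
  have hc : Spec.map c = ι ≫ snd' ≫ sL := Spec.map_preimage _
  letI : Algebra K (P.residueField w) := a.hom.toAlgebra
  letI : Algebra L (P.residueField w) := c.hom.toAlgebra
  letI : Algebra k (P.residueField w) := (a.hom.comp (algebraMap k K)).toAlgebra
  haveI : IsScalarTower k K (P.residueField w) := IsScalarTower.of_algebraMap_eq fun _ => rfl
  have hcondK : Groth.Agent.S2502.bcπ f K ≫ f =
      sK ≫ Spec.map (CommRingCat.ofHom (algebraMap k K)) := pullback.condition
  have hcondL : Groth.Agent.S2502.bcπ f L ≫ f =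
      sL ≫ Spec.map (CommRingCat.ofHom (algebraMap k L)) := pullback.condition
  have hcondP : fst' ≫ Groth.Agent.S2502.bcπ f K = snd' ≫ Groth.Agent.S2502.bcπ f L :=
    pullback.condition
  have hac : Spec.map c ≫ Spec.map (CommRingCat.ofHom (algebraMap k L)) =
      Spec.map a ≫ Spec.map (CommRingCat.ofHom (algebraMap k K)) := by
    rw [ha, hc]
    simp only [Category.assoc]
    rw [← hcondK, ← hcondL, ← Category.assoc fst', ← Category.assoc snd', hcondP]
  haveI : IsScalarTower k L (P.residueField w) := IsScalarTower.of_algebraMap_eq fun y => by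
    rw [← Spec.map_comp, ← Spec.map_comp] at hac
    have h1 := congrArg CommRingCat.Hom.hom (Spec.map_injective hac)
    exact (congrArg (fun g : k →+* P.residueField w => g y) h1).symm
  have hkM : Spec.map (CommRingCat.ofHom (algebraMap k (P.residueField w))) =
      Spec.map a ≫ Spec.map (CommRingCat.ofHom (algebraMap k K)) := by
    rw [← Spec.map_comp]; rfl
  let s : Spec (P.residueField w) ⟶ Groth.Agent.S2502.bc f (P.residueField w) :=
    pullback.lift (ι ≫ fst' ≫ Groth.Agent.S2502.bcπ f K) (𝟙 _) (by
      rw [Category.id_comp, hkM, ha]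
      simp only [Category.assoc]
      rw [hcondK])
  have hs1 : s ≫ Groth.Agent.S2502.bcπ f (P.residueField w) = ι ≫ fst' ≫ Groth.Agent.S2502.bcπ f K :=
    pullback.lift_fst _ _ _
  have hs2 : s ≫ pullback.snd f (Spec.map (CommRingCat.ofHom (algebraMap k (P.residueField w)))) = 𝟙 _ :=
    pullback.lift_snd _ _ _
  have hsK : s ≫ Groth.Agent.S7591.bcTrans f K (P.residueField w) = ι ≫ fst' := by
    apply pullback.hom_ext
    · rw [Category.assoc, Category.assoc]
      erw [Groth.Agent.S7591.bcTrans_fst f K (P.residueField w)]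
      exact hs1
    · rw [Category.assoc, Category.assoc]
      erw [Groth.Agent.S7591.bcTrans_snd f K (P.residueField w)]
      rw [← Category.assoc, hs2, Category.id_comp]
      exact ha
  have hsL : s ≫ Groth.Agent.S7591.bcTrans f L (P.residueField w) = ι ≫ snd' := by
    apply pullback.hom_ext
    · rw [Category.assoc, Category.assoc]
      erw [Groth.Agent.S7591.bcTrans_fst f L (P.residueField w)]
      rw [hs1, hcondP]
    · rw [Category.assoc, Category.assoc]
      erw [Groth.Agent.S7591.bcTrans_snd f L (P.residueField w)]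
      rw [← Category.assoc, hs2, Category.id_comp]
      exact hc
  let pt : ↥(Spec (P.residueField w)) := IsLocalRing.closedPoint _
  have hpt : ι pt = w := Scheme.fromSpecResidueField_apply _ _
  refine ⟨P.residueField w, inferInstance, inferInstance, inferInstance, inferInstance,
    inferInstance, inferInstance, s pt, ?_, ?_⟩
  · rw [← Scheme.Hom.comp_apply, hsK, Scheme.Hom.comp_apply, hpt]; exact hw1
  · rw [← Scheme.Hom.comp_apply, hsL, Scheme.Hom.comp_apply, hpt]; exact hw2

/-- stalks of `(X_K)_L` and of `X_L` -/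
theorem stalk_bc_bc_equiv {k : Type u} [Field k] {X : Scheme.{u}}
    (f : X ⟶ Spec (CommRingCat.of k))
    (K L : Type u) [Field K] [Field L] [Algebra k K] [Algebra k L] [Algebra K L]
    [IsScalarTower k K L]
    (z : ↥(Groth.Agent.S2502.bc f L)) :
    Nonempty ((Groth.Agent.S2502.bc f L).presheaf.stalk z ≃+*
      (Groth.Agent.S2502.bc
      (pullback.snd f (Spec.map (CommRingCat.ofHom (algebraMap k K)))) L).presheaf.stalk
        ((Groth.Agent.S7591.isPullback_bcTrans f K L).isoPullback.hom z)) := by
  have i1 := asIso ((Groth.Agent.S7591.isPullback_bcTrans f K L).isoPullback.hom.stalkMap z)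
  exact ⟨i1.commRingCatIsoToRingEquiv.symm⟩

theorem main {k K : Type u} [Field k] [Field K] [Algebra k K]
    {X : Scheme.{u}} (f : X ⟶ Spec (CommRingCat.of k)) (x' : ↥(FBase.bc f K)) :
    FBase.IsGeomPtIntegralAt f ((FBase.bcπ f K) x') ↔ FBase.IsGeomPtIntegralAt (FBase.bcStr f K) x' := by
  constructor
  · intro h K' _ _ x'' hx''
    letI : Algebra k K' := ((algebraMap K K').comp (algebraMap k K)).toAlgebra
    haveI : IsScalarTower k K K' := IsScalarTower.of_algebraMap_eq fun _ => rfl
    have hpb := Groth.Agent.S7591.isPullback_bcTrans f K K'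
    have hz : hpb.isoPullback.hom (hpb.isoPullback.inv x'') = x'' := by
      rw [← Scheme.Hom.comp_apply, Iso.inv_hom_id]; rfl
    have h1 : IsDomain ((Groth.Agent.S2502.bc f K').presheaf.stalk (hpb.isoPullback.inv x'')) := by
      apply h K' (hpb.isoPullback.inv x'')
      have e1 := Groth.Agent.S7591.bcTrans_fst f K K'
      have e2 := congrArg (fun g => g (hpb.isoPullback.inv x'')) e1
      simp only [Scheme.Hom.comp_apply] at e2
      have e3 := congrArg (fun g => g x'') hpb.isoPullback_inv_fst
      simp only [Scheme.Hom.comp_apply] at e3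
      rw [← hx'']
      exact e2.symm.trans (congrArg _ e3)
    obtain ⟨e⟩ := stalk_bc_bc_equiv f K K' (hpb.isoPullback.inv x'')
    have h2 := e.symm.toMulEquiv.isDomain ((Groth.Agent.S2502.bc f K').presheaf.stalk (hpb.isoPullback.inv x''))
    rw [hz] at h2
    exact h2
  · intro h L _ _ x₁ hx₁
    obtain ⟨M, _, _, _, _, _, _, x₂, hx₂K, hx₂L⟩ := exists_common_point f x' x₁ hx₁.symm
    have hpb := Groth.Agent.S7591.isPullback_bcTrans f K M
    have hdom : IsDomain ((Groth.Agent.S2502.bc f M).presheaf.stalk x₂) := by
      obtain ⟨e⟩ := stalk_bc_bc_equiv f K M x₂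
      haveI : IsDomain ((Groth.Agent.S2502.bc
          (pullback.snd f (Spec.map (CommRingCat.ofHom (algebraMap k K)))) M).presheaf.stalk
          (hpb.isoPullback.hom x₂)) := by
        apply h M (hpb.isoPullback.hom x₂)
        have e5 := congrArg (fun g => g x₂) hpb.isoPullback_hom_fst
        simp only [Scheme.Hom.comp_apply] at e5
        exact e5.trans hx₂K
      exact e.toMulEquiv.isDomain _
    subst hx₂L
    haveI := Groth.Agent.S1545.flat_bcTrans f L M
    exact (Groth.Agent.S1545.stalkMap_injective_of_flat (Groth.Agent.S7591.bcTrans f L M) x₂).isDomain _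


end


/-- Let X be a scheme over a field k, k' an extension field of k, and x' a point of X' = X ⊗_k k' lying
over the point x of X. Then X is geometrically pointwise integral at x over k if and only if X' is
geometrically pointwise integral at x' over k'. -/
theorem result {k K : Type u} [Field k] [Field K] [Algebra k K]
    {X : Scheme.{u}} (f : X ⟶ Spec (CommRingCat.of k)) (x' : ↥(FBase.bc f K)) :
    FBase.IsGeomPtIntegralAt f ((FBase.bcπ f K) x') ↔ FBase.IsGeomPtIntegralAt (FBase.bcStr f K) x' := by
  classical
  exact main f x'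

end Groth.Agent.S4630
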