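import Groth.Statements.S7600
import Mathlib
import Groth.Agent.S4630

set_option autoImplicit false
universe u
open CategoryTheory CategoryTheory.Limits AlgebraicGeometry
open Variety

namespace Groth.Agent.S7600

section
open CategoryTheory CategoryTheory.Limits AlgebraicGeometry

/-- faithfully flat descent of normality -/
theorem isIntegrallyClosed_of_faithfullyFlat (A B : Type*) [CommRing A] [CommRing B] [Algebra A B]
    [Module.FaithfullyFlat A B] [IsDomain B] [IsIntegrallyClosed B] :
    IsDomain A ∧ IsIntegrallyClosed A := by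
  have hinj : Function.Injective (algebraMap A B) := FaithfulSMul.algebraMap_injective A B
  haveI : IsDomain A := hinj.isDomain
  refine ⟨inferInstance, ?_⟩
  rw [isIntegrallyClosed_iff (FractionRing A)]
  intro x hx
  let L := FractionRing B
  haveI : IsScalarTower A B L := inferInstance
  haveI : FaithfulSMul A L := (faithfulSMul_iff_algebraMap_injective A L).mpr (by
    rw [IsScalarTower.algebraMap_eq A B L]
    exact (IsFractionRing.injective B L).comp hinj)
  letI : Algebra (FractionRing A) L := FractionRing.liftAlgebra A L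
  haveI : IsScalarTower A (FractionRing A) L := FractionRing.isScalarTower_liftAlgebra A L
  obtain ⟨a, b, hb, rfl⟩ := IsFractionRing.div_surjective (A := A) x
  have hb0 : b ≠ 0 := nonZeroDivisors.ne_zero hb
  have h1 : IsIntegral A (algebraMap (FractionRing A) L
      (algebraMap A (FractionRing A) a / algebraMap A (FractionRing A) b)) :=
    hx.map (IsScalarTower.toAlgHom A (FractionRing A) L)
  have h2 : IsIntegral B (algebraMap (FractionRing A) L
      (algebraMap A (FractionRing A) a / algebraMap A (FractionRing A) b)) := h1.tower_top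
  obtain ⟨c, hc⟩ := (isIntegrallyClosed_iff L).mp inferInstance h2
  have h3 : algebraMap A B a = algebraMap A B b * c := by
    apply IsFractionRing.injective B L
    rw [map_mul, hc, map_div₀, ← IsScalarTower.algebraMap_apply A (FractionRing A) L,
      ← IsScalarTower.algebraMap_apply A (FractionRing A) L,
      IsScalarTower.algebraMap_apply A B L, IsScalarTower.algebraMap_apply A B L]
    have hbL : algebraMap B L (algebraMap A B b) ≠ 0 := by
      intro h0
      exact hb0 (hinj ((IsFractionRing.injective B L) (by rw [h0, map_zero, map_zero])))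
    rw [mul_div_cancel₀ _ hbL]
  have h4 : a ∈ Ideal.span ({b} : Set A) := by
    rw [← Ideal.comap_map_eq_self_of_faithfullyFlat (B := B) (Ideal.span ({b} : Set A)),
      Ideal.mem_comap, Ideal.map_span, Set.image_singleton, Ideal.mem_span_singleton']
    exact ⟨c, by rw [h3, mul_comm]⟩
  obtain ⟨a', ha'⟩ := Ideal.mem_span_singleton'.mp h4
  refine ⟨a', ?_⟩
  rw [← ha', map_mul]
  have : algebraMap A (FractionRing A) b ≠ 0 := by
    intro h0
    exact hb0 ((IsFractionRing.injective A (FractionRing A)) (by rw [h0, map_zero]))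
  field_simp

theorem faithfullyFlat_stalkMap_of_flat {X Y : Scheme.{u}} (g : X ⟶ Y) [Flat g] (z : X) :
    letI : Algebra (Y.presheaf.stalk (g z)) (X.presheaf.stalk z) := (g.stalkMap z).hom.toAlgebra
    Module.FaithfullyFlat (Y.presheaf.stalk (g z)) (X.presheaf.stalk z) := by
  letI : Algebra (Y.presheaf.stalk (g z)) (X.presheaf.stalk z) := (g.stalkMap z).hom.toAlgebra
  haveI : Module.Flat (Y.presheaf.stalk (g z)) (X.presheaf.stalk z) :=
    RingHom.flat_algebraMap_iff.mp (Flat.stalkMap g z)
  haveI : IsLocalHom (algebraMap (Y.presheaf.stalk (g z)) (X.presheaf.stalk z)) :=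
    inferInstanceAs (IsLocalHom (g.stalkMap z).hom)
  exact Module.FaithfullyFlat.of_flat_of_isLocalHom

theorem main (k : Type u) [Field k] (X : Scheme.{u}) [X.Over (Spec (CommRingCat.of k))] (k' : Type u) [Field k'] [Algebra k k'] (x' : ↥(Curv2.bc k X k'))
    (h : letI : (Curv2.bc k X k').Over (Spec (CommRingCat.of k')) := ⟨Curv2.bcSnd k X k'⟩
      ∀ (k'' : Type u) [Field k''] [Algebra k' k''] (x'' : ↥(Curv2.bc k' (Curv2.bc k X k') k'')), Curv2.bcFst k' (Curv2.bc k X k') k'' x'' = x' →
          IsDomain ↥((Curv2.bc k' (Curv2.bc k X k') k'').presheaf.stalk x'') ∧ IsIntegrallyClosed ↥((Curv2.bc k' (Curv2.bc k X k') k'').presheaf.stalk x'')) :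
    ∀ (K : Type u) [Field K] [Algebra k K] (y : ↥(Curv2.bc k X K)), Curv2.bcFst k X K y = (Curv2.bcFst k X k' x') →
          IsDomain ↥((Curv2.bc k X K).presheaf.stalk y) ∧ IsIntegrallyClosed ↥((Curv2.bc k X K).presheaf.stalk y) := by
  intro K _ _ y hy
  obtain ⟨M, _, _, _, _, _, _, x₂, hx₂1, hx₂2⟩ := Groth.Agent.S4630.exists_common_point
    (X ↘ Spec (CommRingCat.of k)) x' y hy.symm
  have hpb := Groth.Agent.S7591.isPullback_bcTrans (X ↘ Spec (CommRingCat.of k)) k' M
  obtain ⟨e⟩ := Groth.Agent.S4630.stalk_bc_bc_equiv (X ↘ Spec (CommRingCat.of k)) k' M x₂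
  have h1 := h M (hpb.isoPullback.hom x₂) (by
    have e5 := congrArg (fun g => g x₂) hpb.isoPullback_hom_fst
    simp only [Scheme.Hom.comp_apply] at e5
    exact e5.trans hx₂1)
  haveI hd1 : IsDomain ((Groth.Agent.S2502.bc
      (pullback.snd (X ↘ Spec (CommRingCat.of k)) (Spec.map (CommRingCat.ofHom (algebraMap k k'))))
      M).presheaf.stalk (hpb.isoPullback.hom x₂)) := h1.1
  haveI hic1 : IsIntegrallyClosed ((Groth.Agent.S2502.bc
      (pullback.snd (X ↘ Spec (CommRingCat.of k)) (Spec.map (CommRingCat.ofHom (algebraMap k k'))))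
      M).presheaf.stalk (hpb.isoPullback.hom x₂)) := h1.2
  haveI hd : IsDomain ((Groth.Agent.S2502.bc (X ↘ Spec (CommRingCat.of k)) M).presheaf.stalk x₂) :=
    e.toMulEquiv.isDomain _
  haveI hic : IsIntegrallyClosed ((Groth.Agent.S2502.bc (X ↘ Spec (CommRingCat.of k)) M).presheaf.stalk x₂) :=
    IsIntegrallyClosed.of_equiv e.symm
  subst hx₂2
  haveI := Groth.Agent.S1545.flat_bcTrans (X ↘ Spec (CommRingCat.of k)) K M
  letI : Algebra ((Groth.Agent.S2502.bc (X ↘ Spec (CommRingCat.of k)) K).presheaf.stalk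
      ((Groth.Agent.S7591.bcTrans (X ↘ Spec (CommRingCat.of k)) K M) x₂))
      ((Groth.Agent.S2502.bc (X ↘ Spec (CommRingCat.of k)) M).presheaf.stalk x₂) :=
    ((Groth.Agent.S7591.bcTrans (X ↘ Spec (CommRingCat.of k)) K M).stalkMap x₂).hom.toAlgebra
  haveI := faithfullyFlat_stalkMap_of_flat (Groth.Agent.S7591.bcTrans (X ↘ Spec (CommRingCat.of k)) K M) x₂
  exact isIntegrallyClosed_of_faithfullyFlat _
    ((Groth.Agent.S2502.bc (X ↘ Spec (CommRingCat.of k)) M).presheaf.stalk x₂)


end


/-- (2) ⇒ (1): let X be a scheme over a field k, k' an extension field of k and x' a point of X_{k'}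
with image x in X. If X_{k'} is geometrically normal at x' over k' (for every extension field k'' of
k' and every point x'' of (X_{k'})_{k''} over x' the local ring at x'' is an integrally closed
domain), then X is geometrically normal at x over k. -/
theorem result (k : Type u) [Field k] (X : Scheme.{u}) [X.Over (Spec (CommRingCat.of k))] (k' : Type u) [Field k'] [Algebra k k'] (x' : ↥(Curv2.bc k X k'))
    (h : letI : (Curv2.bc k X k').Over (Spec (CommRingCat.of k')) := ⟨Curv2.bcSnd k X k'⟩
      ∀ (k'' : Type u) [Field k''] [Algebra k' k''] (x'' : ↥(Curv2.bc k' (Curv2.bc k X k') k'')), Curv2.bcFst k' (Curv2.bc k X k') k'' x'' = x' →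
          IsDomain ↥((Curv2.bc k' (Curv2.bc k X k') k'').presheaf.stalk x'') ∧ IsIntegrallyClosed ↥((Curv2.bc k' (Curv2.bc k X k') k'').presheaf.stalk x'')) :
    ∀ (K : Type u) [Field K] [Algebra k K] (y : ↥(Curv2.bc k X K)), Curv2.bcFst k X K y = (Curv2.bcFst k X k' x') →
          IsDomain ↥((Curv2.bc k X K).presheaf.stalk y) ∧ IsIntegrallyClosed ↥((Curv2.bc k X K).presheaf.stalk y) := by
  classical
  exact main k X k' x' h

end Groth.Agent.S7600
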