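import Groth.Statements.S7124
import Mathlib

set_option autoImplicit false
universe u
open CAlg

namespace S7124aux
open IsLocalRing

variable (A B K L : Type u) [CommRing A] [IsDomain A]
    [ValuationRing A] [CommRing B] [IsDomain B] [ValuationRing B] [Field K] [Field L]
    [Algebra A K] [IsFractionRing A K] [Algebra B L] [IsFractionRing B L] [Algebra A B] [Algebra K L]
    [Algebra A L] [IsScalarTower A K L] [IsScalarTower A B L]
    [IsLocalHom (algebraMap A B)]

/-- an element of `L` of valuation one is the image of a unit of `B` -/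
lemma unit_of_val_eq_one (x : L) (hx : ValuationRing.valuation B L x = 1) :
    ∃ w : Bˣ, algebraMap B L w = x := by
  have hx0 : x ≠ 0 := by
    rintro rfl
    simp at hx
  have h1 : x ∈ (ValuationRing.valuation B L).integer := by
    rw [Valuation.mem_integer_iff, hx]
  have h2 : x⁻¹ ∈ (ValuationRing.valuation B L).integer := by
    rw [Valuation.mem_integer_iff, map_inv₀, hx, inv_one]
  obtain ⟨a, ha⟩ := (ValuationRing.mem_integer_iff B L x).1 h1
  obtain ⟨b, hb⟩ := (ValuationRing.mem_integer_iff B L x⁻¹).1 h2
  have hab : a * b = 1 := by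
    apply IsFractionRing.injective B L
    rw [map_mul, ha, hb, map_one, mul_inv_cancel₀ hx0]
  exact ⟨⟨a, b, hab, by rw [mul_comm]; exact hab⟩, ha⟩

/-- Claim 1 -/
lemma claim1 {f : ℕ} (b : Fin f → B)
    (hb : LinearIndependent (ResidueField A) (fun i => residue B (b i)))
    (g : Fin f → K) (hg : g ≠ 0) :
    ∃ (α : K) (w : Bˣ), α ≠ 0 ∧
      ∑ i, algebraMap K L (g i) * algebraMap B L (b i) = algebraMap K L α * algebraMap B L w := by
  classical
  have hne : (Finset.univ : Finset (Fin f)).Nonempty := by
    by_contra h
    rw [Finset.not_nonempty_iff_eq_empty, Finset.univ_eq_empty_iff] at h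
    exact hg (funext fun i => (h.false i).elim)
  obtain ⟨i0, -, hi0⟩ := Finset.exists_max_image Finset.univ
    (fun i => ValuationRing.valuation A K (g i)) hne
  have hgi0 : g i0 ≠ 0 := by
    intro h0
    apply hg
    funext i
    have := hi0 i (Finset.mem_univ i)
    rw [h0, map_zero, le_zero_iff, Valuation.zero_iff] at this
    exact this
  have hu : ∀ i, ∃ u : A, algebraMap A K u = g i / g i0 := by
    intro i
    rw [← ValuationRing.mem_integer_iff, Valuation.mem_integer_iff, map_div₀]
    exact div_le_one_of_le₀ (hi0 i (Finset.mem_univ i)) zero_le'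
  choose u hu using hu
  have hu0 : u i0 = 1 := by
    apply IsFractionRing.injective A K
    rw [hu, div_self hgi0, map_one]
  let w : B := ∑ i, algebraMap A B (u i) * b i
  have hw : residue B w ≠ 0 := by
    have h1 : residue B w = ∑ i, residue A (u i) • residue B (b i) := by
      simp only [w, map_sum, map_mul]
      refine Finset.sum_congr rfl fun i _ => ?_
      rw [Algebra.smul_def]
      rfl
    rw [h1]
    intro h0
    have := (Fintype.linearIndependent_iff.1 hb) (fun i => residue A (u i)) h0 i0
    rw [hu0, map_one] at this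
    exact one_ne_zero this
  have hwu : IsUnit w := by
    rw [← IsLocalRing.notMem_maximalIdeal]
    rwa [Ne, IsLocalRing.residue_eq_zero_iff] at hw
  refine ⟨g i0, hwu.unit, hgi0, ?_⟩
  rw [IsUnit.unit_spec]
  simp only [w, map_sum, map_mul, Finset.mul_sum]
  refine Finset.sum_congr rfl fun i _ => ?_
  have h2 : algebraMap B L (algebraMap A B (u i)) = algebraMap K L (algebraMap A K (u i)) := by
    rw [← IsScalarTower.algebraMap_apply A B L, ← IsScalarTower.algebraMap_apply A K L]
  rw [h2, hu, ← mul_assoc, ← map_mul, mul_div_cancel₀ _ hgi0]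

lemma core {f e : ℕ} (b : Fin f → B)
    (hb : LinearIndependent (ResidueField A) (fun i => residue B (b i)))
    (l : Fin e → L) (hl0 : ∀ j, l j ≠ 0)
    (hl : ∀ j j', j ≠ j' → ∀ (α : K) (w : Bˣ), α ≠ 0 →
      l j ≠ algebraMap K L α * algebraMap B L w * l j') :
    LinearIndependent K (fun p : Fin f × Fin e => algebraMap B L (b p.1) * l p.2) := by
  classical
  rw [Fintype.linearIndependent_iff]
  intro g hg0
  by_contra hne
  push_neg at hne
  obtain ⟨p0, hp0⟩ := hne
  let c : Fin e → L := fun j => ∑ i, algebraMap K L (g (i, j)) * algebraMap B L (b i)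
  have hsum : ∑ j, c j * l j = 0 := by
    rw [← hg0, Fintype.sum_prod_type_right]
    refine Finset.sum_congr rfl fun j _ => ?_
    simp only [c, Finset.sum_mul]
    refine Finset.sum_congr rfl fun i _ => ?_
    rw [Algebra.smul_def, mul_assoc]
  let J' : Finset (Fin e) := Finset.univ.filter (fun j => ∃ i, g (i, j) ≠ 0)
  have hcz : ∀ j, j ∉ J' → c j = 0 := by
    intro j hj
    simp only [J', Finset.mem_filter, Finset.mem_univ, true_and, not_exists, not_not] at hj
    simp only [c]
    refine Finset.sum_eq_zero fun i _ => ?_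
    rw [hj i, map_zero, zero_mul]
  have hrep : ∀ j, ∃ (α : K) (w : Bˣ), j ∈ J' →
      (α ≠ 0 ∧ c j = algebraMap K L α * algebraMap B L w) := by
    intro j
    by_cases hj : j ∈ J'
    · have hgj : (fun i => g (i, j)) ≠ 0 := by
        simp only [J', Finset.mem_filter, Finset.mem_univ, true_and] at hj
        obtain ⟨i, hi⟩ := hj
        intro h0
        exact hi (congrFun h0 i)
      obtain ⟨α, w, hα, hw⟩ := claim1 A B K L b hb (fun i => g (i, j)) hgj
      exact ⟨α, w, fun _ => ⟨hα, hw⟩⟩
    · exact ⟨1, 1, fun h => (hj h).elim⟩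
  choose α w hαw using hrep
  have hJ'ne : J'.Nonempty := ⟨p0.2, by
    simp only [J', Finset.mem_filter, Finset.mem_univ, true_and]
    exact ⟨p0.1, hp0⟩⟩
  let t : Fin e → L := fun j => c j * l j
  have hwne : ∀ j, algebraMap B L (w j) ≠ 0 := fun j =>
    ((w j).isUnit.map (algebraMap B L)).ne_zero
  have htne : ∀ j ∈ J', t j ≠ 0 := by
    intro j hj
    obtain ⟨h1, h2⟩ := hαw j hj
    simp only [t, h2]
    refine mul_ne_zero (mul_ne_zero ?_ (hwne j)) (hl0 j)
    rwa [Ne, map_eq_zero]
  obtain ⟨j0, hj0, hmax⟩ := Finset.exists_max_image J'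
    (fun j => ValuationRing.valuation B L (t j)) hJ'ne
  have hv0 : ValuationRing.valuation B L (t j0) ≠ 0 := by
    rw [Ne, Valuation.zero_iff]
    exact htne j0 hj0
  have hlt : ∀ j ∈ J'.erase j0, ValuationRing.valuation B L (t j) <
      ValuationRing.valuation B L (t j0) := by
    intro j hj
    rw [Finset.mem_erase] at hj
    refine lt_of_le_of_ne (hmax j hj.2) fun heq => ?_
    have h1 : ValuationRing.valuation B L (t j / t j0) = 1 := by
      rw [map_div₀, heq, div_self hv0]
    obtain ⟨w', hw'⟩ := unit_of_val_eq_one B L _ h1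
    obtain ⟨ha, hc⟩ := hαw j hj.2
    obtain ⟨ha0, hc0⟩ := hαw j0 hj0
    have h2 : t j = algebraMap B L w' * t j0 := by
      rw [hw', div_mul_cancel₀ _ (htne j0 hj0)]
    simp only [t, hc, hc0] at h2
    refine hl j j0 hj.1 (α j0 / α j) (w' * w j0 * (w j)⁻¹) (div_ne_zero ha0 ha) ?_
    have hαj : algebraMap K L (α j) ≠ 0 := by rwa [Ne, map_eq_zero]
    have hinv : algebraMap B L ((w j)⁻¹ : Bˣ) = (algebraMap B L (w j))⁻¹ := by
      refine eq_inv_of_mul_eq_one_left ?_
      rw [← map_mul, ← Units.val_mul, inv_mul_cancel, Units.val_one, map_one]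
    rw [map_div₀, Units.val_mul, Units.val_mul, map_mul, map_mul, hinv]
    field_simp
    rw [← sub_eq_zero] at h2 ⊢
    rw [← h2]
    ring
  have hsplit : t j0 + ∑ j ∈ J'.erase j0, t j = 0 := by
    rw [Finset.add_sum_erase J' t hj0, ← hsum]
    refine Finset.sum_subset (Finset.subset_univ _) fun j _ hj => ?_
    simp only [t, hcz j hj, zero_mul]
  have h3 := Valuation.map_sum_lt (ValuationRing.valuation B L) hv0 hlt
  rw [← neg_eq_of_add_eq_zero_right hsplit, Valuation.map_neg] at h3
  exact lt_irrefl _ h3

end S7124aux

namespace Groth.Agent.S7124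

/-- Let A ⊆ B be an extension of valuation rings (both valuation domains, the inclusion injective and
local) with fraction fields K ⊆ L such that L/K is finite. Then the residue field of B is finite
over that of A, the value group of A has finite index in the value group of B, and (index of value
groups) · (residue degree) ≤ [L : K]. Here the value group of B is written as Lˣ modulo the units of
B, and that of A as the image of Kˣ in it. -/
theorem result (A B K L : Type u) [CommRing A] [IsDomain A]
    [ValuationRing A] [CommRing B] [IsDomain B] [ValuationRing B] [Field K] [Field L]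
    [Algebra A K] [IsFractionRing A K] [Algebra B L] [IsFractionRing B L] [Algebra A B] [Algebra K L]
    [Algebra A L] [IsScalarTower A K L] [IsScalarTower A B L] (hinj : Function.Injective (algebraMap A B))
    [IsLocalHom (algebraMap A B)] [FiniteDimensional K L] :
    let UB : Subgroup Lˣ := (Units.map (algebraMap B L).toMonoidHom).range
    let ΓA : Subgroup (Lˣ ⧸ UB) := ((QuotientGroup.mk' UB).comp (Units.map (algebraMap K L).toMonoidHom)).range
    Module.Finite (IsLocalRing.ResidueField A) (IsLocalRing.ResidueField B) ∧ ΓA.index ≠ 0 ∧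
      ΓA.index * Module.finrank (IsLocalRing.ResidueField A) (IsLocalRing.ResidueField B) ≤
        Module.finrank K L := by
  classical
  intro UB ΓA
  have bound : ∀ (f e : ℕ) (b : Fin f → B)
      (_ : LinearIndependent (IsLocalRing.ResidueField A) (fun i => IsLocalRing.residue B (b i))) (l : Fin e → Lˣ)
      (_ : ∀ j j', j ≠ j' →
        ((QuotientGroup.mk (l j) : Lˣ ⧸ UB))⁻¹ * QuotientGroup.mk (l j') ∉ ΓA),
      f * e ≤ Module.finrank K L := by
    intro f e b hb l hl
    have hli := S7124aux.core A B K L b hb (fun j => (l j : L)) (fun j => (l j).ne_zero) (by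
      intro j j' hjj' α w hα heq
      apply hl j j' hjj'
      have h1 : l j = Units.map (algebraMap K L).toMonoidHom (Units.mk0 α hα) *
          Units.map (algebraMap B L).toMonoidHom w * l j' := by
        ext
        simpa using heq
      have h4 : ((QuotientGroup.mk (l j) : Lˣ ⧸ UB))⁻¹ * QuotientGroup.mk (l j') =
          QuotientGroup.mk ((l j)⁻¹ * l j') := rfl
      rw [h4]
      refine ⟨(Units.mk0 α hα)⁻¹, ?_⟩
      show (QuotientGroup.mk (Units.map (algebraMap K L).toMonoidHom (Units.mk0 α hα)⁻¹) :
        Lˣ ⧸ UB) = QuotientGroup.mk ((l j)⁻¹ * l j')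
      rw [QuotientGroup.eq]
      refine ⟨w⁻¹, ?_⟩
      rw [h1, map_inv, map_inv]
      generalize Units.map (algebraMap K L).toMonoidHom (Units.mk0 α hα) = X
      generalize Units.map (algebraMap B L).toMonoidHom w = Y
      generalize l j' = Z
      rw [inv_inv, mul_inv_rev, mul_inv_rev, mul_assoc, mul_assoc]
      rw [mul_left_comm Z⁻¹, mul_left_comm Z⁻¹, inv_mul_cancel, mul_one, mul_left_comm,
        mul_inv_cancel, mul_one])
    have := hli.fintype_card_le_finrank
    simpa using this
  have hfin : Module.Finite (IsLocalRing.ResidueField A) (IsLocalRing.ResidueField B) := by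
    rw [← Module.rank_lt_aleph0_iff]
    refine lt_of_le_of_lt (rank_le (n := Module.finrank K L) fun s hs => ?_)
      Cardinal.natCast_lt_aleph0
    have hlift : ∀ x : IsLocalRing.ResidueField B, ∃ y : B, IsLocalRing.residue B y = x := IsLocalRing.residue_surjective
    choose lift hlift using hlift
    let b : Fin s.card → B := fun i => lift (s.equivFin.symm i)
    have hb : LinearIndependent (IsLocalRing.ResidueField A) (fun i => IsLocalRing.residue B (b i)) := by
      have : (fun i => IsLocalRing.residue B (b i)) = (fun i : s => (i : IsLocalRing.ResidueField B)) ∘ s.equivFin.symm := by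
        funext i
        simp [b, hlift]
      rw [this]
      exact hs.comp _ s.equivFin.symm.injective
    have := bound s.card 1 b hb (fun _ => 1) (fun j j' hjj' => (hjj' (Subsingleton.elim _ _)).elim)
    simpa using this
  have hQ : Finite ((Lˣ ⧸ UB) ⧸ ΓA) := by
    by_contra hinf
    rw [not_finite_iff_infinite] at hinf
    let emb := Infinite.natEmbedding ((Lˣ ⧸ UB) ⧸ ΓA)
    let l : Fin (Module.finrank K L + 1) → Lˣ := fun j => (emb j).out.out
    have hb : LinearIndependent (IsLocalRing.ResidueField A) (fun _ : Fin 1 => IsLocalRing.residue B (1 : B)) := by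
      rw [linearIndependent_unique_iff]
      simp
    have := bound 1 (Module.finrank K L + 1) (fun _ => 1) hb l (by
      intro j j' hjj' hmem
      rw [← QuotientGroup.eq] at hmem
      simp only [l, Quotient.out_eq] at hmem
      have : (j : ℕ) = j' := emb.injective (by simpa using hmem)
      exact hjj' (Fin.ext this))
    omega
  refine ⟨hfin, Subgroup.index_ne_zero_of_finite, ?_⟩
  let bs := Module.finBasis (IsLocalRing.ResidueField A) (IsLocalRing.ResidueField B)
  have hlift : ∀ x : IsLocalRing.ResidueField B, ∃ y : B, IsLocalRing.residue B y = x := IsLocalRing.residue_surjective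
  choose lift hlift using hlift
  let b : Fin (Module.finrank (IsLocalRing.ResidueField A) (IsLocalRing.ResidueField B)) → B := fun i => lift (bs i)
  have hb : LinearIndependent (IsLocalRing.ResidueField A) (fun i => IsLocalRing.residue B (b i)) := by
    have : (fun i => IsLocalRing.residue B (b i)) = bs := by
      funext i
      simp [b, hlift]
    rw [this]
    exact bs.linearIndependent
  let eq := Finite.equivFin ((Lˣ ⧸ UB) ⧸ ΓA)
  let l : Fin (Nat.card ((Lˣ ⧸ UB) ⧸ ΓA)) → Lˣ := fun j => (eq.symm j).out.out
  have := bound _ _ b hb l (by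
    intro j j' hjj' hmem
    rw [← QuotientGroup.eq] at hmem
    simp only [l, Quotient.out_eq] at hmem
    exact hjj' (eq.symm.injective (by simpa using hmem)))
  rw [mul_comm]
  exact this

end Groth.Agent.S7124
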