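import Groth.Statements.S16407
import Groth.Statements.S16407
import Mathlib
import Groth.Agent.Lib.Helper3.MVSqLib
import Groth.Agent.S16408

set_option autoImplicit false
universe v u
open CategoryTheory CategoryTheory.Limits CategoryTheory.Pretriangulated
open W4c3perfectstacks W4c3perfectstacks.MVSq

namespace Groth.Agent.S16407


/-- The Mayer–Vietoris triangle. In a Mayer–Vietoris square of triangulated categories (single-square
form: triangulated pullbacks with right adjoints, fully faithful j_*-type pushforwards, invertible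
base-change and exchange maps, and the pullback along X' → X restricting to an equivalence between
the kernels of the two open restrictions), for every object N of the category attached to X there is
exactly one morphism d making N ⟶ j_* j^* N ⊞ f_* f^* N ⟶ f_* f^* j_* j^* N ⟶ N⟦1⟧ distinguished,
where the first map has the two units as components and the second is (unit of f at j_* j^* N, minus
f_* f^* of the unit of j). (The four categories are taken in common universes.) -/
theorem result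
    (S S' R R' : Type u) [Category.{v} S] [Category.{v} S'] [Category.{v} R] [Category.{v} R']
    [Preadditive S] [Preadditive S'] [Preadditive R] [Preadditive R']
    [HasZeroObject S] [HasZeroObject S'] [HasZeroObject R] [HasZeroObject R']
    [HasShift S ℤ] [HasShift S' ℤ] [HasShift R ℤ] [HasShift R' ℤ]
    [∀ n : ℤ, (shiftFunctor S n).Additive] [∀ n : ℤ, (shiftFunctor S' n).Additive]
    [∀ n : ℤ, (shiftFunctor R n).Additive] [∀ n : ℤ, (shiftFunctor R' n).Additive]
    [Pretriangulated S] [Pretriangulated S'] [Pretriangulated R] [Pretriangulated R']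
    [IsTriangulated S] [IsTriangulated S'] [IsTriangulated R] [IsTriangulated R']
    (q : W4c3perfectstacks.MVSq S S' R R')
    [q.jst.CommShift ℤ] [q.fst.CommShift ℤ] [q.jpst.CommShift ℤ] [q.gst.CommShift ℤ]
    [q.jst.IsTriangulated] [q.fst.IsTriangulated] [q.jpst.IsTriangulated] [q.gst.IsTriangulated]
    (hq : q.IsMV) (N : S) :
    ∃! d : q.fls.obj (q.fst.obj (q.jls.obj (q.jst.obj N))) ⟶ N⟦(1 : ℤ)⟧,
      Triangle.mk (biprod.lift (q.adjJ.unit.app N) (q.adjF.unit.app N))
        (biprod.desc (q.adjF.unit.app (q.jls.obj (q.jst.obj N)))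
          (-(q.fls.map (q.fst.map (q.adjJ.unit.app N))))) d ∈ distTriang S := by
  -- uniqueness from naturality
  have huniq : ∀ d₁ d₂ : q.fls.obj (q.fst.obj (q.jls.obj (q.jst.obj N))) ⟶
      (shiftFunctor S (1 : ℤ)).obj N,
      Triangle.mk (biprod.lift (q.adjJ.unit.app N) (q.adjF.unit.app N))
        (biprod.desc (q.adjF.unit.app (q.jls.obj (q.jst.obj N)))
          (-(q.fls.map (q.fst.map (q.adjJ.unit.app N))))) d₁ ∈ distTriang S →
      Triangle.mk (biprod.lift (q.adjJ.unit.app N) (q.adjF.unit.app N))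
        (biprod.desc (q.adjF.unit.app (q.jls.obj (q.jst.obj N)))
          (-(q.fls.map (q.fst.map (q.adjJ.unit.app N))))) d₂ ∈ distTriang S → d₁ = d₂ := by
    intro d₁ d₂ h₁ h₂
    have h := Groth.Agent.S16408.result S S' R R' q hq N N (𝟙 N) d₁ d₂ h₁ h₂
    simpa using h
  -- existence
  obtain ⟨N₀, i, δ, hT1, hN₀⟩ := Groth.Agent.Helper3.MVSqLib.exists_K_triangle hq N
  have hθ : IsIso (q.adjF.unit.app N₀) := hq.isIso_unitF N₀ hN₀
  let θ : N₀ ≅ q.fls.obj (q.fst.obj N₀) := @asIso _ _ _ _ (q.adjF.unit.app N₀) hθ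
  have hθhom : θ.hom = q.adjF.unit.app N₀ := rfl
  let : q.fls.CommShift ℤ := q.adjF.rightAdjointCommShift ℤ
  have : q.adjF.CommShift ℤ := q.adjF.commShift_of_leftAdjoint ℤ
  have : q.fls.IsTriangulated := q.adjF.isTriangulated_rightAdjoint
  have hFT1 := (q.fst ⋙ q.fls).map_distinguished _ hT1
  have hT2 : Triangle.mk (i ≫ q.adjF.unit.app N) (q.fls.map (q.fst.map (q.adjJ.unit.app N)))
      ((q.fst ⋙ q.fls).map δ ≫ ((q.fst ⋙ q.fls).commShiftIso (1 : ℤ)).hom.app N₀ ≫
        (shiftFunctor S (1 : ℤ)).map θ.inv) ∈ distTriang S := by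
    refine isomorphic_distinguished _ hFT1 _ ?_
    refine Triangle.isoMk _ _ θ (Iso.refl _) (Iso.refl _) ?_ ?_ ?_
    · change (i ≫ q.adjF.unit.app N) ≫ 𝟙 _ = θ.hom ≫ q.fls.map (q.fst.map i)
      rw [Category.comp_id, hθhom]
      exact q.adjF.unit.naturality i
    · change q.fls.map (q.fst.map (q.adjJ.unit.app N)) ≫ 𝟙 _ =
        𝟙 _ ≫ q.fls.map (q.fst.map (q.adjJ.unit.app N))
      rw [Category.comp_id, Category.id_comp]
    · change ((q.fst ⋙ q.fls).map δ ≫ ((q.fst ⋙ q.fls).commShiftIso (1 : ℤ)).hom.app N₀ ≫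
        (shiftFunctor S (1 : ℤ)).map θ.inv) ≫
          (shiftFunctor S (1 : ℤ)).map θ.hom =
        𝟙 _ ≫ (q.fst ⋙ q.fls).map δ ≫ ((q.fst ⋙ q.fls).commShiftIso (1 : ℤ)).hom.app N₀
      rw [Category.id_comp, Category.assoc, Category.assoc, ← Functor.map_comp,
        θ.inv_hom_id]
      have e0 : (shiftFunctor S (1 : ℤ)).map (𝟙 (q.fls.obj (q.fst.obj N₀))) = 𝟙 _ :=
        CategoryTheory.Functor.map_id _ _
      rw [e0]
      erw [Category.comp_id]
  obtain ⟨h, d, hh, hT⟩ := Groth.Agent.Helper3.MVGen.mv_gen (X := N₀) (Y := N)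
    (Z := q.jls.obj (q.jst.obj N)) (Y' := q.fls.obj (q.fst.obj N))
    (Z' := q.fls.obj (q.fst.obj (q.jls.obj (q.jst.obj N)))) i (q.adjJ.unit.app N) δ hT1
    (q.adjF.unit.app N) (q.fls.map (q.fst.map (q.adjJ.unit.app N))) _ hT2
  let ηP : q.jls.obj (q.jst.obj N) ⟶ q.fls.obj (q.fst.obj (q.jls.obj (q.jst.obj N))) :=
    q.adjF.unit.app (q.jls.obj (q.jst.obj N))
  have hh' : h = ηP := by
    have hnat : q.adjJ.unit.app N ≫ ηP =
        q.adjF.unit.app N ≫ q.fls.map (q.fst.map (q.adjJ.unit.app N)) :=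
      q.adjF.unit.naturality (q.adjJ.unit.app N)
    have h0 : q.adjJ.unit.app N ≫ (h - ηP) = 0 := by
      rw [Preadditive.comp_sub, hh, hnat, sub_self]
    have := Groth.Agent.Helper3.MVSqLib.eq_zero_of_comp (q.adjJ.unit.app N)
      (Groth.Agent.Helper3.MVSqLib.isIso_jst_unit hq N)
      (@asIso _ _ _ _ (q.bc2App (q.jst.obj N)) (hq.isIso_bc2App _))
      (h - ηP) h0
    exact sub_eq_zero.1 this
  rw [hh'] at hT
  exact ⟨d, hT, fun d' hd' => huniq d' d hd' hT⟩

end Groth.Agent.S16407
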