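import Groth.Statements.S0905
import Mathlib
import Groth.Agent.Lib.Helper5.Misc.ShriekAbConst

set_option autoImplicit false
universe u
open CategoryTheory
open CohSite

open Groth.Agent.Lib.Helper5.Misc Opposite

namespace Groth.Agent.S0905

variable {C : Type u} [SmallCategory C] (J : GrothendieckTopology C) (U : C)

/-- over a weakly contractible object, epimorphisms of abelian sheaves are surjective on sections -/
theorem surj_of_epi (hU : CohSite.IsWeaklyContractible J U) {F G : Sheaf J AddCommGrpCat.{u}}
    (e : F ⟶ G) [Epi e] : Function.Surjective (e.hom.app (op U)) := by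
  have h1 : Sheaf.IsLocallySurjective e :=
    (Sheaf.isLocallySurjective_iff_epi' AddCommGrpCat.{u} e).2 inferInstance
  have h3 : Epi ((sheafCompose J (forget AddCommGrpCat.{u})).map e) := inferInstance
  exact hU _ _ _ h3

/-- the free abelian sheaf on a weakly contractible object is projective -/
theorem projective_free (hU : CohSite.IsWeaklyContractible J U) :
    Projective ((presheafToSheaf J AddCommGrpCat.{u}).obj
      (yoneda.obj U ⋙ AddCommGrpCat.free.{u})) where
  factors {F G} f e he := by
    obtain ⟨t, ht⟩ := surj_of_epi J U hU e ((ShriekAb.corep₂ U J).homEquiv f)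
    refine ⟨(ShriekAb.corep₂ U J).homEquiv.symm t, ?_⟩
    apply (ShriekAb.corep₂ U J).homEquiv.injective
    rw [(ShriekAb.corep₂ U J).homEquiv_comp]
    rw [Equiv.apply_symm_apply]
    exact ht

end Groth.Agent.S0905

namespace Groth.Agent.S0905

open Opposite CategoryTheory.Limits in
/-- Parts (1) and (2), for a weakly contractible object U of a site (one over which every epimorphism of
sheaves of sets is surjective on sections): (1) the functor F ↦ F(U) from abelian sheaves to abelian
groups preserves finite colimits (it is exact, finite limits being automatic), and (2) H^p(U, F) = 0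
for every abelian sheaf F and every p > 0. (Part (3) about torsors is not included.) -/
theorem result {C : Type u} [SmallCategory C] (J : GrothendieckTopology C)
    (U : C) (hU : CohSite.IsWeaklyContractible J U) :
    PreservesFiniteColimits (sheafToPresheaf J AddCommGrpCat.{u} ⋙ (evaluation Cᵒᵖ AddCommGrpCat.{u}).obj (op U)) ∧
    ∀ (F : Sheaf J AddCommGrpCat.{u}) (p : ℕ), Subsingleton (CohSite.HU F (p + 1) U) := by
  constructor
  · have hR : PreservesFiniteLimits (sheafToPresheaf J AddCommGrpCat.{u} ⋙
        (evaluation Cᵒᵖ AddCommGrpCat.{u}).obj (op U)) := inferInstance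
    have : (sheafToPresheaf J AddCommGrpCat.{u} ⋙
        (evaluation Cᵒᵖ AddCommGrpCat.{u}).obj (op U)).Additive :=
      haveI := preservesBinaryBiproducts_of_preservesBinaryProducts
        (sheafToPresheaf J AddCommGrpCat.{u} ⋙ (evaluation Cᵒᵖ AddCommGrpCat.{u}).obj (op U))
      Functor.additive_of_preservesBinaryBiproducts _
    rw [Functor.preservesFiniteColimits_iff_forall_exact_map_and_epi]
    intro S hS
    refine ⟨((Functor.preservesFiniteLimits_iff_forall_exact_map_and_mono _).1 hR S hS).1, ?_⟩
    have hg : Epi S.g := hS.epi_g
    have := surj_of_epi J U hU S.g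
    exact (AddCommGrpCat.epi_iff_surjective _).2 this
  · intro F p
    have := projective_free J U hU
    show Subsingleton (Abelian.Ext ((presheafToSheaf J AddCommGrpCat.{u}).obj
      (yoneda.obj U ⋙ AddCommGrpCat.free.{u})) F (p + 1))
    exact subsingleton_of_forall_eq 0 fun x => Abelian.Ext.eq_zero_of_projective x

end Groth.Agent.S0905
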