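import Groth.Statements.S0481
import Mathlib.Algebra.Homology.ShortComplex.PreservesHomology
import Mathlib.Algebra.Homology.HomotopyCategory.HomComplex

set_option autoImplicit false
universe v u
open CategoryTheory
open CohDer

namespace Groth.Agent.S0481

open CategoryTheory.Limits in
/-- Let u : A ⥤ B be right adjoint to an exact additive functor w : B ⥤ A between abelian categories.
Then u applied termwise sends K-injective complexes to K-injective complexes. -/
theorem result {A : Type u} [Category.{v} A] [Abelian A]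
    {B : Type u} [Category.{v} B] [Abelian B] (u : A ⥤ B) (w : B ⥤ A) (adj : w ⊣ u)
    [u.Additive] [w.Additive] [PreservesFiniteLimits w] [PreservesFiniteColimits w]
    (I : CochainComplex A ℤ) (h : I.IsKInjective) :
    CochainComplex.IsKInjective ((u.mapHomologicalComplex (ComplexShape.up ℤ)).obj I) := by
  refine ⟨?_⟩
  intro K f hK
  open CochainComplex HomComplex in
  -- clean versions of the unit and counit
  obtain ⟨ε, hε, η, hη, htri⟩ : ∃ (ε : ∀ X : A, w.obj (u.obj X) ⟶ X)
      (_ : ∀ {X X' : A} (a : X ⟶ X'), w.map (u.map a) ≫ ε X' = ε X ≫ a)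
      (η : ∀ Y : B, Y ⟶ u.obj (w.obj Y))
      (_ : ∀ {Y Y' : B} (b : Y ⟶ Y'), b ≫ η Y' = η Y ≫ u.map (w.map b)),
      ∀ X : A, η (u.obj X) ≫ u.map (ε X) = 𝟙 (u.obj X) :=
    ⟨fun X => adj.counit.app X, fun a => adj.counit.naturality a, fun Y => adj.unit.app Y,
      fun b => adj.unit.naturality b, fun X => adj.right_triangle_components X⟩
  -- clean version of `f`
  obtain ⟨g, hg, hgf⟩ : ∃ (g : ∀ n, K.X n ⟶ u.obj (I.X n))
      (_ : ∀ i j, g i ≫ u.map (I.d i j) = K.d i j ≫ g j), ∀ n, f.f n = g n :=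
    ⟨fun n => f.f n, fun i j => f.comm i j, fun n => rfl⟩
  -- the complex `w(K)` is acyclic
  have hwK : ((w.mapHomologicalComplex (ComplexShape.up ℤ)).obj K).Acyclic := by
    intro i
    have hi : (K.sc i).Exact := hK i
    exact hi.map w
  -- the transposed morphism `w(K) ⟶ I`
  let f' : (w.mapHomologicalComplex (ComplexShape.up ℤ)).obj K ⟶ I :=
    { f := fun n => w.map (g n) ≫ ε (I.X n)
      comm' := by
        intro i j _
        show (w.map (g i) ≫ ε (I.X i)) ≫ I.d i j = w.map (K.d i j) ≫ (w.map (g j) ≫ ε (I.X j))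
        rw [Category.assoc, ← hε, ← Category.assoc, ← w.map_comp, hg, w.map_comp, Category.assoc] }
  have := h
  let ho := IsKInjective.homotopyZero f' hwK
  let z' : Cochain ((w.mapHomologicalComplex (ComplexShape.up ℤ)).obj K) I (-1) :=
    (Cochain.equivHomotopy _ _ ho).1
  have hz' : δ (-1) 0 z' = Cochain.ofHom f' := by
    have h2 : Cochain.ofHom f' = δ (-1) 0 z' + Cochain.ofHom 0 := (Cochain.equivHomotopy _ _ ho).2
    rw [Cochain.ofHom_zero, add_zero] at h2
    exact h2.symm
  -- clean version of the homotopy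
  obtain ⟨zv, hzv⟩ : ∃ (zv : ∀ (p q : ℤ), p + (-1) = q → (w.obj (K.X p) ⟶ I.X q)),
      ∀ p : ℤ, zv p (p - 1) (by omega) ≫ I.d (p - 1) p +
        w.map (K.d p (p + 1)) ≫ zv (p + 1) p (by omega) = w.map (g p) ≫ ε (I.X p) := by
    refine ⟨fun p q hpq => z'.v p q hpq, ?_⟩
    intro p
    have e := Cochain.congr_v hz' p p (add_zero p)
    rw [δ_v (-1) 0 (neg_add_cancel 1) z' p p (add_zero p) (p - 1) (p + 1) rfl rfl] at e
    simp only [Int.negOnePow_zero, one_smul, Cochain.ofHom_v] at e
    exact e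
  -- transpose the homotopy
  let z : Cochain K ((u.mapHomologicalComplex (ComplexShape.up ℤ)).obj I) (-1) :=
    Cochain.mk (fun p q hpq => η (K.X p) ≫ u.map (zv p q hpq))
  have hz : δ (-1) 0 z = Cochain.ofHom f := by
    ext p
    rw [δ_v (-1) 0 (neg_add_cancel 1) z p p (add_zero p) (p - 1) (p + 1) rfl rfl]
    simp only [Int.negOnePow_zero, one_smul, Cochain.ofHom_v]
    rw [hgf p]
    show (η (K.X p) ≫ u.map (zv p (p - 1) (by omega))) ≫ u.map (I.d (p - 1) p) +
      K.d p (p + 1) ≫ (η (K.X (p + 1)) ≫ u.map (zv (p + 1) p (by omega))) = g p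
    rw [Category.assoc, ← u.map_comp, ← Category.assoc (K.d p (p + 1)), hη, Category.assoc,
      ← u.map_comp, ← Preadditive.comp_add, ← u.map_add, hzv p, u.map_comp, ← Category.assoc,
      ← hη, Category.assoc, htri, Category.comp_id]
  refine ⟨(Cochain.equivHomotopy f 0).symm ⟨z, ?_⟩⟩
  rw [hz]
  simp

end Groth.Agent.S0481
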