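import Groth.Statements.S14768
-- import your own Groth.Agent.* helpers here
import Mathlib
import Groth.Agent.Lib.Helper7.VCov3

set_option autoImplicit false
universe u
open CategoryTheory CategoryTheory.Limits AlgebraicGeometry
open Subtr

namespace Groth.Agent.S14768

/-- Let f : X ⟶ Y be any morphism of schemes. Then every base change of f has the lifting property for
ordered pairs of points if and only if this holds for the base changes X ×_Y Spec V ⟶ Spec V along
all morphisms Spec V ⟶ Y with V a valuation ring. (The published statement is about universally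
subtrusive morphisms and assumes f universally submersive for the constructible topologies; the
lifting property alone descends from valuation rings with the same proof, and for quasi-compact f
the two statements agree.) -/
theorem result {X Y : Scheme.{u}} (f : X ⟶ Y) :
    Subtr.UnivSSubtrusive f ↔
      ∀ (V : Type u) [CommRing V] [IsDomain V] [ValuationRing V] (g : Spec (CommRingCat.of V) ⟶ Y),
        Subtr.IsSSubtrusive (pullback.snd f g) := by
  constructor
  · intro h V _ _ _ g
    exact h _ _ _ (IsPullback.of_hasPullback f g).flip
  · intro h X' Y' i₁ i₂ f' hpb y y' hy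
    obtain ⟨W, hW1, hW2, k, hk1, hk2⟩ :=
      Groth.Agent.Helper7.VCov.exists_valuationRing_of_specializes hy
    have hs := h W (k ≫ i₂)
    have hgc : (⟨⊥, Ideal.isPrime_bot⟩ : PrimeSpectrum W) ⤳ IsLocalRing.closedPoint W :=
      IsLocalRing.specializes_closedPoint _
    obtain ⟨p, p', hpp, hp, hp'⟩ := hs hgc
    let t : pullback f (k ≫ i₂) ⟶ X' :=
      hpb.lift (pullback.snd f (k ≫ i₂) ≫ k) (pullback.fst f (k ≫ i₂))
        (by rw [Category.assoc, ← pullback.condition])
    have ht : t ≫ f' = pullback.snd f (k ≫ i₂) ≫ k := hpb.lift_fst _ _ _
    refine ⟨t p, t p', hpp.map t.continuous, ?_, ?_⟩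
    · rw [← Scheme.Hom.comp_apply, ht, Scheme.Hom.comp_apply]
      erw [hp]
      exact hk2
    · rw [← Scheme.Hom.comp_apply, ht, Scheme.Hom.comp_apply]
      erw [hp']
      exact hk1

end Groth.Agent.S14768
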