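import Groth.Statements.S14769
-- import your own Groth.Agent.* helpers here
import Mathlib
import Groth.Agent.Lib.Helper7.ValSurj
import Groth.Agent.Lib.Helper7.VCov3
import Groth.Agent.S14768

set_option autoImplicit false
universe u
open CategoryTheory CategoryTheory.Limits AlgebraicGeometry
open Subtr

namespace Groth.Agent.S14769

/-- Let f : X ⟶ Y be any morphism of schemes. Then every base change of f has the lifting property for
ordered pairs of points if and only if, for every valuation ring V and morphism g : Spec V ⟶ Y,
there are a valuation ring V', a morphism a : Spec V' ⟶ X and a surjective morphism b : Spec V' ⟶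
Spec V with a ≫ f = b ≫ g. (The published statement assumes f universally submersive for the
constructible topologies and concludes universal subtrusiveness; for quasi-compact f the two agree.) -/
theorem result {X Y : Scheme.{u}} (f : X ⟶ Y) :
    Subtr.UnivSSubtrusive f ↔
      ∀ (V : Type u) [CommRing V] [IsDomain V] [ValuationRing V] (g : Spec (CommRingCat.of V) ⟶ Y),
        ∃ (V' : Type u) (_ : CommRing V') (_ : IsDomain V') (_ : ValuationRing V')
          (a : Spec (CommRingCat.of V') ⟶ X) (b : Spec (CommRingCat.of V') ⟶ Spec (CommRingCat.of V)),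
          Surjective b ∧ a ≫ f = b ≫ g := by
  constructor
  · intro h V _ _ _ g
    have hs : Subtr.IsSSubtrusive (pullback.snd f g) :=
      h _ _ _ (IsPullback.of_hasPullback f g).flip
    have hgc : (⟨⊥, Ideal.isPrime_bot⟩ : PrimeSpectrum V) ⤳ IsLocalRing.closedPoint V :=
      IsLocalRing.specializes_closedPoint _
    obtain ⟨p, p', hpp, hp, hp'⟩ := hs hgc
    obtain ⟨W, hW1, hW2, k, hk1, hk2⟩ :=
      Groth.Agent.Helper7.VCov.exists_valuationRing_of_specializes hpp
    refine ⟨W, inferInstance, hW1, hW2, k ≫ pullback.fst f g, k ≫ pullback.snd f g, ?_, ?_⟩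
    · have hsurj : Function.Surjective (k ≫ pullback.snd f g) := by
        apply Groth.Agent.Helper7.ValSurj.surjective_of_generic_closed
          (V := CommRingCat.of V) (W := W)
        · rw [Scheme.Hom.comp_apply, hk1]
          exact hp'
        · rw [Scheme.Hom.comp_apply, hk2]
          exact hp
      exact ⟨hsurj⟩
    · rw [Category.assoc, Category.assoc, pullback.condition]
  · intro h
    rw [Groth.Agent.S14768.result]
    intro V _ _ _ g y y' hy
    obtain ⟨V', _, _, _, a, b, hb, hab⟩ := h V g
    let c : Spec (CommRingCat.of V') ⟶ pullback f g := pullback.lift a b hab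
    have hc : c ≫ pullback.snd f g = b := pullback.lift_snd _ _ _
    obtain ⟨z, hz⟩ := hb.surj y
    obtain ⟨z', hz'⟩ := hb.surj y'
    rcases Groth.Agent.Helper7.ValSurj.specializes_total (V := V') z' z with hzz | hzz
    · refine ⟨c z, c z', hzz.map c.continuous, ?_, ?_⟩
      · rw [← Scheme.Hom.comp_apply, hc]; exact hz
      · rw [← Scheme.Hom.comp_apply, hc]; exact hz'
    · have hyy : y ⤳ y' := by
        have := hzz.map b.continuous
        rw [hz, hz'] at this
        exact this
      have heq : y' = y := (hy.antisymm hyy).eq
      refine ⟨c z, c z, specializes_rfl, ?_, ?_⟩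
      · rw [← Scheme.Hom.comp_apply, hc]; exact hz
      · rw [← Scheme.Hom.comp_apply, hc, heq]; exact hz

end Groth.Agent.S14769
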