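import Groth.Statements.S19530
-- import your own Groth.Agent.* helpers here
import Mathlib
import Groth.Agent.Lib.Helper7.ValComp
import Groth.Agent.Lib.Helper7.ValSurj
import Groth.Agent.S14769

set_option autoImplicit false
universe u
open CategoryTheory CategoryTheory.Limits AlgebraicGeometry
open Subtr

namespace Groth.Agent.S19530

/-- Let f : X ⟶ Y be a morphism of schemes such that every base change of f has the lifting property for
ordered pairs of points (every point together with a specialization of it is the image of such a
pair). Then every finite chain of points y_0, y_1, …, y_n of Y, in which y_j is a specialization of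
y_i whenever i ≤ j, lifts to a chain in X: there are points x_0, …, x_n of X with x_j a
specialization of x_i for i ≤ j and f(x_i) = y_i for every i. (The published statement is for
universally subtrusive f, which adds submersiveness for the constructible topologies, and for
arbitrary chains having a lower bound in Y; this row keeps the pair-lifting property alone and
finite chains, whose most special member is a lower bound.) -/
theorem result {X Y : Scheme.{u}} (f : X ⟶ Y)
    (hf : Subtr.UnivSSubtrusive f) (n : ℕ) (y : Fin (n + 1) → Y)
    (hy : ∀ i j : Fin (n + 1), i ≤ j → y i ⤳ y j) :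
    ∃ x : Fin (n + 1) → X, (∀ i j : Fin (n + 1), i ≤ j → x i ⤳ x j) ∧ ∀ i, f (x i) = y i := by
  classical
  obtain ⟨V, hVd, hVv, g, P, hP, hgP, -⟩ :=
    Groth.Agent.Helper7.ValComp.exists_valuationRing_chain n y hy
  obtain ⟨V', _, _, _, a, b, hb, hab⟩ := (Groth.Agent.S14769.result f).mp hf V g
  have hsec : ∀ p : Spec V, ∃ q : Spec (CommRingCat.of V'), b q = p := fun p => hb.surj p
  choose σ hσ using hsec
  refine ⟨fun i => a (σ (P i)), ?_, ?_⟩
  · intro i j hij
    have hPij : P i ⤳ P j := hP i j hij
    rcases Groth.Agent.Helper7.ValSurj.specializes_total (V := V') (σ (P i)) (σ (P j)) with h | h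
    · exact h.map a.continuous
    · have h' : P j ⤳ P i := by
        have := h.map b.continuous
        rw [hσ, hσ] at this
        exact this
      have heq : P i = P j := (hPij.antisymm h').eq
      change a (σ (P i)) ⤳ a (σ (P j))
      rw [heq]
  · intro i
    change f (a (σ (P i))) = y i
    rw [← Scheme.Hom.comp_apply, hab, Scheme.Hom.comp_apply, hσ]
    exact hgP i

end Groth.Agent.S19530
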