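import Groth.Statements.S2056
import Mathlib

set_option autoImplicit false
universe u
open CAlg

namespace Groth.Agent.S2056

open TensorProduct

theorem rTensor_comm_apply {R : Type*} [CommRing R] {M A B : Type*} [AddCommGroup M] [Module R M]
    [AddCommGroup A] [Module R A] [AddCommGroup B] [Module R B] (g : A →ₗ[R] B) (z : M ⊗[R] A) :
    (g.rTensor M) (TensorProduct.comm R M A z) = TensorProduct.comm R M B ((g.lTensor M) z) := by
  induction z using TensorProduct.induction_on with
  | zero => simp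
  | tmul x y => simp
  | add x y hx hy => simp only [map_add, hx, hy]

theorem lTensor_fg_eq_zero {R : Type*} [CommRing R] {M P : Type*} [AddCommGroup M] [Module R M]
    [AddCommGroup P] [Module R P] (N₁ : Submodule R P) (hN : N₁.FG) (z : M ⊗[R] N₁)
    (hz : (N₁.subtype.lTensor M) z = 0) :
    ∃ N' : Submodule R P, N'.FG ∧ ∃ h : N₁ ≤ N', ((N₁.inclusion h).lTensor M) z = 0 := by
  have h1 : (N₁.subtype.rTensor M) (TensorProduct.comm R M N₁ z) = (N₁.subtype.rTensor M) 0 := by
    rw [rTensor_comm_apply, hz, map_zero, map_zero]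
  obtain ⟨N', hfg, h, heq⟩ := hN.exists_rTensor_fg_inclusion_eq h1
  refine ⟨N', hfg, h, ?_⟩
  rw [rTensor_comm_apply, map_zero] at heq
  exact (LinearEquiv.map_eq_zero_iff _).1 heq

theorem inj_of_fg {R : Type*} [CommRing R] {M N Q : Type*} [AddCommGroup M] [Module R M]
    [AddCommGroup N] [Module R N] [AddCommGroup Q] [Module R Q] (f : M →ₗ[R] N)
    (h : ∀ Q₁ : Submodule R Q, Q₁.FG → Function.Injective (f.rTensor Q₁)) :
    Function.Injective (f.rTensor Q) := by
  rw [injective_iff_map_eq_zero]
  intro x hx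
  obtain ⟨Q₁, hfin, hQ₁⟩ := TensorProduct.exists_finite_submodule_right_of_setFinite {x}
    (Set.finite_singleton x)
  obtain ⟨x₁, rfl⟩ := hQ₁ (Set.mem_singleton x)
  have hfg1 : Q₁.FG := Module.Finite.iff_fg.1 hfin
  have hz : (Q₁.subtype.lTensor N) ((f.rTensor Q₁) x₁) = 0 := by
    rw [← LinearMap.comp_apply, LinearMap.lTensor_comp_rTensor, ← LinearMap.rTensor_comp_lTensor,
      LinearMap.comp_apply]
    exact hx
  obtain ⟨Q₂, hfg2, hle, h0⟩ := lTensor_fg_eq_zero Q₁ hfg1 _ hz
  have hx2 : ((Q₁.inclusion hle).lTensor M) x₁ = 0 := by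
    apply h Q₂ hfg2
    rw [map_zero, ← LinearMap.comp_apply, LinearMap.rTensor_comp_lTensor,
      ← LinearMap.lTensor_comp_rTensor, LinearMap.comp_apply]
    exact h0
  have hcomp : Q₁.subtype = Q₂.subtype ∘ₗ (Q₁.inclusion hle) := by
    ext; rfl
  rw [hcomp, LinearMap.lTensor_comp, LinearMap.comp_apply, hx2, map_zero]

theorem inj_of_fp {R : Type u} [CommRing R] {M N : Type u} [AddCommGroup M] [Module R M]
    [AddCommGroup N] [Module R N] (f : M →ₗ[R] N)
    (h : ∀ (Q : Type u) [AddCommGroup Q] [Module R Q], Module.FinitePresentation R Q →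
        Function.Injective (f.rTensor Q))
    (Q : Type u) [AddCommGroup Q] [Module R Q] [Module.Finite R Q] :
    Function.Injective (f.rTensor Q) := by
  obtain ⟨n, π, hπ⟩ := Module.Finite.exists_fin' R Q
  rw [injective_iff_map_eq_zero]
  intro x hx
  obtain ⟨x', rfl⟩ := LinearMap.lTensor_surjective M hπ x
  have hex : Function.Exact ((LinearMap.ker π).subtype.lTensor N) (π.lTensor N) :=
    lTensor_exact N (LinearMap.exact_subtype_ker_map π) hπ
  have h0 : (π.lTensor N) ((f.rTensor (Fin n → R)) x') = 0 := by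
    rw [← LinearMap.comp_apply, LinearMap.lTensor_comp_rTensor, ← LinearMap.rTensor_comp_lTensor,
      LinearMap.comp_apply]
    exact hx
  obtain ⟨w, hw⟩ := (hex _).1 h0
  obtain ⟨K₁, hfin, hK₁⟩ := TensorProduct.exists_finite_submodule_right_of_setFinite {w}
    (Set.finite_singleton w)
  obtain ⟨w₁, rfl⟩ := hK₁ (Set.mem_singleton w)
  let K₀ : Submodule R (Fin n → R) := K₁.map (LinearMap.ker π).subtype
  have hK₀fg : K₀.FG := (Module.Finite.iff_fg.1 hfin).map _
  have hK₀le : K₀ ≤ LinearMap.ker π := by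
    rintro _ ⟨k, _, rfl⟩
    exact k.2
  have hfp : Module.FinitePresentation R ((Fin n → R) ⧸ K₀) := by
    refine Module.finitePresentation_of_free_of_surjective K₀.mkQ K₀.mkQ_surjective ?_
    rw [Submodule.ker_mkQ]
    exact hK₀fg
  have hzero : (K₀.mkQ ∘ₗ (LinearMap.ker π).subtype ∘ₗ K₁.subtype) = 0 := by
    ext k
    simp only [LinearMap.comp_apply, Submodule.subtype_apply, Submodule.mkQ_apply,
      LinearMap.zero_apply]
    rw [Submodule.Quotient.mk_eq_zero]
    exact ⟨k.1, k.2, rfl⟩
  have h1 : (f.rTensor ((Fin n → R) ⧸ K₀)) ((K₀.mkQ.lTensor M) x') = 0 := by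
    rw [← LinearMap.comp_apply, LinearMap.rTensor_comp_lTensor, ← LinearMap.lTensor_comp_rTensor,
      LinearMap.comp_apply, ← hw, ← LinearMap.comp_apply, ← LinearMap.comp_apply,
      ← LinearMap.lTensor_comp, ← LinearMap.lTensor_comp, LinearMap.comp_assoc, hzero, LinearMap.lTensor_zero,
      LinearMap.zero_apply]
  have h2 : (K₀.mkQ.lTensor M) x' = 0 := h _ hfp (by rw [h1, map_zero])
  have hcomp : π = (K₀.liftQ π hK₀le) ∘ₗ K₀.mkQ := by
    ext; simp
  rw [hcomp, LinearMap.lTensor_comp, LinearMap.comp_apply, h2, map_zero]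

/-- A linear map of `R`-modules is universally injective (injective after tensoring with any module) if
and only if it is injective after tensoring with every finitely presented module. -/
theorem result {R M N : Type u} [CommRing R] [AddCommGroup M]
    [Module R M] [AddCommGroup N] [Module R N] (f : M →ₗ[R] N) :
    CAlgX.UniversallyInjective R f ↔
      ∀ (Q : Type u) [AddCommGroup Q] [Module R Q], Module.FinitePresentation R Q →
        Function.Injective (f.rTensor Q) := by
  classical
  constructor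
  · intro h Q _ _ _
    exact h Q
  · intro h Q _ _
    refine inj_of_fg f (fun Q₁ hQ₁ => ?_)
    have : Module.Finite R Q₁ := Module.Finite.iff_fg.2 hQ₁
    exact inj_of_fp f h Q₁

end Groth.Agent.S2056
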