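import Groth.Statements.S2057
import Mathlib
import Groth.Agent.S2056

set_option autoImplicit false
universe u
open CAlg

namespace Groth.Agent.S2057

open TensorProduct

section
variable {R : Type*} [CommRing R]

theorem rTensor_injective_of_equiv' {M M' : Type*} [AddCommGroup M] [Module R M]
    [AddCommGroup M'] [Module R M'] (f : M →ₗ[R] M') {Q₁ Q₂ : Type*} [AddCommGroup Q₁]
    [Module R Q₁] [AddCommGroup Q₂] [Module R Q₂] (e : Q₁ ≃ₗ[R] Q₂)
    (h : Function.Injective (f.rTensor Q₁)) : Function.Injective (f.rTensor Q₂) := by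
  have hcomm : (f.rTensor Q₂) ∘ₗ (e.toLinearMap.lTensor M) =
      (e.toLinearMap.lTensor M') ∘ₗ (f.rTensor Q₁) := by
    ext; simp
  have h1 : Function.Injective ((f.rTensor Q₂) ∘ₗ (e.toLinearMap.lTensor M)) := by
    rw [hcomm]
    exact (e.lTensor M').injective.comp h
  have h2 : Function.Surjective (e.toLinearMap.lTensor M) := (e.lTensor M).surjective
  intro a b hab
  obtain ⟨a', rfl⟩ := h2 a
  obtain ⟨b', rfl⟩ := h2 b
  rw [h1 hab]

/-- the identification `M ⊗ Rᵏ ≃ Mᵏ` -/
noncomputable abbrev Phi (M : Type*) [AddCommGroup M] [Module R M] (k : ℕ) :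
    M ⊗[R] (Fin k → R) ≃ₗ[R] (Fin k → M) := TensorProduct.piScalarRight R R M (Fin k)

theorem Phi_tmul (M : Type*) [AddCommGroup M] [Module R M] (k : ℕ) (x : M) (v : Fin k → R) :
    Phi M k (x ⊗ₜ[R] v) = fun j => v j • x := by
  simp [Phi, TensorProduct.piScalarRight_apply, TensorProduct.piScalarRightHom_tmul]

theorem nat1 (M : Type*) [AddCommGroup M] [Module R M] {n m : ℕ}
    (g : (Fin m → R) →ₗ[R] (Fin n → R)) (w : M ⊗[R] (Fin m → R)) (i : Fin n) :
    Phi M n ((g.lTensor M) w) i = ∑ j, (g (Pi.single j 1) i) • (Phi M m w) j := by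
  induction w using TensorProduct.induction_on with
  | zero => simp
  | tmul z v =>
    rw [LinearMap.lTensor_tmul, Phi_tmul, Phi_tmul]
    have hv : g v = ∑ j, v j • g (Pi.single j 1) := by
      conv_lhs => rw [pi_eq_sum_univ' v]
      simp only [map_sum, map_smul]
    rw [hv]
    simp only [Finset.sum_apply, Pi.smul_apply, smul_eq_mul, Finset.sum_smul, mul_smul]
    refine Finset.sum_congr rfl (fun j _ => ?_)
    rw [smul_comm]
  | add x y hx hy =>
    simp only [map_add, Pi.add_apply, hx, hy, smul_add, Finset.sum_add_distrib]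

theorem nat2 {M N : Type*} [AddCommGroup M] [Module R M] [AddCommGroup N] [Module R N]
    (f : M →ₗ[R] N) {n : ℕ} (t : M ⊗[R] (Fin n → R)) (i : Fin n) :
    Phi N n ((f.rTensor (Fin n → R)) t) i = f (Phi M n t i) := by
  induction t using TensorProduct.induction_on with
  | zero => simp
  | tmul z v =>
    rw [LinearMap.rTensor_tmul, Phi_tmul, Phi_tmul, map_smul]
  | add x y hx hy =>
    simp only [map_add, Pi.add_apply, hx, hy]

theorem lemL (M : Type*) [AddCommGroup M] [Module R M] {n m : ℕ} {Q : Type*} [AddCommGroup Q]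
    [Module R Q] (g : (Fin m → R) →ₗ[R] (Fin n → R)) (π : (Fin n → R) →ₗ[R] Q)
    (hπ : Function.Surjective π) (hex : Function.Exact g π) (t : M ⊗[R] (Fin n → R)) :
    (π.lTensor M) t = 0 ↔
      ∃ z : Fin m → M, ∀ i, Phi M n t i = ∑ j, (g (Pi.single j 1) i) • z j := by
  have hex' : Function.Exact (g.lTensor M) (π.lTensor M) := lTensor_exact M hex hπ
  constructor
  · intro h
    obtain ⟨w, rfl⟩ := (hex' t).1 h
    exact ⟨Phi M m w, fun i => nat1 M g w i⟩
  · rintro ⟨z, hz⟩
    have : t = (g.lTensor M) ((Phi M m).symm z) := by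
      apply (Phi M n).injective
      funext i
      rw [hz i, nat1, LinearEquiv.apply_symm_apply]
    rw [this]
    exact (hex' _).2 ⟨_, rfl⟩

end

/-- An injective linear map `f : M₁ → M₂` is universally injective if and only if: whenever elements
`x_i` of `M₁` satisfy `f(x_i) = Σ_j a_{ij} y_j` for some `y_j ∈ M₂` and scalars `a_{ij}`, there are
`z_j ∈ M₁` with `x_i = Σ_j a_{ij} z_j`. -/
theorem result {R M₁ M₂ : Type u} [CommRing R] [AddCommGroup M₁]
    [Module R M₁] [AddCommGroup M₂] [Module R M₂] (f : M₁ →ₗ[R] M₂) (hf : Function.Injective f) :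
    CAlgX.UniversallyInjective R f ↔
      ∀ (n m : ℕ) (x : Fin n → M₁) (y : Fin m → M₂) (a : Fin n → Fin m → R),
        (∀ i, f (x i) = ∑ j, a i j • y j) → ∃ z : Fin m → M₁, ∀ i, x i = ∑ j, a i j • z j := by
  classical
  constructor
  · intro hUI n m x y a hxy
    let g : (Fin m → R) →ₗ[R] (Fin n → R) := Matrix.mulVecLin (Matrix.of a)
    have hg : ∀ i j, g (Pi.single j 1) i = a i j := by
      intro i j
      simp [g]
    let π := (LinearMap.range g).mkQ
    have hπ : Function.Surjective π := Submodule.mkQ_surjective _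
    have hex : Function.Exact g π := LinearMap.exact_map_mkQ_range g
    let t : M₁ ⊗[R] (Fin n → R) := (Phi M₁ n).symm x
    have ht : Phi M₁ n t = x := LinearEquiv.apply_symm_apply _ _
    have h1 : (π.lTensor M₁) t = 0 := by
      apply hUI ((Fin n → R) ⧸ LinearMap.range g)
      rw [map_zero, ← LinearMap.comp_apply, LinearMap.rTensor_comp_lTensor,
        ← LinearMap.lTensor_comp_rTensor, LinearMap.comp_apply]
      rw [lemL M₂ g π hπ hex]
      refine ⟨y, fun i => ?_⟩
      rw [nat2, ht, hxy i]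
      simp only [hg]
    obtain ⟨z, hz⟩ := (lemL M₁ g π hπ hex t).1 h1
    refine ⟨z, fun i => ?_⟩
    rw [← ht, hz i]
    simp only [hg]
  · intro hE
    rw [Groth.Agent.S2056.result]
    intro Q _ _ hQ
    obtain ⟨n, m, π, g, hπ, hex⟩ := Module.FinitePresentation.exists_fin' R Q
    rw [injective_iff_map_eq_zero]
    intro t' ht'
    obtain ⟨t, rfl⟩ := LinearMap.lTensor_surjective M₁ hπ t'
    rw [← LinearMap.comp_apply, LinearMap.rTensor_comp_lTensor,
        ← LinearMap.lTensor_comp_rTensor, LinearMap.comp_apply] at ht'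
    obtain ⟨y, hy⟩ := (lemL M₂ g π hπ hex _).1 ht'
    obtain ⟨z, hz⟩ := hE n m (Phi M₁ n t) y (fun i j => g (Pi.single j 1) i)
      (fun i => by rw [← nat2, hy i])
    exact (lemL M₁ g π hπ hex t).2 ⟨z, hz⟩

end Groth.Agent.S2057
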