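import Groth.Statements.S9581
-- import your own Groth.Agent.* helpers here
import Groth.Agent.Lib.Helper7.WeakAss
import Groth.Agent.S9589
import Mathlib.RingTheory.Localization.AtPrime.Basic

set_option autoImplicit false
universe u
open CAlg

namespace Groth.Agent.S9581

/-- (1) ⇔ (3): for a ring R, an R-module M and a prime p of R, the prime p is weakly associated to M
(minimal among the primes containing the annihilator of some element of M) if and only if the
localization M_p contains an element whose annihilator in R_p has radical equal to the maximal ideal
p R_p. -/
theorem result {R : Type u} [CommRing R] (M : Type u) [AddCommGroup M] [Module R M] (p : Ideal R) [p.IsPrime] :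
    p ∈ FlatCA.weakAss R M ↔ IsAssociatedPrime (IsLocalRing.maximalIdeal (Localization.AtPrime p)) (LocalizedModule p.primeCompl M) := by
  have hdisj : Disjoint ((p.primeCompl : Submonoid R) : Set R) (p : Set R) := by
    rw [Set.disjoint_left]
    intro x hx hxp
    exact hx hxp
  have hmax : Ideal.map (algebraMap R (Localization.AtPrime p)) p =
      IsLocalRing.maximalIdeal (Localization.AtPrime p) :=
    IsLocalization.AtPrime.map_eq_maximalIdeal p (Localization.AtPrime p)
  have hloc : ∀ J : Ideal (Localization.AtPrime p),
      IsLocalRing.maximalIdeal (Localization.AtPrime p) ∈ J.minimalPrimes ↔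
        IsLocalRing.maximalIdeal (Localization.AtPrime p) = J.radical := by
    intro J
    constructor
    · intro h
      have hsing : J.minimalPrimes = {IsLocalRing.maximalIdeal (Localization.AtPrime p)} := by
        ext q
        constructor
        · intro hq
          have hle : q ≤ IsLocalRing.maximalIdeal _ := IsLocalRing.le_maximalIdeal hq.1.1.ne_top
          exact le_antisymm hle (h.2 hq.1 hle)
        · rintro rfl
          exact h
      rw [← Ideal.sInf_minimalPrimes, hsing, sInf_singleton]
    · intro h
      have hJle : J ≤ IsLocalRing.maximalIdeal (Localization.AtPrime p) := by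
        rw [h]; exact Ideal.le_radical
      refine ⟨⟨inferInstance, hJle⟩, ?_⟩
      intro q hq _
      rw [h]
      exact (Ideal.IsPrime.radical_le_iff hq.1).mpr hq.2
  rw [Groth.Agent.S9589.result p.primeCompl M p hdisj, hmax]
  constructor
  · rintro ⟨x, hx⟩
    refine ⟨inferInstance, x, ?_⟩
    rw [Submodule.bot_colon']
    exact (hloc _).mp hx
  · rintro ⟨_, x, hx⟩
    refine ⟨x, ?_⟩
    rw [Submodule.bot_colon'] at hx
    exact (hloc _).mpr hx

end Groth.Agent.S9581
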