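import Groth.Statements.S3024
import Groth.Agent.Lib.Helper2.Sch.SchImageGrp


set_option autoImplicit false
universe u
open CategoryTheory MonoidalCategory CartesianMonoidalCategory MonObj GrpObj AlgebraicGeometry TensorProduct
open SGA3

namespace Groth.Agent.S3024

/-- Let f : H → G be a quasi-compact homomorphism of group schemes over a field k. Then f factors as a
homomorphism f' : H → H' followed by a homomorphism i : H' → G which is a closed immersion (H' is
the schematic image of f, a closed subgroup scheme of G), with f' schematically dominant,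
quasi-compact and surjective. -/
theorem result (k : Type u) [Field k] (H G : Over (Spec (CommRingCat.of k))) [GrpObj H] [GrpObj G]
    (f : H ⟶ G) [IsMonHom f] [QuasiCompact f.left] :
    ∃ (H' : Over (Spec (CommRingCat.of k))) (_ : GrpObj H') (i : H' ⟶ G) (f' : H ⟶ H'),
      IsMonHom i ∧ IsMonHom f' ∧ f' ≫ i = f ∧ IsClosedImmersion i.left ∧
      f'.left.ker = ⊥ ∧ QuasiCompact f'.left ∧ Surjective f'.left := by
  obtain ⟨H', i, f', hi, hf', hf'', hfi⟩ : ∃ (H' : Over (Spec (CommRingCat.of k))) (i : H' ⟶ G)
      (f' : H ⟶ H'), IsClosedImmersion i.left ∧ QuasiCompact f'.left ∧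
        IsSchemeTheoreticallyDominant f'.left ∧ f' ≫ i = f :=
    ⟨Over.mk (f.left.imageι ≫ G.hom), Over.homMk f.left.imageι rfl,
      Over.homMk f.left.toImage (by
        change f.left.toImage ≫ (f.left.imageι ≫ G.hom) = H.hom
        rw [Scheme.Hom.toImage_imageι_assoc, Over.w f]),
      (inferInstance : IsClosedImmersion f.left.imageι),
      (inferInstance : QuasiCompact f.left.toImage),
      Groth.Agent.Helper2.SchImage.isSchemeTheoreticallyDominant_toImage f.left, by
        ext; exact f.left.toImage_imageι⟩
  obtain ⟨inst, h1, h2⟩ := Groth.Agent.Helper2.SchImage.exists_grpObj f i f' hfi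
  exact ⟨H', inst, i, f', h1, h2, hfi, inferInstance, f'.left.ker_eq_bot, inferInstance,
    Groth.Agent.Helper2.GrpHom.surjective_of_denseRange f' f'.left.denseRange⟩

end Groth.Agent.S3024
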