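import Groth.Statements.S4710
import Mathlib
import Groth.Prelude.Def_Found
import Groth.Agent.Lib.Helper6.Japanese
-- import your own Groth.Agent.* helpers here

set_option autoImplicit false
universe u
open EGA4

namespace Groth.Agent.S4710

namespace Aux

open Groth.Agent.Lib.Helper6.Japanese

/-- N-2 passes to the quotient of a localization -/
theorem n2_quot_loc' (A : Type u) [CommRing A] (M : Submonoid A) (S : Type u) [CommRing S]
    [Algebra A S] [IsLocalization M S] (p : Ideal A) [p.IsPrime]
    (h : CAlg.IsN2 (A ⧸ p)) (Q : Ideal S)
    (hQ : Q = p.map (algebraMap A S)) [Q.IsPrime] :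
    CAlg.IsN2 (S ⧸ Q) := by
  subst hQ
  exact n2_loc (A ⧸ p) (Algebra.algebraMapSubmonoid (A ⧸ p) M)
    (S ⧸ p.map (algebraMap A S)) h

theorem main (A : Type u) [CommRing A] (hA : CAlg.IsNagata A) (S : Submonoid A) :
    CAlg.IsNagata (Localization S) := by
  obtain ⟨hN, h⟩ := hA
  refine ⟨IsLocalization.isNoetherianRing S _ hN, fun P _ => ?_⟩
  have hp : (P.comap (algebraMap A (Localization S))).IsPrime := Ideal.comap_isPrime _ _
  exact n2_quot_loc' A S (Localization S) (P.comap (algebraMap A (Localization S))) (h _) P
      (IsLocalization.map_under S (Localization S) P).symm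

end Aux

/-- Last assertion, case of rings of fractions: if A is a Noetherian ring all of whose quotient domains
are Japanese (a Nagata ring), then so is every ring of fractions S⁻¹A. -/
theorem result (A : Type u) [CommRing A] (hA : CAlg.IsNagata A) (S : Submonoid A) :
    CAlg.IsNagata (Localization S) := by
  exact Aux.main A hA S

end Groth.Agent.S4710
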