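import Groth.Statements.S0544
import Mathlib
import Groth.Agent.Lib.Helper2.CompleteFinite

set_option autoImplicit false
universe u
open CAlg

namespace Groth.Agent.S0544

/-- Let `R` be complete with respect to an ideal `I` and `M` an `R`-module which is `I`-adically
separated and such that `M/IM` is finitely generated. Then `M` is a finitely generated `R`-module. -/
theorem result (R : Type u) [CommRing R]
    (I : Ideal R) [IsAdicComplete I R] (M : Type u) [AddCommGroup M] [Module R M] [IsHausdorff I M]
    (h : Module.Finite R (M ⧸ (I • ⊤ : Submodule R M))) : Module.Finite R M := by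
  obtain ⟨r, s, hs⟩ := Module.Finite.exists_fin (R := R) (M := M ⧸ (I • ⊤ : Submodule R M))
  have hsurj := Submodule.mkQ_surjective (I • ⊤ : Submodule R M)
  choose x hx using fun i => hsurj (s i)
  have hspan : Submodule.span R (Set.range x) = ⊤ := by
    apply Groth.Agent.Helper2.CompleteFinite.span_eq_top_of_sup_smul_eq_top I
    rw [eq_top_iff]
    intro z _
    have h1 : (I • ⊤ : Submodule R M).mkQ z ∈ Submodule.span R (Set.range s) := by
      rw [hs]; trivial
    obtain ⟨c, hc⟩ := (Submodule.mem_span_range_iff_exists_fun R).1 h1
    have h2 : z - ∑ i, c i • x i ∈ LinearMap.ker (I • ⊤ : Submodule R M).mkQ := by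
      rw [LinearMap.mem_ker, map_sub, map_sum, ← hc]
      simp only [map_smul, hx, sub_self]
    rw [Submodule.ker_mkQ] at h2
    have h3 : z = ∑ i, c i • x i + (z - ∑ i, c i • x i) := by abel
    rw [h3]
    refine Submodule.add_mem_sup (Submodule.sum_mem _ fun i _ => ?_) h2
    exact Submodule.smul_mem _ _ (Submodule.subset_span ⟨i, rfl⟩)
  exact Module.finite_def.2 (Submodule.fg_iff_exists_fin_generating_family.2 ⟨r, x, hspan⟩)

end Groth.Agent.S0544
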