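import Groth.Statements.S1964
-- import your own Groth.Agent.* helpers here
import Mathlib
import Groth.Agent.Lib.Helper7.Hensel.IntegralDomain

set_option autoImplicit false
universe u
open EtAlg

namespace Groth.Agent.S1964

/-- A domain B integral over a henselian local ring A is itself henselian local, and the structure map A
-> B is local; if the residue field of A is separably closed, so is that of B, and the residue field
extension is purely inseparable. -/
theorem result (A B : Type u) [CommRing A] [HenselianLocalRing A] [CommRing B]
    [IsDomain B] [Algebra A B] [Algebra.IsIntegral A B] :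
    ∃ _ : HenselianLocalRing B, IsLocalHom (algebraMap A B) ∧
      (IsSepClosed (IsLocalRing.ResidueField A) →
        IsSepClosed (IsLocalRing.ResidueField B) ∧
        ∀ _ : IsLocalHom (algebraMap A B),
          letI := (IsLocalRing.ResidueField.map (algebraMap A B)).toAlgebra
          IsPurelyInseparable (IsLocalRing.ResidueField A) (IsLocalRing.ResidueField B)) := by
  have hloc : IsLocalRing B := Groth.Agent.Helper7.Hensel.isLocalRing_of_isIntegral_domain A B
  have hH : HenselianLocalRing B :=
    Groth.Agent.Helper7.Hensel.henselianLocalRing_of_isIntegral_of_isLocalRing A B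
  refine ⟨hH, Groth.Agent.Helper7.Hensel.isLocalHom_of_isIntegral, ?_⟩
  intro hsc
  have key : ∀ (_ : IsLocalHom (algebraMap A B)),
      let _ : Algebra (IsLocalRing.ResidueField A) (IsLocalRing.ResidueField B) :=
        (IsLocalRing.ResidueField.map (algebraMap A B)).toAlgebra
      Algebra.IsAlgebraic (IsLocalRing.ResidueField A) (IsLocalRing.ResidueField B) := by
    intro hl _
    have hint : Algebra.IsIntegral (IsLocalRing.ResidueField A) (IsLocalRing.ResidueField B) := by
      constructor
      intro y
      obtain ⟨b, rfl⟩ := IsLocalRing.residue_surjective y
      exact IsIntegral.map_of_comp_eq (IsLocalRing.residue A) (IsLocalRing.residue B) rfl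
        (Algebra.IsIntegral.isIntegral b)
    exact Algebra.IsIntegral.isAlgebraic
  have hl : IsLocalHom (algebraMap A B) := Groth.Agent.Helper7.Hensel.isLocalHom_of_isIntegral
  constructor
  · let _ : Algebra (IsLocalRing.ResidueField A) (IsLocalRing.ResidueField B) :=
        (IsLocalRing.ResidueField.map (algebraMap A B)).toAlgebra
    have := key hl
    exact Algebra.IsAlgebraic.isSepClosed (F := IsLocalRing.ResidueField A)
  · intro hl'
    let _ : Algebra (IsLocalRing.ResidueField A) (IsLocalRing.ResidueField B) :=
        (IsLocalRing.ResidueField.map (algebraMap A B)).toAlgebra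
    have := key hl'
    exact Algebra.IsAlgebraic.isPurelyInseparable_of_isSepClosed

end Groth.Agent.S1964
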