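import Groth.Statements.S3417
import Groth.Agent.Lib.Helper6.DVRFib.SchOpen

set_option autoImplicit false
open CategoryTheory AlgebraicGeometry
universe u
open EGA43

namespace Groth.Agent.S3417

/-- Let A be a discrete valuation ring, Y = Spec A with closed point a and generic point b, and f : X ⟶
Y a morphism locally of finite type which is open (as a map of spaces). If X is connected and the
fibre over a is a reduced scheme, then the fibre over b is connected. (Stated with 'preconnected',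
which also covers the empty case; a is the closed point and b the point specialising to every
point.) -/
theorem result (A : Type u) [CommRing A] [IsDomain A]
    [IsDiscreteValuationRing A] {X : Scheme.{u}} (f : X ⟶ Spec (CommRingCat.of A)) [LocallyOfFiniteType f]
    (hopen : IsOpenMap f.base) [PreconnectedSpace X]
    (a b : ↥(Spec (CommRingCat.of A))) (ha : IsClosed ({a} : Set ↥(Spec (CommRingCat.of A))))
    (hb : ∀ z : ↥(Spec (CommRingCat.of A)), b ⤳ z)
    (hred : AlgebraicGeometry.IsReduced (f.fiber a)) :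
    PreconnectedSpace ↥(f.fiber b) := by
  classical
  -- identify `a` and `b`
  have ha' : a = IsLocalRing.closedPoint A := by
    have hmax : (a : PrimeSpectrum A).asIdeal.IsMaximal :=
      (PrimeSpectrum.isClosed_singleton_iff_isMaximal _).mp ha
    exact PrimeSpectrum.ext (IsLocalRing.eq_maximalIdeal hmax)
  have hb' : b = (⟨⊥, Ideal.isPrime_bot⟩ : PrimeSpectrum A) := by
    have h1 : @LE.le (PrimeSpectrum A) _ b ⟨⊥, Ideal.isPrime_bot⟩ :=
      (PrimeSpectrum.le_iff_specializes _ _).mpr (hb _)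
    have h2 : (b : PrimeSpectrum A).asIdeal ≤ ⊥ := h1
    exact PrimeSpectrum.ext (le_bot_iff.mp h2)
  subst ha' hb'
  obtain ⟨π, hπ⟩ := IsDiscreteValuationRing.exists_irreducible A
  have hsingle : ({(⟨⊥, Ideal.isPrime_bot⟩ : PrimeSpectrum A)} : Set (PrimeSpectrum A)) =
      (PrimeSpectrum.basicOpen π : Set (PrimeSpectrum A)) := by
    ext p
    simp only [Set.mem_singleton_iff, SetLike.mem_coe, PrimeSpectrum.mem_basicOpen]
    rw [PrimeSpectrum.ext_iff]
    exact Groth.Agent.Lib.Helper6.DVRFib.dvr_prime_eq_bot_iff π hπ p.asIdeal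
  have hopen0 : IsOpen ({(⟨⊥, Ideal.isPrime_bot⟩ : PrimeSpectrum A)} : Set (PrimeSpectrum A)) := by
    rw [hsingle]
    exact (PrimeSpectrum.basicOpen π).2
  have hGopen : IsOpen (f ⁻¹' {(⟨⊥, Ideal.isPrime_bot⟩ : PrimeSpectrum A)}) :=
    IsOpen.preimage f.continuous hopen0
  have hGdense : Dense (f ⁻¹' {(⟨⊥, Ideal.isPrime_bot⟩ : PrimeSpectrum A)}) := by
    intro x
    rw [mem_closure_iff]
    intro o ho hxo
    have h1 : IsOpen (f '' o) := hopen o ho
    have h2 : f x ∈ f '' o := ⟨x, hxo, rfl⟩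
    have h3 : (⟨⊥, Ideal.isPrime_bot⟩ : PrimeSpectrum A) ∈ f '' o := (hb (f x)).mem_open h1 h2
    obtain ⟨y, hyo, hy⟩ := h3
    exact ⟨y, hyo, hy⟩
  have hpre : _root_.IsPreconnected (f ⁻¹' {(⟨⊥, Ideal.isPrime_bot⟩ : PrimeSpectrum A)}) :=
    Groth.Agent.Lib.Helper6.DVRFib.isPreconnected_of_disjoint_closure _ hGopen hGdense
      (fun u v hu hv huv hcov =>
        Groth.Agent.Lib.Helper6.DVRFib.disjoint_closure_generic' f hred hGdense u v hu hv huv hcov)
  have hps : PreconnectedSpace (f ⁻¹' {(⟨⊥, Ideal.isPrime_bot⟩ : PrimeSpectrum A)}) :=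
    isPreconnected_iff_preconnectedSpace.mp hpre
  let η : ↥(Spec (CommRingCat.of A)) := (⟨⊥, Ideal.isPrime_bot⟩ : PrimeSpectrum A)
  let e : ↥(f.fiber η) ≃ₜ ↑(f ⁻¹' {η}) := f.fiberHomeo η
  have hps' : PreconnectedSpace ↑(f ⁻¹' {η}) := hps
  refine ⟨?_⟩
  have h4 := (isPreconnected_univ (α := ↑(f ⁻¹' {η}))).image e.symm
    e.symm.continuous.continuousOn
  have h5 : e.symm '' Set.univ = Set.univ := by
    rw [Set.image_univ]; exact e.symm.surjective.range_eq
  rw [h5] at h4
  exact h4

end Groth.Agent.S3417
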