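import Groth.Statements.S0503
-- import your own Groth.Agent.* helpers here
import Groth.Agent.Lib.Helper7.Hensel.QuasiFiniteSplit

set_option autoImplicit false
universe u
open Hensel

namespace Groth.Agent.S0503

/-- A finite-type quasi-finite algebra `S` over a henselian local ring `R` contains an idempotent `e`
such that `S/(1-e)` is finitely generated as an `R`-module and the maximal ideal of `R` generates
the unit ideal of `S/(e)`; in other words `S` is a product of a module-finite algebra and an algebra
whose fibre over the closed point is empty. -/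
theorem result (R : Type u) [CommRing R] [HenselianLocalRing R]
    (S : Type u) [CommRing S] [Algebra R S] [Algebra.FiniteType R S] [Algebra.QuasiFinite R S] :
    ∃ e : S, IsIdempotentElem e ∧ Module.Finite R (S ⧸ Ideal.span ({1 - e} : Set S)) ∧
      Ideal.map (algebraMap R (S ⧸ Ideal.span ({e} : Set S))) (IsLocalRing.maximalIdeal R) = ⊤ := by
  classical
  have hfinF := Algebra.QuasiFinite.finite_comap_preimage_singleton (R := R) (S := S)
    (IsLocalRing.closedPoint R)
  obtain ⟨e, he, hfin, hF⟩ := Groth.Agent.Helper7.Hensel.exists_idempotent_split R S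
    hfinF.toFinset (fun q _ => inferInstance)
  refine ⟨e, he, hfin, ?_⟩
  by_contra hne
  obtain ⟨N, hN, hle⟩ := Ideal.exists_le_maximal _ hne
  have hNp : N.IsPrime := hN.isPrime
  let q : Ideal S := N.comap (Ideal.Quotient.mk (Ideal.span ({e} : Set S)))
  have hqp : q.IsPrime := Ideal.comap_isPrime _ _
  have hmq : IsLocalRing.maximalIdeal R ≤ q.comap (algebraMap R S) := by
    intro r hr
    rw [Ideal.mem_comap, Ideal.mem_comap]
    exact hle (Ideal.mem_map_of_mem _ hr)
  have hqc : q.comap (algebraMap R S) = IsLocalRing.maximalIdeal R := by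
    have hp : (q.comap (algebraMap R S)).IsPrime := Ideal.comap_isPrime _ _
    exact ((IsLocalRing.maximalIdeal.isMaximal R).eq_of_le hp.ne_top hmq).symm
  have hqF : (⟨q, hqp⟩ : PrimeSpectrum S) ∈ hfinF.toFinset := by
    rw [Set.Finite.mem_toFinset, Set.mem_preimage, Set.mem_singleton_iff]
    ext1
    exact hqc
  have heq : e ∈ q := by
    rw [Ideal.mem_comap, Ideal.Quotient.eq_zero_iff_mem.mpr (Ideal.mem_span_singleton_self e)]
    exact N.zero_mem
  exact hF ⟨q, hqp⟩ hqF (Ideal.map_le_iff_le_comap.mpr hmq) heq

end Groth.Agent.S0503
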