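import Groth.Statements.S6011
import Mathlib

set_option autoImplicit false
universe u
open CategoryTheory AlgebraicGeometry
open SGA1

namespace Groth.Agent.S6011

section
open CategoryTheory AlgebraicGeometry
open MonoidalCategory CartesianMonoidalCategory MonObj GrpObj

theorem forward {S : Scheme.{u}}
    (G X : Over S) [GrpObj G] (a : AlgGrp.Action G X)
    (e : NonAbH1.EquivIso (NonAbH1.trivialAction G) a) :
    NonAbH1.IsPseudoTorsorSch a ∧ NonAbH1.HasSectionOver X (𝟙 S) := by
  constructor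
  · have hcomm : μ[G] ≫ e.iso.hom = (G ◁ e.iso.hom) ≫ a.act := e.comm
    have h1 : (G ◁ e.iso.hom) ≫ lift a.act (snd G X) =
        lift μ[G] (snd G G) ≫ (e.iso.hom ⊗ₘ e.iso.hom) := by
      rw [comp_lift, lift_map, ← hcomm]
      congr 1
      simp
    have h2 : IsIso (lift μ[G] (snd G G)) := NonAbH1.isPseudoTorsorSch_trivialAction G
    have h3 : lift a.act (snd G X) =
        inv (G ◁ e.iso.hom) ≫ lift μ[G] (snd G G) ≫ (e.iso.hom ⊗ₘ e.iso.hom) := by
      rw [← h1, IsIso.inv_hom_id_assoc]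
    change IsIso (lift a.act (snd G X))
    rw [h3]
    infer_instance
  · refine ⟨(η[G] ≫ e.iso.hom).left, ?_⟩
    exact Over.w (η[G] ≫ e.iso.hom)

theorem backward {S : Scheme.{u}}
    (G X : Over S) [GrpObj G] (a : AlgGrp.Action G X)
    (h : NonAbH1.IsPseudoTorsorSch a) (hs : NonAbH1.HasSectionOver X (𝟙 S)) :
    Nonempty (NonAbH1.EquivIso (NonAbH1.trivialAction G) a) := by
  obtain ⟨s, hs⟩ := hs
  let x : 𝟙_ (Over S) ⟶ X := Over.homMk s (by simpa using hs)
  haveI : IsIso (lift a.act (snd G X)) := h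
  let τ := lift a.act (snd G X)
  have hτfst : τ ≫ fst X X = a.act := lift_fst _ _
  have hτsnd : τ ≫ snd X X = snd G X := lift_snd _ _
  let o : G ⟶ X := lift (𝟙 G) (toUnit G ≫ x) ≫ a.act
  let p : X ⟶ G ⊗ X := lift (𝟙 X) (toUnit X ≫ x) ≫ inv τ
  let i : X ⟶ G := p ≫ fst G X
  have hpτ : p ≫ τ = lift (𝟙 X) (toUnit X ≫ x) := by
    simp only [p, Category.assoc, IsIso.inv_hom_id, Category.comp_id]
  have hpsnd : p ≫ snd G X = toUnit X ≫ x := by
    rw [← hτsnd, ← Category.assoc, hpτ, lift_snd]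
  have hpact : p ≫ a.act = 𝟙 X := by
    rw [← hτfst, ← Category.assoc, hpτ, lift_fst]
  have hp : p = lift i (toUnit X ≫ x) := by
    apply CartesianMonoidalCategory.hom_ext
    · rw [lift_fst]
    · rw [lift_snd, hpsnd]
  have hio : i ≫ o = 𝟙 X := by
    simp only [o]
    rw [← Category.assoc, comp_lift, Category.comp_id, ← Category.assoc,
      toUnit_unique (i ≫ toUnit G) (toUnit X), ← hp, hpact]
  have hoτ : lift (𝟙 G) (toUnit G ≫ x) ≫ τ = lift o (toUnit G ≫ x) := by
    simp only [τ]
    rw [comp_lift, lift_snd]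
  have hoi : o ≫ i = 𝟙 G := by
    simp only [i, p]
    rw [← Category.assoc, ← Category.assoc, comp_lift, Category.comp_id, ← Category.assoc,
      toUnit_unique (o ≫ toUnit X) (toUnit G), ← hoτ, Category.assoc, Category.assoc,
      IsIso.hom_inv_id_assoc, lift_fst]
  refine ⟨⟨⟨o, i, hoi, hio⟩, ?_⟩⟩
  -- equivariance
  change μ[G] ≫ o = (G ◁ o) ≫ a.act
  have hmul := a.mul_act
  -- (g,h) ↦ (gh)·x
  have e1 : μ[G] ≫ o = lift (fst G G) (lift (snd G G) (toUnit (G ⊗ G) ≫ x)) ≫
      (α_ G G X).inv ≫ (μ[G] ▷ X) ≫ a.act := by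
    simp only [o]
    rw [← Category.assoc, comp_lift, Category.comp_id, ← Category.assoc,
      toUnit_unique (μ[G] ≫ toUnit G) (toUnit (G ⊗ G))]
    rw [← Category.assoc, ← Category.assoc]
    congr 1
    apply CartesianMonoidalCategory.hom_ext
    · simp
    · simp
  rw [e1, hmul]
  simp only [Iso.inv_hom_id_assoc]
  rw [← Category.assoc]
  congr 1
  apply CartesianMonoidalCategory.hom_ext
  · simp
  · simp only [o]
    simp
    rw [← Category.assoc]
    congr 1
    apply CartesianMonoidalCategory.hom_ext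
    · simp
    · simp

theorem main {S : Scheme.{u}}
    (G X : Over S) [GrpObj G] (a : AlgGrp.Action G X) :
    Nonempty (NonAbH1.EquivIso (NonAbH1.trivialAction G) a) ↔
      (NonAbH1.IsPseudoTorsorSch a ∧ NonAbH1.HasSectionOver X (𝟙 S)) :=
  ⟨fun ⟨e⟩ => forward G X a e, fun ⟨h, hs⟩ => backward G X a h hs⟩


end


/-- An S-scheme X with an action of the S-group G is trivial — equivariantly isomorphic over S to G
acting on itself by translation — if and only if it is formally principal homogeneous (a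
pseudo-torsor) and admits a section over S. -/
theorem result {S : Scheme.{u}}
    (G X : Over S) [GrpObj G] (a : AlgGrp.Action G X) :
    Nonempty (NonAbH1.EquivIso (NonAbH1.trivialAction G) a) ↔
      (NonAbH1.IsPseudoTorsorSch a ∧ NonAbH1.HasSectionOver X (𝟙 S)) := by
  classical
  exact main G X a

end Groth.Agent.S6011
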