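import Groth.Statements.S7180
import Mathlib
import Groth.Statements.S7180
import Groth.Agent.Lib.Helper9.FE.OlivD
import Groth.Agent.Lib.Helper6.WEtStalk.Sch
-- import your own Groth.Agent.* helpers here

set_option autoImplicit false
universe u
open FlatMor

namespace Groth.Agent.S7180

open AlgebraicGeometry CategoryTheory Limits
namespace Aux
set_option backward.isDefEq.respectTransparency false
set_option linter.style.haveILetI false

theorem main {X Y : Scheme.{u}} (f : X ⟶ Y) [WeaklyEtale f] (hY : Pi1.IsNormalScheme Y) :
    Pi1.IsNormalScheme X := by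
  intro x
  obtain ⟨hd, hn⟩ := hY (f x)
  have h1 := Groth.Agent.Lib.Helper6.WEtStalk.weaklyEtale_Spec_map_stalkMap f x
  rw [Helper5.WEt.weaklyEtale_Spec_iff'] at h1
  letI := (f.stalkMap x).hom.toAlgebra
  haveI : Algebra.WeaklyEtale (Y.presheaf.stalk (f x)) (X.presheaf.stalk x) := h1
  exact H9FE.OlivD.isDomain_and_isIntegrallyClosed (Y.presheaf.stalk (f x)) (X.presheaf.stalk x)

end Aux

open AlgebraicGeometry CategoryTheory Limits in
/-- The source of a weakly étale morphism with normal target (all local rings integrally closed domains)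
is normal. -/
theorem result {X Y : Scheme.{u}} (f : X ⟶ Y) [WeaklyEtale f] (hY : Pi1.IsNormalScheme Y) :
    Pi1.IsNormalScheme X := by
  exact Aux.main f hY

end Groth.Agent.S7180
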