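import Groth.Statements.S12421
import Mathlib

set_option autoImplicit false
universe u
open TensorProduct
open Desc

namespace Groth.Agent.S12421

section
open TensorProduct
variable (R R' : Type u) [CommRing R] [CommRing R'] [Algebra R R'] (M : Type u) [AddCommGroup M] [Module R M]

noncomputable def hmap (N : Type u) [AddCommGroup N] [Module R N] :
    R' ⊗[R] (M ⊗[R] (R' ⊗[R] N)) →ₗ[R] R' ⊗[R] (M ⊗[R] N) :=
  ((LinearMap.mul' R R').rTensor (M ⊗[R] N)) ∘ₗ
    (TensorProduct.assoc R R' R' (M ⊗[R] N)).symm.toLinearMap ∘ₗ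
      ((TensorProduct.leftComm R M R' N).toLinearMap.lTensor R')

theorem hmap_tmul (N : Type u) [AddCommGroup N] [Module R N] (r : R') (m : M) (a : R') (n : N) :
    hmap R R' M N (r ⊗ₜ (m ⊗ₜ (a ⊗ₜ n))) = (r * a) ⊗ₜ (m ⊗ₜ n) := by
  simp [hmap]

noncomputable def d1 : M ⊗[R] R' →ₗ[R] M ⊗[R] (R' ⊗[R] R') :=
  (LinearMap.lTensor M (Algebra.TensorProduct.includeRight : R' →ₐ[R] R' ⊗[R] R').toLinearMap -
        LinearMap.lTensor M
          (Algebra.TensorProduct.includeLeft : R' →ₐ[R] R' ⊗[R] R').toLinearMap)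

noncomputable def d2 : M ⊗[R] (R' ⊗[R] R') →ₗ[R] M ⊗[R] (R' ⊗[R] (R' ⊗[R] R')) :=
  (LinearMap.lTensor M
          (Algebra.TensorProduct.includeRight : R' ⊗[R] R' →ₐ[R] R' ⊗[R] (R' ⊗[R] R')).toLinearMap -
        LinearMap.lTensor M
          (Algebra.TensorProduct.map (AlgHom.id R R')
            (Algebra.TensorProduct.includeRight : R' →ₐ[R] R' ⊗[R] R')).toLinearMap +
        LinearMap.lTensor M
          (Algebra.TensorProduct.map (AlgHom.id R R')
            (Algebra.TensorProduct.includeLeft : R' →ₐ[R] R' ⊗[R] R')).toLinearMap)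

theorem d2_d1 : (d2 R R' M) ∘ₗ (d1 R R' M) = 0 := by
  ext m r
  simp [d1, d2]

theorem homotopy : (hmap R R' M (R' ⊗[R] R')) ∘ₗ ((d2 R R' M).lTensor R') +
    ((d1 R R' M).lTensor R') ∘ₗ (hmap R R' M R') = LinearMap.id := by
  ext r m a b
  simp [d1, d2, hmap_tmul, tmul_sub, tmul_add]


theorem main (R R' : Type u) [CommRing R] [CommRing R'] [Algebra R R']
    [Module.FaithfullyFlat R R'] (M : Type u) [AddCommGroup M] [Module R M] :
    Function.Exact
      (LinearMap.lTensor M (Algebra.TensorProduct.includeRight : R' →ₐ[R] R' ⊗[R] R').toLinearMap -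
        LinearMap.lTensor M
          (Algebra.TensorProduct.includeLeft : R' →ₐ[R] R' ⊗[R] R').toLinearMap)
      (LinearMap.lTensor M
          (Algebra.TensorProduct.includeRight : R' ⊗[R] R' →ₐ[R] R' ⊗[R] (R' ⊗[R] R')).toLinearMap -
        LinearMap.lTensor M
          (Algebra.TensorProduct.map (AlgHom.id R R')
            (Algebra.TensorProduct.includeRight : R' →ₐ[R] R' ⊗[R] R')).toLinearMap +
        LinearMap.lTensor M
          (Algebra.TensorProduct.map (AlgHom.id R R')
            (Algebra.TensorProduct.includeLeft : R' →ₐ[R] R' ⊗[R] R')).toLinearMap) := by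
  show Function.Exact (d1 R R' M) (d2 R R' M)
  apply Module.FaithfullyFlat.lTensor_reflects_exact R R'
  intro y
  constructor
  · intro hy
    have := congrArg (fun f => f y) (homotopy R R' M)
    simp only [LinearMap.add_apply, LinearMap.comp_apply, LinearMap.id_apply] at this
    rw [hy, map_zero, zero_add] at this
    exact ⟨_, this⟩
  · rintro ⟨x, rfl⟩
    rw [← LinearMap.comp_apply, ← LinearMap.lTensor_comp, d2_d1, LinearMap.lTensor_zero,
      LinearMap.zero_apply]


end


/-- Let R → R' be faithfully flat and M an R-module. With δ¹ : M ⊗ R' → M ⊗ (R' ⊗ R'), m ⊗ r ↦ m ⊗ (1 ⊗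
r) − m ⊗ (r ⊗ 1), and δ² : M ⊗ (R' ⊗ R') → M ⊗ (R' ⊗ (R' ⊗ R')), m ⊗ x ↦ m ⊗ (1 ⊗ x) − m ⊗ (ins₁ x)
+ m ⊗ (ins₂ x), where ins₁ (r₁ ⊗ r₂) = r₁ ⊗ (1 ⊗ r₂) and ins₂ (r₁ ⊗ r₂) = r₁ ⊗ (r₂ ⊗ 1), the
sequence M ⊗ R' → M ⊗ R'^{⊗2} → M ⊗ R'^{⊗3} is exact: the kernel of δ² is the image of δ¹. (The
published statement asserts exactness of the whole complex; this row states exactness at M ⊗ R′ ⊗ R′
only.) -/
theorem result (R R' : Type u) [CommRing R] [CommRing R'] [Algebra R R']
    [Module.FaithfullyFlat R R'] (M : Type u) [AddCommGroup M] [Module R M] :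
    Function.Exact
      (LinearMap.lTensor M (Algebra.TensorProduct.includeRight : R' →ₐ[R] R' ⊗[R] R').toLinearMap -
        LinearMap.lTensor M
          (Algebra.TensorProduct.includeLeft : R' →ₐ[R] R' ⊗[R] R').toLinearMap)
      (LinearMap.lTensor M
          (Algebra.TensorProduct.includeRight : R' ⊗[R] R' →ₐ[R] R' ⊗[R] (R' ⊗[R] R')).toLinearMap -
        LinearMap.lTensor M
          (Algebra.TensorProduct.map (AlgHom.id R R')
            (Algebra.TensorProduct.includeRight : R' →ₐ[R] R' ⊗[R] R')).toLinearMap +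
        LinearMap.lTensor M
          (Algebra.TensorProduct.map (AlgHom.id R R')
            (Algebra.TensorProduct.includeLeft : R' →ₐ[R] R' ⊗[R] R')).toLinearMap) := by
  classical
  exact main R R' M

end Groth.Agent.S12421
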