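import Groth.Statements.S6003
import Mathlib
import Groth.Prelude.Def_ActBC
import Groth.Agent.S18858
import Groth.Agent.S12837

set_option autoImplicit false
universe u
open CategoryTheory AlgebraicGeometry
open SGA1

namespace Groth.Agent.S6003

section
open CategoryTheory AlgebraicGeometry
open MonoidalCategory CartesianMonoidalCategory MonObj GrpObj Limits MorphismProperty

instance quasiCompact_descendsAlong :
    DescendsAlong (@QuasiCompact : MorphismProperty Scheme.{u})
      (@Surjective ⊓ @Flat ⊓ @QuasiCompact) := by
  apply DescendsAlong.mk'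
  intro X Y Z f g _ hf hfst
  obtain ⟨⟨hsurj, -⟩, hqc⟩ := hf
  haveI : QuasiCompact f := hqc
  haveI : QuasiCompact (pullback.fst f g) := hfst
  haveI : Surjective f := hsurj
  refine ⟨fun V hVo hVc => ?_⟩
  have h1 : IsCompact (f.base ⁻¹' V) := QuasiCompact.isCompact_preimage _ hVo hVc
  have h2 : IsCompact ((pullback.fst f g).base ⁻¹' (f.base ⁻¹' V)) :=
    QuasiCompact.isCompact_preimage _ (hVo.preimage f.continuous) h1
  have h3 : (pullback.snd f g).base '' ((pullback.fst f g).base ⁻¹' (f.base ⁻¹' V)) =
      g.base ⁻¹' V := by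
    ext y
    constructor
    · rintro ⟨z, hz, rfl⟩
      change g.base ((pullback.snd f g).base z) ∈ V
      rw [← Scheme.Hom.comp_apply, ← pullback.condition, Scheme.Hom.comp_apply]
      exact hz
    · intro hy
      obtain ⟨x, hx⟩ := Surjective.surj (f := f) (g.base y)
      obtain ⟨z, hz1, hz2⟩ := Scheme.Pullback.exists_preimage_pullback x y hx
      refine ⟨z, ?_, hz2⟩
      change f.base ((pullback.fst f g).base z) ∈ V
      rw [hz1, hx]
      exact hy
  rw [← h3]
  exact h2.image (pullback.snd f g).continuous

theorem main {S : Scheme.{u}}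
    (G X : Over S) [GrpObj G] [Flat G.hom] [QuasiCompact G.hom] (a : AlgGrp.Action G X) :
    NonAbH1.IsTorsorFor Scheme.fpqcPrecoverage a ↔
      (NonAbH1.IsPseudoTorsorSch a ∧ Surjective X.hom ∧ Flat X.hom ∧ QuasiCompact X.hom) := by
  constructor
  · intro h
    have hGs : Surjective G.hom := by
      have hη : η[G].left ≫ G.hom = 𝟙 S := Over.w η[G]
      refine ⟨fun x => ⟨η[G].left.base x, ?_⟩⟩
      rw [← Scheme.Hom.comp_apply, hη]
      rfl
    exact ⟨h.1, Groth.Agent.S12837.torsor_prop @Surjective G X a h hGs,
      Groth.Agent.S12837.torsor_prop @Flat G X a h inferInstance,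
      Groth.Agent.S12837.torsor_prop @QuasiCompact G X a h inferInstance⟩
  · rintro ⟨hpt, hs, hf, hq⟩
    refine ⟨hpt, Presieve.singleton X.hom, Scheme.Hom.singleton_mem_fpqcPrecoverage X.hom, ?_⟩
    rintro S' f ⟨⟩
    exact ⟨𝟙 _, Category.id_comp _⟩


end


/-- Let G be an S-group scheme which is flat and quasi-compact over S and let G act on the S-scheme X.
Then X is a principal homogeneous bundle under G (a pseudo-torsor which acquires sections on the
members of some fpqc covering family of S) if and only if X is formally principal homogeneous (a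
pseudo-torsor) and the structure morphism X → S is faithfully flat and quasi-compact. -/
theorem result {S : Scheme.{u}}
    (G X : Over S) [GrpObj G] [Flat G.hom] [QuasiCompact G.hom] (a : AlgGrp.Action G X) :
    NonAbH1.IsTorsorFor Scheme.fpqcPrecoverage a ↔
      (NonAbH1.IsPseudoTorsorSch a ∧ Surjective X.hom ∧ Flat X.hom ∧ QuasiCompact X.hom) := by
  classical
  exact main G X a

end Groth.Agent.S6003
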