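import Groth.Statements.S15735
import Mathlib
import Groth.Agent.Lib.Helper4.HJFrac

set_option autoImplicit false
open W4c2invhilbsl2

namespace Groth.Agent.S15735

namespace H15735
open W4c2invhilbsl2 Groth.Agent.Helper4.HJ

theorem det_id (c : List ℤ) : ∀ i, hjP c i * hjQ c (i + 1) - hjP c (i + 1) * hjQ c i = 1 := by
  intro i
  induction i with
  | zero => simp [hjP, hjQ]
  | succ i ih =>
    have h1 : hjP c (i + 2) = c.getD i 0 * hjP c (i + 1) - hjP c i := by rw [hjP]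
    have h2 : hjQ c (i + 2) = c.getD i 0 * hjQ c (i + 1) - hjQ c i := by rw [hjQ]
    rw [show i + 1 + 1 = i + 2 from rfl, h1, h2]
    linear_combination ih

theorem getD_of_getElem? (c : List ℤ) (i : ℕ) (x : ℤ) (h : getElem? c i = some x) : c.getD i 0 = x := by
  rw [List.getD_eq_getElem?_getD, h]; rfl

theorem P_last (c : List ℤ) : hjP c (c.length + 1) = (nd c).1 := by
  have := claimA c (hjP c) (fun i x hx => by
    have h1 : hjP c (i + 2) = c.getD i 0 * hjP c (i + 1) - hjP c i := by rw [hjP]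
    rw [h1, getD_of_getElem? c i x hx]; ring)
  simp only [hjP] at this
  linarith

theorem Q_last (c : List ℤ) : hjQ c (c.length + 1) = (nd c).2 := by
  have := claimA c (hjQ c) (fun i x hx => by
    have h1 : hjQ c (i + 2) = c.getD i 0 * hjQ c (i + 1) - hjQ c i := by rw [hjQ]
    rw [h1, getD_of_getElem? c i x hx]; ring)
  simp only [hjQ] at this
  linarith

theorem main (p q m : ℕ) (hp : 0 < p) (hpq : p < q) (hcop : Nat.Coprime p q) (hm : 0 < m) (hnt : ¬ (q - p ∣ m)) (c : List ℤ) (hc : W4c2invhilbsl2.IsHJDigits p q m c) :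
    (∀ i : ℕ, i ≤ c.length + 1 →
      W4c2invhilbsl2.nN p q m c i = (W4c2invhilbsl2.gcdK p q m : ℤ) * ((W4c2invhilbsl2.tT p q m : ℤ) * W4c2invhilbsl2.hjP c i - (W4c2invhilbsl2.bB p q m : ℤ) * W4c2invhilbsl2.hjQ c i)) ∧
    (∀ i : ℕ, 2 ≤ i → i ≤ c.length + 1 →
      W4c2invhilbsl2.nN p q m c i = c.getD (i - 2) 0 * W4c2invhilbsl2.nN p q m c (i - 1) - W4c2invhilbsl2.nN p q m c (i - 2)) ∧
    (∀ i : ℕ, i ≤ c.length → W4c2invhilbsl2.nN p q m c (i + 1) < W4c2invhilbsl2.nN p q m c i) ∧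
    W4c2invhilbsl2.nN p q m c 0 = (q : ℤ) - p ∧ W4c2invhilbsl2.nN p q m c c.length = W4c2invhilbsl2.gcdK p q m ∧ W4c2invhilbsl2.nN p q m c (c.length + 1) = 0 := by
  -- natural number facts
  have hD0 : 0 < q - p := Nat.sub_pos_of_lt hpq
  have hg_dvd_D : Nat.gcd m (q - p) ∣ q - p := Nat.gcd_dvd_right _ _
  have hg_dvd_m : Nat.gcd m (q - p) ∣ m := Nat.gcd_dvd_left _ _
  have hg0 : 0 < Nat.gcd m (q - p) := Nat.gcd_pos_of_pos_left _ hm
  have hβlt : m * p % (q - p) < q - p := Nat.mod_lt _ hD0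
  have hg_dvd_β : Nat.gcd m (q - p) ∣ m * p % (q - p) :=
    (Nat.dvd_mod_iff hg_dvd_D).2 (Dvd.dvd.mul_right hg_dvd_m p)
  have hg_dvd_Dβ : Nat.gcd m (q - p) ∣ q - p - m * p % (q - p) := Nat.dvd_sub hg_dvd_D hg_dvd_β
  have hbg : bB p q m * gcdK p q m = q - p := Nat.div_mul_cancel hg_dvd_D
  have htg : tT p q m * gcdK p q m = q - p - m * p % (q - p) := Nat.div_mul_cancel hg_dvd_Dβ
  have hαβ : (q - p) * alpha p q m + m * p % (q - p) = m * p := Nat.div_add_mod _ _
  have ht0 : 0 < tT p q m := by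
    rcases Nat.eq_zero_or_pos (tT p q m) with h | h
    · rw [h, zero_mul] at htg; omega
    · exact h
  have hb0 : 0 < bB p q m := by
    rcases Nat.eq_zero_or_pos (bB p q m) with h | h
    · rw [h, zero_mul] at hbg; omega
    · exact h
  -- gcd (D, D - β) = g
  have hcopDp : Nat.Coprime (q - p) p := (Nat.coprime_sub_self_left hpq.le).2 hcop.symm
  have hgcd : Nat.gcd (q - p) (q - p - m * p % (q - p)) = Nat.gcd m (q - p) := by
    rw [Nat.gcd_self_sub_right hβlt.le, Nat.gcd_comm, ← Nat.gcd_rec,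
      Nat.Coprime.gcd_mul_right_cancel_right m hcopDp.symm, Nat.gcd_comm]
  have hcopbt : Nat.Coprime (bB p q m) (tT p q m) := by
    have := Nat.coprime_div_gcd_div_gcd (m := q - p) (n := q - p - m * p % (q - p)) (by rw [hgcd]; exact hg0)
    rw [hgcd] at this
    exact this
  -- numerator / denominator
  obtain ⟨hden0, hdenlt, hcopnd, hval⟩ := nd_props c hc.1
  have hnum0 : 0 < (nd c).1 := by omega
  have hval2 := hc.2
  rw [hval] at hval2
  have htq : (0 : ℚ) < (tT p q m : ℚ) := by exact_mod_cast ht0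
  have hbq : (0 : ℚ) < (bB p q m : ℚ) := by exact_mod_cast hb0
  have hden_pos : 0 < (nd c).2 := by
    rcases hden0.lt_or_eq with h | h
    · exact h
    · rw [← h] at hval2
      simp only [Int.cast_zero, div_zero] at hval2
      have : (0 : ℚ) < (bB p q m : ℚ) / (tT p q m : ℚ) := div_pos hbq htq
      linarith
  have hdq : (0 : ℚ) < ((nd c).2 : ℚ) := by exact_mod_cast hden_pos
  have hcross : (nd c).1 * (tT p q m : ℤ) = (bB p q m : ℤ) * (nd c).2 := by
    rw [div_eq_div_iff hdq.ne' htq.ne'] at hval2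
    exact_mod_cast hval2
  have hcopbt' : IsCoprime (bB p q m : ℤ) (tT p q m : ℤ) := Nat.isCoprime_iff_coprime.2 hcopbt
  have hnumb : (nd c).1 = (bB p q m : ℤ) := by
    apply Int.dvd_antisymm hnum0.le (by positivity)
    · exact hcopnd.dvd_of_dvd_mul_right ⟨(tT p q m : ℤ), by linarith⟩
    · exact hcopbt'.dvd_of_dvd_mul_right ⟨(nd c).2, by linarith⟩
  have hdent : (nd c).2 = (tT p q m : ℤ) := by
    rw [hnumb] at hcross
    have hb' : (bB p q m : ℤ) ≠ 0 := by exact_mod_cast hb0.ne'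
    exact (mul_left_cancel₀ hb' hcross).symm
  have hPlast : hjP c (c.length + 1) = (bB p q m : ℤ) := by rw [P_last, hnumb]
  have hQlast : hjQ c (c.length + 1) = (tT p q m : ℤ) := by rw [Q_last, hdent]
  -- integer facts
  have hDz : ((q : ℤ) - p) = ((q - p : ℕ) : ℤ) := by rw [Nat.cast_sub hpq.le]
  have hgb : (gcdK p q m : ℤ) * (bB p q m : ℤ) = ((q - p : ℕ) : ℤ) := by
    rw [← hbg]; push_cast; ring
  have hgt : (gcdK p q m : ℤ) * (tT p q m : ℤ) = ((q - p : ℕ) : ℤ) - ((m * p % (q - p) : ℕ) : ℤ) := by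
    rw [← Nat.cast_sub hβlt.le, ← htg]; push_cast; ring
  have hαβz : ((q - p : ℕ) : ℤ) * (alpha p q m : ℤ) + ((m * p % (q - p) : ℕ) : ℤ) = (m : ℤ) * p := by
    exact_mod_cast hαβ
  have hi : ∀ i : ℕ, nN p q m c i = (gcdK p q m : ℤ) * ((tT p q m : ℤ) * hjP c i - (bB p q m : ℤ) * hjQ c i) := by
    intro i
    unfold nN eE lL
    push_cast
    linear_combination (hjP c i * ((alpha p q m : ℤ) + 1) - hjQ c i) * hDz + hjP c i * hαβz
      - hjP c i * hgt + hjQ c i * hgb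
  have hii : ∀ j : ℕ, nN p q m c (j + 2) = c.getD j 0 * nN p q m c (j + 1) - nN p q m c j := by
    intro j
    have h1 : hjP c (j + 2) = c.getD j 0 * hjP c (j + 1) - hjP c j := by rw [hjP]
    have h2 : hjQ c (j + 2) = c.getD j 0 * hjQ c (j + 1) - hjQ c j := by rw [hjQ]
    unfold nN eE lL
    rw [h1, h2]
    ring
  have hlast : nN p q m c (c.length + 1) = 0 := by
    rw [hi, hPlast, hQlast]; ring
  have hr : nN p q m c c.length = (gcdK p q m : ℤ) := by
    rw [hi]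
    have := det_id c c.length
    rw [hPlast, hQlast] at this
    have h3 : (tT p q m : ℤ) * hjP c c.length - (bB p q m : ℤ) * hjQ c c.length = 1 := by linarith
    rw [h3, mul_one]
  have hgz : (0 : ℤ) < (gcdK p q m : ℤ) := by
    have : 0 < gcdK p q m := hg0
    exact_mod_cast this
  have hdig : ∀ i, i < c.length → (2 : ℤ) ≤ c.getD i 0 := by
    intro i hi'
    rw [List.getD_eq_getElem _ _ hi']
    exact hc.1 _ (List.getElem_mem hi')
  have hiii : ∀ j : ℕ, j ≤ c.length →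
      nN p q m c (c.length - j + 1) < nN p q m c (c.length - j) ∧ 0 ≤ nN p q m c (c.length - j + 1) := by
    intro j
    induction j with
    | zero =>
      intro _
      simp only [Nat.sub_zero]
      rw [hlast, hr]
      exact ⟨hgz, le_refl _⟩
    | succ j ih =>
      intro hj
      obtain ⟨ih1, ih2⟩ := ih (by omega)
      have e1 : c.length - j = (c.length - (j + 1)) + 1 := by omega
      rw [e1] at ih1 ih2
      have hrec := hii (c.length - (j + 1))
      have hd := hdig (c.length - (j + 1)) (by omega)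
      rw [show c.length - (j + 1) + 1 + 1 = c.length - (j + 1) + 2 from rfl] at ih1 ih2
      have hpos : 0 ≤ nN p q m c (c.length - (j + 1) + 1) := le_of_lt (lt_of_le_of_lt ih2 ih1)
      have hmul := mul_nonneg (sub_nonneg.2 hd) hpos
      generalize nN p q m c (c.length - (j + 1) + 2) = n2 at *
      generalize nN p q m c (c.length - (j + 1) + 1) = n1 at *
      generalize nN p q m c (c.length - (j + 1)) = n0 at *
      generalize c.getD (c.length - (j + 1)) 0 = cc at *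
      constructor
      · linarith
      · linarith
  refine ⟨fun i _ => hi i, ?_, ?_, ?_, hr, hlast⟩
  · intro i h2 _
    obtain ⟨j, rfl⟩ : ∃ j, i = j + 2 := ⟨i - 2, by omega⟩
    simpa using hii j
  · intro i hi'
    have := (hiii (c.length - i) (by omega)).1
    rwa [show c.length - (c.length - i) = i by omega] at this
  · unfold nN eE lL
    simp only [hjP, hjQ]
    ring
end H15735

/-- Let 0 < p < q be coprime integers and m ≥ 1 such that q − p does not divide m; put g = gcd(m, q−p),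
b = (q−p)/g, α = ⌊mp/(q−p)⌋, β = the remainder of mp modulo q−p and t = (q−p−β)/g, so that 1 ≤ t <
b, and let b/t = c₁ − 1/(c₂ − 1/(⋯ − 1/c_r)) be the negative-regular (Hirzebruch–Jung) continued
fraction expansion with every cᵢ ≥ 2; set P₀ = 0, P₁ = 1, Q₀ = −1, Q₁ = 0, Pᵢ = cᵢ₋₁Pᵢ₋₁ − Pᵢ₋₂, Qᵢ
= cᵢ₋₁Qᵢ₋₁ − Qᵢ₋₂ for 2 ≤ i ≤ r+1, and eᵢ = (α+1+m)Pᵢ − Qᵢ, lᵢ = (α+1)Pᵢ − Qᵢ, nᵢ = q·lᵢ − p·eᵢ.
Then: (i) nᵢ = g·(t·Pᵢ − b·Qᵢ) for all 0 ≤ i ≤ r+1; (ii) nᵢ = cᵢ₋₁·nᵢ₋₁ − nᵢ₋₂ for all 2 ≤ i ≤ r+1;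
(iii) nᵢ > nᵢ₊₁ for all 0 ≤ i ≤ r; (iv) n₀ = q − p, n_r = g and n_{r+1} = 0. (The published
statement also covers the case where q − p divides m, where r = 0; there the displayed formulas give
n₁ = n₀ = q − p (for p = 1, q = 3, m = 2, n₁ = 2), so (iii) and (iv) fail, and this row assumes that
q − p does not divide m.) -/
theorem result (p q m : ℕ) (hp : 0 < p) (hpq : p < q) (hcop : Nat.Coprime p q) (hm : 0 < m) (hnt : ¬ (q - p ∣ m)) (c : List ℤ) (hc : W4c2invhilbsl2.IsHJDigits p q m c) :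
    (∀ i : ℕ, i ≤ c.length + 1 →
      W4c2invhilbsl2.nN p q m c i = (W4c2invhilbsl2.gcdK p q m : ℤ) * ((W4c2invhilbsl2.tT p q m : ℤ) * W4c2invhilbsl2.hjP c i - (W4c2invhilbsl2.bB p q m : ℤ) * W4c2invhilbsl2.hjQ c i)) ∧
    (∀ i : ℕ, 2 ≤ i → i ≤ c.length + 1 →
      W4c2invhilbsl2.nN p q m c i = c.getD (i - 2) 0 * W4c2invhilbsl2.nN p q m c (i - 1) - W4c2invhilbsl2.nN p q m c (i - 2)) ∧
    (∀ i : ℕ, i ≤ c.length → W4c2invhilbsl2.nN p q m c (i + 1) < W4c2invhilbsl2.nN p q m c i) ∧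
    W4c2invhilbsl2.nN p q m c 0 = (q : ℤ) - p ∧ W4c2invhilbsl2.nN p q m c c.length = W4c2invhilbsl2.gcdK p q m ∧ W4c2invhilbsl2.nN p q m c (c.length + 1) = 0 := by
  exact H15735.main p q m hp hpq hcop hm hnt c hc

end Groth.Agent.S15735
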