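import Groth.Statements.S3401
-- import your own Groth.Agent.* helpers here
import Mathlib
import Groth.Agent.Lib.Helper7.ProConsLib7

set_option autoImplicit false
open CategoryTheory AlgebraicGeometry
universe u
open EGA41

namespace Groth.Agent.S3401

/-- Let X be a scheme and E a subset of X. If E is ind-constructible then for every point x of E the set
E ∩ cl{x} is a neighbourhood of x in cl{x}; when X is locally Noetherian the converse holds. (As
published, the necessity clause quantifies over all points x of X; for x outside E the condition
cannot hold, and the argument uses x ∈ E, so it is stated here for x ∈ E.) Stated as an equivalence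
for X locally Noetherian. -/
theorem result (X : Scheme.{u}) [IsLocallyNoetherian X]
    (E : Set X) :
    ProCons.IsIndConstructible E ↔
      ∀ x ∈ E, (Subtype.val ⁻¹' E : Set ↥(closure ({x} : Set X))) ∈ nhds (⟨x, subset_closure rfl⟩ : ↥(closure ({x} : Set X))) := by
  constructor
  · intro hE x hx
    obtain ⟨U, hxU⟩ := Groth.Agent.Helper7.ProConsLib.exists_affineOpen_mem X x
    have := Groth.Agent.Helper7.ProConsLib.spectralSpace_affineOpen X U
    exact Groth.Agent.Helper7.ProConsLib.mem_nhds_closure_of_isIndConstructible hE
      (U : X.Opens).2 hxU hx
  · intro h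
    apply Groth.Agent.Helper7.ProConsLib.isIndConstructible_of_forall_exists
    intro x
    obtain ⟨U, hxU⟩ := Groth.Agent.Helper7.ProConsLib.exists_affineOpen_mem X x
    have hs := Groth.Agent.Helper7.ProConsLib.spectralSpace_affineOpen X U
    have hnoeth : IsNoetherianRing Γ(X, (U : X.Opens)) := IsLocallyNoetherian.component_noetherian U
    have hN : TopologicalSpace.NoetherianSpace ((U : X.Opens) : Set X) :=
      noetherianSpace_of_isAffineOpen (U : X.Opens) U.2
    exact ⟨((U : X.Opens) : Set X), (U : X.Opens).2, hs, hxU,
      Groth.Agent.Helper7.ProConsLib.isOpen_cons_of_forall_mem_nhds_closure h⟩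

end Groth.Agent.S3401
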