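import Groth.Statements.S5840
import Mathlib

set_option autoImplicit false
universe u
open ZClos

namespace Groth.Agent.S5840

section

open CategoryTheory Limits AlgebraicGeometry TopologicalSpace Opposite

section
variable {C : Type u} [SmallCategory C] (R₀ : Cᵒᵖ ⥤ RingCat.{u})

instance presheafOfModules_exact (K : Type u) [SmallCategory K] [IsFiltered K] :
    HasExactColimitsOfShape K (PresheafOfModules.{u} R₀) := by
  haveI : ReflectsFiniteLimits (PresheafOfModules.toPresheaf.{u} R₀) :=
    ⟨fun _ _ _ => reflectsLimitsOfShape_of_reflectsIsomorphisms⟩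
  exact HasExactColimitsOfShape.domain_of_functor K (PresheafOfModules.toPresheaf.{u} R₀)

end

section
variable {C : Type u} [SmallCategory C] {J : GrothendieckTopology C} (R : Sheaf J RingCat.{u})
  [HasSheafify J AddCommGrpCat.{u}] [J.WEqualsLocallyBijective AddCommGrpCat.{u}]

theorem sheafOfModules_exact (K : Type u) [SmallCategory K] [IsFiltered K] :
    HasExactColimitsOfShape K (SheafOfModules.{u} R) :=
  (PresheafOfModules.sheafificationAdjunction (𝟙 R.obj)).hasExactColimitsOfShape K

end

theorem schemeModules_exact (X : Scheme.{u}) (K : Type u) [SmallCategory K] [IsFiltered K] :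
    HasExactColimitsOfShape K X.Modules :=
  sheafOfModules_exact _ K

variable {X : Scheme.{u}}

instance reflectsFiniteLimits_toPresheaf (Y : Scheme.{u}) :
    ReflectsFiniteLimits (Scheme.Modules.toPresheaf Y) :=
  ⟨fun _ _ _ => reflectsLimitsOfShape_of_reflectsIsomorphisms⟩

instance preservesFiniteLimits_restrictFunctor {X Y : Scheme.{u}} (f : X ⟶ Y) [IsOpenImmersion f] :
    PreservesFiniteLimits (Scheme.Modules.restrictFunctor f) := by
  haveI : PreservesFiniteLimits (Scheme.Modules.restrictFunctor f ⋙ Scheme.Modules.toPresheaf X) := by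
    have e : Scheme.Modules.restrictFunctor f ⋙ Scheme.Modules.toPresheaf X ≅
        Scheme.Modules.toPresheaf Y ⋙ (Functor.whiskeringLeft _ _ _).obj f.opensFunctor.op :=
      NatIso.ofComponents (fun M => Iso.refl _)
        (fun φ => (Category.comp_id _).trans (Category.id_comp _).symm)
    haveI : PreservesFiniteLimits
        ((Functor.whiskeringLeft (Opens ↥X)ᵒᵖ (Opens ↥Y)ᵒᵖ Ab.{u}).obj f.opensFunctor.op) :=
      ⟨fun J _ _ => inferInstance⟩
    haveI : PreservesFiniteLimits (Scheme.Modules.toPresheaf Y ⋙
        (Functor.whiskeringLeft (Opens ↥X)ᵒᵖ (Opens ↥Y)ᵒᵖ Ab.{u}).obj f.opensFunctor.op) :=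
      comp_preservesFiniteLimits _ _
    exact preservesFiniteLimits_of_natIso e.symm
  exact preservesFiniteLimits_of_reflects_of_preserves (Scheme.Modules.restrictFunctor f)
    (Scheme.Modules.toPresheaf X)

instance preservesFiniteLimits_resPush (U : X.Opens) : PreservesFiniteLimits (ZClos.resPush U) :=
  comp_preservesFiniteLimits _ _

instance preservesFiniteLimits_diagram (Z : Set X) : PreservesFiniteLimits (ZClos.diagram Z) :=
  preservesFiniteLimits_of_evaluation _ fun T => by
    have e : ZClos.diagram Z ⋙ (evaluation (ZClos.Cl Z) X.Modules).obj T ≅ ZClos.resPush T.U :=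
      NatIso.ofComponents (fun M => Iso.refl _)
        (fun φ => (Category.comp_id _).trans (Category.id_comp _).symm)
    exact preservesFiniteLimits_of_natIso e.symm

theorem main (X : Scheme.{u}) (Z : Set X) : PreservesFiniteLimits (ZClos.H0 Z) := by
  haveI := schemeModules_exact X (ZClos.Cl Z)
  exact comp_preservesFiniteLimits (ZClos.diagram Z) colim


end


open CategoryTheory CategoryTheory.Limits AlgebraicGeometry in
/-- For a locally Noetherian scheme X and a subset Z of X stable under specialization, the Z-closure
functor F ↦ H⁰_{X/Z}(F) on O_X-modules (the filtered colimit, over the closed subsets T of X inside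
Z, of the direct images of the restrictions of F to X ∖ T) is left exact: it preserves finite
limits. -/
theorem result (X : Scheme.{u}) [IsLocallyNoetherian X] (Z : Set X)
    (hZ : StableUnderSpecialization Z) : PreservesFiniteLimits (ZClos.H0 Z) := by
  classical
  exact main X Z

end Groth.Agent.S5840
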