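import Groth.Statements.S5842
import Mathlib
import Groth.Agent.S5840

set_option autoImplicit false
universe u
open ZClos

namespace Groth.Agent.S5842

section

open CategoryTheory Limits AlgebraicGeometry TopologicalSpace Opposite
open Groth.Agent

variable {X : Scheme.{u}}

/-- the constant-to-diagram transformation -/
noncomputable def alpha (Z : Set X) (F : X.Modules) :
    (Functor.const (ZClos.Cl Z)).obj F ⟶ (ZClos.diagram Z).obj F where
  app T := ZClos.toDiagram Z F T
  naturality T T' f := by
    dsimp
    rw [Category.id_comp]
    exact (ZClos.toDiagram_map Z F f).symm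

lemma rho_eq (Z : Set X) (F : X.Modules) :
    ZClos.rhoApp Z F = colimit.ι ((Functor.const (ZClos.Cl Z)).obj F) ⊥ ≫ colimMap (alpha Z F) := by
  rw [ι_colimMap]
  exact ZClos.rhoApp_eq Z F ⊥

lemma isIso_ι_const (Z : Set X) (F : X.Modules) :
    IsIso (colimit.ι ((Functor.const (ZClos.Cl Z)).obj F) ⊥) := by
  have : colimit.ι ((Functor.const (ZClos.Cl Z)).obj F) ⊥ =
      ((isColimitConstCocone (ZClos.Cl Z) F).coconePointUniqueUpToIso (colimit.isColimit _)).hom := by
    have := (isColimitConstCocone (ZClos.Cl Z) F).comp_coconePointUniqueUpToIso_hom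
      (colimit.isColimit _) ⊥
    exact this.symm.trans (Category.id_comp _)
  rw [this]
  infer_instance

theorem main (X : Scheme.{u}) (Z : Set X) (F : X.Modules) :
    ZClos.IsZPure Z F ↔ ∀ T : ZClos.Cl Z, Mono (ZClos.toDiagram Z F T) := by
  constructor
  · intro h T
    have h' : Mono (ZClos.rhoApp Z F) := h
    rw [ZClos.rhoApp_eq Z F T] at h'
    exact @mono_of_mono _ _ _ _ _ _ _ h'
  · intro h
    show Mono (ZClos.rhoApp Z F)
    rw [rho_eq]
    haveI := S5840.schemeModules_exact X (ZClos.Cl Z)
    haveI : Mono (alpha Z F) := by
      haveI : ∀ T, Mono ((alpha Z F).app T) := h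
      exact NatTrans.mono_of_mono_app _
    haveI : Mono (colimMap (alpha Z F)) := by
      have e0 : colim.map (alpha Z F) = colimMap (alpha Z F) := rfl
      rw [← e0]
      exact Functor.map_mono _ _
    have h3 := isIso_ι_const Z F
    exact @mono_comp _ _ _ _ _ _ inferInstance _ this


end


open CategoryTheory CategoryTheory.Limits AlgebraicGeometry in
/-- a) ⇔ a'), injective case: for a locally Noetherian scheme X, a subset Z of X stable under
specialization and an arbitrary O_X-module F, the canonical map ρ_{X/Z} : F → H⁰_{X/Z}(F) is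
injective (F is Z-pure) if and only if, for every closed subset T of X contained in Z, the canonical
map from F to the direct image of its restriction to X ∖ T is injective. -/
theorem result (X : Scheme.{u}) [IsLocallyNoetherian X] (Z : Set X)
    (hZ : StableUnderSpecialization Z) (F : X.Modules) :
    ZClos.IsZPure Z F ↔ ∀ T : ZClos.Cl Z, Mono (ZClos.toDiagram Z F T) := by
  classical
  exact main X Z F

end Groth.Agent.S5842
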