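import Groth.Statements.S5849
import Mathlib
import Groth.Agent.S5842

set_option autoImplicit false
universe u
open ZClos

namespace Groth.Agent.S5849

section

open CategoryTheory Limits AlgebraicGeometry TopologicalSpace Opposite
open Groth.Agent ZClos

set_option backward.isDefEq.respectTransparency.types true in
lemma stalk_pres {X : Scheme.{u}} (x : X) : PreservesColimitsOfSize.{u, u}
    (TopCat.Sheaf.forget Ab.{u} X ⋙ TopCat.Presheaf.stalkFunctor Ab.{u} x) := inferInstance

variable {X : Scheme.{u}}

/-- stalk functor on modules -/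
noncomputable abbrev Phi (x : X) : X.Modules ⥤ Ab.{u} :=
  Scheme.Modules.toPresheaf X ⋙ TopCat.Presheaf.stalkFunctor Ab.{u} x

section
variable {C : Type u} [SmallCategory C] {J : GrothendieckTopology C} (R : Sheaf J RingCat.{u})
  [HasSheafify J AddCommGrpCat.{u}] [J.WEqualsLocallyBijective AddCommGrpCat.{u}]

instance toSheaf_preservesColimits :
    PreservesColimitsOfSize.{u, u} (SheafOfModules.toSheaf.{u} R) := by
  rw [(PresheafOfModules.sheafificationAdjunction (𝟙 R.obj)).preservesColimitsOfSize_iff]
  have e : PresheafOfModules.sheafification (𝟙 R.obj) ⋙ SheafOfModules.toSheaf.{u} R ≅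
      PresheafOfModules.toPresheaf _ ⋙ presheafToSheaf J AddCommGrpCat.{u} :=
    PresheafOfModules.sheafificationCompToSheaf _
  exact preservesColimits_of_natIso e.symm

end

instance Phi_preservesColimits (x : X) : PreservesColimitsOfSize.{u, u} (Phi x) := by
  have e : Phi x ≅ SheafOfModules.toSheaf.{u} X.ringCatSheaf ⋙
      (TopCat.Sheaf.forget Ab.{u} X ⋙ TopCat.Presheaf.stalkFunctor Ab.{u} x) :=
    NatIso.ofComponents (fun M => Iso.refl _)
      (fun φ => (Category.comp_id _).trans (Category.id_comp _).symm)
  haveI h1 : PreservesColimitsOfSize.{u, u} (SheafOfModules.toSheaf.{u} X.ringCatSheaf) :=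
    toSheaf_preservesColimits _
  haveI h2 : PreservesColimitsOfSize.{u, u}
      (TopCat.Sheaf.forget Ab.{u} X ⋙ TopCat.Presheaf.stalkFunctor Ab.{u} x) := stalk_pres x
  have h3 := @comp_preservesColimits _ _ _ _ _ _ (SheafOfModules.toSheaf.{u} X.ringCatSheaf)
    (TopCat.Sheaf.forget Ab.{u} X ⋙ TopCat.Presheaf.stalkFunctor Ab.{u} x) h1 h2
  exact @preservesColimits_of_natIso _ _ _ _ _ _ e.symm h3

lemma isIso_restrict_unit (U : X.Opens) (F : X.Modules) :
    IsIso ((Scheme.Modules.restrictFunctor U.ι).map ((resPushUnit U).app F)) := by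
  have h := (Scheme.Modules.restrictAdjunction U.ι).left_triangle_components F
  exact IsIso.of_isIso_fac_right h

lemma isIso_Phi_unit (U : X.Opens) (x' : U) (F : X.Modules) :
    IsIso ((Phi (U.ι x')).map ((resPushUnit U).app F)) := by
  haveI := isIso_restrict_unit U F
  have nat := (Scheme.Modules.restrictStalkNatIso U.ι x').hom.naturality ((resPushUnit U).app F)
  haveI h1 : IsIso ((Scheme.Modules.restrictFunctor U.ι ⋙ Scheme.Modules.toPresheaf _ ⋙
      TopCat.Presheaf.stalkFunctor _ x').map ((resPushUnit U).app F)) := by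
    rw [Functor.comp_map]
    infer_instance
  have h2 : (Phi (U.ι x')).map ((resPushUnit U).app F) =
      (Scheme.Modules.restrictStalkNatIso U.ι x').inv.app _ ≫
      (Scheme.Modules.restrictFunctor U.ι ⋙ Scheme.Modules.toPresheaf _ ⋙
      TopCat.Presheaf.stalkFunctor _ x').map ((resPushUnit U).app F) ≫
      (Scheme.Modules.restrictStalkNatIso U.ι x').hom.app _ := by
    rw [nat, ← Category.assoc, ← NatTrans.comp_app, Iso.inv_hom_id, NatTrans.id_app]
    exact (Category.id_comp _).symm
  rw [h2]
  infer_instance

theorem main (X : Scheme.{u}) (Z : Set X) (F : X.Modules) (x : X) (hx : x ∉ Z) :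
    ZClos.IsZClosedAt Z F x := by
  have hxT : ∀ T : Cl Z, x ∈ T.U := fun T hT => hx (T.2 hT)
  have hiso : ∀ T : Cl Z, IsIso ((Phi x).map (toDiagram Z F T)) := by
    intro T
    exact isIso_Phi_unit T.U ⟨x, hxT T⟩ F
  let β : (Functor.const (Cl Z)).obj ((Phi x).obj F) ⟶ (diagram Z).obj F ⋙ Phi x :=
    { app := fun T => (Phi x).map (toDiagram Z F T)
      naturality := fun T T' f => by
        refine (Category.id_comp _).trans ?_
        exact (congrArg (Phi x).map (toDiagram_map Z F f)).symm.trans ((Phi x).map_comp _ _) }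
  haveI : ∀ T, IsIso (β.app T) := hiso
  haveI : IsIso β := NatIso.isIso_of_isIso_app β
  let c := (Phi x).mapCocone (colimit.cocone ((diagram Z).obj F))
  have hc : IsColimit c := isColimitOfPreserves (Phi x) (colimit.isColimit _)
  let c' := (Cocone.precompose β).obj c
  have hc' : IsColimit c' := (IsColimit.precomposeHomEquiv (asIso β) c).symm hc
  let e := (isColimitConstCocone (Cl Z) ((Phi x).obj F)).coconePointUniqueUpToIso hc'
  have he : e.hom = (Phi x).map (rhoApp Z F) := by
    have h1 := (isColimitConstCocone (Cl Z) ((Phi x).obj F)).comp_coconePointUniqueUpToIso_hom hc' ⊥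
    have h2 : (constCocone (Cl Z) ((Phi x).obj F)).ι.app ⊥ ≫ e.hom = e.hom := Category.id_comp _
    rw [← h2, h1, rhoApp_eq Z F ⊥]
    exact ((Phi x).map_comp _ _).symm
  have h3 : IsIso ((Phi x).map (rhoApp Z F)) := by
    rw [← he]; infer_instance
  exact (ConcreteCategory.isIso_iff_bijective _).1 h3


end


open CategoryTheory CategoryTheory.Limits AlgebraicGeometry in
/-- For a locally Noetherian scheme X, a subset Z of X stable under specialization and an arbitrary
O_X-module F, the kernel and cokernel of ρ_{X/Z} : F → H⁰_{X/Z}(F) have support inside Z: at every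
point x outside Z the map induced by ρ_{X/Z} on stalks is bijective. -/
theorem result (X : Scheme.{u}) [IsLocallyNoetherian X] (Z : Set X)
    (hZ : StableUnderSpecialization Z) (F : X.Modules) (x : X) (hx : x ∉ Z) :
    ZClos.IsZClosedAt Z F x := by
  classical
  exact main X Z F x hx

end Groth.Agent.S5849
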