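import Groth.Statements.S5843
import Mathlib

set_option autoImplicit false
universe u
open ZClos

namespace Groth.Agent.S5843

section

open CategoryTheory CategoryTheory.Limits AlgebraicGeometry TopologicalSpace Opposite
open ZClos

variable {X : Scheme.{u}}

theorem isIso_resPush_map_unit (U : X.Opens) (M : X.Modules) :
    IsIso ((resPush U).map ((resPushUnit U).app M)) := by
  refine Scheme.Modules.Hom.isIso_iff_isIso_app.mpr fun V => ?_
  rw [resPush_map_app, resPushUnit_app_app]
  have e : U.ι ''ᵁ U.ι ⁻¹ᵁ (U.ι ''ᵁ U.ι ⁻¹ᵁ V) = U.ι ''ᵁ U.ι ⁻¹ᵁ V := resPush_image_eq le_rfl V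
  refine ⟨M.presheaf.map (eqToHom e.symm).op, ?_, ?_⟩
  · refine (M.presheaf.map_comp _ _).symm.trans ?_
    rw [← op_comp, show eqToHom e.symm ≫ homOfLE (U.ι.image_preimage_le (U.ι ''ᵁ U.ι ⁻¹ᵁ V)) =
      𝟙 _ from Subsingleton.elim _ _, op_id]
    exact M.presheaf.map_id _
  · refine (M.presheaf.map_comp _ _).symm.trans ?_
    rw [← op_comp, show homOfLE (U.ι.image_preimage_le (U.ι ''ᵁ U.ι ⁻¹ᵁ V)) ≫ eqToHom e.symm =
      𝟙 _ from Subsingleton.elim _ _, op_id]
    exact M.presheaf.map_id _

/-- maps out of `j_*j^*M` into a `U`-local module are determined by their restriction along the unit -/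
theorem local_ext (U : X.Opens) {M N : X.Modules} [hN : IsIso ((resPushUnit U).app N)]
    (g₁ g₂ : (resPush U).obj M ⟶ N)
    (h : (resPushUnit U).app M ≫ g₁ = (resPushUnit U).app M ≫ g₂) : g₁ = g₂ := by
  haveI := isIso_resPush_map_unit U M
  have hR : (resPush U).map g₁ = (resPush U).map g₂ := by
    rw [← cancel_epi ((resPush U).map ((resPushUnit U).app M)), ← Functor.map_comp,
      ← Functor.map_comp, h]
  have n₁ := (resPushUnit U).naturality g₁
  have n₂ := (resPushUnit U).naturality g₂
  dsimp only [Functor.id_obj, Functor.id_map] at n₁ n₂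
  rw [← cancel_mono ((resPushUnit U).app N), n₁, n₂, hR]

theorem eq_id_of_unit_comp (U : X.Opens) (M : X.Modules)
    (g : (resPush U).obj M ⟶ (resPush U).obj M)
    (h : (resPushUnit U).app M ≫ g = (resPushUnit U).app M) : g = 𝟙 _ := by
  haveI : IsIso ((resPushUnit U).app ((resPush U).obj M)) := isIso_unit_resPush le_rfl M
  apply local_ext U
  rw [h, Category.comp_id]

theorem isIso_toDiagram_of_isZClosed (Z : Set X) (F : X.Modules) (h : IsZClosed Z F) (T : Cl Z) :
    IsIso (toDiagram Z F T) := by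
  obtain ⟨r, hr1, hr2⟩ := h.out
  have e : toDiagram Z F T ≫ colimit.ι ((diagram Z).obj F) T = rhoApp Z F := (rhoApp_eq Z F T).symm
  have hr1' : toDiagram Z F T ≫ (colimit.ι ((diagram Z).obj F) T ≫ r) = 𝟙 F := by
    rw [← Category.assoc, e]; exact hr1
  refine ⟨⟨colimit.ι ((diagram Z).obj F) T ≫ r, hr1', ?_⟩⟩
  apply eq_id_of_unit_comp T.U F
  change toDiagram Z F T ≫ ((colimit.ι ((diagram Z).obj F) T ≫ r) ≫ toDiagram Z F T) =
    toDiagram Z F T
  rw [← Category.assoc, hr1', Category.id_comp]

theorem isZClosed_of_isIso_toDiagram (Z : Set X) (F : X.Modules)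
    (h : ∀ T : Cl Z, IsIso (toDiagram Z F T)) : IsZClosed Z F := by
  let c : Cocone ((diagram Z).obj F) :=
    { pt := F
      ι :=
        { app := fun T => inv (toDiagram Z F T)
          naturality := by
            intro T T' f
            dsimp only [Functor.const_obj_obj, Functor.const_obj_map]
            rw [Category.comp_id, IsIso.comp_inv_eq, ← cancel_epi (toDiagram Z F T),
              IsIso.hom_inv_id_assoc, toDiagram_map] } }
  let d : colimit ((diagram Z).obj F) ⟶ F := colimit.desc _ c
  have hd : ∀ T, colimit.ι ((diagram Z).obj F) T ≫ d = inv (toDiagram Z F T) :=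
    fun T => colimit.ι_desc _ _
  have e : ∀ T, toDiagram Z F T ≫ colimit.ι ((diagram Z).obj F) T = rhoApp Z F :=
    fun T => (rhoApp_eq Z F T).symm
  refine ⟨⟨d, ?_, ?_⟩⟩
  · rw [← e ⊥]
    change toDiagram Z F ⊥ ≫ (colimit.ι ((diagram Z).obj F) ⊥ ≫ d) = 𝟙 F
    rw [hd]
    exact IsIso.hom_inv_id _
  · change d ≫ rhoApp Z F = 𝟙 (colimit ((diagram Z).obj F))
    apply colimit.hom_ext
    intro T
    refine Eq.trans ?_ (Category.comp_id _).symm
    rw [← Category.assoc, hd, ← e T]
    exact IsIso.inv_hom_id_assoc (toDiagram Z F T) (colimit.ι ((diagram Z).obj F) T)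

theorem main (X : Scheme.{u}) [IsLocallyNoetherian X] (Z : Set X)
    (hZ : StableUnderSpecialization Z) (F : X.Modules) :
    ZClos.IsZClosed Z F ↔ ∀ T : ZClos.Cl Z, IsIso (ZClos.toDiagram Z F T) :=
  ⟨fun h T => isIso_toDiagram_of_isZClosed Z F h T, isZClosed_of_isIso_toDiagram Z F⟩


end


open CategoryTheory CategoryTheory.Limits AlgebraicGeometry in
/-- a) ⇔ a'), bijective case: for a locally Noetherian scheme X, a subset Z of X stable under
specialization and an arbitrary O_X-module F, the canonical map ρ_{X/Z} : F → H⁰_{X/Z}(F) is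
bijective (F is Z-closed) if and only if, for every closed subset T of X contained in Z, the
canonical map from F to the direct image of its restriction to X ∖ T is bijective. -/
theorem result (X : Scheme.{u}) [IsLocallyNoetherian X] (Z : Set X)
    (hZ : StableUnderSpecialization Z) (F : X.Modules) :
    ZClos.IsZClosed Z F ↔ ∀ T : ZClos.Cl Z, IsIso (ZClos.toDiagram Z F T) := by
  classical
  exact main X Z hZ F

end Groth.Agent.S5843
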