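import Groth.Statements.S5845
import Mathlib
import Groth.Agent.S5843

set_option autoImplicit false
universe u
open ZClos

namespace Groth.Agent.S5845

section

open CategoryTheory CategoryTheory.Limits AlgebraicGeometry TopologicalSpace Opposite
open ZClos
open Groth.Agent

variable {X : Scheme.{u}}

/-- (after helper1, PF7) a morphism of modules which is locally injective and locally surjective on
sections is an isomorphism -/
theorem isIso_of_locally {M N : X.Modules} (φ : M ⟶ N)
    (hinj : ∀ (U : X.Opens) (t : Γ(M, U)), φ.app U t = 0 → ∀ x ∈ U,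
      ∃ (V : X.Opens) (hV : V ≤ U), x ∈ V ∧ M.presheaf.map (homOfLE hV).op t = 0)
    (hsurj : ∀ (U : X.Opens) (σ : Γ(N, U)), ∀ x ∈ U,
      ∃ (V : X.Opens) (hV : V ≤ U), x ∈ V ∧ ∃ t : Γ(M, V),
        φ.app V t = N.presheaf.map (homOfLE hV).op σ) : IsIso φ := by
  rw [← isIso_iff_of_reflects_iso _ (Scheme.Modules.toPresheaf X)]
  let M' : Sheaf (Opens.grothendieckTopology X) Ab := ⟨M.presheaf, M.isSheaf⟩
  let N' : Sheaf (Opens.grothendieckTopology X) Ab := ⟨N.presheaf, N.isSheaf⟩
  let ψ : M' ⟶ N' := ⟨φ.mapPresheaf⟩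
  have hψ : IsIso ψ := by
    refine (Sheaf.isLocallyBijective_iff_isIso ψ).1 ⟨?_, ?_⟩
    · constructor
      intro U a b h
      rw [Opens.mem_grothendieckTopology]
      intro p hp
      have h0 : φ.app U.unop (a - b) = 0 := by
        rw [map_sub, sub_eq_zero]
        exact h
      obtain ⟨V, hV, hpV, hres⟩ := hinj U.unop (a - b) h0 p hp
      refine ⟨V, homOfLE hV, ?_, hpV⟩
      rw [map_sub, sub_eq_zero] at hres
      exact hres
    · constructor
      intro U σ
      rw [Opens.mem_grothendieckTopology]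
      intro p hp
      obtain ⟨V, hV, hpV, t, ht⟩ := hsurj U σ p hp
      exact ⟨V, homOfLE hV, ⟨t, ht⟩, hpV⟩
  exact (inferInstance : IsIso ((sheafToPresheaf _ _).map ψ))

section Res
variable (F : X.Modules)

/-- restriction of sections -/
noncomputable def res {A B : X.Opens} (h : A ≤ B) (t : Γ(F, B)) : Γ(F, A) :=
  F.presheaf.map (homOfLE h).op t

theorem res_res {A B C : X.Opens} (h : A ≤ B) (h' : B ≤ C) (t : Γ(F, C)) :
    res F h (res F h' t) = res F (h.trans h') t := by
  unfold res
  rw [← ConcreteCategory.comp_apply, ← Functor.map_comp, ← op_comp]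
  rfl

theorem res_zero {A B : X.Opens} (h : A ≤ B) : res F h (0 : Γ(F, B)) = 0 := by
  unfold res; exact map_zero _

theorem res_inj_of_eq {A B : X.Opens} (h : A ≤ B) (h' : B ≤ A) (s t : Γ(F, B))
    (hst : res F h s = res F h t) : s = t := by
  have := congrArg (res F h') hst
  rw [res_res, res_res] at this
  unfold res at this
  have e : homOfLE (h'.trans h) = 𝟙 B := Subsingleton.elim _ _
  rw [e, op_id, F.presheaf.map_id] at this
  exact this

end Res

theorem basis_compact (W : X.Opens) (x : X) (hx : x ∈ W) :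
    ∃ V : X.Opens, IsCompact (V : Set X) ∧ x ∈ V ∧ V ≤ W := by
  obtain ⟨V, hV, hxV, hVW⟩ := (Opens.isBasis_iff_nbhd.1 X.isBasis_affineOpens) hx
  exact ⟨V, IsAffineOpen.isCompact hV, hxV, hVW⟩

theorem main (X : Scheme.{u}) [IsLocallyNoetherian X] (Z : Set X)
    (hZ : StableUnderSpecialization Z) (F : X.Modules) :
    ZClos.IsZClosed Z F ↔ ∀ (T : ZClos.Cl Z) (V : X.Opens), IsCompact (V : Set X) →
      Function.Bijective (F.presheaf.map (homOfLE (inf_le_left : V ⊓ T.U ≤ V)).op) := by
  constructor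
  · intro h T V _
    haveI : IsIso (toDiagram Z F T) := S5843.isIso_toDiagram_of_isZClosed Z F h T
    haveI : IsIso ((resPushUnit T.U).app F) := this
    have h1 : IsIso (((resPushUnit T.U).app F).app V) := inferInstance
    rw [resPushUnit_app_app] at h1
    have h2 := (ConcreteCategory.isIso_iff_bijective _).1 h1
    have eA : T.U.ι ''ᵁ T.U.ι ⁻¹ᵁ V = V ⊓ T.U := by rw [ι_image_preimage, inf_comm]
    constructor
    · intro s t hst
      apply h2.1
      apply res_inj_of_eq F eA.ge eA.le
      change res F _ (res F _ s) = res F _ (res F _ t)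
      rw [res_res, res_res]
      exact hst
    · intro σ
      obtain ⟨t, ht⟩ := h2.2 (res F eA.le σ)
      refine ⟨t, ?_⟩
      have := congrArg (res F eA.ge) ht
      change res F _ (res F _ t) = res F _ (res F _ σ) at this
      rw [res_res, res_res] at this
      refine this.trans ?_
      unfold res
      have e : homOfLE (eA.ge.trans eA.le) = 𝟙 (V ⊓ T.U) := Subsingleton.elim _ _
      rw [e, op_id, F.presheaf.map_id]
      rfl
  · intro h
    apply S5843.isZClosed_of_isIso_toDiagram
    intro T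
    change IsIso ((resPushUnit T.U).app F)
    have hsub : ∀ W : X.Opens, T.U.ι ''ᵁ T.U.ι ⁻¹ᵁ W = T.U ⊓ W := fun W => ι_image_preimage _ _
    apply isIso_of_locally
    · intro W t ht x hx
      obtain ⟨V, hVc, hxV, hVW⟩ := basis_compact W x hx
      refine ⟨V, hVW, hxV, ?_⟩
      apply (h T V hVc).1
      change res F _ (res F hVW t) = res F _ 0
      rw [res_res, res_zero]
      have hle : V ⊓ T.U ≤ T.U.ι ''ᵁ T.U.ι ⁻¹ᵁ W := by
        rw [hsub]; exact le_inf inf_le_right (inf_le_left.trans hVW)
      have ht' : res F (T.U.ι.image_preimage_le W) t = 0 := ht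
      have := congrArg (res F hle) ht'
      rw [res_res, res_zero] at this
      exact this
    · intro W σ x hx
      obtain ⟨V, hVc, hxV, hVW⟩ := basis_compact W x hx
      refine ⟨V, hVW, hxV, ?_⟩
      obtain ⟨σ', hσ'⟩ : ∃ σ' : Γ(F, T.U.ι ''ᵁ T.U.ι ⁻¹ᵁ W), σ' = σ := ⟨σ, rfl⟩
      have hle : V ⊓ T.U ≤ T.U.ι ''ᵁ T.U.ι ⁻¹ᵁ W := by
        rw [hsub]; exact le_inf inf_le_right (inf_le_left.trans hVW)
      have hle2 : V ⊓ T.U ≤ T.U.ι ''ᵁ T.U.ι ⁻¹ᵁ V := by
        rw [hsub]; exact le_inf inf_le_right inf_le_left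
      have hge2 : T.U.ι ''ᵁ T.U.ι ⁻¹ᵁ V ≤ V ⊓ T.U := by
        rw [hsub]; exact le_inf inf_le_right inf_le_left
      have hVW' : T.U.ι ''ᵁ T.U.ι ⁻¹ᵁ V ≤ T.U.ι ''ᵁ T.U.ι ⁻¹ᵁ W := by
        rw [hsub, hsub]; exact inf_le_inf_left _ hVW
      obtain ⟨t, ht⟩ := (h T V hVc).2 (res F hle σ')
      refine ⟨t, ?_⟩
      have g1 : ((resPushUnit T.U).app F).app V t = res F (T.U.ι.image_preimage_le V) t := rfl
      have g2 : ((resPush T.U).obj F).presheaf.map (homOfLE hVW).op σ = res F hVW' σ' := by
        rw [← hσ']; rfl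
      rw [g1, g2]
      apply res_inj_of_eq F hle2 hge2
      rw [res_res, res_res]
      exact ht


end


open CategoryTheory CategoryTheory.Limits AlgebraicGeometry in
/-- a) ⇔ b'), bijective case: for a locally Noetherian scheme X, a subset Z of X stable under
specialization and an arbitrary O_X-module F, F is Z-closed if and only if for every closed subset T
of X contained in Z and every quasi-compact (that is, Noetherian) open subset V of X, the
restriction map Γ(V, F) → Γ(V ∩ (X ∖ T), F) is bijective. -/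
theorem result (X : Scheme.{u}) [IsLocallyNoetherian X] (Z : Set X)
    (hZ : StableUnderSpecialization Z) (F : X.Modules) :
    ZClos.IsZClosed Z F ↔ ∀ (T : ZClos.Cl Z) (V : X.Opens), IsCompact (V : Set X) →
      Function.Bijective (F.presheaf.map (homOfLE (inf_le_left : V ⊓ T.U ≤ V)).op) := by
  classical
  exact main X Z hZ F

end Groth.Agent.S5845
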