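import Groth.Statements.S5870
import Mathlib
import Groth.Agent.S5849
import Groth.Agent.S5845

set_option autoImplicit false
universe u
open ZClos

namespace Groth.Agent.S5870

section

open CategoryTheory Limits AlgebraicGeometry TopologicalSpace Opposite
open Groth.Agent ZClos

lemma closure_subset_of_noetherian {α : Type*} [TopologicalSpace α] (V : Set α)
    [NoetherianSpace V] [QuasiSober V] (Z : Set α) (hZ : StableUnderSpecialization Z)
    (S : Set V) (hS : IsClosed S) (hSZ : Subtype.val '' S ⊆ Z) :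
    closure (Subtype.val '' S) ⊆ Z := by
  obtain ⟨𝒮, hfin, hcl, hirr, rfl⟩ := NoetherianSpace.exists_finite_set_isClosed_irreducible hS
  rw [Set.sUnion_eq_biUnion, Set.image_iUnion₂, hfin.closure_biUnion]
  intro y hy
  simp only [Set.mem_iUnion] at hy
  obtain ⟨t, ht, hy⟩ := hy
  have hgen := (hirr t ht).closure_genericPoint (hcl t ht)
  set η := (hirr t ht).genericPoint with hη
  have hηt : η ∈ t := by
    rw [← hgen]; exact subset_closure rfl
  have hηZ : (η : α) ∈ Z := hSZ ⟨η, Set.mem_sUnion.2 ⟨t, ht, hηt⟩, rfl⟩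
  have h1 : Subtype.val '' t ⊆ closure {(η : α)} := by
    rw [← hgen]
    refine (image_closure_subset_closure_image continuous_subtype_val).trans ?_
    rw [Set.image_singleton]
  have h2 : y ∈ closure {(η : α)} := by
    have := closure_mono h1 hy
    rwa [closure_closure] at this
  exact hZ (specializes_iff_mem_closure.2 h2) hηZ

variable {X : Scheme.{u}}

lemma noetherianSpace_of_le [IsLocallyNoetherian X] (V : X.Opens) (hV : IsCompact (V : Set X))
    (A : X.Opens) (hA : A ≤ V) : NoetherianSpace (A : Set X) := by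
  haveI : CompactSpace V := isCompact_iff_compactSpace.1 hV
  haveI : IsNoetherian (V : Scheme.{u}) := {}
  haveI : NoetherianSpace ((V : Set X) : Type u) :=
    (inferInstance : NoetherianSpace (V : Scheme.{u}))
  exact NoetherianSpace.of_subset (W := (V : Set X)) (V := (A : Set X)) hA

lemma quasiSober_opens (A : X.Opens) : QuasiSober (A : Set X) :=
  (inferInstance : QuasiSober (A : Scheme.{u}))

/-- vanishing locus of germs is open -/
lemma isOpen_germ_zero (F : X.Modules) (A : X.Opens) (s : Γ(F, A)) :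
    IsOpen {y : A | F.presheaf.germ A y.1 y.2 s = 0} := by
  rw [isOpen_iff_forall_mem_open]
  intro y hy
  have hy' : F.presheaf.germ A y.1 y.2 s = F.presheaf.germ A y.1 y.2 0 := by
    rw [map_zero]; exact hy
  obtain ⟨W, hyW, iU, iV, e⟩ := F.presheaf.germ_eq y.1 y.2 y.2 s 0 hy'
  refine ⟨Subtype.val ⁻¹' (W : Set X), ?_, W.2.preimage continuous_subtype_val, hyW⟩
  intro y' hy'W
  show F.presheaf.germ A y'.1 y'.2 s = 0
  rw [← F.presheaf.germ_res_apply iU y'.1 hy'W s, e, map_zero, map_zero]

lemma support_lemma [IsLocallyNoetherian X] (Z : Set X) (hZ : StableUnderSpecialization Z)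
    (F : X.Modules) (hF : ∀ x : X, x ∉ Z → Subsingleton (F.presheaf.stalk x))
    (A : X.Opens) [NoetherianSpace (A : Set X)] (s : Γ(F, A)) :
    ∃ T' : Cl Z, ∀ (B : X.Opens) (hB : B ≤ A), Disjoint (B : Set X) (T'.1 : Set X) →
      S5845.res F hB s = 0 := by
  haveI := quasiSober_opens A
  let S : Set A := {y : A | F.presheaf.germ A y.1 y.2 s ≠ 0}
  have hS : IsClosed S := by
    rw [← isOpen_compl_iff]
    have : Sᶜ = {y : A | F.presheaf.germ A y.1 y.2 s = 0} := by
      ext y; exact not_not
    rw [this]; exact isOpen_germ_zero F A s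
  have hSZ : Subtype.val '' S ⊆ Z := by
    rintro _ ⟨y, hy, rfl⟩
    by_contra hyZ
    haveI := hF y.1 hyZ
    exact hy (Subsingleton.elim _ _)
  have hcl := closure_subset_of_noetherian (A : Set X) Z hZ S hS hSZ
  refine ⟨⟨⟨closure (Subtype.val '' S), isClosed_closure⟩, hcl⟩, ?_⟩
  intro B hB hdisj
  apply TopCat.Presheaf.section_ext ⟨F.presheaf, F.isSheaf⟩
  intro y hyB
  rw [map_zero]
  show F.presheaf.germ B y hyB (F.presheaf.map (homOfLE hB).op s) = 0
  rw [F.presheaf.germ_res_apply (homOfLE hB) y hyB s]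
  by_contra hne
  have hyS : (⟨y, hB hyB⟩ : A) ∈ S := hne
  have : y ∈ closure (Subtype.val '' S) := subset_closure ⟨⟨y, hB hyB⟩, hyS, rfl⟩
  exact Set.disjoint_left.1 hdisj hyB this

lemma stalk_subsingleton_of_isZero (G : X.Modules) (hG : IsZero G) (x : X) :
    Subsingleton (G.presheaf.stalk x) := by
  constructor
  intro a b
  obtain ⟨U, hxU, s, rfl⟩ := G.presheaf.exists_germ_eq a
  obtain ⟨U', hxU', s', rfl⟩ := G.presheaf.exists_germ_eq b
  have h0 : ∀ (U : X.Opens) (s : Γ(G, U)), s = 0 := by
    intro U s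
    have h1 : (𝟙 G : G ⟶ G) = 0 := hG.eq_of_src _ _
    have h2 := congrArg (fun φ : G ⟶ G => φ.app U s) h1
    simpa using h2
  rw [h0 U s, h0 U' s', map_zero, map_zero]

lemma ι_app_eq_zero [IsLocallyNoetherian X] (Z : Set X) (hZ : StableUnderSpecialization Z)
    (F : X.Modules) (hF : ∀ x : X, x ∉ Z → Subsingleton (F.presheaf.stalk x))
    (V : X.Opens) (hV : IsCompact (V : Set X)) (T : Cl Z)
    (s : Γ((resPush T.U).obj F, V)) :
    (colimit.ι ((diagram Z).obj F) T).app V s = 0 := by
  have hA : T.U.ι ''ᵁ T.U.ι ⁻¹ᵁ V ≤ V := T.U.ι.image_preimage_le V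
  haveI := noetherianSpace_of_le V hV _ hA
  obtain ⟨T', hT'⟩ := support_lemma Z hZ F hF (T.U.ι ''ᵁ T.U.ι ⁻¹ᵁ V) s
  let f : T ⟶ T ⊔ T' := homOfLE le_sup_left
  have hw := colimit.w ((diagram Z).obj F) f
  rw [← hw, Scheme.Modules.Hom.comp_app, ConcreteCategory.comp_apply]
  have h1 : (((diagram Z).obj F).map f).app V s = 0 := by
    change (resPushMapApp (Cl.U_anti f.le) F).app V s = 0
    rw [resPushMapApp_app]
    refine hT' _ (resPush_le (Cl.U_anti f.le) V) ?_
    rw [ι_image_preimage, Set.disjoint_left]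
    intro y hy hyT'
    exact hy.1 (Or.inr hyT')
  rw [h1, map_zero]

theorem main (X : Scheme.{u}) [IsLocallyNoetherian X] (Z : Set X)
    (hZ : StableUnderSpecialization Z) (F : X.Modules) :
    IsZero ((ZClos.H0 Z).obj F) ↔ ∀ x : X, x ∉ Z → Subsingleton (F.presheaf.stalk x) := by
  constructor
  · intro h x hx
    have hb := S5849.main X Z F x hx
    haveI := stalk_subsingleton_of_isZero _ h x
    exact hb.1.subsingleton
  · intro hF
    rw [IsZero.iff_id_eq_zero]
    apply colimit.hom_ext
    intro T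
    refine (Category.comp_id _).trans (Eq.trans ?_ comp_zero.symm)
    ext V : 1
    ext s
    rw [Scheme.Modules.Hom.zero_app]
    apply TopCat.Presheaf.IsSheaf.section_ext ((ZClos.H0 Z).obj F).isSheaf
    intro x hx
    obtain ⟨W, hWc, hxW, hWV⟩ := S5845.basis_compact V x hx
    refine ⟨W, hWV, hxW, ?_⟩
    have hnat := (colimit.ι ((diagram Z).obj F) T).mapPresheaf.naturality (homOfLE hWV).op
    have h2 := ConcreteCategory.congr_hom hnat s
    rw [ConcreteCategory.comp_apply, ConcreteCategory.comp_apply] at h2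
    erw [← h2]
    erw [ι_app_eq_zero Z hZ F hF W hWc T]
    exact (map_zero _).symm


end


open CategoryTheory CategoryTheory.Limits AlgebraicGeometry in
/-- For a locally Noetherian scheme X, a subset Z of X stable under specialization and an arbitrary
O_X-module F, the Z-closure H⁰_{X/Z}(F) is zero if and only if the support of F is contained in Z,
that is, the stalk of F at every point outside Z is zero. -/
theorem result (X : Scheme.{u}) [IsLocallyNoetherian X] (Z : Set X)
    (hZ : StableUnderSpecialization Z) (F : X.Modules) :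
    IsZero ((ZClos.H0 Z).obj F) ↔ ∀ x : X, x ∉ Z → Subsingleton (F.presheaf.stalk x) := by
  classical
  exact main X Z hZ F

end Groth.Agent.S5870
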