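import Groth.Statements.S5850
import Mathlib
import Groth.Agent.S5870

set_option autoImplicit false
universe u
open ZClos

namespace Groth.Agent.S5850

section

open CategoryTheory Limits AlgebraicGeometry TopologicalSpace Opposite
open Groth.Agent ZClos

variable {X : Scheme.{u}}

section SecColim

variable {K : Type u} [Preorder K] [IsDirected K (· ≤ ·)] [Nonempty K] (D : K ⥤ X.Modules)

/-- the transition map on sections -/
noncomputable def tr {k k' : K} (h : k ≤ k') (V : X.Opens) (s : Γ(D.obj k, V)) : Γ(D.obj k', V) :=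
  (D.map (homOfLE h)).app V s

/-- the colimit injection on sections -/
noncomputable def inj (k : K) (V : X.Opens) (s : Γ(D.obj k, V)) : Γ(colimit D, V) :=
  (colimit.ι D k).app V s

lemma inj_tr {k k' : K} (h : k ≤ k') (V : X.Opens) (s : Γ(D.obj k, V)) :
    inj D k' V (tr D h V s) = inj D k V s := by
  unfold inj tr
  rw [← ConcreteCategory.comp_apply, ← Scheme.Modules.Hom.comp_app, colimit.w]

lemma tr_tr {k k' k'' : K} (h : k ≤ k') (h' : k' ≤ k'') (V : X.Opens) (s : Γ(D.obj k, V)) :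
    tr D h' V (tr D h V s) = tr D (h.trans h') V s := by
  unfold tr
  rw [← ConcreteCategory.comp_apply, ← Scheme.Modules.Hom.comp_app, ← D.map_comp]
  rfl

lemma tr_res {k k' : K} (h : k ≤ k') {W V : X.Opens} (hWV : W ≤ V) (s : Γ(D.obj k, V)) :
    tr D h W (S5845.res (D.obj k) hWV s) = S5845.res (D.obj k') hWV (tr D h V s) := by
  unfold tr S5845.res
  have hnat := (D.map (homOfLE h)).mapPresheaf.naturality (homOfLE hWV).op
  exact ConcreteCategory.congr_hom hnat s

lemma inj_res (k : K) {W V : X.Opens} (hWV : W ≤ V) (s : Γ(D.obj k, V)) :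
    inj D k W (S5845.res (D.obj k) hWV s) = S5845.res (colimit D) hWV (inj D k V s) := by
  unfold inj S5845.res
  have hnat := (colimit.ι D k).mapPresheaf.naturality (homOfLE hWV).op
  exact ConcreteCategory.congr_hom hnat s

lemma tr_zero {k k' : K} (h : k ≤ k') (V : X.Opens) : tr D h V 0 = 0 := by
  unfold tr; exact map_zero _

lemma inj_zero (k : K) (V : X.Opens) : inj D k V 0 = 0 := by
  unfold inj; exact map_zero _

lemma Phi_map_germ {M N : X.Modules} (φ : M ⟶ N) (x : X) {V : X.Opens} (hxV : x ∈ V)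
    (s : Γ(M, V)) :
    (S5849.Phi x).map φ (M.presheaf.germ V x hxV s) = N.presheaf.germ V x hxV (φ.app V s) :=
  TopCat.Presheaf.stalkFunctor_map_germ_apply V x hxV φ.mapPresheaf s

lemma local_zero (x : X) {k : K} {V : X.Opens} (hxV : x ∈ V) (s : Γ(D.obj k, V))
    (h : (colimit D).presheaf.germ V x hxV (inj D k V s) = 0) :
    ∃ (k' : K) (hk : k ≤ k') (W : X.Opens) (hWV : W ≤ V), x ∈ W ∧
      S5845.res (D.obj k') hWV (tr D hk V s) = 0 := by
  have hc := isColimitOfPreserves (S5849.Phi x) (colimit.isColimit D)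
  have h1 : ((S5849.Phi x).mapCocone (colimit.cocone D)).ι.app k
        ((D.obj k).presheaf.germ V x hxV s) =
      ((S5849.Phi x).mapCocone (colimit.cocone D)).ι.app k 0 := by
    rw [map_zero]
    exact (Phi_map_germ (colimit.ι D k) x hxV s).trans h
  obtain ⟨k', f, g, hfg⟩ := Concrete.isColimit_exists_of_rep_eq _ hc _ _ h1
  rw [map_zero] at hfg
  have h2 : (D.obj k').presheaf.germ V x hxV (tr D f.le V s) =
      (D.obj k').presheaf.germ V x hxV 0 := by
    rw [map_zero]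
    exact (Phi_map_germ (D.map f) x hxV s).symm.trans hfg
  obtain ⟨W, hxW, iU, iV, e⟩ := (D.obj k').presheaf.germ_eq x hxV hxV _ _ h2
  refine ⟨k', f.le, W, iU.le, hxW, ?_⟩
  rw [map_zero] at e
  exact e

lemma local_rep (x : X) {V : X.Opens} (hxV : x ∈ V) (σ : Γ(colimit D, V)) :
    ∃ (k : K) (W : X.Opens) (hWV : W ≤ V) (s : Γ(D.obj k, W)), x ∈ W ∧
      inj D k W s = S5845.res (colimit D) hWV σ := by
  have hc := isColimitOfPreserves (S5849.Phi x) (colimit.isColimit D)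
  obtain ⟨k, a, ha⟩ := Concrete.isColimit_exists_rep _ hc ((colimit D).presheaf.germ V x hxV σ)
  obtain ⟨W0, hW0V, hxW0, s0, rfl⟩ := (D.obj k).presheaf.exists_le_germ_eq a hxV
  have h2 : (colimit D).presheaf.germ W0 x hxW0 (inj D k W0 s0) =
      (colimit D).presheaf.germ V x hxV σ :=
    (Phi_map_germ (colimit.ι D k) x hxW0 s0).symm.trans ha
  obtain ⟨W, hxW, iU, iV, e⟩ := (colimit D).presheaf.germ_eq x hxW0 hxV _ _ h2
  refine ⟨k, W, iV.le, S5845.res (D.obj k) iU.le s0, hxW, ?_⟩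
  rw [inj_res]
  exact e

lemma sec_zero {k : K} {V : X.Opens} (hV : IsCompact (V : Set X)) (s : Γ(D.obj k, V))
    (h : inj D k V s = 0) : ∃ (k' : K) (hk : k ≤ k'), tr D hk V s = 0 := by
  classical
  have hloc : ∀ x : V, ∃ (k' : K) (hk : k ≤ k') (W : X.Opens) (hWV : W ≤ V), x.1 ∈ W ∧
      S5845.res (D.obj k') hWV (tr D hk V s) = 0 := by
    intro x
    apply local_zero D x.1 x.2 s
    rw [h, map_zero]
  choose kx hkx W hWV hxW hres using hloc
  obtain ⟨t, ht⟩ := hV.elim_finite_subcover (fun x : V => (W x : Set X))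
    (fun x => (W x).2) (fun y hy => Set.mem_iUnion.2 ⟨⟨y, hy⟩, hxW ⟨y, hy⟩⟩)
  obtain ⟨k', hk'⟩ := Finset.exists_le (insert k (t.image kx))
  have hkk' : k ≤ k' := hk' k (Finset.mem_insert_self _ _)
  refine ⟨k', hkk', ?_⟩
  apply TopCat.Presheaf.IsSheaf.section_ext (D.obj k').isSheaf
  intro y hy
  obtain ⟨x, hx⟩ := Set.mem_iUnion.1 (ht hy)
  obtain ⟨hxt, hyW⟩ := Set.mem_iUnion.1 hx
  have hkx' : kx x ≤ k' := hk' _ (Finset.mem_insert_of_mem (Finset.mem_image_of_mem _ hxt))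
  refine ⟨W x, hWV x, hyW, ?_⟩
  change S5845.res (D.obj k') (hWV x) (tr D hkk' V s) = S5845.res (D.obj k') (hWV x) 0
  rw [S5845.res_zero, ← tr_tr D (hkx x) hkx' V s, ← tr_res, hres, tr_zero]

lemma res_sub (M : X.Modules) {A B : X.Opens} (h : A ≤ B) (a b : Γ(M, B)) :
    S5845.res M h (a - b) = S5845.res M h a - S5845.res M h b := by
  unfold S5845.res; exact map_sub _ _ _

lemma tr_sub {k k' : K} (h : k ≤ k') (V : X.Opens) (a b : Γ(D.obj k, V)) :
    tr D h V (a - b) = tr D h V a - tr D h V b := by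
  unfold tr; exact map_sub _ _ _

lemma inj_sub (k : K) (V : X.Opens) (a b : Γ(D.obj k, V)) :
    inj D k V (a - b) = inj D k V a - inj D k V b := by
  unfold inj; exact map_sub _ _ _

lemma sec_rep {V : X.Opens} (hV : ∀ W : X.Opens, W ≤ V → IsCompact (W : Set X))
    (σ : Γ(colimit D, V)) : ∃ (k : K) (s : Γ(D.obj k, V)), inj D k V s = σ := by
  classical
  have hloc : ∀ x : V, ∃ (k : K) (W : X.Opens) (hWV : W ≤ V) (s : Γ(D.obj k, W)), x.1 ∈ W ∧
      inj D k W s = S5845.res (colimit D) hWV σ := fun x => local_rep D x.1 x.2 σ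
  choose kx W hWV sx hxW hsx using hloc
  obtain ⟨t, ht⟩ := (hV V le_rfl).elim_finite_subcover (fun x : V => (W x : Set X))
    (fun x => (W x).2) (fun y hy => Set.mem_iUnion.2 ⟨⟨y, hy⟩, hxW ⟨y, hy⟩⟩)
  obtain ⟨k0, hk0⟩ := Finset.exists_le (t.image kx)
  have hk0' : ∀ i : {x // x ∈ t}, kx i.1 ≤ k0 := fun i => hk0 _ (Finset.mem_image_of_mem _ i.2)
  -- sections at level k0
  obtain ⟨s0, hs0def⟩ : ∃ s0 : ∀ i : {x // x ∈ t}, Γ(D.obj k0, W i.1),
      ∀ i, s0 i = tr D (hk0' i) (W i.1) (sx i.1) := ⟨_, fun _ => rfl⟩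
  have hs0 : ∀ i, inj D k0 (W i.1) (s0 i) = S5845.res (colimit D) (hWV i.1) σ := fun i => by
    rw [hs0def, inj_tr]; exact hsx i.1
  -- differences die at a later stage
  have hpair : ∀ p : {x // x ∈ t} × {x // x ∈ t}, ∃ (k' : K) (hk : k0 ≤ k'),
      tr D hk (W p.1.1 ⊓ W p.2.1)
        (S5845.res (D.obj k0) inf_le_left (s0 p.1) - S5845.res (D.obj k0) inf_le_right (s0 p.2)) = 0 := by
    intro p
    apply sec_zero D (hV _ (inf_le_left.trans (hWV p.1.1)))
    rw [inj_sub, inj_res, inj_res, hs0, hs0, S5845.res_res, S5845.res_res, sub_self]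
  choose kp hkp hkp0 using hpair
  obtain ⟨k1, hk1⟩ := Finset.exists_le (insert k0 (Finset.univ.image kp))
  have hk01 : k0 ≤ k1 := hk1 _ (Finset.mem_insert_self _ _)
  have hkp1 : ∀ p, kp p ≤ k1 := fun p =>
    hk1 _ (Finset.mem_insert_of_mem (Finset.mem_image_of_mem _ (Finset.mem_univ p)))
  obtain ⟨s1, hs1def⟩ : ∃ s1 : ∀ i : {x // x ∈ t}, Γ(D.obj k1, W i.1),
      ∀ i, s1 i = tr D hk01 (W i.1) (s0 i) := ⟨_, fun _ => rfl⟩
  have hcompat : TopCat.Presheaf.IsCompatible (D.obj k1).presheaf (fun i : {x // x ∈ t} => W i.1) s1 := by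
    intro i j
    change S5845.res (D.obj k1) inf_le_left (s1 i) = S5845.res (D.obj k1) inf_le_right (s1 j)
    have e1 : S5845.res (D.obj k1) (inf_le_left : W i.1 ⊓ W j.1 ≤ W i.1) (s1 i) =
        tr D hk01 _ (S5845.res (D.obj k0) inf_le_left (s0 i)) := by
      rw [hs1def]; exact (tr_res D hk01 _ (s0 i)).symm
    have e2 : S5845.res (D.obj k1) (inf_le_right : W i.1 ⊓ W j.1 ≤ W j.1) (s1 j) =
        tr D hk01 _ (S5845.res (D.obj k0) inf_le_right (s0 j)) := by
      rw [hs1def]; exact (tr_res D hk01 _ (s0 j)).symm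
    rw [e1, e2, ← sub_eq_zero, ← tr_sub, ← tr_tr D (hkp (i, j)) (hkp1 (i, j)), hkp0 (i, j),
      tr_zero]
  have hcover : V ≤ iSup (fun i : {x // x ∈ t} => W i.1) := by
    intro y hy
    obtain ⟨x, hx⟩ := Set.mem_iUnion.1 (ht hy)
    obtain ⟨hxt, hyW⟩ := Set.mem_iUnion.1 hx
    exact Opens.mem_iSup.2 ⟨⟨x, hxt⟩, hyW⟩
  obtain ⟨s, hs, -⟩ := TopCat.Sheaf.existsUnique_gluing' (F := ⟨(D.obj k1).presheaf, (D.obj k1).isSheaf⟩)
    (fun i : {x // x ∈ t} => W i.1) V (fun i => homOfLE (hWV i.1)) hcover s1 hcompat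
  refine ⟨k1, s, ?_⟩
  apply TopCat.Presheaf.IsSheaf.section_ext (colimit D).isSheaf
  intro y hy
  obtain ⟨i, hyi⟩ := Opens.mem_iSup.1 (hcover hy)
  refine ⟨W i.1, hWV i.1, hyi, ?_⟩
  change S5845.res (colimit D) (hWV i.1) (inj D k1 V s) = S5845.res (colimit D) (hWV i.1) σ
  rw [← inj_res, ← hs0 i]
  have : S5845.res (D.obj k1) (hWV i.1) s = s1 i := hs i
  rw [this, hs1def, inj_tr]

end SecColim

section Main

variable (Z : Set X) (F : X.Modules)

/-- the open `T.U ∩ V` in the form used by the direct images -/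
abbrev P (T : Cl Z) (V : X.Opens) : X.Opens := T.U.ι ''ᵁ T.U.ι ⁻¹ᵁ V

lemma P_eq (T : Cl Z) (V : X.Opens) : P Z T V = T.U ⊓ V := ι_image_preimage _ _

lemma P_mono (T : Cl Z) {W V : X.Opens} (h : W ≤ V) : P Z T W ≤ P Z T V := by
  rw [P_eq, P_eq]; exact inf_le_inf_left _ h

lemma tr_eq {T1 T2 : Cl Z} (h : T1 ≤ T2) (V : X.Opens) (s : Γ(F, P Z T1 V)) :
    tr ((diagram Z).obj F) h V s = S5845.res F (resPush_le (Cl.U_anti h) V) s := by
  change (resPushMapApp (Cl.U_anti h) F).app V s = _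
  rw [resPushMapApp_app]
  rfl

lemma resD_eq (T : Cl Z) {W V : X.Opens} (hWV : W ≤ V) (s : Γ(F, P Z T V)) :
    S5845.res (((diagram Z).obj F).obj T) hWV s = S5845.res F (P_mono Z T hWV) s := rfl

lemma compact_of_le [IsLocallyNoetherian X] (V : X.Opens) (hV : IsCompact (V : Set X))
    (W : X.Opens) (hW : W ≤ V) : IsCompact (W : Set X) := by
  haveI := S5870.noetherianSpace_of_le V hV W hW
  exact isCompact_iff_compactSpace.2 inferInstance

theorem main (X : Scheme.{u}) [IsLocallyNoetherian X] (Z : Set X)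
    (hZ : StableUnderSpecialization Z) (F : X.Modules) :
    ZClos.IsZClosed Z ((ZClos.H0 Z).obj F) := by
  rw [S5845.main X Z hZ]
  intro T V hV
  have hVn : ∀ W : X.Opens, W ≤ V → IsCompact (W : Set X) := compact_of_le V hV
  have hVTn : ∀ W : X.Opens, W ≤ V ⊓ T.U → IsCompact (W : Set X) :=
    fun W hW => compact_of_le V hV W (hW.trans inf_le_left)
  constructor
  · -- injectivity
    rw [injective_iff_map_eq_zero]
    intro σ hσ
    change S5845.res (colimit ((diagram Z).obj F)) (inf_le_left : V ⊓ T.U ≤ V) σ = 0 at hσ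
    obtain ⟨T1, s, rfl⟩ := sec_rep ((diagram Z).obj F) hVn σ
    rw [← inj_res] at hσ
    obtain ⟨T2, h12, h2⟩ := sec_zero ((diagram Z).obj F) (hVn _ inf_le_left) _ hσ
    have h13 : T1 ≤ T2 ⊔ T := h12.trans le_sup_left
    rw [← inj_tr _ h13]
    have h3 : tr ((diagram Z).obj F) h13 V s = 0 := by
      rw [tr_eq, resD_eq, S5845.res_res] at h2
      rw [tr_eq]
      have hle : P Z (T2 ⊔ T) V ≤ P Z T2 (V ⊓ T.U) := by
        rw [P_eq, P_eq]
        intro y hy
        exact ⟨fun hy2 => hy.1 (Or.inl hy2), hy.2, fun hyT => hy.1 (Or.inr hyT)⟩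
      have := congrArg (S5845.res F hle) h2
      rw [S5845.res_res] at this
      exact this.trans (S5845.res_zero F hle)
    rw [h3, inj_zero]
    rfl
  · -- surjectivity
    intro τ
    obtain ⟨T1, s, rfl⟩ := sec_rep ((diagram Z).obj F) hVTn τ
    have h13 : T1 ≤ T1 ⊔ T := le_sup_left
    have hle : P Z (T1 ⊔ T) V ≤ P Z T1 (V ⊓ T.U) := by
      rw [P_eq, P_eq]
      intro y hy
      exact ⟨fun hy2 => hy.1 (Or.inl hy2), hy.2, fun hyT => hy.1 (Or.inr hyT)⟩
    refine ⟨inj ((diagram Z).obj F) (T1 ⊔ T) V (S5845.res F hle s), ?_⟩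
    change S5845.res (colimit ((diagram Z).obj F)) (inf_le_left : V ⊓ T.U ≤ V) _ = _
    rw [← inj_res, ← inj_tr _ h13 (V ⊓ T.U) s]
    congr 1
    rw [tr_eq, resD_eq, S5845.res_res]

end Main


end


open CategoryTheory CategoryTheory.Limits AlgebraicGeometry in
/-- For a locally Noetherian scheme X, a subset Z of X stable under specialization and an arbitrary
O_X-module F, the Z-closure H⁰_{X/Z}(F) is itself Z-closed. -/
theorem result (X : Scheme.{u}) [IsLocallyNoetherian X] (Z : Set X)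
    (hZ : StableUnderSpecialization Z) (F : X.Modules) :
    ZClos.IsZClosed Z ((ZClos.H0 Z).obj F) := by
  classical
  exact main X Z hZ F

end Groth.Agent.S5850
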