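import Groth.Statements.S6029
import Groth.Agent.Lib.Helper3.LocCoh
import Groth.Agent.Lib.Helper3.GSS
import Groth.Agent.Lib.Helper3.ExtRD
import Groth.Agent.Lib.Helper3.AbutIf
import Groth.Agent.Lib.Helper3.SiteSec
import Groth.Agent.S0452
import Groth.Agent.S0454

set_option autoImplicit false
universe u
open CategoryTheory CategoryTheory.Limits TopologicalSpace
open LocCohZ

namespace Groth.Agent.S6029

open Groth.Agent.Helper3 Groth.Agent.Lib.Helper6 Opposite

/-- For a closed subset Z = X − U of a topological space X and an abelian sheaf F on X: there is an E₂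
spectral sequence of abelian groups with E₂^{p,q} ≅ H^p(X, ℋ^q_Z(F)) for p, q ≥ 0 (and 0 otherwise),
bounded, abutting with finite filtrations to H^n_Z(X, F) (n ≥ 0; 0 for n < 0). (Existence only: the
E₂ identifications and the abutment isomorphisms are some isomorphisms, not the canonical maps of a
construction, so edge maps and low-degree exact sequences are not part of this statement.) -/
theorem result {X : TopCat.{u}} (F : CohTop.Ab X) (U : Opens X) :
    ∃ (E : E₂CohomologicalSpectralSequence AddCommGrpCat.{u})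
      (a : SpSeq.Abutment E (fun n : ℤ =>
        if 0 ≤ n then AddCommGrpCat.of (LocCohZ.HZc F n.toNat U) else AddCommGrpCat.of PUnit.{u + 1})),
      (∀ n : ℤ, a.IsFinite n) ∧ SpSeq.IsBounded E ∧
      ∀ p q : ℤ, Nonempty ((E.page 2 le_rfl).X (p, q) ≅
        (if 0 ≤ p ∧ 0 ≤ q then AddCommGrpCat.of (CohTop.HU ((LocCohZ.HZsh U q.toNat).obj F) p.toNat ⊤)
          else AddCommGrpCat.of PUnit.{u + 1})) := by
  let J := Opens.grothendieckTopology X
  let Z := CohCx.freeSheaf J (⊤ : Opens X)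
  let S := preadditiveCoyoneda.obj (op Z)
  let T := LocCohZ.sectSuppF U
  have hT : ∀ Q : CohTop.Ab X, Injective Q → ∀ q : ℕ, 0 < q →
      IsZero ((S.rightDerived q).obj (T.obj Q)) := by
    intro Q hQ q hq
    obtain ⟨m, rfl⟩ : ∃ m, q = m + 1 := ⟨q - 1, by omega⟩
    have h1 : TopCat.Sheaf.IsFlasque Q := Groth.Agent.S0454.result Q
    have h2 : TopCat.Sheaf.IsFlasque (CohCx.sectSupp U Q) := SectSupp.sectSupp_isFlasque U Q
    have h3 : Subsingleton (CohTop.HU (CohCx.sectSupp U Q) (m + 1) ⊤) :=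
      Groth.Agent.S0452.result (CohCx.sectSupp U Q) ⊤ m
    refine IsZero.of_iso ?_ (ExtRD.rightDerivedIsoExt S Z (Iso.refl _) (T.obj Q) (m + 1))
    exact @AddCommGrpCat.isZero_of_subsingleton _ h3
  obtain ⟨E, a, hfin, hbdd, hE⟩ := GSS.main' T S hT F
  let compIso : T ⋙ S ≅ preadditiveCoyoneda.obj (op (LocCohZ.zq (le_top : U ≤ ⊤))) :=
    Functor.isoWhiskerLeft T (SiteSec.coyonedaIsoΓ J ⊤) ≪≫ LocCoh.compIso U
  obtain ⟨a', ha'⟩ := AbutIf.exists_abutment_if
    (fun k => ((T ⋙ S).rightDerived k).obj F)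
    (fun k => AddCommGrpCat.of (LocCohZ.HZc F k U)) a hfin
    (fun k => ⟨ExtRD.rightDerivedIsoExt (T ⋙ S) _ compIso F k⟩)
  refine ⟨E, a', ha', hbdd, ?_⟩
  intro p q
  refine AbutIf.nonempty_iso_if _ (hE p q) ⟨?_⟩
  exact ExtRD.rightDerivedIsoExt S Z (Iso.refl _) _ p.toNat


end Groth.Agent.S6029
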