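import Groth.Statements.S2215
import Mathlib

set_option autoImplicit false
universe u v
open Disc

namespace Groth.Agent.S2215

section
open TensorProduct

variable {A : Type u} {B : Type v} [CommRing A] [CommRing B] [Algebra A B]

/-- Θ_f : B ⊗ B → B, x ⊗ y ↦ f x • y -/
noncomputable def Th (f : B →ₗ[A] A) : B ⊗[A] B →ₗ[A] B :=
  TensorProduct.lift ((LinearMap.lsmul A B).comp f)

theorem Th_tmul (f : B →ₗ[A] A) (x y : B) : Th f (x ⊗ₜ[A] y) = f x • y := by
  simp [Th]

theorem Th_right (f : B →ₗ[A] A) (s : B) (u : B ⊗[A] B) :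
    Th f (((1 : B) ⊗ₜ[A] s) * u) = s * Th f u := by
  induction u with
  | zero => simp
  | tmul x y => simp [Th_tmul, Algebra.TensorProduct.tmul_mul_tmul]
  | add x y hx hy => rw [mul_add, map_add, hx, hy, map_add, mul_add]

theorem Th_left (f : B →ₗ[A] A) (s : B) (u : B ⊗[A] B) :
    Th f ((s ⊗ₜ[A] (1 : B)) * u) = Th (f ∘ₗ LinearMap.mulLeft A s) u := by
  induction u with
  | zero => simp
  | tmul x y => simp [Th_tmul, Algebra.TensorProduct.tmul_mul_tmul]
  | add x y hx hy => rw [mul_add, map_add, hx, hy, map_add]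

theorem expand {ι : Type*} [Fintype ι] [DecidableEq ι] (b : Module.Basis ι A B) (u : B ⊗[A] B) :
    u = ∑ i, b i ⊗ₜ[A] Th (b.coord i) u := by
  induction u with
  | zero => simp
  | tmul x y =>
    simp only [Th_tmul, Module.Basis.coord_apply]
    conv_lhs => rw [← b.sum_repr x, TensorProduct.sum_tmul]
    apply Finset.sum_congr rfl
    intro i _
    rw [TensorProduct.smul_tmul]
  | add x y hx hy =>
    conv_lhs => rw [hx, hy, ← Finset.sum_add_distrib]
    apply Finset.sum_congr rfl
    intro i _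
    rw [map_add, TensorProduct.tmul_add]

theorem Th_inj {ι : Type*} [Fintype ι] [DecidableEq ι] (b : Module.Basis ι A B) (u v : B ⊗[A] B)
    (h : ∀ f : B →ₗ[A] A, Th f u = Th f v) : u = v := by
  rw [expand b u, expand b v]
  apply Finset.sum_congr rfl
  intro i _
  rw [h]

/-- the A-linear map f ↦ Φ ⟨f⟩ -/
noncomputable def Psi (Φ : Disc.Omega A B →ₗ[B] B) : (B →ₗ[A] A) →ₗ[A] B where
  toFun f := Φ ⟨f⟩
  map_add' f g := by
    have : (⟨f + g⟩ : Disc.Omega A B) = ⟨f⟩ + ⟨g⟩ := rfl
    rw [this, map_add]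
  map_smul' a f := by
    have : (⟨a • f⟩ : Disc.Omega A B) = (algebraMap A B a) • (⟨f⟩ : Disc.Omega A B) := by
      apply Disc.Omega.ext
      apply LinearMap.ext
      intro x
      simp only [LinearMap.smul_apply, Disc.Omega.smul_toLinearMap_apply]
      rw [← Algebra.smul_def, map_smul]
    rw [this, map_smul, RingHom.id_apply, smul_eq_mul, Algebra.smul_def]

theorem Psi_apply (Φ : Disc.Omega A B →ₗ[B] B) (f : B →ₗ[A] A) : Psi Φ f = Φ ⟨f⟩ := rfl

theorem Psi_mulLeft (Φ : Disc.Omega A B →ₗ[B] B) (f : B →ₗ[A] A) (s : B) :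
    Psi Φ (f ∘ₗ LinearMap.mulLeft A s) = s * Psi Φ f := by
  rw [Psi_apply, Psi_apply]
  have : (⟨f ∘ₗ LinearMap.mulLeft A s⟩ : Disc.Omega A B) = s • (⟨f⟩ : Disc.Omega A B) := rfl
  rw [this, map_smul, smul_eq_mul]

theorem mem_ann_iff (ξ : B ⊗[A] B) :
    ξ ∈ Submodule.annihilator (RingHom.ker (Algebra.TensorProduct.lmul' (S := B) A)) ↔
      ∀ s : B, ((1 : B) ⊗ₜ[A] s) * ξ = (s ⊗ₜ[A] (1 : B)) * ξ := by
  have h := KaehlerDifferential.span_range_eq_ideal A B
  change _ = RingHom.ker (Algebra.TensorProduct.lmul' (S := B) A) at h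
  rw [← h, Ideal.span, Submodule.mem_annihilator_span]
  constructor
  · intro hx s
    have := hx ⟨_, ⟨s, rfl⟩⟩
    simp only [smul_eq_mul] at this
    rw [mul_sub, sub_eq_zero] at this
    rw [mul_comm, this, mul_comm]
  · rintro hx ⟨_, ⟨s, rfl⟩⟩
    simp only [smul_eq_mul]
    rw [mul_sub, sub_eq_zero, mul_comm, hx s, mul_comm]

theorem main28 [Module.Finite A B] [Module.Free A B] (Φ : Disc.Omega A B →ₗ[B] B) :
    ∃! ξ : B ⊗[A] B,
      ξ ∈ Submodule.annihilator (RingHom.ker (Algebra.TensorProduct.lmul' (S := B) A)) ∧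
        ∀ l : Disc.Omega A B,
          Φ l = TensorProduct.lift ((LinearMap.lsmul A B).comp l.toLinearMap) ξ := by
  classical
  let b := Module.Free.chooseBasis A B
  let ξ : B ⊗[A] B := ∑ i, b i ⊗ₜ[A] Psi Φ (b.coord i)
  have hξ : ∀ f : B →ₗ[A] A, Th f ξ = Psi Φ f := by
    intro f
    simp only [ξ, map_sum, Th_tmul]
    conv_rhs => rw [← Module.Basis.sum_dual_apply_smul_coord b f, map_sum]
    apply Finset.sum_congr rfl
    intro i _
    rw [map_smul]
  refine ⟨ξ, ⟨?_, ?_⟩, ?_⟩
  · rw [mem_ann_iff]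
    intro s
    apply Th_inj b
    intro f
    rw [Th_right, Th_left, hξ, hξ, Psi_mulLeft]
  · intro l
    exact (hξ l.toLinearMap).symm
  · rintro ξ' ⟨-, h2⟩
    apply Th_inj b
    intro f
    rw [hξ, Psi_apply, h2 ⟨f⟩]
    rfl


theorem mul_eq_sum {ι : Type*} [Fintype ι] [DecidableEq ι] (b : Module.Basis ι A B) (u : B ⊗[A] B) :
    Algebra.TensorProduct.lmul' (S := B) A u = ∑ j, b j * Th (b.coord j) u := by
  induction u with
  | zero => simp
  | tmul x y =>
    simp only [Algebra.TensorProduct.lmul'_apply_tmul, Th_tmul, Module.Basis.coord_apply]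
    conv_lhs => rw [← b.sum_repr x]
    rw [Finset.sum_mul]
    apply Finset.sum_congr rfl
    intro j _
    rw [smul_mul_assoc, mul_smul_comm]
  | add x y hx hy =>
    rw [map_add, hx, hy, ← Finset.sum_add_distrib]
    apply Finset.sum_congr rfl
    intro j _
    rw [map_add, mul_add]

theorem trace_eq_sum {ι : Type*} [Fintype ι] [DecidableEq ι] (b : Module.Basis ι A B) (y : B) :
    Algebra.trace A B y = ∑ j, b.coord j (y * b j) := by
  rw [Algebra.trace_eq_matrix_trace b, Matrix.trace]
  apply Finset.sum_congr rfl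
  intro j _
  simp [Matrix.diag, Algebra.leftMulMatrix_eq_repr_mul]

theorem Th_add (f g : B →ₗ[A] A) (u : B ⊗[A] B) : Th (f + g) u = Th f u + Th g u := by
  induction u with
  | zero => simp
  | tmul x y => simp [Th_tmul, add_smul]
  | add x y hx hy => rw [map_add, hx, hy, map_add, map_add]; abel

theorem Th_sum {ι : Type*} [Fintype ι] (g : ι → (B →ₗ[A] A)) (u : B ⊗[A] B) :
    Th (∑ j, g j) u = ∑ j, Th (g j) u := by
  induction u with
  | zero => simp
  | tmul x y => simp [Th_tmul, Finset.sum_smul]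
  | add x y hx hy => rw [map_add, hx, hy, ← Finset.sum_add_distrib]; simp

theorem Th_trace {ι : Type*} [Fintype ι] [DecidableEq ι] (b : Module.Basis ι A B)
    (ξ : B ⊗[A] B)
    (hξ : ξ ∈ Submodule.annihilator (RingHom.ker (Algebra.TensorProduct.lmul' (S := B) A))) :
    Th (Algebra.trace A B) ξ = Algebra.TensorProduct.lmul' (S := B) A ξ := by
  rw [mem_ann_iff] at hξ
  have h1 : Algebra.trace A B = ∑ j, (b.coord j) ∘ₗ LinearMap.mulLeft A (b j) := by
    apply LinearMap.ext
    intro y
    rw [trace_eq_sum b, LinearMap.sum_apply]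
    apply Finset.sum_congr rfl
    intro j _
    simp [mul_comm]
  rw [h1, Th_sum, mul_eq_sum b]
  apply Finset.sum_congr rfl
  intro j _
  rw [← Th_left, ← hξ, Th_right]

theorem main [Module.Finite A B] [Module.Free A B] :
    (Disc.noetherDifferent A B : Set B) =
      Set.range (fun φ : Disc.Omega A B →ₗ[B] B => φ (Disc.Omega.trace A B)) := by
  classical
  let b := Module.Free.chooseBasis A B
  have hsurj : Function.Surjective (Algebra.TensorProduct.lmul' (S := B) A) := by
    intro x
    exact ⟨x ⊗ₜ[A] 1, by simp⟩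
  ext x
  constructor
  · intro hx
    unfold Disc.noetherDifferent at hx
    rw [SetLike.mem_coe, Ideal.mem_map_iff_of_surjective _ hsurj] at hx
    obtain ⟨ξ, hξ, rfl⟩ := hx
    have hξ' := (mem_ann_iff ξ).mp hξ
    let Φ : Disc.Omega A B →ₗ[B] B :=
      { toFun := fun l => Th l.toLinearMap ξ
        map_add' := by
          intro l l'
          have : (l + l').toLinearMap = l.toLinearMap + l'.toLinearMap := rfl
          rw [this, Th_add]
        map_smul' := by
          intro s l
          have : (s • l).toLinearMap = l.toLinearMap ∘ₗ LinearMap.mulLeft A s := rfl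
          rw [this, ← Th_left, ← hξ', Th_right, RingHom.id_apply, smul_eq_mul] }
    refine ⟨Φ, ?_⟩
    change Th (Algebra.trace A B) ξ = _
    exact Th_trace b ξ hξ
  · rintro ⟨Φ, rfl⟩
    obtain ⟨ξ, ⟨hξ1, hξ2⟩, -⟩ := main28 Φ
    simp only
    rw [hξ2]
    change Th (Algebra.trace A B) ξ ∈ _
    rw [Th_trace b ξ hξ1]
    exact Ideal.mem_map_of_mem _ hξ1



end


/-- Special case: B finite free over A (the source allows flat quasi-finite maps of Noetherian rings).
Let omega = Hom_A(B, A) with its B-module structure through the argument and tau in omega the trace.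
Then an element of B lies in the Noether different of B over A exactly when it is of the form
phi(tau) for some B-linear map phi : omega -> B. -/
theorem result {A : Type u} {B : Type v} [CommRing A]
    [CommRing B] [Algebra A B] [IsNoetherianRing A] [Module.Finite A B] [Module.Free A B] :
    (Disc.noetherDifferent A B : Set B) =
      Set.range (fun φ : Disc.Omega A B →ₗ[B] B => φ (Disc.Omega.trace A B)) := by
  classical
  exact main

end Groth.Agent.S2215
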