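import Groth.Statements.S2197
import Mathlib

set_option autoImplicit false
universe u
open Disc

namespace Groth.Agent.S2197

section
open TensorProduct

section general
variable {R S : Type u} [CommRing R] [CommRing S] [Algebra R S]

/-- annihilator of a f.g. ideal commutes with flat base change (hard inclusion) -/
theorem ann_map_le [Module.Flat R S] (I : Ideal R) (hI : I.FG) :
    Submodule.annihilator (I.map (algebraMap R S)) ≤ (Submodule.annihilator I).map (algebraMap R S) := by
  classical
  obtain ⟨s, hs⟩ := hI
  intro x' hx'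
  rw [Submodule.mem_annihilator] at hx'
  -- K = s →₀ R, f : K → R
  let f : (s →₀ R) →ₗ[R] R := Finsupp.linearCombination R (fun i : s => (i : R))
  let x : R →ₗ[R] S := LinearMap.toSpanSingleton R S x'
  have hxf : x ∘ₗ f = 0 := by
    apply Finsupp.lhom_ext'
    intro i
    apply LinearMap.ext_ring
    simp only [LinearMap.comp_apply, Finsupp.lsingle_apply, LinearMap.zero_apply, f,
      Finsupp.linearCombination_single, one_smul, x, LinearMap.toSpanSingleton_apply]
    have h1 : algebraMap R S (i : R) ∈ I.map (algebraMap R S) := by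
      apply Ideal.mem_map_of_mem
      rw [← hs]
      exact Submodule.subset_span i.2
    have := hx' _ h1
    rw [smul_eq_mul] at this
    rw [Algebra.smul_def, mul_comm]
    exact this
  obtain ⟨k, a, y, hya, haf⟩ := Module.Flat.exists_factorization_of_comp_eq_zero_of_free hxf
  have hx1 : x' = y (a 1) := by
    have := LinearMap.congr_fun hya 1
    simpa [x] using this
  have hann : ∀ j, a 1 j ∈ Submodule.annihilator I := by
    intro j
    rw [← hs, Submodule.mem_annihilator_span]
    intro i
    have h1 := LinearMap.congr_fun haf (Finsupp.single i 1)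
    simp only [LinearMap.comp_apply, f, Finsupp.linearCombination_single, one_smul,
      LinearMap.zero_apply] at h1
    have h2 : a (i : R) = (i : R) • a 1 := by
      rw [← map_smul, smul_eq_mul, mul_one]
    rw [h2] at h1
    have h3 := congrArg (fun v => v j) h1
    simpa [mul_comm] using h3
  rw [hx1]
  have h4 : a 1 = ∑ j, (a 1 j) • Finsupp.single j (1 : R) := by
    ext j'
    simp [Finsupp.single_apply]
  rw [h4, map_sum]
  apply Ideal.sum_mem
  intro j _
  rw [map_smul, Algebra.smul_def]
  exact Ideal.mul_mem_right _ _ (Ideal.mem_map_of_mem _ (hann j))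

theorem map_ann_le (I : Ideal R) :
    (Submodule.annihilator I).map (algebraMap R S) ≤ Submodule.annihilator (I.map (algebraMap R S)) := by
  rw [Ideal.map_le_iff_le_comap]
  intro x hx
  rw [Ideal.mem_comap, Submodule.mem_annihilator]
  intro y hy
  refine Submodule.span_induction ?_ ?_ ?_ ?_ hy
  · rintro _ ⟨z, hz, rfl⟩
    rw [smul_eq_mul, ← map_mul]
    have := (Submodule.mem_annihilator.mp hx) z hz
    rw [smul_eq_mul] at this
    rw [this, map_zero]
  · simp
  · intro a b _ _ ha hb; rw [smul_add, ha, hb, add_zero]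
  · intro c a _ ha; rw [smul_comm, ha, smul_zero]

end general

section main
variable {A B A' B' : Type u} [CommRing A] [CommRing B]
    [CommRing A'] [CommRing B'] [Algebra A B] [Algebra A A'] [Algebra A B'] [Algebra B B']
    [Algebra A' B'] [IsScalarTower A B B'] [IsScalarTower A A' B']

/-- the map φ : B ⊗[A] B → B' ⊗[A'] B' -/
noncomputable def phi : (B ⊗[A] B) →ₐ[A] (B' ⊗[A'] B') :=
  Algebra.TensorProduct.lift
    ((Algebra.TensorProduct.includeLeft (R := A') (S := A') (A := B') (B := B')).restrictScalars A |>.comp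
      (IsScalarTower.toAlgHom A B B'))
    ((Algebra.TensorProduct.includeRight (R := A') (A := B') (B := B')).restrictScalars A |>.comp
      (IsScalarTower.toAlgHom A B B'))
    (fun _ _ => Commute.all _ _)

theorem phi_tmul (b1 b2 : B) :
    phi (A := A) (A' := A') (B' := B') (b1 ⊗ₜ[A] b2) = (algebraMap B B' b1) ⊗ₜ[A'] (algebraMap B B' b2) := by
  simp [phi, Algebra.TensorProduct.lift_tmul]

theorem phi_isBaseChange [Algebra.IsPushout A B A' B'] :
    IsBaseChange A' (phi (A := A) (B := B) (A' := A') (B' := B')).toLinearMap := by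
  have hP : Algebra.IsPushout A A' B B' := Algebra.IsPushout.symm inferInstance
  have hι : IsBaseChange A' (IsScalarTower.toAlgHom A B B').toLinearMap := hP.out
  have h1 := isBaseChange_tensorProduct_map (R := A) (P := B) A' hι
  refine (IsBaseChange.iff_of_equiv_comm (LinearEquiv.refl A (B ⊗[A] B))
    (hι.tensorEquiv B').symm ?_).mp h1
  apply TensorProduct.ext'
  intro b1 b2
  simp [phi_tmul, IsBaseChange.tensorEquiv, IsBaseChange.equiv_tmul]

/-- F1 : μ' ∘ φ = ι ∘ μ -/
theorem mul_phi (t : B ⊗[A] B) :
    Algebra.TensorProduct.lmul' (S := B') A' (phi (A := A) (A' := A') (B' := B') t) =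
      algebraMap B B' (Algebra.TensorProduct.lmul' (S := B) A t) := by
  induction t with
  | zero => simp
  | tmul b1 b2 => simp [phi_tmul]
  | add x y hx hy => simp [hx, hy]

theorem flat_phi [Algebra.IsPushout A B A' B'] [Module.Flat A A'] :
    @Module.Flat (B ⊗[A] B) (B' ⊗[A'] B') _ _
      (phi (A := A) (B := B) (A' := A') (B' := B')).toRingHom.toAlgebra.toModule := by
  let alg : Algebra (B ⊗[A] B) (B' ⊗[A'] B') :=
    (phi (A := A) (B := B) (A' := A') (B' := B')).toRingHom.toAlgebra
  have hst : IsScalarTower A (B ⊗[A] B) (B' ⊗[A'] B') :=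
    IsScalarTower.of_algebraMap_eq (fun x => ((phi (A := A) (B := B) (A' := A') (B' := B')).commutes x).symm)
  have hpo : Algebra.IsPushout A A' (B ⊗[A] B) (B' ⊗[A'] B') := by
    constructor
    exact phi_isBaseChange
  have hpo' : Algebra.IsPushout A (B ⊗[A] B) A' (B' ⊗[A'] B') := Algebra.IsPushout.symm hpo
  exact Module.Flat.isBaseChange A (B ⊗[A] B) A' (B' ⊗[A'] B') hpo'.out


theorem ker_eq [Algebra.IsPushout A B A' B'] :
    RingHom.ker (Algebra.TensorProduct.lmul' (S := B') A') =
      (RingHom.ker (Algebra.TensorProduct.lmul' (S := B) A)).map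
        (phi (A := A) (B := B) (A' := A') (B' := B')).toRingHom := by
  have hP : Algebra.IsPushout A A' B B' := Algebra.IsPushout.symm inferInstance
  have hι : IsBaseChange A' (IsScalarTower.toAlgHom A B B').toLinearMap := hP.out
  apply le_antisymm
  · have h := KaehlerDifferential.span_range_eq_ideal A' B'
    change _ = RingHom.ker (Algebra.TensorProduct.lmul' (S := B') A') at h
    rw [← h, Ideal.span_le]
    rintro _ ⟨b', rfl⟩
    refine hι.inductionOn b' (fun b' => (1 : B') ⊗ₜ[A'] b' - b' ⊗ₜ[A'] (1 : B') ∈
      (RingHom.ker (Algebra.TensorProduct.lmul' (S := B) A)).map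
        (phi (A := A) (B := B) (A' := A') (B' := B')).toRingHom) ?_ ?_ ?_ ?_
    · simp
    · intro b
      have h2 : (1 : B') ⊗ₜ[A'] ((IsScalarTower.toAlgHom A B B').toLinearMap b) -
          ((IsScalarTower.toAlgHom A B B').toLinearMap b) ⊗ₜ[A'] (1 : B') =
          (phi (A := A) (B := B) (A' := A') (B' := B')).toRingHom
            ((1 : B) ⊗ₜ[A] b - b ⊗ₜ[A] (1 : B)) := by
        simp [phi_tmul]
      rw [h2]
      apply Ideal.mem_map_of_mem
      exact KaehlerDifferential.one_smul_sub_smul_one_mem_ideal A b
    · intro a' b' hb'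
      have h2 : (1 : B') ⊗ₜ[A'] (a' • b') - (a' • b') ⊗ₜ[A'] (1 : B') =
          a' • ((1 : B') ⊗ₜ[A'] b' - b' ⊗ₜ[A'] (1 : B')) := by
        simp only [smul_sub, TensorProduct.tmul_smul, TensorProduct.smul_tmul']
      rw [h2, Algebra.smul_def]
      exact Ideal.mul_mem_left _ _ hb'
    · intro x y hx hy
      have h2 : (1 : B') ⊗ₜ[A'] (x + y) - (x + y) ⊗ₜ[A'] (1 : B') =
          ((1 : B') ⊗ₜ[A'] x - x ⊗ₜ[A'] (1 : B')) + ((1 : B') ⊗ₜ[A'] y - y ⊗ₜ[A'] (1 : B')) := by
        rw [TensorProduct.tmul_add, TensorProduct.add_tmul]; abel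
      rw [h2]
      exact add_mem hx hy
  · rw [Ideal.map_le_iff_le_comap]
    intro t ht
    rw [Ideal.mem_comap, RingHom.mem_ker]
    rw [RingHom.mem_ker] at ht
    have := mul_phi (A := A) (A' := A') (B' := B') t
    rw [ht, map_zero] at this
    exact this


theorem main [Algebra.IsPushout A B A' B'] [Algebra.FiniteType A B] [Module.Flat A A'] :
    Disc.noetherDifferent A' B' = (Disc.noetherDifferent A B).map (algebraMap B B') := by
  unfold Disc.noetherDifferent
  let alg : Algebra (B ⊗[A] B) (B' ⊗[A'] B') :=
    (phi (A := A) (B := B) (A' := A') (B' := B')).toRingHom.toAlgebra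
  have hflat : Module.Flat (B ⊗[A] B) (B' ⊗[A'] B') := flat_phi
  have hfg : (RingHom.ker (Algebra.TensorProduct.lmul' (S := B) A)).FG :=
    KaehlerDifferential.ideal_fg A B
  have hann : Submodule.annihilator (RingHom.ker (Algebra.TensorProduct.lmul' (S := B') A')) =
      (Submodule.annihilator (RingHom.ker (Algebra.TensorProduct.lmul' (S := B) A))).map
        (phi (A := A) (B := B) (A' := A') (B' := B')).toRingHom := by
    rw [ker_eq (A := A) (B := B) (A' := A') (B' := B')]
    exact le_antisymm (ann_map_le _ hfg) (map_ann_le _)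
  rw [hann]
  change Ideal.map (Algebra.TensorProduct.lmul' (S := B') A').toRingHom _ =
    Ideal.map (algebraMap B B') (Ideal.map (Algebra.TensorProduct.lmul' (S := B) A).toRingHom _)
  rw [Ideal.map_map, Ideal.map_map]
  congr 1
  apply RingHom.ext
  intro t
  exact mul_phi t

end main


end


/-- Part (2): let A -> B be a ring map of finite type and A -> A' a flat ring map, and let B' = B
tensor_A A'. Then the Noether different of B' over A' is the extension to B' of the Noether
different of B over A. -/
theorem result {A B A' B' : Type u} [CommRing A] [CommRing B]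
    [CommRing A'] [CommRing B'] [Algebra A B] [Algebra A A'] [Algebra A B'] [Algebra B B']
    [Algebra A' B'] [IsScalarTower A B B'] [IsScalarTower A A' B']
    [Algebra.IsPushout A B A' B'] [Algebra.FiniteType A B] [Module.Flat A A'] :
    Disc.noetherDifferent A' B' = (Disc.noetherDifferent A B).map (algebraMap B B') := by
  classical
  exact main

end Groth.Agent.S2197
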