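import Groth.Statements.S2220
import Mathlib
import Groth.Agent.S2197

set_option autoImplicit false
universe u
open AlgebraicGeometry
open Disc

namespace Groth.Agent.S2220

section
open TensorProduct
open AlgebraicGeometry CategoryTheory

variable {A B' B : Type u} [CommRing A] [CommRing B']
    [CommRing B] [Algebra A B'] [Algebra A B] [Algebra B' B] [IsScalarTower A B' B]

theorem flat_of_oi (h : IsOpenImmersion (Spec.map (CommRingCat.ofHom (algebraMap B' B)))) :
    (algebraMap B' B).Flat := by
  have : AlgebraicGeometry.Flat (Spec.map (CommRingCat.ofHom (algebraMap B' B))) := inferInstance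
  rw [AlgebraicGeometry.Flat.SpecMap_iff] at this
  exact this

theorem epi_of_oi (h : IsOpenImmersion (Spec.map (CommRingCat.ofHom (algebraMap B' B)))) :
    Algebra.IsEpi B' B := by
  rw [← CommRingCat.epi_iff_epi]
  have hm : Mono (Spec.map (CommRingCat.ofHom (algebraMap B' B))) := inferInstance
  have : Mono (CommRingCat.ofHom (algebraMap B' B)).op := by
    have h2 : Mono (Scheme.Spec.map (CommRingCat.ofHom (algebraMap B' B)).op) := hm
    exact Scheme.Spec.mono_of_mono_map h2
  exact unop_epi_of_mono (CommRingCat.ofHom (algebraMap B' B)).op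

/-- ψ : B' ⊗ B' → B ⊗ B -/
noncomputable def psi : (B' ⊗[A] B') →ₐ[A] (B ⊗[A] B) :=
  Algebra.TensorProduct.map (IsScalarTower.toAlgHom A B' B) (IsScalarTower.toAlgHom A B' B)

theorem psi_tmul (x y : B') :
    psi (A := A) (B := B) (x ⊗ₜ[A] y) = (algebraMap B' B x) ⊗ₜ[A] (algebraMap B' B y) := by
  simp [psi]

theorem mul_psi (t : B' ⊗[A] B') :
    Algebra.TensorProduct.lmul' (S := B) A (psi (A := A) (B := B) t) =
      algebraMap B' B (Algebra.TensorProduct.lmul' (S := B') A t) := by
  induction t with
  | zero => simp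
  | tmul b1 b2 => simp [psi_tmul]
  | add x y hx hy => simp [hx, hy]

theorem flat_psi (hf : (algebraMap B' B).Flat) :
    @Module.Flat (B' ⊗[A] B') (B ⊗[A] B) _ _
      (psi (A := A) (B' := B') (B := B)).toRingHom.toAlgebra.toModule := by
  have h1 : (IsScalarTower.toAlgHom A B' B).toRingHom.Flat := hf
  exact RingHom.Flat.tensorProductMap (S := A) (R := A) h1 h1

/-- the ideal J = ψ(I_{B'}) T -/
noncomputable def J : Ideal (B ⊗[A] B) :=
  (RingHom.ker (Algebra.TensorProduct.lmul' (S := B') A)).map
    (psi (A := A) (B' := B') (B := B)).toRingHom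

theorem gen_mem_J (b' : B') :
    (1 : B) ⊗ₜ[A] (algebraMap B' B b') - (algebraMap B' B b') ⊗ₜ[A] (1 : B) ∈ J (A := A) (B' := B') (B := B) := by
  have h2 : (1 : B) ⊗ₜ[A] (algebraMap B' B b') - (algebraMap B' B b') ⊗ₜ[A] (1 : B) =
      (psi (A := A) (B' := B') (B := B)).toRingHom ((1 : B') ⊗ₜ[A] b' - b' ⊗ₜ[A] (1 : B')) := by
    simp [psi_tmul]
  rw [h2]
  apply Ideal.mem_map_of_mem
  exact KaehlerDifferential.one_smul_sub_smul_one_mem_ideal A b'

/-- the bilinear map B → B → T/J over B' -/
noncomputable def beta : B →ₗ[B'] B →ₗ[B'] ((B ⊗[A] B) ⧸ J (A := A) (B' := B') (B := B)) :=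
  LinearMap.mk₂ B' (fun x y => Ideal.Quotient.mk _ (x ⊗ₜ[A] y))
    (by intro x x' y; rw [TensorProduct.add_tmul, map_add])
    (by
      intro c x y
      rw [← TensorProduct.smul_tmul' c x y]
      rfl)
    (by intro x y y'; rw [TensorProduct.tmul_add, map_add])
    (by
      intro c x y
      have h1 : (c • (Ideal.Quotient.mk (J (A := A) (B' := B') (B := B)) (x ⊗ₜ[A] y))) =
          Ideal.Quotient.mk (J (A := A) (B' := B') (B := B)) ((c • x) ⊗ₜ[A] y) := by
        rw [← TensorProduct.smul_tmul' c x y]
        rfl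
      rw [h1, Ideal.Quotient.eq]
      have h2 : x ⊗ₜ[A] (c • y) - (c • x) ⊗ₜ[A] y =
          (x ⊗ₜ[A] y) * ((1 : B) ⊗ₜ[A] (algebraMap B' B c) - (algebraMap B' B c) ⊗ₜ[A] (1 : B)) := by
        rw [mul_sub, Algebra.TensorProduct.tmul_mul_tmul, Algebra.TensorProduct.tmul_mul_tmul,
          mul_one, mul_one, Algebra.smul_def, Algebra.smul_def, mul_comm x, mul_comm y]
      rw [h2]
      exact Ideal.mul_mem_left _ _ (gen_mem_J c))

theorem ker_le_J (t : B ⊗[A] B)
    (ht : Algebra.TensorProduct.mapOfCompatibleSMul B' A A B B t = 0) :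
    t ∈ J (A := A) (B' := B') (B := B) := by
  have key : ∀ t : B ⊗[A] B, TensorProduct.lift (beta (A := A) (B' := B') (B := B))
      (Algebra.TensorProduct.mapOfCompatibleSMul B' A A B B t) = Ideal.Quotient.mk _ t := by
    intro t
    induction t with
    | zero => simp
    | tmul x y => simp [beta]
    | add x y hx hy => rw [map_add, map_add, hx, hy, map_add]
  have := key t
  rw [ht, map_zero] at this
  exact Ideal.Quotient.eq_zero_iff_mem.mp this.symm

theorem ker_eq (he : Algebra.IsEpi B' B) :
    RingHom.ker (Algebra.TensorProduct.lmul' (S := B) A) = J (A := A) (B' := B') (B := B) := by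
  apply le_antisymm
  · have h := KaehlerDifferential.span_range_eq_ideal A B
    change _ = RingHom.ker (Algebra.TensorProduct.lmul' (S := B) A) at h
    rw [← h, Ideal.span_le]
    rintro _ ⟨s, rfl⟩
    apply ker_le_J
    rw [map_sub, sub_eq_zero]
    simp only [Algebra.TensorProduct.mapOfCompatibleSMul_tmul]
    exact (Algebra.isEpi_iff_forall_one_tmul_eq B' B).mp he s
  · unfold J
    rw [Ideal.map_le_iff_le_comap]
    intro t ht
    rw [Ideal.mem_comap, RingHom.mem_ker]
    rw [RingHom.mem_ker] at ht
    have := mul_psi (A := A) (B := B) t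
    rw [ht, map_zero] at this
    exact this

theorem main [Algebra.FiniteType A B']
    (h : IsOpenImmersion (Spec.map (CommRingCat.ofHom (algebraMap B' B)))) :
    Disc.noetherDifferent A B = (Disc.noetherDifferent A B').map (algebraMap B' B) := by
  unfold Disc.noetherDifferent
  let alg : Algebra (B' ⊗[A] B') (B ⊗[A] B) :=
    (psi (A := A) (B' := B') (B := B)).toRingHom.toAlgebra
  have hflat : Module.Flat (B' ⊗[A] B') (B ⊗[A] B) := flat_psi (flat_of_oi h)
  have hfg : (RingHom.ker (Algebra.TensorProduct.lmul' (S := B') A)).FG :=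
    KaehlerDifferential.ideal_fg A B'
  have hann : Submodule.annihilator (RingHom.ker (Algebra.TensorProduct.lmul' (S := B) A)) =
      (Submodule.annihilator (RingHom.ker (Algebra.TensorProduct.lmul' (S := B') A))).map
        (psi (A := A) (B' := B') (B := B)).toRingHom := by
    rw [ker_eq (A := A) (B' := B') (B := B) (epi_of_oi h)]
    exact le_antisymm (Groth.Agent.S2197.ann_map_le _ hfg) (Groth.Agent.S2197.map_ann_le _)
  rw [hann]
  change Ideal.map (Algebra.TensorProduct.lmul' (S := B) A).toRingHom _ =
    Ideal.map (algebraMap B' B) (Ideal.map (Algebra.TensorProduct.lmul' (S := B') A).toRingHom _)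
  rw [Ideal.map_map, Ideal.map_map]
  congr 1
  apply RingHom.ext
  intro t
  exact mul_psi t


end


/-- Part (2): for ring maps A -> B' -> B with B' of finite type over A and Spec B -> Spec B' an open
immersion, the Noether different of B over A is the ideal generated by the image of that of B'. -/
theorem result {A B' B : Type u} [CommRing A] [CommRing B']
    [CommRing B] [Algebra A B'] [Algebra A B] [Algebra B' B] [IsScalarTower A B' B]
    [Algebra.FiniteType A B']
    (h : IsOpenImmersion (Spec.map (CommRingCat.ofHom (algebraMap B' B)))) :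
    Disc.noetherDifferent A B = (Disc.noetherDifferent A B').map (algebraMap B' B) := by
  classical
  exact main h

end Groth.Agent.S2220
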