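import Groth.Statements.S2221
import Mathlib
import Groth.Agent.S2215

set_option autoImplicit false
universe u
open Disc

namespace Groth.Agent.S2221

section
open TensorProduct

variable {A B : Type u} [CommRing A] [CommRing B] [Algebra A B]

theorem main [IsNoetherianRing A] [Module.Finite A B] [Module.Free A B]
    [Module.Invertible B (Disc.Omega A B)] :
    Disc.differentSet A B = (Disc.noetherDifferent A B : Set B) := by
  rw [Groth.Agent.S2215.result]
  ext x
  constructor
  · intro hx
    -- x in differentSet
    obtain ⟨t, ht⟩ := (Module.Invertible.bijective (R := B) (M := Disc.Omega A B)).2 1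
    let ev : (Disc.Omega A B →ₗ[B] B) →ₗ[B] B := LinearMap.applyₗ (Disc.Omega.trace A B)
    have key : ∀ t : Module.Dual B (Disc.Omega A B) ⊗[B] (Disc.Omega A B),
        x * contractLeft B (Disc.Omega A B) t ∈ LinearMap.range ev := by
      intro t
      induction t with
      | zero => simp
      | tmul Φ l =>
        obtain ⟨c, hc⟩ := hx l.toLinearMap
        have h1 : x • l = c • Disc.Omega.trace A B := by
          apply Disc.Omega.ext
          apply LinearMap.ext
          intro y
          simp only [Disc.Omega.smul_toLinearMap_apply]
          exact hc y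
        refine ⟨c • Φ, ?_⟩
        simp only [ev, LinearMap.applyₗ_apply_apply, LinearMap.smul_apply, contractLeft_apply]
        rw [smul_eq_mul, ← smul_eq_mul (a := x), ← map_smul, h1, map_smul, smul_eq_mul]
      | add a b ha hb =>
        rw [map_add, mul_add]
        exact add_mem ha hb
    have := key t
    rw [ht, mul_one] at this
    obtain ⟨Φ, hΦ⟩ := this
    exact ⟨Φ, hΦ⟩
  · rintro ⟨Φ, rfl⟩
    intro φ
    refine ⟨Φ ⟨φ⟩, ?_⟩
    intro y
    let L : (Disc.Omega A B) ⊗[B] (Disc.Omega A B) →ₗ[B] (Disc.Omega A B) :=
      TensorProduct.lift ((LinearMap.lsmul B (Disc.Omega A B)).comp Φ)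
    have h1 : (Disc.Omega.trace A B) ⊗ₜ[B] (⟨φ⟩ : Disc.Omega A B) =
        (⟨φ⟩ : Disc.Omega A B) ⊗ₜ[B] (Disc.Omega.trace A B) := Module.Invertible.tmul_comm
    have h2 := congrArg L h1
    simp only [L, TensorProduct.lift.tmul, LinearMap.comp_apply, LinearMap.lsmul_apply] at h2
    have h3 := congrArg (fun w : Disc.Omega A B => w.toLinearMap y) h2
    simp only [Disc.Omega.smul_toLinearMap_apply] at h3
    exact h3


end


/-- Affine finite free case: let A be a Noetherian ring and B an A-algebra which is finite free as an
A-module, and suppose omega = Hom_A(B, A) is an invertible B-module. Then the different of B over A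
(the b with b omega inside B Trace) equals the Noether different of B over A. -/
theorem result {A B : Type u} [CommRing A]
    [CommRing B] [Algebra A B] [IsNoetherianRing A] [Module.Finite A B] [Module.Free A B]
    [Module.Invertible B (Disc.Omega A B)] :
    Disc.differentSet A B = (Disc.noetherDifferent A B : Set B) := by
  classical
  exact main

end Groth.Agent.S2221
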