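import Groth.Statements.S8931
import Mathlib
import Groth.Agent.S6889

set_option autoImplicit false
universe u
open Disc

namespace Groth.Agent.S8931

open TensorProduct KaehlerDifferential
namespace H8931

variable (A : Type u) [CommRing A] (n : ℕ) (I : Ideal (MvPolynomial (Fin n) A))

local notation "P" => MvPolynomial (Fin n) A
local notation "B" => (MvPolynomial (Fin n) A ⧸ I)

/-- the generators `d x̄_j` -/
noncomputable def gen (j : Fin n) : Ω[B⁄A] := D A B (Ideal.Quotient.mk I (MvPolynomial.X j))

/-- base-changed basis -/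
noncomputable def bas : Module.Basis (Fin n) B (B ⊗[P] Ω[P⁄A]) :=
  (mvPolynomialBasis A (Fin n)).baseChange B

theorem bas_apply (j : Fin n) : bas A n I j = 1 ⊗ₜ D A P (MvPolynomial.X j) := by
  simp [bas, Module.Basis.baseChange_apply]

theorem one_tmul_D (g : P) :
    (1 : B) ⊗ₜ[P] D A P g = ∑ j, Ideal.Quotient.mk I (MvPolynomial.pderiv j g) • bas A n I j := by
  have h1 : D A P g = ∑ j, MvPolynomial.pderiv j g • mvPolynomialBasis A (Fin n) j := by
    conv_lhs => rw [← (mvPolynomialBasis A (Fin n)).sum_repr (D A P g)]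
    simp
  conv_lhs => rw [h1]
  rw [TensorProduct.tmul_sum]
  refine Finset.sum_congr rfl fun j _ => ?_
  rw [bas_apply, mvPolynomialBasis_apply, TensorProduct.tmul_smul, TensorProduct.smul_tmul',
    TensorProduct.smul_tmul', smul_eq_mul, mul_one]
  congr 1
  exact (Algebra.algebraMap_eq_smul_one (A := P ⧸ I) _).symm

theorem mapBaseChange_bas (j : Fin n) :
    mapBaseChange A P B (bas A n I j) = gen A n I j := by
  rw [bas_apply, mapBaseChange_tmul, KaehlerDifferential.map_D]
  exact one_smul (P ⧸ I) (D A (P ⧸ I) (algebraMap P (P ⧸ I) (MvPolynomial.X j)))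

theorem D_mk (g : P) :
    D A B (Ideal.Quotient.mk I g) = ∑ j, Ideal.Quotient.mk I (MvPolynomial.pderiv j g) • gen A n I j := by
  have h := congrArg (mapBaseChange A P B) (one_tmul_D A n I g)
  rw [mapBaseChange_tmul, KaehlerDifferential.map_D, map_sum] at h
  simp only [map_smul, mapBaseChange_bas] at h
  exact (one_smul (P ⧸ I) (D A (P ⧸ I) (algebraMap P (P ⧸ I) g))).symm.trans h


theorem span_gen : Submodule.span B (Set.range (gen A n I)) = ⊤ := by
  rw [eq_top_iff, ← KaehlerDifferential.span_range_derivation, Submodule.span_le]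
  rintro _ ⟨b, rfl⟩
  obtain ⟨g, rfl⟩ := Ideal.Quotient.mk_surjective b
  rw [SetLike.mem_coe, D_mk]
  exact Submodule.sum_mem _ fun j _ => Submodule.smul_mem _ _ (Submodule.subset_span ⟨j, rfl⟩)

theorem rel (z : Fin n → B) (hz : ∑ j, z j • gen A n I j = 0) :
    ∃ g ∈ I, ∀ j, z j = Ideal.Quotient.mk I (MvPolynomial.pderiv j g) := by
  have hw : mapBaseChange A P B (∑ j, z j • bas A n I j) = 0 := by
    simp only [map_sum, map_smul, mapBaseChange_bas]
    exact hz
  have hsurj : Function.Surjective (algebraMap P B) := Ideal.Quotient.mk_surjective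
  obtain ⟨c, hc⟩ := (exact_kerCotangentToTensor_mapBaseChange A P B hsurj _).mp hw
  obtain ⟨g, rfl⟩ := Ideal.toCotangent_surjective _ c
  rw [kerCotangentToTensor_toCotangent, one_tmul_D] at hc
  refine ⟨g.1, ?_, fun j => ?_⟩
  · have h1 := g.2
    rw [RingHom.mem_ker] at h1
    exact Ideal.Quotient.eq_zero_iff_mem.mp h1
  · have := congrArg (fun v => (bas A n I).repr v j) hc
    simp only [Module.Basis.repr_sum_self] at this
    exact this.symm


theorem rel' (f : Fin n → P) (g : P) (hg : g ∈ Ideal.span (Set.range f)) :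
    ∃ c : Fin n → (P ⧸ Ideal.span (Set.range f)), ∀ j,
      Ideal.Quotient.mk (Ideal.span (Set.range f)) (MvPolynomial.pderiv j g) =
        ∑ k, c k * Ideal.Quotient.mk (Ideal.span (Set.range f)) (MvPolynomial.pderiv j (f k)) := by
  obtain ⟨p, rfl⟩ := (Ideal.mem_span_range_iff_exists_fun).mp hg
  refine ⟨fun k => Ideal.Quotient.mk _ (p k), fun j => ?_⟩
  rw [map_sum, map_sum]
  refine Finset.sum_congr rfl fun k _ => ?_
  rw [Derivation.leibniz, map_add, smul_eq_mul, smul_eq_mul, map_mul, map_mul]
  have : Ideal.Quotient.mk (Ideal.span (Set.range f)) (f k) = 0 :=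
    Ideal.Quotient.eq_zero_iff_mem.mpr (Ideal.subset_span ⟨k, rfl⟩)
  rw [this, zero_mul, add_zero]

theorem det_sub_mem {R : Type u} [CommRing R] (J : Matrix (Fin n) (Fin n) R) (e : Fin n → Fin n) :
    (J.submatrix id e).det ∈ Ideal.span {J.det} := by
  by_cases he : Function.Injective e
  · have hb : Function.Bijective e := Finite.injective_iff_bijective.mp he
    have : e = (Equiv.ofBijective e hb : Equiv.Perm (Fin n)) := rfl
    rw [this, Matrix.det_permute']
    exact Ideal.mul_mem_left _ _ (Ideal.subset_span rfl)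
  · rw [Function.Injective] at he
    push Not at he
    obtain ⟨a, b, hab, hne⟩ := he
    have h0 : (J.submatrix id e).det = 0 :=
      Matrix.det_zero_of_column_eq (M := J.submatrix id e) hne (fun k => by
        simp only [Matrix.submatrix_apply, id, hab])
    rw [h0]
    exact Ideal.zero_mem _

theorem main (hn : 1 ≤ n) (f : Fin n → MvPolynomial (Fin n) A) : Fitt.ideal (MvPolynomial (Fin n) A ⧸ Ideal.span (Set.range f)) (KaehlerDifferential A (MvPolynomial (Fin n) A ⧸ Ideal.span (Set.range f))) 0 = Ideal.span {Ideal.Quotient.mk (Ideal.span (Set.range f)) (Matrix.det (Matrix.of fun i j : Fin n => MvPolynomial.pderiv j (f i)))} := by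
  set I := Ideal.span (Set.range f) with hI
  rw [Groth.Agent.S6889.result (gen A n I) (span_gen A n I) 0]
  set Jb : Matrix (Fin n) (Fin n) (P ⧸ I) :=
    Matrix.of fun i j : Fin n => Ideal.Quotient.mk I (MvPolynomial.pderiv j (f i)) with hJb
  have hdet : Ideal.Quotient.mk I (Matrix.det (Matrix.of fun i j : Fin n => MvPolynomial.pderiv j (f i)))
      = Jb.det := by
    rw [RingHom.map_det]
    rfl
  rw [hdet]
  apply le_antisymm
  · rw [Ideal.span_le]
    rintro d ⟨z, e, hz, rfl⟩
    have hz' : ∀ b, ∃ c : Fin n → (P ⧸ I), ∀ j, z b j = ∑ k, c k * Jb k j := by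
      intro b
      obtain ⟨g, hg, hgz⟩ := rel A n I (z b) (hz b)
      obtain ⟨c, hc⟩ := rel' A n f g hg
      exact ⟨c, fun j => by rw [hgz j, hc j]; rfl⟩
    choose C hC using hz'
    have hM : (Matrix.of fun a b => z b (e a)) = (Jb.submatrix id e).transpose * (Matrix.of C).transpose := by
      ext a b
      simp only [Matrix.of_apply, Matrix.mul_apply, Matrix.transpose_apply, Matrix.submatrix_apply, id]
      rw [hC b (e a)]
      exact Finset.sum_congr rfl fun k _ => mul_comm _ _
    rw [SetLike.mem_coe, hM, Matrix.det_mul, Matrix.det_transpose]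
    exact Ideal.mul_mem_right _ _ (det_sub_mem n Jb e)
  · rw [Ideal.span_le, Set.singleton_subset_iff]
    apply Ideal.subset_span
    refine ⟨fun k i => Jb k i, id, fun k => ?_, ?_⟩
    · have := D_mk A n I (f k)
      have h0 : Ideal.Quotient.mk I (f k) = 0 :=
        Ideal.Quotient.eq_zero_iff_mem.mpr (Ideal.subset_span (Set.mem_range_self k))
      rw [h0, map_zero] at this
      exact this.symm
    · rw [← Matrix.det_transpose]
      rfl

end H8931

/-- For a ring A, n ≥ 1 and f_1, …, f_n in A[x_1, …, x_n], with B = A[x_1, …, x_n]/(f_1, …, f_n), the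
zeroth Fitting ideal of Ω_{B/A} (the Kähler different of B over A) is generated by the image in B of
the Jacobian determinant det(∂f_i/∂x_j). -/
theorem result (A : Type u) [CommRing A] (n : ℕ) (hn : 1 ≤ n) (f : Fin n → MvPolynomial (Fin n) A) : Fitt.ideal (MvPolynomial (Fin n) A ⧸ Ideal.span (Set.range f)) (KaehlerDifferential A (MvPolynomial (Fin n) A ⧸ Ideal.span (Set.range f))) 0 = Ideal.span {Ideal.Quotient.mk (Ideal.span (Set.range f)) (Matrix.det (Matrix.of fun i j : Fin n => MvPolynomial.pderiv j (f i)))} := by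
  exact H8931.main A n hn f

end Groth.Agent.S8931
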