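import Groth.Statements.S9085
import Mathlib
import Mathlib
import Groth.Agent.Lib.Helper5.Misc.TensorSheaf

set_option autoImplicit false
universe u
open CategoryTheory
open ModSite

open CategoryTheory CategoryTheory.Limits
open Groth.Agent.Lib.Helper5.TensorSheaf

namespace Groth.Agent.S9085

open MonoidalCategory

variable {C : Type u} [SmallCategory C] {J : GrothendieckTopology C}
    (O : Sheaf J CommRingCat.{u}) (G F : ModSite.Mod O)

/-- `- ⊗ (G ⊗ F) ≅ (- ⊗ G) ⊗ F`, naturally. -/
noncomputable def assocIso :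
    (ModSite.tensorBi O).flip.obj (((ModSite.tensorBi O).obj G).obj F) ≅
      (ModSite.tensorBi O).flip.obj G ⋙ (ModSite.tensorBi O).flip.obj F := by
  let fG : PM O := (fgt O).obj G
  let fF : PM O := (fgt O).obj F
  let u : fG ⊗ fF ⟶ (fgt O).obj ((shf O).obj (fG ⊗ fF)) := (unit' O).app (fG ⊗ fF)
  let A : ModSite.Mod O ⥤ ModSite.Mod O := fgt O ⋙ tensorRight (fG ⊗ fF) ⋙ shf O
  let A' : ModSite.Mod O ⥤ ModSite.Mod O :=
    fgt O ⋙ tensorRight ((fgt O).obj ((shf O).obj (fG ⊗ fF))) ⋙ shf O
  let B : ModSite.Mod O ⥤ ModSite.Mod O := fgt O ⋙ (tensorRight fG ⋙ tensorRight fF) ⋙ shf O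
  let B' : ModSite.Mod O ⥤ ModSite.Mod O :=
    (fgt O ⋙ tensorRight fG ⋙ shf O) ⋙ (fgt O ⋙ tensorRight fF ⋙ shf O)
  let α : A ⟶ A' :=
    Functor.whiskerLeft (fgt O) (Functor.whiskerRight ((tensoringRight (PM O)).map u) (shf O))
  have hα : IsIso α := by
    have : ∀ X, IsIso (α.app X) := fun X => isIso_shf_map_of_W _
      (Groth.Agent.Lib.Helper5.TensorLocal.W_whiskerLeft J _ u (W_unit' _))
    exact NatIso.isIso_of_isIso_app α
  let γ : B ≅ A :=
    Functor.isoWhiskerLeft (fgt O) (Functor.isoWhiskerRight (tensorRightTensor fG fF).symm (shf O))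
  let β : B ⟶ B' :=
    Functor.whiskerLeft (fgt O ⋙ tensorRight fG)
      (Functor.whiskerRight (unit' O) (tensorRight fF ⋙ shf O))
  have hβ : IsIso β := by
    have : ∀ X, IsIso (β.app X) := fun X => isIso_shf_map_of_W _
      (Groth.Agent.Lib.Helper5.TensorLocal.W_whiskerRight J _ _ (W_unit' _))
    exact NatIso.isIso_of_isIso_app β
  exact tensorBiFlipObjIso O _ ≪≫ (asIso α).symm ≪≫ γ.symm ≪≫ asIso β ≪≫
    Functor.isoWhiskerRight (tensorBiFlipObjIso O G).symm _ ≪≫
    Functor.isoWhiskerLeft _ (tensorBiFlipObjIso O F).symm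

end Groth.Agent.S9085

namespace Groth.Agent.S9085

/-- On a small ringed site (C, O) with O commutative: the tensor product G ⊗_O F of two flat O-modules
is flat (flat meaning that tensoring with the module is exact on O-modules). -/
theorem result {C : Type u} [SmallCategory C] {J : GrothendieckTopology C}
    (O : Sheaf J CommRingCat.{u}) (G F : ModSite.Mod O) (hG : ModSite.IsFlat G) (hF : ModSite.IsFlat F) :
    ModSite.IsFlat (((ModSite.tensorBi O).obj G).obj F) := by
  rw [isFlat_iff] at hG hF ⊢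
  have := comp_preservesFiniteLimits ((ModSite.tensorBi O).flip.obj G)
    ((ModSite.tensorBi O).flip.obj F)
  exact preservesFiniteLimits_of_natIso (assocIso O G F).symm

end Groth.Agent.S9085
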