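import Groth.Statements.S9630
import Groth.Agent.Lib.Helper8.GeomAssembly

set_option autoImplicit false
universe u
open CAlg

namespace Groth.Agent.S9630

open TensorProduct in
/-- For a field k and a k-algebra R the following are equivalent: (1) Spec(k' ⊗_k R) is irreducible for
every field extension k'/k; (2) the same for every finite separable extension k'/k; (3) Spec(k^sep
⊗_k R) is irreducible for the separable closure k^sep; (4) Spec(k̄ ⊗_k R) is irreducible for the
algebraic closure k̄. Here the test fields range over field extensions in the universe of k; this is
equivalent to the unrestricted notion, since an algebraic closure of k suffices as a test. -/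
theorem result {k R : Type u} [Field k] [CommRing R] [Algebra k R] :
    [∀ (k' : Type u) [Field k'] [Algebra k k'], IrreducibleSpace (PrimeSpectrum (k' ⊗[k] R)),
      ∀ (k' : Type u) [Field k'] [Algebra k k'] [Module.Finite k k'] [Algebra.IsSeparable k k'], IrreducibleSpace (PrimeSpectrum (k' ⊗[k] R)),
      IrreducibleSpace (PrimeSpectrum (SeparableClosure k ⊗[k] R)),
      IrreducibleSpace (PrimeSpectrum (AlgebraicClosure k ⊗[k] R))].TFAE := by
  tfae_have 1 → 2 := fun h k' _ _ _ _ => h k'
  tfae_have 1 → 3 := fun h => h (SeparableClosure k)
  tfae_have 1 → 4 := fun h => h (AlgebraicClosure k)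
  tfae_have 4 → 1 := by
    intro h k' _ _
    exact Groth.Agent.Helper8.irreducibleSpace_of_algebraicClosure k k' R
  tfae_have 2 → 3 := by
    intro h
    exact Groth.Agent.Helper8.irreducibleSpace_of_forall_finite_separable k (SeparableClosure k) R
      (fun E _ _ _ _ => h E)
  tfae_have 3 → 4 := by
    intro h
    haveI := Groth.Agent.Helper8.irreducibleSpace_tensor_of_isPurelyInseparable (SeparableClosure k)
      (AlgebraicClosure k) (SeparableClosure k ⊗[k] R)
    let e := Algebra.TensorProduct.cancelBaseChange k (SeparableClosure k) (AlgebraicClosure k)
      (AlgebraicClosure k) R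
    exact Groth.Agent.Helper8.irreducibleSpace_primeSpectrum_of_injective
      e.symm.toRingEquiv.toRingHom e.symm.injective
  tfae_finish

end Groth.Agent.S9630
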