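import Groth.Statements.S16225
import Mathlib

set_option autoImplicit false
open scoped TensorProduct
universe u v
open CAlg

namespace Groth.Agent.S16225

/-- Let p be a prime, n a natural number and R → R' a faithfully flat homomorphism of commutative rings
in which p is nilpotent. Regard W_n(R') and W_n(R' ⊗_R R') as W_n(R)-algebras through the
componentwise maps induced by R → R' and R → R' ⊗_R R', and let ψ₁, ψ₂ : W_n(R') → W_n(R' ⊗_R R') be
the componentwise maps induced by the two inclusions of R' (these are W_n(R)-algebra maps). Then for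
every flat W_n(R)-module M the sequence 0 → M → M ⊗_{W_n(R)} W_n(R') ⇉ M ⊗_{W_n(R)} W_n(R' ⊗_R R')
is exact: m ↦ m ⊗ 1 is injective and its image is the equalizer of id ⊗ ψ₁ and id ⊗ ψ₂. (This is the
beginning, in degrees 0 and 1, of a complex continued by the higher tensor powers of R', which the
published proof asserts to be exact throughout; W_n(R) → W_n(R') is not flat in general, so this is
not faithfully flat descent.) -/
theorem result (p : ℕ) [Fact p.Prime] (n : ℕ)
    (R R' : Type u) [CommRing R] [CommRing R'] [Algebra R R'] [Module.FaithfullyFlat R R']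
    (hp : IsNilpotent (p : R))
    [Algebra (TruncatedWittVector p n R) (TruncatedWittVector p n R')]
    (h₁ : algebraMap (TruncatedWittVector p n R) (TruncatedWittVector p n R') = WittGrp.truncMap p n (algebraMap R R'))
    [Algebra (TruncatedWittVector p n R) (TruncatedWittVector p n (TensorProduct R R' R'))]
    (h₂ : algebraMap (TruncatedWittVector p n R) (TruncatedWittVector p n (TensorProduct R R' R')) =
      WittGrp.truncMap p n (algebraMap R (TensorProduct R R' R')))
    (ψ₁ ψ₂ : TruncatedWittVector p n R' →ₐ[TruncatedWittVector p n R] TruncatedWittVector p n (TensorProduct R R' R'))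
    (hψ₁ : (ψ₁ : TruncatedWittVector p n R' →+* TruncatedWittVector p n (TensorProduct R R' R')) =
      WittGrp.truncMap p n (Algebra.TensorProduct.includeLeftRingHom : R' →+* TensorProduct R R' R'))
    (hψ₂ : (ψ₂ : TruncatedWittVector p n R' →+* TruncatedWittVector p n (TensorProduct R R' R')) =
      WittGrp.truncMap p n ((Algebra.TensorProduct.includeRight : R' →ₐ[R] TensorProduct R R' R') : R' →+* TensorProduct R R' R'))
    (M : Type v) [AddCommGroup M] [Module (TruncatedWittVector p n R) M] [Module.Flat (TruncatedWittVector p n R) M] :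
    Function.Injective (fun m : M => m ⊗ₜ[TruncatedWittVector p n R] (1 : TruncatedWittVector p n R')) ∧
      ∀ x : M ⊗[TruncatedWittVector p n R] TruncatedWittVector p n R',
        LinearMap.lTensor M ψ₁.toLinearMap x = LinearMap.lTensor M ψ₂.toLinearMap x →
          x ∈ Set.range (fun m : M => m ⊗ₜ[TruncatedWittVector p n R] (1 : TruncatedWittVector p n R')) := by
  classical
  set WR := TruncatedWittVector p n R
  set WR' := TruncatedWittVector p n R'
  set WT := TruncatedWittVector p n (TensorProduct R R' R')
  -- the two linear maps
  let j : WR →ₗ[WR] WR' := Algebra.linearMap WR WR'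
  let d : WR' →ₗ[WR] WT := ψ₁.toLinearMap - ψ₂.toLinearMap
  have hjapp : ∀ w : WR, j w = WittGrp.truncMap p n (algebraMap R R') w := by
    intro w
    change algebraMap WR WR' w = _
    rw [h₁]
  have hinjR : Function.Injective (algebraMap R R') := FaithfulSMul.algebraMap_injective R R'
  have hjinj : Function.Injective j := by
    intro a b hab
    rw [hjapp, hjapp] at hab
    apply TruncatedWittVector.ext
    intro i
    have := congrArg (fun w => w.coeff i) hab
    simp only [WittGrp.coeff_truncMap] at this
    exact hinjR this
  have heff := Algebra.IsEffective.of_faithfullyFlat R R'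
  have hexact : Function.Exact j d := by
    intro x
    constructor
    · intro hx
      have hx' : ψ₁ x = ψ₂ x := by
        have : ψ₁ x - ψ₂ x = 0 := hx
        exact sub_eq_zero.mp this
      have h1 : (ψ₁ : WR' →+* WT) x = (ψ₂ : WR' →+* WT) x := hx'
      rw [hψ₁, hψ₂] at h1
      have hcoef : ∀ i : Fin n, x.coeff i ∈ Set.range (algebraMap R R') := by
        intro i
        have h2 := congrArg (fun w => TruncatedWittVector.coeff i w) h1
        rw [WittGrp.coeff_truncMap, WittGrp.coeff_truncMap] at h2
        have h3 : Algebra.TensorProduct.includeLeftSubRight R R' (x.coeff i) = 0 := by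
          rw [Algebra.TensorProduct.includeLeftSubRight_apply]
          exact sub_eq_zero.mpr h2
        obtain ⟨r, hr⟩ := (heff (x.coeff i)).mp h3
        exact ⟨r, hr⟩
      choose r hr using hcoef
      refine ⟨TruncatedWittVector.mk p r, ?_⟩
      rw [hjapp]
      apply TruncatedWittVector.ext
      intro i
      rw [WittGrp.coeff_truncMap, TruncatedWittVector.coeff_mk, hr]
    · rintro ⟨w, rfl⟩
      change ψ₁ (algebraMap WR WR' w) - ψ₂ (algebraMap WR WR' w) = 0
      rw [AlgHom.commutes, AlgHom.commutes, sub_self]
  have hex2 := Module.Flat.lTensor_exact M hexact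
  have hinj2 := Module.Flat.lTensor_preserves_injective_linearMap (M := M) j hjinj
  have hj1 : j 1 = 1 := map_one (algebraMap WR WR')
  constructor
  · intro a b hab
    simp only at hab
    have h1 : (j.lTensor M) (a ⊗ₜ[WR] (1 : WR)) = (j.lTensor M) (b ⊗ₜ[WR] (1 : WR)) := by
      rw [LinearMap.lTensor_tmul, LinearMap.lTensor_tmul, hj1]
      exact hab
    have h2 := hinj2 h1
    have h3 := congrArg (TensorProduct.rid WR M) h2
    simpa using h3
  · intro x hx
    have hx0 : (d.lTensor M) x = 0 := by
      change (LinearMap.lTensor M (ψ₁.toLinearMap - ψ₂.toLinearMap)) x = 0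
      rw [LinearMap.lTensor_sub, LinearMap.sub_apply, hx, sub_self]
    obtain ⟨y, rfl⟩ := (hex2 x).mp hx0
    refine ⟨TensorProduct.rid WR M y, ?_⟩
    simp only
    have : y = (TensorProduct.rid WR M y) ⊗ₜ[WR] (1 : WR) := by
      rw [← TensorProduct.rid_symm_apply, LinearEquiv.symm_apply_apply]
    conv_rhs => rw [this]
    rw [LinearMap.lTensor_tmul, hj1]

end Groth.Agent.S16225
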