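import Groth.Statements.S9161
import Mathlib

set_option autoImplicit false
universe u
open CAlg

namespace Groth.Agent.S9161

/-- If two two-term complexes of R-modules A₁ → A₀ and B₁ → B₀ are homotopy equivalent (maps of
complexes both ways whose composites are homotopic to the identity maps), then A₁ ⊕ B₀ and B₁ ⊕ A₀
are isomorphic R-modules. -/
theorem result (R : Type u) [CommRing R]
    (A₁ A₀ B₁ B₀ : Type u) [AddCommGroup A₁] [Module R A₁] [AddCommGroup A₀] [Module R A₀]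
    [AddCommGroup B₁] [Module R B₁] [AddCommGroup B₀] [Module R B₀]
    (dA : A₁ →ₗ[R] A₀) (dB : B₁ →ₗ[R] B₀) (φ₁ : A₁ →ₗ[R] B₁) (φ₀ : A₀ →ₗ[R] B₀)
    (ψ₁ : B₁ →ₗ[R] A₁) (ψ₀ : B₀ →ₗ[R] A₀) (hφ : dB ∘ₗ φ₁ = φ₀ ∘ₗ dA) (hψ : dA ∘ₗ ψ₁ = ψ₀ ∘ₗ dB)
    (h : A₀ →ₗ[R] A₁) (hh₁ : LinearMap.id - ψ₁ ∘ₗ φ₁ = h ∘ₗ dA) (hh₀ : LinearMap.id - ψ₀ ∘ₗ φ₀ = dA ∘ₗ h)
    (h' : B₀ →ₗ[R] B₁) (hh'₁ : LinearMap.id - φ₁ ∘ₗ ψ₁ = h' ∘ₗ dB)
    (hh'₀ : LinearMap.id - φ₀ ∘ₗ ψ₀ = dB ∘ₗ h') :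
    Nonempty ((A₁ × B₀) ≃ₗ[R] (B₁ × A₀)) := by
  have e1 : ∀ a : A₁, a - ψ₁ (φ₁ a) = h (dA a) := fun a => LinearMap.congr_fun hh₁ a
  have e0' : ∀ b : B₀, b - φ₀ (ψ₀ b) = dB (h' b) := fun b => LinearMap.congr_fun hh'₀ b
  have e1' : ∀ b : B₁, b - φ₁ (ψ₁ b) = h' (dB b) := fun b => LinearMap.congr_fun hh'₁ b
  have e0 : ∀ a : A₀, a - ψ₀ (φ₀ a) = dA (h a) := fun a => LinearMap.congr_fun hh₀ a
  have cφ : ∀ a : A₁, dB (φ₁ a) = φ₀ (dA a) := fun a => LinearMap.congr_fun hφ a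
  have cψ : ∀ b : B₁, dA (ψ₁ b) = ψ₀ (dB b) := fun b => LinearMap.congr_fun hψ b
  let Φ : (B₁ × A₀) →ₗ[R] (A₁ × B₀) :=
    LinearMap.prod (ψ₁ ∘ₗ LinearMap.fst R B₁ A₀ - h ∘ₗ LinearMap.snd R B₁ A₀)
      (dB ∘ₗ LinearMap.fst R B₁ A₀ + φ₀ ∘ₗ LinearMap.snd R B₁ A₀)
  have hΦ : ∀ b a, Φ (b, a) = (ψ₁ b - h a, dB b + φ₀ a) := fun b a => rfl
  have hinj : Function.Injective Φ := by
    rw [← LinearMap.ker_eq_bot, LinearMap.ker_eq_bot']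
    rintro ⟨b, a⟩ hx
    rw [hΦ, Prod.mk_eq_zero] at hx
    obtain ⟨h1, h2⟩ := hx
    -- a = -dA (ψ₁ b - h a) + ... 
    have ha : a = 0 := by
      have := e0 a
      have h3 : dA (ψ₁ b - h a) = 0 := by rw [h1, map_zero]
      rw [map_sub, cψ] at h3
      have h4 : ψ₀ (dB b + φ₀ a) = 0 := by rw [h2, map_zero]
      rw [map_add] at h4
      -- a = ψ₀ φ₀ a + dA h a = ψ₀ φ₀ a + ψ₀ dB b = 0
      have : a = ψ₀ (φ₀ a) + dA (h a) := by rw [← this]; abel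
      rw [this, ← sub_eq_zero.1 h3, add_comm]; exact h4
    subst ha
    rw [map_zero, sub_zero] at h1
    rw [map_zero, add_zero] at h2
    have hb : b = 0 := by
      have := e1' b
      rw [h1, h2, map_zero, map_zero, sub_zero] at this
      exact this
    rw [hb]
    rfl
  have hsurj : Function.Surjective Φ := by
    rintro ⟨a, b₀⟩
    -- x = ∂₂ a' + s b₀ with a' = a - r (s b₀)
    let a' : A₁ := a - (ψ₁ (h' b₀) - h (ψ₀ b₀))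
    refine ⟨(φ₁ a' + h' b₀, -dA a' + ψ₀ b₀), ?_⟩
    rw [hΦ]
    refine Prod.ext ?_ ?_
    · show ψ₁ (φ₁ a' + h' b₀) - h (-dA a' + ψ₀ b₀) = a
      have := e1 a'
      simp only [map_add, map_neg]
      have h5 : ψ₁ (φ₁ a') = a' - h (dA a') := by rw [← this]; abel
      rw [h5]
      show a' - h (dA a') + ψ₁ (h' b₀) - (-h (dA a') + h (ψ₀ b₀)) = a
      simp only [a']
      abel
    · show dB (φ₁ a' + h' b₀) + φ₀ (-dA a' + ψ₀ b₀) = b₀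
      simp only [map_add, map_neg]
      rw [cφ]
      have := e0' b₀
      have h6 : dB (h' b₀) = b₀ - φ₀ (ψ₀ b₀) := this.symm
      rw [h6]
      abel
  exact ⟨(LinearEquiv.ofBijective Φ ⟨hinj, hsurj⟩).symm⟩

end Groth.Agent.S9161
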