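import Groth.Statements.S0791
import Groth.Agent.Lib.Helper3.ProperOver

set_option autoImplicit false
universe u
open Coherent

namespace Groth.Agent.S0791

open CategoryTheory AlgebraicGeometry in
/-- Let f : X → S be locally of finite type. A finite union of closed subsets of X that are proper over
S is again proper over S. -/
theorem result {X S : Scheme.{u}} (f : X ⟶ S) [LocallyOfFiniteType f]
    (ι : Type) [Finite ι] (Z : ι → Set X) (hZ : ∀ i, ClSub.IsProperOver f (Z i)) :
    ClSub.IsProperOver f (Set.iUnion Z) := by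
  open Groth.Agent.Helper3 Limits in
  have hc : ∀ i, IsClosed (Z i) := fun i => (hZ i).1
  have h : IsClosed (Set.iUnion Z) := isClosed_iUnion_of_finite hc
  rw [isProperOver_iff f _ h]
  have hsub : ∀ i, Z i ⊆ Set.range (redι (Set.iUnion Z) h) := by
    intro i
    rw [range_redι]
    exact Set.subset_iUnion Z i
  have hp : ∀ i, IsProper (redLift (redι (Set.iUnion Z) h) (Z i) (hc i) (hsub i) ≫
      redι (Set.iUnion Z) h ≫ f) := by
    intro i
    rw [redLift_fac_assoc]
    exact (isProperOver_iff f (Z i) (hc i)).mp (hZ i)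
  refine isProper_of_jointly_surjective
    (fun i => redLift (redι (Set.iUnion Z) h) (Z i) (hc i) (hsub i)) ?_ _ hp
  intro t
  have ht : redι (Set.iUnion Z) h t ∈ Set.iUnion Z := by
    have : redι (Set.iUnion Z) h t ∈ Set.range (redι (Set.iUnion Z) h) := ⟨t, rfl⟩
    rwa [range_redι] at this
  obtain ⟨i, hi⟩ := Set.mem_iUnion.mp ht
  rw [← range_redι (Z i) (hc i)] at hi
  obtain ⟨z, hz⟩ := hi
  refine ⟨i, z, (redι (Set.iUnion Z) h).isClosedEmbedding.injective ?_⟩
  rw [← hz]
  exact congr($(redLift_fac (redι (Set.iUnion Z) h) (Z i) (hc i) (hsub i)) z)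

end Groth.Agent.S0791
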