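import Groth.Statements.S0792
import Mathlib
import Groth.Agent.S8876
import Groth.Agent.Lib.Helper3.ProperOver
import Groth.Agent.Lib.Helper1.FtSupp
import Groth.Agent.Lib.Helper4.Fitting5
import Groth.Agent.Lib.Lead.CIU3
import Groth.Agent.Lib.Lead.PBQc
import Groth.Agent.Lib.Lead.FittSh
import Groth.Agent.Lib.Lead.TilT6

set_option autoImplicit false
universe u
open Coherent

namespace Groth.Agent.S0792

section


open CategoryTheory CategoryTheory.Limits AlgebraicGeometry Opposite
open Groth.Agent.Helper1 Groth.Agent.Helper3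

variable {X S : Scheme.{u}}

theorem isProperOver_of_subset (f : X ⟶ S) {Z W : Set X} (hZ : ClSub.IsProperOver f Z)
    (hW : IsClosed W) (hWZ : W ⊆ Z) : ClSub.IsProperOver f W := by
  obtain ⟨h, hp⟩ := hZ
  rw [isProperOver_iff f W hW]
  have hsub : W ⊆ Set.range (redι Z h) := by
    rw [range_redι]; exact hWZ
  have e : redι W hW ≫ f = redLift (redι Z h) W hW hsub ≫ redι Z h ≫ f := by
    rw [redLift_fac_assoc]
  rw [e]
  haveI : IsProper (redι Z h ≫ f) := hp
  infer_instance

/-- the support of a direct image lies in the closure of the range; here for closed range -/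
theorem support_pushforward_subset {Z : Scheme.{u}} (i : Z ⟶ X) (hcl : IsClosed (Set.range i.base))
    (G : Z.Modules) : CohB1.support ((Scheme.Modules.pushforward i).obj G) ⊆ Set.range i.base := by
  intro x hx
  by_contra hxr
  apply hx
  let U : X.Opens := ⟨(Set.range i.base)ᶜ, hcl.isOpen_compl⟩
  have hxU : x ∈ U := hxr
  have hpre : i ⁻¹ᵁ U = ⊥ := by
    ext z
    simp only [TopologicalSpace.Opens.coe_bot, Set.mem_empty_iff_false, iff_false]
    intro hz
    exact hz ⟨z, rfl⟩
  constructor
  intro a b
  suffices h0 : ∀ c : ((Scheme.Modules.pushforward i).obj G).presheaf.stalk x, c = 0 by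
    rw [h0 a, h0 b]
  intro c
  obtain ⟨V, hxV, s, rfl⟩ := TopCat.Presheaf.exists_germ_eq
    ((Scheme.Modules.pushforward i).obj G).presheaf c
  rw [← TopCat.Presheaf.germ_res_apply ((Scheme.Modules.pushforward i).obj G).presheaf
    (homOfLE (inf_le_left : V ⊓ U ≤ V)) x ⟨hxV, hxU⟩]
  have hz : (((Scheme.Modules.pushforward i).obj G).presheaf.map
      (homOfLE (inf_le_left : V ⊓ U ≤ V)).op) s = 0 := by
    have hbot : i ⁻¹ᵁ (V ⊓ U) = ⊥ := by
      rw [← le_bot_iff, ← hpre]
      exact (TopologicalSpace.Opens.map i.base).monotone inf_le_right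
    have hsub : ∀ (W : Z.Opens), W = ⊥ → ∀ t : Γ(G, W), t = 0 := by
      intro W hW t
      subst hW
      apply G.isSheaf.section_ext (U := Opposite.op ⊥)
      intro z hz
      exact hz.elim
    exact hsub _ hbot _
  rw [hz, map_zero]

theorem main {X S : Scheme.{u}} (f : X ⟶ S) [LocallyOfFiniteType f]
    (F : X.Modules) (hq : Coh.IsQCoh F) (hft : CohB1.IsFT F) :
    ClSub.IsProperOver f (CohB1.support F) ↔
      ∃ (Z : Scheme.{u}) (i : Z ⟶ X), IsClosedImmersion i ∧ IsProper (i ≫ f) ∧
        ∃ G : Z.Modules, Coh.IsQCoh G ∧ CohB1.IsFT G ∧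
          Nonempty ((Scheme.Modules.pushforward i).obj G ≅ F) := by
  haveI : F.IsQuasicoherent := hq
  constructor
  · intro hp
    let I := Fitt.sheafIdeal F 0
    have hrange : Set.range I.subschemeι.base = CohB1.support F := by
      rw [Scheme.IdealSheafData.range_subschemeι]
      exact Groth.Agent.S8876.result X F hq hft
    refine ⟨I.subscheme, I.subschemeι, inferInstance, ?_, ?_⟩
    · exact (isProperOver_iff_of_isClosedImmersion f I.subschemeι _ hrange).1 hp
    · refine ⟨(Scheme.Modules.pullback I.subschemeι).obj F,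
        Groth.Agent.Lead.PB.isQuasicoherent_pullback _ F,
        Groth.Agent.Lead.PB.isFT_pullback _ F hft, ?_⟩
      haveI : IsIso ((Scheme.Modules.pullbackPushforwardAdjunction I.subschemeι).unit.app F) := by
        apply Groth.Agent.Lead.CIU.isIso_unit_of_killed_global
        intro U hU a ha m
        have h1 : a ∈ I.ideal ⟨U, hU⟩ := by
          have h2 := Scheme.Hom.ker_apply I.subschemeι ⟨U, hU⟩
          rw [Scheme.IdealSheafData.ker_subschemeι] at h2
          rw [h2]
          exact ha
        rw [Groth.Agent.Lead.FittSh.sheafIdeal_ideal F hft 0 ⟨U, hU⟩] at h1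
        haveI := Groth.Agent.Lead.FLF.ft_sections F hft hU
        have h3 := Groth.Agent.Helper4.Fitting.ideal_zero_le_annihilator (R := Γ(X, U))
          (M := Γ(F, U)) h1
        exact Module.mem_annihilator.1 h3 m
      exact ⟨(asIso ((Scheme.Modules.pullbackPushforwardAdjunction
        I.subschemeι).unit.app F)).symm⟩
  · rintro ⟨Z, i, hi, hp, G, hG, hGft, ⟨e⟩⟩
    have hcl := FtGen.isClosed_support F hft
    have h1 : ClSub.IsProperOver f (Set.range i.base) :=
      isProperOver_of_isClosedImmersion f i _ rfl hp
    refine isProperOver_of_subset f h1 hcl ?_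
    rw [← Groth.Agent.Lead.TilT.support_eq_of_iso e]
    exact support_pushforward_subset i i.isClosedEmbedding.isClosed_range G


end


open CategoryTheory AlgebraicGeometry in
/-- Let f : X → S be locally of finite type and F a quasi-coherent O_X-module of finite type. The
support of F is proper over S if and only if there are a closed subscheme i : Z → X with Z proper
over S and a quasi-coherent O_Z-module G of finite type with i_* G isomorphic to F. (The published
statement also gives a further equivalent condition, that the scheme-theoretic support of F is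
proper over S; it is not used here.) -/
theorem result {X S : Scheme.{u}} (f : X ⟶ S) [LocallyOfFiniteType f]
    (F : X.Modules) (hq : Coh.IsQCoh F) (hft : CohB1.IsFT F) :
    ClSub.IsProperOver f (CohB1.support F) ↔
      ∃ (Z : Scheme.{u}) (i : Z ⟶ X), IsClosedImmersion i ∧ IsProper (i ≫ f) ∧
        ∃ G : Z.Modules, Coh.IsQCoh G ∧ CohB1.IsFT G ∧
          Nonempty ((Scheme.Modules.pushforward i).obj G ≅ F) := by
  classical
  exact main f F hq hft

end Groth.Agent.S0792
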