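import Groth.Statements.S13136
import Mathlib

set_option autoImplicit false
universe u v
open FrobAlg

set_option linter.unusedSectionVars false
open scoped TensorProduct
namespace S13136aux

section abstract
variable {R : Type u} {M : Type v} [CommRing R] [AddCommGroup M] [Module R M]

theorem crit_of_flat (π : R) (hann : ∀ x : R, π * x = 0 → ∃ y, x = π * y) [Module.Flat R M]
    (m : M) (hm : π • m = 0) : ∃ m' : M, m = π • m' := by
  have h : ∑ i : Unit, (fun _ => π) i • (fun _ => m) i = 0 := by simpa using hm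
  obtain ⟨k, a, y, h1, h2⟩ := Module.Flat.isTrivialRelation_of_sum_smul_eq_zero h
  have h2' : ∀ j, π * a () j = 0 := by
    intro j
    simpa using h2 j
  choose b hb using fun j => hann (a () j) (h2' j)
  refine ⟨∑ j, b j • y j, ?_⟩
  have h1' : m = ∑ j, a () j • y j := h1 ()
  rw [h1', Finset.smul_sum]
  refine Finset.sum_congr rfl fun j _ => ?_
  rw [hb j, mul_smul]

theorem flat_of_crit (π : R) (h2 : π * π = 0)
    (hu : ∀ x : R, IsUnit x ∨ ∃ y, x = π * y)
    (hM : ∀ m : M, π • m = 0 → ∃ m', m = π • m') : Module.Flat R M := by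
  rw [Module.Flat.iff_rTensor_injective']
  intro I
  by_cases hI : ∃ x ∈ I, IsUnit x
  · obtain ⟨x, hx, hxu⟩ := hI
    have : I = ⊤ := Ideal.eq_top_of_isUnit_mem I hx hxu
    subst this
    exact (LinearEquiv.rTensor M (Submodule.topEquiv : (⊤ : Submodule R R) ≃ₗ[R] R)).injective
  · push Not at hI
    have hmul : ∀ x ∈ I, ∃ y, x = π * y := fun x hx => (hu x).resolve_left (hI x hx)
    by_cases hπ : π ∈ I
    · rw [injective_iff_map_eq_zero]
      intro z hz
      have hform : ∀ z : I ⊗[R] M, ∃ m : M, z = (⟨π, hπ⟩ : I) ⊗ₜ m := by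
        intro z
        induction z using TensorProduct.induction_on with
        | zero => exact ⟨0, by simp⟩
        | tmul x m =>
          obtain ⟨y, hy⟩ := hmul x.1 x.2
          refine ⟨y • m, ?_⟩
          have : x = y • (⟨π, hπ⟩ : I) := Subtype.ext (by simp [hy, mul_comm])
          rw [this, TensorProduct.smul_tmul]
        | add a b ha hb =>
          obtain ⟨m₁, rfl⟩ := ha
          obtain ⟨m₂, rfl⟩ := hb
          exact ⟨m₁ + m₂, by rw [TensorProduct.tmul_add]⟩
      obtain ⟨m, rfl⟩ := hform z
      have h0 : π • m = 0 := by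
        have := congrArg (TensorProduct.lid R M) hz
        simpa using this
      obtain ⟨m', rfl⟩ := hM m h0
      rw [← TensorProduct.smul_tmul]
      have : π • (⟨π, hπ⟩ : I) = 0 := Subtype.ext (by simp [h2])
      rw [this, TensorProduct.zero_tmul]
    · have : I = ⊥ := by
        rw [eq_bot_iff]
        intro x hx
        obtain ⟨y, rfl⟩ := hmul x hx
        rcases hu y with hyu | ⟨y', rfl⟩
        · exfalso
          apply hπ
          obtain ⟨u, rfl⟩ := hyu
          have := I.mul_mem_left (↑u⁻¹ : R) hx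
          rwa [mul_comm π, ← mul_assoc, Units.inv_mul, one_mul] at this
        · rw [← mul_assoc, h2, zero_mul]
          exact Submodule.zero_mem _
      subst this
      intro a b _
      have : Subsingleton ((⊥ : Ideal R) ⊗[R] M) := inferInstance
      exact Subsingleton.elim a b

end abstract

section W2
open WittVector

variable (p : ℕ) [hp : Fact p.Prime] (k : Type u) [Field k] [CharP k p] [PerfectRing k p]

theorem p_sq : (p : FrobAlg.W2 p k) * (p : FrobAlg.W2 p k) = 0 := by
  have h1 : (p : FrobAlg.W2 p k) = WittVector.truncate 2 (p : WittVector p k) := (map_natCast _ p).symm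
  rw [h1, ← map_mul, ← pow_two, ← RingHom.mem_ker, WittVector.mem_ker_truncate]
  intro i hi
  exact WittVector.coeff_p_pow_eq_zero p k (by omega)

omit [PerfectRing k p] in
theorem isUnit_of_coeff_zero_ne_zero (x : FrobAlg.W2 p k) (hx : x.coeff 0 ≠ 0) : IsUnit x := by
  obtain ⟨X, rfl⟩ := WittVector.truncate_surjective p 2 k x
  rw [WittVector.coeff_truncate] at hx
  exact (WittVector.isUnit_of_coeff_zero_ne_zero X hx).map (WittVector.truncate 2)

theorem exists_eq_p_mul (x : FrobAlg.W2 p k) (hx : x.coeff 0 = 0) :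
    ∃ y, x = (p : FrobAlg.W2 p k) * y := by
  obtain ⟨X, rfl⟩ := WittVector.truncate_surjective p 2 k x
  rw [WittVector.coeff_truncate] at hx
  by_cases hX : X = 0
  · exact ⟨0, by rw [hX, map_zero, mul_zero]⟩
  · obtain ⟨m, b, hb, rfl⟩ := WittVector.exists_eq_pow_p_mul X hX
    rcases m with _ | m
    · exfalso
      apply hb
      simpa using hx
    · refine ⟨WittVector.truncate 2 ((p : WittVector p k) ^ m * b), ?_⟩
      rw [pow_succ', mul_assoc, map_mul, map_natCast]

theorem coeff_zero_of_p_mul (x : FrobAlg.W2 p k) (hx : (p : FrobAlg.W2 p k) * x = 0) :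
    x.coeff 0 = 0 := by
  obtain ⟨X, rfl⟩ := WittVector.truncate_surjective p 2 k x
  rw [WittVector.coeff_truncate]
  have h1 : (p : FrobAlg.W2 p k) = WittVector.truncate 2 (p : WittVector p k) := (map_natCast _ p).symm
  rw [h1, ← map_mul, ← RingHom.mem_ker, WittVector.mem_ker_truncate] at hx
  have h2 := hx 1 (by omega)
  rw [mul_comm, WittVector.mul_charP_coeff_succ] at h2
  exact pow_eq_zero_iff (hp.out.ne_zero) |>.1 h2

end W2

end S13136aux

namespace Groth.Agent.S13136

/-- For a perfect field k of characteristic p, a module M over the Witt vectors W₂(k) of length two is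
flat if and only if every element of M annihilated by p lies in pM, i.e. the map M/pM → pM, m ↦ pm,
is injective. -/
theorem result
    (p : ℕ) [Fact p.Prime] (k : Type u) [Field k] [CharP k p] [PerfectRing k p]
    (M : Type v) [AddCommGroup M] [Module (FrobAlg.W2 p k) M] :
    Module.Flat (FrobAlg.W2 p k) M ↔
      ∀ m : M, (p : FrobAlg.W2 p k) • m = 0 → ∃ m' : M, m = (p : FrobAlg.W2 p k) • m' := by
  have hann : ∀ x : FrobAlg.W2 p k, (p : FrobAlg.W2 p k) * x = 0 →
      ∃ y, x = (p : FrobAlg.W2 p k) * y := fun x hx =>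
    S13136aux.exists_eq_p_mul p k x (S13136aux.coeff_zero_of_p_mul p k x hx)
  have hu : ∀ x : FrobAlg.W2 p k, IsUnit x ∨ ∃ y, x = (p : FrobAlg.W2 p k) * y := by
    intro x
    by_cases hx : x.coeff 0 = 0
    · exact Or.inr (S13136aux.exists_eq_p_mul p k x hx)
    · exact Or.inl (S13136aux.isUnit_of_coeff_zero_ne_zero p k x hx)
  constructor
  · intro hflat m hm
    exact S13136aux.crit_of_flat (p : FrobAlg.W2 p k) hann m hm
  · intro h
    exact S13136aux.flat_of_crit (p : FrobAlg.W2 p k) (S13136aux.p_sq p k) hu h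

end Groth.Agent.S13136
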