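import Groth.Statements.S15419
import Mathlib
import Groth.Prelude.Def_GrSyz
import Groth.Prelude.Def_GrLC
import Groth.Agent.Lib.Helper9.GrLC.Trans
import Groth.Agent.Lib.Helper9.GrLC.Reg
-- import your own Groth.Agent.* helpers here

set_option autoImplicit false
universe u
open GrLC

namespace Groth.Agent.S15419

open DirectSum
namespace Aux
open Groth.Agent.Helper9.GrLCLib

lemma stdGr_neg (k : Type u) [CommRing k] (σ : Type) (n : ℤ) (hn : n < 0) :
    GrSyz.stdGr k σ n = ⊥ := by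
  rw [eq_bot_iff]
  intro p hp
  rw [Submodule.mem_bot]
  rw [GrSyz.mem_stdGr_iff] at hp
  by_contra hne
  obtain ⟨d, hd⟩ := MvPolynomial.ne_zero_iff.mp hne
  have h1 := hp hd
  have h2 : (0 : ℤ) ≤ Finsupp.weight (fun _ : σ => (1 : ℤ)) d := by
    rw [Finsupp.weight_apply]
    apply Finset.sum_nonneg
    intro i _
    positivity
  omega

lemma toAG_stdGr_neg (k : Type u) [CommRing k] (σ : Type) (n : ℤ) (hn : n < 0) :
    Trans.toAG (GrSyz.stdGr k σ) n = ⊥ := by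
  rw [eq_bot_iff]
  intro p hp
  have h1 : p ∈ GrSyz.stdGr k σ n := hp
  rw [stdGr_neg k σ n hn] at h1
  exact AddSubgroup.mem_bot.mpr ((Submodule.mem_bot k).mp h1)

lemma irrel_toAG {R : Type u} [CommRing R] {σ : Type u} [SetLike σ R] [AddSubgroupClass σ R]
    (𝒜 : ℤ → σ) [GradedRing 𝒜] :
    (Trans.idealToAG 𝒜 (GrSyz.irrel 𝒜)).toIdeal =
      Ideal.span (⋃ n ∈ Set.Ioi (0 : ℤ), ((Trans.toAG 𝒜 n : AddSubgroup R) : Set R)) := by
  change Ideal.span {r : R | ∃ n : ℤ, 0 < n ∧ r ∈ 𝒜 n} = _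
  congr 1
  ext r
  simp only [Set.mem_ofPred_eq, Set.mem_iUnion, Set.mem_Ioi, SetLike.mem_coe, exists_prop]
  exact Iff.rfl

theorem main (k : Type u) [Field k] (r : ℕ)
    (M : Type u) [AddCommGroup M] [Module k M] [Module (MvPolynomial (Fin (r + 1)) k) M]
    [IsScalarTower k (MvPolynomial (Fin (r + 1)) k) M] [Module.Finite (MvPolynomial (Fin (r + 1)) k) M]
    (ℳ : ℤ → Submodule k M) [DirectSum.Decomposition ℳ] [SetLike.GradedSMul (GrSyz.stdGr k (Fin (r + 1))) ℳ]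
    (x : MvPolynomial (Fin (r + 1)) k) (hx : x ∈ GrSyz.stdGr k (Fin (r + 1)) 1)
    (hq : IsFiniteLength (MvPolynomial (Fin (r + 1)) k) ↥(Submodule.torsionBy (MvPolynomial (Fin (r + 1)) k) M x))
    (N : Type u) [AddCommGroup N] [Module k N] [Module (MvPolynomial (Fin (r + 1)) k) N]
    [IsScalarTower k (MvPolynomial (Fin (r + 1)) k) N] [Module.Finite (MvPolynomial (Fin (r + 1)) k) N]
    (𝒩 : ℤ → Submodule k N) [DirectSum.Decomposition 𝒩] [SetLike.GradedSMul (GrSyz.stdGr k (Fin (r + 1))) 𝒩]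
    (π : M →ₗ[MvPolynomial (Fin (r + 1)) k] N) (hπ : Function.Surjective π) (hπg : GrLC.IsGrHom ℳ 𝒩 π)
    (hker : LinearMap.ker π = LinearMap.range (x • (LinearMap.id : M →ₗ[MvPolynomial (Fin (r + 1)) k] M)))
    (E : GrLC.StarInjRes (GrSyz.stdGr k (Fin (r + 1))) ℳ) (E' : GrLC.StarInjRes (GrSyz.stdGr k (Fin (r + 1))) 𝒩) (d : ℤ)
    (hM : ∀ i : ℕ, 0 < i → E.Hcomp (GrSyz.irrel (GrSyz.stdGr k (Fin (r + 1)))) i (d - (i : ℤ) + 1) = ⊥) (i : ℕ) (hi : 0 < i) :
    E'.Hcomp (GrSyz.irrel (GrSyz.stdGr k (Fin (r + 1)))) i (d - (i : ℤ) + 1) = ⊥ := by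
  rw [Trans.hcomp_eq_bot_iff]
  have hpos : ∀ n : ℤ, n < 0 → Trans.toAG (GrSyz.stdGr k (Fin (r + 1))) n = ⊥ :=
    toAG_stdGr_neg k (Fin (r + 1))
  have ha := irrel_toAG (GrSyz.stdGr k (Fin (r + 1)))
  -- the translated hypotheses
  have hM' : ∀ j : ℕ, 0 < j → LCgr (Trans.toAG (GrSyz.stdGr k (Fin (r + 1)))) (Trans.toAG ℳ)
      (Trans.idealToAG _ (GrSyz.irrel (GrSyz.stdGr k (Fin (r + 1))))).toIdeal j (d - (j : ℤ) + 1) = ⊥ := by
    intro j hj
    obtain ⟨Θ, hΘ⟩ := exists_theta_LCgr (Trans.toAG (GrSyz.stdGr k (Fin (r + 1)))) (Trans.toAG ℳ)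
      (Trans.idealToAG _ (GrSyz.irrel (GrSyz.stdGr k (Fin (r + 1))))) (Trans.resToAG _ ℳ E) j
    have h1 := (Trans.hcomp_eq_bot_iff _ ℳ E (GrSyz.irrel (GrSyz.stdGr k (Fin (r + 1)))) j
      (d - (j : ℤ) + 1)).mp (hM j hj)
    rw [eq_bot_iff]
    intro v hv
    have h2 : Θ.symm v ∈ (Trans.resToAG _ ℳ E).Hcomp
        (Trans.idealToAG _ (GrSyz.irrel (GrSyz.stdGr k (Fin (r + 1))))) j (d - (j : ℤ) + 1) := by
      rw [hΘ, LinearEquiv.apply_symm_apply]
      exact hv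
    rw [h1, Submodule.mem_bot] at h2
    have h3 : v = Θ (Θ.symm v) := (LinearEquiv.apply_symm_apply Θ v).symm
    rw [h3, h2, map_zero]
    exact AddSubgroup.mem_bot.mpr rfl
  obtain ⟨Θ', hΘ'⟩ := exists_theta_LCgr (Trans.toAG (GrSyz.stdGr k (Fin (r + 1)))) (Trans.toAG 𝒩)
    (Trans.idealToAG _ (GrSyz.irrel (GrSyz.stdGr k (Fin (r + 1))))) (Trans.resToAG _ 𝒩 E') i
  rw [Submodule.eq_bot_iff]
  intro u hu
  have h1 := (hΘ' _ u).mp hu
  have hx' : x ∈ Trans.toAG (GrSyz.stdGr k (Fin (r + 1))) 1 := hx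
  -- torsion
  have hK : LocCoh.IsPowerTorsion
      (Trans.idealToAG _ (GrSyz.irrel (GrSyz.stdGr k (Fin (r + 1))))).toIdeal
      (Reg.KX (Trans.toAG (GrSyz.stdGr k (Fin (r + 1))))
        (GrLC.GMod.of (Trans.toAG (GrSyz.stdGr k (Fin (r + 1)))) M (Trans.toAG ℳ)) x hx').carrier := by
    have e : Reg.kerX (Trans.toAG (GrSyz.stdGr k (Fin (r + 1))))
        (GrLC.GMod.of (Trans.toAG (GrSyz.stdGr k (Fin (r + 1)))) M (Trans.toAG ℳ)) x =
        Submodule.torsionBy (MvPolynomial (Fin (r + 1)) k) M x := by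
      ext m
      exact (Reg.mem_kerX _ _ x m).trans (Submodule.mem_torsionBy_iff x m).symm
    have hart : IsArtinian (MvPolynomial (Fin (r + 1)) k)
        ↥(Submodule.torsionBy (MvPolynomial (Fin (r + 1)) k) M x) :=
      (isFiniteLength_iff_isNoetherian_isArtinian.mp hq).2
    rw [← e] at hart
    have hfin : Module.Finite (MvPolynomial (Fin (r + 1)) k)
        ↥(Reg.kerX (Trans.toAG (GrSyz.stdGr k (Fin (r + 1))))
        (GrLC.GMod.of (Trans.toAG (GrSyz.stdGr k (Fin (r + 1)))) M (Trans.toAG ℳ)) x) := by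
      have : IsNoetherian (MvPolynomial (Fin (r + 1)) k) M := isNoetherian_of_isNoetherianRing_of_finite _ _
      exact Module.Finite.of_injective
        (show ↥(Reg.kerX (Trans.toAG (GrSyz.stdGr k (Fin (r + 1))))
          (GrLC.GMod.of (Trans.toAG (GrSyz.stdGr k (Fin (r + 1)))) M (Trans.toAG ℳ)) x)
            →ₗ[MvPolynomial (Fin (r + 1)) k] M from Submodule.subtype _)
        (Submodule.injective_subtype _)
    have hfin' : Module.Finite (MvPolynomial (Fin (r + 1)) k)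
      (Reg.KX (Trans.toAG (GrSyz.stdGr k (Fin (r + 1))))
        (GrLC.GMod.of (Trans.toAG (GrSyz.stdGr k (Fin (r + 1)))) M (Trans.toAG ℳ)) x hx').carrier := hfin
    have hart' : IsArtinian (MvPolynomial (Fin (r + 1)) k)
      (Reg.KX (Trans.toAG (GrSyz.stdGr k (Fin (r + 1))))
        (GrLC.GMod.of (Trans.toAG (GrSyz.stdGr k (Fin (r + 1)))) M (Trans.toAG ℳ)) x hx').carrier := hart
    exact Reg.isPowerTorsion_of_isArtinian (Trans.toAG (GrSyz.stdGr k (Fin (r + 1)))) hpos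
      (Reg.KX (Trans.toAG (GrSyz.stdGr k (Fin (r + 1))))
        (GrLC.GMod.of (Trans.toAG (GrSyz.stdGr k (Fin (r + 1)))) M (Trans.toAG ℳ)) x hx').gr _ ha
  have hmain := Reg.main (Trans.toAG (GrSyz.stdGr k (Fin (r + 1))))
    (GrLC.GMod.of (Trans.toAG (GrSyz.stdGr k (Fin (r + 1)))) M (Trans.toAG ℳ))
    (GrLC.GMod.of (Trans.toAG (GrSyz.stdGr k (Fin (r + 1)))) N (Trans.toAG 𝒩)) x hx' π hπ hπg hker
    (Trans.idealToAG _ (GrSyz.irrel (GrSyz.stdGr k (Fin (r + 1))))) hK d hM' i hi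
  change Θ' u ∈ LCgr (Trans.toAG (GrSyz.stdGr k (Fin (r + 1)))) (Trans.toAG 𝒩) _ i _ at h1
  have hmain' : LCgr (Trans.toAG (GrSyz.stdGr k (Fin (r + 1)))) (Trans.toAG 𝒩)
      (Trans.idealToAG _ (GrSyz.irrel (GrSyz.stdGr k (Fin (r + 1))))).toIdeal i (d - (i : ℤ) + 1) = ⊥ := hmain
  rw [hmain'] at h1
  exact Θ'.injective ((AddSubgroup.mem_bot.mp h1).trans (map_zero Θ').symm)

end Aux

/-- Let k be a field, S = k[x_0, …, x_r] graded by degree, 𝔪 = (x_0, …, x_r), M a finitely generated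
ℤ-graded S-module and x a linear form (x ∈ S_1) that is quasi-regular on M: the submodule of
elements of M killed by x has finite length. Let N = M/xM, given as a graded module with a
surjective degree-preserving S-linear map π : M → N whose kernel is xM; graded local cohomology of M
and of N is computed from *injective resolutions in the graded category. If M is weakly d-regular,
that is H^i_𝔪(M) vanishes in degree d − i + 1 for every i > 0, then N is weakly d-regular. -/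
theorem result (k : Type u) [Field k] (r : ℕ)
    (M : Type u) [AddCommGroup M] [Module k M] [Module (MvPolynomial (Fin (r + 1)) k) M]
    [IsScalarTower k (MvPolynomial (Fin (r + 1)) k) M] [Module.Finite (MvPolynomial (Fin (r + 1)) k) M]
    (ℳ : ℤ → Submodule k M) [DirectSum.Decomposition ℳ] [SetLike.GradedSMul (GrSyz.stdGr k (Fin (r + 1))) ℳ]
    (x : MvPolynomial (Fin (r + 1)) k) (hx : x ∈ GrSyz.stdGr k (Fin (r + 1)) 1)
    (hq : IsFiniteLength (MvPolynomial (Fin (r + 1)) k) ↥(Submodule.torsionBy (MvPolynomial (Fin (r + 1)) k) M x))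
    (N : Type u) [AddCommGroup N] [Module k N] [Module (MvPolynomial (Fin (r + 1)) k) N]
    [IsScalarTower k (MvPolynomial (Fin (r + 1)) k) N] [Module.Finite (MvPolynomial (Fin (r + 1)) k) N]
    (𝒩 : ℤ → Submodule k N) [DirectSum.Decomposition 𝒩] [SetLike.GradedSMul (GrSyz.stdGr k (Fin (r + 1))) 𝒩]
    (π : M →ₗ[MvPolynomial (Fin (r + 1)) k] N) (hπ : Function.Surjective π) (hπg : GrLC.IsGrHom ℳ 𝒩 π)
    (hker : LinearMap.ker π = LinearMap.range (x • (LinearMap.id : M →ₗ[MvPolynomial (Fin (r + 1)) k] M)))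
    (E : GrLC.StarInjRes (GrSyz.stdGr k (Fin (r + 1))) ℳ) (E' : GrLC.StarInjRes (GrSyz.stdGr k (Fin (r + 1))) 𝒩) (d : ℤ)
    (hM : ∀ i : ℕ, 0 < i → E.Hcomp (GrSyz.irrel (GrSyz.stdGr k (Fin (r + 1)))) i (d - (i : ℤ) + 1) = ⊥) (i : ℕ) (hi : 0 < i) :
    E'.Hcomp (GrSyz.irrel (GrSyz.stdGr k (Fin (r + 1)))) i (d - (i : ℤ) + 1) = ⊥ := by
  exact Aux.main k r M ℳ x hx hq N 𝒩 π hπ hπg hker E E' d hM i hi

end Groth.Agent.S15419
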