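import Groth.Statements.S13482
import Mathlib
import Groth.Agent.Lib.Helper6.DCPush.Bij
import Groth.Agent.Lib.Helper6.DCPush.Tel
import Groth.Agent.Lib.Helper6.DCPush.Pull
import Groth.Agent.Lib.Helper6.RlimPush.Adj

set_option autoImplicit false
universe u
open CategoryTheory CategoryTheory.Limits Opposite
attribute [local instance] HasDerivedCategory.standard
open DerComp

namespace Groth.Agent.S13482

/-- Let f be a morphism of ringed sites from (C, O_C) to (D, O_D) whose ring map sends the sheaf of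
ideals I of O_D into the sheaf of ideals I' of O_C. If M in D(O_C) is derived complete with respect
to I', then Rf_*M is derived complete with respect to I. (The published statement is for a morphism
of ringed topoi; this row takes a morphism of ringed sites, which induces one.) -/
theorem result {C D : Type u} [SmallCategory C] [SmallCategory D] {J : GrothendieckTopology C} {K : GrothendieckTopology D} {O_C : Sheaf J CommRingCat.{u}} {O_D : Sheaf K CommRingCat.{u}} (f : ModSite.RMor O_C O_D) [SiteCmp.HasRpushD f] (I : DerComp.IdealSh O_D) (I' : DerComp.IdealSh O_C) (hf : DerComp.RMapsIdealInto f I I') (M : DerivedCategory (ModSite.Mod O_C)) (hM : DerComp.IsDerComp O_C I' M) : DerComp.IsDerComp O_D I ((SiteCmp.RpushD f).obj M) := by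
  intro V g hg n
  have hg' : Groth.Agent.Lib.Helper6.DCPush.sharpSect f V g ∈ I'.ideal (f.fn.obj V) := hf V g hg
  obtain ⟨pD, wD, hSD⟩ := Groth.Agent.Lib.Helper6.DCPush.exists_ses O_D V g
  obtain ⟨pC, wC, hSC⟩ := Groth.Agent.Lib.Helper6.DCPush.exists_ses O_C (f.fn.obj V)
    (Groth.Agent.Lib.Helper6.DCPush.sharpSect f V g)
  have hC : ∀ k : ℤ, Groth.Agent.Lib.Helper6.DCPush.Bij
      ((DerivedCategory.singleFunctor (ModSite.Mod O_C) 0).map
        (Groth.Agent.Lib.Helper6.DCPush.tel (Groth.Agent.Lib.Helper6.DCPush.tG O_C (f.fn.obj V)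
          (Groth.Agent.Lib.Helper6.DCPush.sharpSect f V g)))) (M⟦k⟧) :=
    fun k => Groth.Agent.Lib.Helper6.DCPush.bij_of_subsingleton hSC.singleTriangle
      hSC.singleTriangle_distinguished M
      (fun k => hM (f.fn.obj V) (Groth.Agent.Lib.Helper6.DCPush.sharpSect f V g) hg' k) k
  refine Groth.Agent.Lib.Helper6.DCPush.subsingleton_of_bij hSD.singleTriangle
    hSD.singleTriangle_distinguished _ (fun k => ?_) n
  show Groth.Agent.Lib.Helper6.DCPush.Bij
    ((DerivedCategory.singleFunctor (ModSite.Mod O_D) 0).map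
      (Groth.Agent.Lib.Helper6.DCPush.tel (Groth.Agent.Lib.Helper6.DCPush.tG O_D V g)))
    (((SiteCmp.RpushD f).obj M)⟦k⟧)
  refine (Groth.Agent.Lib.Helper6.DCPush.bij_adj
    (shiftEquiv (DerivedCategory (ModSite.Mod O_D)) k).symm.toAdjunction _ _).2 ?_
  refine (Groth.Agent.Lib.Helper6.DCPush.bij_adj
    (Groth.Agent.Lib.Helper6.RlimPush.lpullRpushAdj f) _ M).2 ?_
  have hfl := Groth.Agent.Lib.Helper6.DCPush.isFlat_sigma_freeOn O_D V
  haveI hiso : IsIso ((Groth.Agent.Lib.Helper6.RlimPush.lpullCounit f).app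
      ((HomotopyCategory.quotient (ModSite.Mod O_D) (ComplexShape.up ℤ)).obj
        (((CochainComplex.singleFunctor (ModSite.Mod O_D) 0).obj
          (∐ fun _ : ℕ => ModSite.freeOn O_D V))⟦-k⟧))) :=
    Groth.Agent.Lib.Helper5.KProj.DerHo.isIso_counit_app
      (Groth.Agent.Lib.Helper6.RlimPush.adaptedCell (K := K) f)
      (Groth.Agent.Lib.Helper6.RlimPush.Lpull f) (Groth.Agent.Lib.Helper6.RlimPush.lpullCounit f) _
      (Groth.Agent.Lib.Helper6.DCPush.cell_single_shift O_D _ hfl (-k))
  refine (Groth.Agent.Lib.Helper6.DCPush.bij_LG_single f.pull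
    (Groth.Agent.Lib.Helper6.RlimPush.Lpull f) (Groth.Agent.Lib.Helper6.RlimPush.lpullCounit f)
    (Groth.Agent.Lib.Helper6.DCPush.tel (Groth.Agent.Lib.Helper6.DCPush.tG O_D V g)) (-k) M).2 ?_
  refine (Groth.Agent.Lib.Helper6.DCPush.bij_map_iso
    (DerivedCategory.singleFunctor (ModSite.Mod O_C) 0 ⋙
      shiftFunctor (DerivedCategory (ModSite.Mod O_C)) (-k)) _ _
    (Groth.Agent.Lib.Helper6.DCPush.pullTelIso f V)
    (Groth.Agent.Lib.Helper6.DCPush.pullTel_comm f V g) M).2 ?_
  exact (Groth.Agent.Lib.Helper6.DCPush.bij_adj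
    (shiftEquiv (DerivedCategory (ModSite.Mod O_C)) k).symm.toAdjunction _ M).1 (hC k)

end Groth.Agent.S13482
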