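import Groth.Statements.S11275
import Mathlib

set_option autoImplicit false
universe u
open W4bk4grassmannian

namespace Groth.Agent.S11275

section


variable {R : Type u} [CommRing R]

/-- Laplace-type membership: det N lies in the ideal of `s × s` minors on a given set of rows. -/
theorem det_mem_rows : ∀ (m : ℕ) (N : Matrix (Fin m) (Fin m) R) (s : ℕ) (ρ : Fin s → Fin m)
    (_ : Function.Injective ρ),
    N.det ∈ Ideal.span (Set.range fun γ : Fin s → Fin m => (N.submatrix ρ γ).det) := by
  intro m
  induction m with
  | zero =>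
    intro N s ρ hρ
    have hs : IsEmpty (Fin s) := ⟨fun i => (ρ i).elim0⟩
    apply Ideal.subset_span
    refine ⟨fun i => (ρ i), ?_⟩
    simp only
    rw [Matrix.det_isEmpty, Matrix.det_isEmpty]
  | succ m ih =>
    intro N s ρ hρ
    by_cases hsurj : Function.Surjective ρ
    · let e : Fin s ≃ Fin (m + 1) := Equiv.ofBijective ρ ⟨hρ, hsurj⟩
      apply Ideal.subset_span
      refine ⟨ρ, ?_⟩
      exact Matrix.det_submatrix_equiv_self e N
    · rw [Function.Surjective] at hsurj
      simp only [not_forall, not_exists] at hsurj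
      obtain ⟨i0, hi0⟩ := hsurj
      rw [Matrix.det_succ_row N i0]
      apply Ideal.sum_mem
      intro j _
      apply Ideal.mul_mem_left
      have hex : ∀ i, ∃ i', i0.succAbove i' = ρ i := by
        intro i
        exact Fin.exists_succAbove_eq (hi0 i)
      choose ρ' hρ' using hex
      have hρ'inj : Function.Injective ρ' := by
        intro a b hab
        apply hρ
        rw [← hρ' a, ← hρ' b, hab]
      have := ih (N.submatrix i0.succAbove j.succAbove) s ρ' hρ'inj
      refine (Ideal.span_le.mpr ?_) this
      rintro _ ⟨γ', rfl⟩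
      apply Ideal.subset_span
      refine ⟨fun i => j.succAbove (γ' i), ?_⟩
      simp only
      congr 1
      ext a b
      simp only [Matrix.submatrix_apply, hρ']


open W4bk4grassmannian

theorem le_dir (K : Type u) [CommRing K] (d r t : ℕ) (hd : 0 < d)
    (ht : 0 < t) (htd : t ≤ d) (htr : t ≤ r) :
    Ideal.span {f : CellRing K d r | ∃ θ : Idx d (d + r),
        d ≤ (θ.1 ⟨d - t, Nat.sub_lt hd ht⟩).val ∧ f = cellMinor K d r θ} ≤
      CAlgX.minorIdeal (genMatrix K r d) t := by
  rw [Ideal.span_le]
  rintro _ ⟨θ, hθ, rfl⟩
  let ρ : Fin t → Fin d := fun i => ⟨d - t + i.val, by have := i.isLt; omega⟩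
  have hρ : Function.Injective ρ := by
    intro i j hij
    simp only [ρ, Fin.mk.injEq] at hij
    exact Fin.ext (by omega)
  have hge : ∀ i : Fin t, d ≤ (θ.1 (ρ i)).val := by
    intro i
    have h1 : (⟨d - t, Nat.sub_lt hd ht⟩ : Fin d) ≤ ρ i := by
      simp only [ρ, Fin.mk_le_mk]
      omega
    have h2 := θ.2.monotone h1
    exact le_trans hθ h2
  have := det_mem_rows d ((cellMatrix K d r).submatrix θ.1 id) t ρ hρ
  unfold cellMinor
  refine (Ideal.span_le.mpr ?_) this
  rintro _ ⟨γ, rfl⟩
  unfold CAlgX.minorIdeal
  apply Ideal.subset_span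
  refine ⟨(fun i => ⟨(θ.1 (ρ i)).val - d, by have := (θ.1 (ρ i)).isLt; have := hge i; omega⟩, γ), ?_⟩
  simp only
  congr 1
  ext i j
  simp only [Matrix.submatrix_apply, genMatrix, cellMatrix, Matrix.of_apply, id_eq]
  rw [dif_neg (by have := hge i; omega)]


theorem core (K : Type u) [CommRing K] (d r t : ℕ) (hd : 0 < d)
    (ht : 0 < t) (htd : t ≤ d) (htr : t ≤ r)
    (a : Fin t → Fin r) (ha : StrictMono a) (b : Fin t → Fin d) (hb : Function.Injective b) :
    ((genMatrix K r d).submatrix a b).det ∈
      Ideal.span {f : CellRing K d r | ∃ θ : Idx d (d + r),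
        d ≤ (θ.1 ⟨d - t, Nat.sub_lt hd ht⟩).val ∧ f = cellMinor K d r θ} := by
  classical
  -- complement of range b
  obtain ⟨Cs, hCs⟩ : ∃ Cs : Finset (Fin d), Cs = Finset.univ \ Finset.image b Finset.univ := ⟨_, rfl⟩
  have hcard : Cs.card = d - t := by
    rw [hCs, Finset.card_sdiff_of_subset (Finset.subset_univ _), Finset.card_univ, Fintype.card_fin,
      Finset.card_image_of_injective _ hb, Finset.card_univ, Fintype.card_fin]
  let c : Fin (d - t) → Fin d := fun i => Cs.orderEmbOfFin hcard i
  have hcmono : StrictMono c := (Cs.orderEmbOfFin hcard).strictMono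
  have hcb : ∀ i j, c i ≠ b j := by
    intro i j h
    have h1 : c i ∈ Cs := Finset.orderEmbOfFin_mem Cs hcard i
    rw [hCs, Finset.mem_sdiff] at h1
    apply h1.2
    rw [h]
    exact Finset.mem_image_of_mem _ (Finset.mem_univ _)
  -- θ
  let θf : Fin d → Fin (d + r) := fun p =>
    if h : p.val < d - t then Fin.castAdd r (c ⟨p.val, h⟩)
    else Fin.natAdd d (a ⟨p.val - (d - t), by have := p.isLt; omega⟩)
  have hθmono : StrictMono θf := by
    intro p q hpq
    have hpq' : p.val < q.val := hpq
    simp only [θf]
    by_cases hp : p.val < d - t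
    · by_cases hq : q.val < d - t
      · rw [dif_pos hp, dif_pos hq]
        have : c ⟨p.val, hp⟩ < c ⟨q.val, hq⟩ := hcmono (by simpa using hpq')
        exact this
      · rw [dif_pos hp, dif_neg hq]
        rw [Fin.lt_def]
        simp only [Fin.val_castAdd, Fin.val_natAdd]
        have := (c ⟨p.val, hp⟩).isLt
        omega
    · have hq : ¬ q.val < d - t := by omega
      rw [dif_neg hp, dif_neg hq]
      rw [Fin.lt_def]
      simp only [Fin.val_natAdd]
      have : a ⟨p.val - (d - t), by have := p.isLt; omega⟩ < a ⟨q.val - (d - t), by have := q.isLt; omega⟩ := by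
        apply ha
        rw [Fin.lt_def]
        simp only
        omega
      have := Fin.lt_def.mp this
      omega
  let θ : Idx d (d + r) := ⟨θf, hθmono⟩
  have hθcond : d ≤ (θ.1 ⟨d - t, Nat.sub_lt hd ht⟩).val := by
    simp only [θ, θf]
    rw [dif_neg (lt_irrefl _)]
    simp only [Fin.val_natAdd]
    omega
  -- equivalences
  let erow : Fin (d - t) ⊕ Fin t ≃ Fin d :=
    finSumFinEquiv.trans (finCongr (by omega : d - t + t = d))
  have herow_l : ∀ i : Fin (d - t), (erow (Sum.inl i)).val = i.val := by
    intro i; simp [erow]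
  have herow_r : ∀ j : Fin t, (erow (Sum.inr j)).val = d - t + j.val := by
    intro j; simp [erow]
  let ecolf : Fin (d - t) ⊕ Fin t → Fin d := Sum.elim c b
  have hecol_inj : Function.Injective ecolf := by
    rintro (i | j) (i' | j') h
    · simp only [ecolf, Sum.elim_inl] at h
      rw [hcmono.injective h]
    · simp only [ecolf, Sum.elim_inl, Sum.elim_inr] at h
      exact absurd h (hcb i j')
    · simp only [ecolf, Sum.elim_inl, Sum.elim_inr] at h
      exact absurd h.symm (hcb i' j)
    · simp only [ecolf, Sum.elim_inr] at h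
      rw [hb h]
  have hecol_bij : Function.Bijective ecolf := by
    rw [Fintype.bijective_iff_injective_and_card]
    refine ⟨hecol_inj, ?_⟩
    simp only [Fintype.card_sum, Fintype.card_fin]
    omega
  let ecol : Fin (d - t) ⊕ Fin t ≃ Fin d := Equiv.ofBijective ecolf hecol_bij
  let N : Matrix (Fin d) (Fin d) (CellRing K d r) := (cellMatrix K d r).submatrix θ.1 id
  have hblocks : N.submatrix erow ecol =
      Matrix.fromBlocks (1 : Matrix (Fin (d - t)) (Fin (d - t)) (CellRing K d r)) 0
        (N.submatrix (fun j => erow (Sum.inr j)) (fun i => ecol (Sum.inl i)))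
        ((genMatrix K r d).submatrix a b) := by
    apply Matrix.ext
    intro x y
    rcases x with i | j <;> rcases y with i' | j'
    · simp only [Matrix.submatrix_apply, Matrix.fromBlocks_apply₁₁, N, id_eq, cellMatrix,
        Matrix.of_apply, θ, θf]
      have h1 : (erow (Sum.inl i)).val < d - t := by rw [herow_l]; exact i.isLt
      rw [dif_pos h1]
      have h2 : ((Fin.castAdd r (c ⟨(erow (Sum.inl i)).val, h1⟩)).val < d) := by
        simp only [Fin.val_castAdd]; exact (c _).isLt
      rw [dif_pos h2]
      have h3 : (⟨(erow (Sum.inl i)).val, h1⟩ : Fin (d - t)) = i := Fin.ext (herow_l i)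
      simp only [Fin.val_castAdd, h3]
      change (if (c i).val = (c i').val then (1 : CellRing K d r) else 0) = _
      rw [Matrix.one_apply]
      by_cases hii : i = i'
      · rw [if_pos (by rw [hii]), if_pos hii]
      · rw [if_neg, if_neg hii]
        intro h
        exact hii (hcmono.injective (Fin.ext h))
    · simp only [Matrix.submatrix_apply, Matrix.fromBlocks_apply₁₂, N, id_eq, cellMatrix,
        Matrix.of_apply, θ, θf, Matrix.zero_apply]
      have h1 : (erow (Sum.inl i)).val < d - t := by rw [herow_l]; exact i.isLt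
      rw [dif_pos h1]
      have h2 : ((Fin.castAdd r (c ⟨(erow (Sum.inl i)).val, h1⟩)).val < d) := by
        simp only [Fin.val_castAdd]; exact (c _).isLt
      rw [dif_pos h2]
      have h3 : (⟨(erow (Sum.inl i)).val, h1⟩ : Fin (d - t)) = i := Fin.ext (herow_l i)
      simp only [Fin.val_castAdd, h3]
      change (if (c i).val = (b j').val then (1 : CellRing K d r) else 0) = _
      rw [if_neg]
      intro h
      exact hcb i j' (Fin.ext h)
    · rfl
    · simp only [Matrix.submatrix_apply, Matrix.fromBlocks_apply₂₂, N, id_eq, cellMatrix,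
        Matrix.of_apply, θ, θf, genMatrix]
      have h1 : ¬ (erow (Sum.inr j)).val < d - t := by rw [herow_r]; omega
      rw [dif_neg h1]
      have h2 : ¬ ((Fin.natAdd d (a ⟨(erow (Sum.inr j)).val - (d - t), by
          have := (erow (Sum.inr j)).isLt; omega⟩)).val < d) := by
        simp only [Fin.val_natAdd]; omega
      rw [dif_neg h2]
      have h3 : (⟨(erow (Sum.inr j)).val - (d - t), by
          have := (erow (Sum.inr j)).isLt; omega⟩ : Fin t) = j := by
        apply Fin.ext
        simp only [herow_r]
        omega
      simp only [Fin.val_natAdd, h3, add_tsub_cancel_left]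
      rfl
  have hdet1 : (N.submatrix erow ecol).det = ((genMatrix K r d).submatrix a b).det := by
    rw [hblocks, Matrix.det_fromBlocks_zero₁₂, Matrix.det_one, one_mul]
  have hdet2 : (N.submatrix erow ecol).det =
      Equiv.Perm.sign (ecol.trans erow.symm) * N.det := by
    have h1 : N.submatrix erow ecol = (N.submatrix erow erow).submatrix id (ecol.trans erow.symm) := by
      ext x y
      simp only [Matrix.submatrix_apply, id_eq, Equiv.trans_apply, Equiv.apply_symm_apply]
    rw [h1, Matrix.det_permute', Matrix.det_submatrix_equiv_self]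
  rw [← hdet1, hdet2]
  apply Ideal.mul_mem_left
  apply Ideal.subset_span
  exact ⟨θ, hθcond, rfl⟩


theorem ge_dir (K : Type u) [CommRing K] (d r t : ℕ) (hd : 0 < d)
    (ht : 0 < t) (htd : t ≤ d) (htr : t ≤ r) :
    CAlgX.minorIdeal (genMatrix K r d) t ≤
    Ideal.span {f : CellRing K d r | ∃ θ : Idx d (d + r),
        d ≤ (θ.1 ⟨d - t, Nat.sub_lt hd ht⟩).val ∧ f = cellMinor K d r θ} := by
  classical
  unfold CAlgX.minorIdeal
  rw [Ideal.span_le]
  rintro _ ⟨⟨a, b⟩, rfl⟩
  simp only
  by_cases hb : Function.Injective b
  swap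
  · rw [Function.Injective] at hb
    simp only [not_forall] at hb
    obtain ⟨i, j, hij, hne⟩ := hb
    have : ((genMatrix K r d).submatrix a b).det = 0 := by
      apply Matrix.det_zero_of_column_eq hne
      intro k
      simp only [Matrix.submatrix_apply, hij]
    rw [SetLike.mem_coe, this]
    exact Ideal.zero_mem _
  by_cases hinj : Function.Injective a
  swap
  · rw [Function.Injective] at hinj
    simp only [not_forall] at hinj
    obtain ⟨i, j, hij, hne⟩ := hinj
    have : ((genMatrix K r d).submatrix a b).det = 0 := by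
      apply Matrix.det_zero_of_row_eq hne
      funext k
      simp only [Matrix.submatrix_apply, hij]
    rw [SetLike.mem_coe, this]
    exact Ideal.zero_mem _
  -- sort a
  have hcard : (Finset.image a Finset.univ).card = t := by
    rw [Finset.card_image_of_injective _ hinj, Finset.card_univ, Fintype.card_fin]
  obtain ⟨S, hS⟩ : ∃ S : Finset (Fin r), S = Finset.image a Finset.univ := ⟨_, rfl⟩
  rw [← hS] at hcard
  have hex : ∀ i, ∃ j, S.orderEmbOfFin hcard j = a i := by
    intro i
    have hmem : a i ∈ (S : Set (Fin r)) := by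
      rw [hS]
      simp only [Finset.coe_image, Finset.coe_univ, Set.image_univ, Set.mem_range]
      exact ⟨i, rfl⟩
    rw [← Finset.range_orderEmbOfFin S hcard] at hmem
    exact hmem
  choose τ0 hτ0 using hex
  have hτinj : Function.Injective τ0 := by
    intro i j hij
    apply hinj
    rw [← hτ0 i, ← hτ0 j, hij]
  let σ : Equiv.Perm (Fin t) := Equiv.ofBijective τ0 (Finite.injective_iff_bijective.mp hτinj)
  let as : Fin t → Fin r := fun i => S.orderEmbOfFin hcard i
  have has : StrictMono as := (S.orderEmbOfFin hcard).strictMono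
  have ha : a = as ∘ σ := by
    funext i
    exact (hτ0 i).symm
  have h1 : ((genMatrix K r d).submatrix a b).det =
      Equiv.Perm.sign σ * ((genMatrix K r d).submatrix as b).det := by
    rw [← Matrix.det_permute σ ((genMatrix K r d).submatrix as b), ha]
    rfl
  rw [SetLike.mem_coe, h1]
  apply Ideal.mul_mem_left
  exact core K d r t hd ht htd htr as has b hb

theorem main (K : Type u) [CommRing K] (d r t : ℕ) (hd : 0 < d)
    (ht : 0 < t) (htd : t ≤ d) (htr : t ≤ r) :
    Ideal.span {f : CellRing K d r | ∃ θ : Idx d (d + r),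
        d ≤ (θ.1 ⟨d - t, Nat.sub_lt hd ht⟩).val ∧ f = cellMinor K d r θ} =
      CAlgX.minorIdeal (genMatrix K r d) t :=
  le_antisymm (le_dir K d r t hd ht htd htr) (ge_dir K d r t hd ht htd htr)


end


open W4bk4grassmannian in
/-- Ideal-theoretic form; determinantal ideals as ideals of opposite cells of Schubert varieties: let K
be a commutative ring, d, r ≥ 1, 1 ≤ t ≤ min(d, r), Z the generic r × d matrix over K[z_{ij}] and
[I_d ; Z] the (d + r) × d matrix with the identity block on top. For θ ∈ I(d, d + r) let q_θ be the
d × d minor of [I_d ; Z] on the rows θ (the Plücker coordinate p_θ on the opposite big cell). Then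
the ideal generated by the q_θ with θ_{d-t} ≥ d (0-indexed; these are the θ not below the index φ =
(t-1, …, d-1, d+r+1-t, …, d+r-1) of the Schubert variety whose opposite cell is D_t) equals the
ideal generated by the t × t minors of Z. (The published statement is over an algebraically closed
field and identifies the determinantal variety D_t with the opposite cell of the Schubert variety
X(φ); this row states the equality of ideals behind that identification, over any commutative ring
K.) -/
theorem result (K : Type u) [CommRing K] (d r t : ℕ) (hd : 0 < d)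
    (ht : 0 < t) (htd : t ≤ d) (htr : t ≤ r) :
    Ideal.span {f : CellRing K d r | ∃ θ : Idx d (d + r),
        d ≤ (θ.1 ⟨d - t, Nat.sub_lt hd ht⟩).val ∧ f = cellMinor K d r θ} =
      CAlgX.minorIdeal (genMatrix K r d) t := by
  classical
  exact main K d r t hd ht htd htr

end Groth.Agent.S11275
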