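import Groth.Statements.S0701
import Mathlib

set_option autoImplicit false
open CategoryTheory CategoryTheory.Limits AlgebraicGeometry Opposite Topology
universe u
open ProEtW

namespace Groth.Agent.S0701

namespace H0701
open Topology TopologicalSpace

/-- a ring in which every prime is maximal has profinite spectrum -/
theorem profinite_of_all_maximal (B : Type u) [CommRing B]
    (h : ∀ q : PrimeSpectrum B, q.asIdeal.IsMaximal) : ProEtW.IsProfinite (PrimeSpectrum B) := by
  have hT2 : T2Space (PrimeSpectrum B) := by
    constructor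
    intro x y hxy
    have hnle : ¬ x.asIdeal ≤ y.asIdeal := by
      intro hle
      apply hxy
      apply PrimeSpectrum.ext
      exact (h x).eq_of_le (y.2.ne_top) hle
    obtain ⟨f, hfx, hfy⟩ := SetLike.not_le_iff_exists.1 hnle
    -- find g ∉ x and n with g * f^n = 0
    have key : ∃ g : B, g ∉ x.asIdeal ∧ ∃ n : ℕ, g * f ^ n = 0 := by
      by_contra hcon
      push_neg at hcon
      have hd : Disjoint ((⊥ : Ideal B) : Set B) ((x.asIdeal.primeCompl ⊔ Submonoid.powers f : Submonoid B) : Set B) := by
        rw [Set.disjoint_left]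
        intro a ha ha'
        have ha0 : a = 0 := by simpa using ha
        obtain ⟨g, hg, z, ⟨n, rfl⟩, hgz⟩ := Submonoid.mem_sup.1 ha'
        exact hcon g hg n (by rw [hgz, ha0])
      obtain ⟨P, hP, -, hPd⟩ := Ideal.exists_le_prime_disjoint _ _ hd
      have hPx : P ≤ x.asIdeal := by
        intro a ha
        by_contra hax
        exact Set.disjoint_left.1 hPd ha (Submonoid.mem_sup_left (show a ∈ x.asIdeal.primeCompl from hax))
      have hPeq : P = x.asIdeal := (h ⟨P, hP⟩).eq_of_le x.2.ne_top hPx
      have hfP : f ∈ P := hPeq ▸ hfx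
      exact Set.disjoint_left.1 hPd hfP (Submonoid.mem_sup_right (Submonoid.mem_powers f))
    obtain ⟨g, hg, n, hgn⟩ := key
    refine ⟨PrimeSpectrum.basicOpen g, PrimeSpectrum.basicOpen f, (PrimeSpectrum.basicOpen g).2,
      (PrimeSpectrum.basicOpen f).2, hg, hfy, ?_⟩
    rw [Set.disjoint_left]
    intro p hpg hpf
    have : g * f ^ n ∈ p.asIdeal := by rw [hgn]; exact p.asIdeal.zero_mem
    rcases p.2.mem_or_mem this with h1 | h1
    · exact hpg h1
    · exact hpf (p.2.mem_of_pow_mem n h1)
  have hbasis : IsTopologicalBasis {s : Set (PrimeSpectrum B) | IsClopen s} := by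
    apply (PrespectralSpace.isTopologicalBasis (X := PrimeSpectrum B)).of_isOpen_of_subset
    · intro s hs; exact hs.2
    · intro s hs; exact ⟨hs.2.isClosed, hs.1⟩
  have hTS : TotallySeparatedSpace (PrimeSpectrum B) := totallySeparatedSpace_of_t0_of_basis_clopen hbasis
  exact ⟨inferInstance, hT2, inferInstance⟩

theorem all_maximal_of_t1 (A : Type u) [CommRing A] [T1Space (PrimeSpectrum A)] (p : PrimeSpectrum A) :
    p.asIdeal.IsMaximal :=
  (PrimeSpectrum.isClosed_singleton_iff_isMaximal p).1 (isClosed_singleton)

theorem main01 (A B : Type u) [CommRing A] [CommRing B]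
    [Algebra A B] [T2Space (PrimeSpectrum A)]
    (h : ∀ q q' : PrimeSpectrum B, q.asIdeal.comap (algebraMap A B) = q'.asIdeal.comap (algebraMap A B) →
      q.asIdeal ≤ q'.asIdeal → q = q') :
    ProEtW.IsProfinite (PrimeSpectrum B) := by
  apply profinite_of_all_maximal
  intro q
  obtain ⟨m, hm, hqm⟩ := Ideal.exists_le_maximal q.asIdeal q.2.ne_top
  have hq' : q = ⟨m, hm.isPrime⟩ := by
    apply h q ⟨m, hm.isPrime⟩ _ hqm
    have hle : q.asIdeal.comap (algebraMap A B) ≤ m.comap (algebraMap A B) := Ideal.comap_mono hqm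
    have hmax := all_maximal_of_t1 A (PrimeSpectrum.comap (algebraMap A B) q)
    exact hmax.eq_of_le (Ideal.comap_ne_top _ hm.ne_top) hle
  rw [hq']
  exact hm

theorem main02 (A B : Type u) [CommRing A] [CommRing B]
    [Algebra A B] [T2Space (PrimeSpectrum A)]
    (h : ProEtW.AlgebraicResidueExtensions A B) :
    ProEtW.IsProfinite (PrimeSpectrum B) := by
  apply profinite_of_all_maximal
  intro q
  have hmax := all_maximal_of_t1 A (PrimeSpectrum.comap (algebraMap A B) q)
  have halg := h q.asIdeal
  have : (q.asIdeal.comap (algebraMap A B)).IsMaximal := hmax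
  letI : Field (A ⧸ q.asIdeal.comap (algebraMap A B)) := Ideal.Quotient.field _
  have hfield : IsField (B ⧸ q.asIdeal) :=
    isField_of_isIntegral_of_isField' (R := A ⧸ q.asIdeal.comap (algebraMap A B)) (Field.toIsField _)
  exact Ideal.Quotient.maximal_of_isField _ hfield
end H0701

/-- Let Spec A be profinite (quasi-compact, Hausdorff, totally disconnected) and A -> B a ring map such
that two distinct primes of B over the same prime of A are never comparable. Then Spec B is
profinite. -/
theorem result (A B : Type u) [CommRing A] [CommRing B]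
    [Algebra A B] [T2Space (PrimeSpectrum A)] [TotallyDisconnectedSpace (PrimeSpectrum A)]
    (h : ∀ q q' : PrimeSpectrum B, q.asIdeal.comap (algebraMap A B) = q'.asIdeal.comap (algebraMap A B) →
      q.asIdeal ≤ q'.asIdeal → q = q') :
    ProEtW.IsProfinite (PrimeSpectrum B) := by
  exact H0701.main01 A B h

end Groth.Agent.S0701
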