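import Groth.Statements.S4860
import Mathlib

set_option autoImplicit false
universe u
open EGA43

namespace Groth.Agent.S4860

set_option linter.style.haveILetI false

namespace H4860

variable (B : Type u) [CommRing B] [IsDomain B]

/-- in a localization of a domain away from `f ≠ 0`, an ideal contracting to `⊥` is `⊥` -/
lemma away_ideal_eq_bot {f : B} (J : Ideal (Localization.Away f))
    (h : J.comap (algebraMap B (Localization.Away f)) = ⊥) : J = ⊥ := by
  have h' : Ideal.under B J = ⊥ := h
  rw [← IsLocalization.map_under (Submonoid.powers f) (Localization.Away f) J, h', Ideal.map_bot]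

lemma away_injective {f : B} (hf : f ≠ 0) :
    Function.Injective (algebraMap B (Localization.Away f)) :=
  IsLocalization.injective _ (powers_le_nonZeroDivisors_of_noZeroDivisors hf)

/-- (a) ⇒ generic point open -/
lemma isOpen_of_isField {f : B} (hf : f ≠ 0) (hF : IsField (Localization.Away f)) :
    IsOpen ({⟨⊥, Ideal.isPrime_bot⟩} : Set (PrimeSpectrum B)) := by
  have : ({⟨⊥, Ideal.isPrime_bot⟩} : Set (PrimeSpectrum B)) = PrimeSpectrum.basicOpen f := by
    ext p
    simp only [Set.mem_singleton_iff, SetLike.mem_coe, PrimeSpectrum.mem_basicOpen]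
    constructor
    · rintro rfl
      simpa using hf
    · intro hp
      have hdisj : Disjoint (Submonoid.powers f : Set B) (p.asIdeal : Set B) := by
        rw [Set.disjoint_left]
        rintro x ⟨n, rfl⟩ hx
        exact hp (p.2.mem_of_pow_mem n hx)
      have hprime := IsLocalization.isPrime_of_isPrime_disjoint (Submonoid.powers f)
        (Localization.Away f) p.asIdeal p.2 hdisj
      letI := hF.toField
      have hbot : Ideal.map (algebraMap B (Localization.Away f)) p.asIdeal = ⊥ := by
        rcases Ideal.eq_bot_or_top (Ideal.map (algebraMap B (Localization.Away f)) p.asIdeal) with h | h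
        · exact h
        · exact absurd h hprime.ne_top
      have hc := IsLocalization.under_map_of_isPrime_disjoint (Submonoid.powers f)
        (Localization.Away f) p.2 hdisj
      rw [hbot] at hc
      ext x
      simp only [Submodule.mem_bot]
      rw [← hc, Ideal.mem_comap, Ideal.mem_bot]
      constructor
      · intro hx
        exact away_injective B hf (by rw [hx, map_zero])
      · rintro rfl; simp
  rw [this]
  exact (PrimeSpectrum.basicOpen f).2

/-- generic point open ⇒ (a) -/
lemma exists_isField_of_isOpen (h : IsOpen ({⟨⊥, Ideal.isPrime_bot⟩} : Set (PrimeSpectrum B))) :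
    ∃ f : B, f ≠ 0 ∧ IsField (Localization.Away f) := by
  obtain ⟨U, ⟨f, rfl⟩, hmem, hsub⟩ :=
    PrimeSpectrum.isTopologicalBasis_basic_opens.exists_subset_of_mem_open
      (Set.mem_singleton (⟨⊥, Ideal.isPrime_bot⟩ : PrimeSpectrum B)) h
  have hf : f ≠ 0 := by
    intro h0
    simp [h0] at hmem
  refine ⟨f, hf, ?_⟩
  by_contra hnf
  haveI : Nontrivial (Localization.Away f) :=
    (away_injective B hf).nontrivial
  obtain ⟨J, hJ0, hJp⟩ := Ring.not_isField_iff_exists_prime.mp hnf
  apply hJ0
  apply away_ideal_eq_bot
  have hmemJ : (⟨J.comap (algebraMap B (Localization.Away f)), inferInstance⟩ : PrimeSpectrum B) ∈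
      (PrimeSpectrum.basicOpen f : Set (PrimeSpectrum B)) := by
    simp only [SetLike.mem_coe, PrimeSpectrum.mem_basicOpen, Ideal.mem_comap]
    intro hfJ
    exact hJp.ne_top (Ideal.eq_top_of_isUnit_mem _ hfJ (IsLocalization.Away.algebraMap_isUnit f))
  have := hsub hmemJ
  rw [Set.mem_singleton_iff] at this
  exact congrArg PrimeSpectrum.asIdeal this

/-- (a) ⇒ (b) -/
lemma finiteType_fractionRing_of_isField {f : B} (hf : f ≠ 0) (hF : IsField (Localization.Away f)) :
    Algebra.FiniteType B (FractionRing B) := by
  letI := hF.toField
  haveI : FaithfulSMul B (Localization.Away f) :=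
    (faithfulSMul_iff_algebraMap_injective _ _).mpr (away_injective B hf)
  haveI : IsFractionRing B (Localization.Away f) := by
    apply IsFractionRing.of_field
    intro z
    obtain ⟨⟨x, s⟩, hxs⟩ := IsLocalization.surj (Submonoid.powers f) z
    refine ⟨x, s, ?_⟩
    have hs : algebraMap B (Localization.Away f) s ≠ 0 := by
      intro h0
      have := away_injective B hf (h0.trans (map_zero _).symm)
      obtain ⟨n, hn⟩ := s.2
      rw [← hn] at this
      exact pow_ne_zero n hf this
    rw [eq_div_iff hs]
    exact hxs
  haveI : Algebra.FiniteType B (Localization.Away f) :=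
    IsLocalization.finiteType_of_monoid_fg (Submonoid.powers f) _
  exact Algebra.FiniteType.equiv ‹_› (FractionRing.algEquiv B (Localization.Away f)).symm

attribute [local instance] FractionRing.liftAlgebra in
/-- (c) ⇒ (a): Goldman -/
lemma exists_isField_of_field (K : Type u) [Field K] [Algebra B K]
    (hinj : Function.Injective (algebraMap B K)) [hft : Algebra.FiniteType B K] :
    ∃ f : B, f ≠ 0 ∧ IsField (Localization.Away f) := by
  haveI : FaithfulSMul B K := (faithfulSMul_iff_algebraMap_injective _ _).mpr hinj
  haveI : Algebra.FiniteType (FractionRing B) K :=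
    Algebra.FiniteType.of_restrictScalars_finiteType B (FractionRing B) K
  haveI : Module.Finite (FractionRing B) K := finite_of_finite_type_of_isJacobsonRing _ _
  haveI : Algebra.IsAlgebraic (FractionRing B) K := Algebra.IsAlgebraic.of_finite _ _
  haveI : Algebra.IsAlgebraic B K :=
    (IsFractionRing.comap_isAlgebraic_iff (A := B) (K := FractionRing B) (C := K)).mpr inferInstance
  obtain ⟨s, hs⟩ := hft.out
  obtain ⟨f, hf, hint⟩ := Algebra.IsAlgebraic.exists_integral_multiples B s
  refine ⟨f, hf, ?_⟩
  have hu : IsUnit (algebraMap B K f) := by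
    rw [isUnit_iff_ne_zero]
    exact fun h => hf (hinj (h.trans (map_zero _).symm))
  letI : Algebra (Localization.Away f) K := (IsLocalization.Away.lift f hu).toAlgebra
  haveI : IsScalarTower B (Localization.Away f) K :=
    IsScalarTower.of_algebraMap_eq (fun x => (IsLocalization.Away.lift_eq f hu x).symm)
  -- generators are integral over the localization
  have hgen : ∀ z ∈ s, IsIntegral (Localization.Away f) z := by
    intro z hz
    have h1 : IsIntegral (Localization.Away f) (f • z) := (hint z hz).tower_top
    have h2 : z = algebraMap (Localization.Away f) K (IsLocalization.Away.invSelf f) * (f • z) := by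
      rw [Algebra.smul_def, ← mul_assoc, IsScalarTower.algebraMap_apply B (Localization.Away f) K,
        ← map_mul, mul_comm (IsLocalization.Away.invSelf f), IsLocalization.Away.mul_invSelf,
        map_one, one_mul]
    rw [h2]
    exact IsIntegral.mul isIntegral_algebraMap h1
  haveI : Algebra.IsIntegral (Localization.Away f) K := by
    refine ⟨fun x => ?_⟩
    have hx : x ∈ Algebra.adjoin B (s : Set K) := by rw [hs]; trivial
    have hle : Algebra.adjoin B (s : Set K) ≤
        (integralClosure (Localization.Away f) K).restrictScalars B := by
      apply Algebra.adjoin_le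
      intro z hz
      exact hgen z hz
    exact hle hx
  have hinjL : Function.Injective (algebraMap (Localization.Away f) K) := by
    rw [RingHom.injective_iff_ker_eq_bot]
    apply away_ideal_eq_bot
    ext x
    simp only [Ideal.mem_comap, RingHom.mem_ker, Submodule.mem_bot]
    rw [← IsScalarTower.algebraMap_apply B (Localization.Away f) K]
    exact ⟨fun h => hinj (h.trans (map_zero _).symm), fun h => by rw [h, map_zero]⟩
  exact isField_of_isIntegral_of_isField hinjL (Field.toIsField K)

theorem main : [∃ f : B, f ≠ 0 ∧ IsField (Localization.Away f),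
      Algebra.FiniteType B (FractionRing B),
      ∃ (K : Type u) (_ : Field K) (_ : Algebra B K), Function.Injective (algebraMap B K) ∧ Algebra.FiniteType B K,
      IsOpen ({⟨⊥, Ideal.isPrime_bot⟩} : Set (PrimeSpectrum B))].TFAE := by
  tfae_have 1 → 2 := fun ⟨f, hf, hF⟩ => finiteType_fractionRing_of_isField B hf hF
  tfae_have 2 → 3 := fun h => ⟨FractionRing B, inferInstance, inferInstance,
    IsFractionRing.injective B (FractionRing B), h⟩
  tfae_have 3 → 1 := fun ⟨K, _, _, hinj, hft⟩ => exists_isField_of_field B K hinj
  tfae_have 1 → 4 := fun ⟨f, hf, hF⟩ => isOpen_of_isField B hf hF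
  tfae_have 4 → 1 := exists_isField_of_isOpen B
  tfae_finish

end H4860

/-- For an integral domain B the following are equivalent: a) the localization B_f is a field for some
nonzero f; b) the fraction field of B is a finitely generated B-algebra; c) there is a field
containing B (an injective algebra map from B) which is a finitely generated B-algebra; d) the
generic point of Spec B is open. -/
theorem result (B : Type u) [CommRing B] [IsDomain B] :
    [∃ f : B, f ≠ 0 ∧ IsField (Localization.Away f),
      Algebra.FiniteType B (FractionRing B),
      ∃ (K : Type u) (_ : Field K) (_ : Algebra B K), Function.Injective (algebraMap B K) ∧ Algebra.FiniteType B K,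
      IsOpen ({⟨⊥, Ideal.bot_prime⟩} : Set (PrimeSpectrum B))].TFAE := by
  exact H4860.main B

end Groth.Agent.S4860
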