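import Groth.Statements.S16323
import Groth.Agent.Lib.Helper2.GrAB.MinRes
import Groth.Agent.Lib.Helper2.CM.DoubleLinkLC
import Groth.Agent.Lib.Helper2.Gor.LinkCMGlobal
import Groth.Agent.Lib.Helper8.ABS9


set_option autoImplicit false
universe u
open GrSyz

namespace Groth.Agent.S16323

/-- Let k be an algebraically closed field of characteristic zero, S = k[x_0, …, x_n] graded by degree,
𝔪 = (x_0, …, x_n), M a finitely generated ℤ-graded S-module and F a minimal graded free resolution
of M (finite-rank free modules with homogeneous bases, every matrix entry of every differential in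
𝔪) of length exactly ℓ: F_ℓ ≠ 0 and F_i = 0 for i > ℓ, so that ℓ is the projective dimension of M.
Then ℓ + depth(𝔪, M) = n + 1, where depth(𝔪, M) is the 𝔪-depth of M (supremum in ℕ∞ of the lengths
of M-regular sequences with terms in 𝔪). (The published statement is pd M = depth(𝔪, S) − depth(𝔪,
M) for a graded ring S with maximal ideal 𝔪 and a finitely generated module of finite projective
dimension; stated here, as the text then specialises it, for the polynomial ring, where depth(𝔪, S)
= n + 1 and the projective dimension is the length of a minimal graded free resolution.) -/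
theorem result (k : Type u) [Field k] [IsAlgClosed k] [CharZero k] (n : ℕ)
    (M : Type u) [AddCommGroup M] [Module k M] [Module (MvPolynomial (Fin (n + 1)) k) M]
    [IsScalarTower k (MvPolynomial (Fin (n + 1)) k) M] [Module.Finite (MvPolynomial (Fin (n + 1)) k) M]
    (ℳ : ℤ → Submodule k M) [DirectSum.Decomposition ℳ] [SetLike.GradedSMul (GrSyz.stdGr k (Fin (n + 1))) ℳ]
    (F : GrSyz.FreeRes (GrSyz.stdGr k (Fin (n + 1))) ℳ) (hF : F.IsMinimal (GrSyz.irrel (GrSyz.stdGr k (Fin (n + 1)))).toIdeal)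
    (ℓ : ℕ) (hℓ : F.HasLengthLE ℓ) (hℓ' : F.rk ℓ ≠ 0) :
    (ℓ : ℕ∞) + LocCoh.idealDepth (GrSyz.irrel (GrSyz.stdGr k (Fin (n + 1)))).toIdeal M = ((n + 1 : ℕ) : ℕ∞) := by
  have hirr := Groth.Agent.Helper2.CM.irrel_toIdeal_eq_irr (n := n) (K := k)
  rw [hirr] at hF ⊢
  haveI hmax : (Groth.Agent.Lib.Helper6.GrCM.irr (Fin (n + 1)) k).IsMaximal :=
    Groth.Agent.Helper2.CM.irr_isMaximal
  haveI hprime : (Groth.Agent.Lib.Helper6.GrCM.irr (Fin (n + 1)) k).IsPrime := hmax.isPrime
  have hpd := Groth.Agent.Helper2.GrAB.projectiveDimension_loc_eq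
    (Groth.Agent.Lib.Helper6.GrCM.irr (Fin (n + 1)) k) F.rk F.d F.aug F.aug_surjective
    F.exact_zero F.exact_succ hF ℓ hℓ hℓ'
  haveI hnt : Nontrivial (LocalizedModule
      (Groth.Agent.Lib.Helper6.GrCM.irr (Fin (n + 1)) k).primeCompl M) := by
    by_contra hcon
    rw [not_nontrivial_iff_subsingleton] at hcon
    have hz := ModuleCat.isZero_of_subsingleton (ModuleCat.of
      (Localization.AtPrime (Groth.Agent.Lib.Helper6.GrCM.irr (Fin (n + 1)) k))
      (LocalizedModule (Groth.Agent.Lib.Helper6.GrCM.irr (Fin (n + 1)) k).primeCompl M))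
    rw [(CategoryTheory.projectiveDimension_eq_bot_iff _).mpr hz] at hpd
    exact WithBot.bot_ne_coe hpd
  have hab := Groth.Agent.Helper8.ABS.auslander_buchsbaum
    (Localization.AtPrime (Groth.Agent.Lib.Helper6.GrCM.irr (Fin (n + 1)) k))
    (LocalizedModule (Groth.Agent.Lib.Helper6.GrCM.irr (Fin (n + 1)) k).primeCompl M) ℓ hpd
  have hCMR : LocCoh.IsCohenMacaulayRing (MvPolynomial (Fin (n + 1)) k) :=
    Groth.Agent.Helper8.CplMap.isCohenMacaulayRing_of_isRegularRing _
  haveI hCMA : LocCoh.IsCohenMacaulayLocalRing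
      (Localization.AtPrime (Groth.Agent.Lib.Helper6.GrCM.irr (Fin (n + 1)) k)) :=
    hCMR.isCohenMacaulayLocalRing_localization _
  have hdim : ringKrullDim
      (Localization.AtPrime (Groth.Agent.Lib.Helper6.GrCM.irr (Fin (n + 1)) k)) =
      ((n + 1 : ℕ) : WithBot ℕ∞) := by
    rw [IsLocalization.AtPrime.ringKrullDim_eq_height
      (Groth.Agent.Lib.Helper6.GrCM.irr (Fin (n + 1)) k),
      Groth.Agent.Lib.Helper4.DimFT1.mvPolynomial_height_of_isMaximal k (n + 1)]
    rfl
  rw [Groth.Agent.Helper2.Gor.depth_self_eq_of_cm _ (n + 1) hdim] at hab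
  rw [Groth.Agent.Helper2.CM.idealDepth_eq_depth_of_isMaximal]
  exact hab.symm

end Groth.Agent.S16323
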