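import Groth.Statements.S18247
import Mathlib
import Groth.Prelude.Def_W4c5m1nsnscurvesU
-- import your own Groth.Agent.* helpers here

set_option autoImplicit false
universe u
open W4c5m1nsnscurves
open Curves

namespace Groth.Agent.S18247

open W4c5m1nsnscurves
namespace Aux

open MvPolynomial

theorem dpair_cases {P : ∀ i j : Fin 2, i ≠ j → Prop} (h01 : P 0 1 Fin.zero_ne_one)
    (h10 : P 1 0 Fin.zero_ne_one.symm) : ∀ i j h, P i j h := by
  intro i
  revert i
  rw [Fin.forall_fin_two]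
  constructor
  · intro j
    revert j
    rw [Fin.forall_fin_two]
    constructor
    · intro h; exact absurd rfl h
    · intro h; exact h01
  · intro j
    revert j
    rw [Fin.forall_fin_two]
    constructor
    · intro h; exact h10
    · intro h; exact absurd rfl h

/-- the expression of `c_{10}` -/
noncomputable def c10e : MvPolynomial (Fin 6) ℤ := X 0 + X 1 + X 2 + X 3 + X 4 - X 5

/-- values of the generators in the polynomial ring -/
noncomputable def val : UGen 2 → MvPolynomial (Fin 6) ℤ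
  | .a => X 0
  | .c => c10e * X 3 + X 5 * X 1 - X 1 * X 3
  | .cb => c10e * X 2 + X 5 * X 4 - X 2 * X 4
  | .ci i => if i = 0 then X 1 else X 3
  | .cbi i => if i = 0 then X 2 else X 4
  | .cij i _ _ => if i = 0 then X 5 else c10e

theorem val_rel (r : MvPolynomial (UGen 2) ℤ) (hr : r ∈ URel ℤ 2) : aeval val r = 0 := by
  have h10 : (1 : Fin 2) ≠ 0 := Fin.zero_ne_one.symm
  rcases hr with ((hr | hr) | hr) | hr
  · obtain ⟨⟨⟨i, j⟩, h⟩, rfl⟩ := hr
    revert h
    revert i j
    refine dpair_cases ?_ ?_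
    · simp only [map_sub, map_add, aeval_X, val, if_pos, if_neg h10]
      unfold c10e; ring
    · simp only [map_sub, map_add, aeval_X, val, if_pos, if_neg h10]
      unfold c10e; ring
  · obtain ⟨⟨⟨i, j⟩, h⟩, rfl⟩ := hr
    revert h
    revert i j
    refine dpair_cases ?_ ?_
    · simp only [map_sub, map_add, map_mul, aeval_X, val, if_pos, if_neg h10]
      ring
    · simp only [map_sub, map_add, map_mul, aeval_X, val, if_pos, if_neg h10]
      ring
  · obtain ⟨⟨⟨i, j⟩, h⟩, rfl⟩ := hr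
    revert h
    revert i j
    refine dpair_cases ?_ ?_
    · simp only [map_sub, map_add, map_mul, aeval_X, val, if_pos, if_neg h10]
      ring
    · simp only [map_sub, map_add, map_mul, aeval_X, val, if_pos, if_neg h10]
      ring
  · obtain ⟨⟨⟨i, j, k⟩, h1, h2, h3⟩, rfl⟩ := hr
    exfalso
    dsimp only at h1 h2 h3
    omega


/-- the inverse map -/
noncomputable def psi : URing ℤ 2 →+* MvPolynomial (Fin 6) ℤ :=
  Ideal.Quotient.lift (Ideal.span (URel ℤ 2)) (aeval val : MvPolynomial (UGen 2) ℤ →ₐ[ℤ] _).toRingHom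
    (fun r hr => by
      have hle : Ideal.span (URel ℤ 2) ≤ RingHom.ker (aeval val : MvPolynomial (UGen 2) ℤ →ₐ[ℤ] _).toRingHom := by
        rw [Ideal.span_le]
        intro x hx
        exact val_rel x hx
      exact RingHom.mem_ker.mp (hle hr))

theorem psi_ugen (g : UGen 2) : psi (ugen ℤ 2 g) = val g := by
  unfold psi ugen
  rw [Ideal.Quotient.lift_mk]
  exact aeval_X val g

/-- the six generators -/
noncomputable def gens : Fin 6 → URing ℤ 2 :=
  ![ugen ℤ 2 .a, ugen ℤ 2 (.ci 0), ugen ℤ 2 (.cbi 0), ugen ℤ 2 (.ci 1), ugen ℤ 2 (.cbi 1),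
        ugen ℤ 2 (.cij 0 1 Fin.zero_ne_one)]

theorem gens_0 : gens 0 = ugen ℤ 2 .a := rfl
theorem gens_1 : gens 1 = ugen ℤ 2 (.ci 0) := rfl
theorem gens_2 : gens 2 = ugen ℤ 2 (.cbi 0) := rfl
theorem gens_3 : gens 3 = ugen ℤ 2 (.ci 1) := rfl
theorem gens_4 : gens 4 = ugen ℤ 2 (.cbi 1) := rfl
theorem gens_5 : gens 5 = ugen ℤ 2 (.cij 0 1 Fin.zero_ne_one) := rfl

theorem rel_lin : ugen ℤ 2 (.cij 1 0 Fin.zero_ne_one.symm) =
    ugen ℤ 2 .a + ugen ℤ 2 (.ci 0) + ugen ℤ 2 (.cbi 0) + ugen ℤ 2 (.ci 1) + ugen ℤ 2 (.cbi 1)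
      - ugen ℤ 2 (.cij 0 1 Fin.zero_ne_one) := by
  have hmem : (X (.cij 0 1 Fin.zero_ne_one) + X (.cij 1 0 (Ne.symm Fin.zero_ne_one)) -
      (X .a + X (.ci 0) + X (.cbi 0) + X (.ci 1) + X (.cbi 1)) : MvPolynomial (UGen 2) ℤ) ∈
      Ideal.span (URel ℤ 2) := by
    apply Ideal.subset_span
    left; left; left
    exact ⟨⟨(0, 1), Fin.zero_ne_one⟩, rfl⟩
  have h := Ideal.Quotient.eq_zero_iff_mem.mpr hmem
  simp only [map_sub, map_add] at h
  unfold ugen
  linear_combination h

theorem rel_c : ugen ℤ 2 .c =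
    ugen ℤ 2 (.cij 1 0 Fin.zero_ne_one.symm) * ugen ℤ 2 (.ci 1) +
      ugen ℤ 2 (.cij 0 1 Fin.zero_ne_one) * ugen ℤ 2 (.ci 0) - ugen ℤ 2 (.ci 0) * ugen ℤ 2 (.ci 1) := by
  have hmem : (X (.cij 1 0 (Ne.symm Fin.zero_ne_one)) * X (.ci 1) + X (.cij 0 1 Fin.zero_ne_one) * X (.ci 0) -
      X (.ci 0) * X (.ci 1) - X .c : MvPolynomial (UGen 2) ℤ) ∈ Ideal.span (URel ℤ 2) := by
    apply Ideal.subset_span
    left; left; right
    exact ⟨⟨(0, 1), Fin.zero_ne_one⟩, rfl⟩
  have h := Ideal.Quotient.eq_zero_iff_mem.mpr hmem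
  simp only [map_sub, map_add, map_mul] at h
  unfold ugen
  linear_combination -h

theorem rel_cb : ugen ℤ 2 .cb =
    ugen ℤ 2 (.cij 1 0 Fin.zero_ne_one.symm) * ugen ℤ 2 (.cbi 0) +
      ugen ℤ 2 (.cij 0 1 Fin.zero_ne_one) * ugen ℤ 2 (.cbi 1) - ugen ℤ 2 (.cbi 0) * ugen ℤ 2 (.cbi 1) := by
  have hmem : (X (.cij 1 0 (Ne.symm Fin.zero_ne_one)) * X (.cbi 0) + X (.cij 0 1 Fin.zero_ne_one) * X (.cbi 1) -
      X (.cbi 0) * X (.cbi 1) - X .cb : MvPolynomial (UGen 2) ℤ) ∈ Ideal.span (URel ℤ 2) := by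
    apply Ideal.subset_span
    left; right
    exact ⟨⟨(0, 1), Fin.zero_ne_one⟩, rfl⟩
  have h := Ideal.Quotient.eq_zero_iff_mem.mpr hmem
  simp only [map_sub, map_add, map_mul] at h
  unfold ugen
  linear_combination -h

theorem phi_c10e : aeval gens c10e = ugen ℤ 2 (.cij 1 0 Fin.zero_ne_one.symm) := by
  unfold c10e
  rw [rel_lin]
  simp only [map_sub, map_add, aeval_X, gens_0, gens_1, gens_2, gens_3, gens_4, gens_5]

theorem phi_val (g : UGen 2) : aeval gens (val g) = ugen ℤ 2 g := by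
  have h10 : (1 : Fin 2) ≠ 0 := Fin.zero_ne_one.symm
  rcases g with _ | _ | _ | i | i | ⟨i, j, h⟩
  · simp only [val, aeval_X, gens_0]
  · simp only [val, map_sub, map_add, map_mul, phi_c10e, aeval_X, gens_1, gens_3, gens_5]
    rw [rel_c]
  · simp only [val, map_sub, map_add, map_mul, phi_c10e, aeval_X, gens_2, gens_4, gens_5]
    rw [rel_cb]
  · revert i
    rw [Fin.forall_fin_two]
    constructor
    · simp only [val, if_pos, aeval_X, gens_1]
    · simp only [val, if_neg h10, aeval_X, gens_3]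
  · revert i
    rw [Fin.forall_fin_two]
    constructor
    · simp only [val, if_pos, aeval_X, gens_2]
    · simp only [val, if_neg h10, aeval_X, gens_4]
  · revert h
    revert i j
    refine dpair_cases ?_ ?_
    · simp only [val, if_pos, aeval_X, gens_5]
    · simp only [val, if_neg h10, phi_c10e]

theorem main : Function.Bijective (MvPolynomial.aeval (R := ℤ) (S₁ := URing ℤ 2)
      ![ugen ℤ 2 .a, ugen ℤ 2 (.ci 0), ugen ℤ 2 (.cbi 0), ugen ℤ 2 (.ci 1), ugen ℤ 2 (.cbi 1),
        ugen ℤ 2 (.cij 0 1 Fin.zero_ne_one)]) := by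
  have hleft : ∀ p : MvPolynomial (Fin 6) ℤ, psi (aeval gens p) = p := by
    intro p
    have : (psi.comp (aeval gens : MvPolynomial (Fin 6) ℤ →ₐ[ℤ] URing ℤ 2).toRingHom) = RingHom.id _ := by
      apply MvPolynomial.ringHom_ext
      · intro r
        simp
      · intro i
        simp only [RingHom.comp_apply, AlgHom.toRingHom_eq_coe, RingHom.coe_coe, aeval_X, RingHom.id_apply]
        revert i
        simp only [Fin.forall_fin_succ]
        refine ⟨?_, ?_, ?_, ?_, ?_, ?_, ?_⟩
        · rw [gens_0, psi_ugen]; rfl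
        · show psi (gens 1) = X 1
          rw [gens_1, psi_ugen]; rfl
        · show psi (gens 2) = X 2
          rw [gens_2, psi_ugen]; rfl
        · show psi (gens 3) = X 3
          rw [gens_3, psi_ugen]; rfl
        · show psi (gens 4) = X 4
          rw [gens_4, psi_ugen]; rfl
        · show psi (gens 5) = X 5
          rw [gens_5, psi_ugen]; rfl
        · intro i; exact i.elim0
    exact congrFun (congrArg DFunLike.coe this) p
  have hright : ∀ x : URing ℤ 2, aeval gens (psi x) = x := by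
    intro x
    obtain ⟨q, rfl⟩ := Ideal.Quotient.mk_surjective x
    induction q using MvPolynomial.induction_on with
    | C r => simp
    | add p q hp hq => rw [map_add, map_add, map_add, hp, hq]
    | mul_X p g hp =>
      rw [map_mul, map_mul, map_mul, hp]
      congr 1
      exact (congrArg _ (psi_ugen g)).trans (phi_val g)
  exact ⟨Function.LeftInverse.injective hleft, Function.RightInverse.surjective hright⟩

end Aux

/-- Case n = 5: the coordinate ring of U_5 over ℤ (m = 2 indices, standing for the points 4 and 5;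
generators a, c, c̄, c_4, c̄_4, c_5, c̄_5, c_{45}, c_{54} with the linear and the two quadratic
relations for the one pair of indices, and no triple) is the polynomial ring on a, c_4, c̄_4, c_5,
c̄_5, c_{45}: the ℤ-algebra map from the polynomial ring in six variables sending the variables to
these six classes, in this order, is bijective. -/
theorem result :
    Function.Bijective (MvPolynomial.aeval (R := ℤ) (S₁ := URing ℤ 2)
      ![ugen ℤ 2 .a, ugen ℤ 2 (.ci 0), ugen ℤ 2 (.cbi 0), ugen ℤ 2 (.ci 1), ugen ℤ 2 (.cbi 1),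
        ugen ℤ 2 (.cij 0 1 Fin.zero_ne_one)]) := by
  exact Aux.main

end Groth.Agent.S18247
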