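import Groth.Statements.S3091
import Groth.Agent.Lib.Helper6.HyperQI.SiteVer

set_option autoImplicit false
universe u
open CategoryTheory
open Hyper

namespace Groth.Agent.S3091

open Opposite CategoryTheory.Limits in
/-- Let (C, J) be a small site with fibre products and binary products, and K a hypercovering of the
final object of its topos, given as a simplicial object in formal coproducts of objects of C
(coskeleta of truncated simplicial objects in such formal coproducts being assumed to exist):
writing F(K_n) for the coproduct of representable sheaves given by K_n, the maps F(K₀) → * and F(K₁)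
→ F(K₀) × F(K₀) are locally surjective and, for n ≥ 1, so is F(K_{n+1}) → F((cosk_n sk_n K)_{n+1}).
Then the chain complex of abelian sheaves ℤ[F(K)]^# — in degree n the sheafification of the free
abelian presheaf on F(K_n), with differential the alternating sum of the faces — has vanishing
homology sheaves in all positive degrees, and its degree-zero homology sheaf is isomorphic to the
constant sheaf ℤ. -/
theorem result {C : Type u} [SmallCategory C] [HasPullbacks C] [HasBinaryProducts C]
    (J : GrothendieckTopology C) (K : SimplicialObject (FormalCoproduct.{u} C))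
    [∀ (n : ℕ) (F : (SimplexCategory.Truncated n)ᵒᵖ ⥤ Limits.FormalCoproduct.{u} C),
      (SimplexCategory.Truncated.inclusion n).op.HasRightKanExtension F]
    (hK : Hyper.IsHypercoveringSite J K) :
    (∀ n : ℕ, IsZero ((Hyper.freeChainCx J K).homology (n + 1))) ∧
    Nonempty ((Hyper.freeChainCx J K).homology 0 ≅ (constantSheaf J AddCommGrpCat.{u}).obj (AddCommGrpCat.of (ULift.{u} ℤ))) := by
  have h0 : Groth.Agent.Lib.Helper6.HyperQI.LocNonempty J
      ((K ⋙ Groth.Agent.Lib.Helper6.HyperQI.FY).obj (Opposite.op (SimplexCategory.mk 0))) := by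
    haveI := hK.1
    exact Groth.Agent.Lib.Helper6.HyperQI.locNonempty_of_isLocallySurjective
      (Limits.terminal.from (Limits.FormalCoproduct.yoneda.obj
        (K.obj (Opposite.op (SimplexCategory.mk 0)))))
      Groth.Agent.Lib.Helper6.HyperQI.nonempty_terminal_obj
  have hn : ∀ n : ℕ, Presheaf.IsLocallySurjective J
      (((SimplicialObject.coskAdj n).unit.app (K ⋙ Groth.Agent.Lib.Helper6.HyperQI.FY)).app
        (Opposite.op (SimplexCategory.mk (n + 1)))) := by
    intro n
    rcases Nat.eq_zero_or_pos n with rfl | hpos
    · exact Groth.Agent.Lib.Helper6.HyperQI.unit0_isLocallySurjective J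
        (K ⋙ Groth.Agent.Lib.Helper6.HyperQI.FY) hK.2.1
    · haveI := hK.2.2 n hpos
      rw [← Groth.Agent.Lib.Helper6.HyperQI.coskCompIso_unit
        Groth.Agent.Lib.Helper6.HyperQI.FY n K, NatTrans.comp_app, Functor.whiskerRight_app]
      infer_instance
  obtain ⟨hz, ⟨e⟩⟩ := Groth.Agent.Lib.Helper6.HyperQI.tower_main J
    (K ⋙ Groth.Agent.Lib.Helper6.HyperQI.FY) h0 hn
  exact ⟨hz, ⟨e ≪≫ (constantSheaf J AddCommGrpCat.{u}).mapIso
    Groth.Agent.Lib.Helper6.HyperQI.freePUnitIso⟩⟩

end Groth.Agent.S3091
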