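import Groth.Statements.S1543
import Mathlib
import Groth.Agent.S1541

set_option autoImplicit false
universe u
open CategoryTheory CategoryTheory.Limits AlgebraicGeometry
open Variety

namespace Groth.Agent.S1543

section
open CategoryTheory CategoryTheory.Limits AlgebraicGeometry

open TensorProduct

/-- Lemma E -/
theorem isReduced_tensor_of_minimalPrimes {k : Type*} [Field k] (R : Type*) [CommRing R]
    [Algebra k R] [_root_.IsReduced R] (K : Type*) [Field K] [Algebra k K]
    (h : ∀ (q : Ideal (R ⊗[k] K)) [q.IsPrime],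
      q.comap (algebraMap R (R ⊗[k] K)) ∈ minimalPrimes R →
        _root_.IsReduced (Localization.AtPrime q)) :
    _root_.IsReduced (R ⊗[k] K) := by
  constructor
  intro n hn
  by_contra hne
  let b := Module.Free.chooseBasis k K
  let B := Algebra.TensorProduct.basis R b
  obtain ⟨i, hi⟩ : ∃ i, B.repr n i ≠ 0 := by
    by_contra hall
    push Not at hall
    apply hne
    apply B.repr.injective
    ext i
    simpa using hall i
  obtain ⟨p, hpmin, hap⟩ : ∃ p ∈ minimalPrimes R, B.repr n i ∉ p := by
    by_contra hcon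
    push Not at hcon
    have h1 : B.repr n i ∈ nilradical R := by
      show _ ∈ (⊥ : Ideal R).radical
      rw [← Ideal.sInf_minimalPrimes]
      exact Ideal.mem_sInf.mpr fun {J} hJ => hcon J hJ
    exact hi (IsNilpotent.eq_zero h1)
  haveI hpp : p.IsPrime := hpmin.1.1
  let I : Ideal (R ⊗[k] K) := (Ideal.span {n}).annihilator
  have hdisj : Disjoint (I : Set (R ⊗[k] K)) (p.primeCompl.map (algebraMap R (R ⊗[k] K))) := by
    rw [Set.disjoint_left]
    rintro _ ht ⟨s, hs, rfl⟩
    have h1 : (algebraMap R (R ⊗[k] K)) s * n = 0 := by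
      have := (Submodule.mem_annihilator_span_singleton n _).mp ht
      simpa [smul_eq_mul] using this
    have h2 : s • n = 0 := by rw [Algebra.smul_def]; exact h1
    have h3 : s * B.repr n i = 0 := by
      have := congrArg (fun v => B.repr v i) h2
      simpa using this
    have h4 : s * B.repr n i ∈ p := h3 ▸ p.zero_mem
    exact hs ((hpp.mem_or_mem h4).resolve_right hap)
  obtain ⟨q, hq, hIq, hqd⟩ := Ideal.exists_le_prime_disjoint I _ hdisj
  have hle : q.comap (algebraMap R (R ⊗[k] K)) ≤ p :=
    Ideal.disjoint_map_primeCompl_iff_comap_le.mp hqd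
  have heq : q.comap (algebraMap R (R ⊗[k] K)) = p :=
    le_antisymm hle (hpmin.2 ⟨Ideal.comap_isPrime _ _, bot_le⟩ hle)
  haveI := hq
  haveI := h q (heq ▸ hpmin)
  have h0 : algebraMap (R ⊗[k] K) (Localization.AtPrime q) n = 0 := (hn.map _).eq_zero
  rw [IsLocalization.map_eq_zero_iff q.primeCompl] at h0
  obtain ⟨t, ht⟩ := h0
  apply t.2
  apply hIq
  exact (Submodule.mem_annihilator_span_singleton n _).mpr (by simpa [smul_eq_mul] using ht)

theorem geometricallyReduced_of_forall_bc {k : Type u} [Field k] {X : Scheme.{u}}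
    (f : X ⟶ Spec (CommRingCat.of k))
    (h : ∀ (K : Type u) [Field K] [Algebra k K],
      AlgebraicGeometry.IsReduced (Groth.Agent.S2502.bc f K)) : GeometricallyReduced f := by
  constructor
  intro K _ y Z fst snd hZ
  obtain ⟨a, rfl⟩ : ∃ a, Spec.map a = y := ⟨Spec.preimage y, Spec.map_preimage y⟩
  letI : Algebra k K := a.hom.toAlgebra
  haveI : AlgebraicGeometry.IsReduced (Groth.Agent.S2502.bc f K) := h K
  exact isReduced_of_isOpenImmersion hZ.isoPullback.hom

/-- minimal primes of the local ring give generic points of irreducible components -/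
theorem closure_fromSpecStalk_mem_irreducibleComponents {X : Scheme.{u}} (x : X)
    (p : PrimeSpectrum (X.presheaf.stalk x)) (hp : p.asIdeal ∈ minimalPrimes (X.presheaf.stalk x)) :
    closure {X.fromSpecStalk x p} ∈ irreducibleComponents (X : Type u) := by
  set η := X.fromSpecStalk x p with hη
  have hirr : IsIrreducible (closure ({η} : Set X)) := isIrreducible_singleton.closure
  refine ⟨hirr, ?_⟩
  intro Z' hZ' hle
  have hZc : IsIrreducible (closure Z') := hZ'.closure
  obtain ⟨η', hη'⟩ := QuasiSober.sober hZc isClosed_closure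
  have h1 : η' ⤳ η := by
    rw [specializes_iff_mem_closure, hη'.def]
    exact subset_closure (hle (subset_closure rfl))
  have h2 : η ⤳ x := by
    have : η ∈ Set.range (X.fromSpecStalk x) := ⟨p, rfl⟩
    rw [Scheme.range_fromSpecStalk] at this
    exact this
  obtain ⟨p', hp'⟩ : η' ∈ Set.range (X.fromSpecStalk x) := by
    rw [Scheme.range_fromSpecStalk]
    exact h1.trans h2
  have h3 : p' ⤳ p := by
    rw [← (X.fromSpecStalk x).isEmbedding.isInducing.specializes_iff, hp']
    exact h1
  have h4 : p'.asIdeal ≤ p.asIdeal := (PrimeSpectrum.le_iff_specializes p' p).mpr h3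
  have h5 : p.asIdeal ≤ p'.asIdeal := hp.2 ⟨p'.isPrime, bot_le⟩ h4
  have h6 : p' = p := PrimeSpectrum.ext (le_antisymm h4 h5)
  have h7 : η' = η := by rw [← hp', h6]
  intro z hz
  have : z ∈ closure Z' := subset_closure hz
  rw [← hη'.def, h7] at this
  exact this

theorem main (k : Type u) [Field k] (X : Scheme.{u}) [X.Over (Spec (CommRingCat.of k))] [IsReduced X]
    (h : ∀ Z ∈ irreducibleComponents (X : Type u), ∀ η : X, IsGenericPoint η Z → Curv2.IsGeomReducedAt k X η) :
    GeometricallyReduced (X ↘ (Spec (CommRingCat.of k))) := by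
  apply geometricallyReduced_of_forall_bc
  intro K _ _
  haveI : ∀ x'' : ↥(Groth.Agent.S2502.bc (X ↘ (Spec (CommRingCat.of k))) K),
      _root_.IsReduced ((Groth.Agent.S2502.bc (X ↘ (Spec (CommRingCat.of k))) K).presheaf.stalk x'') := by
    intro x''
    set x := Groth.Agent.S2502.bcπ (X ↘ (Spec (CommRingCat.of k))) K x'' with hx
    letI := Curv2.stalkAlgebra k X x
    haveI : _root_.IsReduced (X.presheaf.stalk x ⊗[k] K) := by
      apply isReduced_tensor_of_minimalPrimes
      intro q hq hmin
      obtain ⟨x3, hx3, ⟨e⟩⟩ := Groth.Agent.S1541.exists_point_stalk_equiv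
        (X ↘ (Spec (CommRingCat.of k))) x (Groth.Agent.S1560.specMap_stalkMap k X x) ⟨q, hq⟩
      have hcomp := closure_fromSpecStalk_mem_irreducibleComponents x
        (PrimeSpectrum.comap (algebraMap (X.presheaf.stalk x) (X.presheaf.stalk x ⊗[k] K)) ⟨q, hq⟩) hmin
      have hgr := h _ hcomp _ rfl
      haveI := hgr K x3 hx3
      exact isReduced_of_injective e.symm.toRingHom e.symm.injective
    refine Groth.Agent.S1560.isReduced_stalk_of_isReduced_tensor (X ↘ Spec (CommRingCat.of k)) x
      (Groth.Agent.S1560.specMap_stalkMap k X x) x'' (IsLocalRing.closedPoint _) ?_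
    rw [Scheme.fromSpecStalk_closedPoint]
  exact isReduced_of_isReduced_stalk _


end


/-- A reduced scheme over k which is geometrically reduced at every generic point of an irreducible
component is geometrically reduced over k. -/
theorem result (k : Type u) [Field k] (X : Scheme.{u}) [X.Over (Spec (CommRingCat.of k))] [IsReduced X]
    (h : ∀ Z ∈ irreducibleComponents (X : Type u), ∀ η : X, IsGenericPoint η Z → Curv2.IsGeomReducedAt k X η) :
    GeometricallyReduced (X ↘ (Spec (CommRingCat.of k))) := by
  classical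
  exact main k X h

end Groth.Agent.S1543
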