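import Groth.Statements.S15573
import Mathlib

set_option autoImplicit false
universe u v
open RInv

namespace Groth.Agent.S15573

section


theorem main (S : Type u) (R : Type v) [CommRing S] [CommRing R]
    [Algebra S R] (lam : R ≃+* R) (hlam : Function.Involutive lam) (hS : RInv.IsFixedRing S R lam)
    (h : ∃ r : R, IsUnit (r - lam r)) : RInv.IsQuadEtale S R := by
  obtain ⟨hinj, hfix⟩ := hS
  obtain ⟨r, hu⟩ := h
  obtain ⟨u, hu'⟩ := hu
  have hlu : lam (u : R) = -(u : R) := by rw [hu', map_sub, hlam r]; ring
  have hluinv : lam ((u⁻¹ : Rˣ) : R) = -((u⁻¹ : Rˣ) : R) := by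
    have h1 : lam ((u⁻¹ : Rˣ) : R) * lam (u : R) = 1 := by rw [← map_mul, Units.inv_mul, map_one]
    rw [hlu] at h1
    have h2 : -lam ((u⁻¹ : Rˣ) : R) * (u : R) = 1 := by rw [← h1]; ring
    calc lam ((u⁻¹ : Rˣ) : R) = -(-lam ((u⁻¹ : Rˣ) : R) * (u : R) * ((u⁻¹ : Rˣ) : R)) := by
          rw [mul_assoc, Units.mul_inv, mul_one, neg_neg]
      _ = -((u⁻¹ : Rˣ) : R) := by rw [h2, one_mul]
  -- decomposition
  have hdec : ∀ x : R, ∃ a b : S, x = algebraMap S R a + algebraMap S R b * r := by
    intro x
    have hb : lam ((x - lam x) * ((u⁻¹ : Rˣ) : R)) = (x - lam x) * ((u⁻¹ : Rˣ) : R) := by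
      rw [map_mul, map_sub, hlam x, hluinv]; ring
    obtain ⟨b, hb'⟩ := (hfix _).mp hb
    have ha : lam (x - algebraMap S R b * r) = x - algebraMap S R b * r := by
      have hfb : lam (algebraMap S R b) = algebraMap S R b := (hfix _).mpr ⟨b, rfl⟩
      rw [map_sub, map_mul, hfb]
      have : algebraMap S R b * (r - lam r) = x - lam x := by
        rw [hb', ← hu', mul_assoc, Units.inv_mul, mul_one]
      linear_combination this
    obtain ⟨a, ha'⟩ := (hfix _).mp ha
    exact ⟨a, b, by rw [ha']; ring⟩
  have huniq : ∀ a b : S, algebraMap S R a + algebraMap S R b * r = 0 → a = 0 ∧ b = 0 := by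
    intro a b hab
    have hfa : lam (algebraMap S R a) = algebraMap S R a := (hfix _).mpr ⟨a, rfl⟩
    have hfb : lam (algebraMap S R b) = algebraMap S R b := (hfix _).mpr ⟨b, rfl⟩
    have h2 := congrArg lam hab
    rw [map_add, map_mul, map_zero, hfa, hfb] at h2
    have h3 : algebraMap S R b * (u : R) = 0 := by rw [hu']; linear_combination hab - h2
    have hb0 : algebraMap S R b = 0 := by
      have := congrArg (· * ((u⁻¹ : Rˣ) : R)) h3
      simpa [mul_assoc] using this
    have hb : b = 0 := hinj (by rw [hb0, map_zero])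
    refine ⟨hinj ?_, hb⟩
    rw [hb0, zero_mul, add_zero] at hab
    rw [hab, map_zero]
  -- basis
  let v : Fin 2 → R := ![1, r]
  have hli : LinearIndependent S v := by
    rw [Fintype.linearIndependent_iff]
    intro g hg
    rw [Fin.sum_univ_two] at hg
    simp only [v, Matrix.cons_val_zero, Matrix.cons_val_one, Algebra.smul_def, mul_one] at hg
    obtain ⟨h0, h1⟩ := huniq _ _ hg
    intro i
    fin_cases i
    · exact h0
    · exact h1
  have hsp : ⊤ ≤ Submodule.span S (Set.range v) := by
    intro x _
    obtain ⟨a, b, rfl⟩ := hdec x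
    apply add_mem
    · rw [← mul_one (algebraMap S R a), ← Algebra.smul_def]
      exact Submodule.smul_mem _ _ (Submodule.subset_span ⟨0, rfl⟩)
    · rw [← Algebra.smul_def]
      exact Submodule.smul_mem _ _ (Submodule.subset_span ⟨1, rfl⟩)
  let bas : Module.Basis (Fin 2) S R := Module.Basis.mk hli hsp
  haveI : Module.Free S R := Module.Free.of_basis bas
  haveI : Module.Finite S R := Module.Finite.of_basis bas
  refine ⟨inferInstance, inferInstance, ⟨?_⟩, ?_⟩
  · -- Ω = 0
    have hDr : KaehlerDifferential.D S R r = 0 := by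
      obtain ⟨t₀, ht₀⟩ := (hfix (r + lam r)).mp (by rw [map_add, hlam r, add_comm])
      obtain ⟨n₀, hn₀⟩ := (hfix (r * lam r)).mp (by rw [map_mul, hlam r, mul_comm])
      have hrel : r * r - algebraMap S R t₀ * r + algebraMap S R n₀ = 0 := by
        rw [ht₀, hn₀]; ring
      have hD := congrArg (KaehlerDifferential.D S R) hrel
      rw [map_add, map_sub, Derivation.leibniz, Derivation.leibniz, Derivation.map_algebraMap,
        Derivation.map_algebraMap, map_zero, smul_zero, add_zero, add_zero, ← add_smul, ← sub_smul] at hD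
      have : r + r - algebraMap S R t₀ = (u : R) := by rw [ht₀, hu']; ring
      rw [this] at hD
      exact (u.isUnit.smul_eq_zero).mp hD
    rw [subsingleton_iff_forall_eq 0]
    intro ω
    have hω : ω ∈ Submodule.span R (Set.range (KaehlerDifferential.D S R)) := by
      rw [KaehlerDifferential.span_range_derivation]; trivial
    induction hω using Submodule.span_induction with
    | mem ω hω =>
      obtain ⟨x, rfl⟩ := hω
      obtain ⟨a, b, rfl⟩ := hdec x
      rw [map_add, Derivation.leibniz, Derivation.map_algebraMap, Derivation.map_algebraMap, hDr]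
      simp
    | zero => rfl
    | add a b _ _ ha hb => rw [ha, hb, add_zero]
    | smul c a _ ha => rw [ha, smul_zero]
  · intro p
    haveI : Nontrivial S := PrimeSpectrum.nonempty_iff_nontrivial.mp ⟨p⟩
    rw [Module.rankAtStalk_eq_finrank_of_free, Module.finrank_eq_card_basis bas]
    simp


end


/-- Let `R` be a commutative ring with an involution `lam` and let `S` be its fixed ring. If there is an
element `r` of `R` such that `r - lam r` is a unit, then `R` is a quadratic etale `S`-algebra. -/
theorem result (S : Type u) (R : Type v) [CommRing S] [CommRing R]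
    [Algebra S R] (lam : R ≃+* R) (hlam : Function.Involutive lam) (hS : RInv.IsFixedRing S R lam)
    (h : ∃ r : R, IsUnit (r - lam r)) : RInv.IsQuadEtale S R := by
  classical
  exact main S R lam hlam hS h

end Groth.Agent.S15573
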