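import Groth.Statements.S15586
import Mathlib

set_option autoImplicit false
universe u v w
open scoped TensorProduct
open RInv

namespace Groth.Agent.S15586

section
open scoped TensorProduct

theorem main (S : Type u) (R : Type v) (S' : Type w)
    [CommRing S] [CommRing R] [Algebra S R] [CommRing S'] [Algebra S S']
    (lam : R ≃ₐ[S] R) (hlam : Function.Involutive lam)
    (hS : RInv.IsFixedRing S R lam.toRingEquiv)
    (h : Module.Flat S S' ∨ IsUnit (2 : S)) :
    RInv.IsFixedRing S' (S' ⊗[S] R)
      (Algebra.TensorProduct.congr (AlgEquiv.refl : S' ≃ₐ[S] S') lam).toRingEquiv := by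
  obtain ⟨hinj, hfix⟩ := hS
  have hfix' : ∀ r : R, lam r = r ↔ r ∈ Set.range (algebraMap S R) := hfix
  let ι : S →ₗ[S] R := Algebra.linearMap S R
  let δ : R →ₗ[S] R := lam.toLinearMap - LinearMap.id
  have hΛ : ∀ z : S' ⊗[S] R,
      (Algebra.TensorProduct.congr (AlgEquiv.refl : S' ≃ₐ[S] S') lam).toRingEquiv z - z =
        δ.lTensor S' z := by
    intro z
    induction z using TensorProduct.induction_on with
    | zero => simp
    | tmul a b => simp [δ, TensorProduct.tmul_sub]
    | add a b ha hb =>
      rw [map_add, map_add, ← ha, ← hb]; abel
  have halg : ∀ s' : S', algebraMap S' (S' ⊗[S] R) s' = ι.lTensor S' (s' ⊗ₜ[S] (1 : S)) := by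
    intro s'
    simp [ι, Algebra.TensorProduct.algebraMap_apply]
  have hback : ∀ s' : S', (Algebra.TensorProduct.congr (AlgEquiv.refl : S' ≃ₐ[S] S') lam).toRingEquiv
      (algebraMap S' (S' ⊗[S] R) s') = algebraMap S' (S' ⊗[S] R) s' := by
    intro s'
    simp [Algebra.TensorProduct.algebraMap_apply]
  have hyS : ∀ y : S' ⊗[S] S, y = (TensorProduct.rid S S' y) ⊗ₜ[S] (1 : S) := by
    intro y
    apply (TensorProduct.rid S S').injective
    simp
  rcases h with hflat | h2
  · -- flat case
    have hex : Function.Exact ι δ := by
      intro x
      constructor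
      · intro hx
        have : lam x = x := by
          have : lam x - x = 0 := hx
          exact sub_eq_zero.mp this
        exact (hfix' x).mp this
      · rintro ⟨s, rfl⟩
        have : lam (algebraMap S R s) = algebraMap S R s := (hfix' _).mpr ⟨s, rfl⟩
        change lam (algebraMap S R s) - algebraMap S R s = 0
        rw [this, sub_self]
    have hex' := Module.Flat.lTensor_exact S' hex
    have hinj' := Module.Flat.lTensor_preserves_injective_linearMap (M := S') ι hinj
    constructor
    · intro a b hab
      rw [halg, halg] at hab
      have := hinj' hab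
      have h2 := congrArg (TensorProduct.rid S S') this
      simpa using h2
    · intro z
      constructor
      · intro hz
        have hz0 : δ.lTensor S' z = 0 := by rw [← hΛ, hz, sub_self]
        obtain ⟨y, rfl⟩ := (hex' z).mp hz0
        refine ⟨TensorProduct.rid S S' y, ?_⟩
        rw [halg, ← hyS]
      · rintro ⟨s', rfl⟩
        exact hback s'
  · -- 2 invertible
    obtain ⟨c, hc⟩ := h2.exists_right_inv
    let ρ : R →ₗ[S] R := c • (LinearMap.id + lam.toLinearMap)
    have hρ : ∀ x, ρ x = c • (x + lam x) := fun x => rfl
    have hρrange : ∀ x, ρ x ∈ LinearMap.range ι := by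
      intro x
      have : lam (x + lam x) = x + lam x := by rw [map_add, hlam x, add_comm]
      obtain ⟨s, hs⟩ := (hfix' _).mp this
      exact ⟨c * s, by simp [ι, hρ, ← hs, Algebra.smul_def]⟩
    have hρι : ∀ s, ρ (ι s) = ι s := by
      intro s
      have : lam (algebraMap S R s) = algebraMap S R s := (hfix' _).mpr ⟨s, rfl⟩
      simp only [hρ, ι, Algebra.linearMap_apply, this]
      rw [← two_smul S, smul_smul, mul_comm, hc, one_smul]
    let π : R →ₗ[S] S :=
      (LinearEquiv.ofInjective ι hinj).symm.toLinearMap ∘ₗ (ρ.codRestrict (LinearMap.range ι) hρrange)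
    have hπι : ∀ s, π (ι s) = s := by
      intro s
      simp only [π, LinearMap.comp_apply, LinearEquiv.coe_coe]
      apply (LinearEquiv.ofInjective ι hinj).injective
      rw [LinearEquiv.apply_symm_apply]
      apply Subtype.ext
      simp only [LinearMap.codRestrict_apply, hρι]
      rfl
    constructor
    · intro a b hab
      rw [halg, halg] at hab
      have h3 := congrArg (fun z => TensorProduct.rid S S' (π.lTensor S' z)) hab
      simp only [LinearMap.lTensor_tmul, TensorProduct.rid_tmul] at h3
      rw [hπι] at h3
      simpa using h3
    · intro z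
      constructor
      · intro hz
        have hz2 : z = ρ.lTensor S' z := by
          have h4 : ∀ z : S' ⊗[S] R, ρ.lTensor S' z = c • (z +
              (Algebra.TensorProduct.congr (AlgEquiv.refl : S' ≃ₐ[S] S') lam).toRingEquiv z) := by
            intro z
            induction z using TensorProduct.induction_on with
            | zero => simp
            | tmul a b => simp [hρ, TensorProduct.tmul_add, TensorProduct.tmul_smul]
            | add a b ha hb => rw [map_add, map_add, ha, hb]; simp only [smul_add]; abel
          rw [h4, hz, ← two_smul S z, smul_smul, mul_comm, hc, one_smul]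
        rw [hz2]
        generalize z = z'
        induction z' using TensorProduct.induction_on with
        | zero => exact ⟨0, by simp⟩
        | tmul a b =>
          obtain ⟨t, ht⟩ := hρrange b
          refine ⟨t • a, ?_⟩
          rw [LinearMap.lTensor_tmul, ← ht, Algebra.TensorProduct.algebraMap_apply,
            Algebra.algebraMap_self_apply, TensorProduct.smul_tmul]
          simp [ι, Algebra.algebraMap_eq_smul_one]
        | add a b ha hb =>
          obtain ⟨x, hx⟩ := ha
          obtain ⟨y, hy⟩ := hb
          exact ⟨x + y, by rw [map_add, map_add, hx, hy]⟩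
      · rintro ⟨s', rfl⟩
        exact hback s'


end


/-- Let `R` be a commutative ring with an involution `lam` and fixed ring `S`, and let `S'` be a
commutative `S`-algebra. If `S'` is flat over `S`, or if `2` is invertible in `S`, then `S'` is the
fixed ring of the base-changed involution `id ⊗ lam` of `S' ⊗_S R`: the structure map `S' → S' ⊗_S
R` is injective with image the fixed elements. (In general the fixed ring does not commute with base
change.) -/
theorem result (S : Type u) (R : Type v) (S' : Type w)
    [CommRing S] [CommRing R] [Algebra S R] [CommRing S'] [Algebra S S']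
    (lam : R ≃ₐ[S] R) (hlam : Function.Involutive lam)
    (hS : RInv.IsFixedRing S R lam.toRingEquiv)
    (h : Module.Flat S S' ∨ IsUnit (2 : S)) :
    RInv.IsFixedRing S' (S' ⊗[S] R)
      (Algebra.TensorProduct.congr (AlgEquiv.refl : S' ≃ₐ[S] S') lam).toRingEquiv := by
  classical
  exact main S R S' lam hlam hS h

end Groth.Agent.S15586
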