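import Groth.Statements.S15577
import Mathlib

set_option autoImplicit false
universe u v
open RInv

namespace Groth.Agent.S15577

section
open TensorProduct

section
variable (S : Type u) (R : Type v) [CommRing S] [CommRing R]
    [Algebra S R] (lam : R ≃+* R) (hlam : Function.Involutive lam) (hS : RInv.IsFixedRing S R lam)
include hlam hS

lemma isIntegral_of_inv : Algebra.IsIntegral S R := by
  obtain ⟨hinj, hfix⟩ := hS
  refine ⟨fun x => ?_⟩
  obtain ⟨t₀, ht₀⟩ := (hfix (x + lam x)).mp (by rw [map_add, hlam x, add_comm])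
  obtain ⟨n₀, hn₀⟩ := (hfix (x * lam x)).mp (by rw [map_mul, hlam x, mul_comm])
  refine ⟨Polynomial.X ^ 2 - Polynomial.C t₀ * Polynomial.X + Polynomial.C n₀, ?_, ?_⟩
  · have : (Polynomial.X ^ 2 - Polynomial.C t₀ * Polynomial.X + Polynomial.C n₀ : Polynomial S) =
        Polynomial.X ^ 2 + (- Polynomial.C t₀ * Polynomial.X + Polynomial.C n₀) := by ring
    rw [this]
    apply Polynomial.monic_X_pow_add
    refine lt_of_le_of_lt (Polynomial.degree_add_le _ _) ?_
    rw [max_lt_iff]
    constructor
    · refine lt_of_le_of_lt (Polynomial.degree_mul_le _ _) ?_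
      rw [← Polynomial.C_neg]
      refine lt_of_le_of_lt (add_le_add Polynomial.degree_C_le Polynomial.degree_X_le) ?_
      decide
    · exact lt_of_le_of_lt Polynomial.degree_C_le (by decide)
  · simp only [Polynomial.eval₂_add, Polynomial.eval₂_sub, Polynomial.eval₂_mul, Polynomial.eval₂_pow,
      Polynomial.eval₂_X, Polynomial.eval₂_C, ht₀, hn₀]
    ring

lemma mem_jacobson_of_sq [IsLocalRing S] (d : R) (s : S) (hs : s ∈ IsLocalRing.maximalIdeal S)
    (hd : d * d = algebraMap S R s) : d ∈ Ring.jacobson R := by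
  haveI := isIntegral_of_inv S R lam hlam hS
  rw [← Ideal.jacobson_bot, Ideal.jacobson, Ideal.mem_sInf]
  rintro M ⟨-, hM⟩
  haveI := hM
  have hmax : (M.comap (algebraMap S R)).IsMaximal :=
    Ideal.isMaximal_comap_of_isIntegral_of_isMaximal M
  have heq := IsLocalRing.eq_maximalIdeal hmax
  have : algebraMap S R s ∈ M := by
    rw [← Ideal.mem_comap, heq]; exact hs
  rw [← hd] at this
  exact (hM.isPrime.mem_or_mem this).elim id id

end


section
variable (S : Type u) (R : Type v) [CommRing S] [CommRing R] [Algebra S R]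

lemma lam_eq_id [Module.Finite S R] [Algebra.FormallyUnramified S R]
    (lam : R ≃+* R) (hfix : ∀ s : S, lam (algebraMap S R s) = algebraMap S R s)
    (hJ : ∀ y : R, lam y - y ∈ Ring.jacobson R) : ∀ x, lam x = x := by
  let lamA : R →ₐ[S] R := { lam.toRingHom with commutes' := hfix }
  let ψ : R ⊗[S] R →ₐ[S] R :=
    Algebra.TensorProduct.lift (AlgHom.id S R) lamA (fun _ _ => Commute.all _ _)
  have hψ : ∀ x y : R, ψ (x ⊗ₜ[S] y) = x * lam y := by
    intro x y
    simp [ψ, lamA]
  have h1 : ∀ z : R ⊗[S] R, ψ z - Algebra.TensorProduct.lmul' S z ∈ Ring.jacobson R := by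
    intro z
    induction z using TensorProduct.induction_on with
    | zero => simp
    | tmul x y =>
      rw [hψ, Algebra.TensorProduct.lmul'_apply_tmul, ← mul_sub]
      exact Ideal.mul_mem_left _ _ (hJ y)
    | add a b ha hb =>
      rw [map_add, map_add, add_sub_add_comm]
      exact add_mem ha hb
  have hε : IsUnit (ψ (Algebra.FormallyUnramified.elem S R)) := by
    have h2 := h1 (Algebra.FormallyUnramified.elem S R)
    rw [Algebra.FormallyUnramified.lmul_elem, ← Ideal.jacobson_bot, Ideal.mem_jacobson_bot] at h2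
    have := h2 1
    rwa [mul_one, sub_add_cancel] at this
  intro x
  have h2 := congrArg ψ (Algebra.FormallyUnramified.one_tmul_sub_tmul_one_mul_elem (R := S) (S := R) x)
  rw [map_mul, map_sub, map_zero, hψ, hψ, map_one, one_mul, mul_one] at h2
  exact sub_eq_zero.mp (hε.mul_left_eq_zero.mp h2)

lemma not_quad_of_lam_eq_id (lam : R ≃+* R) (hS : RInv.IsFixedRing S R lam) [Nontrivial S]
    (hid : ∀ x, lam x = x) : ¬ RInv.IsQuadEtale S R := by
  intro hq
  obtain ⟨hinj, hfix⟩ := hS
  have hsurj : Function.Surjective (algebraMap S R) := fun x => (hfix x).mp (hid x)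
  let e : S ≃ₗ[S] R := LinearEquiv.ofBijective (Algebra.linearMap S R) ⟨hinj, hsurj⟩
  obtain ⟨p⟩ := (PrimeSpectrum.nonempty_iff_nontrivial (R := S)).mpr inferInstance
  have h2 := hq.2.2.2 p
  rw [← Module.rankAtStalk_eq_of_equiv e, Module.rankAtStalk_self] at h2
  simp at h2

end

theorem main (S : Type u) (R : Type v) [CommRing S] [CommRing R]
    [Algebra S R] (lam : R ≃+* R) (hlam : Function.Involutive lam) (hS : RInv.IsFixedRing S R lam)
    [IsLocalRing S] (h : ∀ r : R, lam r - r ∈ Ring.jacobson R) :
    IsLocalRing R ∧ ¬ RInv.IsQuadEtale S R := by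
  have hfixS : ∀ s : S, lam (algebraMap S R s) = algebraMap S R s := fun s => (hS.2 _).mpr ⟨s, rfl⟩
  constructor
  · haveI : Nontrivial R := hS.1.nontrivial
    have hJtop : (1 : R) ∉ Ring.jacobson R := by
      intro h1
      rw [← Ideal.jacobson_bot, Ideal.mem_jacobson_bot] at h1
      have := h1 (-1)
      simp at this
    have hnonunit : ∀ r : R, ¬ IsUnit r → r ∈ Ring.jacobson R := by
      intro r hr
      obtain ⟨n₀, hn₀⟩ := (hS.2 (r * lam r)).mp (by rw [map_mul, hlam r, mul_comm])
      have hn₀m : n₀ ∈ IsLocalRing.maximalIdeal S := by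
        rw [IsLocalRing.mem_maximalIdeal, mem_nonunits_iff]
        intro hu
        apply hr
        have : IsUnit (r * lam r) := by rw [← hn₀]; exact hu.map _
        exact isUnit_of_mul_isUnit_left this
      -- r * r ∈ J
      haveI := isIntegral_of_inv S R lam hlam hS
      rw [← Ideal.jacobson_bot, Ideal.jacobson, Ideal.mem_sInf]
      rintro M ⟨-, hM⟩
      haveI := hM
      have hmax : (M.comap (algebraMap S R)).IsMaximal :=
        Ideal.isMaximal_comap_of_isIntegral_of_isMaximal M
      have heq := IsLocalRing.eq_maximalIdeal hmax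
      have h1 : r * lam r ∈ M := by
        rw [← hn₀, ← Ideal.mem_comap, heq]; exact hn₀m
      have h2 : lam r - r ∈ M := by
        have := h r
        rw [← Ideal.jacobson_bot, Ideal.jacobson, Ideal.mem_sInf] at this
        exact this ⟨bot_le, hM⟩
      have h3 : r * r ∈ M := by
        have : r * r = r * lam r - r * (lam r - r) := by ring
        rw [this]
        exact sub_mem h1 (Ideal.mul_mem_left _ _ h2)
      exact (hM.isPrime.mem_or_mem h3).elim id id
    apply IsLocalRing.of_nonunits_add
    intro a b ha hb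
    have hab : a + b ∈ Ring.jacobson R := add_mem (hnonunit a ha) (hnonunit b hb)
    intro hu
    apply hJtop
    obtain ⟨c, hc⟩ := hu.exists_right_inv
    rw [← hc]
    exact Ideal.mul_mem_right _ _ hab
  · intro hq
    haveI : Module.Finite S R := hq.1
    haveI : Algebra.FormallyUnramified S R := hq.2.2.1
    exact not_quad_of_lam_eq_id S R lam hS (lam_eq_id S R lam hfixS h) hq

theorem main74 (S : Type u) (R : Type v) [CommRing S] [CommRing R]
    [Algebra S R] (lam : R ≃+* R) (hlam : Function.Involutive lam) (hS : RInv.IsFixedRing S R lam)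
    [IsLocalRing S] (hq : RInv.IsQuadEtale S R) : ∃ r : R, IsUnit (r - lam r) := by
  by_contra hcon
  simp only [not_exists] at hcon
  have hfixS : ∀ s : S, lam (algebraMap S R s) = algebraMap S R s := fun s => (hS.2 _).mpr ⟨s, rfl⟩
  have hJ : ∀ r : R, lam r - r ∈ Ring.jacobson R := by
    intro r
    set d := lam r - r with hd
    have hld : lam d = -d := by rw [hd, map_sub, hlam r]; ring
    obtain ⟨s, hs⟩ := (hS.2 (d * d)).mp (by rw [map_mul, hld]; ring)
    apply mem_jacobson_of_sq S R lam hlam hS d s _ hs.symm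
    rw [IsLocalRing.mem_maximalIdeal, mem_nonunits_iff]
    intro hsu
    have hdu : IsUnit d := by
      have : IsUnit (d * d) := by rw [← hs]; exact hsu.map _
      exact isUnit_of_mul_isUnit_left this
    apply hcon r
    have : r - lam r = -d := by rw [hd]; ring
    rw [this]
    exact hdu.neg
  haveI : Module.Finite S R := hq.1
  haveI : Algebra.FormallyUnramified S R := hq.2.2.1
  exact not_quad_of_lam_eq_id S R lam hS (lam_eq_id S R lam hfixS hJ) hq


end


/-- Let `R` be a commutative ring with an involution `lam` whose fixed ring `S` is local. If `lam`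
induces the identity on `R` modulo its Jacobson radical, then `R` is a local ring and is not a
quadratic etale `S`-algebra. -/
theorem result (S : Type u) (R : Type v) [CommRing S] [CommRing R]
    [Algebra S R] (lam : R ≃+* R) (hlam : Function.Involutive lam) (hS : RInv.IsFixedRing S R lam)
    [IsLocalRing S] (h : ∀ r : R, lam r - r ∈ Ring.jacobson R) :
    IsLocalRing R ∧ ¬ RInv.IsQuadEtale S R := by
  classical
  exact main S R lam hlam hS h

end Groth.Agent.S15577
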