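import Groth.Statements.S19747
import Mathlib
import Groth.Prelude.Def_GrSeg
import Groth.Prelude.Def_GrLC
import Groth.Agent.Lib.Helper9.Segre.Basic
import Groth.Agent.Lib.Helper9.Segre.Gen
-- import your own Groth.Agent.* helpers here

set_option autoImplicit false
universe u
open scoped TensorProduct
open GrSegre

namespace Groth.Agent.S19747

open scoped TensorProduct
open DirectSum
namespace Aux
open Groth.Agent.Helper9.GrLCLib Groth.Agent.Helper9.SegreLib

/-- Dickson's lemma in the form needed: minimal elements of a subset of a well-quasi-order -/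
lemma dickson {α : Type*} [PartialOrder α] [WellQuasiOrderedLE α] (Λ : Set α) :
    {z | Minimal (· ∈ Λ) z}.Finite ∧ ∀ z ∈ Λ, ∃ z₀, Minimal (· ∈ Λ) z₀ ∧ z₀ ≤ z := by
  constructor
  · apply WellQuasiOrderedLE.finite_of_isAntichain
    intro z hz z' hz' hne hle
    exact hne (le_antisymm hle (hz'.2 hz.1 hle))
  · intro z hz
    have hwf : WellFounded ((· < ·) : α → α → Prop) := wellFounded_lt
    obtain ⟨z₀, ⟨hz₀Λ, hz₀z⟩, hmin⟩ := hwf.has_min {z' | z' ∈ Λ ∧ z' ≤ z} ⟨z, hz, le_rfl⟩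
    refine ⟨z₀, ⟨hz₀Λ, fun z' hz' hle => ?_⟩, hz₀z⟩
    by_contra hnle
    exact hmin z' ⟨hz', hle.trans hz₀z⟩ (lt_of_le_not_ge hle hnle)

/-- homogeneous module generators indexed by `Fin` -/
lemma exists_homog_mod_generators {R : Type u} [CommRing R] (𝒜 : ℤ → AddSubgroup R) [GradedRing 𝒜]
    {M : Type u} [AddCommGroup M] [Module R M] (ℳ : ℤ → AddSubgroup M) [DirectSum.Decomposition ℳ]
    [SetLike.GradedSMul 𝒜 ℳ] [Module.Finite R M] :
    ∃ (t : ℕ) (u : Fin t → M) (c : Fin t → ℤ), (∀ l, u l ∈ ℳ (c l)) ∧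
      Submodule.span R (Set.range u) = ⊤ := by
  classical
  obtain ⟨T, hT, hspan⟩ := exists_homog_generators (R := R) ℳ ⊤
    (fun k x _ => Submodule.mem_top) Module.Finite.fg_top
  choose! deg hdeg using hT
  refine ⟨T.card, fun i => (T.equivFin.symm i : M), fun i => deg (T.equivFin.symm i : M),
    fun i => hdeg _ (T.equivFin.symm i).2, ?_⟩
  rw [eq_top_iff, ← hspan]
  apply Submodule.span_mono
  intro s hs
  exact ⟨T.equivFin ⟨s, hs⟩, by simp⟩

theorem main (k : Type u) [Field k] (R : Type u) [CommRing R] [Algebra k R] (𝒜 : ℤ → Submodule k R) [GradedAlgebra 𝒜] (hposR : ∀ n : ℤ, n < 0 → 𝒜 n = ⊥) (h0R : 𝒜 0 = Submodule.span k {(1 : R)}) [Algebra.FiniteType k R] (S : Type u) [CommRing S] [Algebra k S] (ℬ : ℤ → Submodule k S) [GradedAlgebra ℬ] (hposS : ∀ n : ℤ, n < 0 → ℬ n = ⊥) (h0S : ℬ 0 = Submodule.span k {(1 : S)}) [Algebra.FiniteType k S] (T : Type u) [CommRing T] [Algebra k T] (𝒯 : ℤ → Submodule k T) [GradedAlgebra 𝒯] (ψ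 : T →ₐ[k] TensorProduct k R S) (hT : GrSeg.IsSegreRing 𝒜 ℬ 𝒯 ψ) (M : Type u) [AddCommGroup M] [Module R M] [Module k M] [IsScalarTower k R M] (ℳ : ℤ → AddSubgroup M) [DirectSum.Decomposition ℳ] [SetLike.GradedSMul 𝒜 ℳ] [Module.Finite R M] (N : Type u) [AddCommGroup N] [Module S N] [Module k N] [IsScalarTower k S N] (𝒩 : ℤ → AddSubgroup N) [DirectSum.Decomposition 𝒩] [SetLike.GradedSMul ℬ 𝒩] [Module.Finite S N] (P : Type u) [AddCommGroup P] [Module T P] [Module k P] [IsScalarTower k T P] (𝒬 : ℤ → AddSubgroup P) [DirectSum.Decomposition 𝒬] (φ : P →ₗ[k] TensorProduct k M N) (hP : GrSeg.IsSegreMod ψ ℳ 𝒩 𝒬 φ) : Module.Finite T P := by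
  classical
  have hgsM := Trans.gsmulToAG' 𝒜 ℳ
  have hgsN := Trans.gsmulToAG' ℬ 𝒩
  obtain ⟨p, x, a, hx, hxgen⟩ := Gen.exists_homog_alg_generators (k := k) 𝒜
  obtain ⟨q, y, b, hy, hygen⟩ := Gen.exists_homog_alg_generators (k := k) ℬ
  obtain ⟨t, u, c, hu, huspan⟩ := exists_homog_mod_generators (Trans.toAG 𝒜) ℳ
  obtain ⟨t', v, d, hv, hvspan⟩ := exists_homog_mod_generators (Trans.toAG ℬ) 𝒩
  -- the sets of exponents
  let Λ : Fin t → Fin t' → Set ((Fin p → ℕ) × (Fin q → ℕ)) := fun l l' =>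
    {z | Gen.wt a z.1 + c l = Gen.wt b z.2 + d l'}
  have hdick := fun l l' => dickson (Λ l l')
  -- the finite set of tensors
  let F : Set (M ⊗[k] N) := ⋃ (l : Fin t), ⋃ (l' : Fin t'),
    (fun z : (Fin p → ℕ) × (Fin q → ℕ) => (Gen.mon x z.1 • u l) ⊗ₜ[k] (Gen.mon y z.2 • v l')) ''
      {z | Minimal (· ∈ Λ l l') z}
  have hF : F.Finite :=
    Set.finite_iUnion (fun l => Set.finite_iUnion (fun l' => ((hdick l l').1).image _))
  let Γ : Set P := φ ⁻¹' F
  have hΓ : Γ.Finite := hF.preimage (hP.injective.injOn)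
  refine ⟨(Submodule.fg_def).mpr ⟨Γ, hΓ, ?_⟩⟩
  set W : Submodule T P := Submodule.span T Γ with hW
  -- the key membership
  have h1 : ∀ (n : ℤ) (α : Fin p → ℕ) (l : Fin t) (β : Fin q → ℕ) (l' : Fin t'),
      Gen.wt a α + c l = n → Gen.wt b β + d l' = n →
      (Gen.mon x α • u l) ⊗ₜ[k] (Gen.mon y β • v l') ∈ (W.restrictScalars k).map φ := by
    intro n α l β l' hα hβ
    have hz : ((α, β) : (Fin p → ℕ) × (Fin q → ℕ)) ∈ Λ l l' := by
      change Gen.wt a α + c l = Gen.wt b β + d l'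
      rw [hα, hβ]
    obtain ⟨⟨α₀, β₀⟩, hz₀, hle⟩ := (hdick l l').2 _ hz
    have hα₀ : α₀ ≤ α := hle.1
    have hβ₀ : β₀ ≤ β := hle.2
    have hαe : α = (α - α₀) + α₀ := (tsub_add_cancel_of_le hα₀).symm
    have hβe : β = (β - β₀) + β₀ := (tsub_add_cancel_of_le hβ₀).symm
    have hz₀Λ : Gen.wt a α₀ + c l = Gen.wt b β₀ + d l' := hz₀.1
    have hwt : Gen.wt a (α - α₀) = Gen.wt b (β - β₀) := by
      have e1 : Gen.wt a α = Gen.wt a (α - α₀) + Gen.wt a α₀ := by
        conv_lhs => rw [hαe]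
        exact Gen.wt_add a _ _
      have e2 : Gen.wt b β = Gen.wt b (β - β₀) + Gen.wt b β₀ := by
        conv_lhs => rw [hβe]
        exact Gen.wt_add b _ _
      have hz' : Gen.wt a α + c l = Gen.wt b β + d l' := hz
      linarith
    -- the ring element
    have hm1 : Gen.mon x (α - α₀) ∈ 𝒜 (Gen.wt a (α - α₀)) := Gen.mon_mem 𝒜 x a hx _
    have hm2 : Gen.mon y (β - β₀) ∈ ℬ (Gen.wt a (α - α₀)) := by
      rw [hwt]; exact Gen.mon_mem ℬ y b hy _
    obtain ⟨τ, _, hτ⟩ := exists_ring_of_tmul hT hm1 hm2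
    -- the module element
    have hu0 : Gen.mon x α₀ • u l ∈ ℳ (Gen.wt a α₀ + c l) :=
      smul_mem_add (Trans.toAG 𝒜) ℳ (show Gen.mon x α₀ ∈ Trans.toAG 𝒜 _ from
        Gen.mon_mem 𝒜 x a hx α₀) (hu l)
    have hv0 : Gen.mon y β₀ • v l' ∈ 𝒩 (Gen.wt a α₀ + c l) := by
      rw [hz₀Λ]
      exact smul_mem_add (Trans.toAG ℬ) 𝒩 (show Gen.mon y β₀ ∈ Trans.toAG ℬ _ from
        Gen.mon_mem ℬ y b hy β₀) (hv l')
    obtain ⟨p₀, _, hp₀⟩ := exists_of_tmul hP hu0 hv0
    have hp₀Γ : p₀ ∈ Γ := by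
      change φ p₀ ∈ F
      rw [hp₀]
      exact Set.mem_iUnion.mpr ⟨l, Set.mem_iUnion.mpr ⟨l', ⟨(α₀, β₀), hz₀, rfl⟩⟩⟩
    refine Submodule.mem_map.mpr ⟨τ • p₀, ?_, ?_⟩
    · exact (Submodule.restrictScalars_mem k _ _).mpr
        (Submodule.smul_mem _ τ (Submodule.subset_span hp₀Γ))
    · rw [hP.map_smul, hτ, hp₀, GrSeg.act_tmul, smul_smul, smul_smul, ← Gen.mon_add, ← Gen.mon_add,
        ← hαe, ← hβe]
  have h2 : ∀ (n : ℤ) (m : M), m ∈ ℳ n → ∀ (β : Fin q → ℕ) (l' : Fin t'), Gen.wt b β + d l' = n →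
      m ⊗ₜ[k] (Gen.mon y β • v l') ∈ (W.restrictScalars k).map φ := by
    intro n m hm β l' hβ
    have hm' := Gen.mem_span_mon_smul 𝒜 x a ℳ u c hx hu hxgen huspan n m hm
    have hle : Submodule.span k {m : M | ∃ (α : Fin p → ℕ) (l : Fin t),
        Gen.wt a α + c l = n ∧ m = Gen.mon x α • u l} ≤
        ((W.restrictScalars k).map φ).comap ((TensorProduct.mk k M N).flip (Gen.mon y β • v l')) := by
      rw [Submodule.span_le]
      rintro _ ⟨α, l, hα, rfl⟩
      exact h1 n α l β l' hα hβ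
    exact hle hm'
  have h3 : ∀ (n : ℤ) (m : M), m ∈ ℳ n → ∀ m' : N, m' ∈ 𝒩 n →
      m ⊗ₜ[k] m' ∈ (W.restrictScalars k).map φ := by
    intro n m hm m' hm'
    have hm'' := Gen.mem_span_mon_smul ℬ y b 𝒩 v d hy hv hygen hvspan n m' hm'
    have hle : Submodule.span k {m' : N | ∃ (β : Fin q → ℕ) (l' : Fin t'),
        Gen.wt b β + d l' = n ∧ m' = Gen.mon y β • v l'} ≤
        ((W.restrictScalars k).map φ).comap (TensorProduct.mk k M N m) := by
      rw [Submodule.span_le]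
      rintro _ ⟨β, l', hβ, rfl⟩
      exact h2 n m hm β l' hβ
    exact hle hm''
  rw [eq_top_iff]
  intro z _
  induction z using DirectSum.Decomposition.inductionOn 𝒬 with
  | zero => exact Submodule.zero_mem _
  | @homogeneous n z =>
    have hz := (mem_piece_iff hP n z).mp z.2
    have hle : GrSeg.segrePiece k ℳ 𝒩 n ≤ (W.restrictScalars k).map φ :=
      segrePiece_le ℳ 𝒩 _ (fun m hm m' hm' => h3 n m hm m' hm')
    obtain ⟨z', hz', he⟩ := Submodule.mem_map.mp (hle hz)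
    rw [← hP.injective he]
    exact hz'
  | add z z' hz hz' => exact Submodule.add_mem _ (hz trivial) (hz' trivial)

end Aux

/-- Let R and S be graded rings defined over a field k with Segre product T = R # S, and let M be a
finitely generated graded R-module and N a finitely generated graded S-module. Then M # N is a
finitely generated T-module. Here a graded ring defined over k is a commutative k-algebra of finite
type, graded in nonnegative degrees by k-subspaces with degree-zero part k·1; the Segre product T =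
R # S = ⊕_n R_n ⊗_k S_n is presented abstractly as a graded k-algebra T with an injective k-algebra
homomorphism ψ : T → R ⊗_k S carrying T_n onto the k-span of the elementary tensors a ⊗ b with a ∈
R_n, b ∈ S_n; the Segre product M # N = ⊕_n M_n ⊗_k N_n of a graded R-module M and a graded S-module
N is presented abstractly as a graded T-module P with an injective k-linear map φ : P → M ⊗_k N
carrying P_n onto the k-span of the tensors x ⊗ y with x ∈ M_n, y ∈ N_n and turning the action of t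
∈ T into that of ψ(t) (acting factorwise on M ⊗_k N). -/
theorem result (k : Type u) [Field k] (R : Type u) [CommRing R] [Algebra k R] (𝒜 : ℤ → Submodule k R) [GradedAlgebra 𝒜] (hposR : ∀ n : ℤ, n < 0 → 𝒜 n = ⊥) (h0R : 𝒜 0 = Submodule.span k {(1 : R)}) [Algebra.FiniteType k R] (S : Type u) [CommRing S] [Algebra k S] (ℬ : ℤ → Submodule k S) [GradedAlgebra ℬ] (hposS : ∀ n : ℤ, n < 0 → ℬ n = ⊥) (h0S : ℬ 0 = Submodule.span k {(1 : S)}) [Algebra.FiniteType k S] (T : Type u) [CommRing T] [Algebra k T] (𝒯 : ℤ → Submodule k T) [GradedAlgebra 𝒯] (ψ : T →ₐ[k] TensorProduct k R S) (hT : GrSeg.IsSegreRing 𝒜 ℬ 𝒯 ψ) (M : Type u) [AddCommGroup M] [Module R M] [Module k M] [IsScalarTower k R M] (ℳ : ℤ → AddSubgroup M) [DirectSum.Decomposition ℳ] [SetLike.GradedSMul 𝒜 ℳ] [Module.Finite R M] (N : Type u) [AddCommGroup N] [Module S N] [Module k N] [IsScalarTower k S N] (𝒩 : ℤ → AddSubgroup N) [DirectSum.Decomposition 𝒩] [SetLike.GradedSMul ℬ 𝒩]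 [Module.Finite S N] (P : Type u) [AddCommGroup P] [Module T P] [Module k P] [IsScalarTower k T P] (𝒬 : ℤ → AddSubgroup P) [DirectSum.Decomposition 𝒬] (φ : P →ₗ[k] TensorProduct k M N) (hP : GrSeg.IsSegreMod ψ ℳ 𝒩 𝒬 φ) : Module.Finite T P := by
  exact Aux.main k R 𝒜 hposR h0R S ℬ hposS h0S T 𝒯 ψ hT M ℳ N 𝒩 P 𝒬 φ hP

end Groth.Agent.S19747
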