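import Groth.Statements.S0396
import Mathlib
import Groth.Agent.Lib.Helper1.LocalCrit

set_option autoImplicit false
universe u
open FlatMor

namespace Groth.Agent.S0396

open TensorProduct in
/-- For a map of Noetherian rings R → S, an ideal I of R and a finite S-module M such that M/IⁿM is flat
over R/Iⁿ for every n ≥ 1, the localization of M at any prime of S containing IS is flat over R. -/
theorem result {R S M : Type u} [CommRing R] [CommRing S] [IsNoetherianRing R] [IsNoetherianRing S] [Algebra R S]
    [AddCommGroup M] [Module R M] [Module S M] [IsScalarTower R S M] [Module.Finite S M] (I : Ideal R)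
    (h : ∀ n : ℕ, 0 < n → Module.Flat (R ⧸ I ^ n) ((R ⧸ I ^ n) ⊗[R] M))
    (q : Ideal S) [q.IsPrime] (hq : I.map (algebraMap R S) ≤ q) :
    Module.Flat R (LocalizedModule q.primeCompl M) := by
  have hc : ∀ n : ℕ, 0 < n → ∀ Q : Submodule R (R ⧸ I ^ n),
      Function.Injective (Q.subtype.rTensor M) := by
    intro n hn Q
    have := h n hn
    exact Groth.Agent.Helper1.LocalCrit.rTensor_subtype_injective_of_surjective (R ⧸ I ^ n) M
      Ideal.Quotient.mk_surjective Q
  exact Groth.Agent.Helper1.LocalCrit.flat_localizedModule_of_forall_mem_pow_smul_top I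
    (fun J x hx n =>
      Groth.Agent.Helper1.LocalCrit.mem_pow_smul_top_of_rTensor_eq_zero M I hc J x hx n)
    (fun J => Module.Finite.of_fg (IsNoetherian.noetherian J)) q hq

end Groth.Agent.S0396
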