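import Groth.Statements.S7421
-- import your own Groth.Agent.* helpers here
import Groth.Agent.Lib.Helper7.AWN3

set_option autoImplicit false
universe u
open CategoryTheory AlgebraicGeometry
open HTop

namespace Groth.Agent.S7421

/-- A seminormal ring is reduced, and a seminormal scheme is reduced. -/
theorem result :
    (∀ (A : Type u) [CommRing A], HTop.IsSeminormalRing A → IsReduced A) ∧
    ∀ (X : Scheme.{u}), HTop.IsSeminormal X → AlgebraicGeometry.IsReduced X := by
  refine ⟨fun A _ h => Groth.Agent.Helper7.AWN.isReduced_of_isSeminormalRing h, ?_⟩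
  intro X hX
  have : ∀ x : X, _root_.IsReduced (X.presheaf.stalk x) := by
    intro x
    obtain ⟨U, hxU, hU⟩ := hX x
    have hred : _root_.IsReduced Γ(X, (U : X.Opens)) :=
      Groth.Agent.Helper7.AWN.isReduced_of_isSeminormalRing hU
    let _ : Algebra Γ(X, (U : X.Opens)) (X.presheaf.stalk x) :=
      TopCat.Presheaf.algebra_section_stalk X.presheaf (⟨x, hxU⟩ : (U : X.Opens))
    have hloc : IsLocalization.AtPrime (X.presheaf.stalk x)
        (U.2.primeIdealOf ⟨x, hxU⟩).asIdeal := U.2.isLocalization_stalk ⟨x, hxU⟩
    exact isReduced_localizationPreserves (U.2.primeIdealOf ⟨x, hxU⟩).asIdeal.primeCompl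
      (X.presheaf.stalk x) hred
  exact isReduced_of_isReduced_stalk X

end Groth.Agent.S7421
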