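import Groth.Statements.S4186
import Mathlib

set_option autoImplicit false
open CategoryTheory AlgebraicGeometry Topology TopologicalSpace
open An

namespace Groth.Agent.S4186

section
open AlgebraicGeometry CategoryTheory TopologicalSpace Opposite

/-- a nonzero finite type ℂ-algebra has a ℂ-point -/
theorem exists_retraction {A : Type} [CommRing A] [Nontrivial A] (φ : ℂ →+* A) (hφ : φ.FiniteType) :
    ∃ χ : A →+* ℂ, χ.comp φ = RingHom.id ℂ := by
  obtain ⟨m, hm⟩ := Ideal.exists_maximal A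
  let _ : Field (A ⧸ m) := Ideal.Quotient.field m
  let ψ : ℂ →+* (A ⧸ m) := (Ideal.Quotient.mk m).comp φ
  have hψ : ψ.FiniteType := (RingHom.FiniteType.of_surjective _ Ideal.Quotient.mk_surjective).comp hφ
  let _ : Algebra ℂ (A ⧸ m) := ψ.toAlgebra
  have hft : Algebra.FiniteType ℂ (A ⧸ m) := hψ
  have hfin : Module.Finite ℂ (A ⧸ m) := finite_of_finite_type_of_isJacobsonRing ℂ (A ⧸ m)
  have hint : Algebra.IsIntegral ℂ (A ⧸ m) := Algebra.IsIntegral.of_finite ℂ (A ⧸ m)
  have hbij : Function.Bijective (algebraMap ℂ (A ⧸ m)) :=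
    IsAlgClosed.algebraMap_bijective_of_isIntegral
  let e : ℂ ≃+* (A ⧸ m) := RingEquiv.ofBijective (algebraMap ℂ (A ⧸ m)) hbij
  refine ⟨e.symm.toRingHom.comp (Ideal.Quotient.mk m), ?_⟩
  ext z
  show e.symm (Ideal.Quotient.mk m (φ z)) = z
  rw [RingEquiv.symm_apply_eq]
  rfl

theorem main (X : Scheme.{0}) [X.Over An.SC] [LocallyOfFiniteType (X ↘ An.SC)] :
    Nonempty ↥X ↔ Nonempty (An.Pts X) := by
  constructor
  · rintro ⟨p⟩
    obtain ⟨_, ⟨U, hU, rfl⟩, hpU, -⟩ :=
      X.isBasis_affineOpens.exists_subset_of_mem_open (Set.mem_univ p) isOpen_univ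
    have hne : Nonempty U := ⟨⟨p, hpU⟩⟩
    have hnt : Nontrivial Γ(X, U) := Scheme.component_nontrivial X U
    let φc : CommRingCat.of ℂ ⟶ Γ(X, U) :=
      (Scheme.ΓSpecIso (CommRingCat.of ℂ)).inv ≫ (X ↘ An.SC).appLE ⊤ U le_top
    have h1 : ((X ↘ An.SC).appLE ⊤ U le_top).hom.FiniteType :=
      HasRingHomProperty.appLE (P := @LocallyOfFiniteType) (X ↘ An.SC) inferInstance
        ⟨⊤, isAffineOpen_top _⟩ ⟨U, hU⟩ le_top
    have h2 : φc.hom.FiniteType := by
      have h3 : (Scheme.ΓSpecIso (CommRingCat.of ℂ)).inv.hom.FiniteType :=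
        RingHom.FiniteType.of_surjective _
          (ConcreteCategory.bijective_of_isIso (Scheme.ΓSpecIso (CommRingCat.of ℂ)).inv).2
      exact h1.comp h3
    obtain ⟨χ, hχ⟩ := exists_retraction φc.hom h2
    refine ⟨⟨Spec.map (CommRingCat.ofHom χ) ≫ hU.fromSpec, ?_⟩⟩
    rw [Category.assoc, ← IsAffineOpen.SpecMap_appLE_fromSpec (X ↘ An.SC) (isAffineOpen_top _) hU
      le_top, IsAffineOpen.fromSpec_top, Scheme.isoSpec_Spec_inv, ← Spec.map_comp, ← Spec.map_comp]
    have : ((Scheme.ΓSpecIso (CommRingCat.of ℂ)).inv ≫ (X ↘ An.SC).appLE ⊤ U le_top) ≫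
        CommRingCat.ofHom χ = 𝟙 _ := by
      ext z
      exact congrArg (fun k : ℂ →+* ℂ => k z) hχ
    erw [this]
    exact Spec.map_id _
  · rintro ⟨x⟩
    exact ⟨x.pt⟩


end


/-- A scheme locally of finite type over ℂ is nonempty if and only if it has a ℂ-point. -/
theorem result (X : Scheme.{0}) [X.Over An.SC] [LocallyOfFiniteType (X ↘ An.SC)] :
    Nonempty ↥X ↔ Nonempty (An.Pts X) := by
  classical
  exact main X

end Groth.Agent.S4186
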