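import Groth.Statements.S4198
import Mathlib
import Groth.Agent.S4186

set_option autoImplicit false
open CategoryTheory AlgebraicGeometry Topology TopologicalSpace
open An

namespace Groth.Agent.S4198

section
open AlgebraicGeometry CategoryTheory TopologicalSpace Opposite Topology
open An

section topology
variable {X : Type*} [TopologicalSpace X]

theorem exists_locallyClosed_subset {s : Set X} (hs : IsConstructible s) :
    s.Nonempty → ∃ Z ⊆ s, Z.Nonempty ∧ IsLocallyClosed Z := by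
  unfold IsConstructible at hs
  induction s, hs using BooleanSubalgebra.closure_sdiff_sup_induction with
  | isSublattice =>
    exact ⟨fun s hs t ht ↦ ⟨hs.1.union ht.1, hs.2.union ht.2⟩,
      fun s hs t ht ↦ ⟨hs.1.inter ht.1, hs.2.inter_isOpen ht.2 ht.1⟩⟩
  | bot_mem => exact ⟨isOpen_empty, .empty⟩
  | top_mem => exact ⟨isOpen_univ, .univ⟩
  | sdiff U hU V hV =>
    intro hne
    exact ⟨U \ V, subset_rfl, hne, hU.1.isLocallyClosed.inter hV.1.isClosed_compl.isLocallyClosed⟩
  | sup s _ t _ hs' ht' =>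
    intro hne
    rcases hne with ⟨x, hx | hx⟩
    · obtain ⟨Z, hZ, h1, h2⟩ := hs' ⟨x, hx⟩
      exact ⟨Z, hZ.trans Set.subset_union_left, h1, h2⟩
    · obtain ⟨Z, hZ, h1, h2⟩ := ht' ⟨x, hx⟩
      exact ⟨Z, hZ.trans Set.subset_union_right, h1, h2⟩

theorem exists_closedPoint [JacobsonSpace X] {T : Set X} (hT : IsLocallyConstructible T)
    (hne : T.Nonempty) : (T ∩ closedPoints X).Nonempty := by
  obtain ⟨x, hx⟩ := hne
  obtain ⟨U, hU, hUo, hUT⟩ := hT x
  have hxU : x ∈ U := mem_of_mem_nhds hU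
  obtain ⟨Z, hZ, hZne, hZlc⟩ := exists_locallyClosed_subset hUT ⟨⟨x, hxU⟩, hx⟩
  have h1 : IsLocallyClosed (Subtype.val '' Z : Set X) := by
    apply hZlc.image Topology.IsInducing.subtypeVal
    rw [Subtype.range_coe]
    exact hUo.isLocallyClosed
  obtain ⟨y, hy, hyc⟩ := nonempty_inter_closedPoints (hZne.image _) h1
  refine ⟨y, ?_, hyc⟩
  obtain ⟨z, hz, rfl⟩ := hy
  exact hZ hz

end topology

/-- a maximal ideal of a finite type ℂ-algebra is the kernel of a ℂ-point -/
theorem exists_retraction {A : Type} [CommRing A] (φ : ℂ →+* A) (hφ : φ.FiniteType)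
    (m : Ideal A) (hm : m.IsMaximal) :
    ∃ χ : A →+* ℂ, χ.comp φ = RingHom.id ℂ ∧ RingHom.ker χ = m := by
  let _ : Field (A ⧸ m) := Ideal.Quotient.field m
  let ψ : ℂ →+* (A ⧸ m) := (Ideal.Quotient.mk m).comp φ
  have hψ : ψ.FiniteType := (RingHom.FiniteType.of_surjective _ Ideal.Quotient.mk_surjective).comp hφ
  let _ : Algebra ℂ (A ⧸ m) := ψ.toAlgebra
  have hft : Algebra.FiniteType ℂ (A ⧸ m) := hψ
  have hfin : Module.Finite ℂ (A ⧸ m) := finite_of_finite_type_of_isJacobsonRing ℂ (A ⧸ m)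
  have hint : Algebra.IsIntegral ℂ (A ⧸ m) := Algebra.IsIntegral.of_finite ℂ (A ⧸ m)
  have hbij : Function.Bijective (algebraMap ℂ (A ⧸ m)) :=
    IsAlgClosed.algebraMap_bijective_of_isIntegral
  let e : ℂ ≃+* (A ⧸ m) := RingEquiv.ofBijective (algebraMap ℂ (A ⧸ m)) hbij
  refine ⟨e.symm.toRingHom.comp (Ideal.Quotient.mk m), ?_, ?_⟩
  · ext z
    show e.symm (Ideal.Quotient.mk m (φ z)) = z
    rw [RingEquiv.symm_apply_eq]
    rfl
  · ext a
    rw [RingHom.mem_ker]
    show e.symm (Ideal.Quotient.mk m a) = 0 ↔ a ∈ m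
    rw [RingEquiv.symm_apply_eq, map_zero, Ideal.Quotient.eq_zero_iff_mem]

/-- closed points of a scheme locally of finite type over ℂ are ℂ-points -/
theorem exists_pts_of_isClosed (Y : Scheme.{0}) [Y.Over SC] [LocallyOfFiniteType (Y ↘ SC)]
    (p : Y) (hp : IsClosed ({p} : Set Y)) : ∃ y : Pts Y, y.pt = p := by
  obtain ⟨_, ⟨U, hU, rfl⟩, hpU, -⟩ :=
    Y.isBasis_affineOpens.exists_subset_of_mem_open (Set.mem_univ p) isOpen_univ
  let φc : CommRingCat.of ℂ ⟶ Γ(Y, U) :=
    (Scheme.ΓSpecIso (CommRingCat.of ℂ)).inv ≫ (Y ↘ SC).appLE ⊤ U le_top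
  have h1 : ((Y ↘ SC).appLE ⊤ U le_top).hom.FiniteType :=
    HasRingHomProperty.appLE (P := @LocallyOfFiniteType) (Y ↘ SC) inferInstance
      ⟨⊤, isAffineOpen_top _⟩ ⟨U, hU⟩ le_top
  have h2 : φc.hom.FiniteType := by
    have h3 : (Scheme.ΓSpecIso (CommRingCat.of ℂ)).inv.hom.FiniteType :=
      RingHom.FiniteType.of_surjective _
        (ConcreteCategory.bijective_of_isIso (Scheme.ΓSpecIso (CommRingCat.of ℂ)).inv).2
    exact h1.comp h3
  let 𝔭 : PrimeSpectrum Γ(Y, U) := hU.primeIdealOf ⟨p, hpU⟩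
  have h𝔭 : hU.fromSpec 𝔭 = p := hU.fromSpec_primeIdealOf ⟨p, hpU⟩
  have hcl : IsClosed ({𝔭} : Set (PrimeSpectrum Γ(Y, U))) := by
    have h4 : ({𝔭} : Set (PrimeSpectrum Γ(Y, U))) = hU.fromSpec ⁻¹' {p} := by
      ext q
      simp only [Set.mem_singleton_iff]
      constructor
      · rintro rfl
        exact h𝔭
      · intro hq
        have := hU.isOpenImmersion_fromSpec
        exact hU.fromSpec.isOpenEmbedding.injective (hq.trans h𝔭.symm)
    rw [h4]
    exact hp.preimage hU.fromSpec.continuous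
  have hmax : 𝔭.asIdeal.IsMaximal := (PrimeSpectrum.isClosed_singleton_iff_isMaximal 𝔭).1 hcl
  obtain ⟨χ, hχ, hker⟩ := exists_retraction φc.hom h2 𝔭.asIdeal hmax
  refine ⟨⟨Spec.map (CommRingCat.ofHom χ) ≫ hU.fromSpec, ?_⟩, ?_⟩
  · rw [Category.assoc, ← IsAffineOpen.SpecMap_appLE_fromSpec (Y ↘ SC) (isAffineOpen_top _) hU
      le_top, IsAffineOpen.fromSpec_top, Scheme.isoSpec_Spec_inv, ← Spec.map_comp, ← Spec.map_comp]
    have : ((Scheme.ΓSpecIso (CommRingCat.of ℂ)).inv ≫ (Y ↘ SC).appLE ⊤ U le_top) ≫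
        CommRingCat.ofHom χ = 𝟙 _ := by
      ext z
      exact congrArg (fun k : ℂ →+* ℂ => k z) hχ
    erw [this]
    exact Spec.map_id _
  · show (Spec.map (CommRingCat.ofHom χ) ≫ hU.fromSpec) cpt = p
    rw [Scheme.Hom.comp_apply, ← h𝔭]
    congr 1
    apply PrimeSpectrum.ext
    show Ideal.comap χ (cpt : PrimeSpectrum ℂ).asIdeal = 𝔭.asIdeal
    rw [← hker]
    have : (cpt : PrimeSpectrum ℂ).asIdeal = ⊥ := rfl
    rw [this]
    rfl

theorem main (X Y : Scheme.{0}) [X.Over An.SC] [LocallyOfFiniteType (X ↘ An.SC)]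
    [Y.Over An.SC] [LocallyOfFiniteType (Y ↘ An.SC)] (f : X ⟶ Y) [f.IsOver An.SC] [QuasiCompact f] :
    Function.Surjective f.base ↔ Function.Surjective (An.Pts.map f) := by
  have hfY : f ≫ (Y ↘ SC) = X ↘ SC := comp_over f SC
  have hlft : LocallyOfFiniteType f := by
    have : LocallyOfFiniteType (f ≫ (Y ↘ SC)) := by rw [hfY]; infer_instance
    exact locallyOfFiniteType_of_comp f (Y ↘ SC)
  constructor
  · intro hsurj y
    have hS : Surjective f := ⟨hsurj⟩
    let Z := Limits.pullback f y.1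
    let _ : Z.Over SC := ⟨Limits.pullback.snd f y.1⟩
    have h1 : LocallyOfFiniteType (Z ↘ SC) :=
      inferInstanceAs (LocallyOfFiniteType (Limits.pullback.snd f y.1))
    have h2 : Surjective (Limits.pullback.snd f y.1) := inferInstance
    have hne : Nonempty Z := by
      obtain ⟨z, -⟩ := h2.surj cpt
      exact ⟨z⟩
    obtain ⟨z⟩ := (Groth.Agent.S4186.result Z).1 hne
    have hz : z.1 ≫ Limits.pullback.snd f y.1 = 𝟙 SC := z.2
    have hxy : (z.1 ≫ Limits.pullback.fst f y.1) ≫ f = y.1 := by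
      rw [Category.assoc, Limits.pullback.condition, ← Category.assoc, hz, Category.id_comp]
    refine ⟨⟨z.1 ≫ Limits.pullback.fst f y.1, ?_⟩, Subtype.ext hxy⟩
    rw [← hfY, ← Category.assoc, hxy]
    exact y.2
  · intro hsurj
    have hJ : JacobsonSpace Y := LocallyOfFiniteType.jacobsonSpace (Y ↘ SC)
    have hN : IsLocallyNoetherian Y := LocallyOfFiniteType.isLocallyNoetherian (Y ↘ SC)
    have hfp : LocallyOfFinitePresentation f := inferInstance
    have hT : IsLocallyConstructible (Set.range f)ᶜ := by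
      have h0 : IsLocallyConstructible (Set.range f) := by
        have := f.isLocallyConstructible_image IsLocallyConstructible.univ
        rw [Set.image_univ] at this
        exact this
      intro x
      obtain ⟨U, hU, hUo, hUc⟩ := h0 x
      refine ⟨U, hU, hUo, ?_⟩
      rw [Set.preimage_compl]
      exact hUc.compl
    by_contra hns
    have hne : ((Set.range f)ᶜ).Nonempty := by
      by_contra h
      rw [Set.not_nonempty_iff_eq_empty, Set.compl_empty_iff] at h
      exact hns (Set.range_eq_univ.1 h)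
    obtain ⟨p, hp, hpc⟩ := exists_closedPoint hT hne
    obtain ⟨y, rfl⟩ := exists_pts_of_isClosed Y p hpc
    obtain ⟨x, rfl⟩ := hsurj y
    apply hp
    rw [Pts.pt_map]
    exact ⟨x.pt, rfl⟩


end


/-- Let f : X → Y be a morphism of finite type (here: quasi-compact, X and Y being locally of finite
type over ℂ). Then f is surjective if and only if the induced map on complex points X(ℂ) → Y(ℂ) is
surjective. (The finite-type hypothesis cannot be dropped.) -/
theorem result (X Y : Scheme.{0}) [X.Over An.SC] [LocallyOfFiniteType (X ↘ An.SC)]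
    [Y.Over An.SC] [LocallyOfFiniteType (Y ↘ An.SC)] (f : X ⟶ Y) [f.IsOver An.SC] [QuasiCompact f] :
    Function.Surjective f.base ↔ Function.Surjective (An.Pts.map f) := by
  classical
  exact main X Y f

end Groth.Agent.S4198
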