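import Groth.Statements.S8852
import Mathlib

set_option autoImplicit false
universe u
open CategoryTheory CategoryTheory.Limits AlgebraicGeometry TopologicalSpace
open SDiv

namespace Groth.Agent.S8852

open AlgebraicGeometry CategoryTheory
namespace H8852

theorem nzd_of_flat {R S : Type u} [CommRing R] [CommRing S] [Algebra R S] [Module.Flat R S] (r : R)
    (hr : r ∈ nonZeroDivisors R) : algebraMap R S r ∈ nonZeroDivisors S := by
  have hreg : IsSMulRegular S r := Module.Flat.isSMulRegular_of_nonZeroDivisors hr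
  rw [mem_nonZeroDivisors_iff_right]
  intro b hb
  apply hreg
  simp only [smul_zero]
  rw [Algebra.smul_def, mul_comm]
  exact hb

theorem ring_key {R : Type u} [CommRing R] (I J : Ideal R) (f : R) (hf : f ∈ nonZeroDivisors R)
    (h : I * J = Ideal.span {f}) (p : Ideal R) [hp : p.IsPrime] :
    ∃ a ∉ p, ∃ x₀ ∈ I, ∀ (R' : Type u) [CommRing R'] [Algebra R R'] [IsLocalization.Away a R'],
      algebraMap R R' x₀ ∈ nonZeroDivisors R' ∧
        I.map (algebraMap R R') = Ideal.span {algebraMap R R' x₀} := by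
  have hf' : ∀ c : R, c * f = 0 → c = 0 := fun c hc =>
    (mem_nonZeroDivisors_iff_right.mp hf) c hc
  -- find x ∈ I, y ∈ J, a ∉ p with x * y = a * f
  obtain ⟨x, hx, y, hy, a, hap, hxy⟩ : ∃ x ∈ I, ∃ y ∈ J, ∃ a ∉ p, x * y = a * f := by
    by_contra hcon
    push Not at hcon
    have hle : I * J ≤ p * Ideal.span {f} := by
      rw [Ideal.mul_le]
      intro x hx y hy
      have hxy : x * y ∈ Ideal.span {f} := h ▸ Ideal.mul_mem_mul hx hy
      obtain ⟨a, ha⟩ := Ideal.mem_span_singleton'.mp hxy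
      have hap : a ∈ p := by
        by_contra hap
        exact hcon x hx y hy a hap ha.symm
      rw [← ha]
      exact Ideal.mul_mem_mul hap (Ideal.subset_span rfl)
    have hfm : f ∈ p * Ideal.span {f} := hle (h ▸ Ideal.subset_span rfl)
    obtain ⟨b, hb, hbf⟩ := Ideal.mem_mul_span_singleton.mp hfm
    have : (b - 1) * f = 0 := by rw [sub_mul, hbf, one_mul, sub_self]
    have hb1 : b = 1 := sub_eq_zero.mp (hf' _ this)
    exact hp.ne_top ((Ideal.eq_top_iff_one p).mpr (hb1 ▸ hb))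
  refine ⟨a, hap, x, hx, fun R' _ _ _ => ?_⟩
  have hflat : Module.Flat R R' := IsLocalization.flat R' (Submonoid.powers a)
  have hau : IsUnit (algebraMap R R' a) := IsLocalization.Away.algebraMap_isUnit a
  have hfn : algebraMap R R' f ∈ nonZeroDivisors R' := nzd_of_flat f hf
  constructor
  · have h1 : algebraMap R R' x * algebraMap R R' y ∈ nonZeroDivisors R' := by
      rw [← map_mul, hxy, map_mul]
      exact Submonoid.mul_mem _ hau.mem_nonZeroDivisors hfn
    exact (mul_mem_nonZeroDivisors.mp h1).1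
  · apply le_antisymm
    · rw [Ideal.map_le_iff_le_comap]
      intro z hz
      rw [Ideal.mem_comap]
      have hzy : z * y ∈ Ideal.span {f} := h ▸ Ideal.mul_mem_mul hz hy
      obtain ⟨b, hb⟩ := Ideal.mem_span_singleton'.mp hzy
      have h2 : z * a = x * b := by
        have : (z * a - x * b) * f = 0 := by
          have e1 : z * a * f = z * (x * y) := by rw [hxy]; ring
          have e2 : x * b * f = x * (z * y) := by rw [← hb]; ring
          rw [sub_mul, e1, e2]; ring
        exact sub_eq_zero.mp (hf' _ this)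
      obtain ⟨u, hu⟩ := hau
      rw [Ideal.mem_span_singleton']
      refine ⟨algebraMap R R' b * ↑u⁻¹, ?_⟩
      have h3 : algebraMap R R' z * ↑u = algebraMap R R' x * algebraMap R R' b := by
        rw [hu, ← map_mul, ← map_mul, h2]
      calc algebraMap R R' b * ↑u⁻¹ * algebraMap R R' x
          = (algebraMap R R' x * algebraMap R R' b) * ↑u⁻¹ := by ring
        _ = algebraMap R R' z * ↑u * ↑u⁻¹ := by rw [h3]
        _ = algebraMap R R' z := by rw [mul_assoc, Units.mul_inv, mul_one]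
    · rw [Ideal.span_le, Set.singleton_subset_iff]
      exact Ideal.mem_map_of_mem _ hx


theorem half {X : Scheme.{u}} (𝓘 𝓙 : X.IdealSheafData)
    (h : BlowUp.IsEffCartierIdeal (𝓘 * 𝓙)) : BlowUp.IsEffCartierIdeal 𝓘 := by
  intro x
  obtain ⟨U, hxU, f, hf, hIJ⟩ := h x
  have hIJ' : 𝓘.ideal U * 𝓙.ideal U = Ideal.span {f} := hIJ
  let p : Ideal Γ(X, U.1) :=
    Ideal.comap (X.presheaf.germ U.1 x hxU).hom (IsLocalRing.maximalIdeal _)
  have hpp : p.IsPrime := Ideal.comap_isPrime _ _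
  obtain ⟨a, hap, x₀, hx₀, hkey⟩ := ring_key (𝓘.ideal U) (𝓙.ideal U) f hf hIJ' p
  have hxa : x ∈ X.basicOpen a := by
    rw [Scheme.mem_basicOpen _ _ _ hxU]
    by_contra hnu
    exact hap ((IsLocalRing.mem_maximalIdeal _).mpr hnu)
  have hloc := U.2.isLocalization_basicOpen a
  obtain ⟨h1, h2⟩ := hkey Γ(X, X.basicOpen a)
  refine ⟨X.affineBasicOpen a, hxa, algebraMap Γ(X, U.1) Γ(X, X.basicOpen a) x₀, h1, ?_⟩
  rw [← 𝓘.map_ideal_basicOpen U a]
  exact h2

theorem main {X : Scheme.{u}} (𝓘 𝓙 : X.IdealSheafData)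
    (h : BlowUp.IsEffCartierIdeal (𝓘 * 𝓙)) : BlowUp.IsEffCartierIdeal 𝓘 ∧ BlowUp.IsEffCartierIdeal 𝓙 :=
  ⟨half 𝓘 𝓙 h, half 𝓙 𝓘 (by rwa [mul_comm])⟩

end H8852

/-- Let 𝓘, 𝓙 be quasi-coherent ideal sheaves on a scheme X (closed subschemes Z, Y). If the product 𝓘𝓙
is the ideal sheaf of an effective Cartier divisor D, then 𝓘 and 𝓙 are ideal sheaves of effective
Cartier divisors (and D is their sum, D having ideal 𝓘𝓙 by assumption). -/
theorem result {X : Scheme.{u}} (𝓘 𝓙 : X.IdealSheafData)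
    (h : BlowUp.IsEffCartierIdeal (𝓘 * 𝓙)) : BlowUp.IsEffCartierIdeal 𝓘 ∧ BlowUp.IsEffCartierIdeal 𝓙 := by
  exact H8852.main 𝓘 𝓙 h

end Groth.Agent.S8852
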