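import Groth.Statements.S1683
import Mathlib
import Groth.Agent.Lib.Helper4.BlowUpLemmas
import Groth.Agent.S8852

set_option autoImplicit false
universe u
open CategoryTheory CategoryTheory.Limits AlgebraicGeometry TopologicalSpace
open SDiv

namespace Groth.Agent.S1683

open CategoryTheory CategoryTheory.Limits AlgebraicGeometry TopologicalSpace
namespace H1683
open Groth.Agent.Helper4

theorem main {X X' X'' : Scheme.{u}} (𝓘 𝓙 : X.IdealSheafData) (b : X' ⟶ X) (hb : BlowUp.IsBlowUp b 𝓘)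
    (b' : X'' ⟶ X') (hb' : BlowUp.IsBlowUp b' (𝓙.comap b)) : BlowUp.IsBlowUp (b' ≫ b) (𝓘 * 𝓙) := by
  constructor
  · rw [EffCartier.comap_mul, Scheme.IdealSheafData.comap_comp, Scheme.IdealSheafData.comap_comp]
    exact EffCartier.mul (BlowUpLemmas.comap_of_isBlowUp (𝓙.comap b) b' hb' (𝓘.comap b) hb.1) hb'.1
  · intro Y g hg
    rw [EffCartier.comap_mul] at hg
    obtain ⟨h1, h2⟩ := Groth.Agent.S8852.result _ _ hg
    obtain ⟨h, hh, hu⟩ := hb.2 Y g h1
    have hh : h ≫ b = g := hh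
    have h3 : BlowUp.IsEffCartierIdeal ((𝓙.comap b).comap h) := by
      rw [← Scheme.IdealSheafData.comap_comp, hh]; exact h2
    obtain ⟨h', hh', hu'⟩ := hb'.2 Y h h3
    have hh' : h' ≫ b' = h := hh'
    refine ⟨h', by show h' ≫ b' ≫ b = g; rw [← Category.assoc, hh', hh], ?_⟩
    intro k hk
    have hk : k ≫ b' ≫ b = g := hk
    apply hu'
    apply hu
    show (k ≫ b') ≫ b = g
    rw [Category.assoc]; exact hk

end H1683

/-- Let 𝓘, 𝓙 be quasi-coherent ideal sheaves on X, b : X' ⟶ X a blowing-up along 𝓘 and b' : X'' ⟶ X' a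
blowing-up along the inverse image ideal of 𝓙. Then b' ≫ b : X'' ⟶ X is a blowing-up of X along the
product ideal 𝓘𝓙. -/
theorem result {X X' X'' : Scheme.{u}} (𝓘 𝓙 : X.IdealSheafData) (b : X' ⟶ X) (hb : BlowUp.IsBlowUp b 𝓘)
    (b' : X'' ⟶ X') (hb' : BlowUp.IsBlowUp b' (𝓙.comap b)) : BlowUp.IsBlowUp (b' ≫ b) (𝓘 * 𝓙) := by
  exact H1683.main 𝓘 𝓙 b hb b' hb'

end Groth.Agent.S1683
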