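import Groth.Statements.S8851
import Mathlib
import Groth.Agent.Lib.Helper4.EffCartier
import Groth.Agent.S1682

set_option autoImplicit false
universe u
open CategoryTheory CategoryTheory.Limits AlgebraicGeometry TopologicalSpace
open SDiv

namespace Groth.Agent.S8851

open CategoryTheory AlgebraicGeometry TopologicalSpace
namespace H8851
open Groth.Agent.Helper4

theorem main {X X' : Scheme.{u}} [IsReduced X] (𝓘 : X.IdealSheafData) (b : X' ⟶ X)
    (hb : BlowUp.IsBlowUp b 𝓘) : IsReduced X' := by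
  let U : X.Opens := 𝓘.support.compl
  let W : X'.Opens := b ⁻¹ᵁ U
  have hiso : IsIso (b ∣_ U) := Groth.Agent.S1682.result 𝓘 b hb
  have hWred : IsReduced (W : Scheme.{u}) := isReduced_of_isOpenImmersion (b ∣_ U)
  refine ⟨fun V => ?_⟩
  have hle : W.ι ''ᵁ (W.ι ⁻¹ᵁ V) ≤ V := Scheme.Hom.image_preimage_le _ _
  have hinj : Function.Injective (X'.presheaf.map (homOfLE hle).op).hom := by
    apply EffCartier.res_injective hb.1
    intro x hxV hx
    rw [Scheme.IdealSheafData.support_comap] at hx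
    have hxW : x ∈ W := hx
    exact ⟨⟨x, hxW⟩, hxV, rfl⟩
  have hred : IsReduced Γ(X', W.ι ''ᵁ (W.ι ⁻¹ᵁ V)) :=
    hWred.component_reduced (W.ι ⁻¹ᵁ V)
  exact isReduced_of_injective _ hinj

end H8851

/-- Let X be a reduced scheme, 𝓘 a quasi-coherent ideal sheaf on X and b : X' ⟶ X a blowing up of X in
𝓘. Then X' is reduced. -/
theorem result {X X' : Scheme.{u}} [IsReduced X] (𝓘 : X.IdealSheafData) (b : X' ⟶ X)
    (hb : BlowUp.IsBlowUp b 𝓘) : IsReduced X' := by
  exact H8851.main 𝓘 b hb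

end Groth.Agent.S8851
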