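import Groth.Statements.S2348
import Mathlib
import Groth.Agent.Lib.Helper4.BlowUpLemmas
import Groth.Agent.S8851

set_option autoImplicit false
universe u
open CategoryTheory CategoryTheory.Limits AlgebraicGeometry
open EGA2

namespace Groth.Agent.S2348

open CategoryTheory CategoryTheory.Limits AlgebraicGeometry TopologicalSpace
namespace H2348
open Groth.Agent.Helper4

/-- sections over a nonempty open of a scheme are a nontrivial ring -/
theorem eq_bot_of_subsingleton {X : Scheme.{u}} (V : X.Opens) (h : Subsingleton Γ(X, V)) :
    V = ⊥ := by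
  by_contra hne
  obtain ⟨x, hx⟩ : ∃ x, x ∈ V := by
    by_contra hcon
    push Not at hcon
    apply hne
    ext x
    simp only [Opens.coe_bot, Set.mem_empty_iff_false, iff_false]
    exact hcon x
  have h01 : (1 : Γ(X, V)) = 0 := Subsingleton.elim _ _
  have := congrArg (X.presheaf.germ V x hx).hom h01
  rw [map_one, map_zero] at this
  exact one_ne_zero this

/-- the complement of an effective Cartier divisor is topologically dense -/
theorem dense_of_compl_le {X : Scheme.{u}} {𝓘 : X.IdealSheafData} (h : BlowUp.IsEffCartierIdeal 𝓘)
    (W : X.Opens) (hW : ∀ x, x ∉ 𝓘.support → x ∈ W) : Dense (W : Set X) := by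
  rw [dense_iff_inter_open]
  intro V hV hVne
  by_contra hcon
  rw [Set.not_nonempty_iff_eq_empty] at hcon
  let V' : X.Opens := ⟨V, hV⟩
  have hle : (⊥ : X.Opens) ≤ V' := bot_le
  have hinj := EffCartier.res_injective h V' ⊥ hle (by
    intro x hxV hx
    have : x ∈ V ∩ (W : Set X) := ⟨hxV, hW x hx⟩
    rw [hcon] at this
    exact this.elim)
  have hsub : Subsingleton Γ(X, (⊥ : X.Opens)) := inferInstance
  have hsub' : Subsingleton Γ(X, V') := hinj.subsingleton
  have := eq_bot_of_subsingleton V' hsub'
  obtain ⟨x, hx⟩ := hVne
  have hx' : x ∈ V' := hx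
  rw [this] at hx'
  exact hx'


theorem main {X Y : Scheme.{u}} [IsIntegral Y] (I : Y.IdealSheafData) (hI : I ≠ ⊥)
    (b : X ⟶ Y) (hb : BlowUp.IsBlowUp b I) :
    ∃ (_ : IsIntegral X), ∃ hgen : b.base (genericPoint X) = genericPoint Y,
      Function.Bijective (b.residueFieldMap (genericPoint X)).hom := by
  let U : Y.Opens := I.support.compl
  let W : X.Opens := b ⁻¹ᵁ U
  have hiso : IsIso (b ∣_ U) := Groth.Agent.S1682.result I b hb
  -- `U` is nonempty
  have hUne : Nonempty U := by
    by_contra hcon
    rw [not_nonempty_iff] at hcon
    apply hI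
    rw [← Scheme.IdealSheafData.support_eq_top_iff]
    ext y
    simp only [Closeds.coe_top, Set.mem_univ, iff_true]
    by_contra hy
    exact hcon.false ⟨y, hy⟩
  let e : (W : Scheme.{u}) ≃ₜ (U : Scheme.{u}) := Scheme.homeoOfIso (asIso (b ∣_ U))
  have he : ∀ z : W, (e z).1 = b z.1 := fun z => morphismRestrict_base_coe b U z
  have hWne : Nonempty W := ⟨e.symm hUne.some⟩
  have hUint : IsIntegral (U : Scheme.{u}) := inferInstance
  have hWne' : Nonempty (W : Scheme.{u}) := hWne
  have hWint : IsIntegral (W : Scheme.{u}) := isIntegral_of_isOpenImmersion (b ∣_ U)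
  have hred : IsReduced X := Groth.Agent.S8851.result I b hb
  have hWdense : Dense (W : Set X) := by
    apply dense_of_compl_le hb.1
    intro x hx
    rw [Scheme.IdealSheafData.support_comap] at hx
    exact hx
  -- `X` is irreducible
  have hWirr : IsIrreducible (W : Set X) := by
    have : IrreducibleSpace (W : Scheme.{u}) := inferInstance
    have h1 : IsIrreducible (Set.univ : Set W) := IrreducibleSpace.isIrreducible_univ _
    have h2 := h1.image Subtype.val continuous_subtype_val.continuousOn
    have h3 : (W : Set X) = Subtype.val '' (Set.univ : Set (W : Scheme.{u})) := by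
      ext x
      constructor
      · intro hx; exact ⟨⟨x, hx⟩, trivial, rfl⟩
      · rintro ⟨z, -, rfl⟩; exact z.2
    rw [h3]; exact h2
  have hXirr : IrreducibleSpace X := by
    have h1 := hWirr.closure
    rw [hWdense.closure_eq] at h1
    exact (irreducibleSpace_def X).mpr h1
  have hint : IsIntegral X := isIntegral_of_irreducibleSpace_of_isReduced X
  -- the generic point lies in `W`
  have hξW : genericPoint X ∈ W := by
    show genericPoint X ∈ (W : Set X)
    rw [(genericPoint_spec X).mem_open_set_iff W.isOpen]
    obtain ⟨z⟩ := hWne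
    exact ⟨z.1, trivial, z.2⟩
  -- the image of the generic point is generic
  have hUdense : Dense (U : Set Y) := by
    obtain ⟨y⟩ := hUne
    exact U.isOpen.dense ⟨y.1, y.2⟩
  have hgen' : IsGenericPoint (b (genericPoint X)) (Set.univ : Set Y) := by
    rw [isGenericPoint_def, ← Set.univ_subset_iff, ← hUdense.closure_eq]
    apply closure_minimal _ isClosed_closure
    intro y hy
    let z : W := e.symm ⟨y, hy⟩
    have hz : b z.1 = y := by
      rw [← he z]
      show (e (e.symm ⟨y, hy⟩)).1 = y
      rw [e.apply_symm_apply]
    rw [← hz]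
    have hspec : genericPoint X ⤳ z.1 := genericPoint_specializes z.1
    have := hspec.map b.continuous
    exact this.mem_closed isClosed_closure (subset_closure rfl)
  have hgen : b.base (genericPoint X) = genericPoint Y := ((genericPoint_spec Y).eq hgen').symm
  refine ⟨hint, hgen, ?_⟩
  -- residue fields
  let z : W := ⟨genericPoint X, hξW⟩
  have h1 : IsIso ((W.ι ≫ b).residueFieldMap z) := by
    rw [Scheme.Hom.residueFieldMap_congr (morphismRestrict_ι b U).symm z,
      Scheme.residueFieldMap_comp]
    have i1 : IsIso ((b ∣_ U).residueFieldMap z) := inferInstance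
    have i2 : IsIso (U.ι.residueFieldMap ((b ∣_ U) z)) := inferInstance
    have i3 : IsIso (U.ι.residueFieldMap ((b ∣_ U) z) ≫ (b ∣_ U).residueFieldMap z) :=
      IsIso.comp_isIso' i2 i1
    exact IsIso.comp_isIso' inferInstance i3
  rw [Scheme.residueFieldMap_comp] at h1
  have i4 : IsIso (W.ι.residueFieldMap z) := inferInstance
  have h2 : IsIso (b.residueFieldMap (W.ι z)) :=
    @IsIso.of_isIso_comp_right _ _ _ _ _ (b.residueFieldMap (W.ι z)) (W.ι.residueFieldMap z) i4 h1
  exact ConcreteCategory.bijective_of_isIso (b.residueFieldMap (W.ι z))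

end H2348

/-- For an ideal of O_Y: let Y be an integral scheme, I a nonzero quasi-coherent ideal sheaf and b : X →
Y a blowing up of Y in I (characterised by its universal property). Then X is integral, b sends the
generic point of X to that of Y and induces a bijection on their residue fields (b is birational).
The printed statement also asserts that b is surjective; the proof does not show this and it fails
when I is not of finite type, so it is left out. -/
theorem result {X Y : Scheme.{u}} [IsIntegral Y] (I : Y.IdealSheafData) (hI : I ≠ ⊥)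
    (b : X ⟶ Y) (hb : BlowUp.IsBlowUp b I) :
    ∃ (_ : IsIntegral X), ∃ hgen : b.base (genericPoint X) = genericPoint Y,
      Function.Bijective (b.residueFieldMap (genericPoint X)).hom := by
  exact H2348.main I hI b hb

end Groth.Agent.S2348
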