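import Groth.Statements.S9812
import Mathlib
import Groth.Prelude.Def_CAlg2
-- import your own Groth.Agent.* helpers here

set_option autoImplicit false
universe u
open CAlg2

namespace Groth.Agent.S9812

namespace Aux

variable (A : Type u) [CommRing A] [IsLocalRing A] [IsDomain A] [IsIntegrallyClosed A]

lemma mk_bij : Function.Bijective (Ideal.Quotient.mk (nilradical A)) := by
  refine ⟨?_, Ideal.Quotient.mk_surjective⟩
  rw [injective_iff_map_eq_zero]
  intro a ha
  rw [Ideal.Quotient.eq_zero_iff_mem, nilradical_eq_zero] at ha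
  exact ha

theorem main : CAlg2.IsGeomUnibranch A := by
  have hprime : (nilradical A).IsPrime := by
    rw [nilradical_eq_zero]
    exact Ideal.isPrime_bot
  have hdom : IsDomain (CAlg2.red A) := Ideal.Quotient.isDomain _
  let e : A ≃+* CAlg2.red A := RingEquiv.ofBijective _ (mk_bij A)
  have hic : IsIntegrallyClosed (CAlg2.red A) := IsIntegrallyClosed.of_equiv e
  have hsurj : Function.Surjective (algebraMap (CAlg2.red A) (CAlg2.normRed A)) := by
    rintro ⟨y, hy⟩
    obtain ⟨x, hx⟩ := IsIntegrallyClosed.isIntegral_iff.mp hy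
    exact ⟨x, Subtype.ext hx⟩
  have hloc' : IsLocalRing (CAlg2.red A) := IsLocalRing.of_surjective' _ (mk_bij A).2
  have hnt : Nontrivial (CAlg2.normRed A) := inferInstance
  have hloc : IsLocalRing (CAlg2.normRed A) := IsLocalRing.of_surjective' _ hsurj
  refine ⟨⟨hdom, hloc⟩, ?_⟩
  intro m' hm' x
  refine ⟨0, ?_⟩
  rw [pow_zero, pow_one]
  obtain ⟨y, rfl⟩ := Ideal.Quotient.mk_surjective x
  obtain ⟨z, rfl⟩ := hsurj y
  obtain ⟨a, rfl⟩ := (mk_bij A).2 z
  exact ⟨a, rfl⟩

end Aux

/-- At the level of the local ring: an integrally closed local domain is geometrically unibranch.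
Consequently a normal scheme is geometrically unibranch. -/
theorem result (A : Type u) [CommRing A] [IsLocalRing A]
    [IsDomain A] [IsIntegrallyClosed A] : CAlg2.IsGeomUnibranch A := by
  exact Aux.main A

end Groth.Agent.S9812
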