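import Groth.Statements.S9805
import Mathlib
import Groth.Agent.Lib.Lead.FP2
import Groth.Agent.Lib.Lead.SD1

set_option autoImplicit false
universe u
open CategoryTheory AlgebraicGeometry TopologicalSpace
open Props

namespace Groth.Agent.S9805

section
open CategoryTheory AlgebraicGeometry

open Groth.Agent.Lead.FLF Groth.Agent.Lead.FP Groth.Agent.Lead.SD

theorem main (X : Scheme.{u}) (M : X.Modules) (hM : Coh.IsQCoh M) :
    (FlatMod.IsFlat M ∧ CohB1.IsFP M) ↔ FlatMod.IsFinLocFree M := by
  haveI : M.IsQuasicoherent := hM
  constructor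
  · rintro ⟨hflat, hfp⟩
    rw [isFinLocFree_iff_affineOpens]
    intro U hU
    haveI := fp_sections_of_isFP M hfp hU
    haveI : Module.Flat Γ(X, U) Γ(M, U) :=
      flat_sections_of_flat_stalks M hU (fun z => hflat z.1)
    exact ⟨inferInstance, Module.Flat.projective_of_finitePresentation⟩
  · intro h
    have h' := (isFinLocFree_iff_affineOpens M).1 h
    refine ⟨fun x => ?_, ?_⟩
    · obtain ⟨_, ⟨U, hU, rfl⟩, hxU, -⟩ := X.isBasis_affineOpens.exists_subset_of_mem_open
        (Set.mem_univ x) isOpen_univ
      obtain ⟨h1, h2⟩ := h' U hU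
      exact flat_stalk_of_flat_sections M hU ⟨x, hxU⟩ inferInstance
    · rw [isFP_iff_affineOpens]
      intro U hU
      obtain ⟨h1, h2⟩ := h' U hU
      exact Module.finitePresentation_of_projective _ _


end


/-- A quasi-coherent module on a scheme is flat and of finite presentation if and only if it is finite
locally free. -/
theorem result (X : Scheme.{u}) (M : X.Modules) (hM : Coh.IsQCoh M) :
    (FlatMod.IsFlat M ∧ CohB1.IsFP M) ↔ FlatMod.IsFinLocFree M := by
  classical
  exact main X M hM

end Groth.Agent.S9805
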