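import Groth.Statements.S9806
import Mathlib
import Groth.Agent.Lib.Lead.FP2
import Groth.Agent.Lib.Lead.SD1
import Groth.Agent.S9805

set_option autoImplicit false
universe u
open CategoryTheory AlgebraicGeometry TopologicalSpace
open Props

namespace Groth.Agent.S9806

section
open CategoryTheory AlgebraicGeometry TopologicalSpace

open Groth.Agent.Lead.FLF Groth.Agent.Lead.FP Groth.Agent.Lead.SD

theorem main (X : Scheme.{u}) (M : X.Modules) (hM : Coh.IsQCoh M) :
    (CohB1.IsFP M ∧ ∀ x : X, Module.Free (X.presheaf.stalk x) (M.presheaf.stalk x)) ↔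
      FlatMod.IsFinLocFree M := by
  haveI : M.IsQuasicoherent := hM
  rw [← Groth.Agent.S9805.result X M hM]
  constructor
  · rintro ⟨hfp, hfree⟩
    exact ⟨fun x => haveI := hfree x; (inferInstance : Module.Flat _ _), hfp⟩
  · rintro ⟨hflat, hfp⟩
    refine ⟨hfp, fun x => ?_⟩
    obtain ⟨_, ⟨U, hU, rfl⟩, hxU, -⟩ := X.isBasis_affineOpens.exists_subset_of_mem_open
      (Set.mem_univ x) isOpen_univ
    haveI := fp_sections_of_isFP M hfp hU
    haveI : Module.Flat Γ(X, U) Γ(M, U) :=
      flat_sections_of_flat_stalks M hU (fun z => hflat z.1)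
    exact free_stalk_of_projective_sections M hU ⟨x, hxU⟩ inferInstance
      Module.Flat.projective_of_finitePresentation


end


/-- A quasi-coherent module on a scheme is of finite presentation with all stalks free over the local
rings if and only if it is finite locally free. -/
theorem result (X : Scheme.{u}) (M : X.Modules) (hM : Coh.IsQCoh M) :
    (CohB1.IsFP M ∧ ∀ x : X, Module.Free (X.presheaf.stalk x) (M.presheaf.stalk x)) ↔
      FlatMod.IsFinLocFree M := by
  classical
  exact main X M hM

end Groth.Agent.S9806
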