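import Groth.Statements.S4741
import Mathlib
import Groth.Agent.Lib.Helper3.StalkDim

set_option autoImplicit false
universe u
open EGA4

namespace Groth.Agent.S4741

open AlgebraicGeometry CategoryTheory in
/-- Suppose X and Y are locally Noetherian schemes, f : X → Y is a morphism that is surjective, and Z is
a closed subset of Y. Then codim(f⁻¹(Z), X) ≤ codim(Z, Y), where the codimension of a closed subset
means the infimum over its points of the dimensions of the local rings there; when f is in addition
flat, these two codimensions coincide. (In the published version the equality part assumes f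
quasi-flat; here f is taken to be flat.) -/
theorem result {X Y : Scheme.{u}} (f : X ⟶ Y) [IsLocallyNoetherian X]
    [IsLocallyNoetherian Y] (hf : Function.Surjective f.base) (Z : Set Y) (hZ : IsClosed Z) :
    (⨅ x ∈ f.base ⁻¹' Z, ringKrullDim (X.presheaf.stalk x)) ≤ ⨅ y ∈ Z, ringKrullDim (Y.presheaf.stalk y) ∧
      (Flat f → (⨅ x ∈ f.base ⁻¹' Z, ringKrullDim (X.presheaf.stalk x)) = ⨅ y ∈ Z, ringKrullDim (Y.presheaf.stalk y)) := by
  have hA : (⨅ x ∈ f.base ⁻¹' Z, ringKrullDim (X.presheaf.stalk x)) ≤
      ⨅ y ∈ Z, ringKrullDim (Y.presheaf.stalk y) := by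
    refine le_iInf₂ (fun y hy => ?_)
    obtain ⟨x', rfl⟩ := hf y
    obtain ⟨x, hx, hle⟩ := Groth.Agent.Helper3.StalkDim.exists_point_dim_le f x'
    have hxZ : x ∈ f.base ⁻¹' Z := by
      show f.base x ∈ Z
      rw [hx]; exact hy
    exact iInf₂_le_of_le x hxZ hle
  refine ⟨hA, fun hflat => le_antisymm hA ?_⟩
  refine le_iInf₂ (fun x hx => ?_)
  exact iInf₂_le_of_le (f.base x) hx (Groth.Agent.Helper3.StalkDim.dim_le_of_flat f x)

end Groth.Agent.S4741
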