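import Groth.Statements.S2195
import Mathlib

set_option autoImplicit false
universe u v
open Disc

namespace Groth.Agent.S2195

section
open TensorProduct

variable {A : Type u} {B : Type v} [CommRing A] [CommRing B]
    [Algebra A B] {ι : Type} [Fintype ι] [DecidableEq ι] (b : Module.Basis ι A B)

/-- Θ_f : B ⊗ B → B, x ⊗ y ↦ f x • y -/
noncomputable def Th (f : B →ₗ[A] A) : B ⊗[A] B →ₗ[A] B :=
  (TensorProduct.lid A B).toLinearMap ∘ₗ (LinearMap.rTensor B f)

omit [Fintype ι] [DecidableEq ι] in
theorem Th_tmul (f : B →ₗ[A] A) (x y : B) : Th f (x ⊗ₜ[A] y) = f x • y := by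
  simp [Th]

theorem Th_right (f : B →ₗ[A] A) (s : B) (u : B ⊗[A] B) :
    Th f (((1 : B) ⊗ₜ[A] s) * u) = s * Th f u := by
  induction u with
  | zero => simp
  | tmul x y => simp [Th_tmul, Algebra.TensorProduct.tmul_mul_tmul]
  | add x y hx hy => rw [mul_add, map_add, hx, hy, map_add, mul_add]

theorem Th_left (f : B →ₗ[A] A) (s : B) (u : B ⊗[A] B) :
    Th f ((s ⊗ₜ[A] (1 : B)) * u) = Th (f ∘ₗ LinearMap.mulLeft A s) u := by
  induction u with
  | zero => simp
  | tmul x y => simp [Th_tmul, Algebra.TensorProduct.tmul_mul_tmul]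
  | add x y hx hy => rw [mul_add, map_add, hx, hy, map_add]

theorem mul_eq_sum (u : B ⊗[A] B) :
    Algebra.TensorProduct.lmul' (S := B) A u = ∑ j, b j * Th (b.coord j) u := by
  induction u with
  | zero => simp
  | tmul x y =>
    simp only [Algebra.TensorProduct.lmul'_apply_tmul, Th_tmul, Module.Basis.coord_apply]
    conv_lhs => rw [← b.sum_repr x]
    rw [Finset.sum_mul]
    apply Finset.sum_congr rfl
    intro j _
    rw [smul_mul_assoc, mul_smul_comm]
  | add x y hx hy =>
    rw [map_add, hx, hy, ← Finset.sum_add_distrib]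
    apply Finset.sum_congr rfl
    intro j _
    rw [map_add, mul_add]

theorem trace_eq_sum (y : B) : Algebra.trace A B y = ∑ j, b.coord j (y * b j) := by
  rw [Algebra.trace_eq_matrix_trace b, Matrix.trace]
  apply Finset.sum_congr rfl
  intro j _
  simp [Matrix.diag, Algebra.leftMulMatrix_eq_repr_mul]

theorem Th_sum (g : ι → (B →ₗ[A] A)) (u : B ⊗[A] B) :
    Th (∑ j, g j) u = ∑ j, Th (g j) u := by
  induction u with
  | zero => simp
  | tmul x y => simp [Th_tmul, Finset.sum_smul]
  | add x y hx hy => rw [map_add, hx, hy, ← Finset.sum_add_distrib]; simp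

include b in
/-- key identity -/
theorem key (t : B ⊗[A] B) (ht1 : ∀ s, ((1 : B) ⊗ₜ[A] s - s ⊗ₜ[A] (1 : B)) * t = 0)
    (ht2 : Algebra.TensorProduct.lmul' (S := B) A t = 1) (x : B) :
    Th ((Algebra.traceForm A B) x) t = x := by
  have h1 : (Algebra.traceForm A B) x = ∑ j, (b.coord j) ∘ₗ LinearMap.mulLeft A (x * b j) := by
    apply LinearMap.ext
    intro y
    rw [Algebra.traceForm_apply, trace_eq_sum b, LinearMap.sum_apply]
    apply Finset.sum_congr rfl
    intro j _
    simp [mul_assoc, mul_comm, mul_left_comm]
  rw [h1, Th_sum]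
  have h2 : ∀ j, Th ((b.coord j) ∘ₗ LinearMap.mulLeft A (x * b j)) t = x * (b j * Th (b.coord j) t) := by
    intro j
    rw [← Th_left, ← mul_assoc x, ← Th_right]
    congr 1
    have := ht1 (x * b j)
    rw [sub_mul, sub_eq_zero] at this
    exact this.symm
  rw [Finset.sum_congr rfl (fun j _ => h2 j), ← Finset.mul_sum, ← mul_eq_sum b, ht2, mul_one]


theorem Th_smul (a : A) (f : B →ₗ[A] A) (u : B ⊗[A] B) : Th (a • f) u = a • Th f u := by
  induction u with
  | zero => simp
  | tmul x y => simp [Th_tmul, mul_smul]
  | add x y hx hy => rw [map_add, hx, hy, map_add, smul_add]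

theorem traceForm_expand (x : B) :
    (Algebra.traceForm A B) x = ∑ j, (Algebra.trace A B (x * b j)) • b.coord j := by
  apply LinearMap.ext
  intro y
  rw [Algebra.traceForm_apply, LinearMap.sum_apply]
  conv_lhs => rw [← b.sum_repr y, Finset.mul_sum, map_sum]
  apply Finset.sum_congr rfl
  intro j _
  rw [mul_smul_comm, map_smul, LinearMap.smul_apply, Module.Basis.coord_apply, smul_eq_mul, smul_eq_mul,
    mul_comm]

theorem forward (h : Algebra.FormallyUnramified A B) : IsUnit (Algebra.discr A b) := by
  have hfin : Module.Finite A B := Module.Finite.of_basis b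
  obtain ⟨t, ht1, ht2⟩ := (Algebra.FormallyUnramified.iff_exists_tensorProduct (R := A) (S := B)).mp h
  have hk : ∀ x : B, ∑ j, (Algebra.trace A B (x * b j)) • Th (b.coord j) t = x := by
    intro x
    have := key b t ht1 ht2 x
    rw [traceForm_expand b, Th_sum] at this
    simp only [Th_smul] at this
    exact this
  let Θ : Matrix ι ι A := Matrix.of fun i j => b.repr (Th (b.coord j) t) i
  have hmul : Θ * Algebra.traceMatrix A b = 1 := by
    ext i k
    rw [Matrix.mul_apply]
    have h3 := congrArg (fun z => b.repr z i) (hk (b k))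
    simp only [map_sum, map_smul, Finsupp.coe_finset_sum, Finset.sum_apply, Finsupp.smul_apply,
      smul_eq_mul] at h3
    rw [Matrix.one_apply]
    have h4 : b.repr (b k) i = if i = k then 1 else 0 := by
      rw [Module.Basis.repr_self, Finsupp.single_apply]
      simp [eq_comm]
    rw [← h4, ← h3]
    apply Finset.sum_congr rfl
    intro j _
    simp only [Θ, Matrix.of_apply, Algebra.traceMatrix_apply, Algebra.traceForm_apply]
    rw [mul_comm, mul_comm (b j)]
  have hdet := congrArg Matrix.det hmul
  rw [Matrix.det_mul, Matrix.det_one] at hdet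
  rw [Algebra.discr_def]
  exact isUnit_iff_exists_inv.mpr ⟨Θ.det, by rw [mul_comm]; exact hdet⟩


theorem backward (h : IsUnit (Algebra.discr A b)) : Algebra.Etale A B := by
  have hfin : Module.Finite A B := Module.Finite.of_basis b
  have hfree : Module.Free A B := Module.Free.of_basis b
  rw [Algebra.discr_def] at h
  obtain ⟨G, hG⟩ : ∃ G, G = Algebra.traceMatrix A b := ⟨_, rfl⟩
  rw [← hG] at h
  have hHG : G⁻¹ * G = 1 := Matrix.nonsing_inv_mul G h
  obtain ⟨H, hH⟩ : ∃ H, H = G⁻¹ := ⟨_, rfl⟩
  rw [← hH] at hHG
  have hGsymm : ∀ i j, G i j = G j i := by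
    intro i j
    rw [hG, Algebra.traceMatrix_apply, Algebra.traceMatrix_apply, Algebra.traceForm_apply,
      Algebra.traceForm_apply, mul_comm]
  obtain ⟨c, hc⟩ : ∃ c : ι → B, c = fun i => ∑ j, H i j • b j := ⟨_, rfl⟩
  have L1 : ∀ j k, Algebra.trace A B (b j * c k) = if j = k then 1 else 0 := by
    intro j k
    rw [hc]
    simp only
    rw [Finset.mul_sum, map_sum]
    have h1 : ∀ l ∈ Finset.univ, Algebra.trace A B (b j * H k l • b l) = H k l * G l j := by
      intro l _
      rw [mul_smul_comm, map_smul, smul_eq_mul, hGsymm l j, hG, Algebra.traceMatrix_apply,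
        Algebra.traceForm_apply]
    rw [Finset.sum_congr rfl h1, ← Matrix.mul_apply, hHG, Matrix.one_apply]
    simp [eq_comm]
  have L2' : ∀ y k, Algebra.trace A B (y * c k) = b.repr y k := by
    intro y k
    conv_lhs => rw [← b.sum_repr y, Finset.sum_mul, map_sum]
    have h1 : ∀ j ∈ Finset.univ, Algebra.trace A B ((b.repr y j) • b j * c k) =
        if j = k then b.repr y k else 0 := by
      intro j _
      rw [smul_mul_assoc, map_smul, L1, smul_eq_mul]
      split_ifs with hjk
      · rw [hjk, mul_one]
      · rw [mul_zero]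
    rw [Finset.sum_congr rfl h1]
    simp
  have L2 : ∀ y, y = ∑ k, (Algebra.trace A B (y * c k)) • b k := by
    intro y
    conv_lhs => rw [← b.sum_repr y]
    apply Finset.sum_congr rfl
    intro k _
    rw [L2']
  have L3 : ∀ z, (∀ k, Algebra.trace A B (z * b k) = 0) → z = 0 := by
    intro z hz
    rw [L2 z]
    apply Finset.sum_eq_zero
    intro k _
    have : Algebra.trace A B (z * c k) = 0 := by
      rw [hc]
      simp only
      rw [Finset.mul_sum, map_sum]
      apply Finset.sum_eq_zero
      intro j _
      rw [mul_smul_comm, map_smul, hz, smul_zero]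
    rw [this, zero_smul]
  have L4 : ∀ y, y = ∑ i, (Algebra.trace A B (y * b i)) • c i := by
    intro y
    rw [← sub_eq_zero]
    apply L3
    intro k
    rw [sub_mul, map_sub, Finset.sum_mul, map_sum, sub_eq_zero]
    have h1 : ∀ i ∈ Finset.univ, Algebra.trace A B ((Algebra.trace A B (y * b i)) • c i * b k) =
        if i = k then Algebra.trace A B (y * b k) else 0 := by
      intro i _
      rw [smul_mul_assoc, map_smul, mul_comm (c i), L1, smul_eq_mul]
      by_cases hik : i = k
      · rw [if_pos hik.symm, if_pos hik, hik, mul_one]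
      · rw [if_neg (fun h => hik h.symm), if_neg hik, mul_zero]
    rw [Finset.sum_congr rfl h1]
    simp
  have hu : ∑ i, b i * c i = 1 := by
    rw [← sub_eq_zero]
    apply L3
    intro k
    rw [sub_mul, map_sub, Finset.sum_mul, map_sum, sub_eq_zero, one_mul, trace_eq_sum b]
    apply Finset.sum_congr rfl
    intro i _
    rw [Module.Basis.coord_apply, ← L2']
    congr 1
    ring
  have hunr : Algebra.FormallyUnramified A B := by
    rw [Algebra.FormallyUnramified.iff_exists_tensorProduct]
    refine ⟨∑ i, b i ⊗ₜ[A] c i, ?_, ?_⟩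
    · intro s
      rw [sub_mul, sub_eq_zero, Finset.mul_sum, Finset.mul_sum]
      simp only [Algebra.TensorProduct.tmul_mul_tmul, one_mul]
      have hl : ∀ k ∈ Finset.univ, b k ⊗ₜ[A] (s * c k) =
          ∑ i, (Algebra.trace A B (s * c k * b i)) • (b k ⊗ₜ[A] c i) := by
        intro k _
        conv_lhs => rw [L4 (s * c k), TensorProduct.tmul_sum]
        apply Finset.sum_congr rfl
        intro i _
        rw [TensorProduct.tmul_smul]
      have hr : ∀ i ∈ Finset.univ, (s * b i) ⊗ₜ[A] c i =
          ∑ k, (Algebra.trace A B (s * b i * c k)) • (b k ⊗ₜ[A] c i) := by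
        intro i _
        conv_lhs => rw [L2 (s * b i), TensorProduct.sum_tmul]
        apply Finset.sum_congr rfl
        intro k _
        rw [TensorProduct.smul_tmul']
      rw [Finset.sum_congr rfl hl, Finset.sum_congr rfl hr, Finset.sum_comm]
      apply Finset.sum_congr rfl
      intro i _
      apply Finset.sum_congr rfl
      intro k _
      congr 2
      ring
    · rw [map_sum]
      simp only [Algebra.TensorProduct.lmul'_apply_tmul]
      exact hu
  have hfp : Module.FinitePresentation A B := Module.finitePresentation_of_projective A B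
  exact Algebra.Etale.of_formallyUnramified_of_flat

theorem main : Algebra.Etale A B ↔ IsUnit (Algebra.discr A b) := by
  constructor
  · intro h
    exact forward b inferInstance
  · exact backward b


end


/-- Ring form of the statement: let B be an A-algebra which is finite free as an A-module with basis b.
Then A -> B is etale if and only if the discriminant of b (the determinant of the matrix of traces
Tr(b_i b_j)) is a unit of A, i.e. the discriminant locus is empty. -/
theorem result {A : Type u} {B : Type v} [CommRing A] [CommRing B]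
    [Algebra A B] {ι : Type} [Fintype ι] [DecidableEq ι] (b : Module.Basis ι A B) :
    Algebra.Etale A B ↔ IsUnit (Algebra.discr A b) := by
  classical
  exact main b

end Groth.Agent.S2195
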