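import Groth.Statements.S18056
import Groth.Agent.Lib.Helper8.ArtFS

set_option autoImplicit false
universe u v
open STCI

namespace Groth.Agent.S18056

/-- Let A → B be a homomorphism of Artinian local rings that is flat and formally smooth, where A has a
subring that is a field. Then A and B have the same length, each as a module over itself. -/
theorem result (A : Type u) (B : Type v) [CommRing A] [CommRing B]
    [IsLocalRing A] [IsLocalRing B] [IsArtinianRing A] [IsArtinianRing B] [Algebra A B]
    [Module.Flat A B] [Algebra.FormallySmooth A B] (hK : ∃ K : Subring A, IsField K) :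
    Module.length A A = Module.length B B := by
  classical
  have hnilA : IsNilpotent (IsLocalRing.maximalIdeal A) := by
    rw [← IsLocalRing.jacobson_eq_maximalIdeal ⊥ bot_ne_top]
    exact IsArtinianRing.isNilpotent_jacobson_bot
  haveI : IsLocalHom (algebraMap A B) := ⟨fun a ha => by
    by_contra hna
    have h1 : a ∈ IsLocalRing.maximalIdeal A := hna
    obtain ⟨n, hn⟩ := hnilA
    have h2 : a ^ n = 0 := by
      have h3 : a ^ n ∈ IsLocalRing.maximalIdeal A ^ n := Ideal.pow_mem_pow h1 n
      rw [hn] at h3
      exact h3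
    have h4 : IsUnit ((algebraMap A B a) ^ n) := ha.pow n
    rw [← map_pow, h2, map_zero] at h4
    exact not_isUnit_zero h4⟩
  -- the closed fibre
  have hlt : (IsLocalRing.maximalIdeal A).map (algebraMap A B) ≠ ⊤ :=
    (IsLocalRing.map_maximalIdeal_lt_top (algebraMap A B)).ne
  haveI : Nontrivial (B ⧸ (IsLocalRing.maximalIdeal A).map (algebraMap A B)) :=
    Ideal.Quotient.nontrivial_iff.2 hlt
  haveI : IsLocalRing (B ⧸ (IsLocalRing.maximalIdeal A).map (algebraMap A B)) :=
    IsLocalRing.of_surjective' (Ideal.Quotient.mk _) Ideal.Quotient.mk_surjective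
  haveI : IsArtinianRing (B ⧸ (IsLocalRing.maximalIdeal A).map (algebraMap A B)) :=
    (Ideal.Quotient.mk_surjective (I := (IsLocalRing.maximalIdeal A).map
      (algebraMap A B))).isArtinianRing
  letI : Field (A ⧸ IsLocalRing.maximalIdeal A) := Ideal.Quotient.field _
  haveI : Algebra.FormallySmooth (A ⧸ IsLocalRing.maximalIdeal A)
      (B ⧸ (IsLocalRing.maximalIdeal A).map (algebraMap A B)) :=
    Algebra.FormallySmooth.of_equiv
      (Algebra.TensorProduct.quotIdealMapEquivQuotTensor B (IsLocalRing.maximalIdeal A)).symm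
  have hbot := Groth.Agent.Helper8.ArtFS.maximalIdeal_eq_bot_of_formallySmooth_field
    (A ⧸ IsLocalRing.maximalIdeal A) (B ⧸ (IsLocalRing.maximalIdeal A).map (algebraMap A B))
  have hmax : (IsLocalRing.maximalIdeal A).map (algebraMap A B) = IsLocalRing.maximalIdeal B := by
    apply le_antisymm (IsLocalRing.le_maximalIdeal hlt)
    intro b hb
    rw [← Ideal.Quotient.eq_zero_iff_mem, ← Ideal.mem_bot, ← hbot, IsLocalRing.mem_maximalIdeal,
      mem_nonunits_iff]
    intro hu
    rw [IsLocalRing.mem_maximalIdeal, mem_nonunits_iff] at hb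
    haveI : IsLocalHom (Ideal.Quotient.mk ((IsLocalRing.maximalIdeal A).map (algebraMap A B))) :=
      IsLocalHom.of_surjective _ Ideal.Quotient.mk_surjective
    exact hb ((isUnit_map_iff _ _).1 hu)
  have h1 := IsLocalRing.length_baseChange A B A
  rw [hmax, (TensorProduct.AlgebraTensorModule.rid A B B).length_eq] at h1
  have h2 : Module.length B (B ⧸ IsLocalRing.maximalIdeal B) = 1 := by
    rw [Module.length_eq_one_iff]
    exact isSimpleModule_iff_quot_maximal.2 ⟨_, inferInstance, ⟨LinearEquiv.refl _ _⟩⟩
  rw [h1, h2, mul_one]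

end Groth.Agent.S18056
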