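import Groth.Statements.S4801
import Mathlib
import Groth.Agent.Lib.Helper9.GenFree.Core
-- import your own Groth.Agent.* helpers here

set_option autoImplicit false
universe u
open TensorProduct
open Cons9

namespace Groth.Agent.S4801

namespace Aux
open TensorProduct Groth.Agent.Helper9.GenFree

section Gen
variable {R : Type u} [CommRing R]

lemma lTensor_mk_injective {k : Type*} [CommRing k] [Algebra R k] (a : R)
    (ha : IsUnit (algebraMap R k a)) (X : Type*) [AddCommGroup X] [Module R X] :
    Function.Injective ((LocalizedModule.mkLinearMap (Submonoid.powers a) X).lTensor k) := by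
  obtain ⟨c, hc⟩ := ha.exists_left_inv
  have h1 : IsLocalizedModule (Submonoid.powers a)
      (AlgebraTensorModule.rTensor R k (LocalizedModule.mkLinearMap (Submonoid.powers a) X)) :=
    inferInstance
  have h2 : ∀ z : X ⊗[R] k,
      (LocalizedModule.mkLinearMap (Submonoid.powers a) X).rTensor k z = 0 → z = 0 := by
    intro z hz
    have hz' : (AlgebraTensorModule.rTensor R k
        (LocalizedModule.mkLinearMap (Submonoid.powers a) X)) z = 0 := hz
    obtain ⟨⟨_, n, rfl⟩, hs⟩ := (IsLocalizedModule.eq_zero_iff (Submonoid.powers a) _).mp hz'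
    have hs' : a ^ n • z = 0 := hs
    have key : ∀ w : X ⊗[R] k, (LinearMap.mulLeft R (c ^ n)).lTensor X (a ^ n • w) = w := by
      intro w
      induction w using TensorProduct.induction_on with
      | zero => simp
      | tmul x t =>
        rw [← TensorProduct.tmul_smul, LinearMap.lTensor_tmul, LinearMap.mulLeft_apply,
          Algebra.smul_def, ← mul_assoc, map_pow, ← mul_pow, hc, one_pow, one_mul]
      | add w1 w2 h1 h2 => rw [smul_add, map_add, h1, h2]
    rw [← key z, hs', map_zero]
  intro z1 z2 h
  rw [← sub_eq_zero] at h ⊢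
  rw [← map_sub] at h
  set z := z1 - z2
  have h3 : ∀ z : k ⊗[R] X, TensorProduct.comm R (LocalizedModule (Submonoid.powers a) X) k
      ((LocalizedModule.mkLinearMap (Submonoid.powers a) X).rTensor k
        (TensorProduct.comm R k X z)) =
      (LocalizedModule.mkLinearMap (Submonoid.powers a) X).lTensor k z := by
    intro z
    induction z using TensorProduct.induction_on with
    | zero => simp
    | tmul x t => simp
    | add w1 w2 h1 h2 => simp only [map_add, h1, h2]
  rw [← h3, LinearEquiv.map_eq_zero_iff] at h
  have := h2 _ h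
  rwa [LinearEquiv.map_eq_zero_iff] at this


lemma lTensor_injective_of_isABasis {I H Q : Type*} [AddCommGroup I] [Module R I]
    [AddCommGroup H] [Module R H] [AddCommGroup Q] [Module R Q]
    (incl : I →ₗ[R] H) (π : H →ₗ[R] Q) (hincl : Function.Injective incl)
    (hπ : Function.Surjective π) (hex : Function.Exact incl π)
    {a : R} {ι : Type*} {b : ι → Q} (hb : IsABasis a b)
    (k : Type*) [CommRing k] [Algebra R k] (ha : IsUnit (algebraMap R k a)) :
    Function.Injective (incl.lTensor k) := by
  set S := Submonoid.powers a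
  have hfree : Module.Free (Localization.Away a) (LocalizedModule S Q) := hb.free_localizedModule
  have hflat0 : Module.Flat R (Localization.Away a) := IsLocalization.flat _ S
  have hflat : Module.Flat R (LocalizedModule S Q) :=
    Module.Flat.trans R (Localization.Away a) (LocalizedModule S Q)
  have hex' : Function.Exact ((LocalizedModule.map S incl).restrictScalars R)
      ((LocalizedModule.map S π).restrictScalars R) := LocalizedModule.map_exact S incl π hex
  have hinj' : Function.Injective ((LocalizedModule.map S incl).restrictScalars R) :=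
    LocalizedModule.map_injective S incl hincl
  have hsurj' : Function.Surjective ((LocalizedModule.map S π).restrictScalars R) :=
    LocalizedModule.map_surjective S π hπ
  have h1 := LinearMap.lTensor_injective_of_exact_of_flat _ hsurj' _ hinj' hex' k
  have hsq : ((LocalizedModule.map S incl).restrictScalars R) ∘ₗ LocalizedModule.mkLinearMap S I =
      LocalizedModule.mkLinearMap S H ∘ₗ incl := by
    ext x
    simp [LocalizedModule.map_mk]
  have hsq' : (((LocalizedModule.map S incl).restrictScalars R).lTensor k) ∘ₗ
      (LocalizedModule.mkLinearMap S I).lTensor k =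
      (LocalizedModule.mkLinearMap S H).lTensor k ∘ₗ incl.lTensor k := by
    rw [← LinearMap.lTensor_comp, ← LinearMap.lTensor_comp, hsq]
  have h2 := lTensor_mk_injective (k := k) a ha I
  have h3 : Function.Injective ((((LocalizedModule.map S incl).restrictScalars R).lTensor k) ∘ₗ
      (LocalizedModule.mkLinearMap S I).lTensor k) := by
    rw [LinearMap.coe_comp]; exact h1.comp h2
  rw [hsq', LinearMap.coe_comp] at h3
  exact Function.Injective.of_comp h3

end Gen


section Main
variable {R B : Type u} [CommRing R] [IsDomain R]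
    [CommRing B] [Algebra R B]
    {F G H : Type u} [AddCommGroup F] [Module B F] [Module R F] [IsScalarTower R B F]
    [AddCommGroup G] [Module B G] [Module R G] [IsScalarTower R B G]
    [AddCommGroup H] [Module B H] [Module R H] [IsScalarTower R B H]

/-- torsion detection via the generic fibre -/
lemma torsion_of_tmul_eq_zero {X : Type*} [AddCommGroup X] [Module R X] (x : X)
    (h : (1 : FractionRing R) ⊗ₜ[R] x = 0) : ∃ r : R, r ≠ 0 ∧ r • x = 0 := by
  have h1 : IsLocalizedModule (nonZeroDivisors R) (TensorProduct.mk R (FractionRing R) X 1) :=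
    inferInstance
  have h2 : (TensorProduct.mk R (FractionRing R) X 1) x = 0 := h
  obtain ⟨s, hs⟩ := (IsLocalizedModule.eq_zero_iff (nonZeroDivisors R) _).mp h2
  exact ⟨s.1, nonZeroDivisors.ne_zero s.2, hs⟩

lemma exists_rep {X : Type*} [AddCommGroup X] [Module R X] (z : FractionRing R ⊗[R] X) :
    ∃ (s : R) (x : X), s ≠ 0 ∧ s • z = (1 : FractionRing R) ⊗ₜ[R] x := by
  have h1 : IsLocalizedModule (nonZeroDivisors R) (TensorProduct.mk R (FractionRing R) X 1) :=
    inferInstance
  obtain ⟨⟨x, s⟩, hs⟩ := IsLocalizedModule.surj (nonZeroDivisors R)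
    (TensorProduct.mk R (FractionRing R) X 1) z
  exact ⟨s.1, x, nonZeroDivisors.ne_zero s.2, hs⟩

omit [IsDomain R] in
lemma tmul_eq_pow {k : Type*} [CommRing k] [Algebra R k] {a : R}
    (ha : IsUnit (algebraMap R k a)) {X : Type*} [AddCommGroup X] [Module R X]
    (n : ℕ) (t : k) (x : X) : ∃ t' : k, t ⊗ₜ[R] x = t' ⊗ₜ[R] (a ^ n • x) := by
  obtain ⟨c, hc⟩ := ha.exists_left_inv
  refine ⟨t * c ^ n, ?_⟩
  rw [TensorProduct.tmul_smul, TensorProduct.smul_tmul', Algebra.smul_def, map_pow,
    mul_comm t, ← mul_assoc, mul_comm _ (c ^ n), ← mul_pow, hc, one_pow, one_mul]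

variable (u : F →ₗ[B] G) (v : G →ₗ[B] H)

lemma tors1 {a : R} {ι : Type*} {b : ι → H} (hH : IsABasis a b)
    (hgen : Function.Exact ((u.restrictScalars R).baseChange (FractionRing R))
      ((v.restrictScalars R).baseChange (FractionRing R))) (x : F) :
    ∃ n : ℕ, a ^ n • v (u x) = 0 := by
  have h1 := hgen.apply_apply_eq_zero ((1 : FractionRing R) ⊗ₜ[R] x)
  simp only [LinearMap.baseChange_tmul, LinearMap.coe_restrictScalars] at h1
  obtain ⟨r, hr, hr0⟩ := torsion_of_tmul_eq_zero _ h1
  exact hH.exists_pow_smul_eq_zero hr hr0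

lemma tors2 {a : R} {ι : Type*} {b : ι → G ⧸ LinearMap.range u} (hC : IsABasis a b)
    (hgen : Function.Exact ((u.restrictScalars R).baseChange (FractionRing R))
      ((v.restrictScalars R).baseChange (FractionRing R))) (g : G) (hg : v g = 0) :
    ∃ n : ℕ, a ^ n • g ∈ LinearMap.range u := by
  have h1 : ((v.restrictScalars R).baseChange (FractionRing R))
      ((1 : FractionRing R) ⊗ₜ[R] g) = 0 := by
    simp [hg]
  obtain ⟨z, hz⟩ := (hgen _).mp h1
  obtain ⟨s, x, hs, hsz⟩ := exists_rep z
  have h2 : (1 : FractionRing R) ⊗ₜ[R] (u x - s • g) = 0 := by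
    rw [TensorProduct.tmul_sub, TensorProduct.tmul_smul, ← hz, ← LinearMap.map_smul_of_tower,
      hsz]
    simp
  obtain ⟨r, hr, hr0⟩ := torsion_of_tmul_eq_zero _ h2
  have h3 : (r * s) • (Submodule.Quotient.mk g : G ⧸ LinearMap.range u) = 0 := by
    rw [← Submodule.Quotient.mk_smul, Submodule.Quotient.mk_eq_zero]
    refine ⟨r • x, ?_⟩
    rw [smul_sub, sub_eq_zero] at hr0
    rw [LinearMap.map_smul_of_tower, hr0, smul_smul]
  obtain ⟨n, hn⟩ := hC.exists_pow_smul_eq_zero (mul_ne_zero hr hs) h3
  refine ⟨n, ?_⟩
  rwa [← Submodule.Quotient.mk_smul, Submodule.Quotient.mk_eq_zero] at hn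

omit [IsDomain R] in
theorem exact_k {a : R} {ιQ : Type*} {bQ : ιQ → H ⧸ LinearMap.range v} (hQ : IsABasis a bQ)
    (tors1 : ∀ x : F, ∃ n : ℕ, a ^ n • v (u x) = 0)
    (tors2 : ∀ g : G, v g = 0 → ∃ n : ℕ, a ^ n • g ∈ LinearMap.range u)
    (k : Type*) [CommRing k] [Algebra R k] (hk : IsUnit (algebraMap R k a)) :
    Function.Exact ((u.restrictScalars R).lTensor k) ((v.restrictScalars R).lTensor k) := by
  let incl : LinearMap.range v →ₗ[R] H := (LinearMap.range v).subtype.restrictScalars R
  let π : H →ₗ[R] (H ⧸ LinearMap.range v) := (LinearMap.range v).mkQ.restrictScalars R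
  let v' : G →ₗ[R] LinearMap.range v := v.rangeRestrict.restrictScalars R
  let j : LinearMap.ker v →ₗ[R] G := (LinearMap.ker v).subtype.restrictScalars R
  have hincl : Function.Injective incl := Subtype.val_injective
  have hπ : Function.Surjective π := Submodule.mkQ_surjective (LinearMap.range v)
  have hex : Function.Exact incl π := by
    intro y
    show (LinearMap.range v).mkQ y = 0 ↔ y ∈ Set.range (LinearMap.range v).subtype
    rw [Submodule.mkQ_apply, Submodule.Quotient.mk_eq_zero]
    simp
  have hinj := lTensor_injective_of_isABasis incl π hincl hπ hex hQ k hk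
  have hv : v.restrictScalars R = incl ∘ₗ v' := by ext x; rfl
  have hv' : Function.Surjective v' := LinearMap.surjective_rangeRestrict v
  have hex2 : Function.Exact j v' := by
    intro y
    show v.rangeRestrict y = 0 ↔ y ∈ Set.range (LinearMap.ker v).subtype
    rw [← LinearMap.mem_ker, LinearMap.ker_rangeRestrict]
    simp
  have hex3 := lTensor_exact k hex2 hv'
  intro y
  constructor
  · intro hy
    rw [hv, LinearMap.lTensor_comp, LinearMap.comp_apply] at hy
    have hy' : (v'.lTensor k) y = 0 := hinj (by rw [hy, map_zero])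
    obtain ⟨w, rfl⟩ := (hex3 y).mp hy'
    clear hy hy'
    show _ ∈ LinearMap.range ((u.restrictScalars R).lTensor k)
    induction w using TensorProduct.induction_on with
    | zero => simp
    | tmul t g =>
      obtain ⟨n, x, hx⟩ := tors2 g.1 g.2
      obtain ⟨t', ht'⟩ := tmul_eq_pow hk n t g.1
      refine ⟨t' ⊗ₜ x, ?_⟩
      rw [LinearMap.lTensor_tmul, LinearMap.lTensor_tmul]
      show t' ⊗ₜ[R] u x = t ⊗ₜ[R] g.1
      rw [hx, ht']
    | add w1 w2 h1 h2 =>
      rw [map_add]
      exact Submodule.add_mem _ h1 h2
  · rintro ⟨w, rfl⟩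
    induction w using TensorProduct.induction_on with
    | zero => simp
    | tmul t x =>
      obtain ⟨n, hn⟩ := tors1 x
      obtain ⟨t', ht'⟩ := tmul_eq_pow hk n t (v (u x))
      rw [LinearMap.lTensor_tmul, LinearMap.lTensor_tmul]
      show t ⊗ₜ[R] v (u x) = 0
      rw [ht', hn, TensorProduct.tmul_zero]
    | add w1 w2 h1 h2 => rw [map_add, map_add, h1, h2, add_zero]

theorem main_k [Algebra.FiniteType R B] [Module.Finite B G] [Module.Finite B H]
    (hgen : Function.Exact ((u.restrictScalars R).baseChange (FractionRing R))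
      ((v.restrictScalars R).baseChange (FractionRing R))) :
    ∃ f : R, f ≠ 0 ∧ ∀ (k : Type u) [CommRing k] [Algebra R k], IsUnit (algebraMap R k f) →
      Function.Exact ((u.restrictScalars R).baseChange k) ((v.restrictScalars R).baseChange k) := by
  obtain ⟨aH, haH, ιH, bH, hbH⟩ := goodRing_of_finiteType' R B H
  obtain ⟨aQ, haQ, ιQ, bQ, hbQ⟩ := goodRing_of_finiteType' R B (H ⧸ LinearMap.range v)
  obtain ⟨aC, haC, ιC, bC, hbC⟩ := goodRing_of_finiteType' R B (G ⧸ LinearMap.range u)
  have hf0 : aH * aQ * aC ≠ 0 := mul_ne_zero (mul_ne_zero haH haQ) haC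
  have hH : IsABasis (aH * aQ * aC) bH := (hbH.mul haQ).mul haC
  have hQ : IsABasis (aH * aQ * aC) bQ := (hbQ.mul' haH).mul haC
  have hC : IsABasis (aH * aQ * aC) bC := hbC.mul' (mul_ne_zero haH haQ)
  refine ⟨aH * aQ * aC, hf0, ?_⟩
  intro k _ _ hk
  rw [LinearMap.baseChange_eq_ltensor, LinearMap.baseChange_eq_ltensor]
  exact exact_k u v hQ (tors1 u v hH hgen) (tors2 u v hC hgen) k hk

theorem main [Algebra.FinitePresentation R B] [Module.FinitePresentation B F]
    [Module.FinitePresentation B G] [Module.FinitePresentation B H]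
    (hgen : Function.Exact ((u.restrictScalars R).baseChange (FractionRing R))
      ((v.restrictScalars R).baseChange (FractionRing R))) :
    ∃ f : R, f ≠ 0 ∧ ∀ p : PrimeSpectrum R, f ∉ p.asIdeal →
      Function.Exact ((u.restrictScalars R).baseChange p.asIdeal.ResidueField)
        ((v.restrictScalars R).baseChange p.asIdeal.ResidueField) := by
  obtain ⟨f, hf0, hf⟩ := main_k u v hgen
  refine ⟨f, hf0, fun p hp => hf p.asIdeal.ResidueField ?_⟩
  rw [isUnit_iff_ne_zero, Ne, Ideal.algebraMap_residueField_eq_zero]
  exact hp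

end Main

end Aux

/-- Let R be an integral domain with fraction field K, B an R-algebra of finite presentation, F, G, H
three B-modules of finite presentation and u : F → G, v : G → H homomorphisms of B-modules such that
the generic fibre sequence K ⊗_R F → K ⊗_R G → K ⊗_R H is exact. Then there is a nonzero f ∈ R such
that, for every prime ideal p of R with f ∉ p, the fibre sequence κ(p) ⊗_R F → κ(p) ⊗_R G → κ(p) ⊗_R
H is exact. Affine form: S = Spec R, X = Spec B with B a finitely presented R-algebra, the modules
finitely presented B-modules, and the fibre of a module M at a prime p taken as κ(p) ⊗_R M; the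
published statement, for a morphism of finite presentation and quasi-coherent modules of finite
presentation, is local on S and on X and reduces to this one. -/
theorem result {R B : Type u} [CommRing R] [IsDomain R]
    [CommRing B] [Algebra R B] [Algebra.FinitePresentation R B]
    {F G H : Type u} [AddCommGroup F] [Module B F] [Module R F] [IsScalarTower R B F] [Module.FinitePresentation B F]
    [AddCommGroup G] [Module B G] [Module R G] [IsScalarTower R B G] [Module.FinitePresentation B G]
    [AddCommGroup H] [Module B H] [Module R H] [IsScalarTower R B H] [Module.FinitePresentation B H]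
    (u : F →ₗ[B] G) (v : G →ₗ[B] H)
    (hgen : Function.Exact ((u.restrictScalars R).baseChange (FractionRing R)) ((v.restrictScalars R).baseChange (FractionRing R))) :
    ∃ f : R, f ≠ 0 ∧ ∀ p : PrimeSpectrum R, f ∉ p.asIdeal →
      Function.Exact ((u.restrictScalars R).baseChange p.asIdeal.ResidueField) ((v.restrictScalars R).baseChange p.asIdeal.ResidueField) := by
  exact Aux.main u v hgen

end Groth.Agent.S4801
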