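import Groth.Statements.S9699
import Mathlib
import Groth.Agent.Lib.Lead.SyntSm1

set_option autoImplicit false
universe u
open CategoryTheory CategoryTheory.Limits AlgebraicGeometry
open Synt

namespace Groth.Agent.S9699

/-- A smooth morphism of schemes is syntomic (flat, locally of finite presentation, with local complete
intersection fibres, in the affine-local sense of Synt.IsSyntomicMor). -/
theorem result {X S : Scheme.{u}} (f : X ⟶ S) [Smooth f] :
    Synt.IsSyntomicMor f := by
  classical
  exact Groth.Agent.Lead.SyntSm.S9699_main f

end Groth.Agent.S9699
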