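import Groth.Statements.S0010
import Mathlib
import Groth.Agent.Lib.Helper1.CovVan
import Groth.Agent.Lib.Helper1.CohUtil

set_option autoImplicit false
universe u
open Coherent

namespace Groth.Agent.S0010

open AlgebraicGeometry in
/-- Let X be a scheme in which the intersection of any two affine opens is affine (equivalently, X has
affine diagonal; e.g. X separated), covered by t affine opens. Then H^n(X, F) = 0 for every
quasi-coherent F and every n ≥ t. -/
theorem result (X : Scheme.{u}) (t : ℕ) (U : Fin t → X.Opens)
    (hU : ∀ i, IsAffineOpen (U i)) (hcov : ⨆ i, U i = ⊤)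
    (hd : ∀ V W : X.Opens, IsAffineOpen V → IsAffineOpen W → IsAffineOpen (V ⊓ W))
    (M : X.Modules) [Coh.IsQCoh M] (n : ℕ) (hn : t ≤ n) :
    Subsingleton (Coh.HH X M n) := by
  classical
  rcases t with _ | t
  · -- `X` is empty
    have hE : IsEmpty X := by
      refine ⟨fun x => ?_⟩
      have hx : x ∈ (⊤ : X.Opens) := trivial
      rw [← hcov] at hx
      obtain ⟨i, -⟩ := TopologicalSpace.Opens.mem_iSup.1 hx
      exact i.elim0
    rcases n with _ | n
    · exact Groth.Agent.Helper1.CohUtil.subsingleton_HH0_of_isEmpty M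
    · have h := Groth.Agent.Helper1.QcAcyc.subsingleton_HU M ⊤ (AlgebraicGeometry.isAffineOpen_top X) n
      exact (Groth.Agent.Helper1.CohUtil.HHequivHU M (n + 1)).toEquiv.subsingleton
  · have h := Groth.Agent.Helper1.CovVan.van_of_cover M {V | IsAffineOpen V} (fun V hV => hV)
      (fun V hV V' hV' => hd V V' hV hV') t U hU n hn
    rw [hcov] at h
    exact (Groth.Agent.Helper1.CohUtil.HHequivHU M n).toEquiv.subsingleton

end Groth.Agent.S0010
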