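import Groth.Statements.S4824
import Mathlib
-- import your own Groth.Agent.* helpers here

set_option autoImplicit false
open CategoryTheory AlgebraicGeometry
universe u
open Cons9

namespace Groth.Agent.S4824

open MvPolynomial AlgebraicGeometry CategoryTheory Limits TensorProduct
namespace Aux


theorem exists_algHom_of_finiteType (k : Type*) [Field k] (R : Type*) [CommRing R] [Algebra k R]
    [Nontrivial R] [Algebra.FiniteType k R] (Ω : Type*) [Field Ω] [Algebra k Ω] [IsAlgClosed Ω] :
    Nonempty (R →ₐ[k] Ω) := by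
  obtain ⟨m, hm⟩ := Ideal.exists_maximal R
  letI := Ideal.Quotient.field m
  haveI := finite_of_finite_type_of_isJacobsonRing k (R ⧸ m)
  haveI : Algebra.IsAlgebraic k (R ⧸ m) := Algebra.IsAlgebraic.of_finite _ _
  exact ⟨(IsAlgClosed.lift : (R ⧸ m) →ₐ[k] Ω).comp (Ideal.Quotient.mkₐ k m)⟩

theorem isUnit_map_iff {k K : Type*} [Field k] [Field K] {σ : Type*} (f : k →+* K)
    (P : MvPolynomial σ k) : IsUnit (map f P) ↔ IsUnit P := by
  rw [MvPolynomial.isUnit_iff, MvPolynomial.isUnit_iff]
  simp only [coeff_map, isUnit_iff_ne_zero, isNilpotent_iff_eq_zero, ne_eq, map_eq_zero]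

theorem not_isUnit_of_coeff_ne_zero {K : Type*} [CommRing K] [IsReduced K] {σ : Type*}
    {P : MvPolynomial σ K} {m : σ →₀ ℕ} (hm : m ≠ 0) (h : coeff m P ≠ 0) : ¬ IsUnit P := by
  intro hu
  rw [MvPolynomial.isUnit_iff] at hu
  exact h (by simpa using hu.2 m hm)

theorem exists_coeff_ne_zero_of_not_isUnit {K : Type*} [Field K] {σ : Type*}
    {G : MvPolynomial σ K} (h0 : G ≠ 0) (hu : ¬ IsUnit G) : ∃ m, m ≠ 0 ∧ coeff m G ≠ 0 := by
  by_contra hcon
  push Not at hcon
  apply hu
  rw [MvPolynomial.isUnit_iff]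
  refine ⟨?_, fun i hi => by rw [hcon i hi]; exact IsNilpotent.zero⟩
  rw [isUnit_iff_ne_zero]
  intro h00
  apply h0
  ext m
  by_cases hm : m = 0
  · subst hm; simpa using h00
  · simpa using hcon m hm

theorem irreducible_map_of_algClosed {k : Type*} [Field k] {σ : Type*}
    (Ω : Type*) [Field Ω] [Algebra k Ω] [IsAlgClosed Ω] (K : Type*) [Field K] [Algebra k K]
    (F : MvPolynomial σ k) (hF : Irreducible (map (algebraMap k Ω) F)) :
    Irreducible (map (algebraMap k K) F) := by
  classical
  have hFu : ¬ IsUnit F := fun h => hF.not_isUnit ((isUnit_map_iff _ _).mpr h)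
  have hF0 : F ≠ 0 := by
    rintro rfl
    exact hF.ne_zero (by simp)
  have hFK0 : map (algebraMap k K) F ≠ 0 := by
    intro h
    apply hF0
    exact (map_injective _ (algebraMap k K).injective) (by simpa using h)
  refine ⟨fun h => hFu ((isUnit_map_iff _ _).mp h), ?_⟩
  intro G H hGH
  by_contra hcon
  push Not at hcon
  obtain ⟨hGu, hHu⟩ := hcon
  have hG0 : G ≠ 0 := by rintro rfl; exact hFK0 (by simpa using hGH)
  have hH0 : H ≠ 0 := by rintro rfl; exact hFK0 (by simpa using hGH)
  obtain ⟨mG, hmG, hcG⟩ := exists_coeff_ne_zero_of_not_isUnit hG0 hGu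
  obtain ⟨mH, hmH, hcH⟩ := exists_coeff_ne_zero_of_not_isUnit hH0 hHu
  let S : Finset K := G.coeffs ∪ H.coeffs ∪ {(coeff mG G)⁻¹, (coeff mH H)⁻¹}
  let R : Subalgebra k K := Algebra.adjoin k (S : Set K)
  haveI : Algebra.FiniteType k R := .adjoin_of_finite S.finite_toSet
  obtain ⟨ψ⟩ := exists_algHom_of_finiteType k R Ω
  have hSR : (S : Set K) ⊆ R := Algebra.subset_adjoin
  have hrange : Set.range (R.val : R →+* K) = (R : Set K) := by
    ext x; simp
  have hGr : G ∈ Set.range (map (R.val : R →+* K)) := by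
    rw [mem_range_map_iff_coeffs_subset, hrange]
    refine subset_trans ?_ hSR
    intro x hx
    simp only [S, Finset.coe_union, Set.mem_union]
    exact Or.inl (Or.inl hx)
  have hHr : H ∈ Set.range (map (R.val : R →+* K)) := by
    rw [mem_range_map_iff_coeffs_subset, hrange]
    refine subset_trans ?_ hSR
    intro x hx
    simp only [S, Finset.coe_union, Set.mem_union]
    exact Or.inl (Or.inr hx)
  obtain ⟨G', hG'⟩ := hGr
  obtain ⟨H', hH'⟩ := hHr
  have hinj : Function.Injective (map (R.val : R →+* K) : MvPolynomial σ R → MvPolynomial σ K) :=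
    map_injective _ Subtype.val_injective
  have hR : map (algebraMap k R) F = G' * H' := by
    apply hinj
    rw [map_mul, hG', hH', ← hGH, MvPolynomial.map_map]
    rfl
  have hΩ : map (algebraMap k Ω) F = map (ψ : R →+* Ω) G' * map (ψ : R →+* Ω) H' := by
    rw [← map_mul, ← hR, MvPolynomial.map_map, AlgHom.comp_algebraMap]
  -- inverses
  have hdG : (coeff mG (map (R.val : R →+* K) G'))⁻¹ ∈ R := by rw [hG']; exact hSR (by simp [S])
  have hdH : (coeff mH (map (R.val : R →+* K) H'))⁻¹ ∈ R := by rw [hH']; exact hSR (by simp [S])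
  have key : ∀ (P : MvPolynomial σ R) (m : σ →₀ ℕ), m ≠ 0 →
      coeff m (map (R.val : R →+* K) P) ≠ 0 → (coeff m (map (R.val : R →+* K) P))⁻¹ ∈ R →
      ¬ IsUnit (map (ψ : R →+* Ω) P) := by
    intro P m hm hc hd
    apply not_isUnit_of_coeff_ne_zero hm
    rw [coeff_map]
    rw [coeff_map] at hc hd
    have h1 : coeff m P * ⟨_, hd⟩ = 1 := by
      apply Subtype.val_injective
      simp only [Subalgebra.coe_mul, Subalgebra.coe_one]
      exact mul_inv_cancel₀ hc
    intro h0
    have := congrArg (ψ : R →+* Ω) h1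
    rw [map_mul, h0, zero_mul, map_one] at this
    exact zero_ne_one this
  rcases hF.isUnit_or_isUnit hΩ with h | h
  · exact key G' mG hmG (by rw [hG']; exact hcG) hdG h
  · exact key H' mH hmH (by rw [hH']; exact hcH) hdH h



noncomputable def tensorEquiv {k : Type u} [Field k] (K : Type u) [Field K] [Algebra k K] {σ : Type*}
    (F : MvPolynomial σ k) :
    K ⊗[k] (MvPolynomial σ k ⧸ Ideal.span ({F} : Set (MvPolynomial σ k))) ≃+*
      MvPolynomial σ K ⧸ Ideal.span ({map (algebraMap k K) F} : Set (MvPolynomial σ K)) :=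
  (Algebra.TensorProduct.tensorQuotientEquiv (R := k) K (MvPolynomial σ k) K
      (Ideal.span ({F} : Set (MvPolynomial σ k)))).toRingEquiv.trans
    (Ideal.quotientEquiv _ _ (MvPolynomial.algebraTensorAlgEquiv k K).toRingEquiv (by
      rw [Ideal.map_span, Ideal.map_span, Set.image_singleton, Set.image_singleton]
      congr 2
      simp [MvPolynomial.algebraTensorAlgEquiv_tmul]))

theorem isDomain_iff {k : Type u} [Field k] (K : Type u) [Field K] [Algebra k K] {σ : Type*}
    (F : MvPolynomial σ k) (hF : F ≠ 0) :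
    IsDomain ((MvPolynomial σ k ⧸ Ideal.span ({F} : Set (MvPolynomial σ k))) ⊗[k] K) ↔
      Irreducible (map (algebraMap k K) F) := by
  have hFK0 : map (algebraMap k K) F ≠ 0 := by
    intro h
    apply hF
    exact (map_injective _ (algebraMap k K).injective) (by simpa using h)
  let e : (MvPolynomial σ k ⧸ Ideal.span ({F} : Set (MvPolynomial σ k))) ⊗[k] K ≃+*
      MvPolynomial σ K ⧸ Ideal.span ({map (algebraMap k K) F} : Set (MvPolynomial σ K)) :=
    (Algebra.TensorProduct.comm k _ K).toRingEquiv.trans (tensorEquiv K F)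
  rw [e.toMulEquiv.isDomain_iff, Ideal.Quotient.isDomain_iff_prime, Ideal.span_singleton_prime hFK0,
    irreducible_iff_prime]

instance : ObjectProperty.IsClosedUnderIsomorphisms (AlgebraicGeometry.IsIntegral : ObjectProperty Scheme.{u}) where
  of_iso {X Y} e h := by
    haveI : AlgebraicGeometry.IsIntegral X := h
    exact IsIntegral.of_isIso e.hom

theorem isIntegral_iso_iff {X Y : Scheme.{u}} (e : X ≅ Y) :
    AlgebraicGeometry.IsIntegral X ↔ AlgebraicGeometry.IsIntegral Y :=
  ⟨fun h => by haveI := h; exact IsIntegral.of_isIso e.hom,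
   fun h => by haveI := h; exact IsIntegral.of_isIso e.inv⟩

theorem main {k : Type u} [Field k] (Ω : Type u) [Field Ω] [Algebra k Ω]
    [IsAlgClosed Ω] {n : ℕ} (F : MvPolynomial (Fin n) k) (hF : 0 < F.totalDegree) :
    List.TFAE [
      GeometricallyIntegral (Spec.map (CommRingCat.ofHom
        (algebraMap k (MvPolynomial (Fin n) k ⧸ Ideal.span ({F} : Set (MvPolynomial (Fin n) k)))))),
      ∀ (K : Type u) [Field K] [Algebra k K], Irreducible (MvPolynomial.map (algebraMap k K) F),
      Irreducible (MvPolynomial.map (algebraMap k Ω) F)] := by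
  have hF0 : F ≠ 0 := by
    rintro rfl
    simp at hF
  have hgeo : GeometricallyIntegral (Spec.map (CommRingCat.ofHom
        (algebraMap k (MvPolynomial (Fin n) k ⧸ Ideal.span ({F} : Set (MvPolynomial (Fin n) k)))))) ↔
      ∀ (K : Type u) [Field K] [Algebra k K], Irreducible (MvPolynomial.map (algebraMap k K) F) := by
    rw [geometricallyIntegral_iff, geometrically_iff_of_commRing_of_isClosedUnderIsomorphisms]
    refine forall_congr' fun K => forall_congr' fun _ => forall_congr' fun _ => ?_
    rw [← isDomain_iff K F hF0]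
    rw [isIntegral_iso_iff (pullbackSpecIso k (MvPolynomial (Fin n) k ⧸ Ideal.span ({F} : Set (MvPolynomial (Fin n) k))) K),
      affine_isIntegral_iff]
  tfae_have 1 ↔ 2 := hgeo
  tfae_have 2 → 3 := fun h => h Ω
  tfae_have 3 → 2 := fun h K _ _ => irreducible_map_of_algClosed Ω K F h
  tfae_finish

end Aux

/-- Let k be a field, Ω an algebraically closed extension of k and F a non-constant polynomial in k[T_1,
…, T_n]. The following are equivalent: (a) the k-scheme Spec(k[T_1, …, T_n]/(F)) is geometrically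
integral; (b) for every extension field K of k the image of F in K[T_1, …, T_n] is irreducible; (c)
the image of F in Ω[T_1, …, T_n] is irreducible. (Such an F is called geometrically irreducible.) -/
theorem result {k : Type u} [Field k] (Ω : Type u) [Field Ω] [Algebra k Ω]
    [IsAlgClosed Ω] {n : ℕ} (F : MvPolynomial (Fin n) k) (hF : 0 < F.totalDegree) :
    List.TFAE [
      GeometricallyIntegral (Spec.map (CommRingCat.ofHom
        (algebraMap k (MvPolynomial (Fin n) k ⧸ Ideal.span ({F} : Set (MvPolynomial (Fin n) k)))))),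
      ∀ (K : Type u) [Field K] [Algebra k K], Irreducible (MvPolynomial.map (algebraMap k K) F),
      Irreducible (MvPolynomial.map (algebraMap k Ω) F)] := by
  exact Aux.main Ω F hF

end Groth.Agent.S4824
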