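import Groth.Statements.S1987
import Mathlib
import Groth.Prelude.Def_EtRam
-- import your own Groth.Agent.* helpers here

set_option autoImplicit false
universe u
open Polynomial
open EtAlg

namespace Groth.Agent.S1987

open Polynomial
namespace Aux

section
variable (A : Type u) [CommRing A] (π : A) (n : ℕ)

/-- the polynomial -/
noncomputable abbrev f : A[X] := X ^ n - C π

lemma f_monic (hn : 2 ≤ n) : (f A π n).Monic := monic_X_pow_sub_C π (by omega)

lemma f_natDegree [Nontrivial A] : (f A π n).natDegree = n :=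
  natDegree_X_pow_sub_C

lemma f_irred [IsDomain A] (hπ : Irreducible π) (hP : (Ideal.span {π}).IsPrime) (hn : 2 ≤ n) :
    Irreducible (f A π n) := by
  have hmon := f_monic A π n hn
  have hdeg : (f A π n).degree = n := by
    rw [degree_eq_natDegree hmon.ne_zero, f_natDegree A π n]
  refine irreducible_of_eisenstein_criterion hP ?_ ?_ ?_ ?_ hmon.isPrimitive
  · rw [hmon.leadingCoeff]
    intro h1
    exact hP.ne_top ((Ideal.eq_top_iff_one _).mpr h1)
  · intro k hk
    rw [hdeg] at hk
    have hk' : k < n := by exact_mod_cast hk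
    rw [f, coeff_sub, coeff_X_pow, coeff_C, if_neg (by omega)]
    by_cases h0 : k = 0
    · rw [if_pos h0, zero_sub]
      exact (Ideal.neg_mem_iff _).mpr (Ideal.mem_span_singleton_self π)
    · rw [if_neg h0, sub_zero]
      exact Ideal.zero_mem _
  · rw [hdeg]
    exact_mod_cast (by omega : 0 < n)
  · rw [f, coeff_sub, coeff_X_pow, coeff_C, if_neg (by omega), if_pos rfl, zero_sub,
      Ideal.span_singleton_pow, Ideal.neg_mem_iff, Ideal.mem_span_singleton]
    rintro ⟨c, hc⟩
    have : π * (1 - π * c) = 0 := by rw [mul_sub, mul_one, ← mul_assoc, ← sq, ← hc, sub_self]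
    rcases mul_eq_zero.mp this with h | h
    · exact hπ.ne_zero h
    · exact hπ.not_isUnit (IsUnit.of_mul_eq_one c (by rw [sub_eq_zero] at h; exact h.symm))

/-- the root -/
noncomputable abbrev x : AdjoinRoot (f A π n) := AdjoinRoot.root (f A π n)

lemma x_pow : x A π n ^ n = AdjoinRoot.of (f A π n) π := by
  have h := AdjoinRoot.eval₂_root (f A π n)
  rw [f, eval₂_sub, eval₂_X_pow, eval₂_C, sub_eq_zero] at h
  exact h

/-- evaluation at `x = 0` modulo `π` -/
noncomputable def ev (hn : 2 ≤ n) : AdjoinRoot (f A π n) →+* A ⧸ Ideal.span {π} :=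
  AdjoinRoot.lift (Ideal.Quotient.mk (Ideal.span {π})) 0 (by
    rw [f, eval₂_sub, eval₂_X_pow, eval₂_C, zero_pow (by omega), zero_sub, neg_eq_zero,
      Ideal.Quotient.eq_zero_iff_mem]
    exact Ideal.mem_span_singleton_self π)

lemma ev_of (hn : 2 ≤ n) (a : A) :
    ev A π n hn (AdjoinRoot.of (f A π n) a) = Ideal.Quotient.mk _ a := by
  simp [ev]

lemma ev_x (hn : 2 ≤ n) : ev A π n hn (x A π n) = 0 := by
  simp [ev, x]

lemma ev_surj (hn : 2 ≤ n) : Function.Surjective (ev A π n hn) := by
  intro y
  obtain ⟨a, rfl⟩ := Ideal.Quotient.mk_surjective y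
  exact ⟨AdjoinRoot.of (f A π n) a, ev_of A π n hn a⟩

/-- every element is congruent to a constant modulo `x` -/
lemma exists_const (y : AdjoinRoot (f A π n)) :
    ∃ (a : A) (w : AdjoinRoot (f A π n)), y = AdjoinRoot.of (f A π n) a + x A π n * w := by
  obtain ⟨p, rfl⟩ := AdjoinRoot.mk_surjective y
  refine ⟨p.coeff 0, AdjoinRoot.mk (f A π n) p.divX, ?_⟩
  conv_lhs => rw [← Polynomial.divX_mul_X_add p]
  rw [map_add, map_mul, AdjoinRoot.mk_X, AdjoinRoot.mk_C, add_comm, mul_comm]

lemma ker_ev (hn : 2 ≤ n) : RingHom.ker (ev A π n hn) = Ideal.span {x A π n} := by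
  refine le_antisymm ?_ ?_
  · intro y hy
    obtain ⟨a, w, rfl⟩ := exists_const A π n y
    rw [RingHom.mem_ker, map_add, map_mul, ev_x, zero_mul, add_zero, ev_of,
      Ideal.Quotient.eq_zero_iff_mem, Ideal.mem_span_singleton] at hy
    obtain ⟨c, rfl⟩ := hy
    refine Ideal.add_mem _ ?_ (Ideal.mul_mem_right _ _ (Ideal.mem_span_singleton_self _))
    have hx : x A π n ^ n = x A π n * x A π n ^ (n - 1) := by
      rw [← pow_succ', Nat.sub_add_cancel (by omega)]
    rw [map_mul, ← x_pow A π n, hx, mul_assoc]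
    exact Ideal.mul_mem_right _ _ (Ideal.mem_span_singleton_self _)
  · rw [Ideal.span_le, Set.singleton_subset_iff]
    exact ev_x A π n hn

lemma span_x_max (hmax : (Ideal.span {π}).IsMaximal) (hn : 2 ≤ n) :
    (Ideal.span {x A π n}).IsMaximal := by
  rw [← ker_ev A π n hn]
  let := Ideal.Quotient.field (Ideal.span {π})
  exact RingHom.ker_isMaximal_of_surjective _ (ev_surj A π n hn)

end

section dvr
variable (A : Type u) [CommRing A] [IsDomain A] [IsDiscreteValuationRing A] (π : A) (n : ℕ)

lemma span_pi_max (hπ : Irreducible π) : (Ideal.span {π}).IsMaximal :=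
  PrincipalIdealRing.isMaximal_of_irreducible hπ

lemma f_prime (hπ : Irreducible π) (hn : 2 ≤ n) : Prime (f A π n) :=
  (f_irred A π n hπ (span_pi_max A π hπ).isPrime hn).prime

lemma of_inj (hn : 2 ≤ n) : Function.Injective (AdjoinRoot.of (f A π n)) := by
  apply AdjoinRoot.of.injective_of_degree_ne_zero
  rw [degree_eq_natDegree (f_monic A π n hn).ne_zero, f_natDegree A π n]
  exact_mod_cast (by omega : n ≠ 0)

lemma x_ne_zero (hπ : Irreducible π) (hn : 2 ≤ n) : x A π n ≠ 0 := by
  intro h
  have := x_pow A π n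
  rw [h, zero_pow (by omega)] at this
  exact hπ.ne_zero (of_inj A π n hn (by rw [← this, map_zero]))

lemma max_unique (hπ : Irreducible π) (hn : 2 ≤ n) (M : Ideal (AdjoinRoot (f A π n)))
    (hM : M.IsMaximal) : M = Ideal.span {x A π n} := by
  have hfin : Module.Finite A (AdjoinRoot (f A π n)) := (f_monic A π n hn).finite_adjoinRoot
  have hint : Algebra.IsIntegral A (AdjoinRoot (f A π n)) := inferInstance
  have hc : (M.comap (algebraMap A (AdjoinRoot (f A π n)))).IsMaximal :=
    Ideal.isMaximal_comap_of_isIntegral_of_isMaximal M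
  have hc' : M.comap (algebraMap A (AdjoinRoot (f A π n))) = IsLocalRing.maximalIdeal A :=
    IsLocalRing.eq_maximalIdeal hc
  have hπM : AdjoinRoot.of (f A π n) π ∈ M := by
    have : π ∈ M.comap (algebraMap A (AdjoinRoot (f A π n))) := by
      rw [hc']
      exact hπ.not_isUnit
    exact this
  rw [← x_pow A π n] at hπM
  have hxM : x A π n ∈ M := hM.isPrime.mem_of_pow_mem n hπM
  have hle : Ideal.span {x A π n} ≤ M := by
    rw [Ideal.span_le, Set.singleton_subset_iff]
    exact hxM
  exact ((span_x_max A π n (span_pi_max A π hπ) hn).eq_of_le hM.ne_top hle).symm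

lemma isLocal (hπ : Irreducible π) (hn : 2 ≤ n) : IsLocalRing (AdjoinRoot (f A π n)) :=
  IsLocalRing.of_unique_max_ideal ⟨Ideal.span {x A π n},
    span_x_max A π n (span_pi_max A π hπ) hn, fun M hM => max_unique A π n hπ hn M hM⟩

lemma maxIdeal_eq (hπ : Irreducible π) (hn : 2 ≤ n) :
    let := isLocal A π n hπ hn
    IsLocalRing.maximalIdeal (AdjoinRoot (f A π n)) = Ideal.span {x A π n} := by
  let := isLocal A π n hπ hn
  exact (IsLocalRing.eq_maximalIdeal (span_x_max A π n (span_pi_max A π hπ) hn)).symm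

lemma isDVR (hπ : Irreducible π) (hn : 2 ≤ n) :
    let := AdjoinRoot.isDomain_of_prime (f_prime A π n hπ hn)
    IsDiscreteValuationRing (AdjoinRoot (f A π n)) := by
  let := AdjoinRoot.isDomain_of_prime (f_prime A π n hπ hn)
  let := isLocal A π n hπ hn
  have hfin : Module.Finite A (AdjoinRoot (f A π n)) := (f_monic A π n hn).finite_adjoinRoot
  have hN : IsNoetherianRing (AdjoinRoot (f A π n)) := Algebra.FiniteType.isNoetherianRing A _
  have hprin : (IsLocalRing.maximalIdeal (AdjoinRoot (f A π n))).IsPrincipal := by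
    rw [maxIdeal_eq A π n hπ hn]
    exact ⟨⟨x A π n, rfl⟩⟩
  have hpir : IsPrincipalIdealRing (AdjoinRoot (f A π n)) :=
    ((tfae_of_isNoetherianRing_of_isLocalRing_of_isDomain (AdjoinRoot (f A π n))).out 4 0).mp hprin
  exact
    { not_a_field' := by
        rw [maxIdeal_eq A π n hπ hn, Ne, Ideal.span_singleton_eq_bot]
        exact x_ne_zero A π n hπ hn }

end dvr


section
variable (B : Type u) [CommRing B] [IsDomain B] [ValuationRing B]
  (K : Type u) [Field K] [Algebra B K] [IsFractionRing B K]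

/-- `B` as a valuation subring of its fraction field. -/
noncomputable def V0 : ValuationSubring K := (ValuationRing.valuation B K).valuationSubring

lemma mem_V0 (y : K) : y ∈ V0 B K ↔ ∃ b : B, algebraMap B K b = y :=
  ValuationRing.mem_integer_iff B K y

lemma V0_lt (b : B) (hb : b ∈ IsLocalRing.maximalIdeal B) :
    (V0 B K).valuation (algebraMap B K b) < 1 := by
  have hmem : algebraMap B K b ∈ V0 B K := (mem_V0 B K _).mpr ⟨b, rfl⟩
  have := (ValuationSubring.valuation_lt_one_iff (V0 B K) ⟨algebraMap B K b, hmem⟩)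
  refine this.mp ?_
  rw [IsLocalRing.mem_maximalIdeal]
  intro hu
  obtain ⟨⟨u, v, huv, hvu⟩, hu'⟩ := hu
  have hu'' : (u : K) = algebraMap B K b := congrArg Subtype.val hu'
  obtain ⟨c, hc⟩ := (mem_V0 B K _).mp v.2
  have h1 : (u : K) * (v : K) = 1 := congrArg Subtype.val huv
  rw [hu'', ← hc, ← map_mul] at h1
  have h2 : b * c = 1 := IsFractionRing.injective B K (by rw [h1, map_one])
  exact hb (IsUnit.of_mul_eq_one c h2)

lemma eq_V0 (V : ValuationSubring K) (h1 : ∀ b : B, algebraMap B K b ∈ V)
    (h2 : ∀ b ∈ IsLocalRing.maximalIdeal B, V.valuation (algebraMap B K b) < 1) : V = V0 B K := by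
  apply le_antisymm
  · intro y hy
    by_contra hny
    have hy0 : y ≠ 0 := by
      rintro rfl
      exact hny (zero_mem _)
    rcases (V0 B K).mem_or_inv_mem y with h | h
    · exact hny h
    · obtain ⟨b, hb⟩ := (mem_V0 B K _).mp h
      have hbm : b ∈ IsLocalRing.maximalIdeal B := by
        rw [IsLocalRing.mem_maximalIdeal]
        intro hu
        apply hny
        obtain ⟨u, rfl⟩ := hu
        refine (mem_V0 B K _).mpr ⟨((u⁻¹ : Bˣ) : B), ?_⟩
        have : algebraMap B K (u : B) * algebraMap B K ((u⁻¹ : Bˣ) : B) = 1 := by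
          rw [← map_mul, Units.mul_inv, map_one]
        rw [hb] at this
        exact (eq_inv_of_mul_eq_one_right this).trans (inv_inv y)
      have h3 := h2 b hbm
      rw [hb, map_inv₀] at h3
      have h4 : V.valuation y ≤ 1 := (ValuationSubring.valuation_le_one_iff V y).mpr hy
      have hvy : V.valuation y ≠ 0 := (Valuation.ne_zero_iff _).mpr hy0
      have : (1 : _) < V.valuation y := by
        by_contra hle
        push Not at hle
        have := one_le_inv₀ (zero_lt_iff.mpr hvy) |>.mpr hle
        exact absurd h3 (not_lt.mpr this)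
      exact absurd h4 (not_le.mpr this)
  · intro y hy
    obtain ⟨b, rfl⟩ := (mem_V0 B K _).mp hy
    exact h1 b

end

section ram
variable (A : Type u) [CommRing A] [IsDomain A] [IsDiscreteValuationRing A] (π : A) (n : ℕ)

theorem totRam (hπ : Irreducible π) (hn : 2 ≤ n)
    [IsDomain (AdjoinRoot (f A π n))] [IsDiscreteValuationRing (AdjoinRoot (f A π n))]
    (K₁ : Type u) [Field K₁] [Algebra (AdjoinRoot (f A π n)) K₁]
    [IsFractionRing (AdjoinRoot (f A π n)) K₁] :
    EtRam.IsTotallyRamified A ((algebraMap (AdjoinRoot (f A π n)) K₁).comp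
      (algebraMap A (AdjoinRoot (f A π n)))) := by
  have hmax : IsLocalRing.maximalIdeal (AdjoinRoot (f A π n)) = Ideal.span {x A π n} :=
    (IsLocalRing.eq_maximalIdeal (span_x_max A π n (span_pi_max A π hπ) hn)).symm
  have hmA : IsLocalRing.maximalIdeal A = Ideal.span {π} :=
    (IsLocalRing.eq_maximalIdeal (span_pi_max A π hπ)).symm
  have hxm : x A π n ∈ IsLocalRing.maximalIdeal (AdjoinRoot (f A π n)) := by
    rw [hmax]; exact Ideal.mem_span_singleton_self _
  -- the key: a dominating valuation subring satisfies the hypotheses of `eq_V0`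
  have key : ∀ V : ValuationSubring K₁,
      EtRam.Dominates A ((algebraMap (AdjoinRoot (f A π n)) K₁).comp
        (algebraMap A (AdjoinRoot (f A π n)))) V →
      (∀ b : AdjoinRoot (f A π n), algebraMap _ K₁ b ∈ V) ∧
      (∀ b ∈ IsLocalRing.maximalIdeal (AdjoinRoot (f A π n)),
        V.valuation (algebraMap _ K₁ b) < 1) := by
    intro V hV
    have hπV : V.valuation (algebraMap _ K₁ (x A π n) ^ n) < 1 := by
      have := hV.2 π (by rw [hmA]; exact Ideal.mem_span_singleton_self π)
      rw [RingHom.comp_apply] at this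
      rw [← map_pow, x_pow]
      exact this
    have hxlt : V.valuation (algebraMap _ K₁ (x A π n)) < 1 := by
      rw [map_pow] at hπV
      by_contra hge
      push Not at hge
      exact absurd hπV (not_lt.mpr (one_le_pow₀ hge))
    have hxV : algebraMap _ K₁ (x A π n) ∈ V :=
      (ValuationSubring.valuation_le_one_iff V _).mp hxlt.le
    have h1 : ∀ b : AdjoinRoot (f A π n), algebraMap _ K₁ b ∈ V := by
      intro b
      obtain ⟨p, rfl⟩ := AdjoinRoot.mk_surjective b
      induction p using Polynomial.induction_on' with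
      | add p q hp hq =>
        rw [map_add, map_add]
        exact add_mem hp hq
      | monomial k a =>
        rw [← C_mul_X_pow_eq_monomial, map_mul, map_pow, AdjoinRoot.mk_C, AdjoinRoot.mk_X,
          map_mul, map_pow]
        exact mul_mem (hV.1 a) (pow_mem hxV k)
    refine ⟨h1, ?_⟩
    intro b hb
    rw [hmax, Ideal.mem_span_singleton] at hb
    obtain ⟨w, rfl⟩ := hb
    rw [map_mul, map_mul]
    have hw : V.valuation (algebraMap _ K₁ w) ≤ 1 :=
      (ValuationSubring.valuation_le_one_iff V _).mpr (h1 w)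
    calc V.valuation (algebraMap _ K₁ (x A π n)) * V.valuation (algebraMap _ K₁ w)
        ≤ V.valuation (algebraMap _ K₁ (x A π n)) * 1 := by gcongr
      _ < 1 := by rw [mul_one]; exact hxlt
  refine ⟨⟨V0 (AdjoinRoot (f A π n)) K₁, ?_, ?_⟩, ?_, ?_⟩
  · intro a
    exact (mem_V0 _ K₁ _).mpr ⟨_, rfl⟩
  · intro a ha
    rw [RingHom.comp_apply]
    apply V0_lt
    rw [hmA, Ideal.mem_span_singleton] at ha
    obtain ⟨c, rfl⟩ := ha
    rw [map_mul]
    refine Ideal.mul_mem_right _ _ ?_
    change AdjoinRoot.of (f A π n) π ∈ _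
    rw [← x_pow A π n]
    exact Ideal.pow_mem_of_mem _ hxm n (by omega)
  · intro V V' hV hV'
    rw [eq_V0 _ K₁ V (key V hV).1 (key V hV).2, eq_V0 _ K₁ V' (key V' hV').1 (key V' hV').2]
  · intro V hV
    obtain ⟨h1, h2⟩ := key V hV
    have hVeq := eq_V0 _ K₁ V h1 h2
    intro y
    obtain ⟨v, rfl⟩ := IsLocalRing.residue_surjective y
    have hv0 : (v : K₁) ∈ V0 (AdjoinRoot (f A π n)) K₁ := by rw [← hVeq]; exact v.2
    obtain ⟨b, hb⟩ := (mem_V0 _ K₁ _).mp hv0
    obtain ⟨a, w, rfl⟩ := exists_const A π n b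
    refine ⟨a, ?_⟩
    dsimp only
    rw [← sub_eq_zero, ← map_sub, IsLocalRing.residue_eq_zero_iff,
      ValuationSubring.valuation_lt_one_iff]
    have hval : (((RingHom.codRestrict ((algebraMap (AdjoinRoot (f A π n)) K₁).comp
        (algebraMap A (AdjoinRoot (f A π n)))) V hV.1 a - v : V)) : K₁) =
        - algebraMap _ K₁ (x A π n * w) := by
      rw [AddSubgroupClass.coe_sub, ← hb, map_add]
      simp only [RingHom.codRestrict_apply, RingHom.comp_apply]
      change algebraMap _ K₁ (AdjoinRoot.of (f A π n) a) - _ = _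
      ring
    rw [hval, Valuation.map_neg]
    exact h2 _ (Ideal.mul_mem_right _ _ hxm)

theorem main (hπ : Irreducible π) (hn : 2 ≤ n) :
    Irreducible (X ^ n - C π : A[X]) ∧
    ∃ (_ : IsDomain (AdjoinRoot (X ^ n - C π : A[X])))
      (_ : IsDiscreteValuationRing (AdjoinRoot (X ^ n - C π : A[X]))),
      IsIntegrallyClosed (AdjoinRoot (X ^ n - C π : A[X])) ∧
      (IsLocalRing.maximalIdeal A).map (algebraMap A (AdjoinRoot (X ^ n - C π : A[X]))) =
        IsLocalRing.maximalIdeal (AdjoinRoot (X ^ n - C π : A[X])) ^ n ∧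
      ∀ (K₁ : Type u) [Field K₁] [Algebra (AdjoinRoot (X ^ n - C π : A[X])) K₁]
        [IsFractionRing (AdjoinRoot (X ^ n - C π : A[X])) K₁],
        EtRam.IsTotallyRamified A ((algebraMap (AdjoinRoot (X ^ n - C π : A[X])) K₁).comp
          (algebraMap A (AdjoinRoot (X ^ n - C π : A[X])))) := by
  refine ⟨f_irred A π n hπ (span_pi_max A π hπ).isPrime hn,
    AdjoinRoot.isDomain_of_prime (f_prime A π n hπ hn), isDVR A π n hπ hn, ?_, ?_, ?_⟩
  · letI := AdjoinRoot.isDomain_of_prime (f_prime A π n hπ hn)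
    let := isDVR A π n hπ hn
    infer_instance
  · letI := AdjoinRoot.isDomain_of_prime (f_prime A π n hπ hn)
    let := isDVR A π n hπ hn
    have hmax : IsLocalRing.maximalIdeal (AdjoinRoot (f A π n)) = Ideal.span {x A π n} :=
      (IsLocalRing.eq_maximalIdeal (span_x_max A π n (span_pi_max A π hπ) hn)).symm
    have hmA : IsLocalRing.maximalIdeal A = Ideal.span {π} :=
      (IsLocalRing.eq_maximalIdeal (span_pi_max A π hπ)).symm
    rw [hmax, hmA, Ideal.map_span, Set.image_singleton, Ideal.span_singleton_pow]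
    congr 2
    exact (x_pow A π n).symm
  · intro K₁ _ _ _
    let := AdjoinRoot.isDomain_of_prime (f_prime A π n hπ hn)
    let := isDVR A π n hπ hn
    exact totRam A π n hπ hn K₁

end ram
end Aux

/-- Let A be a discrete valuation ring with uniformizer π and n ≥ 2, and let A' = A[x]/(x^n - π). Then
x^n - π is irreducible over A, A' is an integrally closed discrete valuation ring (so it is the
integral closure of A in its fraction field K₁ = K(π^{1/n}), of degree n over K), the maximal ideal
of A generates the n-th power of the maximal ideal of A' (ramification index n), and K₁ is totally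
ramified with respect to A. -/
theorem result (A : Type u) [CommRing A] [IsDomain A] [IsDiscreteValuationRing A] (π : A)
    (hπ : Irreducible π) (n : ℕ) (hn : 2 ≤ n) :
    Irreducible (X ^ n - C π : A[X]) ∧
    ∃ (_ : IsDomain (AdjoinRoot (X ^ n - C π : A[X]))) (_ : IsDiscreteValuationRing (AdjoinRoot (X ^ n - C π : A[X]))),
      IsIntegrallyClosed (AdjoinRoot (X ^ n - C π : A[X])) ∧
      (IsLocalRing.maximalIdeal A).map (algebraMap A (AdjoinRoot (X ^ n - C π : A[X]))) = IsLocalRing.maximalIdeal (AdjoinRoot (X ^ n - C π : A[X])) ^ n ∧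
      ∀ (K₁ : Type u) [Field K₁] [Algebra (AdjoinRoot (X ^ n - C π : A[X])) K₁] [IsFractionRing (AdjoinRoot (X ^ n - C π : A[X])) K₁],
        EtRam.IsTotallyRamified A ((algebraMap (AdjoinRoot (X ^ n - C π : A[X])) K₁).comp (algebraMap A (AdjoinRoot (X ^ n - C π : A[X])))) := by
  exact Aux.main A π n hπ hn

end Groth.Agent.S1987
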