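import Groth.Statements.S1989
import Mathlib
import Groth.Prelude.Def_EtRam
import Groth.Agent.Lib.Helper9.EtRam.Dom3
-- import your own Groth.Agent.* helpers here

set_option autoImplicit false
universe u
open EtAlg

namespace Groth.Agent.S1989

namespace Aux
open IsLocalRing EtRam Groth.Agent.Helper9.EtRamLib

theorem main (A K : Type u) [CommRing A] [IsDomain A] [IsDiscreteValuationRing A] [Field K] [Algebra A K] [IsFractionRing A K] (L M : Type u) [Field L] [Field M]
    [Algebra K L] [Algebra K M] [Algebra L M] [IsScalarTower K L M] [FiniteDimensional K M] [Algebra.IsSeparable K M] :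
    (EtRam.IsTamelyRamified A ((algebraMap K M).comp (algebraMap A K)) →
      EtRam.IsTamelyRamified A ((algebraMap K L).comp (algebraMap A K))) ∧
    (EtRam.IsUnramifiedExt A ((algebraMap K M).comp (algebraMap A K)) →
      EtRam.IsUnramifiedExt A ((algebraMap K L).comp (algebraMap A K))) := by
  haveI : FiniteDimensional K L := FiniteDimensional.left K L M
  set gL := (algebraMap K L).comp (algebraMap A K) with hgL
  set gM := (algebraMap K M).comp (algebraMap A K) with hgM
  have hcomp : gM = (algebraMap L M).comp gL := by
    ext a; simp [gM, gL, ← IsScalarTower.algebraMap_apply K L M]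
  have hinjL : Function.Injective gL :=
    (algebraMap K L).injective.comp (IsFractionRing.injective A K)
  constructor
  · intro hM V hV iV
    obtain ⟨W, hVW⟩ := exists_dom_ext V (algebraMap L M)
    have hW : Dominates A gM W := hcomp ▸ dom_trans hV hVW
    haveI : IsDiscreteValuationRing V := isDVR_of_dominates (A := A) (K := K) (g := gL) (fun a => rfl) hV
    haveI : IsDiscreteValuationRing W := isDVR_of_dominates (A := A) (K := K) (g := gM) (fun a => rfl) hW
    letI : Algebra A W := (RingHom.codRestrict gM W hW.1).toAlgebra
    haveI : IsLocalHom (algebraMap A W) := dom_isLocalHom hW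
    obtain ⟨hsep, hp⟩ := hM W hW
    refine ⟨tower_sep_bot hcomp hV hVW hW hsep, fun p hpp hchar hdvd => ?_⟩
    apply hp p hpp hchar
    rw [tower_ram hcomp hinjL hV hVW hW]
    exact Dvd.dvd.mul_right hdvd _
  · intro hM V hV iV
    obtain ⟨W, hVW⟩ := exists_dom_ext V (algebraMap L M)
    have hW : Dominates A gM W := hcomp ▸ dom_trans hV hVW
    haveI : IsDiscreteValuationRing V := isDVR_of_dominates (A := A) (K := K) (g := gL) (fun a => rfl) hV
    haveI : IsDiscreteValuationRing W := isDVR_of_dominates (A := A) (K := K) (g := gM) (fun a => rfl) hW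
    letI : Algebra A W := (RingHom.codRestrict gM W hW.1).toAlgebra
    haveI : IsLocalHom (algebraMap A W) := dom_isLocalHom hW
    obtain ⟨hwu, hsep⟩ := hM W hW
    letI : Algebra A V := (RingHom.codRestrict gL V hV.1).toAlgebra
    refine ⟨?_, tower_sep_bot hcomp hV hVW hW hsep⟩
    have hinjM : Function.Injective gM := hcomp ▸ (algebraMap L M).injective.comp hinjL
    rw [isWeaklyUnramified_iff A W (codRestrict_injective hinjM hW.1)] at hwu
    rw [isWeaklyUnramified_iff A V (codRestrict_injective hinjL hV.1)]
    rw [tower_ram hcomp hinjL hV hVW hW] at hwu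
    exact Nat.eq_one_of_mul_eq_one_right hwu

end Aux

/-- Let K be the fraction field of a discrete valuation ring A, and K ⊂ L ⊂ M finite separable
extensions. If M is tamely ramified, respectively unramified, with respect to A, then so is L. -/
theorem result (A K : Type u) [CommRing A] [IsDomain A] [IsDiscreteValuationRing A] [Field K] [Algebra A K] [IsFractionRing A K] (L M : Type u) [Field L] [Field M]
    [Algebra K L] [Algebra K M] [Algebra L M] [IsScalarTower K L M] [FiniteDimensional K M] [Algebra.IsSeparable K M] :
    (EtRam.IsTamelyRamified A ((algebraMap K M).comp (algebraMap A K)) →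
      EtRam.IsTamelyRamified A ((algebraMap K L).comp (algebraMap A K))) ∧
    (EtRam.IsUnramifiedExt A ((algebraMap K M).comp (algebraMap A K)) →
      EtRam.IsUnramifiedExt A ((algebraMap K L).comp (algebraMap A K))) := by
  exact Aux.main A K L M

end Groth.Agent.S1989
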