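import Groth.Statements.S1990
import Mathlib
import Groth.Prelude.Def_EtRam
import Groth.Agent.Lib.Helper9.EtRam.Dom3
-- import your own Groth.Agent.* helpers here

set_option autoImplicit false
universe u
open EtAlg

namespace Groth.Agent.S1990

namespace Aux
open IsLocalRing EtRam Groth.Agent.Helper9.EtRamLib

theorem main (A K : Type u) [CommRing A] [IsDomain A] [IsDiscreteValuationRing A] [Field K] [Algebra A K] [IsFractionRing A K] (L M : Type u) [Field L] [Field M]
    [Algebra K L] [Algebra K M] [Algebra L M] [IsScalarTower K L M] [FiniteDimensional K M] [Algebra.IsSeparable K M] :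
    (EtRam.IsTamelyRamified A ((algebraMap K L).comp (algebraMap A K)) →
      (∀ (V : ValuationSubring L), EtRam.Dominates A ((algebraMap K L).comp (algebraMap A K)) V →
        EtRam.IsTamelyRamified V ((algebraMap L M).comp V.subtype)) →
      EtRam.IsTamelyRamified A ((algebraMap K M).comp (algebraMap A K))) ∧
    (EtRam.IsUnramifiedExt A ((algebraMap K L).comp (algebraMap A K)) →
      (∀ (V : ValuationSubring L), EtRam.Dominates A ((algebraMap K L).comp (algebraMap A K)) V →
        EtRam.IsUnramifiedExt V ((algebraMap L M).comp V.subtype)) →
      EtRam.IsUnramifiedExt A ((algebraMap K M).comp (algebraMap A K))) := by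
  haveI : FiniteDimensional K L := FiniteDimensional.left K L M
  set gL := (algebraMap K L).comp (algebraMap A K) with hgL
  set gM := (algebraMap K M).comp (algebraMap A K) with hgM
  have hcomp : gM = (algebraMap L M).comp gL := by
    ext a; simp [gM, gL, ← IsScalarTower.algebraMap_apply K L M]
  have hinjL : Function.Injective gL :=
    (algebraMap K L).injective.comp (IsFractionRing.injective A K)
  have hinjM : Function.Injective gM := hcomp ▸ (algebraMap L M).injective.comp hinjL
  constructor
  · intro hL hLM W hW iW
    set V := W.comap (algebraMap L M) with hVdef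
    have hV : Dominates A gL V := dom_comap (hcomp ▸ hW)
    have hVW : Dominates V ((algebraMap L M).comp V.subtype) W := dom_self_comap W _
    haveI : IsDiscreteValuationRing V := isDVR_of_dominates (A := A) (K := K) (g := gL) (fun a => rfl) hV
    haveI : IsDiscreteValuationRing W := isDVR_of_dominates (A := A) (K := K) (g := gM) (fun a => rfl) hW
    letI : Algebra A V := (RingHom.codRestrict gL V hV.1).toAlgebra
    haveI : IsLocalHom (algebraMap A V) := dom_isLocalHom hV
    letI : Algebra V W := (RingHom.codRestrict ((algebraMap L M).comp V.subtype) W hVW.1).toAlgebra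
    haveI : IsLocalHom (algebraMap V W) := dom_isLocalHom hVW
    obtain ⟨hsep1, hp1⟩ := hL V hV
    obtain ⟨hsep2, hp2⟩ := hLM V hV W hVW
    refine ⟨tower_sep_trans hcomp hV hVW hW hsep1 hsep2, fun p hpp hchar hdvd => ?_⟩
    rw [tower_ram hcomp hinjL hV hVW hW] at hdvd
    rcases (Nat.Prime.dvd_mul hpp).1 hdvd with h1 | h2
    · exact hp1 p hpp hchar h1
    · exact hp2 p hpp (tower_charP hV p hchar) h2
  · intro hL hLM W hW iW
    set V := W.comap (algebraMap L M) with hVdef
    have hV : Dominates A gL V := dom_comap (hcomp ▸ hW)
    have hVW : Dominates V ((algebraMap L M).comp V.subtype) W := dom_self_comap W _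
    haveI : IsDiscreteValuationRing V := isDVR_of_dominates (A := A) (K := K) (g := gL) (fun a => rfl) hV
    haveI : IsDiscreteValuationRing W := isDVR_of_dominates (A := A) (K := K) (g := gM) (fun a => rfl) hW
    letI : Algebra A V := (RingHom.codRestrict gL V hV.1).toAlgebra
    haveI : IsLocalHom (algebraMap A V) := dom_isLocalHom hV
    letI : Algebra V W := (RingHom.codRestrict ((algebraMap L M).comp V.subtype) W hVW.1).toAlgebra
    haveI : IsLocalHom (algebraMap V W) := dom_isLocalHom hVW
    obtain ⟨hwu1, hsep1⟩ := hL V hV
    obtain ⟨hwu2, hsep2⟩ := hLM V hV W hVW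
    refine ⟨?_, tower_sep_trans hcomp hV hVW hW hsep1 hsep2⟩
    letI : Algebra A W := (RingHom.codRestrict gM W hW.1).toAlgebra
    rw [isWeaklyUnramified_iff A V (codRestrict_injective hinjL hV.1)] at hwu1
    rw [isWeaklyUnramified_iff V W (codRestrict_injective (g := (algebraMap L M).comp V.subtype)
      (fun a b hab => Subtype.ext ((algebraMap L M).injective hab)) hVW.1)] at hwu2
    rw [isWeaklyUnramified_iff A W (codRestrict_injective hinjM hW.1),
      tower_ram hcomp hinjL hV hVW hW, hwu1, hwu2]

end Aux

/-- Let K be the fraction field of a discrete valuation ring A, and K ⊂ L ⊂ M finite separable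
extensions. If L/K is tamely ramified (resp. unramified) with respect to A and M/L is tamely
ramified (resp. unramified) with respect to every valuation subring of L dominating A, then M/K is
tamely ramified (resp. unramified) with respect to A. -/
theorem result (A K : Type u) [CommRing A] [IsDomain A] [IsDiscreteValuationRing A] [Field K] [Algebra A K] [IsFractionRing A K] (L M : Type u) [Field L] [Field M]
    [Algebra K L] [Algebra K M] [Algebra L M] [IsScalarTower K L M] [FiniteDimensional K M] [Algebra.IsSeparable K M] :
    (EtRam.IsTamelyRamified A ((algebraMap K L).comp (algebraMap A K)) →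
      (∀ (V : ValuationSubring L), EtRam.Dominates A ((algebraMap K L).comp (algebraMap A K)) V →
        EtRam.IsTamelyRamified V ((algebraMap L M).comp V.subtype)) →
      EtRam.IsTamelyRamified A ((algebraMap K M).comp (algebraMap A K))) ∧
    (EtRam.IsUnramifiedExt A ((algebraMap K L).comp (algebraMap A K)) →
      (∀ (V : ValuationSubring L), EtRam.Dominates A ((algebraMap K L).comp (algebraMap A K)) V →
        EtRam.IsUnramifiedExt V ((algebraMap L M).comp V.subtype)) →
      EtRam.IsUnramifiedExt A ((algebraMap K M).comp (algebraMap A K))) := by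
  exact Aux.main A K L M

end Groth.Agent.S1990
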