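import Groth.Statements.S1982
import Mathlib
import Groth.Prelude.Def_EtRam
import Groth.Agent.Lib.Helper9.EtRam.Dom14
-- import your own Groth.Agent.* helpers here

set_option autoImplicit false
universe u
open EtAlg

namespace Groth.Agent.S1982

namespace Aux
open IsLocalRing EtRam TensorProduct Polynomial Groth.Agent.Helper9.EtRamLib

theorem main (A B K L : Type u) [CommRing A] [IsDomain A] [IsDiscreteValuationRing A]
    [CommRing B] [IsDomain B] [IsDiscreteValuationRing B] [Algebra A B] [IsLocalHom (algebraMap A B)]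
    (hinj : Function.Injective (algebraMap A B))
    [Field K] [Field L] [Algebra A K] [IsFractionRing A K] [Algebra B L] [IsFractionRing B L]
    [Algebra K L] [Algebra A L] [IsScalarTower A K L] [IsScalarTower A B L]
    (htame : CharZero (IsLocalRing.ResidueField A) ∨
      ∃ p : ℕ, p.Prime ∧ CharP (IsLocalRing.ResidueField A) p ∧
        ¬ p ∣ Ideal.ramificationIdx' (IsLocalRing.maximalIdeal A) (IsLocalRing.maximalIdeal B) ∧
        Algebra.IsGeometricallyReduced (IsLocalRing.ResidueField A) (IsLocalRing.ResidueField B))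
    (K₁ : Type u) [Field K₁] [Algebra K K₁] [FiniteDimensional K K₁] :
    EtRam.ForallLocalExt B K L K₁ (fun M _ W f =>
      ∀ hA : ∀ a : A, (algebraMap K K₁) (algebraMap A K a) ∈ W.comap f,
        letI : Algebra A (W.comap f) := (RingHom.codRestrict ((algebraMap K K₁).comp (algebraMap A K)) (W.comap f) hA).toAlgebra
        letI : Algebra (W.comap f) W := (EtRam.inclOfComap W f).toAlgebra
        Ideal.ramificationIdx' (IsLocalRing.maximalIdeal A) (IsLocalRing.maximalIdeal B) ∣
          Ideal.ramificationIdx' (IsLocalRing.maximalIdeal A) (IsLocalRing.maximalIdeal (W.comap f)) →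
        EtRam.IsWeaklyUnramified (W.comap f) W ∧
          @Algebra.IsGeometricallyReduced (IsLocalRing.ResidueField (W.comap f)) (IsLocalRing.ResidueField W) _ _
            (IsLocalRing.ResidueField.map (EtRam.inclOfComap W f)).toAlgebra) := by
  intro M _ _ _ _ _ _ hadj W hW hA hdiv
  set f := algebraMap K₁ M with hf
  set gB := (algebraMap L M).comp (algebraMap B L) with hgB
  set gK₁ := (algebraMap K K₁).comp (algebraMap A K) with hgK₁
  set V₁ := W.comap f with hV₁
  have hcompat0 : f.comp gK₁ = gB.comp (algebraMap A B) := by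
    ext a
    simp only [f, gK₁, gB, RingHom.comp_apply]
    rw [← IsScalarTower.algebraMap_apply K K₁ M, ← IsScalarTower.algebraMap_apply A B L,
      IsScalarTower.algebraMap_apply A K L, ← IsScalarTower.algebraMap_apply K L M]
  have hWA : Dominates A (f.comp gK₁) W := hcompat0 ▸ dom_comp_local hW
  have hV₁dom : Dominates A gK₁ V₁ := dom_comap hWA
  haveI : IsDiscreteValuationRing V₁ :=
    isDVR_of_dominates (A := A) (K := K) (g := gK₁) (fun a => rfl) hV₁dom
  haveI : FiniteDimensional L M := finite_of_adjoin_eq_top (K := K) hadj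
  haveI : IsDiscreteValuationRing W :=
    isDVR_of_dominates (A := B) (K := L) (g := gB) (fun a => rfl) hW
  letI algAV₁ : Algebra A V₁ := (RingHom.codRestrict gK₁ V₁ hV₁dom.1).toAlgebra
  haveI : IsLocalHom (algebraMap A V₁) := dom_isLocalHom hV₁dom
  haveI hfin : Module.Finite (ResidueField A) (ResidueField V₁) :=
    finite_residue_of_dominates (A := A) (K := K) (g := gK₁) (fun a => rfl) hV₁dom
  set g₁ := f.comp V₁.subtype with hg₁
  have hV₁W : Dominates V₁ g₁ W := dom_self_comap W f
  have hcompat : g₁.comp (algebraMap A V₁) = gB.comp (algebraMap A B) := by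
    rw [← hcompat0]; rfl
  have hinjAV₁ : Function.Injective (algebraMap A V₁) := by
    apply codRestrict_injective _ hV₁dom.1
    exact (algebraMap K K₁).injective.comp (IsFractionRing.injective A K)
  have hg₁inj : Function.Injective g₁ := fun a b hab => Subtype.ext (f.injective hab)
  have hgBinj : Function.Injective gB :=
    (algebraMap L M).injective.comp (IsFractionRing.injective B L)
  obtain ⟨ϖB, hϖB⟩ := IsDiscreteValuationRing.exists_irreducible B
  obtain ⟨ϖ₁, hϖ₁⟩ := IsDiscreteValuationRing.exists_irreducible V₁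
  have hgen0 := closure_eq_top_of_adjoin (B := B) hadj V₁
  have hgen : Subfield.closure (Set.range g₁ ∪ Set.range gB) = ⊤ := by
    rw [Set.union_comm]; exact hgen0
  obtain ⟨y, ϖ, u₁, u₂, a, b, e₁', e₂', he₁', he₂', hE₁, hE₂, hy1, hϖ1, hϖ0, hP₁, hP₂, hyd,
    hv₁, hv₂⟩ := thmT_elements hcompat hV₁W hW hg₁inj hgBinj hinjAV₁ hinj hϖ₁ hϖB
  set eB := Ideal.ramificationIdx' (maximalIdeal A) (maximalIdeal B) with heB
  set e₁ := Ideal.ramificationIdx' (maximalIdeal A) (maximalIdeal V₁) with he₁
  have hdiv' : eB ∣ e₁ := hdiv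
  have hd : Nat.gcd e₁ eB = eB := Nat.gcd_eq_right hdiv'
  rw [hd] at hE₁ hE₂ hyd
  have heBpos : 0 < eB := ramificationIdx_pos A B hinj
  have he₂'1 : e₂' = 1 := by
    have : eB * 1 = eB * e₂' := by rw [mul_one]; exact hE₂
    exact (Nat.eq_of_mul_eq_mul_left heBpos this).symm
  -- invertibility of eB and geometric reducedness
  have hdne : ((eB : ℕ) : ResidueField A) ≠ 0 := by
    rcases htame with h0 | ⟨p, hpp, hchar, hnd, -⟩
    · exact Nat.cast_ne_zero.2 heBpos.ne'
    · intro h0
      rw [CharP.cast_eq_zero_iff (ResidueField A) p] at h0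
      exact hnd h0
  haveI hgeo : Algebra.IsGeometricallyReduced (ResidueField A) (ResidueField B) := by
    rcases htame with h0 | ⟨p, hpp, hchar, hnd, hg⟩
    · exact geomReduced_of_charZero _ _
    · exact hg
  have hVNR : ∀ c : ResidueField V₁ ⊗[ResidueField A] ResidueField B, IsUnit c →
      IsVNR (AdjoinRoot (X ^ eB - C c)) :=
    fun c hc => (adjoinRoot_tensor_props _ _ _ hdne hc).1
  obtain ⟨⟨hϖW, hmax⟩, hres⟩ := thmT_main hcompat hV₁W hW hgen hϖ₁ hϖB he₁' he₂' heBpos hy1 hϖ1
    hϖ0 hP₁ hP₂ hyd hVNR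
  rw [he₂'1, pow_one] at hv₁
  have hram := ramIdx_eq_of_val hV₁W hϖW hmax hϖ1 hϖ0 hϖ₁ (n := 1) (by rw [pow_one]; exact hv₁)
  have hwu : letI : Algebra V₁ W := (RingHom.codRestrict g₁ W hV₁W.1).toAlgebra
      IsWeaklyUnramified V₁ W := by
    letI algV₁W : Algebra V₁ W := (RingHom.codRestrict g₁ W hV₁W.1).toAlgebra
    haveI : IsLocalHom (algebraMap V₁ W) := dom_isLocalHom hV₁W
    exact (isWeaklyUnramified_iff V₁ W (codRestrict_injective hg₁inj hV₁W.1)).2 hram
  refine ⟨hwu, ?_⟩
  -- geometric reducedness
  letI algres : Algebra (ResidueField V₁) (ResidueField W) :=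
    (ResidueField.map (inclOfComap W f)).toAlgebra
  letI algres' : Algebra (ResidueField A) (ResidueField W) :=
    ((algebraMap (ResidueField V₁) (ResidueField W)).comp
      (algebraMap (ResidueField A) (ResidueField V₁))).toAlgebra
  haveI : IsScalarTower (ResidueField A) (ResidueField V₁) (ResidueField W) :=
    IsScalarTower.of_algebraMap_eq (fun _ => rfl)
  haveI : IsLocalHom (RingHom.codRestrict gB W hW.1) := dom_isLocalHom hW
  let ι : ResidueField B →ₐ[ResidueField A] ResidueField W :=
    { ResidueField.map (RingHom.codRestrict gB W hW.1) with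
      commutes' := fun r => by
        obtain ⟨a, rfl⟩ := residue_surjective r
        show ResidueField.map (RingHom.codRestrict gB W hW.1)
            (algebraMap (ResidueField A) (ResidueField B) (residue A a)) =
          ResidueField.map (inclOfComap W f)
            (algebraMap (ResidueField A) (ResidueField V₁) (residue A a))
        rw [ResidueField.algebraMap_residue, ResidueField.algebraMap_residue,
          ResidueField.map_residue, ResidueField.map_residue]
        congr 1
        apply Subtype.ext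
        exact (RingHom.congr_fun hcompat a).symm }
  let Φ₀ : ResidueField V₁ ⊗[ResidueField A] ResidueField B →ₐ[ResidueField V₁] ResidueField W :=
    Algebra.TensorProduct.lift (Algebra.ofId (ResidueField V₁) (ResidueField W)) ι
      (fun _ _ => Commute.all _ _)
  set cE : ResidueField V₁ ⊗[ResidueField A] ResidueField B :=
    residue V₁ ((u₁⁻¹ : V₁ˣ) : V₁) ⊗ₜ residue B (u₂ : B) with hcE
  set cE' : ResidueField V₁ ⊗[ResidueField A] ResidueField B :=
    residue V₁ (u₁ : V₁) ⊗ₜ residue B ((u₂⁻¹ : Bˣ) : B) with hcE'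
  have hcc : cE * cE' = 1 := by
    rw [hcE, hcE', Algebra.TensorProduct.tmul_mul_tmul, ← map_mul, ← map_mul, Units.inv_mul,
      Units.mul_inv, map_one, map_one]
    rfl
  have hunit : IsUnit cE := IsUnit.of_mul_eq_one _ hcc
  have hyW : y ∈ W := (W.valuation_le_one_iff _).1 hy1.le
  have hyiW : y⁻¹ ∈ W := by
    rw [← W.valuation_le_one_iff, map_inv₀, hy1, inv_one]
  have hy0 : y ≠ 0 := by
    intro h0; rw [h0, map_zero] at hy1; exact zero_ne_one hy1
  set ybar : ResidueField W := residue W ⟨y, hyW⟩ with hybar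
  have hyy : ybar * residue W ⟨y⁻¹, hyiW⟩ = 1 := by
    rw [hybar, ← map_mul]
    have : (⟨y, hyW⟩ : W) * ⟨y⁻¹, hyiW⟩ = 1 := Subtype.ext (mul_inv_cancel₀ hy0)
    rw [this, map_one]
  have hΦ₀l : ∀ v : V₁, Φ₀ (residue V₁ v ⊗ₜ 1) = residue W ⟨g₁ v, hV₁W.1 v⟩ := by
    intro v
    rw [Algebra.TensorProduct.lift_tmul, map_one, mul_one]
    rfl
  have hΦ₀r : ∀ b : B, Φ₀ (1 ⊗ₜ residue B b) = residue W ⟨gB b, hW.1 b⟩ := by
    intro b
    rw [Algebra.TensorProduct.lift_tmul, map_one, one_mul]
    rfl
  have hΦc : Φ₀ cE = ybar ^ eB := by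
    have h1 : cE = (residue V₁ ((u₁⁻¹ : V₁ˣ) : V₁) ⊗ₜ 1) * (1 ⊗ₜ residue B (u₂ : B)) := by
      rw [hcE, Algebra.TensorProduct.tmul_mul_tmul, mul_one, one_mul]
    rw [h1, map_mul, hΦ₀l, hΦ₀r, hybar, ← map_mul, ← map_pow]
    congr 1
    apply Subtype.ext
    show g₁ ((u₁⁻¹ : V₁ˣ) : V₁) * gB (u₂ : B) = y ^ eB
    rw [← hyd, mul_comm, mul_assoc, ← map_mul, Units.mul_inv, map_one, mul_one]
  have hΦc' : ybar ^ eB * Φ₀ cE' = 1 := by
    rw [← hΦc, ← map_mul, hcc, map_one]
  let Φ : AdjoinRoot (X ^ eB - C cE) →ₐ[ResidueField V₁] ResidueField W :=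
    AdjoinRoot.liftAlgHom _ Φ₀ ybar (by
      rw [eval₂_sub, eval₂_pow, eval₂_X, eval₂_C]
      show ybar ^ eB - Φ₀ cE = 0
      rw [hΦc, sub_self])
  have hΦof : ∀ t, Φ (AdjoinRoot.of _ t) = Φ₀ t := fun t => AdjoinRoot.liftAlgHom_of _ _ _ _ _
  have hΦroot : Φ (AdjoinRoot.root _) = ybar := AdjoinRoot.liftAlgHom_root _ _ _ _
  have hR₀W : Subring.closure (Set.range g₁ ∪ Set.range gB ∪ {y, y⁻¹}) ≤ W.toSubring := by
    refine Subring.closure_le.2 ?_
    rintro x ((⟨v, rfl⟩ | ⟨b, rfl⟩) | hx)
    · exact hV₁W.1 v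
    · exact hW.1 b
    · simp only [Set.mem_insert_iff, Set.mem_singleton_iff] at hx
      rcases hx with rfl | rfl
      · exact hyW
      · exact hyiW
  have key : ∀ r ∈ Subring.closure (Set.range g₁ ∪ Set.range gB ∪ {y, y⁻¹}),
      ∀ hrW : r ∈ W, residue W ⟨r, hrW⟩ ∈ Φ.range := by
    intro r hr
    induction hr using Subring.closure_induction with
    | mem x hx =>
      rcases hx with (⟨v, rfl⟩ | ⟨b, rfl⟩) | hx
      · intro hrW
        exact ⟨AdjoinRoot.of _ (residue V₁ v ⊗ₜ 1), by
          show Φ _ = _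
          rw [hΦof, hΦ₀l]⟩
      · intro hrW
        exact ⟨AdjoinRoot.of _ (1 ⊗ₜ residue B b), by
          show Φ _ = _
          rw [hΦof, hΦ₀r]⟩
      · simp only [Set.mem_insert_iff, Set.mem_singleton_iff] at hx
        rcases hx with rfl | rfl
        · intro hrW; exact ⟨AdjoinRoot.root _, hΦroot⟩
        · intro hrW
          refine ⟨AdjoinRoot.root _ ^ (eB - 1) * AdjoinRoot.of _ cE', ?_⟩
          show Φ _ = _
          rw [map_mul, map_pow, hΦroot, hΦof]
          have h2 : ybar * (ybar ^ (eB - 1) * Φ₀ cE') = 1 := by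
            rw [← mul_assoc, ← pow_succ']
            have : eB - 1 + 1 = eB := by omega
            rw [this, hΦc']
          have hyb0 : ybar ≠ 0 := left_ne_zero_of_mul_eq_one hyy
          exact mul_left_cancel₀ hyb0 (h2.trans hyy.symm)
    | zero =>
      intro hrW
      have : residue W ⟨0, hrW⟩ = 0 := map_zero _
      rw [this]; exact zero_mem _
    | one =>
      intro hrW
      have : residue W ⟨1, hrW⟩ = 1 := map_one _
      rw [this]; exact one_mem _
    | add x z hx hz ihx ihz =>
      intro hrW
      have hxW := hR₀W hx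
      have hzW := hR₀W hz
      have : residue W ⟨x + z, hrW⟩ = residue W ⟨x, hxW⟩ + residue W ⟨z, hzW⟩ := by
        rw [← map_add]; rfl
      rw [this]; exact add_mem (ihx hxW) (ihz hzW)
    | neg x hx ihx =>
      intro hrW
      have hxW := hR₀W hx
      have : residue W ⟨-x, hrW⟩ = - residue W ⟨x, hxW⟩ := by
        rw [← map_neg]; rfl
      rw [this]; exact neg_mem (ihx hxW)
    | mul x z hx hz ihx ihz =>
      intro hrW
      have hxW := hR₀W hx
      have hzW := hR₀W hz
      have : residue W ⟨x * z, hrW⟩ = residue W ⟨x, hxW⟩ * residue W ⟨z, hzW⟩ := by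
        rw [← map_mul]; rfl
      rw [this]; exact mul_mem (ihx hxW) (ihz hzW)
  have hΦsurj : Function.Surjective Φ := by
    intro x
    obtain ⟨r, hr, hrW, rfl⟩ := hres x
    exact key r hr hrW
  exact geomReduced_of_adjoinRoot_surj (ResidueField A) (ResidueField V₁) (ResidueField B) hdne
    hunit (ResidueField W) Φ hΦsurj

end Aux

/-- Suppose A -> B makes the discrete valuation ring B an extension of the discrete valuation ring A,
write K ⊂ L for their fraction fields and e for the ramification index; assume the residue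
characteristic of A is zero, or it is p with p not dividing e and the residue field extension of A
-> B separable (in the general sense, i.e. geometrically reduced; it need not be algebraic). Let
K₁/K be a finite extension. Then for every compositum M of L and K₁ and every valuation subring W of
M dominating B such that e divides the ramification index of A -> W ∩ K₁, the extension W ∩ K₁ -> W
is weakly unramified with separable (geometrically reduced) residue field extension. -/
theorem result (A B K L : Type u) [CommRing A] [IsDomain A] [IsDiscreteValuationRing A]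
    [CommRing B] [IsDomain B] [IsDiscreteValuationRing B] [Algebra A B] [IsLocalHom (algebraMap A B)]
    (hinj : Function.Injective (algebraMap A B))
    [Field K] [Field L] [Algebra A K] [IsFractionRing A K] [Algebra B L] [IsFractionRing B L]
    [Algebra K L] [Algebra A L] [IsScalarTower A K L] [IsScalarTower A B L]
    (htame : CharZero (IsLocalRing.ResidueField A) ∨
      ∃ p : ℕ, p.Prime ∧ CharP (IsLocalRing.ResidueField A) p ∧
        ¬ p ∣ Ideal.ramificationIdx' (IsLocalRing.maximalIdeal A) (IsLocalRing.maximalIdeal B) ∧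
        Algebra.IsGeometricallyReduced (IsLocalRing.ResidueField A) (IsLocalRing.ResidueField B))
    (K₁ : Type u) [Field K₁] [Algebra K K₁] [FiniteDimensional K K₁] :
    EtRam.ForallLocalExt B K L K₁ (fun M _ W f =>
      ∀ hA : ∀ a : A, (algebraMap K K₁) (algebraMap A K a) ∈ W.comap f,
        letI : Algebra A (W.comap f) := (RingHom.codRestrict ((algebraMap K K₁).comp (algebraMap A K)) (W.comap f) hA).toAlgebra
        letI : Algebra (W.comap f) W := (EtRam.inclOfComap W f).toAlgebra
        Ideal.ramificationIdx' (IsLocalRing.maximalIdeal A) (IsLocalRing.maximalIdeal B) ∣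
          Ideal.ramificationIdx' (IsLocalRing.maximalIdeal A) (IsLocalRing.maximalIdeal (W.comap f)) →
        EtRam.IsWeaklyUnramified (W.comap f) W ∧
          @Algebra.IsGeometricallyReduced (IsLocalRing.ResidueField (W.comap f)) (IsLocalRing.ResidueField W) _ _
            (IsLocalRing.ResidueField.map (EtRam.inclOfComap W f)).toAlgebra) := by
  exact Aux.main A B K L hinj htame K₁

end Groth.Agent.S1982
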