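import Groth.Statements.S7132
import Mathlib
import Groth.Agent.S7124
import Groth.Agent.Lib.Helper5.Misc.DVRRam

set_option autoImplicit false
universe u
open EtAlg

open Groth.Agent.Helper5

namespace Groth.Agent.S7132

/-- For an injective local homomorphism A → B of discrete valuation rings whose fraction fields K ⊆ L
form a finite extension, the residue field of B is finite over that of A, and the ramification index
e times the residue degree f is at most [L : K]. -/
theorem result (A B K L : Type u) [CommRing A] [IsDomain A]
    [IsDiscreteValuationRing A] [CommRing B] [IsDomain B] [IsDiscreteValuationRing B] [Algebra A B]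
    (hinj : Function.Injective (algebraMap A B)) [IsLocalHom (algebraMap A B)]
    [Field K] [Field L] [Algebra A K] [IsFractionRing A K] [Algebra B L] [IsFractionRing B L]
    [Algebra K L] [Algebra A L] [IsScalarTower A K L] [IsScalarTower A B L] [FiniteDimensional K L] :
    Module.Finite (IsLocalRing.ResidueField A) (IsLocalRing.ResidueField B) ∧
      Ideal.ramificationIdx' (IsLocalRing.maximalIdeal A) (IsLocalRing.maximalIdeal B) *
          Module.finrank (IsLocalRing.ResidueField A) (IsLocalRing.ResidueField B) ≤
        Module.finrank K L := by
  classical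
  obtain ⟨ϖA, ϖB, w0, hA, hB, h, hpos⟩ := DVRRam.exists_uniformizers A B hinj
  have hfin : Module.Finite (IsLocalRing.ResidueField A) (IsLocalRing.ResidueField B) :=
    (Groth.Agent.S7124.result A B K L hinj).1
  refine ⟨hfin, ?_⟩
  let bs := Module.finBasis (IsLocalRing.ResidueField A) (IsLocalRing.ResidueField B)
  have hlift : ∀ x : IsLocalRing.ResidueField B, ∃ y : B, IsLocalRing.residue B y = x :=
    IsLocalRing.residue_surjective
  choose lift hlift using hlift
  let b : Fin (Module.finrank (IsLocalRing.ResidueField A) (IsLocalRing.ResidueField B)) → B :=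
    fun i => lift (bs i)
  have hb : LinearIndependent (IsLocalRing.ResidueField A) (fun i => IsLocalRing.residue B (b i)) := by
    have : (fun i => IsLocalRing.residue B (b i)) = bs := by
      funext i
      simp [b, hlift]
    rw [this]
    exact bs.linearIndependent
  have hϖ0 : algebraMap B L ϖB ≠ 0 := by
    rw [Ne, map_eq_zero_iff _ (IsFractionRing.injective B L)]
    exact hB.ne_zero
  have hli := S7124aux.core A B K L b hb
    (fun j : Fin (Ideal.ramificationIdx' (IsLocalRing.maximalIdeal A)
      (IsLocalRing.maximalIdeal B)) => algebraMap B L ϖB ^ (j : ℕ))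
    (fun j => pow_ne_zero _ hϖ0) (by
      intro j j' hjj' α w hα hrel
      obtain ⟨k, k', hk⟩ := DVRRam.exponent_relation A B K L hA hB h α hα w j j' hrel
      have h1 : (j : ℕ) = j' := by
        have h2 := congrArg (· % Ideal.ramificationIdx' (IsLocalRing.maximalIdeal A)
          (IsLocalRing.maximalIdeal B)) hk
        simp only [Nat.mul_add_mod, Nat.mod_eq_of_lt j.2, Nat.mod_eq_of_lt j'.2] at h2
        exact h2
      exact hjj' (Fin.ext h1))
  have := hli.fintype_card_le_finrank
  simp only [Fintype.card_prod, Fintype.card_fin] at this
  rw [mul_comm]
  exact this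

end Groth.Agent.S7132
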