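import Groth.Statements.S1354
import Groth.Agent.Lib.Helper6.EtLoc.QFPoint
import Groth.Agent.Lib.Helper6.EtLoc.NbhdRes

set_option autoImplicit false
universe u
open FlatMor

namespace Groth.Agent.S1354

open AlgebraicGeometry CategoryTheory Limits in
/-- Let f be locally of finite type, s a point of the target, and x_1, ..., x_n points over s at each of
which f is quasi-finite. Then there are an elementary étale neighbourhood (U, u) of (S, s) and, for
each i, an open V_i of the base change of X to U which is finite over U, has exactly one point v_i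
over u, and v_i maps to x_i inducing a bijection of residue fields. -/
theorem result {X S : Scheme.{u}} (f : X ⟶ S) [LocallyOfFiniteType f] (s : S) {ι : Type} [Finite ι]
    (x : ι → ↑X) (hs : ∀ i, f (x i) = s) (hx : ∀ i, f.QuasiFiniteAt (x i)) :
    ∃ (U : Scheme.{u}) (g : U ⟶ S) (u : U), Hens2.IsEtaleNbhd g u s ∧
      ∃ (V : ι → (pullback f g).Opens) (v : ι → ↑(pullback f g)), ∀ i, v i ∈ V i ∧ IsFinite ((V i).ι ≫ pullback.snd f g) ∧
        pullback.snd f g (v i) = u ∧ (∀ w : ↑(pullback f g), w ∈ V i → pullback.snd f g w = u → w = v i) ∧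
        pullback.fst f g (v i) = x i ∧ Function.Bijective ((pullback.fst f g).residueFieldMap (v i)) := by
  obtain ⟨U, g, u, hg, hgu, hres, hd⟩ :=
    Groth.Agent.Lib.Helper6.EtLoc.exists_common_nbhd_res (P := @IsFinite) (f := f) s ι x
      (fun i => by
        obtain ⟨U, g, u, h1, h2, h3, h4⟩ := Groth.Agent.Lib.Helper6.EtLoc.qf_point f (x i) (hx i)
        exact ⟨U, g, u, h1, h2.trans (hs i), h3, h4⟩)
  have key : ∀ i, ∃ (V : (pullback f g).Opens) (v : ↑(pullback f g)), v ∈ V ∧
      IsFinite (V.ι ≫ pullback.snd f g) ∧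
      pullback.snd f g v = u ∧ (∀ w : ↑(pullback f g), w ∈ V → pullback.snd f g w = u → w = v) ∧
      pullback.fst f g v = x i ∧ Function.Bijective ((pullback.fst f g).residueFieldMap v) := by
    intro i
    obtain ⟨K, hK, V, h1, h2, h3, h4⟩ := hd i
    obtain ⟨v, hv1, hv2⟩ := Scheme.Pullback.exists_preimage_pullback (f := f) (g := g) (x i) u
      ((hs i).trans hgu.symm)
    obtain ⟨k, hk⟩ := h4 v hv2 hv1
    have hresv : Function.Surjective (g.residueFieldMap (pullback.snd f g v)) :=
      (Groth.Agent.Lib.Helper6.EtLoc.surjective_residueFieldMap_congr g hv2).mpr hres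
    refine ⟨V k, v, hk, (h1 k).1, hv2, ?_, hv1,
      ⟨((pullback.fst f g).residueFieldMap v).hom.injective, ?_⟩⟩
    · intro w hw hwu
      exact Groth.Agent.Lib.Helper6.EtLoc.eq_of_fst_eq_snd_eq w v
        (by rw [h2 k w hw hwu, hv1]) (by rw [hwu, hv2]) hresv
    · exact Groth.Agent.Lib.Helper6.EtLoc.surjective_fst_residueFieldMap v hresv
  choose V v hVv using key
  exact ⟨U, g, u, ⟨hg, hgu, ⟨(g.residueFieldMap u).hom.injective, hres⟩⟩, V, v, hVv⟩

end Groth.Agent.S1354
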