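import Groth.Statements.S2032
import Mathlib

set_option autoImplicit false
universe u
open Smoothing

namespace Groth.Agent.S2032


open MvPolynomial in
theorem isStandardSmooth_of_naive {R : Type u} [CommRing R] {n c : ℕ}
    (v : Fin c → MvPolynomial (Fin n) R) (α : Fin c → Fin n) (hα : Function.Injective α)
    (T : Type u) [CommRing T] [Algebra R T]
    [Algebra (MvPolynomial (Fin n) R ⧸ Ideal.span (Set.range v)) T]
    [IsScalarTower R (MvPolynomial (Fin n) R ⧸ Ideal.span (Set.range v)) T]
    (b : MvPolynomial (Fin n) R ⧸ Ideal.span (Set.range v)) [IsLocalization.Away b T]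
    (hunit : IsUnit (algebraMap (MvPolynomial (Fin n) R ⧸ Ideal.span (Set.range v)) T
      (Ideal.Quotient.mk (Ideal.span (Set.range v))
       (Matrix.det (Matrix.of fun j k : Fin c => pderiv (α k) (v j)))))) :
    Algebra.IsStandardSmooth R T := by
  classical
  let P₀ := Algebra.PreSubmersivePresentation.naive (v := v) α hα
  let Q := Algebra.SubmersivePresentation.localizationAway T b
  let QP := Q.toPreSubmersivePresentation.comp P₀
  have hjac : IsUnit QP.jacobian := by
    rw [Algebra.PreSubmersivePresentation.comp_jacobian_eq_jacobian_smul_jacobian,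
      Algebra.smul_def, IsUnit.mul_iff]
    refine ⟨?_, Q.jacobian_isUnit⟩
    rw [Algebra.PreSubmersivePresentation.jacobian_eq_jacobiMatrix_det]
    have h1 : P₀.jacobiMatrix = (Matrix.of fun j k : Fin c => pderiv (α k) (v j)).transpose := by
      ext i j
      rw [Algebra.PreSubmersivePresentation.jacobiMatrix_naive]
      rfl
    rw [h1, Matrix.det_transpose]
    exact hunit
  exact (⟨QP, hjac⟩ : Algebra.SubmersivePresentation R T _ _).isStandardSmooth


open MvPolynomial in
theorem exists_annihilator {B A : Type*} [CommRing B] [CommRing A] (π : B →+* A)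
    (hfg : (RingHom.ker π).FG) (ā : B)
    (hā : ∀ j ∈ RingHom.ker π, ā * j ∈ RingHom.ker π * RingHom.ker π) :
    ∃ (t : B) (N : ℕ), (∀ j ∈ RingHom.ker π, t * j = 0) ∧ π t = (π ā) ^ N := by
  classical
  obtain ⟨J, hJdef⟩ : ∃ J, J = RingHom.ker π := ⟨_, rfl⟩
  rw [← hJdef] at hfg hā ⊢
  haveI : Module.Finite B J := Module.Finite.iff_fg.mpr hfg
  let φ : Module.End B J := algebraMap B (Module.End B J) ā
  have hφ : LinearMap.range φ ≤ J • (⊤ : Submodule B J) := by
    rintro _ ⟨j, rfl⟩
    rw [Submodule.mem_smul_top_iff]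
    have : ((φ j : J) : B) = ā * (j : B) := by
      simp [φ, Module.algebraMap_end_apply]
    rw [this]
    exact hā j j.2
  obtain ⟨p, hpm, -, hpc, hp0⟩ :=
    LinearMap.exists_monic_and_natDegree_eq_and_coeff_mem_pow_and_aeval_eq_zero B φ J hφ
  refine ⟨Polynomial.aeval ā p, p.natDegree, ?_, ?_⟩
  · intro j hj
    have h1 : Polynomial.aeval φ p = algebraMap B (Module.End B J) (Polynomial.aeval ā p) :=
      Polynomial.aeval_algebraMap_apply (Module.End B J) ā p
    rw [h1] at hp0
    have h2 := congrArg (fun ψ : Module.End B J => ((ψ ⟨j, hj⟩ : J) : B)) hp0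
    simpa [Module.algebraMap_end_apply] using h2
  · have h3 : Polynomial.aeval ā p - ā ^ p.natDegree ∈ J := by
      have : Polynomial.aeval ā p = ∑ k ∈ Finset.range (p.natDegree + 1), p.coeff k * ā ^ k := by
        simp [Polynomial.aeval_def, Polynomial.eval₂_eq_sum_range]
      rw [this, Finset.sum_range_succ, hpm.coeff_natDegree, one_mul, add_sub_cancel_right]
      apply Ideal.sum_mem; intro k hk
      apply Ideal.mul_mem_right
      have hk' : k < p.natDegree := Finset.mem_range.mp hk
      exact Ideal.pow_le_self (by omega) (hpc k)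
    rw [hJdef, RingHom.mem_ker, map_sub, sub_eq_zero, map_pow] at h3
    exact h3

open MvPolynomial in
theorem away_of_annihilator {B A T : Type*} [CommRing B] [CommRing A] [CommRing T]
    (π : B →+* A) (hπ : Function.Surjective π) (ā t : B) (N : ℕ)
    (ht : ∀ j ∈ RingHom.ker π, t * j = 0) (htN : π t = (π ā) ^ N)
    [Algebra A T] [IsLocalization.Away (π ā) T] [Algebra B T]
    (hBT : ∀ y, algebraMap B T y = algebraMap A T (π y)) :
    IsLocalization.Away (ā * t) T := by
  have hb : π (ā * t) = (π ā) ^ (N + 1) := by rw [map_mul, htN, pow_succ']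
  have haunit : IsUnit (algebraMap A T (π ā)) := IsLocalization.Away.algebraMap_isUnit (π ā)
  rw [IsLocalization.Away, isLocalization_iff]
  refine ⟨?_, ?_, ?_⟩
  · rintro ⟨_, k, rfl⟩
    rw [hBT, map_pow, hb, map_pow, map_pow]
    exact (haunit.pow _).pow _
  · intro z
    obtain ⟨k, x, hx⟩ := IsLocalization.Away.surj (π ā) z
    obtain ⟨y, rfl⟩ := hπ x
    refine ⟨⟨y * ā ^ (k * N), ⟨(ā * t) ^ k, k, rfl⟩⟩, ?_⟩
    simp only [hBT, map_mul, map_pow, htN]
    rw [← hx]
    ring
  · intro x y hxy
    rw [hBT, hBT] at hxy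
    obtain ⟨⟨_, m, rfl⟩, hm⟩ := (IsLocalization.eq_iff_exists (Submonoid.powers (π ā)) T).mp hxy
    simp only at hm
    have hker : ā ^ m * (x - y) ∈ RingHom.ker π := by
      rw [RingHom.mem_ker, map_mul, map_pow, map_sub, mul_sub, hm, sub_self]
    have h0 := ht _ hker
    refine ⟨⟨(ā * t) ^ (m + 1), m + 1, rfl⟩, ?_⟩
    simp only
    rw [← sub_eq_zero, ← mul_sub]
    calc (ā * t) ^ (m + 1) * (x - y) = (ā * t ^ m) * (t * (ā ^ m * (x - y))) := by ring
      _ = 0 := by rw [h0, mul_zero]


/-- For a finitely presented `R`-algebra `A` and `a ∈ A`, if `a` is elementary standard then `A_a` is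
standard smooth over `R`. (Part (f), the converse for large powers of `a`, is not stated: as
published it fails, for example for the nodal cubic `A = {g ∈ ℚ[u] : g(0) = g(1)}` and `a =
u(u-1)`.) -/
theorem result {R A : Type u} [CommRing R] [CommRing A]
    [Algebra R A] [Algebra.FinitePresentation R A] (a : A)
    (ha : Smoothing.IsElementaryStandard R A a) : Algebra.IsStandardSmooth R (Localization.Away a) := by
  classical
open MvPolynomial in
  classical
  obtain ⟨P, ⟨a', ha'⟩, hkill⟩ := ha
  obtain ⟨v, hv⟩ : ∃ v : Fin P.c → MvPolynomial (Fin P.n) R,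
      v = fun j => P.rel (Fin.castLE P.hcm j) := ⟨_, rfl⟩
  obtain ⟨I, hIdef⟩ : ∃ I : Ideal (MvPolynomial (Fin P.n) R), I = Ideal.span (Set.range P.rel) :=
    ⟨_, rfl⟩
  have hI₀I : Ideal.span (Set.range v) ≤ I := by
    rw [hIdef]; apply Ideal.span_mono
    rintro _ ⟨j, rfl⟩; rw [hv]; exact ⟨_, rfl⟩
  have hker : ∀ p, P.hom p = 0 ↔ p ∈ I := by
    intro p; rw [hIdef, ← P.ker_eq]; rfl
  have himg : P.rel '' {j' : Fin P.m | (j' : ℕ) < P.c} = Set.range v := by
    ext x; constructor
    · rintro ⟨j, hj, rfl⟩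
      refine ⟨⟨j, hj⟩, ?_⟩
      rw [hv]; rfl
    · rintro ⟨j, rfl⟩
      refine ⟨Fin.castLE P.hcm j, ?_, ?_⟩
      · simp
      · rw [hv]
  let π : (MvPolynomial (Fin P.n) R ⧸ Ideal.span (Set.range v)) →ₐ[R] A :=
    Ideal.Quotient.liftₐ (Ideal.span (Set.range v)) P.hom
      (fun p hp => (hker p).mpr (hI₀I hp))
  have hπmk : ∀ p, π (Ideal.Quotient.mk _ p) = P.hom p := fun p => rfl
  have hπsurj : Function.Surjective (π : (MvPolynomial (Fin P.n) R ⧸ Ideal.span (Set.range v)) →+* A) := by
    intro x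
    obtain ⟨p, rfl⟩ := P.surj x
    exact ⟨Ideal.Quotient.mk _ p, rfl⟩
  obtain ⟨a'', ha''⟩ := P.surj a
  have hJ : RingHom.ker (π : (MvPolynomial (Fin P.n) R ⧸ Ideal.span (Set.range v)) →+* A) = Ideal.map (Ideal.Quotient.mk (Ideal.span (Set.range v))) I := by
    ext y
    obtain ⟨p, rfl⟩ := Ideal.Quotient.mk_surjective y
    rw [RingHom.mem_ker]
    constructor
    · intro h
      exact Ideal.mem_map_of_mem _ ((hker p).mp h)
    · intro h
      obtain ⟨i, hi, hip⟩ := (Ideal.mem_map_iff_of_surjective _ Ideal.Quotient.mk_surjective).mp h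
      have : π (Ideal.Quotient.mk _ p) = π (Ideal.Quotient.mk _ i) := by rw [hip]
      change π (Ideal.Quotient.mk _ p) = 0
      rw [this, hπmk]
      exact (hker i).mpr hi
  have hJfg : (RingHom.ker (π : (MvPolynomial (Fin P.n) R ⧸ Ideal.span (Set.range v)) →+* A)).FG := by
    rw [hJ]
    apply Ideal.FG.map
    rw [hIdef]
    exact ⟨Finset.univ.image P.rel, by simp⟩
  have hmul : ∀ i ∈ I, a'' * i ∈ Ideal.span (Set.range v) ⊔ I ^ 2 := by
    intro i hi
    rw [hIdef] at hi
    induction hi using Submodule.span_induction with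
    | mem x hx =>
      obtain ⟨j, rfl⟩ := hx
      by_cases hj : (j : ℕ) < P.c
      · apply Ideal.mem_sup_left; apply Ideal.mul_mem_left; apply Ideal.subset_span
        rw [← himg]; exact ⟨j, hj, rfl⟩
      · have := hkill a'' ha'' j (not_lt.mp hj)
        rwa [himg, ← hIdef] at this
    | zero => simp
    | add x y _ _ hx hy => rw [mul_add]; exact Ideal.add_mem _ hx hy
    | smul r x _ hx => rw [smul_eq_mul, mul_left_comm]; exact Ideal.mul_mem_left _ _ hx
  have hāJ : ∀ j ∈ RingHom.ker (π : (MvPolynomial (Fin P.n) R ⧸ Ideal.span (Set.range v)) →+* A), Ideal.Quotient.mk _ a'' * j ∈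
      RingHom.ker (π : (MvPolynomial (Fin P.n) R ⧸ Ideal.span (Set.range v)) →+* A) * RingHom.ker (π : (MvPolynomial (Fin P.n) R ⧸ Ideal.span (Set.range v)) →+* A) := by
    intro j hj
    rw [hJ] at hj ⊢
    obtain ⟨i, hi, rfl⟩ := (Ideal.mem_map_iff_of_surjective _ Ideal.Quotient.mk_surjective).mp hj
    have h1 := Ideal.mem_map_of_mem (Ideal.Quotient.mk (Ideal.span (Set.range v))) (hmul i hi)
    rw [Ideal.map_sup, Ideal.map_pow, Ideal.map_quotient_self, bot_sup_eq, sq, map_mul] at h1
    exact h1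
  obtain ⟨t, N, ht, htN⟩ := exists_annihilator (π : (MvPolynomial (Fin P.n) R ⧸ Ideal.span (Set.range v)) →+* A) hJfg (Ideal.Quotient.mk _ a'') hāJ
  have hπā : (π : (MvPolynomial (Fin P.n) R ⧸ Ideal.span (Set.range v)) →+* A) (Ideal.Quotient.mk _ a'') = a := ha''
  letI : Algebra (MvPolynomial (Fin P.n) R ⧸ Ideal.span (Set.range v)) (Localization.Away a) :=
    ((algebraMap A (Localization.Away a)).comp (π : (MvPolynomial (Fin P.n) R ⧸ Ideal.span (Set.range v)) →+* A)).toAlgebra
  have hBT : ∀ y, algebraMap (MvPolynomial (Fin P.n) R ⧸ Ideal.span (Set.range v))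
      (Localization.Away a) y = algebraMap A (Localization.Away a) ((π : (MvPolynomial (Fin P.n) R ⧸ Ideal.span (Set.range v)) →+* A) y) := fun y => rfl
  haveI : IsScalarTower R (MvPolynomial (Fin P.n) R ⧸ Ideal.span (Set.range v))
      (Localization.Away a) := by
    refine IsScalarTower.of_algebraMap_eq (R := R)
      (S := MvPolynomial (Fin P.n) R ⧸ Ideal.span (Set.range v)) (A := Localization.Away a)
      (fun r => ?_)
    rw [hBT, IsScalarTower.algebraMap_apply R A (Localization.Away a)]
    congr 1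
    exact (π.commutes r).symm
  haveI : IsLocalization.Away ((π : (MvPolynomial (Fin P.n) R ⧸ Ideal.span (Set.range v)) →+* A) (Ideal.Quotient.mk _ a'')) (Localization.Away a) := by
    rw [hπā]; infer_instance
  haveI := away_of_annihilator (T := Localization.Away a) (π : (MvPolynomial (Fin P.n) R ⧸ Ideal.span (Set.range v)) →+* A) hπsurj
    (Ideal.Quotient.mk _ a'') t N ht htN hBT
  apply isStandardSmooth_of_naive v (Fin.castLE P.hcn) (Fin.castLE_injective P.hcn)
    (Localization.Away a) (Ideal.Quotient.mk _ a'' * t)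
  rw [hBT]
  have hdet : (π : (MvPolynomial (Fin P.n) R ⧸ Ideal.span (Set.range v)) →+* A) (Ideal.Quotient.mk _
      (Matrix.det (Matrix.of fun j k : Fin P.c => pderiv (Fin.castLE P.hcn k) (v j)))) =
      P.hom (Smoothing.jacobianMinor P.rel (Fin.castLE P.hcm) (Fin.castLE P.hcn)) := by
    subst hv; rfl
  rw [hdet]
  have hau : IsUnit (algebraMap A (Localization.Away a) a) :=
    IsLocalization.Away.algebraMap_isUnit a
  have hprod : algebraMap A (Localization.Away a) a' * algebraMap A (Localization.Away a)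
      (P.hom (Smoothing.jacobianMinor P.rel (Fin.castLE P.hcm) (Fin.castLE P.hcn))) =
      algebraMap A (Localization.Away a) a := by rw [← map_mul, ← ha']
  rw [← hprod] at hau
  exact isUnit_of_mul_isUnit_right hau

end Groth.Agent.S2032
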