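import Groth.Statements.S2108
import Groth.Agent.Lib.Helper8.JacPt3

set_option autoImplicit false
universe u
open Smoothing

namespace Groth.Agent.S2108

/-- Let `A = R[x_1, …, x_n]/(f_1, …, f_m)` and `𝔮` a prime of `A` at which `R → A` is smooth. Then there
are `a ∈ A ∖ 𝔮`, an integer `c` and injections picking `c` relations and `c` variables such that `a`
is a multiple of the image of the corresponding Jacobian minor and `a f_ℓ` lies in the ideal
generated by the chosen relations plus the square of the relation ideal, for every `ℓ`. -/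
theorem result {R A : Type u} [CommRing R] [CommRing A] [Algebra R A] {n m : ℕ}
    (f : Fin m → MvPolynomial (Fin n) R) (φ : MvPolynomial (Fin n) R →ₐ[R] A) (hφ : Function.Surjective φ)
    (hker : RingHom.ker φ.toRingHom = Ideal.span (Set.range f)) (q : Ideal A) [q.IsPrime] [Algebra.IsSmoothAt R q] :
    ∃ a : A, a ∉ q ∧ ∃ (c : ℕ) (rows : Fin c ↪ Fin m) (cols : Fin c ↪ Fin n) (a' : A),
      a = a' * φ (Smoothing.jacobianMinor f rows cols) ∧
      ∀ a₁ : MvPolynomial (Fin n) R, φ a₁ = a → ∀ ℓ : Fin m,
        a₁ * f ℓ ∈ Ideal.span (Set.range (f ∘ rows)) ⊔ Ideal.span (Set.range f) ^ 2 := by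
  let G : Algebra.Generators R A (Fin n) := Algebra.Generators.ofAlgHom φ hφ
  have hval : MvPolynomial.aeval G.val = φ := by
    apply MvPolynomial.algHom_ext
    intro i
    simp [G, Algebra.Generators.ofAlgHom]
  have hGker : Ideal.span (Set.range f) = G.ker := by
    rw [← hker]
    exact (Algebra.Generators.ker_ofAlgHom φ hφ).symm
  obtain ⟨c, rows, cols, u, hu, hminor, hmem⟩ :=
    Groth.Agent.Helper8.JacPt.exists_rows_cols G f hGker q
  rw [hval] at hu hminor
  refine ⟨φ u * φ (Smoothing.jacobianMinor f rows cols), ?_, c, rows, cols, φ u, rfl, ?_⟩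
  · intro hmem'
    rcases Ideal.IsPrime.mem_or_mem inferInstance hmem' with h | h
    · exact hu h
    · exact hminor h
  · intro a₁ ha₁ ℓ
    have h1 : a₁ - u * Smoothing.jacobianMinor f rows cols ∈ Ideal.span (Set.range f) := by
      rw [← hker, RingHom.mem_ker]
      change φ (a₁ - u * Smoothing.jacobianMinor f rows cols) = 0
      rw [map_sub, map_mul, ha₁, sub_self]
    have h2 : a₁ * f ℓ = (a₁ - u * Smoothing.jacobianMinor f rows cols) * f ℓ +
        Smoothing.jacobianMinor f rows cols * (u * f ℓ) := by ring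
    rw [h2]
    refine Submodule.add_mem _ (Submodule.mem_sup_right ?_) (Ideal.mul_mem_left _ _ (hmem ℓ))
    rw [pow_two]
    exact Ideal.mul_mem_mul h1 (Ideal.subset_span ⟨ℓ, rfl⟩)

end Groth.Agent.S2108
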