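import Groth.Statements.S2030
import Groth.Agent.Lib.Helper8.StrStd2

set_option autoImplicit false
universe u
open Smoothing

namespace Groth.Agent.S2030

/-- If `a` is strictly standard in the finitely presented `R`-algebra `A`, then the localization `A_a`
is smooth over `R` and its module of Kaehler differentials over `R` is stably free (free after
adding a finite free module). -/
theorem result {R A : Type u} [CommRing R] [CommRing A]
    [Algebra R A] (a : A) (ha : Smoothing.IsStrictlyStandard R A a) :
    Algebra.Smooth R (Localization.Away a) ∧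
      ∃ p q : ℕ, Nonempty ((Ω[Localization.Away a⁄R] × (Fin p → Localization.Away a)) ≃ₗ[Localization.Away a]
        (Fin q → Localization.Away a)) := by
  obtain ⟨P, hmem, hkill⟩ := ha
  let G : Algebra.Generators R A (Fin P.n) := Algebra.Generators.ofAlgHom P.hom P.surj
  have hval : MvPolynomial.aeval G.val = P.hom := by
    apply MvPolynomial.algHom_ext
    intro i
    simp [G, Algebra.Generators.ofAlgHom]
  have hGker : Ideal.span (Set.range P.rel) = G.ker := by
    rw [← P.ker_eq]
    exact (Algebra.Generators.ker_ofAlgHom P.hom P.surj).symm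
  have h1 : a ∈ Ideal.span (Set.range fun cols : Fin P.c → Fin P.n =>
      MvPolynomial.aeval G.val (Matrix.det (Matrix.of fun j k : Fin P.c =>
        MvPolynomial.pderiv (cols k) (P.rel (Fin.castLE P.hcm j))))) := by
    rw [hval]
    exact hmem
  have h2 : ∀ ℓ, ∃ a' : MvPolynomial (Fin P.n) R, MvPolynomial.aeval G.val a' = a ∧
      a' * P.rel ℓ ∈ Ideal.span (Set.range (P.rel ∘ Fin.castLE P.hcm)) ⊔
        Ideal.span (Set.range P.rel) ^ 2 := by
    intro ℓ
    obtain ⟨a', ha'⟩ := P.surj a
    refine ⟨a', by rw [hval, ha'], ?_⟩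
    by_cases hℓ : P.c ≤ (ℓ : ℕ)
    · have h3 := hkill a' ha' ℓ hℓ
      have h4 : P.rel '' {j' : Fin P.m | (j' : ℕ) < P.c} = Set.range (P.rel ∘ Fin.castLE P.hcm) := by
        ext y
        constructor
        · rintro ⟨j', hj', rfl⟩
          exact ⟨⟨j', hj'⟩, by simp⟩
        · rintro ⟨j, rfl⟩
          exact ⟨Fin.castLE P.hcm j, by simp, rfl⟩
      rwa [h4] at h3
    · refine Submodule.mem_sup_left (Ideal.mul_mem_left _ _ (Ideal.subset_span ?_))
      exact ⟨⟨ℓ, not_le.mp hℓ⟩, by simp⟩
  obtain ⟨hsm, ⟨e⟩⟩ := Groth.Agent.Helper8.StrStd.smooth_away G P.rel hGker (Fin.castLE P.hcm) a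
    (Localization.Away a) h1 h2
  refine ⟨⟨hsm, ?_⟩, P.c, P.n, ⟨e⟩⟩
  haveI : Algebra.FinitePresentation R A := by
    refine Algebra.FinitePresentation.of_surjective P.surj ?_
    rw [P.ker_eq]
    exact Submodule.fg_span (Set.finite_range P.rel)
  haveI : Algebra.FinitePresentation A (Localization.Away a) :=
    IsLocalization.Away.finitePresentation a
  exact Algebra.FinitePresentation.trans R A (Localization.Away a)

end Groth.Agent.S2030
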