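import Groth.Statements.S6829
import Mathlib

set_option autoImplicit false
universe u
open Smoothing

namespace Groth.Agent.S6829

namespace H6829
open MvPolynomial TensorProduct Smoothing

variable {R A : Type u} [CommRing R] [CommRing A] [Algebra R A]

lemma hom_eq_aeval (P : MarkedPresentation R A) :
    P.hom = aeval (fun i => P.hom (X i)) := by
  have := aeval_unique P.hom
  exact this

noncomputable def toPres (P : MarkedPresentation R A) :
    Algebra.Presentation R A (Fin P.n) (Fin P.m) where
  __ := Algebra.Generators.ofSurjective (fun i => P.hom (X i)) (by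
    rw [← hom_eq_aeval]; exact P.surj)
  relation := P.rel
  span_range_relation_eq_ker := by
    rw [Algebra.Generators.ker_eq_ker_aeval_val]
    show Ideal.span (Set.range P.rel) = RingHom.ker (aeval fun i => P.hom (X i))
    rw [← hom_eq_aeval, ← P.ker_eq]
    rfl

variable (R' : Type u) [CommRing R'] [Algebra R R']

/-- the base-changed map -/
noncomputable def hom' (P : MarkedPresentation R A) :
    MvPolynomial (Fin P.n) R' →ₐ[R'] R' ⊗[R] A :=
  aeval (fun i => (1 : R') ⊗ₜ[R] P.hom (X i))

lemma hom'_map (P : MarkedPresentation R A) (p : MvPolynomial (Fin P.n) R) :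
    hom' R' P (map (algebraMap R R') p) = (1 : R') ⊗ₜ[R] P.hom p := by
  induction p using MvPolynomial.induction_on with
  | C a =>
    simp only [hom', map_C, algHom_C, Algebra.TensorProduct.algebraMap_apply]
    have h1 : algebraMap R A a = a • (1 : A) := Algebra.algebraMap_eq_smul_one a
    have h2 : (algebraMap R' R') (algebraMap R R' a) = a • (1 : R') := by
      rw [Algebra.algebraMap_self, RingHom.id_apply, Algebra.algebraMap_eq_smul_one]
    rw [h1, h2, smul_tmul]
  | add p q hp hq => rw [map_add, map_add, hp, hq, map_add, tmul_add]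
  | mul_X p i hp =>
    rw [map_mul, map_mul, hp, map_X, map_mul]
    simp only [hom', aeval_X, Algebra.TensorProduct.tmul_mul_tmul, mul_one]

noncomputable abbrev bc (P : MarkedPresentation R A) : MarkedPresentation R' (R' ⊗[R] A) where
  n := P.n
  m := P.m
  c := P.c
  hcn := P.hcn
  hcm := P.hcm
  rel j := map (algebraMap R R') (P.rel j)
  hom := hom' R' P
  surj := ((toPres P).baseChange R').aeval_val_surjective
  ker_eq := ((toPres P).span_range_relation_eq_ker_baseChange R').symm

end H6829

namespace H6829
open MvPolynomial TensorProduct Smoothing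

variable {R A : Type u} [CommRing R] [CommRing A] [Algebra R A]
variable (R' : Type u) [CommRing R'] [Algebra R R']

lemma minor_map {n m c : ℕ} (f : Fin m → MvPolynomial (Fin n) R) (rows : Fin c → Fin m)
    (cols : Fin c → Fin n) :
    jacobianMinor (fun j => map (algebraMap R R') (f j)) rows cols =
      map (algebraMap R R') (jacobianMinor f rows cols) := by
  unfold jacobianMinor
  rw [RingHom.map_det]
  congr 1
  ext j k : 1
  simp only [Matrix.of_apply, RingHom.mapMatrix_apply, Matrix.map_apply]
  rw [pderiv_map]

lemma killsTail_bc (P : MarkedPresentation R A) (a : A) (h : KillsTail P a) :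
    KillsTail (bc R' P) ((1 : R') ⊗ₜ[R] a) := by
  intro a'' ha'' j hj
  obtain ⟨a₀, ha₀⟩ := P.surj a
  have h0 : (bc R' P).hom (map (algebraMap R R') a₀) = (1 : R') ⊗ₜ[R] a := by
    show hom' R' P _ = _
    rw [hom'_map, ha₀]
  have hker : a'' - map (algebraMap R R') a₀ ∈ Ideal.span (Set.range (bc R' P).rel) := by
    rw [← (bc R' P).ker_eq, RingHom.mem_ker]
    show (bc R' P).hom (a'' - map (algebraMap R R') a₀) = 0
    rw [map_sub, ha'', h0, sub_self]
  have hsplit : a'' * (bc R' P).rel j =
      (a'' - map (algebraMap R R') a₀) * (bc R' P).rel j +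
        map (algebraMap R R') (a₀ * P.rel j) := by
    rw [map_mul]
    show _ = _ + map (algebraMap R R') a₀ * (bc R' P).rel j
    ring
  rw [hsplit]
  apply Ideal.add_mem
  · apply Ideal.mem_sup_right
    rw [pow_two]
    exact Ideal.mul_mem_mul hker (Ideal.subset_span ⟨j, rfl⟩)
  · have h1 := h a₀ ha₀ j hj
    have h2 := Ideal.mem_map_of_mem (map (algebraMap R R')) h1
    rw [Ideal.map_sup, Ideal.map_pow, Ideal.map_span, Ideal.map_span] at h2
    have e1 : (⇑(map (algebraMap R R') : MvPolynomial (Fin P.n) R →+* _) ''
        (P.rel '' {j' : Fin P.m | (j' : ℕ) < P.c})) =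
        (bc R' P).rel '' {j' : Fin (bc R' P).m | (j' : ℕ) < (bc R' P).c} := by
      rw [Set.image_image]
    have e2 : (⇑(map (algebraMap R R') : MvPolynomial (Fin P.n) R →+* _) '' Set.range P.rel) =
        Set.range (bc R' P).rel := by
      rw [← Set.range_comp]
      rfl
    rw [e1, e2] at h2
    exact h2

theorem main (a : A) :
    (IsElementaryStandard R A a →
        IsElementaryStandard R' (R' ⊗[R] A) ((1 : R') ⊗ₜ[R] a)) ∧
      (IsStrictlyStandard R A a →
        IsStrictlyStandard R' (R' ⊗[R] A) ((1 : R') ⊗ₜ[R] a)) := by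
  constructor
  · rintro ⟨P, ⟨a', ha'⟩, hk⟩
    refine ⟨bc R' P, ⟨(1 : R') ⊗ₜ[R] a', ?_⟩, killsTail_bc R' P a hk⟩
    show _ = _ * hom' R' P (jacobianMinor (fun j => map (algebraMap R R') (P.rel j)) _ _)
    rw [minor_map, hom'_map, Algebra.TensorProduct.tmul_mul_tmul, mul_one, ← ha']
  · rintro ⟨P, hmem, hk⟩
    refine ⟨bc R' P, ?_, killsTail_bc R' P a hk⟩
    have h2 := Ideal.mem_map_of_mem
      (Algebra.TensorProduct.includeRight (R := R) (A := R') (B := A)).toRingHom hmem
    rw [Ideal.map_span, ← Set.range_comp] at h2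
    have e3 : (fun cols : Fin (bc R' P).c → Fin (bc R' P).n =>
        (bc R' P).hom (jacobianMinor (bc R' P).rel (Fin.castLE (bc R' P).hcm) cols)) =
        (⇑(Algebra.TensorProduct.includeRight (R := R) (A := R') (B := A)).toRingHom ∘
          fun cols => P.hom (jacobianMinor P.rel (Fin.castLE P.hcm) cols)) := by
      funext cols
      show hom' R' P (jacobianMinor (fun j => map (algebraMap R R') (P.rel j)) _ _) = _
      rw [minor_map, hom'_map]
      rfl
    rw [e3]
    exact h2

end H6829

open TensorProduct in
/-- Let A be a finitely presented R-algebra, R → R' a ring map and a ∈ A. If a is elementary standard,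
resp. strictly standard, in A over R, then a ⊗ 1 is elementary standard, resp. strictly standard, in
A ⊗_R R' over R' (written here as 1 ⊗ a in R' ⊗_R A). -/
theorem result {R A R' : Type u} [CommRing R] [CommRing A] [Algebra R A]
    [Algebra.FinitePresentation R A] [CommRing R'] [Algebra R R'] (a : A) :
    (Smoothing.IsElementaryStandard R A a →
        Smoothing.IsElementaryStandard R' (R' ⊗[R] A) ((1 : R') ⊗ₜ[R] a)) ∧
      (Smoothing.IsStrictlyStandard R A a →
        Smoothing.IsStrictlyStandard R' (R' ⊗[R] A) ((1 : R') ⊗ₜ[R] a)) := by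
  exact H6829.main R' a

end Groth.Agent.S6829
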