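import Groth.Statements.S2031
import Groth.Agent.Lib.Helper8.StrStd6

set_option autoImplicit false
universe u
open Smoothing

namespace Groth.Agent.S2031

/-- Let `A` be a finitely presented `R`-algebra and `a ∈ A` such that `A_a` is smooth over `R` with
stably free module of differentials. Then `a^e` is strictly standard in `A` over `R` for all
sufficiently large `e`. -/
theorem result {R A : Type u} [CommRing R] [CommRing A]
    [Algebra R A] [Algebra.FinitePresentation R A] (a : A) [Algebra.Smooth R (Localization.Away a)]
    (p q : ℕ) (e : (Ω[Localization.Away a⁄R] × (Fin p → Localization.Away a)) ≃ₗ[Localization.Away a]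
      (Fin q → Localization.Away a)) :
    ∃ e₀ : ℕ, ∀ n : ℕ, e₀ ≤ n → Smoothing.IsStrictlyStandard R A (a ^ n) := by
  haveI : Algebra.FormallySmooth R (Localization.Away a) :=
    (inferInstance : Algebra.Smooth R (Localization.Away a)).1
  exact Groth.Agent.Helper8.StrStd.exists_pow_isStrictlyStandard a (Localization.Away a) p q e

end Groth.Agent.S2031
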