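import Groth.Statements.S9282
import Groth.Agent.Lib.Helper8.AdicFS15

set_option autoImplicit false
universe u
open CAlg

namespace Groth.Agent.S9282

/-- Let A → B be a local ring map between Noetherian local rings that is formally smooth for the adic
topology of the maximal ideal of B, and write K for the residue field of B. In the Jacobi–Zariski
sequence attached to A → B → K, the map from H_1(NL_{K/A}) to H_1(NL_{K/B}), which is m_B/m_B^2, is
injective; the remaining terms are exact in general, so that sequence starts with a zero. -/
theorem result (A B : Type u) [CommRing A]
    [CommRing B] [IsLocalRing A] [IsLocalRing B] [IsNoetherianRing A] [IsNoetherianRing B]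
    [Algebra A B] [IsLocalHom (algebraMap A B)]
    (hfs : CAlgX.IsAdicFormallySmooth A B (IsLocalRing.maximalIdeal B)) :
    Function.Injective
      (Algebra.H1Cotangent.map A B (IsLocalRing.ResidueField B) (IsLocalRing.ResidueField B)) := by
  have key := Groth.Agent.Helper8.AdicFS.cotangent_map_injective (A := A) (B := B)
    (K := IsLocalRing.ResidueField B) hfs (fun x hx => (IsLocalRing.residue_eq_zero_iff x).2 hx)
  intro x y hxy
  apply Subtype.ext
  apply key
  exact congrArg Subtype.val hxy

end Groth.Agent.S9282
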