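import Groth.Statements.S4736
import Groth.Agent.Lib.Helper8.LocHom1
import Groth.Agent.Lib.Helper8.Fib5
import Groth.Agent.Lib.Helper8.Cpl2

set_option autoImplicit false
universe u
open EGA4

namespace Groth.Agent.S4736

/-- Let A → B be a regular homomorphism of Noetherian rings (flat, with geometrically regular fibres)
and S a multiplicative subset of A. Then the induced homomorphism S⁻¹A → S⁻¹B is regular. (S⁻¹A and
S⁻¹B are given here as arbitrary localizations at S and at its image.) -/
theorem result (A B : Type u) [CommRing A] [CommRing B] [IsNoetherianRing A] [IsNoetherianRing B]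
    [Algebra A B] (h : CAlg.IsRegularHom A B) (S : Submonoid A)
    (A' B' : Type u) [CommRing A'] [CommRing B'] [Algebra A A'] [Algebra B B'] [Algebra A' B'] [Algebra A B']
    [IsScalarTower A A' B'] [IsScalarTower A B B'] [IsLocalization S A']
    [IsLocalization (Algebra.algebraMapSubmonoid B S) B'] :
    CAlg.IsRegularHom A' B' := by
  haveI hpo : Algebra.IsPushout A A' B B' :=
    (Algebra.isPushout_of_isLocalization S A' B B').symm
  haveI : Module.Flat A B := h.1
  haveI : IsNoetherianRing B' :=
    IsLocalization.isNoetherianRing (Algebra.algebraMapSubmonoid B S) B' inferInstance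
  refine ⟨Module.Flat.isBaseChange A A' B B' hpo.out, fun p' _ => ⟨?_, ?_⟩⟩
  · exact Groth.Agent.Helper8.Fib.isNoetherianRing_fiber (S := B') p'
  · intro K _ _ hfin
    obtain ⟨i, h1, -, ⟨e⟩⟩ := Groth.Agent.Helper8.LocHom.exists_fibre_equiv A B S A' B' p' K
    haveI := h1 hfin
    haveI : IsRegularRing (TensorProduct (p'.under A).ResidueField K ((p'.under A).Fiber B)) :=
      (h.2 (p'.under A)).2 K (h1 hfin)
    exact IsRegularRing.of_ringEquiv
      (R := TensorProduct (p'.under A).ResidueField K ((p'.under A).Fiber B)) e.symm

end Groth.Agent.S4736
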