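import Groth.Statements.S2053
import Groth.Agent.Lib.Helper8.CohenFact4

set_option autoImplicit false
universe u
open CAlg

namespace Groth.Agent.S2053

/-- Consider a local homomorphism `A → B` between complete Noetherian local rings. Then there are power
series rings `R`, `S` in finitely many variables over coefficient rings which are both fields (when
the residue characteristic of `A` is zero) or both Cohen rings (when it is positive), surjections `R
→ A`, `S → B` and a ring map `R → S` making the square commute, such that `R → S` is flat and `S/𝔪_R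
S` is a regular ring. (The published statement also arranges that a regular system of parameters
maps into one; that is not asserted here.) -/
theorem result {A B : Type u} [CommRing A] [CommRing B]
    [IsLocalRing A] [IsLocalRing B] [IsNoetherianRing A] [IsNoetherianRing B]
    [IsAdicComplete (IsLocalRing.maximalIdeal A) A] [IsAdicComplete (IsLocalRing.maximalIdeal B) B]
    [Algebra A B] [IsLocalHom (algebraMap A B)] :
    ∃ (Λ Λ' : Type u) (_ : CommRing Λ) (_ : CommRing Λ') (_ : IsLocalRing Λ) (n m : ℕ)
      (ρ : MvPowerSeries (Fin n) Λ →+* A) (σ : MvPowerSeries (Fin m) Λ' →+* B)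
      (τ : MvPowerSeries (Fin n) Λ →+* MvPowerSeries (Fin m) Λ'),
      ((CharZero (IsLocalRing.ResidueField A) ∧ IsField Λ ∧ IsField Λ') ∨
        (¬ CharZero (IsLocalRing.ResidueField A) ∧ CAlg.IsCohenRing Λ ∧ CAlg.IsCohenRing Λ')) ∧
        Function.Surjective ρ ∧ Function.Surjective σ ∧ σ.comp τ = (algebraMap A B).comp ρ ∧
        τ.Flat ∧ IsRegularRing (MvPowerSeries (Fin m) Λ' ⧸
          (IsLocalRing.maximalIdeal (MvPowerSeries (Fin n) Λ)).map τ) := by
  classical
  obtain ⟨q, hq⟩ := CharP.exists (IsLocalRing.ResidueField A)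
  rcases CharP.char_is_prime_or_zero (IsLocalRing.ResidueField A) q with hqp | hq0
  · -- positive residue characteristic
    haveI : CharP (IsLocalRing.ResidueField B) q :=
      charP_of_injective_ringHom
        (algebraMap (IsLocalRing.ResidueField A) (IsLocalRing.ResidueField B)).injective q
    obtain ⟨Λ, hΛ, hd, hv, hc, φ, hm, hφ⟩ :=
      Groth.Agent.Helper8.CohenFact.exists_cohen_section A q hqp
    obtain ⟨Λ', hΛ', hd', hv', hc', φ', hm', hφ'⟩ :=
      Groth.Agent.Helper8.CohenFact.exists_cohen_section B q hqp
    have hdim : ringKrullDim Λ = ringKrullDim Λ' := by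
      rw [Groth.Agent.Helper8.CohenFact.ringKrullDim_eq_one_of_dvr,
        Groth.Agent.Helper8.CohenFact.ringKrullDim_eq_one_of_dvr]
    have hLP : ∀ N : ℕ, Groth.Agent.Helper8.CohenLift.LiftProp Λ
        (IsLocalRing.maximalIdeal (MvPowerSeries (Fin N) Λ')) := by
      intro N
      refine Groth.Agent.Helper8.CohenLift.liftProp_of_cohen Λ q hqp hm _ ?_
      rw [Groth.Agent.Helper8.FinPS.maximalIdeal_mvPowerSeries_eq_sup]
      refine Ideal.mem_sup_left ?_
      rw [← map_natCast (MvPowerSeries.C : Λ' →+* MvPowerSeries (Fin N) Λ')]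
      refine Ideal.mem_map_of_mem _ ?_
      rw [hm']
      exact Ideal.mem_span_singleton_self _
    obtain ⟨n, m, ρ, σ, τ, hρ, hσ, hcomp, hflat, hreg⟩ :=
      Groth.Agent.Helper8.CohenFact.exists_factorization Λ Λ' hdim q hm hm' hLP φ hφ φ' hφ'
    refine ⟨Λ, Λ', hΛ, hΛ', inferInstance, n, n + m, ρ, σ, τ, Or.inr ⟨?_, ?_, ?_⟩, hρ, hσ, hcomp,
      hflat, hreg⟩
    · intro h0
      have := CharP.eq (IsLocalRing.ResidueField A) hq (CharP.ofCharZero _)
      exact hqp.ne_zero this
    · exact ⟨hd, hv, hc, q, hqp, hm⟩
    · exact ⟨hd', hv', hc', q, hqp, hm'⟩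
  · -- residue characteristic zero
    subst hq0
    haveI : CharZero (IsLocalRing.ResidueField A) := CharP.charP_to_charZero _
    haveI : CharZero (IsLocalRing.ResidueField B) :=
      charZero_of_injective_ringHom
        (algebraMap (IsLocalRing.ResidueField A) (IsLocalRing.ResidueField B)).injective
    obtain ⟨s, hs⟩ := Groth.Agent.S0579.result A
    obtain ⟨s', hs'⟩ := Groth.Agent.S0579.result B
    have hφ : Function.Surjective ((IsLocalRing.residue A).comp s) := by
      rw [hs]; exact Function.surjective_id
    have hφ' : Function.Surjective ((IsLocalRing.residue B).comp s') := by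
      rw [hs']; exact Function.surjective_id
    haveI : IsAdicComplete (IsLocalRing.maximalIdeal (IsLocalRing.ResidueField B))
        (IsLocalRing.ResidueField B) := by
      rw [IsLocalRing.maximalIdeal_eq_bot]
      infer_instance
    have hdim : ringKrullDim (IsLocalRing.ResidueField A) =
        ringKrullDim (IsLocalRing.ResidueField B) := by
      rw [ringKrullDim_eq_zero_of_field, ringKrullDim_eq_zero_of_field]
    have hm : IsLocalRing.maximalIdeal (IsLocalRing.ResidueField A) =
        Ideal.span {((0 : ℕ) : IsLocalRing.ResidueField A)} := by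
      rw [IsLocalRing.maximalIdeal_eq_bot, Nat.cast_zero, eq_comm, Ideal.span_singleton_eq_bot]
    have hm' : IsLocalRing.maximalIdeal (IsLocalRing.ResidueField B) =
        Ideal.span {((0 : ℕ) : IsLocalRing.ResidueField B)} := by
      rw [IsLocalRing.maximalIdeal_eq_bot, Nat.cast_zero, eq_comm, Ideal.span_singleton_eq_bot]
    obtain ⟨n, m, ρ, σ, τ, hρ, hσ, hcomp, hflat, hreg⟩ :=
      Groth.Agent.Helper8.CohenFact.exists_factorization (IsLocalRing.ResidueField A)
        (IsLocalRing.ResidueField B) hdim 0 hm hm'
        (fun N => Groth.Agent.Helper8.CohenLift.liftProp_of_charZero _ _) s hφ s' hφ'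
    exact ⟨IsLocalRing.ResidueField A, IsLocalRing.ResidueField B, inferInstance, inferInstance,
      inferInstance, n, n + m, ρ, σ, τ, Or.inl ⟨inferInstance, Field.toIsField _, Field.toIsField _⟩,
      hρ, hσ, hcomp, hflat, hreg⟩

end Groth.Agent.S2053
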