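import Groth.Statements.S16576
import Groth.Agent.Lib.Helper8.C2b

set_option autoImplicit false
universe u
open CAlg

namespace Groth.Agent.S16576

/-- Let A → B be a flat local homomorphism of Noetherian local rings and let Â, B̂ be their completions
at the maximal ideals. If every irreducible component of Spec Â has dimension at least 2, then every
irreducible component of Spec B̂ has dimension at least 2. (This is the c_2 condition in its
completed form; globally: the preimage of a c_2 closed subset under a flat morphism of Noetherian
schemes is c_2, in particular the condition is invariant under Zariski and étale localization.) -/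
theorem result
    (A B : Type u) [CommRing A] [CommRing B] [IsNoetherianRing A] [IsNoetherianRing B]
    [IsLocalRing A] [IsLocalRing B] (f : A →+* B) [IsLocalHom f] (hf : f.Flat)
    (hA : ∀ q ∈ minimalPrimes (AdicCompletion (IsLocalRing.maximalIdeal A) A), (2 : WithBot ℕ∞) ≤ ringKrullDim (AdicCompletion (IsLocalRing.maximalIdeal A) A ⧸ q)) :
    ∀ q ∈ minimalPrimes (AdicCompletion (IsLocalRing.maximalIdeal B) B), (2 : WithBot ℕ∞) ≤ ringKrullDim (AdicCompletion (IsLocalRing.maximalIdeal B) B ⧸ q) := by
  letI : Algebra A B := f.toAlgebra
  haveI : IsLocalHom (algebraMap A B) := ‹IsLocalHom f›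
  haveI : Module.Flat A B := hf
  letI := Groth.Agent.Helper8.CplMap.algebraCpl A B
  haveI := Groth.Agent.Helper8.CplMap.isLocalHom_cpl A B
  haveI := Groth.Agent.Helper8.CplMap.flat_cpl A B
  haveI : IsNoetherianRing (EGA4.Cpl A) := Groth.Agent.Helper8.AdicReg.isNoetherianRing A _
  haveI : IsNoetherianRing (EGA4.Cpl B) := Groth.Agent.Helper8.AdicReg.isNoetherianRing B _
  exact Groth.Agent.Helper8.C2.two_le_dim_quotient_minimalPrimes (EGA4.Cpl A) (EGA4.Cpl B) hA

end Groth.Agent.S16576
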