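import Groth.Statements.S4528
import Mathlib
import Groth.Agent.Lib.Helper2.CompleteFinite

set_option autoImplicit false
universe u
open EGA41

namespace Groth.Agent.S4528

open IsLocalRing in
/-- Let k be a field (any characteristic) and A a complete Noetherian local k-algebra whose residue
field K is an extension of finite type of k. Then the completed module of differentials, i.e. the
𝔪-adic completion of Ω_{A/k}, is an A-module of finite type. -/
theorem result {k A : Type u} [Field k] [CommRing A] [IsLocalRing A]
    [IsNoetherianRing A] [IsAdicComplete (maximalIdeal A) A] [Algebra k A]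
    [Algebra.EssFiniteType k (ResidueField A)] :
    Module.Finite A (AdicCompletion (maximalIdeal A) (Ω[A⁄k])) := by
  apply Groth.Agent.Helper2.CompleteFinite.finite_adicCompletion _ (IsNoetherian.noetherian _)
  rw [pow_one]
  have : Module.Finite A (TensorProduct A (A ⧸ maximalIdeal A) (Ω[A⁄k])) :=
    Groth.Agent.Helper2.CompleteFinite.finite_residueField_tensor_kaehler (k := k) (A := A)
  exact Module.Finite.equiv (TensorProduct.quotTensorEquivQuotSMul (Ω[A⁄k]) (maximalIdeal A))

end Groth.Agent.S4528
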