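import Groth.Statements.S4540
import Mathlib
import Groth.Agent.Lib.Helper2.AdicFS
import Groth.Agent.Lib.Helper2.NilpotentFree

set_option autoImplicit false
universe u
open EGA41

namespace Groth.Agent.S4540

open IsLocalRing TensorProduct in
/-- Let A, B be Noetherian local rings and A → B a local homomorphism making B a formally smooth
A-algebra for the adic topologies of the maximal ideals. Then for every ideal of definition 𝔟 of B,
the (B/𝔟)-module Ω_{B/A} ⊗_B (B/𝔟) is free. -/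
theorem result {A B : Type u} [CommRing A] [IsLocalRing A]
    [IsNoetherianRing A] [CommRing B] [IsLocalRing B] [IsNoetherianRing B] [Algebra A B] [IsLocalHom (algebraMap A B)]
    (h : EGA41.IsFormallySmoothAdic A (maximalIdeal A) B (maximalIdeal B))
    (𝔟 : Ideal B) (hle : 𝔟 ≤ maximalIdeal B) (hpow : ∃ k : ℕ, maximalIdeal B ^ k ≤ 𝔟) :
    Module.Free (B ⧸ 𝔟) ((B ⧸ 𝔟) ⊗[B] Ω[B⁄A]) := by
  have hne : 𝔟 ≠ ⊤ := fun h' => (IsLocalRing.maximalIdeal.isMaximal B).ne_top (top_le_iff.mp (h' ▸ hle))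
  haveI : Nontrivial (B ⧸ 𝔟) := Ideal.Quotient.nontrivial_iff.mpr hne
  haveI : IsLocalRing (B ⧸ 𝔟) :=
    IsLocalRing.of_surjective' (Ideal.Quotient.mk 𝔟) Ideal.Quotient.mk_surjective
  have hAB : ∃ k : ℕ, (IsLocalRing.maximalIdeal A ^ k).map (algebraMap A B) ≤ IsLocalRing.maximalIdeal B :=
    ⟨1, by rw [pow_one]; exact IsLocalRing.map_maximalIdeal_le (algebraMap A B)⟩
  haveI : Module.Projective (B ⧸ 𝔟) ((B ⧸ 𝔟) ⊗[B] Ω[B⁄A]) :=
    Groth.Agent.Helper2.AdicFS.projective_kaehler_quotient _ _ hAB h 𝔟 hpow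
  exact Groth.Agent.Helper2.AdicFS.free_of_flat_of_isNilpotent_maximalIdeal
    (Groth.Agent.Helper2.AdicFS.isNilpotent_maximalIdeal_quotient 𝔟 hpow)

end Groth.Agent.S4540
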