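import Groth.Statements.S2476
import Mathlib
import Groth.Agent.S4528
import Groth.Agent.S4540
import Groth.Agent.S2471
import Groth.Agent.Lib.Helper8.CK2
import Groth.Agent.Lib.Helper8.CK4
import Groth.Agent.Lib.Helper2.AdicSqZero

set_option autoImplicit false
universe u
open EGA41

namespace Groth.Agent.S2476

open IsLocalRing in
/-- Let k₀ be a field and A a complete Noetherian local k₀-algebra, formally smooth over k₀ for the adic
topology, whose residue field K is a finitely generated extension of k₀. Then the 𝔪-adic completion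
Ω̂_{A/k₀} of Ω_{A/k₀} is a free A-module of rank dim A + trdeg_{k₀} K. -/
theorem result {k₀ A : Type u} [Field k₀] [CommRing A] [IsLocalRing A] [IsNoetherianRing A] [Algebra k₀ A]
    [IsAdicComplete (maximalIdeal A) A] (hfs : CAlgX.IsAdicFormallySmooth k₀ A (maximalIdeal A))
    [Algebra.EssFiniteType k₀ (ResidueField A)] :
    Module.Finite A (AdicCompletion (maximalIdeal A) (Ω[A⁄k₀])) ∧ Module.Free A (AdicCompletion (maximalIdeal A) (Ω[A⁄k₀])) ∧
      (Module.finrank A (AdicCompletion (maximalIdeal A) (Ω[A⁄k₀])) : WithBot ℕ∞) =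
        ringKrullDim A + (Cardinal.toNat (Algebra.trdeg k₀ (ResidueField A)) : WithBot ℕ∞) := by
  classical
  have hfin : Module.Finite A (AdicCompletion (maximalIdeal A) (Ω[A⁄k₀])) :=
    Groth.Agent.S4528.result
  haveI hK : Module.Finite (ResidueField A) (TensorProduct A (ResidueField A) (Ω[A⁄k₀])) :=
    Groth.Agent.Helper8.CK.finite_tensor_kaehler k₀ A
  -- the adic formal smoothness in the other formulation
  have hfs' : EGA41.IsFormallySmoothAdic k₀ (maximalIdeal k₀) A (maximalIdeal A) := by
    rw [IsLocalRing.maximalIdeal_eq_bot]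
    exact Groth.Agent.Helper2.AdicFS.isFormallySmoothAdic_bot_of_isAdicFormallySmooth _ hfs
  haveI : IsLocalHom (algebraMap k₀ A) := by
    refine ⟨fun a ha => ?_⟩
    have : a ≠ 0 := by
      rintro rfl
      rw [map_zero] at ha
      exact not_isUnit_zero ha
    exact isUnit_iff_ne_zero.mpr this
  have hflat : ∀ n : ℕ, n ≠ 0 → Module.Flat (A ⧸ maximalIdeal A ^ n)
      (TensorProduct A (A ⧸ maximalIdeal A ^ n) (Ω[A⁄k₀])) := by
    intro n hn
    haveI := Groth.Agent.S4540.result hfs' (maximalIdeal A ^ n) (Ideal.pow_le_self hn) ⟨n, le_rfl⟩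
    infer_instance
  obtain ⟨e⟩ := Groth.Agent.Helper8.CK.nonempty_linearEquiv_adicCompletion A (Ω[A⁄k₀]) hflat
  have hfree : Module.Free A (AdicCompletion (maximalIdeal A) (Ω[A⁄k₀])) :=
    Module.Free.of_equiv e
  refine ⟨hfin, hfree, ?_⟩
  -- the rank
  have hrank : Module.finrank A (AdicCompletion (maximalIdeal A) (Ω[A⁄k₀])) =
      Module.finrank (ResidueField A) (TensorProduct A (ResidueField A) (Ω[A⁄k₀])) := by
    rw [← e.finrank_eq, Module.finrank_pi, Fintype.card_fin]
  obtain ⟨hreg, hinj⟩ := Groth.Agent.S2471.result.mp hfs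
  have hβ : Groth.Agent.Helper2.Fredholm.IsFred
        (KaehlerDifferential.mapBaseChange ℤ A (ResidueField A)) ∧
      Groth.Agent.Helper2.Fredholm.ind (KaehlerDifferential.mapBaseChange ℤ A (ResidueField A)) =
        -(Module.finrank (ResidueField A) (CotangentSpace A) : ℤ) := by
    obtain ⟨p, hp⟩ := CharP.exists k₀
    rcases CharP.char_is_prime_or_zero k₀ p with hpp | rfl
    · haveI : Fact p.Prime := ⟨hpp⟩
      haveI : CharP A p := charP_of_injective_algebraMap (algebraMap k₀ A).injective p
      exact Groth.Agent.Helper8.PRad.isFred_mapBaseChange_residueField A p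
    · haveI : CharZero k₀ := CharP.charP_to_charZero k₀
      haveI : Algebra.FormallySmooth k₀ (ResidueField A) :=
        Groth.Agent.Helper2.Sep.formallySmooth_of_charZero k₀ (ResidueField A)
      exact Groth.Agent.Helper8.CK.isFred_mapBaseChange_residueField A k₀
  have hmain := Groth.Agent.Helper8.CK.finrank_tensor_kaehler k₀ A hinj hβ
  have hdim : ringKrullDim A = (Module.finrank (ResidueField A) (CotangentSpace A) : ℕ) := by
    rw [← IsLocalRing.spanFinrank_maximalIdeal_eq_finrank_cotangentSpace,
      ← IsRegularLocalRing.spanFinrank_maximalIdeal]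
  have hnat : Module.finrank (ResidueField A) (TensorProduct A (ResidueField A) (Ω[A⁄k₀])) =
      Module.finrank (ResidueField A) (CotangentSpace A) +
        Cardinal.toNat (Algebra.trdeg k₀ (ResidueField A)) := by
    exact_mod_cast hmain
  rw [hrank, hnat, hdim]
  push_cast
  rfl

end Groth.Agent.S2476
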