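import Groth.Statements.S4545
import Mathlib
import Groth.Agent.Lib.Helper2.AdmSub3

set_option autoImplicit false
universe u
open EGA41

namespace Groth.Agent.S4545

open TensorProduct in
/-- Let K be a field of characteristic p > 0, k₀ a subfield and (k_α) a decreasing filtered family of
subfields of K containing k₀. Then ⋂_α k_α(K^p) = k₀(K^p) if and only if for every extension L of K
such that Υ_{L/K/k₀} has finite rank over L there is an α with k_α admissible for L over K relative
to k₀, i.e. with Υ_{L/K/k₀} → Υ_{L/K/k_α} injective. (The published statement has two further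
equivalent conditions; this row states (a) ⇔ (b).) -/
theorem result (p : ℕ) [Fact p.Prime] {k₀ K : Type u}
    [Field k₀] [Field K] [Algebra k₀ K] [CharP K p]
    {ι : Type u} [Preorder ι] [IsDirected ι (· ≤ ·)] [Nonempty ι] (k : ι → IntermediateField k₀ K) (hk : Antitone k) :
    (⨅ i, k i ⊔ IntermediateField.adjoin k₀ (Set.range fun y : K => y ^ p)) =
        IntermediateField.adjoin k₀ (Set.range fun y : K => y ^ p) ↔
      ∀ (L : Type u) [Field L] [Algebra K L] [Algebra k₀ L] [IsScalarTower k₀ K L],
        Module.Finite L (EGA41.imperfection k₀ K L) →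
          ∃ i, ∀ ω ∈ EGA41.imperfection k₀ K L,
            ((KaehlerDifferential.map k₀ (k i) K K).restrictScalars K).baseChange L ω = 0 → ω = 0 := by
  classical
  constructor
  · intro hI L _ _ _ _ hfin
    obtain ⟨κ, X, f, -, -, hX⟩ := Groth.Agent.Helper2.PBasis.exists_isPBasis_extension p
      (k := k₀) (fun e : PEmpty.{u+1} => (e.elim : K))
      ((Groth.Agent.Helper2.PBasis.isPIndependent_iff p _).mpr
        (Groth.Agent.Helper2.PBasis.pInd_of_isEmpty p _))
    obtain ⟨b, hb⟩ := Groth.Agent.Helper2.PBasis.exists_basis_D_of_isPBasis p hX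
    obtain ⟨S, hS⟩ := Groth.Agent.Helper2.AdmSub.exists_support (b.baseChange L)
      (EGA41.imperfection k₀ K L) (Module.Finite.iff_fg.mp hfin)
    have hxind : IsPIndependent p k₀ (fun j : S => X j) :=
      Groth.Agent.Helper2.PBasis.PInd.comp (Fact.out : p.Prime).pos
        ((Groth.Agent.Helper2.PBasis.isPIndependent_iff p X).mp hX.1) Subtype.val
        Subtype.val_injective
    obtain ⟨i, hi⟩ := Groth.Agent.Helper2.AdmSub.exists_isPIndependent p k hk hI _ hxind
    refine ⟨i, fun ω hω h0 => ?_⟩
    exact Groth.Agent.Helper2.AdmSub.injOn_of_isPIndependent p X b hb S (k i) hi ω (hS ω hω) h0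
  · intro H
    apply le_antisymm
    · intro a ha
      have ha : ∀ i, a ∈ k i ⊔ IntermediateField.adjoin k₀ (Set.range fun y : K => y ^ p) := by
        intro i
        have h1 := (IntermediateField.coe_iInf
          (fun i => k i ⊔ IntermediateField.adjoin k₀ (Set.range fun y : K => y ^ p))) ▸
          (SetLike.mem_coe.mpr ha)
        exact Set.mem_iInter.mp h1 i
      obtain ⟨L, _, _, _, _, hfin, hmem⟩ :=
        Groth.Agent.Helper2.AdmSub.exists_root_extension (k₀ := k₀) p Fact.out inferInstance a
      obtain ⟨i, hi⟩ := H L hfin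
      have h0 := hi _ hmem (by
        rw [LinearMap.baseChange_tmul, LinearMap.restrictScalars_apply, KaehlerDifferential.map_D]
        have : KaehlerDifferential.D (k i) K ((algebraMap K K) a) = 0 :=
          Groth.Agent.Helper2.AdmSub.D_eq_zero_of_mem_sup p (k i) (ha i)
        rw [this, TensorProduct.tmul_zero])
      have h1 : KaehlerDifferential.D k₀ K a = 0 := by
        have hinj := Module.Flat.tensorProduct_mk_injective K (Ω[K⁄k₀]) L
        apply hinj
        rw [map_zero]
        exact h0
      exact Groth.Agent.Helper2.AdmSub.mem_PP_of_D_eq_zero p h1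
    · exact le_iInf fun i => le_sup_right

end Groth.Agent.S4545
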