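import Groth.Statements.S2475
import Mathlib
import Groth.Agent.Lib.Helper2.AdmSub

set_option autoImplicit false
universe u
open EGA41

namespace Groth.Agent.S2475

/-- Let K be a field of characteristic p > 0, k₀ ⊆ K a subfield and (k_α) a decreasing filtered family
of subfields of K containing k₀. Then ⋂_α k_α(K^p) = k₀(K^p) if and only if the canonical map
Ω_{K/k₀} → lim_α Ω_{K/k_α} is injective (an element of Ω_{K/k₀} whose image in every Ω_{K/k_α}
vanishes is zero). (Conditions (b), (b') of the source, on admissible subfields, are not stated.) -/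
theorem result (p : ℕ) [Fact p.Prime] {k₀ K : Type u} [Field k₀] [Field K] [Algebra k₀ K] [CharP K p]
    {ι : Type u} [Preorder ι] [IsDirected ι (· ≤ ·)] [Nonempty ι] (k : ι → IntermediateField k₀ K) (hk : Antitone k) :
    (⨅ i, k i ⊔ IntermediateField.adjoin k₀ (Set.range fun y : K => y ^ p)) = IntermediateField.adjoin k₀ (Set.range fun y : K => y ^ p) ↔
      ∀ ω : Ω[K⁄k₀], (∀ i, KaehlerDifferential.map k₀ (k i) K K ω = 0) → ω = 0 := by
  classical
  constructor
  · intro hI ω hω
    obtain ⟨κ, X, f, -, -, hX⟩ := Groth.Agent.Helper2.PBasis.exists_isPBasis_extension p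
      (k := k₀) (fun e : PEmpty.{u+1} => (e.elim : K))
      ((Groth.Agent.Helper2.PBasis.isPIndependent_iff p _).mpr
        (Groth.Agent.Helper2.PBasis.pInd_of_isEmpty p _))
    obtain ⟨b, hb⟩ := Groth.Agent.Helper2.PBasis.exists_basis_D_of_isPBasis p hX
    have hxind : IsPIndependent p k₀ (fun j : (b.repr ω).support => X j) :=
      Groth.Agent.Helper2.PBasis.PInd.comp (Fact.out : p.Prime).pos
        ((Groth.Agent.Helper2.PBasis.isPIndependent_iff p X).mp hX.1) Subtype.val
        Subtype.val_injective
    obtain ⟨i, hi⟩ := Groth.Agent.Helper2.AdmSub.exists_isPIndependent p k hk hI _ hxind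
    have hli := Groth.Agent.Helper2.PBasis.linearIndependent_D_of_isPIndependent p _ hi
    have hω1 : ω = ∑ j ∈ (b.repr ω).support, (b.repr ω) j • KaehlerDifferential.D k₀ K (X j) := by
      conv_lhs => rw [← b.linearCombination_repr ω]
      rw [Finsupp.linearCombination_apply, Finsupp.sum]
      refine Finset.sum_congr rfl fun j _ => ?_
      rw [hb]
    have h0 := hω i
    rw [hω1, map_sum] at h0
    simp only [map_smul, KaehlerDifferential.map_D, Algebra.algebraMap_self, RingHom.id_apply] at h0
    rw [← Finset.sum_coe_sort] at h0
    have h1 := Fintype.linearIndependent_iff.mp hli (fun j => (b.repr ω) j) h0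
    have h2 : b.repr ω = 0 := by
      ext j
      by_cases hj : j ∈ (b.repr ω).support
      · exact h1 ⟨j, hj⟩
      · simpa using hj
    exact b.repr.map_eq_zero_iff.mp h2
  · intro H
    apply le_antisymm
    · intro a ha
      have ha : ∀ i, a ∈ k i ⊔ IntermediateField.adjoin k₀ (Set.range fun y : K => y ^ p) := by
        intro i
        have h1 := (IntermediateField.coe_iInf
          (fun i => k i ⊔ IntermediateField.adjoin k₀ (Set.range fun y : K => y ^ p))) ▸
          (SetLike.mem_coe.mpr ha)
        exact Set.mem_iInter.mp h1 i
      have hD : KaehlerDifferential.D k₀ K a = 0 := by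
        apply H
        intro i
        rw [KaehlerDifferential.map_D]
        have hmem : a ∈ pPowerSubalgebra p (k i) K := by
          have := Groth.Agent.Helper2.AdmSub.coe_pPowerSubalgebra p (k i)
          rw [← SetLike.mem_coe, this]
          exact ha i
        exact Groth.Agent.Helper2.PBasis.derivation_eq_zero_of_mem p
          (KaehlerDifferential.D (k i) K) hmem
      by_contra ha'
      have hx : IsPIndependent p k₀ (fun _ : PUnit.{u+1} => a) := by
        rw [Groth.Agent.Helper2.PBasis.isPIndependent_iff_notMem_adjoin]
        intro u hu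
        apply ha'
        have hempty : (fun _ : PUnit.{u+1} => a) '' {b | b ≠ u} = ∅ := by
          ext y
          simp only [Set.mem_image, Set.mem_setOf_eq, Set.mem_empty_iff_false, iff_false]
          rintro ⟨b, hb, -⟩
          exact hb (Subsingleton.elim _ _)
        rw [hempty, Set.union_empty] at hu
        exact hu
      have hli := Groth.Agent.Helper2.PBasis.linearIndependent_D_of_isPIndependent p _ hx
      exact hli.ne_zero PUnit.unit hD
    · exact le_iInf fun i => le_sup_right

end Groth.Agent.S2475
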