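import Groth.Statements.S2480
import Groth.Agent.Lib.Helper8.PSJ23
import Groth.Agent.Lib.Helper8.NJ4
import Groth.Agent.Lib.Helper8.AdicFS5
import Groth.Agent.Lib.Helper2.SepMain
import Groth.Agent.Lib.Helper8.Cartier3

set_option autoImplicit false
universe u
open EGA41

namespace Groth.Agent.S2480

open IsLocalRing in
/-- Let k be a field of characteristic exponent p such that k is a finite extension of k^p (no condition
in characteristic zero); let A be a complete Noetherian local ring with residue field K, K₀ a
separable extension of k contained in A compatibly with k, over which K is finite, and suppose A is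
a formally smooth K₀-algebra for its adic topology. Let q be an ideal of A and 𝔭 a prime ideal
containing q, and B = A/q. Then B_𝔭 is a formally smooth k-algebra for its adic topology if and only
if there exist k-derivations D_1, …, D_m of A into itself and elements f_1, …, f_m of q whose images
generate qA_𝔭, with det(D_i f_j) ∉ 𝔭. (Condition (b') of the source is not stated.) -/
theorem result (p : ℕ) {k K₀ A : Type u} [Field k] [ExpChar k p]
    (hk : p = 1 ∨ Module.Finite (frobenius k p).fieldRange k)
    [Field K₀] [Algebra k K₀] [Algebra.IsGeometricallyReduced k K₀]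
    [CommRing A] [IsLocalRing A] [IsNoetherianRing A] [IsAdicComplete (maximalIdeal A) A]
    [Algebra k A] [Algebra K₀ A] [IsScalarTower k K₀ A] [Module.Finite K₀ (ResidueField A)]
    (hA : CAlgX.IsAdicFormallySmooth K₀ A (maximalIdeal A))
    (q 𝔭 : Ideal A) [𝔭.IsPrime] (hq : q ≤ 𝔭) [(𝔭.map (Ideal.Quotient.mk q)).IsPrime] :
    CAlgX.IsAdicFormallySmooth k (Localization.AtPrime (𝔭.map (Ideal.Quotient.mk q))) (maximalIdeal (Localization.AtPrime (𝔭.map (Ideal.Quotient.mk q)))) ↔
      ∃ (m : ℕ) (D : Fin m → Derivation k A A) (f : Fin m → A), (∀ i, f i ∈ q) ∧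
        q.map (algebraMap A (Localization.AtPrime 𝔭)) = Ideal.span (Set.range fun i => algebraMap A (Localization.AtPrime 𝔭) (f i)) ∧
        Matrix.det (Matrix.of fun i j => D i (f j)) ∉ 𝔭 := by
  haveI hregA : IsRegularLocalRing A :=
    (Groth.Agent.Helper8.Cartier.isAdicFormallySmooth_iff_regular_and_injective.mp hA).1
  constructor
  · intro hB
    cases ‹ExpChar k p› with
    | zero =>
      exact Groth.Agent.Helper8.PSJ.exists_jacobian_of_formallySmooth_char0 q 𝔭 hq hB
    | prime hp =>
      haveI : Fact p.Prime := ⟨hp⟩
      have hk' : Module.Finite (frobenius k p).fieldRange k := by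
        rcases hk with h1 | h1
        · exact absurd h1 hp.one_lt.ne'
        · exact h1
      exact Groth.Agent.Helper8.PSJ.exists_jacobian_of_formallySmooth_charP p q 𝔭 hk' hq hB
  · rintro ⟨m, D, f, hfq, hgen, hdet⟩
    haveI : Algebra.FormallySmooth k K₀ :=
      (Groth.Agent.Helper2.Sep.formallySmooth_iff_isGeometricallyReduced k K₀).mpr inferInstance
    have hA' : CAlgX.IsAdicFormallySmooth k A (maximalIdeal A) :=
      Groth.Agent.Helper8.AdicFS.trans (k₀ := k) (k := K₀) hA
    exact Groth.Agent.Helper8.NJ.isAdicFormallySmooth_of_jacobian k A hA' q 𝔭 hq D f hgen hdet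

end Groth.Agent.S2480
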