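import Groth.Statements.S18645
import Mathlib
import Groth.Prelude.Def_GrLC
import Groth.Prelude.Def_CAlg
import Groth.Agent.Lib.Helper9.GrLC.AInvSeq
import Groth.Agent.Lib.Helper9.GrHt.Main
import Groth.Agent.Lib.Helper8.Depth19
import Groth.Agent.Lib.Helper8.LC11
-- import your own Groth.Agent.* helpers here

set_option autoImplicit false
universe u
open GrLC

namespace Groth.Agent.S18645

open GrLC
namespace Aux
open Groth.Agent.Helper9.GrLCLib Groth.Agent.Helper8.LC Groth.Agent.Helper9 Groth.Agent.Helper8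

lemma ofList_take_le {R : Type u} [CommRing R] (rs : List R) (i : ℕ) :
    Ideal.ofList (rs.take i) ≤ Ideal.ofList rs := by
  unfold Ideal.ofList
  apply Ideal.span_mono
  intro r hr
  exact List.mem_of_mem_take hr

/-- the elements of a regular sequence on a ring are nonzero -/
lemma ne_zero_of_isRegular {R : Type u} [CommRing R] (rs : List R)
    (hreg : RingTheory.Sequence.IsRegular R rs) (i : ℕ) (hi : i < rs.length) : rs[i] ≠ 0 := by
  intro h0
  have h1 := hreg.regular_mod_prev i hi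
  rw [h0] at h1
  have h2 : Subsingleton (R ⧸ (Ideal.ofList (rs.take i) • ⊤ : Submodule R R)) :=
    IsSMulRegular.zero_iff_subsingleton.mp h1
  have h3 : (Ideal.ofList (rs.take i) • ⊤ : Submodule R R) = ⊤ :=
    Submodule.Quotient.subsingleton_iff.mp h2
  apply hreg.top_ne_smul
  have h4 : (Ideal.ofList (rs.take i) • ⊤ : Submodule R R) ≤ Ideal.ofList rs • ⊤ :=
    Submodule.smul_mono_left (ofList_take_le rs i)
  rw [h3] at h4
  exact (top_le_iff.mp h4).symm

theorem main (R : Type u) [CommRing R] [LocCoh.IsCohenMacaulayRing R] (𝒜 : ℤ → AddSubgroup R) [GradedRing 𝒜] (hpos : ∀ n : ℤ, n < 0 → 𝒜 n = ⊥) (m : HomogeneousIdeal 𝒜) (hm : GrLC.IsStarLocal 𝒜 m) (n : ℕ) (hn : ringKrullDim R = n) (I : GrLC.StarInjRes 𝒜 𝒜) (t : ℕ) (htn : t ≤ n) (f : Fin t → R) (deg : Fin t → ℤ) (hfdeg : ∀ i, f i ∈ 𝒜 (deg i)) (hfm : ∀ i, f i ∈ m.toIdeal) (hreg : RingTheory.Sequence.IsRegular R (List.ofFn f)) (N : Type u) [AddCommGroup N] [Module R N] (𝒩 : ℤ → AddSubgroup N)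 [DirectSum.Decomposition 𝒩] [SetLike.GradedSMul 𝒜 𝒩] (π : R →ₗ[R] N) (hπ : GrLC.IsGrHom 𝒜 𝒩 π) (hπs : Function.Surjective π) (hπk : LinearMap.ker π = Ideal.span (Set.range f)) (F : GrLC.StarInjRes 𝒜 𝒩) : GrLC.endDeg (F.Hgr m (n - t)) = GrLC.endDeg (I.Hgr m n) + ((((Finset.univ : Finset (Fin t)).sum deg : ℤ) : WithTop ℤ) : WithBot (WithTop ℤ)) := by
  have hmax : m.toIdeal.IsMaximal := Pos.isMaximal_of_isCoatom 𝒜 hpos m hm.1
  have hht : ringKrullDim R = m.toIdeal.height :=
    GrHt.ringKrullDim_eq_height_of_isStarLocal 𝒜 m hm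
  have hht' : m.toIdeal.height = ((n : ℕ) : ℕ∞) := by
    rw [hn] at hht
    exact_mod_cast hht.symm
  have hdepth : LocCoh.idealDepth m.toIdeal R = m.toIdeal.height :=
    (Depth.isCohenMacaulayRing_iff_idealDepth_eq_height.mp inferInstance) m.toIdeal hmax.ne_top
  have hJM : m.toIdeal • (⊤ : Submodule R R) ≠ ⊤ := by
    intro h
    have h1 : (1 : R) ∈ m.toIdeal • (⊤ : Submodule R R) := by rw [h]; trivial
    have h2 : m.toIdeal • (⊤ : Submodule R R) ≤ m.toIdeal := by
      rw [Submodule.smul_le]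
      intro r hr n _
      exact Ideal.mul_mem_right _ _ hr
    exact hmax.ne_top ((Ideal.eq_top_iff_one _).mpr (h2 h1))
  have hV : ∀ i < n, Subsingleton (LocCoh.H m.toIdeal i R) := by
    intro i hi
    apply subsingleton_of_lt_idealDepth m.toIdeal hJM i
    rw [hdepth, hht']
    exact_mod_cast hi
  have hdeg0 : ∀ i, 0 ≤ deg i := by
    intro i
    by_contra hc
    have h1 := hpos (deg i) (not_le.mp hc)
    have h2 := hfdeg i
    rw [h1, AddSubgroup.mem_bot] at h2
    have h3 := ne_zero_of_isRegular (List.ofFn f) hreg i (by rw [List.length_ofFn]; exact i.2)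
    rw [List.getElem_ofFn] at h3
    exact h3 h2
  let X := GrLC.GMod.of 𝒜 R 𝒜
  let Y := GrLC.GMod.of 𝒜 N 𝒩
  have hker : LinearMap.ker π = Ideal.span (Set.range f) • (⊤ : Submodule R R) := by
    rw [hπk, smul_eq_mul, Ideal.mul_top]
  rw [AInv.endDeg_Hgr_eq, AInv.endDeg_Hgr_eq]
  exact AInv.endDeg_regSeq 𝒜 m t X n htn hV f deg hfdeg hdeg0 hfm hreg.toIsWeaklyRegular Y π hπ hπs
    hker

end Aux

/-- Let R be a graded ring defined over a field which is Cohen–Macaulay, of dimension n, and let f_1, …,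
f_t be an R-regular sequence of homogeneous elements of positive degrees d_1, …, d_t, with S =
R/(f_1, …, f_t). The canonical module of S is (K_R/(f_1, …, f_t)K_R)(d_1 + ⋯ + d_t); consequently —
this is the form stated here — the a-invariants satisfy a(S) = a(R) + d_1 + ⋯ + d_t, where a(S) is
the largest nonzero degree of H^{n−t}_m(S) and a(R) that of H^n_m(R), both graded local cohomologies
over R with support in m = R_+ computed from *injective resolutions in the graded category, and S is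
presented as a graded R-module N with a degree-preserving surjection π : R → N whose kernel is (f_1,
…, f_t). Here 'graded ring defined over a field' means R = ⊕_{n ≥ 0} R_n is Noetherian with R_0 a
field, and m = R_+ is its unique graded maximal ideal. -/
theorem result (R : Type u) [CommRing R] [LocCoh.IsCohenMacaulayRing R] (𝒜 : ℤ → AddSubgroup R) [GradedRing 𝒜] (hpos : ∀ n : ℤ, n < 0 → 𝒜 n = ⊥) (h0 : IsField (GrLC.deg0 𝒜)) (m : HomogeneousIdeal 𝒜) (hm : GrLC.IsStarLocal 𝒜 m) (hmsp : m.toIdeal = Ideal.span (⋃ n ∈ Set.Ioi (0 : ℤ), (𝒜 n : Set R))) (n : ℕ) (hn : ringKrullDim R = n) (I : GrLC.StarInjRes 𝒜 𝒜) (t : ℕ) (htn : t ≤ n) (f : Fin t → R) (deg : Fin t → ℤ) (hfdeg : ∀ i, f i ∈ 𝒜 (deg i)) (hfm : ∀ i, f i ∈ m.toIdeal) (hreg : RingTheory.Sequence.IsRegular R (List.ofFn f)) (N : Type u) [AddCommGroup N] [Module R N] (𝒩 : ℤ → AddSubgroup N) [DirectSum.Decomposition 𝒩] [SetLike.GradedSMul 𝒜 𝒩] (π : R →ₗ[R] N) (hπ : GrLC.IsGrHom 𝒜 𝒩 π) (hπs : Function.Surjective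 π) (hπk : LinearMap.ker π = Ideal.span (Set.range f)) (F : GrLC.StarInjRes 𝒜 𝒩) : GrLC.endDeg (F.Hgr m (n - t)) = GrLC.endDeg (I.Hgr m n) + ((((Finset.univ : Finset (Fin t)).sum deg : ℤ) : WithTop ℤ) : WithBot (WithTop ℤ)) := by
  exact Aux.main R 𝒜 hpos m hm n hn I t htn f deg hfdeg hfm hreg N 𝒩 π hπ hπs hπk F

end Groth.Agent.S18645
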