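import Groth.Statements.S9250
import Groth.Agent.Lib.Helper8.CompFib2
import Groth.Agent.Lib.Helper8.CplMap3

set_option autoImplicit false
universe u
open CAlg

namespace Groth.Agent.S9250

/-- Let R → S be a regular ring map with S Noetherian and R regular. Then S is regular. -/
theorem result (R S : Type u) [CommRing R] [CommRing S] [Algebra R S]
    [IsRegularRing R] [IsNoetherianRing S] (h : CAlg.IsRegularHom R S) : IsRegularRing S := by
  haveI : Module.Flat R S := h.1
  exact Groth.Agent.Helper8.CompFib.isRegularRing_of_flat_of_fibres R S inferInstance
    (fun p _ => Groth.Agent.Helper8.CplMap.isRegularRing_of_isGeometricallyRegular _ _ (h.2 p).2)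

end Groth.Agent.S9250
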