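import Groth.Statements.S0307
import Mathlib
import Groth.Agent.Lib.Helper1.InjHullL

set_option autoImplicit false
universe u v
open InjHull

namespace Groth.Agent.S0307

open Classical in
/-- Over a Noetherian ring every injective module is an internal direct sum of indecomposable injective
submodules. -/
theorem result (R : Type u) [CommRing R] [IsNoetherianRing R] (I : Type u) [AddCommGroup I] [Module R I] (hI : Module.Injective R I) : ∃ (ι : Type u) (E : ι → Submodule R I), DirectSum.IsInternal E ∧ ∀ i, InjHull.IsIndecomposable R ↥(E i) ∧ Module.Injective R ↥(E i) := by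
  obtain ⟨ι, E, h1, h2, h3⟩ := Groth.Agent.Helper1.InjHullL.exists_decomposition hI
  exact ⟨ι, E, DirectSum.isInternal_submodule_of_iSupIndep_of_iSup_eq_top h1 h2, h3⟩

end Groth.Agent.S0307
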