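import Groth.Statements.S1914
import Groth.Agent.Lib.Helper8.KS6
import Groth.Agent.Lib.Helper8.KG1
import Groth.Agent.Lib.Helper8.Koszul6
import Groth.Agent.Lib.Helper4.KosRes2

set_option autoImplicit false
universe u
open CategoryTheory
attribute [local instance] HasDerivedCategory.standard
open IntMult

namespace Groth.Agent.S1914

open Groth.Agent.Helper8.KoszulLib in
/-- `Tor_n(A/J, N)` has the length of `H^{-n}(K(l) ⊗ N)` when `J = (l)` and `l` is weakly regular. -/
theorem length_tor_eq {A : Type u} [CommRing A] (l : List A)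
    (hl : RingTheory.Sequence.IsWeaklyRegular A l) (J : Ideal A) (hJ : J = Ideal.span {x | x ∈ l})
    (M : Type u) [AddCommGroup M] [Module A M] (n : ℕ) :
    Module.length A (DRing.Tor A n (A ⧸ J) M) =
      Module.length A ((DRing.tensorCx (Koszul.koszul A l) (ModuleCat.of A M)).homology (-(n : ℤ))) := by
  subst hJ
  cases n with
  | zero =>
    have e0 := (Groth.Agent.Helper1.TorL.tor0Iso (ModuleCat.of A (A ⧸ Ideal.span {x | x ∈ l}))
      (ModuleCat.of A M)).toLinearEquiv
    have e1 : (TensorProduct A (A ⧸ Ideal.span {x | x ∈ l}) M) ≃ₗ[A]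
        M ⧸ (Ideal.span {x | x ∈ l} • (⊤ : Submodule A M)) :=
      TensorProduct.quotTensorEquivQuotSMul M _
    obtain ⟨e2⟩ := nonempty_homology_zero_equiv M l
    rw [Nat.cast_zero, neg_zero, length_tensor_homology, e2.length_eq]
    have e3 : Module.length A (DRing.Tor A 0 (A ⧸ Ideal.span {x | x ∈ l}) M) =
        Module.length A (TensorProduct A (A ⧸ Ideal.span {x | x ∈ l}) M) := e0.length_eq
    rw [e3, e1.length_eq]
  | succ n =>
    obtain ⟨e⟩ := Groth.Agent.Lib.Helper4.KosRes2.nonempty_tor_quotient_iso l
      (koszul_regular l hl).1 (ModuleCat.of A M) n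
    have := e.toLinearEquiv.length_eq
    rw [Nat.cast_succ]
    exact this


/-- Let A be a Noetherian local ring, I = (g₁, …, g_c) an ideal generated by a regular sequence and M a
finite A-module with Supp(M/IM) of dimension ≤ 0. Then c! · length_A(M/I^t M)/t^c tends, as t → ∞,
to Σ_i (−1)^i length_A Tor_i^A(A/I, M); that is, e_I(M, c) equals this alternating sum. -/
theorem result (A : Type u) [CommRing A] [IsNoetherianRing A] [IsLocalRing A] (c : ℕ) (g : Fin c → A) (hreg : RingTheory.Sequence.IsRegular A (List.ofFn g)) (M : Type u) [AddCommGroup M] [Module A M] [Module.Finite A M] (h0 : Module.supportDim A (M ⧸ (Ideal.span (Set.range g) • (⊤ : Submodule A M))) ≤ 0) : Filter.Tendsto (fun t : ℕ => (c.factorial : ℝ) * ((Module.length A (M ⧸ (Ideal.span (Set.range g) ^ t • (⊤ : Submodule A M)))).toNat : ℝ) / (t : ℝ) ^ c) Filter.atTop (nhds (IntMult.chi A (A ⧸ Ideal.span (Set.range g)) M : ℝ)) := by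
  classical
  have hset : {x | x ∈ List.ofFn g} = Set.range g := by
    ext x
    simp [List.mem_ofFn]
  have hfl : IsFiniteLength A (M ⧸ (Ideal.span (Set.range g) • (⊤ : Submodule A M))) :=
    Groth.Agent.Helper8.KoszulLib.isFiniteLength_of_supportDim_le_zero _ h0
  have h := Groth.Agent.Helper8.KoszulLib.tendsto_samuel_eq_koszulEuler c g M hfl
  have hJ : Ideal.span (Set.range g) = Ideal.span {x | x ∈ List.ofFn g} := by rw [hset]
  have hlen := fun n : ℕ => length_tor_eq (List.ofFn g) hreg.toIsWeaklyRegular _ hJ M n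
  set F : ℤ → ℤ := fun i => ((i.negOnePow : ℤˣ) : ℤ) * ((Module.length A ((DRing.tensorCx
        (Koszul.koszul A (List.ofFn g)) (ModuleCat.of A M)).homology i)).toNat : ℤ) with hF
  have hchi : IntMult.chi A (A ⧸ Ideal.span (Set.range g)) M = ∑ᶠ i : ℤ, F i := by
    have hinj : Function.Injective (fun n : ℕ => -(n : ℤ)) := by
      intro a b hab
      simpa using hab
    have hsupp : Function.support F ⊆ Set.range (fun n : ℕ => -(n : ℤ)) := by
      intro i hi
      by_contra hr
      have hpos : 0 < i := by
        by_contra hneg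
        push Not at hneg
        exact hr ⟨i.natAbs, by simp [abs_of_nonpos hneg]⟩
      apply hi
      have hz := Groth.Agent.Helper8.KoszulLib.isZero_homology_of_pos (ModuleCat.of A M)
        (List.ofFn g) i hpos
      have : Subsingleton ((CohIII.koszulCx (ModuleCat.of A M)
        (List.ofFn g)).homology i) := ModuleCat.subsingleton_of_isZero hz
      show ((i.negOnePow : ℤˣ) : ℤ) * ((Module.length A ((DRing.tensorCx
        (Koszul.koszul A (List.ofFn g)) (ModuleCat.of A M)).homology i)).toNat : ℤ) = 0
      rw [Groth.Agent.Helper8.KoszulLib.length_tensor_homology,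
        Module.length_eq_zero_iff.mpr this]
      simp
    rw [← finsum_mem_univ F, finsum_mem_inter_support_eq' F Set.univ (Set.range (fun n : ℕ => -(n : ℤ)))
      (fun x hx => ⟨fun _ => hsupp hx, fun _ => trivial⟩), finsum_mem_range hinj]
    unfold IntMult.chi
    refine finsum_congr fun n => ?_
    rw [hlen n, hF]
    show _ = (((-(n : ℤ)).negOnePow : ℤˣ) : ℤ) * _
    rw [Int.negOnePow_neg]
    congr 1
  rw [hchi]
  exact h

end Groth.Agent.S1914
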