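import Groth.Statements.S4700
import Mathlib
import Groth.Prelude.Def_CAlg
import Groth.Prelude.Def_EGA4b
import Groth.Prelude.Def_Found
import Groth.Agent.Lib.Helper9.RegGen
import Groth.Agent.Lib.Helper9.RegQuotOpen
-- import your own Groth.Agent.* helpers here

set_option autoImplicit false
universe u
open EGA4

namespace Groth.Agent.S4700

namespace Aux
open PrimeSpectrum Groth.Agent.Helper9.RegGen Groth.Agent.Helper9.NagataCrit
  Groth.Agent.Helper9.RegQuotOpen

theorem main (A : Type u) [CommRing A] [IsNoetherianRing A]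
    (h : ∀ p : PrimeSpectrum A, p ∈ EGA4.regLocus A →
      ∃ U : Set (PrimeSpectrum (A ⧸ p.asIdeal)), IsOpen U ∧ U.Nonempty ∧ U ⊆ EGA4.regLocus (A ⧸ p.asIdeal)) :
    IsOpen (EGA4.regLocus A) := by
  refine isOpen_of_nagata _ (fun p q hqp hp => reg_generization p q hqp hp) ?_
  intro p hp
  obtain ⟨Up, hUp, ⟨u, hu⟩, hsub⟩ := h p hp
  have hregp : IsRegularLocalRing (Localization.AtPrime p.asIdeal) := hp
  obtain ⟨X, f, hXfin, hXcard, hXp, hfp, hmul⟩ := exists_gen p.asIdeal
  have hind : Topology.IsInducing (PrimeSpectrum.comap (Ideal.Quotient.mk p.asIdeal)) :=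
    (PrimeSpectrum.isClosedEmbedding_comap_of_surjective _ _
      Ideal.Quotient.mk_surjective).isInducing
  obtain ⟨W, hW, hWU⟩ := hind.isOpen_iff.mp hUp
  refine ⟨(basicOpen f : Set (PrimeSpectrum A)) ∩ W, (basicOpen f).isOpen.inter hW, ?_, ?_⟩
  · refine ⟨p, ⟨hfp, ?_⟩, ?_⟩
    · -- generic point
      let η : PrimeSpectrum (A ⧸ p.asIdeal) := ⟨⊥, Ideal.isPrime_bot⟩
      have hηu : η ⤳ u := (le_iff_specializes η u).mp (by
        show (⊥ : Ideal (A ⧸ p.asIdeal)) ≤ u.asIdeal
        exact bot_le)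
      have hηU : η ∈ Up := hηu.mem_open hUp hu
      rw [← hWU] at hηU
      have : PrimeSpectrum.comap (Ideal.Quotient.mk p.asIdeal) η = p := by
        apply PrimeSpectrum.ext
        show Ideal.comap (Ideal.Quotient.mk p.asIdeal) ⊥ = p.asIdeal
        rw [← RingHom.ker_eq_comap_bot, Ideal.mk_ker]
      rw [← this]
      exact hηU
    · rw [mem_zeroLocus]
  · rintro q ⟨⟨hfq, hqW⟩, hqp⟩
    rw [mem_zeroLocus, SetLike.coe_subset_coe] at hqp
    have hker : RingHom.ker (Ideal.Quotient.mk p.asIdeal) ≤ q.asIdeal := by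
      rw [Ideal.mk_ker]; exact hqp
    have hqbar : (q.asIdeal.map (Ideal.Quotient.mk p.asIdeal)).IsPrime :=
      Ideal.map_isPrime_of_surjective Ideal.Quotient.mk_surjective hker
    let qbar : PrimeSpectrum (A ⧸ p.asIdeal) := ⟨_, hqbar⟩
    have hcomap : PrimeSpectrum.comap (Ideal.Quotient.mk p.asIdeal) qbar = q := by
      apply PrimeSpectrum.ext
      show Ideal.comap _ (q.asIdeal.map (Ideal.Quotient.mk p.asIdeal)) = q.asIdeal
      rw [Ideal.comap_map_of_surjective _ Ideal.Quotient.mk_surjective,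
        ← RingHom.ker_eq_comap_bot, Ideal.mk_ker, sup_eq_left]
      exact hqp
    have hqU : qbar ∈ Up := by
      rw [← hWU]
      show PrimeSpectrum.comap (Ideal.Quotient.mk p.asIdeal) qbar ∈ W
      rw [hcomap]; exact hqW
    have hreg : IsRegularLocalRing
        (Localization.AtPrime (q.asIdeal.map (Ideal.Quotient.mk p.asIdeal))) := hsub hqU
    exact reg_of_quotient p.asIdeal q.asIdeal hqp X f hXfin hXcard hXp hfq hmul hreg

end Aux

/-- Let A be a Noetherian ring. Suppose that for every prime p of A such that A_p is regular, the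
regular locus of the domain A/p contains a nonempty open subset of Spec(A/p) (equivalently, is a
neighbourhood of the generic point). Then the regular locus of A is open in Spec A. -/
theorem result (A : Type u) [CommRing A] [IsNoetherianRing A]
    (h : ∀ p : PrimeSpectrum A, p ∈ EGA4.regLocus A →
      ∃ U : Set (PrimeSpectrum (A ⧸ p.asIdeal)), IsOpen U ∧ U.Nonempty ∧ U ⊆ EGA4.regLocus (A ⧸ p.asIdeal)) :
    IsOpen (EGA4.regLocus A) := by
  exact Aux.main A h

end Groth.Agent.S4700
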