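import Groth.Statements.S0597
import Groth.Agent.S0595
import Groth.Agent.S0536
import Groth.Agent.Lib.Helper7.Hensel.SmallerIdeal
import Groth.Agent.Lib.Helper8.AdicFS2
import Groth.Agent.Lib.Helper8.AdicReg1

set_option autoImplicit false
universe u
open CAlg

namespace Groth.Agent.S0597

/-- Let `A` be Noetherian and Henselian at `I`, and suppose the map to the `I`-adic completion is
regular. Any solution in the completion of a finite system of polynomial equations over `A` can be
approximated to any `I`-adic order by a solution in `A`. -/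
theorem result (A : Type u) [CommRing A] [IsNoetherianRing A]
    (I : Ideal A) [HenselianRing A I] (hreg : CAlg.IsRegularHom A (AdicCompletion I A)) (n m : ℕ)
    (F : Fin m → MvPolynomial (Fin n) A) (a : Fin n → (AdicCompletion I A))
    (ha : ∀ j, MvPolynomial.eval a (MvPolynomial.map (algebraMap A (AdicCompletion I A)) (F j)) = 0) (N : ℕ) :
    ∃ b : Fin n → A, (∀ j, MvPolynomial.eval b (F j) = 0) ∧
      ∀ i, a i - algebraMap A (AdicCompletion I A) (b i) ∈ (I ^ N).map (algebraMap A (AdicCompletion I A)) := by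
  classical
  haveI : IsNoetherianRing (AdicCompletion I A) := Groth.Agent.Helper8.AdicReg.isNoetherianRing A I
  -- the algebra of the system
  let K : Ideal (MvPolynomial (Fin n) A) := Ideal.span (Set.range F)
  haveI hfpC : Algebra.FinitePresentation A (MvPolynomial (Fin n) A ⧸ K) :=
    Algebra.FinitePresentation.quotient (Submodule.fg_span (Set.finite_range F))
  have hK : ∀ x ∈ K, (MvPolynomial.aeval a : MvPolynomial (Fin n) A →ₐ[A] AdicCompletion I A) x
      = 0 := by
    intro x hx
    have hle : K ≤ RingHom.ker (MvPolynomial.aeval a :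
        MvPolynomial (Fin n) A →ₐ[A] AdicCompletion I A) := by
      refine Ideal.span_le.mpr ?_
      rintro _ ⟨j, rfl⟩
      change _ ∈ RingHom.ker _
      rw [RingHom.mem_ker, MvPolynomial.aeval_def, ← MvPolynomial.eval_map]
      exact ha j
    exact hle hx
  let σ : (MvPolynomial (Fin n) A ⧸ K) →ₐ[A] AdicCompletion I A :=
    Ideal.Quotient.liftₐ K (MvPolynomial.aeval a) hK
  have hσ : ∀ q : MvPolynomial (Fin n) A, σ (Ideal.Quotient.mk K q) = MvPolynomial.aeval a q :=
    fun q => rfl
  obtain ⟨B, _, _, hsmB, g, h, hgh⟩ := Groth.Agent.S0595.result A (AdicCompletion I A) hreg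
    (MvPolynomial (Fin n) A ⧸ K) σ
  haveI := hsmB
  -- the Henselian pair `(A, I ^ (N + 1))`
  haveI hHens : HenselianRing A (I ^ (N + 1)) :=
    Groth.Agent.Helper7.Hensel.henselianRing_of_radical_eq (K := I) inferInstance
      (Ideal.radical_pow I (Nat.succ_ne_zero N)).symm
  let ev : AdicCompletion I A →ₐ[A] A ⧸ I ^ (N + 1) := AdicCompletion.evalₐ I (N + 1)
  obtain ⟨τ, hτ⟩ := Groth.Agent.S0536.result A B A (I ^ (N + 1)) (ev.comp h)
  let b : Fin n → A := fun i => τ (g (Ideal.Quotient.mk K (MvPolynomial.X i)))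
  have haev : (τ.comp g).comp (Ideal.Quotient.mkₐ A K) = MvPolynomial.aeval b := by
    apply MvPolynomial.algHom_ext
    intro i
    rw [MvPolynomial.aeval_X]
    rfl
  refine ⟨b, fun j => ?_, fun i => ?_⟩
  · have h1 : MvPolynomial.eval b (F j) = MvPolynomial.aeval b (F j) := by
      rw [MvPolynomial.aeval_def, MvPolynomial.eval₂_eq_eval_map]
      congr 1
      rw [Algebra.algebraMap_self, MvPolynomial.map_id]
    rw [h1, ← haev]
    change τ (g (Ideal.Quotient.mk K (F j))) = 0
    rw [Ideal.Quotient.eq_zero_iff_mem.mpr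
      (show F j ∈ K from Ideal.subset_span (Set.mem_range_self j)), map_zero, map_zero]
  · have hle : (I ^ (N + 1)).map (algebraMap A (AdicCompletion I A)) ≤
        (I ^ N).map (algebraMap A (AdicCompletion I A)) :=
      Ideal.map_mono (Ideal.pow_le_pow_right (Nat.le_succ N))
    apply hle
    apply Groth.Agent.Helper8.AdicFS.ker_evalₐ_le_map_pow I (IsNoetherian.noetherian I) (N + 1)
    rw [RingHom.mem_ker, map_sub, sub_eq_zero]
    have h2 : a i = h (g (Ideal.Quotient.mk K (MvPolynomial.X i))) := by
      rw [← AlgHom.comp_apply, hgh, hσ, MvPolynomial.aeval_X]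
    have h3 : ev (h (g (Ideal.Quotient.mk K (MvPolynomial.X i)))) =
        Ideal.Quotient.mk (I ^ (N + 1)) (b i) := by
      rw [← AlgHom.comp_apply, ← hτ]
      rfl
    change ev (a i) = ev (algebraMap A (AdicCompletion I A) (b i))
    rw [h2, h3, AlgHom.commutes]
    rfl

end Groth.Agent.S0597
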