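import Groth.Statements.S18708
import Groth.Agent.Lib.Helper8.FourTerm3
import Groth.Agent.S18706

set_option autoImplicit false
universe u
open QGor

namespace Groth.Agent.S18708

/-- Affine-local form at a point of the equivalence (b) ⇔ (c) ⇔ (b″) and of the note after it. Let A → B
be a local homomorphism of Noetherian local rings, m the maximal ideal of A, J an ideal of B and 0 →
F → E⁰ → E¹ → G → 0 an exact sequence of finite B-modules with E⁰, E¹ flat over A, G_q flat over A
for every prime q not containing J, depth_J (E⁰/mE⁰) ≥ 2 and depth_J (E¹/mE¹) ≥ 1. Then depth_J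
(F/mF) ≥ 2 (the restriction map of the closed fibre of F off V(J) is bijective) if and only if G is
flat over A, if and only if depth_J (F/m^(n+1)F) ≥ 2 for all n; and when G is flat over A so is F. -/
theorem result (A B : Type u) [CommRing A] [CommRing B]
    [IsNoetherianRing A] [IsNoetherianRing B] [IsLocalRing A] [IsLocalRing B] [Algebra A B]
    [IsLocalHom (algebraMap A B)] (J : Ideal B)
    (F E0 E1 G : Type u) [AddCommGroup F] [Module B F] [Module A F] [IsScalarTower A B F] [Module.Finite B F]
    [AddCommGroup E0] [Module B E0] [Module A E0] [IsScalarTower A B E0] [Module.Finite B E0] [Module.Flat A E0]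
    [AddCommGroup E1] [Module B E1] [Module A E1] [IsScalarTower A B E1] [Module.Finite B E1] [Module.Flat A E1]
    [AddCommGroup G] [Module B G] [Module A G] [IsScalarTower A B G] [Module.Finite B G]
    (f : F →ₗ[B] E0) (u : E0 →ₗ[B] E1) (v : E1 →ₗ[B] G)
    (hf : Function.Injective f) (hfu : Function.Exact f u) (huv : Function.Exact u v) (hv : Function.Surjective v)
    (hGU : ∀ q : PrimeSpectrum B, ¬ J ≤ q.asIdeal → FlatCA.FlatAt A q.asIdeal G)
    (h0 : 2 ≤ LocCoh.idealDepth J (EGA4.FibMod A B E0)) (h1 : 1 ≤ LocCoh.idealDepth J (EGA4.FibMod A B E1)) :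
    (2 ≤ LocCoh.idealDepth J (EGA4.FibMod A B F) ↔ Module.Flat A G) ∧
    (Module.Flat A G ↔ ∀ n : ℕ, 2 ≤ LocCoh.idealDepth J (F ⧸ ((EGA4.mB A B) ^ (n + 1) • (⊤ : Submodule B F)))) ∧
    (Module.Flat A G → Module.Flat A F) := by
  have hGU' : ∀ q : PrimeSpectrum B, ¬ J ≤ q.asIdeal →
      Module.Flat A (LocalizedModule q.asIdeal.primeCompl G) := hGU
  have h01 : 1 ≤ LocCoh.idealDepth J (EGA4.FibMod A B E0) := le_trans one_le_two h0
  have P1 : 2 ≤ LocCoh.idealDepth J (EGA4.FibMod A B F) → Module.Flat A G := by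
    intro h
    have hle := Groth.Agent.Helper8.FourTerm.ker_barMap_le_of_two_le f u v hf hfu huv hv J
      hGU' h01 h
    exact Groth.Agent.Helper8.FourTerm.flat_of_reflects u v huv hv
      (Groth.Agent.Helper8.FourTerm.reflects_of_ker_barMap_le _ f u hfu hle)
  have P1' : Module.Flat A G → 2 ≤ LocCoh.idealDepth J (EGA4.FibMod A B F) := by
    intro hG
    have hinj := Groth.Agent.Helper8.FourTerm.barMap_injective_of_flat (A := A) f u v hf hfu
      huv hv
    have hle := Groth.Agent.Helper8.FourTerm.ker_barMap_le_of_reflects _ f u hfu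
      (Groth.Agent.Helper8.FourTerm.reflects_of_flat (A := A) u v huv hv)
    exact Groth.Agent.Helper8.FourTerm.two_le_of_barMap f u hfu J hinj hle h0 h1
  have P3 : Module.Flat A G → Module.Flat A F := fun hG =>
    Groth.Agent.Helper8.FourTerm.flat_ker_of_flat (A := A) f u v hf hfu huv hv
  refine ⟨⟨P1, P1'⟩, ⟨?_, ?_⟩, P3⟩
  · intro hG n
    haveI := P3 hG
    apply Groth.Agent.S18706.result A B J F ?_ (P1' hG) n
    intro q hq
    exact Groth.Agent.Helper8.FibMod.flat_of_isLocalizedModule q.asIdeal.primeCompl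
      (LocalizedModule.mkLinearMap _ F)
  · intro h
    apply P1
    have e : (EGA4.mB A B) ^ (0 + 1) • (⊤ : Submodule B F) = EGA4.mB A B • ⊤ := by
      rw [zero_add, pow_one]
    rw [← Groth.Agent.Helper8.Depth.idealDepth_congr (Submodule.quotEquivOfEq _ _ e)]
    exact h 0

end Groth.Agent.S18708
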