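import Groth.Statements.S0582
import Mathlib
import Groth.Agent.Lib.Helper4.Kap
import Groth.Agent.S0583

set_option autoImplicit false
universe u
open CAlg

namespace Groth.Agent.S0582

namespace H0582
open Groth.Agent.Helper4.Kap
open scoped Classical

theorem free_of_retract (R : Type u) [CommRing R] [IsLocalRing R] (P : Type u)
    [AddCommGroup P] [Module R P] [Module.Projective R P]
    (F : Type u) [AddCommGroup F] [Module R F] (ι : Type u) (N : ι → Submodule R F)
    (hN : DirectSum.IsInternal N) (hcg : ∀ i, CAlg.IsCountablyGenerated R (N i))
    (s : P →ₗ[R] F) (p : F →ₗ[R] P) (hs : p ∘ₗ s = LinearMap.id) : Module.Free R P := by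
  have hcompl : IsCompl (LinearMap.range s) (LinearMap.ker p) :=
    (isCompl_range_ker_of_bijective s _ (by rw [hs]; exact Function.bijective_id)).1
  have hsinj : Function.Injective s :=
    (isCompl_range_ker_of_bijective s _ (by rw [hs]; exact Function.bijective_id)).2
  obtain ⟨κ, L, hL, hLcg⟩ := Groth.Agent.S0583.result R F ι N hN hcg _ _ hcompl
  have hproj : Module.Projective R (LinearMap.range s) :=
    Module.Projective.of_equiv (LinearEquiv.ofInjective s hsinj)
  let E : (DirectSum κ fun k => L k) ≃ₗ[R] LinearMap.range s :=
    LinearEquiv.ofBijective (DirectSum.coeLinearMap L) hL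
  have hLproj : ∀ k, Module.Projective R (L k) := by
    intro k
    apply Module.Projective.of_split (M := LinearMap.range s) (P := L k)
      ((E : _ →ₗ[R] _) ∘ₗ DirectSum.lof R κ (fun k => L k) k)
      (DirectSum.component R κ (fun k => L k) k ∘ₗ (E.symm : _ →ₗ[R] _))
    ext z
    simp
  have hLfree : ∀ k, Module.Free R (L k) := by
    intro k
    have := hLproj k
    obtain ⟨t, ht, hspan⟩ := hLcg k
    obtain ⟨f, hf⟩ := (Set.countable_iff_exists_subset_range (α := L k)).1 ht
    apply free_of_countable (R := R) (L k) f
    rw [eq_top_iff, ← hspan]
    exact Submodule.span_mono hf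
  have : Module.Free R (DirectSum κ fun k => L k) := inferInstance
  have h1 : Module.Free R (LinearMap.range s) := Module.Free.of_equiv E
  exact Module.Free.of_equiv (LinearEquiv.ofInjective s hsinj).symm

theorem main (R : Type u) [CommRing R] [IsLocalRing R] (P : Type u)
    [AddCommGroup P] [Module R P] [Module.Projective R P] : Module.Free R P := by
  obtain ⟨s, hs⟩ := (Module.projective_def' (R := R) (P := P)).1 inferInstance
  exact free_of_retract R P (P →₀ R) P
    (fun i : P => LinearMap.range (Finsupp.lsingle i : R →ₗ[R] (P →₀ R)))
    (isInternal_lsingle (R := R) P) (cg_range_lsingle (R := R) P) s _ hs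
end H0582

/-- A projective module, not necessarily finitely generated, over a local ring is free. -/
theorem result (R : Type u) [CommRing R] [IsLocalRing R] (P : Type u)
    [AddCommGroup P] [Module R P] [Module.Projective R P] : Module.Free R P := by
  exact H0582.main R P

end Groth.Agent.S0582
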