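import Groth.Statements.S7109
import Mathlib

set_option autoImplicit false
universe u
open CAlg

namespace Groth.Agent.S7109

/-- Let P be a projective module over a ring R and s an element of P. Then there are a finite free
module R^n and a direct summand K of R^n ⊕ P which is finite free and contains (0, s). -/
theorem result (R : Type u) [CommRing R] (P : Type u) [AddCommGroup P]
    [Module R P] [Module.Projective R P] (s : P) :
    ∃ (n : ℕ) (K K' : Submodule R ((Fin n → R) × P)), IsCompl K K' ∧ Module.Free R K ∧ Module.Finite R K ∧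
      ((0, s) : (Fin n → R) × P) ∈ K := by
  classical
  obtain ⟨s₀, hs₀⟩ := Module.projective_def'.mp ‹Module.Projective R P›
  have hπs : ∀ p, Finsupp.linearCombination R (id : P → P) (s₀ p) = p :=
    fun p => LinearMap.congr_fun hs₀ p
  let enum : Fin (s₀ s).support.card ≃ (s₀ s).support := (s₀ s).support.equivFin.symm
  let φ : (Fin (s₀ s).support.card → R) →ₗ[R] P :=
    Fintype.linearCombination R (fun k => ((enum k : (s₀ s).support) : P))
  let ψ : P →ₗ[R] (Fin (s₀ s).support.card → R) :=
    LinearMap.pi (fun k => (Finsupp.lapply ((enum k : (s₀ s).support) : P)) ∘ₗ s₀)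
  have hφψ : φ (ψ s) = s := by
    have h1 : φ (ψ s) = ∑ k : Fin (s₀ s).support.card,
        (s₀ s) ((enum k : (s₀ s).support) : P) • ((enum k : (s₀ s).support) : P) := rfl
    rw [h1, Equiv.sum_comp enum (fun j : (s₀ s).support => (s₀ s) (j : P) • (j : P)),
      Finset.sum_coe_sort (s₀ s).support (fun j => (s₀ s) j • j)]
    have h2 := hπs s
    rw [Finsupp.linearCombination_apply, Finsupp.sum] at h2
    exact h2
  let α : (Fin (s₀ s).support.card → R) →ₗ[R] (Fin (s₀ s).support.card → R) × P :=
    LinearMap.prod (LinearMap.id - ψ ∘ₗ φ) φ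
  let β : (Fin (s₀ s).support.card → R) × P →ₗ[R] (Fin (s₀ s).support.card → R) :=
    LinearMap.coprod LinearMap.id ψ
  have hβα : ∀ v, β (α v) = v := by intro v; simp [α, β]
  refine ⟨(s₀ s).support.card, LinearMap.range α, LinearMap.ker β, ?_, ?_, ?_, ?_⟩
  · constructor
    · rw [Submodule.disjoint_def]
      rintro x ⟨v, rfl⟩ hx
      have : v = 0 := by rw [← hβα v]; exact hx
      rw [this, map_zero]
    · rw [codisjoint_iff, eq_top_iff]
      intro x _
      rw [Submodule.mem_sup]
      refine ⟨α (β x), ⟨_, rfl⟩, x - α (β x), ?_, by abel⟩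
      rw [LinearMap.mem_ker, map_sub, hβα, sub_self]
  · have hinj : Function.Injective α := Function.LeftInverse.injective hβα
    exact Module.Free.of_equiv (LinearEquiv.ofInjective α hinj)
  · exact Module.Finite.range α
  · refine ⟨ψ s, ?_⟩
    show ((ψ s - ψ (φ (ψ s))), φ (ψ s)) = (0, s)
    rw [hφψ, sub_self]

end Groth.Agent.S7109
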