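import Groth.Statements.S7157
import Mathlib
import Groth.Prelude.Def_EtRam
import Groth.Agent.Lib.Helper9.EtRam.Dom20
-- import your own Groth.Agent.* helpers here

set_option autoImplicit false
universe u
open EtAlg

namespace Groth.Agent.S7157

namespace Aux
open Polynomial IsLocalRing EtRam Groth.Agent.Helper9.EtRamLib

section k0
open Groth.Agent.S1987.Aux

theorem totRam_self (A K : Type u) [CommRing A] [IsDomain A] [IsDiscreteValuationRing A]
    [Field K] [Algebra A K] [IsFractionRing A K] :
    IsTotallyRamified A (algebraMap A K) := by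
  have key : ∀ V : ValuationSubring K, Dominates A (algebraMap A K) V → V = V0 A K :=
    fun V hV => eq_V0 A K V hV.1 hV.2
  refine ⟨⟨V0 A K, fun a => (mem_V0 A K _).mpr ⟨a, rfl⟩, fun a ha => V0_lt A K a ha⟩, ?_, ?_⟩
  · intro V V' hV hV'
    rw [key V hV, key V' hV']
  · intro V hV y
    obtain ⟨v, rfl⟩ := residue_surjective y
    have hv0 : (v : K) ∈ V0 A K := by rw [← key V hV]; exact v.2
    obtain ⟨a, ha⟩ := (mem_V0 A K _).mp hv0
    refine ⟨a, ?_⟩
    dsimp only
    congr 1
    exact Subtype.ext ha

end k0

section main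
variable (A K : Type u) [CommRing A] [IsDomain A] [IsDiscreteValuationRing A]
  [Field K] [Algebra A K] [IsFractionRing A K] (π : A) (n q : ℕ)

noncomputable abbrev g : A[X] := C (π ^ (n - 1)) * X + 1

lemma g_deg (hq : 2 ≤ q) : (g A π n).natDegree < q := by
  have h1 : (g A π n).natDegree ≤ 1 := by
    refine (natDegree_add_le _ _).trans ?_
    rw [natDegree_one, max_le_iff]
    exact ⟨(natDegree_C_mul_le _ _).trans natDegree_X_le, Nat.zero_le _⟩
  omega

lemma g_coeff0 : (g A π n).coeff 0 = 1 := by
  simp [g]

lemma g_coeff1 : (g A π n).coeff 1 = π ^ (n - 1) := by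
  rw [g, coeff_add, coeff_C_mul, coeff_X_one, mul_one, coeff_one]
  simp

lemma g_unit : IsUnit ((g A π n).coeff 0) := by
  rw [g_coeff0]; exact isUnit_one

noncomputable abbrev ff : A[X] := Eis.f A π q (g A π n)

abbrev B : Type u := AdjoinRoot (ff A π n q)

theorem core (hπ : Irreducible π) (hn : 1 < n) (hq : 2 ≤ q)
    [IsDomain (B A π n q)] [IsDiscreteValuationRing (B A π n q)]
    (L : Type u) [Field L] [Algebra (B A π n q) L] [IsFractionRing (B A π n q) L]
    [Algebra A L] [IsScalarTower A (B A π n q) L] [Algebra K L] [IsScalarTower A K L] :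
    Module.finrank K L = q ∧ Algebra.IsSeparable K L ∧ IsTotallyRamified A (algebraMap A L) ∧
    ∃ πB b b' : L, πB ∈ integralClosure A L ∧ b ∈ integralClosure A L ∧
      b' ∈ integralClosure A L ∧
        πB ^ q = algebraMap A L π + algebraMap A L π ^ n * b ∧
        πB ^ q = algebraMap A L π + πB ^ (n * q) * b' := by
  have hg := g_deg A π n q hq
  have hg0 := g_unit A π n
  have hmon : (ff A π n q).Monic := Eis.f_monic A π q _ hg
  have hdeg : (ff A π n q).natDegree = q := Eis.f_natDegree A π q _ hg
  -- finrank
  have hfinAB : Module.finrank A (B A π n q) = q := by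
    rw [(AdjoinRoot.powerBasis' hmon).finrank, AdjoinRoot.powerBasis'_dim, hdeg]
  haveI : Module.Finite A (B A π n q) := hmon.finite_adjoinRoot
  haveI : FaithfulSMul A (B A π n q) :=
    (faithfulSMul_iff_algebraMap_injective _ _).mpr (Eis.of_inj A π q _ hg)
  have hbc : IsBaseChange K (IsScalarTower.toAlgHom A (B A π n q) L).toLinearMap :=
    Algebra.IsAlgebraic.isBaseChange_of_isFractionRing A (B A π n q) K L
  have hfin : Module.finrank K L = q := by rw [hbc.finrank_eq, hfinAB]
  haveI : FiniteDimensional K L := Module.finite_of_finrank_pos (by rw [hfin]; omega)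
  -- separability
  set xL : L := algebraMap (B A π n q) L (Eis.x A π q (g A π n)) with hxL
  set fK : K[X] := (ff A π n q).map (algebraMap A K) with hfK
  have hirrK : Irreducible fK :=
    (Monic.irreducible_iff_irreducible_map_fraction_map hmon).mp
      (Eis.f_irred A π q _ hπ (AR.span_pi_max A π hπ).isPrime hg hg0)
  have hroot : aeval xL fK = 0 := by
    rw [aeval_def, hfK, eval₂_map, ← IsScalarTower.algebraMap_eq,
      IsScalarTower.algebraMap_eq A (B A π n q) L, hxL, ← hom_eval₂, AdjoinRoot.algebraMap_eq,
      AdjoinRoot.eval₂_root, map_zero]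
  have hder : derivative fK ≠ 0 := by
    intro h0
    have h1 : (derivative fK).coeff 0 = 0 := by rw [h0, coeff_zero]
    rw [coeff_derivative, hfK, coeff_map, Eis.f_coeff_lt A π q _ (by omega : 0 + 1 < q),
      g_coeff1] at h1
    have h2 : algebraMap A K (-(π * π ^ (n - 1))) = 0 := by simpa using h1
    have h3 := (map_eq_zero_iff _ (IsFractionRing.injective A K)).mp h2
    rw [neg_eq_zero, mul_eq_zero] at h3
    rcases h3 with h3 | h3
    · exact hπ.ne_zero h3
    · exact hπ.ne_zero (pow_eq_zero_iff (by omega) |>.mp h3)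
  have hsep : fK.Separable := (separable_iff_derivative_ne_zero hirrK).mpr hder
  have hxsep : IsSeparable K xL := hsep.of_dvd (minpoly.dvd K xL hroot)
  have hmin : fK = minpoly K xL := minpoly.eq_of_irreducible_of_monic hirrK hroot (hmon.map _)
  have htop : IntermediateField.adjoin K {xL} = ⊤ := by
    rw [Field.primitive_element_iff_minpoly_natDegree_eq, ← hmin, hfK, hmon.natDegree_map, hdeg,
      hfin]
  have hsepL : Algebra.IsSeparable K L := by
    rw [← IntermediateField.isSeparable_top, ← htop,
      IntermediateField.isSeparable_adjoin_iff_isSeparable]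
    intro y hy
    rw [Set.mem_singleton_iff] at hy
    rw [hy]; exact hxsep
  refine ⟨hfin, hsepL, ?_, ?_⟩
  · rw [IsScalarTower.algebraMap_eq A (B A π n q) L]
    exact Eis.totRam A π q (g A π n) hπ hg hg0 L
  · have hint : ∀ b : B A π n q, algebraMap (B A π n q) L b ∈ integralClosure A L := by
      intro b
      have : IsIntegral A b := Algebra.IsIntegral.isIntegral b
      exact this.map (IsScalarTower.toAlgHom A (B A π n q) L)
    obtain ⟨u, hu⟩ := Eis.gx_isUnit A π q (g A π n) hπ hg hg0
    have hgx : Eis.gx A π q (g A π n) =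
        AdjoinRoot.of _ (π ^ (n - 1)) * Eis.x A π q (g A π n) + 1 := by
      simp only [Eis.gx, g, map_add, map_mul, AdjoinRoot.mk_C, AdjoinRoot.mk_X, map_one]
    have hxp := Eis.x_pow A π q (g A π n)
    have hpin : π * π ^ (n - 1) = π ^ n := by
      rw [← pow_succ', Nat.sub_add_cancel (by omega)]
    have e1 : Eis.x A π q (g A π n) ^ q = AdjoinRoot.of _ π +
        AdjoinRoot.of _ π ^ n * Eis.x A π q (g A π n) := by
      rw [hxp, hgx, ← map_pow, ← hpin, map_mul]
      ring
    have e2 : AdjoinRoot.of (ff A π n q) π = Eis.x A π q (g A π n) ^ q * ((u⁻¹ : (B A π n q)ˣ) : B A π n q) := by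
      rw [hxp, ← hu, mul_assoc, Units.mul_inv, mul_one]
    have e3 : Eis.x A π q (g A π n) ^ q = AdjoinRoot.of _ π +
        Eis.x A π q (g A π n) ^ (n * q) *
          (((u⁻¹ : (B A π n q)ˣ) : B A π n q) ^ n * Eis.x A π q (g A π n)) := by
      conv_lhs => rw [e1]
      congr 1
      conv_lhs => rw [e2]
      rw [mul_pow, ← pow_mul, mul_comm q n]
      ring
    refine ⟨xL, xL, algebraMap (B A π n q) L
      (((u⁻¹ : (B A π n q)ˣ) : B A π n q) ^ n * Eis.x A π q (g A π n)), hint _, hint _, hint _, ?_, ?_⟩
    · have := congrArg (algebraMap (B A π n q) L) e1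
      rw [map_pow, map_add, map_mul, map_pow, ← AdjoinRoot.algebraMap_eq,
        ← IsScalarTower.algebraMap_apply] at this
      exact this
    · have := congrArg (algebraMap (B A π n q) L) e3
      rw [map_pow, map_add, map_mul, map_pow, ← AdjoinRoot.algebraMap_eq,
        ← IsScalarTower.algebraMap_apply] at this
      exact this

end main

theorem main (p : ℕ) (hp : p.Prime) (A K : Type u)
    [CommRing A] [IsDomain A] [IsDiscreteValuationRing A] [Field K] [Algebra A K]
    [IsFractionRing A K]
    (π : A) (hπ : IsLocalRing.maximalIdeal A = Ideal.span {π})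
    (n : ℕ) (hn : 1 < n) (k : ℕ) :
    ∃ (L : Type u) (_ : Field L) (_ : Algebra K L) (_ : Algebra A L) (_ : IsScalarTower A K L),
      Module.finrank K L = p ^ k ∧ Algebra.IsSeparable K L ∧
      EtRam.IsTotallyRamified A (algebraMap A L) ∧
      ∃ πB b b' : L, πB ∈ integralClosure A L ∧ b ∈ integralClosure A L ∧
        b' ∈ integralClosure A L ∧
        πB ^ (p ^ k) = algebraMap A L π + algebraMap A L π ^ n * b ∧
        πB ^ (p ^ k) = algebraMap A L π + πB ^ (n * p ^ k) * b' := by
  have hπirr : Irreducible π := (IsDiscreteValuationRing.irreducible_iff_uniformizer π).mpr hπ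
  rcases Nat.eq_zero_or_pos k with hk | hk
  · subst hk
    refine ⟨K, inferInstance, inferInstance, inferInstance, inferInstance, ?_, inferInstance,
      totRam_self A K, algebraMap A K π, 0, 0, isIntegral_algebraMap, zero_mem _, zero_mem _,
      ?_, ?_⟩
    · rw [pow_zero, Module.finrank_self]
    · simp
    · simp
  · have hq : 2 ≤ p ^ k := by
      calc 2 ≤ p := hp.two_le
        _ = p ^ 1 := (pow_one p).symm
        _ ≤ p ^ k := Nat.pow_le_pow_right hp.pos hk
    have hg := g_deg A π n (p ^ k) hq
    have hg0 := g_unit A π n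
    letI := Eis.isDomain A π (p ^ k) (g A π n) hπirr hg hg0
    letI := Eis.isDVR A π (p ^ k) (g A π n) hπirr hg hg0
    have hinj : Function.Injective (algebraMap A (FractionRing (B A π n (p ^ k)))) := by
      rw [IsScalarTower.algebraMap_eq A (B A π n (p ^ k)) (FractionRing (B A π n (p ^ k)))]
      exact (IsFractionRing.injective (B A π n (p ^ k)) _).comp (Eis.of_inj A π (p ^ k) _ hg)
    letI algKL : Algebra K (FractionRing (B A π n (p ^ k))) :=
      (IsFractionRing.lift hinj).toAlgebra
    haveI : IsScalarTower A K (FractionRing (B A π n (p ^ k))) :=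
      IsScalarTower.of_algebraMap_eq (fun a => (IsFractionRing.lift_algebraMap hinj a).symm)
    exact ⟨FractionRing (B A π n (p ^ k)), inferInstance, algKL, inferInstance, inferInstance,
      core A K π n (p ^ k) hπirr hn hq _⟩

end Aux

/-- Let A be a discrete valuation ring, π a uniformizer, K its field of fractions, and suppose the
residue field of A has characteristic p > 0. For every n > 1 and every power q of p there is a
separable degree-q extension L/K that is totally ramified with respect to A and whose ring of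
integers B (the integral closure of A in L) contains elements π_B, b, b' with π_B^q = π + πⁿ·b and
π_B^q = π + π_B^(nq)·b' (π_B is then a uniformizer of B and the ramification index is q). -/
theorem result (p : ℕ) (hp : p.Prime) (A K : Type u)
    [CommRing A] [IsDomain A] [IsDiscreteValuationRing A] [Field K] [Algebra A K] [IsFractionRing A K]
    [CharP (IsLocalRing.ResidueField A) p] (π : A) (hπ : IsLocalRing.maximalIdeal A = Ideal.span {π})
    (n : ℕ) (hn : 1 < n) (k : ℕ) :
    ∃ (L : Type u) (_ : Field L) (_ : Algebra K L) (_ : Algebra A L) (_ : IsScalarTower A K L),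
      Module.finrank K L = p ^ k ∧ Algebra.IsSeparable K L ∧ EtRam.IsTotallyRamified A (algebraMap A L) ∧
      ∃ πB b b' : L, πB ∈ integralClosure A L ∧ b ∈ integralClosure A L ∧ b' ∈ integralClosure A L ∧
        πB ^ (p ^ k) = algebraMap A L π + algebraMap A L π ^ n * b ∧
        πB ^ (p ^ k) = algebraMap A L π + πB ^ (n * p ^ k) * b' := by
  exact Aux.main p hp A K π hπ n hn k

end Groth.Agent.S7157
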