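import Groth.Statements.S7158
import Mathlib
import Groth.Prelude.Def_EtRam
import Groth.Agent.Lib.Helper9.EtRam.Dom23
-- import your own Groth.Agent.* helpers here

set_option autoImplicit false
universe u
open EtAlg

namespace Groth.Agent.S7158

namespace Aux
open Polynomial IsLocalRing EtRam Groth.Agent.Helper9.EtRamLib

section AS
variable (p : ℕ) [hp : Fact p.Prime] {K L : Type u} [Field K] [Field L] [Algebra K L]
  [CharP K p] {ξ : K} {z : L} (hz : z ^ p - z = algebraMap K L ξ)
  (hgen : IntermediateField.adjoin K {z} = ⊤)

/-- the Artin–Schreier polynomial -/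
noncomputable abbrev fAS {K : Type u} [Field K] (ξ : K) : K[X] := X ^ p - X - C ξ

omit [CharP K p] in
lemma fAS_eq (ξ : K) : fAS p ξ = X ^ p - (X + C ξ) := by rw [fAS]; ring

omit [CharP K p] in
lemma deg_lt (ξ : K) : (X + C ξ : K[X]).degree < p := by
  have h1 : (X + C ξ : K[X]).degree = 1 := degree_X_add_C ξ
  rw [h1]
  exact_mod_cast hp.out.one_lt

omit [CharP K p] in
lemma fAS_monic (ξ : K) : (fAS p ξ).Monic := by
  rw [fAS_eq]
  exact monic_X_pow_sub (deg_lt p ξ)

omit [CharP K p] in
lemma fAS_natDegree (ξ : K) : (fAS p ξ).natDegree = p := by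
  rw [fAS_eq, natDegree_sub_eq_left_of_natDegree_lt, natDegree_X_pow]
  rw [natDegree_X_pow, natDegree_X_add_C]
  exact hp.out.one_lt

lemma fAS_sep (ξ : K) : (fAS p ξ).Separable := by
  rw [separable_def]
  have hd : derivative (fAS p ξ) = -1 := by
    rw [fAS, derivative_sub, derivative_sub, derivative_C, derivative_X, derivative_X_pow,
      CharP.cast_eq_zero, map_zero, zero_mul]
    ring
  rw [hd]
  exact isCoprime_one_right.neg_right

include hz in
lemma charL : CharP L p := charP_of_injective_algebraMap (algebraMap K L).injective p

/-- the prime field -/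
noncomputable abbrev ι (L : Type u) [Field L] [CharP L p] : ZMod p →+* L := ZMod.castHom (dvd_refl p) L

include hz in
lemma root_of_zmod [CharP L p] (i : ZMod p) : (z + ι p L i) ^ p - (z + ι p L i) = algebraMap K L ξ := by
  rw [add_pow_char, ← map_pow, ZMod.pow_card]
  linear_combination hz

include hz in
lemma exists_zmod_of_root [CharP L p] {w : L} (hw : w ^ p - w = algebraMap K L ξ) :
    ∃ i : ZMod p, w = z + ι p L i := by
  have h1 : (w - z) ^ p = w - z := by
    rw [sub_pow_char]
    linear_combination hw - hz
  have h2 : w - z ∈ (⊥ : Subfield L) := (Subfield.mem_bot_iff_pow_eq_self (F := L) (p := p)).2 h1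
  rw [← ZMod.fieldRange_castHom_eq_bot p] at h2
  obtain ⟨i, hi⟩ := h2
  exact ⟨i, by rw [← sub_eq_iff_eq_add']; exact hi.symm⟩

include hz in
lemma aeval_root [CharP L p] (i : ZMod p) : aeval (z + ι p L i) (fAS p ξ) = 0 := by
  simp only [fAS, map_sub, map_pow, aeval_X, aeval_C]
  rw [root_of_zmod p hz, sub_self]

include hz in
lemma splits_fAS : ((fAS p ξ).map (algebraMap K L)).Splits := by
  classical
  haveI := charL p hz
  set g := (fAS p ξ).map (algebraMap K L) with hg
  have hgm : g.Monic := (fAS_monic p ξ).map _
  have hgd : g.natDegree = p := by rw [hg, (fAS_monic p ξ).natDegree_map, fAS_natDegree]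
  rw [splits_iff_card_roots, hgd]
  apply le_antisymm
  · rw [← hgd]; exact card_roots' g
  · have hinj : Function.Injective (fun i : ZMod p => z + ι p L i) := by
      intro i j hij
      exact (ι p L).injective (add_left_cancel hij)
    have hsub : Finset.univ.image (fun i : ZMod p => z + ι p L i) ⊆ g.roots.toFinset := by
      intro w hw
      rw [Finset.mem_image] at hw
      obtain ⟨i, -, rfl⟩ := hw
      rw [Multiset.mem_toFinset, mem_roots hgm.ne_zero, IsRoot.def, hg, eval_map_algebraMap]
      exact aeval_root p hz i
    calc p = (Finset.univ.image (fun i : ZMod p => z + ι p L i)).card := by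
          rw [Finset.card_image_of_injective _ hinj, Finset.card_univ, ZMod.card]
      _ ≤ g.roots.toFinset.card := Finset.card_le_card hsub
      _ ≤ Multiset.card g.roots := Multiset.toFinset_card_le _

include hz in
lemma z_algebraic : IsIntegral K z := by
  refine ⟨fAS p ξ, fAS_monic p ξ, ?_⟩
  haveI := charL p hz
  have := aeval_root p hz 0
  simpa using this

include hz hgen in
lemma isSplittingField : (fAS p ξ).IsSplittingField K L := by
  haveI := charL p hz
  refine ⟨splits_fAS p hz, ?_⟩
  rw [eq_top_iff]
  have h1 : Algebra.adjoin K {z} = ⊤ := by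
    have := IntermediateField.adjoin_simple_toSubalgebra_of_isAlgebraic (z_algebraic p hz).isAlgebraic
    rw [← this, hgen, IntermediateField.top_toSubalgebra]
  rw [← h1]
  apply Algebra.adjoin_mono
  rw [Set.singleton_subset_iff, mem_rootSet]
  refine ⟨(fAS_monic p ξ).ne_zero, ?_⟩
  have := aeval_root p hz 0
  simpa using this

include hz hgen in
lemma isGalois : IsGalois K L := by
  haveI := isSplittingField p hz hgen
  exact IsGalois.of_separable_splitting_field (fAS_sep p ξ)

include hz hgen in
lemma finiteDim : FiniteDimensional K L := by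
  haveI := isSplittingField p hz hgen
  exact IsSplittingField.finiteDimensional L (fAS p ξ)

include hz hgen in
lemma finrank_dvd : Module.finrank K L ∣ p := by
  haveI := charL p hz
  haveI := isGalois p hz hgen
  haveI := finiteDim p hz hgen
  rw [← IsGalois.card_aut_eq_finrank]
  -- the character
  have hσ : ∀ σ : L ≃ₐ[K] L, ∃ i : ZMod p, σ z = z + ι p L i := by
    intro σ
    apply exists_zmod_of_root p hz
    have := congrArg σ hz
    rwa [map_sub, map_pow, AlgEquiv.commutes] at this
  choose c hc using hσ
  have hfix : ∀ (σ : L ≃ₐ[K] L) (i : ZMod p), σ (ι p L i) = ι p L i := by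
    intro σ i
    obtain ⟨n, rfl⟩ := ZMod.natCast_zmod_surjective i
    simp
  let φ : (L ≃ₐ[K] L) →* Multiplicative (ZMod p) :=
    { toFun := fun σ => Multiplicative.ofAdd (c σ)
      map_one' := by
        have h1 := hc 1
        rw [AlgEquiv.one_apply] at h1
        have : ι p L (c 1) = 0 := by linear_combination -h1
        have h0 : c 1 = 0 := (ι p L).injective (by rw [this, map_zero])
        rw [h0]; rfl
      map_mul' := by
        intro σ τ
        have h1 := hc (σ * τ)
        rw [AlgEquiv.mul_apply, hc τ, map_add, hfix, hc σ] at h1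
        have : ι p L (c (σ * τ)) = ι p L (c σ + c τ) := by
          rw [map_add]; linear_combination -h1
        have h0 := (ι p L).injective this
        rw [h0]; rfl }
  have hφ : Function.Injective φ := by
    intro σ τ h
    have hcc : c σ = c τ := Multiplicative.ofAdd.injective h
    have hzz : σ z = τ z := by rw [hc σ, hc τ, hcc]
    -- agree on generator
    have : ∀ x ∈ IntermediateField.adjoin K {z}, σ x = τ x := by
      intro x hx
      induction hx using IntermediateField.adjoin_induction with
      | mem x hx => rw [Set.mem_singleton_iff] at hx; rw [hx, hzz]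
      | algebraMap x => rw [AlgEquiv.commutes, AlgEquiv.commutes]
      | add x y _ _ hx hy => rw [map_add, map_add, hx, hy]
      | inv x _ hx => rw [map_inv₀, map_inv₀, hx]
      | mul x y _ _ hx hy => rw [map_mul, map_mul, hx, hy]
    ext x
    exact this x (by rw [hgen]; trivial)
  have := Subgroup.card_dvd_of_injective φ hφ
  rwa [Nat.card_eq_fintype_card (α := Multiplicative (ZMod p)), Fintype.card_multiplicative,
    ZMod.card] at this

end AS

section Main

theorem main (p : ℕ) (hp : p.Prime) (A K L : Type u) [CommRing A] [IsDomain A]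
    [IsDiscreteValuationRing A] [Field K] [Algebra A K] [IsFractionRing A K] [Field L] [Algebra K L] [Algebra A L]
    [IsScalarTower A K L] [CharP K p] (π : A) (hπ : IsLocalRing.maximalIdeal A = Ideal.span {π})
    (ξ : K) (z : L) (hz : z ^ p - z = algebraMap K L ξ) (hgen : IntermediateField.adjoin K {z} = ⊤) :
    let g : A →+* L := algebraMap A L
    let case1 : Prop := Module.finrank K L = 1
    let case2 : Prop := EtRam.IsUnramifiedExt A g ∧ Module.finrank K L = p
    let case3 : Prop := EtRam.IsTotallyRamified A g ∧ Module.finrank K L = p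
    let case4 : Prop := (∃ V : ValuationSubring L, EtRam.Dominates A g V) ∧
      (∀ V V' : ValuationSubring L, EtRam.Dominates A g V → EtRam.Dominates A g V' → V = V') ∧
      ∀ (V : ValuationSubring L) (h : EtRam.Dominates A g V),
        letI : Algebra A V := (RingHom.codRestrict g V h.1).toAlgebra
        ∀ [IsLocalHom (algebraMap A V)],
          EtRam.IsWeaklyUnramified A V ∧
            IsPurelyInseparable (IsLocalRing.ResidueField A) (IsLocalRing.ResidueField V) ∧
            Module.finrank (IsLocalRing.ResidueField A) (IsLocalRing.ResidueField V) = p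
    IsGalois K L ∧ (case1 ∨ case2 ∨ case3 ∨ case4) ∧
      ((∃ a : A, algebraMap A K a = ξ) → case1 ∨ case2) ∧
      (∀ (n : ℕ) (a : Aˣ), 0 < n → ¬ p ∣ n → ξ * algebraMap A K π ^ n = algebraMap A K a → case3) ∧
      (∀ (n : ℕ) (a : A), 0 < n → p ∣ n → (∀ r : A, IsLocalRing.residue A a ≠ IsLocalRing.residue A r ^ p) →
          ξ * algebraMap A K π ^ n = algebraMap A K a → case4) := by
  intro g case1 case2 case3 case4
  haveI : Fact p.Prime := ⟨hp⟩
  haveI hGal : IsGalois K L := isGalois p hz hgen
  haveI hfd : FiniteDimensional K L := finiteDim p hz hgen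
  have hdeg : Module.finrank K L = 1 ∨ Module.finrank K L = p :=
    (Nat.dvd_prime hp).1 (finrank_dvd p hz hgen)
  have hpA : ((p : ℕ) : A) = 0 := by
    apply IsFractionRing.injective A K
    rw [map_natCast, map_zero]
    exact CharP.cast_eq_zero K p
  haveI hcκ : CharP (ResidueField A) p := by
    rw [CharP.charP_iff_prime_eq_zero hp]
    have h2 := congrArg (residue A) hpA
    rwa [map_natCast, map_zero] at h2
  -- the polynomial
  have hPm : (X ^ p - X : A[X]).Monic := by
    apply monic_X_pow_sub
    rw [degree_X]; exact_mod_cast hp.one_lt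
  have hPd : (X ^ p - X : A[X]).natDegree = p := by
    rw [natDegree_sub_eq_left_of_natDegree_lt, natDegree_X_pow]
    rw [natDegree_X_pow, natDegree_X]; exact hp.one_lt
  have hPsep : ∀ a : A, (((X ^ p - X : A[X]) - C a).map (residue A)).Separable := by
    intro a
    rw [separable_def]
    have hd : derivative (((X ^ p - X : A[X]) - C a).map (residue A)) = -1 := by
      simp only [Polynomial.map_sub, Polynomial.map_pow, map_X, map_C, derivative_sub,
        derivative_C, derivative_X, derivative_X_pow, CharP.cast_eq_zero, map_zero, zero_mul]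
      ring
    rw [hd]
    exact isCoprime_one_right.neg_right
  have hz' : aeval z (X ^ p - X : A[X]) = algebraMap K L ξ := by
    simp only [map_sub, map_pow, aeval_X]
    exact hz
  exact ⟨hGal, Cases.main_cases p hp A K L hdeg π hπ (X ^ p - X) hPm hPd hPsep ξ z hz' hgen⟩

end Main
end Aux

/-- Let A be a discrete valuation ring whose fraction field K has characteristic p > 0, let ξ be an
element of K and let L = K(z) be obtained by adjoining a root z of z^p - z = ξ. Then L/K is a Galois
extension, and it falls under one of four cases: (1) L = K; (2) L/K has degree p and is unramified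
with respect to A; (3) L/K has degree p and is totally ramified with respect to A (ramification
index p); (4) exactly one valuation ring of L dominates A (so B, the integral closure of A in L, is
itself a discrete valuation ring), the extension A → B is weakly unramified, and its residue field
extension is purely inseparable of degree p. Moreover, with π a uniformizer of A: (A) if ξ lies in
A, case (1) or (2) holds; (B) if ξ = π⁻ⁿa with n > 0 prime to p and a a unit of A, case (3) holds;
(C) if ξ = π⁻ⁿa with n > 0 divisible by p and the residue class of a not a p-th power, case (4)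
holds. -/
theorem result (p : ℕ) (hp : p.Prime) (A K L : Type u) [CommRing A] [IsDomain A]
    [IsDiscreteValuationRing A] [Field K] [Algebra A K] [IsFractionRing A K] [Field L] [Algebra K L] [Algebra A L]
    [IsScalarTower A K L] [CharP K p] (π : A) (hπ : IsLocalRing.maximalIdeal A = Ideal.span {π})
    (ξ : K) (z : L) (hz : z ^ p - z = algebraMap K L ξ) (hgen : IntermediateField.adjoin K {z} = ⊤) :
    let g : A →+* L := algebraMap A L
    let case1 : Prop := Module.finrank K L = 1
    let case2 : Prop := EtRam.IsUnramifiedExt A g ∧ Module.finrank K L = p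
    let case3 : Prop := EtRam.IsTotallyRamified A g ∧ Module.finrank K L = p
    let case4 : Prop := (∃ V : ValuationSubring L, EtRam.Dominates A g V) ∧
      (∀ V V' : ValuationSubring L, EtRam.Dominates A g V → EtRam.Dominates A g V' → V = V') ∧
      ∀ (V : ValuationSubring L) (h : EtRam.Dominates A g V),
        letI : Algebra A V := (RingHom.codRestrict g V h.1).toAlgebra
        ∀ [IsLocalHom (algebraMap A V)],
          EtRam.IsWeaklyUnramified A V ∧
            IsPurelyInseparable (IsLocalRing.ResidueField A) (IsLocalRing.ResidueField V) ∧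
            Module.finrank (IsLocalRing.ResidueField A) (IsLocalRing.ResidueField V) = p
    IsGalois K L ∧ (case1 ∨ case2 ∨ case3 ∨ case4) ∧
      ((∃ a : A, algebraMap A K a = ξ) → case1 ∨ case2) ∧
      (∀ (n : ℕ) (a : Aˣ), 0 < n → ¬ p ∣ n → ξ * algebraMap A K π ^ n = algebraMap A K a → case3) ∧
      (∀ (n : ℕ) (a : A), 0 < n → p ∣ n → (∀ r : A, IsLocalRing.residue A a ≠ IsLocalRing.residue A r ^ p) →
          ξ * algebraMap A K π ^ n = algebraMap A K a → case4) := by
  exact Aux.main p hp A K L π hπ ξ z hz hgen

end Groth.Agent.S7158
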