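import Groth.Statements.S1984
import Mathlib
import Groth.Prelude.Def_EtRam
import Groth.Agent.Lib.Helper9.EtRam.Dom16
import Groth.Agent.S7132
-- import your own Groth.Agent.* helpers here

set_option autoImplicit false
universe u
open EtAlg

namespace Groth.Agent.S1984

namespace Aux
open IsLocalRing EtRam TensorProduct Groth.Agent.Helper9.EtRamLib

section
variable (A B K L : Type u) [CommRing A] [IsDomain A] [IsDiscreteValuationRing A]
    [CommRing B] [IsDomain B] [IsDiscreteValuationRing B] [Algebra A B] [IsLocalHom (algebraMap A B)]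
    (hinj : Function.Injective (algebraMap A B))
    [Field K] [Field L] [Algebra A K] [IsFractionRing A K] [Algebra B L] [IsFractionRing B L]
    [Algebra K L] [Algebra A L] [IsScalarTower A K L] [IsScalarTower A B L]
    (hw : EtRam.IsWeaklyUnramified A B) (K₁ : Type u) [Field K₁] [Algebra K K₁] [FiniteDimensional K K₁]
    [Algebra.IsSeparable K K₁] (ht : EtRam.IsTotallyRamified A ((algebraMap K K₁).comp (algebraMap A K)))

include hinj hw ht

theorem weak_and_degree (M : Type u) [Field M] [Algebra K M] [Algebra L M] [Algebra K₁ M]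
    [IsScalarTower K L M] [IsScalarTower K K₁ M]
    (hadj : Algebra.adjoin L (Set.range (algebraMap K₁ M)) = ⊤)
    (W : ValuationSubring M) (hW : Dominates B ((algebraMap L M).comp (algebraMap B L)) W) :
    letI : Algebra (W.comap (algebraMap K₁ M)) W := (inclOfComap W (algebraMap K₁ M)).toAlgebra
    IsWeaklyUnramified (W.comap (algebraMap K₁ M)) W ∧
    Module.finrank K K₁ ≤ Module.finrank L M := by
  set f := algebraMap K₁ M with hf
  set g₁ := (algebraMap L M).comp (algebraMap B L) with hg₁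
  set gK₁ := (algebraMap K K₁).comp (algebraMap A K) with hgK₁
  set V₁ := W.comap f with hV₁
  have hcompat0 : f.comp gK₁ = g₁.comp (algebraMap A B) := by
    ext a
    simp only [f, gK₁, g₁, RingHom.comp_apply]
    rw [← IsScalarTower.algebraMap_apply K K₁ M, ← IsScalarTower.algebraMap_apply A B L,
      IsScalarTower.algebraMap_apply A K L, ← IsScalarTower.algebraMap_apply K L M]
  have hWA : Dominates A (f.comp gK₁) W := hcompat0 ▸ dom_comp_local hW
  have hV₁dom : Dominates A gK₁ V₁ := dom_comap hWA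
  haveI : IsDiscreteValuationRing V₁ :=
    isDVR_of_dominates (A := A) (K := K) (g := gK₁) (fun a => rfl) hV₁dom
  haveI : FiniteDimensional L M := finite_of_adjoin_eq_top (K := K) hadj
  haveI : IsDiscreteValuationRing W :=
    isDVR_of_dominates (A := B) (K := L) (g := g₁) (fun a => rfl) hW
  letI algAV₁ : Algebra A V₁ := (RingHom.codRestrict gK₁ V₁ hV₁dom.1).toAlgebra
  haveI : IsLocalHom (algebraMap A V₁) := dom_isLocalHom hV₁dom
  haveI hfin : Module.Finite (ResidueField A) (ResidueField V₁) :=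
    finite_residue_of_dominates (A := A) (K := K) (g := gK₁) (fun a => rfl) hV₁dom
  set g₂ := f.comp V₁.subtype with hg₂
  have hV₁W : Dominates V₁ g₂ W := dom_self_comap W f
  have hcompat : g₁.comp (algebraMap A B) = g₂.comp (algebraMap A V₁) := by
    rw [← hcompat0]; rfl
  have hres := ht.2.2 V₁ hV₁dom
  haveI hsep : Algebra.IsSeparable (ResidueField A) (ResidueField V₁) := by
    refine ⟨fun x => ?_⟩
    obtain ⟨a, ha⟩ := hres x
    have : x = algebraMap (ResidueField A) (ResidueField V₁) (residue A a) := by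
      rw [← ha]; rfl
    rw [this]
    exact isSeparable_algebraMap _
  have hVNR : IsVNR (ResidueField B ⊗[ResidueField A] ResidueField V₁) :=
    isVNR_tensor_of_separable _ _ _
  obtain ⟨ϖ₁, hϖ₁⟩ := IsDiscreteValuationRing.exists_irreducible V₁
  have hinj₂ : Function.Injective g₂ := fun a b hab => Subtype.ext (f.injective hab)
  have hgen := closure_eq_top_of_adjoin (B := B) hadj V₁
  have hwu := lemmaU_wu hcompat hw hVNR hW hV₁W hϖ₁ hinj₂ hgen
  refine ⟨hwu, ?_⟩
  -- degree bound
  have hgK₁inj : Function.Injective gK₁ :=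
    (algebraMap K K₁).injective.comp (IsFractionRing.injective A K)
  have hg₁inj : Function.Injective g₁ :=
    (algebraMap L M).injective.comp (IsFractionRing.injective B L)
  have he₁ : Ideal.ramificationIdx' (maximalIdeal A) (maximalIdeal V₁) = Module.finrank K K₁ :=
    ramIdx_eq_finrank_of_unique (A := A) (K := K) (g := gK₁) (fun a => rfl) hV₁dom
      (fun V' hV' => ht.2.1 V' V₁ hV' hV₁dom) hres
  have ht1 := tower_ram (gM := f.comp gK₁) rfl hgK₁inj hV₁dom hV₁W hWA
  have ht2 := tower_ram' hinj hcompat0 hg₁inj hW hWA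
  letI algV₁W : Algebra V₁ W := (RingHom.codRestrict g₂ W hV₁W.1).toAlgebra
  haveI : IsLocalHom (algebraMap V₁ W) := dom_isLocalHom hV₁W
  have he2 : Ideal.ramificationIdx' (maximalIdeal V₁) (maximalIdeal W) = 1 :=
    (isWeaklyUnramified_iff V₁ W (codRestrict_injective hinj₂ hV₁W.1)).1 hwu
  have he3 : Ideal.ramificationIdx' (maximalIdeal A) (maximalIdeal B) = 1 :=
    (isWeaklyUnramified_iff A B hinj).1 hw
  letI algBW : Algebra B W := (RingHom.codRestrict g₁ W hW.1).toAlgebra
  haveI : IsLocalHom (algebraMap B W) := dom_isLocalHom hW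
  letI algBM : Algebra B M := g₁.toAlgebra
  haveI : IsScalarTower B L M := IsScalarTower.of_algebraMap_eq (fun _ => rfl)
  haveI : IsScalarTower B W M := IsScalarTower.of_algebraMap_eq (fun _ => rfl)
  obtain ⟨hfinres, hle⟩ := Groth.Agent.S7132.result B W L M (codRestrict_injective hg₁inj hW.1)
  have hpos : 0 < Module.finrank (ResidueField B) (ResidueField W) := Module.finrank_pos
  rw [ht1, he₁, he2, mul_one, he3, one_mul] at ht2
  calc Module.finrank K K₁ = Ideal.ramificationIdx' (maximalIdeal B) (maximalIdeal W) := ht2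
    _ ≤ Ideal.ramificationIdx' (maximalIdeal B) (maximalIdeal W) *
        Module.finrank (ResidueField B) (ResidueField W) := Nat.le_mul_of_pos_right _ hpos
    _ ≤ _ := hle

theorem isField_tensor : IsField (L ⊗[K] K₁) := by
  haveI : Nontrivial (L ⊗[K] K₁) := inferInstance
  obtain ⟨𝔪, h𝔪⟩ := Ideal.exists_maximal (L ⊗[K] K₁)
  letI : Field ((L ⊗[K] K₁) ⧸ 𝔪) := Ideal.Quotient.field 𝔪
  letI algK₁ : Algebra K₁ ((L ⊗[K] K₁) ⧸ 𝔪) :=
    ((Ideal.Quotient.mk 𝔪).comp
      (Algebra.TensorProduct.includeRight : K₁ →ₐ[K] L ⊗[K] K₁).toRingHom).toAlgebra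
  haveI : IsScalarTower K K₁ ((L ⊗[K] K₁) ⧸ 𝔪) := IsScalarTower.of_algebraMap_eq (fun k => by
    show Ideal.Quotient.mk 𝔪 (algebraMap K (L ⊗[K] K₁) k) =
      Ideal.Quotient.mk 𝔪 (Algebra.TensorProduct.includeRight (algebraMap K K₁ k))
    rw [AlgHom.commutes])
  have hadj : Algebra.adjoin L (Set.range (algebraMap K₁ ((L ⊗[K] K₁) ⧸ 𝔪))) = ⊤ := by
    rw [eq_top_iff]
    rintro x -
    obtain ⟨t, rfl⟩ := Ideal.Quotient.mk_surjective x
    induction t using TensorProduct.induction_on with
    | zero => rw [map_zero]; exact zero_mem _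
    | tmul l k =>
      have : (l ⊗ₜ[K] k : L ⊗[K] K₁) = l • ((1 : L) ⊗ₜ[K] k) := by
        rw [TensorProduct.smul_tmul', smul_eq_mul, mul_one]
      rw [this]
      have h2 : Ideal.Quotient.mk 𝔪 (l • ((1 : L) ⊗ₜ[K] k)) =
          l • Ideal.Quotient.mk 𝔪 ((1 : L) ⊗ₜ[K] k) := rfl
      rw [h2]
      have h3 : Ideal.Quotient.mk 𝔪 ((1 : L) ⊗ₜ[K] k) ∈
          Algebra.adjoin L (Set.range (algebraMap K₁ ((L ⊗[K] K₁) ⧸ 𝔪))) :=
        Algebra.subset_adjoin ⟨k, rfl⟩
      exact Subalgebra.smul_mem _ h3 l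
    | add x y hx hy => rw [map_add]; exact add_mem hx hy
  obtain ⟨W, hW⟩ := exists_dominates
    ((algebraMap L ((L ⊗[K] K₁) ⧸ 𝔪)).comp (algebraMap B L))
  have hdeg := (weak_and_degree A B K L hinj hw K₁ ht ((L ⊗[K] K₁) ⧸ 𝔪) hadj W hW).2
  have hT : Module.finrank L (L ⊗[K] K₁) = Module.finrank K K₁ := Module.finrank_baseChange
  have hsum := Submodule.finrank_quotient_add_finrank (𝔪.restrictScalars L)
  have hq : Module.finrank L ((L ⊗[K] K₁) ⧸ 𝔪.restrictScalars L) =
      Module.finrank L ((L ⊗[K] K₁) ⧸ 𝔪) := rfl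
  have h0 : Module.finrank L (𝔪.restrictScalars L) = 0 := by
    have hle : Module.finrank L ((L ⊗[K] K₁) ⧸ 𝔪) ≤ Module.finrank L (L ⊗[K] K₁) := by
      rw [← hsum, hq]; exact Nat.le_add_right _ _
    omega
  have hbot : 𝔪 = ⊥ := by
    have := Submodule.finrank_eq_zero.1 h0
    apply le_antisymm _ bot_le
    intro x hx
    have hx' : x ∈ 𝔪.restrictScalars L := hx
    rw [this] at hx'
    exact hx'
  subst hbot
  refine ⟨⟨0, 1, zero_ne_one⟩, mul_comm, fun {a} ha => ?_⟩
  have hsp : Ideal.span {a} = ⊤ := by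
    by_contra hne
    have hlt : (⊥ : Ideal (L ⊗[K] K₁)) < Ideal.span {a} := by
      rw [bot_lt_iff_ne_bot, Ne, Ideal.span_singleton_eq_bot]
      exact ha
    exact hne (h𝔪.1.2 _ hlt)
  obtain ⟨b, hb⟩ := Ideal.mem_span_singleton'.1 (hsp ▸ Submodule.mem_top : (1 : L ⊗[K] K₁) ∈ Ideal.span {a})
  exact ⟨b, by rw [mul_comm]; exact hb⟩

end

theorem main (A B K L : Type u) [CommRing A] [IsDomain A] [IsDiscreteValuationRing A]
    [CommRing B] [IsDomain B] [IsDiscreteValuationRing B] [Algebra A B] [IsLocalHom (algebraMap A B)]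
    (hinj : Function.Injective (algebraMap A B))
    [Field K] [Field L] [Algebra A K] [IsFractionRing A K] [Algebra B L] [IsFractionRing B L]
    [Algebra K L] [Algebra A L] [IsScalarTower A K L] [IsScalarTower A B L]
    (hw : EtRam.IsWeaklyUnramified A B) (K₁ : Type u) [Field K₁] [Algebra K K₁] [FiniteDimensional K K₁]
    [Algebra.IsSeparable K K₁] (ht : EtRam.IsTotallyRamified A ((algebraMap K K₁).comp (algebraMap A K))) :
    IsField (L ⊗[K] K₁) ∧ EtRam.IsWeakSolution B K L K₁ :=
  ⟨isField_tensor A B K L hinj hw K₁ ht, fun M _ _ _ _ _ _ hadj W hW =>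
    (weak_and_degree A B K L hinj hw K₁ ht M hadj W hW).1⟩

end Aux

open TensorProduct in
/-- Let A -> B be a weakly unramified extension of discrete valuation rings with fraction fields K ⊂ L,
and K₁/K a finite separable extension which is totally ramified with respect to A. Then L ⊗_K K₁ is
a field and K₁ is a weak solution for A -> B (the valuation ring of L ⊗_K K₁ over B is weakly
unramified over that of K₁ over A). -/
theorem result (A B K L : Type u) [CommRing A] [IsDomain A] [IsDiscreteValuationRing A]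
    [CommRing B] [IsDomain B] [IsDiscreteValuationRing B] [Algebra A B] [IsLocalHom (algebraMap A B)]
    (hinj : Function.Injective (algebraMap A B))
    [Field K] [Field L] [Algebra A K] [IsFractionRing A K] [Algebra B L] [IsFractionRing B L]
    [Algebra K L] [Algebra A L] [IsScalarTower A K L] [IsScalarTower A B L]
    (hw : EtRam.IsWeaklyUnramified A B) (K₁ : Type u) [Field K₁] [Algebra K K₁] [FiniteDimensional K K₁]
    [Algebra.IsSeparable K K₁] (ht : EtRam.IsTotallyRamified A ((algebraMap K K₁).comp (algebraMap A K))) :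
    IsField (L ⊗[K] K₁) ∧ EtRam.IsWeakSolution B K L K₁ := by
  exact Aux.main A B K L hinj hw K₁ ht

end Groth.Agent.S1984
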