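import Groth.Statements.S7133
import Mathlib
import Groth.Agent.Lib.Helper5.Misc.DVRRam

set_option autoImplicit false
universe u
open EtAlg

open Groth.Agent.Helper5

namespace Groth.Agent.S7133

/-- For an injective local homomorphism A → B of discrete valuation rings whose fields of fractions are
K ⊆ L: if K has characteristic p > 0 and L/K is purely inseparable, then the ramification index of B
over A is a power of p. -/
theorem result (A B K L : Type u) [CommRing A] [IsDomain A]
    [IsDiscreteValuationRing A] [CommRing B] [IsDomain B] [IsDiscreteValuationRing B] [Algebra A B]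
    (hinj : Function.Injective (algebraMap A B)) [IsLocalHom (algebraMap A B)]
    [Field K] [Field L] [Algebra A K] [IsFractionRing A K] [Algebra B L] [IsFractionRing B L]
    [Algebra K L] [Algebra A L] [IsScalarTower A K L] [IsScalarTower A B L]
    (p : ℕ) (hp : p.Prime) [CharP K p] [IsPurelyInseparable K L] :
    ∃ k : ℕ, Ideal.ramificationIdx' (IsLocalRing.maximalIdeal A) (IsLocalRing.maximalIdeal B) =
      p ^ k := by
  obtain ⟨ϖA, ϖB, w0, hA, hB, h, hpos⟩ := DVRRam.exists_uniformizers A B hinj
  haveI : ExpChar K p := ExpChar.prime hp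
  obtain ⟨n, α, hα⟩ := IsPurelyInseparable.pow_mem K p (algebraMap B L ϖB)
  have hϖ0 : algebraMap B L ϖB ≠ 0 := by
    rw [Ne, map_eq_zero_iff _ (IsFractionRing.injective B L)]
    exact hB.ne_zero
  have hα0 : α ≠ 0 := by
    rintro rfl
    rw [map_zero] at hα
    exact pow_ne_zero _ hϖ0 hα.symm
  have hrel : algebraMap B L ϖB ^ (p ^ n) =
      algebraMap K L α * algebraMap B L ((1 : Bˣ) : B) * algebraMap B L ϖB ^ 0 := by
    simp [hα]
  obtain ⟨k, k', hk⟩ := DVRRam.exponent_relation A B K L hA hB h α hα0 1 (p ^ n) 0 hrel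
  have hdvd : Ideal.ramificationIdx' (IsLocalRing.maximalIdeal A) (IsLocalRing.maximalIdeal B) ∣
      p ^ n := by
    rw [add_zero] at hk
    exact (Nat.dvd_add_right (Dvd.intro k' rfl)).1 (hk ▸ Dvd.intro k rfl)
  obtain ⟨m, _, hm⟩ := (Nat.dvd_prime_pow hp).1 hdvd
  exact ⟨m, hm⟩

end Groth.Agent.S7133
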