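import Groth.Statements.S13802
import Mathlib
import Groth.Prelude.Def_W4c1chowmix47Eta
import Groth.Agent.Lib.Helper9.EtaPt
import Groth.Agent.Lib.Helper9.EtaPt2
import Groth.Agent.Lib.Helper9.EtaPt3
import Groth.Agent.Lib.Helper9.EtaPt4
import Groth.Agent.Lib.Helper9.EtaPt5
-- import your own Groth.Agent.* helpers here

set_option autoImplicit false
universe u
open EtaPt

namespace Groth.Agent.S13802

open EtaPt
namespace Aux
open Groth.Agent.Helper9.EtaPtLib

/-- for each prime, a monic polynomial killing the component of `x` there. -/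
lemma exists_monic_comp (η : EtaPt.FieldEndo.{u}) (A : Type u) [CommRing A]
    (x : η.N A) (hx : x ∈ η.M A) (p : PrimeSpectrum A) :
    ∃ Q : Polynomial A, Q.Monic ∧
      Polynomial.eval₂ ((η.eta p.asIdeal.ResidueField).comp (algebraMap A p.asIdeal.ResidueField))
        (x p) Q = 0 := by
  obtain ⟨n, a, ha⟩ := η.exists_pow_mem_range_eta p.asIdeal.ResidueField (x p)
  set m := ringExpChar p.asIdeal.ResidueField ^ n with hm
  have hmpos : 0 < m := pow_pos (ringExpChar_pos _) n
  obtain ⟨P, hPm, hP⟩ := isIntegralElem_of_pow η x hx p a m ha.symm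
  refine ⟨Polynomial.expand A m P, hPm.expand hmpos, ?_⟩
  rw [Polynomial.expand_eq_comp_X_pow, Polynomial.eval₂_comp, Polynomial.eval₂_pow,
    Polynomial.eval₂_X, ← ha, ← Polynomial.hom_eval₂, hP, map_zero]

theorem main (η : EtaPt.FieldEndo.{u}) (A : Type u) [CommRing A]
    (hA : (minimalPrimes A).Finite) : (η.q A).IsIntegral := by
  classical
  rintro ⟨x, hx⟩
  -- choose polynomials for each minimal prime
  have hex : ∀ I : Ideal A, ∃ Q : Polynomial A, Q.Monic ∧
      ∀ (hI : I.IsPrime), Polynomial.eval₂
        ((η.eta (PrimeSpectrum.mk I hI).asIdeal.ResidueField).comp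
          (algebraMap A (PrimeSpectrum.mk I hI).asIdeal.ResidueField)) (x ⟨I, hI⟩) Q = 0 := by
    intro I
    by_cases hI : I.IsPrime
    · obtain ⟨Q, hQm, hQ⟩ := exists_monic_comp η A x hx ⟨I, hI⟩
      exact ⟨Q, hQm, fun _ => hQ⟩
    · exact ⟨1, Polynomial.monic_one, fun h => (hI h).elim⟩
  choose Qf hQm hQ using hex
  let Q : Polynomial A := ∏ I ∈ hA.toFinset, Qf I
  have hQmonic : Q.Monic := Polynomial.monic_prod_of_monic _ _ (fun I _ => hQm I)
  refine ⟨Q, hQmonic, ?_⟩
  apply Subtype.ext
  have hcoe : ((Polynomial.eval₂ (η.q A) (⟨x, hx⟩ : η.M A) Q : η.M A) : η.N A) =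
      Polynomial.eval₂ (η.t A) x Q := by
    have := Polynomial.hom_eval₂ Q (η.q A) (η.M A).subtype ⟨x, hx⟩
    exact this
  rw [hcoe]
  show Polynomial.eval₂ (η.t A) x Q = 0
  apply eq_zero_of_minimal η
  · rw [← hcoe]; exact Subtype.property _
  · intro p hp
    have h1 : (Polynomial.eval₂ (η.t A) x Q) p =
        Polynomial.eval₂ ((η.eta p.asIdeal.ResidueField).comp (algebraMap A p.asIdeal.ResidueField))
          (x p) Q := by
      have := Polynomial.hom_eval₂ Q (η.t A)
        (Pi.evalRingHom (fun p : PrimeSpectrum A => η.obj p.asIdeal.ResidueField) p) x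
      exact this
    rw [h1]
    show Polynomial.eval₂ _ (x p) (∏ I ∈ hA.toFinset, Qf I) = 0
    rw [Polynomial.eval₂_finsetProd]
    apply Finset.prod_eq_zero (i := p.asIdeal) (by rw [Set.Finite.mem_toFinset]; exact hp)
    exact hQ p.asIdeal p.isPrime

end Aux

/-- For a commutative ring A with finitely many minimal prime ideals, the canonical map q_A from A to
the pointwise ring M_η(A) is integral. Here η is a natural transformation from the identity of the
category of fields to an endofunctor F with F(η_K) bijective and η_K purely inseparable for every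
field K, N_η(A) is the product of the F(k(p)) over the primes p of A with diagonal map t_A, and
M_η(A) ⊆ N_η(A) is the subring of elements sent into the range of t_R by every ring map from A to a
valuation ring R at whose fraction field η is bijective; q_A : A → M_η(A) is the corestriction of
t_A. -/
theorem result (η : EtaPt.FieldEndo.{u}) (A : Type u) [CommRing A]
    (hA : (minimalPrimes A).Finite) : (η.q A).IsIntegral := by
  exact Aux.main η A hA

end Groth.Agent.S13802
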