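import Groth.Statements.S13811
import Mathlib
import Groth.Prelude.Def_W4c1chowmix47Eta
import Groth.Agent.Lib.Helper9.EtaPt
import Groth.Agent.Lib.Helper9.EtaPt2
-- import your own Groth.Agent.* helpers here

set_option autoImplicit false
universe u
open EtaPt

namespace Groth.Agent.S13811

open EtaPt
namespace Aux
open Groth.Agent.Helper9.EtaPtLib

theorem main (η : EtaPt.FieldEndo.{u}) {A B : Type u} [CommRing A] [CommRing B] (f : A →+* B)
    (hf : f.IsIntegral) (hN : Function.Bijective (η.Nmap f))
    (R : Type u) [CommRing R] [IsDomain R] [ValuationRing R] (hR : η.InV R) (g : A →+* R) :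
    ∃ g' : B →+* R, g'.comp f = g := by
  let q₀ : PrimeSpectrum R := ⟨⊥, Ideal.isPrime_bot⟩
  let p : PrimeSpectrum A := PrimeSpectrum.comap g q₀
  obtain ⟨q, hq⟩ := exists_over_of_Nmap_injective η f hN.1 p
  have hpq : p.asIdeal = q.asIdeal.comap f := by rw [← hq]; rfl
  set ψ := Ideal.ResidueField.map p.asIdeal q.asIdeal f hpq with hψ
  have hψbij : Function.Bijective (η.map ψ) :=
    ⟨(η.map ψ).injective, map_surjective_of_Nmap_surjective η f hN.2 q p hpq⟩
  have hκ := inV_bot η R hR
  have hpq₀ : p.asIdeal = q₀.asIdeal.comap g := rfl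
  set φ := Ideal.ResidueField.map p.asIdeal q₀.asIdeal g hpq₀ with hφ
  let e₁ := RingEquiv.ofBijective (η.map ψ) hψbij
  let e₂ := RingEquiv.ofBijective (η.eta (⊥ : Ideal R).ResidueField) hκ
  let σ : q.asIdeal.ResidueField →+* (⊥ : Ideal R).ResidueField :=
    (e₂.symm : _ →+* _).comp ((η.map φ).comp ((e₁.symm : _ →+* _).comp (η.eta q.asIdeal.ResidueField)))
  have hσ : ∀ a, σ (ψ a) = φ a := by
    intro a
    show e₂.symm (η.map φ (e₁.symm (η.eta _ (ψ a)))) = φ a
    rw [← eta_natural_apply η ψ a]
    have : e₁.symm (η.map ψ (η.eta _ a)) = η.eta _ a := e₁.symm_apply_apply _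
    rw [this, eta_natural_apply η φ a]
    exact e₂.symm_apply_apply _
  let g₀ : B →+* (⊥ : Ideal R).ResidueField := σ.comp (algebraMap B q.asIdeal.ResidueField)
  have hg₀f : ∀ a, g₀ (f a) = algebraMap R (⊥ : Ideal R).ResidueField (g a) := by
    intro a
    show σ (algebraMap B q.asIdeal.ResidueField (f a)) = _
    rw [← Ideal.ResidueField.map_algebraMap p.asIdeal q.asIdeal f hpq a, ← hψ, hσ, hφ,
      Ideal.ResidueField.map_algebraMap]
  have hint : ∀ b, ∃ r : R, algebraMap R (⊥ : Ideal R).ResidueField r = g₀ b := by
    intro b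
    obtain ⟨P, hPm, hP⟩ := hf b
    have hintb : IsIntegral R (g₀ b) := by
      refine ⟨P.map g, hPm.map g, ?_⟩
      rw [Polynomial.eval₂_map]
      have hcomp : (algebraMap R (⊥ : Ideal R).ResidueField).comp g = g₀.comp f :=
        RingHom.ext fun a => (hg₀f a).symm
      rw [hcomp, ← Polynomial.hom_eval₂, hP, map_zero]
    exact (IsIntegrallyClosed.isIntegral_iff (R := R) (K := (⊥ : Ideal R).ResidueField)).1 hintb
  have hinj : Function.Injective (algebraMap R (⊥ : Ideal R).ResidueField) :=
    IsFractionRing.injective R _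
  let e₃ := RingEquiv.ofBijective (algebraMap R (⊥ : Ideal R).ResidueField).rangeRestrict
    ⟨fun a b hab => hinj (congrArg Subtype.val hab), RingHom.rangeRestrict_surjective _⟩
  let g' : B →+* R := (e₃.symm : _ →+* _).comp
    (g₀.codRestrict (algebraMap R (⊥ : Ideal R).ResidueField).range (fun b => hint b))
  have hg' : ∀ b, algebraMap R (⊥ : Ideal R).ResidueField (g' b) = g₀ b := by
    intro b
    have h1 : e₃ (g' b) = g₀.codRestrict _ (fun b => hint b) b := e₃.apply_symm_apply _
    exact congrArg Subtype.val h1
  refine ⟨g', RingHom.ext fun a => hinj ?_⟩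
  rw [RingHom.comp_apply, hg', hg₀f]

end Aux

/-- If f : A → B is an integral ring map with N_η(f) bijective, then every ring map from A to a
valuation ring R at whose fraction field η is bijective factors through f. Here η is a natural
transformation from the identity of the category of fields to an endofunctor F with F(η_K) bijective
and η_K purely inseparable for every field K, N_η(A) is the product of the F(k(p)) over the primes p
of A with diagonal map t_A, and M_η(A) ⊆ N_η(A) is the subring of elements sent into the range of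
t_R by every ring map from A to a valuation ring R at whose fraction field η is bijective; q_A : A →
M_η(A) is the corestriction of t_A. -/
theorem result (η : EtaPt.FieldEndo.{u}) {A B : Type u} [CommRing A] [CommRing B] (f : A →+* B)
    (hf : f.IsIntegral) (hN : Function.Bijective (η.Nmap f))
    (R : Type u) [CommRing R] [IsDomain R] [ValuationRing R] (hR : η.InV R) (g : A →+* R) :
    ∃ g' : B →+* R, g'.comp f = g := by
  exact Aux.main η f hf hN R hR g

end Groth.Agent.S13811
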