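import Groth.Statements.S13803
import Mathlib
import Groth.Prelude.Def_W4c1chowmix47Eta
import Groth.Agent.Lib.Helper9.EtaPt
import Groth.Agent.Lib.Helper9.EtaPt2
import Groth.Agent.Lib.Helper9.EtaPt3
import Groth.Agent.Lib.Helper9.EtaPt4
import Groth.Agent.Lib.Helper9.EtaPt5
import Groth.Agent.Lib.Helper9.EtaPt6
-- import your own Groth.Agent.* helpers here

set_option autoImplicit false
universe u
open EtaPt

namespace Groth.Agent.S13803

open EtaPt
namespace Aux
open Groth.Agent.Helper9.EtaPtLib

/-- the residue factorization at `Q = Q_P`. -/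
lemma residue_factor (η : EtaPt.FieldEndo.{u}) (A : Type u) [CommRing A]
    (Q : PrimeSpectrum (η.M A)) (P : PrimeSpectrum A)
    (hP : P.asIdeal = Q.asIdeal.comap (η.q A)) (hQ : Q = QP η A P) :
    ∃ φ : Q.asIdeal.ResidueField →+* η.obj P.asIdeal.ResidueField,
      φ.comp (Ideal.ResidueField.map P.asIdeal Q.asIdeal (η.q A) hP) =
        η.eta P.asIdeal.ResidueField := by
  have h1 : Q.asIdeal ≤ RingHom.ker (piP η A P) := by
    rw [hQ]; exact le_rfl
  have h2 : Q.asIdeal.primeCompl ≤ (IsUnit.submonoid _).comap (piP η A P) := by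
    intro x hx
    show IsUnit (piP η A P x)
    apply IsUnit.mk0
    intro h0
    apply hx
    rw [hQ]
    exact h0
  refine ⟨Ideal.ResidueField.lift Q.asIdeal (piP η A P) h1 h2, ?_⟩
  apply Ideal.ResidueField.ringHom_ext
  ext a
  simp only [RingHom.comp_apply]
  rw [Ideal.ResidueField.map_algebraMap, Ideal.ResidueField.lift_algebraMap]
  rfl

theorem main (η : EtaPt.FieldEndo.{u}) (A : Type u) [CommRing A]
    (hA : (minimalPrimes A).Finite) :
    Function.Bijective (PrimeSpectrum.comap (η.q A)) ∧
      ∀ Q : PrimeSpectrum (η.M A),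
        ∃ φ : Q.asIdeal.ResidueField →+* η.obj (PrimeSpectrum.comap (η.q A) Q).asIdeal.ResidueField,
          φ.comp (Ideal.ResidueField.map (PrimeSpectrum.comap (η.q A) Q).asIdeal Q.asIdeal (η.q A) rfl) =
            η.eta (PrimeSpectrum.comap (η.q A) Q).asIdeal.ResidueField := by
  refine ⟨⟨?_, ?_⟩, ?_⟩
  · intro Q Q' hQQ
    have h1 := eq_QP_of_comap η hA Q (PrimeSpectrum.comap (η.q A) Q) rfl
    have h2 := eq_QP_of_comap η hA Q' (PrimeSpectrum.comap (η.q A) Q) (by rw [hQQ]; rfl)
    rw [h1, ← h2]
  · intro P
    exact ⟨QP η A P, PrimeSpectrum.ext (comap_q_QP η A P).symm⟩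
  · intro Q
    exact residue_factor η A Q (PrimeSpectrum.comap (η.q A) Q) rfl
      (eq_QP_of_comap η hA Q (PrimeSpectrum.comap (η.q A) Q) rfl)

end Aux

/-- For a commutative ring A with finitely many minimal prime ideals, Spec of q_A : A → M_η(A) is a
bijection, and for a prime Q of M_η(A) over the prime P of A the map η at k(P), from k(P) to
F(k(P)), factors through the residue field map k(P) → k(Q). Here η is a natural transformation from
the identity of the category of fields to an endofunctor F with F(η_K) bijective and η_K purely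
inseparable for every field K, N_η(A) is the product of the F(k(p)) over the primes p of A with
diagonal map t_A, and M_η(A) ⊆ N_η(A) is the subring of elements sent into the range of t_R by every
ring map from A to a valuation ring R at whose fraction field η is bijective; q_A : A → M_η(A) is
the corestriction of t_A. -/
theorem result (η : EtaPt.FieldEndo.{u}) (A : Type u) [CommRing A]
    (hA : (minimalPrimes A).Finite) :
    Function.Bijective (PrimeSpectrum.comap (η.q A)) ∧
      ∀ Q : PrimeSpectrum (η.M A),
        ∃ φ : Q.asIdeal.ResidueField →+* η.obj (PrimeSpectrum.comap (η.q A) Q).asIdeal.ResidueField,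
          φ.comp (Ideal.ResidueField.map (PrimeSpectrum.comap (η.q A) Q).asIdeal Q.asIdeal (η.q A) rfl) =
            η.eta (PrimeSpectrum.comap (η.q A) Q).asIdeal.ResidueField := by
  exact Aux.main η A hA

end Groth.Agent.S13803
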