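import Groth.Statements.S13804
import Mathlib
import Groth.Prelude.Def_W4c1chowmix47Eta
import Groth.Agent.Lib.Helper9.EtaPt
import Groth.Agent.Lib.Helper9.EtaPt2
import Groth.Agent.Lib.Helper9.EtaPt3
import Groth.Agent.Lib.Helper9.EtaPt4
import Groth.Agent.Lib.Helper9.EtaPt5
import Groth.Agent.Lib.Helper9.EtaPt6
import Groth.Agent.S13803
-- import your own Groth.Agent.* helpers here

set_option autoImplicit false
universe u
open EtaPt

namespace Groth.Agent.S13804

open EtaPt
namespace Aux
open Groth.Agent.Helper9.EtaPtLib

lemma map_bijective_of_factor (η : EtaPt.FieldEndo.{u}) {K L : Type u} [Field K] [Field L]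
    (ψ : K →+* L) (φ : L →+* η.obj K) (h : φ.comp ψ = η.eta K) :
    Function.Bijective (η.map ψ) := by
  refine ⟨(η.map ψ).injective, fun z => ?_⟩
  obtain ⟨u, hu⟩ := (η.bijective_map_eta K).2 (η.map φ z)
  refine ⟨u, (η.map φ).injective ?_⟩
  rw [← hu, ← h, η.map_comp]
  rfl

theorem main (η : EtaPt.FieldEndo.{u}) (A : Type u) [CommRing A]
    (hA : (minimalPrimes A).Finite) : Function.Bijective (η.Nmap (η.q A)) := by
  have hbij : ∀ P : PrimeSpectrum A, Function.Bijective
      (η.map (Ideal.ResidueField.map P.asIdeal (QP η A P).asIdeal (η.q A) (comap_q_QP η A P))) := by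
    intro P
    obtain ⟨φ, hφ⟩ := Groth.Agent.S13803.Aux.residue_factor η A (QP η A P) P (comap_q_QP η A P) rfl
    exact map_bijective_of_factor η _ φ hφ
  constructor
  · intro x x' hxx
    funext P
    have h1 := congrFun hxx (QP η A P)
    rw [Nmap_apply' η (η.q A) x (QP η A P) P (comap_q_QP η A P),
      Nmap_apply' η (η.q A) x' (QP η A P) P (comap_q_QP η A P)] at h1
    exact (hbij P).1 h1
  · intro y
    choose x hx using fun P => (hbij P).2 (y (QP η A P))
    refine ⟨x, ?_⟩
    funext Q
    have key : ∀ P' : PrimeSpectrum A, Q = QP η A P' → η.Nmap (η.q A) x Q = y Q := by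
      intro P' hQ
      subst hQ
      rw [Nmap_apply' η (η.q A) x (QP η A P') P' (comap_q_QP η A P')]
      exact hx P'
    exact key _ (eq_QP_of_comap η hA Q (PrimeSpectrum.comap (η.q A) Q) rfl)

end Aux

/-- For a commutative ring A with finitely many minimal prime ideals, the map N_η(q_A) : N_η(A) →
N_η(M_η(A)) is bijective. Here η is a natural transformation from the identity of the category of
fields to an endofunctor F with F(η_K) bijective and η_K purely inseparable for every field K,
N_η(A) is the product of the F(k(p)) over the primes p of A with diagonal map t_A, and M_η(A) ⊆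
N_η(A) is the subring of elements sent into the range of t_R by every ring map from A to a valuation
ring R at whose fraction field η is bijective; q_A : A → M_η(A) is the corestriction of t_A. -/
theorem result (η : EtaPt.FieldEndo.{u}) (A : Type u) [CommRing A]
    (hA : (minimalPrimes A).Finite) : Function.Bijective (η.Nmap (η.q A)) := by
  exact Aux.main η A hA

end Groth.Agent.S13804
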