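import Groth.Statements.S13815
import Mathlib
import Groth.Prelude.Def_W4c1chowmix47Eta
import Groth.Agent.Lib.Helper9.EtaPt
import Groth.Agent.Lib.Helper9.EtaPt2
import Groth.Agent.Lib.Helper9.EtaPt3
import Groth.Agent.Lib.Helper9.EtaPt4
import Groth.Agent.Lib.Helper9.EtaPt5
import Groth.Agent.Lib.Helper9.EtaPt6
import Groth.Agent.S13802
import Groth.Agent.S13803
import Groth.Agent.S13804
import Groth.Agent.S13812
-- import your own Groth.Agent.* helpers here

set_option autoImplicit false
universe u
open EtaPt

namespace Groth.Agent.S13815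

open EtaPt
namespace Aux
open Groth.Agent.Helper9.EtaPtLib

/-- `F(η_K) = η_{F K}`. -/
lemma map_eta_eq_eta (η : EtaPt.FieldEndo.{u}) (K : Type u) [Field K] :
    η.map (η.eta K) = η.eta (η.obj K) := by
  ext u
  obtain ⟨n, a, ha⟩ := η.exists_pow_mem_range_eta K u
  apply eq_of_pow_eq η (η.eta K) (n := n)
  rw [← map_pow, ← map_pow, ← ha]
  exact eta_natural_apply η (η.eta K) a

/-- the residue factorization at `Q = Q_P`, with its value on `M A`. -/
lemma residue_factor' (η : EtaPt.FieldEndo.{u}) (A : Type u) [CommRing A]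
    (P : PrimeSpectrum A) :
    ∃ φ : (QP η A P).asIdeal.ResidueField →+* η.obj P.asIdeal.ResidueField,
      φ.comp (Ideal.ResidueField.map P.asIdeal (QP η A P).asIdeal (η.q A) (comap_q_QP η A P)) =
        η.eta P.asIdeal.ResidueField ∧
      ∀ x : η.M A, φ (algebraMap (η.M A) (QP η A P).asIdeal.ResidueField x) = (x : η.N A) P := by
  have h1 : (QP η A P).asIdeal ≤ RingHom.ker (piP η A P) := le_rfl
  have h2 : (QP η A P).asIdeal.primeCompl ≤ (IsUnit.submonoid _).comap (piP η A P) := by
    intro x hx
    show IsUnit (piP η A P x)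
    apply IsUnit.mk0
    intro h0
    exact hx h0
  refine ⟨Ideal.ResidueField.lift (QP η A P).asIdeal (piP η A P) h1 h2, ?_, ?_⟩
  · apply Ideal.ResidueField.ringHom_ext
    ext a
    simp only [RingHom.comp_apply]
    rw [Ideal.ResidueField.map_algebraMap, Ideal.ResidueField.lift_algebraMap]
    rfl
  · intro x
    rw [Ideal.ResidueField.lift_algebraMap]
    rfl

lemma Nmap_q_eq_t (η : EtaPt.FieldEndo.{u}) (A : Type u) [CommRing A]
    (hA : (minimalPrimes A).Finite) (x : η.M A) :
    η.Nmap (η.q A) (x : η.N A) = η.t (η.M A) x := by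
  funext Q
  have key : ∀ P' : PrimeSpectrum A, Q = QP η A P' →
      η.Nmap (η.q A) (x : η.N A) Q = η.t (η.M A) x Q := by
    intro P hQ
    subst hQ
    obtain ⟨φ, hφ, hφx⟩ := residue_factor' η A P
    rw [Nmap_apply' η (η.q A) _ (QP η A P) P (comap_q_QP η A P), t_apply]
    apply (η.map φ).injective
    have h1 : η.map φ (η.map (Ideal.ResidueField.map P.asIdeal (QP η A P).asIdeal (η.q A)
        (comap_q_QP η A P)) ((x : η.N A) P)) = η.map (η.eta P.asIdeal.ResidueField) ((x : η.N A) P) := by
      rw [← hφ, η.map_comp]; rfl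
    rw [h1, eta_natural_apply, map_eta_eq_eta]
    congr 1
    exact (hφx x).symm
  exact key _ (eq_QP_of_comap η hA Q (PrimeSpectrum.comap (η.q A) Q) rfl)

theorem main (η : EtaPt.FieldEndo.{u}) (A : Type u) [CommRing A] (hA : (minimalPrimes A).Finite) :
    (∀ x : η.M A, η.Nmap (η.q A) (x : η.N A) = η.t (η.M A) x) ∧ Function.Bijective (η.q (η.M A)) := by
  refine ⟨Nmap_q_eq_t η A hA, ?_, ?_⟩
  · intro x x' hxx
    have h1 : η.t (η.M A) x = η.t (η.M A) x' := congrArg Subtype.val hxx
    rw [← Nmap_q_eq_t η A hA, ← Nmap_q_eq_t η A hA] at h1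
    exact Subtype.ext ((Groth.Agent.S13804.result η A hA).1 h1)
  · rintro ⟨y, hy⟩
    have hbij := Groth.Agent.S13812.result η (η.q A) (Groth.Agent.S13802.result η A hA)
      (Groth.Agent.S13804.result η A hA)
    obtain ⟨x, hx, hxy⟩ := hbij.2.2 hy
    refine ⟨⟨x, hx⟩, Subtype.ext ?_⟩
    show η.t (η.M A) ⟨x, hx⟩ = y
    rw [← Nmap_q_eq_t η A hA]
    exact hxy

end Aux

/-- For a commutative ring A with finitely many minimal prime ideals, the two maps M_η(A) → M_η(M_η(A)),
namely q at the ring M_η(A) and the restriction of N_η(q_A), coincide, and this map is bijective.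
Here η is a natural transformation from the identity of the category of fields to an endofunctor F
with F(η_K) bijective and η_K purely inseparable for every field K, N_η(A) is the product of the
F(k(p)) over the primes p of A with diagonal map t_A, and M_η(A) ⊆ N_η(A) is the subring of elements
sent into the range of t_R by every ring map from A to a valuation ring R at whose fraction field η
is bijective; q_A : A → M_η(A) is the corestriction of t_A. -/
theorem result (η : EtaPt.FieldEndo.{u}) (A : Type u) [CommRing A] (hA : (minimalPrimes A).Finite) :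
    (∀ x : η.M A, η.Nmap (η.q A) (x : η.N A) = η.t (η.M A) x) ∧ Function.Bijective (η.q (η.M A)) := by
  exact Aux.main η A hA

end Groth.Agent.S13815
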