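import Groth.Statements.S13805
import Mathlib
import Groth.Prelude.Def_W4c1chowmix47Eta
import Groth.Agent.Lib.Helper9.EtaPt
import Groth.Agent.Lib.Helper9.EtaPt2
import Groth.Agent.S13812
import Groth.Agent.S13815
-- import your own Groth.Agent.* helpers here

set_option autoImplicit false
universe u
open EtaPt

namespace Groth.Agent.S13805

open EtaPt
namespace Aux
open Groth.Agent.Helper9.EtaPtLib

lemma t_injective_of_isReduced (η : EtaPt.FieldEndo.{u}) (B : Type u) [CommRing B] [IsReduced B] :
    Function.Injective (η.t B) := by
  rw [injective_iff_map_eq_zero]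
  intro b hb
  have hnil : b ∈ nilradical B := by
    rw [nilradical_eq_sInf, Ideal.mem_sInf]
    intro I hI
    have hI' : I.IsPrime := hI
    let P : PrimeSpectrum B := ⟨I, hI'⟩
    have h1 := congrFun hb P
    rw [t_apply] at h1
    have h2 : algebraMap B P.asIdeal.ResidueField b = 0 :=
      (η.eta P.asIdeal.ResidueField).injective
        (h1.trans (map_zero (η.eta P.asIdeal.ResidueField)).symm)
    exact Ideal.algebraMap_residueField_eq_zero.1 h2
  exact (nilradical_eq_zero B ▸ hnil : b ∈ (0 : Ideal B))

theorem main (η : EtaPt.FieldEndo.{u}) (A : Type u) [CommRing A]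
    (hA : (minimalPrimes A).Finite) (B : Type u) [CommRing B] [IsReduced B] (f : η.M A →+* B)
    (hf : f.IsIntegral) (hN : Function.Bijective (η.Nmap f)) : Function.Bijective f := by
  have h15 := Groth.Agent.S13815.result η A hA
  have hbij := Groth.Agent.S13812.result η f hf hN
  constructor
  · intro m m' hmm
    apply h15.2.1
    apply Subtype.ext
    show η.t (η.M A) m = η.t (η.M A) m'
    apply hN.1
    rw [η.Nmap_t_apply, η.Nmap_t_apply, hmm]
  · intro b
    obtain ⟨x, hx, hxb⟩ := hbij.2.2 (η.t_mem_M B b)
    obtain ⟨m, hm⟩ := h15.2.2 ⟨x, hx⟩
    refine ⟨m, t_injective_of_isReduced η B ?_⟩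
    rw [← hxb, ← η.Nmap_t_apply]
    congr 1
    exact congrArg Subtype.val hm

end Aux

/-- For a commutative ring A with finitely many minimal prime ideals, every integral ring map f from
M_η(A) to a reduced ring B with N_η(f) bijective is itself bijective. Here η is a natural
transformation from the identity of the category of fields to an endofunctor F with F(η_K) bijective
and η_K purely inseparable for every field K, N_η(A) is the product of the F(k(p)) over the primes p
of A with diagonal map t_A, and M_η(A) ⊆ N_η(A) is the subring of elements sent into the range of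
t_R by every ring map from A to a valuation ring R at whose fraction field η is bijective; q_A : A →
M_η(A) is the corestriction of t_A. -/
theorem result (η : EtaPt.FieldEndo.{u}) (A : Type u) [CommRing A]
    (hA : (minimalPrimes A).Finite) (B : Type u) [CommRing B] [IsReduced B] (f : η.M A →+* B)
    (hf : f.IsIntegral) (hN : Function.Bijective (η.Nmap f)) : Function.Bijective f := by
  exact Aux.main η A hA B f hf hN

end Groth.Agent.S13805
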