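import Groth.Statements.S14453
import Mathlib
-- import your own Groth.Agent.* helpers here

set_option autoImplicit false
universe w u
open CategoryTheory AlgebraicGeometry
open EtCore

namespace Groth.Agent.S14453

open CategoryTheory AlgebraicGeometry
namespace Aux
open CategoryTheory CategoryTheory.Limits AlgebraicGeometry Opposite
set_option backward.isDefEq.respectTransparency false
set_option linter.unusedSectionVars false
set_option linter.style.haveILetI false

abbrev Jzar (X : Scheme.{u}) : GrothendieckTopology X.Etale :=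
  X.smallGrothendieckTopology (P := @IsOpenImmersion)

theorem isOpenImmersion_le_etale : (@IsOpenImmersion : MorphismProperty Scheme.{u}) ≤ @Etale :=
  fun _ _ _ h => by
    have := h
    infer_instance

theorem mem_zar_iff {X : Scheme.{u}} (U : X.Etale) (R : Sieve U) :
    R ∈ Jzar X U ↔ ∀ x : U.left, ∃ (Y : X.Etale) (f : Y ⟶ U) (y : Y.left),
      R f ∧ IsOpenImmersion f.left ∧ f.left y = x := by
  rw [Jzar, Scheme.smallGrothendieckTopology_eq_toGrothendieck_smallPretopology X
    isOpenImmersion_le_etale]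
  exact Scheme.mem_toGrothendieck_smallPretopology U R

theorem mem_et_iff {X : Scheme.{u}} (U : X.Etale) (R : Sieve U) :
    R ∈ X.smallEtaleTopology U ↔ ∀ x : U.left, ∃ (Y : X.Etale) (f : Y ⟶ U) (y : Y.left),
      R f ∧ Etale f.left ∧ f.left y = x := by
  rw [Scheme.smallEtaleTopology, Scheme.smallGrothendieckTopology_eq_toGrothendieck_smallPretopology X
    le_rfl]
  exact Scheme.mem_toGrothendieck_smallPretopology U R


/-- affine surjective refinement of an open map near a point -/
theorem exists_affine_surj {Y U : Scheme.{u}} (f : Y ⟶ U) (hf : IsOpenMap f) (y : Y) :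
    ∃ (V : U.Opens) (W : Y.Opens), IsAffineOpen V ∧ IsAffineOpen W ∧ y ∈ W ∧ W ≤ f ⁻¹ᵁ V ∧
      f '' (W : Set Y) = (V : Set U) := by
  obtain ⟨V₀, hV₀, hxV₀, -⟩ := exists_isAffineOpen_mem_and_subset (x := f y) (U := ⊤) trivial
  obtain ⟨W₀, hW₀, hyW₀, hW₀V₀⟩ := exists_isAffineOpen_mem_and_subset (x := y)
    (U := f ⁻¹ᵁ V₀) hxV₀
  let O : U.Opens := ⟨f '' (W₀ : Set Y), hf _ W₀.isOpen⟩
  have hxO : f y ∈ O := ⟨y, hyW₀, rfl⟩
  obtain ⟨h, hhO, hxh⟩ := hV₀.exists_basicOpen_le (V := O) ⟨f y, hxO⟩ hxV₀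
  have hle : W₀ ≤ f ⁻¹ᵁ V₀ := hW₀V₀
  let h' : Γ(Y, W₀) := f.appLE V₀ W₀ hle h
  refine ⟨U.basicOpen h, Y.basicOpen h', hV₀.basicOpen h, hW₀.basicOpen h', ?_, ?_, ?_⟩
  · rw [Scheme.basicOpen_appLE]
    exact ⟨hyW₀, hxh⟩
  · rw [Scheme.basicOpen_appLE]
    exact inf_le_right
  · rw [Scheme.basicOpen_appLE]
    apply Set.Subset.antisymm
    · rintro _ ⟨w, hw, rfl⟩
      exact hw.2
    · intro z hz
      obtain ⟨w, hw, rfl⟩ := hhO hz
      exact ⟨w, ⟨hw, hz⟩, rfl⟩


variable {X : Scheme.{u}}

instance etale_hom (U : X.Etale) : Etale U.hom := U.prop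

instance etale_left {Y U : X.Etale} (f : Y ⟶ U) : Etale f.left := by
  have h1 : Etale (f.left ≫ U.hom) := by
    have : f.left ≫ U.hom = Y.hom := by simp
    rw [this]; infer_instance
  exact Etale.of_comp f.left U.hom

/-- the étale `X`-scheme of an open subscheme of an étale `X`-scheme -/
noncomputable def opObj (U : X.Etale) (V : U.left.Opens) : X.Etale :=
  Scheme.Etale.mk (V.ι ≫ U.hom)

noncomputable def opι (U : X.Etale) (V : U.left.Opens) : opObj U V ⟶ U :=
  MorphismProperty.Over.homMk V.ι rfl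

noncomputable def opRes {Y U : X.Etale} (f : Y ⟶ U) (V : U.left.Opens) (W : Y.left.Opens)
    (h : W ≤ f.left ⁻¹ᵁ V) : opObj Y W ⟶ opObj U V :=
  MorphismProperty.Over.homMk (f.left.resLE V W h) (by
    show f.left.resLE V W h ≫ (V.ι ≫ U.hom) = W.ι ≫ Y.hom
    rw [← Category.assoc, Scheme.Hom.resLE_comp_ι, Category.assoc]
    simp)

theorem opRes_ι {Y U : X.Etale} (f : Y ⟶ U) (V : U.left.Opens) (W : Y.left.Opens)
    (h : W ≤ f.left ⁻¹ᵁ V) : opRes f V W h ≫ opι U V = opι Y W ≫ f := by
  apply MorphismProperty.Over.Hom.ext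
  show f.left.resLE V W h ≫ V.ι = W.ι ≫ f.left
  exact Scheme.Hom.resLE_comp_ι _ _

theorem sep (F : X.Etaleᵒᵖ ⥤ Type w) (hzar : Presieve.IsSheaf (Jzar X) F)
    (haff : ∀ (U V : X.Etale) [IsAffine U.left] [IsAffine V.left] (f : V ⟶ U)
      [Surjective f.left], Presieve.IsSheafFor F (Presieve.singleton f))
    (U : X.Etale) (R : Sieve U) (hR : R ∈ X.smallEtaleTopology U) :
    Presieve.IsSeparatedFor F R.arrows := by
  intro x t₁ t₂ h₁ h₂
  let Zs : Sieve U :=
    { arrows := fun W g => F.map g.op t₁ = F.map g.op t₂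
      downward_closed := by
        intro W W' g hg k
        show F.map (k ≫ g).op t₁ = F.map (k ≫ g).op t₂
        rw [op_comp, Functor.map_comp_apply, Functor.map_comp_apply, hg] }
  have hZs : Zs ∈ Jzar X U := by
    rw [mem_zar_iff]
    intro x₀
    obtain ⟨Y, f, y, hRf, -, hy⟩ := (mem_et_iff U R).1 hR x₀
    obtain ⟨V, W, hV, hW, hyW, hWV, himg⟩ := exists_affine_surj f.left f.left.isOpenMap y
    have : IsAffine (opObj U V).left := hV
    have : IsAffine (opObj Y W).left := hW
    have hs : Surjective (opRes f V W hWV).left := by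
      constructor
      rintro ⟨z, hz⟩
      have hz' : z ∈ f.left '' (W : Set Y.left) := by rw [himg]; exact hz
      obtain ⟨w, hw, rfl⟩ := hz'
      refine ⟨⟨w, hw⟩, ?_⟩
      apply Subtype.ext
      have := congrArg (fun k => k ⟨w, hw⟩) (Scheme.Hom.resLE_comp_ι f.left hWV)
      exact this
    have hsf := haff (opObj U V) (opObj Y W) (opRes f V W hWV)
    refine ⟨opObj U V, opι U V,
      (⟨f.left y, by rw [← SetLike.mem_coe, ← himg]; exact ⟨y, hyW, rfl⟩⟩ : V), ?_, ?_, ?_⟩
    · show F.map (opι U V).op t₁ = F.map (opι U V).op t₂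
      apply Presieve.isSeparatedFor_singleton.1 hsf.isSeparatedFor
      show F.map (opRes f V W hWV).op (F.map (opι U V).op t₁) =
        F.map (opRes f V W hWV).op (F.map (opι U V).op t₂)
      rw [← Functor.map_comp_apply, ← Functor.map_comp_apply, ← op_comp, opRes_ι]
      have hmem : R (opι Y W ≫ f) := R.downward_closed hRf _
      rw [h₁ _ hmem, h₂ _ hmem]
    · show IsOpenImmersion V.ι
      infer_instance
    · exact hy
  exact (hzar Zs hZs).isSeparatedFor.ext (fun W g hg => hg)


theorem sheafFor_affine (F : X.Etaleᵒᵖ ⥤ Type w) (hzar : Presieve.IsSheaf (Jzar X) F)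
    (haff : ∀ (U V : X.Etale) [IsAffine U.left] [IsAffine V.left] (f : V ⟶ U)
      [Surjective f.left], Presieve.IsSheafFor F (Presieve.singleton f))
    (U : X.Etale) [IsAffine U.left] (R : Sieve U) (hR : R ∈ X.smallEtaleTopology U) :
    Presieve.IsSheafFor F R.arrows := by
  classical
  have hpt := (mem_et_iff U R).1 hR
  choose YY f y hRf _ hy using hpt
  have hW : ∀ x, ∃ W : (YY x).left.Opens, IsAffineOpen W ∧ y x ∈ W := fun x => by
    obtain ⟨W, hW, hyW, -⟩ := exists_isAffineOpen_mem_and_subset (x := y x) (U := ⊤) trivial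
    exact ⟨W, hW, hyW⟩
  choose W hWaff hyW using hW
  let O : U.left → Set U.left := fun x => (f x).left '' (W x : Set (YY x).left)
  have hO : ∀ x, IsOpen (O x) := fun x => (f x).left.isOpenMap _ (W x).isOpen
  have hcov : (Set.univ : Set U.left) ⊆ ⋃ x, O x := by
    intro x _
    exact Set.mem_iUnion.2 ⟨x, y x, hyW x, hy x⟩
  obtain ⟨t, ht⟩ := isCompact_univ.elim_finite_subcover O hO hcov
  let ι : Type u := {x // x ∈ t}
  let Ys : ι → Scheme.{u} := fun k => ((W k.1 : (YY k.1).left.Opens) : Scheme.{u})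
  have : ∀ k, IsAffine (Ys k) := fun k => hWaff k.1
  let dsc : (∐ Ys) ⟶ X := Sigma.desc (fun k : ι => (W k.1).ι ≫ (YY k.1).hom)
  have hdsc : Etale dsc :=
    IsZariskiLocalAtSource.sigmaDesc (P := @Etale) (fun k => inferInstance)
  let Yc : X.Etale := Scheme.Etale.mk dsc
  let ιc : ∀ k : ι, opObj (YY k.1) (W k.1) ⟶ Yc := fun k =>
    MorphismProperty.Over.homMk (Sigma.ι Ys k) (by
      show Sigma.ι Ys k ≫ dsc = (W k.1).ι ≫ (YY k.1).hom
      exact Sigma.ι_desc _ _)
  let fc : Yc ⟶ U := MorphismProperty.Over.homMk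
    (Sigma.desc (fun k : ι => (W k.1).ι ≫ (f k.1).left)) (by
      show Sigma.desc (fun k : ι => (W k.1).ι ≫ (f k.1).left) ≫ U.hom = dsc
      apply Sigma.hom_ext
      intro k
      rw [Sigma.ι_desc_assoc, Sigma.ι_desc, Category.assoc]
      congr 1
      exact MorphismProperty.Over.w (f k.1))
  have hιf : ∀ k : ι, ιc k ≫ fc = opι (YY k.1) (W k.1) ≫ f k.1 := by
    intro k
    apply MorphismProperty.Over.Hom.ext
    show Sigma.ι Ys k ≫ Sigma.desc (fun k : ι => (W k.1).ι ≫ (f k.1).left) =
      (W k.1).ι ≫ (f k.1).left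
    exact Sigma.ι_desc _ _
  have : IsAffine Yc.left := inferInstanceAs (IsAffine (∐ Ys))
  have hsurj : Surjective fc.left := by
    apply Surjective.sigmaDesc_of_union_range_eq_univ
    rw [Set.eq_univ_iff_forall]
    intro x
    obtain ⟨k, hk, hxk⟩ : ∃ k ∈ t, x ∈ O k := by
      have := ht (Set.mem_univ x)
      simpa using this
    obtain ⟨w, hw, rfl⟩ := hxk
    exact Set.mem_iUnion.2 ⟨⟨k, hk⟩, ⟨w, hw⟩, rfl⟩
  have h1 : Presieve.IsSheafFor F (Sieve.generate (Presieve.singleton fc)).arrows := by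
    rw [← Presieve.isSheafFor_iff_generate]
    exact haff U Yc fc
  have hR₁ : Sieve.generate (Presieve.singleton fc) ∈ X.smallEtaleTopology U := by
    rw [mem_et_iff]
    intro x
    obtain ⟨z, hz⟩ := fc.left.surjective x
    exact ⟨Yc, fc, z, ⟨_, 𝟙 _, fc, Presieve.singleton_self fc, Category.id_comp _⟩, inferInstance, hz⟩
  apply Presieve.isSheafFor_trans F (Sieve.generate (Presieve.singleton fc)) R h1
  · intro Z g _
    exact sep F hzar haff Z _ (X.smallEtaleTopology.pullback_stable g hR₁)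
  · rintro Z g ⟨Z', h, f', ⟨⟩, rfl⟩
    rw [Sieve.pullback_comp]
    apply hzar
    apply (Jzar X).pullback_stable
    rw [mem_zar_iff]
    intro z
    obtain ⟨k, w, hw⟩ := (sigmaOpenCover Ys).exists_eq z
    refine ⟨opObj (YY k.1) (W k.1), ιc k, w, ?_, ?_, hw⟩
    · show R (ιc k ≫ fc)
      rw [hιf]
      exact R.downward_closed (hRf k.1) _
    · show IsOpenImmersion (Sigma.ι Ys k)
      infer_instance


theorem sheafFor (F : X.Etaleᵒᵖ ⥤ Type w) (hzar : Presieve.IsSheaf (Jzar X) F)
    (haff : ∀ (U V : X.Etale) [IsAffine U.left] [IsAffine V.left] (f : V ⟶ U)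
      [Surjective f.left], Presieve.IsSheafFor F (Presieve.singleton f))
    (U : X.Etale) (R : Sieve U) (hR : R ∈ X.smallEtaleTopology U) :
    Presieve.IsSheafFor F R.arrows := by
  let E0 : PreZeroHypercover.{u} U :=
    { I₀ := U.left.affineOpens
      X := fun V => opObj U V.1
      f := fun V => opι U V.1 }
  have hmem : E0.toPreOneHypercover.sieve₀ ∈ Jzar X U := by
    rw [mem_zar_iff]
    intro x
    obtain ⟨V, hV, hxV, -⟩ := exists_isAffineOpen_mem_and_subset (x := x) (U := ⊤) trivial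
    refine ⟨opObj U V, opι U V, ⟨x, hxV⟩, ?_, ?_, rfl⟩
    · exact Sieve.ofArrows_mk _ _ (⟨V, hV⟩ : U.left.affineOpens)
    · show IsOpenImmersion V.ι
      infer_instance
  let E : (Jzar X).OneHypercover U :=
    GrothendieckTopology.OneHypercover.mk' E0.toPreOneHypercover hmem (by simp)
  refine E.isSheafFor_sieve_of_pullback hzar (fun i => ?_) (fun i j k => ?_)
  · have : IsAffine (E.X i).left := (i : U.left.affineOpens).2
    exact sheafFor_affine F hzar haff (E.X i) _ (X.smallEtaleTopology.pullback_stable _ hR)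
  · exact sep F hzar haff _ _ (X.smallEtaleTopology.pullback_stable _ hR)

theorem zar_le_et : Jzar X ≤ X.smallEtaleTopology := by
  intro U R hR
  rw [mem_et_iff]
  intro x
  obtain ⟨Y, f, y, hf, _, hy⟩ := (mem_zar_iff U R).1 hR x
  exact ⟨Y, f, y, hf, inferInstance, hy⟩

theorem main (X : Scheme.{u}) (F : X.Etaleᵒᵖ ⥤ Type w) :
    Presieve.IsSheaf X.smallEtaleTopology F ↔
      Presieve.IsSheaf (X.smallGrothendieckTopology (P := @IsOpenImmersion)) F ∧
        ∀ (U V : X.Etale) [IsAffine U.left] [IsAffine V.left] (f : V ⟶ U) [Surjective f.left],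
          Presieve.IsSheafFor F (Presieve.singleton f) := by
  constructor
  · intro h
    refine ⟨Presieve.isSheaf_of_le F zar_le_et h, ?_⟩
    intro U V _ _ f _
    rw [Presieve.isSheafFor_iff_generate]
    apply h
    rw [mem_et_iff]
    intro x
    obtain ⟨z, hz⟩ := f.left.surjective x
    exact ⟨V, f, z, ⟨_, 𝟙 _, f, Presieve.singleton_self f, Category.id_comp _⟩, inferInstance, hz⟩
  · rintro ⟨hzar, haff⟩ U R hR
    exact sheafFor F hzar haff U R hR


end Aux

/-- Let X be a scheme and F a presheaf of sets on the small étale site of X. Then F is an étale sheaf if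
and only if F is a sheaf for the Zariski topology on the same category (coverings are jointly
surjective families of open immersions between étale X-schemes) and, for every morphism f : V ⟶ U of
étale X-schemes with U and V affine and f surjective, F satisfies the sheaf condition for the single
arrow f. -/
theorem result (X : Scheme.{u})
    (F : X.Etaleᵒᵖ ⥤ Type w) :
    Presieve.IsSheaf X.smallEtaleTopology F ↔
      Presieve.IsSheaf (X.smallGrothendieckTopology (P := @IsOpenImmersion)) F ∧
        ∀ (U V : X.Etale) [IsAffine U.left] [IsAffine V.left] (f : V ⟶ U) [Surjective f.left],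
          Presieve.IsSheafFor F (Presieve.singleton f) := by
  exact Aux.main X F

end Groth.Agent.S14453
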