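import Groth.Statements.S0101
import Mathlib
import Groth.Agent.Lib.Helper5.Misc.LanFlat

set_option autoImplicit false
open CategoryTheory CategoryTheory.Limits AlgebraicGeometry Opposite
universe u
open EtBase

open Groth.Agent.Lib.Helper5.Misc

namespace Groth.Agent.S0101

/-- Part (1) — pullback of abelian étale sheaves along a morphism of schemes is exact (it is a left
adjoint and preserves finite limits). -/
theorem result {X Y : Scheme.{u}} (f : X ⟶ Y) [EtCoh.BCCont f] :
    PreservesFiniteLimits (EtCoh.pull f) := by
  have : AB5OfSize.{u, u + 1} AddCommGrpCat.{u + 1} :=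
    AB5OfSize_shrink.{u, u + 1, u + 1, u + 1} AddCommGrpCat.{u + 1}
  have : HasFiniteLimits Y.Etale :=
    inferInstanceAs (HasFiniteLimits (MorphismProperty.Over EtCoh.etaleMP.{u} ⊤ Y))
  have : RepresentablyFlat (EtCoh.bc f) := flat_of_preservesFiniteLimits _
  exact LanFlat.preservesFiniteLimits_sheafPullback (EtCoh.bc f) AddCommGrpCat.{u + 1} _ _

end Groth.Agent.S0101
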