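import Groth.Statements.S0073
import Mathlib
import Groth.Prelude.Def_EtBase
import Groth.Agent.S5062
import Groth.Prelude.Def_EtCore
-- import your own Groth.Agent.* helpers here

set_option autoImplicit false
open CategoryTheory CategoryTheory.Limits AlgebraicGeometry Opposite
universe u
open EtBase

namespace Groth.Agent.S0073

open CategoryTheory CategoryTheory.Limits AlgebraicGeometry Opposite
namespace Aux
set_option linter.unusedSectionVars false
set_option backward.isDefEq.respectTransparency false
set_option linter.style.haveILetI false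

theorem mem_et_iff {X : Scheme.{u}} (U : X.Etale) (R : Sieve U) :
    R ∈ X.smallEtaleTopology U ↔ ∀ x : U.left, ∃ (Y : X.Etale) (f : Y ⟶ U) (y : Y.left),
      R f ∧ Etale f.left ∧ f.left y = x := by
  rw [Scheme.smallEtaleTopology, Scheme.smallGrothendieckTopology_eq_toGrothendieck_smallPretopology X
    le_rfl]
  exact Scheme.mem_toGrothendieck_smallPretopology U R

/-- over a strictly henselian local ring every étale covering sieve of the terminal object is
the maximal sieve -/
theorem sieve_top (R : Type u) [CommRing R] [HenselianLocalRing R]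
    [IsSepClosed (IsLocalRing.ResidueField R)]
    (Sv : Sieve (EtCoh.top (Spec (CommRingCat.of R))))
    (hSv : Sv ∈ (Spec (CommRingCat.of R)).smallEtaleTopology _) :
    Sv (𝟙 (EtCoh.top (Spec (CommRingCat.of R)))) := by
  obtain ⟨Y, f, y, hf, hfe, hy⟩ := (mem_et_iff _ Sv).1 hSv (IsLocalRing.closedPoint R)
  obtain ⟨u, hu, -⟩ := (Groth.Agent.S5062.result R).1 ⟨inferInstance, inferInstance⟩ Y.left f.left
    hfe y hy
  have hYhom : Y.hom = f.left := by
    have := MorphismProperty.Over.w f
    rw [← this]
    exact (Category.comp_id _)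
  let ū : EtCoh.top (Spec (CommRingCat.of R)) ⟶ Y :=
    MorphismProperty.Over.homMk u (by
      show u ≫ Y.hom = 𝟙 _
      rw [hYhom]; exact hu)
  have hūf : ū ≫ f = 𝟙 _ := by
    apply MorphismProperty.Over.Hom.ext
    exact hu
  rw [← hūf]
  exact Sv.downward_closed hf ū


theorem projective_ulift_int : Projective (AddCommGrpCat.of (ULift.{u+1} ℤ)) := by
  constructor
  intro E X f e he
  have hsurj : Function.Surjective e := (AddCommGrpCat.epi_iff_surjective e).1 he
  obtain ⟨t, ht⟩ := hsurj (f (ULift.up 1))
  let φ : ULift.{u+1} ℤ →+ E :=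
    (zmultiplesHom E t).comp (AddEquiv.ulift (α := ℤ)).toAddMonoidHom
  refine ⟨AddCommGrpCat.ofHom φ, ?_⟩
  ext ⟨n⟩
  show e (n • t) = f (ULift.up n)
  rw [map_zsmul, ht, ← map_zsmul]
  congr 1
  ext
  simp

theorem main (R : Type u) [CommRing R] [HenselianLocalRing R]
    [IsSepClosed (IsLocalRing.ResidueField R)] (F : EtCoh.Ab (Spec (CommRingCat.of R)))
    (p : ℕ) (hp : 1 ≤ p) : Subsingleton (EtCoh.H (Spec (CommRingCat.of R)) F p) := by
  let S := Spec (CommRingCat.of R)
  let J := S.smallEtaleTopology
  let T := EtCoh.top S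
  let hT : IsTerminal T := EtCore.topIsTerminal S
  let adj := constantSheafAdj J AddCommGrpCat.{u+1} hT
  have hpres : ((sheafSections J AddCommGrpCat.{u+1}).obj (op T)).PreservesEpimorphisms := by
    constructor
    intro A B e he
    have hls : Sheaf.IsLocallySurjective e := (Sheaf.isLocallySurjective_iff_epi' (φ := e)).2 he
    rw [AddCommGrpCat.epi_iff_surjective]
    intro s
    have hmem := Presheaf.imageSieve_mem J e.hom (U := op T) s
    obtain ⟨t, ht⟩ := sieve_top R _ hmem
    refine ⟨t, ?_⟩
    refine ht.trans ?_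
    rw [op_id, B.obj.map_id]
    rfl
  have hproj : Projective ((constantSheaf J AddCommGrpCat.{u+1}).obj
      (AddCommGrpCat.of (ULift.{u+1} ℤ))) :=
    adj.map_projective _ projective_ulift_int
  obtain ⟨n, rfl⟩ : ∃ n, p = n + 1 := ⟨p - 1, by omega⟩
  exact subsingleton_of_forall_eq 0 (fun e => Abelian.Ext.eq_zero_of_projective e)

end Aux

/-- Étale cohomology of any abelian sheaf on the spectrum of a strictly henselian local ring vanishes in
positive degrees. -/
theorem result (R : Type u) [CommRing R] [HenselianLocalRing R]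
    [IsSepClosed (IsLocalRing.ResidueField R)] (F : EtCoh.Ab (Spec (CommRingCat.of R)))
    (p : ℕ) (hp : 1 ≤ p) : Subsingleton (EtCoh.H (Spec (CommRingCat.of R)) F p) := by
  exact Aux.main R F p hp

end Groth.Agent.S0073
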