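import Groth.Statements.S0088
import Mathlib
import Groth.Prelude.Def_EtBase
import Groth.Agent.Lib.Helper9.FE.ZeroDimSec
import Groth.Agent.S14453
import Groth.Agent.S0073
import Groth.Prelude.Def_EtCore
-- import your own Groth.Agent.* helpers here

set_option autoImplicit false
open CategoryTheory CategoryTheory.Limits AlgebraicGeometry Opposite
universe u
open EtBase

namespace Groth.Agent.S0088

open CategoryTheory CategoryTheory.Limits AlgebraicGeometry Opposite
namespace Aux
set_option linter.unusedSectionVars false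
set_option backward.isDefEq.respectTransparency false
set_option linter.style.haveILetI false

/-- all primes of the ring of global sections are maximal -/
theorem primes_maximal (S : Scheme.{u}) [IsAffine S] (h1 : ∀ s : S, IsClosed ({s} : Set S))
    (P : Ideal Γ(S, ⊤)) (hP : P.IsPrime) : P.IsMaximal := by
  have hU := isAffineOpen_top S
  let x : S := hU.fromSpec ⟨P, hP⟩
  have hx : hU.primeIdealOf ⟨x, trivial⟩ = ⟨P, hP⟩ := by
    have hinj : Function.Injective hU.fromSpec := hU.fromSpec.isOpenEmbedding.injective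
    apply hinj
    rw [hU.fromSpec_primeIdealOf]
  have := hU.primeIdealOf_isMaximal_of_isClosed ⟨x, trivial⟩ (h1 x)
  rw [hx] at this
  exact this

/-- localization at a prime of a ring all of whose primes are maximal has nil maximal ideal -/
theorem nil_of_primes_maximal {A : Type u} [CommRing A]
    (hmax : ∀ P : Ideal A, P.IsPrime → P.IsMaximal) (p : Ideal A) [p.IsPrime]
    (Rp : Type u) [CommRing Rp] [Algebra A Rp] [IsLocalization.AtPrime Rp p] [IsLocalRing Rp]
    (x : Rp) (hx : ¬ IsUnit x) : IsNilpotent x := by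
  rw [← mem_nilradical, nilradical_eq_sInf, Ideal.mem_sInf]
  intro P' hP'
  have hP'prime : P'.IsPrime := hP'
  have hmem : x ∈ IsLocalRing.maximalIdeal Rp := (IsLocalRing.mem_maximalIdeal x).mpr hx
  have h1 : (P'.comap (algebraMap A Rp)).IsMaximal := hmax _ (Ideal.IsPrime.comap _)
  have h2 : P'.comap (algebraMap A Rp) ≤ (IsLocalRing.maximalIdeal Rp).comap (algebraMap A Rp) :=
    Ideal.comap_mono (IsLocalRing.le_maximalIdeal hP'prime.ne_top)
  have h3 : ((IsLocalRing.maximalIdeal Rp).comap (algebraMap A Rp)) ≠ ⊤ :=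
    Ideal.comap_ne_top _ (IsLocalRing.maximalIdeal.isMaximal Rp).ne_top
  have h4 := h1.eq_of_le h3 h2
  have h5 : P' = IsLocalRing.maximalIdeal Rp := by
    rw [← IsLocalization.map_under p.primeCompl Rp P',
      ← IsLocalization.map_under p.primeCompl Rp (IsLocalRing.maximalIdeal Rp)]
    exact congrArg (Ideal.map (algebraMap A Rp)) h4
  rw [h5]
  exact hmem

/-- local sections of étale morphisms on basic opens -/
theorem exists_basicOpen_section (S : Scheme.{u}) [IsAffine S]
    (h1 : ∀ s : S, IsClosed ({s} : Set S)) (h2 : ∀ s : S, IsSepClosed (S.residueField s))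
    {Y : Scheme.{u}} (f : Y ⟶ S) [Etale f] (y : Y) :
    ∃ g : Γ(S, ⊤), f y ∈ S.basicOpen g ∧
      ∃ t : (S.basicOpen g : Scheme.{u}) ⟶ Y, t ≫ f = (S.basicOpen g).ι := by
  have hU := isAffineOpen_top S
  obtain ⟨V, hV, hyV, -⟩ := exists_isAffineOpen_mem_and_subset (x := y) (U := ⊤) trivial
  have hVU : V ≤ f ⁻¹ᵁ ⊤ := le_top
  let ψ : Γ(S, ⊤) ⟶ Γ(Y, V) := f.appLE ⊤ V hVU
  have hψet : ψ.hom.Etale :=
    HasRingHomProperty.appLE (P := @Etale) f inferInstance ⟨⊤, hU⟩ ⟨V, hV⟩ hVU
  algebraize [ψ.hom]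
  let p := hU.primeIdealOf ⟨f y, trivial⟩
  let q := hV.primeIdealOf ⟨y, hyV⟩
  have hq : q.asIdeal.comap (algebraMap Γ(S, ⊤) Γ(Y, V)) = p.asIdeal :=
    congrArg PrimeSpectrum.asIdeal (IsAffineOpen.comap_primeIdealOf_appLE ⊤ hU V hV hVU hyV)
  letI : Algebra Γ(S, ⊤) (S.presheaf.stalk (f y)) :=
    TopCat.Presheaf.algebra_section_stalk S.presheaf (U := ⊤) ⟨f y, trivial⟩
  haveI : IsLocalization.AtPrime (S.presheaf.stalk (f y)) p.asIdeal :=
    hU.isLocalization_stalk ⟨f y, trivial⟩
  haveI : IsSepClosed (IsLocalRing.ResidueField (S.presheaf.stalk (f y))) := h2 (f y)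
  obtain ⟨g, hg, ⟨τ⟩⟩ := H9FE.exists_away_section p.asIdeal (S.presheaf.stalk (f y))
    (nil_of_primes_maximal (primes_maximal S h1) p.asIdeal _) Γ(Y, V) q.asIdeal hq
  refine ⟨g, ?_, ?_⟩
  · have h3 : hU.fromSpec p = f y := hU.fromSpec_primeIdealOf ⟨f y, trivial⟩
    rw [← h3]
    change p ∈ hU.fromSpec ⁻¹ᵁ S.basicOpen g
    rw [hU.fromSpec_preimage_basicOpen]
    exact hg
  · have hW : IsAffineOpen (S.basicOpen g) := hU.basicOpen g
    let e : Localization.Away g ≃ₐ[Γ(S, ⊤)] Γ(S, S.basicOpen g) :=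
      IsLocalization.algEquiv (Submonoid.powers g) _ _
    let τ'' : Γ(Y, V) →ₐ[Γ(S, ⊤)] Γ(S, S.basicOpen g) := e.toAlgHom.comp τ
    let θ : Γ(Y, V) ⟶ Γ(S, S.basicOpen g) := CommRingCat.ofHom τ''.toRingHom
    have hθ : ψ ≫ θ = S.presheaf.map (homOfLE (S.basicOpen_le g)).op := by
      ext a
      exact τ''.commutes a
    refine ⟨hW.isoSpec.hom ≫ Spec.map θ ≫ hV.fromSpec, ?_⟩
    rw [Category.assoc, Category.assoc, ← IsAffineOpen.SpecMap_appLE_fromSpec f hU hV hVU,
      ← Spec.map_comp_assoc]
    change hW.isoSpec.hom ≫ Spec.map (ψ ≫ θ) ≫ hU.fromSpec = _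
    rw [hθ, hU.map_fromSpec hW, hW.isoSpec_hom_fromSpec]

/-- basic opens are closed -/
theorem isClosed_basicOpen (S : Scheme.{u}) [IsAffine S]
    (h1 : ∀ s : S, IsClosed ({s} : Set S)) (g : Γ(S, ⊤)) :
    IsClosed (S.basicOpen g : Set S) := by
  obtain ⟨n, a, hna⟩ := H9FE.exists_pow_mul_eq_zero_of_primes_maximal (primes_maximal S h1) g
  have h : (S.basicOpen g : Set S) = (S.basicOpen (1 + g * a) : Set S)ᶜ := by
    ext x
    simp only [SetLike.mem_coe, Set.mem_compl_iff]
    rw [Scheme.mem_basicOpen _ _ _ (show x ∈ (⊤ : S.Opens) from trivial),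
      Scheme.mem_basicOpen _ _ _ (show x ∈ (⊤ : S.Opens) from trivial)]
    constructor
    · intro hg hga
      have h3 : IsUnit (S.presheaf.germ ⊤ x trivial (g ^ n * (1 + g * a))) := by
        rw [map_mul, map_pow]
        exact (hg.pow n).mul hga
      rw [hna, map_zero] at h3
      exact not_isUnit_zero h3
    · intro hga
      by_contra hg
      apply hga
      have hm : S.presheaf.germ ⊤ x trivial g ∈
          IsLocalRing.maximalIdeal (S.presheaf.stalk x) := (IsLocalRing.mem_maximalIdeal _).mpr hg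
      by_contra hga'
      have hm' : S.presheaf.germ ⊤ x trivial (1 + g * a) ∈
          IsLocalRing.maximalIdeal (S.presheaf.stalk x) :=
        (IsLocalRing.mem_maximalIdeal _).mpr hga'
      have h1' : (1 : S.presheaf.stalk x) ∈ IsLocalRing.maximalIdeal (S.presheaf.stalk x) := by
        have h5 := Ideal.sub_mem _ hm' (Ideal.mul_mem_right (S.presheaf.germ ⊤ x trivial a) _ hm)
        rw [← map_mul, ← map_sub] at h5
        have h6 : (1 + g * a - g * a : Γ(S, ⊤)) = 1 := by ring
        rw [h6, map_one] at h5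
        exact h5
      exact (IsLocalRing.maximalIdeal.isMaximal _).ne_top ((Ideal.eq_top_iff_one _).mpr h1')
  rw [h]
  exact isClosed_compl_iff.mpr (S.basicOpen _).isOpen

open Groth.Agent.S14453.Aux (opObj opι mem_et_iff)

open scoped Function in
/-- disjointification of a finite clopen cover -/
theorem disjointify {Z : Type*} [TopologicalSpace Z] {I : Type*} [Finite I]
    (W : I → TopologicalSpace.Opens Z) (hclosed : ∀ k, IsClosed (W k : Set Z))
    (hcov : ∀ z : Z, ∃ k, z ∈ W k) :
    ∃ T : I → TopologicalSpace.Opens Z, (∀ k, T k ≤ W k) ∧ (∀ z : Z, ∃ k, z ∈ T k) ∧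
      ∀ k l, k ≠ l → Disjoint (T k) (T l) := by
  classical
  have : Fintype I := Fintype.ofFinite I
  let r : I → ℕ := fun k => (Fintype.equivFin I k : ℕ)
  have hr : Function.Injective r := fun a b h =>
    (Fintype.equivFin I).injective (Fin.ext h)
  let T : I → TopologicalSpace.Opens Z := fun k =>
    ⟨(W k : Set Z) \ ⋃ l ∈ {l : I | r l < r k}, (W l : Set Z),
      (W k).isOpen.sdiff ((Set.toFinite _).isClosed_biUnion fun l _ => hclosed l)⟩
  refine ⟨T, fun k x hx => hx.1, ?_, ?_⟩
  · intro z
    have hne : {k : I | z ∈ W k}.Nonempty := hcov z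
    obtain ⟨k, hk, hmin⟩ := Set.exists_min_image {k : I | z ∈ W k} r (Set.toFinite _) hne
    refine ⟨k, hk, ?_⟩
    simp only [Set.mem_iUnion, not_exists]
    intro l hl hzl
    exact absurd (hmin l hzl) (not_le.2 hl)
  · intro k l hkl
    rw [disjoint_iff]
    ext z
    simp only [TopologicalSpace.Opens.coe_inf, Set.mem_inter_iff, SetLike.mem_coe,
      TopologicalSpace.Opens.coe_bot, Set.mem_empty_iff_false, iff_false, not_and]
    intro hk hl
    rcases lt_or_gt_of_ne (fun h => hkl (hr h)) with h | h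
    · exact hl.2 (Set.mem_biUnion (show k ∈ {l' : I | r l' < r l} from h) hk.1)
    · exact hk.2 (Set.mem_biUnion (show l ∈ {l' : I | r l' < r k} from h) hl.1)

section glue
universe w
variable {X : Scheme.{u}} (U : X.Etale) {I : Type*} (V : I → U.left.Opens)
  (hcov : ∀ z : U.left, ∃ k, z ∈ V k)
  (P : X.Etaleᵒᵖ ⥤ Type w) (hP : Presieve.IsSheaf X.smallEtaleTopology P)

include hcov in
theorem cover_mem : Sieve.ofArrows (fun k => opObj U (V k)) (fun k => opι U (V k)) ∈
    X.smallEtaleTopology U := by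
  rw [mem_et_iff]
  intro x
  obtain ⟨k, hk⟩ := hcov x
  refine ⟨opObj U (V k), opι U (V k), ⟨x, hk⟩, Sieve.ofArrows_mk _ _ k, ?_, rfl⟩
  change Etale (V k).ι
  infer_instance

include hP in
theorem subsingleton_of_isEmpty (Z : X.Etale) [IsEmpty Z.left] : Subsingleton (P.obj (op Z)) := by
  have hbot : (⊥ : Sieve Z) ∈ X.smallEtaleTopology Z := by
    rw [mem_et_iff]
    intro x
    exact isEmptyElim x
  have := (hP ⊥ hbot).isSeparatedFor
  constructor
  intro a b
  exact this (fun _ _ h => h.elim) a b (fun _ _ h => h.elim) (fun _ _ h => h.elim)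

include hcov hP in
theorem sep_cover (t₁ t₂ : P.obj (op U))
    (h : ∀ k, P.map (opι U (V k)).op t₁ = P.map (opι U (V k)).op t₂) : t₁ = t₂ := by
  refine (hP _ (cover_mem U V hcov)).isSeparatedFor.ext ?_
  rintro Y f ⟨Z, a, b, ⟨k⟩, rfl⟩
  rw [op_comp, P.map_comp]
  change P.map a.op (P.map (opι U (V k)).op t₁) = P.map a.op (P.map (opι U (V k)).op t₂)
  rw [h k]

include hcov hP in
theorem glue_cover (hdisj : ∀ k l, k ≠ l → Disjoint (V k) (V l))
    (a : ∀ k, P.obj (op (opObj U (V k)))) :
    ∃ t : P.obj (op U), ∀ k, P.map (opι U (V k)).op t = a k := by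
  classical
  have h1 := hP _ (cover_mem U V hcov)
  change Presieve.IsSheafFor P (Sieve.generate (Presieve.ofArrows _ _)).arrows at h1
  rw [← Presieve.isSheafFor_iff_generate, Presieve.isSheafFor_arrows_iff] at h1
  have hcompat : Presieve.Arrows.Compatible P (fun k => opι U (V k)) a := by
    intro i j Z gi gj hg
    by_cases hij : i = j
    · subst hij
      have : gi = gj := by
        apply MorphismProperty.Over.Hom.ext
        have h2 : gi.left ≫ (V i).ι = gj.left ≫ (V i).ι := congrArg (fun f => f.left) hg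
        exact (cancel_mono (V i).ι).mp h2
      rw [this]
    · haveI : IsEmpty Z.left := by
        constructor
        intro z
        have h2 : gi.left ≫ (V i).ι = gj.left ≫ (V j).ι := congrArg (fun f => f.left) hg
        have h3 : (gi.left z).1 = (gj.left z).1 := by
          have := congrArg (fun f : Z.left ⟶ U.left => f z) h2
          exact this
        have h4 : (gi.left z).1 ∈ V i ⊓ V j := ⟨(gi.left z).2, h3 ▸ (gj.left z).2⟩
        rw [(hdisj i j hij).eq_bot] at h4
        exact h4
      exact (subsingleton_of_isEmpty P hP Z).elim _ _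
  obtain ⟨t, ht, -⟩ := h1 a hcompat
  exact ⟨t, ht⟩

end glue

theorem main (S : Scheme.{u}) [IsAffine S] (h1 : ∀ s : S, IsClosed ({s} : Set S))
    (h2 : ∀ s : S, IsSepClosed (S.residueField s)) (F : EtCoh.Ab S) (i : ℕ) (hi : 1 ≤ i) :
    Subsingleton (EtCoh.H S F i) := by
  let J := S.smallEtaleTopology
  let T := EtCoh.top S
  let hT : IsTerminal T := EtCore.topIsTerminal S
  let adj := constantSheafAdj J AddCommGrpCat.{u+1} hT
  have hpres : ((sheafSections J AddCommGrpCat.{u+1}).obj (op T)).PreservesEpimorphisms := by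
    constructor
    intro A B e he
    have hls : Sheaf.IsLocallySurjective e := (Sheaf.isLocallySurjective_iff_epi' (φ := e)).2 he
    rw [AddCommGrpCat.epi_iff_surjective]
    intro s
    have hmem := Presheaf.imageSieve_mem J e.hom (U := op T) s
    have key : ∀ x : S, ∃ g : Γ(S, ⊤), x ∈ S.basicOpen g ∧
        (Presheaf.imageSieve e.hom s) (opι T (S.basicOpen g)) := by
      intro x
      obtain ⟨Y, f, y, hf, hfe, hy⟩ := (mem_et_iff _ _).1 hmem x
      haveI := hfe
      obtain ⟨g, hxg, tt, htt⟩ := exists_basicOpen_section S h1 h2 f.left y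
      refine ⟨g, hy ▸ hxg, ?_⟩
      have hYhom : Y.hom = f.left := by
        have := MorphismProperty.Over.w f
        rw [← this]
        exact (Category.comp_id _)
      let tt' : opObj T (S.basicOpen g) ⟶ Y := MorphismProperty.Over.homMk tt (by
        show tt ≫ Y.hom = (S.basicOpen g).ι ≫ 𝟙 _
        rw [hYhom, htt, Category.comp_id])
      have : opι T (S.basicOpen g) = tt' ≫ f := by
        apply MorphismProperty.Over.Hom.ext
        exact htt.symm
      rw [this]
      exact Sieve.downward_closed _ hf _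
    choose g hxg hg using key
    obtain ⟨t, ht⟩ := isCompact_univ.elim_finite_subcover
      (fun x : S => (S.basicOpen (g x) : Set S)) (fun x => (S.basicOpen _).isOpen)
      (fun x _ => Set.mem_iUnion.mpr ⟨x, hxg x⟩)
    let I := {x // x ∈ t}
    obtain ⟨(V : I → S.Opens), hVW, hVcov, hVdisj⟩ := disjointify (Z := S) (I := I)
      (fun k => S.basicOpen (g k.1)) (fun k => isClosed_basicOpen S h1 _) (by
        intro z
        have := ht (Set.mem_univ z)
        simp only [Set.mem_iUnion, exists_prop] at this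
        obtain ⟨x, hx, hz⟩ := this
        exact ⟨⟨x, hx⟩, hz⟩)
    have hV : ∀ k, (Presheaf.imageSieve e.hom s) (opι T (V k)) := by
      intro k
      let r : opObj T (V k) ⟶ opObj T (S.basicOpen (g k.1)) :=
        MorphismProperty.Over.homMk (S.homOfLE (hVW k)) (by
          show S.homOfLE (hVW k) ≫ ((S.basicOpen (g k.1)).ι ≫ 𝟙 _) = (V k).ι ≫ 𝟙 _
          rw [← Category.assoc, Scheme.homOfLE_ι])
      have : opι T (V k) = r ≫ opι T (S.basicOpen (g k.1)) := by
        apply MorphismProperty.Over.Hom.ext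
        exact (Scheme.homOfLE_ι S (hVW k)).symm
      rw [this]
      exact Sieve.downward_closed _ (hg k.1) _
    choose a ha using hV
    let PA : S.Etaleᵒᵖ ⥤ Type (u+1) := A.obj ⋙ forget _
    let PB : S.Etaleᵒᵖ ⥤ Type (u+1) := B.obj ⋙ forget _
    have hPA : Presieve.IsSheaf J PA :=
      (isSheaf_iff_isSheaf_of_type J _).1 (Presheaf.isSheaf_comp_of_isSheaf J A.obj (forget _) A.2)
    have hPB : Presieve.IsSheaf J PB :=
      (isSheaf_iff_isSheaf_of_type J _).1 (Presheaf.isSheaf_comp_of_isSheaf J B.obj (forget _) B.2)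
    obtain ⟨tt, htt⟩ := glue_cover T V hVcov PA hPA hVdisj a
    refine ⟨tt, ?_⟩
    apply sep_cover T V hVcov PB hPB
    intro k
    show B.obj.map (opι T (V k)).op (e.hom.app _ tt) = B.obj.map (opι T (V k)).op s
    rw [← ha k]
    have h3 : A.obj.map (opι T (V k)).op tt = a k := htt k
    rw [← h3]
    exact (NatTrans.naturality_apply e.hom (opι T (V k)).op tt).symm
  have hproj : Projective ((constantSheaf J AddCommGrpCat.{u+1}).obj
      (AddCommGrpCat.of (ULift.{u+1} ℤ))) :=
    adj.map_projective _ Groth.Agent.S0073.Aux.projective_ulift_int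
  obtain ⟨n, rfl⟩ : ∃ n, i = n + 1 := ⟨i - 1, by omega⟩
  exact subsingleton_of_forall_eq 0 (fun e => Abelian.Ext.eq_zero_of_projective e)

end Aux

/-- On an affine scheme all of whose points are closed and all of whose residue fields are separably
closed, every abelian étale sheaf has vanishing cohomology in positive degrees. -/
theorem result (S : Scheme.{u}) [IsAffine S] (h1 : ∀ s : S, IsClosed ({s} : Set S))
    (h2 : ∀ s : S, IsSepClosed (S.residueField s)) (F : EtCoh.Ab S) (i : ℕ) (hi : 1 ≤ i) :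
    Subsingleton (EtCoh.H S F i) := by
  exact Aux.main S h1 h2 F i hi

end Groth.Agent.S0088
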