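import Groth.Statements.S6647
import Mathlib
import Groth.Prelude.Def_EtCore
import Groth.Prelude.Def_EtRestW
import Groth.Agent.Lib.Helper9.FE.ConstUnit
import Groth.Agent.Lib.Helper9.FE.ConstSiteOver
-- import your own Groth.Agent.* helpers here

set_option autoImplicit false
open CategoryTheory CategoryTheory.Limits AlgebraicGeometry Opposite
universe u
open EtCore

namespace Groth.Agent.S6647

open CategoryTheory CategoryTheory.Limits AlgebraicGeometry Opposite
namespace Aux
set_option backward.isDefEq.respectTransparency false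
set_option linter.style.haveILetI false
set_option linter.unusedSectionVars false
open H9FE H9FE.ConstUnit H9FE.ConstSite Groth.Agent.S14453.Aux

/-- the map to the terminal object -/
noncomputable abbrev toTop {X : Scheme.{u}} (U : X.Etale) : U ⟶ EtCoh.top X :=
  (EtCore.topIsTerminal X).from U

theorem toTop_left_apply {X : Scheme.{u}} (U : X.Etale) (y : U.left) :
    (toTop U).left y = U.hom y := by
  have h : (toTop U).left ≫ (EtCoh.top X).hom = U.hom := MorphismProperty.Over.w (toTop U)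
  have h2 : ((toTop U).left ≫ (EtCoh.top X).hom) y = U.hom y := by rw [h]; rfl
  exact h2

/-- common refinement of two coverings: joint surjectivity -/
theorem exists_prod_point {X : Scheme.{u}} {U₁ U₂ : X.Etale} (y₁ : U₁.left) (y₂ : U₂.left)
    (h : U₁.hom y₁ = U₂.hom y₂) :
    ∃ p : (prodObj X (toTop U₁) (toTop U₂)).left,
      (prodObj X (toTop U₁) (toTop U₂)).hom p = U₁.hom y₁ := by
  obtain ⟨p, hp, -⟩ := Scheme.Pullback.exists_preimage_pullback (f := (toTop U₁).left)
    (g := (toTop U₂).left) y₁ y₂ (by rw [toTop_left_apply, toTop_left_apply, h])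
  refine ⟨p, ?_⟩
  have h1 : (prodObj X (toTop U₁) (toTop U₂)).hom =
      pullback.fst (toTop U₁).left (toTop U₂).left ≫ U₁.hom := rfl
  rw [h1]
  exact congrArg (fun z => U₁.hom z) hp

theorem main {X : Scheme.{u}} (F G : EtCoh.Ab X) (φ : F ⟶ G)
    (hF : EtCoh.IsFiniteLocallyConstant F) (hG : EtRest.IsLocallyConstant G) :
    ∃ (ι : Type u) (U : ι → X.Etale), EtCoh.Covers U ∧ ∀ i, ∃ (M N : Type (u + 1))
      (_ : AddCommGroup M) (_ : AddCommGroup N) (h : M →+ N)
      (α : EtCoh.restr F (U i) ≅ (constantSheaf (X.smallEtaleTopology.over (U i))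
        AddCommGrpCat.{u + 1}).obj (AddCommGrpCat.of M))
      (β : EtCoh.restr G (U i) ≅ (constantSheaf (X.smallEtaleTopology.over (U i))
        AddCommGrpCat.{u + 1}).obj (AddCommGrpCat.of N)),
      (X.smallEtaleTopology.overPullback AddCommGrpCat.{u + 1} (U i)).map φ ≫ β.hom =
        α.hom ≫ (constantSheaf (X.smallEtaleTopology.over (U i)) AddCommGrpCat.{u + 1}).map
          (AddCommGrpCat.ofHom h) := by
  classical
  let J := X.smallEtaleTopology
  obtain ⟨ι₁, U₁, hU₁, hα⟩ := hF
  obtain ⟨ι₂, U₂, hU₂, hβ⟩ := hG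
  choose M₁ iM₁ fM₁ α₁ using hα
  choose N₂ iN₂ β₂ using hβ
  -- data on the common refinement
  have hP : ∀ ij : ι₁ × ι₂, ∃ S : Sieve (prodObj X (toTop (U₁ ij.1)) (toTop (U₂ ij.2))),
      S ∈ J _ ∧ ∀ {W : X.Etale} (g : W ⟶ prodObj X (toTop (U₁ ij.1)) (toTop (U₂ ij.2))), S g →
        ∃ (M N : Type (u + 1)) (_ : AddCommGroup M) (_ : AddCommGroup N) (h : M →+ N)
          (α : EtCoh.restr F W ≅ (constantSheaf (J.over W)
            AddCommGrpCat.{u + 1}).obj (AddCommGrpCat.of M))
          (β : EtCoh.restr G W ≅ (constantSheaf (J.over W)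
            AddCommGrpCat.{u + 1}).obj (AddCommGrpCat.of N)),
          (J.overPullback AddCommGrpCat.{u + 1} W).map φ ≫ β.hom =
            α.hom ≫ (constantSheaf (J.over W) AddCommGrpCat.{u + 1}).map
              (AddCommGrpCat.ofHom h) := by
    rintro ⟨i, j⟩
    letI := iM₁ i
    letI := iN₂ j
    haveI := fM₁ i
    let P := prodObj X (toTop (U₁ i)) (toTop (U₂ j))
    let αP := restrictIso.{u+1, u, u+1} J (prodFst X (toTop (U₁ i)) (toTop (U₂ j))) (α₁ i).some
    let βP := restrictIso.{u+1, u, u+1} J (prodSnd X (toTop (U₁ i)) (toTop (U₂ j))) (β₂ j).some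
    haveI : Finite (AddCommGrpCat.of (ULift.{u + 1} (M₁ i))) :=
      inferInstanceAs (Finite (ULift.{u + 1} (M₁ i)))
    obtain ⟨S, hS, hprop⟩ := constSieve_mem.{u+1, u, u+1} J φ P αP βP
    refine ⟨S, hS, ?_⟩
    intro W g hg
    obtain ⟨h, hh⟩ := hprop g hg
    exact ⟨ULift.{u + 1} (M₁ i), N₂ j, inferInstance, inferInstance, h, restrictIso.{u+1, u, u+1} J g αP,
      restrictIso.{u+1, u, u+1} J g βP, hh⟩
  choose S hS hprop using hP
  have hpt : ∀ (ij : ι₁ × ι₂) (x : (prodObj X (toTop (U₁ ij.1)) (toTop (U₂ ij.2))).left),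
      ∃ (W : X.Etale) (g : W ⟶ prodObj X (toTop (U₁ ij.1)) (toTop (U₂ ij.2))) (y : W.left),
        (S ij) g ∧ g.left y = x := by
    intro ij x
    have := hS ij
    rw [mem_et_iff] at this
    obtain ⟨W, g, y, hg, -, hy⟩ := this x
    exact ⟨W, g, y, hg, hy⟩
  choose W g y hg hy using hpt
  refine ⟨Σ ij : ι₁ × ι₂, (prodObj X (toTop (U₁ ij.1)) (toTop (U₂ ij.2))).left,
    fun k => W k.1 k.2, ?_, ?_⟩
  · intro x
    obtain ⟨i, y₁, hy₁⟩ := hU₁ x
    obtain ⟨j, y₂, hy₂⟩ := hU₂ x
    obtain ⟨p, hp⟩ := exists_prod_point y₁ y₂ (hy₁.trans hy₂.symm)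
    refine ⟨⟨(i, j), p⟩, y (i, j) p, ?_⟩
    have h1 : (g (i, j) p).left ≫ (prodObj X (toTop (U₁ i)) (toTop (U₂ j))).hom =
        (W (i, j) p).hom := MorphismProperty.Over.w (g (i, j) p)
    have h2 : (W (i, j) p).hom (y (i, j) p) =
        (prodObj X (toTop (U₁ i)) (toTop (U₂ j))).hom ((g (i, j) p).left (y (i, j) p)) := by
      rw [← h1]; rfl
    refine (h2.trans ?_).trans hy₁
    rw [hy (i, j) p]
    exact hp
  · rintro ⟨ij, x⟩
    exact hprop ij (g ij x) (hg ij x)

end Aux

/-- Let φ : F ⟶ G be a map of locally constant abelian sheaves on the small etale site of a scheme X,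
with F finite locally constant. Then on the members of some etale covering of X the restriction of φ
is, up to isomorphisms with constant sheaves on both sides, the map of constant sheaves induced by a
homomorphism of abelian groups. -/
theorem result {X : Scheme.{u}} (F G : EtCoh.Ab X) (φ : F ⟶ G)
    (hF : EtCoh.IsFiniteLocallyConstant F) (hG : EtRest.IsLocallyConstant G) :
    ∃ (ι : Type u) (U : ι → X.Etale), EtCoh.Covers U ∧ ∀ i, ∃ (M N : Type (u + 1)) (_ : AddCommGroup M) (_ : AddCommGroup N)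
      (h : M →+ N)
      (α : EtCoh.restr F (U i) ≅ (constantSheaf (X.smallEtaleTopology.over (U i)) AddCommGrpCat.{u + 1}).obj (AddCommGrpCat.of M))
      (β : EtCoh.restr G (U i) ≅ (constantSheaf (X.smallEtaleTopology.over (U i)) AddCommGrpCat.{u + 1}).obj (AddCommGrpCat.of N)),
      (X.smallEtaleTopology.overPullback AddCommGrpCat.{u + 1} (U i)).map φ ≫ β.hom = α.hom ≫ (constantSheaf (X.smallEtaleTopology.over (U i)) AddCommGrpCat.{u + 1}).map (AddCommGrpCat.ofHom h) := by
  exact Aux.main F G φ hF hG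

end Groth.Agent.S6647
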