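import Groth.Statements.S6645
import Mathlib
import Groth.Prelude.Def_EtCore
import Groth.Prelude.Def_EtRestW
import Groth.Agent.Lib.Helper9.FE.ConstUnit
import Groth.Agent.Lib.Helper9.FE.ConstSiteOver
import Groth.Agent.Lib.Helper9.FE.ConstSiteGen
import Groth.Agent.S6647
-- import your own Groth.Agent.* helpers here

set_option autoImplicit false
open CategoryTheory CategoryTheory.Limits AlgebraicGeometry Opposite
universe u
open EtCore

namespace Groth.Agent.S6645

open CategoryTheory CategoryTheory.Limits AlgebraicGeometry Opposite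
open CategoryTheory CategoryTheory.Limits AlgebraicGeometry Opposite
namespace Aux
set_option backward.isDefEq.respectTransparency false
set_option linter.style.haveILetI false
set_option linter.unusedSectionVars false
open H9FE H9FE.ConstUnit H9FE.ConstSite Groth.Agent.S14453.Aux Groth.Agent.S6647.Aux

/-- a finite abelian group in a higher universe is a lift of one in `Type` -/
theorem exists_small_model (E₁ : AddCommGrpCat.{u + 1}) [Finite E₁] :
    ∃ (K : Type) (_ : AddCommGroup K) (_ : Finite K),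
      Nonempty (E₁ ≅ AddCommGrpCat.of (ULift.{u + 1} K)) := by
  haveI : Small.{0} E₁ := inferInstance
  refine ⟨Shrink.{0} E₁, inferInstance, Finite.of_equiv _ (equivShrink.{0} E₁), ?_⟩
  let e : E₁ ≃+ ULift.{u + 1} (Shrink.{0} E₁) :=
    (Shrink.addEquiv.{0} (α := E₁)).symm.trans AddEquiv.ulift.symm
  exact ⟨AddEquiv.toAddCommGrpIso e⟩

theorem ker_coker {X : Scheme.{u}} {F G : EtCoh.Ab X} (φ : F ⟶ G) (W : X.Etale)
    {M N : AddCommGrpCat.{u + 1}} [Finite M] [Finite N] (h : M ⟶ N)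
    (α : EtCoh.restr F W ≅ (constantSheaf (X.smallEtaleTopology.over W)
      AddCommGrpCat.{u + 1}).obj M)
    (β : EtCoh.restr G W ≅ (constantSheaf (X.smallEtaleTopology.over W)
      AddCommGrpCat.{u + 1}).obj N)
    (sq : (X.smallEtaleTopology.overPullback AddCommGrpCat.{u + 1} W).map φ ≫ β.hom =
      α.hom ≫ (constantSheaf (X.smallEtaleTopology.over W) AddCommGrpCat.{u + 1}).map h) :
    (∃ (K : AddCommGrpCat.{u + 1}) (_ : Finite K), Nonempty (EtCoh.restr (kernel φ) W ≅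
      (constantSheaf (X.smallEtaleTopology.over W) AddCommGrpCat.{u + 1}).obj K)) ∧
    (∃ (Q : AddCommGrpCat.{u + 1}) (_ : Finite Q), Nonempty (EtCoh.restr (cokernel φ) W ≅
      (constantSheaf (X.smallEtaleTopology.over W) AddCommGrpCat.{u + 1}).obj Q)) := by
  let J := X.smallEtaleTopology
  let R := J.overPullback AddCommGrpCat.{u + 1} W
  let cSf := constantSheaf (J.over W) AddCommGrpCat.{u + 1}
  haveI : PreservesFiniteLimits cSf := by
    unfold cSf constantSheaf; infer_instance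
  haveI : PreservesColimits cSf :=
    (constantSheafAdj _ _ (Over.mkIdTerminal)).leftAdjoint_preservesColimits
  haveI : R.IsRightAdjoint := inferInstance
  haveI : R.IsLeftAdjoint :=
    ((Over.forget W).sheafAdjunctionCocontinuous AddCommGrpCat.{u + 1} (J.over W) J).isLeftAdjoint
  constructor
  · refine ⟨kernel h, ?_, ⟨?_⟩⟩
    · exact Finite.of_injective (kernel.ι h) ((AddCommGrpCat.mono_iff_injective _).1 inferInstance)
    · exact PreservesKernel.iso R φ ≪≫ kernel.mapIso (R.map φ) (cSf.map h) α β sq ≪≫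
        (PreservesKernel.iso cSf h).symm
  · refine ⟨cokernel h, ?_, ⟨?_⟩⟩
    · exact Finite.of_surjective (cokernel.π h)
        ((AddCommGrpCat.epi_iff_surjective _).1 inferInstance)
    · exact PreservesCokernel.iso R φ ≪≫ cokernel.mapIso (R.map φ) (cSf.map h) α β sq ≪≫
        (PreservesCokernel.iso cSf h).symm

/-- the property of being constant with finite value group over a member of the site -/
def FinConst {X : Scheme.{u}} (E : EtCoh.Ab X) (W : X.Etale) : Prop :=
  ∃ (K : AddCommGrpCat.{u + 1}) (_ : Finite K), Nonempty (EtCoh.restr E W ≅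
    (constantSheaf (X.smallEtaleTopology.over W) AddCommGrpCat.{u + 1}).obj K)

theorem cover_of_sieves {X : Scheme.{u}} {ι₁ ι₂ : Type u} (U₁ : ι₁ → X.Etale)
    (U₂ : ι₂ → X.Etale) (hU₁ : EtCoh.Covers U₁) (hU₂ : EtCoh.Covers U₂) (Q : X.Etale → Prop)
    (hQ : ∀ i j, ∃ S : Sieve (prodObj X (toTop (U₁ i)) (toTop (U₂ j))),
      S ∈ X.smallEtaleTopology _ ∧ ∀ {W : X.Etale} (g : W ⟶ _), S g → Q W) :
    ∃ (ι : Type u) (U : ι → X.Etale), EtCoh.Covers U ∧ ∀ i, Q (U i) := by
  classical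
  choose S hS hprop using hQ
  have hpt : ∀ (ij : ι₁ × ι₂) (x : (prodObj X (toTop (U₁ ij.1)) (toTop (U₂ ij.2))).left),
      ∃ (W : X.Etale) (g : W ⟶ prodObj X (toTop (U₁ ij.1)) (toTop (U₂ ij.2))) (y : W.left),
        (S ij.1 ij.2) g ∧ g.left y = x := by
    intro ij x
    have := hS ij.1 ij.2
    rw [mem_et_iff] at this
    obtain ⟨W, g, y, hg, -, hy⟩ := this x
    exact ⟨W, g, y, hg, hy⟩
  choose W g y hg hy using hpt
  refine ⟨Σ ij : ι₁ × ι₂, (prodObj X (toTop (U₁ ij.1)) (toTop (U₂ ij.2))).left,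
    fun k => W k.1 k.2, ?_, ?_⟩
  · intro x
    obtain ⟨i, y₁, hy₁⟩ := hU₁ x
    obtain ⟨j, y₂, hy₂⟩ := hU₂ x
    obtain ⟨p, hp⟩ := exists_prod_point y₁ y₂ (hy₁.trans hy₂.symm)
    refine ⟨⟨(i, j), p⟩, y (i, j) p, ?_⟩
    have h1 : (g (i, j) p).left ≫ (prodObj X (toTop (U₁ i)) (toTop (U₂ j))).hom =
        (W (i, j) p).hom := MorphismProperty.Over.w (g (i, j) p)
    have h2 : (W (i, j) p).hom (y (i, j) p) =
        (prodObj X (toTop (U₁ i)) (toTop (U₂ j))).hom ((g (i, j) p).left (y (i, j) p)) := by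
      rw [← h1]; rfl
    refine (h2.trans ?_).trans hy₁
    rw [hy (i, j) p]
    exact hp
  · rintro ⟨ij, x⟩
    exact hprop ij.1 ij.2 (g ij x) (hg ij x)

theorem flc_of_finConst {X : Scheme.{u}} (E : EtCoh.Ab X) {ι : Type u} (U : ι → X.Etale)
    (hU : EtCoh.Covers U) (h : ∀ i, FinConst E (U i)) : EtCoh.IsFiniteLocallyConstant E := by
  refine ⟨ι, U, hU, ?_⟩
  intro i
  obtain ⟨K, hK, ⟨θ⟩⟩ := h i
  obtain ⟨K₀, i1, i2, ⟨e⟩⟩ := exists_small_model K
  exact ⟨K₀, i1, i2, ⟨θ ≪≫ (constantSheaf (X.smallEtaleTopology.over (U i))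
    AddCommGrpCat.{u + 1}).mapIso e⟩⟩

theorem ker_coker_flc {X : Scheme.{u}} (F G : EtCoh.Ab X) (φ : F ⟶ G)
    (hF : EtCoh.IsFiniteLocallyConstant F) (hG : EtCoh.IsFiniteLocallyConstant G) :
    EtCoh.IsFiniteLocallyConstant (kernel φ) ∧ EtCoh.IsFiniteLocallyConstant (cokernel φ) := by
  classical
  let J := X.smallEtaleTopology
  obtain ⟨ι₁, U₁, hU₁, hα⟩ := hF
  obtain ⟨ι₂, U₂, hU₂, hβ⟩ := hG
  choose M₁ iM₁ fM₁ α₁ using hα
  choose N₂ iN₂ fN₂ β₂ using hβ
  obtain ⟨ι, U, hU, hQ⟩ := cover_of_sieves U₁ U₂ hU₁ hU₂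
    (fun W => FinConst (kernel φ) W ∧ FinConst (cokernel φ) W) (by
    intro i j
    letI := iM₁ i
    letI := iN₂ j
    haveI := fM₁ i
    haveI := fN₂ j
    let P := prodObj X (toTop (U₁ i)) (toTop (U₂ j))
    let αP := restrictIso.{u+1, u, u+1} J (prodFst X (toTop (U₁ i)) (toTop (U₂ j))) (α₁ i).some
    let βP := restrictIso.{u+1, u, u+1} J (prodSnd X (toTop (U₁ i)) (toTop (U₂ j))) (β₂ j).some
    haveI : Finite (AddCommGrpCat.of (ULift.{u + 1} (M₁ i))) :=
      inferInstanceAs (Finite (ULift.{u + 1} (M₁ i)))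
    haveI : Finite (AddCommGrpCat.of (ULift.{u + 1} (N₂ j))) :=
      inferInstanceAs (Finite (ULift.{u + 1} (N₂ j)))
    obtain ⟨S, hS, hprop⟩ := constSieve_mem.{u+1, u, u+1} J φ P αP βP
    refine ⟨S, hS, ?_⟩
    intro W g hg
    obtain ⟨h, hh⟩ := hprop g hg
    exact ker_coker φ W (AddCommGrpCat.ofHom h) (restrictIso.{u+1, u, u+1} J g αP)
      (restrictIso.{u+1, u, u+1} J g βP) hh)
  exact ⟨flc_of_finConst _ U hU (fun i => (hQ i).1), flc_of_finConst _ U hU (fun i => (hQ i).2)⟩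

theorem ext_flc {X : Scheme.{u}} (S : ShortComplex (EtCoh.Ab X)) (hS : S.ShortExact)
    (hF : EtCoh.IsFiniteLocallyConstant S.X₁) (hG : EtCoh.IsFiniteLocallyConstant S.X₃) :
    EtCoh.IsFiniteLocallyConstant S.X₂ := by
  classical
  let J := X.smallEtaleTopology
  obtain ⟨ι₁, U₁, hU₁, hα⟩ := hF
  obtain ⟨ι₂, U₂, hU₂, hβ⟩ := hG
  choose M₁ iM₁ fM₁ α₁ using hα
  choose N₂ iN₂ fN₂ β₂ using hβ
  obtain ⟨ι, U, hU, hQ⟩ := cover_of_sieves U₁ U₂ hU₁ hU₂
    (fun W => FinConst S.X₂ W) (by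
    intro i j
    letI := iM₁ i
    letI := iN₂ j
    haveI := fM₁ i
    haveI := fN₂ j
    let P := prodObj X (toTop (U₁ i)) (toTop (U₂ j))
    let αP := restrictIso.{u+1, u, u+1} J (prodFst X (toTop (U₁ i)) (toTop (U₂ j))) (α₁ i).some
    let βP := restrictIso.{u+1, u, u+1} J (prodSnd X (toTop (U₁ i)) (toTop (U₂ j))) (β₂ j).some
    haveI : Finite (AddCommGrpCat.of (ULift.{u + 1} (M₁ i))) :=
      inferInstanceAs (Finite (ULift.{u + 1} (M₁ i)))
    haveI : Finite (AddCommGrpCat.of (ULift.{u + 1} (N₂ j))) :=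
      inferInstanceAs (Finite (ULift.{u + 1} (N₂ j)))
    have hmem := finConstSieve_mem_of_shortExact.{u+1, u, u+1} J S hS P αP βP
    refine ⟨_, hmem, ?_⟩
    intro W g hg
    exact hg)
  exact flc_of_finConst _ U hU hQ

theorem main (X : Scheme.{u}) :
    (∀ (F G : EtCoh.Ab X) (φ : F ⟶ G), EtCoh.IsFiniteLocallyConstant F →
      EtCoh.IsFiniteLocallyConstant G →
      EtCoh.IsFiniteLocallyConstant (kernel φ) ∧ EtCoh.IsFiniteLocallyConstant (cokernel φ)) ∧
    ObjectProperty.IsClosedUnderExtensions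
      (fun F : EtCoh.Ab X => EtCoh.IsFiniteLocallyConstant F) := by
  refine ⟨fun F G φ hF hG => ker_coker_flc F G φ hF hG, ?_⟩
  constructor
  intro S hS h1 h3
  exact ext_flc S hS h1 h3

end Aux

/-- On the small etale site of a scheme, kernels and cokernels of maps between finite locally constant
abelian sheaves are finite locally constant, and the property of being finite locally constant is
closed under extensions (a weak Serre subcategory). -/
theorem result (X : Scheme.{u}) :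
    (∀ (F G : EtCoh.Ab X) (φ : F ⟶ G), EtCoh.IsFiniteLocallyConstant F → EtCoh.IsFiniteLocallyConstant G →
      EtCoh.IsFiniteLocallyConstant (kernel φ) ∧ EtCoh.IsFiniteLocallyConstant (cokernel φ)) ∧
    ObjectProperty.IsClosedUnderExtensions (fun F : EtCoh.Ab X => EtCoh.IsFiniteLocallyConstant F) := by
  exact Aux.main X

end Groth.Agent.S6645
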