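import Groth.Statements.S14623
import Mathlib
import Groth.Agent.Lib.Helper3.AdjHtpyPlus

set_option autoImplicit false
open CategoryTheory CategoryTheory.Limits
universe w v u
open CohDer

namespace Groth.Agent.S14623

open Groth.Agent.Helper3.AdjHtpyPlus

/-- Let A and B be abelian categories with enough injectives, L : A ⥤ B an exact additive functor and R
: B ⥤ A an additive right adjoint of L. Then on bounded below derived categories the functor induced
by L (written as its total right derived functor, L being exact) is left adjoint to the right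
derived functor of R; the existence of an adjunction is asserted. -/
theorem result {A B : Type u} [Category.{v} A] [Category.{v} B]
    [Abelian A] [Abelian B] [HasDerivedCategory.{w} A] [HasDerivedCategory.{w} B]
    [EnoughInjectives A] [EnoughInjectives B] {L : A ⥤ B} {R : B ⥤ A} (adj : L ⊣ R)
    [L.Additive] [R.Additive] [PreservesFiniteLimits L] [PreservesFiniteColimits L] :
    Nonempty (L.rightDerivedFunctorPlus ⊣ R.rightDerivedFunctorPlus) := by
  -- `L` preserves quasi-isomorphisms
  have hG : (HomotopyCategory.Plus.quasiIso A).IsInvertedBy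
      (L.mapHomotopyCategoryPlus ⋙ DerivedCategory.Plus.Qh) := by
    intro X Y f hf
    refine Localization.inverts DerivedCategory.Plus.Qh (HomotopyCategory.Plus.quasiIso B) _ ?_
    obtain ⟨X, rfl⟩ := HomotopyCategory.Plus.quotient_obj_surjective X
    obtain ⟨Y, rfl⟩ := HomotopyCategory.Plus.quotient_obj_surjective Y
    obtain ⟨f, rfl⟩ := (HomotopyCategory.Plus.quotient A).map_surjective f
    have hf' : QuasiIso f.hom := by
      have := hf
      rw [HomotopyCategory.Plus.quasiIso_iff] at this
      change HomotopyCategory.quasiIso A _ ((HomotopyCategory.quotient _ _).map f.hom) at this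
      rwa [HomotopyCategory.quotient_map_mem_quasiIso_iff, HomologicalComplex.mem_quasiIso_iff] at this
    rw [HomotopyCategory.Plus.quasiIso_iff]
    change HomotopyCategory.quasiIso B _
      ((HomotopyCategory.quotient _ _).map ((L.mapHomologicalComplex _).map f.hom))
    rw [HomotopyCategory.quotient_map_mem_quasiIso_iff, HomologicalComplex.mem_quasiIso_iff]
    infer_instance
  let β := R.rightDerivedFunctorPlusUnit
  let uL := L.rightDerivedFunctorPlusUnit
  haveI : IsIso uL := Functor.isIso_of_isRightDerivedFunctor_of_inverts _ uL hG
  let α : DerivedCategory.Plus.Qh ⋙ L.rightDerivedFunctorPlus ⟶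
      L.mapHomotopyCategoryPlus ⋙ DerivedCategory.Plus.Qh := inv uL
  haveI h1 : L.rightDerivedFunctorPlus.IsLeftDerivedFunctor α (HomotopyCategory.Plus.quasiIso A) :=
    Functor.isLeftDerivedFunctor_of_inverts _ _ (asIso uL).symm
  haveI h2 : (L.rightDerivedFunctorPlus ⋙ R.rightDerivedFunctorPlus).IsLeftDerivedFunctor
      ((Functor.associator _ _ _).inv ≫ Functor.whiskerRight α R.rightDerivedFunctorPlus)
      (HomotopyCategory.Plus.quasiIso A) :=
    Functor.isLeftDerivedFunctor_of_inverts _ _
      ((Functor.associator _ _ _).symm ≪≫
        Functor.isoWhiskerRight (asIso uL).symm R.rightDerivedFunctorPlus)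
  haveI h3 : (R.rightDerivedFunctorPlus ⋙ L.rightDerivedFunctorPlus).IsRightDerivedFunctor
      (Functor.whiskerRight β L.rightDerivedFunctorPlus ≫ (Functor.associator _ _ _).hom)
      (HomotopyCategory.Plus.quasiIso B) := by
    have hder : (HomotopyCategory.Plus.localizerMorphism B).Derives
        ((R.mapHomotopyCategoryPlus ⋙ DerivedCategory.Plus.Qh) ⋙ L.rightDerivedFunctorPlus) := by
      intro X Y f hf
      have : IsIso f := hf
      infer_instance
    refine hder.isRightDerivedFunctor_of_isIso _ (fun X₁ => ?_)
    dsimp
    infer_instance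
  exact ⟨(adjPlus adj).derived (HomotopyCategory.Plus.quasiIso A)
    (HomotopyCategory.Plus.quasiIso B) α β⟩

end Groth.Agent.S14623
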