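import Groth.Statements.S6646
import Mathlib
import Groth.Prelude.Def_EtBase
import Groth.Prelude.Def_EtMod2
import Groth.Agent.Lib.Helper9.FE.ConstUnit
import Groth.Agent.Lib.Helper9.FE.ModConstSiteOver
import Groth.Agent.Lib.Helper9.FE.ModConstSiteGen
import Groth.Agent.S6647
import Groth.Agent.S6645
-- import your own Groth.Agent.* helpers here

set_option autoImplicit false
open CategoryTheory CategoryTheory.Limits AlgebraicGeometry Opposite
universe u
open EtModW

namespace Groth.Agent.S6646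

open CategoryTheory CategoryTheory.Limits AlgebraicGeometry Opposite
open CategoryTheory CategoryTheory.Limits AlgebraicGeometry Opposite
namespace Aux
set_option backward.isDefEq.respectTransparency false
set_option linter.style.haveILetI false
set_option linter.unusedSectionVars false
open H9FE H9FE.ConstUnit H9FE.ModConstSite Groth.Agent.S14453.Aux Groth.Agent.S6647.Aux

variable (Λ : Type (u + 1)) [CommRing Λ]

theorem ker_coker [IsNoetherianRing Λ] {X : Scheme.{u}} {F G : EtModW.Mod Λ X} (φ : F ⟶ G)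
    (W : X.Etale)
    {M N : ModuleCat.{u + 1} Λ} [Module.Finite Λ M] [Module.Finite Λ N] (h : M ⟶ N)
    (α : EtModW.restr Λ F W ≅ (constantSheaf (X.smallEtaleTopology.over W)
      (ModuleCat.{u + 1} Λ)).obj M)
    (β : EtModW.restr Λ G W ≅ (constantSheaf (X.smallEtaleTopology.over W)
      (ModuleCat.{u + 1} Λ)).obj N)
    (sq : (X.smallEtaleTopology.overPullback (ModuleCat.{u + 1} Λ) W).map φ ≫ β.hom =
      α.hom ≫ (constantSheaf (X.smallEtaleTopology.over W) (ModuleCat.{u + 1} Λ)).map h) :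
    (∃ (K : ModuleCat.{u + 1} Λ) (_ : Module.Finite Λ K), Nonempty (EtModW.restr Λ (kernel φ) W ≅
      (constantSheaf (X.smallEtaleTopology.over W) (ModuleCat.{u + 1} Λ)).obj K)) ∧
    (∃ (Q : ModuleCat.{u + 1} Λ) (_ : Module.Finite Λ Q), Nonempty (EtModW.restr Λ (cokernel φ) W ≅
      (constantSheaf (X.smallEtaleTopology.over W) (ModuleCat.{u + 1} Λ)).obj Q)) := by
  let J := X.smallEtaleTopology
  let R := J.overPullback (ModuleCat.{u + 1} Λ) W
  let cSf := constantSheaf (J.over W) (ModuleCat.{u + 1} Λ)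
  haveI : PreservesFiniteLimits cSf := by
    unfold cSf constantSheaf; infer_instance
  haveI : PreservesColimits cSf :=
    (constantSheafAdj _ _ (Over.mkIdTerminal)).leftAdjoint_preservesColimits
  haveI : R.IsRightAdjoint := inferInstance
  haveI : R.IsLeftAdjoint :=
    ((Over.forget W).sheafAdjunctionCocontinuous (ModuleCat.{u + 1} Λ) (J.over W) J).isLeftAdjoint
  constructor
  · refine ⟨kernel h, ?_, ⟨?_⟩⟩
    · exact Module.Finite.of_injective (kernel.ι h).hom
        ((ModuleCat.mono_iff_injective _).1 inferInstance)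
    · exact PreservesKernel.iso R φ ≪≫ kernel.mapIso (R.map φ) (cSf.map h) α β sq ≪≫
        (PreservesKernel.iso cSf h).symm
  · refine ⟨cokernel h, ?_, ⟨?_⟩⟩
    · exact Module.Finite.of_surjective (cokernel.π h).hom
        ((ModuleCat.epi_iff_surjective _).1 inferInstance)
    · exact PreservesCokernel.iso R φ ≪≫ cokernel.mapIso (R.map φ) (cSf.map h) α β sq ≪≫
        (PreservesCokernel.iso cSf h).symm

/-- the property of being constant with finitely generated value over a member of the site -/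
def FTConst {X : Scheme.{u}} (E : EtModW.Mod Λ X) (W : X.Etale) : Prop :=
  ∃ (K : ModuleCat.{u + 1} Λ) (_ : Module.Finite Λ K), Nonempty (EtModW.restr Λ E W ≅
    (constantSheaf (X.smallEtaleTopology.over W) (ModuleCat.{u + 1} Λ)).obj K)

theorem ftlc_of_ftConst {X : Scheme.{u}} (E : EtModW.Mod Λ X) {ι : Type u} (U : ι → X.Etale)
    (hU : EtCoh.Covers U) (h : ∀ i, FTConst Λ E (U i)) : EtModW.IsFTLocConst Λ E := by
  refine ⟨ι, U, hU, ?_⟩
  intro i
  obtain ⟨K, hK, ⟨θ⟩⟩ := h i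
  exact ⟨K, inferInstance, inferInstance, hK, ⟨θ⟩⟩

theorem ker_coker_ftlc [IsNoetherianRing Λ] {X : Scheme.{u}} (F G : EtModW.Mod Λ X) (φ : F ⟶ G)
    (hF : EtModW.IsFTLocConst Λ F) (hG : EtModW.IsFTLocConst Λ G) :
    EtModW.IsFTLocConst Λ (kernel φ) ∧ EtModW.IsFTLocConst Λ (cokernel φ) := by
  classical
  let J := X.smallEtaleTopology
  obtain ⟨ι₁, U₁, hU₁, hα⟩ := hF
  obtain ⟨ι₂, U₂, hU₂, hβ⟩ := hG
  choose M₁ iM₁ mM₁ fM₁ α₁ using hα
  choose N₂ iN₂ mN₂ fN₂ β₂ using hβ
  obtain ⟨ι, U, hU, hQ⟩ := Groth.Agent.S6645.Aux.cover_of_sieves U₁ U₂ hU₁ hU₂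
    (fun W => FTConst Λ (kernel φ) W ∧ FTConst Λ (cokernel φ) W) (by
    intro i j
    letI := iM₁ i
    letI := iN₂ j
    letI := mM₁ i
    letI := mN₂ j
    haveI := fM₁ i
    haveI := fN₂ j
    let P := prodObj X (toTop (U₁ i)) (toTop (U₂ j))
    let αP := restrictIso.{u+1, u, u+1} J (prodFst X (toTop (U₁ i)) (toTop (U₂ j))) (α₁ i).some
    let βP := restrictIso.{u+1, u, u+1} J (prodSnd X (toTop (U₁ i)) (toTop (U₂ j))) (β₂ j).some
    haveI : Module.Finite Λ (ModuleCat.of Λ (M₁ i)) := fM₁ i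
    haveI : Module.Finite Λ (ModuleCat.of Λ (N₂ j)) := fN₂ j
    obtain ⟨S, hS, hprop⟩ := constSieve_mem.{u+1, u, u+1} J φ P αP βP
    refine ⟨S, hS, ?_⟩
    intro W g hg
    obtain ⟨h, hh⟩ := hprop g hg
    exact ker_coker Λ φ W (ModuleCat.ofHom h) (restrictIso.{u+1, u, u+1} J g αP)
      (restrictIso.{u+1, u, u+1} J g βP) hh)
  exact ⟨ftlc_of_ftConst Λ _ U hU (fun i => (hQ i).1), ftlc_of_ftConst Λ _ U hU (fun i => (hQ i).2)⟩

theorem ext_ftlc [IsNoetherianRing Λ] {X : Scheme.{u}} (S : ShortComplex (EtModW.Mod Λ X))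
    (hS : S.ShortExact)
    (hF : EtModW.IsFTLocConst Λ S.X₁) (hG : EtModW.IsFTLocConst Λ S.X₃) :
    EtModW.IsFTLocConst Λ S.X₂ := by
  classical
  let J := X.smallEtaleTopology
  obtain ⟨ι₁, U₁, hU₁, hα⟩ := hF
  obtain ⟨ι₂, U₂, hU₂, hβ⟩ := hG
  choose M₁ iM₁ mM₁ fM₁ α₁ using hα
  choose N₂ iN₂ mN₂ fN₂ β₂ using hβ
  obtain ⟨ι, U, hU, hQ⟩ := Groth.Agent.S6645.Aux.cover_of_sieves U₁ U₂ hU₁ hU₂
    (fun W => FTConst Λ S.X₂ W) (by
    intro i j
    letI := iM₁ i
    letI := iN₂ j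
    letI := mM₁ i
    letI := mN₂ j
    haveI := fM₁ i
    haveI := fN₂ j
    let P := prodObj X (toTop (U₁ i)) (toTop (U₂ j))
    let αP := restrictIso.{u+1, u, u+1} J (prodFst X (toTop (U₁ i)) (toTop (U₂ j))) (α₁ i).some
    let βP := restrictIso.{u+1, u, u+1} J (prodSnd X (toTop (U₁ i)) (toTop (U₂ j))) (β₂ j).some
    haveI : Module.Finite Λ (ModuleCat.of Λ (M₁ i)) := fM₁ i
    haveI : Module.Finite Λ (ModuleCat.of Λ (N₂ j)) := fN₂ j
    have hmem := ftConstSieve_mem_of_shortExact.{u+1, u, u+1} J S hS P αP βP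
    refine ⟨_, hmem, ?_⟩
    intro W g hg
    exact hg)
  exact ftlc_of_ftConst Λ _ U hU hQ

theorem main [IsNoetherianRing Λ] (X : Scheme.{u}) :
    (∀ (F G : EtModW.Mod Λ X) (φ : F ⟶ G), EtModW.IsFTLocConst Λ F → EtModW.IsFTLocConst Λ G →
      EtModW.IsFTLocConst Λ (kernel φ) ∧ EtModW.IsFTLocConst Λ (cokernel φ)) ∧
    ObjectProperty.IsClosedUnderExtensions (fun F : EtModW.Mod Λ X => EtModW.IsFTLocConst Λ F) := by
  refine ⟨fun F G φ hF hG => ker_coker_ftlc Λ F G φ hF hG, ?_⟩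
  constructor
  intro S hS h1 h3
  exact ext_ftlc Λ S hS h1 h3

end Aux

/-- For a Noetherian coefficient ring Λ, on the small etale site of a scheme, kernels and cokernels of
maps between finite type locally constant sheaves of Λ-modules are finite type locally constant, and
that property is closed under extensions (a weak Serre subcategory). -/
theorem result (Λ : Type (u + 1)) [CommRing Λ] [IsNoetherianRing Λ] (X : Scheme.{u}) :
    (∀ (F G : EtModW.Mod Λ X) (φ : F ⟶ G), EtModW.IsFTLocConst Λ F → EtModW.IsFTLocConst Λ G →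
      EtModW.IsFTLocConst Λ (kernel φ) ∧ EtModW.IsFTLocConst Λ (cokernel φ)) ∧
    ObjectProperty.IsClosedUnderExtensions (fun F : EtModW.Mod Λ X => EtModW.IsFTLocConst Λ F) := by
  exact Aux.main Λ X

end Groth.Agent.S6646
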