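import Groth.Statements.S0729
import Mathlib
import Groth.Agent.Lib.Helper5.Misc.EtSiteBasic

set_option autoImplicit false
open CategoryTheory CategoryTheory.Limits AlgebraicGeometry Opposite
universe u
open ProEtS


namespace Groth.Agent.S0729

set_option backward.isDefEq.respectTransparency.types false in
lemma coverPreserving (X : Scheme.{u}) :
    CoverPreserving X.smallEtaleTopology (Scheme.ProEt.topology X) (ProEtS.eps X) := by
  refine ⟨?_⟩
  intro U S hS
  obtain ⟨𝒰, h𝒰, p, hle⟩ := (Scheme.mem_smallGrothendieckTopology U S).1 hS
  let YY : 𝒰.I₀ → X.Etale := fun i => (𝒰.X i).asOverProp X (p i)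
  let f : ∀ i, YY i ⟶ U := fun i => (𝒰.f i).asOverProp X
  have hf : ∀ i, S (f i) := fun i => hle _ _ ⟨i⟩
  let R : Presieve ((ProEtS.eps X).obj U) :=
    Presieve.ofArrows (fun i => (ProEtS.eps X).obj (YY i)) (fun i => (ProEtS.eps X).map (f i))
  have hR : R ∈ Scheme.ProEt.precoverage X ((ProEtS.eps X).obj U) := by
    rw [Scheme.ProEt.precoverage, Precoverage.mem_comap_iff, Presieve.map_ofArrows]
    apply Scheme.etalePrecoverage_le_proetalePrecoverage
    exact 𝒰.mem₀
  refine (Scheme.ProEt.topology X).superset_covering ?_
    (Precoverage.generate_mem_toGrothendieck hR)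
  rw [Sieve.generate_le_iff]
  rintro _ _ ⟨i⟩
  exact ⟨YY i, f i, 𝟙 _, hf i, by simp⟩

end Groth.Agent.S0729

namespace Groth.Agent.S0729

/-- Every étale covering of a scheme X is a pro-étale covering, in the form used to define the
comparison morphism of sites ε : X_proét → X_ét: the inclusion functor from the small étale site of
X to the small pro-étale site of X is continuous. -/
theorem result (X : Scheme.{u}) : ProEtS.EpsCont X := by
  haveI : PreservesFiniteLimits (ProEtS.eps X) := by
    have h : PreservesFiniteLimits (ProEtS.eps X ⋙ Scheme.ProEt.forget X) := by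
      change PreservesFiniteLimits (Scheme.Etale.forget X)
      infer_instance
    exact preservesFiniteLimits_of_reflects_of_preserves (ProEtS.eps X) (Scheme.ProEt.forget X)
  haveI : RepresentablyFlat (ProEtS.eps X) := flat_of_preservesFiniteLimits _
  exact Functor.isContinuous_of_coverPreserving (compatiblePreservingOfFlat _ _)
    (coverPreserving X)

end Groth.Agent.S0729
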