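import Groth.Statements.S1153
import Mathlib
import Groth.Agent.S0086
import Groth.Agent.Lib.Helper3.ProperOver

set_option autoImplicit false
open CategoryTheory CategoryTheory.Limits AlgebraicGeometry Opposite
universe u
open Desc

namespace Groth.Agent.S1153

section
open CategoryTheory CategoryTheory.Limits AlgebraicGeometry Opposite

open Groth.Agent.Helper3

theorem main {X Y Y' : Scheme.{u}} (f : X ⟶ Y) [LocallyOfFiniteType f] (Z : Set X) (hZ : IsClosed Z)
    (g : Y' ⟶ Y) [QuasiCompact g] [Flat g] [Surjective g]
    (h : ClSub.IsProperOver (pullback.snd f g) ((pullback.fst f g).base ⁻¹' Z)) :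
    ClSub.IsProperOver f Z := by
  rw [isProperOver_iff f Z hZ]
  -- the closed subscheme of the base change
  let i' := pullback.snd (redι Z hZ) (pullback.fst f g)
  have hrange : Set.range i'.base = (pullback.fst f g).base ⁻¹' Z := by
    have := Scheme.Pullback.range_snd (redι Z hZ) (pullback.fst f g)
    rw [range_redι] at this
    exact this
  have hp : IsProper (i' ≫ pullback.snd f g) :=
    (isProperOver_iff_of_isClosedImmersion (pullback.snd f g) i' _ hrange).1 h
  -- pasting of pullback squares
  have sq1 : IsPullback (pullback.fst (redι Z hZ) (pullback.fst f g)) i' (redι Z hZ)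
      (pullback.fst f g) := IsPullback.of_hasPullback _ _
  have sq2 : IsPullback (pullback.fst f g) (pullback.snd f g) f g := IsPullback.of_hasPullback _ _
  have sq := sq1.paste_vert sq2
  haveI := Groth.Agent.S0086.result.{u}
  exact MorphismProperty.of_isPullback_of_descendsAlong (P := @IsProper)
    (Q := (@Surjective ⊓ @Flat ⊓ @QuasiCompact : MorphismProperty Scheme.{u})) sq.flip
    ⟨⟨inferInstance, inferInstance⟩, inferInstance⟩ hp


end


/-- Let f : X ⟶ Y be locally of finite type, Z a closed subset of X and g : Y' ⟶ Y quasi-compact, flat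
and surjective. If the preimage of Z in X ×_Y Y' is proper over Y', then Z is proper over Y. -/
theorem result {X Y Y' : Scheme.{u}} (f : X ⟶ Y) [LocallyOfFiniteType f] (Z : Set X) (hZ : IsClosed Z)
    (g : Y' ⟶ Y) [QuasiCompact g] [Flat g] [Surjective g]
    (h : ClSub.IsProperOver (pullback.snd f g) ((pullback.fst f g).base ⁻¹' Z)) :
    ClSub.IsProperOver f Z := by
  classical
  exact main f Z hZ g h

end Groth.Agent.S1153
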