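import Groth.Statements.S0671
import Mathlib
import Groth.Agent.Lib.Helper5.Misc.EtStalk
import Groth.Agent.Lib.Helper5.Misc.EtSiteBasic

set_option autoImplicit false
open CategoryTheory CategoryTheory.Limits AlgebraicGeometry Opposite
universe u
open EtCore

open Groth.Agent.Lib.Helper5

namespace Groth.Agent.S0671

lemma isClosed_sectSupp {S : Scheme.{u}} (F : EtCoh.Ab S) (U : S.Etale) (σ : EtCoh.sect F U) :
    IsClosed (EtShriek.sectSupp F U σ) := by
  rw [← isOpen_compl_iff]
  rw [isOpen_iff_forall_mem_open]
  intro x hx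
  simp only [EtShriek.sectSupp, Set.mem_compl_iff, Set.mem_ofPred_eq, not_forall, not_not] at hx
  obtain ⟨W, g, ⟨w, hw⟩, h0⟩ := hx
  haveI : Etale g.left := by
    haveI : Etale W.hom := W.prop
    haveI : Etale U.hom := U.prop
    have e1 : g.left ≫ U.hom = W.hom := Over.w g.hom
    haveI : Etale (g.left ≫ U.hom) := by rw [e1]; infer_instance
    exact Etale.of_comp g.left U.hom
  refine ⟨Set.range g.left.base, ?_, g.left.isOpenMap.isOpen_range, ⟨w, hw⟩⟩
  rintro _ ⟨w', rfl⟩
  simp only [EtShriek.sectSupp, Set.mem_compl_iff, Set.mem_ofPred_eq, not_forall, not_not]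
  exact ⟨W, g, ⟨w', rfl⟩, h0⟩

set_option backward.isDefEq.respectTransparency.types false in
lemma supp_eq {S : Scheme.{u}} (F : EtCoh.Ab S) :
    EtPBC.supp F =
      ⋃ (U : S.Etale) (σ : EtCoh.sect F U), U.hom.base '' EtShriek.sectSupp F U σ := by
  haveI := EtStalk.pfc.{u}
  ext x
  simp only [Set.mem_iUnion, Set.mem_image]
  constructor
  · rintro ⟨Ω, _, _, ξ, hξ, hnz⟩
    have hex : ∃ t : (EtCoh.stalk ξ).obj F, t ≠ 0 := by
      by_contra hcon
      push Not at hcon
      apply hnz
      haveI : Subsingleton ((EtCoh.stalk ξ).obj F) := ⟨fun a b => (hcon a).trans (hcon b).symm⟩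
      exact AddCommGrpCat.isZero_of_subsingleton _
    obtain ⟨t, ht⟩ := hex
    obtain ⟨V, v, s, rfl⟩ := (Scheme.pointSmallEtale ξ).toPresheafFiber_jointly_surjective
      (P := F.obj) t
    refine ⟨V, s, v.left (default : Spec (CommRingCat.of Ω)), ?_, ?_⟩
    · rintro W g ⟨w, hw⟩ h0
      obtain ⟨y, hy, -⟩ := EtStalk.exists_lift_fiber ξ g v w hw
      apply ht
      have w1 := ConcreteCategory.congr_hom
        ((Scheme.pointSmallEtale ξ).toPresheafFiber_w g y F.obj) s
      simp only [ConcreteCategory.comp_apply] at w1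
      have w2 : ((Scheme.pointSmallEtale ξ).toPresheafFiber W y F.obj) (F.obj.map g.op s) =
          ((Scheme.pointSmallEtale ξ).toPresheafFiber V v F.obj) s := by
        refine w1.trans ?_
        exact congrArg (fun z => ((Scheme.pointSmallEtale ξ).toPresheafFiber V z F.obj) s) hy
      refine w2.symm.trans ?_
      exact (congrArg _ h0).trans (map_zero _)
    · have e : v.left ≫ V.hom = ξ := Over.w v
      have e2 : V.hom (v.left (default : Spec (CommRingCat.of Ω))) = ξ default :=
        congrArg (fun f : Spec (CommRingCat.of Ω) ⟶ S => f default) e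
      have e3 : ξ default ∈ Set.range ξ := ⟨_, rfl⟩
      rw [hξ] at e3
      exact e2.trans e3
  · rintro ⟨U, σ, y, hy, rfl⟩
    let P := EtStalk.geomPtAt y
    refine ⟨P.Ω, inferInstance, inferInstance, P.ξ ≫ U.hom, ?_, ?_⟩
    · ext a
      constructor
      · rintro ⟨b, rfl⟩
        rw [Subsingleton.elim b default]
        change U.hom (P.ξ default) = U.hom y
        rw [EtStalk.geomPtAt_default]
      · intro ha
        refine ⟨default, ?_⟩
        rw [ha]
        change U.hom (P.ξ default) = U.hom y
        rw [EtStalk.geomPtAt_default]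
    · intro hz
      let pt : (Scheme.pointSmallEtale (P.ξ ≫ U.hom)).fiber.obj U := Over.homMk P.ξ rfl
      have h0 : (Scheme.pointSmallEtale (P.ξ ≫ U.hom)).toPresheafFiber U pt F.obj σ =
          (Scheme.pointSmallEtale (P.ξ ≫ U.hom)).toPresheafFiber U pt F.obj 0 :=
        @Subsingleton.elim _ (AddCommGrpCat.subsingleton_of_isZero hz) _ _
      rw [(Scheme.pointSmallEtale (P.ξ ≫ U.hom)).toPresheafFiber_eq_iff'] at h0
      obtain ⟨W, g, w, hw, hres⟩ := h0
      refine hy W g ⟨w.left (default : Spec (CommRingCat.of P.Ω)), ?_⟩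
        (hres.trans (map_zero _))
      have e1 : w.left ≫ g.left = P.ξ := congrArg (fun a => a.left) hw
      have e2 : g.left (w.left (default : Spec (CommRingCat.of P.Ω))) = P.ξ default :=
        congrArg (fun f : Spec (CommRingCat.of P.Ω) ⟶ U.left => f default) e1
      exact e2.trans (EtStalk.geomPtAt_default y)

end Groth.Agent.S0671

namespace Groth.Agent.S0671

/-- For an abelian sheaf F on the small etale site of S and a section σ over an etale S-scheme U, the
support of σ is a closed subset of U; and a point of S has a nonzero geometric stalk exactly when it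
is the image of a point lying in the support of some section over some etale S-scheme. -/
theorem result {S : Scheme.{u}} (F : EtCoh.Ab S) :
    (∀ (U : S.Etale) (σ : EtCoh.sect F U), IsClosed (EtShriek.sectSupp F U σ)) ∧
    EtPBC.supp F = ⋃ (U : S.Etale) (σ : EtCoh.sect F U), U.hom.base '' EtShriek.sectSupp F U σ := by
  exact ⟨fun U σ => isClosed_sectSupp F U σ, supp_eq F⟩

end Groth.Agent.S0671
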