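import Groth.Statements.S0680
import Mathlib
import Groth.Prelude.Def_EtShriek2
import Groth.Agent.S0671
import Groth.Agent.S0728
import Groth.Agent.Lib.Helper9.FE.ProperLoc
import Groth.Agent.Lib.Helper5.Misc.EtSiteBasic
-- import your own Groth.Agent.* helpers here

set_option autoImplicit false
open CategoryTheory CategoryTheory.Limits AlgebraicGeometry Opposite
universe u
open EtShriek

namespace Groth.Agent.S0680

open CategoryTheory CategoryTheory.Limits AlgebraicGeometry Opposite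
namespace Aux

set_option backward.isDefEq.respectTransparency false
set_option linter.style.haveILetI false
set_option linter.unusedSectionVars false

open EtShriek Groth.Agent.Lib.Helper5 H9FE.ProperLoc Groth.Agent.S0728

variable {X Y : Scheme.{u}}

lemma sectSupp_zero (F : EtCoh.Ab X) (U : X.Etale) : sectSupp F U (0 : EtCoh.sect F U) = ∅ := by
  ext x
  simp only [sectSupp, Set.mem_ofPred_eq, Set.mem_empty_iff_false, iff_false]
  intro h
  exact h U (𝟙 U) ⟨x, rfl⟩ (map_zero _)

lemma sectSupp_neg (F : EtCoh.Ab X) (U : X.Etale) (s : EtCoh.sect F U) :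
    sectSupp F U (-s) = sectSupp F U s := by
  ext x
  simp only [sectSupp, Set.mem_ofPred_eq, map_neg, ne_eq, neg_eq_zero]

lemma sectSupp_add_subset (F : EtCoh.Ab X) (U : X.Etale) (s t : EtCoh.sect F U) :
    sectSupp F U (s + t) ⊆ sectSupp F U s ∪ sectSupp F U t := by
  intro x hx
  by_contra hn
  rw [Set.mem_union, not_or] at hn
  obtain ⟨h1, h2⟩ := hn
  simp only [sectSupp, Set.mem_ofPred_eq, not_forall, not_not] at h1 h2
  obtain ⟨N₁, g₁, ⟨n₁, hn₁⟩, h01⟩ := h1
  obtain ⟨N₂, g₂, ⟨n₂, hn₂⟩, h02⟩ := h2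
  obtain ⟨W', p₁, p₂, w', hp, hw1, -⟩ :=
    exists_pullback_point g₁ g₂ n₁ n₂ (hn₁.trans hn₂.symm)
  refine hx W' (p₁ ≫ g₁) ⟨w', ?_⟩ ?_
  · change g₁.left (p₁.left w') = x
    rw [hw1]
    exact hn₁
  · rw [map_add, map_comp_apply, h01, map_zero, hp, map_comp_apply, h02, map_zero, add_zero]

lemma preimage_sectSupp_subset (F : EtCoh.Ab X) {U U' : X.Etale} (φ : U' ⟶ U)
    (s : EtCoh.sect F U) :
    φ.left.base ⁻¹' sectSupp F U s ⊆ sectSupp F U' (F.obj.map φ.op s) := by
  intro x' hx' W g hw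
  rw [← map_comp_apply]
  obtain ⟨w, hw⟩ := hw
  refine hx' W (g ≫ φ) ⟨w, ?_⟩
  change φ.left (g.left w) = _
  rw [hw]

lemma isProperOver_empty {S : Scheme.{u}} (g : X ⟶ S) [LocallyOfFiniteType g] :
    ClSub.IsProperOver g (∅ : Set X) := by
  have := Groth.Agent.S0791.result g Empty (fun _ => (∅ : Set X)) (fun i => i.elim)
  simpa using this

lemma isProperOver_union {S : Scheme.{u}} (g : X ⟶ S) [LocallyOfFiniteType g] {Z₁ Z₂ : Set X}
    (h₁ : ClSub.IsProperOver g Z₁) (h₂ : ClSub.IsProperOver g Z₂) :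
    ClSub.IsProperOver g (Z₁ ∪ Z₂) := by
  have := Groth.Agent.S0791.result g Bool (fun b => cond b Z₁ Z₂)
    (fun b => by cases b <;> simpa)
  rwa [← Set.union_eq_iUnion] at this

lemma shriekPred_of_mem (f : X ⟶ Y) [LocallyOfFiniteType f] (F : EtCoh.Ab X) (V : Y.Etale)
    (t : EtCoh.sect F ((EtCoh.bc f).obj V)) (ht : t ∈ shriekSubgroup f F V) :
    ShriekPred f F V t := by
  refine AddSubgroup.closure_induction (p := fun t _ => ShriekPred f F V t) ?_ ?_ ?_ ?_ ht
  · intro s hs
    exact hs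
  · intro V' φ
    refine ⟨∅, ?_, isProperOver_empty _⟩
    rw [map_zero, sectSupp_zero]
  · intro s t _ _ hs ht V' φ
    obtain ⟨Z1, h1, p1⟩ := hs V' φ
    obtain ⟨Z2, h2, p2⟩ := ht V' φ
    refine ⟨Z1 ∪ Z2, ?_, isProperOver_union _ p1 p2⟩
    rw [map_add]
    exact (sectSupp_add_subset ..).trans (Set.union_subset_union h1 h2)
  · intro s _ hs V' φ
    obtain ⟨Z1, h1, p1⟩ := hs V' φ
    refine ⟨Z1, ?_, p1⟩
    rwa [map_neg, sectSupp_neg]

lemma key (f : X ⟶ Y) [LocallyOfFiniteType f] (F : EtCoh.Ab X) {V W : Y.Etale} (φ : W ⟶ V)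
    (s : EtCoh.sect F ((EtCoh.bc f).obj V))
    (hs : HasProperSupport F ((EtCoh.bc f).obj W) (F.obj.map ((EtCoh.bc f).map φ).op s)
      (prV f W)) :
    ClSub.IsProperOver (pullback.snd (prV f V) φ.left)
      ((pullback.fst (prV f V) φ.left).base ⁻¹' sectSupp F ((EtCoh.bc f).obj V) s) := by
  obtain ⟨Z, hZ, hp⟩ := hs
  have hcl := (Groth.Agent.S0671.result F).1 _ s
  have h1 : ClSub.IsProperOver (prV f W)
      (((EtCoh.bc f).map φ).left.base ⁻¹' sectSupp F ((EtCoh.bc f).obj V) s) :=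
    isProperOver_mono _ hp (hcl.preimage ((EtCoh.bc f).map φ).left.continuous)
      ((preimage_sectSupp_subset F _ s).trans hZ)
  have sq := EtCoh.isPullback_bc_map f φ
  let e := sq.isoPullback
  have sq' : IsPullback e.inv (pullback.snd (prV f V) φ.left) (prV f W) (𝟙 _) :=
    IsPullback.of_horiz_isIso ⟨by simp [e]⟩
  have := Groth.Agent.S0793.result (prV f W) (𝟙 _) e.inv (pullback.snd _ _) sq' _ h1
  convert this using 1
  ext x
  simp only [Set.mem_preimage]
  rw [← Scheme.Hom.comp_apply, IsPullback.isoPullback_inv_fst]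


lemma loc_affine (f : X ⟶ Y) [LocallyOfFiniteType f] (F : EtCoh.Ab X) (V : Y.Etale)
    [IsAffine V.left] (s : EtCoh.sect F ((EtCoh.bc f).obj V)) (R : Sieve V)
    (hR : R ∈ Y.smallEtaleTopology V)
    (H : ∀ ⦃W : Y.Etale⦄ (φ : W ⟶ V), R φ →
      HasProperSupport F ((EtCoh.bc f).obj W) (F.obj.map ((EtCoh.bc f).map φ).op s) (prV f W)) :
    ClSub.IsProperOver (prV f V) (sectSupp F ((EtCoh.bc f).obj V) s) := by
  have hcl := (Groth.Agent.S0671.result F).1 _ s
  rw [EtSiteBasic.mem_smallEtale_iff] at hR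
  have h2 : ∀ v : V.left, ∃ (W : Y.Etale) (g : W ⟶ V), IsAffine W.left ∧ R g ∧
      v ∈ Set.range g.left := by
    intro v
    obtain ⟨W, g, y, hg, hy⟩ := hR v
    obtain ⟨O, hO, hyO⟩ : ∃ O : W.left.Opens, IsAffineOpen O ∧ y ∈ O := by
      obtain ⟨_, ⟨O, hO, rfl⟩, hyO, -⟩ := W.left.isBasis_affineOpens.exists_subset_of_mem_open
        (Set.mem_univ y) isOpen_univ
      exact ⟨O, hO, hyO⟩
    refine ⟨restrictOpen W O, restrictOpenι W O ≫ g, hO, R.downward_closed hg _, ⟨⟨y, hyO⟩, ?_⟩⟩
    change g.left (O.ι ⟨y, hyO⟩) = v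
    exact hy
  choose W g hWaff hRg hrange using h2
  have hopen : ∀ v, IsOpen (Set.range (g v).left) := fun v =>
    (g v).left.isOpenMap.isOpen_range
  obtain ⟨T, hT⟩ := isCompact_univ.elim_finite_subcover (fun v => Set.range (g v).left) hopen
    (fun v _ => Set.mem_iUnion.mpr ⟨v, hrange v⟩)
  haveI : ∀ t : T, IsAffine ((fun t : T => (W t.1).left) t) := fun t => hWaff t.1
  refine isProperOver_of_finite_flat_family (prV f V) _ hcl (T := T) (fun t => (W t.1).left)
    (fun t => (g t.1).left) ?_ ?_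
  · intro v
    have := hT (Set.mem_univ v)
    simp only [Set.mem_iUnion] at this
    obtain ⟨t, ht, hv⟩ := this
    exact ⟨⟨t, ht⟩, hv⟩
  · intro t
    exact key f F (g t.1) s (H _ (hRg t.1))

lemma loc (f : X ⟶ Y) [LocallyOfFiniteType f] (F : EtCoh.Ab X) (V : Y.Etale)
    (s : EtCoh.sect F ((EtCoh.bc f).obj V)) (R : Sieve V)
    (hR : R ∈ Y.smallEtaleTopology V)
    (H : ∀ ⦃W : Y.Etale⦄ (φ : W ⟶ V), R φ →
      HasProperSupport F ((EtCoh.bc f).obj W) (F.obj.map ((EtCoh.bc f).map φ).op s) (prV f W)) :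
    HasProperSupport F ((EtCoh.bc f).obj V) s (prV f V) := by
  have hcl := (Groth.Agent.S0671.result F).1 _ s
  refine ⟨sectSupp F _ s, le_rfl, ?_⟩
  apply isProperOver_of_openCover (prV f V) _ hcl V.left.affineCover
  intro i
  haveI : Etale V.hom := V.prop
  let Vi : Y.Etale := EtSiteBasic.ofEtale (V.left.affineCover.f i ≫ V.hom)
  let ji : Vi ⟶ V := MorphismProperty.Over.homMk (V.left.affineCover.f i) rfl trivial
  haveI : IsAffine Vi.left := (inferInstance : IsAffine (V.left.affineCover.X i))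
  have hi := loc_affine f F Vi (F.obj.map ((EtCoh.bc f).map ji).op s) (R.pullback ji)
    (Y.smallEtaleTopology.pullback_stable ji hR) (by
      intro W φ hφ
      have := H (φ ≫ ji) hφ
      rwa [Functor.map_comp, map_comp_apply] at this)
  exact key f F ji s ⟨_, le_rfl, hi⟩

theorem isSheaf (f : X ⟶ Y) [LocallyOfFiniteType f] (F : EtCoh.Ab X) :
    Presheaf.IsSheaf Y.smallEtaleTopology (lowerShriekPre f F) := by
  rw [Presheaf.isSheaf_iff_isSheaf_forget (s := forget AddCommGrpCat.{u + 1}),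
    isSheaf_iff_isSheaf_of_type]
  let P : Y.Etaleᵒᵖ ⥤ Type (u + 1) :=
    ((EtCoh.push f).obj F).obj ⋙ forget AddCommGrpCat.{u + 1}
  have hP : Presieve.IsSheaf Y.smallEtaleTopology P :=
    (isSheaf_iff_isSheaf_of_type _ _).1
      ((Presheaf.isSheaf_iff_isSheaf_forget (s := forget AddCommGrpCat.{u + 1}) _ _).1
        ((EtCoh.push f).obj F).property)
  let G : Subfunctor P :=
    { obj := fun V => show Set (P.obj V) from
        ((shriekSubgroup f F V.unop : AddSubgroup _) :
          Set (EtCoh.sect F ((EtCoh.bc f).obj V.unop)))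
      map := fun {V V'} φ s hs => by
        change s ∈ shriekSubgroup f F V.unop at hs
        change F.obj.map ((EtCoh.bc f).map φ.unop).op s ∈ shriekSubgroup f F V'.unop
        exact shriekSubgroup_le_comap f F φ.unop hs }
  have hG : Presieve.IsSheaf Y.smallEtaleTopology G.toFunctor := by
    rw [G.isSheaf_iff hP]
    intro V s hs
    apply AddSubgroup.subset_closure
    intro V' φ
    refine loc f F V' _ ((G.sieveOfSection s).pullback φ)
      (Y.smallEtaleTopology.pullback_stable φ hs) ?_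
    intro W ψ hψ
    have h1 : F.obj.map ((EtCoh.bc f).map (ψ ≫ φ)).op s ∈ shriekSubgroup f F W := hψ
    have h2 := shriekPred_of_mem f F W _ h1 W (𝟙 W)
    rw [Functor.map_comp, map_comp_apply] at h1
    simpa using h2
  refine Presieve.isSheaf_iso Y.smallEtaleTopology ?_ hG
  exact NatIso.ofComponents (fun V => Iso.refl _) (by
    intro V V' φ
    ext ⟨s, hs⟩
    rfl)

end Aux

/-- Let f : X -> Y be locally of finite type and F an abelian sheaf on X_et. Assigning to V in Y_et the
sections of F over X x_Y V with support proper over V defines an abelian subsheaf of f_* F; here: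
the presheaf EtShriek.lowerShriekPre f F (generated by such sections, hereditarily under
restriction) satisfies the sheaf condition for the small etale topology. -/
theorem result {X Y : Scheme.{u}} (f : X ⟶ Y) [LocallyOfFiniteType f]
    (F : EtCoh.Ab X) :
    Presheaf.IsSheaf Y.smallEtaleTopology (EtShriek.lowerShriekPre f F) := by
  exact Aux.isSheaf f F

end Groth.Agent.S0680
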