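import Groth.Statements.S0631
import Mathlib
import Groth.Prelude.Def_PBC
import Groth.Agent.Lib.Helper5.Misc.EtStalk
import Groth.Agent.Lib.Helper5.Misc.EtStalkPull
import Groth.Agent.Lib.Helper5.Misc.EtSiteBasic
import Groth.Agent.Lib.Helper5.Misc.EtGlue
import Groth.Agent.Lib.Helper9.FE.StalkPullGerm
import Groth.Agent.Lib.Helper9.FE.IntUIStalk
import Groth.Agent.Lib.Helper9.FE.IntGeoPt
import Groth.Agent.S0728
import Groth.Agent.S0072
-- import your own Groth.Agent.* helpers here

set_option autoImplicit false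
open CategoryTheory CategoryTheory.Limits AlgebraicGeometry Opposite
universe u
open EtCore

namespace Groth.Agent.S0631

open CategoryTheory CategoryTheory.Limits AlgebraicGeometry Opposite
namespace Aux

set_option backward.isDefEq.respectTransparency false
set_option linter.style.haveILetI false
set_option linter.unusedSectionVars false

open Groth.Agent.Lib.Helper5 Groth.Agent.S0728 H9FE Groth.Agent.S0072.Aux

variable {X Y : Scheme.{u}} (f : X ⟶ Y)

/-- the counit is an isomorphism -/
theorem counit_isIso [IsIntegralHom f] [UniversallyInjective f] (F : EtCoh.Ab X) :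
    IsIso ((EtCoh.pullPushAdj f).counit.app F) := by
  have hb : ∀ g : EtStalk.GeomPt X, Function.Bijective
      ((g.point.sheafFiber (A := AddCommGrpCat.{u + 1})).map
        ((EtCoh.pullPushAdj f).counit.app F)) := by
    intro g
    have h := StalkPullGerm.stalkPullIso_phi f g.ξ F
    have hi : IsIso ((EtCoh.stalk g.ξ).map ((EtCoh.pullPushAdj f).counit.app F)) := by
      rw [← h]
      infer_instance
    exact (ConcreteCategory.isIso_iff_bijective _).1 hi
  haveI : Mono ((EtCoh.pullPushAdj f).counit.app F) :=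
    (EtStalk.mono_iff_stalks_ab _).2 (fun g => (hb g).1)
  haveI : Epi ((EtCoh.pullPushAdj f).counit.app F) :=
    (EtStalk.epi_iff_stalks_ab _).2 (fun g => (hb g).2)
  exact isIso_of_mono_of_epi _

variable {Ω : Type u} [Field Ω] [IsSepClosed Ω]

/-- the stalk of a direct image vanishes off the (closed) image -/
theorem isZero_stalk_push (hcl : IsClosed (Set.range f.base)) (η : Spec (CommRingCat.of Ω) ⟶ Y)
    (hη : η (default : Spec (CommRingCat.of Ω)) ∉ Set.range f.base) (F : EtCoh.Ab X) :
    IsZero ((EtCoh.stalk η).obj ((EtCoh.push f).obj F)) := by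
  haveI := EtStalk.pfc.{u}
  suffices h : ∀ a : (EtCoh.stalk η).obj ((EtCoh.push f).obj F), a = 0 by
    haveI : Subsingleton ((EtCoh.stalk η).obj ((EtCoh.push f).obj F)) :=
      ⟨fun a b => (h a).trans (h b).symm⟩
    exact AddCommGrpCat.isZero_of_subsingleton _
  intro a
  obtain ⟨V, v, s, rfl⟩ := (Scheme.pointSmallEtale η).toPresheafFiber_jointly_surjective
    (P := ((EtCoh.push f).obj F).obj) a
  let O : Y.Opens := ⟨(Set.range f.base)ᶜ, hcl.isOpen_compl⟩
  let O' : V.left.Opens := V.hom ⁻¹ᵁ O
  have hv : v.left (default : Spec (CommRingCat.of Ω)) ∈ O' := by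
    have e1 : v.left ≫ V.hom = η := Over.w v
    have e2 : V.hom (v.left (default : Spec (CommRingCat.of Ω))) = η default :=
      congrArg (fun m : Spec (CommRingCat.of Ω) ⟶ Y => m (default : Spec (CommRingCat.of Ω))) e1
    change V.hom (v.left (default : Spec (CommRingCat.of Ω))) ∈ O
    rw [e2]
    exact hη
  obtain ⟨v'', hv''⟩ := lift_open O' v.left hv
  let V' : Y.Etale := restrictOpen V O'
  have hv' : v'' ≫ V'.hom = η := by
    change v'' ≫ O'.ι ≫ V.hom = η
    rw [← Category.assoc, hv'']
    exact Over.w v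
  let v' : (Scheme.pointSmallEtale η).fiber.obj V' := Over.homMk v'' hv'
  have hmap : (Scheme.pointSmallEtale η).fiber.map (restrictOpenι V O') v' = v := by
    apply Over.OverMorphism.ext
    exact hv''
  haveI : IsEmpty ((EtCoh.bc f).obj V').left := by
    constructor
    intro z
    have h1 : (pullback.fst V'.hom f ≫ V'.hom) z = (pullback.snd V'.hom f ≫ f) z :=
      congrArg (fun m : pullback V'.hom f ⟶ Y => m z) pullback.condition
    rw [Scheme.Hom.comp_apply, Scheme.Hom.comp_apply] at h1
    have h2 : V'.hom (pullback.fst V'.hom f z) ∈ O := by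
      change V.hom (O'.ι (pullback.fst V'.hom f z)) ∈ O
      exact restrictOpenι_left_apply V O' (pullback.fst V'.hom f z)
    apply h2
    rw [h1]
    exact ⟨_, rfl⟩
  let Fs : EtDesc.Sh X := (sheafCompose X.smallEtaleTopology (forget AddCommGrpCat.{u + 1})).obj F
  haveI : Subsingleton (Fs.obj.obj (op ((EtCoh.bc f).obj V'))) :=
    EtGlue.subsingleton_of_isEmpty Fs ((EtCoh.bc f).obj V')
  have hz : ((EtCoh.push f).obj F).obj.map (restrictOpenι V O').op s = 0 :=
    Subsingleton.elim (α := Fs.obj.obj (op ((EtCoh.bc f).obj V'))) _ _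
  have w := ConcreteCategory.congr_hom
    ((Scheme.pointSmallEtale η).toPresheafFiber_w (restrictOpenι V O') v'
      ((EtCoh.push f).obj F).obj) s
  simp only [ConcreteCategory.comp_apply] at w
  rw [hmap] at w
  rw [← w, hz, map_zero]

omit [IsSepClosed Ω] in
lemma range_eq_singleton (η : Spec (CommRingCat.of Ω) ⟶ Y) :
    Set.range η = {η (default : Spec (CommRingCat.of Ω))} := by
  ext y
  constructor
  · rintro ⟨a, rfl⟩
    rw [Subsingleton.elim a (default : Spec (CommRingCat.of Ω))]
    rfl
  · intro hy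
    exact ⟨default, hy.symm⟩

theorem supp_subset_of_essImage [IsIntegralHom f] (G : EtCoh.Ab Y)
    (hG : (EtCoh.push f).essImage G) : EtPBC.supp G ⊆ Set.range f.base := by
  obtain ⟨F, ⟨e⟩⟩ := hG
  intro y hy
  obtain ⟨Ω, hF, hS, ξ, hξ, hnz⟩ := hy
  by_contra hyn
  apply hnz
  have hpt : ξ (default : Spec (CommRingCat.of Ω)) = y := by
    have h1 : ξ (default : Spec (CommRingCat.of Ω)) ∈ Set.range ξ := ⟨_, rfl⟩
    rw [hξ] at h1
    exact h1
  have hz := isZero_stalk_push f f.isClosedMap.isClosed_range ξ (by rw [hpt]; exact hyn) F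
  exact hz.of_iso ((EtCoh.stalk ξ).mapIso e.symm)

/-- the stalk of the unit at a geometric point which lifts -/
theorem stalk_unit_bijective_of_lift [IsIntegralHom f] [UniversallyInjective f]
    (η : Spec (CommRingCat.of Ω) ⟶ Y) (ξ : Spec (CommRingCat.of Ω) ⟶ X) (hη : ξ ≫ f = η)
    (G : EtCoh.Ab Y) :
    Function.Bijective ((EtCoh.stalk η).map ((EtCoh.pullPushAdj f).unit.app G)) := by
  subst hη
  have h := StalkPullGerm.unit_phi f ξ G
  haveI : IsIso ((EtCoh.stalk (ξ ≫ f)).map ((EtCoh.pullPushAdj f).unit.app G) ≫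
      phi f (ξ ≫ f) ((EtCoh.pull f).obj G) ξ rfl) := by
    rw [h]
    infer_instance
  haveI : IsIso ((EtCoh.stalk (ξ ≫ f)).map ((EtCoh.pullPushAdj f).unit.app G)) :=
    IsIso.of_isIso_comp_right _ (phi f (ξ ≫ f) ((EtCoh.pull f).obj G) ξ rfl)
  exact (ConcreteCategory.isIso_iff_bijective _).1 inferInstance

/-- the geometric point at `y` with values in an algebraic closure of the residue field -/
noncomputable def geomPtAlgAt (y : Y) : EtStalk.GeomPt Y where
  Ω := AlgebraicClosure (Y.residueField y)
  ξ := (Scheme.SpecToEquivOfField (AlgebraicClosure (Y.residueField y)) Y).2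
      ⟨y, CommRingCat.ofHom (algebraMap (Y.residueField y) _)⟩

lemma geomPtAlgAt_default (y : Y) :
    (geomPtAlgAt y).ξ (default : Spec (CommRingCat.of (geomPtAlgAt y).Ω)) = y := by
  simp [geomPtAlgAt, Scheme.SpecToEquivOfField]

theorem unit_isIso_of_supp_subset [IsIntegralHom f] [UniversallyInjective f] (G : EtCoh.Ab Y)
    (hG : EtPBC.supp G ⊆ Set.range f.base) :
    IsIso ((EtCoh.pullPushAdj f).unit.app G) := by
  haveI := EtStalk.pfc.{u}
  haveI := EtStalk.ab5'.{u}
  have hcov : ∀ y : Y, ∃ i : Y, (geomPtAlgAt i).ξ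
      (default : Spec (CommRingCat.of (geomPtAlgAt i).Ω)) = y :=
    fun y => ⟨y, geomPtAlgAt_default y⟩
  have hb : ∀ y : Y, Function.Bijective
      (((geomPtAlgAt y).point.sheafFiber (A := AddCommGrpCat.{u + 1})).map
        ((EtCoh.pullPushAdj f).unit.app G)) := by
    intro y
    by_cases hy : y ∈ Set.range f.base
    · obtain ⟨x, hx⟩ := hy
      haveI : IsAlgClosed (geomPtAlgAt y).Ω :=
        (inferInstance : IsAlgClosed (AlgebraicClosure (Y.residueField y)))
      obtain ⟨ξ, hξ, -⟩ := IntGeoPt.exists_lift f (geomPtAlgAt y).ξ x (fun a => by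
        rw [Subsingleton.elim a (default : Spec (CommRingCat.of (geomPtAlgAt y).Ω)),
          geomPtAlgAt_default]
        exact hx)
      exact stalk_unit_bijective_of_lift f (geomPtAlgAt y).ξ ξ hξ G
    · have hz1 : IsZero ((EtCoh.stalk (geomPtAlgAt y).ξ).obj G) := by
        by_contra hnz
        apply hy
        apply hG
        refine ⟨(geomPtAlgAt y).Ω, inferInstance, inferInstance, (geomPtAlgAt y).ξ, ?_, hnz⟩
        rw [range_eq_singleton, geomPtAlgAt_default]
      have hz2 : IsZero ((EtCoh.stalk (geomPtAlgAt y).ξ).obj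
          ((EtCoh.push f).obj ((EtCoh.pull f).obj G))) :=
        isZero_stalk_push f f.isClosedMap.isClosed_range (geomPtAlgAt y).ξ
          (by rw [geomPtAlgAt_default]; exact hy) _
      haveI := AddCommGrpCat.subsingleton_of_isZero hz1
      haveI := AddCommGrpCat.subsingleton_of_isZero hz2
      constructor
      · intro a b _
        exact Subsingleton.elim (α := (EtCoh.stalk (geomPtAlgAt y).ξ).obj G) a b
      · intro b
        exact ⟨0, Subsingleton.elim (α := (EtCoh.stalk (geomPtAlgAt y).ξ).obj
          ((EtCoh.push f).obj ((EtCoh.pull f).obj G))) _ _⟩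
  haveI : Mono ((EtCoh.pullPushAdj f).unit.app G) := by
    rw [EtStalk.mono_iff_ab]
    intro U
    exact PointDetect.injective_app_of_injective_fibers
      (EtStalk.detects_of_cover (fun y : Y => geomPtAlgAt y) hcov)
      ((EtCoh.pullPushAdj f).unit.app G) (fun y => (hb y).1) U
  haveI : Epi ((EtCoh.pullPushAdj f).unit.app G) := by
    rw [← Sheaf.isLocallySurjective_iff_epi']
    exact PointDetect.isLocallySurjective_of_surjective_fibers
      (EtStalk.detects_of_cover (fun y : Y => geomPtAlgAt y) hcov)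
      ((EtCoh.pullPushAdj f).unit.app G) (fun y => (hb y).2)
  exact isIso_of_mono_of_epi _

theorem main [IsIntegralHom f] [UniversallyInjective f] :
    (EtCoh.push f).Full ∧ (EtCoh.push f).Faithful ∧
    (∀ G : EtCoh.Ab Y, (EtCoh.push f).essImage G ↔ EtPBC.supp G ⊆ Set.range f.base) ∧
    ∀ F : EtCoh.Ab X, IsIso ((EtCoh.pullPushAdj f).counit.app F) := by
  haveI : ∀ F : EtCoh.Ab X, IsIso ((EtCoh.pullPushAdj f).counit.app F) := counit_isIso f
  haveI : IsIso (EtCoh.pullPushAdj f).counit := NatIso.isIso_of_isIso_app _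
  have hff := (EtCoh.pullPushAdj f).fullyFaithfulROfIsIsoCounit
  refine ⟨hff.full, hff.faithful, ?_, counit_isIso f⟩
  intro G
  constructor
  · exact supp_subset_of_essImage f G
  · intro hG
    haveI := unit_isIso_of_supp_subset f G hG
    exact ⟨(EtCoh.pull f).obj G, ⟨(asIso ((EtCoh.pullPushAdj f).unit.app G)).symm⟩⟩

end Aux

/-- For a morphism f : X -> Y that is integral and universally injective, the direct image f_* on
abelian etale sheaves is full and faithful, an abelian sheaf on Y lies in its essential image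
exactly when its support is contained in the image of f, and the counit f^{-1} f_* F -> F is an
isomorphism for every F. -/
theorem result {X Y : Scheme.{u}} (f : X ⟶ Y)
    [IsIntegralHom f] [UniversallyInjective f] :
    (EtCoh.push f).Full ∧ (EtCoh.push f).Faithful ∧
    (∀ G : EtCoh.Ab Y, (EtCoh.push f).essImage G ↔ EtPBC.supp G ⊆ Set.range f.base) ∧
    ∀ F : EtCoh.Ab X, IsIso ((EtCoh.pullPushAdj f).counit.app F) := by
  exact Aux.main f

end Groth.Agent.S0631
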