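import Groth.Statements.S9558
import Groth.Agent.Lib.Helper6.EtLoc.EtalePoint
import Groth.Agent.Lib.Helper6.EtLoc.Sep

set_option autoImplicit false
universe u
open EtLocal

namespace Groth.Agent.S9558

open AlgebraicGeometry CategoryTheory Limits in
/-- Let f : X ⟶ S be a separated morphism of schemes, s a point of S and x_1, …, x_n pairwise distinct
points of X over s such that f is étale at each x_i (the restriction of f to some open neighbourhood
of x_i is étale). Then there are an étale morphism g : U ⟶ S, a point u of U over s, and a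
decomposition of X_U = X ×_S U into pairwise disjoint open subschemes W and finitely many V_k which
together cover X_U, such that each V_k ⟶ U is an isomorphism and no point of W over u maps to any of
the x_i. -/
theorem result {X S : Scheme.{u}} (f : X ⟶ S)
    [IsSeparated f] (s : S)
    {ι : Type} [Finite ι] (x : ι → ↑X) (hinj : Function.Injective x) (hs : ∀ i, f (x i) = s)
    (hx : ∀ i, ∃ W : X.Opens, x i ∈ W ∧ Etale (W.ι ≫ f)) :
    ∃ (U : Scheme.{u}) (g : U ⟶ S) (u : U), Etale g ∧ g u = s ∧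
      ∃ (K : Type) (_ : Finite K) (W : (pullback f g).Opens) (V : K → (pullback f g).Opens),
        W ⊔ (⨆ k, V k) = ⊤ ∧ (∀ k, Disjoint W (V k)) ∧ (∀ k k', k ≠ k' → Disjoint (V k) (V k')) ∧
        (∀ k, IsIso ((V k).ι ≫ pullback.snd f g)) ∧
        (∀ (w : ↑(pullback f g)) (i : ι), w ∈ W → pullback.snd f g w = u → pullback.fst f g w ≠ x i) := by
  classical
  have hpt : ∀ i, ∃ (U : Scheme.{u}) (g : U ⟶ S) (u : U), Etale g ∧ g u = s ∧
      Lib.Helper6.EtLoc.NbhdData (MorphismProperty.isomorphisms Scheme.{u}) f (x i) g u := by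
    intro i
    obtain ⟨W, hxW, het⟩ := hx i
    obtain ⟨U, g, u, hg, hgu, hd⟩ := Lib.Helper6.EtLoc.etale_point f (x i) W hxW het
    exact ⟨U, g, u, hg, hgu.trans (hs i), hd⟩
  obtain ⟨U, g, u, hg, hgu, hd⟩ :=
    Lib.Helper6.EtLoc.exists_common_nbhd (P := MorphismProperty.isomorphisms Scheme.{u}) s ι x hpt
  obtain ⟨K, hK, lab, V, h1, h2, h3, h4⟩ := Lib.Helper6.EtLoc.assemble x hinj g u hd
  have hcl : ∀ k, IsClosed (V k : Set ↑(pullback f g)) := by
    intro k
    have hc0 : IsIso ((V k).ι ≫ pullback.snd f g) := (h1 k).1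
    have hc1 : IsClosedImmersion ((V k).ι ≫ pullback.snd f g) := inferInstance
    have hc2 : IsClosedImmersion (V k).ι := IsClosedImmersion.of_comp (V k).ι (pullback.snd f g)
    have hc3 := (V k).ι.isClosedEmbedding.isClosed_range
    rwa [Scheme.Opens.range_ι] at hc3
  obtain ⟨V', hle, hcl', hdisj, hP', hpts⟩ :=
    Lib.Helper6.EtLoc.disjointify (pullback.snd f g) u V hcl @IsOpenImmersion
      (fun i h hi _ hh => by
        have := hi
        have := hh
        infer_instance)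
      (fun k => by
        have hc0 : IsIso ((V k).ι ≫ pullback.snd f g) := (h1 k).1
        infer_instance) h3
  let W : (pullback f g).Opens := ⟨(⋃ k, (V' k : Set ↑(pullback f g)))ᶜ,
    (isClosed_iUnion_of_finite hcl').isOpen_compl⟩
  have hW : ∀ w : ↑(pullback f g), w ∈ W ↔ ∀ k, w ∉ V' k := by
    intro w
    show w ∈ (⋃ k, (V' k : Set ↑(pullback f g)))ᶜ ↔ _
    simp
  -- shrink the base
  have hopen : ∀ k, IsOpenImmersion ((V' k).ι ≫ pullback.snd f g) := hP'
  let U' : U.Opens := ⨅ k, ((V' k).ι ≫ pullback.snd f g).opensRange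
  have hU'le : ∀ k, U' ≤ ((V' k).ι ≫ pullback.snd f g).opensRange := fun k => iInf_le _ k
  have huU' : u ∈ U' := by
    have : (U' : Set U) = ⋂ k, (((V' k).ι ≫ pullback.snd f g).opensRange : Set U) :=
      TopologicalSpace.Opens.coe_iInf _
    show u ∈ (U' : Set U)
    rw [this, Set.mem_iInter]
    intro k
    obtain ⟨w, hw, hwu⟩ := (h1 k).2
    have hw' : w ∈ V' k := hpts k w hw hwu
    obtain ⟨w₀, hw₀⟩ : ∃ w₀ : (V' k).toScheme, (V' k).ι w₀ = w := ⟨⟨w, hw'⟩, rfl⟩
    refine ⟨w₀, ?_⟩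
    rw [Scheme.Hom.comp_apply, hw₀]
    exact hwu
  let u₂ : U'.toScheme := ⟨u, huU'⟩
  have hu₂ : U'.ι u₂ = u := rfl
  refine ⟨U'.toScheme, U'.ι ≫ g, u₂, inferInstance, ?_, K, hK,
    Lib.Helper6.EtLoc.bcOpen f g U'.ι W, fun k => Lib.Helper6.EtLoc.bcOpen f g U'.ι (V' k),
    ?_, ?_, ?_, ?_, ?_⟩
  · rw [Scheme.Hom.comp_apply, hu₂, hgu]
  · rw [eq_top_iff]
    intro w _
    by_cases h : ∃ k, Lib.Helper6.EtLoc.bcMap f g U'.ι w ∈ V' k
    · obtain ⟨k, hk⟩ := h
      exact (le_sup_right : (⨆ k, Lib.Helper6.EtLoc.bcOpen f g U'.ι (V' k)) ≤ _)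
        ((le_iSup (fun k => Lib.Helper6.EtLoc.bcOpen f g U'.ι (V' k)) k) hk)
    · push Not at h
      exact (le_sup_left : Lib.Helper6.EtLoc.bcOpen f g U'.ι W ≤ _) ((hW _).mpr h)
  · intro k
    rw [disjoint_iff]
    ext w
    simp only [TopologicalSpace.Opens.coe_inf, Set.mem_inter_iff, SetLike.mem_coe,
      TopologicalSpace.Opens.coe_bot, Set.mem_empty_iff_false, iff_false, not_and]
    intro hwW hwk
    exact (hW _).mp hwW k hwk
  · intro k k' hkk'
    rw [disjoint_iff]
    ext w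
    simp only [TopologicalSpace.Opens.coe_inf, Set.mem_inter_iff, SetLike.mem_coe,
      TopologicalSpace.Opens.coe_bot, Set.mem_empty_iff_false, iff_false, not_and]
    intro hwk hwk'
    have := (hdisj k k' hkk').le_bot ⟨hwk, hwk'⟩
    exact this
  · intro k
    exact Lib.Helper6.EtLoc.isIso_bcOpen_of_le_opensRange f g (V' k) (hopen k) U' (hU'le k)
  · intro w i hwW hwu hwx
    have hw1 : pullback.snd f g (Lib.Helper6.EtLoc.bcMap f g U'.ι w) = u := by
      rw [Lib.Helper6.EtLoc.snd_bcMap_apply, hwu, hu₂]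
    have hw2 : pullback.fst f g (Lib.Helper6.EtLoc.bcMap f g U'.ι w) = x i := by
      rw [Lib.Helper6.EtLoc.fst_bcMap_apply, hwx]
    obtain ⟨k, -, hk⟩ := h4 _ i hw1 hw2
    exact (hW _).mp hwW k (hpts k _ hk hw1)

end Groth.Agent.S9558
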