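import Groth.Statements.S9559
import Groth.Agent.S9558
import Groth.Agent.Lib.Helper6.EtLoc.BaseChange

set_option autoImplicit false
open CategoryTheory CategoryTheory.Limits AlgebraicGeometry Opposite
universe u
open EtLocal

namespace Groth.Agent.S9559

/-- A finite étale morphism f : X ⟶ S becomes, after base change to a suitable étale neighbourhood (U,
u) of any point s of S, a finite disjoint union of copies of U: X_U is isomorphic over U to a finite
coproduct of schemes V_j each of which maps isomorphically onto U. -/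
theorem result {X S : Scheme.{u}} (f : X ⟶ S) [IsFinite f] [Etale f] (s : S) :
    ∃ (U : Scheme.{u}) (g : U ⟶ S) (_ : AlgebraicGeometry.Etale g) (u : U) (_ : g.base u = s)
      (n : ℕ) (V : Fin n → Scheme.{u}) (c : ∀ j, V j ⟶ U) (_ : ∀ j, IsIso (c j))
      (e : (∐ V) ≅ pullback f g), ∀ j, Sigma.ι V j ≫ e.hom ≫ pullback.snd f g = c j := by
  classical
  have hfin : (f ⁻¹' {s}).Finite := f.finite_preimage_singleton s
  obtain ⟨m, x, hxr⟩ := hfin.fin_embedding
  have hxs : ∀ i, f (x i) = s := by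
    intro i
    have : x i ∈ f ⁻¹' {s} := by rw [← hxr]; exact ⟨i, rfl⟩
    exact this
  obtain ⟨U, g, u, hg, hgu, K, hK, W, V, hcov, hWV, hVV, hiso, hWx⟩ :=
    Groth.Agent.S9558.result f s (ι := Fin m) x x.injective hxs
      (fun i => ⟨⊤, trivial, inferInstance⟩)
  -- `W` is closed
  have hWc : (W : Set ↑(pullback f g)) = (⋃ k, (V k : Set ↑(pullback f g)))ᶜ := by
    ext w
    simp only [SetLike.mem_coe, Set.mem_compl_iff, Set.mem_iUnion, not_exists]
    constructor
    · intro hw k hk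
      exact (hWV k).le_bot ⟨hw, hk⟩
    · intro hw
      have hw' : w ∈ W ⊔ ⨆ k, V k := by rw [hcov]; trivial
      rcases hw' with h | h
      · exact h
      · exfalso
        have : w ∈ (⨆ k, V k : (pullback f g).Opens) := h
        rw [TopologicalSpace.Opens.mem_iSup] at this
        obtain ⟨k, hk⟩ := this
        exact hw k hk
  have hWcl : IsClosed (W : Set ↑(pullback f g)) := by
    rw [hWc, isClosed_compl_iff]
    exact isOpen_iUnion fun k => (V k).2
  have hZcl : IsClosed (pullback.snd f g '' (W : Set ↑(pullback f g))) :=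
    (pullback.snd f g).isClosedMap _ hWcl
  have huZ : u ∉ pullback.snd f g '' (W : Set ↑(pullback f g)) := by
    rintro ⟨w, hw, hwu⟩
    have h1 : f (pullback.fst f g w) = s := by
      rw [← Scheme.Hom.comp_apply, pullback.condition, Scheme.Hom.comp_apply, hwu, hgu]
    have h2 : pullback.fst f g w ∈ Set.range x := by rw [hxr]; exact h1
    obtain ⟨i, hi⟩ := h2
    exact hWx w i hw hwu hi.symm
  let U₃ : U.Opens := ⟨(pullback.snd f g '' (W : Set ↑(pullback f g)))ᶜ, hZcl.isOpen_compl⟩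
  let u₃ : U₃.toScheme := ⟨u, huZ⟩
  have hu₃ : U₃.ι u₃ = u := rfl
  let V₃ : K → (pullback f (U₃.ι ≫ g)).Opens := fun k => Lib.Helper6.EtLoc.bcOpen f g U₃.ι (V k)
  have hV₃iso : ∀ k, IsIso ((V₃ k).ι ≫ pullback.snd f (U₃.ι ≫ g)) := fun k =>
    Lib.Helper6.EtLoc.bcOpen_property f g U₃.ι (MorphismProperty.isomorphisms Scheme.{u}) (V k)
      (hiso k)
  have hV₃cov : ⨆ k, (V₃ k) = ⊤ := by
    rw [eq_top_iff]
    intro w _
    have hw' : Lib.Helper6.EtLoc.bcMap f g U₃.ι w ∈ W ⊔ ⨆ k, V k := by rw [hcov]; trivial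
    rcases hw' with h | h
    · exfalso
      have h1 : pullback.snd f g (Lib.Helper6.EtLoc.bcMap f g U₃.ι w) ∈
          pullback.snd f g '' (W : Set ↑(pullback f g)) := ⟨_, h, rfl⟩
      rw [Lib.Helper6.EtLoc.snd_bcMap_apply] at h1
      exact (pullback.snd f (U₃.ι ≫ g) w).2 h1
    · have : Lib.Helper6.EtLoc.bcMap f g U₃.ι w ∈ (⨆ k, V k : (pullback f g).Opens) := h
      rw [TopologicalSpace.Opens.mem_iSup] at this
      obtain ⟨k, hk⟩ := this
      exact (le_iSup V₃ k) hk
  have hV₃disj : ∀ k k', k ≠ k' → Disjoint (V₃ k) (V₃ k') := by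
    intro k k' hkk'
    rw [disjoint_iff]
    ext w
    simp only [TopologicalSpace.Opens.coe_inf, Set.mem_inter_iff, SetLike.mem_coe,
      TopologicalSpace.Opens.coe_bot, Set.mem_empty_iff_false, iff_false, not_and]
    intro hwk hwk'
    exact (hVV k k' hkk').le_bot ⟨hwk, hwk'⟩
  obtain ⟨n, ⟨eK⟩⟩ := Finite.exists_equiv_fin K
  let Vs : Fin n → Scheme.{u} := fun j => (V₃ (eK.symm j)).toScheme
  let fs : ∀ j, Vs j ⟶ pullback f (U₃.ι ≫ g) := fun j => (V₃ (eK.symm j)).ι
  have hfs : ∀ j, IsOpenImmersion (fs j) := fun j => inferInstance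
  obtain ⟨hc⟩ := nonempty_isColimit_cofanMk_of fs
    (by
      rw [eq_top_iff, ← hV₃cov]
      refine iSup_le fun k => ?_
      have : V₃ k = (fs (eK k)).opensRange := by
        simp only [fs, Equiv.symm_apply_apply, Scheme.Opens.opensRange_ι]
      rw [this]
      exact le_iSup (fun j => (fs j).opensRange) (eK k))
    (by
      intro j j' hjj'
      simp only [Function.onFun, fs, Scheme.Opens.opensRange_ι]
      exact hV₃disj _ _ (fun h => hjj' (eK.symm.injective h)))
  refine ⟨U₃.toScheme, U₃.ι ≫ g, inferInstance, u₃, ?_, n, Vs,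
    fun j => fs j ≫ pullback.snd f (U₃.ι ≫ g), fun j => hV₃iso _,
    colimit.isoColimitCocone ⟨Cofan.mk _ fs, hc⟩, fun j => ?_⟩
  · show (U₃.ι ≫ g) u₃ = s
    rw [Scheme.Hom.comp_apply, hu₃, hgu]
  · rw [← Category.assoc]
    congr 1
    exact colimit.isoColimitCocone_ι_hom ⟨Cofan.mk _ fs, hc⟩ ⟨j⟩

end Groth.Agent.S9559
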