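import Groth.Statements.S0074
import Mathlib
import Groth.Prelude.Def_EtBase
import Groth.Prelude.Def_EtCore
import Groth.Agent.S5062
-- import your own Groth.Agent.* helpers here

set_option autoImplicit false
open CategoryTheory CategoryTheory.Limits AlgebraicGeometry Opposite
universe u
open EtBase

namespace Groth.Agent.S0074

open CategoryTheory CategoryTheory.Limits AlgebraicGeometry Opposite
namespace Aux
set_option linter.unusedSectionVars false
set_option backward.isDefEq.respectTransparency false
set_option linter.style.haveILetI false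

/-- two lifts of a "surjective" field-valued point through the same point agree -/
theorem spec_lift_unique {Ω : Type u} [Field Ω] {Y S : Scheme.{u}} (f : Y ⟶ S)
    (ξ : Spec (.of Ω) ⟶ S)
    (hξ : Function.Surjective ((Scheme.SpecToEquivOfField Ω S ξ).2).hom)
    (a b : Spec (.of Ω) ⟶ Y) (ha : a ≫ f = ξ) (hb : b ≫ f = ξ)
    (hpt : a (IsLocalRing.closedPoint Ω) = b (IsLocalRing.closedPoint Ω)) : a = b := by
  obtain ⟨⟨y, φa⟩, rfl⟩ := (Scheme.SpecToEquivOfField Ω Y).symm.surjective a
  obtain ⟨⟨y', φb⟩, rfl⟩ := (Scheme.SpecToEquivOfField Ω Y).symm.surjective b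
  have hy : y = y' := by
    simpa [Scheme.SpecToEquivOfField, Scheme.fromSpecResidueField_apply] using hpt
  subst hy
  simp only [Scheme.SpecToEquivOfField, Equiv.coe_fn_symm_mk] at ha hb ⊢
  have h1 : Y.fromSpecResidueField y ≫ f =
      Spec.map (f.residueFieldMap y) ≫ S.fromSpecResidueField (f y) :=
    (Scheme.Hom.SpecMap_residueFieldMap_fromSpecResidueField f y).symm
  have ha' : ξ = (Scheme.SpecToEquivOfField Ω S).symm ⟨f y, f.residueFieldMap y ≫ φa⟩ := by
    rw [← ha]
    simp only [Scheme.SpecToEquivOfField, Equiv.coe_fn_symm_mk]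
    rw [Category.assoc, h1, Spec.map_comp, Category.assoc]
  have hθ : Function.Surjective (f.residueFieldMap y ≫ φa).hom := by
    rw [ha', Equiv.apply_symm_apply] at hξ
    exact hξ
  have heq : f.residueFieldMap y ≫ φa = f.residueFieldMap y ≫ φb := by
    have h2 : Spec.map φa ≫ Y.fromSpecResidueField y ≫ f =
        Spec.map φb ≫ Y.fromSpecResidueField y ≫ f := by
      rw [← Category.assoc, ← Category.assoc]
      exact ha.trans hb.symm
    rw [h1, ← Category.assoc, ← Category.assoc, cancel_mono, ← Spec.map_comp, ← Spec.map_comp,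
      Spec.map_inj] at h2
    exact h2
  have hφ : φa = φb := by
    ext z
    obtain ⟨w, hw⟩ := hθ (φa.hom z)
    have hinj : Function.Injective φa.hom := φa.hom.injective
    have hz : z = (f.residueFieldMap y).hom w := (hinj hw).symm
    have := congrArg (fun k => k.hom w) heq
    rw [hz]
    exact this
  rw [hφ]

theorem surjective_residue_point (R : Type u) [CommRing R] [IsLocalRing R] :
    Function.Surjective ((Scheme.SpecToEquivOfField (IsLocalRing.ResidueField R)
      (Spec (CommRingCat.of R))
      (Spec.map (CommRingCat.ofHom (IsLocalRing.residue R)))).2).hom := by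
  show Function.Surjective ((Spec (CommRingCat.of R)).descResidueField
    (Scheme.stalkClosedPointTo (Spec.map (CommRingCat.ofHom (IsLocalRing.residue R))))).hom
  have h1 := Scheme.germ_stalkClosedPointTo_Spec (CommRingCat.ofHom (IsLocalRing.residue R))
  have h2 := Scheme.residue_descResidueField
    (Scheme.stalkClosedPointTo (Spec.map (CommRingCat.ofHom (IsLocalRing.residue R))))
  intro z
  obtain ⟨r, rfl⟩ := IsLocalRing.residue_surjective z
  let r' := (Scheme.ΓSpecIso (CommRingCat.of R)).inv.hom r
  refine ⟨(Spec (CommRingCat.of R)).residue _ ((Spec (CommRingCat.of R)).presheaf.germ ⊤ _ trivial r'), ?_⟩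
  have e2 := congrArg (fun k => k.hom ((Spec (CommRingCat.of R)).presheaf.germ ⊤ _ trivial r')) h2
  have e1 := congrArg (fun k => k.hom r') h1
  simp only [CommRingCat.hom_comp, RingHom.coe_comp, Function.comp_apply] at e1 e2
  rw [e2, e1]
  show IsLocalRing.residue R ((Scheme.ΓSpecIso (CommRingCat.of R)).hom.hom
    ((Scheme.ΓSpecIso (CommRingCat.of R)).inv.hom r)) = _
  congr 1
  have := congrArg (fun k => k.hom r) (Scheme.ΓSpecIso (CommRingCat.of R)).inv_hom_id
  exact this

theorem main (R : Type u) [CommRing R] [HenselianLocalRing R]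
    [IsSepClosed (IsLocalRing.ResidueField R)] (F : EtCoh.Ab (Spec (CommRingCat.of R))) :
    Function.Bijective ((Scheme.pointSmallEtale
      (Spec.map (CommRingCat.ofHom (IsLocalRing.residue R)))).toPresheafFiber
        (EtCoh.top (Spec (CommRingCat.of R)))
        (Over.homMk (Spec.map (CommRingCat.ofHom (IsLocalRing.residue R))) (Category.comp_id _))
        F.obj) := by
  haveI : PreservesFilteredColimitsOfSize.{u, u} (forget AddCommGrpCat.{u+1}) :=
    preservesFilteredColimitsOfSize_shrink.{u, u + 1, u, u + 1} _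
  let S := Spec (CommRingCat.of R)
  let ξ : Spec (CommRingCat.of (IsLocalRing.ResidueField R)) ⟶ S :=
    Spec.map (CommRingCat.ofHom (IsLocalRing.residue R))
  let Φ := Scheme.pointSmallEtale ξ
  let T := EtCoh.top S
  let x₀ : Φ.fiber.obj T := Over.homMk ξ (Category.comp_id _)
  have hξpt : ξ (IsLocalRing.closedPoint (IsLocalRing.ResidueField R)) =
      IsLocalRing.closedPoint R :=
    IsLocalRing.comap_closedPoint (IsLocalRing.residue R)
  -- sections through fibre points
  have hsec : ∀ (Y : S.Etale) (y : Φ.fiber.obj Y),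
      ∃ ū : T ⟶ Y, (∀ f : Y ⟶ T, ū ≫ f = 𝟙 T) ∧ Φ.fiber.map ū x₀ = y := by
    intro Y y
    let b : Spec (CommRingCat.of (IsLocalRing.ResidueField R)) ⟶ Y.left := y.left
    have hb : b ≫ Y.hom = ξ := Over.w y
    have hYe : Etale Y.hom := Y.prop
    have hy₀ : Y.hom (b (IsLocalRing.closedPoint _)) = IsLocalRing.closedPoint R := by
      rw [← hξpt, ← hb]; rfl
    obtain ⟨u, hu, hupt⟩ := (Groth.Agent.S5062.result R).1 ⟨inferInstance, inferInstance⟩ Y.left
      Y.hom hYe _ hy₀
    let ū : T ⟶ Y := MorphismProperty.Over.homMk u hu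
    refine ⟨ū, fun f => (EtCore.topIsTerminal S).hom_ext _ _, ?_⟩
    have hab : ξ ≫ u = b := by
      apply spec_lift_unique Y.hom ξ (surjective_residue_point R)
      · rw [Category.assoc, hu, Category.comp_id]
      · exact hb
      · show u (ξ _) = _
        rw [hξpt, hupt]
        rfl
    apply Over.OverMorphism.ext
    exact hab
  constructor
  · intro z₁ z₂ h
    rw [GrothendieckTopology.Point.toPresheafFiber_eq_iff'] at h
    obtain ⟨Y, f, y, -, hz⟩ := h
    obtain ⟨ū, hū, -⟩ := hsec Y y
    have h1 : ∀ z, F.obj.map (ū ≫ f).op z = z := by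
      intro z
      rw [hū f, op_id, F.obj.map_id]; rfl
    rw [← h1 z₁, ← h1 z₂, op_comp, Functor.map_comp, ConcreteCategory.comp_apply,
      ConcreteCategory.comp_apply, hz]
  · intro p
    obtain ⟨Y, y, z, rfl⟩ := Φ.toPresheafFiber_jointly_surjective p
    obtain ⟨ū, -, hū⟩ := hsec Y y
    refine ⟨F.obj.map ū.op z, ?_⟩
    rw [← hū]
    exact GrothendieckTopology.Point.toPresheafFiber_w_apply Φ ū x₀ F.obj z

end Aux

/-- On the spectrum of a strictly henselian local ring, global sections of an abelian étale sheaf map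
bijectively onto the stalk at the geometric closed point. -/
theorem result (R : Type u) [CommRing R] [HenselianLocalRing R]
    [IsSepClosed (IsLocalRing.ResidueField R)] (F : EtCoh.Ab (Spec (CommRingCat.of R))) :
    Function.Bijective ((Scheme.pointSmallEtale
      (Spec.map (CommRingCat.ofHom (IsLocalRing.residue R)))).toPresheafFiber
        (EtCoh.top (Spec (CommRingCat.of R)))
        (Over.homMk (Spec.map (CommRingCat.ofHom (IsLocalRing.residue R))) (Category.comp_id _)) F.obj) := by
  exact Aux.main R F

end Groth.Agent.S0074
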