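import Groth.Statements.S0094
import Mathlib
import Groth.Statements.S0094
import Groth.Agent.Lib.Helper9.FE.SubmConn5
-- import your own Groth.Agent.* helpers here

set_option autoImplicit false
open CategoryTheory CategoryTheory.Limits AlgebraicGeometry Opposite
universe u
open EtBase

namespace Groth.Agent.S0094

open CategoryTheory CategoryTheory.Limits AlgebraicGeometry Opposite
namespace Aux
set_option linter.unusedSectionVars false
set_option linter.style.haveILetI false
set_option backward.isDefEq.respectTransparency false

theorem main {T S : Scheme.{u}} (f : T ⟶ S) [Flat f] [QuasiCompact f]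
    (hc : ∀ (Ω : Type u) [Field Ω] [IsAlgClosed Ω] (s : Spec (CommRingCat.of Ω) ⟶ S),
      ConnectedSpace ↥(pullback f s))
    (F : EtCoh.Ab S) :
    Function.Bijective (((EtCoh.pullPushAdj f).unit.app F).hom.app (op (EtCoh.top S))) := by
  -- f is surjective
  haveI : Surjective f := by
    constructor
    intro s
    obtain ⟨Ω, _, _, ξ, hξ⟩ := H9FE.SubmConn.exists_algClosed_pt s
    haveI := hc Ω ξ
    obtain ⟨w⟩ : Nonempty ↥(pullback f ξ) := inferInstance
    refine ⟨(pullback.fst f ξ) w, ?_⟩
    have e1 : (pullback.fst f ξ ≫ f) w = (pullback.snd f ξ ≫ ξ) w := by rw [pullback.condition]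
    exact e1.trans (hξ _)
  refine H9FE.SubmConn.unit_bijective_top f ?_ hc F
  intro S' g
  exact Flat.isQuotientMap_of_surjective (pullback.snd f g)

end Aux

/-- For a flat quasi-compact morphism with connected geometric fibres, global sections of an abelian
étale sheaf on the base agree with global sections of its pullback: the unit of the
pullback–pushforward adjunction is bijective on global sections (the source proves this for sheaves
of sets; the abelian case is stated). -/
theorem result {T S : Scheme.{u}} (f : T ⟶ S) [Flat f] [QuasiCompact f] [EtCoh.BCCont f]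
    (hc : ∀ (Ω : Type u) [Field Ω] [IsAlgClosed Ω] (s : Spec (CommRingCat.of Ω) ⟶ S),
      ConnectedSpace ↥(pullback f s))
    (F : EtCoh.Ab S) :
    Function.Bijective (((EtCoh.pullPushAdj f).unit.app F).hom.app (op (EtCoh.top S))) := by
  exact Aux.main f hc F

end Groth.Agent.S0094
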