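import Groth.Statements.S0620
import Mathlib
import Groth.Statements.S0620
import Groth.Agent.Lib.Helper9.FE.SHNbhd3
import Groth.Agent.Lib.Helper9.FE.StkFinal
import Groth.Agent.Lib.Helper9.FE.SHModel
-- import your own Groth.Agent.* helpers here

set_option autoImplicit false
open CategoryTheory CategoryTheory.Limits AlgebraicGeometry Opposite
universe u
open EtCore

namespace Groth.Agent.S0620

open CategoryTheory CategoryTheory.Limits AlgebraicGeometry Opposite
open EtCore
namespace Aux
open Groth.Agent.Helper7.SHens IsLocalRing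

lemma hS_eq {S : Scheme.{u}} (s : S) {V₀ : S.Opens} (hV₀ : IsAffineOpen V₀) (hs : s ∈ V₀)
    (R : Type u) [CommRing R] [IsLocalRing R] [Algebra (S.presheaf.stalk s) R]
    [Algebra Γ(S, V₀) R]
    (hcomp : algebraMap Γ(S, V₀) R =
      (algebraMap (S.presheaf.stalk s) R).comp (S.presheaf.germ V₀ s hs).hom) :
    H9FE.SHNbhd.hS hV₀ R = Hens2.specOf S s R := by
  change Spec.map (CommRingCat.ofHom (algebraMap Γ(S, V₀) R)) ≫ hV₀.fromSpec =
    Spec.map (CommRingCat.ofHom (algebraMap (S.presheaf.stalk s) R)) ≫ S.fromSpecStalk s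
  rw [← hV₀.fromSpecStalk_eq_fromSpecStalk hs]
  change _ = Spec.map (CommRingCat.ofHom (algebraMap (S.presheaf.stalk s) R)) ≫
    Spec.map (S.presheaf.germ V₀ s hs) ≫ hV₀.fromSpec
  rw [← Category.assoc, ← Spec.map_comp, hcomp]
  rfl

theorem main {X S : Scheme.{u}} (f : X ⟶ S) [QuasiCompact f] [QuasiSeparated f]
    (F : EtCoh.Ab X) (s : S) (R : Type u) [CommRing R] [IsLocalRing R] [Algebra (S.presheaf.stalk s) R]
    [IsLocalHom (algebraMap (S.presheaf.stalk s) R)] [Hensel.IsStrictHenselization (S.presheaf.stalk s) R]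
    [IsSepClosed (IsLocalRing.ResidueField R)] (n : ℕ) :
    Nonempty ((EtCoh.stalk (Hens2.geomPt S s R)).obj ((EtCoh.Rpush f n).obj F) ≅
      AddCommGrpCat.of (EtCoh.H (pullback f (Hens2.specOf S s R))
        ((EtCoh.pull (pullback.fst f (Hens2.specOf S s R))).obj F) n)) := by
  classical
  haveI hRh : HenselianLocalRing R :=
    (inferInstance : Hensel.IsStrictHenselization (S.presheaf.stalk s) R).henselian
  obtain ⟨V₀, hV₀, hs, -⟩ := exists_isAffineOpen_mem_and_subset (x := s) (U := ⊤) trivial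
  letI algStalk : Algebra Γ(S, V₀) (S.presheaf.stalk s) :=
    TopCat.Presheaf.algebra_section_stalk S.presheaf ⟨s, hs⟩
  letI algR : Algebra Γ(S, V₀) R :=
    ((algebraMap (S.presheaf.stalk s) R).comp
      (algebraMap Γ(S, V₀) (S.presheaf.stalk s))).toAlgebra
  haveI : IsScalarTower Γ(S, V₀) (S.presheaf.stalk s) R :=
    IsScalarTower.of_algebraMap_eq (fun _ => rfl)
  haveI hloc : IsLocalization.AtPrime (S.presheaf.stalk s)
      (hV₀.primeIdealOf ⟨s, hs⟩).asIdeal := hV₀.isLocalization_stalk ⟨s, hs⟩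
  obtain ⟨e, he⟩ := H9FE.SHModel.exists_model Γ(S, V₀) (S.presheaf.stalk s)
    (hV₀.primeIdealOf ⟨s, hs⟩).asIdeal R
  obtain ⟨α, _, _, _, Fα, _⟩ := IsFiltered.exists_directed (Nbhd Γ(S, V₀) (ResidueField R))
  have hSeq : H9FE.SHNbhd.hS hV₀ R = Hens2.specOf S s R := hS_eq s hV₀ hs R rfl
  have key : ∀ h' : Spec (CommRingCat.of R) ⟶ S, H9FE.SHNbhd.hS hV₀ R = h' →
      Nonempty ((EtCoh.stalk (Spec.map (CommRingCat.ofHom (IsLocalRing.residue R)) ≫ h')).obj
        ((EtCoh.Rpush f n).obj F) ≅
      AddCommGrpCat.of (EtCoh.H (pullback f h')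
        ((EtCoh.pull (pullback.fst f h')).obj F) n)) := by
    rintro _ rfl
    exact H9FE.StkTheta.main f (H9FE.SHNbhd.Us hV₀ R Fα) (H9FE.SHNbhd.cU hV₀ R Fα e)
      (H9FE.SHNbhd.hS hV₀ R) (H9FE.SHNbhd.cU_hh hV₀ R Fα e) (H9FE.SLocSect.cpt R)
      (H9FE.SHNbhd.lift hV₀ R Fα e) (H9FE.SHNbhd.lift_hom hV₀ R Fα e)
      (H9FE.SHNbhd.lift_nat hV₀ R Fα e) (H9FE.SHNbhd.lift_tower hV₀ R Fα e)
      (H9FE.SHNbhd.dom hV₀ R Fα e he) (H9FE.SHNbhd.cUIsLimit hV₀ R Fα e)
      (H9FE.SHNbhd.us_affine hV₀ R Fα) F n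
  exact key _ hSeq

end Aux

/-- First statement (abelian sheaf, one degree at a time): for f quasi-compact and quasi-separated, F an
abelian sheaf on the small etale site of X, s a point of S and R a strict henselization of the local
ring of S at s, the stalk of R^n f_* F at the geometric point Spec of the residue field of R -> S is
isomorphic to the degree-n etale cohomology of X x_S Spec R with coefficients in the pullback of F.
The source identifies the two sides canonically and for every geometric point over s; here the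
geometric point is the one attached to R and only the existence of an isomorphism is stated. The
statements for complexes are not included. -/
theorem result {X S : Scheme.{u}} (f : X ⟶ S) [QuasiCompact f] [QuasiSeparated f]
    (F : EtCoh.Ab X) (s : S) (R : Type u) [CommRing R] [IsLocalRing R] [Algebra (S.presheaf.stalk s) R]
    [IsLocalHom (algebraMap (S.presheaf.stalk s) R)] [Hensel.IsStrictHenselization (S.presheaf.stalk s) R]
    [IsSepClosed (IsLocalRing.ResidueField R)] (n : ℕ) :
    Nonempty ((EtCoh.stalk (Hens2.geomPt S s R)).obj ((EtCoh.Rpush f n).obj F) ≅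
      AddCommGrpCat.of (EtCoh.H (pullback f (Hens2.specOf S s R))
        ((EtCoh.pull (pullback.fst f (Hens2.specOf S s R))).obj F) n)) := by
  exact Aux.main f F s R n

end Groth.Agent.S0620
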