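import Groth.Statements.S14454
import Mathlib
import Groth.Statements.S14454
import Groth.Agent.Lib.Helper9.FE.FEtTraceSum
import Groth.Agent.Lib.Helper5.Misc.RDComp
-- import your own Groth.Agent.* helpers here

set_option autoImplicit false
universe u
open CategoryTheory CategoryTheory.Limits AlgebraicGeometry
open EtDual

namespace Groth.Agent.S14454

open CategoryTheory CategoryTheory.Limits AlgebraicGeometry Opposite
open EtDual
namespace Aux
set_option backward.isDefEq.respectTransparency false
set_option linter.style.haveILetI false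
set_option linter.unusedSectionVars false

open EtShriek H9FE.FEtTraceSum

attribute [local instance] Groth.Agent.Lib.Helper5.Misc.JContGen.jCont

section Generic
universe w v₁ u₁
variable {C : Type u₁} [Category.{v₁} C]

/-- two subfunctors which correspond under a natural map are isomorphic -/
theorem natIso_of_sub {G G' H H' : C ⥤ AddCommGrpCat.{w}} (ι : G ⟶ H) (ι' : G' ⟶ H')
    (ρ : H ⟶ H')
    (hι' : ∀ F, Function.Injective (ι'.app F))
    (ha : ∀ F (a : G.obj F), ∃ b : G'.obj F, ι'.app F b = ρ.app F (ι.app F a))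
    (hb : ∀ F (a : G.obj F), ρ.app F (ι.app F a) = 0 → a = 0)
    (hc : ∀ F (b : G'.obj F), ∃ a : G.obj F, ρ.app F (ι.app F a) = ι'.app F b) :
    Nonempty (G ≅ G') := by
  choose τ hτ using ha
  have hadd : ∀ F (a b : G.obj F), τ F (a + b) = τ F a + τ F b := by
    intro F a b
    apply hι' F
    rw [hτ, map_add, map_add, map_add, hτ, hτ]
  let T : ∀ F, G.obj F ⟶ G'.obj F := fun F => AddCommGrpCat.ofHom (AddMonoidHom.mk' (τ F) (hadd F))
  have hT : ∀ F (a : G.obj F), T F a = τ F a := fun F a => rfl
  have hnat : ∀ {F F' : C} (φ : F ⟶ F'), G.map φ ≫ T F' = T F ≫ G'.map φ := by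
    intro F F' φ
    ext a
    apply hι' F'
    change ι'.app F' (T F' (G.map φ a)) = ι'.app F' (G'.map φ (T F a))
    rw [hT, hT, hτ]
    have n1 := ConcreteCategory.congr_hom (ι.naturality φ) a
    have n2 := ConcreteCategory.congr_hom (ρ.naturality φ) (ι.app F a)
    have n3 := ConcreteCategory.congr_hom (ι'.naturality φ) (τ F a)
    simp only [ConcreteCategory.comp_apply] at n1 n2 n3
    rw [n1, n2, n3, hτ]
  let TT : G ⟶ G' := { app := T, naturality := fun _ _ φ => hnat φ }
  have hiso : ∀ F, IsIso (TT.app F) := by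
    intro F
    rw [ConcreteCategory.isIso_iff_bijective]
    constructor
    · have : Function.Injective (AddMonoidHom.mk' (τ F) (hadd F)) := by
        rw [injective_iff_map_eq_zero]
        intro a ha0
        apply hb F a
        rw [← hτ]
        have : τ F a = 0 := ha0
        rw [this, map_zero]
      exact this
    · intro b
      obtain ⟨a, ha⟩ := hc F b
      refine ⟨a, ?_⟩
      apply hι' F
      change ι'.app F (τ F a) = _
      rw [hτ, ha]
  haveI := NatIso.isIso_of_isIso_app TT
  exact ⟨asIso TT⟩

end Generic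

section Sections

variable {X U : Scheme.{u}} (j : U ⟶ X)

/-- global sections -/
noncomputable def Gam (X : Scheme.{u}) : EtCoh.Ab X ⥤ AddCommGrpCat.{u + 1} :=
  sheafToPresheaf X.smallEtaleTopology AddCommGrpCat.{u + 1} ⋙
    (evaluation X.Etaleᵒᵖ AddCommGrpCat.{u + 1}).obj (op (EtCoh.top X))

instance : (Gam X).Additive := by unfold Gam; infer_instance

instance : PreservesFiniteLimits (Gam X) := by unfold Gam; infer_instance

/-- sections with support are sections -/
noncomputable def iota : EtDual.gammaSupp j ⟶ Gam X where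
  app F := (Gam X).map (kernel.ι (EtDual.unitApp j F))
  naturality F G φ := by
    change (Gam X).map ((EtDual.secSupp j).map φ) ≫ _ = _ ≫ (Gam X).map φ
    rw [← Functor.map_comp, ← Functor.map_comp]
    congr 1
    simp

lemma iota_injective (F : EtCoh.Ab X) : Function.Injective ((iota j).app F) := by
  have : Mono ((Gam X).map (kernel.ι (EtDual.unitApp j F))) := inferInstance
  exact (AddCommGrpCat.mono_iff_injective _).1 this

lemma iota_range (F : EtCoh.Ab X) (s : (Gam X).obj F)
    (hs : (Gam X).map (EtDual.unitApp j F) s = 0) : ∃ a, (iota j).app F a = s := by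
  let S : ShortComplex (EtCoh.Ab X) :=
    ShortComplex.mk (kernel.ι (EtDual.unitApp j F)) (EtDual.unitApp j F) (kernel.condition _)
  have hS : S.Exact := ShortComplex.exact_of_f_is_kernel S (kernelIsKernel _)
  haveI : Mono S.f := by dsimp [S]; infer_instance
  have hS' : (S.map (Gam X)).Exact := hS.map_of_mono_of_preservesKernel (Gam X) inferInstance inferInstance
  rw [ShortComplex.ab_exact_iff] at hS'
  exact hS' s hs

lemma iota_cond (F : EtCoh.Ab X) (a : (EtDual.gammaSupp j).obj F) :
    (Gam X).map (EtDual.unitApp j F) ((iota j).app F a) = 0 := by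
  have h : (Gam X).map (kernel.ι (EtDual.unitApp j F)) ≫ (Gam X).map (EtDual.unitApp j F) = 0 := by
    rw [← Functor.map_comp, kernel.condition, Functor.map_zero]
  exact ConcreteCategory.congr_hom h a

end Sections

section Glue

variable {X : Scheme.{u}}

/-- gluing sections of a sheaf of sets along a jointly surjective family -/
lemma glue (F : EtDesc.Sh X) {P : X.Etale} {μ : Type*} (W : μ → X.Etale)
    (w : ∀ a, W a ⟶ P) (hcov : ∀ x : P.left, ∃ a, x ∈ Set.range (w a).left)
    (x : ∀ a, F.obj.obj (op (W a)))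
    (compat : ∀ (a b : μ) (Z : X.Etale) (ga : Z ⟶ W a) (gb : Z ⟶ W b), ga ≫ w a = gb ≫ w b →
      F.obj.map ga.op (x a) = F.obj.map gb.op (x b)) :
    ∃ s : F.obj.obj (op P), ∀ a, F.obj.map (w a).op s = x a := by
  have hS : Sieve.generate (Presieve.ofArrows W w) ∈ X.smallEtaleTopology P := by
    rw [Groth.Agent.Lib.Helper5.EtSiteBasic.mem_smallEtale_iff]
    intro p
    obtain ⟨a, y, hy⟩ := hcov p
    exact ⟨W a, w a, y, ⟨W a, 𝟙 _, w a, Presieve.ofArrows.mk a, by simp⟩, hy⟩
  have hsh : Presieve.IsSheafFor F.obj (Presieve.ofArrows W w) := by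
    rw [Presieve.isSheafFor_iff_generate]
    exact ((isSheaf_iff_isSheaf_of_type _ _).1 F.2) _ hS
  rw [Presieve.isSheafFor_arrows_iff] at hsh
  have hc : Presieve.Arrows.Compatible F.obj w x := by
    intro a b Z ga gb hab
    exact compat a b Z ga gb hab
  obtain ⟨s, hs, -⟩ := hsh x hc
  exact ⟨s, hs⟩

/-- gluing two sections of an abelian sheaf -/
lemma glue2 (F : EtCoh.Ab X) {P W₁ W₂ : X.Etale} (w₁ : W₁ ⟶ P) (w₂ : W₂ ⟶ P)
    (hcov : ∀ x : P.left, x ∈ Set.range w₁.left ∨ x ∈ Set.range w₂.left)
    (x₁ : EtCoh.sect F W₁) (x₂ : EtCoh.sect F W₂)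
    (c11 : ∀ (Z : X.Etale) (a b : Z ⟶ W₁), a ≫ w₁ = b ≫ w₁ →
      F.obj.map a.op x₁ = F.obj.map b.op x₁)
    (c12 : ∀ (Z : X.Etale) (a : Z ⟶ W₁) (b : Z ⟶ W₂), a ≫ w₁ = b ≫ w₂ →
      F.obj.map a.op x₁ = F.obj.map b.op x₂)
    (c22 : ∀ (Z : X.Etale) (a b : Z ⟶ W₂), a ≫ w₂ = b ≫ w₂ →
      F.obj.map a.op x₂ = F.obj.map b.op x₂) :
    ∃ s : EtCoh.sect F P, F.obj.map w₁.op s = x₁ ∧ F.obj.map w₂.op s = x₂ := by
  let Fs : EtDesc.Sh X := (sheafCompose X.smallEtaleTopology (forget AddCommGrpCat.{u + 1})).obj F
  let W : Bool → X.Etale := fun b => match b with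
    | true => W₁
    | false => W₂
  let w : ∀ b, W b ⟶ P := fun b => match b with
    | true => w₁
    | false => w₂
  let x : ∀ b, Fs.obj.obj (op (W b)) := fun b => match b with
    | true => x₁
    | false => x₂
  obtain ⟨s, hs⟩ := glue Fs W w (by
      intro p
      rcases hcov p with h | h
      · exact ⟨true, h⟩
      · exact ⟨false, h⟩) x (by
      intro a b Z ga gb hab
      cases a <;> cases b
      · exact c22 Z ga gb hab
      · exact (c12 Z gb ga hab.symm).symm
      · exact c12 Z ga gb hab
      · exact c11 Z ga gb hab)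
  exact ⟨s, hs true, hs false⟩

/-- sections which agree on everything landing in suitable open neighbourhoods are equal -/
lemma sect_ext_open (F : EtCoh.Ab X) {Z : X.Etale} (s t : EtCoh.sect F Z)
    (h : ∀ z : Z.left, ∃ O : Z.left.Opens, z ∈ O ∧ ∀ (N : X.Etale) (n : N ⟶ Z),
      Set.range n.left ⊆ (O : Set Z.left) → F.obj.map n.op s = F.obj.map n.op t) : s = t := by
  apply Groth.Agent.S0728.sect_ext_local F s t
  intro z
  obtain ⟨O, hz, hO⟩ := h z
  haveI : Etale Z.hom := Z.prop
  let N : X.Etale := Groth.Agent.Lib.Helper5.EtSiteBasic.ofEtale (O.ι ≫ Z.hom)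
  let n : N ⟶ Z := MorphismProperty.Over.homMk O.ι rfl trivial
  refine ⟨N, n, ⟨z, hz⟩, rfl, hO N n ?_⟩
  rintro _ ⟨y, rfl⟩
  exact y.2

end Glue

section Tensor

/-- a point of a fibre product is determined by its projections when one residue field extension
is trivial -/
lemma pullback_point_unique {X Y S : Scheme.{u}} (f : X ⟶ S) (g : Y ⟶ S)
    (w₁ w₂ : ↑(pullback f g))
    (h1 : pullback.fst f g w₁ = pullback.fst f g w₂)
    (h2 : pullback.snd f g w₁ = pullback.snd f g w₂)
    (hs : Function.Surjective (g.residueFieldMap (pullback.snd f g w₂))) : w₁ = w₂ := by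
  apply Scheme.Pullback.carrierEquiv.injective
  rw [Scheme.Pullback.carrierEquiv_eq_iff]
  have e : Scheme.Pullback.Triplet.ofPoint w₁ = Scheme.Pullback.Triplet.ofPoint w₂ :=
    Scheme.Pullback.Triplet.ext h1 h2
  refine ⟨e, ?_⟩
  let T := Scheme.Pullback.Triplet.ofPoint w₂
  have hsurj : Function.Surjective T.tensorInl.hom := by
    refine RingHom.IsStableUnderBaseChange.pushout_inl
      RingHom.surjective_isStableUnderBaseChange RingHom.surjective_respectsIso _ _ ?_
    rw [CommRingCat.hom_comp, RingHom.coe_comp]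
    exact Function.Surjective.comp hs ((ConcreteCategory.isIso_iff_bijective
      (S.residueFieldCongr T.hy).inv).1 inferInstance).2
  haveI : Subsingleton (PrimeSpectrum T.tensor) :=
    (PrimeSpectrum.comap_injective_of_surjective T.tensorInl.hom hsurj).subsingleton
  exact Subsingleton.elim (α := PrimeSpectrum T.tensor) _ _

end Tensor

section Van

variable {X U : Scheme.{u}} (j : U ⟶ X) [hjo : IsOpenImmersion j]

/-- the unit of `pull ⊣ push` and the restriction map have the same kernel on sections -/
lemma unit_eq_zero_iff (F : EtCoh.Ab X) (s : (Gam X).obj F) :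
    (Gam X).map (EtDual.unitApp j F) s = 0 ↔ F.obj.map (proj j (EtCoh.top X)).op s = 0 := by
  have h1 : EtDual.unitApp j F ≫
      (EtCoh.push j).map ((Groth.Agent.S0623.pullIso j).hom.app F) = res j F :=
    Adjunction.unit_leftAdjointUniq_hom_app (EtCoh.pullPushAdj j)
      (Groth.Agent.S0623.restrPushAdj j) F
  have h2 : (Gam X).map (res j F) s = F.obj.map (proj j (EtCoh.top X)).op s := rfl
  rw [← h2, ← h1, Functor.map_comp]
  have hiso : IsIso ((Gam X).map
      ((EtCoh.push j).map ((Groth.Agent.S0623.pullIso j).hom.app F))) := inferInstance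
  have hinj := ((ConcreteCategory.isIso_iff_bijective _).1 hiso).1
  constructor
  · intro h
    rw [ConcreteCategory.comp_apply, h, map_zero]
  · intro h
    apply hinj
    rw [ConcreteCategory.comp_apply] at h
    rw [h, map_zero]

/-- vanishing on `U`, in terms of arbitrary objects lying over `U` -/
lemma van_iff (F : EtCoh.Ab X) (W : X.Etale) (s : EtCoh.sect F W) :
    F.obj.map (proj j W).op s = 0 ↔
      ∀ (V : X.Etale) (g : V ⟶ W), Set.range V.hom ⊆ Set.range j → F.obj.map g.op s = 0 := by
  constructor
  · intro h V g hV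
    let l : V.left ⟶ U := IsOpenImmersion.lift j V.hom hV
    have hl : l ≫ j = V.hom := IsOpenImmersion.lift_fac j V.hom hV
    have hw : g.left ≫ W.hom = V.hom := Over.w g.hom
    let k : V ⟶ (compEtale j).obj ((EtCoh.bc j).obj W) :=
      MorphismProperty.Over.homMk (pullback.lift g.left l (by rw [hw, hl])) (by
        change pullback.lift _ _ _ ≫ (pullback.snd W.hom j ≫ j) = V.hom
        rw [pullback.lift_snd_assoc, hl]) trivial
    have hk : k ≫ proj j W = g := by
      apply MorphismProperty.Over.Hom.ext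
      change pullback.lift _ _ _ ≫ (proj j W).left = g.left
      rw [proj_left, pullback.lift_fst]
    rw [← hk, op_comp, Functor.map_comp, ConcreteCategory.comp_apply, h, map_zero]
  · intro h
    apply h
    rintro _ ⟨y, rfl⟩
    change (pullback.snd W.hom j ≫ j) y ∈ _
    exact ⟨(pullback.snd W.hom j) y, rfl⟩

end Van

section Geom

variable {X X' U U' : Scheme.{u}}
    (f : X' ⟶ X) [hf : Etale f] (j : U ⟶ X) [hjo : IsOpenImmersion j]
    (j' : U' ⟶ X') [hjo' : IsOpenImmersion j']

/-- `X'` as an object of the small étale site of `X` -/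
noncomputable abbrev Xo : X.Etale := (compEtale f).obj (EtCoh.top X')

/-- the structure map `X' ⟶ X` in the small étale site of `X` -/
noncomputable def piX : Xo f ⟶ EtCoh.top X :=
  MorphismProperty.Over.homMk f ((Category.comp_id f).trans (Category.id_comp f).symm) trivial

lemma piX_left : (piX f).left = f := rfl

/-- restriction of global sections to `X'` -/
noncomputable def rho : Gam X ⟶ restrAlong f ⋙ Gam X' where
  app F := F.obj.map (piX f).op
  naturality _ _ φ := (φ.hom.naturality (piX f).op).symm

/-- sections over `X'` vanishing on `U'` vanish on everything mapping into `U'` -/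
lemma van_map (F : EtCoh.Ab X) (t : EtCoh.sect F (Xo f))
    (ht : ((restrAlong f).obj F).obj.map (proj j' (EtCoh.top X')).op t = 0)
    (V : X.Etale) (g : V ⟶ Xo f) (hg : Set.range g.left ⊆ Set.range j') :
    F.obj.map g.op t = 0 := by
  let V' : X'.Etale := Groth.Agent.Lib.Helper5.EtSiteBasic.ofEtale g.left
  let g' : V' ⟶ EtCoh.top X' := MorphismProperty.Over.homMk g.left (by simp [V']; rfl) trivial
  have hw : g.left ≫ (𝟙 X' ≫ f) = V.hom := Over.w g.hom
  let h : V ⟶ (compEtale f).obj V' := MorphismProperty.Over.homMk (𝟙 V.left) (by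
    change 𝟙 _ ≫ (g.left ≫ f) = V.hom
    rw [← hw, Category.id_comp]
    exact (congrArg (g.left ≫ ·) (Category.id_comp f)).symm) trivial
  have hh : h ≫ (compEtale f).map g' = g := by
    apply MorphismProperty.Over.Hom.ext
    change 𝟙 _ ≫ g.left = g.left
    simp
  have h0 := (van_iff j' ((restrAlong f).obj F) (EtCoh.top X') t).1 ht V' g' hg
  have h0' : F.obj.map ((compEtale f).map g').op t = 0 := h0
  rw [← hh, op_comp, Functor.map_comp, ConcreteCategory.comp_apply, h0', map_zero]

include hjo in
lemma cover (hZ : Set.BijOn f.base (Set.range j'.base)ᶜ (Set.range j.base)ᶜ)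
    (x : (EtCoh.top X).left) :
    x ∈ Set.range (proj j (EtCoh.top X)).left ∨ x ∈ Set.range (piX f).left := by
  by_cases hv : x ∈ Set.range j.base
  · left
    obtain ⟨u, rfl⟩ := hv
    obtain ⟨w, hw1, hw2⟩ := Scheme.Pullback.exists_preimage_pullback
      (f := (EtCoh.top X).hom) (g := j) (j.base u) u rfl
    refine ⟨w, ?_⟩
    rw [proj_left]
    exact hw1
  · right
    obtain ⟨x', hx', hx'v⟩ := hZ.surjOn hv
    exact ⟨x', hx'v⟩

lemma cond_a (hU' : Set.range j'.base = f.base ⁻¹' Set.range j.base)
    (F : EtCoh.Ab X) (s : EtCoh.sect F (EtCoh.top X))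
    (hs : F.obj.map (proj j (EtCoh.top X)).op s = 0) :
    ((restrAlong f).obj F).obj.map (proj j' (EtCoh.top X')).op (F.obj.map (piX f).op s) = 0 := by
  change F.obj.map ((compEtale f).map (proj j' (EtCoh.top X'))).op (F.obj.map (piX f).op s) = 0
  have := (van_iff j F (EtCoh.top X) s).1 hs _
    ((compEtale f).map (proj j' (EtCoh.top X')) ≫ piX f) ?_
  · rw [op_comp, Functor.map_comp, ConcreteCategory.comp_apply] at this
    exact this
  · rintro _ ⟨y, rfl⟩
    have h1 : j'.base ((pullback.snd (EtCoh.top X').hom j').base y) ∈ Set.range j'.base := ⟨_, rfl⟩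
    rw [hU'] at h1
    exact h1

lemma cond_b (hZ : Set.BijOn f.base (Set.range j'.base)ᶜ (Set.range j.base)ᶜ)
    (F : EtCoh.Ab X) (s : EtCoh.sect F (EtCoh.top X))
    (hs : F.obj.map (proj j (EtCoh.top X)).op s = 0) (hs' : F.obj.map (piX f).op s = 0) :
    s = 0 := by
  apply Groth.Agent.S0728.sect_ext_local F s 0
  intro v
  rcases cover f j j' hZ v with ⟨w, hw⟩ | ⟨w, hw⟩
  · exact ⟨_, proj j (EtCoh.top X), w, hw, by rw [hs, map_zero]⟩
  · exact ⟨_, piX f, w, hw, by rw [hs', map_zero]⟩

lemma cond_c (hU' : Set.range j'.base = f.base ⁻¹' Set.range j.base)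
    (hZ : Set.BijOn f.base (Set.range j'.base)ᶜ (Set.range j.base)ᶜ)
    (hκ : ∀ x' : ↥X', x' ∉ Set.range j'.base → Function.Surjective (f.residueFieldMap x'))
    (F : EtCoh.Ab X) (t : EtCoh.sect F (Xo f))
    (ht : ((restrAlong f).obj F).obj.map (proj j' (EtCoh.top X')).op t = 0) :
    ∃ s : EtCoh.sect F (EtCoh.top X), F.obj.map (proj j (EtCoh.top X)).op s = 0 ∧
      F.obj.map (piX f).op s = t := by
  have hpre : ∀ x' : X', f.base x' ∈ Set.range j.base → x' ∈ Set.range j'.base := by
    intro x' hx'
    rw [hU']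
    exact hx'
  refine glue2 F (proj j (EtCoh.top X)) (piX f) (cover f j j' hZ) 0 t ?_ ?_ ?_
  · intro Z a b _
    rw [map_zero, map_zero]
  · intro Z a b _
    rw [map_zero]
    refine (van_map f j' F t ht Z b ?_).symm
    rintro _ ⟨z, rfl⟩
    apply hpre
    have e1 : b.left ≫ (𝟙 X' ≫ f) = Z.hom := Over.w b.hom
    have e2 : a.left ≫ (pullback.snd (EtCoh.top X).hom j ≫ j) = Z.hom := Over.w a.hom
    have e3 : b.left ≫ f = a.left ≫ pullback.snd (EtCoh.top X).hom j ≫ j := by
      rw [e2, ← e1]
      exact (congrArg (b.left ≫ ·) (Category.id_comp f)).symm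
    have e4 := congrArg (fun m : Z.left ⟶ X => m.base z) e3
    refine ⟨(pullback.snd (EtCoh.top X).hom j).base (a.left.base z), ?_⟩
    exact e4.symm
  · intro Z a b _
    have ea : a.left ≫ f = Z.hom := by
      have e1 : a.left ≫ (𝟙 X' ≫ f) = Z.hom := Over.w a.hom
      rw [← e1]
      exact (congrArg (a.left ≫ ·) (Category.id_comp f)).symm
    have eb : b.left ≫ f = Z.hom := by
      have e1 : b.left ≫ (𝟙 X' ≫ f) = Z.hom := Over.w b.hom
      rw [← e1]
      exact (congrArg (b.left ≫ ·) (Category.id_comp f)).symm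
    have hfab : ∀ z : Z.left, f.base (a.left.base z) = f.base (b.left.base z) := by
      intro z
      have := congrArg (fun m : Z.left ⟶ X => m.base z) (ea.trans eb.symm)
      exact this
    apply sect_ext_open F
    intro z
    by_cases hz : f.base (a.left.base z) ∈ Set.range j.base
    · -- both points lie in `U'`
      refine ⟨a.left ⁻¹ᵁ j'.opensRange ⊓ b.left ⁻¹ᵁ j'.opensRange, ⟨hpre _ hz, hpre _ ?_⟩, ?_⟩
      · rw [← hfab z]; exact hz
      · intro N n hn
        have h1 : F.obj.map (n ≫ a).op t = 0 := by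
          refine van_map f j' F t ht N (n ≫ a) ?_
          rintro _ ⟨y, rfl⟩
          exact (hn ⟨y, rfl⟩).1
        have h2 : F.obj.map (n ≫ b).op t = 0 := by
          refine van_map f j' F t ht N (n ≫ b) ?_
          rintro _ ⟨y, rfl⟩
          exact (hn ⟨y, rfl⟩).2
        rw [op_comp, Functor.map_comp, ConcreteCategory.comp_apply] at h1 h2
        rw [h1, h2]
    · -- both points lie in `Z'`, hence coincide, and the diagonal is open
      have ha : a.left.base z ∈ (Set.range j'.base)ᶜ := by
        intro h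
        rw [hU'] at h
        exact hz h
      have hb : b.left.base z ∈ (Set.range j'.base)ᶜ := by
        intro h
        rw [hU'] at h
        apply hz
        rw [hfab z]
        exact h
      have hab : a.left.base z = b.left.base z := hZ.injOn ha hb (hfab z)
      let q : Z.left ⟶ pullback f f := pullback.lift a.left b.left (ea.trans eb.symm)
      let δ : X' ⟶ pullback f f := pullback.diagonal f
      haveI : IsOpenImmersion δ := inferInstance
      have hq1 : pullback.fst f f (q z) = a.left.base z := by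
        have := congrArg (fun m : Z.left ⟶ X' => m.base z) (pullback.lift_fst a.left b.left (ea.trans eb.symm))
        exact this
      have hq2 : pullback.snd f f (q z) = b.left.base z := by
        have := congrArg (fun m : Z.left ⟶ X' => m.base z) (pullback.lift_snd a.left b.left (ea.trans eb.symm))
        exact this
      have hd1 : pullback.fst f f (δ (a.left.base z)) = a.left.base z := by
        have := congrArg (fun m : X' ⟶ X' => m.base (a.left.base z)) (pullback.diagonal_fst f)
        exact this
      have hd2 : pullback.snd f f (δ (a.left.base z)) = a.left.base z := by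
        have := congrArg (fun m : X' ⟶ X' => m.base (a.left.base z)) (pullback.diagonal_snd f)
        exact this
      have hqz : q z = δ (a.left.base z) := by
        refine pullback_point_unique f f _ _ (hq1.trans hd1.symm) (hq2.trans (hab.symm.trans hd2.symm)) ?_
        rw [hd2]
        exact hκ _ ha
      refine ⟨q ⁻¹ᵁ δ.opensRange, ⟨a.left.base z, hqz.symm⟩, ?_⟩
      intro N n hn
      have hrange : Set.range (n.left ≫ q) ⊆ Set.range δ := by
        rintro _ ⟨y, rfl⟩
        exact hn ⟨y, rfl⟩
      let l : N.left ⟶ X' := IsOpenImmersion.lift δ (n.left ≫ q) hrange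
      have hl : l ≫ δ = n.left ≫ q := IsOpenImmersion.lift_fac δ (n.left ≫ q) hrange
      have hna : n.left ≫ a.left = l := by
        have : (n.left ≫ q) ≫ pullback.fst f f = n.left ≫ a.left := by
          rw [Category.assoc, pullback.lift_fst]
        rw [← this, ← hl, Category.assoc, pullback.diagonal_fst, Category.comp_id]
      have hnb : n.left ≫ b.left = l := by
        have : (n.left ≫ q) ≫ pullback.snd f f = n.left ≫ b.left := by
          rw [Category.assoc, pullback.lift_snd]
        rw [← this, ← hl, Category.assoc, pullback.diagonal_snd, Category.comp_id]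
      have hnab : n ≫ a = n ≫ b := by
        apply MorphismProperty.Over.Hom.ext
        change n.left ≫ a.left = n.left ≫ b.left
        rw [hna, hnb]
      have k1 : F.obj.map n.op (F.obj.map a.op t) = F.obj.map (n ≫ a).op t := by
        rw [op_comp, Functor.map_comp, ConcreteCategory.comp_apply]
      have k2 : F.obj.map n.op (F.obj.map b.op t) = F.obj.map (n ≫ b).op t := by
        rw [op_comp, Functor.map_comp, ConcreteCategory.comp_apply]
      rw [k1, k2, hnab]

end Geom

section Main

open Groth.Agent.Lib.Helper5.Misc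

variable {X X' U U' : Scheme.{u}}
    (f : X' ⟶ X) [hf : Etale f] (j : U ⟶ X) [hjo : IsOpenImmersion j]
    (j' : U' ⟶ X') [hjo' : IsOpenImmersion j']

theorem natIso (hU' : Set.range j'.base = f.base ⁻¹' Set.range j.base)
    (hZ : Set.BijOn f.base (Set.range j'.base)ᶜ (Set.range j.base)ᶜ)
    (hκ : ∀ x' : ↥X', x' ∉ Set.range j'.base → Function.Surjective (f.residueFieldMap x')) :
    Nonempty (EtDual.gammaSupp j ≅ restrAlong f ⋙ EtDual.gammaSupp j') := by
  refine natIso_of_sub (iota j) (Functor.whiskerLeft (restrAlong f) (iota j')) (rho f) ?_ ?_ ?_ ?_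
  · intro F
    exact iota_injective j' ((restrAlong f).obj F)
  · intro F a
    have h1 := (unit_eq_zero_iff j F _).1 (iota_cond j F a)
    have h2 := cond_a f j j' hU' F _ h1
    exact iota_range j' ((restrAlong f).obj F) _
      ((unit_eq_zero_iff j' ((restrAlong f).obj F) _).2 h2)
  · intro F a ha
    apply iota_injective j F
    rw [map_zero]
    exact cond_b f j j' hZ F _ ((unit_eq_zero_iff j F _).1 (iota_cond j F a)) ha
  · intro F b
    have h1 := (unit_eq_zero_iff j' ((restrAlong f).obj F) _).1
      (iota_cond j' ((restrAlong f).obj F) b)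
    obtain ⟨s, hs1, hs2⟩ := cond_c f j j' hU' hZ hκ F _ h1
    obtain ⟨a, ha⟩ := iota_range j F s ((unit_eq_zero_iff j F s).2 hs1)
    refine ⟨a, ?_⟩
    rw [ha]
    exact hs2

theorem main (hU' : Set.range j'.base = f.base ⁻¹' Set.range j.base)
    (hZ : Set.BijOn f.base (Set.range j'.base)ᶜ (Set.range j.base)ᶜ)
    (hκ : ∀ x' : ↥X', x' ∉ Set.range j'.base → Function.Surjective (f.residueFieldMap x'))
    (F : EtCoh.Ab X) (r : ℕ) :
    Nonempty ((EtDual.HY j r).obj F ≅ (EtDual.HY j' r).obj ((EtCoh.pull f).obj F)) := by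
  obtain ⟨e⟩ := natIso f j j' hU' hZ hκ
  let e' : EtDual.gammaSupp j ≅ EtCoh.pull f ⋙ EtDual.gammaSupp j' :=
    e ≪≫ Functor.isoWhiskerRight (Groth.Agent.S0623.pullIso f).symm (EtDual.gammaSupp j')
  haveI : (EtCoh.pull f).PreservesInjectiveObjects :=
    ⟨fun {I} hI => by haveI := hI; exact Groth.Agent.S0623.injective_pull f I⟩
  haveI : (EtCoh.pull f).Additive := (EtCoh.pullPushAdj f).left_adjoint_additive
  haveI : PreservesFiniteLimits (EtCoh.pull f) := Groth.Agent.S0623.lexPull f
  haveI : PreservesFiniteColimits (EtCoh.pull f) :=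
    ⟨fun _ _ _ => (EtCoh.pullPushAdj f).leftAdjoint_preservesColimits.preservesColimitsOfShape⟩
  haveI : (EtCoh.pull f).PreservesHomology := inferInstance
  unfold EtDual.HY
  exact ⟨(RDComp.natIso e' r).app F ≪≫ RDComp.preIso (EtCoh.pull f) (EtDual.gammaSupp j') F r⟩

end Main

end Aux

/-- Let X be a scheme, j : U ⟶ X an open immersion with closed complement Z, f : X' ⟶ X an étale
morphism and j' : U' ⟶ X' an open immersion with image f⁻¹(U), such that f maps Z' = X' − U'
bijectively onto Z with trivial residue field extensions at the points of Z' (f restricts to an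
isomorphism from (f⁻¹Z)_red onto Z_red). Then for every abelian sheaf F on the small étale site of X
and every r, the groups H^r_Z(X, F) and H^r_{Z'}(X', f⁻¹F) are isomorphic; existence of an
isomorphism only, the canonical one being restriction along f. No Noetherian hypothesis on X is
made. -/
theorem result {X X' U U' : Scheme.{u}}
    (f : X' ⟶ X) [AlgebraicGeometry.Etale f] (j : U ⟶ X) [IsOpenImmersion j]
    (j' : U' ⟶ X') [IsOpenImmersion j']
    (hU' : Set.range j'.base = f.base ⁻¹' Set.range j.base)
    (hZ : Set.BijOn f.base (Set.range j'.base)ᶜ (Set.range j.base)ᶜ)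
    (hκ : ∀ x' : ↥X', x' ∉ Set.range j'.base → Function.Surjective (f.residueFieldMap x'))
    (F : EtCoh.Ab X) (r : ℕ) :
    Nonempty ((EtDual.HY j r).obj F ≅ (EtDual.HY j' r).obj ((EtCoh.pull f).obj F)) := by
  exact Aux.main f j j' hU' hZ hκ F r

end Groth.Agent.S14454
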