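import Groth.Statements.S0069
import Mathlib
import Groth.Agent.Lib.Helper5.Misc.EtStalk
import Groth.Agent.Lib.Helper5.Misc.AlmostCocont2
import Groth.Agent.Lib.Helper5.Misc.EtSiteBasic

set_option autoImplicit false
open CategoryTheory CategoryTheory.Limits AlgebraicGeometry Opposite
universe u
open EtBase

open Groth.Agent.Lib.Helper5

namespace Groth.Agent.S0069

/-- Abelian case, first half — the pushforward along a closed immersion has zero stalk at geometric
points outside the closed subscheme. -/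
theorem result {Z X : Scheme.{u}} (i : Z ⟶ X) [IsClosedImmersion i] [EtCoh.BCCont i]
    (G : EtCoh.Ab Z) {Ω : Type u} [Field Ω] [IsSepClosed Ω] (ξ : Spec (CommRingCat.of Ω) ⟶ X)
    (hξ : Disjoint (Set.range ξ.base) (Set.range i.base)) :
    IsZero ((EtCoh.stalk ξ).obj ((EtCoh.push i).obj G)) := by
  haveI := EtStalk.pfc.{u}
  suffices h : ∀ t : (EtCoh.stalk ξ).obj ((EtCoh.push i).obj G), t = 0 by
    haveI : Subsingleton ((EtCoh.stalk ξ).obj ((EtCoh.push i).obj G)) :=
      ⟨fun a b => (h a).trans (h b).symm⟩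
    exact AddCommGrpCat.isZero_of_subsingleton _
  intro t
  obtain ⟨V, x, s, rfl⟩ := (Scheme.pointSmallEtale ξ).toPresheafFiber_jointly_surjective
    (P := ((EtCoh.push i).obj G).obj) t
  let W : X.Opens := ⟨(Set.range i.base)ᶜ, i.isClosedEmbedding.isClosed_range.isOpen_compl⟩
  let O : V.left.Opens := V.hom ⁻¹ᵁ W
  haveI : Etale V.hom := V.prop
  let V' : X.Etale := EtSiteBasic.ofEtale (O.ι ≫ V.hom)
  let g : V' ⟶ V := MorphismProperty.Over.homMk O.ι rfl trivial
  have hmem : x.left (default : Spec (CommRingCat.of Ω)) ∈ O := by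
    change V.hom (x.left (default : Spec (CommRingCat.of Ω))) ∈ (Set.range i.base)ᶜ
    have e : x.left ≫ V.hom = ξ := Over.w x
    have e2 : V.hom (x.left (default : Spec (CommRingCat.of Ω))) = ξ default :=
      congrArg (fun f : Spec (CommRingCat.of Ω) ⟶ X => f default) e
    rw [e2]
    exact Set.disjoint_left.1 hξ ⟨default, rfl⟩
  obtain ⟨y, hy, -⟩ := EtStalk.exists_lift_fiber ξ g x
    ⟨x.left (default : Spec (CommRingCat.of Ω)), hmem⟩ rfl
  have w := ConcreteCategory.congr_hom
    ((Scheme.pointSmallEtale ξ).toPresheafFiber_w g y ((EtCoh.push i).obj G).obj) s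
  simp only [ConcreteCategory.comp_apply] at w
  have w2 : ((Scheme.pointSmallEtale ξ).toPresheafFiber V' y ((EtCoh.push i).obj G).obj)
      (((EtCoh.push i).obj G).obj.map g.op s) =
      ((Scheme.pointSmallEtale ξ).toPresheafFiber V x ((EtCoh.push i).obj G).obj) s := by
    refine w.trans ?_
    exact congrArg (fun z => ((Scheme.pointSmallEtale ξ).toPresheafFiber V z
      ((EtCoh.push i).obj G).obj) s) hy
  haveI : IsEmpty ((EtCoh.bc i).obj V').left := by
    refine ⟨fun z => ?_⟩
    have c : pullback.fst V'.hom i ≫ V'.hom = pullback.snd V'.hom i ≫ i := pullback.condition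
    have c1 : V'.hom (pullback.fst V'.hom i z) = i (pullback.snd V'.hom i z) := by
      rw [← Scheme.Hom.comp_apply, ← Scheme.Hom.comp_apply, c]
    have c2 : V'.hom (pullback.fst V'.hom i z) ∈ (Set.range i.base)ᶜ := by
      change (O.ι ≫ V.hom) (pullback.fst V'.hom i z) ∈ (Set.range i.base)ᶜ
      have m : O.ι (pullback.fst V'.hom i z) ∈ Set.range O.ι := ⟨_, rfl⟩
      rw [Scheme.Opens.range_ι] at m
      exact m
    exact c2 ⟨_, c1.symm⟩
  have hterm : IsTerminal (G.obj.obj (op ((EtCoh.bc i).obj V'))) :=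
    Sheaf.isTerminalOfBotCover G _ (AlmostCocont2.bot_mem_of_isEmpty _)
  have hz : ((EtCoh.push i).obj G).obj.map g.op s = 0 := by
    have hh : IsZero (G.obj.obj (op ((EtCoh.bc i).obj V'))) :=
      (isZero_zero AddCommGrpCat).of_iso (hterm.uniqueUpToIso (isZero_zero _).isTerminal)
    exact @Subsingleton.elim _ (AddCommGrpCat.subsingleton_of_isZero hh) _ _
  refine w2.symm.trans ?_
  exact (congrArg _ hz).trans (map_zero _)

end Groth.Agent.S0069
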