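import Groth.Statements.S0654
import Mathlib
import Groth.Agent.Lib.Helper5.Misc.EtStalkFam
import Groth.Agent.Lib.Helper5.Misc.EtStalkPull
import Groth.Agent.Lib.Helper5.Misc.EtOpenImm
import Groth.Agent.Lib.Helper5.Misc.EtClosedDense
import Groth.Agent.Lib.Helper5.Misc.AlmostCocont2
import Groth.Agent.S0647
import Groth.Agent.S0623
import Groth.Agent.S0069

set_option autoImplicit false
open CategoryTheory CategoryTheory.Limits AlgebraicGeometry Opposite
universe u
open EtCore

open Groth.Agent.Lib.Helper5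

namespace Groth.Agent.S0654

lemma isZero_sigma_of_isEmpty {A : Type*} [Category A] [HasZeroMorphisms A] {ι : Type*}
    [IsEmpty ι] (f : ι → A) [HasCoproduct f] : IsZero (∐ f) := by
  rw [IsZero.iff_id_eq_zero]
  apply Sigma.hom_ext
  intro i
  exact isEmptyElim i

/-- Sections of an abelian étale sheaf over an empty scheme vanish. -/
lemma isZero_sections_of_isEmpty {Z : Scheme.{u}} (G : EtCoh.Ab Z) (W : Z.Etale)
    [IsEmpty W.left] : IsZero (G.obj.obj (op W)) :=
  (isZero_zero AddCommGrpCat).of_iso
    ((Sheaf.isTerminalOfBotCover G _ (AlmostCocont2.bot_mem_of_isEmpty _)).uniqueUpToIso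
      (isZero_zero _).isTerminal)

set_option backward.isDefEq.respectTransparency.types false in
/-- `j⁻¹ i_* G = 0` when the images of `i` and `j` are disjoint. -/
lemma isZero_restr_push {Z U X : Scheme.{u}} (i : Z ⟶ X) (j : U ⟶ X) [Etale j] [EtShriek.JCont j]
    (hd : Disjoint (Set.range j.base) (Set.range i.base)) (G : EtCoh.Ab Z) :
    IsZero ((EtShriek.restrAlong j).obj ((EtCoh.push i).obj G)) := by
  rw [IsZero.iff_id_eq_zero]
  ext V : 3
  induction V using Opposite.rec with | _ V => ?_
  haveI : IsEmpty ((EtCoh.bc i).obj ((EtShriek.compEtale j).obj V)).left := by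
    refine ⟨fun z => ?_⟩
    have c : pullback.fst (V.hom ≫ j) i ≫ (V.hom ≫ j) = pullback.snd (V.hom ≫ j) i ≫ i :=
      pullback.condition
    have c1 : j (V.hom (pullback.fst (V.hom ≫ j) i z)) = i (pullback.snd (V.hom ≫ j) i z) := by
      rw [← Scheme.Hom.comp_apply, ← Scheme.Hom.comp_apply, ← Scheme.Hom.comp_apply, c]
    exact Set.disjoint_left.1 hd ⟨_, rfl⟩ ⟨_, c1.symm⟩
  exact (isZero_sections_of_isEmpty G ((EtCoh.bc i).obj ((EtShriek.compEtale j).obj V))).eq_of_src
    _ _

end Groth.Agent.S0654

namespace Groth.Agent.S0654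

/-- Let i : Z -> X be a closed immersion and j : U -> X the open immersion of the complement of its
image. For every abelian sheaf F on the small etale site of X, the counit j_! (F|_U) -> F followed
by the unit F -> i_* i^{-1} F composes to zero and the resulting three-term sequence is short exact.
(Continuity of the composition functor of etale sites, which always holds, is carried as an instance
hypothesis.) -/
theorem result {Z X : Scheme.{u}} (i : Z ⟶ X) [IsClosedImmersion i]
    (U : X.Opens) (hU : (U : Set X) = (Set.range i.base)ᶜ) [AlgebraicGeometry.Etale U.ι] [EtShriek.JCont U.ι]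
    (F : EtCoh.Ab X) :
    ∃ w : (EtShriek.extZeroAdj U.ι).counit.app F ≫ (EtCoh.pullPushAdj i).unit.app F = 0,
      (ShortComplex.mk _ _ w).ShortExact := by
  have hd : Disjoint (Set.range U.ι.base) (Set.range i.base) := by
    have e : Set.range U.ι.base = (U : Set X) := Scheme.Opens.range_ι U
    rw [e, hU]
    exact disjoint_compl_left
  have hz := isZero_restr_push i U.ι hd ((EtCoh.pull i).obj F)
  have w : (EtShriek.extZeroAdj U.ι).counit.app F ≫ (EtCoh.pullPushAdj i).unit.app F = 0 := by
    apply ((EtShriek.extZeroAdj U.ι).homEquiv _ _).injective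
    exact hz.eq_of_tgt _ _
  refine ⟨w, ?_⟩
  haveI : (EtCoh.push i).Full := EtClosedDense.full_pushA i AddCommGrpCat.{u + 1}
  haveI : (EtCoh.push i).Faithful := EtClosedDense.faithful_pushA i AddCommGrpCat.{u + 1}
  haveI : IsIso (EtCoh.pullPushAdj i).counit := inferInstance
  let P : (↥U ⊕ ↥Z) → EtStalk.GeomPt X := fun s => Sum.elim
    (fun p : ↥U => ⟨(EtStalk.geomPtAt (X := U.toScheme) p).Ω,
      (EtStalk.geomPtAt (X := U.toScheme) p).ξ ≫ U.ι⟩)
    (fun z : ↥Z => ⟨(EtStalk.geomPtAt z).Ω, (EtStalk.geomPtAt z).ξ ≫ i⟩) s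
  have hcov : ∀ x : X, ∃ s, (P s).ξ (default : Spec (CommRingCat.of (P s).Ω)) = x := by
    intro x
    by_cases hx : x ∈ Set.range i.base
    · obtain ⟨z, rfl⟩ := hx
      refine ⟨Sum.inr z, ?_⟩
      change i ((EtStalk.geomPtAt z).ξ default) = i z
      rw [EtStalk.geomPtAt_default]
    · have hxU : x ∈ (U : Set X) := by
        rw [hU]
        exact hx
      refine ⟨Sum.inl ⟨x, hxU⟩, ?_⟩
      change U.ι ((EtStalk.geomPtAt (X := U.toScheme) ⟨x, hxU⟩).ξ default) = x
      rw [EtStalk.geomPtAt_default]
      rfl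
  apply EtStalkFam.shortExact_of_stalks P hcov
  rintro (p | z)
  · left
    constructor
    · have h1 : IsIso ((EtShriek.restrAlong U.ι).map ((EtShriek.extZeroAdj U.ι).counit.app F)) := by
        haveI := EtOpenImm.isIso_unit_extZero U.ι
        have tri := (EtShriek.extZeroAdj U.ι).right_triangle_components F
        exact IsIso.of_isIso_fac_left tri
      have h2 : IsIso ((EtCoh.pull U.ι).map ((EtShriek.extZeroAdj U.ι).counit.app F)) :=
        (NatIso.isIso_map_iff (Groth.Agent.S0623.pullIso U.ι) _).2 h1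
      have h3 : IsIso ((EtCoh.pull U.ι ⋙
          EtCoh.stalk (EtStalk.geomPtAt (X := U.toScheme) p).ξ).map
          ((EtShriek.extZeroAdj U.ι).counit.app F)) := by
        rw [Functor.comp_map]
        infer_instance
      exact (NatIso.isIso_map_iff (EtStalkPull.stalkPullIso U.ι
        (EtStalk.geomPtAt (X := U.toScheme) p).ξ) _).1 h3
    · apply Groth.Agent.S0069.result i ((EtCoh.pull i).obj F)
        ((EtStalk.geomPtAt (X := U.toScheme) p).ξ ≫ U.ι)
      refine Set.disjoint_of_subset_left ?_ hd
      rintro _ ⟨a, rfl⟩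
      exact ⟨_, rfl⟩
  · right
    constructor
    · obtain ⟨e⟩ := Groth.Agent.S0647.result U.ι ((EtShriek.restrAlong U.ι).obj F)
        ((EtStalk.geomPtAt z).ξ ≫ i)
      haveI : IsEmpty {u : Spec (CommRingCat.of (EtStalk.geomPtAt z).Ω) ⟶ U.toScheme //
          u ≫ U.ι = (EtStalk.geomPtAt z).ξ ≫ i} := by
        refine ⟨fun u => ?_⟩
        have c := congrArg (fun f : Spec (CommRingCat.of (EtStalk.geomPtAt z).Ω) ⟶ X =>
          f default) u.2
        exact Set.disjoint_left.1 hd ⟨_, rfl⟩ ⟨_, c.symm⟩
      exact (isZero_sigma_of_isEmpty _).of_iso e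
    · have tri := (EtCoh.pullPushAdj i).left_triangle_components F
      have h1 : IsIso ((EtCoh.pull i).map ((EtCoh.pullPushAdj i).unit.app F)) := by
        haveI : IsIso ((EtCoh.pull i).map ((EtCoh.pullPushAdj i).unit.app F) ≫
            (EtCoh.pullPushAdj i).counit.app ((EtCoh.pull i).obj F)) := by
          rw [tri]
          exact IsIso.id _
        exact IsIso.of_isIso_comp_right _ ((EtCoh.pullPushAdj i).counit.app ((EtCoh.pull i).obj F))
      have h3 : IsIso ((EtCoh.pull i ⋙ EtCoh.stalk (EtStalk.geomPtAt z).ξ).map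
          ((EtCoh.pullPushAdj i).unit.app F)) := by
        rw [Functor.comp_map]
        infer_instance
      exact (NatIso.isIso_map_iff (EtStalkPull.stalkPullIso i (EtStalk.geomPtAt z).ξ) _).1 h3

end Groth.Agent.S0654
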