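import Groth.Statements.S14451
import Mathlib
import Groth.Agent.Lib.Helper5.Misc.ExtAdjAcyc

set_option autoImplicit false
universe u
open CategoryTheory CategoryTheory.Limits AlgebraicGeometry
open EtCore

open Opposite Abelian

namespace Groth.Agent.S14451

/-- Let f : X ⟶ Y be a morphism of schemes and F an abelian sheaf on the small étale site of X whose
higher direct images R^q f_* F vanish for all q > 0. Then for every p the canonical map H^p(Y, f_*
F) → H^p(X, F) (pull back along f, then apply the counit f⁻¹ f_* F ⟶ F) is bijective. (Exactness of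
f⁻¹, which always holds, is carried as an instance hypothesis.) -/
theorem result {X Y : Scheme.{u}} (f : X ⟶ Y)
    [PreservesFiniteLimits (EtCoh.pull f)] (F : EtCoh.Ab X)
    (hR : ∀ q : ℕ, 0 < q → IsZero ((EtCoh.Rpush f q).obj F)) (p : ℕ) :
    Function.Bijective (EtLim.HofPush f F p) := by
  letI := HasDerivedCategory.standard (EtCoh.Ab X)
  letI := HasDerivedCategory.standard (EtCoh.Ab Y)
  have hΦ := Groth.Agent.Lib.Helper5.ExtAdjAcyc.Φ_bijective (EtCoh.pullPushAdj f)
    (EtCoh.const Y ℤ) F hR p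
  have hpre : Function.Bijective
      (fun e : Ext ((EtCoh.pull f).obj (EtCoh.const Y ℤ)) F p =>
        (Ext.mk₀ (EtCore.pullConst f ℤ).inv).comp e (zero_add p)) := by
    refine Function.bijective_iff_has_inverse.2
      ⟨fun e => (Ext.mk₀ (EtCore.pullConst f ℤ).hom).comp e (zero_add p), ?_, ?_⟩
    · intro e
      dsimp only
      rw [← Ext.comp_assoc_of_second_deg_zero, Ext.mk₀_comp_mk₀, Iso.hom_inv_id, Ext.mk₀_id_comp]
    · intro e
      dsimp only
      rw [← Ext.comp_assoc_of_second_deg_zero, Ext.mk₀_comp_mk₀, Iso.inv_hom_id, Ext.mk₀_id_comp]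
  have heq : ⇑(EtLim.HofPush f F p) =
      (fun e : Ext ((EtCoh.pull f).obj (EtCoh.const Y ℤ)) F p =>
        (Ext.mk₀ (EtCore.pullConst f ℤ).inv).comp e (zero_add p)) ∘
      ⇑(Groth.Agent.Lib.Helper5.ExtAdjAcyc.Φ (EtCoh.pullPushAdj f) (EtCoh.const Y ℤ) F p) := by
    funext e
    change ((Ext.mk₀ (EtCore.pullConst f ℤ).inv).comp (e.mapExactFunctor (EtCoh.pull f))
        (zero_add p)).comp (Ext.mk₀ ((EtCoh.pullPushAdj f).counit.app F)) (add_zero p) = _
    rw [Ext.comp_assoc_of_third_deg_zero]
    rfl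
  rw [heq]
  exact hpre.comp hΦ

end Groth.Agent.S14451
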