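import Groth.Statements.S8532
import Mathlib
import Groth.Prelude.Def_EtAcyc
import Groth.Agent.Lib.Helper9.FE.FEtTraceCoh
import Groth.Agent.Lib.Helper5.Misc.EtSiteBasic
import Groth.Agent.Lib.Helper5.Misc.EtStalk
-- import your own Groth.Agent.* helpers here

set_option autoImplicit false
universe u
open CategoryTheory CategoryTheory.Limits AlgebraicGeometry Opposite
open EtAcyc

namespace Groth.Agent.S8532

open CategoryTheory CategoryTheory.Limits AlgebraicGeometry Opposite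
namespace Aux
set_option backward.isDefEq.respectTransparency false
set_option linter.style.haveILetI false
set_option linter.unusedSectionVars false

open Groth.Agent.Lib.Helper5 Groth.Agent.S0728 H9FE.FEtTraceSum H9FE.FEtTraceCoh

variable {X : Scheme.{u}}

lemma coprime_of_primesIn (L : Set ℕ) (d m : ℕ) (hL : ∀ p : ℕ, p.Prime → p ∈ L → ¬ p ∣ d)
    (hm : EtAcyc.PrimesIn L m) : Nat.Coprime m d := by
  rw [Nat.coprime_iff_gcd_eq_one]
  by_contra hne
  obtain ⟨p, hp, hpd⟩ := Nat.exists_prime_and_dvd hne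
  exact hL p hp (hm.2 p hp (hpd.trans (Nat.gcd_dvd_left m d))) (hpd.trans (Nat.gcd_dvd_right m d))

/-- if `m • t = 0` and `m`, `d` are coprime then `t` is a multiple of `d • t` -/
lemma eq_zsmul_of_coprime {A : Type*} [AddCommGroup A] (m d : ℕ) (h : Nat.Coprime m d) (t : A)
    (hm : m • t = 0) : ∃ b : ℤ, t = b • (d • t) := by
  obtain ⟨a, b, hab⟩ := (Nat.isCoprime_iff_coprime.2 h)
  refine ⟨b, ?_⟩
  have h1 : t = (a * (m : ℤ) + b * (d : ℤ)) • t := by rw [hab, one_zsmul]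
  rw [add_zsmul, mul_zsmul, mul_zsmul, natCast_zsmul, natCast_zsmul, hm, zsmul_zero, zero_add] at h1
  exact h1

theorem nsmul_isIso (L : Set ℕ) (d : ℕ) (hL : ∀ p : ℕ, p.Prime → p ∈ L → ¬ p ∣ d)
    (F : EtCoh.Ab X) (hF : EtAcyc.IsLTorsion L F) : IsIso (d • 𝟙 F) := by
  haveI : Mono (d • 𝟙 F) := by
    rw [EtStalk.mono_iff_ab]
    intro W
    rw [injective_iff_map_eq_zero]
    intro s hs
    have hs' : d • s = 0 := by
      rw [← hs]
      exact (nsmul_hom_app (𝟙 F) d W s).symm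
    refine sect_ext_local F _ _ ?_
    intro w
    obtain ⟨V, g, m, ⟨v, hv⟩, hm, hms⟩ := hF W s w
    refine ⟨V, g, v, hv, ?_⟩
    obtain ⟨b, hb⟩ := eq_zsmul_of_coprime m d (coprime_of_primesIn L d m hL hm) _ hms
    rw [hb, ← map_nsmul, hs', map_zero, smul_zero]
  haveI : Epi (d • 𝟙 F) := by
    rw [← Sheaf.isLocallySurjective_iff_epi']
    constructor
    intro W s
    rw [EtSiteBasic.mem_smallEtale_iff]
    intro w
    obtain ⟨V, g, m, ⟨v, hv⟩, hm, hms⟩ := hF W s w
    refine ⟨V, g, v, ?_, hv⟩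
    obtain ⟨b, hb⟩ := eq_zsmul_of_coprime m d (coprime_of_primesIn L d m hL hm) _ hms
    refine ⟨b • F.obj.map g.op s, ?_⟩
    refine (nsmul_hom_app (𝟙 F) d V _).trans ?_
    change d • (b • F.obj.map g.op s) = F.obj.map g.op s
    rw [smul_comm]
    exact hb.symm
  exact isIso_of_mono_of_epi _

theorem main {X X' : Scheme.{u}} (f : X' ⟶ X) [IsFinite f] [Etale f]
    (d : ℕ) (hd : ∀ (Ω : Type u) [Field Ω] [IsSepClosed Ω] (ξ : Spec (CommRingCat.of Ω) ⟶ X),
      Nat.card ↥(pullback f ξ) = d)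
    (L : Set ℕ) (hL : ∀ p : ℕ, p.Prime → p ∈ L → ¬ p ∣ d) (F : EtCoh.Ab X)
    (hF : EtAcyc.IsLTorsion L F)
    [PreservesFiniteLimits (EtCoh.pull f)] (q : ℕ)
    (h : Subsingleton (EtCoh.H X' ((EtCoh.pull f).obj F) q)) :
    Subsingleton (EtCoh.H X F q) := by
  haveI := nsmul_isIso L d hL F hF
  refine subsingleton_of_forall_eq 0 (fun α => ?_)
  have h1 : d • α = 0 :=
    nsmul_eq_zero_of_Hpull_eq_zero f d hd F q α (Subsingleton.elim _ _)
  have h2 : Sheaf.H.map (d • 𝟙 F) q α = 0 := by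
    rw [H_map_nsmul]
    refine Eq.trans ?_ h1
    exact congrArg (fun z => d • z) (Sheaf.H.map_id_apply α)
  have h3 : Sheaf.H.map ((d • 𝟙 F) ≫ inv (d • 𝟙 F)) q α = 0 := by
    rw [Sheaf.H.map_comp_apply, h2, map_zero]
  rw [IsIso.hom_inv_id] at h3
  exact (Sheaf.H.map_id_apply α).symm.trans h3

end Aux

/-- Let f : X' → X be finite etale of constant degree d (every geometric fibre has exactly d points), L
a set of primes such that no prime in L divides d, F an abelian L-torsion sheaf on the small etale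
site of X, and q a natural number. If H^q(X', f⁻¹F) = 0, then H^q(X, F) = 0. -/
theorem result {X X' : Scheme.{u}} (f : X' ⟶ X) [IsFinite f] [Etale f]
    (d : ℕ) (hd : ∀ (Ω : Type u) [Field Ω] [IsSepClosed Ω] (ξ : Spec (CommRingCat.of Ω) ⟶ X),
      Nat.card ↥(pullback f ξ) = d)
    (L : Set ℕ) (hL : ∀ p : ℕ, p.Prime → p ∈ L → ¬ p ∣ d) (F : EtCoh.Ab X) (hF : EtAcyc.IsLTorsion L F)
    [PreservesFiniteLimits (EtCoh.pull f)] (q : ℕ)
    (h : Subsingleton (EtCoh.H X' ((EtCoh.pull f).obj F) q)) :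
    Subsingleton (EtCoh.H X F q) := by
  exact Aux.main f d hd L hL F hF q h

end Groth.Agent.S8532
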