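import Groth.Statements.S0630
import Mathlib
import Groth.Statements.S0630
import Groth.Agent.Lib.Helper9.FE.IntDisj
import Groth.Agent.S0071
-- import your own Groth.Agent.* helpers here

set_option autoImplicit false
open CategoryTheory CategoryTheory.Limits AlgebraicGeometry Opposite
universe u
open EtCore

namespace Groth.Agent.S0630

open CategoryTheory CategoryTheory.Limits AlgebraicGeometry Opposite
namespace Aux
set_option linter.style.haveILetI false
set_option linter.unusedSectionVars false
set_option backward.isDefEq.respectTransparency false

theorem main {X Y : Scheme.{u}} (f : X ⟶ Y) [IsIntegralHom f] :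
    PreservesFiniteColimits (EtCoh.push f) := by
  haveI : (EtCoh.push f).PreservesEpimorphisms :=
    H9FE.IntDisj.preservesEpimorphisms_of_isIntegralHom f
  haveI : PreservesLimitsOfSize.{u + 1, u + 1} (EtCoh.push f) :=
    (EtCoh.pullPushAdj f).rightAdjoint_preservesLimits
  haveI : PreservesFiniteLimits (EtCoh.push f) := PreservesLimitsOfSize.preservesFiniteLimits _
  exact Groth.Agent.S0071.Aux.preservesFiniteColimits_of_epi _

end Aux

/-- For a morphism f that is integral and universally injective, the direct image functor f_* on abelian
sheaves on the small etale sites preserves finite colimits (so it is exact, being a right adjoint). -/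
theorem result {X Y : Scheme.{u}} (f : X ⟶ Y) [IsIntegralHom f]
    [UniversallyInjective f] :
    PreservesFiniteColimits (EtCoh.push f) := by
  exact Aux.main f

end Groth.Agent.S0630
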