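import Groth.Statements.S6627
import Mathlib
import Groth.Statements.S6627
import Groth.Agent.Lib.Helper9.FE.EtClopenLift
-- import your own Groth.Agent.* helpers here

set_option autoImplicit false
open CategoryTheory CategoryTheory.Limits AlgebraicGeometry Opposite
universe u
open EtCore

namespace Groth.Agent.S6627

open CategoryTheory CategoryTheory.Limits AlgebraicGeometry Opposite
open EtCore
namespace Aux
set_option linter.style.haveILetI false
set_option linter.unusedSectionVars false
set_option backward.isDefEq.respectTransparency false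

theorem main {X Y : Scheme.{u}} (f : X ⟶ Y) [IsSeparated f]
    [LocallyQuasiFinite f] [LocallyOfFiniteType f] : BigSite.PropA f := by
  intro U g _ u
  obtain ⟨U₀, hU₀, hu⟩ : ∃ U₀ : U.Opens, IsAffineOpen U₀ ∧ u ∈ U₀ := by
    obtain ⟨_, ⟨U₀, hU₀, rfl⟩, hu, -⟩ :=
      U.isBasis_affineOpens.exists_subset_of_mem_open (Set.mem_univ u) isOpen_univ
    exact ⟨U₀, hU₀, hu⟩
  haveI : IsAffine (U₀ : Scheme.{u}) := hU₀
  let t : (U₀ : Scheme.{u}) ⟶ X := U₀.ι ≫ g
  haveI : LocallyQuasiFinite t := H9FE.EtClopenLift.locallyQuasiFinite_of_etale t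
  let u' : ↥U₀ := ⟨u, hu⟩
  obtain ⟨V, p, v₀, hp, hpv, M, hM, W, h, hWc, hWh, h1, h2⟩ :=
    H9FE.EtClopenLift.main f t (f (t u')) (ι := Unit) (fun _ => u')
      (fun _ _ _ => Subsingleton.elim _ _) (fun _ => rfl)
      (fun _ => (t ≫ f).quasiFiniteAt u')
  obtain ⟨m, w, hw1, hw2⟩ := h1 ()
  refine ⟨V, p, hp, W m, hWc m, h m ≫ U₀.ι, ?_, ?_⟩
  · rw [Category.assoc]
    exact hWh m
  · refine ⟨w, ?_⟩
    rw [Scheme.Hom.comp_apply, hw1]
    rfl

end Aux

/-- A separated morphism of schemes that is locally quasi-finite (locally of finite type with discrete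
fibres) satisfies condition (A): for every etale U ⟶ X and every point u of U there are an etale V ⟶
Y, an open and closed subscheme W of X ×_Y V and an X-morphism W ⟶ U whose image contains u.
(Locally of finite type is part of the meaning of locally quasi-finite here and is carried as a
separate hypothesis.) -/
theorem result {X Y : Scheme.{u}} (f : X ⟶ Y) [IsSeparated f]
    [LocallyQuasiFinite f] [LocallyOfFiniteType f] : BigSite.PropA f := by
  exact Aux.main f

end Groth.Agent.S6627
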