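import Groth.Statements.S0106
import Mathlib
import Groth.Prelude.Def_EtBase
import Groth.Agent.Lib.Helper9.FE.PushSplit
import Groth.Agent.S6647
import Groth.Agent.S6645
-- import your own Groth.Agent.* helpers here

set_option autoImplicit false
open CategoryTheory CategoryTheory.Limits AlgebraicGeometry Opposite
universe u
open EtBase

namespace Groth.Agent.S0106

open CategoryTheory CategoryTheory.Limits AlgebraicGeometry Opposite
open CategoryTheory CategoryTheory.Limits AlgebraicGeometry Opposite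
namespace Aux
set_option backward.isDefEq.respectTransparency false
set_option linter.style.haveILetI false
set_option linter.unusedSectionVars false
open H9FE H9FE.PushSplit H9FE.ConstSite Groth.Agent.S6647.Aux Groth.Agent.S14453.Aux

theorem refine_step {X Y : Scheme.{u}} (f : X ⟶ Y) [Etale f] (F : EtCoh.Ab X)
    (hF : EtCoh.IsFiniteLocallyConstant F) {W : Y.Etale} {n : ℕ} (σ : Fin n → (W.left ⟶ X))
    (hσ : ∀ j, σ j ≫ f = W.hom) (w : W.left) (k : ℕ) (hk : k ≤ n) :
    ∃ (Z : Y.Etale) (z : Z ⟶ W) (p : Z.left), z.left p = w ∧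
      ∀ j : Fin n, (j : ℕ) < k → ∃ (M : AddCommGrpCat.{u + 1}) (_ : Finite M),
        Nonempty (F.over (secObj f Z (z.left ≫ σ j) (hσ_comp f W σ hσ z j)) ≅
          ConstSite.cS.{u + 1, u, u + 1}
            (X.smallEtaleTopology.over (secObj f Z (z.left ≫ σ j) (hσ_comp f W σ hσ z j))) M) := by
  classical
  let JX := X.smallEtaleTopology
  induction k with
  | zero =>
    exact ⟨W, 𝟙 W, w, rfl, fun j hj => absurd hj (Nat.not_lt_zero _)⟩
  | succ k ih =>
    obtain ⟨Z, z, p, hp, hold⟩ := ih (Nat.le_of_succ_le hk)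
    let j₀ : Fin n := ⟨k, hk⟩
    obtain ⟨ι, U, hU, hα⟩ := hF
    let A := secObj f Z (z.left ≫ σ j₀) (hσ_comp f W σ hσ z j₀)
    obtain ⟨i, t, ht⟩ := hU (A.hom p)
    obtain ⟨M₀, iM, fM, ⟨α⟩⟩ := hα i
    obtain ⟨p', hp', hp'2⟩ := Scheme.Pullback.exists_preimage_pullback (f := (toTop A).left)
      (g := (toTop (U i)).left) p t (by rw [toTop_left_apply, toTop_left_apply, ht])
    let Q := ConstUnit.prodObj X (toTop A) (toTop (U i))
    let q₁ : Q ⟶ A := ConstUnit.prodFst X (toTop A) (toTop (U i))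
    let q₂ : Q ⟶ U i := ConstUnit.prodSnd X (toTop A) (toTop (U i))
    haveI : Etale Z.hom := Z.prop
    haveI : Etale (q₁.left ≫ Z.hom) := inferInstance
    let Z' : Y.Etale := Scheme.Etale.mk (q₁.left ≫ Z.hom)
    let z' : Z' ⟶ Z := MorphismProperty.Over.homMk q₁.left rfl
    refine ⟨Z', z' ≫ z, p', ?_, ?_⟩
    · show z.left (q₁.left p') = w
      have : q₁.left p' = p := hp'
      rw [this, hp]
    · intro j hj
      have hassoc : (z' ≫ z).left ≫ σ j = z'.left ≫ (z.left ≫ σ j) := Category.assoc _ _ _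
      rcases Nat.lt_succ_iff_lt_or_eq.1 hj with hlt | heq
      · obtain ⟨M, hM, ⟨θ⟩⟩ := hold j hlt
        refine ⟨M, hM, ⟨?_⟩⟩
        exact restrictIso.{u + 1, u, u + 1} JX
          (secRes f z' (z.left ≫ σ j) (hσ_comp f W σ hσ z j) ((z' ≫ z).left ≫ σ j) hassoc) θ
      · obtain rfl : j = j₀ := Fin.ext heq
        refine ⟨AddCommGrpCat.of (ULift.{u + 1} M₀), inferInstanceAs (Finite (ULift.{u + 1} M₀)),
          ⟨?_⟩⟩
        let ψ : secObj f Z' ((z' ≫ z).left ≫ σ j₀) (hσ_comp f W σ hσ (z' ≫ z) j₀) ⟶ U i :=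
          MorphismProperty.Over.homMk q₂.left (by
            show q₂.left ≫ (U i).hom = (z' ≫ z).left ≫ σ j₀
            have h1 : q₂.left ≫ (U i).hom = Q.hom := MorphismProperty.Over.w q₂
            have h2 : q₁.left ≫ A.hom = Q.hom := MorphismProperty.Over.w q₁
            rw [h1, ← h2]
            exact (Category.assoc _ _ _).symm)
        exact restrictIso.{u + 1, u, u + 1} JX ψ α

theorem main {X Y : Scheme.{u}} (f : X ⟶ Y) [IsFinite f] [AlgebraicGeometry.Etale f]
    [EtCoh.BCCont f] (F : EtCoh.Ab X) (h : EtCoh.IsFiniteLocallyConstant F) :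
    EtCoh.IsFiniteLocallyConstant ((EtCoh.push f).obj F) := by
  classical
  have hloc : ∀ y : Y, ∃ (W : Y.Etale) (w : W.left), W.hom w = y ∧
      Groth.Agent.S6645.Aux.FinConst ((EtCoh.push f).obj F) W := by
    intro y
    obtain ⟨W, w, n, σ, hσ, hw, hc, hd⟩ := exists_split f y
    obtain ⟨Z, z, p, hp, htriv⟩ := refine_step f F h σ hσ w n le_rfl
    have htriv' : ∀ j : Fin n, ∃ (M : AddCommGrpCat.{u + 1}) (_ : Finite M),
        Nonempty (F.over (secObj f Z (z.left ≫ σ j) (hσ_comp f W σ hσ z j)) ≅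
          ConstSite.cS.{u + 1, u, u + 1}
            (X.smallEtaleTopology.over (secObj f Z (z.left ≫ σ j) (hσ_comp f W σ hσ z j))) M) :=
      fun j => htriv j j.2
    choose M hM α using htriv'
    haveI := hM
    obtain ⟨E₁, hE₁, ⟨θ⟩⟩ := push_finConst f F (W := Z) (σ := fun j => z.left ≫ σ j)
      (hσ := fun j => hσ_comp f W σ hσ z j) M (fun j => (α j).some) (cov_of_cov f hc z)
      (fun j k hjk a b => disj_of_disj f hd z j k hjk a b)
    refine ⟨Z, p, ?_, ⟨E₁, hE₁, ⟨θ⟩⟩⟩
    have h1 : z.left ≫ W.hom = Z.hom := MorphismProperty.Over.w z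
    have h2 : Z.hom p = W.hom (z.left p) := by rw [← h1]; rfl
    rw [h2, hp, hw]
  choose W w hw hfc using hloc
  exact Groth.Agent.S6645.Aux.flc_of_finConst _ W (fun y => ⟨y, w y, hw y⟩) hfc

end Aux

/-- The pushforward of a finite locally constant abelian sheaf along a finite étale morphism is again
finite locally constant. -/
theorem result {X Y : Scheme.{u}} (f : X ⟶ Y) [IsFinite f] [AlgebraicGeometry.Etale f] [EtCoh.BCCont f]
    (F : EtCoh.Ab X) (h : EtCoh.IsFiniteLocallyConstant F) :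
    EtCoh.IsFiniteLocallyConstant ((EtCoh.push f).obj F) := by
  exact Aux.main f F h

end Groth.Agent.S0106
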