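import Groth.Statements.S8536
import Mathlib
import Groth.Statements.S8536
import Groth.Agent.Lib.Helper5.Misc.EtSiteBasic
import Groth.Agent.Lib.Helper5.Misc.EtStalk
-- import your own Groth.Agent.* helpers here

set_option autoImplicit false
universe u
open CategoryTheory CategoryTheory.Limits AlgebraicGeometry Opposite
open EtAcyc

namespace Groth.Agent.S8536

open CategoryTheory CategoryTheory.Limits AlgebraicGeometry Opposite
namespace Aux
set_option backward.isDefEq.respectTransparency false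
set_option linter.style.haveILetI false
set_option linter.unusedSectionVars false
open Abelian Groth.Agent.Lib.Helper5

/-- quotients of `L`-torsion sheaves are `L`-torsion -/
lemma isLTorsion_of_epi {X : Scheme.{u}} (L : Set ℕ) {G Q : EtCoh.Ab X} (π : G ⟶ Q) [Epi π]
    (hG : EtAcyc.IsLTorsion L G) : EtAcyc.IsLTorsion L Q := by
  intro U s x
  haveI : Presheaf.IsLocallySurjective X.smallEtaleTopology π.hom :=
    (Sheaf.isLocallySurjective_iff_epi' (φ := π)).2 inferInstance
  have hmem := Presheaf.imageSieve_mem X.smallEtaleTopology π.hom s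
  rw [EtSiteBasic.mem_smallEtale_iff] at hmem
  obtain ⟨W, g, y, ⟨t, ht⟩, hy⟩ := hmem x
  obtain ⟨V, g', m, ⟨v, hv⟩, hm, hmt⟩ := hG W t y
  refine ⟨V, g' ≫ g, m, ⟨v, ?_⟩, hm, ?_⟩
  · rw [← hy, ← hv]
    rfl
  · have e1 : Q.obj.map (g' ≫ g).op s = Q.obj.map g'.op (Q.obj.map g.op s) := by
      rw [op_comp, Functor.map_comp]; rfl
    have e2 : Q.obj.map g'.op (π.hom.app (op W) t) = π.hom.app (op V) (G.obj.map g'.op t) :=
      (ConcreteCategory.congr_hom (π.hom.naturality g'.op) t).symm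
    rw [e1, ← ht, e2]
    refine (map_nsmul (π.hom.app (op V)).hom m _).symm.trans ?_
    rw [hmt]
    exact map_zero _

variable {X Y : Scheme.{u}} (h : Y ⟶ X) [PreservesFiniteLimits (EtCoh.pull h)]

lemma Hpull_apply (G : EtCoh.Ab X) (n : ℕ) (α : EtCoh.H X G n) :
    EtCore.Hpull h G n α = (Ext.mk₀ (EtCore.pullConst h ℤ).inv).comp
      (α.mapExactFunctor (EtCoh.pull h)) (zero_add n) := rfl

/-- Hpull commutes with postcomposition -/
lemma Hpull_comp {F G : EtCoh.Ab X} {a b c : ℕ} (α : EtCoh.H X F a) (β : Ext F G b)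
    (hab : a + b = c) :
    EtCore.Hpull h G c (α.comp β hab) =
      (EtCore.Hpull h F a α).comp (β.mapExactFunctor (EtCoh.pull h)) hab := by
  rw [Hpull_apply, Hpull_apply, Ext.mapExactFunctor_comp]
  exact (Ext.comp_assoc _ _ _ (zero_add a) hab (by omega)).symm

theorem main [CompactSpace X] [QuasiSeparatedSpace X]
    [CompactSpace Y] [QuasiSeparatedSpace Y] (L : Set ℕ) (n : ℕ) (hc : EtAcyc.CompN h L n)
    {F G : EtCoh.Ab X} (u : F ⟶ G) [Mono u]
    (_hF : EtAcyc.IsLTorsion L F) (hG : EtAcyc.IsLTorsion L G)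
    (ξ : EtCoh.H Y ((EtCoh.pull h).obj F) (n + 1))
    (hξ : (EtCoh.HF Y (n + 1)).map ((EtCoh.pull h).map u) ξ ∈ Set.range (EtCore.Hpull h G (n + 1))) :
    ξ ∈ Set.range (EtCore.Hpull h F (n + 1)) := by
  let S : ShortComplex (EtCoh.Ab X) := ShortComplex.mk u (cokernel.π u) (cokernel.condition u)
  haveI : Mono S.f := ‹Mono u›
  have hS : S.ShortExact := { exact := ShortComplex.exact_cokernel u }
  have hS' := hS.map_of_exact (EtCoh.pull h)
  have hQ : EtAcyc.IsLTorsion L S.X₃ := isLTorsion_of_epi L (cokernel.π u) hG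
  obtain ⟨hbij, hinj⟩ := hc S.X₃ hQ
  obtain ⟨η, hη⟩ := hξ
  have hη' : EtCore.Hpull h G (n + 1) η =
      ξ.comp (Ext.mk₀ ((EtCoh.pull h).map u)) (add_zero (n + 1)) := hη
  -- step 1
  have h1 : EtCore.Hpull h S.X₃ (n + 1) (η.comp (Ext.mk₀ S.g) (add_zero (n + 1))) = 0 := by
    rw [Hpull_comp, hη', Ext.mapExactFunctor_mk₀, Ext.comp_assoc_of_third_deg_zero,
      Ext.mk₀_comp_mk₀]
    have : (EtCoh.pull h).map u ≫ (EtCoh.pull h).map S.g = 0 := by
      rw [← Functor.map_comp]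
      have : u ≫ S.g = 0 := S.zero
      rw [this, Functor.map_zero]
    rw [this, Ext.mk₀_zero, Ext.comp_zero]
  have h1' : η.comp (Ext.mk₀ S.g) (add_zero (n + 1)) = 0 :=
    hinj (h1.trans (map_zero _).symm)
  obtain ⟨ζ, hζ⟩ := Ext.covariant_sequence_exact₂ _ hS η h1'
  -- step 2
  have h2 : (EtCore.Hpull h F (n + 1) ζ - ξ).comp (Ext.mk₀ ((S.map (EtCoh.pull h)).f))
      (add_zero (n + 1)) = 0 := by
    rw [sub_eq_add_neg, Ext.add_comp, Ext.neg_comp]
    have e : (EtCore.Hpull h F (n + 1) ζ).comp (Ext.mk₀ ((S.map (EtCoh.pull h)).f))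
        (add_zero (n + 1)) = EtCore.Hpull h G (n + 1) η := by
      rw [← hζ, Hpull_comp, Ext.mapExactFunctor_mk₀]
      rfl
    rw [e, hη']
    exact add_neg_cancel _
  obtain ⟨θ, hθ⟩ := Ext.covariant_sequence_exact₁ _ hS' _ h2 (rfl : n + 1 = n + 1)
  obtain ⟨θ', rfl⟩ := (hbij n le_rfl).2 θ
  refine ⟨ζ - θ'.comp hS.extClass (rfl : n + 1 = n + 1), ?_⟩
  rw [map_sub, Hpull_comp, Ext.mapExactFunctor_extClass]
  rw [hθ]
  abel

end Aux

/-- Let h : Y → X be a morphism of quasi-compact quasi-separated schemes, L a set of primes and n a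
natural number, and suppose that for every abelian L-torsion sheaf on X the pullback map on etale
cohomology along h is bijective in degrees ≤ n and injective in degree n + 1. Let u : F → G be a
monomorphism of abelian L-torsion sheaves on X and ξ a class in H^{n+1}(Y, h⁻¹F) whose image in
H^{n+1}(Y, h⁻¹G) comes from H^{n+1}(X, G). Then ξ comes from H^{n+1}(X, F). -/
theorem result {X Y : Scheme.{u}} [CompactSpace X] [QuasiSeparatedSpace X]
    [CompactSpace Y] [QuasiSeparatedSpace Y] (h : Y ⟶ X) (L : Set ℕ) (n : ℕ) (hc : EtAcyc.CompN h L n)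
    [PreservesFiniteLimits (EtCoh.pull h)] {F G : EtCoh.Ab X} (u : F ⟶ G) [Mono u]
    (hF : EtAcyc.IsLTorsion L F) (hG : EtAcyc.IsLTorsion L G)
    (ξ : EtCoh.H Y ((EtCoh.pull h).obj F) (n + 1))
    (hξ : (EtCoh.HF Y (n + 1)).map ((EtCoh.pull h).map u) ξ ∈ Set.range (EtCore.Hpull h G (n + 1))) :
    ξ ∈ Set.range (EtCore.Hpull h F (n + 1)) := by
  exact Aux.main h L n hc u hF hG ξ hξ

end Groth.Agent.S8536
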