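import Groth.Statements.S0642
import Mathlib
import Groth.Prelude.Def_EtBase
import Groth.Prelude.Def_EtCore
import Groth.Agent.S0631
-- import your own Groth.Agent.* helpers here

set_option autoImplicit false
open CategoryTheory CategoryTheory.Limits AlgebraicGeometry Opposite
universe u
open EtCore

namespace Groth.Agent.S0642

open CategoryTheory CategoryTheory.Limits AlgebraicGeometry Opposite
namespace Aux

set_option backward.isDefEq.respectTransparency false
set_option linter.style.haveILetI false
set_option linter.unusedSectionVars false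

open Abelian

/-- precomposition with the class of an isomorphism is bijective on `Ext` -/
lemma precomp_iso_bijective {C : Type*} [Category C] [Abelian C] [HasExt C] {A B Y : C}
    (a : A ≅ B) (n : ℕ) :
    Function.Bijective (fun e : Ext B Y n => (Ext.mk₀ a.hom).comp e (zero_add n)) := by
  refine Function.bijective_iff_has_inverse.2
    ⟨fun e' => (Ext.mk₀ a.inv).comp e' (zero_add n), ?_, ?_⟩
  · intro e
    change (Ext.mk₀ a.inv).comp ((Ext.mk₀ a.hom).comp e (zero_add n)) (zero_add n) = e
    rw [← Ext.comp_assoc (Ext.mk₀ a.inv) (Ext.mk₀ a.hom) e (zero_add 0) (zero_add n)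
      (by omega), Ext.mk₀_comp_mk₀, Iso.inv_hom_id, Ext.mk₀_id_comp]
  · intro e
    change (Ext.mk₀ a.hom).comp ((Ext.mk₀ a.inv).comp e (zero_add n)) (zero_add n) = e
    rw [← Ext.comp_assoc (Ext.mk₀ a.hom) (Ext.mk₀ a.inv) e (zero_add 0) (zero_add n)
      (by omega), Ext.mk₀_comp_mk₀, Iso.hom_inv_id, Ext.mk₀_id_comp]

variable {X₀ X : Scheme.{u}} (i : X₀ ⟶ X)

/-- the direct image along a universal homeomorphism is an equivalence -/
theorem push_isEquivalence [IsIntegralHom i] [UniversallyInjective i] [Surjective i] :
    (EtCoh.push i).IsEquivalence := by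
  obtain ⟨hfull, hfaith, hess, -⟩ := Groth.Agent.S0631.result i
  haveI := hfull
  haveI := hfaith
  haveI : (EtCoh.push i).EssSurj := ⟨fun G => (hess G).2 (fun y _ => i.surjective y)⟩
  exact {}

theorem main [IsIntegralHom i] [UniversallyInjective i] [Surjective i]
    [PreservesFiniteLimits (EtCoh.pull i)] (F : EtCoh.Ab X) (q : ℕ) :
    Function.Bijective (EtCore.Hpull i F q) := by
  haveI := push_isEquivalence i
  haveI : (EtCoh.pull i).IsEquivalence :=
    (EtCoh.pullPushAdj i).isEquivalence_left_of_isEquivalence_right
  haveI : (EtCoh.pull i).PreservesInjectiveObjects :=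
    Functor.preservesInjectiveObjects_of_adjunction_of_preservesMonomorphisms
      (EtCoh.pull i).asEquivalence.symm.toAdjunction
  have h1 : Function.Bijective ((EtCoh.pull i).mapExtAddHom (EtCoh.const X ℤ) F q) :=
    Functor.mapExt_bijective_of_preservesInjectiveObjects (EtCoh.pull i) _ _ q
  have h2 := precomp_iso_bijective (Y := (EtCoh.pull i).obj F) (EtCore.pullConst i ℤ).symm q
  exact h2.comp h1

end Aux

/-- Let X_0 -> X be integral, universally injective and surjective (a universal homeomorphism). Then for
every abelian sheaf F on the small etale site of X and every q the pullback map from H^q(X, F) to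
H^q(X_0, F|_{X_0}) is bijective. (Exactness of pullback of abelian sheaves, which always holds, is
carried as an instance hypothesis.) -/
theorem result {X₀ X : Scheme.{u}} (i : X₀ ⟶ X) [IsIntegralHom i]
    [UniversallyInjective i] [Surjective i] [PreservesFiniteLimits (EtCoh.pull i)] (F : EtCoh.Ab X) (q : ℕ) :
    Function.Bijective (EtCore.Hpull i F q) := by
  exact Aux.main i F q

end Groth.Agent.S0642
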