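import Groth.Statements.S8525
import Mathlib
import Groth.Agent.Lib.Helper5.Misc.EtStalk

set_option autoImplicit false
universe u
open CategoryTheory CategoryTheory.Limits AlgebraicGeometry Opposite
open EtAcyc

open Groth.Agent.Lib.Helper5

namespace Groth.Agent.S8525

/-- Let L be a set of primes and F an abelian sheaf on the small etale site of a scheme X. Then F is an
L-torsion sheaf if and only if for every geometric point ξ of X every element of the stalk F_ξ is
killed by a positive integer all of whose prime factors lie in L. -/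
theorem result {X : Scheme.{u}} (L : Set ℕ) (F : EtCoh.Ab X) :
    EtAcyc.IsLTorsion L F ↔
      ∀ (Ω : Type u) [Field Ω] [IsSepClosed Ω] (ξ : Spec (CommRingCat.of Ω) ⟶ X)
        (t : (EtCoh.stalk ξ).obj F), ∃ m : ℕ, EtAcyc.PrimesIn L m ∧ m • t = 0 := by
  haveI := EtStalk.pfc.{u}
  constructor
  · intro hF Ω _ _ ξ t
    obtain ⟨U, x, s, rfl⟩ := (Scheme.pointSmallEtale ξ).toPresheafFiber_jointly_surjective
      (P := F.obj) t
    obtain ⟨V, g, m, ⟨v, hv⟩, hm, hms⟩ := hF U s (x.left (default : Spec (CommRingCat.of Ω)))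
    obtain ⟨y, hy, -⟩ := EtStalk.exists_lift_fiber ξ g x v hv
    refine ⟨m, hm, ?_⟩
    have w := ConcreteCategory.congr_hom
      ((Scheme.pointSmallEtale ξ).toPresheafFiber_w g y F.obj) s
    simp only [ConcreteCategory.comp_apply] at w
    have w2 : ((Scheme.pointSmallEtale ξ).toPresheafFiber V y F.obj) (F.obj.map g.op s) =
        ((Scheme.pointSmallEtale ξ).toPresheafFiber U x F.obj) s := by
      refine w.trans ?_
      exact congrArg (fun z => ((Scheme.pointSmallEtale ξ).toPresheafFiber U z F.obj) s) hy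
    have e3 : m • ((Scheme.pointSmallEtale ξ).toPresheafFiber V y F.obj) (F.obj.map g.op s) = 0 :=
      (map_nsmul ((Scheme.pointSmallEtale ξ).toPresheafFiber V y F.obj).hom m _).symm.trans
        ((congrArg _ hms).trans (map_zero _))
    exact (congrArg (fun z => m • z) w2).symm.trans e3
  · intro h U s p
    obtain ⟨x, hx⟩ := Scheme.pointSmallEtaleFiberObjToPreimage_surjective
      (EtStalk.geomPtAt (U.hom p)).ξ (EtStalk.geomPtAt_default _) U ⟨p, rfl⟩
    obtain ⟨m, hm, hmt⟩ := h (EtStalk.geomPtAt (U.hom p)).Ω (EtStalk.geomPtAt (U.hom p)).ξ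
      ((Scheme.pointSmallEtale (EtStalk.geomPtAt (U.hom p)).ξ).toPresheafFiber U x F.obj s)
    have e : (Scheme.pointSmallEtale (EtStalk.geomPtAt (U.hom p)).ξ).toPresheafFiber U x F.obj
        (m • s) =
        (Scheme.pointSmallEtale (EtStalk.geomPtAt (U.hom p)).ξ).toPresheafFiber U x F.obj 0 :=
      (map_nsmul ((Scheme.pointSmallEtale (EtStalk.geomPtAt (U.hom p)).ξ).toPresheafFiber U x
        F.obj).hom m s).trans (hmt.trans (map_zero _).symm)
    obtain ⟨Y, f, y, hy, hf⟩ :=
      ((Scheme.pointSmallEtale (EtStalk.geomPtAt (U.hom p)).ξ).toPresheafFiber_eq_iff' U x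
        _ _).1 e
    refine ⟨Y, f, m, ⟨y.left (default : Spec (CommRingCat.of (EtStalk.geomPtAt (U.hom p)).Ω)), ?_⟩,
      hm, ?_⟩
    · have hx' := congrArg Subtype.val hx
      simp only [Scheme.pointSmallEtaleFiberObjToPreimage_coe] at hx'
      exact (congrArg (fun z => z.left (default :
        Spec (CommRingCat.of (EtStalk.geomPtAt (U.hom p)).Ω))) hy).trans hx'
    · exact (map_nsmul (F.obj.map f.op).hom m s).symm.trans (hf.trans (map_zero _))

end Groth.Agent.S8525
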