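import Groth.Statements.S3513
import Mathlib
import Groth.Statements.S3513
import Groth.Agent.S8525
import Groth.Agent.S0642
import Groth.Agent.S0623
import Groth.Agent.Lib.Helper5.Misc.EtStalkPull
import Groth.Agent.Lib.Helper5.Misc.EtSiteBasic
import Groth.Agent.Lib.Helper9.FE.HpullCompEq
-- import your own Groth.Agent.* helpers here

set_option autoImplicit false
universe u
open CategoryTheory CategoryTheory.Limits AlgebraicGeometry Opposite
open EtAcyc

namespace Groth.Agent.S3513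

open CategoryTheory CategoryTheory.Limits AlgebraicGeometry Opposite
namespace Aux
set_option backward.isDefEq.respectTransparency false
set_option linter.style.haveILetI false
set_option linter.unusedSectionVars false
open Abelian Groth.Agent.Lib.Helper5

attribute [local instance] Groth.Agent.S0623.lexPull

/-- pullbacks of `L`-torsion sheaves are `L`-torsion -/
lemma isLTorsion_pull {X Y : Scheme.{u}} (f : X ⟶ Y) (L : Set ℕ) (F : EtCoh.Ab Y)
    (hF : EtAcyc.IsLTorsion L F) : EtAcyc.IsLTorsion L ((EtCoh.pull f).obj F) := by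
  rw [Groth.Agent.S8525.result] at hF ⊢
  intro Ω _ _ ξ t
  let e := (EtStalkPull.stalkPullIso f ξ).app F
  obtain ⟨m, hm, hmt⟩ := hF Ω (ξ ≫ f) (e.hom t)
  refine ⟨m, hm, ?_⟩
  have h1 : e.hom (m • t) = 0 := (map_nsmul e.hom.hom m t).trans hmt
  have h2 : e.inv (e.hom (m • t)) = m • t := by
    rw [← ConcreteCategory.comp_apply, e.hom_inv_id]; rfl
  rw [← h2, h1]
  exact map_zero e.inv.hom

variable {X Y Z : Scheme.{u}} (g : X ⟶ Y) (h : Y ⟶ Z)

instance (W : Z.Etale) : Etale W.hom := W.prop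

/-- `Y ×_Z W` as an étale `Y`-scheme -/
noncomputable def VW (W : Z.Etale) : Y.Etale := EtSiteBasic.ofEtale (pullback.snd W.hom h)

/-- `X ×_Y (Y ×_Z W) ≅ X ×_Z W` -/
noncomputable def eW (W : Z.Etale) :
    pullback (VW h W).hom g ≅ pullback W.hom (g ≫ h) :=
  pullbackLeftPullbackSndIso W.hom h g

lemma eW_prj (W : Z.Etale) :
    (eW g h W).hom ≫ EtAcyc.prj (g ≫ h) W = EtAcyc.prj g (VW h W) ≫ EtAcyc.prj h W :=
  pullbackLeftPullbackSndIso_hom_fst W.hom h g

theorem key (_L : Set ℕ) (W : Z.Etale) (F : EtCoh.Ab W.left) (q : ℕ) :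
    ∃ (φ₁ : EtCoh.H (pullback (VW h W).hom g)
          ((EtCoh.pull (EtAcyc.prj g (VW h W))).obj ((EtCoh.pull (EtAcyc.prj h W)).obj F)) q →
          EtCoh.H (pullback (VW h W).hom g)
            ((EtCoh.pull (EtAcyc.prj g (VW h W) ≫ EtAcyc.prj h W)).obj F) q)
      (φ₂ : EtCoh.H (pullback W.hom (g ≫ h)) ((EtCoh.pull (EtAcyc.prj (g ≫ h) W)).obj F) q →
          EtCoh.H (pullback (VW h W).hom g)
            ((EtCoh.pull (EtAcyc.prj g (VW h W) ≫ EtAcyc.prj h W)).obj F) q),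
      Function.Bijective φ₁ ∧ Function.Bijective φ₂ ∧
      φ₁ ∘ EtCore.Hpull (EtAcyc.prj g (VW h W)) _ q ∘ EtCore.Hpull (EtAcyc.prj h W) F q =
        φ₂ ∘ EtCore.Hpull (EtAcyc.prj (g ≫ h) W) F q := by
  obtain ⟨φ₁, hφ₁, h1⟩ := H9FE.HpullCompEq.exists_bijective_Hpull_comp
    (EtAcyc.prj g (VW h W)) (EtAcyc.prj h W) rfl F q
  obtain ⟨φ₂, hφ₂, h2⟩ := H9FE.HpullCompEq.exists_bijective_Hpull_comp
    (eW g h W).hom (EtAcyc.prj (g ≫ h) W) (eW_prj g h W) F q
  have hB : Function.Bijective (EtCore.Hpull (eW g h W).hom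
      ((EtCoh.pull (EtAcyc.prj (g ≫ h) W)).obj F) q) :=
    Groth.Agent.S0642.result (eW g h W).hom _ q
  refine ⟨φ₁, φ₂ ∘ EtCore.Hpull (eW g h W).hom _ q, hφ₁, hφ₂.comp hB, ?_⟩
  funext α
  exact (h1 α).symm.trans (h2 α)

section Sets1

variable {X Y Z : Scheme.{u}}

lemma unit_comp_eq (a : X ⟶ Y) (b : Y ⟶ Z) (F : EtDesc.Sh Z) :
    (EtDesc.adjSh (a ≫ b)).unit.app F ≫
      (EtDesc.pushSh (a ≫ b)).map ((EtDesc.pullCompSh a b).hom.app F) =
    ((EtDesc.adjSh b).unit.app F ≫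
      (EtDesc.pushSh b).map ((EtDesc.adjSh a).unit.app ((EtDesc.pullSh b).obj F))) ≫
      (EtDesc.pushCompSh b a).hom.app _ := by
  have h := Adjunction.unit_leftAdjointUniq_hom_app (EtDesc.adjSh (a ≫ b))
    (((EtDesc.adjSh b).comp (EtDesc.adjSh a)).ofNatIsoRight (EtDesc.pushCompSh b a)) F
  refine h.trans ?_
  simp [Adjunction.ofNatIsoRight]

lemma isIso_unit_comp_iff (a : X ⟶ Y) (b : Y ⟶ Z) (F : EtDesc.Sh Z) :
    IsIso ((EtDesc.adjSh (a ≫ b)).unit.app F) ↔
      IsIso ((EtDesc.adjSh b).unit.app F ≫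
        (EtDesc.pushSh b).map ((EtDesc.adjSh a).unit.app ((EtDesc.pullSh b).obj F))) := by
  have h := unit_comp_eq a b F
  constructor
  · intro hi
    have : IsIso (((EtDesc.adjSh b).unit.app F ≫
      (EtDesc.pushSh b).map ((EtDesc.adjSh a).unit.app ((EtDesc.pullSh b).obj F))) ≫
      (EtDesc.pushCompSh b a).hom.app _) := by
      rw [← h]; infer_instance
    exact IsIso.of_isIso_comp_right _ ((EtDesc.pushCompSh b a).hom.app _)
  · intro hi
    have : IsIso ((EtDesc.adjSh (a ≫ b)).unit.app F ≫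
      (EtDesc.pushSh (a ≫ b)).map ((EtDesc.pullCompSh a b).hom.app F)) := by
      rw [h]; infer_instance
    exact IsIso.of_isIso_comp_right _
      ((EtDesc.pushSh (a ≫ b)).map ((EtDesc.pullCompSh a b).hom.app F))

end Sets1

section Sets2

variable {X Y Z : Scheme.{u}}

/-- base change along the identity is the identity -/
noncomputable def bcId (X : Scheme.{u}) : EtCoh.bc (𝟙 X) ≅ 𝟭 X.Etale :=
  NatIso.ofComponents
    (fun V => MorphismProperty.Over.isoMk (asIso (pullback.fst V.hom (𝟙 X)))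
      ((pullback.condition (f := V.hom) (g := 𝟙 X)).trans (Category.comp_id _)))
    (by
      intro V V' k
      apply MorphismProperty.Over.Hom.ext
      change ((EtCoh.bc (𝟙 X)).map k).left ≫ pullback.fst V'.hom (𝟙 X) =
        pullback.fst V.hom (𝟙 X) ≫ k.left
      exact pullback.lift_fst _ _ _)

/-- direct image along the identity -/
noncomputable def pushShId (X : Scheme.{u}) : EtDesc.pushSh (𝟙 X) ≅ 𝟭 (EtDesc.Sh X) :=
  Functor.sheafPushforwardContinuousId' (bcId X) (Type (u + 1)) X.smallEtaleTopology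

/-- transport of direct image along an equality of morphisms -/
noncomputable def pushShCongr {f f' : X ⟶ Y} (h : f = f') : EtDesc.pushSh f ≅ EtDesc.pushSh f' :=
  eqToIso (by rw [h])

/-- direct image along an isomorphism is an equivalence -/
noncomputable def pushShEquiv (e : X ≅ Y) : EtDesc.Sh X ≌ EtDesc.Sh Y :=
  CategoryTheory.Equivalence.mk (EtDesc.pushSh e.hom) (EtDesc.pushSh e.inv)
    ((pushShId X).symm ≪≫ pushShCongr e.hom_inv_id.symm ≪≫ (EtDesc.pushCompSh e.inv e.hom).symm)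
    (EtDesc.pushCompSh e.hom e.inv ≪≫ pushShCongr e.inv_hom_id ≪≫ pushShId Y)

lemma isIso_unit_of_iso (e : X ≅ Y) (G : EtDesc.Sh Y) :
    IsIso ((EtDesc.adjSh e.hom).unit.app G) := by
  haveI : (EtDesc.pushSh e.hom).IsEquivalence :=
    show (pushShEquiv e).functor.IsEquivalence from (pushShEquiv e).isEquivalence_functor
  haveI : (EtDesc.pullSh e.hom).IsEquivalence :=
    (EtDesc.adjSh e.hom).isEquivalence_left_of_isEquivalence_right
  infer_instance

end Sets2

section Main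

variable {X Y Z : Scheme.{u}} (g : X ⟶ Y) (h : Y ⟶ Z)

theorem mainAb (L : Set ℕ) (n : ℕ) (hg : EtAcyc.IsAcyclicN g L n) :
    EtAcyc.IsAcyclicN h L n ↔ EtAcyc.IsAcyclicN (g ≫ h) L n := by
  constructor
  · intro hh W F hF inst
    obtain ⟨hgb, hgi⟩ := hg (VW h W) ((EtCoh.pull (EtAcyc.prj h W)).obj F)
      (isLTorsion_pull _ L F hF)
    obtain ⟨hhb, hhi⟩ := hh W F hF
    refine ⟨fun q hq => ?_, ?_⟩
    · obtain ⟨φ₁, φ₂, b1, b2, e⟩ := key g h L W F q
      have hb : Function.Bijective (φ₂ ∘ EtCore.Hpull (EtAcyc.prj (g ≫ h) W) F q) := by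
        rw [← e]; exact b1.comp ((hgb q hq).comp (hhb q hq))
      exact (Function.Bijective.of_comp_iff' b2 _).1 hb
    · obtain ⟨φ₁, φ₂, b1, b2, e⟩ := key g h L W F (n + 1)
      have hb : Function.Injective (φ₂ ∘ EtCore.Hpull (EtAcyc.prj (g ≫ h) W) F (n + 1)) := by
        rw [← e]; exact b1.injective.comp (hgi.comp hhi)
      exact Function.Injective.of_comp hb
  · intro hgh W F hF inst
    obtain ⟨hgb, hgi⟩ := hg (VW h W) ((EtCoh.pull (EtAcyc.prj h W)).obj F)
      (isLTorsion_pull _ L F hF)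
    obtain ⟨hhb, hhi⟩ := hgh W F hF
    refine ⟨fun q hq => ?_, ?_⟩
    · obtain ⟨φ₁, φ₂, b1, b2, e⟩ := key g h L W F q
      have hb : Function.Bijective ((φ₁ ∘ EtCore.Hpull (EtAcyc.prj g (VW h W)) _ q) ∘
          EtCore.Hpull (EtAcyc.prj h W) F q) := by
        have e' : (φ₁ ∘ EtCore.Hpull (EtAcyc.prj g (VW h W)) _ q) ∘
          EtCore.Hpull (EtAcyc.prj h W) F q = φ₂ ∘ EtCore.Hpull (EtAcyc.prj (g ≫ h) W) F q := e
        rw [e']; exact b2.comp (hhb q hq)
      exact (Function.Bijective.of_comp_iff' (b1.comp (hgb q hq)) _).1 hb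
    · obtain ⟨φ₁, φ₂, b1, b2, e⟩ := key g h L W F (n + 1)
      have hb : Function.Injective ((φ₁ ∘ EtCore.Hpull (EtAcyc.prj g (VW h W)) _ (n + 1)) ∘
          EtCore.Hpull (EtAcyc.prj h W) F (n + 1)) := by
        have e' : (φ₁ ∘ EtCore.Hpull (EtAcyc.prj g (VW h W)) _ (n + 1)) ∘
          EtCore.Hpull (EtAcyc.prj h W) F (n + 1) =
            φ₂ ∘ EtCore.Hpull (EtAcyc.prj (g ≫ h) W) F (n + 1) := e
        rw [e']; exact b2.injective.comp hhi
      exact Function.Injective.of_comp hb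

lemma isIso_comp_map_iff {C D : Type*} [Category C] [Category D] (R : C ⥤ D) {A : D} {B B' : C}
    (f : A ⟶ R.obj B) (u : B ⟶ B') (hu : IsIso u) : IsIso (f ≫ R.map u) ↔ IsIso f := by
  haveI := hu
  exact ⟨fun hi => by haveI := hi; exact IsIso.of_isIso_comp_right f (R.map u),
    fun hi => by haveI := hi; infer_instance⟩

theorem keySets (hg : EtAcyc.IsZeroAcyclic g) (W : Z.Etale) (F : EtDesc.Sh W.left) :
    IsIso ((EtDesc.adjSh (EtAcyc.prj (g ≫ h) W)).unit.app F) ↔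
      IsIso ((EtDesc.adjSh (EtAcyc.prj h W)).unit.app F) := by
  have h1 := isIso_unit_comp_iff (EtAcyc.prj g (VW h W)) (EtAcyc.prj h W) F
  have hV : IsIso ((EtDesc.adjSh (EtAcyc.prj g (VW h W))).unit.app
      ((EtDesc.pullSh (EtAcyc.prj h W)).obj F)) := hg (VW h W) _
  have h1' := h1.trans (isIso_comp_map_iff _ _ _ hV)
  have h2 := isIso_unit_comp_iff (eW g h W).hom (EtAcyc.prj (g ≫ h) W) F
  have hE := isIso_unit_of_iso (eW g h W) ((EtDesc.pullSh (EtAcyc.prj (g ≫ h) W)).obj F)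
  have h2' := h2.trans (isIso_comp_map_iff _ _ _ hE)
  have h3 : IsIso ((EtDesc.adjSh ((eW g h W).hom ≫ EtAcyc.prj (g ≫ h) W)).unit.app F) ↔
      IsIso ((EtDesc.adjSh (EtAcyc.prj g (VW h W) ≫ EtAcyc.prj h W)).unit.app F) := by
    rw [eW_prj]
  exact h2'.symm.trans (h3.trans h1')

theorem main (L : Set ℕ) (n : ℕ) :
    (EtAcyc.IsAcyclicN g L n → (EtAcyc.IsAcyclicN h L n ↔ EtAcyc.IsAcyclicN (g ≫ h) L n)) ∧
      (EtAcyc.IsZeroAcyclic g → (EtAcyc.IsZeroAcyclic h ↔ EtAcyc.IsZeroAcyclic (g ≫ h))) := by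
  refine ⟨mainAb g h L n, fun hg => ⟨fun hh W F => ?_, fun hgh W F => ?_⟩⟩
  · exact (keySets g h hg W F).2 (hh W F)
  · exact (keySets g h hg W F).1 (hgh W F)

end Main

end Aux

/-- Last assertion, abelian and sets cases: let g : X → Y and h : Y → Z be morphisms of schemes, L a set
of primes and n a natural number. If g is n-acyclic for L, then h is n-acyclic for L if and only if
g ≫ h is; if g is 0-acyclic, then h is 0-acyclic if and only if g ≫ h is. -/
theorem result {X Y Z : Scheme.{u}} (g : X ⟶ Y) (h : Y ⟶ Z) (L : Set ℕ) (n : ℕ) :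
    (EtAcyc.IsAcyclicN g L n → (EtAcyc.IsAcyclicN h L n ↔ EtAcyc.IsAcyclicN (g ≫ h) L n)) ∧
      (EtAcyc.IsZeroAcyclic g → (EtAcyc.IsZeroAcyclic h ↔ EtAcyc.IsZeroAcyclic (g ≫ h))) := by
  exact Aux.main g h L n

end Groth.Agent.S3513
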