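import Groth.Statements.S8524
import Mathlib
import Groth.Statements.S8524
import Groth.Agent.S0728
-- import your own Groth.Agent.* helpers here

set_option autoImplicit false
universe u
open CategoryTheory CategoryTheory.Limits AlgebraicGeometry Opposite
open EtAcyc

namespace Groth.Agent.S8524

open CategoryTheory CategoryTheory.Limits AlgebraicGeometry Opposite
namespace Aux
set_option backward.isDefEq.respectTransparency false
set_option linter.style.haveILetI false
set_option linter.unusedSectionVars false

lemma primesIn_prod {ι : Type*} (L : Set ℕ) (T : Finset ι) (m : ι → ℕ)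
    (h : ∀ i ∈ T, EtAcyc.PrimesIn L (m i)) : EtAcyc.PrimesIn L (∏ i ∈ T, m i) := by
  classical
  refine ⟨Finset.prod_pos (fun i hi => (h i hi).1), ?_⟩
  intro p hp hdvd
  obtain ⟨i, hi, hpi⟩ := (Prime.dvd_finsetProd_iff hp.prime _).1 hdvd
  exact (h i hi).2 p hp hpi

theorem main {X : Scheme.{u}} (L : Set ℕ) (F : EtCoh.Ab X)
    (hF : EtAcyc.IsLTorsion L F) (U : X.Etale) [CompactSpace U.left] (s : EtCoh.sect F U) :
    ∃ m : ℕ, EtAcyc.PrimesIn L m ∧ m • s = 0 := by
  classical
  choose V g m hv hm hms using fun x => hF U s x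
  have hopen : ∀ x, IsOpen (Set.range (g x).left) :=
    fun x => (g x).left.isOpenMap.isOpen_range
  obtain ⟨T, hT⟩ := isCompact_univ.elim_finite_subcover (fun x => Set.range (g x).left) hopen
    (by intro x _; exact Set.mem_iUnion.2 ⟨x, hv x⟩)
  refine ⟨∏ x ∈ T, m x, primesIn_prod L T m (fun i _ => hm i), ?_⟩
  refine Groth.Agent.S0728.sect_ext_local F _ _ ?_
  intro v
  obtain ⟨i, hi⟩ := Set.mem_iUnion.1 (hT (Set.mem_univ v))
  obtain ⟨hiT, w, hw⟩ := Set.mem_iUnion.1 hi
  refine ⟨V i, g i, w, hw, ?_⟩
  have e1 : F.obj.map (g i).op ((∏ x ∈ T, m x) • s) = (∏ x ∈ T, m x) • F.obj.map (g i).op s :=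
    map_nsmul (F.obj.map (g i).op).hom _ s
  refine e1.trans ?_
  obtain ⟨c, hc⟩ := Finset.dvd_prod_of_mem m hiT
  rw [hc, mul_comm, mul_smul, hms i, smul_zero]
  exact (map_zero (F.obj.map (g i).op).hom).symm

end Aux

/-- For the small etale site of a scheme and abelian sheaves: let L be a set of primes, F an abelian
L-torsion sheaf on the small etale site of a scheme X, and U an etale X-scheme with quasi-compact
underlying space. Then every section of F over U is killed by some positive integer all of whose
prime factors lie in L. -/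
theorem result {X : Scheme.{u}} (L : Set ℕ) (F : EtCoh.Ab X)
    (hF : EtAcyc.IsLTorsion L F) (U : X.Etale) [CompactSpace U.left] (s : EtCoh.sect F U) :
    ∃ m : ℕ, EtAcyc.PrimesIn L m ∧ m • s = 0 := by
  exact Aux.main L F hF U s

end Groth.Agent.S8524
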