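import Groth.Statements.S0068
import Mathlib
import Groth.Agent.Lib.Helper5.Misc.EtStalkFam
import Groth.Agent.Lib.Helper5.Misc.EtStalkPull
import Groth.Agent.Lib.Helper5.Misc.EtClosedDense
import Groth.Agent.Lib.Helper5.Misc.AlmostCocont2
import Groth.Agent.Lib.Helper5.Misc.EtSiteBasic
import Groth.Agent.S0069

set_option autoImplicit false
open CategoryTheory CategoryTheory.Limits AlgebraicGeometry Opposite
universe u
open EtBase

open Groth.Agent.Lib.Helper5

namespace Groth.Agent.S0068

/-- Sections of an abelian étale sheaf over an empty scheme vanish. -/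
lemma isZero_sections_of_isEmpty {Z : Scheme.{u}} (G : EtCoh.Ab Z) (W : Z.Etale)
    [IsEmpty W.left] : IsZero (G.obj.obj (op W)) :=
  (isZero_zero AddCommGrpCat).of_iso
    ((Sheaf.isTerminalOfBotCover G _ (AlmostCocont2.bot_mem_of_isEmpty _)).uniqueUpToIso
      (isZero_zero _).isTerminal)

set_option backward.isDefEq.respectTransparency.types false in
/-- If the sections of `F` vanish over all étale schemes landing in the open `W`, the stalks of
`F` at geometric points of `W` vanish. -/
lemma isZero_stalk_of_vanishing {X : Scheme.{u}} (F : EtCoh.Ab X) (W : X.Opens)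
    (hF : ∀ V : X.Etale, Set.range V.hom.base ⊆ (W : Set X) → IsZero (F.obj.obj (op V)))
    {Ω : Type u} [Field Ω] [IsSepClosed Ω] (ξ : Spec (CommRingCat.of Ω) ⟶ X)
    (hξ : ξ (default : Spec (CommRingCat.of Ω)) ∈ W) :
    IsZero ((EtCoh.stalk ξ).obj F) := by
  haveI := EtStalk.pfc.{u}
  suffices h : ∀ t : (EtCoh.stalk ξ).obj F, t = 0 by
    haveI : Subsingleton ((EtCoh.stalk ξ).obj F) := ⟨fun a b => (h a).trans (h b).symm⟩
    exact AddCommGrpCat.isZero_of_subsingleton _
  intro t
  obtain ⟨V, x, s, rfl⟩ := (Scheme.pointSmallEtale ξ).toPresheafFiber_jointly_surjective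
    (P := F.obj) t
  let O : V.left.Opens := V.hom ⁻¹ᵁ W
  haveI : Etale V.hom := V.prop
  let V' : X.Etale := EtSiteBasic.ofEtale (O.ι ≫ V.hom)
  let g : V' ⟶ V := MorphismProperty.Over.homMk O.ι rfl trivial
  have hmem : x.left (default : Spec (CommRingCat.of Ω)) ∈ O := by
    change V.hom (x.left (default : Spec (CommRingCat.of Ω))) ∈ W
    have e : x.left ≫ V.hom = ξ := Over.w x
    have e2 : V.hom (x.left (default : Spec (CommRingCat.of Ω))) = ξ default :=
      congrArg (fun f : Spec (CommRingCat.of Ω) ⟶ X => f default) e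
    rw [e2]
    exact hξ
  obtain ⟨y, hy, -⟩ := EtStalk.exists_lift_fiber ξ g x
    ⟨x.left (default : Spec (CommRingCat.of Ω)), hmem⟩ rfl
  have w := ConcreteCategory.congr_hom
    ((Scheme.pointSmallEtale ξ).toPresheafFiber_w g y F.obj) s
  simp only [ConcreteCategory.comp_apply] at w
  have w2 : ((Scheme.pointSmallEtale ξ).toPresheafFiber V' y F.obj) (F.obj.map g.op s) =
      ((Scheme.pointSmallEtale ξ).toPresheafFiber V x F.obj) s := by
    refine w.trans ?_
    exact congrArg (fun z => ((Scheme.pointSmallEtale ξ).toPresheafFiber V z F.obj) s) hy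
  have hV' : IsZero (F.obj.obj (op V')) := by
    apply hF
    rintro _ ⟨a, rfl⟩
    change (O.ι ≫ V.hom) a ∈ W
    have m : O.ι a ∈ Set.range O.ι := ⟨_, rfl⟩
    rw [Scheme.Opens.range_ι] at m
    exact m
  have hz : F.obj.map g.op s = 0 :=
    @Subsingleton.elim _ (AddCommGrpCat.subsingleton_of_isZero hV') _ _
  refine w2.symm.trans ?_
  exact (congrArg _ hz).trans (map_zero _)

end Groth.Agent.S0068

namespace Groth.Agent.S0068

/-- Part (2), second half — an abelian étale sheaf is a pushforward from a closed subscheme exactly when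
its sections vanish over every étale scheme mapping into the open complement. -/
theorem result {Z X : Scheme.{u}} (i : Z ⟶ X) [IsClosedImmersion i] [EtCoh.BCCont i]
    (F : EtCoh.Ab X) :
    (EtCoh.push i).essImage F ↔
      ∀ U : X.Etale, Disjoint (Set.range U.hom.base) (Set.range i.base) → IsZero (F.obj.obj (op U)) := by
  constructor
  · rintro ⟨G, ⟨e⟩⟩ U hU
    haveI : IsEmpty ((EtCoh.bc i).obj U).left := by
      refine ⟨fun z => ?_⟩
      have c : pullback.fst U.hom i ≫ U.hom = pullback.snd U.hom i ≫ i := pullback.condition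
      have c1 : U.hom (pullback.fst U.hom i z) = i (pullback.snd U.hom i z) := by
        rw [← Scheme.Hom.comp_apply, ← Scheme.Hom.comp_apply, c]
      exact Set.disjoint_left.1 hU ⟨_, rfl⟩ ⟨_, c1.symm⟩
    have h1 : IsZero (((EtCoh.push i).obj G).obj.obj (op U)) :=
      isZero_sections_of_isEmpty G ((EtCoh.bc i).obj U)
    exact h1.of_iso (((sheafToPresheaf _ _).mapIso e).app (op U)).symm
  · intro hF
    haveI : (EtCoh.push i).Full := EtClosedDense.full_pushA i AddCommGrpCat.{u + 1}
    haveI : (EtCoh.push i).Faithful := EtClosedDense.faithful_pushA i AddCommGrpCat.{u + 1}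
    haveI : IsIso (EtCoh.pullPushAdj i).counit := inferInstance
    let W : X.Opens := ⟨(Set.range i.base)ᶜ, i.isClosedEmbedding.isClosed_range.isOpen_compl⟩
    have hFW : ∀ V : X.Etale, Set.range V.hom.base ⊆ (W : Set X) →
        IsZero (F.obj.obj (op V)) := by
      intro V hV
      apply hF
      rw [Set.disjoint_left]
      intro a ha hb
      exact hV ha hb
    suffices hη : IsIso ((EtCoh.pullPushAdj i).unit.app F) from
      ⟨(EtCoh.pull i).obj F, ⟨(asIso ((EtCoh.pullPushAdj i).unit.app F)).symm⟩⟩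
    let P : (↥W ⊕ ↥Z) → EtStalk.GeomPt X := fun s => Sum.elim
      (fun p : ↥W => ⟨(EtStalk.geomPtAt (X := W.toScheme) p).Ω,
        (EtStalk.geomPtAt (X := W.toScheme) p).ξ ≫ W.ι⟩)
      (fun z : ↥Z => ⟨(EtStalk.geomPtAt z).Ω, (EtStalk.geomPtAt z).ξ ≫ i⟩) s
    have hcov : ∀ x : X, ∃ s, (P s).ξ (default : Spec (CommRingCat.of (P s).Ω)) = x := by
      intro x
      by_cases hx : x ∈ Set.range i.base
      · obtain ⟨z, rfl⟩ := hx
        refine ⟨Sum.inr z, ?_⟩
        change i ((EtStalk.geomPtAt z).ξ default) = i z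
        rw [EtStalk.geomPtAt_default]
      · refine ⟨Sum.inl ⟨x, hx⟩, ?_⟩
        change W.ι ((EtStalk.geomPtAt (X := W.toScheme) ⟨x, hx⟩).ξ default) = x
        rw [EtStalk.geomPtAt_default]
        rfl
    apply EtStalkFam.isIso_of_stalks P hcov
    rintro (p | z)
    · have hmem : ((EtStalk.geomPtAt (X := W.toScheme) p).ξ ≫ W.ι)
          (default : Spec (CommRingCat.of (EtStalk.geomPtAt (X := W.toScheme) p).Ω)) ∈ W := by
        change W.ι ((EtStalk.geomPtAt (X := W.toScheme) p).ξ default) ∈ W
        have m : W.ι ((EtStalk.geomPtAt (X := W.toScheme) p).ξ default) ∈ Set.range W.ι :=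
          ⟨_, rfl⟩
        rw [Scheme.Opens.range_ι] at m
        exact m
      have z1 : IsZero ((EtCoh.stalk ((EtStalk.geomPtAt (X := W.toScheme) p).ξ ≫ W.ι)).obj F) :=
        isZero_stalk_of_vanishing F W hFW _ hmem
      have z2 : IsZero ((EtCoh.stalk ((EtStalk.geomPtAt (X := W.toScheme) p).ξ ≫ W.ι)).obj
          ((EtCoh.push i).obj ((EtCoh.pull i).obj F))) := by
        apply Groth.Agent.S0069.result i ((EtCoh.pull i).obj F)
        rw [Set.disjoint_left]
        rintro _ ⟨a, rfl⟩ hb
        rw [Subsingleton.elim a default] at hb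
        exact hmem hb
      exact isIso_of_source_target_iso_zero _ z1.isoZero z2.isoZero
    · have tri := (EtCoh.pullPushAdj i).left_triangle_components F
      have h1 : IsIso ((EtCoh.pull i).map ((EtCoh.pullPushAdj i).unit.app F)) := by
        haveI : IsIso ((EtCoh.pull i).map ((EtCoh.pullPushAdj i).unit.app F) ≫
            (EtCoh.pullPushAdj i).counit.app ((EtCoh.pull i).obj F)) := by
          rw [tri]
          exact IsIso.id _
        exact IsIso.of_isIso_comp_right _ ((EtCoh.pullPushAdj i).counit.app ((EtCoh.pull i).obj F))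
      have h3 : IsIso ((EtCoh.pull i ⋙ EtCoh.stalk (EtStalk.geomPtAt z).ξ).map
          ((EtCoh.pullPushAdj i).unit.app F)) := by
        rw [Functor.comp_map]
        infer_instance
      exact (NatIso.isIso_map_iff (EtStalkPull.stalkPullIso i (EtStalk.geomPtAt z).ξ) _).1 h3

end Groth.Agent.S0068
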