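import Groth.Statements.S6643
import Mathlib
import Groth.Prelude.Def_EtBase
import Groth.Prelude.Def_EtMod2
import Groth.Prelude.Def_EtModD2
import Groth.Agent.Lib.Helper9.FE.ConstUnit
import Groth.Agent.Lib.Helper9.FE.ModConstSiteOver
import Groth.Agent.S6647
import Groth.Agent.S6645
import Groth.Agent.S6646
-- import your own Groth.Agent.* helpers here

set_option autoImplicit false
open CategoryTheory CategoryTheory.Limits AlgebraicGeometry Opposite
universe u
open EtModW

namespace Groth.Agent.S6643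

open CategoryTheory CategoryTheory.Limits AlgebraicGeometry Opposite
open CategoryTheory CategoryTheory.Limits AlgebraicGeometry Opposite
namespace Aux
set_option backward.isDefEq.respectTransparency false
set_option linter.style.haveILetI false
set_option linter.unusedSectionVars false
open H9FE H9FE.ConstUnit H9FE.ModConstSite Groth.Agent.S14453.Aux Groth.Agent.S6647.Aux
open MonoidalCategory

variable (Λ : Type (u + 1)) [CommRing Λ]

/-- tensor of sheafification units is a local isomorphism -/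
theorem W_tensorHom_toSheafify {X : Scheme.{u}} (W : X.Etale)
    (P Q : (Over W)ᵒᵖ ⥤ ModuleCat.{u + 1} Λ) :
    (X.smallEtaleTopology.over W).W
      (toSheafify (X.smallEtaleTopology.over W) P ⊗ₘ toSheafify (X.smallEtaleTopology.over W) Q) := by
  rw [MonoidalCategory.tensorHom_def]
  refine (X.smallEtaleTopology.over W).W.comp_mem _ _ ?_ ?_
  · exact ((X.smallEtaleTopology.over W).W_toSheafify P).whiskerRight Q
  · exact ((X.smallEtaleTopology.over W).W_toSheafify Q).whiskerLeft _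

theorem tensor_const {X : Scheme.{u}} (W : X.Etale) (F G : EtModW.Mod Λ X)
    {M N : ModuleCat.{u + 1} Λ}
    (α : EtModW.restr Λ F W ≅ (constantSheaf (X.smallEtaleTopology.over W)
      (ModuleCat.{u + 1} Λ)).obj M)
    (β : EtModW.restr Λ G W ≅ (constantSheaf (X.smallEtaleTopology.over W)
      (ModuleCat.{u + 1} Λ)).obj N) :
    Nonempty (EtModW.restr Λ (((EtModD.tensorBi Λ X).obj F).obj G) W ≅
      (constantSheaf (X.smallEtaleTopology.over W) (ModuleCat.{u + 1} Λ)).obj (M ⊗ N)) := by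
  let J := X.smallEtaleTopology
  let K := J.over W
  let A := ModuleCat.{u + 1} Λ
  let Gf : Over W ⥤ X.Etale := Over.forget W
  let sh := presheafToSheaf K A
  -- step a
  let e1 : EtModW.restr Λ (((EtModD.tensorBi Λ X).obj F).obj G) W ≅
      sh.obj (Gf.op ⋙ (F.obj ⊗ G.obj)) :=
    ((Gf.pushforwardContinuousSheafificationCompatibility A K J).app (F.obj ⊗ G.obj)).symm
  -- step b
  let e2 : Gf.op ⋙ (F.obj ⊗ G.obj) ≅ (Gf.op ⋙ F.obj) ⊗ (Gf.op ⋙ G.obj) :=
    NatIso.ofComponents (fun _ => Iso.refl _) (by intros; simp)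
  -- step c
  let α' : Gf.op ⋙ F.obj ≅ (cS K M).obj := (sheafToPresheaf K A).mapIso α
  let β' : Gf.op ⋙ G.obj ≅ (cS K N).obj := (sheafToPresheaf K A).mapIso β
  let e3 : (Gf.op ⋙ F.obj) ⊗ (Gf.op ⋙ G.obj) ≅ (cS K M).obj ⊗ (cS K N).obj := α' ⊗ᵢ β'
  -- step d
  have hW := W_tensorHom_toSheafify Λ W (cP M) (cP N)
  haveI : IsIso (sh.map (toSheafify K (cP M) ⊗ₘ toSheafify K (cP N))) :=
    (GrothendieckTopology.W_iff K _).1 hW
  let e4 : sh.obj (cP M ⊗ cP N) ≅ sh.obj ((cS K M).obj ⊗ (cS K N).obj) :=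
    asIso (sh.map (toSheafify K (cP M) ⊗ₘ toSheafify K (cP N)))
  -- step e
  let e5 : (cP M ⊗ cP N : (Over W)ᵒᵖ ⥤ A) ≅ cP (M ⊗ N) :=
    NatIso.ofComponents (fun _ => Iso.refl _) (by intros; simp)
  exact ⟨e1 ≪≫ sh.mapIso e2 ≪≫ sh.mapIso e3 ≪≫ e4.symm ≪≫ sh.mapIso e5⟩

theorem main {X : Scheme.{u}} (F G : EtModW.Mod Λ X)
    (hF : EtModW.IsFTLocConst Λ F) (hG : EtModW.IsFTLocConst Λ G) :
    EtModW.IsFTLocConst Λ (((EtModD.tensorBi Λ X).obj F).obj G) := by
  classical
  let J := X.smallEtaleTopology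
  obtain ⟨ι₁, U₁, hU₁, hα⟩ := hF
  obtain ⟨ι₂, U₂, hU₂, hβ⟩ := hG
  choose M₁ iM₁ mM₁ fM₁ α₁ using hα
  choose N₂ iN₂ mN₂ fN₂ β₂ using hβ
  obtain ⟨ι, U, hU, hQ⟩ := Groth.Agent.S6645.Aux.cover_of_sieves U₁ U₂ hU₁ hU₂
    (fun W => Groth.Agent.S6646.Aux.FTConst Λ (((EtModD.tensorBi Λ X).obj F).obj G) W) (by
    intro i j
    letI := iM₁ i
    letI := iN₂ j
    letI := mM₁ i
    letI := mN₂ j
    haveI := fM₁ i
    haveI := fN₂ j
    let P := prodObj X (toTop (U₁ i)) (toTop (U₂ j))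
    let αP := restrictIso.{u+1, u, u+1} J (prodFst X (toTop (U₁ i)) (toTop (U₂ j))) (α₁ i).some
    let βP := restrictIso.{u+1, u, u+1} J (prodSnd X (toTop (U₁ i)) (toTop (U₂ j))) (β₂ j).some
    refine ⟨⊤, J.top_mem _, ?_⟩
    intro W g _
    obtain ⟨θ⟩ := tensor_const Λ W F G (restrictIso.{u+1, u, u+1} J g αP)
      (restrictIso.{u+1, u, u+1} J g βP)
    refine ⟨_, ?_, ⟨θ⟩⟩
    exact inferInstanceAs (Module.Finite Λ (TensorProduct Λ (M₁ i) (N₂ j))))
  exact Groth.Agent.S6646.Aux.ftlc_of_ftConst Λ _ U hU hQ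

end Aux

/-- On the small etale site of a scheme X, the tensor product over Λ of two finite type locally constant
sheaves of Λ-modules is finite type locally constant. (The published statement covers all locally
constant sheaves of Λ-modules; this row treats the finite type ones.) -/
theorem result (Λ : Type (u + 1)) [CommRing Λ] {X : Scheme.{u}} (F G : EtModW.Mod Λ X)
    (hF : EtModW.IsFTLocConst Λ F) (hG : EtModW.IsFTLocConst Λ G) :
    EtModW.IsFTLocConst Λ (((EtModD.tensorBi Λ X).obj F).obj G) := by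
  exact Aux.main Λ F G hF hG

end Groth.Agent.S6643
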