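import Groth.Statements.S13842
import Mathlib
import Groth.Prelude.Def_EtCore
import Groth.Agent.Lib.Helper9.FE.FEtTraceCoh
import Groth.Agent.Lib.Helper9.FE.FieldFibreCard
-- import your own Groth.Agent.* helpers here

set_option autoImplicit false
universe u
open CategoryTheory CategoryTheory.Limits AlgebraicGeometry
open GalCoh

namespace Groth.Agent.S13842

open CategoryTheory CategoryTheory.Limits AlgebraicGeometry Opposite
namespace Aux
set_option backward.isDefEq.respectTransparency false
set_option linter.style.haveILetI false
set_option linter.unusedSectionVars false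

open H9FE.FEtTraceCoh H9FE.FieldFibreCard TensorProduct

variable (K : Type u) [Field K] (L : Type u) [Field L] [Algebra K L] [FiniteDimensional K L]
  [Algebra.IsSeparable K L]

instance isFinite_specMap : IsFinite (Spec.map (CommRingCat.ofHom (algebraMap K L))) :=
  (IsFinite.SpecMap_iff _).2 (RingHom.finite_algebraMap.2 inferInstance)

instance etale_specMap : Etale (Spec.map (CommRingCat.ofHom (algebraMap K L))) :=
  (HasRingHomProperty.Spec_iff (P := @Etale)).2
    (RingHom.etale_algebraMap.2 (etale_of_separable K L))

theorem card_fibre (Ω : Type u) [Field Ω] [IsSepClosed Ω]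
    (ξ : Spec (CommRingCat.of Ω) ⟶ Spec (CommRingCat.of K)) :
    Nat.card ↥(pullback (Spec.map (CommRingCat.ofHom (algebraMap K L))) ξ) =
      Module.finrank K L := by
  let φ : CommRingCat.of K ⟶ CommRingCat.of Ω := Spec.preimage ξ
  have hφ : Spec.map φ = ξ := Spec.map_preimage ξ
  letI : Algebra K Ω := φ.hom.toAlgebra
  have hφ' : CommRingCat.ofHom (algebraMap K Ω) = φ := rfl
  rw [← hφ, ← hφ']
  rw [Nat.card_congr (Scheme.homeoOfIso (pullbackSpecIso K L Ω)).toEquiv]
  exact card_primeSpectrum K L Ω

theorem main (F : EtCoh.Ab (Spec (CommRingCat.of K))) (i : ℕ)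
    (α : EtCoh.H (Spec (CommRingCat.of K)) F i)
    [PreservesFiniteLimits (EtCoh.pull (Spec.map (CommRingCat.ofHom (algebraMap K L))))]
    (hα : EtCore.Hpull (Spec.map (CommRingCat.ofHom (algebraMap K L))) F i α = 0) :
    Module.finrank K L • α = 0 :=
  nsmul_eq_zero_of_Hpull_eq_zero _ _ (fun Ω _ _ ξ => card_fibre K L Ω ξ) F i α hα

end Aux

/-- Let K be a field, F an abelian sheaf on the small étale site of Spec K, i > 0 and α a class in
H^i(Spec K, F). If L is a finite separable field extension of K such that α pulls back to zero in
H^i(Spec L, F|_{Spec L}), then [L : K] · α = 0. In particular the order of α (its period) divides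
the greatest common divisor of the degrees of the finite separable extensions of K killing α (its
index). (Exactness of pullback of abelian sheaves, which always holds, is carried as an instance
hypothesis.) -/
theorem result (K : Type u) [Field K] (F : EtCoh.Ab (Spec (CommRingCat.of K))) (i : ℕ) (hi : 0 < i)
    (α : EtCoh.H (Spec (CommRingCat.of K)) F i) (L : Type u) [Field L] [Algebra K L] [FiniteDimensional K L]
    [Algebra.IsSeparable K L] [PreservesFiniteLimits (EtCoh.pull (Spec.map (CommRingCat.ofHom (algebraMap K L))))]
    (hα : EtCore.Hpull (Spec.map (CommRingCat.ofHom (algebraMap K L))) F i α = 0) :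
    Module.finrank K L • α = 0 := by
  exact Aux.main K L F i α hα

end Groth.Agent.S13842
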