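import Groth.Statements.S14452
import Mathlib
import Groth.Prelude.Def_EtBase
import Groth.Prelude.Def_EtCore
import Groth.Agent.Lib.Helper3.EtMV3
import Groth.Agent.Lib.Helper9.FE.CechCartanG
-- import your own Groth.Agent.* helpers here

set_option autoImplicit false
universe u
open CategoryTheory CategoryTheory.Limits AlgebraicGeometry Opposite
open EtCore

namespace Groth.Agent.S14452

open CategoryTheory CategoryTheory.Limits AlgebraicGeometry Opposite Abelian
open EtCore
namespace Aux
set_option backward.isDefEq.respectTransparency false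
set_option linter.style.haveILetI false
set_option linter.unusedSectionVars false

open Groth.Agent.Helper3.EtMV1 Groth.Agent.Helper3.EtMV2 Groth.Agent.Helper3.EtMV3

variable {X : Scheme.{u}}

section Theta

variable (W : X.Etale)

instance etaleHom : Etale W.hom := W.prop

/-- the canonical map `W ⟶ (W.left → W.left → X)` -/
noncomputable def eW : W ⟶ (EtShriek.compEtale W.hom).obj (EtCoh.top W.left) :=
  MorphismProperty.Over.homMk (𝟙 W.left) (by
    change 𝟙 _ ≫ (𝟙 _ ≫ W.hom) = W.hom
    rw [Category.id_comp, Category.id_comp])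

noncomputable def eWinv : (EtShriek.compEtale W.hom).obj (EtCoh.top W.left) ⟶ W :=
  MorphismProperty.Over.homMk (𝟙 W.left) (by
    change 𝟙 _ ≫ W.hom = (𝟙 _ ≫ W.hom)
    rfl)

lemma eW_eWinv : eW W ≫ eWinv W = 𝟙 _ := by
  apply MorphismProperty.Over.Hom.ext
  change 𝟙 W.left ≫ 𝟙 W.left = 𝟙 W.left
  rw [Category.id_comp]

lemma eWinv_eW : eWinv W ≫ eW W = 𝟙 _ := by
  apply MorphismProperty.Over.Hom.ext
  change 𝟙 W.left ≫ 𝟙 W.left = 𝟙 W.left
  rw [Category.id_comp]

/-- sections of the inverse image over the whole of `W.left` to sections of `G` over `W` -/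
noncomputable def θhom (G : EtCoh.Ab X) :
    ((EtCoh.pull W.hom).obj G).obj.obj (op (EtCoh.top W.left)) ⟶ G.obj.obj (op W) :=
  ((Groth.Agent.S0623.pullIso W.hom).hom.app G).hom.app (op (EtCoh.top W.left)) ≫
    G.obj.map (eW W).op

lemma θhom_bijective (G : EtCoh.Ab X) : Function.Bijective (θhom W G).hom := by
  haveI h1 : IsIso (((Groth.Agent.S0623.pullIso W.hom).hom.app G).hom.app
      (op (EtCoh.top W.left))) := by
    have : IsIso ((Groth.Agent.S0623.pullIso W.hom).hom.app G) := inferInstance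
    exact inferInstanceAs (IsIso (((sheafToPresheaf _ _).map
      ((Groth.Agent.S0623.pullIso W.hom).hom.app G)).app (op (EtCoh.top W.left))))
  haveI h2 : IsIso (G.obj.map (eW W).op) := by
    refine ⟨G.obj.map (eWinv W).op, ?_, ?_⟩
    · rw [← Functor.map_comp, ← op_comp, eWinv_eW, op_id, G.obj.map_id]
    · rw [← Functor.map_comp, ← op_comp, eW_eWinv, op_id, G.obj.map_id]
  have : IsIso (θhom W G) := by
    unfold θhom
    infer_instance
  exact ConcreteCategory.bijective_of_isIso _

lemma θhom_naturality {G G' : EtCoh.Ab X} (ψ : G ⟶ G') :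
    ((EtCoh.pull W.hom).map ψ).hom.app (op (EtCoh.top W.left)) ≫ θhom W G' =
      θhom W G ≫ ψ.hom.app (op W) := by
  have h1 := congrArg (fun k => k.hom.app (op (EtCoh.top W.left)))
    ((Groth.Agent.S0623.pullIso W.hom).hom.naturality ψ)
  have h2 := ψ.hom.naturality (eW W).op
  unfold θhom
  rw [Category.assoc, h2, ← Category.assoc, ← Category.assoc]
  congr 1

/-- degree zero cohomology of `W.left` with coefficients in the inverse image, as sections over `W` -/
noncomputable def θ (G : EtCoh.Ab X) :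
    Ext (EtCoh.const W.left ℤ) ((EtCoh.pull W.hom).obj G) 0 → G.obj.obj (op W) :=
  fun x => (θhom W G).hom (ev W.left _ x)

lemma θ_surjective (G : EtCoh.Ab X) : Function.Surjective (θ W G) :=
  (θhom_bijective W G).2.comp (ev W.left _).surjective

lemma θ_naturality {G G' : EtCoh.Ab X} (ψ : G ⟶ G')
    (x : Ext (EtCoh.const W.left ℤ) ((EtCoh.pull W.hom).obj G) 0) :
    θ W G' (x.comp (Ext.mk₀ ((EtCoh.pull W.hom).map ψ)) (add_zero 0)) =
      (ψ.hom.app (op W)).hom (θ W G x) := by
  unfold θ
  rw [ev_naturality]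
  exact ConcreteCategory.congr_hom (θhom_naturality W ψ) _

/-- if `H¹(W, F|_W) = 0` then sections over `W` of a short exact sequence starting at `F` are
right exact -/
lemma surj_sections {S : ShortComplex (EtCoh.Ab X)} (hS : S.ShortExact)
    (h1 : Subsingleton (EtCoh.H W.left ((EtCoh.pull W.hom).obj S.X₁) 1)) :
    Function.Surjective (S.g.hom.app (op W)).hom := by
  intro q
  have hS' : (S.map (EtCoh.pull W.hom)).ShortExact := hS.map_of_exact (EtCoh.pull W.hom)
  obtain ⟨x₃, hx₃⟩ := θ_surjective W S.X₃ q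
  obtain ⟨x₂, hx₂⟩ := Ext.covariant_sequence_exact₃ (EtCoh.const W.left ℤ) hS' x₃
    (rfl : 0 + 1 = 1) (h1.elim _ _)
  refine ⟨θ W S.X₂ x₂, ?_⟩
  rw [← θ_naturality]
  exact (congrArg (θ W S.X₃) hx₂).trans hx₃

end Theta

section GlueAbs
universe v₁ u₁ w
variable {C : Type u₁} [Category.{v₁} C] {J : GrothendieckTopology C}
  (I : Sheaf J AddCommGrpCat.{w}) {A B₁ B₂ C' : C} (f₁ : B₁ ⟶ A) (f₂ : B₂ ⟶ A) (m : C' ⟶ B₂)
  (hcov : Sieve.ofTwoArrows f₁ f₂ ∈ J A)

include hcov in
/-- gluing a section over `B₂` vanishing on `C'` with the zero section over `B₁` -/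
lemma glue' [Mono f₁] [Mono f₂]
    (hfac : ∀ (T : C) (p : T ⟶ B₁) (q : T ⟶ B₂), p ≫ f₁ = q ≫ f₂ → ∃ q' : T ⟶ C', q' ≫ m = q)
    (b : I.obj.obj (op B₂)) (hb : (I.obj.map m.op).hom b = 0) :
    ∃ a : I.obj.obj (op A), (I.obj.map f₁.op).hom a = 0 ∧ (I.obj.map f₂.op).hom a = b := by
  let K : AddSubgroup (I.obj.obj (op B₂)) := (I.obj.map m.op).hom.ker
  let x₂ : AddCommGrpCat.of K ⟶ I.obj.obj (op B₂) := AddCommGrpCat.ofHom K.subtype
  have hx₂ : x₂ ≫ I.obj.map m.op = 0 := by
    ext ⟨c, hc⟩
    exact hc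
  have hq : ∀ (T : C) (p : T ⟶ B₁) (q : T ⟶ B₂), p ≫ f₁ = q ≫ f₂ → x₂ ≫ I.obj.map q.op = 0 := by
    intro T p q hpq
    obtain ⟨q', rfl⟩ := hfac T p q hpq
    rw [op_comp, Functor.map_comp, ← Category.assoc, hx₂, zero_comp]
  let G : AddCommGrpCat.of K ⟶ I.obj.obj (op A) :=
    I.2.amalgamateOfArrows _ hcov
      (fun j => WalkingPair.casesOn j (0 : AddCommGrpCat.of K ⟶ I.obj.obj (op B₁)) x₂)
      (fun T => by
        rintro (_ | _) (_ | _) p q fac
        · change (0 : AddCommGrpCat.of K ⟶ I.obj.obj (op B₁)) ≫ _ = 0 ≫ _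
          rw [zero_comp, zero_comp]
        · change (0 : AddCommGrpCat.of K ⟶ I.obj.obj (op B₁)) ≫ _ = x₂ ≫ _
          rw [zero_comp]
          exact (hq T p q fac).symm
        · change x₂ ≫ _ = (0 : AddCommGrpCat.of K ⟶ I.obj.obj (op B₁)) ≫ _
          rw [zero_comp]
          exact hq T q p fac.symm
        · change x₂ ≫ I.obj.map p.op = x₂ ≫ I.obj.map q.op
          have : p = q := (cancel_mono f₂).1 fac
          rw [this])
  have hG1 : G ≫ I.obj.map f₁.op = 0 :=
    I.2.amalgamateOfArrows_map _ hcov _ _ WalkingPair.left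
  have hG2 : G ≫ I.obj.map f₂.op = x₂ :=
    I.2.amalgamateOfArrows_map _ hcov _ _ WalkingPair.right
  refine ⟨G.hom ⟨b, hb⟩, ?_, ?_⟩
  · exact congrArg (fun k : AddCommGrpCat.of K ⟶ _ => k.hom ⟨b, hb⟩) hG1
  · exact congrArg (fun k : AddCommGrpCat.of K ⟶ _ => k.hom ⟨b, hb⟩) hG2

end GlueAbs

section Glue

variable {U V : X.Etale} (g : V ⟶ U) [IsOpenImmersion g.left]

/-- `U ∪_V U` -/
noncomputable abbrev Wsch : Scheme.{u} := pushout g.left g.left

noncomputable abbrev inl : U.left ⟶ Wsch g := pushout.inl g.left g.left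
noncomputable abbrev inr : U.left ⟶ Wsch g := pushout.inr g.left g.left

instance isOpenImmersion_inl : IsOpenImmersion (inl g) :=
  inferInstanceAs (IsOpenImmersion (colimit.ι (span g.left g.left) WalkingSpan.left))

instance isOpenImmersion_inr : IsOpenImmersion (inr g) :=
  inferInstanceAs (IsOpenImmersion (colimit.ι (span g.left g.left) WalkingSpan.right))

lemma g_w : g.left ≫ U.hom = V.hom := MorphismProperty.Over.w g

noncomputable def wX : Wsch g ⟶ X := pushout.desc U.hom U.hom rfl

lemma inl_wX : inl g ≫ wX g = U.hom := pushout.inl_desc _ _ _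
lemma inr_wX : inr g ≫ wX g = U.hom := pushout.inr_desc _ _ _

lemma ι_zero : colimit.ι (span g.left g.left) WalkingSpan.zero = g.left ≫ inl g :=
  (colimit.w (span g.left g.left) WalkingSpan.Hom.fst).symm

instance etale_wX : Etale (wX g) := by
  rw [IsZariskiLocalAtSource.iff_of_openCover (P := @Etale)
    (Scheme.IsLocallyDirected.openCover (span g.left g.left))]
  intro i
  change Etale (colimit.ι (span g.left g.left) i ≫ wX g)
  rcases i with _ | _ | _
  · change Etale (colimit.ι (span g.left g.left) WalkingSpan.zero ≫ wX g)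
    rw [ι_zero, Category.assoc, inl_wX, g_w]
    exact V.prop
  · change Etale (inl g ≫ wX g)
    rw [inl_wX]
    exact U.prop
  · change Etale (inr g ≫ wX g)
    rw [inr_wX]
    exact U.prop

lemma inl_or_inr (x : Wsch g) : (∃ a, inl g a = x) ∨ (∃ a, inr g a = x) := by
  obtain ⟨i, xi, h⟩ := Scheme.IsLocallyDirected.ι_jointly_surjective (span g.left g.left) x
  rcases i with _ | _ | _
  · left
    refine ⟨g.left xi, ?_⟩
    rw [← h, ← Scheme.Hom.comp_apply, ← ι_zero]
    rfl
  · left
    exact ⟨xi, h⟩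
  · right
    exact ⟨xi, h⟩

omit [IsOpenImmersion g.left] in
lemma no_hom_lr (f : WidePushoutShape.Hom (some WalkingPair.left) (some WalkingPair.right)) :
    False := by cases f

omit [IsOpenImmersion g.left] in
lemma no_hom_rl (f : WidePushoutShape.Hom (some WalkingPair.right) (some WalkingPair.left)) :
    False := by cases f

lemma inl_eq_inr {a b : U.left} (h : inl g a = inr g b) :
    ∃ v : V.left, g.left v = a ∧ g.left v = b := by
  obtain ⟨k, fi, fj, x, h1, h2⟩ := (Scheme.IsLocallyDirected.ι_eq_ι_iff (span g.left g.left)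
    (i := WalkingSpan.left) (j := WalkingSpan.right) (xi := a) (xj := b)).1 h
  rcases k with _ | _ | _
  · have e1 : fi = WalkingSpan.Hom.fst := Subsingleton.elim _ _
    have e2 : fj = WalkingSpan.Hom.snd := Subsingleton.elim _ _
    subst e1 e2
    exact ⟨x, h1, h2⟩
  · exact (no_hom_lr fj).elim
  · exact (no_hom_rl fi).elim

/-- the glued scheme as an object of the small étale site -/
noncomputable def Wet : X.Etale := Scheme.Etale.mk (wX g)

noncomputable def i₁ : U ⟶ Wet g := MorphismProperty.Over.homMk (inl g) (inl_wX g)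
noncomputable def i₂ : U ⟶ Wet g := MorphismProperty.Over.homMk (inr g) (inr_wX g)

lemma g_i₁_eq : g ≫ i₁ g = g ≫ i₂ g := by
  apply MorphismProperty.Over.Hom.ext
  change g.left ≫ inl g = g.left ≫ inr g
  exact pushout.condition

lemma mono_of_left {A B : X.Etale} (f : A ⟶ B) [Mono f.left] : Mono f := by
  have h : Mono ((Scheme.Etale.forget X ⋙ Over.forget X).map f) := by
    change Mono f.left
    infer_instance
  exact (Scheme.Etale.forget X ⋙ Over.forget X).mono_of_mono_map h

instance mono_g : Mono g := mono_of_left g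

instance mono_i₁ : Mono (i₁ g) := by
  haveI : Mono (i₁ g).left := by
    change Mono (inl g)
    infer_instance
  exact mono_of_left _

instance mono_i₂ : Mono (i₂ g) := by
  haveI : Mono (i₂ g).left := by
    change Mono (inr g)
    infer_instance
  exact mono_of_left _

lemma hcov : Sieve.ofTwoArrows (i₂ g) (i₁ g) ∈ X.smallEtaleTopology (Wet g) := by
  have eX : X.smallEtaleTopology =
      (X.smallPretopology (P := EtCoh.etaleMP) (Q := EtCoh.etaleMP)).toGrothendieck :=
    Scheme.smallGrothendieckTopology_eq_toGrothendieck_smallPretopology X le_rfl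
  rw [eX]
  refine (Scheme.mem_toGrothendieck_smallPretopology (Wet g) _).2 ?_
  intro x
  rcases inl_or_inr g x with ⟨a, ha⟩ | ⟨a, ha⟩
  · refine ⟨U, i₁ g, a, Sieve.ofArrows_mk _ _ WalkingPair.right, ?_, ha⟩
    change Etale (inl g)
    infer_instance
  · refine ⟨U, i₂ g, a, Sieve.ofArrows_mk _ _ WalkingPair.left, ?_, ha⟩
    change Etale (inr g)
    infer_instance

lemma hfac (T : X.Etale) (p : T ⟶ U) (q : T ⟶ U) (h : p ≫ i₂ g = q ≫ i₁ g) :
    ∃ q' : T ⟶ V, q' ≫ g = q := by
  have hl : p.left ≫ inr g = q.left ≫ inl g :=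
    congrArg (fun k : T ⟶ Wet g => k.left) h
  have hrange : Set.range q.left ⊆ Set.range g.left := by
    rintro _ ⟨t, rfl⟩
    have h2 : inl g (q.left t) = inr g (p.left t) := by
      rw [← Scheme.Hom.comp_apply, ← Scheme.Hom.comp_apply, hl]
    obtain ⟨v, hv1, _⟩ := inl_eq_inr g h2
    exact ⟨v, hv1⟩
  let r : T.left ⟶ V.left := IsOpenImmersion.lift g.left q.left hrange
  have hr : r ≫ g.left = q.left := IsOpenImmersion.lift_fac _ _ _
  have hw : r ≫ V.hom = T.hom := by
    rw [← g_w g, ← Category.assoc, hr]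
    exact MorphismProperty.Over.w q
  refine ⟨MorphismProperty.Over.homMk r hw, ?_⟩
  apply MorphismProperty.Over.Hom.ext
  exact hr

end Glue

open H9FE.CechCartanG in
theorem main (F : EtCoh.Ab X)
    (hF : ∀ (W : X.Etale) (q : ℕ), 0 < q →
      Subsingleton (EtCoh.H W.left ((EtCoh.pull W.hom).obj F) q))
    {U V : X.Etale} (g : V ⟶ U) [IsOpenImmersion g.left] :
    Function.Surjective (F.obj.map g.op).hom := by
  intro s
  let S : ShortComplex (EtCoh.Ab X) :=
    ShortComplex.mk (Injective.ι F) (cokernel.π (Injective.ι F)) (cokernel.condition _)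
  have hS : S.ShortExact :=
    { exact := ShortComplex.exact_cokernel _
      mono_f := inferInstanceAs (Mono (Injective.ι F))
      epi_g := inferInstanceAs (Epi (cokernel.π (Injective.ι F))) }
  haveI : Injective S.X₂ := inferInstanceAs (Injective (Injective.under F))
  -- extend `ι s` to `U`
  obtain ⟨t, ht⟩ := Groth.Agent.Helper3.EdgeOutIso.surjective_of_injective X.smallEtaleTopology
    S.X₂ g ((S.f.hom.app (op V)).hom s)
  have ht' : (S.X₂.obj.map g.op).hom t = (S.f.hom.app (op V)).hom s := ht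
  have hqV : (S.X₃.obj.map g.op).hom ((S.g.hom.app (op U)).hom t) = 0 := by
    have hn := ConcreteCategory.congr_hom (S.g.hom.naturality g.op) t
    refine hn.symm.trans ?_
    change (S.g.hom.app (op V)).hom ((S.X₂.obj.map g.op).hom t) = 0
    rw [ht']
    exact zero_apply (S := S) V s
  obtain ⟨c, hc2, hc1⟩ := glue' S.X₃ (i₂ g) (i₁ g) g (hcov g) (hfac g) _ hqV
  obtain ⟨d, hd⟩ := surj_sections (Wet g) hS (hF (Wet g) 1 Nat.one_pos) c
  have h1 : (S.g.hom.app (op U)).hom ((S.X₂.obj.map (i₁ g).op).hom d) =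
      (S.g.hom.app (op U)).hom t := by
    have hn := ConcreteCategory.congr_hom (S.g.hom.naturality (i₁ g).op) d
    refine hn.trans ?_
    change (S.X₃.obj.map (i₁ g).op).hom ((S.g.hom.app (op (Wet g))).hom d) = _
    rw [hd, hc1]
  have h2 : (S.g.hom.app (op U)).hom ((S.X₂.obj.map (i₂ g).op).hom d) = 0 := by
    have hn := ConcreteCategory.congr_hom (S.g.hom.naturality (i₂ g).op) d
    refine hn.trans ?_
    change (S.X₃.obj.map (i₂ g).op).hom ((S.g.hom.app (op (Wet g))).hom d) = _
    rw [hd, hc2]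
  obtain ⟨f₂, hf₂⟩ := exact_sections hS U _ h2
  have h3 : (S.g.hom.app (op U)).hom (t - (S.X₂.obj.map (i₁ g).op).hom d) = 0 := by
    rw [map_sub, h1, sub_self]
  obtain ⟨f₁, hf₁⟩ := exact_sections hS U _ h3
  refine ⟨f₁ + f₂, ?_⟩
  have hinj : Function.Injective (S.f.hom.app (op V)).hom := injective_f hS V
  apply hinj
  have hn := ConcreteCategory.congr_hom (S.f.hom.naturality g.op) (f₁ + f₂)
  refine hn.trans ?_
  change (S.X₂.obj.map g.op).hom ((S.f.hom.app (op U)).hom (f₁ + f₂)) = _
  have e12 : (S.X₂.obj.map g.op).hom ((S.X₂.obj.map (i₁ g).op).hom d) =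
      (S.X₂.obj.map g.op).hom ((S.X₂.obj.map (i₂ g).op).hom d) := by
    rw [← ConcreteCategory.comp_apply, ← ConcreteCategory.comp_apply, ← Functor.map_comp,
      ← Functor.map_comp, ← op_comp, ← op_comp, g_i₁_eq]
  rw [map_add, hf₁, hf₂, map_add, map_sub, ht', e12]
  abel

end Aux

/-- Let X be a scheme and F an abelian sheaf on the small étale site of X such that H^q(W, F|_W) = 0 for
every étale X-scheme W and every q > 0 (F|_W the pullback of F along the structure morphism of W).
Then for every morphism g : V ⟶ U of étale X-schemes which is an open immersion, the restriction map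
F(U) → F(V) is surjective. -/
theorem result {X : Scheme.{u}}
    (F : EtCoh.Ab X)
    (hF : ∀ (W : X.Etale) (q : ℕ), 0 < q → Subsingleton (EtCoh.H W.left ((EtCoh.pull W.hom).obj F) q))
    {U V : X.Etale} (g : V ⟶ U) [IsOpenImmersion g.left] :
    Function.Surjective (F.obj.map g.op).hom := by
  exact Aux.main F hF g

end Groth.Agent.S14452
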