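import Groth.Statements.S12583
import Mathlib
import Groth.Prelude.Def_W4bk4goldsch23Ext
import Groth.Prelude.Def_LocRes
import Groth.Agent.Lib.Helper9.FFExt.LocRes2
import Groth.Agent.Lib.Helper9.FFExt.LaurentHasse
-- import your own Groth.Agent.* helpers here

set_option autoImplicit false
universe u v w
open FunFld

namespace Groth.Agent.S12583

open FunFld WithZero
open Groth.Agent.Lib.Helper4.FF Groth.Agent.Helper9.FFExt
namespace Aux

/-- in a geometric function field, `K` is formally unramified over `k[t]` as soon as `dt ≠ 0` -/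
theorem formallyUnramified_of_D_ne_zero {k : Type u} {K : Type v} [Field k] [Field K] [Algebra k K]
    (hK : IsFFw k K) (hg : FunFld.IsGeometric k K) {t : K}
    (ht : KaehlerDifferential.D k K t ≠ 0) :
    Algebra.FormallyUnramified (Algebra.adjoin k ({t} : Set K)) K := by
  constructor
  constructor
  intro a b
  obtain ⟨a', rfl⟩ := KaehlerDifferential.map_surjective k (Algebra.adjoin k ({t} : Set K)) K a
  obtain ⟨b', rfl⟩ := KaehlerDifferential.map_surjective k (Algebra.adjoin k ({t} : Set K)) K b
  have key : ∀ ω : Ω[K⁄k], KaehlerDifferential.map k (Algebra.adjoin k ({t} : Set K)) K K ω = 0 := by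
    intro ω
    obtain ⟨u, rfl⟩ := exists_eq_smul_D_of_ne_zero hK hg ht ω
    rw [map_smul, KaehlerDifferential.map_D]
    have : (algebraMap K K) t = algebraMap (Algebra.adjoin k ({t} : Set K)) K
        ⟨t, Algebra.subset_adjoin (Set.mem_singleton t)⟩ := rfl
    rw [this, Derivation.map_algebraMap, smul_zero]
  rw [key, key]

end Aux

namespace Aux

open LaurentSeries

theorem iInf_span_X_pow {B : Type*} [CommRing B] :
    ⨅ i : ℕ, (Ideal.span {(PowerSeries.X : PowerSeries B)}) ^ i = ⊥ := by
  rw [eq_bot_iff]
  intro f hf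
  rw [Ideal.mem_bot]
  refine PowerSeries.ext fun n => ?_
  have h1 := (Ideal.mem_iInf.mp hf) (n + 1)
  rw [Ideal.span_singleton_pow, Ideal.mem_span_singleton, PowerSeries.X_pow_dvd_iff] at h1
  rw [h1 n (Nat.lt_succ_self n), map_zero]

theorem main (k : Type u) (K : Type v) [Field k] [Field K] [Algebra k K] (hK : FunFld.IsFunctionField k K) (hg : FunFld.IsGeometric k K)
    (P : FunFld.Place k K) (F : Type w) [Field F] [Algebra k F]
    (φ : K →ₐ[k] LaurentSeries F) (hφ : LocRes.IsExpansionAt P.1 φ)
    (t : K) (ht : φ t = HahnSeries.single 1 1)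
    (H : K →ₐ[k] PowerSeries K) (hH : LocRes.IsHasseFamily t H)
    (x : K) (n : ℕ) :
    φ (LocRes.hasseD H n x) = LaurentSeries.hasseDeriv F n (φ x) := by
  -- dt ≠ 0
  have hDX : LocRes.D F (HahnSeries.single (1 : ℤ) (1 : F)) = 1 := by
    rw [LocRes.D_apply, LaurentSeries.derivative_apply, hasseDeriv_single_one]
    simp
  have hDt : KaehlerDifferential.D k K t ≠ 0 := by
    apply D_ne_zero_of_vDiff φ
    rw [vDiff_one, ht, hDX, map_one]
    exact one_ne_zero
  have hU := formallyUnramified_of_D_ne_zero hK.1 hg hDt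
  -- the two homomorphisms
  let Φ₁ : K →+* PowerSeries (LaurentSeries F) :=
    (PowerSeries.map (φ : K →+* LaurentSeries F)).comp (H : K →+* PowerSeries K)
  let Φ₂ : K →+* PowerSeries (LaurentSeries F) := (taylorL F).comp (φ : K →+* LaurentSeries F)
  have hagree : ∀ r ∈ Algebra.adjoin k ({t} : Set K), Φ₁ r = Φ₂ r := by
    intro r hr
    induction hr using Algebra.adjoin_induction with
    | mem y hy =>
      rw [Set.mem_singleton_iff.mp hy]
      change PowerSeries.map (φ : K →+* LaurentSeries F) (H t) = taylorL F (φ t)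
      rw [hH.1, map_add, PowerSeries.map_C, PowerSeries.map_X, RingHom.coe_coe, ht, taylorL_X]
    | algebraMap c =>
      change PowerSeries.map (φ : K →+* LaurentSeries F) (H (algebraMap k K c)) =
        taylorL F (φ (algebraMap k K c))
      rw [H.commutes, LocRes.map_algebraMap, taylorL_C]
      rw [PowerSeries.algebraMap_apply, PowerSeries.map_C, RingHom.coe_coe, LocRes.map_algebraMap]
    | add y z _ _ hy hz => rw [map_add, map_add, hy, hz]
    | mul y z _ _ hy hz => rw [map_mul, map_mul, hy, hz]
  let _ : Algebra (Algebra.adjoin k ({t} : Set K)) (PowerSeries (LaurentSeries F)) :=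
    (Φ₁.comp (algebraMap (Algebra.adjoin k ({t} : Set K)) K)).toAlgebra
  let g₁ : K →ₐ[Algebra.adjoin k ({t} : Set K)] PowerSeries (LaurentSeries F) :=
    { Φ₁ with commutes' := fun r => rfl }
  let g₂ : K →ₐ[Algebra.adjoin k ({t} : Set K)] PowerSeries (LaurentSeries F) :=
    { Φ₂ with commutes' := fun r => (hagree r.1 r.2).symm }
  have heq : g₁ = g₂ := by
    apply Algebra.FormallyUnramified.ext_of_iInf (I := Ideal.span {PowerSeries.X}) iInf_span_X_pow
    intro y
    rw [Ideal.Quotient.eq, Ideal.mem_span_singleton, PowerSeries.X_dvd_iff, map_sub, sub_eq_zero]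
    change PowerSeries.constantCoeff (PowerSeries.map (φ : K →+* LaurentSeries F) (H y)) =
      PowerSeries.constantCoeff (taylorL F (φ y))
    rw [← PowerSeries.coeff_zero_eq_constantCoeff_apply, ← PowerSeries.coeff_zero_eq_constantCoeff_apply,
      PowerSeries.coeff_map, coeff_taylorL, LaurentSeries.hasseDeriv_zero,
      PowerSeries.coeff_zero_eq_constantCoeff_apply, hH.2]
    rfl
  have h1 : Φ₁ x = Φ₂ x := DFunLike.congr_fun heq x
  have h2 := congrArg (PowerSeries.coeff n) h1
  change PowerSeries.coeff n (PowerSeries.map (φ : K →+* LaurentSeries F) (H x)) =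
    PowerSeries.coeff n (taylorL F (φ x)) at h2
  rw [PowerSeries.coeff_map, coeff_taylorL] at h2
  exact h2

end Aux

/-- At a separable place `P` of a geometric function field of one variable `K/k` with local parameter
`t`, if `x ∈ O_P` has expansion `∑ a_m t^m` then the Hasse derivative `D_t^{(n)}(x)` expands as the
series with coefficients `C(m,n) a_m` in degree `m - n`; in particular `D_t^{(n)}(O_P) ⊆ O_P`. Here
`φ` is a Laurent expansion over `k` at `P` with `φ t = X` and `H` is the total Hasse derivative with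
respect to `t`. -/
theorem result (k : Type u) (K : Type v) [Field k] [Field K] [Algebra k K] (hK : FunFld.IsFunctionField k K) (hg : FunFld.IsGeometric k K)
    (P : FunFld.Place k K) (F : Type w) [Field F] [Algebra k F]
    (φ : K →ₐ[k] LaurentSeries F) (hφ : LocRes.IsExpansionAt P.1 φ)
    (t : K) (ht : φ t = HahnSeries.single 1 1)
    (H : K →ₐ[k] PowerSeries K) (hH : LocRes.IsHasseFamily t H)
    (x : K) (hx : P.1 x ≤ 1) (n : ℕ) :
    φ (LocRes.hasseD H n x) = LaurentSeries.hasseDeriv F n (φ x) := by
  exact Aux.main k K hK hg P F φ hφ t ht H hH x n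

end Groth.Agent.S12583
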