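import Groth.Statements.S12519
import Mathlib
import Groth.Prelude.Def_W4bk4goldsch23Ext
import Groth.Agent.Lib.Helper9.FFExt.Deg
import Groth.Agent.Lib.Helper9.FFExt.RatPlace
-- import your own Groth.Agent.* helpers here

set_option autoImplicit false
open FunFld

namespace Groth.Agent.S12519

open FunFld WithZero
open Groth.Agent.Lib.Helper4.FF Groth.Agent.Helper9.FFExt
namespace Aux

section Parity

variable {F K : Type*} [Field F] [Field K] [Algebra F K] (v : Valuation K ℤᵐ⁰)

/-- Artin–Schreier parity: if all nonzero elements of `F` have even valuation, `y² + y = f ∈ F`,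
`v y ≤ 1`, `2 = 0` and `y ∉ F`, then every `γ + y` has even valuation. -/
lemma even_val_aux (hF : ∀ a : F, a ≠ 0 → ∃ n : ℤ, v (algebraMap F K a) = exp (2 * n))
    (y : K) (f : F) (hyf : y ^ 2 + y = algebraMap F K f) (hy1 : v y ≤ 1) (h2 : (2 : K) = 0)
    (hyF : ∀ a : F, algebraMap F K a ≠ y) (γ : F) :
    ∃ n : ℤ, v (algebraMap F K γ + y) = exp (2 * n) := by
  rcases lt_trichotomy (v (algebraMap F K γ + y)) 1 with h | h | h
  · have hplus : v (algebraMap F K γ + y + 1) = 1 := by
      rw [Valuation.map_add_eq_of_lt_right v (by rw [Valuation.map_one]; exact h),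
        Valuation.map_one]
    have hprod : (algebraMap F K γ + y) * (algebraMap F K γ + y + 1)
        = algebraMap F K (γ ^ 2 + γ + f) := by
      rw [map_add, map_add, map_pow, ← hyf]
      linear_combination (algebraMap F K γ * y) * h2
    have hne' : γ ^ 2 + γ + f ≠ 0 := by
      intro h0
      rw [h0, map_zero] at hprod
      rcases mul_eq_zero.mp hprod with h1 | h1
      · exact hyF (-γ) (by rw [map_neg]; linear_combination (-1 : K) * h1)
      · exact hyF (-γ - 1) (by rw [map_sub, map_neg, map_one]; linear_combination (-1 : K) * h1)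
    obtain ⟨l, hl⟩ := hF _ hne'
    exact ⟨l, by rw [← hl, ← hprod, map_mul, hplus, mul_one]⟩
  · exact ⟨0, by rw [h]; simp⟩
  · have hγ : 1 < v (algebraMap F K γ) := by
      by_contra hle
      push Not at hle
      exact absurd (Valuation.map_add_le v hle hy1) (not_le.mpr h)
    have hγ0 : γ ≠ 0 := by
      rintro rfl
      simp at hγ
    obtain ⟨n, hn⟩ := hF γ hγ0
    exact ⟨n, by rw [Valuation.map_add_eq_of_lt_left v (hy1.trans_lt hγ), hn]⟩

lemma even_val (hF : ∀ a : F, a ≠ 0 → ∃ n : ℤ, v (algebraMap F K a) = exp (2 * n))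
    (y : K) (f : F) (hyf : y ^ 2 + y = algebraMap F K f) (hy1 : v y ≤ 1) (h2 : (2 : K) = 0)
    (hyF : ∀ a : F, algebraMap F K a ≠ y) (α β : F)
    (hne : algebraMap F K α + algebraMap F K β * y ≠ 0) :
    ∃ n : ℤ, v (algebraMap F K α + algebraMap F K β * y) = exp (2 * n) := by
  by_cases hβ : β = 0
  · subst hβ
    have hα : α ≠ 0 := by
      rintro rfl
      simp at hne
    simpa using hF α hα
  obtain ⟨m, hm⟩ := hF β hβ
  obtain ⟨l, hl⟩ := even_val_aux v hF y f hyf hy1 h2 hyF (α / β)
  have hβ' : algebraMap F K β ≠ 0 := by simpa using hβ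
  have hfac : algebraMap F K α + algebraMap F K β * y
      = algebraMap F K β * (algebraMap F K (α / β) + y) := by
    rw [map_div₀]; field_simp
  refine ⟨m + l, ?_⟩
  rw [hfac, map_mul, hm, hl, ← exp_add]; ring_nf

end Parity

variable {k K : Type*} [Field k] [Field K] [Algebra k K]
    [Algebra (RatFunc k) K] [IsScalarTower k (RatFunc k) K]

theorem main (h2 : ringChar k = 2) (hdeg : Module.finrank (RatFunc k) K = 2)
    (y : K) (hy : y ∉ Set.range (algebraMap (RatFunc k) K))
    (f : RatFunc k) (heq : y ^ 2 + y = algebraMap (RatFunc k) K f)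
    (P₀ : FunFld.Place k (RatFunc k)) :
    ((P₀.ord f < 0 ∧ Odd (P₀.ord f)) → (∃! P : FunFld.Place k K, FunFld.IsOver P P₀) ∧
      ∀ P : FunFld.Place k K, FunFld.IsOver P P₀ → FunFld.IsOverWith P P₀ 2 ∧ P.deg = P₀.deg) ∧
    (0 ≤ P₀.ord f → ∀ P : FunFld.Place k K, FunFld.IsOver P P₀ → FunFld.IsOverWith P P₀ 1) := by
  classical
  have hfin : FiniteDimensional (RatFunc k) K :=
    Module.finite_of_finrank_pos (by rw [hdeg]; norm_num)
  have hF : IsFunctionField k (RatFunc k) := isFunctionField_ratFunc
  have hdeg0 : 0 < P₀.deg := Place.deg_pos hF P₀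
  have hbasic : ∀ P : Place k K, IsOver P P₀ →
      0 < ramIdx P P₀ ∧ P₀.deg ≤ P.deg ∧ ramIdx P P₀ * P.deg ≤ 2 * P₀.deg := by
    intro P hP
    have he := isOver_isOverWith hP
    have h3 := ramIdx_mul_deg_le hF hP
    rw [hdeg] at h3
    exact ⟨ow_pos he, Nat.le_of_dvd (deg_pos' hF P) (deg_dvd_of_isOver hP), h3⟩
  refine ⟨fun ⟨hneg, hodd⟩ => ?_, fun hnn P hP => ?_⟩
  · have hf0 : f ≠ 0 := by
      rintro rfl
      simp [FunFld.Place.ord] at hneg
    have hk : ∀ P : Place k K, IsOver P P₀ → IsOverWith P P₀ 2 ∧ P.deg = P₀.deg := by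
      intro P hP
      obtain ⟨h1, h3, h4⟩ := hbasic P hP
      have he := isOver_isOverWith hP
      have hvf : 1 < P.1 (algebraMap (RatFunc k) K f) := by
        rw [he f]
        exact one_lt_pow₀ ((Place.ord_neg_iff P₀ hf0).mp hneg) h1.ne'
      have hvy : 1 < P.1 y := by
        by_contra hle
        push Not at hle
        have : P.1 (y ^ 2 + y) ≤ 1 :=
          Valuation.map_add_le P.1 (by rw [map_pow]; exact pow_le_one₀ zero_le hle) hle
        rw [heq] at this
        exact absurd this (not_le.mpr hvf)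
      have hy0 : y ≠ 0 := by
        rintro rfl
        simp at hvy
      have hval : P.1 (y ^ 2 + y) = P.1 (y ^ 2) := by
        refine Valuation.map_add_eq_of_lt_left P.1 ?_
        rw [map_pow, sq]
        exact lt_mul_of_one_lt_left (zero_lt_one.trans hvy) hvy
      have hord : 2 * P.ord y = ramIdx P P₀ * P₀.ord f := by
        have h5 : P.ord (y ^ 2 + y) = P.ord (y ^ 2) := by
          unfold FunFld.Place.ord
          rw [hval]
        rw [heq, ow_ord_eq he, Place.ord_pow] at h5
        exact_mod_cast h5.symm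
      obtain ⟨m, hm⟩ := hodd
      have he2 : 2 ≤ ramIdx P P₀ := by
        by_contra hlt
        have h6 : ramIdx P P₀ = 1 := by omega
        rw [h6, hm] at hord
        omega
      have he2' : ramIdx P P₀ = 2 := by
        by_contra hne
        have : 3 ≤ ramIdx P P₀ := by omega
        nlinarith
      refine ⟨he2' ▸ he, ?_⟩
      rw [he2'] at h4
      omega
    refine ⟨?_, hk⟩
    obtain ⟨P, hP⟩ := exists_over (K' := K) hF P₀
    refine ⟨P, hP, fun P' hP' => ?_⟩
    by_contra hne
    have h1 := ramIdx_mul_deg_add_le hF hP' hP hne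
    rw [ramIdx_eq (hk P hP).1, ramIdx_eq (hk P' hP').1, (hk P hP).2, (hk P' hP').2, hdeg] at h1
    omega
  · obtain ⟨h1, h3, h4⟩ := hbasic P hP
    have he := isOver_isOverWith hP
    by_contra hne
    have he2 : ramIdx P P₀ = 2 := by
      have h5 : ramIdx P P₀ ≠ 1 := fun h => hne (h ▸ he)
      have h6 : ramIdx P P₀ ≤ 2 := by
        by_contra hgt
        have : 3 ≤ ramIdx P P₀ := by omega
        nlinarith
      omega
    rw [he2] at he
    have hvf : P₀.1 f ≤ 1 := by
      by_cases hf0 : f = 0
      · rw [hf0, map_zero]; exact zero_le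
      · exact (Place.ord_nonneg_iff P₀ hf0).mp hnn
    have hy1 : P.1 y ≤ 1 := by
      by_contra hlt
      push Not at hlt
      have hval : P.1 (y ^ 2 + y) = P.1 (y ^ 2) := by
        refine Valuation.map_add_eq_of_lt_left P.1 ?_
        rw [map_pow, sq]
        exact lt_mul_of_one_lt_left (zero_lt_one.trans hlt) hlt
      rw [heq, he f, map_pow] at hval
      have h7 : 1 < P.1 y ^ 2 := one_lt_pow₀ hlt two_ne_zero
      rw [← hval] at h7
      exact absurd (pow_le_one₀ zero_le hvf) (not_le.mpr h7)
    have h2K : (2 : K) = 0 := by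
      have hc : CharP k 2 := ringChar.of_eq h2
      have h2k : (2 : k) = 0 := CharTwo.two_eq_zero
      rw [← map_ofNat (algebraMap k K) 2, h2k, map_zero]
    have hyF : ∀ a : RatFunc k, algebraMap (RatFunc k) K a ≠ y := fun a ha => hy ⟨a, ha⟩
    have hFe : ∀ a : RatFunc k, a ≠ 0 →
        ∃ n : ℤ, P.1 (algebraMap (RatFunc k) K a) = exp (2 * n) := by
      intro a ha
      rw [he a, Place.val_eq_exp_neg_ord P₀ ha]
      refine ⟨-P₀.ord a, ?_⟩
      rw [← exp_nsmul]
      congr 1
    have hli : LinearIndependent (RatFunc k) ![(1 : K), y] := by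
      rw [LinearIndependent.pair_iff]
      intro s t hst
      by_cases ht : t = 0
      · subst ht
        simp at hst
        exact ⟨hst, rfl⟩
      · exfalso
        refine hyF (-s / t) ?_
        rw [Algebra.smul_def, Algebra.smul_def, mul_one] at hst
        have ht' : algebraMap (RatFunc k) K t ≠ 0 := by simpa using ht
        rw [map_div₀, map_neg, div_eq_iff ht']
        linear_combination (-1 : K) * hst
    have hspan := hli.span_eq_top_of_card_eq_finrank' (by simp [hdeg])
    have hrange : Set.range ![(1 : K), y] = {1, y} := by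
      ext w
      simp [Set.mem_insert_iff, or_comm]
    rw [hrange] at hspan
    obtain ⟨t, ht⟩ := Place.exists_uniformizer P
    have ht0 : t ≠ 0 := by
      rintro rfl
      rw [map_zero] at ht
      exact exp_ne_zero ht.symm
    have htm : t ∈ Submodule.span (RatFunc k) ({1, y} : Set K) := by rw [hspan]; trivial
    obtain ⟨α, β, hαβ⟩ := Submodule.mem_span_pair.mp htm
    rw [Algebra.smul_def, Algebra.smul_def, mul_one] at hαβ
    obtain ⟨n, hn⟩ := even_val P.1 hFe y f heq hy1 h2K hyF α β (hαβ ▸ ht0)
    rw [hαβ, ht] at hn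
    have := exp_injective hn
    omega

end Aux

/-- Let `k` be perfect of characteristic `2`, `K` separable of degree `2` over `k(x)`, and `y ∈ K \
k(x)` with `y² + y = f(x)`. At a place `p` of `k(x)/k` where `f` has a pole of odd order there is a
unique place `P` of `K` above `p`, with `e(P|p) = 2` and `deg P = deg p` (residue degree `1`); at a
place where `f` has no pole, every place of `K` above it is unramified. The different is not stated. -/
theorem result (k K : Type*) [Field k] [Field K] [PerfectField k] (h2 : ringChar k = 2)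
    [Algebra k K] [Algebra (RatFunc k) K] [IsScalarTower k (RatFunc k) K]
    (hdeg : Module.finrank (RatFunc k) K = 2) [Algebra.IsSeparable (RatFunc k) K]
    (y : K) (hy : y ∉ Set.range (algebraMap (RatFunc k) K))
    (f : RatFunc k) (heq : y ^ 2 + y = algebraMap (RatFunc k) K f)
    (P₀ : FunFld.Place k (RatFunc k)) :
    ((P₀.ord f < 0 ∧ Odd (P₀.ord f)) → (∃! P : FunFld.Place k K, FunFld.IsOver P P₀) ∧
      ∀ P : FunFld.Place k K, FunFld.IsOver P P₀ → FunFld.IsOverWith P P₀ 2 ∧ P.deg = P₀.deg) ∧
    (0 ≤ P₀.ord f → ∀ P : FunFld.Place k K, FunFld.IsOver P P₀ → FunFld.IsOverWith P P₀ 1) := by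
  exact Aux.main h2 hdeg y hy f heq P₀

end Groth.Agent.S12519
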