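import Groth.Statements.S12588
import Mathlib
import Groth.Prelude.Def_W4bk4goldsch23Ext
import Groth.Prelude.Def_LocRes
import Groth.Agent.Lib.Helper9.FFExt.GeoRat
import Groth.Agent.S12519
import Groth.Agent.Lib.Helper9.FFExt.DiffExp1U
-- import your own Groth.Agent.* helpers here

set_option autoImplicit false
universe u v w
open FunFld

namespace Groth.Agent.S12588

namespace Aux

open FunFld WithZero Polynomial
open Groth.Agent.Lib.Helper4.FF Groth.Agent.Helper9.FFExt

variable {k : Type u} {K : Type v} [Field k] [Field K] [Algebra (RatFunc k) K]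

/-- the uniformizer `s = π^d y` and its minimal polynomial -/
theorem minpoly_s (h2 : (2 : RatFunc k) = 0) (y : K)
    (hy : y ∉ Set.range (algebraMap (RatFunc k) K)) (f : RatFunc k)
    (heq : y ^ 2 + y = algebraMap (RatFunc k) K f) (c : RatFunc k) (hc : c ≠ 0) :
    aeval (algebraMap (RatFunc k) K c * y) (derivative (minpoly (RatFunc k) (algebraMap (RatFunc k) K c * y))) =
      algebraMap (RatFunc k) K c := by
  set s := algebraMap (RatFunc k) K c * y with hs
  set g : (RatFunc k)[X] := X ^ 2 + C c * X - C (c ^ 2 * f) with hg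
  have hgm : g.Monic := by
    rw [hg]
    monicity!
  have hgdeg : g.natDegree = 2 := by
    rw [hg]
    compute_degree!
  have hroot : aeval s g = 0 := by
    rw [hg, hs]
    simp only [map_sub, map_add, map_mul, map_pow, aeval_X, aeval_C]
    rw [← heq]
    ring
  have hsint : IsIntegral (RatFunc k) s := ⟨g, hgm, hroot⟩
  have hsnot : s ∉ Set.range (algebraMap (RatFunc k) K) := by
    rintro ⟨a, ha⟩
    apply hy
    refine ⟨a / c, ?_⟩
    rw [map_div₀, ha, hs]
    have hc' : algebraMap (RatFunc k) K c ≠ 0 := (map_ne_zero_iff _ (algebraMap (RatFunc k) K).injective).mpr hc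
    field_simp
  have hmin2 : 2 ≤ (minpoly (RatFunc k) s).natDegree := (minpoly.two_le_natDegree_iff hsint).mpr hsnot
  have hdvd : minpoly (RatFunc k) s ∣ g := minpoly.dvd _ _ hroot
  have hmeq : minpoly (RatFunc k) s = g :=
    (Polynomial.eq_of_monic_of_dvd_of_natDegree_le (minpoly.monic hsint) hgm hdvd (by
      rw [hgdeg]; exact hmin2)).symm
  have hder : derivative g = C (2 : RatFunc k) * X + C c := by
    rw [hg]
    simp only [derivative_sub, derivative_add, derivative_mul, derivative_X_pow, derivative_C,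
      derivative_X, zero_mul, mul_one, zero_add, sub_zero]
    norm_num
  rw [hmeq, hder, h2, C_0, zero_mul, zero_add, aeval_C]

universe w'

theorem main (k : Type u) (K : Type v) [Field k] [Field K] [Algebra k K] [Algebra (RatFunc k) K] [IsScalarTower k (RatFunc k) K]
    (hK : FunFld.IsFunctionField k K) (hdeg : Module.finrank (RatFunc k) K = 2) [PerfectField k] (h2 : ringChar k = 2)
    [Algebra.IsSeparable (RatFunc k) K]
    (y : K) (hy : y ∉ Set.range (algebraMap (RatFunc k) K)) (f : RatFunc k)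
    (heq : y ^ 2 + y = algebraMap (RatFunc k) K f)
    (p : FunFld.Place k (RatFunc k)) (hp : 1 < p.1 f) (hodd : Odd (p.ord f))
    (P : FunFld.Place k K) (e : ℕ) (he : FunFld.IsOverWith P p e)
    (F : Type w) (F' : Type w') [Field F] [Algebra k F] [Field F'] [Algebra k F']
    (φ : RatFunc k →ₐ[k] LaurentSeries F) (hφ : LocRes.IsExpansionAt p.1 φ)
    (ψ : K →ₐ[k] LaurentSeries F') (hψ : LocRes.IsExpansionAt P.1 ψ)
    (z : RatFunc k) (hz : LocRes.vDiff φ 1 z ≠ 0) (hz' : LocRes.vDiff ψ 1 (algebraMap (RatFunc k) K z) ≠ 0) :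
    LocRes.diffExp φ ψ e z = 1 - p.ord f := by
  classical
  have hfin : FiniteDimensional (RatFunc k) K :=
    Module.finite_of_finrank_pos (by rw [hdeg]; norm_num)
  have hF : IsFunctionField k (RatFunc k) := isFunctionField_ratFunc
  have hgF : IsGeometric k (RatFunc k) := isGeometric_ratFunc k
  have hf0 : f ≠ 0 := by
    rintro rfl
    rw [map_zero] at hp
    exact absurd hp (by simp)
  have hneg : p.ord f < 0 := (Place.ord_neg_iff p hf0).mpr hp
  have h19 := (Groth.Agent.S12519.Aux.main h2 hdeg y hy f heq p).1 ⟨hneg, hodd⟩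
  have he2 : IsOverWith P p 2 := (h19.2 P ⟨e, he⟩).1
  have hee : e = 2 := by rw [← ramIdx_eq he, ← ramIdx_eq he2]
  subst hee
  -- characteristic two
  have h2k : (2 : k) = 0 := by
    have : ((ringChar k : ℕ) : k) = 0 := ringChar.Nat.cast_ringChar
    rw [h2] at this
    exact_mod_cast this
  have h2F : (2 : RatFunc k) = 0 := by
    have := congrArg (algebraMap k (RatFunc k)) h2k
    rwa [map_ofNat, map_zero] at this
  -- the uniformizer
  obtain ⟨π, hπ⟩ := Place.exists_uniformizer p
  obtain ⟨m, hm⟩ := hodd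
  obtain ⟨d, hd⟩ : ∃ d : ℕ, (d : ℤ) = -m := ⟨(-m).toNat, Int.toNat_of_nonneg (by omega)⟩
  have hπ0 : π ≠ 0 := by
    rintro rfl
    rw [map_zero] at hπ
    exact exp_ne_zero hπ.symm
  have hc0 : π ^ d ≠ 0 := pow_ne_zero _ hπ0
  -- valuation of `y`
  have hvf : P.1 (algebraMap (RatFunc k) K f) = exp (-(2 * p.ord f)) := by
    rw [he2 f, Place.val_eq_exp_neg_ord p hf0, ← exp_nsmul]
    congr 1
    simp
  have hvy1 : 1 < P.1 y := by
    by_contra hle
    push Not at hle
    have : P.1 (y ^ 2 + y) ≤ 1 :=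
      Valuation.map_add_le P.1 (by rw [map_pow]; exact pow_le_one₀ zero_le hle) hle
    rw [heq, hvf, ← exp_zero, exp_le_exp] at this
    omega
  have hy0 : y ≠ 0 := by
    rintro rfl
    simp at hvy1
  have hval : P.1 (y ^ 2 + y) = P.1 (y ^ 2) := by
    refine Valuation.map_add_eq_of_lt_left P.1 ?_
    rw [map_pow, sq]
    exact lt_mul_of_one_lt_left (zero_lt_one.trans hvy1) hvy1
  have hvy : P.1 y = exp (-(p.ord f)) := by
    rw [heq, hvf, map_pow, Place.val_eq_exp_neg_ord P hy0, ← exp_nsmul, exp_inj] at hval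
    rw [Place.val_eq_exp_neg_ord P hy0, exp_inj]
    simp at hval
    omega
  have hs : P.1 (algebraMap (RatFunc k) K (π ^ d) * y) = exp (-1) := by
    rw [map_mul, he2 (π ^ d), map_pow, hπ, hvy, ← exp_nsmul, ← exp_nsmul, ← exp_add, exp_inj]
    simp
    omega
  have h73 := ord_derivative_minpoly_eq_diffExp k (RatFunc k) K hF hgF F F' p P 2 he2 φ hφ ψ hψ z hz hz' hdeg.symm
    (algebraMap (RatFunc k) K (π ^ d) * y) hs
  rw [← h73, minpoly_s h2F y hy f heq (π ^ d) hc0, ow_ord_eq he2, Place.ord_pow]
  have : p.ord π = 1 := by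
    unfold FunFld.Place.ord
    rw [hπ, log_exp]
    simp
  rw [this]
  push_cast
  omega

end Aux

/-- For `k` perfect of characteristic `2`, `K` separable of degree `2` over `k(x)` with `y² + y = f(x)`,
and a place `p` of `k(x)` where `f` has a pole whose order `2d - 1` is odd: a place `P` of `K` above
`p` with ramification index `e` (necessarily `e = 2`, `P` unique) has different exponent `d(P|p) =
2d = 1 - ord_p(f)`; the exponent is computed on `dz` through Laurent expansions over `k` at `p` and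
`P`. -/
theorem result (k : Type u) (K : Type v) [Field k] [Field K] [Algebra k K] [Algebra (RatFunc k) K] [IsScalarTower k (RatFunc k) K]
    (hK : FunFld.IsFunctionField k K) (hdeg : Module.finrank (RatFunc k) K = 2) [PerfectField k] (h2 : ringChar k = 2)
    [Algebra.IsSeparable (RatFunc k) K]
    (y : K) (hy : y ∉ Set.range (algebraMap (RatFunc k) K)) (f : RatFunc k)
    (heq : y ^ 2 + y = algebraMap (RatFunc k) K f)
    (p : FunFld.Place k (RatFunc k)) (hp : 1 < p.1 f) (hodd : Odd (p.ord f))
    (P : FunFld.Place k K) (e : ℕ) (he : FunFld.IsOverWith P p e)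
    (F F' : Type w) [Field F] [Algebra k F] [Field F'] [Algebra k F']
    (φ : RatFunc k →ₐ[k] LaurentSeries F) (hφ : LocRes.IsExpansionAt p.1 φ)
    (ψ : K →ₐ[k] LaurentSeries F') (hψ : LocRes.IsExpansionAt P.1 ψ)
    (z : RatFunc k) (hz : LocRes.vDiff φ 1 z ≠ 0) (hz' : LocRes.vDiff ψ 1 (algebraMap (RatFunc k) K z) ≠ 0) :
    LocRes.diffExp φ ψ e z = 1 - p.ord f := by
  exact Aux.main k K hK hdeg h2 y hy f heq p hp hodd P e he F F' φ hφ ψ hψ z hz hz'

end Groth.Agent.S12588
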