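import Groth.Statements.S11028
import Mathlib
import Groth.Prelude.Def_W4bk4goldsch23Ext
import Groth.Prelude.Def_LocRes
import Groth.Agent.S12519
import Groth.Agent.S12588
import Groth.Agent.S10994
import Groth.Agent.Lib.Helper9.FFExt.ExpSep
import Groth.Agent.Lib.Helper9.FFExt.GeoPerf
import Groth.Agent.Lib.Helper9.FFExt.DiffExpU
import Groth.Agent.Lib.Helper9.FFExt.RHGen
import Groth.Agent.Lib.Helper9.FFExt.GeoRat
import Groth.Agent.Lib.Helper9.Tate.LocalGen
-- import your own Groth.Agent.* helpers here

set_option autoImplicit false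
open FunFld

namespace Groth.Agent.S11028

namespace Aux

open FunFld WithZero Polynomial IntermediateField
open Groth.Agent.Lib.Helper4.FF Groth.Agent.Helper9.FFExt Groth.Agent.Helper9.Tate

universe u v

/-- expansions exist at all places when the constant field is perfect -/
theorem exists_expansion_of_perfect (k : Type u) (K : Type v) [Field k] [Field K] [Algebra k K]
    [PerfectField k] (hK : IsFunctionField k K) (P : Place k K) :
    ∃ (F : Type u) (_ : Field F) (_ : Algebra k F) (_ : FiniteDimensional k F)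
      (φ : K →ₐ[k] LaurentSeries F), LocRes.IsExpansionAt P.1 φ := by
  have hfinF : @Module.Finite k (IsLocalRing.ResidueField P.O) _ _ (Place.algRes P).toModule := by
    have h0 : 0 < Module.finrank k (IsLocalRing.ResidueField P.O) := Place.deg_pos hK P
    exact Module.finite_of_finrank_pos h0
  have : Algebra.IsSeparable k (IsLocalRing.ResidueField P.O) :=
    Algebra.IsAlgebraic.isSeparable_of_perfectField
  exact exists_expansion_of_separable k K hK P

/-- an Artin–Schreier extension in characteristic two is separable -/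
theorem isSeparable_AS {E K : Type*} [Field E] [Field K] [Algebra E K] (h2 : (2 : E) = 0)
    (hdeg : Module.finrank E K = 2) (y : K) (hy : y ∉ Set.range (algebraMap E K))
    (f : E) (heq : y ^ 2 + y = algebraMap E K f) : Algebra.IsSeparable E K := by
  have hfin : FiniteDimensional E K := Module.finite_of_finrank_pos (by rw [hdeg]; norm_num)
  -- `y` is separable
  have hysep : IsSeparable E y := by
    have hp : aeval y (X ^ 2 + X - C f : E[X]) = 0 := by
      rw [map_sub, map_add, map_pow, aeval_X, aeval_C, heq, sub_self]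
    have hsep : (X ^ 2 + X - C f : E[X]).Separable := by
      unfold Polynomial.Separable
      have hd : derivative (X ^ 2 + X - C f : E[X]) = 1 := by
        rw [derivative_sub, derivative_add, derivative_X_pow, derivative_X, derivative_C, sub_zero]
        have : (C ((2 : ℕ) : E) : E[X]) = 0 := by
          rw [Nat.cast_ofNat, h2, C_0]
        rw [this, zero_mul, zero_add]
      rw [hd]
      exact isCoprime_one_right
    exact hsep.of_dvd (minpoly.dvd E y hp)
  -- `E(y) = K`
  have htop : E⟮y⟯ = ⊤ := by
    have h1 : Module.finrank E E⟮y⟯ ∣ 2 := by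
      rw [← hdeg]
      exact IntermediateField.finrank_dvd_of_le_right le_top |>.trans (by
        rw [IntermediateField.finrank_top'])
    have h3 : Module.finrank E E⟮y⟯ ≠ 1 := by
      rw [Ne, IntermediateField.finrank_adjoin_simple_eq_one_iff, IntermediateField.mem_bot]
      exact hy
    have h4 : Module.finrank E E⟮y⟯ = 2 := by
      rcases (Nat.dvd_prime Nat.prime_two).mp h1 with h | h
      · exact absurd h h3
      · exact h
    apply IntermediateField.eq_of_le_of_finrank_eq le_top
    rw [h4, IntermediateField.finrank_top', hdeg]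
  rw [← separableClosure.eq_top_iff, eq_top_iff, ← htop, IntermediateField.adjoin_simple_le_iff,
    mem_separableClosure_iff]
  exact hysep


theorem main (k : Type u) (K : Type v) [Field k] [Field K] [PerfectField k] (h2 : ringChar k = 2)
    [Algebra k K]
    [Algebra (RatFunc k) K] [IsScalarTower k (RatFunc k) K] (hK : FunFld.IsFunctionField k K)
    (hdeg : Module.finrank (RatFunc k) K = 2) (y : K) (hy : y ∉ Set.range (algebraMap (RatFunc k) K))
    (f : RatFunc k) (heq : y ^ 2 + y = algebraMap (RatFunc k) K f)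
    (hodd : ∀ P : FunFld.Place k (RatFunc k), FunFld.div k f P < 0 → Odd (FunFld.div k f P)) :
    (FunFld.genus k K : ℤ) = -1 + ∑ P ∈ (FunFld.div k f).support with FunFld.div k f P < 0,
      (1 - FunFld.div k f P) / 2 * (P.deg : ℤ) := by
  classical
  have hfin : FiniteDimensional (RatFunc k) K :=
    Module.finite_of_finrank_pos (by rw [hdeg]; norm_num)
  have hE : IsFunctionField k (RatFunc k) := isFunctionField_ratFunc
  have hgE : IsGeometric k (RatFunc k) := isGeometric_ratFunc k
  have hgK : IsGeometric k K := isGeometric_of_perfect k K hK.2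
  have hc2 : CharP k 2 := ringChar.of_eq h2
  have hc2E : CharP (RatFunc k) 2 :=
    charP_of_injective_algebraMap (algebraMap k (RatFunc k)).injective 2
  have h2E : (2 : RatFunc k) = 0 := CharTwo.two_eq_zero
  have hrcE : ringChar (RatFunc k) = 2 := ringChar.eq (RatFunc k) 2
  have hsep : Algebra.IsSeparable (RatFunc k) K := isSeparable_AS h2E hdeg y hy f heq
  have hgenE : genus k (RatFunc k) = 0 :=
    ((Groth.Agent.S10994.result k (RatFunc k) hE).mpr ⟨RatFunc.X, RatFunc.adjoin_X⟩).1
  -- expansions
  choose F iF iA iFin φ hφ using fun P => exists_expansion_of_perfect k (RatFunc k) hE P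
  choose F' iF' iA' iFin' ψ hψ using fun Q => exists_expansion_of_perfect k K hK Q
  have halg : Algebra.IsAlgebraic (RatFunc k) K := Algebra.IsAlgebraic.of_finite _ _
  choose below e he using fun Q : Place k K => exists_below' (K := RatFunc k) Q
  have hx : ∀ P, LocRes.vDiff (φ P) 1 (RatFunc.X : RatFunc k) ≠ 0 := fun P =>
    vDiff_ne_zero_gen (isFFw_of_isFunctionField hE) hgE (hφ P) one_ne_zero D_X_ne_zero
  have hx' : ∀ Q, LocRes.vDiff (ψ Q) 1 (algebraMap (RatFunc k) K RatFunc.X) ≠ 0 := fun Q =>
    vDiff_ne_zero_gen (isFFw_of_isFunctionField hK) hgK (hψ Q) one_ne_zero D_algebraMap_X_ne_zero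
  obtain ⟨hsupp, hRH⟩ := Groth.Agent.Helper9.RHGen.rh_gen k k (RatFunc k) K hE hgE hK hgK F φ hφ F' ψ hψ
    below e he RatFunc.X hx hx'
  rw [Module.finrank_self, hdeg, hgenE] at hRH
  have hdiv : ∀ P, div k f P = P.ord f := div_apply hE f
  have hover : ∀ Q, IsOver Q (below Q) := fun Q => ⟨e Q, he Q⟩
  -- unramified places
  have hunr : ∀ Q, 0 ≤ (below Q).ord f →
      LocRes.diffExp (φ (below Q)) (ψ Q) (e Q) (RatFunc.X : RatFunc k) = 0 := by
    intro Q hQ
    have h1 := (Groth.Agent.S12519.Aux.main h2 hdeg y hy f heq (below Q)).2 hQ Q (hover Q)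
    have he1 : e Q = 1 := ow_unique (he Q) h1
    have h3 := (diffExp_tame k (RatFunc k) K hE hgE (F (below Q)) (F' Q) (below Q) Q (e Q) (he Q)
      (φ (below Q)) (hφ (below Q)) (ψ Q) (hψ Q) RatFunc.X (hx _) (hx' Q)).1
      (by rw [hrcE, he1]; norm_num)
    rw [h3, he1]
    norm_num
  -- poles
  have hpole : ∀ Q, (below Q).ord f < 0 →
      LocRes.diffExp (φ (below Q)) (ψ Q) (e Q) (RatFunc.X : RatFunc k) = 1 - (below Q).ord f ∧
      Q.deg = (below Q).deg ∧ ∀ Q', IsOver Q' (below Q) → Q' = Q := by
    intro Q hQ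
    have ho : Odd ((below Q).ord f) := by
      have := hodd (below Q) (by rw [hdiv]; exact hQ)
      rwa [hdiv] at this
    have hf0 : f ≠ 0 := by
      rintro rfl
      simp [FunFld.Place.ord] at hQ
    have h1 := (Groth.Agent.S12519.Aux.main h2 hdeg y hy f heq (below Q)).1 ⟨hQ, ho⟩
    refine ⟨?_, (h1.2 Q (hover Q)).2, ?_⟩
    · exact Groth.Agent.S12588.Aux.main k K hK hdeg h2 y hy f heq (below Q)
        ((Place.ord_neg_iff (below Q) hf0).mp hQ) ho Q (e Q) (he Q) (F (below Q)) (F' Q)
        (φ (below Q)) (hφ (below Q)) (ψ Q) (hψ Q) RatFunc.X (hx _) (hx' Q)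
    · intro Q' hQ'
      obtain ⟨Q₀, -, hQ₀⟩ := h1.1
      rw [hQ₀ Q' hQ', hQ₀ Q (hover Q)]
  -- the set of poles
  obtain ⟨S, hS⟩ : ∃ S : Finset (Place k (RatFunc k)),
      S = (div k f).support.filter (fun P => div k f P < 0) := ⟨_, rfl⟩
  have hmemS : ∀ p, p ∈ S ↔ p.ord f < 0 := by
    intro p
    rw [hS, Finset.mem_filter, Finsupp.mem_support_iff, hdiv]
    constructor
    · exact fun h => h.2
    · exact fun h => ⟨h.ne, h⟩
  choose Qp hQp using fun p => exists_over (K' := K) hE p
  have hbelowQp : ∀ p, below (Qp p) = p := fun p => isOver_unique (hover (Qp p)) (hQp p)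
  have hsum : ∑ᶠ Q, LocRes.diffExp (φ (below Q)) (ψ Q) (e Q) (RatFunc.X : RatFunc k) * (Q.deg : ℤ) =
      ∑ p ∈ S, (1 - p.ord f) * (p.deg : ℤ) := by
    rw [finsum_eq_sum_of_support_subset (s := S.image Qp)]
    · rw [Finset.sum_image]
      · refine Finset.sum_congr rfl fun p hp => ?_
        have hp' : (below (Qp p)).ord f < 0 := by rw [hbelowQp]; exact (hmemS p).mp hp
        obtain ⟨h1, h2, -⟩ := hpole (Qp p) hp'
        rw [h1, h2, hbelowQp]
      · intro p _ p' _ hpp'
        have h1 := hQp p
        rw [hpp'] at h1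
        exact isOver_unique h1 (hQp p')
    · intro Q hQ
      rw [Function.mem_support] at hQ
      have hneg : (below Q).ord f < 0 := by
        by_contra hnn
        push Not at hnn
        apply hQ
        rw [hunr Q hnn, zero_mul]
      rw [Finset.coe_image, Set.mem_image]
      refine ⟨below Q, (hmemS _).mpr hneg, ?_⟩
      exact (hpole Q hneg).2.2 _ (hQp (below Q))
  rw [hsum] at hRH
  rw [← hS]
  have hsum2 : ∑ p ∈ S, (1 - p.ord f) * (p.deg : ℤ) =
      2 * ∑ P ∈ S, (1 - div k f P) / 2 * (P.deg : ℤ) := by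
    rw [Finset.mul_sum]
    refine Finset.sum_congr rfl fun p hp => ?_
    have hneg := (hmemS p).mp hp
    obtain ⟨m, hm⟩ := hodd p (by rw [hdiv]; exact hneg)
    rw [hdiv] at hm ⊢
    have : 2 * ((1 - p.ord f) / 2) = 1 - p.ord f := by omega
    rw [← mul_assoc, this]
  rw [hsum2] at hRH
  push_cast at hRH
  linarith

end Aux

/-- For `k` perfect of characteristic `2` and `K = k(x, y)` with `y² + y = f(x)`, all poles of `f` of
odd order `2d_i - 1` at places `p_i` of `k(x)`, the genus of `K` is `-1 + ∑ d_i deg p_i`. -/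
theorem result (k K : Type*) [Field k] [Field K] [PerfectField k] (h2 : ringChar k = 2) [Algebra k K]
    [Algebra (RatFunc k) K] [IsScalarTower k (RatFunc k) K] (hK : FunFld.IsFunctionField k K)
    (hdeg : Module.finrank (RatFunc k) K = 2) (y : K) (hy : y ∉ Set.range (algebraMap (RatFunc k) K))
    (f : RatFunc k) (heq : y ^ 2 + y = algebraMap (RatFunc k) K f)
    (hodd : ∀ P : FunFld.Place k (RatFunc k), FunFld.div k f P < 0 → Odd (FunFld.div k f P)) :
    (FunFld.genus k K : ℤ) = -1 + ∑ P ∈ (FunFld.div k f).support with FunFld.div k f P < 0,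
      (1 - FunFld.div k f P) / 2 * (P.deg : ℤ) := by
  exact Aux.main k K h2 hK hdeg y hy f heq hodd

end Groth.Agent.S11028
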