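import Groth.Statements.S11006
import Mathlib

set_option autoImplicit false
universe u v
open FunFld

set_option linter.style.haveILetI false
set_option linter.unusedSectionVars false

namespace S11006aux

open scoped TensorProduct IntermediateField

variable {k k' : Type u} {K K' : Type v} [Field k] [Field k'] [Field K] [Field K']
    [Algebra k k'] [FiniteDimensional k k'] [Algebra k K] [Algebra K K'] [Algebra k' K'] [Algebra k K']
    [IsScalarTower k k' K'] [IsScalarTower k K K']

/-- the `k'`-algebra isomorphism `k' ⊗ K ≃ K'`. -/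
noncomputable def e (h : Function.Bijective (Algebra.TensorProduct.productMap
      (IsScalarTower.toAlgHom k k' K') (IsScalarTower.toAlgHom k K K'))) :
    k' ⊗[k] K ≃ₐ[k'] K' :=
  AlgEquiv.ofBijective (Algebra.TensorProduct.productLeftAlgHom (Algebra.ofId k' K')
    (IsScalarTower.toAlgHom k K K')) h

theorem e_tmul (h : Function.Bijective (Algebra.TensorProduct.productMap
      (IsScalarTower.toAlgHom k k' K') (IsScalarTower.toAlgHom k K K'))) (a : k') (b : K) :
    e h (a ⊗ₜ b) = algebraMap k' K' a * algebraMap K K' b := rfl

theorem geom (h : Function.Bijective (Algebra.TensorProduct.productMap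
      (IsScalarTower.toAlgHom k k' K') (IsScalarTower.toAlgHom k K K')))
    (hg : FunFld.IsGeometric k K) : FunFld.IsGeometric k' K' := by
  intro k'' _ _ hfin
  letI : Algebra k k'' := ((algebraMap k' k'').comp (algebraMap k k')).toAlgebra
  haveI : IsScalarTower k k' k'' := IsScalarTower.of_algebraMap_eq (fun _ => rfl)
  haveI : FiniteDimensional k k'' := FiniteDimensional.trans k k' k''
  have hf : IsField (k'' ⊗[k] K) := hg k'' inferInstance
  let e1 : k'' ⊗[k'] K' ≃ₐ[k''] k'' ⊗[k'] (k' ⊗[k] K) :=
    Algebra.TensorProduct.congr AlgEquiv.refl (e h).symm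
  let e2 := Algebra.TensorProduct.cancelBaseChange k k' k'' k'' K
  exact MulEquiv.isField hf (e1.trans e2).toMulEquiv

omit [FiniteDimensional k k'] in
/-- For a geometric extension, the base field is algebraically closed in the top field. -/
theorem algClosed_of_geometric {k : Type u} {K : Type v} [Field k] [Field K] [Algebra k K]
    (hg : FunFld.IsGeometric k K) (y : K) (hy : IsAlgebraic k y) :
    y ∈ Set.range (algebraMap k K) := by
  have hint : IsIntegral k y := hy.isIntegral
  by_contra hy'
  have hdeg1 : (minpoly k y).natDegree ≠ 1 := fun h => hy' (minpoly.natDegree_eq_one_iff.mp h)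
  have hdeg0 : 0 < (minpoly k y).natDegree := minpoly.natDegree_pos hint
  have hdeg : 2 ≤ (minpoly k y).natDegree := by omega
  haveI : Fact (Irreducible (minpoly k y)) := ⟨minpoly.irreducible hint⟩
  have hq0 : minpoly k y ≠ 0 := minpoly.ne_zero hint
  haveI : FiniteDimensional k (AdjoinRoot (minpoly k y)) := (AdjoinRoot.powerBasis hq0).finite
  have hf : IsField (AdjoinRoot (minpoly k y) ⊗[k] K) := hg (AdjoinRoot (minpoly k y)) inferInstance
  have hf' : IsField (K ⊗[k] AdjoinRoot (minpoly k y)) :=
    MulEquiv.isField hf (Algebra.TensorProduct.comm k K (AdjoinRoot (minpoly k y))).toMulEquiv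
  let φ : AdjoinRoot (minpoly k y) →ₐ[k] K :=
    AdjoinRoot.liftAlgHom (minpoly k y) (Algebra.ofId k K) y (by
      have := minpoly.aeval k y
      rwa [Polynomial.aeval_def] at this)
  have hφ : φ (AdjoinRoot.root (minpoly k y)) = y := AdjoinRoot.liftAlgHom_root _ _ _ _
  let ψ : K ⊗[k] AdjoinRoot (minpoly k y) →ₐ[k] K :=
    Algebra.TensorProduct.productMap (AlgHom.id k K) φ
  have hz : ψ (y ⊗ₜ 1 - 1 ⊗ₜ AdjoinRoot.root (minpoly k y)) = 0 := by
    rw [map_sub, Algebra.TensorProduct.productMap_apply_tmul,
      Algebra.TensorProduct.productMap_apply_tmul, hφ]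
    simp
  have hz0 : (y ⊗ₜ[k] (1 : AdjoinRoot (minpoly k y)) - 1 ⊗ₜ AdjoinRoot.root (minpoly k y)) = 0 := by
    by_contra hne
    obtain ⟨b, hb⟩ := hf'.mul_inv_cancel hne
    have : ψ (y ⊗ₜ 1 - 1 ⊗ₜ AdjoinRoot.root (minpoly k y)) * ψ b = 1 := by
      rw [← map_mul, hb, map_one]
    rw [hz, zero_mul] at this
    exact zero_ne_one this
  have hli : LinearIndependent k ![(1 : AdjoinRoot (minpoly k y)), AdjoinRoot.root (minpoly k y)] := by
    rw [LinearIndependent.pair_iff]
    intro a b hab
    have h1 : AdjoinRoot.mk (minpoly k y) (Polynomial.C a + Polynomial.C b * Polynomial.X) = 0 := by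
      rw [map_add, map_mul, AdjoinRoot.mk_X, AdjoinRoot.mk_C, AdjoinRoot.mk_C, ← hab,
        Algebra.smul_def, Algebra.smul_def, mul_one]
      rfl
    rw [AdjoinRoot.mk_eq_zero] at h1
    have h2 : (Polynomial.C a + Polynomial.C b * Polynomial.X : Polynomial k) = 0 := by
      apply Polynomial.eq_zero_of_dvd_of_natDegree_lt h1
      have : (Polynomial.C a + Polynomial.C b * Polynomial.X : Polynomial k).natDegree ≤ 1 := by
        compute_degree
      omega
    have ha : a = 0 := by
      have := congrArg (fun q => Polynomial.coeff q 0) h2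
      simpa using this
    have hb : b = 0 := by
      have := congrArg (fun q => Polynomial.coeff q 1) h2
      simpa using this
    exact ⟨ha, hb⟩
  have hli' := Module.Flat.linearIndependent_one_tmul (S := K) hli
  rw [show (fun i => (1 : K) ⊗ₜ[k] ![(1 : AdjoinRoot (minpoly k y)), AdjoinRoot.root (minpoly k y)] i)
    = ![(1 : K) ⊗ₜ[k] (1 : AdjoinRoot (minpoly k y)), (1 : K) ⊗ₜ[k] AdjoinRoot.root (minpoly k y)] by
      ext i; fin_cases i <;> rfl, LinearIndependent.pair_iff] at hli'
  have := hli' y (-1) (by
    rw [TensorProduct.smul_tmul', TensorProduct.smul_tmul', smul_eq_mul, mul_one, smul_eq_mul,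
      mul_one, TensorProduct.neg_tmul, ← sub_eq_add_neg]
    exact hz0)
  have h3 : (-1 : K) = 0 := this.2
  simp at h3

theorem finite_K' (h : Function.Bijective (Algebra.TensorProduct.productMap
      (IsScalarTower.toAlgHom k k' K') (IsScalarTower.toAlgHom k K K'))) :
    Module.Finite K K' := by
  let f : K ⊗[k] k' →ₐ[K] K' := Algebra.TensorProduct.productLeftAlgHom (Algebra.ofId K K')
    (IsScalarTower.toAlgHom k k' K')
  have hf : Function.Surjective f := by
    intro z
    obtain ⟨w, rfl⟩ := h.2 z
    refine ⟨Algebra.TensorProduct.comm k k' K w, ?_⟩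
    induction w using TensorProduct.induction_on with
    | zero => simp
    | tmul a b =>
      simp only [Algebra.TensorProduct.comm_tmul, Algebra.TensorProduct.productMap_apply_tmul]
      show algebraMap K K' b * algebraMap k' K' a = algebraMap k' K' a * algebraMap K K' b
      exact mul_comm _ _
    | add x y hx hy => rw [map_add, map_add, hx, hy, map_add]
  exact Module.Finite.of_surjective f.toLinearMap hf

theorem funField (h : Function.Bijective (Algebra.TensorProduct.productMap
      (IsScalarTower.toAlgHom k k' K') (IsScalarTower.toAlgHom k K K')))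
    (x : K) (hx : Transcendental k x) (hfin : FiniteDimensional k⟮x⟯ K) :
    Transcendental k' (algebraMap K K' x) ∧ FiniteDimensional k'⟮algebraMap K K' x⟯ K' := by
  constructor
  · intro halg
    apply hx
    haveI : Algebra.IsAlgebraic k k' := Algebra.IsAlgebraic.of_finite k k'
    have h1 : IsAlgebraic k (algebraMap K K' x) := halg.restrictScalars k
    exact (isAlgebraic_algebraMap_iff (algebraMap K K').injective).mp h1
  · haveI := finite_K' h
    haveI := hfin
    set E := k'⟮algebraMap K K' x⟯ with hE
    haveI : IsScalarTower k⟮x⟯ K K' := inferInstance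
    haveI : Module.Finite k⟮x⟯ K' := Module.Finite.trans K K'
    have hle : k⟮x⟯ ≤ (E.restrictScalars k).comap (IsScalarTower.toAlgHom k K K') := by
      rw [IntermediateField.adjoin_simple_le_iff]
      show algebraMap K K' x ∈ E
      exact IntermediateField.mem_adjoin_simple_self k' _
    letI : Algebra k⟮x⟯ E :=
      ((algebraMap k⟮x⟯ K').codRestrict E (fun z => hle z.2)).toAlgebra
    haveI : IsScalarTower k⟮x⟯ E K' := IsScalarTower.of_algebraMap_eq (fun _ => rfl)
    exact Module.Finite.of_restrictScalars_finite k⟮x⟯ E K'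

end S11006aux

namespace Groth.Agent.S11006

/-- For `K/k` a geometric function field of one variable and `k'/k` finite, the field `K' = k' ⊗_k K` is
a geometric function field of one variable over `k'`: some element of `K'` is transcendental over
`k'` with `K'` of finite degree over the subfield it generates over `k'`, `k'` is algebraically
closed in `K'`, and `K'` stays a field after tensoring over `k'` with any finite field extension of
`k'`. -/
theorem result (k k' : Type u) (K K' : Type v) [Field k] [Field k'] [Field K] [Field K']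
    [Algebra k k'] [FiniteDimensional k k'] [Algebra k K] [Algebra K K'] [Algebra k' K'] [Algebra k K']
    [IsScalarTower k k' K'] [IsScalarTower k K K']
    (h : Function.Bijective (Algebra.TensorProduct.productMap
      (IsScalarTower.toAlgHom k k' K') (IsScalarTower.toAlgHom k K K')))
    (hK : FunFld.IsFunctionField k K) (hg : FunFld.IsGeometric k K) :
    FunFld.IsFunctionField k' K' ∧ FunFld.IsGeometric k' K' := by
  have hgeo := S11006aux.geom h hg
  refine ⟨⟨?_, fun y hy => S11006aux.algClosed_of_geometric hgeo y hy⟩, hgeo⟩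
  obtain ⟨⟨x, hx, hfin⟩, _⟩ := hK
  exact ⟨algebraMap K K' x, S11006aux.funField h x hx hfin⟩

end Groth.Agent.S11006
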