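import Groth.Statements.S12614
import Mathlib
import Groth.Prelude.Def_W4bk4goldsch45p2
import Groth.Agent.Lib.Helper9.FFExt.MapDiv
-- import your own Groth.Agent.* helpers here

set_option autoImplicit false
open FunFld

namespace Groth.Agent.S12614

open FunFld
namespace Aux
open Groth.Agent.Helper9.FFExt WithZero
open Groth.Agent.Lib.Helper4.FF

theorem main
    (k K : Type*) [Field k] [IsAlgClosed k] [Field K] [Algebra k K]
    (hK : FunFld.IsFunctionField k K) {n : ℕ} (φ : Fin (n + 1) → K) (hφ : LinearIndependent k φ)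
    (τ : K →ₐ[k] K) (s : K) (Hs : K →ₐ[k] PowerSeries K) (hHs : LocRes.IsHasseFamily s Hs)
    (t : K) (Ht : K →ₐ[k] PowerSeries K) (hHt : LocRes.IsHasseFamily t Ht)
    (J : Fin n → ℕ) (hJ : FunFld.IsOrders K (FunFld.hcol τ Hs φ) J)
    (A : Matrix (Fin (n + 1)) (Fin (n + 1)) k) (hA : A.det ≠ 0) (y : K) (hy : y ≠ 0)
    (φ' : Fin (n + 1) → K) (hφ' : ∀ i, φ' i = y * ∑ j, A i j • φ j)
    (Φ : FunFld.Place k K → (K →ₐ[k] LaurentSeries k))
    (hΦ : ∀ P : FunFld.Place k K, LocRes.IsExpansionAt P.1 (Φ P)) :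
    FunFld.wDiv τ Ht Φ t φ' J = FunFld.wDiv τ Hs Φ s φ J := by
  classical
  have hKw := isFFw_of_isFunctionField hK
  have hg := isGeometric_of_isAlgClosed k K
  obtain ⟨ψ, hψ⟩ : ∃ ψ : Fin (n + 1) → K, ψ = fun i => ∑ j, A i j • φ j := ⟨_, rfl⟩
  have hψi : ∀ i, ψ i = ∑ j, A i j • φ j := fun i => by rw [hψ]
  have hφ'eq : φ' = y • ψ := by
    funext i
    rw [hφ' i, Pi.smul_apply, smul_eq_mul, hψi]
  have hψli : LinearIndependent k ψ := ne_zero_of_matrix φ ψ hφ A hA hψi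
  have hlin := linear_change τ Hs φ A hA ψ hψi
  have hJψ : IsOrders K (hcol τ Hs ψ) J := (hlin.1 J).mpr hJ
  have hsm := smul_change hHs τ ψ hψli y hy
  have hJφ's : IsOrders K (hcol τ Hs (y • ψ)) J := (hsm.1 J).mpr hJψ
  have hyψli : LinearIndependent k (y • ψ) := by
    have := hψli.map' (LinearMap.mulLeft k y) (by
      rw [LinearMap.ker_eq_bot]
      intro a b hab
      exact mul_left_cancel₀ hy hab)
    exact this
  have hvar := var_change hKw hg hHs hHt τ (y • ψ) hyψli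
  have hdet : (wrMat τ Ht φ' J).det = LocRes.hasseD Ht 1 s ^ (∑ l, J l) *
      (τ y * y ^ n * (algebraMap k K A.det * (wrMat τ Hs φ J).det)) := by
    rw [hφ'eq, hvar.2 J hJφ's, hsm.2 J hJψ, hlin.2 J]
  -- nonvanishing
  have h1ne := hasseD_one_ne_zero hKw hg hHs hHt
  have hτy : τ y ≠ 0 := by
    intro h
    apply hy
    apply (τ : K →+* K).injective
    rw [map_zero]
    exact h
  have hAne : algebraMap k K A.det ≠ 0 := by
    intro h
    exact hA ((map_eq_zero_iff _ (algebraMap k K).injective).mp h)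
  have hWne := det_wrMat_ne_zero' hφ τ Hs hJ
  -- tuples
  have hτφli : LinearIndependent k (⇑τ ∘ φ) := by
    have := hφ.map' τ.toLinearMap (by
      rw [LinearMap.ker_eq_bot]
      exact (τ : K →+* K).injective)
    exact this
  have hτψ : ∀ i, (⇑τ ∘ ψ) i = ∑ j, A i j • (⇑τ ∘ φ) j := by
    intro i
    simp only [Function.comp_apply, hψi, map_sum, map_smul]
  have hτψli := ne_zero_of_matrix (⇑τ ∘ φ) (⇑τ ∘ ψ) hτφli A hA hτψ
  have hτφ' : (⇑τ ∘ φ') = fun i => τ y * (⇑τ ∘ ψ) i := by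
    funext i
    simp only [Function.comp_apply, hφ'eq, Pi.smul_apply, smul_eq_mul, map_mul]
  have hφ'fun : φ' = fun i => y * ψ i := by
    rw [hφ'eq]
    rfl
  ext P
  unfold FunFld.wDiv
  simp only [Finsupp.add_apply, Finsupp.smul_apply, div_apply hK, mapDiv_apply hK,
    divDiff_apply hK (D_ne_zero_of_hasse hHt) Φ hΦ P, divDiff_apply hK (D_ne_zero_of_hasse hHs) Φ hΦ P]
  -- order of the determinant
  have hord : P.ord (wrMat τ Ht φ' J).det = (∑ l, J l : ℕ) * P.ord (LocRes.hasseD Ht 1 s) +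
      (P.ord (τ y) + n * P.ord y + P.ord (wrMat τ Hs φ J).det) := by
    rw [hdet, Place.ord_mul P (pow_ne_zero _ h1ne)
      (mul_ne_zero (mul_ne_zero hτy (pow_ne_zero _ hy)) (mul_ne_zero hAne hWne)),
      Place.ord_pow, Place.ord_mul P (mul_ne_zero hτy (pow_ne_zero _ hy)) (mul_ne_zero hAne hWne),
      Place.ord_mul P hτy (pow_ne_zero _ hy), Place.ord_pow, Place.ord_mul P hAne hWne,
      Place.ord_k]
    ring
  have hinf1 : Finset.univ.inf' Finset.univ_nonempty (fun i => P.ord ((⇑τ ∘ φ') i)) =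
      P.ord (τ y) + Finset.univ.inf' Finset.univ_nonempty (fun i => P.ord ((⇑τ ∘ φ) i)) := by
    rw [hτφ']
    rw [inf_ord_smul (⇑τ ∘ ψ) (fun i => hτψli.ne_zero i) (τ y) hτy P,
      inf_ord_matrix (⇑τ ∘ φ) (⇑τ ∘ ψ) hτφli A hA hτψ P]
  have hinf2 : Finset.univ.inf' Finset.univ_nonempty (fun i => P.ord (φ' i)) =
      P.ord y + Finset.univ.inf' Finset.univ_nonempty (fun i => P.ord (φ i)) := by
    rw [hφ'fun]
    rw [inf_ord_smul ψ (fun i => hψli.ne_zero i) y hy P, inf_ord_matrix φ ψ hφ A hA hψi P]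
  have hdiff : LocRes.ordDiff (Φ P) 1 t = -P.ord (LocRes.hasseD Ht 1 s) + LocRes.ordDiff (Φ P) 1 s := by
    have hrel := D_eq_hasseD_smul hKw hg hHs t
    rw [ordDiff_rel (Φ P) hrel (vDiff_ne_zero_of_D_ne_zero hKw hg P (Φ P) (hΦ P)
      (D_ne_zero_of_hasse hHt)), (hΦ P).1]
    have hmul := hasseD_one_mul hKw hg hHs hHt
    have hst : LocRes.hasseD Hs 1 t ≠ 0 := left_ne_zero_of_mul_eq_one hmul
    have h2 : P.ord (LocRes.hasseD Hs 1 t) + P.ord (LocRes.hasseD Ht 1 s) = 0 := by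
      rw [← Place.ord_mul P hst h1ne, hmul, Place.ord_one]
    have h3 : -log (P.1 (LocRes.hasseD Hs 1 t)) = P.ord (LocRes.hasseD Hs 1 t) := rfl
    rw [h3]
    omega
  rw [hord, hinf1, hinf2, hdiff]
  push_cast
  ring

end Aux

/-- Over an algebraically closed constant field, the Weierstrass divisor `W_s(φ, τ) = [w_s(φ, τ)] +
[τ(φ)] + n[φ] + j(φ, τ)[ds]` does not depend on the separating variable `s` and does not change when
`φ` is replaced by an equivalent map `y · Aφ` (`A` invertible over `k`, `y ≠ 0`). Divisors of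
differentials are read through a fixed family of Laurent expansions. -/
theorem result
    (k K : Type*) [Field k] [IsAlgClosed k] [Field K] [Algebra k K]
    (hK : FunFld.IsFunctionField k K) {n : ℕ} (φ : Fin (n + 1) → K) (hφ : LinearIndependent k φ)
    (τ : K →ₐ[k] K) (s : K) (Hs : K →ₐ[k] PowerSeries K) (hHs : LocRes.IsHasseFamily s Hs)
    (t : K) (Ht : K →ₐ[k] PowerSeries K) (hHt : LocRes.IsHasseFamily t Ht)
    (J : Fin n → ℕ) (hJ : FunFld.IsOrders K (FunFld.hcol τ Hs φ) J)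
    (A : Matrix (Fin (n + 1)) (Fin (n + 1)) k) (hA : A.det ≠ 0) (y : K) (hy : y ≠ 0)
    (φ' : Fin (n + 1) → K) (hφ' : ∀ i, φ' i = y * ∑ j, A i j • φ j)
    (Φ : FunFld.Place k K → (K →ₐ[k] LaurentSeries k))
    (hΦ : ∀ P : FunFld.Place k K, LocRes.IsExpansionAt P.1 (Φ P)) :
    FunFld.wDiv τ Ht Φ t φ' J = FunFld.wDiv τ Hs Φ s φ J := by
  exact Aux.main k K hK φ hφ τ s Hs hHs t Ht hHt J hJ A hA y hy φ' hφ' Φ hΦ

end Groth.Agent.S12614
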