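import Groth.Statements.S12608
import Mathlib
import Groth.Prelude.Def_W4bk4goldsch45p2
import Groth.Agent.Lib.Helper9.FFExt.LocalOrd4
-- import your own Groth.Agent.* helpers here

set_option autoImplicit false
open FunFld

namespace Groth.Agent.S12608

open FunFld
namespace Aux
open Groth.Agent.Helper9.FFExt WithZero
open Groth.Agent.Lib.Helper4.FF

theorem det_wrMat_ne_zero {k K : Type*} [Field k] [Field K] [Algebra k K] {n : ℕ}
    {φ : Fin (n + 1) → K} (hφ : LinearIndependent k φ) (τ : K →ₐ[k] K)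
    (H : K →ₐ[k] PowerSeries K) {J : Fin n → ℕ} (hJ : IsOrders K (hcol τ H φ) J) :
    (wrMat τ H φ J).det ≠ 0 := by
  rw [det_wrMat]
  have hli := Jump.linearIndependent_eJ (hcol τ H φ) hJ (hcol_zero_ne_zero hφ τ H)
  have hunit : IsUnit (Matrix.of (fun r => hcol τ H φ (Jump.eJ J r))) :=
    Matrix.linearIndependent_rows_iff_isUnit.mp hli
  exact ((Matrix.isUnit_iff_isUnit_det _).mp hunit).ne_zero

theorem main
    (k K : Type*) [Field k] [IsAlgClosed k] [Field K] [Algebra k K]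
    (hK : FunFld.IsFunctionField k K) (P : FunFld.Place k K) {n : ℕ} (φ : Fin (n + 1) → K) (hφ : LinearIndependent k φ)
    (heff : (1 : K) ∈ Submodule.span k (Set.range φ)) (hnorm : ∀ i, P.1 (φ i) ≤ 1)
    (t : K) (ht : P.1 t = WithZero.exp (-1))
    (Ht : K →ₐ[k] PowerSeries K) (hHt : LocRes.IsHasseFamily t Ht)
    (J : Fin n → ℕ) (hJ : FunFld.IsOrders K (FunFld.hcol (AlgHom.id k K) Ht φ) J)
    (J' : Fin n → ℕ) (hJ' : FunFld.IsOrders (IsLocalRing.ResidueField P.O) (FunFld.hcolAt P Ht φ) J')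
    (Φ : FunFld.Place k K → (K →ₐ[k] LaurentSeries k))
    (hΦ : ∀ P : FunFld.Place k K, LocRes.IsExpansionAt P.1 (Φ P)) :
    (∀ l, J l ≤ J' l) ∧
    ((∀ l, J' l = J l) ↔ FunFld.evalP P (FunFld.wrMat (AlgHom.id k K) Ht φ J).det ≠ 0) ∧
    ((∀ l, J' l = J l) ↔ FunFld.wDiv (AlgHom.id k K) Ht Φ t φ J P = 0) := by
  classical
  obtain ⟨E⟩ := exists_hasseExp hK (isGeometric_of_isAlgClosed k K) P (Place.deg_eq_one hK P) t ht Ht hHt
  have hint : ∀ (I : Fin n → ℕ) (i c : Fin (n + 1)), P.1 (wrMat (AlgHom.id k K) Ht φ I i c) ≤ 1 := by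
    intro I i c
    refine Fin.cases ?_ (fun l => ?_) c
    · exact hnorm i
    · exact E.hasseD_le (hnorm i) (I l)
  have heval : ∀ I : Fin n → ℕ, evalP P (wrMat (AlgHom.id k K) Ht φ I).det =
      (Matrix.of fun r => hcolAt P Ht φ (Jump.eJ I r)).det := by
    intro I
    rw [(evalP_det _ (hint I)).2, ← Matrix.det_transpose]
    congr 1
    ext r i
    refine Fin.cases ?_ (fun l => ?_) r <;> rfl
  have ha0 := acol_zero_ne_zero E φ heff
  have h0 : hcolAt P Ht φ 0 ≠ 0 := by
    intro h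
    apply ha0
    funext i
    have h1 := congrFun h i
    rw [hcolAt_eq E φ hnorm] at h1
    exact (map_eq_zero_iff _ (residue_bijective E).injective).mp h1
  obtain ⟨i₀, hi₀⟩ : ∃ i, P.1 (φ i) = 1 := by
    by_contra hcon
    push Not at hcon
    apply h0
    funext i
    change evalP P (φ i) = 0
    rw [evalP_eq_zero_iff (hnorm i)]
    exact lt_of_le_of_ne (hnorm i) (hcon i)
  have hdet_of_li : ∀ I : Fin n → ℕ,
      LinearIndependent (IsLocalRing.ResidueField P.O) (fun r => hcolAt P Ht φ (Jump.eJ I r)) ↔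
        evalP P (wrMat (AlgHom.id k K) Ht φ I).det ≠ 0 := by
    intro I
    rw [heval I]
    have := Matrix.linearIndependent_rows_iff_isUnit
      (A := Matrix.of fun r => hcolAt P Ht φ (Jump.eJ I r))
    rw [Matrix.isUnit_iff_isUnit_det, isUnit_iff_ne_zero] at this
    exact this
  have hliJ' := Jump.linearIndependent_eJ _ hJ' h0
  have hdetJ' : (wrMat (AlgHom.id k K) Ht φ J').det ≠ 0 := by
    intro h
    have := (hdet_of_li J').mp hliJ'
    rw [h, evalP_of_le (by rw [map_zero]; exact zero_le_one)] at this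
    apply this
    exact map_zero _
  have hle : ∀ l, J l ≤ J' l := fun l => isOrders_le (AlgHom.id k K) hJ hJ'.1 hdetJ' l
  have hiff : (∀ l, J' l = J l) ↔ evalP P (wrMat (AlgHom.id k K) Ht φ J).det ≠ 0 := by
    constructor
    · intro h
      have : J' = J := funext h
      rw [← this]
      exact (hdet_of_li J').mp hliJ'
    · intro h l
      have hli := (hdet_of_li J).mpr h
      exact le_antisymm (Jump.orders_le _ hJ' hJ.1 hli l) (hle l)
  refine ⟨hle, hiff, ?_⟩
  rw [hiff]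
  have hdetJ := det_wrMat_ne_zero hφ (AlgHom.id k K) Ht hJ
  have hdle := (evalP_det _ (hint J)).1
  have hw : wDiv (AlgHom.id k K) Ht Φ t φ J P = P.ord (wrMat (AlgHom.id k K) Ht φ J).det := by
    unfold FunFld.wDiv
    rw [Finsupp.add_apply, Finsupp.add_apply, Finsupp.add_apply, Finsupp.smul_apply,
      Finsupp.smul_apply, div_apply hK, divDiff_apply_eq_zero Φ (hΦ P) t ht,
      mapDiv_apply_eq_zero φ hnorm i₀ hi₀,
      mapDiv_apply_eq_zero (⇑(AlgHom.id k K) ∘ φ) hnorm i₀ hi₀]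
    simp
  rw [hw, evalP_ne_zero_iff hdle]
  constructor
  · intro h
    exact ord_eq_zero_of_eq_one h
  · intro h
    rw [Place.val_eq_exp_neg_ord P hdetJ, h]
    simp

end Aux

/-- Over an algebraically closed constant field, let `φ = (φ₀, …, φₙ)` be an effective projective map
normalized at the place `P`, `t` a local parameter at `P`, `j₁, …, jₙ` the orders of `φ` and `j'₁,
…, j'ₙ` the orders of `φ` at `P`. Then `jₗ ≤ j'ₗ` for all `l`, and the following are equivalent: all
`j'ₗ = jₗ`; the Wronskian `w_t(φ)` does not vanish at `P`; the Weierstrass divisor `W(φ)` has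
coefficient `0` at `P` (the divisor of `dt` in it read through a family of Laurent expansions). -/
theorem result
    (k K : Type*) [Field k] [IsAlgClosed k] [Field K] [Algebra k K]
    (hK : FunFld.IsFunctionField k K) (P : FunFld.Place k K) {n : ℕ} (φ : Fin (n + 1) → K) (hφ : LinearIndependent k φ)
    (heff : (1 : K) ∈ Submodule.span k (Set.range φ)) (hnorm : ∀ i, P.1 (φ i) ≤ 1)
    (t : K) (ht : P.1 t = WithZero.exp (-1))
    (Ht : K →ₐ[k] PowerSeries K) (hHt : LocRes.IsHasseFamily t Ht)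
    (J : Fin n → ℕ) (hJ : FunFld.IsOrders K (FunFld.hcol (AlgHom.id k K) Ht φ) J)
    (J' : Fin n → ℕ) (hJ' : FunFld.IsOrders (IsLocalRing.ResidueField P.O) (FunFld.hcolAt P Ht φ) J')
    (Φ : FunFld.Place k K → (K →ₐ[k] LaurentSeries k))
    (hΦ : ∀ P : FunFld.Place k K, LocRes.IsExpansionAt P.1 (Φ P)) :
    (∀ l, J l ≤ J' l) ∧
    ((∀ l, J' l = J l) ↔ FunFld.evalP P (FunFld.wrMat (AlgHom.id k K) Ht φ J).det ≠ 0) ∧
    ((∀ l, J' l = J l) ↔ FunFld.wDiv (AlgHom.id k K) Ht Φ t φ J P = 0) := by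
  exact Aux.main k K hK P φ hφ heff hnorm t ht Ht hHt J hJ J' hJ' Φ hΦ

end Groth.Agent.S12608
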