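import Groth.Statements.S12615
import Mathlib
import Groth.Prelude.Def_W4bk4goldsch45p2
import Groth.Agent.Lib.Helper9.FFExt.LocalOrd6
import Groth.Agent.S12605
import Groth.Agent.S12608
-- import your own Groth.Agent.* helpers here

set_option autoImplicit false
open FunFld

namespace Groth.Agent.S12615

open FunFld
namespace Aux
open Groth.Agent.Helper9.FFExt WithZero
open Groth.Agent.Lib.Helper4.FF

theorem main
    (k K : Type*) [Field k] [IsAlgClosed k] [Field K] [Algebra k K]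
    (hK : FunFld.IsFunctionField k K) (τ : K →ₐ[k] K) (P : FunFld.Place k K) (hP : FunFld.IsFixedPt τ P)
    {n : ℕ} (φ : Fin (n + 1) → K) (hφ : LinearIndependent k φ)
    (heff : (1 : K) ∈ Submodule.span k (Set.range φ)) (hnorm : ∀ i, P.1 (φ i) ≤ 1)
    (t : K) (ht : P.1 t = WithZero.exp (-1))
    (Ht : K →ₐ[k] PowerSeries K) (hHt : LocRes.IsHasseFamily t Ht)
    (J : Fin n → ℕ) (hJ : FunFld.IsOrders K (FunFld.hcol τ Ht φ) J)
    (J' : Fin n → ℕ) (hJ' : FunFld.IsOrders (IsLocalRing.ResidueField P.O) (FunFld.hcolAt P Ht φ) J')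
    (Φ : FunFld.Place k K → (K →ₐ[k] LaurentSeries k))
    (hΦ : ∀ P : FunFld.Place k K, LocRes.IsExpansionAt P.1 (Φ P)) :
    (∑ l, ((J' l : ℤ) - J l)) ≤ FunFld.wDiv τ Ht Φ t φ J P ∧
    ((τ = AlgHom.id k K ∨ FunFld.IsStrongFixedPt τ P) →
      (FunFld.wDiv τ Ht Φ t φ J P = ∑ l, ((J' l : ℤ) - J l) ↔ (FunFld.binomMat k J' J).det ≠ 0)) := by
  classical
  obtain ⟨E⟩ := exists_hasseExp hK (isGeometric_of_isAlgClosed k K) P (Place.deg_eq_one hK P) t ht Ht hHt
  have hloc := Groth.Agent.S12605.Aux.main k K hK τ P hP φ heff hnorm t ht Ht hHt J' hJ' J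
  have hdetJ := Groth.Agent.S12608.Aux.det_wrMat_ne_zero hφ τ Ht hJ
  -- some entry is a unit at `P`
  have ha0 := acol_zero_ne_zero E φ heff
  obtain ⟨i₀, hi₀⟩ : ∃ i, P.1 (φ i) = 1 := by
    by_contra hcon
    push Not at hcon
    apply ha0
    funext i
    have h1 : evalP P (φ i) = 0 := by
      rw [evalP_eq_zero_iff (hnorm i)]
      exact lt_of_le_of_ne (hnorm i) (hcon i)
    rw [E.evalP_eq (hnorm i)] at h1
    exact (map_eq_zero_iff _ (residue_bijective E).injective).mp h1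
  have hτnorm : ∀ i, P.1 ((⇑τ ∘ φ) i) ≤ 1 := fun i => (fixedPt_integral E hP (hnorm i)).1
  have hτi₀ : P.1 ((⇑τ ∘ φ) i₀) = 1 := by
    have h1 : evalP P (τ (φ i₀)) ≠ 0 := by
      rw [evalP_fixedPt E hP (hnorm i₀), evalP_ne_zero_iff (hnorm i₀)]
      exact hi₀
    exact (evalP_ne_zero_iff (hτnorm i₀)).mp h1
  have hw : wDiv τ Ht Φ t φ J P = P.ord (wrMat τ Ht φ J).det := by
    unfold FunFld.wDiv
    rw [Finsupp.add_apply, Finsupp.add_apply, Finsupp.add_apply, Finsupp.smul_apply,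
      Finsupp.smul_apply, div_apply hK, divDiff_apply_eq_zero Φ (hΦ P) t ht,
      mapDiv_apply_eq_zero φ hnorm i₀ hi₀,
      mapDiv_apply_eq_zero (⇑τ ∘ φ) hτnorm i₀ hτi₀]
    simp
  rw [hw]
  have hval := Place.val_eq_exp_neg_ord P hdetJ
  refine ⟨?_, fun hcase => ?_⟩
  · have h1 := hloc.1
    rw [hval, exp_le_exp] at h1
    omega
  · have hcase' : (∀ l, 0 < J l) ∨ IsStrongFixedPt τ P := by
      rcases hcase with rfl | hs
      · left
        intro l
        apply Nat.pos_of_ne_zero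
        intro h0
        have h1 : IsJump K (hcol (AlgHom.id k K) Ht φ) (0 + 1) := (hJ.2 0).mp ⟨l, h0⟩
        rw [zero_add, Jump.isJump_one_iff] at h1
        apply h1 1
        rw [one_smul]
        funext i
        change φ i = LocRes.hasseD Ht 0 (φ i)
        rw [hasseD_zero hHt]
      · exact Or.inr hs
    rw [← hloc.2 hcase', hval, exp_inj]
    constructor
    · intro h
      rw [h]
    · intro h
      exact neg_injective h

end Aux

/-- Over an algebraically closed constant field, let `P` be a fixed point of the `k`-endomorphism `τ`,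
`φ` an effective projective map normalized at `P` with `τ`-orders `j₁, …, jₙ` and orders `j'₁, …,
j'ₙ` at `P`. Then the coefficient of the Weierstrass divisor `W(φ, τ)` at `P` is at least `Σ (j'ₗ -
jₗ)`; if `τ = 1` or `P` is a strong fixed point, it equals `Σ (j'ₗ - jₗ)` exactly when the matrix of
binomial coefficients `(j'_r choose j_s)`, read in `k`, has nonzero determinant. The divisor of `dt`
in `W` is read through a family of Laurent expansions. -/
theorem result
    (k K : Type*) [Field k] [IsAlgClosed k] [Field K] [Algebra k K]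
    (hK : FunFld.IsFunctionField k K) (τ : K →ₐ[k] K) (P : FunFld.Place k K) (hP : FunFld.IsFixedPt τ P)
    {n : ℕ} (φ : Fin (n + 1) → K) (hφ : LinearIndependent k φ)
    (heff : (1 : K) ∈ Submodule.span k (Set.range φ)) (hnorm : ∀ i, P.1 (φ i) ≤ 1)
    (t : K) (ht : P.1 t = WithZero.exp (-1))
    (Ht : K →ₐ[k] PowerSeries K) (hHt : LocRes.IsHasseFamily t Ht)
    (J : Fin n → ℕ) (hJ : FunFld.IsOrders K (FunFld.hcol τ Ht φ) J)
    (J' : Fin n → ℕ) (hJ' : FunFld.IsOrders (IsLocalRing.ResidueField P.O) (FunFld.hcolAt P Ht φ) J')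
    (Φ : FunFld.Place k K → (K →ₐ[k] LaurentSeries k))
    (hΦ : ∀ P : FunFld.Place k K, LocRes.IsExpansionAt P.1 (Φ P)) :
    (∑ l, ((J' l : ℤ) - J l)) ≤ FunFld.wDiv τ Ht Φ t φ J P ∧
    ((τ = AlgHom.id k K ∨ FunFld.IsStrongFixedPt τ P) →
      (FunFld.wDiv τ Ht Φ t φ J P = ∑ l, ((J' l : ℤ) - J l) ↔ (FunFld.binomMat k J' J).det ≠ 0)) := by
  exact Aux.main k K hK τ P hP φ hφ heff hnorm t ht Ht hHt J hJ J' hJ' Φ hΦ

end Groth.Agent.S12615
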