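import Groth.Statements.S12610
import Mathlib
import Groth.Prelude.Def_W4bk4goldsch45p2
import Groth.Agent.Lib.Helper9.FFExt.LocalOrd8
import Groth.Agent.S12605
import Groth.Agent.S12614
import Groth.Agent.S12615
-- import your own Groth.Agent.* helpers here

set_option autoImplicit false
open FunFld

namespace Groth.Agent.S12610

open FunFld
namespace Aux
open Groth.Agent.Helper9.FFExt WithZero
open Groth.Agent.Lib.Helper4.FF

theorem vDiff_param {k K : Type*} [Field k] [Field K] [Algebra k K] (P : Place k K)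
    (φ : K →ₐ[k] LaurentSeries k) (hφ : LocRes.IsExpansionAt P.1 φ) (t : K)
    (ht : P.1 t = exp (-1 : ℤ)) : LocRes.vDiff φ 1 t ≠ 0 := by
  rw [vDiff_one]
  have h1 : Valued.v (φ t) = exp (-(1 : ℤ)) := by rw [hφ.1, ht]
  rw [val_eq_exp_iff] at h1
  have h2 : Valued.v (LocRes.D k (φ t)) = exp (-(0 : ℤ)) := by
    rw [val_eq_exp_iff]
    refine ⟨fun m hm => ?_, ?_⟩
    · rw [LocRes.D_coeff, h1.1 (m + 1) (by omega), smul_zero]
    · rw [LocRes.D_coeff, zero_add, one_smul]
      exact h1.2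
  rw [h2]
  exact exp_ne_zero

theorem main
    (k K : Type*) [Field k] [IsAlgClosed k] [Field K] [Algebra k K]
    (hK : FunFld.IsFunctionField k K) {n : ℕ} (φ : Fin (n + 1) → K) (hφ : LinearIndependent k φ)
    (h0 : φ 0 ≠ 0) (hbir : IntermediateField.adjoin k (Set.range fun i => φ i / φ 0) = ⊤)
    (τ : K →ₐ[k] K) (hτ : τ ≠ AlgHom.id k K) (P : FunFld.Place k K) (hP : FunFld.IsFixedPt τ P)
    (s : K) (H : K →ₐ[k] PowerSeries K) (hH : LocRes.IsHasseFamily s H)
    (J : Fin n → ℕ) (hJ : FunFld.IsOrders K (FunFld.hcol τ H φ) J)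
    (Φ : FunFld.Place k K → (K →ₐ[k] LaurentSeries k))
    (hΦ : ∀ P : FunFld.Place k K, LocRes.IsExpansionAt P.1 (Φ P)) :
    0 < FunFld.wDiv τ H Φ s φ J P := by
  classical
  have hKw := isFFw_of_isFunctionField hK
  have hg := isGeometric_of_isAlgClosed k K
  -- `n ≥ 1`
  have hn : 0 < n := by
    by_contra hn0
    have hn0' : n = 0 := by omega
    subst hn0'
    obtain ⟨⟨x, hxt, -⟩, -⟩ := hK
    have hx : x ∈ (⊤ : IntermediateField k K) := IntermediateField.mem_top
    rw [← hbir] at hx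
    have hle : IntermediateField.adjoin k (Set.range fun i : Fin 1 => φ i / φ 0) ≤ ⊥ := by
      rw [IntermediateField.adjoin_le_iff]
      rintro _ ⟨i, rfl⟩
      have : i = 0 := Subsingleton.elim _ _
      rw [this]
      change φ 0 / φ 0 ∈ (⊥ : IntermediateField k K)
      rw [div_self h0]
      exact one_mem _
    have := hle hx
    rw [IntermediateField.mem_bot] at this
    obtain ⟨c, rfl⟩ := this
    exact hxt (isAlgebraic_algebraMap c)
  -- local parameter and its Hasse family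
  obtain ⟨t, ht⟩ := Place.exists_uniformizer P
  have hDt : KaehlerDifferential.D k K t ≠ 0 := D_ne_zero_of_vDiff (Φ P) (vDiff_param P (Φ P) (hΦ P) t ht)
  have htt := transcendental_of_D_ne_zero hK hDt
  obtain ⟨Ht, hHt⟩ := exists_hasse hKw hg hDt htt
  obtain ⟨E⟩ := exists_hasseExp hK hg P (Place.deg_eq_one hK P) t ht Ht hHt
  -- normalization
  obtain ⟨i₀, -, hi₀⟩ := Finset.exists_max_image Finset.univ (fun i => P.1 (φ i)) Finset.univ_nonempty
  have hφi₀ : φ i₀ ≠ 0 := hφ.ne_zero i₀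
  obtain ⟨y, hy⟩ : ∃ y : K, y = (φ i₀)⁻¹ := ⟨_, rfl⟩
  have hy0 : y ≠ 0 := by rw [hy]; exact inv_ne_zero hφi₀
  obtain ⟨φ', hφ'⟩ : ∃ φ' : Fin (n + 1) → K, φ' = y • φ := ⟨_, rfl⟩
  have hφ'i : ∀ i, φ' i = y * φ i := fun i => by rw [hφ']; rfl
  have hφ'def : ∀ i, φ' i = y * ∑ j, (1 : Matrix (Fin (n + 1)) (Fin (n + 1)) k) i j • φ j := by
    intro i
    rw [hφ'i]
    congr 1
    simp only [Matrix.one_apply, ite_smul, one_smul, zero_smul]
    rw [Finset.sum_ite_eq]
    simp
  have hW := Groth.Agent.S12614.Aux.main k K hK φ hφ τ s H hH t Ht hHt J hJ 1 (by simp) y hy0 φ'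
    hφ'def Φ hΦ
  rw [← hW]
  have hφ'li : LinearIndependent k φ' := by
    have := hφ.map' (LinearMap.mulLeft k y) (by
      rw [LinearMap.ker_eq_bot]
      intro a b hab
      exact mul_left_cancel₀ hy0 hab)
    rw [hφ']
    exact this
  have hnorm : ∀ i, P.1 (φ' i) ≤ 1 := by
    intro i
    rw [hφ'i, hy, map_mul, map_inv₀, inv_mul_le_iff₀ (by
      rw [pos_iff_ne_zero, Valuation.ne_zero_iff]; exact hφi₀), mul_one]
    exact hi₀ i (Finset.mem_univ i)
  have heff : (1 : K) ∈ Submodule.span k (Set.range φ') := by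
    apply Submodule.subset_span
    refine ⟨i₀, ?_⟩
    rw [hφ'i, hy, inv_mul_cancel₀ hφi₀]
  have hJ't : IsOrders K (hcol τ Ht φ') J := by
    have h1 : IsOrders K (hcol τ H (y • φ)) J := ((smul_change hH τ φ hφ y hy0).1 J).mpr hJ
    rw [hφ']
    have hli : LinearIndependent k (y • φ) := by rw [← hφ']; exact hφ'li
    exact ((var_change hKw hg hH hHt τ (y • φ) hli).1 J).mpr h1
  obtain ⟨J', hJ'⟩ := exists_local_orders E φ' hφ'li heff hnorm
  have h15 := Groth.Agent.S12615.Aux.main k K hK τ P hP φ' hφ'li heff hnorm t ht Ht hHt J hJ't J' hJ'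
    Φ hΦ
  suffices hpos : 0 < ∑ l, ((J' l : ℤ) - J l) by
    exact lt_of_lt_of_le hpos h15.1
  -- local orders are positive
  have hJ'k := (isOrders_hcolAt_iff E φ' hnorm J').mp hJ'
  have hJ'pos : ∀ l, 0 < J' l := fun l =>
    Nat.pos_of_ne_zero ((mem_range_iff_isJump_acol E φ' heff hJ'k (J' l)).mp ⟨l, rfl⟩).2
  -- `J ≤ J'`
  have h05 := Groth.Agent.S12605.Aux.main k K hK τ P hP φ' heff hnorm t ht Ht hHt J' hJ' J'
  have hdetne : (wrMat τ Ht φ' J').det ≠ 0 := by
    have h1 := (h05.2 (Or.inl hJ'pos)).mpr (by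
      rw [det_binomMat_self k J' hJ'.1]
      exact one_ne_zero)
    intro h0
    rw [h0, map_zero] at h1
    exact exp_ne_zero h1.symm
  have hle : ∀ l, J l ≤ J' l := fun l => isOrders_le τ hJ't hJ'.1 hdetne l
  -- the first `τ`-order is `0`
  have hφ'0 : φ' 0 ≠ 0 := hφ'li.ne_zero 0
  have hbir' : IntermediateField.adjoin k (Set.range fun i => φ' i / φ' 0) = ⊤ := by
    have : (fun i => φ' i / φ' 0) = fun i => φ i / φ 0 := by
      funext i
      rw [hφ'i, hφ'i, mul_div_mul_left _ _ hy0]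
    rw [this]
    exact hbir
  have hjump1 : IsJump K (hcol τ Ht φ') (0 + 1) := by
    by_contra h
    exact hτ ((not_isJump_one_iff φ' hφ'0 hbir' τ hHt).mp h)
  obtain ⟨l₀, hl₀⟩ := (hJ't.2 0).mpr hjump1
  have hJ0 : J ⟨0, hn⟩ = 0 := by
    have := hJ't.1.monotone (show (⟨0, hn⟩ : Fin n) ≤ l₀ from Fin.mk_le_of_le_val (Nat.zero_le _))
    omega
  have hterm : ∀ l ∈ Finset.univ, (0 : ℤ) ≤ (J' l : ℤ) - J l := by
    intro l _
    have := hle l
    omega
  have h1 := Finset.single_le_sum hterm (Finset.mem_univ (⟨0, hn⟩ : Fin n))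
  have h2 := hJ'pos ⟨0, hn⟩
  rw [hJ0] at h1
  omega

end Aux

/-- Over an algebraically closed constant field, for a birational projective map `φ`, a `k`-endomorphism
`τ ≠ 1` and a place `P` fixed by `τ`, the place `P` is a Weierstrass point of `φ` with respect to
`τ`: the Weierstrass divisor `W(φ, τ) = [w_s(φ, τ)] + [τ(φ)] + n[φ] + j(φ, τ)[ds]` has positive
coefficient at `P` (the divisor of `ds` read through a family of Laurent expansions). -/
theorem result
    (k K : Type*) [Field k] [IsAlgClosed k] [Field K] [Algebra k K]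
    (hK : FunFld.IsFunctionField k K) {n : ℕ} (φ : Fin (n + 1) → K) (hφ : LinearIndependent k φ)
    (h0 : φ 0 ≠ 0) (hbir : IntermediateField.adjoin k (Set.range fun i => φ i / φ 0) = ⊤)
    (τ : K →ₐ[k] K) (hτ : τ ≠ AlgHom.id k K) (P : FunFld.Place k K) (hP : FunFld.IsFixedPt τ P)
    (s : K) (H : K →ₐ[k] PowerSeries K) (hH : LocRes.IsHasseFamily s H)
    (J : Fin n → ℕ) (hJ : FunFld.IsOrders K (FunFld.hcol τ H φ) J)
    (Φ : FunFld.Place k K → (K →ₐ[k] LaurentSeries k))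
    (hΦ : ∀ P : FunFld.Place k K, LocRes.IsExpansionAt P.1 (Φ P)) :
    0 < FunFld.wDiv τ H Φ s φ J P := by
  exact Aux.main k K hK φ hφ h0 hbir τ hτ P hP s H hH J hJ Φ hΦ

end Groth.Agent.S12610
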