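import Groth.Statements.S12603
import Mathlib
import Groth.Prelude.Def_W4bk4goldsch45p2
import Groth.Agent.Lib.Helper9.FFExt.LocalOrd8
import Groth.Agent.Lib.Helper9.FFExt.Twist
import Groth.Agent.Lib.Helper9.Tate.ResWeil2
import Groth.Agent.S12605
import Groth.Agent.S12614
import Groth.Agent.S12615
import Groth.Agent.S12610
-- import your own Groth.Agent.* helpers here

set_option autoImplicit false
open FunFld

namespace Groth.Agent.S12603

open FunFld
namespace Aux
open Groth.Agent.Helper9.FFExt WithZero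
open Groth.Agent.Lib.Helper4.FF
open Groth.Agent.Helper9.Tate

/-- the degree of the divisor of a nonzero exact differential -/
theorem deg_divDiff {k K : Type*} [Field k] [IsAlgClosed k] [Field K] [Algebra k K]
    (hK : IsFunctionField k K) {s : K} (hs : KaehlerDifferential.D k K s ≠ 0)
    (Φ : Place k K → (K →ₐ[k] LaurentSeries k))
    (hΦ : ∀ P : Place k K, LocRes.IsExpansionAt P.1 (Φ P)) :
    (divDiff Φ 1 s).deg = 2 * (genus k K : ℤ) - 2 := by
  have hg := isGeometric_of_isAlgClosed k K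
  have hcan := isCanonical_divisor (F := fun _ => k) hK hg hΦ hs (divDiff Φ 1 s)
    (fun P => divDiff_apply hK hs Φ hΦ P)
  exact deg_canonical hK hcan

/-- the determinant of a matrix whose columns other than the first are integral -/
theorem val_det_le {k K : Type*} [Field k] [Field K] [Algebra k K] (P : Place k K) {n : ℕ}
    (M : Matrix (Fin (n + 1)) (Fin (n + 1)) K) (B : WithZero (Multiplicative ℤ))
    (h0 : ∀ i, P.1 (M i 0) ≤ B) (h1 : ∀ i (l : Fin n), P.1 (M i l.succ) ≤ 1) :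
    P.1 M.det ≤ B := by
  classical
  rw [Matrix.det_succ_column_zero]
  apply Valuation.map_sum_le
  intro i _
  rw [map_mul, map_mul, map_pow, Valuation.map_neg, map_one, one_pow, one_mul]
  have h2 : P.1 (M.submatrix i.succAbove Fin.succ).det ≤ 1 :=
    (evalP_det (P := P) _ (fun a b => h1 _ _)).1
  calc P.1 (M i 0) * P.1 (M.submatrix i.succAbove Fin.succ).det ≤ B * 1 := mul_le_mul' (h0 i) h2
    _ = B := mul_one _

theorem nonneg_at
    (k K : Type*) [Field k] [IsAlgClosed k] [Field K] [Algebra k K]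
    (hK : FunFld.IsFunctionField k K) {n : ℕ} (φ : Fin (n + 1) → K) (hφ : LinearIndependent k φ)
    (τ : K →ₐ[k] K) (s : K) (H : K →ₐ[k] PowerSeries K) (hH : LocRes.IsHasseFamily s H)
    (J : Fin n → ℕ) (hJ : FunFld.IsOrders K (FunFld.hcol τ H φ) J)
    (Φ : FunFld.Place k K → (K →ₐ[k] LaurentSeries k))
    (hΦ : ∀ P : FunFld.Place k K, LocRes.IsExpansionAt P.1 (Φ P)) (P : Place k K) :
    0 ≤ FunFld.wDiv τ H Φ s φ J P := by
  classical
  have hKw := isFFw_of_isFunctionField hK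
  have hg := isGeometric_of_isAlgClosed k K
  obtain ⟨t, ht⟩ := Place.exists_uniformizer P
  have hDt : KaehlerDifferential.D k K t ≠ 0 :=
    D_ne_zero_of_vDiff (Φ P) (Groth.Agent.S12610.Aux.vDiff_param P (Φ P) (hΦ P) t ht)
  have htt := transcendental_of_D_ne_zero hK hDt
  obtain ⟨Ht, hHt⟩ := exists_hasse hKw hg hDt htt
  obtain ⟨E⟩ := exists_hasseExp hK hg P (Place.deg_eq_one hK P) t ht Ht hHt
  -- normalization
  obtain ⟨i₀, -, hi₀⟩ := Finset.exists_max_image Finset.univ (fun i => P.1 (φ i)) Finset.univ_nonempty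
  have hφi₀ : φ i₀ ≠ 0 := hφ.ne_zero i₀
  obtain ⟨y, hy⟩ : ∃ y : K, y = (φ i₀)⁻¹ := ⟨_, rfl⟩
  have hy0 : y ≠ 0 := by rw [hy]; exact inv_ne_zero hφi₀
  obtain ⟨φ', hφ'⟩ : ∃ φ' : Fin (n + 1) → K, φ' = y • φ := ⟨_, rfl⟩
  have hφ'i : ∀ i, φ' i = y * φ i := fun i => by rw [hφ']; rfl
  have hφ'def : ∀ i, φ' i = y * ∑ j, (1 : Matrix (Fin (n + 1)) (Fin (n + 1)) k) i j • φ j := by
    intro i
    rw [hφ'i]
    congr 1
    simp only [Matrix.one_apply, ite_smul, one_smul, zero_smul]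
    rw [Finset.sum_ite_eq]
    simp
  have hW := Groth.Agent.S12614.Aux.main k K hK φ hφ τ s H hH t Ht hHt J hJ 1 (by simp) y hy0 φ'
    hφ'def Φ hΦ
  rw [← hW]
  have hφ'li : LinearIndependent k φ' := by
    have := hφ.map' (LinearMap.mulLeft k y) (by
      rw [LinearMap.ker_eq_bot]
      intro a b hab
      exact mul_left_cancel₀ hy0 hab)
    rw [hφ']
    exact this
  have hnorm : ∀ i, P.1 (φ' i) ≤ 1 := by
    intro i
    rw [hφ'i, hy, map_mul, map_inv₀, inv_mul_le_iff₀ (by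
      rw [pos_iff_ne_zero, Valuation.ne_zero_iff]; exact hφi₀), mul_one]
    exact hi₀ i (Finset.mem_univ i)
  have hone : P.1 (φ' i₀) = 1 := by
    rw [hφ'i, hy, inv_mul_cancel₀ hφi₀, map_one]
  have hJ't : IsOrders K (hcol τ Ht φ') J := by
    have h1 : IsOrders K (hcol τ H (y • φ)) J := ((smul_change hH τ φ hφ y hy0).1 J).mpr hJ
    rw [hφ']
    have hli : LinearIndependent k (y • φ) := by rw [← hφ']; exact hφ'li
    exact ((var_change hKw hg hH hHt τ (y • φ) hli).1 J).mpr h1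
  have hdet : (wrMat τ Ht φ' J).det ≠ 0 := det_wrMat_ne_zero' hφ'li τ Ht hJ't
  -- the coefficient
  have hw : wDiv τ Ht Φ t φ' J P = P.ord (wrMat τ Ht φ' J).det + mapDiv k (⇑τ ∘ φ') P := by
    unfold FunFld.wDiv
    rw [Finsupp.add_apply, Finsupp.add_apply, Finsupp.add_apply, Finsupp.smul_apply,
      Finsupp.smul_apply, div_apply hK, divDiff_apply_eq_zero Φ (hΦ P) t ht,
      mapDiv_apply_eq_zero φ' hnorm i₀ hone]
    simp
  rw [hw, mapDiv_apply hK]
  -- the bound
  obtain ⟨i₁, -, hi₁⟩ := Finset.exists_mem_eq_inf' Finset.univ_nonempty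
    (fun i => P.ord ((⇑τ ∘ φ') i))
  rw [hi₁]
  have hτne : ∀ i, τ (φ' i) ≠ 0 := fun i =>
    (map_ne_zero_iff τ (τ : K →+* K).injective).mpr (hφ'li.ne_zero i)
  have hB : ∀ i, P.1 (τ (φ' i)) ≤ P.1 (τ (φ' i₁)) := by
    intro i
    rw [Place.val_eq_exp_neg_ord P (hτne i), Place.val_eq_exp_neg_ord P (hτne i₁), exp_le_exp]
    have h1 : P.ord ((⇑τ ∘ φ') i₁) ≤ P.ord ((⇑τ ∘ φ') i) := by
      rw [← hi₁]
      exact Finset.inf'_le _ (Finset.mem_univ i)
    change P.ord (τ (φ' i₁)) ≤ P.ord (τ (φ' i)) at h1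
    omega
  have hval := val_det_le P (wrMat τ Ht φ' J) (P.1 (τ (φ' i₁))) (fun i => hB i)
    (fun i l => E.hasseD_le (hnorm i) (J l))
  rw [Place.val_eq_exp_neg_ord P hdet, Place.val_eq_exp_neg_ord P (hτne i₁), exp_le_exp] at hval
  change 0 ≤ P.ord (wrMat τ Ht φ' J).det + -P.ord (τ (φ' i₁))
  omega

theorem main
    (k K : Type*) [Field k] [IsAlgClosed k] [Field K] [Algebra k K]
    (hK : FunFld.IsFunctionField k K) {n : ℕ} (φ : Fin (n + 1) → K) (hφ : LinearIndependent k φ)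
    (τ : K →ₐ[k] K) (s : K) (H : K →ₐ[k] PowerSeries K) (hH : LocRes.IsHasseFamily s H)
    (J : Fin n → ℕ) (hJ : FunFld.IsOrders K (FunFld.hcol τ H φ) J)
    (Φ : FunFld.Place k K → (K →ₐ[k] LaurentSeries k))
    (hΦ : ∀ P : FunFld.Place k K, LocRes.IsExpansionAt P.1 (Φ P)) :
    0 ≤ FunFld.wDiv τ H Φ s φ J ∧
    (FunFld.wDiv τ H Φ s φ J).deg =
      ((Module.finrank τ.fieldRange K : ℤ) + n) * (FunFld.mapDiv k φ).deg +
        (2 * (FunFld.genus k K : ℤ) - 2) * ∑ l, (J l : ℤ) := by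
  refine ⟨fun P => nonneg_at k K hK φ hφ τ s H hH J hJ Φ hΦ P, ?_⟩
  unfold FunFld.wDiv
  rw [Divisor.deg_add, Divisor.deg_add, Divisor.deg_add, deg_div hK, deg_mapDiv_comp hK τ φ]
  have h1 : ∀ (m : ℤ) (D : Divisor k K), (m • D).deg = m * D.deg := by
    intro m D
    change Groth.Agent.Helper9.FFExt.degHom k K (m • D) = m * Groth.Agent.Helper9.FFExt.degHom k K D
    rw [map_zsmul, smul_eq_mul]
  rw [h1, h1, deg_divDiff hK (D_ne_zero_of_hasse hH) Φ hΦ]
  ring

end Aux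

/-- Over an algebraically closed constant field, the Weierstrass divisor `W(φ, τ) = [w_s(φ, τ)] + [τ(φ)]
+ n[φ] + j(φ, τ)[ds]` of a linearly independent tuple `φ = (φ₀, …, φₙ)` with respect to a
`k`-endomorphism `τ` is nonnegative, and its degree is `(deg τ + n) deg φ + (2g - 2) j(φ, τ)`, where
`deg τ = [K : τ(K)]`, `deg φ` is the degree of the divisor of `φ`, `g` is the genus and `j(φ, τ)`
the sum of the `τ`-orders. The divisor of `ds` is read through a family of Laurent expansions at the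
places. -/
theorem result
    (k K : Type*) [Field k] [IsAlgClosed k] [Field K] [Algebra k K]
    (hK : FunFld.IsFunctionField k K) {n : ℕ} (φ : Fin (n + 1) → K) (hφ : LinearIndependent k φ)
    (τ : K →ₐ[k] K) (s : K) (H : K →ₐ[k] PowerSeries K) (hH : LocRes.IsHasseFamily s H)
    (J : Fin n → ℕ) (hJ : FunFld.IsOrders K (FunFld.hcol τ H φ) J)
    (Φ : FunFld.Place k K → (K →ₐ[k] LaurentSeries k))
    (hΦ : ∀ P : FunFld.Place k K, LocRes.IsExpansionAt P.1 (Φ P)) :
    0 ≤ FunFld.wDiv τ H Φ s φ J ∧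
    (FunFld.wDiv τ H Φ s φ J).deg =
      ((Module.finrank τ.fieldRange K : ℤ) + n) * (FunFld.mapDiv k φ).deg +
        (2 * (FunFld.genus k K : ℤ) - 2) * ∑ l, (J l : ℤ) := by
  exact Aux.main k K hK φ hφ τ s H hH J hJ Φ hΦ

end Groth.Agent.S12603
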