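import Groth.Statements.S12609
import Mathlib
import Groth.Prelude.Def_W4bk4goldsch45p2
import Groth.Agent.Lib.Helper9.FFExt.LocalOrd8
import Groth.Agent.S12607
import Groth.Agent.Lib.Helper4.FF.Gaps3
-- import your own Groth.Agent.* helpers here

set_option autoImplicit false
open FunFld

namespace Groth.Agent.S12609

open FunFld
namespace Aux
open Groth.Agent.Helper9.FFExt Groth.Agent.Lib.Helper4.FF WithZero

theorem mem_L_sub_single_iff {k K : Type*} [Field k] [Field K] [Algebra k K]
    (D : Divisor k K) (P : Place k K) (a : ℤ) (h : K) :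
    h ∈ L (D - Finsupp.single P a) ↔ (∀ Q : Place k K, Q ≠ P → Q.1 h ≤ exp (D Q)) ∧ P.1 h ≤ exp (D P - a) := by
  classical
  rw [mem_L]
  constructor
  · intro hh
    refine ⟨fun Q hQ => ?_, ?_⟩
    · have := hh Q
      rwa [Finsupp.sub_apply, Finsupp.single_apply, if_neg (Ne.symm hQ), sub_zero] at this
    · have := hh P
      rwa [Finsupp.sub_apply, Finsupp.single_apply, if_pos rfl] at this
  · rintro ⟨h1, h2⟩ Q
    rw [Finsupp.sub_apply, Finsupp.single_apply]
    by_cases hQ : Q = P
    · subst hQ
      rw [if_pos rfl]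
      exact h2
    · rw [if_neg (Ne.symm hQ), sub_zero]
      exact h1 Q hQ

/-- `L(D - aP) ≠ L(D - (a+1)P)` iff some function of `L(D)` has order exactly `a - D(P)` at `P` -/
theorem exists_ord_iff {k K : Type*} [Field k] [Field K] [Algebra k K]
    (D : Divisor k K) (P : Place k K) (a : ℤ) (ha : 0 ≤ a) :
    (∃ h ∈ L D, P.1 h = exp (D P - a)) ↔
      ¬ (L (D - Finsupp.single P a) ≤ L (D - Finsupp.single P (a + 1))) := by
  constructor
  · rintro ⟨h, hh, hv⟩ hle
    have h1 : h ∈ L (D - Finsupp.single P a) := by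
      rw [mem_L_sub_single_iff]
      exact ⟨fun Q _ => hh Q, hv.le⟩
    have h2 := hle h1
    rw [mem_L_sub_single_iff] at h2
    rw [hv, exp_le_exp] at h2
    omega
  · intro hne
    rw [SetLike.not_le_iff_exists] at hne
    obtain ⟨h, h1, h2⟩ := hne
    rw [mem_L_sub_single_iff] at h1 h2
    have h3 : ¬ P.1 h ≤ exp (D P - (a + 1)) := fun hcon => h2 ⟨h1.1, hcon⟩
    push Not at h3
    refine ⟨h, ?_, ?_⟩
    · intro Q
      by_cases hQ : Q = P
      · subst hQ
        refine h1.2.trans ?_
        rw [exp_le_exp]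
        omega
      · exact h1.1 Q hQ
    · have hne0 : h ≠ 0 := by
        rintro rfl
        rw [map_zero] at h3
        exact not_lt_zero h3
      rw [Place.val_eq_exp_neg_ord P hne0] at h3 h1 ⊢
      rw [exp_lt_exp] at h3
      have := h1.2
      rw [exp_le_exp] at this
      congr 1
      omega

theorem val_le_one_of_mem_span {k K : Type*} [Field k] [Field K] [Algebra k K]
    (P : Place k K) {ι : Type*} (ψ : ι → K) (hψ : ∀ i, P.1 (ψ i) ≤ 1) {f : K}
    (hf : f ∈ Submodule.span k (Set.range ψ)) : P.1 f ≤ 1 := by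
  induction hf using Submodule.span_induction with
  | mem x hx =>
    obtain ⟨i, rfl⟩ := hx
    exact hψ i
  | zero => simp
  | add x y _ _ hx hy => exact (P.1.map_add x y).trans (max_le hx hy)
  | smul c x _ hx =>
    rw [Algebra.smul_def, map_mul]
    calc P.1 (algebraMap k K c) * P.1 x ≤ 1 * 1 := mul_le_mul' (Place.val_k_le P c) hx
      _ = 1 := one_mul 1

theorem mem_span_smul_iff {k K : Type*} [Field k] [Field K] [Algebra k K]
    {ι : Type*} (φ : ι → K) (y : K) (hy : y ≠ 0) (f : K) :
    f ∈ Submodule.span k (Set.range (y • φ)) ↔ y⁻¹ * f ∈ Submodule.span k (Set.range φ) := by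
  have h1 : Set.range (y • φ) = (LinearMap.mulLeft k y) '' Set.range φ := by
    rw [← Set.range_comp]
    rfl
  rw [h1, ← Submodule.map_span, Submodule.mem_map]
  constructor
  · rintro ⟨h, hh, rfl⟩
    rw [LinearMap.mulLeft_apply, inv_mul_cancel_left₀ hy]
    exact hh
  · intro hf
    refine ⟨y⁻¹ * f, hf, ?_⟩
    rw [LinearMap.mulLeft_apply, mul_inv_cancel_left₀ hy]

theorem main
    (k K : Type*) [Field k] [IsAlgClosed k] [Field K] [Algebra k K]
    (hK : FunFld.IsFunctionField k K) (C : FunFld.Divisor k K) (hC : FunFld.IsCanonical k K C)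
    {n : ℕ} (φ : Fin (n + 1) → K) (hφ : LinearIndependent k φ)
    (hspan : Submodule.span k (Set.range φ) = FunFld.L C)
    (P : FunFld.Place k K) (y : K) (hy : y ≠ 0)
    (heff : (1 : K) ∈ Submodule.span k (Set.range (y • φ))) (hnorm : ∀ i, P.1 (y * φ i) ≤ 1)
    (t : K) (ht : P.1 t = WithZero.exp (-1))
    (Ht : K →ₐ[k] PowerSeries K) (hHt : LocRes.IsHasseFamily t Ht) (j : ℕ) (hj : 1 ≤ j) :
    FunFld.IsJump (IsLocalRing.ResidueField P.O) (FunFld.hcolAt P Ht (y • φ)) (j + 1) ↔
      FunFld.L (Finsupp.single P ((j : ℤ) + 1)) = FunFld.L (Finsupp.single P (j : ℤ)) := by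
  classical
  have hg := isGeometric_of_isAlgClosed k K
  have hdeg := Place.deg_eq_one hK P
  obtain ⟨E⟩ := exists_hasseExp hK hg P hdeg t ht Ht hHt
  have hφ'li : LinearIndependent k (y • φ) := by
    have := hφ.map' (LinearMap.mulLeft k y) (by
      rw [LinearMap.ker_eq_bot]
      intro a b hab
      exact mul_left_cancel₀ hy hab)
    exact this
  have hnorm' : ∀ i, P.1 ((y • φ) i) ≤ 1 := hnorm
  obtain ⟨J', hJ'⟩ := exists_local_orders E (y • φ) hφ'li heff hnorm'
  have h7 := (Groth.Agent.S12607.result k K hK P (y • φ) hφ'li heff hnorm' t ht Ht hHt J' hJ').2 j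
  rw [← hJ'.2 j]
  have hj0 : j ≠ 0 := by omega
  have step1 : j ∈ Set.range J' ↔ ∃ f ∈ Submodule.span k (Set.range (y • φ)), P.1 f = exp (-(j : ℤ)) := by
    rw [← h7]
    constructor
    · intro h
      exact Or.inr h
    · rintro (h | h)
      · exact absurd h hj0
      · exact h
  rw [step1]
  -- positive genus
  have hgen : 0 < genus k K := by
    rw [← ell_canonical hK hC]
    unfold FunFld.ell
    rw [← hspan, finrank_span_eq_card hφ]
    simp
  -- the value of `y` at `P`
  have hyP : P.1 y = exp (-(C P)) := by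
    apply le_antisymm
    · have h1 := ell_sub_single_lt hK hgen C (Or.inr hC) P
      have h2 : ¬ (L (C - Finsupp.single P (0 : ℤ)) ≤ L (C - Finsupp.single P ((0 : ℤ) + 1))) := by
        intro hle
        rw [Finsupp.single_zero, sub_zero, zero_add] at hle
        have h3 : L C = L (C - Finsupp.single P 1) := by
          apply le_antisymm hle
          apply L_mono
          intro Q
          rw [Finsupp.sub_apply, Finsupp.single_apply]
          split_ifs <;> omega
        unfold FunFld.ell at h1
        rw [← h3] at h1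
        exact lt_irrefl _ h1
      obtain ⟨h, hh, hv⟩ := (exists_ord_iff C P 0 le_rfl).mpr h2
      rw [sub_zero] at hv
      have h4 : y * h ∈ Submodule.span k (Set.range (y • φ)) := by
        rw [mem_span_smul_iff φ y hy, inv_mul_cancel_left₀ hy, hspan]
        exact hh
      have h5 := val_le_one_of_mem_span P (y • φ) hnorm' h4
      rw [map_mul, hv] at h5
      have h6 : P.1 y * exp (C P) * exp (-(C P)) ≤ 1 * exp (-(C P)) := mul_le_mul_left h5 _
      rwa [mul_assoc, ← exp_add, add_neg_cancel, exp_zero, mul_one, one_mul] at h6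
    · have h1 := (mem_span_smul_iff φ y hy 1).mp heff
      rw [hspan, mul_one] at h1
      have h2 := h1 P
      rw [map_inv₀] at h2
      have hy0 : P.1 y ≠ 0 := (Valuation.ne_zero_iff _).mpr hy
      rw [inv_le_iff_one_le_mul₀ (by rw [pos_iff_ne_zero]; exact hy0)] at h2
      have h6 : exp (-(C P)) * 1 ≤ exp (-(C P)) * (exp (C P) * P.1 y) := mul_le_mul_right h2 _
      rwa [mul_one, ← mul_assoc, ← exp_add, neg_add_cancel, exp_zero, one_mul] at h6
  -- step 2: orders in `L(C)`
  have step2 : (∃ f ∈ Submodule.span k (Set.range (y • φ)), P.1 f = exp (-(j : ℤ))) ↔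
      ∃ h ∈ L C, P.1 h = exp (C P - (j : ℤ)) := by
    constructor
    · rintro ⟨f, hf, hv⟩
      refine ⟨y⁻¹ * f, ?_, ?_⟩
      · rw [← hspan]
        exact (mem_span_smul_iff φ y hy f).mp hf
      · rw [map_mul, map_inv₀, hyP, hv, ← exp_neg, ← exp_add]
        congr 1
        ring
    · rintro ⟨h, hh, hv⟩
      refine ⟨y * h, ?_, ?_⟩
      · rw [mem_span_smul_iff φ y hy, inv_mul_cancel_left₀ hy, hspan]
        exact hh
      · rw [map_mul, hyP, hv, ← exp_add]
        congr 1
        ring
  rw [step2, exists_ord_iff C P j (by omega)]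
  -- step 3: Riemann–Roch
  have hle : L (C - Finsupp.single P ((j : ℤ) + 1)) ≤ L (C - Finsupp.single P (j : ℤ)) := by
    apply L_mono
    intro Q
    rw [Finsupp.sub_apply, Finsupp.sub_apply, Finsupp.single_apply, Finsupp.single_apply]
    split_ifs <;> omega
  have hle' : L (Finsupp.single P (j : ℤ)) ≤ L (Finsupp.single P ((j : ℤ) + 1)) := by
    apply L_mono
    intro Q
    rw [Finsupp.single_apply, Finsupp.single_apply]
    split_ifs <;> omega
  have hfin1 := L_finite hK (C - Finsupp.single P (j : ℤ))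
  have hfin2 := L_finite hK (Finsupp.single P ((j : ℤ) + 1))
  have hr1 := riemann_roch hK hC (Finsupp.single P (j : ℤ))
  have hr2 := riemann_roch hK hC (Finsupp.single P ((j : ℤ) + 1))
  rw [Divisor.deg_single, hdeg] at hr1 hr2
  push_cast at hr1 hr2
  have hm1 := Submodule.finrank_mono hle
  have hm2 := Submodule.finrank_mono hle'
  change ell _ ≤ ell _ at hm1 hm2
  constructor
  · intro hne
    have hlt : ell (C - Finsupp.single P ((j : ℤ) + 1)) < ell (C - Finsupp.single P (j : ℤ)) := by
      apply lt_of_le_of_ne hm1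
      intro heq
      apply hne
      exact (Submodule.eq_of_le_of_finrank_eq hle heq).ge
    have heq : ell (Finsupp.single P (j : ℤ) : Divisor k K) = ell (Finsupp.single P ((j : ℤ) + 1)) := by
      omega
    exact (Submodule.eq_of_le_of_finrank_eq hle' heq).symm
  · intro heq hle2
    have h1 : L (C - Finsupp.single P (j : ℤ)) = L (C - Finsupp.single P ((j : ℤ) + 1)) :=
      le_antisymm hle2 hle
    have h2 : ell (C - Finsupp.single P (j : ℤ)) = ell (C - Finsupp.single P ((j : ℤ) + 1)) := by
      unfold FunFld.ell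
      rw [h1]
    have h3 : ell (Finsupp.single P ((j : ℤ) + 1) : Divisor k K) = ell (Finsupp.single P (j : ℤ)) := by
      unfold FunFld.ell
      rw [heq]
    omega

end Aux

/-- Over an algebraically closed constant field, let `φ` be the canonical map (a basis of `L(C)`, `C`
canonical), normalized at the place `P` after multiplication by `y ≠ 0`, and `t` a local parameter
at `P`. For `j ≥ 1`: the canonical orders at `P` include `j` exactly when `j + 1` is a gap number at
`P`, i.e. `L((j+1)P) = L(jP)`. -/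
theorem result
    (k K : Type*) [Field k] [IsAlgClosed k] [Field K] [Algebra k K]
    (hK : FunFld.IsFunctionField k K) (C : FunFld.Divisor k K) (hC : FunFld.IsCanonical k K C)
    {n : ℕ} (φ : Fin (n + 1) → K) (hφ : LinearIndependent k φ)
    (hspan : Submodule.span k (Set.range φ) = FunFld.L C)
    (P : FunFld.Place k K) (y : K) (hy : y ≠ 0)
    (heff : (1 : K) ∈ Submodule.span k (Set.range (y • φ))) (hnorm : ∀ i, P.1 (y * φ i) ≤ 1)
    (t : K) (ht : P.1 t = WithZero.exp (-1))
    (Ht : K →ₐ[k] PowerSeries K) (hHt : LocRes.IsHasseFamily t Ht) (j : ℕ) (hj : 1 ≤ j) :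
    FunFld.IsJump (IsLocalRing.ResidueField P.O) (FunFld.hcolAt P Ht (y • φ)) (j + 1) ↔
      FunFld.L (Finsupp.single P ((j : ℤ) + 1)) = FunFld.L (Finsupp.single P (j : ℤ)) := by
  exact Aux.main k K hK C hC φ hφ hspan P y hy heff hnorm t ht Ht hHt j hj

end Groth.Agent.S12609
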