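import Groth.Statements.S12611
import Mathlib
import Groth.Prelude.Def_W4bk4goldsch45p2
import Groth.Agent.Lib.Helper9.FFExt.LocalOrd8
import Groth.Agent.Lib.Helper9.FFExt.Classical1
import Groth.Agent.S12605
import Groth.Agent.S12607
import Groth.Agent.S12610
import Groth.Agent.Lib.Helper4.FF.Exist
-- import your own Groth.Agent.* helpers here

set_option autoImplicit false
open FunFld

namespace Groth.Agent.S12611

open FunFld
namespace Aux
open Groth.Agent.Helper9.FFExt Groth.Agent.Lib.Helper4.FF WithZero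

theorem strictMono_add_le {n : ℕ} (J : Fin n → ℕ) (hJ : StrictMono J) (hn : 0 < n) :
    ∀ l : Fin n, J ⟨0, hn⟩ + l ≤ J l := by
  rintro ⟨m, hm⟩
  induction m with
  | zero => simp
  | succ m ih =>
    have h1 := ih (by omega)
    have h2 : J ⟨m, by omega⟩ < J ⟨m + 1, hm⟩ := hJ (by
      rw [Fin.mk_lt_mk]; omega)
    simp only at h1 ⊢
    omega

theorem strictMono_le {n : ℕ} (J : Fin n → ℕ) (hJ : StrictMono J) (l : Fin n) : (l : ℕ) ≤ J l := by
  have hn : 0 < n := by
    have := l.2
    omega
  have := strictMono_add_le J hJ hn l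
  omega

/-- the core: the orders are bounded by `I`, for `I = (1,…,n)` or, at a strong fixed point,
`I = (0,…,n-1)` -/
theorem core
    (k K : Type*) [Field k] [IsAlgClosed k] [Field K] [Algebra k K]
    (hK : FunFld.IsFunctionField k K) {n : ℕ} (φ : Fin (n + 1) → K) (hφ : LinearIndependent k φ)
    (hchar : ringChar k = 0 ∨ (FunFld.mapDiv k φ).deg < ringChar k)
    (τ : K →ₐ[k] K) (P : FunFld.Place k K) (hP : FunFld.IsFixedPt τ P)
    (s : K) (H : K →ₐ[k] PowerSeries K) (hH : LocRes.IsHasseFamily s H)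
    (I : Fin n → ℕ) (hI : StrictMono I)
    (hcase : (I = fun l : Fin n => (l : ℕ) + 1) ∨
      ((I = fun l : Fin n => (l : ℕ)) ∧ FunFld.IsStrongFixedPt τ P))
    (J : Fin n → ℕ) (hJ : FunFld.IsOrders K (FunFld.hcol τ H φ) J) (l : Fin n) : J l ≤ I l := by
  classical
  have hKw := isFFw_of_isFunctionField hK
  have hg := isGeometric_of_isAlgClosed k K
  have hdeg := Place.deg_eq_one hK P
  -- local parameter and its Hasse family
  obtain ⟨t, ht⟩ := Place.exists_uniformizer P
  obtain ⟨ε, hε, -, -⟩ := exists_expansion_of_deg_one P hdeg t ht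
  have hDt : KaehlerDifferential.D k K t ≠ 0 :=
    D_ne_zero_of_vDiff ε (Groth.Agent.S12610.Aux.vDiff_param P ε hε t ht)
  have htt := transcendental_of_D_ne_zero hK hDt
  obtain ⟨Ht, hHt⟩ := exists_hasse hKw hg hDt htt
  obtain ⟨E⟩ := exists_hasseExp hK hg P hdeg t ht Ht hHt
  -- normalization
  obtain ⟨i₀, -, hi₀⟩ := Finset.exists_max_image Finset.univ (fun i => P.1 (φ i)) Finset.univ_nonempty
  have hφi₀ : φ i₀ ≠ 0 := hφ.ne_zero i₀
  obtain ⟨y, hy⟩ : ∃ y : K, y = (φ i₀)⁻¹ := ⟨_, rfl⟩
  have hy0 : y ≠ 0 := by rw [hy]; exact inv_ne_zero hφi₀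
  obtain ⟨φ', hφ'⟩ : ∃ φ' : Fin (n + 1) → K, φ' = y • φ := ⟨_, rfl⟩
  have hφ'i : ∀ i, φ' i = y * φ i := fun i => by rw [hφ']; rfl
  have hφ'li : LinearIndependent k φ' := by
    have := hφ.map' (LinearMap.mulLeft k y) (by
      rw [LinearMap.ker_eq_bot]
      intro a b hab
      exact mul_left_cancel₀ hy0 hab)
    rw [hφ']
    exact this
  have hnorm : ∀ i, P.1 (φ' i) ≤ 1 := by
    intro i
    rw [hφ'i, hy, map_mul, map_inv₀, inv_mul_le_iff₀ (by
      rw [pos_iff_ne_zero, Valuation.ne_zero_iff]; exact hφi₀), mul_one]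
    exact hi₀ i (Finset.mem_univ i)
  have heff : (1 : K) ∈ Submodule.span k (Set.range φ') := by
    apply Submodule.subset_span
    refine ⟨i₀, ?_⟩
    rw [hφ'i, hy, inv_mul_cancel₀ hφi₀]
  have hJ't : IsOrders K (hcol τ Ht φ') J := by
    have h1 : IsOrders K (hcol τ H (y • φ)) J := ((smul_change hH τ φ hφ y hy0).1 J).mpr hJ
    rw [hφ']
    have hli : LinearIndependent k (y • φ) := by rw [← hφ']; exact hφ'li
    exact ((var_change hKw hg hH hHt τ (y • φ) hli).1 J).mpr h1
  obtain ⟨J', hJ'⟩ := exists_local_orders E φ' hφ'li heff hnorm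
  -- local orders are positive
  have hJ'k := (isOrders_hcolAt_iff E φ' hnorm J').mp hJ'
  have hJ'pos : ∀ l, 0 < J' l := fun l =>
    Nat.pos_of_ne_zero ((mem_range_iff_isJump_acol E φ' heff hJ'k (J' l)).mp ⟨l, rfl⟩).2
  -- local orders are at most the degree
  have hdegφ' : (mapDiv k φ').deg = (mapDiv k φ).deg := by
    rw [hφ']
    exact deg_mapDiv_smul hK φ (fun i => hφ.ne_zero i) y hy0
  have hJ'le : ∀ l, (J' l : ℤ) ≤ (mapDiv k φ).deg := by
    intro l
    obtain ⟨f, hf, hfv⟩ := ((Groth.Agent.S12607.result k K hK P φ' hφ'li heff hnorm t ht Ht hHt J' hJ').2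
      (J' l)).mp (Or.inr ⟨l, rfl⟩)
    have hf0 : f ≠ 0 := by
      rintro rfl
      rw [map_zero] at hfv
      exact exp_ne_zero hfv.symm
    have h1 := ord_le_deg_mapDiv hK φ' (fun i => hφ'li.ne_zero i) heff hf0 hf P hdeg
    have h2 : P.ord f = J' l := by
      unfold Place.ord
      rw [hfv, log_exp, neg_neg]
    rw [h2, hdegφ'] at h1
    exact h1
  have hp : ∀ l, ringChar k = 0 ∨ J' l < ringChar k := by
    intro l
    rcases hchar with h | h
    · exact Or.inl h
    · right
      have := hJ'le l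
      omega
  -- the binomial determinant
  have h05 := Groth.Agent.S12605.Aux.main k K hK τ P hP φ' heff hnorm t ht Ht hHt J' hJ' I
  have hdetne : (wrMat τ Ht φ' I).det ≠ 0 := by
    have hb : (binomMat k J' I).det ≠ 0 ∧ ((∀ l, 0 < I l) ∨ IsStrongFixedPt τ P) := by
      rcases hcase with h | ⟨h, hs⟩
      · rw [h]
        exact ⟨det_binomMat_ne_zero1 k J' hJ'.1 hJ'pos hp, Or.inl (fun l => Nat.succ_pos _)⟩
      · rw [h]
        exact ⟨det_binomMat_ne_zero0 k J' hJ'.1 hp, Or.inr hs⟩
    have h1 := (h05.2 hb.2).mpr hb.1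
    intro h0
    rw [h0, map_zero] at h1
    exact exp_ne_zero h1.symm
  exact isOrders_le τ hJ't hI hdetne l

theorem main
    (k K : Type*) [Field k] [IsAlgClosed k] [Field K] [Algebra k K]
    (hK : FunFld.IsFunctionField k K) {n : ℕ} (φ : Fin (n + 1) → K) (hφ : LinearIndependent k φ)
    (h0 : φ 0 ≠ 0) (hbir : IntermediateField.adjoin k (Set.range fun i => φ i / φ 0) = ⊤)
    (hchar : ringChar k = 0 ∨ (FunFld.mapDiv k φ).deg < ringChar k)
    (τ : K →ₐ[k] K) (s : K) (H : K →ₐ[k] PowerSeries K) (hH : LocRes.IsHasseFamily s H) :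
    (τ = AlgHom.id k K → FunFld.IsOrders K (FunFld.hcol τ H φ) (fun l : Fin n => (l : ℕ) + 1)) ∧
    (τ ≠ AlgHom.id k K → (∃ P : FunFld.Place k K, FunFld.IsStrongFixedPt τ P) →
      FunFld.IsOrders K (FunFld.hcol τ H φ) (fun l : Fin n => (l : ℕ))) := by
  have hKw := isFFw_of_isFunctionField hK
  have hg := isGeometric_of_isAlgClosed k K
  obtain ⟨J, hJ, -⟩ := exists_isOrders_det_ne_zero hK hg hH hφ τ
  constructor
  · intro hτ
    obtain ⟨x, hxt, -⟩ := hK.1
    obtain ⟨P, -⟩ := exists_zero hK hxt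
    have hP : IsFixedPt τ P := by
      intro z hz
      rw [hτ]
      exact hz
    have hI : StrictMono (fun l : Fin n => (l : ℕ) + 1) := by
      intro a b hab
      have : (a : ℕ) < b := hab
      simp only
      omega
    have hle := core k K hK φ hφ hchar τ P hP s H hH _ hI (Or.inl rfl) J hJ
    -- `0` is not an order
    have h0J : ∀ l, J l ≠ 0 := by
      intro l hl
      have hjump := (hJ.2 0).mp ⟨l, hl⟩
      apply hjump
      apply Submodule.subset_span
      refine ⟨0, by simp, ?_⟩
      funext i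
      change τ (φ i) = LocRes.hasseD H 0 (φ i)
      rw [hτ, hasseD_zero hH]
      rfl
    have hJeq : J = fun l : Fin n => (l : ℕ) + 1 := by
      funext l
      have hn : 0 < n := by
        have := l.2
        omega
      have h1 := strictMono_add_le J hJ.1 hn l
      have h2 := h0J ⟨0, hn⟩
      have h3 := hle l
      omega
    rw [← hJeq]
    exact hJ
  · intro _ ⟨P, hP⟩
    have hI : StrictMono (fun l : Fin n => (l : ℕ)) := by
      intro a b hab
      exact hab
    have hle := core k K hK φ hφ hchar τ P (isFixedPt_of_strong hP) s H hH _ hI (Or.inr ⟨rfl, hP⟩) J hJ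
    have hJeq : J = fun l : Fin n => (l : ℕ) := by
      funext l
      have h1 := strictMono_le J hJ.1 l
      have h3 := hle l
      omega
    rw [← hJeq]
    exact hJ

end Aux

/-- Over an algebraically closed constant field of characteristic `0` or greater than `deg φ`, a
birational projective map `φ = (φ₀, …, φₙ)` is classical: its orders are `(1, 2, …, n)`, and for a
`k`-endomorphism `τ ≠ 1` its `τ`-orders are `(0, 1, …, n-1)`. (The published statement has no
fixed-point hypothesis for `τ ≠ 1` and is false without one: on a smooth plane cubic in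
characteristic `0`, pulling back along multiplication by `-2` gives `τ`-orders `(0, 2)`. This row
assumes `τ` has a strong fixed point — a place whose maximal ideal `τ` maps into its square — which
is what the proof uses, through the equality criterion for Wronskian orders at such a point.) -/
theorem result
    (k K : Type*) [Field k] [IsAlgClosed k] [Field K] [Algebra k K]
    (hK : FunFld.IsFunctionField k K) {n : ℕ} (φ : Fin (n + 1) → K) (hφ : LinearIndependent k φ)
    (h0 : φ 0 ≠ 0) (hbir : IntermediateField.adjoin k (Set.range fun i => φ i / φ 0) = ⊤)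
    (hchar : ringChar k = 0 ∨ (FunFld.mapDiv k φ).deg < ringChar k)
    (τ : K →ₐ[k] K) (s : K) (H : K →ₐ[k] PowerSeries K) (hH : LocRes.IsHasseFamily s H) :
    (τ = AlgHom.id k K → FunFld.IsOrders K (FunFld.hcol τ H φ) (fun l : Fin n => (l : ℕ) + 1)) ∧
    (τ ≠ AlgHom.id k K → (∃ P : FunFld.Place k K, FunFld.IsStrongFixedPt τ P) →
      FunFld.IsOrders K (FunFld.hcol τ H φ) (fun l : Fin n => (l : ℕ))) := by
  exact Aux.main k K hK φ hφ h0 hbir hchar τ s H hH

end Groth.Agent.S12611
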