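import Groth.Statements.S1994
import Groth.Agent.Lib.Helper8.PairNoeth2
import Groth.Agent.Lib.Helper8.PairNoeth3

set_option autoImplicit false
universe u
open EtAlg

namespace Groth.Agent.S1994

/-- Let (A, I) be a pair with A Noetherian and B a henselization of the pair. Then B is Noetherian and
flat over A, and the induced map of adic completions, from the I-adic completion of A to the IB-adic
completion of B, is bijective. -/
theorem result (A : Type u) [CommRing A] [IsNoetherianRing A] (I : Ideal A)
    (B : Type u) [CommRing B] [Algebra A B] (hB : Hens2.IsPairHenselization A I B) :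
    IsNoetherianRing B ∧ Module.Flat A B ∧
      Function.Bijective (AdicCompletion.map I (Algebra.linearMap A B) :
        AdicCompletion I A → AdicCompletion I B) := by
  refine ⟨Groth.Agent.Helper8.PairNoeth.isNoetherianRing_of_isPairHenselization hB,
    Groth.Agent.Helper7.Hens.flat_of_isPairHenselization hB, ?_⟩
  have hmem : ∀ (n : ℕ) (b : B), b ∈ I ^ n • (⊤ : Submodule A B) ↔
      b ∈ (I ^ n).map (algebraMap A B) := by
    intro n b
    rw [Ideal.smul_top_eq_map, Submodule.restrictScalars_mem]
  apply Groth.Agent.Helper8.PairNoeth.adicCompletion_map_bijective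
  · intro n a ha
    rw [hmem] at ha
    have hb := (Groth.Agent.Helper7.Hens.quotient_pow_bijective_of_isPairHenselization hB n).1
    have h1 : Ideal.quotientMap ((I ^ n).map (algebraMap A B)) (algebraMap A B)
        Ideal.le_comap_map (Ideal.Quotient.mk (I ^ n) a) = 0 := by
      rw [Ideal.quotientMap_mk, Ideal.Quotient.eq_zero_iff_mem]
      exact ha
    have h2 : Ideal.Quotient.mk (I ^ n) a = 0 := hb (by rw [h1, map_zero])
    rw [Ideal.Quotient.eq_zero_iff_mem] at h2
    rw [smul_eq_mul, Ideal.mul_top]
    exact h2
  · intro n b
    have hb := (Groth.Agent.Helper7.Hens.quotient_pow_bijective_of_isPairHenselization hB n).2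
    obtain ⟨x, hx⟩ := hb (Ideal.Quotient.mk _ b)
    obtain ⟨a, rfl⟩ := Ideal.Quotient.mk_surjective x
    refine ⟨a, ?_⟩
    rw [hmem, Algebra.linearMap_apply, ← Ideal.Quotient.eq]
    rw [Ideal.quotientMap_mk] at hx
    exact hx.symm

end Groth.Agent.S1994
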