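import Groth.Statements.S15773
import Mathlib
import Groth.Prelude.Def_Hens2
import Groth.Agent.Lib.Helper9.HW.Laurent2
import Groth.Agent.Lib.Helper9.HW.Exists
-- import your own Groth.Agent.* helpers here

set_option autoImplicit false
universe u
open Polynomial
open CAlg

namespace Groth.Agent.S15773

open Polynomial
namespace Aux
universe v
open H9HW IsLocalRing

section
variable {R : Type u} [CommRing R] [HenselianLocalRing R]

theorem exists_isU_mem (I : Ideal R[X])
    (hI : I ⊔ (maximalIdeal R).map (algebraMap R R[X]) = ⊤) : ∃ i' ∈ I, IsU i' := by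
  have h1 : (1 : R[X]) ∈ I ⊔ (maximalIdeal R).map (algebraMap R R[X]) := by
    rw [hI]; exact Submodule.mem_top
  obtain ⟨i, hi, μ, hμ, hiμ⟩ := Submodule.mem_sup.mp h1
  have hμc : ∀ n, μ.coeff n ∈ maximalIdeal R := Ideal.mem_map_C_iff.mp hμ
  have hic : ∀ n, i.coeff n = (1 : R[X]).coeff n - μ.coeff n := fun n => by
    rw [← hiμ, coeff_add]; ring
  have hu : IsUnit (i.coeff 0) := by
    rw [hic, coeff_one_zero]
    by_contra hcon
    have h2 : (1 : R) - μ.coeff 0 ∈ maximalIdeal R := hcon
    have h3 : (1 : R) ∈ maximalIdeal R := by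
      have := Ideal.add_mem _ h2 (hμc 0)
      simpa using this
    exact (IsLocalRing.maximalIdeal.isMaximal R).ne_top ((Ideal.eq_top_iff_one _).mpr h3)
  obtain ⟨u, hu⟩ := hu
  refine ⟨C (↑u⁻¹ : R) * i, Ideal.mul_mem_left _ _ hi, ?_, fun j hj => ?_⟩
  · rw [coeff_C_mul, ← hu, Units.inv_mul]
  · rw [coeff_C_mul, hic, coeff_one, if_neg (by omega), zero_sub]
    exact Ideal.mul_mem_left _ _ (Ideal.neg_mem_iff _ |>.mpr (hμc j))

variable {B : Type u} [CommRing B] [Algebra R B] [Algebra R[X] B] [IsScalarTower R R[X] B]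
  (hB : Hens2.IsPairHenselization R[X] (Ideal.span {(X : R[X])}) B)
  {L : Type v} [CommRing L] [Algebra B L] [Algebra R L] [IsScalarTower R B L]
  [IsLocalization.Away (algebraMap R[X] B X) L]
  (ψ : R[X] →ₐ[R] L) (hψ : ψ X * algebraMap B L (algebraMap R[X] B X) = 1)

include hB hψ in
theorem exists_isU_of_J (J : Ideal L)
    (hJ : J ⊔ (maximalIdeal R).map (algebraMap R L) = ⊤) : ∃ i' : R[X], IsU i' ∧ ψ i' ∈ J := by
  set t : B := algebraMap R[X] B X with ht
  set τ : L := algebraMap B L t with hτ
  have h1 : (1 : L) ∈ J ⊔ (maximalIdeal R).map (algebraMap R L) := by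
    rw [hJ]; exact Submodule.mem_top
  obtain ⟨j, hj, μL, hμL, hjμ⟩ := Submodule.mem_sup.mp h1
  have hmL : (maximalIdeal R).map (algebraMap R L) =
      ((maximalIdeal R).map (algebraMap R B)).map (algebraMap B L) := by
    rw [Ideal.map_map, ← IsScalarTower.algebraMap_eq]
  rw [hmL, IsLocalization.mem_map_algebraMap_iff (Submonoid.powers t) L] at hμL
  obtain ⟨⟨⟨μB, hμB⟩, ⟨_, N, rfl⟩⟩, hx⟩ := hμL
  simp only at hx
  let f : B := t ^ N - μB
  have hfJ : algebraMap B L f ∈ J := by
    have : algebraMap B L f = j * τ ^ N := by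
      show algebraMap B L (t ^ N - μB) = _
      have hj' : j = 1 - μL := by rw [← hjμ]; ring
      rw [map_sub, ← hx, map_pow, ← hτ, hj']
      ring
    rw [this]; exact Ideal.mul_mem_right _ _ hj
  have hf : f ∉ (maximalIdeal R).map (algebraMap R B) := by
    intro hcon
    have h2 : t ^ N ∈ (maximalIdeal R).map (algebraMap R B) := by
      have := Ideal.add_mem _ hcon hμB
      simpa [f] using this
    have h3 : algebraMap R[X] B (X ^ N) ∈ Ideal.span {(algebraMap R[X] B X) ^ (N + 1)} ⊔
        (maximalIdeal R).map (algebraMap R B) := by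
      rw [map_pow]; exact Ideal.mem_sup_right h2
    have h4 := coeff_mem_of_mem_sup hB (N + 1) (X ^ N) h3 N (Nat.lt_succ_self N)
    rw [coeff_X_pow, if_pos rfl] at h4
    exact (IsLocalRing.maximalIdeal.isMaximal R).ne_top ((Ideal.eq_top_iff_one _).mpr h4)
  obtain ⟨P, u, hW, hfeq⟩ := exists_factor hB f hf
  have hPJ : algL R B L P ∈ J := by
    have : algL R B L P = algebraMap B L f * algebraMap B L ((u⁻¹ : Bˣ) : B) := by
      show algebraMap B L (algebraMap R[X] B P) = _
      rw [← map_mul, hfeq, mul_assoc, Units.mul_inv, mul_one]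
    rw [this]; exact Ideal.mul_mem_right _ _ hfJ
  refine ⟨reflect P.natDegree P, hW.isU_reflect, ?_⟩
  have h5 := ψ_reflect_mul_pow' ψ hψ P.natDegree P le_rfl
  have h6 : ψ (reflect P.natDegree P) = algL R B L P * (ψ X) ^ P.natDegree := by
    rw [← h5, mul_assoc, ← mul_pow, mul_comm _ (ψ X), hψ, one_pow, mul_one]
  rw [h6]; exact Ideal.mul_mem_right _ _ hPJ

include hB hψ in
theorem main' :
    (∀ I : Ideal R[X], I ⊔ (maximalIdeal R).map (algebraMap R R[X]) = ⊤ →
        (I.map ψ.toRingHom).comap ψ.toRingHom = I ∧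
        I.map ψ.toRingHom ⊔ (maximalIdeal R).map (algebraMap R L) = ⊤ ∧
        Function.Bijective (Ideal.quotientMap (I.map ψ.toRingHom) ψ.toRingHom Ideal.le_comap_map)) ∧
    (∀ J : Ideal L, J ⊔ (maximalIdeal R).map (algebraMap R L) = ⊤ →
        (J.comap ψ.toRingHom).map ψ.toRingHom = J ∧
        J.comap ψ.toRingHom ⊔ (maximalIdeal R).map (algebraMap R R[X]) = ⊤) := by
  constructor
  · intro I hI
    obtain ⟨i', hi'I, hU⟩ := exists_isU_mem I hI
    obtain ⟨Φ, hΦ⟩ := exists_Phi hB ψ hψ hU
    have hcm : (I.map ψ.toRingHom).comap ψ.toRingHom = I := by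
      refine le_antisymm ?_ Ideal.le_comap_map
      intro q hq
      rw [Ideal.mem_comap] at hq
      have h1 := Ideal.mem_map_of_mem Φ hq
      rw [Ideal.map_map] at h1
      have h2 : Φ.comp ψ.toRingHom = Ideal.Quotient.mk (Ideal.span {i'}) := RingHom.ext hΦ
      rw [h2] at h1
      have h3 : Φ (ψ.toRingHom q) = Ideal.Quotient.mk _ q := hΦ q
      rw [h3, Ideal.mem_quotient_iff_mem_sup] at h1
      have h4 : I ⊔ Ideal.span {i'} = I :=
        sup_eq_left.mpr ((Ideal.span_singleton_le_iff_mem _).mpr hi'I)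
      rwa [h4] at h1
    refine ⟨hcm, ?_, ?_, ?_⟩
    · have h1 : (I ⊔ (maximalIdeal R).map (algebraMap R R[X])).map ψ.toRingHom = ⊤ := by
        rw [hI, Ideal.map_top]
      rw [Ideal.map_sup, Ideal.map_map] at h1
      have h2 : ψ.toRingHom.comp (algebraMap R R[X]) = algebraMap R L := by
        ext r; exact ψ.commutes r
      rwa [h2] at h1
    · exact Ideal.quotientMap_injective' (le_of_eq hcm)
    · intro y
      obtain ⟨ℓ, rfl⟩ := Ideal.Quotient.mk_surjective y
      obtain ⟨q, hq⟩ := exists_sub_mem_span hB ψ hψ hU ℓ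
      refine ⟨Ideal.Quotient.mk _ q, ?_⟩
      rw [Ideal.quotientMap_mk, Ideal.Quotient.eq]
      have : Ideal.span {ψ i'} ≤ I.map ψ.toRingHom :=
        (Ideal.span_singleton_le_iff_mem _).mpr (Ideal.mem_map_of_mem _ hi'I)
      exact this hq
  · intro J hJ
    obtain ⟨i', hU, hi'J⟩ := exists_isU_of_J hB ψ hψ J hJ
    have hi'I : i' ∈ J.comap ψ.toRingHom := hi'J
    constructor
    · refine le_antisymm Ideal.map_comap_le ?_
      intro ℓ hℓ
      obtain ⟨q, hq⟩ := exists_sub_mem_span hB ψ hψ hU ℓ
      have h1 : Ideal.span {ψ i'} ≤ J := (Ideal.span_singleton_le_iff_mem _).mpr hi'J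
      have h2 : ψ q ∈ J := by
        have := Ideal.add_mem _ (h1 hq) hℓ
        simpa using this
      have h3 : ψ.toRingHom q ∈ (J.comap ψ.toRingHom).map ψ.toRingHom :=
        Ideal.mem_map_of_mem _ h2
      have h4 : Ideal.span {ψ i'} ≤ (J.comap ψ.toRingHom).map ψ.toRingHom :=
        (Ideal.span_singleton_le_iff_mem _).mpr (Ideal.mem_map_of_mem _ hi'I)
      have h5 : ℓ = ψ.toRingHom q - (ψ q - ℓ) := by
        show ℓ = ψ q - (ψ q - ℓ)
        ring
      rw [h5]
      exact Ideal.sub_mem _ h3 (h4 hq)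
    · rw [Ideal.eq_top_iff_one]
      have : (1 : R[X]) = i' + (1 - i') := by ring
      rw [this]
      exact Ideal.add_mem _ (Ideal.mem_sup_left hi'I) (Ideal.mem_sup_right hU.one_sub_mem)

include hB in
theorem main (ψ : R[X] →ₐ[R] Localization.Away (algebraMap R[X] B X))
    (hψ : ψ X * algebraMap B (Localization.Away (algebraMap R[X] B X)) (algebraMap R[X] B X) = 1) :
    (∀ I : Ideal R[X], I ⊔ (IsLocalRing.maximalIdeal R).map (algebraMap R R[X]) = ⊤ →
        (I.map ψ.toRingHom).comap ψ.toRingHom = I ∧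
        I.map ψ.toRingHom ⊔ (IsLocalRing.maximalIdeal R).map
          (algebraMap R (Localization.Away (algebraMap R[X] B X))) = ⊤ ∧
        Function.Bijective (Ideal.quotientMap (I.map ψ.toRingHom) ψ.toRingHom Ideal.le_comap_map)) ∧
    (∀ J : Ideal (Localization.Away (algebraMap R[X] B X)),
        J ⊔ (IsLocalRing.maximalIdeal R).map (algebraMap R (Localization.Away (algebraMap R[X] B X))) = ⊤ →
        (J.comap ψ.toRingHom).map ψ.toRingHom = J ∧
        J.comap ψ.toRingHom ⊔ (IsLocalRing.maximalIdeal R).map (algebraMap R R[X]) = ⊤) :=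
  main' hB ψ hψ

end
end Aux

/-- For a Henselian local ring (R, m), a henselization B of R[t] along (t), L = B[1/t] and the R-algebra
map ψ : R[s] → L sending s to t⁻¹, extension and contraction along ψ are mutually inverse bijections
between the ideals of R[s] comaximal with mR[s] and the ideals of L comaximal with mL, and R[s]/I →
L/IL is bijective for every such I. (The published statement is phrased with closed subschemes of
Spec R[t⁻¹] and of Spec L not meeting the residue fibre, matched by base change and schematic image,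
and treats the localisation (R[t]_{1+tR[t]})[1/t] alongside R{t}[1/t]; this row states it with
ideals and includes the bijection of the corresponding quotient rings.) -/
theorem result (R : Type u) [CommRing R]
    [HenselianLocalRing R] (B : Type u) [CommRing B] [Algebra R B] [Algebra R[X] B] [IsScalarTower R R[X] B]
    (hB : Hens2.IsPairHenselization R[X] (Ideal.span {(X : R[X])}) B)
    (ψ : R[X] →ₐ[R] Localization.Away (algebraMap R[X] B X))
    (hψ : ψ X * algebraMap B (Localization.Away (algebraMap R[X] B X)) (algebraMap R[X] B X) = 1) :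
    (∀ I : Ideal R[X], I ⊔ (IsLocalRing.maximalIdeal R).map (algebraMap R R[X]) = ⊤ →
        (I.map ψ.toRingHom).comap ψ.toRingHom = I ∧
        I.map ψ.toRingHom ⊔ (IsLocalRing.maximalIdeal R).map
          (algebraMap R (Localization.Away (algebraMap R[X] B X))) = ⊤ ∧
        Function.Bijective (Ideal.quotientMap (I.map ψ.toRingHom) ψ.toRingHom Ideal.le_comap_map)) ∧
    (∀ J : Ideal (Localization.Away (algebraMap R[X] B X)),
        J ⊔ (IsLocalRing.maximalIdeal R).map (algebraMap R (Localization.Away (algebraMap R[X] B X))) = ⊤ →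
        (J.comap ψ.toRingHom).map ψ.toRingHom = J ∧
        J.comap ψ.toRingHom ⊔ (IsLocalRing.maximalIdeal R).map (algebraMap R R[X]) = ⊤) := by
  exact Aux.main hB ψ hψ

end Groth.Agent.S15773
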