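import Groth.Statements.S17941
import Mathlib
import Groth.Agent.Lib.Helper9.MultCrvFrob

set_option autoImplicit false
universe u
open MultCrv

namespace Groth.Agent.S17941

/-- Let R be a discrete valuation ring, n ≥ 1, A = R[X]/(X^n), and 0 → M' → M → M'' → 0 a short exact
sequence of finitely generated A-modules with M and M'' torsion-free as R-modules (so M' is as
well). Then the A-dual sequence 0 → Hom_A(M'', A) → Hom_A(M, A) → Hom_A(M', A) → 0 is exact; the
content is that every A-linear form on M' extends to M, i.e. restriction of forms along M' → M is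
surjective. (Statement at a closed point of the sheaf statement on a primitive multiple curve of
multiplicity n, whose local rings are of the form R[X]/(X^n) with R the local ring of the reduced
smooth curve; stated for every discrete valuation ring R.) -/
theorem result (R : Type u) [CommRing R] [IsDomain R] [IsDiscreteValuationRing R] (n : ℕ) (hn : 1 ≤ n) (M' M M'' : Type u) [AddCommGroup M'] [Module (MultCrv.Rn R n) M'] [AddCommGroup M] [Module (MultCrv.Rn R n) M] [Module R M] [IsScalarTower R (MultCrv.Rn R n) M] [Module.Finite (MultCrv.Rn R n) M] [Module.IsTorsionFree R M] [AddCommGroup M''] [Module (MultCrv.Rn R n) M''] [Module R M''] [IsScalarTower R (MultCrv.Rn R n) M''] [Module.Finite (MultCrv.Rn R n) M''] [Module.IsTorsionFree R M''] (f : M' →ₗ[MultCrv.Rn R n] M) (g : M →ₗ[MultCrv.Rn R n] M'') (hf : Function.Injective f) (hg : Function.Surjective g) (hfg : LinearMap.range f = LinearMap.ker g) : Function.Surjective (f.dualMap : Module.Dual (MultCrv.Rn R n) M →ₗ[MultCrv.Rn R n] Module.Dual (MultCrv.Rn R n) M') := by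
  open Groth.Agent.Helper9 MultCrv Polynomial in
  obtain ⟨k, rfl⟩ : ∃ k, n = k + 1 := ⟨n - 1, by omega⟩
  intro φ'
  letI : Module R M' := Module.compHom M' (algebraMap R (Rn R (k + 1)))
  haveI : IsScalarTower R (Rn R (k + 1)) M' := ⟨fun r a m => by
    change (r • a) • m = algebraMap R (Rn R (k + 1)) r • (a • m)
    have h : r • a = algebraMap R (Rn R (k + 1)) r * a := Algebra.smul_def (A := Rn R (k + 1)) r a
    rw [h, mul_smul]⟩
  haveI : Module.Finite R (Rn R (k + 1)) := (monic_X_pow (k + 1)).finite_quotient
  haveI : Module.Finite R M'' := Module.Finite.trans (Rn R (k + 1)) M''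
  haveI : Module.Free R M'' := inferInstance
  obtain ⟨s, hs⟩ := Module.projective_lifting_property (g.restrictScalars R) LinearMap.id hg
  have hs' : ∀ x : M'', g (s x) = x := fun x => LinearMap.congr_fun hs x
  let fR : M' →ₗ[R] M := f.restrictScalars R
  let e : M' ≃ₗ[R] LinearMap.range fR := LinearEquiv.ofInjective fR hf
  let q : M →ₗ[R] M := LinearMap.id - s ∘ₗ g.restrictScalars R
  have hmem : ∀ m : M, q m ∈ LinearMap.range fR := by
    intro m
    have h1 : m - s (g m) ∈ LinearMap.ker g := by
      rw [LinearMap.mem_ker, map_sub, hs', sub_self]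
    rw [← hfg] at h1
    obtain ⟨y, hy⟩ := h1
    exact ⟨y, hy⟩
  let π : M →ₗ[R] LinearMap.range fR :=
    LinearMap.codRestrict _ q hmem
  let ρ : M →ₗ[R] M' := e.symm.toLinearMap ∘ₗ π
  have hgf : ∀ m' : M', g (f m') = 0 := by
    intro m'
    have : f m' ∈ LinearMap.ker g := by rw [← hfg]; exact ⟨m', rfl⟩
    exact this
  have hρ : ∀ m' : M', ρ (f m') = m' := by
    intro m'
    have h1 : π (f m') = e m' := by
      apply Subtype.ext
      change f m' - s (g (f m')) = f m'
      rw [hgf, map_zero, sub_zero]
    change e.symm (π (f m')) = m'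
    rw [h1, LinearEquiv.symm_apply_apply]
  let l' : M' →ₗ[R] R := MC.tau R k ∘ₗ φ'.restrictScalars R
  let l : M →ₗ[R] R := l' ∘ₗ ρ
  refine ⟨MC.liftForm (R := R) (k := k) l, ?_⟩
  apply LinearMap.ext
  intro m'
  rw [LinearMap.dualMap_apply]
  have h2 : MC.liftForm (R := R) (k := k) l (f m') = MC.liftForm (R := R) (k := k) l' m' := by
    rw [MC.liftForm_apply, MC.liftForm_apply]
    apply Finset.sum_congr rfl
    intro j _
    rw [← map_smul f]
    change l' (ρ (f _)) • _ = _
    rw [hρ]
  rw [h2]
  exact LinearMap.congr_fun (MC.liftForm_tau_comp φ') m'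

end Groth.Agent.S17941
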