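import Groth.Statements.S18434
import Mathlib
import Groth.Prelude.Def_W4c5spincurvestfNode
-- import your own Groth.Agent.* helpers here

set_option autoImplicit false
universe u
open SpinCurv

namespace Groth.Agent.S18434

open SpinCurv
namespace Aux

open MvPowerSeries

section plevel

variable {k : Type u} [Field k]

theorem fin2_ext {d e : Fin 2 →₀ ℕ} (h0 : d 0 = e 0) (h1 : d 1 = e 1) : d = e := by
  ext i
  revert i
  rw [Fin.forall_fin_two]
  exact ⟨h0, h1⟩

theorem single0_le (u : ℕ) (d : Fin 2 →₀ ℕ) : Finsupp.single 0 u ≤ d ↔ u ≤ d 0 := by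
  rw [Finsupp.le_def, Fin.forall_fin_two]
  simp

theorem single1_le (v : ℕ) (d : Fin 2 →₀ ℕ) : Finsupp.single 1 v ≤ d ↔ v ≤ d 1 := by
  rw [Finsupp.le_def, Fin.forall_fin_two]
  simp

theorem single01_le (d : Fin 2 →₀ ℕ) :
    Finsupp.single 0 1 + Finsupp.single 1 1 ≤ d ↔ 1 ≤ d 0 ∧ 1 ≤ d 1 := by
  rw [Finsupp.le_def, Fin.forall_fin_two]
  simp

theorem X0X1_eq : (X 0 * X 1 : MvPowerSeries (Fin 2) k) =
    monomial (Finsupp.single 0 1 + Finsupp.single 1 1) 1 := by
  rw [X, X, monomial_mul_monomial, one_mul]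

theorem CwX1_eq (w : k) (v : ℕ) : (C w * X 1 ^ v : MvPowerSeries (Fin 2) k) =
    monomial (Finsupp.single 1 v) w := by
  rw [X_pow_eq, ← monomial_zero_eq_C_apply, monomial_mul_monomial, zero_add, mul_one]

/-- membership in the ideal `(x^u, w y^v, xy)` implies vanishing of the low pure coefficients -/
theorem coeff_of_mem (u v : ℕ) (hu : 1 ≤ u) (hv : 1 ≤ v) (w : k) (a b g : MvPowerSeries (Fin 2) k) :
    (∀ i < u, coeff (Finsupp.single 0 i) (a * X 0 ^ u + b * (C w * X 1 ^ v) + g * (X 0 * X 1)) = 0) ∧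
    (∀ j, 1 ≤ j → j < v →
      coeff (Finsupp.single 1 j) (a * X 0 ^ u + b * (C w * X 1 ^ v) + g * (X 0 * X 1)) = 0) := by
  rw [X_pow_eq, CwX1_eq, X0X1_eq]
  constructor
  · intro i hi
    have h1 : ¬ (Finsupp.single 0 u : Fin 2 →₀ ℕ) ≤ Finsupp.single 0 i := by
      rw [single0_le]; simp; omega
    have h2 : ¬ (Finsupp.single 1 v : Fin 2 →₀ ℕ) ≤ Finsupp.single 0 i := by
      rw [single1_le]; simp; omega
    have h3 : ¬ (Finsupp.single 0 1 + Finsupp.single 1 1 : Fin 2 →₀ ℕ) ≤ Finsupp.single 0 i := by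
      rw [single01_le]; simp
    rw [map_add, map_add, coeff_mul_monomial, coeff_mul_monomial, coeff_mul_monomial,
      if_neg h1, if_neg h2, if_neg h3, add_zero, add_zero]
  · intro j hj1 hj
    have h1 : ¬ (Finsupp.single 0 u : Fin 2 →₀ ℕ) ≤ Finsupp.single 1 j := by
      rw [single0_le]; simp; omega
    have h2 : ¬ (Finsupp.single 1 v : Fin 2 →₀ ℕ) ≤ Finsupp.single 1 j := by
      rw [single1_le]; simp; omega
    have h3 : ¬ (Finsupp.single 0 1 + Finsupp.single 1 1 : Fin 2 →₀ ℕ) ≤ Finsupp.single 1 j := by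
      rw [single01_le]; simp
    rw [map_add, map_add, coeff_mul_monomial, coeff_mul_monomial, coeff_mul_monomial,
      if_neg h1, if_neg h2, if_neg h3, add_zero, add_zero]

/-- conversely a series whose low pure coefficients vanish lies in `(x^u, w y^v, xy)` -/
theorem mem_of_coeff (u v : ℕ) (_hu : 1 ≤ u) (hv : 1 ≤ v) (w : k) (hw : w ≠ 0)
    (p : MvPowerSeries (Fin 2) k)
    (h0 : ∀ i < u, coeff (Finsupp.single 0 i) p = 0)
    (h1 : ∀ j, 1 ≤ j → j < v → coeff (Finsupp.single 1 j) p = 0) :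
    ∃ a b g : MvPowerSeries (Fin 2) k, p = a * X 0 ^ u + b * (C w * X 1 ^ v) + g * (X 0 * X 1) := by
  obtain ⟨a, ha⟩ : ∃ a : MvPowerSeries (Fin 2) k, ∀ d, coeff d a =
      if d 1 = 0 then coeff (d + Finsupp.single 0 u) p else 0 := ⟨fun d => _, fun d => rfl⟩
  obtain ⟨b, hb⟩ : ∃ b : MvPowerSeries (Fin 2) k, ∀ d, coeff d b =
      if d 0 = 0 then w⁻¹ * coeff (d + Finsupp.single 1 v) p else 0 := ⟨fun d => _, fun d => rfl⟩
  obtain ⟨g, hg⟩ : ∃ g : MvPowerSeries (Fin 2) k, ∀ d, coeff d g =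
      coeff (d + (Finsupp.single 0 1 + Finsupp.single 1 1)) p := ⟨fun d => _, fun d => rfl⟩
  refine ⟨a, b, g, ?_⟩
  rw [X_pow_eq, CwX1_eq, X0X1_eq]
  ext d
  have T1 : coeff d (a * monomial (Finsupp.single 0 u) 1) =
      if u ≤ d 0 ∧ d 1 = 0 then coeff d p else 0 := by
    rw [coeff_mul_monomial, mul_one]
    by_cases c : (Finsupp.single 0 u : Fin 2 →₀ ℕ) ≤ d
    · rw [if_pos c, ha, tsub_add_cancel_of_le c]
      have e : (d - Finsupp.single 0 u : Fin 2 →₀ ℕ) 1 = d 1 := by
        rw [Finsupp.tsub_apply]; simp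
      rw [e]
      have c' := (single0_le u d).mp c
      by_cases c1 : d 1 = 0
      · rw [if_pos c1, if_pos ⟨c', c1⟩]
      · rw [if_neg c1, if_neg (fun h => c1 h.2)]
    · rw [if_neg c, if_neg (fun h => c ((single0_le u d).mpr h.1))]
  have T2 : coeff d (b * monomial (Finsupp.single 1 v) w) =
      if v ≤ d 1 ∧ d 0 = 0 then coeff d p else 0 := by
    rw [coeff_mul_monomial]
    by_cases c : (Finsupp.single 1 v : Fin 2 →₀ ℕ) ≤ d
    · rw [if_pos c, hb, tsub_add_cancel_of_le c]
      have e : (d - Finsupp.single 1 v : Fin 2 →₀ ℕ) 0 = d 0 := by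
        rw [Finsupp.tsub_apply]; simp
      rw [e]
      have c' := (single1_le v d).mp c
      by_cases c1 : d 0 = 0
      · rw [if_pos c1, if_pos ⟨c', c1⟩, mul_comm, ← mul_assoc, mul_inv_cancel₀ hw, one_mul]
      · rw [if_neg c1, if_neg (fun h => c1 h.2), zero_mul]
    · rw [if_neg c, if_neg (fun h => c ((single1_le v d).mpr h.1))]
  have T3 : coeff d (g * monomial (Finsupp.single 0 1 + Finsupp.single 1 1) 1) =
      if 1 ≤ d 0 ∧ 1 ≤ d 1 then coeff d p else 0 := by
    rw [coeff_mul_monomial, mul_one]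
    by_cases c : (Finsupp.single 0 1 + Finsupp.single 1 1 : Fin 2 →₀ ℕ) ≤ d
    · rw [if_pos c, hg, tsub_add_cancel_of_le c, if_pos ((single01_le d).mp c)]
    · rw [if_neg c, if_neg (fun h => c ((single01_le d).mpr h))]
  rw [map_add, map_add, T1, T2, T3]
  by_cases c1 : d 1 = 0
  · rw [if_neg (fun h => by omega : ¬ (v ≤ d 1 ∧ d 0 = 0)),
      if_neg (fun h => by omega : ¬ (1 ≤ d 0 ∧ 1 ≤ d 1)), add_zero, add_zero]
    by_cases c0 : u ≤ d 0
    · rw [if_pos ⟨c0, c1⟩]
    · rw [if_neg (fun h => c0 h.1)]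
      have : d = Finsupp.single 0 (d 0) := fin2_ext (by simp) (by simp [c1])
      rw [this]
      exact h0 _ (by omega)
  · by_cases c0 : d 0 = 0
    · rw [if_neg (fun h => c1 h.2 : ¬ (u ≤ d 0 ∧ d 1 = 0)),
        if_neg (fun h => by omega : ¬ (1 ≤ d 0 ∧ 1 ≤ d 1)), zero_add, add_zero]
      by_cases c2 : v ≤ d 1
      · rw [if_pos ⟨c2, c0⟩]
      · rw [if_neg (fun h => c2 h.1)]
        have : d = Finsupp.single 1 (d 1) := fin2_ext (by simp [c0]) (by simp)
        rw [this]
        exact h1 _ (by omega) (by omega)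
    · rw [if_neg (fun h => c1 h.2 : ¬ (u ≤ d 0 ∧ d 1 = 0)),
        if_neg (fun h => c0 h.2 : ¬ (v ≤ d 1 ∧ d 0 = 0)),
        if_pos (⟨by omega, by omega⟩ : 1 ≤ d 0 ∧ 1 ≤ d 1), zero_add, zero_add]

end plevel


section qlevel

variable (k : Type u) [Field k] (u v : ℕ) (w : k)

/-- the ideal `(x^u, w y^v)` of the node ring -/
noncomputable abbrev J : Ideal (NodeRing k 0) :=
  Ideal.span {NodeRing.x k 0 ^ u, algebraMap k (NodeRing k 0) w * NodeRing.y k 0 ^ v}

/-- the projection from the power series ring -/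
noncomputable def proj : MvPowerSeries (Fin 2) k →ₐ[k] (NodeRing k 0 ⧸ J k u v w) :=
  (Ideal.Quotient.mkₐ k (J k u v w)).comp (Ideal.Quotient.mkₐ k _)

theorem proj_surjective : Function.Surjective (proj k u v w) := by
  intro z
  obtain ⟨z', rfl⟩ := Ideal.Quotient.mk_surjective z
  obtain ⟨p, rfl⟩ := Ideal.Quotient.mk_surjective z'
  exact ⟨p, rfl⟩

theorem proj_eq_zero_iff (p : MvPowerSeries (Fin 2) k) :
    proj k u v w p = 0 ↔
      ∃ a b g : MvPowerSeries (Fin 2) k, p = a * X 0 ^ u + b * (C w * X 1 ^ v) + g * (X 0 * X 1) := by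
  have hproj : proj k u v w p = Ideal.Quotient.mk (J k u v w) (Ideal.Quotient.mk _ p) := rfl
  rw [hproj, Ideal.Quotient.eq_zero_iff_mem, Ideal.mem_span_pair]
  constructor
  · rintro ⟨a', b', h⟩
    obtain ⟨a, rfl⟩ := Ideal.Quotient.mk_surjective a'
    obtain ⟨b, rfl⟩ := Ideal.Quotient.mk_surjective b'
    have h' : Ideal.Quotient.mk (Ideal.span {(X 0 * X 1 - C 0 : MvPowerSeries (Fin 2) k)})
        (a * X 0 ^ u + b * (C w * X 1 ^ v)) = Ideal.Quotient.mk _ p := by
      rw [← h, map_add, map_mul, map_mul, map_mul, map_pow, map_pow]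
      rfl
    rw [Ideal.Quotient.eq, Ideal.mem_span_singleton'] at h'
    obtain ⟨g, hg⟩ := h'
    refine ⟨a, b, -g, ?_⟩
    rw [map_zero, sub_zero] at hg
    linear_combination hg
  · rintro ⟨a, b, g, rfl⟩
    refine ⟨Ideal.Quotient.mk _ a, Ideal.Quotient.mk _ b, ?_⟩
    have h0 : Ideal.Quotient.mk (Ideal.span {(X 0 * X 1 - C 0 : MvPowerSeries (Fin 2) k)})
        (g * (X 0 * X 1)) = 0 := by
      rw [Ideal.Quotient.eq_zero_iff_mem]
      apply Ideal.mul_mem_left
      exact Ideal.mem_span_singleton'.mpr ⟨1, by rw [one_mul, map_zero, sub_zero]⟩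
    rw [map_add, map_add, h0, add_zero, map_mul, map_mul, map_mul, map_pow, map_pow]
    rfl


/-- the polynomial with prescribed low pure coefficients -/
noncomputable def Q (g : Fin u ⊕ Fin (v - 1) → k) : MvPowerSeries (Fin 2) k :=
  ∑ i : Fin u, monomial (Finsupp.single 0 i.val) (g (Sum.inl i)) +
    ∑ j : Fin (v - 1), monomial (Finsupp.single 1 (j.val + 1)) (g (Sum.inr j))

theorem coeff_Q0 (g : Fin u ⊕ Fin (v - 1) → k) (i0 : Fin u) :
    coeff (Finsupp.single (0 : Fin 2) i0.val) (Q k u v g) = g (Sum.inl i0) := by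
  classical
  unfold Q
  rw [map_add, map_sum, map_sum]
  have h1 : ∀ i : Fin u, coeff (Finsupp.single (0 : Fin 2) i0.val) (monomial (Finsupp.single (0 : Fin 2) i.val)
      (g (Sum.inl i))) = if i = i0 then g (Sum.inl i) else 0 := by
    intro i
    rw [coeff_monomial]
    by_cases h : i = i0
    · rw [if_pos h, if_pos (by rw [h])]
    · rw [if_neg h, if_neg]
      intro h'
      have := DFunLike.congr_fun h' 0
      simp at this
      exact h (Fin.ext this.symm)
  have h2 : ∀ j : Fin (v - 1), coeff (Finsupp.single (0 : Fin 2) i0.val)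
      (monomial (Finsupp.single (1 : Fin 2) (j.val + 1)) (g (Sum.inr j))) = 0 := by
    intro j
    rw [coeff_monomial, if_neg]
    intro h'
    have := DFunLike.congr_fun h' 1
    simp at this
  simp only [h1, h2, Finset.sum_ite_eq', Finset.mem_univ, if_true, Finset.sum_const_zero, add_zero]

theorem coeff_Q1 (g : Fin u ⊕ Fin (v - 1) → k) (j0 : Fin (v - 1)) :
    coeff (Finsupp.single (1 : Fin 2) (j0.val + 1)) (Q k u v g) = g (Sum.inr j0) := by
  classical
  unfold Q
  rw [map_add, map_sum, map_sum]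
  have h1 : ∀ j : Fin (v - 1), coeff (Finsupp.single (1 : Fin 2) (j0.val + 1))
      (monomial (Finsupp.single (1 : Fin 2) (j.val + 1)) (g (Sum.inr j))) =
      if j = j0 then g (Sum.inr j) else 0 := by
    intro j
    rw [coeff_monomial]
    by_cases h : j = j0
    · rw [if_pos h, if_pos (by rw [h])]
    · rw [if_neg h, if_neg]
      intro h'
      have := DFunLike.congr_fun h' 1
      simp at this
      exact h (Fin.ext this.symm)
  have h2 : ∀ i : Fin u, coeff (Finsupp.single (1 : Fin 2) (j0.val + 1))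
      (monomial (Finsupp.single (0 : Fin 2) i.val) (g (Sum.inl i))) = 0 := by
    intro i
    rw [coeff_monomial, if_neg]
    intro h'
    have := DFunLike.congr_fun h' 1
    simp at this
  simp only [h1, h2, Finset.sum_ite_eq', Finset.mem_univ, if_true, Finset.sum_const_zero, zero_add]

/-- the basis family -/
noncomputable def bfam : Fin u ⊕ Fin (v - 1) → (NodeRing k 0 ⧸ J k u v w) :=
  Sum.elim (fun i => Ideal.Quotient.mk _ (NodeRing.x k 0 ^ i.val))
    (fun j => Ideal.Quotient.mk _ (NodeRing.y k 0 ^ (j.val + 1)))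

theorem proj_monomial0 (i : ℕ) (c : k) :
    proj k u v w (monomial (Finsupp.single 0 i) c) =
      c • Ideal.Quotient.mk (J k u v w) (NodeRing.x k 0 ^ i) := by
  have : monomial (Finsupp.single 0 i) c = c • (X 0 ^ i : MvPowerSeries (Fin 2) k) := by
    rw [X_pow_eq, ← map_smul, smul_eq_mul, mul_one]
  rw [this, map_smul]
  rfl

theorem proj_monomial1 (j : ℕ) (c : k) :
    proj k u v w (monomial (Finsupp.single 1 j) c) =
      c • Ideal.Quotient.mk (J k u v w) (NodeRing.y k 0 ^ j) := by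
  have : monomial (Finsupp.single 1 j) c = c • (X 1 ^ j : MvPowerSeries (Fin 2) k) := by
    rw [X_pow_eq, ← map_smul, smul_eq_mul, mul_one]
  rw [this, map_smul]
  rfl

theorem proj_Q (g : Fin u ⊕ Fin (v - 1) → k) :
    proj k u v w (Q k u v g) = ∑ i, g i • bfam k u v w i := by
  unfold Q
  rw [map_add, map_sum, map_sum, Fintype.sum_sum_type]
  congr 1
  · apply Finset.sum_congr rfl
    intro i _
    rw [proj_monomial0]
    rfl
  · apply Finset.sum_congr rfl
    intro j _
    rw [proj_monomial1]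
    rfl

theorem main (hu : 1 ≤ u) (hv : 1 ≤ v) (hw : w ≠ 0) :
    Module.finrank k (SpinCurv.NodeRing k 0 ⧸
      Ideal.span {SpinCurv.NodeRing.x k 0 ^ u, algebraMap k (SpinCurv.NodeRing k 0) w * SpinCurv.NodeRing.y k 0 ^ v}) =
      u + v - 1 := by
  have hli : LinearIndependent k (bfam k u v w) := by
    rw [Fintype.linearIndependent_iff]
    intro g hg
    rw [← proj_Q, proj_eq_zero_iff] at hg
    obtain ⟨a, b, g', hQ⟩ := hg
    obtain ⟨c0, c1⟩ := coeff_of_mem u v hu hv w a b g'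
    rw [← hQ] at c0 c1
    rintro (i | j)
    · rw [← coeff_Q0 k u v g i]
      exact c0 _ i.2
    · rw [← coeff_Q1 k u v g j]
      exact c1 _ (by omega) (by have := j.2; omega)
  have hsp : ⊤ ≤ Submodule.span k (Set.range (bfam k u v w)) := by
    rintro z -
    obtain ⟨p, rfl⟩ := proj_surjective k u v w z
    set g0 : Fin u ⊕ Fin (v - 1) → k :=
      Sum.elim (fun i => coeff (Finsupp.single 0 i.val) p)
        (fun j => coeff (Finsupp.single 1 (j.val + 1)) p) with hg0
    have hdiff : proj k u v w (p - Q k u v g0) = 0 := by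
      rw [proj_eq_zero_iff]
      apply mem_of_coeff u v hu hv w hw
      · intro i hi
        rw [map_sub, coeff_Q0 k u v g0 ⟨i, hi⟩]
        simp only [hg0, Sum.elim_inl, sub_self]
      · intro j hj1 hj
        have := coeff_Q1 k u v g0 ⟨j - 1, by omega⟩
        have e : j - 1 + 1 = j := by omega
        simp only [e] at this
        rw [map_sub, this, hg0]
        simp only [Sum.elim_inr, e, sub_self]
    rw [map_sub, sub_eq_zero] at hdiff
    rw [hdiff, proj_Q]
    apply Submodule.sum_mem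
    intro i _
    exact Submodule.smul_mem _ _ (Submodule.subset_span ⟨i, rfl⟩)
  have := Module.finrank_eq_card_basis (Module.Basis.mk hli hsp)
  rw [Fintype.card_sum, Fintype.card_fin, Fintype.card_fin] at this
  rw [this]
  omega

end qlevel

end Aux

/-- Let k be a field, u, v ≥ 1 integers and w ∈ k nonzero. In the ring A = k[[x, y]]/(xy), the quotient
A/(x^u, w y^v) has dimension u + v - 1 over k (a basis is 1, x, …, x^{u-1}, y, …, y^{v-1}); this is
the length of the cokernel at the node of a map whose image is generated by x^u and w y^v. -/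
theorem result (k : Type u) [Field k] (u v : ℕ) (hu : 1 ≤ u) (hv : 1 ≤ v)
    (w : k) (hw : w ≠ 0) :
    Module.finrank k (SpinCurv.NodeRing k 0 ⧸
      Ideal.span {SpinCurv.NodeRing.x k 0 ^ u, algebraMap k (SpinCurv.NodeRing k 0) w * SpinCurv.NodeRing.y k 0 ^ v}) =
      u + v - 1 := by
  exact Aux.main k u v w hu hv hw

end Groth.Agent.S18434
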