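import Groth.Statements.S14892
import Mathlib
-- import your own Groth.Agent.* helpers here

set_option autoImplicit false
universe u
open CAlg

namespace Groth.Agent.S14892

namespace Aux

variable {K : Type u} [Field K]

/-- Lemma A -/
lemma val_lt_of_mem_of_not_mem (A : ValuationSubring K) (P : Ideal A) (a b : A) (ha : a ∈ P)
    (hb : b ∉ P) : A.valuation (a : K) < A.valuation (b : K) := by
  by_contra h
  push Not at h
  obtain ⟨c, hc⟩ := (A.valuation_le_iff _ _).mp h
  apply hb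
  have : b = c * a := Subtype.ext (by simp [hc])
  rw [this]; exact P.mul_mem_left c ha

lemma exists_val_sum_eq {Γ : Type*} [LinearOrderedCommGroupWithZero Γ] (v : Valuation K Γ)
    {ι : Type*} (s : Finset ι) (hs : s.Nonempty) (T : ι → K) (hne : ∀ k ∈ s, T k ≠ 0)
    (hdist : ∀ k ∈ s, ∀ l ∈ s, k ≠ l → v (T k) ≠ v (T l)) :
    ∃ k ∈ s, v (∑ i ∈ s, T i) = v (T k) := by
  classical
  obtain ⟨k, hk, hmax⟩ := s.exists_max_image (fun i => v (T i)) hs
  refine ⟨k, hk, ?_⟩
  rw [← Finset.add_sum_erase s T hk]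
  apply Valuation.map_add_eq_of_lt_left
  apply Valuation.map_sum_lt v (by simpa using hne k hk)
  intro i hi
  have hi' := Finset.mem_erase.mp hi
  exact lt_of_le_of_ne (hmax i hi'.2) (hdist i hi'.2 k hk hi'.1)

/-- elements of the prime field are ratios of coprime integers -/
lemma exists_coprime_of_mem_bot (c : K) (hc : c ∈ (⊥ : Subfield K)) (hc0 : c ≠ 0) :
    ∃ s t : ℤ, IsCoprime s t ∧ (s : K) ≠ 0 ∧ (t : K) ≠ 0 ∧ c * (t : K) = (s : K) := by
  rw [← Subfield.closure_empty, Subfield.mem_closure_iff] at hc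
  obtain ⟨y, hy, z, hz, rfl⟩ := hc
  rw [Subring.closure_empty, Subring.mem_bot] at hy hz
  obtain ⟨n, rfl⟩ := hy
  obtain ⟨m, rfl⟩ := hz
  have hm0 : (m : K) ≠ 0 := by
    intro h; apply hc0; rw [h, div_zero]
  have hn0 : (n : K) ≠ 0 := by
    intro h; apply hc0; rw [h, zero_div]
  have hm0' : m ≠ 0 := by rintro rfl; simp at hm0
  set g : ℤ := ((Int.gcd n m : ℕ) : ℤ) with hg
  have hg0 : g ≠ 0 := by
    rw [hg]; exact_mod_cast (Int.gcd_pos_of_ne_zero_right n hm0').ne'
  obtain ⟨n', hn'⟩ : g ∣ n := Int.gcd_dvd_left n m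
  obtain ⟨m', hm'⟩ : g ∣ m := Int.gcd_dvd_right n m
  have hgK : (g : K) ≠ 0 := by
    intro h; apply hm0; rw [hm']; push_cast; rw [h, zero_mul]
  have hcop : IsCoprime n' m' := by
    have h1 : Int.gcd n' m' = 1 := by
      have h2 : Int.gcd n m = Int.natAbs g * Int.gcd n' m' := by
        conv_lhs => rw [hn', hm']
        rw [Int.gcd_mul_left]
      have h3 : Int.natAbs g = Int.gcd n m := by rw [hg]; simp
      rw [h3] at h2
      have h4 : 0 < Int.gcd n m := Int.gcd_pos_of_ne_zero_right n hm0'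
      nlinarith [Nat.eq_of_mul_eq_mul_left h4 (by rw [← h2, mul_one] : Int.gcd n m * Int.gcd n' m' = Int.gcd n m * 1)]
    exact Int.isCoprime_iff_gcd_eq_one.mpr h1
  have hn'K : (n' : K) ≠ 0 := by
    intro h; apply hn0; rw [hn']; push_cast; rw [h, mul_zero]
  have hm'K : (m' : K) ≠ 0 := by
    intro h; apply hm0; rw [hm']; push_cast; rw [h, mul_zero]
  refine ⟨n', m', hcop, hn'K, hm'K, ?_⟩
  rw [hn', hm']; push_cast
  field_simp


/-- invariant -/
def Good (A : ValuationSubring K) (S : Subalgebra (⊥ : Subfield K) K) (P : Ideal A) : Prop :=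
  ∀ r ∈ S, r ≠ 0 → ∃ c : (⊥ : Subfield K), c ≠ 0 ∧ ∃ α β : A, α ∉ P ∧ β ∉ P ∧
    r * (β : K) = (c : K) * (α : K)

lemma key (A : ValuationSubring K) (P P' : Ideal A) [P.IsPrime] [P'.IsPrime] (hle : P' ≤ P)
    (hnj : ∀ z : ℤ, (z : A) ∈ P → (z : A) ∈ P')
    (x : A) (hxP : x ∈ P) (hxP' : x ∉ P') (s t : ℤ) (hst : IsCoprime s t) (a b : A)
    (ha : a ∉ P) (hb : b ∉ P) (e : ℕ) (he : 1 ≤ e) :
    A.valuation ((s : K) * a * (x : K) ^ e) ≠ A.valuation ((t : K) * b) := by
  have hX : ((s : K) * a * (x : K) ^ e) = (((s : A) * a * x ^ e : A) : K) := by push_cast; rfl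
  have hY : ((t : K) * b) = (((t : A) * b : A) : K) := by push_cast; rfl
  rw [hX, hY]
  have ha' : a ∉ P' := fun h => ha (hle h)
  have hb' : b ∉ P' := fun h => hb (hle h)
  by_cases ht : (t : A) ∈ P
  · have ht' := hnj t ht
    have hs' : (s : A) ∉ P' := by
      intro hs'
      obtain ⟨u, w, huw⟩ := hst
      have h1 : ((u : A) * (s : A) + (w : A) * (t : A)) = 1 := by exact_mod_cast congrArg (Int.cast : ℤ → A) huw
      have : (1 : A) ∈ P' := by
        rw [← h1]; exact P'.add_mem (P'.mul_mem_left _ hs') (P'.mul_mem_left _ ht')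
      exact (Ideal.IsPrime.ne_top ‹P'.IsPrime›) ((Ideal.eq_top_iff_one _).mpr this)
    have hXn : (s : A) * a * x ^ e ∉ P' := by
      intro h
      rcases (Ideal.IsPrime.mem_or_mem ‹P'.IsPrime› h) with h | h
      · rcases (Ideal.IsPrime.mem_or_mem ‹P'.IsPrime› h) with h | h
        · exact hs' h
        · exact ha' h
      · exact hxP' (Ideal.IsPrime.mem_of_pow_mem ‹P'.IsPrime› e h)
    exact (val_lt_of_mem_of_not_mem A P' _ _ (P'.mul_mem_right _ ht') hXn).ne'
  · by_cases hs : (s : A) ∈ P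
    · have hs' := hnj s hs
      have ht' : (t : A) ∉ P' := fun h => ht (hle h)
      have hYn : (t : A) * b ∉ P' := by
        intro h
        rcases (Ideal.IsPrime.mem_or_mem ‹P'.IsPrime› h) with h | h
        · exact ht' h
        · exact hb' h
      exact (val_lt_of_mem_of_not_mem A P' _ _
        (P'.mul_mem_right _ (P'.mul_mem_right _ hs')) hYn).ne
    · have hYn : (t : A) * b ∉ P := by
        intro h
        rcases (Ideal.IsPrime.mem_or_mem ‹P.IsPrime› h) with h | h
        · exact ht h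
        · exact hb h
      have hXm : (s : A) * a * x ^ e ∈ P := by
        apply P.mul_mem_left
        obtain ⟨e', rfl⟩ : ∃ e', e = e' + 1 := ⟨e - 1, by omega⟩
        rw [pow_succ]; exact P.mul_mem_left _ hxP
      exact (val_lt_of_mem_of_not_mem A P _ _ hXm hYn).ne


lemma coe_ne_zero_of_not_mem (A : ValuationSubring K) (P : Ideal A) (a : A) (ha : a ∉ P) :
    (a : K) ≠ 0 := by
  intro h
  apply ha
  have : a = 0 := Subtype.ext h
  rw [this]; exact P.zero_mem

lemma terms_ne (A : ValuationSubring K) (S : Subalgebra (⊥ : Subfield K) K) (P P' : Ideal A)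
    [P.IsPrime] [P'.IsPrime] (hle : P' ≤ P)
    (hnj : ∀ z : ℤ, (z : A) ∈ P → (z : A) ∈ P') (hgood : Good A S P)
    (x : A) (hxP : x ∈ P) (hxP' : x ∉ P')
    (rk rl : K) (hrk : rk ∈ S) (hrl : rl ∈ S) (hrk0 : rk ≠ 0) (hrl0 : rl ≠ 0) (k l : ℕ)
    (hlk : l < k) :
    A.valuation (rk * (x : K) ^ k) ≠ A.valuation (rl * (x : K) ^ l) := by
  obtain ⟨ck, hck, αk, βk, hαk, hβk, h1⟩ := hgood rk hrk hrk0
  obtain ⟨cl, hcl, αl, βl, hαl, hβl, h2⟩ := hgood rl hrl hrl0
  have hx0 : (x : K) ≠ 0 := coe_ne_zero_of_not_mem A P' x hxP'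
  have hclK : (cl : K) ≠ 0 := by
    intro h; apply hcl; exact Subtype.ext h
  have hckK : (ck : K) ≠ 0 := by
    intro h; apply hck; exact Subtype.ext h
  have hc0 : (ck : K) * (cl : K)⁻¹ ≠ 0 := mul_ne_zero hckK (inv_ne_zero hclK)
  have hcmem : (ck : K) * (cl : K)⁻¹ ∈ (⊥ : Subfield K) :=
    (⊥ : Subfield K).mul_mem ck.2 ((⊥ : Subfield K).inv_mem cl.2)
  obtain ⟨s, t, hst, hs0, ht0, hct⟩ := exists_coprime_of_mem_bot _ hcmem hc0
  have h3 : (ck : K) * (t : K) = (s : K) * (cl : K) := by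
    rw [← hct]; field_simp
  obtain ⟨e, he⟩ : ∃ e, k = l + e := ⟨k - l, by omega⟩
  have he1 : 1 ≤ e := by omega
  have hαβ : αk * βl ∉ P := by
    intro h
    rcases (Ideal.IsPrime.mem_or_mem ‹P.IsPrime› h) with h | h
    · exact hαk h
    · exact hβl h
  have hαβ' : αl * βk ∉ P := by
    intro h
    rcases (Ideal.IsPrime.mem_or_mem ‹P.IsPrime› h) with h | h
    · exact hαl h
    · exact hβk h
  have hkey := key A P P' hle hnj x hxP hxP' s t hst (αk * βl) (αl * βk) hαβ hαβ' e he1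
  intro heq
  apply hkey
  have hid : (rk * (x : K) ^ k) * ((t : K) * ((αl * βk : A) : K)) =
      (rl * (x : K) ^ l) * ((s : K) * ((αk * βl : A) : K) * (x : K) ^ e) := by
    push_cast
    rw [he, pow_add]
    linear_combination ((x : K) ^ l * (x : K) ^ e * (t : K) * (αl : K)) * h1
      - ((x : K) ^ l * (x : K) ^ e * (s : K) * (αk : K)) * h2
      + ((x : K) ^ l * (x : K) ^ e * (αk : K) * (αl : K)) * h3
  have hv := congrArg A.valuation hid
  rw [map_mul (A.valuation) (rk * (x : K) ^ k), map_mul (A.valuation) (rl * (x : K) ^ l), heq] at hv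
  have hne : A.valuation (rl * (x : K) ^ l) ≠ 0 := by
    rw [Valuation.ne_zero_iff]
    exact mul_ne_zero hrl0 (pow_ne_zero _ hx0)
  exact (mul_left_cancel₀ hne hv).symm


lemma step (A : ValuationSubring K) (S : Subalgebra (⊥ : Subfield K) K) (P P' : Ideal A)
    [P.IsPrime] [P'.IsPrime] (hle : P' ≤ P)
    (hnj : ∀ z : ℤ, (z : A) ∈ P → (z : A) ∈ P') (hgood : Good A S P)
    (x : A) (hxP : x ∈ P) (hxP' : x ∉ P') (f : Polynomial S) (hf : f ≠ 0) :
    Polynomial.aeval (x : K) f ≠ 0 ∧ ∃ c : (⊥ : Subfield K), c ≠ 0 ∧ ∃ α β : A,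
      α ∉ P' ∧ β ∉ P' ∧ (Polynomial.aeval (x : K) f) * (β : K) = (c : K) * (α : K) := by
  classical
  have hx0 : (x : K) ≠ 0 := coe_ne_zero_of_not_mem A P' x hxP'
  set T : ℕ → K := fun k => ((f.coeff k : S) : K) * (x : K) ^ k with hT
  have hsum : Polynomial.aeval (x : K) f = ∑ k ∈ f.support, T k := by
    rw [Polynomial.aeval_def, Polynomial.eval₂_eq_sum, Polynomial.sum_def]
    rfl
  have hne : ∀ k ∈ f.support, T k ≠ 0 := by
    intro k hk
    have h1 : f.coeff k ≠ 0 := Polynomial.mem_support_iff.mp hk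
    have h2 : ((f.coeff k : S) : K) ≠ 0 := fun h => h1 (Subtype.ext h)
    exact mul_ne_zero h2 (pow_ne_zero _ hx0)
  have hcoe : ∀ k ∈ f.support, ((f.coeff k : S) : K) ≠ 0 := by
    intro k hk
    have h1 : f.coeff k ≠ 0 := Polynomial.mem_support_iff.mp hk
    exact fun h => h1 (Subtype.ext h)
  have hdist : ∀ k ∈ f.support, ∀ l ∈ f.support, k ≠ l →
      A.valuation (T k) ≠ A.valuation (T l) := by
    intro k hk l hl hkl
    rcases Nat.lt_or_gt_of_ne hkl with h | h
    · exact (terms_ne A S P P' hle hnj hgood x hxP hxP' _ _ (f.coeff l).2 (f.coeff k).2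
        (hcoe l hl) (hcoe k hk) l k h).symm
    · exact terms_ne A S P P' hle hnj hgood x hxP hxP' _ _ (f.coeff k).2 (f.coeff l).2
        (hcoe k hk) (hcoe l hl) k l h
  have hsupp : f.support.Nonempty := Polynomial.support_nonempty.mpr hf
  obtain ⟨k0, hk0, hv⟩ := exists_val_sum_eq A.valuation f.support hsupp T hne hdist
  rw [← hsum] at hv
  set r := Polynomial.aeval (x : K) f with hr
  have hTk0 : T k0 ≠ 0 := hne k0 hk0
  have hr0 : r ≠ 0 := by
    intro h
    rw [h, map_zero] at hv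
    exact hTk0 ((Valuation.zero_iff _).mp hv.symm)
  refine ⟨hr0, ?_⟩
  obtain ⟨c, hc, α, β, hα, hβ, h1⟩ := hgood _ (f.coeff k0).2 (hcoe k0 hk0)
  set u : K := r / T k0 with hu
  have hvu : A.valuation u = 1 := by
    rw [hu, map_div₀, hv, div_self]
    rwa [Valuation.ne_zero_iff]
  have humem : u ∈ A := (A.valuation_le_one_iff u).mp hvu.le
  have huunit : IsUnit (⟨u, humem⟩ : A) := (A.valuation_eq_one_iff _).mpr hvu
  refine ⟨c, hc, α * x ^ k0 * ⟨u, humem⟩, β, ?_, fun h => hβ (hle h), ?_⟩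
  · intro h
    rcases (Ideal.IsPrime.mem_or_mem ‹P'.IsPrime› h) with h | h
    · rcases (Ideal.IsPrime.mem_or_mem ‹P'.IsPrime› h) with h | h
      · exact hα (hle h)
      · exact hxP' (Ideal.IsPrime.mem_of_pow_mem ‹P'.IsPrime› k0 h)
    · exact (Ideal.IsPrime.ne_top ‹P'.IsPrime›) (Ideal.eq_top_of_isUnit_mem _ h huunit)
  · push_cast
    have h2 : r = T k0 * u := by rw [hu]; field_simp
    rw [h2, hT]
    simp only
    linear_combination ((x : K) ^ k0 * u) * h1


/-- the prime field algebra -/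
abbrev PF (K : Type u) [Field K] := ↥(⊥ : Subfield K)

lemma good_bot (A : ValuationSubring K) (P : Ideal A) [P.IsPrime] :
    Good A (Algebra.adjoin (PF K) (∅ : Set K)) P := by
  intro r hr hr0
  rw [Algebra.adjoin_empty, Algebra.mem_bot] at hr
  obtain ⟨c, rfl⟩ := hr
  have h1 : (1 : A) ∉ P := fun h => (Ideal.IsPrime.ne_top ‹P.IsPrime›) ((Ideal.eq_top_iff_one _).mpr h)
  refine ⟨c, ?_, 1, 1, h1, h1, ?_⟩
  · rintro rfl; exact hr0 (map_zero _)
  · simp; rfl

lemma good_mono (A : ValuationSubring K) (S : Subalgebra (PF K) K) (P P' : Ideal A)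
    (hle : P' ≤ P) (h : Good A S P) : Good A S P' := by
  intro r hr hr0
  obtain ⟨c, hc, α, β, hα, hβ, h1⟩ := h r hr hr0
  exact ⟨c, hc, α, β, fun h => hα (hle h), fun h => hβ (hle h), h1⟩

lemma step_full (A : ValuationSubring K) (T : Set K) (P P' : Ideal A)
    [P.IsPrime] [P'.IsPrime] (hle : P' ≤ P)
    (hnj : ∀ z : ℤ, (z : A) ∈ P → (z : A) ∈ P') (hgood : Good A (Algebra.adjoin (PF K) T) P)
    (x : A) (hxP : x ∈ P) (hxP' : x ∉ P') :
    Transcendental (Algebra.adjoin (PF K) T) (x : K) ∧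
      Good A (Algebra.adjoin (PF K) (insert (x : K) T)) P' := by
  constructor
  · rintro ⟨f, hf, h0⟩
    exact (step A _ P P' hle hnj hgood x hxP hxP' f hf).1 h0
  · intro r hr hr0
    rw [← Set.union_singleton, Algebra.adjoin_union_eq_adjoin_adjoin,
      Subalgebra.mem_restrictScalars, Algebra.adjoin_singleton_eq_range_aeval] at hr
    obtain ⟨f, rfl⟩ := hr
    have hf : f ≠ 0 := by
      rintro rfl
      apply hr0
      simp
    exact (step A _ P P' hle hnj hgood x hxP hxP' f hf).2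


open Cardinal in
theorem main (K : Type u) [Field K] (A : ValuationSubring K) (d : ℕ)
    (hd : Algebra.trdeg (⊥ : Subfield K) K = d) :
    ringKrullDim A ≤ ((d + 1 : ℕ) : WithBot ℕ∞) := by
  classical
  unfold ringKrullDim Order.krullDim
  apply iSup_le
  intro p
  suffices h : p.length ≤ d + 1 by exact_mod_cast h
  set n := p.length with hn
  let Q : ℕ → PrimeSpectrum A := fun i => p ⟨min i n, Nat.lt_succ_of_le (min_le_right _ _)⟩
  have hQmono : ∀ i j, i ≤ j → Q i ≤ Q j := by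
    intro i j hij
    apply p.strictMono.monotone
    simp only [Fin.mk_le_mk]; exact min_le_min_right _ hij
  have hQlt : ∀ i, i < n → Q i < Q (i+1) := by
    intro i hi
    apply p.strictMono
    simp only [Fin.mk_lt_mk]; rw [min_eq_left hi.le, min_eq_left (Nat.succ_le_of_lt hi)]; omega
  have hex : ∀ i, ∃ x : A, i < n → (x ∈ (Q (i+1)).asIdeal ∧ x ∉ (Q i).asIdeal) := by
    intro i
    by_cases hi : i < n
    · obtain ⟨x, hx1, hx2⟩ := SetLike.exists_of_lt
        (show (Q i).asIdeal < (Q (i+1)).asIdeal from (hQlt i hi))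
      exact ⟨x, fun _ => ⟨hx1, hx2⟩⟩
    · exact ⟨0, fun h => absurd h hi⟩
  choose x hx using hex
  let jump : ℕ → Prop := fun i => ∃ z : ℤ, (z : A) ∈ (Q (i+1)).asIdeal ∧ (z : A) ∉ (Q i).asIdeal
  let y : ℕ → K := fun i => (x i : K)
  let s : ℕ → Set ℕ := fun m => {i | i < n ∧ ¬ jump i ∧ m ≤ i}
  have claim : ∀ m (hm : m ≤ n), AlgebraicIndepOn (PF K) y (s m) ∧
      Good A (Algebra.adjoin (PF K) (y '' s m)) (Q m).asIdeal := by
    intro m hm
    refine Nat.decreasingInduction (motive := fun m _ => AlgebraicIndepOn (PF K) y (s m) ∧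
      Good A (Algebra.adjoin (PF K) (y '' s m)) (Q m).asIdeal) ?_ ?_ hm
    rotate_left
    · have hs : s n = ∅ := by
        ext i; simp only [s, Set.mem_setOf_eq, Set.mem_empty_iff_false, iff_false]; omega
      rw [hs]; constructor
      · exact algebraicIndependent_empty_type
      · rw [Set.image_empty]
        haveI := (Q n).isPrime
        exact good_bot A _
    · intro k hk ih
      obtain ⟨ih1, ih2⟩ := ih
      haveI := (Q k).isPrime; haveI := (Q (k+1)).isPrime
      by_cases hj : jump k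
      · have hs : s k = s (k+1) := by
          ext i; simp only [s, Set.mem_setOf_eq]
          constructor
          · rintro ⟨h1, h2, h3⟩
            refine ⟨h1, h2, ?_⟩
            rcases Nat.eq_or_lt_of_le h3 with rfl | h
            · exact absurd hj h2
            · exact h
          · rintro ⟨h1, h2, h3⟩; exact ⟨h1, h2, by omega⟩
        rw [hs]; exact ⟨ih1, good_mono A _ _ _ (hQlt k hk).le ih2⟩
      · have hs : s k = insert k (s (k+1)) := by
          ext i; simp only [s, Set.mem_setOf_eq, Set.mem_insert_iff]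
          constructor
          · rintro ⟨h1, h2, h3⟩
            rcases Nat.eq_or_lt_of_le h3 with rfl | h
            · left; rfl
            · right; exact ⟨h1, h2, h⟩
          · rintro (rfl | ⟨h1, h2, h3⟩)
            · exact ⟨hk, hj, le_rfl⟩
            · exact ⟨h1, h2, by omega⟩
        have hnj : ∀ z : ℤ, (z : A) ∈ (Q (k+1)).asIdeal → (z : A) ∈ (Q k).asIdeal := by
          intro z hz; by_contra h; exact hj ⟨z, hz, h⟩
        obtain ⟨h1, h2⟩ := step_full A (y '' s (k+1)) (Q (k+1)).asIdeal (Q k).asIdeal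
          (hQlt k hk).le hnj ih2 (x k) (hx k hk).1 (hx k hk).2
        rw [hs]; refine ⟨AlgebraicIndepOn.insert ih1 h1, ?_⟩
        rw [Set.image_insert_eq]; exact h2
  obtain ⟨hind, -⟩ := claim 0 (Nat.zero_le n)
  -- jump uniqueness
  have huniq : ∀ i i', i < n → i' < n → jump i → jump i' → i < i' → False := by
    rintro i i' hi hi' ⟨z, hz1, hz2⟩ ⟨z', hz1', hz2'⟩ hlt
    set 𝔞 := Ideal.comap (Int.castRingHom A) (Q i').asIdeal with h𝔞
    set 𝔟 := Ideal.comap (Int.castRingHom A) (Q (i'+1)).asIdeal with h𝔟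
    haveI := (Q i').isPrime; haveI := (Q (i'+1)).isPrime
    haveI : 𝔞.IsPrime := Ideal.comap_isPrime _ _
    haveI : 𝔟.IsPrime := Ideal.comap_isPrime _ _
    have hz𝔞 : z ∈ 𝔞 := by
      rw [h𝔞, Ideal.mem_comap]
      have := hQmono (i+1) i' (by omega)
      simpa using this hz1
    have hz0 : z ≠ 0 := by
      rintro rfl
      apply hz2
      simp
    have h𝔞0 : 𝔞 ≠ ⊥ := by
      intro h
      rw [h, Ideal.mem_bot] at hz𝔞
      exact hz0 hz𝔞
    have hmax : 𝔞.IsMaximal := Ideal.IsPrime.isMaximal inferInstance h𝔞0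
    have hle : 𝔞 ≤ 𝔟 := Ideal.comap_mono (hQlt i' hi').le
    have heq : 𝔞 = 𝔟 := hmax.eq_of_le (Ideal.IsPrime.ne_top inferInstance) hle
    have hz'𝔟 : z' ∈ 𝔟 := by
      rw [h𝔟, Ideal.mem_comap]; simpa using hz1'
    rw [← heq, h𝔞, Ideal.mem_comap] at hz'𝔟
    apply hz2'
    simpa using hz'𝔟
  -- cardinality
  let I : Finset ℕ := (Finset.range n).filter (fun i => ¬ jump i)
  let J : Finset ℕ := (Finset.range n).filter (fun i => jump i)
  have hsI : s 0 = (I : Set ℕ) := by
    ext i; simp [s, I]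
  have hJ : J.card ≤ 1 := by
    rw [Finset.card_le_one]
    intro a ha b hb
    simp only [J, Finset.mem_filter, Finset.mem_range] at ha hb
    rcases lt_trichotomy a b with h | h | h
    · exact (huniq a b ha.1 hb.1 ha.2 hb.2 h).elim
    · exact h
    · exact (huniq b a hb.1 ha.1 hb.2 ha.2 h).elim
  have hIJ : J.card + I.card = n := by
    have := Finset.card_filter_add_card_filter_not (s := Finset.range n) (fun i => jump i)
    simpa [I, J] using this
  have hcard := hind.lift_cardinalMk_le_trdeg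
  rw [hd, hsI] at hcard
  simp only [Finset.coe_sort_coe, Cardinal.mk_coe_finset] at hcard
  have hId : I.card ≤ d := by
    have : ((I.card : ℕ) : Cardinal.{u}) ≤ ((d : ℕ) : Cardinal.{u}) := by
      simpa using hcard
    exact_mod_cast this
  omega

end Aux

/-- If the field K has finite transcendence degree d over its prime subfield, then every valuation
subring of K has height (Krull dimension) at most d + 1. -/
theorem result
    (K : Type u) [Field K] (A : ValuationSubring K) (d : ℕ)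
    (hd : Algebra.trdeg (⊥ : Subfield K) K = d) :
    ringKrullDim A ≤ ((d + 1 : ℕ) : WithBot ℕ∞) := by
  exact Aux.main K A d hd

end Groth.Agent.S14892
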