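import Groth.Statements.S9624
import Groth.Agent.Lib.Helper8.GeomFibre

set_option autoImplicit false
universe u
open CAlg

namespace Groth.Agent.S9624

open TensorProduct in
/-- Let k be a field, S a geometrically connected k-algebra (the spectrum of k' ⊗_k S is connected for
every field extension k'/k) and R any k-algebra. Then the map R → R ⊗_k S induces a bijection on
idempotents: each idempotent of R ⊗_k S comes from exactly one idempotent of R. Here the test fields
range over field extensions in the universe of k; this is equivalent to the unrestricted notion,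
since an algebraic closure of k suffices as a test. -/
theorem result {k R S : Type u} [Field k] [CommRing R] [CommRing S] [Algebra k R] [Algebra k S]
    (hS : ∀ (k' : Type u) [Field k'] [Algebra k k'], ConnectedSpace (PrimeSpectrum (k' ⊗[k] S)))
    (x : R ⊗[k] S) (hx : IsIdempotentElem x) :
    ∃! e : R, IsIdempotentElem e ∧ algebraMap R (R ⊗[k] S) e = x := by
  classical
  -- `S` is nontrivial
  haveI : Nontrivial S := by
    haveI := hS k
    haveI : Nontrivial (k ⊗[k] S) :=
      PrimeSpectrum.nonempty_iff_nontrivial.mp (inferInstance : Nonempty (PrimeSpectrum (k ⊗[k] S)))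
    exact (Algebra.TensorProduct.lid k S).symm.toRingEquiv.toRingHom.domain_nontrivial
  have hinj : Function.Injective (algebraMap R (R ⊗[k] S)) :=
    Algebra.TensorProduct.includeLeft_injective (S := R) (algebraMap k S).injective
  have hsurj : Function.Surjective (PrimeSpectrum.comap (algebraMap R (R ⊗[k] S))) := by
    intro p
    obtain ⟨q, hq⟩ := (Groth.Agent.Helper8.isConnected_fibre k R S hS p).nonempty
    exact ⟨q, hq⟩
  have hU : IsClopen (PrimeSpectrum.basicOpen x : Set (PrimeSpectrum (R ⊗[k] S))) :=
    PrimeSpectrum.isClopen_iff.mpr ⟨x, hx, rfl⟩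
  obtain ⟨hV, hsat⟩ := Groth.Agent.Helper8.isClopen_image_of_isPreconnected_fibre
    (Groth.Agent.Helper8.isOpenMap_comap_tensor k R S) hsurj
    (fun p => (Groth.Agent.Helper8.isConnected_fibre k R S hS p).isPreconnected) hU
  obtain ⟨e, he, hVe⟩ := PrimeSpectrum.isClopen_iff.mp hV
  have hkey : algebraMap R (R ⊗[k] S) e = x := by
    have he' : IsIdempotentElem (algebraMap R (R ⊗[k] S) e) := he.map _
    have h1 : (PrimeSpectrum.basicOpen (algebraMap R (R ⊗[k] S) e) : Set (PrimeSpectrum (R ⊗[k] S))) =
        PrimeSpectrum.basicOpen x := by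
      rw [← hsat, hVe]
      rfl
    have h2 : PrimeSpectrum.isIdempotentElemEquivClopens
        (⟨algebraMap R (R ⊗[k] S) e, he'⟩ : {a : R ⊗[k] S // IsIdempotentElem a}) =
        PrimeSpectrum.isIdempotentElemEquivClopens ⟨x, hx⟩ :=
      TopologicalSpace.Clopens.ext h1
    exact congrArg Subtype.val (PrimeSpectrum.isIdempotentElemEquivClopens.injective h2)
  refine ⟨e, ⟨he, hkey⟩, ?_⟩
  rintro e' ⟨_, he'x⟩
  exact hinj (he'x.trans hkey.symm)

end Groth.Agent.S9624
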