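import Groth.Statements.S15813
import Mathlib
-- import your own Groth.Agent.* helpers here

set_option autoImplicit false
universe u
open WildQuot

namespace Groth.Agent.S15813

open PowerSeries
namespace Aux

section
variable {k : Type u} [Field k]

lemma exists_unit_mul (g : PowerSeries k) (hg : g ≠ 0) :
    ∃ (e : ℕ) (w : PowerSeries k), IsUnit w ∧ g = X ^ e * w := by
  refine ⟨g.order.toNat, divXPowOrder g, ?_, X_pow_order_mul_divXPowOrder.symm⟩
  rw [isUnit_iff_constantCoeff, isUnit_iff_ne_zero]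
  rwa [Ne, constantCoeff_divXPowOrder_eq_zero_iff]

lemma order_X_pow_mul_unit (e : ℕ) (w : PowerSeries k) (hw : IsUnit w) :
    (X ^ e * w).order = (e : ℕ∞) := by
  rw [order_mul, order_X_pow, order_zero_of_unit hw, add_zero]

lemma eq_of_X_pow_mul_unit {a b : ℕ} {w w' : PowerSeries k} (hw : IsUnit w) (hw' : IsUnit w')
    (h : X ^ a * w = X ^ b * w') : a = b := by
  have := congrArg order h
  rw [order_X_pow_mul_unit _ _ hw, order_X_pow_mul_unit _ _ hw'] at this
  exact_mod_cast this

lemma isUnit_of_cc {w : PowerSeries k} (h : constantCoeff w ≠ 0) : IsUnit w := by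
  rw [isUnit_iff_constantCoeff, isUnit_iff_ne_zero]; exact h

lemma cc_ne_zero_of_isUnit {w : PowerSeries k} (h : IsUnit w) : constantCoeff w ≠ 0 := by
  rw [isUnit_iff_constantCoeff, isUnit_iff_ne_zero] at h; exact h

lemma algHom_coe (τ : PowerSeries k →ₐ[k] PowerSeries k) (P : Polynomial k) :
    τ (P : PowerSeries k) = Polynomial.aeval (τ X) P := by
  induction P using Polynomial.induction_on' with
  | add p q hp hq => rw [Polynomial.coe_add, map_add, hp, hq, map_add]
  | monomial n a =>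
    rw [Polynomial.coe_monomial, monomial_eq_C_mul_X_pow, map_mul, map_pow, Polynomial.aeval_monomial]
    congr 1
    rw [← PowerSeries.algebraMap_eq (R := k)]
    exact τ.commutes a

lemma sigma_sub_dvd (σ : PowerSeries k →ₐ[k] PowerSeries k) (M : ℕ) (ε : PowerSeries k)
    (hε : σ X = X * ε) (hM : (X : PowerSeries k) ^ M ∣ σ X - X) (g : PowerSeries k) :
    (X : PowerSeries k) ^ M ∣ σ g - g := by
  have h1 := eq_X_pow_mul_shift_add_trunc M g
  set g' := PowerSeries.mk fun i => coeff (i + M) g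
  set P := trunc M g
  have h2 := algHom_coe σ P
  have h3 := algHom_coe (AlgHom.id k (PowerSeries k)) P
  rw [AlgHom.id_apply, AlgHom.id_apply] at h3
  have h4 : σ X - X ∣ Polynomial.aeval (σ X) P - Polynomial.aeval X P := by
    have := Polynomial.sub_dvd_eval_sub (σ X) X (P.map (algebraMap k (PowerSeries k)))
    rwa [Polynomial.eval_map, Polynomial.eval_map, ← Polynomial.aeval_def, ← Polynomial.aeval_def] at this
  obtain ⟨q, hq⟩ := hM.trans h4
  refine ⟨ε ^ M * σ g' - g' + q, ?_⟩
  have e1 : σ g = (σ X) ^ M * σ g' + σ (P : PowerSeries k) := by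
    conv_lhs => rw [h1]
    rw [map_add, map_mul, map_pow]
  have e0 : (σ X) ^ M = X ^ M * ε ^ M := by rw [hε, mul_pow]
  rw [e1, h2, e0]
  conv_lhs => rw [h1, h3]
  linear_combination hq

end

theorem main
    (p : ℕ) [Fact p.Prime] (k : Type u) [Field k] [CharP k p]
    (σ : PowerSeries k ≃ₐ[k] PowerSeries k) (hσp : σ ^ p = 1) (hσ1 : σ ≠ 1)
    (m : ℕ) (hm : (σ PowerSeries.X - PowerSeries.X).order = ((m + 1 : ℕ) : ℕ∞))
    (f : PowerSeries k) (hfσ : σ f = f) (hf0 : PowerSeries.constantCoeff f ≠ 0)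
    (μ : ℕ) (hμ : 0 < μ) (hpμ : ¬ p ∣ μ)
    (z : FractionRing (PowerSeries k))
    (hz : z ^ p - z = algebraMap (PowerSeries k) (FractionRing (PowerSeries k)) f /
      algebraMap (PowerSeries k) (FractionRing (PowerSeries k))
        (∏ i ∈ Finset.range p, (σ ^ i) PowerSeries.X) ^ μ) :
    μ = m := by
  have hp : p.Prime := Fact.out
  have hp2 : 2 ≤ p := hp.two_le
  have hcharA : CharP (PowerSeries k) p :=
    charP_of_injective_algebraMap (algebraMap k (PowerSeries k)).injective p
  have hμk : (μ : k) ≠ 0 := by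
    rw [Ne, CharP.cast_eq_zero_iff k p μ]; exact hpμ
  -- Step 0: σ X = X * ε
  have hne : σ X - X ≠ 0 := by
    intro h0
    rw [h0, order_zero] at hm
    exact (ENat.top_ne_natCast _) hm
  obtain ⟨e, η, hη, hση⟩ := exists_unit_mul _ hne
  have he : e = m + 1 := by
    have := order_X_pow_mul_unit e η hη
    rw [← hση, hm] at this
    exact_mod_cast this.symm
  subst he
  set ε : PowerSeries k := 1 + X ^ m * η with hεdef
  have hσX : σ X = X * ε := by
    rw [hεdef]; linear_combination hση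
  -- constant coefficient of ε is 1
  have hε0 : constantCoeff ε = 1 := by
    set c := constantCoeff ε with hc
    obtain ⟨ε', hε'⟩ : ∃ ε', ε = C c + X * ε' := by
      have : (X : PowerSeries k) ∣ ε - C c := by
        rw [X_dvd_iff, map_sub, constantCoeff_C, sub_self]
      obtain ⟨ε', h⟩ := this
      exact ⟨ε', by linear_combination h⟩
    have key : ∀ i : ℕ, ∃ r : PowerSeries k, (σ ^ i) X = C (c ^ i) * X + X ^ 2 * r := by
      intro i
      induction i with
      | zero => exact ⟨0, by simp⟩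
      | succ i ih =>
        obtain ⟨r, hr⟩ := ih
        refine ⟨C (c ^ i) * ε' + ε ^ 2 * σ r, ?_⟩
        have hC : σ (C (c ^ i)) = C (c ^ i) := by
          rw [← PowerSeries.algebraMap_eq (R := k)]
          exact σ.commutes _
        rw [pow_succ', AlgEquiv.mul_apply, hr, map_add, map_mul, hC, map_mul, map_pow σ, hσX,
          pow_succ c i, map_mul (C : k →+* PowerSeries k)]
        linear_combination (C (c ^ i) * X) * hε'
    obtain ⟨r, hr⟩ := key p
    rw [hσp, AlgEquiv.one_apply] at hr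
    have h1 := congrArg (coeff 1) hr
    rw [coeff_one_X, map_add, coeff_C_mul, coeff_one_X, mul_one] at h1
    have h2 : coeff 1 ((X : PowerSeries k) ^ 2 * r) = 0 := by
      rw [coeff_X_pow_mul', if_neg (by omega)]
    rw [h2, add_zero] at h1
    have h3 : frobenius k p c = frobenius k p 1 := by
      rw [frobenius_def, frobenius_def, one_pow, ← h1]
    exact frobenius_inj k p h3
  have hεu : IsUnit ε := isUnit_of_cc (by rw [hε0]; exact one_ne_zero)
  -- Step 1: divisibility lemma
  have hD : ∀ g : PowerSeries k, (X : PowerSeries k) ^ (m + 1) ∣ σ g - g := by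
    intro g
    exact sigma_sub_dvd σ.toAlgHom (m + 1) ε hσX ⟨η, hση⟩ g
  -- Step 2: the norm x
  set x := ∏ i ∈ Finset.range p, (σ ^ i) PowerSeries.X with hxdef
  have hσx : σ x = x := by
    rw [hxdef, map_prod]
    have h1 := Finset.prod_range_succ (fun i => (σ ^ i) (X : PowerSeries k)) p
    have h2 := Finset.prod_range_succ' (fun i => (σ ^ i) (X : PowerSeries k)) p
    rw [h1] at h2
    simp only [hσp, pow_zero, AlgEquiv.one_apply] at h2
    have h3 := mul_right_cancel₀ PowerSeries.X_ne_zero h2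
    rw [h3]
    apply Finset.prod_congr rfl
    intro i _
    rw [pow_succ', AlgEquiv.mul_apply]
  have hxE : ∃ E : PowerSeries k, IsUnit E ∧ x = X ^ p * E := by
    have key : ∀ i : ℕ, ∃ w : PowerSeries k, IsUnit w ∧ (σ ^ i) X = X * w := by
      intro i
      induction i with
      | zero => exact ⟨1, isUnit_one, by simp⟩
      | succ i ih =>
        obtain ⟨w, hw, hw2⟩ := ih
        refine ⟨ε * σ w, hεu.mul (hw.map σ), ?_⟩
        rw [pow_succ', AlgEquiv.mul_apply, hw2, map_mul, hσX]
        ring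
    have key2 : ∀ j : ℕ, ∃ E : PowerSeries k, IsUnit E ∧
        ∏ i ∈ Finset.range j, (σ ^ i) (X : PowerSeries k) = X ^ j * E := by
      intro j
      induction j with
      | zero => exact ⟨1, isUnit_one, by simp⟩
      | succ j ih =>
        obtain ⟨E, hE, hE2⟩ := ih
        obtain ⟨w, hw, hw2⟩ := key j
        refine ⟨E * w, hE.mul hw, ?_⟩
        rw [Finset.prod_range_succ, hE2, hw2]
        ring
    exact key2 p
  obtain ⟨E, hE, hxE⟩ := hxE
  have hx0 : x ≠ 0 := by
    rw [hxE]
    exact mul_ne_zero (pow_ne_zero _ X_ne_zero) hE.ne_zero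
  -- Step 3: numerator and denominator of z
  obtain ⟨N, D, hDmem, hND⟩ := IsFractionRing.div_surjective (A := PowerSeries k) z
  have hD0 : D ≠ 0 := nonZeroDivisors.ne_zero hDmem
  set ι := algebraMap (PowerSeries k) (FractionRing (PowerSeries k)) with hι
  have hιinj : Function.Injective ι := IsFractionRing.injective _ _
  have hιD : ι D ≠ 0 := fun h => hD0 (hιinj (by rw [h, map_zero]))
  have hιx : ι x ≠ 0 := fun h => hx0 (hιinj (by rw [h, map_zero]))
  have hI : (N ^ p - N * D ^ (p - 1)) * x ^ μ = f * D ^ p := by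
    apply hιinj
    rw [← hND] at hz
    have e1 : (ι N / ι D) ^ p - ι N / ι D = (ι N ^ p - ι N * ι D ^ (p - 1)) / ι D ^ p := by
      have : ι D ^ p = ι D ^ (p - 1) * ι D := by
        rw [← pow_succ]; congr 1; omega
      rw [div_pow, this]
      field_simp
    rw [e1, div_eq_div_iff (pow_ne_zero _ hιD) (pow_ne_zero _ hιx)] at hz
    simp only [map_mul, map_sub, map_pow]
    exact hz
  -- Step 4: orders of N and D
  have hfu : IsUnit f := isUnit_of_cc hf0
  have hN0 : N ≠ 0 := by
    intro h0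
    rw [h0, zero_pow (by omega), zero_mul, sub_zero, zero_mul] at hI
    exact (mul_ne_zero hfu.ne_zero (pow_ne_zero _ hD0)) hI.symm
  obtain ⟨α, N', hN', hNeq⟩ := exists_unit_mul N hN0
  obtain ⟨β, D', hD', hDeq⟩ := exists_unit_mul D hD0
  have hαβ : α < β := by
    by_contra hle
    push Not at hle
    obtain ⟨t, rfl⟩ : ∃ t, α = β + t := ⟨α - β, by omega⟩
    have h1 : (X : PowerSeries k) ^ (p * β + p * μ) ∣ f * D ^ p := by
      rw [← hI, hNeq, hDeq, hxE]
      refine ⟨(X ^ (p * t) * N' ^ p - X ^ t * N' * D' ^ (p - 1)) * E ^ μ, ?_⟩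
      have e1 : β + t + (p - 1) * β = p * β + t := by
        obtain ⟨p', rfl⟩ : ∃ p', p = p' + 1 := ⟨p - 1, by omega⟩
        simp; ring
      have e2 : ((X : PowerSeries k) ^ (β + t) * N') * (X ^ β * D') ^ (p - 1) =
          X ^ (p * β + t) * (N' * D' ^ (p - 1)) := by
        rw [mul_pow, ← pow_mul, ← e1, pow_add (X : PowerSeries k) (β + t)]
        ring
      rw [e2]
      ring
    rw [hDeq, mul_pow, ← pow_mul, mul_comm β p, pow_add] at h1
    have h2 : (X : PowerSeries k) ^ (p * μ) ∣ f * D' ^ p := by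
      have h3 : f * (X ^ (p * β) * D' ^ p) = X ^ (p * β) * (f * D' ^ p) := by ring
      rw [h3] at h1
      exact (mul_dvd_mul_iff_left (pow_ne_zero _ X_ne_zero)).mp h1
    have h4 : IsUnit (f * D' ^ p) := hfu.mul (hD'.pow p)
    have h5 : IsUnit ((X : PowerSeries k) ^ (p * μ)) := isUnit_of_dvd_unit h2 h4
    have h6 := order_zero_of_unit h5
    rw [order_X_pow] at h6
    have : p * μ = 0 := by exact_mod_cast h6
    have : 0 < p * μ := Nat.mul_pos (by omega) hμ
    omega
  obtain ⟨s, hs⟩ : ∃ s, β = α + s + 1 := ⟨β - α - 1, by omega⟩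
  have hβ : β = α + μ := by
    have hbr : IsUnit (N' ^ p - X ^ ((p - 1) * (s + 1)) * (N' * D' ^ (p - 1))) := by
      apply isUnit_of_cc
      have hpos : (p - 1) * (s + 1) ≠ 0 := by
        have : 0 < (p - 1) * (s + 1) := Nat.mul_pos (by omega) (by omega)
        omega
      rw [map_sub, map_mul, map_pow, map_pow, constantCoeff_X, zero_pow hpos, zero_mul, sub_zero]
      exact pow_ne_zero _ (cc_ne_zero_of_isUnit hN')
    have e0 : α + (p - 1) * β = p * α + (p - 1) * (s + 1) := by
      obtain ⟨p', rfl⟩ : ∃ p', p = p' + 1 := ⟨p - 1, by omega⟩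
      rw [hs]; simp; ring
    have e1 : (N ^ p - N * D ^ (p - 1)) * x ^ μ =
        X ^ (p * α + p * μ) * ((N' ^ p - X ^ ((p - 1) * (s + 1)) * (N' * D' ^ (p - 1))) * E ^ μ) := by
      have e2 : N * D ^ (p - 1) = X ^ (p * α) * (X ^ ((p - 1) * (s + 1)) * (N' * D' ^ (p - 1))) := by
        rw [hNeq, hDeq, mul_pow, ← pow_mul, ← mul_assoc (X ^ (p * α)), ← pow_add, ← e0, pow_add,
          mul_comm β (p - 1)]
        ring
      rw [e2, hNeq, hxE, mul_pow, mul_pow, ← pow_mul, ← pow_mul, mul_comm α p, pow_add]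
      ring
    have e3 : f * D ^ p = X ^ (p * β) * (f * D' ^ p) := by
      rw [hDeq, mul_pow, ← pow_mul, mul_comm β p]; ring
    rw [e1, e3] at hI
    have := eq_of_X_pow_mul_unit (hbr.mul (hE.pow μ)) (hfu.mul (hD'.pow p)) hI
    have h2 : p * (α + μ) = p * β := by rw [← this]; ring
    exact (Nat.eq_of_mul_eq_mul_left (by omega) h2).symm
  -- Step 5: the difference identity
  set n := σ N * D - N * σ D with hn
  set d := σ D * D with hd
  have hII : (σ N ^ p - σ N * σ D ^ (p - 1)) * x ^ μ = f * σ D ^ p := by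
    have := congrArg σ hI
    rw [map_mul, map_sub, map_mul, map_pow, map_pow, map_pow, map_mul, map_pow, hσx, hfσ] at this
    exact this
  have hnd : n ^ p = n * d ^ (p - 1) := by
    have h1 : (n ^ p - n * d ^ (p - 1)) * x ^ μ = 0 := by
      have e1 : n ^ p = (σ N * D) ^ p - (N * σ D) ^ p := by
        rw [hn]; exact sub_pow_char _ _
      have e2 : D ^ p = D ^ (p - 1) * D := by
        rw [← pow_succ]; congr 1; omega
      have e3 : σ D ^ p = σ D ^ (p - 1) * σ D := by
        rw [← pow_succ]; congr 1; omega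
      rw [e1, hn, hd, mul_pow, mul_pow, mul_pow]
      have e4 : (σ N ^ p * D ^ p - N ^ p * σ D ^ p -
          (σ N * D - N * σ D) * (σ D ^ (p - 1) * D ^ (p - 1))) * x ^ μ =
          D ^ p * ((σ N ^ p - σ N * σ D ^ (p - 1)) * x ^ μ) -
          σ D ^ p * ((N ^ p - N * D ^ (p - 1)) * x ^ μ) := by
        rw [e2, e3]; ring
      rw [e4, hI, hII]; ring
    have := (mul_eq_zero.mp h1).resolve_right (pow_ne_zero _ hx0)
    exact sub_eq_zero.mp this
  -- Step 6: orders of n and d
  obtain ⟨r₁, hr₁⟩ := hD N'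
  obtain ⟨r₂, hr₂⟩ := hD D'
  have hσN' : σ N' = N' + X ^ (m + 1) * r₁ := by linear_combination hr₁
  have hσD' : σ D' = D' + X ^ (m + 1) * r₂ := by linear_combination hr₂
  set G := ∑ i ∈ Finset.range μ, ε ^ i with hG
  have hGε : G * (ε - 1) = ε ^ μ - 1 := geom_sum_mul ε μ
  have hG0 : constantCoeff G = (μ : k) := by
    rw [hG, map_sum]
    simp only [map_pow, hε0, one_pow, Finset.sum_const, Finset.card_range, nsmul_eq_mul, mul_one]
  have hε1 : ε - 1 = X ^ m * η := by rw [hεdef]; ring
  set W := -(N' * D' * ε ^ α * η * G) + X * (ε ^ α * r₁ * D' - ε ^ β * N' * r₂) with hW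
  have hWu : IsUnit W := by
    apply isUnit_of_cc
    rw [hW]
    simp only [map_add, map_neg, map_mul, map_pow, map_sub, constantCoeff_X, zero_mul, add_zero, hε0,
      one_pow, mul_one, hG0, neg_ne_zero, ne_eq]
    exact mul_ne_zero (mul_ne_zero (mul_ne_zero (cc_ne_zero_of_isUnit hN') (cc_ne_zero_of_isUnit hD'))
      (cc_ne_zero_of_isUnit hη)) hμk
  have hn_eq : n = X ^ (α + β + m) * W := by
    have hεβ : ε ^ β = ε ^ α * ε ^ μ := by rw [hβ, pow_add]
    have e1 : σ N = X ^ α * ε ^ α * σ N' := by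
      rw [hNeq, map_mul, map_pow, hσX, mul_pow]
    have e2 : σ D = X ^ β * ε ^ β * σ D' := by
      rw [hDeq, map_mul, map_pow, hσX, mul_pow]
    rw [hn, e1, e2, hσN', hσD']
    conv_lhs => rw [hNeq, hDeq]
    rw [hW]
    have e3 : ε ^ μ = 1 + G * (X ^ m * η) := by rw [← hε1, hGε]; ring
    rw [hεβ, e3, pow_add, pow_add, pow_succ]
    ring
  have hd_eq : d = X ^ (2 * β) * (ε ^ β * σ D' * D') := by
    have e2 : σ D = X ^ β * ε ^ β * σ D' := by
      rw [hDeq, map_mul, map_pow, hσX, mul_pow]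
    rw [hd, e2]
    conv_lhs => rw [hDeq]
    rw [two_mul, pow_add]; ring
  have hdu : IsUnit (ε ^ β * σ D' * D') := ((hεu.pow β).mul (hD'.map σ)).mul hD'
  have hn0 : n ≠ 0 := by
    rw [hn_eq]; exact mul_ne_zero (pow_ne_zero _ X_ne_zero) hWu.ne_zero
  have hnd2 : n ^ (p - 1) = d ^ (p - 1) := by
    have : n ^ p = n ^ (p - 1) * n := by rw [← pow_succ]; congr 1; omega
    rw [this, mul_comm] at hnd
    exact mul_left_cancel₀ hn0 hnd
  rw [hn_eq, hd_eq, mul_pow, mul_pow, ← pow_mul, ← pow_mul] at hnd2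
  have h3 := eq_of_X_pow_mul_unit (hWu.pow _) (hdu.pow _) hnd2
  have h4 : α + β + m = 2 * β := Nat.eq_of_mul_eq_mul_right (by omega : 0 < p - 1) h3
  omega

end Aux

/-- Let `k` be a field of characteristic `p > 0`, `A = k[[u]]`, and `σ` a `k`-algebra automorphism of
`A` of order exactly `p`, with ramification break `m`: `σ u - u` has order `m + 1`. Let `x = ∏_{i <
p} σ^i u` be the norm of `u`, let `f ∈ A` be `σ`-invariant with nonzero constant term (a unit of the
invariant ring `k[[x]]`), let `μ > 0` be prime to `p`, and let `z ∈ Frac(A)` satisfy the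
Artin–Schreier equation `z ^ p - z = f / x ^ μ`. Then `μ = m`. (The published statement also records
that `Frac(A) = Frac(A^σ)(z)`; that follows from the equation since `p` does not divide `μ`, so it
is not repeated as a hypothesis.) -/
theorem result
    (p : ℕ) [Fact p.Prime] (k : Type u) [Field k] [CharP k p]
    (σ : PowerSeries k ≃ₐ[k] PowerSeries k) (hσp : σ ^ p = 1) (hσ1 : σ ≠ 1)
    (m : ℕ) (hm : (σ PowerSeries.X - PowerSeries.X).order = ((m + 1 : ℕ) : ℕ∞))
    (f : PowerSeries k) (hfσ : σ f = f) (hf0 : PowerSeries.constantCoeff f ≠ 0)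
    (μ : ℕ) (hμ : 0 < μ) (hpμ : ¬ p ∣ μ)
    (z : FractionRing (PowerSeries k))
    (hz : z ^ p - z = algebraMap (PowerSeries k) (FractionRing (PowerSeries k)) f /
      algebraMap (PowerSeries k) (FractionRing (PowerSeries k))
        (∏ i ∈ Finset.range p, (σ ^ i) PowerSeries.X) ^ μ) :
    μ = m := by
  exact Aux.main p k σ hσp hσ1 m hm f hfσ hf0 μ hμ hpμ z hz

end Groth.Agent.S15813
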