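import Groth.Statements.S1892
import Mathlib
import Groth.Prelude.Def_Grpd
import Groth.Agent.S1888
import Groth.Agent.S1889
import Groth.Agent.S1891
-- import your own Groth.Agent.* helpers here

set_option autoImplicit false
universe u
open CategoryTheory CategoryTheory.Limits AlgebraicGeometry
open Grpd

namespace Groth.Agent.S1892

open CategoryTheory CategoryTheory.Limits AlgebraicGeometry
open Groth.Agent.S1888.Aux
namespace Aux
open Groth.Agent.S1891.Aux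

lemma open_D {X Y Y' U : Scheme.{u}} (f : X ⟶ U) (g : Y ⟶ U) (h : Y' ⟶ Y)
    [UniversallyOpen (h ≫ g)] :
    IsOpenMap ⇑(pullback.fst (pullback.snd f g) h ≫ pullback.fst f g) := by
  have h1 : IsPullback (pullback.fst (pullback.snd f g) h) (pullback.snd (pullback.snd f g) h)
      (pullback.snd f g) h := IsPullback.of_hasPullback _ _
  have h2 : IsPullback (pullback.fst f g) (pullback.snd f g) f g := IsPullback.of_hasPullback _ _
  have h3 := (h1.paste_horiz h2).flip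
  have : UniversallyOpen (pullback.fst (pullback.snd f g) h ≫ pullback.fst f g) :=
    MorphismProperty.of_isPullback (P := @UniversallyOpen) h3 inferInstance
  exact Scheme.Hom.isOpenMap _

lemma open_D' {X X' Y U : Scheme.{u}} (f : X ⟶ U) (g : Y ⟶ U) (h : X' ⟶ X)
    [UniversallyOpen (h ≫ f)] :
    IsOpenMap ⇑(pullback.fst (pullback.fst f g) h ≫ pullback.snd f g) := by
  have h1 : IsPullback (pullback.fst (pullback.fst f g) h) (pullback.snd (pullback.fst f g) h)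
      (pullback.fst f g) h := IsPullback.of_hasPullback _ _
  have h2 : IsPullback (pullback.snd f g) (pullback.fst f g) g f :=
    (IsPullback.of_hasPullback _ _).flip
  have h3 := (h1.paste_horiz h2).flip
  have : UniversallyOpen (pullback.fst (pullback.fst f g) h ≫ pullback.snd f g) :=
    MorphismProperty.of_isPullback (P := @UniversallyOpen) h3 inferInstance
  exact Scheme.Hom.isOpenMap _

variable {S : Scheme.{u}} {G₁ G₂ : Grpd.GroupoidScheme S} (a : Grpd.GroupoidScheme.Hom G₁ G₂)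

lemma eq_lift (G : Grpd.GroupoidScheme S) {T : Scheme.{u}} (π : T ⟶ pullback G.s G.t) :
    π ≫ G.c = comp G (π ≫ pullback.fst _ _) (π ≫ pullback.snd _ _)
      (by rw [Category.assoc, Category.assoc, pullback.condition]) := by
  unfold comp
  congr 1
  apply pullback.hom_ext
  · rw [pullback.lift_fst]
  · rw [pullback.lift_snd]

lemma mul_T [IsIso a.fU] {T : Scheme.{u}} (π : T ⟶ pullback G₂.s G₂.t) (α β : T ⟶ G₁.R)
    (h1 : π ≫ pullback.fst _ _ = α ≫ a.fR) (h2 : π ≫ pullback.snd _ _ = β ≫ a.fR) :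
    ∃ γ : T ⟶ G₁.R, π ≫ G₂.c = γ ≫ a.fR := by
  have hcomp : α ≫ G₁.s = β ≫ G₁.t := by
    have h3 : (α ≫ a.fR) ≫ G₂.s = (β ≫ a.fR) ≫ G₂.t := by
      rw [← h1, ← h2, Category.assoc, Category.assoc, pullback.condition]
    rw [Category.assoc, Category.assoc, a.comm_s, a.comm_t, ← Category.assoc, ← Category.assoc] at h3
    exact (cancel_mono a.fU).mp h3
  refine ⟨comp G₁ α β hcomp, ?_⟩
  rw [hom_comp a, eq_lift]
  exact comp_congr G₂ _ h1 h2

/-- `W · W ⊆ W` -/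
lemma mul_mem [IsIso a.fU] (p : ↥(pullback G₂.s G₂.t))
    (hx : pullback.fst G₂.s G₂.t p ∈ Set.range ⇑a.fR)
    (hy : pullback.snd G₂.s G₂.t p ∈ Set.range ⇑a.fR) : G₂.c p ∈ Set.range ⇑a.fR := by
  obtain ⟨x₁, hx₁⟩ := hx
  obtain ⟨y₁, hy₁⟩ := hy
  obtain ⟨t₁, ht₁p, ht₁r⟩ := Scheme.Pullback.exists_preimage_pullback
    (f := pullback.fst G₂.s G₂.t) (g := a.fR) p x₁ hx₁.symm
  have h2 : (pullback.fst (pullback.fst G₂.s G₂.t) a.fR ≫ pullback.snd G₂.s G₂.t) t₁ = a.fR y₁ := by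
    rw [Scheme.Hom.comp_apply, ht₁p, hy₁]
  obtain ⟨τ, hτ1, hτ2⟩ := Scheme.Pullback.exists_preimage_pullback
    (f := pullback.fst (pullback.fst G₂.s G₂.t) a.fR ≫ pullback.snd G₂.s G₂.t) (g := a.fR) t₁ y₁ h2
  have hq1 : (pullback.fst (pullback.fst (pullback.fst G₂.s G₂.t) a.fR ≫ pullback.snd G₂.s G₂.t) a.fR ≫
      pullback.fst (pullback.fst G₂.s G₂.t) a.fR) ≫ pullback.fst G₂.s G₂.t =
      (pullback.fst (pullback.fst (pullback.fst G₂.s G₂.t) a.fR ≫ pullback.snd G₂.s G₂.t) a.fR ≫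
      pullback.snd (pullback.fst G₂.s G₂.t) a.fR) ≫ a.fR := by
    rw [Category.assoc, Category.assoc, pullback.condition]
  have hq2 : (pullback.fst (pullback.fst (pullback.fst G₂.s G₂.t) a.fR ≫ pullback.snd G₂.s G₂.t) a.fR ≫
      pullback.fst (pullback.fst G₂.s G₂.t) a.fR) ≫ pullback.snd G₂.s G₂.t =
      pullback.snd (pullback.fst (pullback.fst G₂.s G₂.t) a.fR ≫ pullback.snd G₂.s G₂.t) a.fR ≫ a.fR := by
    rw [Category.assoc]
    exact pullback.condition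
  obtain ⟨γ, hγ⟩ := mul_T a _ _ _ hq1 hq2
  refine ⟨γ τ, ?_⟩
  rw [← Scheme.Hom.comp_apply, ← hγ]
  simp only [Scheme.Hom.comp_apply]
  rw [hτ1, ht₁p]

/-- `i(C) ⊆ C` -/
lemma inv_mem (x : G₂.R) (hx : x ∈ closure (Set.range ⇑a.fR)) :
    G₂.i x ∈ closure (Set.range ⇑a.fR) := by
  refine map_mem_closure G₂.i.continuous hx ?_
  rintro _ ⟨x₁, rfl⟩
  refine ⟨G₁.i x₁, ?_⟩
  rw [← Scheme.Hom.comp_apply, ← Scheme.Hom.comp_apply, hom_i]

/-- `W · C ⊆ C` -/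
lemma mul_mem_WC [IsIso a.fU] [UniversallyOpen (a.fR ≫ G₂.s)] (p : ↥(pullback G₂.s G₂.t))
    (hx : pullback.fst G₂.s G₂.t p ∈ Set.range ⇑a.fR)
    (hy : pullback.snd G₂.s G₂.t p ∈ closure (Set.range ⇑a.fR)) :
    G₂.c p ∈ closure (Set.range ⇑a.fR) := by
  obtain ⟨x₁, hx₁⟩ := hx
  obtain ⟨y, hyp, hyx⟩ := Scheme.Pullback.exists_preimage_pullback
    (f := pullback.fst G₂.s G₂.t) (g := a.fR) p x₁ hx₁.symm
  have hopen := open_D' G₂.s G₂.t a.fR
  have hy' : y ∈ closure (⇑(pullback.fst (pullback.fst G₂.s G₂.t) a.fR ≫ pullback.snd G₂.s G₂.t) ⁻¹'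
      (Set.range ⇑a.fR)) := by
    rw [← hopen.preimage_closure_eq_closure_preimage (Scheme.Hom.continuous _)]
    show (pullback.fst (pullback.fst G₂.s G₂.t) a.fR ≫ pullback.snd G₂.s G₂.t) y ∈
      closure (Set.range ⇑a.fR)
    rw [Scheme.Hom.comp_apply, hyp]
    exact hy
  have := map_mem_closure (f := ⇑(pullback.fst (pullback.fst G₂.s G₂.t) a.fR ≫ G₂.c))
    (t := Set.range ⇑a.fR) (Scheme.Hom.continuous _) hy' ?_
  · rwa [Scheme.Hom.comp_apply, hyp] at this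
  · intro y' hy'
    rw [Scheme.Hom.comp_apply]
    refine mul_mem a _ ⟨pullback.snd (pullback.fst G₂.s G₂.t) a.fR y', ?_⟩ ?_
    · rw [← Scheme.Hom.comp_apply, ← Scheme.Hom.comp_apply, pullback.condition]
    · rw [← Scheme.Hom.comp_apply]
      exact hy'

/-- `C · C ⊆ C` -/
lemma mul_mem_CC [IsIso a.fU] [IsIntegral G₂.U] [Subsingleton G₂.U] (p : ↥(pullback G₂.s G₂.t))
    (hx : pullback.fst G₂.s G₂.t p ∈ closure (Set.range ⇑a.fR))
    (hy : pullback.snd G₂.s G₂.t p ∈ closure (Set.range ⇑a.fR)) :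
    G₂.c p ∈ closure (Set.range ⇑a.fR) := by
  set x := pullback.snd G₂.s G₂.t p with hxdef
  let h : Spec (G₂.R.residueField x) ⟶ G₂.R := G₂.R.fromSpecResidueField x
  have hh : ∀ w, h w = x := by
    intro w
    have : h w ∈ Set.range ⇑(G₂.R.fromSpecResidueField x) := ⟨w, rfl⟩
    rw [Scheme.range_fromSpecResidueField] at this
    exact this
  obtain ⟨w0⟩ : Nonempty (Spec (G₂.R.residueField x)) := inferInstance
  obtain ⟨y, hyp, hyx⟩ := Scheme.Pullback.exists_preimage_pullback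
    (f := pullback.snd G₂.s G₂.t) (g := h) p w0 (hh w0).symm
  have hopen := open_D G₂.s G₂.t h
  have hy' : y ∈ closure (⇑(pullback.fst (pullback.snd G₂.s G₂.t) h ≫ pullback.fst G₂.s G₂.t) ⁻¹'
      (Set.range ⇑a.fR)) := by
    rw [← hopen.preimage_closure_eq_closure_preimage (Scheme.Hom.continuous _)]
    show (pullback.fst (pullback.snd G₂.s G₂.t) h ≫ pullback.fst G₂.s G₂.t) y ∈
      closure (Set.range ⇑a.fR)
    rw [Scheme.Hom.comp_apply, hyp]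
    exact hx
  have := map_mem_closure (f := ⇑(pullback.fst (pullback.snd G₂.s G₂.t) h ≫ G₂.c))
    (t := closure (Set.range ⇑a.fR)) (Scheme.Hom.continuous _) hy' ?_
  · rw [closure_closure] at this
    rwa [Scheme.Hom.comp_apply, hyp] at this
  · intro y' hy'
    rw [Scheme.Hom.comp_apply]
    refine mul_mem_WC a _ ?_ ?_
    · rw [← Scheme.Hom.comp_apply]
      exact hy'
    · rw [← Scheme.Hom.comp_apply, pullback.condition, Scheme.Hom.comp_apply, hh]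
      exact hy


theorem main (k : Type u) [Field k] (eU : G₂.U ≅ Spec (CommRingCat.of k)) [IsIso a.fU]
    (hlc : IsLocallyClosed (Set.range ⇑a.fR)) : IsClosed (Set.range ⇑a.fR) := by
  obtain ⟨hint, hsubs⟩ := Groth.Agent.S1889.Aux.field_base G₂ k eU
  rw [← closure_subset_iff_isClosed]
  intro r₂ hr₂
  let Wo : G₂.R.Opens := ⟨coborder (Set.range ⇑a.fR), hlc.isOpen_coborder⟩
  have hVW : ∀ x : G₂.R, x ∈ Wo → x ∈ closure (Set.range ⇑a.fR) → x ∈ Set.range ⇑a.fR := by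
    intro x h1 h2
    rw [← coborder_inter_closure (s := Set.range ⇑a.fR)]
    exact ⟨h1, h2⟩
  have hWV : Set.range ⇑a.fR ⊆ (Wo : Set G₂.R) := subset_coborder
  let Z : Scheme.{u} := Spec (G₂.R.residueField r₂)
  let z : Z ⟶ G₂.R := G₂.R.fromSpecResidueField r₂
  have hz : ∀ x : Z, z x = r₂ := by
    intro x
    have : z x ∈ Set.range ⇑(G₂.R.fromSpecResidueField r₂) := ⟨x, rfl⟩
    rw [Scheme.range_fromSpecResidueField] at this
    exact this
  have hO := Groth.Agent.S1889.Aux.main G₂ k eU Wo Z z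
  have hcompat : (pullback.fst (z ≫ G₂.s) (Wo.ι ≫ G₂.t) ≫ z) ≫ G₂.s =
      (pullback.snd (z ≫ G₂.s) (Wo.ι ≫ G₂.t) ≫ Wo.ι) ≫ G₂.t :=
    (Category.assoc _ _ _).trans (pullback.condition.trans (Category.assoc _ _ _).symm)
  set m : pullback (z ≫ G₂.s) (Wo.ι ≫ G₂.t) ⟶ G₂.R :=
    comp G₂ (pullback.fst _ _ ≫ z) (pullback.snd _ _ ≫ Wo.ι) hcompat with hm
  change IsOpen (Set.range ⇑m) at hO
  -- `r₂ ∈ range m`
  have he : G₂.e = inv a.fU ≫ G₁.e ≫ a.fR := by rw [hom_e, IsIso.inv_hom_id_assoc]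
  have hsub : Set.range ⇑(z ≫ G₂.s ≫ G₂.e) ⊆ Set.range ⇑Wo.ι := by
    rw [Scheme.Opens.range_ι]
    rintro _ ⟨x, rfl⟩
    refine hWV ⟨(inv a.fU ≫ G₁.e) ((z ≫ G₂.s) x), ?_⟩
    rw [← Scheme.Hom.comp_apply, ← Scheme.Hom.comp_apply, he]
    simp only [Category.assoc]
  set ε : Z ⟶ Wo := IsOpenImmersion.lift Wo.ι (z ≫ G₂.s ≫ G₂.e) hsub with hε
  have hεfac : ε ≫ Wo.ι = z ≫ G₂.s ≫ G₂.e := IsOpenImmersion.lift_fac _ _ _
  have hp0 : 𝟙 Z ≫ z ≫ G₂.s = ε ≫ Wo.ι ≫ G₂.t := by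
    rw [← Category.assoc ε, hεfac, Category.id_comp, Category.assoc, Category.assoc, G₂.e_t,
      Category.comp_id]
  set p0 : Z ⟶ pullback (z ≫ G₂.s) (Wo.ι ≫ G₂.t) := pullback.lift (𝟙 Z) ε hp0 with hp0def
  have hp0m : p0 ≫ m = z := by
    rw [hm, precomp]
    have e1 : p0 ≫ pullback.fst (z ≫ G₂.s) (Wo.ι ≫ G₂.t) ≫ z = z := by
      rw [hp0def, ← Category.assoc, pullback.lift_fst, Category.id_comp]
    have e2 : p0 ≫ pullback.snd (z ≫ G₂.s) (Wo.ι ≫ G₂.t) ≫ Wo.ι = z ≫ G₂.s ≫ G₂.e := by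
      rw [hp0def, ← Category.assoc, pullback.lift_snd, hεfac]
    rw [comp_congr G₂ _ e1 e2]
    exact comp_e' G₂ z _ rfl
  obtain ⟨z0⟩ : Nonempty Z := inferInstance
  have hr₂O : r₂ ∈ Set.range ⇑m := by
    refine ⟨p0 z0, ?_⟩
    rw [← Scheme.Hom.comp_apply, hp0m]
    exact hz z0
  obtain ⟨_, ⟨p, rfl⟩, ⟨r₁, hr₁⟩⟩ := mem_closure_iff.mp hr₂ _ hO hr₂O
  -- `snd p ∈ C`
  have hsndC : Wo.ι (pullback.snd (z ≫ G₂.s) (Wo.ι ≫ G₂.t) p) ∈ closure (Set.range ⇑a.fR) := by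
    have hq0 : ((pullback.fst (z ≫ G₂.s) (Wo.ι ≫ G₂.t) ≫ z) ≫ G₂.i) ≫ G₂.s = m ≫ G₂.t := by
      rw [Category.assoc, G₂.i_s, hm, comp_t]
    have hcl : pullback.lift ((pullback.fst (z ≫ G₂.s) (Wo.ι ≫ G₂.t) ≫ z) ≫ G₂.i) m hq0 ≫ G₂.c =
        pullback.snd (z ≫ G₂.s) (Wo.ι ≫ G₂.t) ≫ Wo.ι :=
      cancel_left G₂ (pullback.fst _ _ ≫ z) ((pullback.fst _ _ ≫ z) ≫ G₂.i)
        (pullback.snd _ _ ≫ Wo.ι) rfl hcompat
    have h3 := mul_mem_CC a
      (pullback.lift ((pullback.fst (z ≫ G₂.s) (Wo.ι ≫ G₂.t) ≫ z) ≫ G₂.i) m hq0 p) ?_ ?_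
    · rwa [← Scheme.Hom.comp_apply, hcl, Scheme.Hom.comp_apply] at h3
    · rw [← Scheme.Hom.comp_apply, pullback.lift_fst]
      simp only [Scheme.Hom.comp_apply]
      rw [hz]
      exact inv_mem a r₂ hr₂
    · rw [← Scheme.Hom.comp_apply, pullback.lift_snd]
      exact subset_closure ⟨r₁, hr₁⟩
  obtain ⟨r₁', hr₁'⟩ : ∃ r₁' : G₁.R, a.fR r₁' = Wo.ι (pullback.snd (z ≫ G₂.s) (Wo.ι ≫ G₂.t) p) :=
    hVW _ (pullback.snd (z ≫ G₂.s) (Wo.ι ≫ G₂.t) p).2 hsndC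
  -- the test scheme
  obtain ⟨t₁, ht₁p, ht₁r⟩ := Scheme.Pullback.exists_preimage_pullback (f := m) (g := a.fR) p r₁ hr₁.symm
  have h2 : (pullback.fst m a.fR ≫ pullback.snd (z ≫ G₂.s) (Wo.ι ≫ G₂.t) ≫ Wo.ι) t₁ = a.fR r₁' := by
    rw [Scheme.Hom.comp_apply, ht₁p, hr₁']
    rfl
  obtain ⟨τ, hτ1, hτ2⟩ := Scheme.Pullback.exists_preimage_pullback
    (f := pullback.fst m a.fR ≫ pullback.snd (z ≫ G₂.s) (Wo.ι ≫ G₂.t) ≫ Wo.ι) (g := a.fR) t₁ r₁' h2
  have hq1 : (pullback.fst (pullback.fst m a.fR ≫ pullback.snd (z ≫ G₂.s) (Wo.ι ≫ G₂.t) ≫ Wo.ι) a.fR ≫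
      pullback.fst m a.fR) ≫ pullback.snd (z ≫ G₂.s) (Wo.ι ≫ G₂.t) ≫ Wo.ι =
      pullback.snd (pullback.fst m a.fR ≫ pullback.snd (z ≫ G₂.s) (Wo.ι ≫ G₂.t) ≫ Wo.ι) a.fR ≫ a.fR := by
    rw [Category.assoc]
    exact pullback.condition
  have hq2 : (pullback.fst (pullback.fst m a.fR ≫ pullback.snd (z ≫ G₂.s) (Wo.ι ≫ G₂.t) ≫ Wo.ι) a.fR ≫
      pullback.fst m a.fR) ≫ m =
      (pullback.fst (pullback.fst m a.fR ≫ pullback.snd (z ≫ G₂.s) (Wo.ι ≫ G₂.t) ≫ Wo.ι) a.fR ≫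
        pullback.snd m a.fR) ≫ a.fR := by
    rw [Category.assoc, Category.assoc, pullback.condition]
  obtain ⟨ρ, hρ⟩ := key2 a z Wo m hcompat hm _ _ _ hq2 hq1
  refine ⟨ρ τ, ?_⟩
  rw [← Scheme.Hom.comp_apply, ← hρ]
  simp only [Scheme.Hom.comp_apply]
  exact hz _

end Aux

/-- Let (U₁, R₁, s, t, c) and (U₂, R₂, s, t, c) be groupoid schemes over S with U₂ isomorphic to Spec k
for a field k, and a : R₁ → R₂ a morphism of groupoid schemes which is an isomorphism on objects. If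
a(R₁) is locally closed in R₂ then it is closed. (A groupoid scheme carries U, R, s, t, c, e, i over
S satisfying the groupoid axioms on T-points.) -/
theorem result (S : Scheme.{u}) (G₁ G₂ : Grpd.GroupoidScheme S) (k : Type u) [Field k] (eU : G₂.U ≅ Spec (CommRingCat.of k)) (a : Grpd.GroupoidScheme.Hom G₁ G₂) [IsIso a.fU] (hlc : IsLocallyClosed (Set.range ⇑a.fR)) : IsClosed (Set.range ⇑a.fR) := by
  exact Aux.main a k eU hlc

end Groth.Agent.S1892
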