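import Groth.Statements.S7510
import Mathlib
import Groth.Prelude.Def_Grpd
import Groth.Agent.S1888
import Groth.Agent.S1891
-- import your own Groth.Agent.* helpers here

set_option autoImplicit false
universe u
open CategoryTheory CategoryTheory.Limits AlgebraicGeometry
open Grpd

namespace Groth.Agent.S7510

open CategoryTheory CategoryTheory.Limits AlgebraicGeometry
open Groth.Agent.S1888.Aux
namespace Aux
open Groth.Agent.S1891.Aux

variable {S : Scheme.{u}} (G : Grpd.GroupoidScheme S)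

lemma cancel_right' {T : Scheme.{u}} (x y : T ⟶ G.R) (h : x ≫ G.s = y ≫ G.s) :
    comp G (comp G x (y ≫ G.i) (by rw [Category.assoc, G.i_t, h])) y
      (by rw [comp_s, Category.assoc, G.i_s]) = x := by
  rw [comp_assoc G x (y ≫ G.i) y (by rw [Category.assoc, G.i_t, h]) (by rw [Category.assoc, G.i_s])]
  rw [comp_congr G _ rfl (i_comp' G y _ rfl)]
  refine comp_e' G _ _ ?_
  rw [← Category.assoc, ← h, Category.assoc]

variable {U' : Scheme.{u}} (g : U' ⟶ G.U)

lemma act_cond1 : (pullback.fst (pullback.snd g G.t ≫ G.s) G.t ≫ pullback.snd g G.t) ≫ G.s =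
    pullback.snd (pullback.snd g G.t ≫ G.s) G.t ≫ G.t := by
  rw [Category.assoc]
  exact pullback.condition

noncomputable def act : pullback (pullback.snd g G.t ≫ G.s) G.t ⟶ pullback g G.t :=
  pullback.lift (pullback.fst (pullback.snd g G.t ≫ G.s) G.t ≫ pullback.fst g G.t)
    (comp G (pullback.fst (pullback.snd g G.t ≫ G.s) G.t ≫ pullback.snd g G.t)
      (pullback.snd (pullback.snd g G.t ≫ G.s) G.t) (act_cond1 G g))
    (by rw [comp_t, Category.assoc, Category.assoc, pullback.condition])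

lemma act_fst : act G g ≫ pullback.fst g G.t =
    pullback.fst (pullback.snd g G.t ≫ G.s) G.t ≫ pullback.fst g G.t := pullback.lift_fst _ _ _

lemma act_snd : act G g ≫ pullback.snd g G.t =
    comp G (pullback.fst (pullback.snd g G.t ≫ G.s) G.t ≫ pullback.snd g G.t)
      (pullback.snd (pullback.snd g G.t ≫ G.s) G.t) (act_cond1 G g) := pullback.lift_snd _ _ _

noncomputable def Φ : pullback (pullback.snd g G.t ≫ G.s) G.t ⟶
    pullback (pullback.snd g G.t ≫ G.s) G.s :=
  pullback.lift (act G g) (pullback.snd (pullback.snd g G.t ≫ G.s) G.t)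
    (by rw [← Category.assoc, act_snd, comp_s])

lemma Φ_fst : Φ G g ≫ pullback.fst (pullback.snd g G.t ≫ G.s) G.s = act G g :=
  pullback.lift_fst _ _ _
lemma Φ_snd : Φ G g ≫ pullback.snd (pullback.snd g G.t ≫ G.s) G.s =
    pullback.snd (pullback.snd g G.t ≫ G.s) G.t := pullback.lift_snd _ _ _

lemma act'_cond1 : (pullback.fst (pullback.snd g G.t ≫ G.s) G.s ≫ pullback.snd g G.t) ≫ G.s =
    (pullback.snd (pullback.snd g G.t ≫ G.s) G.s ≫ G.i) ≫ G.t := by
  rw [Category.assoc, pullback.condition, Category.assoc, G.i_t]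

noncomputable def act' : pullback (pullback.snd g G.t ≫ G.s) G.s ⟶ pullback g G.t :=
  pullback.lift (pullback.fst (pullback.snd g G.t ≫ G.s) G.s ≫ pullback.fst g G.t)
    (comp G (pullback.fst (pullback.snd g G.t ≫ G.s) G.s ≫ pullback.snd g G.t)
      (pullback.snd (pullback.snd g G.t ≫ G.s) G.s ≫ G.i) (act'_cond1 G g))
    (by rw [comp_t, Category.assoc, Category.assoc, pullback.condition])

lemma act'_fst : act' G g ≫ pullback.fst g G.t =
    pullback.fst (pullback.snd g G.t ≫ G.s) G.s ≫ pullback.fst g G.t := pullback.lift_fst _ _ _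

lemma act'_snd : act' G g ≫ pullback.snd g G.t =
    comp G (pullback.fst (pullback.snd g G.t ≫ G.s) G.s ≫ pullback.snd g G.t)
      (pullback.snd (pullback.snd g G.t ≫ G.s) G.s ≫ G.i) (act'_cond1 G g) :=
  pullback.lift_snd _ _ _

noncomputable def Ψ : pullback (pullback.snd g G.t ≫ G.s) G.s ⟶
    pullback (pullback.snd g G.t ≫ G.s) G.t :=
  pullback.lift (act' G g) (pullback.snd (pullback.snd g G.t ≫ G.s) G.s)
    (by rw [← Category.assoc, act'_snd, comp_s, Category.assoc, G.i_s])

lemma Ψ_fst : Ψ G g ≫ pullback.fst (pullback.snd g G.t ≫ G.s) G.t = act' G g :=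
  pullback.lift_fst _ _ _
lemma Ψ_snd : Ψ G g ≫ pullback.snd (pullback.snd g G.t ≫ G.s) G.t =
    pullback.snd (pullback.snd g G.t ≫ G.s) G.s := pullback.lift_snd _ _ _

lemma Φ_Ψ : Φ G g ≫ Ψ G g = 𝟙 _ := by
  apply pullback.hom_ext
  · rw [Category.assoc, Ψ_fst, Category.id_comp]
    apply pullback.hom_ext
    · rw [Category.assoc, act'_fst, ← Category.assoc, Φ_fst, act_fst]
    · rw [Category.assoc, act'_snd, precomp]
      have e1 : Φ G g ≫ pullback.fst (pullback.snd g G.t ≫ G.s) G.s ≫ pullback.snd g G.t =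
          comp G (pullback.fst (pullback.snd g G.t ≫ G.s) G.t ≫ pullback.snd g G.t)
            (pullback.snd (pullback.snd g G.t ≫ G.s) G.t) (act_cond1 G g) := by
        rw [← Category.assoc, Φ_fst, act_snd]
      have e2 : Φ G g ≫ pullback.snd (pullback.snd g G.t ≫ G.s) G.s ≫ G.i =
          pullback.snd (pullback.snd g G.t ≫ G.s) G.t ≫ G.i := by
        rw [← Category.assoc, Φ_snd]
      rw [comp_congr G _ e1 e2]
      exact cancel_right G _ _ (act_cond1 G g)
  · rw [Category.assoc, Ψ_snd, Φ_snd, Category.id_comp]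

lemma Ψ_Φ : Ψ G g ≫ Φ G g = 𝟙 _ := by
  apply pullback.hom_ext
  · rw [Category.assoc, Φ_fst, Category.id_comp]
    apply pullback.hom_ext
    · rw [Category.assoc, act_fst, ← Category.assoc, Ψ_fst, act'_fst]
    · rw [Category.assoc, act_snd, precomp]
      have e1 : Ψ G g ≫ pullback.fst (pullback.snd g G.t ≫ G.s) G.t ≫ pullback.snd g G.t =
          comp G (pullback.fst (pullback.snd g G.t ≫ G.s) G.s ≫ pullback.snd g G.t)
            (pullback.snd (pullback.snd g G.t ≫ G.s) G.s ≫ G.i) (act'_cond1 G g) := by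
        rw [← Category.assoc, Ψ_fst, act'_snd]
      have e2 : Ψ G g ≫ pullback.snd (pullback.snd g G.t ≫ G.s) G.t =
          pullback.snd (pullback.snd g G.t ≫ G.s) G.s := Ψ_snd G g
      rw [comp_congr G _ e1 e2]
      refine cancel_right' G _ _ ?_
      rw [Category.assoc, pullback.condition]
  · rw [Category.assoc, Φ_snd, Ψ_snd, Category.id_comp]

noncomputable def yT : pullback g G.t ⟶ pullback (pullback.snd g G.t ≫ G.s) G.t :=
  pullback.lift (𝟙 _) (pullback.snd g G.t ≫ G.i) (by rw [Category.id_comp, Category.assoc, G.i_t])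

noncomputable def σ : U' ⟶ pullback g G.t :=
  pullback.lift (𝟙 U') (g ≫ G.e) (by rw [Category.id_comp, Category.assoc, G.e_t, Category.comp_id])

lemma yT_fst : yT G g ≫ pullback.fst (pullback.snd g G.t ≫ G.s) G.t = 𝟙 _ :=
  pullback.lift_fst _ _ _

lemma yT_act : yT G g ≫ act G g = pullback.fst g G.t ≫ σ G g := by
  apply pullback.hom_ext
  · rw [Category.assoc, act_fst, ← Category.assoc, yT_fst, Category.id_comp, Category.assoc]
    unfold σ
    rw [pullback.lift_fst, Category.comp_id]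
  · rw [Category.assoc, act_snd, precomp]
    have e1 : yT G g ≫ pullback.fst (pullback.snd g G.t ≫ G.s) G.t ≫ pullback.snd g G.t =
        pullback.snd g G.t := by
      rw [← Category.assoc, yT_fst, Category.id_comp]
    have e2 : yT G g ≫ pullback.snd (pullback.snd g G.t ≫ G.s) G.t = pullback.snd g G.t ≫ G.i :=
      pullback.lift_snd _ _ _
    rw [comp_congr G _ e1 e2, comp_i' G (pullback.snd g G.t) _ rfl, Category.assoc]
    unfold σ
    rw [pullback.lift_snd, ← Category.assoc, ← Category.assoc, pullback.condition]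

theorem main (P Q R : MorphismProperty Scheme.{u}) [P.RespectsIso] (hRQ : R ≤ Q)
    [Q.IsStableUnderBaseChange] [Q.IsStableUnderComposition]
    (W : ∀ {X Y : Scheme.{u}} (f : X ⟶ Y), Q f → X.Opens)
    (hWP : ∀ {X Y : Scheme.{u}} (f : X ⟶ Y) (hf : Q f), P ((W f hf).ι ≫ f))
    (hWmax : ∀ {X Y : Scheme.{u}} (f : X ⟶ Y) (hf : Q f) (V : X.Opens), P (V.ι ≫ f) → V ≤ W f hf)
    (hWbc : ∀ {X Y Y' : Scheme.{u}} (f : X ⟶ Y) (hf : Q f) (b : Y' ⟶ Y), R b →
      ∀ hf' : Q (pullback.snd f b), pullback.fst f b ⁻¹ᵁ W f hf = W (pullback.snd f b) hf')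
    (hs : R G.s) (ht : R G.t) (hg : Q g) (hh : Q (pullback.snd g G.t ≫ G.s)) :
    ∃ V : U'.Opens, pullback.fst g G.t ⁻¹ᵁ V = W (pullback.snd g G.t ≫ G.s) hh := by
  have hQ1 : Q (pullback.snd (pullback.snd g G.t ≫ G.s) G.t) :=
    MorphismProperty.pullback_snd _ _ hh
  have hQ2 : Q (pullback.snd (pullback.snd g G.t ≫ G.s) G.s) :=
    MorphismProperty.pullback_snd _ _ hh
  have E1 := hWbc (pullback.snd g G.t ≫ G.s) hh G.t ht hQ1
  have E2 := hWbc (pullback.snd g G.t ≫ G.s) hh G.s hs hQ2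
  haveI : IsIso (Φ G g) := ⟨Ψ G g, Φ_Ψ G g, Ψ_Φ G g⟩
  haveI : IsIso (Ψ G g) := ⟨Φ G g, Ψ_Φ G g, Φ_Ψ G g⟩
  have L1 : Φ G g ⁻¹ᵁ W _ hQ2 ≤ W _ hQ1 := by
    apply hWmax
    have e : (Φ G g ⁻¹ᵁ W _ hQ2).ι ≫ pullback.snd (pullback.snd g G.t ≫ G.s) G.t =
        (Φ G g ∣_ W _ hQ2) ≫ (W _ hQ2).ι ≫ pullback.snd (pullback.snd g G.t ≫ G.s) G.s := by
      rw [← Category.assoc, morphismRestrict_ι, Category.assoc, Φ_snd]
    rw [e]
    exact (P.cancel_left_of_respectsIso _ _).mpr (hWP _ hQ2)
  have L2 : Ψ G g ⁻¹ᵁ W _ hQ1 ≤ W _ hQ2 := by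
    apply hWmax
    have e : (Ψ G g ⁻¹ᵁ W _ hQ1).ι ≫ pullback.snd (pullback.snd g G.t ≫ G.s) G.s =
        (Ψ G g ∣_ W _ hQ1) ≫ (W _ hQ1).ι ≫ pullback.snd (pullback.snd g G.t ≫ G.s) G.t := by
      rw [← Category.assoc, morphismRestrict_ι, Category.assoc, Ψ_snd]
    rw [e]
    exact (P.cancel_left_of_respectsIso _ _).mpr (hWP _ hQ1)
  have E3 : W _ hQ1 = Φ G g ⁻¹ᵁ W _ hQ2 := by
    apply le_antisymm _ L1
    have := Scheme.Hom.preimage_mono (Φ G g) L2
    rw [← Scheme.Hom.comp_preimage, Φ_Ψ] at this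
    exact this
  have E4 : pullback.fst (pullback.snd g G.t ≫ G.s) G.t ⁻¹ᵁ W _ hh = act G g ⁻¹ᵁ W _ hh := by
    rw [E1, E3, ← E2, ← Scheme.Hom.comp_preimage, Φ_fst]
  refine ⟨σ G g ⁻¹ᵁ W _ hh, ?_⟩
  rw [← Scheme.Hom.comp_preimage, ← yT_act, Scheme.Hom.comp_preimage, ← E4,
    ← Scheme.Hom.comp_preimage, yT_fst]
  rfl

end Aux

/-- Let (U, R, s, t, c, e, i) be a groupoid scheme over S and g : U' -> U a morphism; write h = s ∘ pr_1
: U' x_(g,U,t) R -> U. Let P, Q, R be properties of morphisms of schemes, with P invariant under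
composition with isomorphisms, such that (1) R implies Q, (2) Q is stable under base change and
composition, (3) every morphism f : X -> Y with Q has a largest open W(P, f) of X on which the
restriction of f has P (given here as a function W with these two properties), and (4) for f with Q
and a base change along Y' -> Y with R, the preimage of W(P, f) in X x_Y Y' is W(P, f') for the base
change f'. If s, t have R and g has Q, then there is an open W of U' whose preimage in U' x_(g,U,t)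
R equals W(P, h). (The published statement speaks of arbitrary properties of morphisms; this row
asks P to be invariant under composition with isomorphisms, which the proof uses to identify the
largest opens on the two isomorphic fibre products of h with t and with s.) (A groupoid scheme
carries U, R, s, t, c, e, i over S with the groupoid axioms on T-points; c is defined on the fibre
product of s and t and sends a pair (a, b) with s(a) = t(b) to a composed with b.) -/
theorem result (S : Scheme.{u}) (G : Grpd.GroupoidScheme S) {U' : Scheme.{u}} (g : U' ⟶ G.U) (P Q R : MorphismProperty Scheme.{u}) [P.RespectsIso] (hRQ : R ≤ Q) [Q.IsStableUnderBaseChange] [Q.IsStableUnderComposition] (W : ∀ {X Y : Scheme.{u}} (f : X ⟶ Y), Q f → X.Opens) (hWP : ∀ {X Y : Scheme.{u}} (f : X ⟶ Y) (hf : Q f), P ((W f hf).ι ≫ f)) (hWmax : ∀ {X Y : Scheme.{u}} (f : X ⟶ Y) (hf : Q f) (V : X.Opens), P (V.ι ≫ f) → V ≤ W f hf) (hWbc : ∀ {X Y Y' : Scheme.{u}} (f : X ⟶ Y) (hf : Q f) (b : Y' ⟶ Y),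 R b → ∀ hf' : Q (pullback.snd f b), pullback.fst f b ⁻¹ᵁ W f hf = W (pullback.snd f b) hf') (hs : R G.s) (ht : R G.t) (hg : Q g) (hh : Q (pullback.snd g G.t ≫ G.s)) : ∃ V : U'.Opens, pullback.fst g G.t ⁻¹ᵁ V = W (pullback.snd g G.t ≫ G.s) hh := by
  exact Aux.main G g P Q R hRQ W hWP hWmax hWbc hs ht hg hh

end Groth.Agent.S7510
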