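import Groth.Statements.S1178
import Mathlib
import Groth.Agent.Lib.Lead.FP2
import Groth.Agent.Lib.Helper1.PushQc

set_option autoImplicit false
open CategoryTheory CategoryTheory.Limits AlgebraicGeometry Opposite
universe u
open Desc

namespace Groth.Agent.S1178

section
open CategoryTheory CategoryTheory.Limits AlgebraicGeometry Opposite

open Groth.Agent.Lead Groth.Agent.Helper1

theorem fp_iff_alg (A B N : Type u) [CommRing A] [CommRing B] [AddCommGroup N] [Algebra A B]
    [Module B N] [Module A N] [IsScalarTower A B N] [Module.FinitePresentation A B] :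
    Module.FinitePresentation A N ↔ Module.FinitePresentation B N := by
  constructor
  · intro h
    haveI : Module.Finite B N := Module.Finite.of_restrictScalars_finite A B N
    obtain ⟨n, π, hπ⟩ := Module.Finite.exists_fin' B N
    haveI : Module.FinitePresentation A (Fin n → B) := inferInstance
    have hfg : (LinearMap.ker (π.restrictScalars A)).FG :=
      Module.FinitePresentation.fg_ker (π.restrictScalars A) hπ
    have hfg' : (LinearMap.ker π).FG := by
      apply Submodule.FG.of_restrictScalars A
      rw [← LinearMap.ker_restrictScalars]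
      exact hfg
    exact Module.finitePresentation_of_surjective π hπ hfg'
  · intro h
    exact Module.FinitePresentation.trans A N B

section
variable {X Y : Scheme.{u}} (f : X ⟶ Y) (F : X.Modules) (V : Y.Opens)

/-- sections of `F` over `f⁻¹ V` as a module over `Γ(Y, V)` -/
noncomputable def pushModule : Module Γ(Y, V) Γ(F, f ⁻¹ᵁ V) :=
  inferInstanceAs (Module Γ(Y, V) Γ((Scheme.Modules.pushforward f).obj F, V))

theorem tower :
    letI alg : Algebra Γ(Y, V) Γ(X, f ⁻¹ᵁ V) := (f.app V).hom.toAlgebra
    letI := pushModule f F V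
    IsScalarTower Γ(Y, V) Γ(X, f ⁻¹ᵁ V) Γ(F, f ⁻¹ᵁ V) := by
  letI alg : Algebra Γ(Y, V) Γ(X, f ⁻¹ᵁ V) := (f.app V).hom.toAlgebra
  letI := pushModule f F V
  exact IsScalarTower.of_algebraMap_smul fun r x => rfl

theorem fp_iff (hfin : (f.app V).hom.Finite) (hfp : (f.app V).hom.FinitePresentation) :
    Module.FinitePresentation Γ(Y, V) Γ((Scheme.Modules.pushforward f).obj F, V) ↔
      Module.FinitePresentation Γ(X, f ⁻¹ᵁ V) Γ(F, f ⁻¹ᵁ V) := by
  letI alg : Algebra Γ(Y, V) Γ(X, f ⁻¹ᵁ V) := (f.app V).hom.toAlgebra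
  haveI : Module.Finite Γ(Y, V) Γ(X, f ⁻¹ᵁ V) := hfin
  haveI : Algebra.FinitePresentation Γ(Y, V) Γ(X, f ⁻¹ᵁ V) := hfp
  haveI : Module.FinitePresentation Γ(Y, V) Γ(X, f ⁻¹ᵁ V) :=
    Module.FinitePresentation.of_finite_of_finitePresentation _ _
  exact @fp_iff_alg Γ(Y, V) Γ(X, f ⁻¹ᵁ V) Γ(F, f ⁻¹ᵁ V) _ _ _ alg _
    (pushModule f F V) (tower f F V) _

end

theorem main {X Y : Scheme.{u}} (f : X ⟶ Y) [IsFinite f] [LocallyOfFinitePresentation f]
    (F : X.Modules) [F.IsQuasicoherent] :
    CohB1.IsFP F ↔ CohB1.IsFP ((Scheme.Modules.pushforward f).obj F) := by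
  haveI : ((Scheme.Modules.pushforward f).obj F).IsQuasicoherent :=
    PushQc.isQuasicoherent_pushforward f F
  have happ : ∀ (V : Y.Opens) (hV : IsAffineOpen V), (f.app V).hom.FinitePresentation := by
    intro V hV
    have := f.finitePresentation_appLE hV (hV.preimage f) le_rfl
    rwa [Scheme.Hom.appLE_eq_app] at this
  constructor
  · intro h
    rw [FP.isFP_iff_affineOpens]
    intro V hV
    rw [fp_iff f F V (f.finite_app V hV) (happ V hV)]
    exact FP.fp_sections_of_isFP F h (hV.preimage f)
  · intro h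
    apply FP.isFP_of_fp_sections
    intro x
    obtain ⟨_, ⟨W, hW, rfl⟩, hyW, -⟩ := Y.isBasis_affineOpens.exists_subset_of_mem_open
      (Set.mem_univ (f x)) isOpen_univ
    refine ⟨f ⁻¹ᵁ W, hW.preimage f, hyW, ?_⟩
    rw [← fp_iff f F W (f.finite_app W hW) (happ W hW)]
    exact FP.fp_sections_of_isFP _ h hW


end


/-- Let f : X ⟶ Y be finite and locally of finite presentation and F a quasi-coherent O_X-module. Then F
is finitely presented exactly when its pushforward f_*F is a finitely presented O_Y-module. -/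
theorem result {X Y : Scheme.{u}} (f : X ⟶ Y) [IsFinite f] [LocallyOfFinitePresentation f]
    (F : X.Modules) [F.IsQuasicoherent] :
    CohB1.IsFP F ↔ CohB1.IsFP ((Scheme.Modules.pushforward f).obj F) := by
  classical
  exact main f F

end Groth.Agent.S1178
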