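import Groth.Statements.S13421
import Mathlib

set_option autoImplicit false
universe u
open CategoryTheory AlgebraicGeometry
open NeronHD

namespace Groth.Agent.S13421

section
open CategoryTheory AlgebraicGeometry
open Limits

instance : MorphismProperty.HasOfPostcompProperty @Smooth @Etale := by
  haveI : MorphismProperty.IsMultiplicative @Smooth :=
    { id_mem := fun X => (inferInstance : Smooth (𝟙 X))
      comp_mem := fun f g hf hg => MorphismProperty.comp_mem _ f g hf hg }
  rw [MorphismProperty.hasOfPostcompProperty_iff_le_diagonal]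
  intro X Y f hf
  haveI : Etale f := hf
  exact (inferInstance : Smooth (pullback.diagonal f))

theorem smooth_of_comp_etale {X Y Z : Scheme.{u}} (h : X ⟶ Y) (f : Y ⟶ Z) [Etale f]
    (hs : Smooth (h ≫ f)) : Smooth h :=
  MorphismProperty.of_postcomp (W := @Smooth) (W' := @Etale) h f ‹_› hs

/-- comparison of the two restrictions -/
theorem exists_comparison {T S Z : Scheme.{u}} (T₀ : T.Opens) (f : S ⟶ T) (h : Z ⟶ S)
    (z : Z ⟶ T) (hz : h ≫ f = z) :
    ∃ c : pullback h (f ⁻¹ᵁ T₀).ι ⟶ pullback z T₀.ι, IsIso c ∧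
      c ≫ pullback.fst z T₀.ι = pullback.fst h (f ⁻¹ᵁ T₀).ι := by
  subst hz
  have hrange : Set.range (pullback.fst h (f ⁻¹ᵁ T₀).ι).base =
      Set.range (pullback.fst (h ≫ f) T₀.ι).base := by
    rw [IsOpenImmersion.range_pullbackFst, IsOpenImmersion.range_pullbackFst,
      Scheme.Opens.opensRange_ι, Scheme.Opens.opensRange_ι]
    rfl
  let e := IsOpenImmersion.isoOfRangeEq (pullback.fst h (f ⁻¹ᵁ T₀).ι)
    (pullback.fst (h ≫ f) T₀.ι) hrange
  exact ⟨e.hom, inferInstance, IsOpenImmersion.isoOfRangeEq_hom_fac _ _ _⟩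

theorem main {k : Type u} [Field k] [CharZero k] {T : Scheme.{u}} (τ : T ⟶ Spec (CommRingCat.of k)) [IsLocallyNoetherian T] (T₀ : T.Opens) (hT₀ : CInt.IsSchematicallyDense T₀)
    {S N : Scheme.{u}} (f : S ⟶ T) [Etale f] (g : N ⟶ S) [Smooth g]
    (hS : ∀ Z : Over T, Smooth Z.hom → Function.Bijective (fun g : Z ⟶ Over.mk f => (Over.pullback T₀.ι).map g))
    (hN : ∀ Z : Over S, Smooth Z.hom → Function.Bijective (fun g : Z ⟶ Over.mk g => (Over.pullback (f ⁻¹ᵁ T₀).ι).map g)) :
    ∀ Z : Over T, Smooth Z.hom → Function.Bijective (fun g : Z ⟶ Over.mk (g ≫ f) => (Over.pullback T₀.ι).map g) := by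
  intro Z hZ
  let π : Over.mk (g ≫ f) ⟶ Over.mk f := Over.homMk g rfl
  -- restriction of a morphism, first component
  have hfst : ∀ {A B : Over T} (a : A ⟶ B),
      ((Over.pullback T₀.ι).map a).left ≫ pullback.fst B.hom T₀.ι =
        pullback.fst A.hom T₀.ι ≫ a.left := by
    intro A B a
    simp only [Over.pullback]
    exact pullback.lift_fst _ _ _
  have hfstS : ∀ {A B : Over S} (a : A ⟶ B),
      ((Over.pullback (f ⁻¹ᵁ T₀).ι).map a).left ≫ pullback.fst B.hom (f ⁻¹ᵁ T₀).ι =
        pullback.fst A.hom (f ⁻¹ᵁ T₀).ι ≫ a.left := by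
    intro A B a
    simp only [Over.pullback]
    exact pullback.lift_fst _ _ _
  have hsndS : ∀ {A B : Over S} (a : A ⟶ B),
      ((Over.pullback (f ⁻¹ᵁ T₀).ι).map a).left ≫ pullback.snd B.hom (f ⁻¹ᵁ T₀).ι =
        pullback.snd A.hom (f ⁻¹ᵁ T₀).ι := by
    intro A B a
    simp only [Over.pullback]
    exact pullback.lift_snd _ _ _
  have hsnd : ∀ {A B : Over T} (a : A ⟶ B),
      ((Over.pullback T₀.ι).map a).left ≫ pullback.snd B.hom T₀.ι =
        pullback.snd A.hom T₀.ι := by
    intro A B a
    simp only [Over.pullback]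
    exact pullback.lift_snd _ _ _
  constructor
  · intro a b hab
    have hab' : (Over.pullback T₀.ι).map a = (Over.pullback T₀.ι).map b := hab
    have h1 : a ≫ π = b ≫ π := by
      apply (hS Z hZ).1
      change (Over.pullback T₀.ι).map (a ≫ π) = (Over.pullback T₀.ι).map (b ≫ π)
      rw [Functor.map_comp, Functor.map_comp, hab']
    have h1' : a.left ≫ g = b.left ≫ g := congrArg CommaMorphism.left h1
    have hZhom : (a.left ≫ g) ≫ f = Z.hom := by
      have := Over.w a
      simpa using this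
    let ZS : Over S := Over.mk (a.left ≫ g)
    have hZS : Smooth ZS.hom := by
      apply smooth_of_comp_etale (a.left ≫ g) f
      rw [hZhom]; exact hZ
    let aS : ZS ⟶ Over.mk g := Over.homMk a.left rfl
    let bS : ZS ⟶ Over.mk g := Over.homMk b.left h1'.symm
    have hS' : aS = bS := by
      apply (hN ZS hZS).1
      change (Over.pullback (f ⁻¹ᵁ T₀).ι).map aS = (Over.pullback (f ⁻¹ᵁ T₀).ι).map bS
      ext1
      apply pullback.hom_ext
      · rw [hfstS, hfstS]
        obtain ⟨c, hc, hcfst⟩ := exists_comparison T₀ f (a.left ≫ g) Z.hom hZhom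
        have e1 := hfst a
        have e2 := hfst b
        rw [hab'] at e1
        have e3 : pullback.fst Z.hom T₀.ι ≫ a.left = pullback.fst Z.hom T₀.ι ≫ b.left := by
          rw [← e1, ← e2]
        change pullback.fst (a.left ≫ g) (f ⁻¹ᵁ T₀).ι ≫ a.left =
          pullback.fst (a.left ≫ g) (f ⁻¹ᵁ T₀).ι ≫ b.left
        rw [← hcfst, Category.assoc, Category.assoc, e3]
      · rw [hsndS, hsndS]
    have := congrArg CommaMorphism.left hS'
    ext1
    exact this
  · intro m
    obtain ⟨s, hs⟩ := (hS Z hZ).2 (m ≫ (Over.pullback T₀.ι).map π)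
    have hs' : (Over.pullback T₀.ι).map s = m ≫ (Over.pullback T₀.ι).map π := hs
    have hsf : s.left ≫ f = Z.hom := by
      have := Over.w s
      simpa using this
    let ZS : Over S := Over.mk s.left
    have hZS : Smooth ZS.hom := by
      apply smooth_of_comp_etale s.left f
      rw [hsf]; exact hZ
    obtain ⟨c, hc, hcfst⟩ := exists_comparison T₀ f s.left Z.hom hsf
    -- key identity
    have hkey : m.left ≫ pullback.fst (g ≫ f) T₀.ι ≫ g = pullback.fst Z.hom T₀.ι ≫ s.left := by
      have e1 := hfst s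
      rw [hs'] at e1
      rw [← e1]
      have e2 := hfst π
      rw [Over.comp_left, Category.assoc]
      erw [e2]
      rfl
    have hcond : (c ≫ m.left ≫ pullback.fst (g ≫ f) T₀.ι) ≫ g =
        pullback.snd s.left (f ⁻¹ᵁ T₀).ι ≫ (f ⁻¹ᵁ T₀).ι := by
      rw [Category.assoc, Category.assoc, hkey, ← Category.assoc, hcfst, pullback.condition]
    let mS : (Over.pullback (f ⁻¹ᵁ T₀).ι).obj ZS ⟶ (Over.pullback (f ⁻¹ᵁ T₀).ι).obj (Over.mk g) :=
      Over.homMk (pullback.lift (c ≫ m.left ≫ pullback.fst (g ≫ f) T₀.ι)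
        (pullback.snd s.left (f ⁻¹ᵁ T₀).ι) hcond) (pullback.lift_snd _ _ _)
    obtain ⟨nS, hnS⟩ := (hN ZS hZS).2 mS
    have hnS' : (Over.pullback (f ⁻¹ᵁ T₀).ι).map nS = mS := hnS
    have hnSw : nS.left ≫ g = s.left := Over.w nS
    let n : Z ⟶ Over.mk (g ≫ f) := Over.homMk nS.left (by
      change nS.left ≫ g ≫ f = Z.hom
      rw [← Category.assoc, hnSw, hsf])
    refine ⟨n, ?_⟩
    change (Over.pullback T₀.ι).map n = m
    ext1
    apply pullback.hom_ext
    · rw [hfst]
      haveI := hc
      rw [← cancel_epi c]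
      have e3 := hfstS nS
      rw [hnS'] at e3
      have e4 : mS.left ≫ pullback.fst g (f ⁻¹ᵁ T₀).ι = c ≫ m.left ≫ pullback.fst (g ≫ f) T₀.ι :=
        pullback.lift_fst _ _ _
      rw [← Category.assoc, hcfst]
      change pullback.fst s.left (f ⁻¹ᵁ T₀).ι ≫ nS.left =
        c ≫ m.left ≫ pullback.fst (g ≫ f) T₀.ι
      rw [← e4]
      exact e3.symm
    · rw [hsnd]
      have := Over.w m
      exact this.symm


end


/-- Let T be a locally Noetherian scheme over a field of characteristic 0 and T₀ ⊆ T a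
scheme-theoretically dense open. Let f : S → T be étale and such that S, viewed as a T-scheme, has
the Néron mapping property for T₀ ⊆ T, and let g : N → S be smooth and such that N, viewed as an
S-scheme, has the Néron mapping property for f⁻¹(T₀) ⊆ S (restriction of morphisms from smooth
schemes over the base is bijective). Then N → T, the composite g ≫ f, has the Néron mapping property
for T₀ ⊆ T. (Case of schemes, with smooth test schemes, of a statement about algebraic spaces.) -/
theorem result {k : Type u} [Field k] [CharZero k] {T : Scheme.{u}} (τ : T ⟶ Spec (CommRingCat.of k)) [IsLocallyNoetherian T] (T₀ : T.Opens) (hT₀ : CInt.IsSchematicallyDense T₀)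
    {S N : Scheme.{u}} (f : S ⟶ T) [Etale f] (g : N ⟶ S) [Smooth g]
    (hS : ∀ Z : Over T, Smooth Z.hom → Function.Bijective (fun g : Z ⟶ Over.mk f => (Over.pullback T₀.ι).map g))
    (hN : ∀ Z : Over S, Smooth Z.hom → Function.Bijective (fun g : Z ⟶ Over.mk g => (Over.pullback (f ⁻¹ᵁ T₀).ι).map g)) :
    ∀ Z : Over T, Smooth Z.hom → Function.Bijective (fun g : Z ⟶ Over.mk (g ≫ f) => (Over.pullback T₀.ι).map g) := by
  classical
  exact main τ T₀ hT₀ f g hS hN

end Groth.Agent.S13421
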