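import Groth.Statements.S17731
import Mathlib
import Groth.Agent.S13421

set_option autoImplicit false
universe u
open Neron

namespace Groth.Agent.S17731

section

open CategoryTheory AlgebraicGeometry Limits

theorem map_fst {T : Scheme.{u}} (T₀ : T.Opens) {A B : Over T} (a : A ⟶ B) :
      ((Over.pullback T₀.ι).map a).left ≫ pullback.fst B.hom T₀.ι =
        pullback.fst A.hom T₀.ι ≫ a.left := by
  simp only [Over.pullback]
  exact pullback.lift_fst _ _ _

theorem map_snd {T : Scheme.{u}} (T₀ : T.Opens) {A B : Over T} (a : A ⟶ B) :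
      ((Over.pullback T₀.ι).map a).left ≫ pullback.snd B.hom T₀.ι =
        pullback.snd A.hom T₀.ι := by
  simp only [Over.pullback]
  exact pullback.lift_snd _ _ _

theorem inj
    {S S' : Scheme.{u}} (g : S' ⟶ S)
    (U : S.Opens) (N : Over S) (Y' : Over S')
    (hN : Function.Injective (fun f : Over.mk (Y'.hom ≫ g) ⟶ N => (Over.pullback U.ι).map f)) :
    Function.Injective (fun f : Y' ⟶ (Over.pullback g).obj N => (Over.pullback (g ⁻¹ᵁ U).ι).map f) := by
  intro f₁ f₂ h12
  have h12' : (Over.pullback (g ⁻¹ᵁ U).ι).map f₁ = (Over.pullback (g ⁻¹ᵁ U).ι).map f₂ := h12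
  obtain ⟨d, hd, hdfst⟩ := Groth.Agent.S13421.exists_comparison U g Y'.hom (Y'.hom ≫ g) rfl
  have hw : ∀ f : Y' ⟶ (Over.pullback g).obj N, f.left ≫ pullback.snd N.hom g = Y'.hom := fun f =>
    Over.w f
  let Φ : (Y' ⟶ (Over.pullback g).obj N) → (Over.mk (Y'.hom ≫ g) ⟶ N) := fun f =>
    Over.homMk (f.left ≫ pullback.fst N.hom g) (by
      change (f.left ≫ pullback.fst N.hom g) ≫ N.hom = Y'.hom ≫ g
      rw [Category.assoc, pullback.condition, ← Category.assoc, hw])
  have hΦ : Φ f₁ = Φ f₂ := by
    apply hN
    change (Over.pullback U.ι).map (Φ f₁) = (Over.pullback U.ι).map (Φ f₂)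
    ext1
    apply pullback.hom_ext
    · rw [map_fst, map_fst]
      haveI := hd
      rw [← cancel_epi d]
      change d ≫ pullback.fst (Y'.hom ≫ g) U.ι ≫ f₁.left ≫ pullback.fst N.hom g =
        d ≫ pullback.fst (Y'.hom ≫ g) U.ι ≫ f₂.left ≫ pullback.fst N.hom g
      rw [← Category.assoc, ← Category.assoc d, hdfst]
      have e1 := map_fst (g ⁻¹ᵁ U) f₁
      have e2 := map_fst (g ⁻¹ᵁ U) f₂
      rw [h12'] at e1
      rw [← Category.assoc, ← Category.assoc, ← e1, ← e2]
    · rw [map_snd, map_snd]
  have hΦ' : f₁.left ≫ pullback.fst N.hom g = f₂.left ≫ pullback.fst N.hom g :=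
    congrArg CommaMorphism.left hΦ
  ext1
  apply pullback.hom_ext
  · exact hΦ'
  · rw [hw, hw]

theorem main
    {S S' : Scheme.{u}} (g : S' ⟶ S) [Smooth g]
    (U : S.Opens) (hU : CInt.IsSchematicallyDense U) (N : Over S) [Smooth N.hom]
    (hN : ∀ Y : Over S, Smooth Y.hom →
      Function.Injective (fun f : Y ⟶ N => (Over.pullback U.ι).map f))
    (Y' : Over S') [Smooth Y'.hom] :
    Function.Injective (fun f : Y' ⟶ (Over.pullback g).obj N => (Over.pullback (g ⁻¹ᵁ U).ι).map f) := by
  apply inj
  apply hN
  change Smooth (Y'.hom ≫ g)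
  infer_instance


end


open CategoryTheory AlgebraicGeometry in
/-- Let S be a scheme, U ⊆ S a schematically dense open subscheme and N → S a smooth S-scheme having
uniqueness in the Néron mapping property with respect to U: for every smooth S-scheme Y, restriction
to U is injective on S-morphisms Y → N. Then for every smooth morphism g : S' → S the base change N
×_S S' → S' has uniqueness in the Néron mapping property with respect to g⁻¹(U): for every smooth
S'-scheme Y', restriction to g⁻¹(U) is injective on S'-morphisms Y' → N ×_S S'. (The published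
statement is for models which are algebraic spaces, tested against smooth algebraic spaces; this row
states the case of a scheme model tested against smooth schemes. The companion assertion that Néron
models are preserved by smooth base change is not restated here.) -/
theorem result
    {S S' : Scheme.{u}} (g : S' ⟶ S) [Smooth g]
    (U : S.Opens) (hU : CInt.IsSchematicallyDense U) (N : Over S) [Smooth N.hom]
    (hN : ∀ Y : Over S, Smooth Y.hom →
      Function.Injective (fun f : Y ⟶ N => (Over.pullback U.ι).map f))
    (Y' : Over S') [Smooth Y'.hom] :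
    Function.Injective (fun f : Y' ⟶ (Over.pullback g).obj N => (Over.pullback (g ⁻¹ᵁ U).ι).map f) := by
  classical
  exact main g U hU N hN Y'

end Groth.Agent.S17731
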