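import Groth.Statements.S13203
import Mathlib
import Groth.Agent.S13421
import Groth.Agent.S17731

set_option autoImplicit false
universe u
open CategoryTheory AlgebraicGeometry
open Neron

namespace Groth.Agent.S13203

section
open CategoryTheory AlgebraicGeometry
open Limits
open Groth.Agent.S17731 (map_fst map_snd)

theorem surj
    {S S' : Scheme.{u}} (g : S' ⟶ S)
    (U : S.Opens) (N : Over S) (Y' : Over S')
    (hN : Function.Surjective (fun f : Over.mk (Y'.hom ≫ g) ⟶ N => (Over.pullback U.ι).map f)) :
    Function.Surjective (fun f : Y' ⟶ (Over.pullback g).obj N => (Over.pullback (g ⁻¹ᵁ U).ι).map f) := by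
  intro m
  obtain ⟨d, hd, hdfst⟩ := Groth.Agent.S13421.exists_comparison U g Y'.hom (Y'.hom ≫ g) rfl
  haveI := hd
  have hmw : m.left ≫ pullback.snd (pullback.snd N.hom g) (g ⁻¹ᵁ U).ι =
      pullback.snd Y'.hom (g ⁻¹ᵁ U).ι := Over.w m
  have hcond : (inv d ≫ m.left ≫ pullback.fst (pullback.snd N.hom g) (g ⁻¹ᵁ U).ι ≫
      pullback.fst N.hom g) ≫ N.hom = pullback.snd (Y'.hom ≫ g) U.ι ≫ U.ι := by
    rw [← pullback.condition]
    have e1 : pullback.fst (Y'.hom ≫ g) U.ι = inv d ≫ pullback.fst Y'.hom (g ⁻¹ᵁ U).ι := by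
      rw [← hdfst, IsIso.inv_hom_id_assoc]
    rw [e1]
    simp only [Category.assoc]
    congr 1
    rw [pullback.condition, ← Category.assoc (pullback.fst (pullback.snd N.hom g) (g ⁻¹ᵁ U).ι),
      pullback.condition, Category.assoc, ← Category.assoc m.left, hmw]
    rw [← Category.assoc, ← pullback.condition, Category.assoc]
  let m' : (Over.pullback U.ι).obj (Over.mk (Y'.hom ≫ g)) ⟶ (Over.pullback U.ι).obj N :=
    Over.homMk (pullback.lift (inv d ≫ m.left ≫ pullback.fst (pullback.snd N.hom g) (g ⁻¹ᵁ U).ι ≫
      pullback.fst N.hom g) (pullback.snd (Y'.hom ≫ g) U.ι) hcond) (pullback.lift_snd _ _ _)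
  obtain ⟨h, hh⟩ := hN m'
  have hh' : (Over.pullback U.ι).map h = m' := hh
  have hhw : h.left ≫ N.hom = Y'.hom ≫ g := Over.w h
  let f : Y' ⟶ (Over.pullback g).obj N :=
    Over.homMk (pullback.lift h.left Y'.hom hhw) (pullback.lift_snd _ _ _)
  have hf1 : f.left ≫ pullback.fst N.hom g = h.left := pullback.lift_fst _ _ _
  have hf2 : f.left ≫ pullback.snd N.hom g = Y'.hom := pullback.lift_snd _ _ _
  refine ⟨f, ?_⟩
  change (Over.pullback (g ⁻¹ᵁ U).ι).map f = m
  ext1
  apply pullback.hom_ext
  · rw [map_fst]
    apply pullback.hom_ext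
    · rw [Category.assoc, Category.assoc]
      change pullback.fst Y'.hom (g ⁻¹ᵁ U).ι ≫ f.left ≫ pullback.fst N.hom g = _
      rw [hf1, ← hdfst, Category.assoc]
      have e2 := map_fst U h
      rw [hh'] at e2
      have e3 : m'.left ≫ pullback.fst N.hom U.ι = inv d ≫ m.left ≫
          pullback.fst (pullback.snd N.hom g) (g ⁻¹ᵁ U).ι ≫ pullback.fst N.hom g :=
        pullback.lift_fst _ _ _
      have e2' : pullback.fst (Y'.hom ≫ g) U.ι ≫ h.left = m'.left ≫ pullback.fst N.hom U.ι :=
        e2.symm
      change d ≫ pullback.fst (Y'.hom ≫ g) U.ι ≫ h.left = _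
      rw [e2', e3, IsIso.hom_inv_id_assoc]
      rfl
    · rw [Category.assoc, Category.assoc]
      change pullback.fst Y'.hom (g ⁻¹ᵁ U).ι ≫ f.left ≫ pullback.snd N.hom g =
        m.left ≫ pullback.fst (pullback.snd N.hom g) (g ⁻¹ᵁ U).ι ≫ pullback.snd N.hom g
      rw [hf2, pullback.condition, pullback.condition, ← Category.assoc m.left, hmw]
  · rw [map_snd]
    exact hmw.symm

theorem main
    {S S' : Scheme.{u}} (g : S' ⟶ S) [Smooth g]
    (U : S.Opens) (hU : CInt.IsSchematicallyDense U) (N : Over S) [Smooth N.hom]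
    (hN : ∀ Y : Over S, Smooth Y.hom →
      Function.Bijective (fun f : Y ⟶ N => (Over.pullback U.ι).map f))
    (Y' : Over S') [Smooth Y'.hom] :
    Function.Bijective (fun f : Y' ⟶ (Over.pullback g).obj N => (Over.pullback (g ⁻¹ᵁ U).ι).map f) := by
  have hsm : Smooth (Over.mk (Y'.hom ≫ g)).hom := by
    change Smooth (Y'.hom ≫ g)
    infer_instance
  exact ⟨Groth.Agent.S17731.inj g U N Y' (hN _ hsm).1, surj g U N Y' (hN _ hsm).2⟩


end


/-- Let S be a scheme, U ⊆ S a schematically dense open subscheme and N → S a smooth S-scheme with the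
Néron mapping property with respect to U: for every smooth S-scheme Y, sending an S-morphism Y → N
to its restriction Y ×_S U → N ×_S U is a bijection onto the U-morphisms. Then for every smooth
morphism g : S' → S the base change N ×_S S' → S' (again smooth) has the Néron mapping property with
respect to g⁻¹(U): for every smooth S'-scheme Y', restriction to g⁻¹(U) is a bijection from
S'-morphisms Y' → N ×_S S' onto g⁻¹(U)-morphisms. (The published statement is for models which are
algebraic spaces, tested against smooth algebraic spaces, and also says that separatedness is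
preserved; this row states the case of a smooth scheme model tested against smooth schemes.) -/
theorem result
    {S S' : Scheme.{u}} (g : S' ⟶ S) [Smooth g]
    (U : S.Opens) (hU : CInt.IsSchematicallyDense U) (N : Over S) [Smooth N.hom]
    (hN : ∀ Y : Over S, Smooth Y.hom →
      Function.Bijective (fun f : Y ⟶ N => (Over.pullback U.ι).map f))
    (Y' : Over S') [Smooth Y'.hom] :
    Function.Bijective (fun f : Y' ⟶ (Over.pullback g).obj N => (Over.pullback (g ⁻¹ᵁ U).ι).map f) := by
  classical
  exact main g U hU N hN Y'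

end Groth.Agent.S13203
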