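import Groth.Statements.S18483
import Mathlib
import Groth.Agent.Lib.Lead.Weil12

set_option autoImplicit false
universe u
open CategoryTheory CategoryTheory.Limits AlgebraicGeometry MonObj
open Neron

namespace Groth.Agent.S18483

/-- Let R be a Dedekind domain with fraction field K and N a proper smooth group scheme over Spec R,
with no connectedness condition on its fibres. Then N is a Néron model of its generic fibre N_K: N
is smooth, separated and of finite type over Spec R, and for every smooth Spec R-scheme Y
restriction to generic fibres is a bijection from R-morphisms Y → N onto K-morphisms Y_K → N_K. (The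
source allows any connected Dedekind scheme as base; the affine case is stated.) -/
theorem result (R : Type u) [CommRing R] [IsDedekindDomain R]
    (N : Over (Spec (CommRingCat.of R))) [GrpObj N] [IsProper N.hom] [Smooth N.hom] :
    Neron.IsNeronModelOf R N ((Neron.genericFibre R).obj N) (Iso.refl _) := by
  classical
  haveI : GrpObj (Over.mk N.hom) := ‹GrpObj N›
  refine ⟨inferInstance, inferInstance, inferInstance, inferInstance, ?_⟩
  intro Y hY
  haveI : Smooth Y.hom := hY
  have hbc1 : ∀ g : Y ⟶ N, ((Over.pullback (Neron.genPt R)).map g).left ≫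
      pullback.fst N.hom (Neron.genPt R) = pullback.fst Y.hom (Neron.genPt R) ≫ g.left := by
    intro g
    simp only [Over.pullback_map_left]
    exact pullback.lift_fst _ _ _
  have hbc2 : ∀ g : Y ⟶ N, ((Over.pullback (Neron.genPt R)).map g).left ≫
      pullback.snd N.hom (Neron.genPt R) = pullback.snd Y.hom (Neron.genPt R) := by
    intro g
    simp only [Over.pullback_map_left]
    exact pullback.lift_snd _ _ _
  constructor
  · intro g g' h
    simp only [Iso.refl_hom, Category.comp_id] at h
    have hl : pullback.fst Y.hom (Neron.genPt R) ≫ g.left =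
        pullback.fst Y.hom (Neron.genPt R) ≫ g'.left := by
      rw [← hbc1 g, ← hbc1 g', h]
    obtain ⟨g₀, -, huniq⟩ := Groth.Agent.Lead.Weil.exists_unique_extension Y.hom N.hom
      (pullback.fst Y.hom (Neron.genPt R)) (pullback.snd Y.hom (Neron.genPt R))
      (IsPullback.of_hasPullback _ _) (pullback.fst Y.hom (Neron.genPt R) ≫ g.left)
      (by rw [Category.assoc, Over.w g])
    apply Over.OverMorphism.ext
    rw [huniq g.left ⟨Over.w g, rfl⟩, huniq g'.left ⟨Over.w g', hl.symm⟩]
  · intro w
    have hw : w.left ≫ pullback.snd N.hom (Neron.genPt R) = pullback.snd Y.hom (Neron.genPt R) :=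
      Over.w w
    obtain ⟨g₀, ⟨hg1, hg2⟩, -⟩ := Groth.Agent.Lead.Weil.exists_unique_extension Y.hom N.hom
      (pullback.fst Y.hom (Neron.genPt R)) (pullback.snd Y.hom (Neron.genPt R))
      (IsPullback.of_hasPullback _ _) (w.left ≫ pullback.fst N.hom (Neron.genPt R))
      (by rw [Category.assoc, pullback.condition, ← Category.assoc, hw, pullback.condition])
    refine ⟨Over.homMk g₀ hg1, ?_⟩
    simp only [Iso.refl_hom, Category.comp_id]
    apply Over.OverMorphism.ext
    apply pullback.hom_ext
    · rw [hbc1]; exact hg2
    · rw [hbc2]; exact hw.symm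

end Groth.Agent.S18483
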