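import Groth.Statements.S17865
import Mathlib
import Groth.Prelude.Def_W4c5algebraiztannakaNis
-- import your own Groth.Agent.* helpers here

set_option autoImplicit false
open CategoryTheory AlgebraicGeometry
universe u
open Algz

namespace Groth.Agent.S17865

open CategoryTheory AlgebraicGeometry Topology
namespace Aux
open W4c5algebraiztannaka Limits

theorem main {U Y Y' : Scheme.{u}} (f : U ⟶ Y) (g : Y' ⟶ Y) (m : ℕ)
    (hf : IsNisCoverLen f m) : IsNisCoverLen (pullback.snd f g) m := by
  have := hf.etale
  obtain ⟨Z, h0, h1, hmono, hcc, hsec⟩ := hf.flag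
  refine ⟨inferInstance, fun k => g ⁻¹' Z k, by simp [h0], by simp [h1], ?_, ?_, ?_⟩
  · intro a b hab
    exact Set.preimage_mono (hmono hab)
  · intro k
    exact ⟨(hcc k).1.preimage g.continuous, g.isConstructible_preimage (hcc k).2⟩
  · intro k
    obtain ⟨T, t, s, ht, htr, hs⟩ := hsec k
    refine ⟨pullback t g, pullback.snd t g,
      pullback.lift (pullback.fst t g ≫ s) (pullback.snd t g)
        (by rw [Category.assoc, hs, pullback.condition]), inferInstance, ?_, ?_⟩
    · rw [← Set.preimage_sdiff, ← htr]
      exact Scheme.Pullback.range_snd t g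
    · exact pullback.lift_snd _ _ _
end Aux

/-- In the case of schemes. Let `f : U ⟶ Y` be a Nisnevich cover of length at most `m` of quasi-compact
quasi-separated schemes (an etale morphism together with a chain of `m` closed constructible subsets
`∅ = Z_0 ⊆ ⋯ ⊆ Z_m = Y` such that `f` has a section over each `Z_(k+1) ∖ Z_k`), and `g : Y' ⟶ Y` a
morphism from a quasi-compact quasi-separated scheme. Then the base change `U ×_Y Y' ⟶ Y'` is a
Nisnevich cover of length at most `m`. (The original form is for quasi-compact quasi-separated
algebraic spaces; stated here for schemes.) -/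
theorem result {U Y Y' : Scheme.{u}} (f : U ⟶ Y) (g : Y' ⟶ Y)
    [CompactSpace U] [QuasiSeparatedSpace U] [CompactSpace Y] [QuasiSeparatedSpace Y]
    [CompactSpace Y'] [QuasiSeparatedSpace Y'] (m : ℕ)
    (hf : W4c5algebraiztannaka.IsNisCoverLen f m) :
    W4c5algebraiztannaka.IsNisCoverLen (Limits.pullback.snd f g) m := by
  exact Aux.main f g m hf

end Groth.Agent.S17865
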