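import Groth.Statements.S17866
import Mathlib
import Groth.Prelude.Def_W4c5algebraiztannakaNis
-- import your own Groth.Agent.* helpers here

set_option autoImplicit false
open CategoryTheory AlgebraicGeometry
universe u
open Algz

namespace Groth.Agent.S17866

open CategoryTheory AlgebraicGeometry Topology
namespace Aux

open Set in
lemma constructible_isCompact {X : Type*} [TopologicalSpace X] [CompactSpace X] {s : Set X}
    (hs : IsConstructible s) : IsCompact s := by
  induction s, hs using BooleanSubalgebra.closure_sdiff_sup_induction with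
  | isSublattice =>
    exact ⟨fun s hs t ht ↦ ⟨hs.1.union ht.1, hs.2.union ht.2⟩,
      fun s hs t ht ↦ ⟨hs.1.inter ht.1, hs.2.inter_isOpen ht.2 ht.1⟩⟩
  | bot_mem => exact ⟨isOpen_empty, .empty⟩
  | top_mem => exact ⟨isOpen_univ, .univ⟩
  | sdiff U hU V hV => exact hU.2.isCompact.diff hV.1
  | sup s _ t _ hs' ht' => exact hs'.union ht'

open Set in
/-- Image of a constructible set under an embedding with constructible range. -/
lemma image_constructible {T Y : Type*} [TopologicalSpace T] [TopologicalSpace Y]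
    [CompactSpace Y] [QuasiSeparatedSpace Y] [PrespectralSpace Y] {g : T → Y}
    (hg : IsEmbedding g) (hW : IsConstructible (range g)) {C : Set T} (hC : IsConstructible C) :
    IsConstructible (g '' C) := by
  have hTc : CompactSpace T := by
    rw [← isCompact_univ_iff, hg.isCompact_iff, image_univ]
    exact constructible_isCompact hW
  induction hC using IsConstructible.empty_union_induction with
  | open_retrocompact O hO hOc =>
    have hOcomp : IsCompact O := hOc.isCompact
    obtain ⟨V, hV, rfl⟩ := hg.isInducing.isOpen_iff.1 hO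
    obtain ⟨W, hWc, hWo, h1, h2⟩ := PrespectralSpace.exists_isCompact_and_isOpen_between
      (hOcomp.image hg.continuous) hV (image_preimage_subset g V)
    have : g '' (g ⁻¹' V) = W ∩ range g := by
      apply subset_antisymm
      · exact subset_inter h1 (image_subset_range _ _)
      · rintro _ ⟨hy, x, rfl⟩
        exact ⟨x, h2 hy, rfl⟩
    rw [this]
    exact (hWc.isConstructible hWo).inter hW
  | union s hs t ht hs' ht' => rw [image_union]; exact hs'.union ht'
  | compl s hs hs' =>
    rw [← range_sdiff_image hg.injective]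
    exact hW.sdiff hs'

open Set in
lemma closed_union_image {T Y : Type*} [TopologicalSpace T] [TopologicalSpace Y] {g : T → Y}
    (hg : IsEmbedding g) {A B : Set Y} (hA : IsClosed A) (hB : IsClosed B)
    (hr : range g = B \ A) {C : Set T} (hC : IsClosed C) : IsClosed (A ∪ g '' C) := by
  obtain ⟨K, hK, h1⟩ : ∃ K, IsClosed K ∧ g '' C = K ∩ range g := by
    refine ⟨closure (g '' C), isClosed_closure, ?_⟩
    apply subset_antisymm
    · exact subset_inter subset_closure (image_subset_range _ _)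
    · rintro _ ⟨hy, x, rfl⟩
      refine ⟨x, ?_, rfl⟩
      have := hg.closure_eq_preimage_closure_image C
      rw [hC.closure_eq] at this
      rw [this]
      exact hy
  have h2 : A ∪ g '' C = A ∪ (K ∩ B) := by
    rw [h1, hr]
    ext y
    simp only [mem_union, mem_inter_iff, mem_sdiff]
    tauto
  rw [h2]
  exact hA.union (hK.inter hB)

open W4c5algebraiztannaka

/-- ℕ-indexed flags from `A` to `B`. -/
def Flag {U Y : Scheme.{u}} (f : U ⟶ Y) (n : ℕ) (A B : Set Y) : Prop :=
  ∃ Z : ℕ → Set Y, Z 0 = A ∧ Z n = B ∧ (∀ k < n, Z k ⊆ Z (k + 1)) ∧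
    (∀ k ≤ n, IsClosed (Z k) ∧ IsConstructible (Z k)) ∧
    ∀ k < n, HasSectOver f (Z (k + 1) \ Z k)

lemma flag_of_isNisCoverLen {U Y : Scheme.{u}} {f : U ⟶ Y} {m : ℕ} (h : IsNisCoverLen f m) :
    Flag f m ∅ Set.univ := by
  obtain ⟨Z, h0, h1, hmono, hcc, hsec⟩ := h.flag
  refine ⟨fun k => Z ⟨min k m, by omega⟩, ?_, ?_, ?_, ?_, ?_⟩
  · simpa using h0
  · simpa [Fin.last] using h1
  · intro k hk
    apply hmono
    simp only [Fin.mk_le_mk]
    omega
  · intro k _
    exact hcc _
  · intro k hk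
    have := hsec ⟨k, hk⟩
    have e1 : (⟨min (k + 1) m, by omega⟩ : Fin (m + 1)) = (⟨k, hk⟩ : Fin m).succ := by
      ext; simp; omega
    have e2 : (⟨min k m, by omega⟩ : Fin (m + 1)) = (⟨k, hk⟩ : Fin m).castSucc := by
      ext; simp; omega
    simp only [e1, e2]
    exact this

lemma isNisCoverLen_of_flag {U Y : Scheme.{u}} {f : U ⟶ Y} {m : ℕ} (he : Etale f)
    (h : Flag f m ∅ Set.univ) : IsNisCoverLen f m := by
  obtain ⟨Z, h0, h1, hmono, hcc, hsec⟩ := h
  refine ⟨he, fun i => Z i.val, by simpa using h0, by simpa using h1, ?_, ?_, ?_⟩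
  · rw [Fin.monotone_iff_le_succ]
    intro i
    exact hmono i.val i.isLt
  · intro k
    exact hcc k.val (by omega)
  · intro k
    exact hsec k.val k.isLt

lemma flag_refl {U Y : Scheme.{u}} (f : U ⟶ Y) {A : Set Y} (hA : IsClosed A)
    (hA' : IsConstructible A) : Flag f 0 A A :=
  ⟨fun _ => A, rfl, rfl, by simp, fun _ _ => ⟨hA, hA'⟩, by simp⟩

lemma flag_append {U Y : Scheme.{u}} {f : U ⟶ Y} {n n' : ℕ} {A B C : Set Y}
    (h : Flag f n A B) (h' : Flag f n' B C) : Flag f (n + n') A C := by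
  obtain ⟨Z, h0, h1, hmono, hcc, hsec⟩ := h
  obtain ⟨Z', h0', h1', hmono', hcc', hsec'⟩ := h'
  have key : ∀ k, n ≤ k → (if k ≤ n then Z k else Z' (k - n)) = Z' (k - n) := by
    intro k hk
    split_ifs with h
    · have : k = n := le_antisymm h hk
      subst this
      simp [h1, h0']
    · rfl
  have key' : ∀ k, k ≤ n → (if k ≤ n then Z k else Z' (k - n)) = Z k := by
    intro k hk
    rw [if_pos hk]
  refine ⟨fun k => if k ≤ n then Z k else Z' (k - n), ?_, ?_, ?_, ?_, ?_⟩
  · simpa using h0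
  · simp only
    rw [key _ (by omega)]
    simpa using h1'
  · intro k hk
    simp only
    by_cases hkn : k < n
    · rw [key' _ hkn.le, key' _ hkn]
      exact hmono k hkn
    · rw [key _ (by omega), key _ (by omega)]
      have : k + 1 - n = (k - n) + 1 := by omega
      rw [this]
      exact hmono' _ (by omega)
  · intro k hk
    simp only
    by_cases hkn : k ≤ n
    · rw [key' _ hkn]
      exact hcc k hkn
    · rw [key _ (by omega)]
      exact hcc' _ (by omega)
  · intro k hk
    simp only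
    by_cases hkn : k < n
    · rw [key' _ hkn.le, key' _ hkn]
      exact hsec k hkn
    · rw [key _ (by omega), key _ (by omega)]
      have : k + 1 - n = (k - n) + 1 := by omega
      rw [this]
      exact hsec' _ (by omega)

open Limits in
lemma key_step {Y₁ Y₂ Y₃ : Scheme.{u}} (g₁ : Y₁ ⟶ Y₂) (g₂ : Y₂ ⟶ Y₃)
    [CompactSpace Y₃] [QuasiSeparatedSpace Y₃] {m₁ : ℕ}
    (h₁ : Flag g₁ m₁ ∅ Set.univ) {A B : Set Y₃} (hA : IsClosed A) (hA' : IsConstructible A)
    (hB : IsClosed B) (hB' : IsConstructible B) (hAB : A ⊆ B)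
    (hsec : HasSectOver g₂ (B \ A)) : Flag (g₁ ≫ g₂) m₁ A B := by
  obtain ⟨T, g, s, hg, hrange, hs⟩ := hsec
  obtain ⟨Z, h0, h1, hmono, hcc, hsec₁⟩ := h₁
  have hemb : IsEmbedding g := g.isEmbedding
  have hr : Set.range g = B \ A := hrange
  have hdisj : ∀ C : Set T, Disjoint A (g '' C) := by
    intro C
    rw [Set.disjoint_left]
    rintro y hyA ⟨x, -, rfl⟩
    have : g x ∈ B \ A := by rw [← hr]; exact ⟨x, rfl⟩
    exact this.2 hyA
  refine ⟨fun j => A ∪ g '' (s ⁻¹' Z j), ?_, ?_, ?_, ?_, ?_⟩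
  · simp [h0]
  · simp only [h1, Set.preimage_univ, Set.image_univ]
    rw [hr]
    exact Set.union_sdiff_cancel hAB
  · intro k hk
    exact Set.union_subset_union_right _ (Set.image_mono (Set.preimage_mono (hmono k hk)))
  · intro k hk
    constructor
    · exact closed_union_image hemb hA hB hr ((hcc k hk).1.preimage s.continuous)
    · refine hA'.union (image_constructible hemb ?_ (s.isConstructible_preimage (hcc k hk).2))
      rw [hr]
      exact hB'.sdiff hA'
  · intro k hk
    obtain ⟨T₁, t, s₁, ht, htr, hs₁⟩ := hsec₁ k hk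
    have heq : (A ∪ g '' (s ⁻¹' Z (k + 1))) \ (A ∪ g '' (s ⁻¹' Z k)) =
        g '' (s ⁻¹' (Z (k + 1) \ Z k)) := by
      rw [Set.preimage_sdiff, Set.image_sdiff hemb.injective]
      ext y
      have : y ∈ A → y ∉ g '' (s ⁻¹' Z (k + 1)) := fun h => Set.disjoint_left.1 (hdisj (s ⁻¹' Z (k + 1))) h
      simp only [Set.mem_sdiff, Set.mem_union]
      tauto
    simp only
    rw [heq]
    refine ⟨pullback s t, pullback.fst s t ≫ g, pullback.snd s t ≫ s₁, inferInstance, ?_, ?_⟩
    · have : Set.range (fun x : ↥(pullback s t) => (pullback.fst s t ≫ g) x) =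
          g '' Set.range (pullback.fst s t) := by
        rw [← Set.range_comp]
        rfl
      rw [this, Scheme.Pullback.range_fst]
      congr 2
    · rw [Category.assoc, ← Category.assoc s₁, hs₁, ← pullback.condition_assoc, hs]

theorem main {Y₁ Y₂ Y₃ : Scheme.{u}} (g₁ : Y₁ ⟶ Y₂) (g₂ : Y₂ ⟶ Y₃)
    [CompactSpace Y₃] [QuasiSeparatedSpace Y₃] (m₁ m₂ : ℕ)
    (h₁ : IsNisCoverLen g₁ m₁) (h₂ : IsNisCoverLen g₂ m₂) :
    IsNisCoverLen (g₁ ≫ g₂) (m₁ * m₂) := by
  have := h₁.etale
  have := h₂.etale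
  refine isNisCoverLen_of_flag inferInstance ?_
  have hf₁ := flag_of_isNisCoverLen h₁
  obtain ⟨Z, h0, h1, hmono, hcc, hsec⟩ := flag_of_isNisCoverLen h₂
  have claim : ∀ k, k ≤ m₂ → Flag (g₁ ≫ g₂) (k * m₁) ∅ (Z k) := by
    intro k
    induction k with
    | zero =>
      intro _
      rw [Nat.zero_mul, h0]
      exact flag_refl _ isClosed_empty IsConstructible.empty
    | succ k ih =>
      intro hk
      rw [Nat.succ_mul]
      refine flag_append (ih (by omega)) ?_
      exact key_step g₁ g₂ hf₁ (hcc k (by omega)).1 (hcc k (by omega)).2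
        (hcc (k + 1) hk).1 (hcc (k + 1) hk).2 (hmono k (by omega)) (hsec k (by omega))
  have := claim m₂ le_rfl
  rw [h1, Nat.mul_comm] at this
  exact this

end Aux

/-- In the case of schemes. Let `g₁ : Y₁ ⟶ Y₂` and `g₂ : Y₂ ⟶ Y₃` be Nisnevich covers of quasi-compact
quasi-separated schemes of lengths at most `m₁` and `m₂` respectively. Then `g₁ ≫ g₂` is a Nisnevich
cover of length at most `m₁ * m₂`. (The original form is for quasi-compact quasi-separated algebraic
spaces; stated here for schemes.) -/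
theorem result {Y₁ Y₂ Y₃ : Scheme.{u}} (g₁ : Y₁ ⟶ Y₂) (g₂ : Y₂ ⟶ Y₃)
    [CompactSpace Y₁] [QuasiSeparatedSpace Y₁] [CompactSpace Y₂] [QuasiSeparatedSpace Y₂]
    [CompactSpace Y₃] [QuasiSeparatedSpace Y₃] (m₁ m₂ : ℕ)
    (h₁ : W4c5algebraiztannaka.IsNisCoverLen g₁ m₁) (h₂ : W4c5algebraiztannaka.IsNisCoverLen g₂ m₂) :
    W4c5algebraiztannaka.IsNisCoverLen (g₁ ≫ g₂) (m₁ * m₂) := by
  exact Aux.main g₁ g₂ m₁ m₂ h₁ h₂

end Groth.Agent.S17866
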