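import Groth.Statements.S17869
import Mathlib
import Groth.Prelude.Def_W4c5algebraiztannakaNis
-- import your own Groth.Agent.* helpers here

set_option autoImplicit false
open CategoryTheory AlgebraicGeometry
universe u
open Algz

namespace Groth.Agent.S17869

open CategoryTheory AlgebraicGeometry Topology
namespace Aux
open W4c5algebraiztannaka Limits

/-- Any closed subset of a scheme is the range of a closed immersion. -/
lemma exists_closedImmersion_range (X : Scheme.{u}) (C : Set X) (hC : IsClosed C) :
    ∃ (T : Scheme.{u}) (ι : T ⟶ X), IsClosedImmersion ι ∧ Set.range ι = C := by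
  refine ⟨(Scheme.IdealSheafData.vanishingIdeal ⟨C, hC⟩).subscheme,
    (Scheme.IdealSheafData.vanishingIdeal ⟨C, hC⟩).subschemeι, inferInstance, ?_⟩
  rw [Scheme.IdealSheafData.range_subschemeι]
  simp

set_option backward.isDefEq.respectTransparency.types false in
lemma etale_sigmaDesc {X : Scheme.{u}} {ι : Type} [Small.{u} ι] {Y : ι → Scheme.{u}}
    {f : ∀ i, Y i ⟶ X} [∀ i, Etale (f i)] : Etale (Sigma.desc f) :=
  IsZariskiLocalAtSource.sigmaDesc (fun _ ↦ inferInstance)

theorem main {U : Scheme.{u}} [CompactSpace U] [QuasiSeparatedSpace U]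
    (k : ℕ) (V : Fin k → U.Opens) (hV : ∀ i, IsCompact (V i : Set U)) (hcov : ⨆ i, V i = ⊤) :
    IsNisCoverLen
      (Sigma.desc (fun i => (V i).ι) : (∐ fun i => ((V i : U.Opens) : Scheme.{u})) ⟶ U) k := by
  have hcov' : ⋃ i, (V i : Set U) = Set.univ := by
    have := congrArg (fun W : U.Opens => (W : Set U)) hcov
    simpa using this
  refine ⟨etale_sigmaDesc,
    fun j => (⋃ (i : Fin k) (_ : j.val ≤ i.val), (V i : Set U))ᶜ, ?_, ?_, ?_, ?_, ?_⟩
  · simp [hcov']
  · have : ∀ i : Fin k, ¬ (k ≤ i.val) := fun i => by omega
    simp [this]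
  · intro a b hab
    simp only [Set.compl_subset_compl]
    refine Set.iUnion_mono fun i => Set.iUnion_mono' fun h => ⟨?_, le_rfl⟩
    exact le_trans (Fin.le_def.1 hab) h
  · intro j
    have ho : IsOpen (⋃ (i : Fin k) (_ : j.val ≤ i.val), (V i : Set U)) :=
      isOpen_iUnion fun i => isOpen_iUnion fun _ => (V i).2
    refine ⟨ho.isClosed_compl, IsConstructible.compl ?_⟩
    refine IsConstructible.iUnion fun i => ?_
    by_cases h : j.val ≤ i.val
    · simp only [h, Set.iUnion_true]
      exact (hV i).isConstructible (V i).2
    · simp [h]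
  · intro j
    set W : Set U := ⋃ (i : Fin k) (_ : j.val + 1 ≤ i.val), (V i : Set U) with hW
    have hWo : IsOpen W := isOpen_iUnion fun i => isOpen_iUnion fun _ => (V i).2
    have heq : (⋃ (i : Fin k) (_ : j.succ.val ≤ i.val), (V i : Set U))ᶜ \
        (⋃ (i : Fin k) (_ : j.castSucc.val ≤ i.val), (V i : Set U))ᶜ = (V j : Set U) \ W := by
      ext x
      simp only [Fin.val_succ, Fin.val_castSucc, Set.mem_sdiff, Set.mem_compl_iff, Set.mem_iUnion,
        not_not, hW, exists_prop, not_exists, not_and]
      constructor
      · rintro ⟨h1, h2⟩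
        obtain ⟨i, hi, hx⟩ : ∃ i : Fin k, j.val ≤ i.val ∧ x ∈ (V i : Set U) := by
          by_contra hcon
          push Not at hcon
          exact h2 hcon

        rcases Nat.eq_or_lt_of_le hi with h | h
        · have : j = i := Fin.ext h
          subst this
          exact ⟨hx, h1⟩
        · exact absurd hx (h1 i h)
      · rintro ⟨hx, h1⟩
        exact ⟨h1, fun h => h j le_rfl hx⟩
    rw [heq]
    obtain ⟨T, ι, hι, hr⟩ := exists_closedImmersion_range (V j : Scheme.{u})
      ((V j).ι ⁻¹' Wᶜ) (hWo.isClosed_compl.preimage (V j).ι.continuous)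
    refine ⟨T, ι ≫ (V j).ι, ι ≫ Sigma.ι (fun i => ((V i : U.Opens) : Scheme.{u})) j,
      inferInstance, ?_, ?_⟩
    · have : Set.range (fun t : T => (ι ≫ (V j).ι) t) = (V j).ι '' Set.range ι := by
        rw [← Set.range_comp]
        rfl
      rw [this, hr, Set.image_preimage_eq_inter_range]
      simp only [Scheme.Opens.range_ι]
      ext x
      simp [Set.mem_sdiff, and_comm]
    · rw [Category.assoc, Sigma.ι_desc]
end Aux

/-- In the case of schemes. Let `U` be a quasi-compact quasi-separated scheme and `V 0, …, V (k-1)`
quasi-compact open subschemes which cover `U`. Then the canonical morphism from the disjoint union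
`∐ V i` to `U` is a Nisnevich cover of length at most `k`. (The published example states more
generally that, for a Nisnevich cover of `Y` of length at most `m` with source `U`, the composite
from the disjoint union `∐ V i` to `Y` has length at most `m * k`; stated here is the case of the
identity of `U`, to which the published argument reduces, and the general bound follows by composing
Nisnevich covers. The original form is for quasi-compact quasi-separated algebraic spaces, with the
members of the cover quasi-compact; stated here for schemes.) -/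
theorem result {U : Scheme.{u}} [CompactSpace U] [QuasiSeparatedSpace U]
    (k : ℕ) (V : Fin k → U.Opens) (hV : ∀ i, IsCompact (V i : Set U)) (hcov : ⨆ i, V i = ⊤) :
    W4c5algebraiztannaka.IsNisCoverLen
      (Limits.Sigma.desc (fun i => (V i).ι) : (∐ fun i => ((V i : U.Opens) : Scheme.{u})) ⟶ U) k := by
  exact Aux.main k V hV hcov

end Groth.Agent.S17869
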