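import Groth.Statements.S5980
import Mathlib
import Groth.Agent.Lib.Lead.IdM7

set_option autoImplicit false
universe u
open CategoryTheory CategoryTheory.Limits AlgebraicGeometry TopologicalSpace Opposite
open Nrm16

namespace Groth.Agent.S5980

section
open CategoryTheory CategoryTheory.Limits AlgebraicGeometry TopologicalSpace Opposite

open Groth.Agent.Lead.IdM Groth.Agent.Lead.TilT Groth.Agent.Lead.FpqcSh Groth.Agent.Helper1 Groth.Agent.Lead.EpiPull
open TensorProduct

theorem isZero_idealMod_bot (X : Scheme.{u}) :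
    IsZero (ClSub.idealMod (⊥ : X.IdealSheafData)) := by
  refine CohACC.isZero_of_affine_cover _ (fun U : X.affineOpens => U.1) (fun U => U.2)
    (iSup_affineOpens_eq_top X) (fun U s => ?_)
  apply ιL_injective (⊥ : X.IdealSheafData) U.1
  have h1 : ιL (⊥ : X.IdealSheafData) U.1 s ∈ LinearMap.range (ιL (⊥ : X.IdealSheafData) U.1) :=
    ⟨s, rfl⟩
  rw [range_ιL] at h1
  rw [map_zero]
  exact h1

theorem isZero_conormal_of_isIso {Z X : Scheme.{u}} (i : Z ⟶ X) [IsIso i] :
    IsZero (Omega.conormal i) := by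
  refine (Scheme.Modules.pullback i).map_isZero ?_
  rw [Scheme.Hom.ker_eq_bot_of_isIso]
  exact isZero_idealMod_bot X

theorem main {Y X : Scheme.{u}} (j : Y ⟶ X) [IsImmersion j]
    [QuasiCompact j] [LocallyOfFinitePresentation j] (y : Y) :
    (∃ U : Y.Opens, y ∈ U ∧ IsOpenImmersion (U.ι ≫ j)) ↔
      Subsingleton ((Omega.conormal j).presheaf.stalk y) := by
  constructor
  · rintro ⟨U, hyU, hU⟩
    have hVU : j ⁻¹ᵁ (U.ι ≫ j).opensRange = U := by
      ext x
      constructor
      · rintro ⟨u, hu⟩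
        have h1 : j.base (U.ι.base u) = j.base x := by
          rw [← hu]; simp
        have h2 := j.isEmbedding.injective h1
        rw [← h2]
        exact u.2
      · intro hx
        exact ⟨⟨x, hx⟩, by simp⟩
    set W : X.Opens := (U.ι ≫ j).opensRange with hWdef
    have hoi : ∀ (U' : Y.Opens), U' = U → IsOpenImmersion (U'.ι ≫ j) := by
      intro U' e
      subst e
      exact hU
    haveI h1 : IsOpenImmersion ((j ∣_ W) ≫ W.ι) := by
      rw [morphismRestrict_ι]
      exact hoi _ hVU
    haveI h2 : IsOpenImmersion (j ∣_ W) := IsOpenImmersion.of_comp (j ∣_ W) W.ι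
    haveI h3 : IsIso (j ∣_ W) := by
      rw [isIso_iff_isOpenImmersion_and_surjective]
      refine ⟨h2, ⟨?_⟩⟩
      rintro ⟨w, ⟨u, hu⟩⟩
      have hmem : U.ι.base u ∈ j ⁻¹ᵁ W := by
        rw [hVU]; exact u.2
      refine ⟨⟨U.ι.base u, hmem⟩, Subtype.ext ?_⟩
      rw [morphismRestrict_base_coe]
      exact hu
    have e := conormalRestrictIso j (j ∣_ W) (j ⁻¹ᵁ W).ι W.ι (isPullback_morphismRestrict j W)
    have hz : IsZero ((Omega.conormal j).restrict (j ⁻¹ᵁ W).ι) :=
      IsZero.of_iso (isZero_conormal_of_isIso (j ∣_ W))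
        ((Scheme.Modules.restrictFunctorIsoPullback (j ⁻¹ᵁ W).ι).app (Omega.conormal j) ≪≫ e)
    have hs := support_eq_empty_of_isZero _ hz
    rw [support_restrict] at hs
    have hyW : y ∈ j ⁻¹ᵁ W := by rw [hVU]; exact hyU
    by_contra hns
    have : (⟨y, hyW⟩ : (j ⁻¹ᵁ W).toScheme) ∈
        (j ⁻¹ᵁ W).ι.base ⁻¹' CohB1.support (Omega.conormal j) := hns
    rw [hs] at this
    exact this
  · intro hsub
    have hFT := isFT_conormal j
    have hcl := FtGen.isClosed_support (Omega.conormal j) hFT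
    have hy : y ∉ CohB1.support (Omega.conormal j) := fun h => h hsub
    obtain ⟨N', hN'open, hN'⟩ := j.isEmbedding.isInducing.isOpen_iff.1 hcl.isOpen_compl
    have hyN' : j.base y ∈ N' := by
      have : y ∈ j.base ⁻¹' N' := by rw [hN']; exact hy
      exact this
    obtain ⟨_, ⟨W, hW, rfl⟩, hyW, hWsub⟩ := X.isBasis_affineOpens.exists_subset_of_mem_open
      (show j.base y ∈ ((j.coborderRange : Set X) ∩ N') from
        ⟨subset_coborder ⟨y, rfl⟩, hyN'⟩) (j.coborderRange.2.inter hN'open)
    have hWc : W ≤ j.coborderRange := fun x hx => (hWsub hx).1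
    have hV := isAffineOpen_preimage_of_le_coborder j hW hWc
    refine ⟨j ⁻¹ᵁ W, hyW, ?_⟩
    letI := (j.appLE W (j ⁻¹ᵁ W) le_rfl).hom.toAlgebra
    have hzero : Subsingleton (Γ(Y, j ⁻¹ᵁ W) ⊗[Γ(X, W)]
        (RingHom.ker (algebraMap Γ(X, W) Γ(Y, j ⁻¹ᵁ W)))) := by
      rw [← Module.support_eq_empty_iff (R := Γ(Y, j ⁻¹ᵁ W))]
      ext x'
      simp only [Set.mem_empty_iff_false, iff_false]
      intro hx'
      have h1 := (mem_support_conormal_iff j hW hV x').2 hx'
      have h2 : hV.fromSpec.base x' ∈ (j ⁻¹ᵁ W : Set Y) := by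
        rw [← hV.range_fromSpec]
        exact ⟨x', rfl⟩
      have h3 : hV.fromSpec.base x' ∈ j.base ⁻¹' N' := (hWsub h2).2
      rw [hN'] at h3
      exact h3 h1
    have hs := app_surjective_of_le_coborder j hW hWc
    have hfg := ker_fg_of_le_coborder j hW hWc
    have hidem : IsIdempotentElem (RingHom.ker (j.appLE W (j ⁻¹ᵁ W) le_rfl).hom) := by
      rw [← Ideal.cotangent_subsingleton_iff]
      exact (Groth.Agent.Lead.KaeAlg.tensorKerEquivCotangent
        (T := Γ(X, W)) (S := Γ(Y, j ⁻¹ᵁ W)) hs).symm.toEquiv.subsingleton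
    obtain ⟨e, he, hke⟩ := (Ideal.isIdempotentElem_iff_of_fg _ hfg).1 hidem
    haveI hoi : IsOpenImmersion (Spec.map (j.appLE W (j ⁻¹ᵁ W) le_rfl)) :=
      (isOpenImmersion_SpecMap_iff_of_surjective _ hs).2 ⟨e, he, hke⟩
    have hfac : (j ⁻¹ᵁ W).ι ≫ j =
        hV.isoSpec.hom ≫ Spec.map (j.appLE W (j ⁻¹ᵁ W) le_rfl) ≫ hW.fromSpec := by
      rw [IsAffineOpen.SpecMap_appLE_fromSpec j hW hV le_rfl, ← Category.assoc,
        hV.isoSpec_hom_fromSpec]
    rw [hfac]
    infer_instance


end


/-- Consider a point y of Y and an immersion j : Y ⟶ X that is quasi-compact and locally of finite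
presentation. The stalk at y of the conormal sheaf N_{Y/X} = I/I² is zero exactly when y has an open
neighbourhood U in Y on which the restriction of j is an open immersion. (The published statement
covers every immersion locally of finite presentation. Here j is additionally assumed quasi-compact,
since in that case the conormal sheaf used here is the one attached to j.) -/
theorem result {Y X : Scheme.{u}} (j : Y ⟶ X) [IsImmersion j]
    [QuasiCompact j] [LocallyOfFinitePresentation j] (y : Y) :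
    (∃ U : Y.Opens, y ∈ U ∧ IsOpenImmersion (U.ι ≫ j)) ↔
      Subsingleton ((Omega.conormal j).presheaf.stalk y) := by
  classical
  exact main j y

end Groth.Agent.S5980
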