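import Groth.Statements.S0008
import Mathlib
import Groth.Agent.Lib.Helper1.QcCech

set_option autoImplicit false
universe u
open Coherent

namespace Groth.Agent.S0008

open AlgebraicGeometry in
/-- For a ring A, an A-module M and elements f_1, …, f_n generating the unit ideal, the Čech cohomology
of the associated module on Spec A with respect to the covering by the basic opens D(f_i) vanishes
in every positive degree. -/
theorem result (A : Type u) [CommRing A] (M : ModuleCat.{u} A)
    (n : ℕ) (f : ULift.{u} (Fin n) → A) (hf : Ideal.span (Set.range f) = ⊤) (p : ℕ) (hp : 0 < p) :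
    CategoryTheory.Limits.IsZero (CohB1.cechH (fun i => PrimeSpectrum.basicOpen (f i)) (tilde (R := CommRingCat.of A) M) p) := by
  classical
  obtain ⟨p, rfl⟩ := Nat.exists_eq_succ_of_ne_zero hp.ne'
  let R : CommRingCat.{u} := CommRingCat.of A
  let e : A →+* Γ(Spec R, ⊤) := (AlgebraicGeometry.Scheme.ΓSpecIso R).inv.hom
  let g : ULift.{u} (Fin n) → Γ(Spec R, ⊤) := fun i => e (f i)
  have hg : Ideal.span (Set.range g) = ⊤ := by
    have h1 : Set.range g = e '' Set.range f := by
      rw [← Set.range_comp]; rfl
    rw [h1, ← Ideal.map_span, hf, Ideal.map_top]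
  have hV : (fun i => PrimeSpectrum.basicOpen (f i)) = Groth.Agent.Helper1.QcCech.V g := by
    funext i
    exact (AlgebraicGeometry.basicOpen_eq_of_affine (R := R) (f i)).symm
  have h := Groth.Agent.Helper1.QcCech.isZero_cechH (AlgebraicGeometry.tilde (R := R) M) g
    (AlgebraicGeometry.isAffineOpen_top (AlgebraicGeometry.Spec R)) hg p
  unfold CohB1.cechH CohB1.cechHTop
  rw [hV]
  exact h

end Groth.Agent.S0008
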