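import Groth.Statements.S0015
import Mathlib

set_option autoImplicit false
universe u
open Coherent

namespace Groth.Agent.S0015

section
open AlgebraicGeometry

variable {X : Scheme.{u}}

theorem isCompact_biSup_basicOpen {A : X.Opens} (hA : IsAffineOpen A) (s : Finset Γ(X, A)) :
    IsCompact ((⨆ f ∈ s, X.basicOpen f : X.Opens) : Set X) := by
  have : ((⨆ f ∈ s, X.basicOpen f : X.Opens) : Set X) = ⋃ f ∈ s, (X.basicOpen f : Set X) := by
    simp
  rw [this]
  exact s.isCompact_biUnion fun f _ => (hA.basicOpen f).isCompact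

theorem lemA (P : X.Opens → Prop) (h₁ : ∀ U : X.Opens, IsAffineOpen U → P U)
    (h₂ : ∀ U V : X.Opens, IsCompact (U : Set X) → IsAffineOpen V → P U → P V → P (U ⊓ V) →
      P (U ⊔ V)) {A : X.Opens} (hA : IsAffineOpen A) :
    ∀ (n : ℕ) (s : Finset Γ(X, A)), s.card ≤ n → P (⨆ f ∈ s, X.basicOpen f) := by
  classical
  intro n
  induction n with
  | zero =>
    intro s hs
    have : s = ∅ := Finset.card_eq_zero.mp (Nat.le_zero.mp hs)
    subst this
    simpa using h₁ ⊥ (isAffineOpen_bot X)
  | succ n ih =>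
    intro s hs
    rcases s.eq_empty_or_nonempty with rfl | ⟨f, hf⟩
    · simpa using h₁ ⊥ (isAffineOpen_bot X)
    · have hs' : s = insert f (s.erase f) := (Finset.insert_erase hf).symm
      have hcard : (s.erase f).card ≤ n := by
        rw [Finset.card_erase_of_mem hf]
        omega
      rw [hs', Finset.iSup_insert, sup_comm]
      refine h₂ _ _ (isCompact_biSup_basicOpen hA _) (hA.basicOpen f) (ih _ hcard)
        (h₁ _ (hA.basicOpen f)) ?_
      have : (⨆ g ∈ s.erase f, X.basicOpen g) ⊓ X.basicOpen f =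
          ⨆ g ∈ (s.erase f).image (fun g => g * f), X.basicOpen g := by
        rw [Finset.iSup_finset_image, iSup_inf_eq]
        congr 1
        funext g
        rw [iSup_inf_eq]
        congr 1
        funext _
        rw [Scheme.basicOpen_mul]
      rw [this]
      exact ih _ (Finset.card_image_le.trans hcard)

theorem lemB (P : X.Opens → Prop) (h₁ : ∀ U : X.Opens, IsAffineOpen U → P U)
    (h₂ : ∀ U V : X.Opens, IsCompact (U : Set X) → IsAffineOpen V → P U → P V → P (U ⊓ V) →
      P (U ⊔ V)) {A : X.Opens} (hA : IsAffineOpen A) (W : X.Opens) (hWA : W ≤ A)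
    (hW : IsCompact (W : Set X)) : P W := by
  classical
  -- cover W by basic opens
  have hcov : ∀ x : W, ∃ f : Γ(X, A), X.basicOpen f ≤ W ∧ (x : X) ∈ X.basicOpen f :=
    fun x => hA.exists_basicOpen_le x (hWA x.2)
  choose f hf₁ hf₂ using hcov
  obtain ⟨t, ht⟩ := hW.elim_finite_subcover (fun x : W => (X.basicOpen (f x) : Set X))
    (fun x => (X.basicOpen (f x)).isOpen) (fun x hx => Set.mem_iUnion.2 ⟨⟨x, hx⟩, hf₂ ⟨x, hx⟩⟩)
  have hEq : W = ⨆ g ∈ t.image f, X.basicOpen g := by
    apply le_antisymm
    · intro x hx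
      have := ht hx
      simp only [Set.mem_iUnion] at this
      obtain ⟨y, hy, hxy⟩ := this
      rw [Finset.iSup_finset_image]
      simp only [TopologicalSpace.Opens.mem_iSup]
      exact ⟨y, hy, hxy⟩
    · rw [Finset.iSup_finset_image]
      exact iSup₂_le fun y _ => hf₁ y
  rw [hEq]
  exact lemA P h₁ h₂ hA _ _ le_rfl

theorem main (X : Scheme.{u}) [CompactSpace X] [QuasiSeparatedSpace X]
    (P : X.Opens → Prop) (h₁ : ∀ U : X.Opens, IsAffineOpen U → P U)
    (h₂ : ∀ U V : X.Opens, IsCompact (U : Set X) → IsAffineOpen V → P U → P V → P (U ⊓ V) →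
      P (U ⊔ V))
    (U : X.Opens) (hU : IsCompact (U : Set X)) : P U := by
  refine compact_open_induction_on U hU (h₁ ⊥ (isAffineOpen_bot X)) ?_
  intro S hS V hPS
  refine h₂ S V hS V.2 hPS (h₁ V V.2) ?_
  refine lemB P h₁ h₂ V.2 (S ⊓ V) inf_le_right ?_
  exact QuasiSeparatedSpace.inter_isCompact _ _ S.isOpen hS V.1.isOpen V.2.isCompact


end


open AlgebraicGeometry in
/-- Let X be quasi-compact and quasi-separated and P a property of opens of X. If P holds for affine
opens, and P(U ∪ V) follows from P(U), P(V), P(U ∩ V) whenever U is quasi-compact open and V affine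
open, then P holds for every quasi-compact open, in particular for X. -/
theorem result (X : Scheme.{u}) [CompactSpace X] [QuasiSeparatedSpace X]
    (P : X.Opens → Prop) (h₁ : ∀ U : X.Opens, IsAffineOpen U → P U)
    (h₂ : ∀ U V : X.Opens, IsCompact (U : Set X) → IsAffineOpen V → P U → P V → P (U ⊓ V) →
      P (U ⊔ V))
    (U : X.Opens) (hU : IsCompact (U : Set X)) : P U := by
  classical
  exact main X P h₁ h₂ U hU

end Groth.Agent.S0015
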