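import Groth.Statements.S0043
import Mathlib
import Groth.Agent.Lib.Helper1.QAff1
import Groth.Agent.S0009

set_option autoImplicit false
universe u
open Coherent

namespace Groth.Agent.S0043

open AlgebraicGeometry in
/-- If X is quasi-affine and H^p(X, O_X) = 0 for all p > 0, then X is affine. -/
theorem result (X : Scheme.{u}) [X.IsQuasiAffine]
    (h : ∀ p : ℕ, 0 < p → Subsingleton (Coh.HH X (Coh.structureModule X) p)) : IsAffine X := by
  haveI : CompactSpace X := inferInstance
  haveI : X.IsSeparated := inferInstance
  refine Groth.Agent.S0009.result X (fun I i _ hI => ?_)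
  haveI : I.IsQuasicoherent := hI
  exact Groth.Agent.Helper1.QAff.acyclic_of_globGen
    (fun M _ => Groth.Agent.Helper1.GlobGen.isGloballyGenerated_of_isQuasiAffine M) h I 1 Nat.one_pos

end Groth.Agent.S0043
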