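import Groth.Statements.S0048
import Mathlib
import Groth.Agent.Lib.Helper1.QcAbel
import Groth.Agent.Lib.Helper1.QCohLib
import Groth.Agent.Lib.Helper1.FtLocal
import Groth.Agent.Lib.Helper1.AffFin

set_option autoImplicit false
universe u
open Coherent

namespace Groth.Agent.S0048

section
open AlgebraicGeometry CategoryTheory CategoryTheory.Limits TopologicalSpace

open Groth.Agent.Helper1 Scheme.Modules

variable {X : Scheme.{u}}

theorem isZero_of_sections {C : X.Modules} (h : ∀ (V : X.Opens) (s : Γ(C, V)), s = 0) :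
    IsZero C := by
  rw [IsZero.iff_id_eq_zero]
  apply Scheme.Modules.hom_ext
  intro V
  ext s
  exact h V s

theorem finite_of_iso {R : CommRingCat.{u}} {N N' : (Spec R).Modules} (e : N ≅ N')
    (h : Module.Finite R Γ(N', ⊤)) : Module.Finite R Γ(N, ⊤) := by
  have h' : Module.Finite R (moduleSpecΓFunctor.obj N') := h
  have : Module.Finite R (moduleSpecΓFunctor.obj N) :=
    Module.Finite.equiv (moduleSpecΓFunctor.mapIso e).toLinearEquiv.symm
  exact this

/-- the iso on charts inside `U` -/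
noncomputable def chartIso (U : X.Opens) (F : (↑U : Scheme.{u}).Modules) {Y : Scheme.{u}}
    (j : Y ⟶ (↑U : Scheme.{u})) [IsOpenImmersion j] :
    ((pushforward U.ι).obj F).restrict (j ≫ U.ι) ≅ F.restrict j :=
  (restrictFunctorComp j U.ι).app _ ≪≫
    (restrictFunctor j).mapIso ((restrictFunctorAdjCounitIso U.ι).app F)

/-- sections of `F` over an open missing the support vanish -/
theorem section_eq_zero (F : X.Modules) (O : X.Opens)
    (h : ∀ x ∈ O, x ∉ CohB1.support F) (s : Γ(F, O)) : s = 0 := by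
  refine F.isSheaf.section_ext (U := Opposite.op O) ?_
  intro x hx
  have hsub : Subsingleton (F.presheaf.stalk x) := not_not.1 (h x hx)
  have h0 : F.presheaf.germ O x hx s = F.presheaf.germ O x hx 0 := Subsingleton.elim _ _
  obtain ⟨W, hxW, i1, i2, hW⟩ := F.presheaf.germ_eq x hx hx s 0 h0
  exact ⟨W, leOfHom i1, hxW, hW⟩

/-- the pushforward vanishes on charts missing `T` -/
theorem isZero_chart (U : X.Opens) (T : Set X) (F : (↑U : Scheme.{u}).Modules)
    (hs : ∀ x : ↥U, x ∈ CohB1.support F → (x : X) ∈ T) {Y : Scheme.{u}}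
    (j : Y ⟶ X) [IsOpenImmersion j] (hj : ∀ y : Y, j y ∉ T) :
    IsZero (((pushforward U.ι).obj F).restrict j) := by
  apply isZero_of_sections
  intro O s
  have : ∀ s : Γ(F, U.ι ⁻¹ᵁ (j ''ᵁ O)), s = 0 := by
    intro s
    refine section_eq_zero F _ ?_ s
    intro x hx hxs
    obtain ⟨y, -, hy⟩ := hx
    exact hj y (hy ▸ hs x hxs)
  exact this s

theorem main (X : Scheme.{u}) (U : X.Opens) (T : Set X)
    (hT : IsClosed T) (hTU : T ⊆ (U : Set X)) (F : (↑U : Scheme.{u}).Modules) (hF : Coh.IsCoh F)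
    (hs : ∀ x : ↥U, x ∈ CohB1.support F → (x : X) ∈ T) : Coh.IsCoh ((Coh.push U.ι).obj F) := by
  haveI : F.IsQuasicoherent := hF.1
  have hft := hF.2
  set G := (pushforward U.ι).obj F with hG
  let W : X.Opens := ⟨Tᶜ, hT.isOpen_compl⟩
  let I := (↑U : Scheme.{u}).affineOpens ⊕ {V : X.affineOpens // (V : X.Opens) ≤ W}
  let R : I → CommRingCat.{u} := fun i =>
    match i with
    | Sum.inl V => Γ((↑U : Scheme.{u}), V.1)
    | Sum.inr V => Γ(X, V.1.1)
  let j : ∀ i, Spec (R i) ⟶ X := fun i =>
    match i with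
    | Sum.inl V => V.2.fromSpec ≫ U.ι
    | Sum.inr V => V.1.2.fromSpec
  haveI : ∀ i, IsOpenImmersion (j i) := by
    rintro (V | V)
    · exact inferInstanceAs (IsOpenImmersion (V.2.fromSpec ≫ U.ι))
    · exact inferInstanceAs (IsOpenImmersion V.1.2.fromSpec)
  have hcov : ⨆ i, (j i).opensRange = ⊤ := by
    apply le_antisymm le_top
    intro x _
    by_cases hx : x ∈ U
    · obtain ⟨_, ⟨V, hV, rfl⟩, hxV, -⟩ :=
        (↑U : Scheme.{u}).isBasis_affineOpens.exists_subset_of_mem_open
          (Set.mem_univ (⟨x, hx⟩ : ↥U)) isOpen_univ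
      refine Opens.mem_iSup.2 ⟨Sum.inl ⟨V, hV⟩, ?_⟩
      have hxV' : (⟨x, hx⟩ : ↥U) ∈ hV.fromSpec.opensRange := by
        rw [IsAffineOpen.opensRange_fromSpec]; exact hxV
      obtain ⟨y, hy⟩ := hxV'
      refine ⟨y, ?_⟩
      show (hV.fromSpec ≫ U.ι) y = x
      rw [Scheme.Hom.comp_apply, hy]
      rfl
    · have hxW : x ∈ W := fun hxT => hx (hTU hxT)
      obtain ⟨_, ⟨V, hV, rfl⟩, hxV, hVW⟩ :=
        X.isBasis_affineOpens.exists_subset_of_mem_open hxW W.2
      refine Opens.mem_iSup.2 ⟨Sum.inr ⟨⟨V, hV⟩, hVW⟩, ?_⟩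
      show x ∈ hV.fromSpec.opensRange
      rw [IsAffineOpen.opensRange_fromSpec]; exact hxV
  have hqc : ∀ i, (G.restrict (j i)).IsQuasicoherent := by
    rintro (V | V)
    · haveI : (F.restrict V.2.fromSpec).IsQuasicoherent :=
        Scheme.Modules.isQuasicoherent_restrictFunctor _ F
      exact QcAbel.isQuasicoherent_of_iso (chartIso U F V.2.fromSpec).symm
    · refine QcAbel.isQuasicoherent_of_isZero (isZero_chart U T F hs _ ?_)
      intro y hyT
      have : V.1.2.fromSpec y ∈ (V.1 : X.Opens) :=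
        (IsAffineOpen.opensRange_fromSpec V.1.2).le ⟨y, rfl⟩
      exact V.2 this hyT
  haveI hGq : G.IsQuasicoherent := by
    refine QCohLib.isQuasicoherent_of_affine_charts G R j hcov fun i => ?_
    haveI := hqc i
    infer_instance
  refine ⟨hGq, ?_⟩
  refine FtLocal.isFiniteType_of_affine_charts G R j hcov ?_
  rintro (V | V)
  · have h1 : Module.Finite (R (Sum.inl V)) Γ(F.restrict V.2.fromSpec, ⊤) :=
      AffFin.finite_restrict F hF.1 hft V.2.fromSpec
    exact finite_of_iso (R := Γ((↑U : Scheme.{u}), V.1)) (chartIso U F V.2.fromSpec) h1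
  · have hz : IsZero (G.restrict (j (Sum.inr V))) := by
      refine isZero_chart U T F hs _ ?_
      intro y hyT
      have : V.1.2.fromSpec y ∈ (V.1 : X.Opens) :=
        (IsAffineOpen.opensRange_fromSpec V.1.2).le ⟨y, rfl⟩
      exact V.2 this hyT
    haveI : Subsingleton Γ(G.restrict (j (Sum.inr V)), ⊤) :=
      ⟨fun a b => (QcAbel.sections_eq_zero_of_isZero hz ⊤ a).trans
        (QcAbel.sections_eq_zero_of_isZero hz ⊤ b).symm⟩
    infer_instance


end


open AlgebraicGeometry in
/-- Let U ⊆ X be open and T ⊆ U a subset closed in X. If F is a coherent (quasi-coherent of finite type,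
i.e. `Coh.IsCoh`) module on U with support contained in T, then its direct image along U ↪ X is
again coherent in the same sense. (The published statement is for coherent modules in the usual
sense; here both hypothesis and conclusion use the notion `Coh.IsCoh`.) -/
theorem result (X : Scheme.{u}) (U : X.Opens) (T : Set X)
    (hT : IsClosed T) (hTU : T ⊆ (U : Set X)) (F : (↑U : Scheme.{u}).Modules) (hF : Coh.IsCoh F)
    (hs : ∀ x : ↥U, x ∈ CohB1.support F → (x : X) ∈ T) : Coh.IsCoh ((Coh.push U.ι).obj F) := by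
  classical
  exact main X U T hT hTU F hF hs

end Groth.Agent.S0048
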