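import Groth.Statements.S0063
import Mathlib

set_option autoImplicit false
open CategoryTheory CategoryTheory.Limits AlgebraicGeometry Opposite
universe u
open EtBase

namespace Groth.Agent.S0063

section
open CategoryTheory CategoryTheory.Limits AlgebraicGeometry Opposite

theorem main {X S Y : Scheme.{u}} (π : X ⟶ S)
    [FormallyUnramified π] [LocallyOfFiniteType π] [IsSeparated π]
    (h : Y ⟶ S) [ConnectedSpace Y] (f g : Y ⟶ X) (hf : f ≫ π = h) (hg : g ≫ π = h)
    (y : Y) (hy : Y.fromSpecResidueField y ≫ f = Y.fromSpecResidueField y ≫ g) : f = g := by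
  let φ : Y ⟶ pullback π π := pullback.lift f g (hf.trans hg.symm)
  have hφ1 : φ ≫ pullback.fst π π = f := pullback.lift_fst _ _ _
  have hφ2 : φ ≫ pullback.snd π π = g := pullback.lift_snd _ _ _
  let e : pullback φ (pullback.diagonal π) ⟶ Y := pullback.fst φ (pullback.diagonal π)
  have hopen : IsOpenImmersion e := inferInstance
  have hclosed : IsClosedImmersion e := inferInstance
  have hyE : y ∈ Set.range e.base := by
    let ψ : Spec (Y.residueField y) ⟶ pullback φ (pullback.diagonal π) :=
      pullback.lift (Y.fromSpecResidueField y) (Y.fromSpecResidueField y ≫ f) (by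
        apply pullback.hom_ext
        · rw [Category.assoc, hφ1, Category.assoc, pullback.diagonal_fst, Category.comp_id]
        · rw [Category.assoc, hφ2, Category.assoc, pullback.diagonal_snd, Category.comp_id, hy])
    have hψ : ψ ≫ e = Y.fromSpecResidueField y := pullback.lift_fst _ _ _
    have : Y.fromSpecResidueField y (IsLocalRing.closedPoint _) = y :=
      Scheme.fromSpecResidueField_apply y _
    rw [← this, ← hψ]
    exact ⟨_, rfl⟩
  have hclopen : IsClopen (Set.range e.base) :=
    ⟨e.isClosedEmbedding.isClosed_range, e.isOpenEmbedding.isOpen_range⟩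
  have huniv : Set.range e.base = Set.univ :=
    hclopen.eq_univ ⟨y, hyE⟩
  have hepi : Epi e.base := by
    rw [TopCat.epi_iff_surjective]
    exact Set.range_eq_univ.mp huniv
  have hiso : IsIso e := IsOpenImmersion.isIso e
  have h1 : e ≫ f = pullback.snd φ (pullback.diagonal π) := by
    have := pullback.condition (f := φ) (g := pullback.diagonal π)
    have h2 := congrArg (· ≫ pullback.fst π π) this
    simp only [Category.assoc, hφ1, pullback.diagonal_fst, Category.comp_id] at h2
    exact h2
  have h2 : e ≫ g = pullback.snd φ (pullback.diagonal π) := by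
    have := pullback.condition (f := φ) (g := pullback.diagonal π)
    have h2 := congrArg (· ≫ pullback.snd π π) this
    simp only [Category.assoc, hφ2, pullback.diagonal_snd, Category.comp_id] at h2
    exact h2
  rw [← cancel_epi e, h1, h2]


end


/-- Rigidity of maps into an unramified separated scheme — two maps from a connected scheme over the
base that agree at one point, including on residue fields, coincide. -/
theorem result {X S Y : Scheme.{u}} (π : X ⟶ S)
    [FormallyUnramified π] [LocallyOfFiniteType π] [IsSeparated π]
    (h : Y ⟶ S) [ConnectedSpace Y] (f g : Y ⟶ X) (hf : f ≫ π = h) (hg : g ≫ π = h)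
    (y : Y) (hy : Y.fromSpecResidueField y ≫ f = Y.fromSpecResidueField y ≫ g) : f = g := by
  classical
  exact main π h f g hf hg y hy

end Groth.Agent.S0063
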