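import Groth.Statements.S0064
import Mathlib

set_option autoImplicit false
open CategoryTheory CategoryTheory.Limits AlgebraicGeometry Opposite
universe u
open EtBase

namespace Groth.Agent.S0064

section
open CategoryTheory CategoryTheory.Limits AlgebraicGeometry Opposite

theorem lqf_of_unramified {X Y : Scheme.{u}} (f : X ⟶ Y) [FormallyUnramified f]
    [LocallyOfFiniteType f] : LocallyQuasiFinite f := by
  constructor
  intro U hU V hV e
  have h1 : (f.appLE U V e).hom.FormallyUnramified := f.formallyUnramified_appLE hU hV e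
  have h2 : (f.appLE U V e).hom.FiniteType := f.finiteType_appLE hU hV e
  algebraize [(f.appLE U V e).hom]
  show Algebra.QuasiFinite Γ(Y, U) Γ(X, V)
  infer_instance

set_option backward.isDefEq.respectTransparency.types false in
theorem hasOfPostcomp : MorphismProperty.HasOfPostcompProperty @IsOpenImmersion
    (@FormallyUnramified ⊓ @LocallyOfFiniteType : MorphismProperty Scheme.{u}) := by
  rw [MorphismProperty.hasOfPostcompProperty_iff_le_diagonal]
  rintro X Y f ⟨h1, h2⟩
  have : FormallyUnramified f := h1
  have : LocallyOfFiniteType f := h2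
  show IsOpenImmersion (pullback.diagonal f)
  infer_instance

/-- Two sections of an unramified morphism with the same image point are equal. -/
theorem section_ext {Z K : Scheme.{u}} (p : Z ⟶ K) [FormallyUnramified p] [LocallyOfFiniteType p]
    (σ σ' : K ⟶ Z) (hσ : σ ≫ p = 𝟙 K) (hσ' : σ' ≫ p = 𝟙 K)
    (hrange : Set.range σ'.base ⊆ Set.range σ.base) : σ = σ' := by
  have := hasOfPostcomp.{u}
  have hopen : IsOpenImmersion σ :=
    MorphismProperty.of_postcomp (W := @IsOpenImmersion)
      (W' := (@FormallyUnramified ⊓ @LocallyOfFiniteType : MorphismProperty Scheme.{u})) σ p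
      ⟨inferInstance, inferInstance⟩ (by rw [hσ]; exact inferInstanceAs (IsOpenImmersion (𝟙 K)))
  let τ : K ⟶ K := IsOpenImmersion.lift σ σ' hrange
  have hτ : τ ≫ σ = σ' := IsOpenImmersion.lift_fac _ _ _
  have hτ1 : τ = 𝟙 K := by
    calc τ = τ ≫ σ ≫ p := by rw [hσ, Category.comp_id]
      _ = σ' ≫ p := by rw [← Category.assoc, hτ]
      _ = 𝟙 K := hσ'
  rw [← hτ, hτ1, Category.id_comp]

set_option backward.isDefEq.respectTransparency.types false in
theorem finite_lifts {X S P : Scheme.{u}} (π : X ⟶ S) [FormallyUnramified π]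
    [LocallyOfFiniteType π] [QuasiCompact π] [Subsingleton P] (ψ : P ⟶ S) :
    Finite {φ : P ⟶ X // φ ≫ π = ψ} := by
  let p : pullback π ψ ⟶ P := pullback.snd π ψ
  have hp1 : FormallyUnramified p :=
    MorphismProperty.pullback_snd (P := @FormallyUnramified) π ψ inferInstance
  have hp2 : LocallyOfFiniteType p := inferInstance
  have hp3 : QuasiCompact p := inferInstance
  have hp4 : LocallyQuasiFinite p := lqf_of_unramified p
  have hZfin : Finite (pullback π ψ : Scheme.{u}) := by
    rw [← Set.finite_univ_iff]
    by_cases hne : Nonempty (pullback π ψ : Scheme.{u})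
    · obtain ⟨z₀⟩ := hne
      have : (Set.univ : Set (pullback π ψ : Scheme.{u})) = p.base ⁻¹' {p.base z₀} := by
        ext z
        simp only [Set.mem_univ, Set.mem_preimage, Set.mem_singleton_iff, true_iff]
        exact Subsingleton.elim _ _
      rw [this]
      exact p.finite_preimage_singleton _
    · rw [not_nonempty_iff] at hne
      exact Set.toFinite _
  have hPfin : Finite P := Finite.of_subsingleton
  let σ : {φ : P ⟶ X // φ ≫ π = ψ} → (P ⟶ pullback π ψ) := fun φ =>
    pullback.lift φ.1 (𝟙 P) (by rw [φ.2, Category.id_comp])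
  have hσ1 : ∀ φ, σ φ ≫ pullback.fst π ψ = φ.1 := fun φ => pullback.lift_fst _ _ _
  have hσ2 : ∀ φ, σ φ ≫ p = 𝟙 P := fun φ => pullback.lift_snd _ _ _
  let Ψ : {φ : P ⟶ X // φ ≫ π = ψ} → (P → (pullback π ψ : Scheme.{u})) := fun φ => (σ φ).base
  apply Finite.of_injective Ψ
  intro φ φ' hΨ
  have hrange : Set.range (σ φ').base ⊆ Set.range (σ φ).base := by
    have : (σ φ).base = (σ φ').base := by
      ext x
      exact congrFun hΨ x
    rw [this]
  have := section_ext p (σ φ) (σ φ') (hσ2 φ) (hσ2 φ') hrange
  apply Subtype.ext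
  rw [← hσ1 φ, ← hσ1 φ', this]

theorem exists_finite_dense (Y : Scheme.{u}) [IsNoetherian Y] :
    ∃ T : Set Y, T.Finite ∧ closure T = Set.univ := by
  have hfin : (irreducibleComponents Y).Finite := finite_irreducibleComponents_of_isNoetherian
  rcases isEmpty_or_nonempty Y with hE | hN
  · exact ⟨∅, Set.finite_empty, by ext y; exact hE.elim y⟩
  have hgen : ∀ Z ∈ irreducibleComponents Y, ∃ x : Y, closure {x} = Z := by
    intro Z hZ
    obtain ⟨x, hx⟩ := QuasiSober.sober (α := Y) hZ.1 (isClosed_of_mem_irreducibleComponents Z hZ)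
    exact ⟨x, hx⟩
  choose! g hg using hgen
  refine ⟨g '' irreducibleComponents Y, hfin.image g, ?_⟩
  rw [Set.eq_univ_iff_forall]
  intro y
  have hy : y ∈ ⋃₀ irreducibleComponents Y := by rw [sUnion_irreducibleComponents]; trivial
  obtain ⟨Z, hZ, hyZ⟩ := hy
  rw [← hg Z hZ] at hyZ
  have hsub : ({g Z} : Set Y) ⊆ g '' irreducibleComponents Y :=
    Set.singleton_subset_iff.mpr (Set.mem_image_of_mem g hZ)
  exact closure_mono hsub hyZ

theorem ext_of_dense {X S Y : Scheme.{u}} (π : X ⟶ S)
    [FormallyUnramified π] [LocallyOfFiniteType π] [IsSeparated π]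
    (f g : Y ⟶ X) (hfg : f ≫ π = g ≫ π) (T : Set Y) (hT : closure T = Set.univ)
    (hy : ∀ y ∈ T, Y.fromSpecResidueField y ≫ f = Y.fromSpecResidueField y ≫ g) : f = g := by
  let φ : Y ⟶ pullback π π := pullback.lift f g hfg
  have hφ1 : φ ≫ pullback.fst π π = f := pullback.lift_fst _ _ _
  have hφ2 : φ ≫ pullback.snd π π = g := pullback.lift_snd _ _ _
  let e : pullback φ (pullback.diagonal π) ⟶ Y := pullback.fst φ (pullback.diagonal π)
  have hopen : IsOpenImmersion e := inferInstance
  have hclosed : IsClosedImmersion e := inferInstance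
  have hyE : ∀ y ∈ T, y ∈ Set.range e.base := by
    intro y hyT
    let ψ : Spec (Y.residueField y) ⟶ pullback φ (pullback.diagonal π) :=
      pullback.lift (Y.fromSpecResidueField y) (Y.fromSpecResidueField y ≫ f) (by
        apply pullback.hom_ext
        · rw [Category.assoc, hφ1, Category.assoc, pullback.diagonal_fst, Category.comp_id]
        · rw [Category.assoc, hφ2, Category.assoc, pullback.diagonal_snd, Category.comp_id,
            hy y hyT])
    have hψ : ψ ≫ e = Y.fromSpecResidueField y := pullback.lift_fst _ _ _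
    have : Y.fromSpecResidueField y (IsLocalRing.closedPoint _) = y :=
      Scheme.fromSpecResidueField_apply y _
    rw [← this, ← hψ]
    exact ⟨_, rfl⟩
  have huniv : Set.range e.base = Set.univ := by
    rw [Set.eq_univ_iff_forall]
    intro y
    have : y ∈ closure T := by rw [hT]; trivial
    exact closure_minimal hyE e.isClosedEmbedding.isClosed_range this
  have hepi : Epi e.base := by
    rw [TopCat.epi_iff_surjective]
    exact Set.range_eq_univ.mp huniv
  have hiso : IsIso e := IsOpenImmersion.isIso e
  have h1 : e ≫ f = pullback.snd φ (pullback.diagonal π) := by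
    have := pullback.condition (f := φ) (g := pullback.diagonal π)
    have h2 := congrArg (· ≫ pullback.fst π π) this
    simp only [Category.assoc, hφ1, pullback.diagonal_fst, Category.comp_id] at h2
    exact h2
  have h2 : e ≫ g = pullback.snd φ (pullback.diagonal π) := by
    have := pullback.condition (f := φ) (g := pullback.diagonal π)
    have h2 := congrArg (· ≫ pullback.snd π π) this
    simp only [Category.assoc, hφ2, pullback.diagonal_snd, Category.comp_id] at h2
    exact h2
  rw [← cancel_epi e, h1, h2]

theorem main {X S Y : Scheme.{u}} [IsNoetherian S] [IsNoetherian Y]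
    (π : X ⟶ S) [FormallyUnramified π] [LocallyOfFiniteType π] [QuasiCompact π] [IsSeparated π]
    (h : Y ⟶ S) : Set.Finite {f : Y ⟶ X | f ≫ π = h} := by
  obtain ⟨T, hTfin, hTdense⟩ := exists_finite_dense Y
  have hTfin' : Finite T := hTfin.to_subtype
  have hfac : ∀ t : T, Finite {φ : Spec (Y.residueField t.1) ⟶ X //
      φ ≫ π = Y.fromSpecResidueField t.1 ≫ h} := fun t => finite_lifts π _
  let Φ : {f : Y ⟶ X | f ≫ π = h} → (∀ t : T, {φ : Spec (Y.residueField t.1) ⟶ X //
      φ ≫ π = Y.fromSpecResidueField t.1 ≫ h}) :=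
    fun f t => ⟨Y.fromSpecResidueField t.1 ≫ f.1, by rw [Category.assoc, f.2]⟩
  have hΦ : Function.Injective Φ := by
    intro f g hfg
    apply Subtype.ext
    apply ext_of_dense π f.1 g.1 (f.2.trans g.2.symm) T hTdense
    intro y hyT
    have := congrFun hfg ⟨y, hyT⟩
    exact congrArg Subtype.val this
  have : Finite {f : Y ⟶ X | f ≫ π = h} := Finite.of_injective Φ hΦ
  exact Set.toFinite _


end


/-- Let S be a Noetherian scheme, X → S a quasi-compact, separated, unramified morphism (formally
unramified and locally of finite type), and Y a Noetherian scheme with a morphism Y → S. Then there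
are only finitely many S-morphisms Y → X. The published statement does not assume X → S separated;
it is stated here in the separated case. -/
theorem result {X S Y : Scheme.{u}} [IsNoetherian S] [IsNoetherian Y]
    (π : X ⟶ S) [FormallyUnramified π] [LocallyOfFiniteType π] [QuasiCompact π] [IsSeparated π]
    (h : Y ⟶ S) : Set.Finite {f : Y ⟶ X | f ≫ π = h} := by
  classical
  exact main π h

end Groth.Agent.S0064
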