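import Groth.Statements.S0120
import Mathlib

set_option autoImplicit false
open CategoryTheory CategoryTheory.Limits AlgebraicGeometry Opposite
universe u
open EtBase

namespace Groth.Agent.S0120

section
open CategoryTheory CategoryTheory.Limits AlgebraicGeometry Opposite TensorProduct

section alg

theorem height_eq_of_etale (A B : Type u) [CommRing A] [CommRing B] [Algebra A B]
    [IsNoetherianRing A] [Algebra.Etale A B] (q : Ideal B) [q.IsPrime] (p : Ideal A) [p.IsPrime]
    [q.LiesOver p] : q.height = p.height := by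
  have hB : IsNoetherianRing B := Algebra.FiniteType.isNoetherianRing A B
  have hgd : Algebra.HasGoingDown A B := inferInstance
  have hqf : Algebra.QuasiFinite A B := inferInstance
  rw [Ideal.height_eq_height_add_of_liesOver_of_hasGoingDown p q]
  set I := p.map (algebraMap A B) with hI
  have hIq : I ≤ q := by
    rw [hI, Ideal.map_le_iff_le_comap]
    exact (Ideal.LiesOver.over (p := p) (P := q)).le
  have hker : RingHom.ker (Ideal.Quotient.mk I) ≤ q := by rwa [Ideal.mk_ker]
  have hprime : (q.map (Ideal.Quotient.mk I)).IsPrime :=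
    Ideal.map_isPrime_of_surjective Ideal.Quotient.mk_surjective hker
  have hmin : q.map (Ideal.Quotient.mk I) ∈ minimalPrimes (B ⧸ I) := by
    refine ⟨⟨hprime, bot_le⟩, ?_⟩
    rintro Q' ⟨hQ'prime, -⟩ hle
    have hQprime : (Q'.comap (Ideal.Quotient.mk I)).IsPrime := Ideal.comap_isPrime _ _
    have hQq : Q'.comap (Ideal.Quotient.mk I) ≤ q := by
      have := Ideal.comap_mono (f := Ideal.Quotient.mk I) hle
      rwa [Ideal.comap_map_of_surjective _ Ideal.Quotient.mk_surjective, ← RingHom.ker_eq_comap_bot,
        sup_eq_left.mpr hker] at this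
    have hIQ : I ≤ Q'.comap (Ideal.Quotient.mk I) := by
      intro b hb
      rw [Ideal.mem_comap, Ideal.Quotient.eq_zero_iff_mem.mpr hb]
      exact Q'.zero_mem
    have hunder : (Q'.comap (Ideal.Quotient.mk I)).under A = q.under A := by
      apply le_antisymm
      · exact Ideal.comap_mono hQq
      · rw [← Ideal.LiesOver.over (p := p) (P := q)]
        intro a ha
        exact hIQ (Ideal.mem_map_of_mem _ ha)
    have hQeq := Algebra.QuasiFinite.eq_of_le_of_under_eq (R := A) _ _ hQq hunder
    rw [← hQeq, Ideal.map_comap_of_surjective _ Ideal.Quotient.mk_surjective]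
  rw [Ideal.height_eq_zero_iff.mpr hmin, add_zero]

end alg

section scheme
variable {X Y : Scheme.{u}} (f : X ⟶ Y)

theorem main [AlgebraicGeometry.Etale f] [IsLocallyNoetherian Y] (x : X) :
    ringKrullDim (X.presheaf.stalk x) = ringKrullDim (Y.presheaf.stalk (f.base x)) := by
  obtain ⟨V, hV, hyV, -⟩ := exists_isAffineOpen_mem_and_subset (x := f.base x) (U := ⊤) trivial
  have hxV : x ∈ f ⁻¹ᵁ V := hyV
  obtain ⟨U, hU, hxU, hUV⟩ := exists_isAffineOpen_mem_and_subset (x := x) (U := f ⁻¹ᵁ V) hxV
  have e : U ≤ f ⁻¹ᵁ V := hUV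
  let φ : Γ(Y, V) →+* Γ(X, U) := (f.appLE V U e).hom
  let _ : Algebra Γ(Y, V) Γ(X, U) := φ.toAlgebra
  have het : Algebra.Etale Γ(Y, V) Γ(X, U) :=
    HasRingHomProperty.appLE @AlgebraicGeometry.Etale f inferInstance ⟨V, hV⟩ ⟨U, hU⟩ e
  have hnoeth : IsNoetherianRing Γ(Y, V) := IsLocallyNoetherian.component_noetherian ⟨V, hV⟩
  let p := (hV.primeIdealOf ⟨f x, hyV⟩).asIdeal
  let q := (hU.primeIdealOf ⟨x, hxU⟩).asIdeal
  have hqp : q.LiesOver p := by
    constructor
    have := IsAffineOpen.comap_primeIdealOf_appLE (f := f) V hV U hU e hxU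
    exact (congrArg PrimeSpectrum.asIdeal this).symm
  let _ := Y.presheaf.algebra_section_stalk ⟨f x, hyV⟩
  let _ := X.presheaf.algebra_section_stalk ⟨x, hxU⟩
  have hlocY : IsLocalization.AtPrime (Y.presheaf.stalk (f x)) p :=
    hV.isLocalization_stalk ⟨f x, hyV⟩
  have hlocX : IsLocalization.AtPrime (X.presheaf.stalk x) q := hU.isLocalization_stalk ⟨x, hxU⟩
  rw [IsLocalization.AtPrime.ringKrullDim_eq_height q (X.presheaf.stalk x),
    IsLocalization.AtPrime.ringKrullDim_eq_height p (Y.presheaf.stalk (f x)),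
    height_eq_of_etale Γ(Y, V) Γ(X, U) q p]

end scheme


end


/-- For an étale morphism X → Y with Y locally Noetherian and a point x of X, the local ring of X at x
and the local ring of Y at the image of x have the same Krull dimension. -/
theorem result {X Y : Scheme.{u}} (f : X ⟶ Y) [AlgebraicGeometry.Etale f]
    [IsLocallyNoetherian Y] (x : X) :
    ringKrullDim (X.presheaf.stalk x) = ringKrullDim (Y.presheaf.stalk (f.base x)) := by
  classical
  exact main f x

end Groth.Agent.S0120
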