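import Groth.Statements.S0065
import Mathlib
import Groth.Agent.S0120

set_option autoImplicit false
open CategoryTheory CategoryTheory.Limits AlgebraicGeometry Opposite
universe u
open EtBase

namespace Groth.Agent.S0065

section
open CategoryTheory CategoryTheory.Limits AlgebraicGeometry Opposite IsLocalRing

section alg
variable {A B : Type*} [CommRing A] [CommRing B] [Algebra A B]
  [IsLocalRing A] [IsLocalRing B] [IsNoetherianRing B]

theorem spanFinrank_le [Module.FaithfullyFlat A B]
    (hm : (maximalIdeal A).map (algebraMap A B) = maximalIdeal B) :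
    (maximalIdeal A).spanFinrank ≤ (maximalIdeal B).spanFinrank := by
  classical
  have hφm : ∀ a ∈ maximalIdeal A, algebraMap A B a ∈ maximalIdeal B :=
    fun a ha => hm ▸ Ideal.mem_map_of_mem _ ha
  let S : Set (maximalIdeal B) := {y | ∃ a ∈ maximalIdeal A, algebraMap A B a = (y : B)}
  have hS : Submodule.span B S = ⊤ := by
    apply Submodule.map_injective_of_injective (maximalIdeal B).injective_subtype
    rw [Submodule.map_span, Submodule.map_top, Submodule.range_subtype]
    have : (maximalIdeal B).subtype '' S = algebraMap A B '' (maximalIdeal A : Set A) := by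
      ext y; constructor
      · rintro ⟨⟨y, hy⟩, ⟨a, ha, hay⟩, rfl⟩; exact ⟨a, ha, hay⟩
      · rintro ⟨a, ha, rfl⟩; exact ⟨⟨algebraMap A B a, hφm a ha⟩, ⟨a, ha, rfl⟩, rfl⟩
    rw [this, ← hm]
    rfl
  have hS' := (CotangentSpace.span_image_eq_top_iff (R := B)).mpr hS
  have hfin : Module.Finite (ResidueField B)
      (Submodule.span (ResidueField B) ((maximalIdeal B).toCotangent '' S)) := by
    rw [hS']; infer_instance
  obtain ⟨t, htS, htcard, htspan, -⟩ := Submodule.exists_finset_span_eq_linearIndepOn
    (ResidueField B) ((maximalIdeal B).toCotangent '' S)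
  rw [hS'] at htspan
  have htcard' : t.card = Module.finrank (ResidueField B) (CotangentSpace B) := by
    rw [htcard, hS', finrank_top]
  have hpre : ∀ v ∈ t, ∃ a ∈ maximalIdeal A, ∃ h : algebraMap A B a ∈ maximalIdeal B,
      (maximalIdeal B).toCotangent ⟨algebraMap A B a, h⟩ = v := by
    intro v hv
    obtain ⟨⟨y, hy⟩, ⟨a, ha, hay⟩, rfl⟩ := htS hv
    have hay' : algebraMap A B a = y := hay
    subst hay'
    exact ⟨a, ha, hy, rfl⟩
  choose! g hg1 hg2 hg3 using hpre
  let S_T : Set (maximalIdeal B) := {y | ∃ v ∈ t, algebraMap A B (g v) = (y : B)}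
  have hST : (maximalIdeal B).toCotangent '' S_T = (t : Set (CotangentSpace B)) := by
    ext v; constructor
    · rintro ⟨⟨y, hy⟩, ⟨w, hw, hwy⟩, rfl⟩
      have hwy' : algebraMap A B (g w) = y := hwy
      subst hwy'
      rw [hg3 w hw]; exact hw
    · intro hv
      exact ⟨⟨algebraMap A B (g v), hg2 v hv⟩, ⟨v, hv, rfl⟩, hg3 v hv⟩
  have hspanST : Submodule.span B S_T = ⊤ :=
    (CotangentSpace.span_image_eq_top_iff (R := B)).mp (by rw [hST]; exact htspan)
  have hmapT : (Ideal.span ((t.image g : Finset A) : Set A)).map (algebraMap A B) = maximalIdeal B := by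
    rw [Ideal.map_span]
    have h1 := congrArg (Submodule.map (maximalIdeal B).subtype) hspanST
    rw [Submodule.map_span, Submodule.map_top, Submodule.range_subtype] at h1
    refine Eq.trans ?_ h1
    show Ideal.span _ = Ideal.span _
    congr 1
    ext y; constructor
    · rintro ⟨a, ha, rfl⟩
      rw [Finset.coe_image] at ha
      obtain ⟨v, hv, rfl⟩ := ha
      exact ⟨⟨algebraMap A B (g v), hg2 v hv⟩, ⟨v, hv, rfl⟩, rfl⟩
    · rintro ⟨⟨y, hy⟩, ⟨v, hv, hvy⟩, rfl⟩
      refine ⟨g v, ?_, hvy⟩
      rw [Finset.coe_image]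
      exact ⟨v, hv, rfl⟩
  have hT : Ideal.span ((t.image g : Finset A) : Set A) = maximalIdeal A := by
    have h1 := Ideal.comap_map_eq_self_of_faithfullyFlat (B := B)
      (Ideal.span ((t.image g : Finset A) : Set A))
    have h2 := Ideal.comap_map_eq_self_of_faithfullyFlat (B := B) (maximalIdeal A)
    rw [← h1, hmapT, ← hm, h2]
  calc (maximalIdeal A).spanFinrank
      = (Ideal.span ((t.image g : Finset A) : Set A)).spanFinrank := by rw [hT]
    _ ≤ ((t.image g : Finset A) : Set A).ncard :=
        Submodule.spanFinrank_span_le_ncard_of_finite (Finset.finite_toSet _)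
    _ = (t.image g).card := Set.ncard_coe_finset _
    _ ≤ t.card := Finset.card_image_le
    _ = (maximalIdeal B).spanFinrank := by
        rw [htcard', spanFinrank_maximalIdeal_eq_finrank_cotangentSpace]

end alg

theorem main {X Y : Scheme.{u}} (f : X ⟶ Y) [AlgebraicGeometry.Etale f] [IsLocallyNoetherian Y]
    (x : X) :
    IsRegularLocalRing (X.presheaf.stalk x) ↔ IsRegularLocalRing (Y.presheaf.stalk (f.base x)) := by
  have hXn : IsLocallyNoetherian X := LocallyOfFiniteType.isLocallyNoetherian f
  algebraize [(f.stalkMap x).hom]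
  have hloc : IsLocalHom (algebraMap (Y.presheaf.stalk (f x)) (X.presheaf.stalk x)) :=
    inferInstanceAs <| IsLocalHom (f.stalkMap x).hom
  have hflat : Module.Flat (Y.presheaf.stalk (f x)) (X.presheaf.stalk x) := Flat.stalkMap f x
  have hff : Module.FaithfullyFlat (Y.presheaf.stalk (f x)) (X.presheaf.stalk x) :=
    Module.FaithfullyFlat.of_flat_of_isLocalHom
  have hunr : Algebra.FormallyUnramified (Y.presheaf.stalk (f x)) (X.presheaf.stalk x) :=
    FormallyUnramified.stalkMap f x
  have heft : Algebra.EssFiniteType (Y.presheaf.stalk (f x)) (X.presheaf.stalk x) := by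
    rw [← RingHom.essFiniteType_algebraMap, RingHom.algebraMap_toAlgebra]
    exact LocallyOfFiniteType.stalkMap f x
  have hm := Algebra.FormallyUnramified.map_maximalIdeal
    (R := Y.presheaf.stalk (f x)) (S := X.presheaf.stalk x)
  have hdim := Groth.Agent.S0120.result f x
  have hspan : (maximalIdeal (X.presheaf.stalk x)).spanFinrank =
      (maximalIdeal (Y.presheaf.stalk (f x))).spanFinrank :=
    le_antisymm (by rw [← hm]; exact Ideal.spanFinrank_map_le_of_fg _ (IsNoetherian.noetherian _))
      (spanFinrank_le hm)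
  rw [isRegularLocalRing_iff, isRegularLocalRing_iff, hspan, hdim]


end


/-- For an étale morphism X → Y with Y locally Noetherian and a point x of X, the local ring of X at x
is regular if and only if the local ring of Y at the image of x is regular. -/
theorem result {X Y : Scheme.{u}} (f : X ⟶ Y) [AlgebraicGeometry.Etale f]
    [IsLocallyNoetherian Y] (x : X) :
    IsRegularLocalRing (X.presheaf.stalk x) ↔ IsRegularLocalRing (Y.presheaf.stalk (f.base x)) := by
  classical
  exact main f x

end Groth.Agent.S0065
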