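import Groth.Statements.S0077
import Mathlib

set_option autoImplicit false
universe u
open EtBase

namespace Groth.Agent.S0077

section
open Polynomial

theorem mem_span_orbit {k V : Type u} [Field k] [AddCommGroup V] [Module k V]
    (g : ℕ → V) (m : ℕ) (z : V)
    (hz : z ∈ Submodule.span k (g '' (Finset.range m : Set ℕ))) :
    ∃ c : ℕ → k, z = ∑ i ∈ Finset.range m, c i • g i := by
  induction hz using Submodule.span_induction with
  | mem x hx =>
    obtain ⟨i, hi, rfl⟩ := hx
    refine ⟨Pi.single i 1, ?_⟩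
    rw [Finset.sum_eq_single i]
    · simp
    · intro j _ hji
      rw [Pi.single_eq_of_ne hji, zero_smul]
    · intro h
      exact absurd (Finset.mem_coe.mp hi) h
  | zero => exact ⟨0, by simp⟩
  | add x y _ _ hx hy =>
    obtain ⟨c, rfl⟩ := hx
    obtain ⟨d, rfl⟩ := hy
    exact ⟨c + d, by simp [add_smul, Finset.sum_add_distrib]⟩
  | smul a x _ hx =>
    obtain ⟨c, rfl⟩ := hx
    exact ⟨a • c, by simp [Finset.smul_sum, mul_smul]⟩

/-- the recursively defined polynomials -/
noncomputable def XP {k : Type u} [Field k] (p : ℕ) (a w : ℕ → k) : ℕ → k[X]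
  | 0 => C (a 0) * X - C (w 0)
  | (i + 1) => (XP p a w i) ^ p + C (a (i + 1)) * X - C (w (i + 1))

theorem exists_sol {k : Type u} [Field k] [IsAlgClosed k] (p : ℕ) [Fact p.Prime] [CharP k p]
    (a w : ℕ → k) (n : ℕ) :
    ∃ (x : ℕ → k) (y : k), x 0 = a 0 * y - w 0 ∧
      (∀ i, x (i + 1) = x i ^ p + a (i + 1) * y - w (i + 1)) ∧ x n ^ p = y := by
  have hp0 : ((p : ℕ) : k) = 0 := CharP.cast_eq_zero k p
  set P : k[X] := (XP p a w n) ^ p - X with hP
  have hder : derivative P = -1 := by
    rw [hP, derivative_sub, derivative_pow, derivative_X, hp0]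
    simp
  have hdeg : P.degree ≠ 0 := by
    intro h0
    have hc := Polynomial.eq_C_of_degree_eq_zero h0
    rw [hc, derivative_C] at hder
    have : (0 : k[X]) ≠ -1 := by
      intro h
      have := congrArg (Polynomial.eval 0) h
      simp at this
    exact this hder
  obtain ⟨y, hy⟩ := IsAlgClosed.exists_root P hdeg
  refine ⟨fun i => (XP p a w i).eval y, y, ?_, ?_, ?_⟩
  · simp [XP]
  · intro i
    simp [XP]
  · rw [hP, IsRoot.def, eval_sub, eval_pow, eval_X, sub_eq_zero] at hy
    exact hy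

theorem core {k V : Type u} [Field k] [IsAlgClosed k] (p : ℕ) [Fact p.Prime] [CharP k p]
    [AddCommGroup V] [Module k V] (F : V →+ V)
    (hF : ∀ (c : k) (v : V), F (c • v) = c ^ p • F v)
    (g : ℕ → V) (hg : ∀ i, F (g i) = g (i + 1)) (n : ℕ) (a w : ℕ → k) (u' : V)
    (hrel : g (n + 1) = u' + ∑ i ∈ Finset.range (n + 1), a i • g i) :
    ∃ (x : V) (y : k), F x - x = ∑ i ∈ Finset.range (n + 1), w i • g i + y • u' := by
  obtain ⟨x, y, hx0, hxs, hxn⟩ := exists_sol p a w n
  refine ⟨∑ i ∈ Finset.range (n + 1), x i • g i, y, ?_⟩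
  have h1 : F (∑ i ∈ Finset.range (n + 1), x i • g i)
      = ∑ i ∈ Finset.range n, x i ^ p • g (i + 1) + y • g (n + 1) := by
    rw [map_sum, Finset.sum_range_succ]
    congr 1
    · refine Finset.sum_congr rfl (fun i _ => ?_)
      rw [hF, hg]
    · rw [hF, hg, hxn]
  rw [h1, hrel]
  rw [Finset.sum_range_succ' (fun i => x i • g i), Finset.sum_range_succ' (fun i => a i • g i),
    Finset.sum_range_succ' (fun i => w i • g i)]
  have hw0 : w 0 = a 0 * y - x 0 := by rw [hx0]; ring
  have hws : ∀ i, w (i + 1) = x i ^ p + a (i + 1) * y - x (i + 1) := by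
    intro i; rw [hxs i]; ring
  rw [hw0]
  simp only [hws]
  simp only [sub_smul, add_smul, mul_smul, Finset.sum_add_distrib, Finset.sum_sub_distrib,
    Finset.smul_sum, smul_add]
  have hcomm : ∀ i, y • a (i + 1) • g (i + 1) = a (i + 1) • y • g (i + 1) := by
    intro i; rw [smul_comm]
  simp only [hcomm]
  rw [smul_comm y (a 0)]
  abel

theorem ext_step {k V : Type u} [Field k] [IsAlgClosed k] (p : ℕ) [Fact p.Prime] [CharP k p]
    [AddCommGroup V] [Module k V] [FiniteDimensional k V] (F : V →+ V)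
    (hF : ∀ (c : k) (v : V), F (c • v) = c ^ p • F v)
    (U : Submodule k V) (hUF : ∀ u ∈ U, F u ∈ U) (hUim : ∀ u ∈ U, ∃ z, F z - z = u) (v : V) :
    ∃ W : Submodule k V, U ≤ W ∧ v ∈ W ∧ (∀ u ∈ W, F u ∈ W) ∧ (∀ u ∈ W, ∃ z, F z - z = u) := by
  let g : ℕ → V := fun i => (⇑F)^[i] v
  have hg : ∀ i, F (g i) = g (i + 1) := by
    intro i
    change F ((⇑F)^[i] v) = (⇑F)^[i + 1] v
    rw [Function.iterate_succ_apply']
  let Wf : ℕ →o Submodule k V :=
    { toFun := fun m => U ⊔ Submodule.span k (g '' (Finset.range m : Set ℕ))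
      monotone' := by
        intro i j hij
        apply sup_le_sup_left
        apply Submodule.span_mono
        apply Set.image_mono
        intro l hl
        simp only [Finset.coe_range, Set.mem_Iio] at hl ⊢
        omega }
  obtain ⟨n, hn⟩ := monotone_stabilizes_iff_noetherian.mpr (inferInstance : IsNoetherian k V) Wf
  have hW12 : Wf (n + 1) = Wf (n + 2) := by
    rw [← hn (n + 1) (by omega), ← hn (n + 2) (by omega)]
  have hgmem : ∀ i, i < n + 1 → g i ∈ Wf (n + 1) := by
    intro i hi
    apply Submodule.mem_sup_right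
    apply Submodule.subset_span
    exact ⟨i, by simpa using hi, rfl⟩
  have hgn : g (n + 1) ∈ Wf (n + 1) := by
    rw [hW12]
    apply Submodule.mem_sup_right
    apply Submodule.subset_span
    exact ⟨n + 1, by simp, rfl⟩
  have hgmem' : ∀ i, i < n + 1 → g (i + 1) ∈ Wf (n + 1) := by
    intro i hi
    by_cases h : i + 1 < n + 1
    · exact hgmem _ h
    · have : i + 1 = n + 1 := by omega
      rw [this]; exact hgn
  refine ⟨Wf (n + 1), le_sup_left, hgmem 0 (by omega), ?_, ?_⟩
  · intro u hu
    obtain ⟨u0, hu0, z, hz, rfl⟩ := Submodule.mem_sup.mp hu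
    obtain ⟨c, rfl⟩ := mem_span_orbit g (n + 1) z hz
    rw [F.map_add, map_sum F]
    apply Submodule.add_mem
    · exact Submodule.mem_sup_left (hUF u0 hu0)
    · apply Submodule.sum_mem
      intro i hi
      rw [hF, hg]
      apply Submodule.smul_mem
      exact hgmem' i (Finset.mem_range.mp hi)
  · intro u hu
    obtain ⟨u0, hu0, z, hz, rfl⟩ := Submodule.mem_sup.mp hu
    obtain ⟨w, rfl⟩ := mem_span_orbit g (n + 1) z hz
    obtain ⟨u', hu', z', hz', hrel⟩ := Submodule.mem_sup.mp hgn
    obtain ⟨a, rfl⟩ := mem_span_orbit g (n + 1) z' hz'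
    obtain ⟨x, y, hxy⟩ := core p F hF g hg n a w u' hrel.symm
    obtain ⟨t, ht⟩ := hUim (u0 - y • u') (U.sub_mem hu0 (U.smul_mem y hu'))
    refine ⟨x + t, ?_⟩
    rw [F.map_add]
    have : F x + F t - (x + t) = (F x - x) + (F t - t) := by abel
    rw [this, hxy, ht]
    abel

theorem main {k V : Type u} [Field k] [IsAlgClosed k] (p : ℕ) [Fact p.Prime] [CharP k p]
    [AddCommGroup V] [Module k V] [FiniteDimensional k V] (F : V →+ V)
    (hF : ∀ (c : k) (v : V), F (c • v) = c ^ p • F v) :
    Function.Surjective fun v => F v - v := by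
  let G : Set (Submodule k V) := {U | (∀ u ∈ U, F u ∈ U) ∧ (∀ u ∈ U, ∃ z, F z - z = u)}
  have hbot : (⊥ : Submodule k V) ∈ G := by
    constructor
    · intro u hu
      rw [Submodule.mem_bot] at hu ⊢
      rw [hu, map_zero]
    · intro u hu
      rw [Submodule.mem_bot] at hu
      exact ⟨0, by simp [hu]⟩
  have hwf : WellFounded ((· > ·) : Submodule k V → Submodule k V → Prop) := wellFounded_gt
  obtain ⟨U, hUG, hUmax⟩ := hwf.has_min G ⟨⊥, hbot⟩
  intro v
  obtain ⟨W, hUW, hvW, hWF, hWim⟩ := ext_step p F hF U hUG.1 hUG.2 v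
  have hWU : W = U := by
    by_contra hne
    exact hUmax W ⟨hWF, hWim⟩ (lt_of_le_of_ne hUW (Ne.symm hne))
  exact hUG.2 v (hWU ▸ hvW)


end


/-- First half — on a finite-dimensional vector space over an algebraically closed field of
characteristic p, any additive p-semilinear map F has F − id surjective. -/
theorem result {k V : Type u} [Field k] [IsAlgClosed k] (p : ℕ) [Fact p.Prime] [CharP k p]
    [AddCommGroup V] [Module k V] [FiniteDimensional k V] (F : V →+ V)
    (hF : ∀ (c : k) (v : V), F (c • v) = c ^ p • F v) :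
    Function.Surjective fun v => F v - v := by
  classical
  exact main p F hF

end Groth.Agent.S0077
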