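import Groth.Statements.S0078
import Mathlib

set_option autoImplicit false
universe u
open EtBase

namespace Groth.Agent.S0078

section
open Polynomial

theorem roots_fin {k : Type u} [Field k] (p : ℕ) (hp : 1 < p) :
    Finite {c : k | c ^ p = c} ∧ Nat.card {c : k | c ^ p = c} ≤ p := by
  classical
  have hne : (X ^ p - X : k[X]) ≠ 0 := FiniteField.X_pow_card_sub_X_ne_zero k hp
  have hsub : {c : k | c ^ p = c} ⊆ ((X ^ p - X : k[X]).roots.toFinset : Set k) := by
    intro c hc
    simp only [Set.mem_setOf_eq] at hc
    simp only [Finset.mem_coe, Multiset.mem_toFinset]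
    rw [mem_roots hne, IsRoot.def, eval_sub, eval_pow, eval_X, hc, sub_self]
  have hfin : ({c : k | c ^ p = c}).Finite := (Finset.finite_toSet _).subset hsub
  refine ⟨hfin.to_subtype, ?_⟩
  have h1 : Nat.card {c : k | c ^ p = c} ≤ Nat.card ((X ^ p - X : k[X]).roots.toFinset : Set k) :=
    Nat.card_mono (Finset.finite_toSet _) hsub
  refine h1.trans ?_
  rw [Nat.card_coe_set_eq, Set.ncard_coe_finset]
  refine (Multiset.toFinset_card_le _).trans ?_
  refine (card_roots' _).trans ?_
  rw [FiniteField.X_pow_card_sub_X_natDegree_eq k hp]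

theorem main {k V : Type u} [Field k] [IsAlgClosed k] (p : ℕ) [Fact p.Prime] [CharP k p]
    [AddCommGroup V] [Module k V] [FiniteDimensional k V] (F : V →+ V)
    (hF : ∀ (c : k) (v : V), F (c • v) = c ^ p • F v) :
    Set.Finite {v : V | F v = v} ∧ Nat.card {v : V | F v = v} ≤ p ^ Module.finrank k V := by
  classical
  have hp1 : 1 < p := (Fact.out : p.Prime).one_lt
  have hp0 : p ≠ 0 := by omega
  set S : Set V := {v : V | F v = v} with hS
  obtain ⟨b, hbS, hspan, hli⟩ := exists_linearIndependent k S
  have hbfin : Finite b := hli.finite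
  obtain ⟨hRfin, hRcard⟩ := roots_fin (k := k) p hp1
  -- F of a linear combination
  have hFlc : ∀ c : b →₀ k, F (Finsupp.linearCombination k (Subtype.val : b → V) c)
      = Finsupp.linearCombination k (Subtype.val : b → V)
          (c.mapRange (fun a => a ^ p) (zero_pow hp0)) := by
    intro c
    rw [Finsupp.linearCombination_apply, Finsupp.linearCombination_apply,
      Finsupp.sum_mapRange_index (by intro i; simp), Finsupp.sum, map_sum F, Finsupp.sum]
    refine Finset.sum_congr rfl (fun i _ => ?_)
    rw [hF]
    have : F (i : V) = i := hbS i.2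
    rw [this]
  have hmem : ∀ s : S, (s : V) ∈ Submodule.span k (Set.range (Subtype.val : b → V)) := by
    intro s
    rw [Subtype.range_coe, hspan]
    exact Submodule.subset_span s.2
  let r : S → (b →₀ k) := fun s => hli.repr ⟨s, hmem s⟩
  have hr : ∀ s : S, Finsupp.linearCombination k (Subtype.val : b → V) (r s) = s := by
    intro s
    exact hli.linearCombination_repr ⟨s, hmem s⟩
  have hfix : ∀ (s : S) (i : b), (r s i) ^ p = r s i := by
    intro s i
    have h1 := hFlc (r s)
    rw [hr s] at h1
    have h2 : F (s : V) = s := s.2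
    rw [h2, ← hr s] at h1
    have h3 := hli h1
    have h4 := DFunLike.congr_fun h3 i
    rw [Finsupp.mapRange_apply] at h4
    exact h4.symm
  let Φ : S → (b → {c : k | c ^ p = c}) := fun s i => ⟨r s i, hfix s i⟩
  have hΦ : Function.Injective Φ := by
    intro s s' h
    have h1 : r s = r s' := by
      ext i
      have := congrFun h i
      exact congrArg Subtype.val this
    apply Subtype.ext
    rw [← hr s, ← hr s', h1]
  have hfinS : Finite S := Finite.of_injective Φ hΦ
  refine ⟨Set.toFinite S, ?_⟩
  have h1 : Nat.card S ≤ Nat.card (b → {c : k | c ^ p = c}) := Nat.card_le_card_of_injective Φ hΦ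
  refine h1.trans ?_
  rw [Nat.card_fun]
  have : Fintype b := Fintype.ofFinite b
  have h2 : Nat.card b ≤ Module.finrank k V := by
    rw [Nat.card_eq_fintype_card]
    exact hli.fintype_card_le_finrank
  calc Nat.card {c : k | c ^ p = c} ^ Nat.card b ≤ p ^ Nat.card b := Nat.pow_le_pow_left hRcard _
    _ ≤ p ^ Module.finrank k V := Nat.pow_le_pow_right (by omega) h2


end


/-- Second half — for such an F the fixed vectors F v = v form a finite set of size at most p ^ dim V
(an F_p-space of dimension at most dim V). -/
theorem result {k V : Type u} [Field k] [IsAlgClosed k] (p : ℕ) [Fact p.Prime] [CharP k p]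
    [AddCommGroup V] [Module k V] [FiniteDimensional k V] (F : V →+ V)
    (hF : ∀ (c : k) (v : V), F (c • v) = c ^ p • F v) :
    Set.Finite {v : V | F v = v} ∧ Nat.card {v : V | F v = v} ≤ p ^ Module.finrank k V := by
  classical
  exact main p F hF

end Groth.Agent.S0078
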