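import Groth.Statements.S0095
import Mathlib
import Groth.Statements.S0095
import Groth.Agent.S0094
import Groth.Agent.Lib.Helper9.FE.TensConn
-- import your own Groth.Agent.* helpers here

set_option autoImplicit false
open CategoryTheory CategoryTheory.Limits AlgebraicGeometry Opposite
universe u
open EtBase

namespace Groth.Agent.S0095

open CategoryTheory CategoryTheory.Limits AlgebraicGeometry Opposite
namespace Aux
set_option linter.unusedSectionVars false
set_option linter.style.haveILetI false
set_option backward.isDefEq.respectTransparency false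

open TensorProduct

theorem connected_of_iso {A B : Scheme.{u}} (e : A ≅ B) [ConnectedSpace A] : ConnectedSpace B := by
  have hs : Function.Surjective e.hom := fun y => ⟨e.inv y, by
    rw [← Scheme.Hom.comp_apply, e.inv_hom_id]; rfl⟩
  exact Function.Surjective.connectedSpace hs e.hom.continuous

theorem fibre_connected {k K : Type u} [Field k] [IsSepClosed k] [Field K] [Algebra k K]
    {S : Scheme.{u}} (a : S ⟶ Spec (CommRingCat.of k))
    (Ω : Type u) [Field Ω] [IsAlgClosed Ω] (s : Spec (CommRingCat.of Ω) ⟶ S) :
    ConnectedSpace ↥(pullback (pullback.fst a (Spec.map (CommRingCat.ofHom (algebraMap k K)))) s) := by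
  let b := Spec.map (CommRingCat.ofHom (algebraMap k K))
  letI : Algebra k Ω := (Spec.preimage (s ≫ a)).hom.toAlgebra
  have hα : Spec.map (CommRingCat.ofHom (algebraMap k Ω)) = s ≫ a := Spec.map_preimage (s ≫ a)
  haveI : ConnectedSpace (PrimeSpectrum (K ⊗[k] Ω)) := H9FE.TensConn.connectedSpace
  haveI : ConnectedSpace ↥(Spec (CommRingCat.of (K ⊗[k] Ω))) :=
    (inferInstance : ConnectedSpace (PrimeSpectrum (K ⊗[k] Ω)))
  let e : Spec (CommRingCat.of (K ⊗[k] Ω)) ≅ pullback (pullback.fst a b) s :=
    (pullbackSpecIso k K Ω).symm ≪≫ pullback.congrHom rfl hα ≪≫ pullbackSymmetry b (s ≫ a) ≪≫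
      (pullbackRightPullbackFstIso a b s).symm ≪≫ pullbackSymmetry s (pullback.fst a b)
  exact connected_of_iso e

theorem main {k K : Type u} [Field k] [IsSepClosed k] [Field K] [Algebra k K]
    {S : Scheme.{u}} (a : S ⟶ Spec (CommRingCat.of k)) (F : EtCoh.Ab S) :
    Function.Bijective (((EtCoh.pullPushAdj
      (pullback.fst a (Spec.map (CommRingCat.ofHom (algebraMap k K))))).unit.app F).hom.app
        (op (EtCoh.top S))) := by
  haveI : Flat (Spec.map (CommRingCat.ofHom (algebraMap k K))) := inferInstance
  exact Groth.Agent.S0094.result _ (fun Ω _ _ s => fibre_connected a Ω s) F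

end Aux

/-- For a scheme over a separably closed field k and a field extension K of k, global sections of an
abelian étale sheaf do not change under base change to K (the source proves this for sheaves of
sets; the abelian case is stated). -/
theorem result {k K : Type u} [Field k] [IsSepClosed k] [Field K] [Algebra k K]
    {S : Scheme.{u}} (a : S ⟶ Spec (CommRingCat.of k))
    [EtCoh.BCCont (pullback.fst a (Spec.map (CommRingCat.ofHom (algebraMap k K))))]
    (F : EtCoh.Ab S) :
    Function.Bijective (((EtCoh.pullPushAdj
      (pullback.fst a (Spec.map (CommRingCat.ofHom (algebraMap k K))))).unit.app F).hom.app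
        (op (EtCoh.top S))) := by
  exact Aux.main a F

end Groth.Agent.S0095
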