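import Groth.Statements.S9556
import Groth.Agent.Lib.Helper6.EtLoc.UnramPoint
import Groth.Agent.Lib.Helper6.EtLoc.Sep

set_option autoImplicit false
universe u
open EtLocal

namespace Groth.Agent.S9556

open AlgebraicGeometry CategoryTheory Limits in
/-- Let f : X ⟶ S be a separated morphism of schemes, s a point of S and x_1, …, x_n pairwise distinct
points of X over s such that f is unramified at each x_i (some open neighbourhood of x_i is locally
of finite type and formally unramified over S). Then there are an étale morphism g : U ⟶ S, a point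
u of U over s, and a decomposition of X_U = X ×_S U into pairwise disjoint open subschemes W and
finitely many V_k which together cover X_U, such that each V_k ⟶ U is a closed immersion whose image
contains u and no point of W over u maps to any of the x_i. -/
theorem result {X S : Scheme.{u}} (f : X ⟶ S)
    [IsSeparated f] (s : S)
    {ι : Type} [Finite ι] (x : ι → ↑X) (hinj : Function.Injective x) (hs : ∀ i, f (x i) = s)
    (hx : ∀ i, ∃ W : X.Opens, x i ∈ W ∧ LocallyOfFiniteType (W.ι ≫ f) ∧ FormallyUnramified (W.ι ≫ f)) :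
    ∃ (U : Scheme.{u}) (g : U ⟶ S) (u : U), Etale g ∧ g u = s ∧
      ∃ (K : Type) (_ : Finite K) (W : (pullback f g).Opens) (V : K → (pullback f g).Opens),
        W ⊔ (⨆ k, V k) = ⊤ ∧ (∀ k, Disjoint W (V k)) ∧ (∀ k k', k ≠ k' → Disjoint (V k) (V k')) ∧
        (∀ k, IsClosedImmersion ((V k).ι ≫ pullback.snd f g) ∧
          ∃ w : ↑(pullback f g), w ∈ V k ∧ pullback.snd f g w = u) ∧
        (∀ (w : ↑(pullback f g)) (i : ι), w ∈ W → pullback.snd f g w = u → pullback.fst f g w ≠ x i) := by
  have hpt : ∀ i, ∃ (U : Scheme.{u}) (g : U ⟶ S) (u : U), Etale g ∧ g u = s ∧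
      Lib.Helper6.EtLoc.NbhdData @IsClosedImmersion f (x i) g u := by
    intro i
    obtain ⟨W, hxW, hlft, hun⟩ := hx i
    obtain ⟨U, g, u, hg, hgu, hd⟩ := Lib.Helper6.EtLoc.unram_point f (x i) W hxW hlft hun
    exact ⟨U, g, u, hg, hgu.trans (hs i), hd⟩
  obtain ⟨U, g, u, hg, hgu, hd⟩ :=
    Lib.Helper6.EtLoc.exists_common_nbhd (P := @IsClosedImmersion) s ι x hpt
  obtain ⟨K, hK, lab, V, h1, h2, h3, h4⟩ := Lib.Helper6.EtLoc.assemble x hinj g u hd
  have hcl : ∀ k, IsClosed (V k : Set ↑(pullback f g)) := by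
    intro k
    have hc1 : IsClosedImmersion ((V k).ι ≫ pullback.snd f g) := (h1 k).1
    have hc2 : IsClosedImmersion (V k).ι := IsClosedImmersion.of_comp (V k).ι (pullback.snd f g)
    have hc3 := (V k).ι.isClosedEmbedding.isClosed_range
    rwa [Scheme.Opens.range_ι] at hc3
  obtain ⟨V', hle, hcl', hdisj, hP', hpts⟩ :=
    Lib.Helper6.EtLoc.disjointify (pullback.snd f g) u V hcl @IsClosedImmersion
      (fun i h _ hi hh => by
        have := hi
        have := hh
        infer_instance)
      (fun k => (h1 k).1) h3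
  let W : (pullback f g).Opens := ⟨(⋃ k, (V' k : Set ↑(pullback f g)))ᶜ,
    (isClosed_iUnion_of_finite hcl').isOpen_compl⟩
  have hW : ∀ w : ↑(pullback f g), w ∈ W ↔ ∀ k, w ∉ V' k := by
    intro w
    show w ∈ (⋃ k, (V' k : Set ↑(pullback f g)))ᶜ ↔ _
    simp
  refine ⟨U, g, u, hg, hgu, K, hK, W, V', ?_, ?_, hdisj, ?_, ?_⟩
  · rw [eq_top_iff]
    intro w _
    by_cases h : ∃ k, w ∈ V' k
    · obtain ⟨k, hk⟩ := h
      exact (le_sup_right : (⨆ k, V' k) ≤ W ⊔ ⨆ k, V' k) ((le_iSup V' k) hk)
    · push Not at h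
      exact (le_sup_left : W ≤ W ⊔ ⨆ k, V' k) ((hW w).mpr h)
  · intro k
    rw [disjoint_iff]
    ext w
    simp only [TopologicalSpace.Opens.coe_inf, Set.mem_inter_iff, SetLike.mem_coe,
      TopologicalSpace.Opens.coe_bot, Set.mem_empty_iff_false, iff_false, not_and]
    intro hwW hwk
    exact (hW w).mp hwW k hwk
  · intro k
    refine ⟨hP' k, ?_⟩
    obtain ⟨w, hw, hwu⟩ := (h1 k).2
    exact ⟨w, hpts k w hw hwu, hwu⟩
  · intro w i hwW hwu hwx
    obtain ⟨k, -, hk⟩ := h4 w i hwu hwx
    exact (hW w).mp hwW k (hpts k w hk hwu)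

end Groth.Agent.S9556
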