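import Groth.Statements.S0097
import Mathlib

set_option autoImplicit false
open CategoryTheory CategoryTheory.Limits AlgebraicGeometry Opposite
universe u
open EtBase

namespace Groth.Agent.S0097

section
open CategoryTheory CategoryTheory.Limits AlgebraicGeometry Opposite

section ring
variable {A B : Type*} [CommRing A] [CommRing B] [Algebra A B]

theorem ring_lemma [Module.Finite A B]
    [Algebra.FormallyUnramified A B] (p : Ideal A) [p.IsPrime] (q : Ideal B) [q.IsPrime]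
    (hq : p.primesOver B = {q})
    (hres : ∀ b : B, ∃ a : A, ∃ t : A, t ∉ p ∧ algebraMap A B t * b - algebraMap A B a ∈ q) :
    ∃ g : A, g ∉ p ∧ ∀ b : B, ∃ a : A, algebraMap A B g * b = algebraMap A B a := by
  classical
  have : q.LiesOver p := (hq.ge rfl).2
  let _ := Localization.AtPrime.algebraOfLiesOver p q
  have H : Function.Surjective (algebraMap p.ResidueField q.ResidueField) := by
    have hB : ∀ b : B, algebraMap B q.ResidueField b ∈
        (algebraMap p.ResidueField q.ResidueField).range := by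
      intro b
      obtain ⟨a, t, ht, hmem⟩ := hres b
      have h0 : algebraMap B q.ResidueField (algebraMap A B t * b - algebraMap A B a) = 0 :=
        Ideal.algebraMap_residueField_eq_zero.mpr hmem
      rw [map_sub, map_mul, sub_eq_zero] at h0
      have ht0 : algebraMap A p.ResidueField t ≠ 0 := fun h =>
        ht (Ideal.algebraMap_residueField_eq_zero.mp h)
      have hcomm : ∀ r : A, algebraMap B q.ResidueField (algebraMap A B r) =
          algebraMap p.ResidueField q.ResidueField (algebraMap A p.ResidueField r) := by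
        intro r
        rw [← IsScalarTower.algebraMap_apply, ← IsScalarTower.algebraMap_apply]
      refine ⟨algebraMap A p.ResidueField a / algebraMap A p.ResidueField t, ?_⟩
      rw [map_div₀, ← hcomm, ← hcomm, ← h0]
      rw [mul_div_cancel_left₀]
      rw [hcomm]
      exact fun h => ht0 ((map_eq_zero _).mp h)
    intro z
    obtain ⟨x, y, hy, rfl⟩ := IsFractionRing.div_surjective (A := B ⧸ q) z
    obtain ⟨x, rfl⟩ := Ideal.Quotient.mk_surjective x
    obtain ⟨y, rfl⟩ := Ideal.Quotient.mk_surjective y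
    rw [Ideal.algebraMap_quotient_residueField_mk, Ideal.algebraMap_quotient_residueField_mk]
    obtain ⟨u, hu⟩ := hB x
    obtain ⟨w, hw⟩ := hB y
    exact ⟨u / w, by rw [map_div₀, hu, hw]⟩
  have hsurj := Localization.localRingHom_surjective_of_primesOver_eq_singleton hq H
  have hpt : ∀ b : B, ∃ a : A, ∃ t : A, t ∉ p ∧ algebraMap A B t * b = algebraMap A B a := by
    intro b
    obtain ⟨z, hz⟩ := hsurj (algebraMap B (Localization.AtPrime q) b)
    obtain ⟨a, ⟨t, ht⟩, rfl⟩ := IsLocalization.exists_mk'_eq p.primeCompl z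
    rw [Localization.localRingHom_mk', IsLocalization.mk'_eq_iff_eq_mul, ← map_mul,
      IsLocalization.eq_iff_exists q.primeCompl] at hz
    obtain ⟨⟨c, hc⟩, hcz⟩ := hz
    obtain ⟨d, hd, e, he⟩ := Ideal.exists_notMem_dvd_algebraMap_of_primesOver_eq_singleton hq c hc
    refine ⟨d * a, d * t, ‹p.IsPrime›.mul_notMem hd ht, ?_⟩
    simp only at hcz
    rw [map_mul, map_mul, he]
    calc c * e * algebraMap A B t * b = e * (c * (b * algebraMap A B t)) := by ring
      _ = e * (c * algebraMap A B a) := by rw [← hcz]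
      _ = c * e * algebraMap A B a := by ring
  choose a t ht hat using hpt
  obtain ⟨s, hs⟩ := Module.Finite.fg_top (R := A) (M := B)
  refine ⟨∏ x ∈ s, t x, ?_, ?_⟩
  · exact fun h => by
      obtain ⟨x, _, hx⟩ := (Ideal.IsPrime.prod_mem_iff).mp h
      exact ht x hx
  · intro b
    have hb : b ∈ Submodule.span A (s : Set B) := by rw [hs]; trivial
    induction hb using Submodule.span_induction with
    | mem x hx =>
      refine ⟨(∏ y ∈ s.erase x, t y) * a x, ?_⟩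
      rw [← Finset.prod_erase_mul s t hx, map_mul, mul_assoc, hat, map_mul]
    | zero => exact ⟨0, by simp⟩
    | add x y _ _ hx hy =>
      obtain ⟨a₁, h₁⟩ := hx
      obtain ⟨a₂, h₂⟩ := hy
      exact ⟨a₁ + a₂, by rw [mul_add, h₁, h₂, map_add]⟩
    | smul r x _ hx =>
      obtain ⟨a₁, h₁⟩ := hx
      refine ⟨r * a₁, ?_⟩
      rw [Algebra.smul_def, map_mul, ← h₁]
      ring

end ring


section scheme
variable {X S : Scheme.{u}} (f : X ⟶ S)

set_option backward.isDefEq.respectTransparency false in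
/-- membership in the prime ideal of a point of an affine open -/
theorem notMem_primeIdealOf_iff {Y : Scheme.{u}} {V : Y.Opens} (hV : IsAffineOpen V) (y : Y) (hy : y ∈ V)
    (b : Γ(Y, V)) : b ∉ (hV.primeIdealOf ⟨y, hy⟩).asIdeal ↔ y ∈ Y.basicOpen b := by
  rw [← PrimeSpectrum.mem_basicOpen, IsAffineOpen.primeIdealOf,
      ← hV.fromSpec_preimage_basicOpen, Scheme.Hom.mem_preimage, ← Scheme.Hom.comp_apply,
      IsAffineOpen.isoSpec_hom, IsAffineOpen.toSpecΓ_fromSpec]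
  rfl

theorem mem_primeIdealOf_iff {Y : Scheme.{u}} {V : Y.Opens} (hV : IsAffineOpen V) (y : Y) (hy : y ∈ V)
    (b : Γ(Y, V)) : b ∈ (hV.primeIdealOf ⟨y, hy⟩).asIdeal ↔ Y.evaluation V y hy b = 0 := by
  rw [Scheme.evaluation_eq_zero_iff_notMem_basicOpen, ← notMem_primeIdealOf_iff hV y hy b, not_not]

theorem primeIdealOf_surjective {Y : Scheme.{u}} {V : Y.Opens} (hV : IsAffineOpen V)
    (y' : PrimeSpectrum Γ(Y, V)) : ∃ (y : Y) (hy : y ∈ V), hV.primeIdealOf ⟨y, hy⟩ = y' := by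
  let z : ↥(Spec Γ(Y, V)) := y'
  refine ⟨(hV.isoSpec.inv z).1, (hV.isoSpec.inv z).2, ?_⟩
  exact Scheme.inv_hom_apply hV.isoSpec z

theorem primeIdealOf_injective {Y : Scheme.{u}} {V : Y.Opens} (hV : IsAffineOpen V)
    (y₁ y₂ : Y) (h₁ : y₁ ∈ V) (h₂ : y₂ ∈ V)
    (h : hV.primeIdealOf ⟨y₁, h₁⟩ = hV.primeIdealOf ⟨y₂, h₂⟩) : y₁ = y₂ := by
  have e₁ := hV.fromSpec_primeIdealOf ⟨y₁, h₁⟩
  have e₂ := hV.fromSpec_primeIdealOf ⟨y₂, h₂⟩
  rw [h] at e₁
  exact e₁.symm.trans e₂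

theorem hres_lemma (x : X) {V : S.Opens} (hV : IsAffineOpen V) (hxV : f x ∈ V)
    (hκ : Function.Surjective (f.residueFieldMap x)) (b : Γ(X, f ⁻¹ᵁ V)) :
    ∃ a t : Γ(S, V), t ∉ (hV.primeIdealOf ⟨f x, hxV⟩).asIdeal ∧
      X.evaluation (f ⁻¹ᵁ V) x hxV (f.app V t * b - f.app V a) = 0 := by
  obtain ⟨c, hc⟩ := hκ (X.evaluation (f ⁻¹ᵁ V) x hxV b)
  obtain ⟨σ, rfl⟩ := S.residue_surjective (f x) c
  let _ := S.presheaf.algebra_section_stalk ⟨f x, hxV⟩
  have hloc := hV.isLocalization_stalk ⟨f x, hxV⟩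
  obtain ⟨a, ⟨t, ht⟩, rfl⟩ := IsLocalization.exists_mk'_eq
    (hV.primeIdealOf ⟨f x, hxV⟩).asIdeal.primeCompl σ
  refine ⟨a, t, ht, ?_⟩
  have h1 := IsLocalization.mk'_spec (S.presheaf.stalk (f x)) a
    (⟨t, ht⟩ : (hV.primeIdealOf ⟨f x, hxV⟩).asIdeal.primeCompl)
  have h2 := congrArg (fun z => f.residueFieldMap x (S.residue (f x) z)) h1
  simp only [map_mul] at h2
  rw [hc] at h2
  have hnat : ∀ r : Γ(S, V), f.residueFieldMap x (S.residue (f x)
      (algebraMap Γ(S, V) (S.presheaf.stalk (f x)) r)) =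
      X.evaluation (f ⁻¹ᵁ V) x hxV (f.app V r) := by
    intro r
    exact Scheme.evaluation_naturality_apply f x hxV r
  rw [hnat, hnat] at h2
  rw [map_sub, map_mul, mul_comm, h2, sub_self]

theorem primesOver_eq (x : X) {V : S.Opens} (hV : IsAffineOpen V) (hxV : f x ∈ V)
    (hW : IsAffineOpen (f ⁻¹ᵁ V)) (hx : f.base ⁻¹' {f.base x} = {x}) :
    letI : Algebra Γ(S, V) Γ(X, f ⁻¹ᵁ V) := (f.app V).hom.toAlgebra
    (hV.primeIdealOf ⟨f x, hxV⟩).asIdeal.primesOver Γ(X, f ⁻¹ᵁ V) =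
      {(hW.primeIdealOf ⟨x, hxV⟩).asIdeal} := by
  let _ : Algebra Γ(S, V) Γ(X, f ⁻¹ᵁ V) := (f.app V).hom.toAlgebra
  have key : ∀ (y : X) (hy : y ∈ f ⁻¹ᵁ V),
      (hW.primeIdealOf ⟨y, hy⟩).asIdeal.comap (algebraMap Γ(S, V) Γ(X, f ⁻¹ᵁ V)) =
        (hV.primeIdealOf ⟨f y, hy⟩).asIdeal := by
    intro y hy
    have := IsAffineOpen.comap_primeIdealOf_appLE (f := f) V hV (f ⁻¹ᵁ V) hW le_rfl hy
    rw [← Scheme.Hom.app_eq_appLE] at this
    exact congrArg PrimeSpectrum.asIdeal this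
  ext Q
  simp only [Set.mem_singleton_iff]
  constructor
  · rintro ⟨hQ, hQo⟩
    obtain ⟨y, hy, hy'⟩ := primeIdealOf_surjective hW ⟨Q, hQ⟩
    have hQ' : Q = (hW.primeIdealOf ⟨y, hy⟩).asIdeal := by rw [hy']
    have h1 : (hV.primeIdealOf ⟨f x, hxV⟩).asIdeal = (hV.primeIdealOf ⟨f y, hy⟩).asIdeal := by
      rw [← key y hy, ← hQ']
      exact hQo.over
    have h2 : f x = f y := primeIdealOf_injective hV _ _ hxV hy (PrimeSpectrum.ext h1)
    have h3 : y ∈ f.base ⁻¹' {f.base x} := h2.symm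
    rw [hx] at h3
    have h4 : y = x := h3
    subst h4
    exact hQ'
  · rintro rfl
    refine ⟨(hW.primeIdealOf ⟨x, hxV⟩).isPrime, ⟨?_⟩⟩
    exact (key x hxV).symm

theorem app_basicOpen_surjective {V : S.Opens} (hW : IsAffineOpen (f ⁻¹ᵁ V)) (g : Γ(S, V))
    (hg : ∀ b : Γ(X, f ⁻¹ᵁ V), ∃ a : Γ(S, V), f.app V g * b = f.app V a) :
    Function.Surjective (f.app (S.basicOpen g)) := by
  intro z
  have hle : S.basicOpen g ≤ V := S.basicOpen_le g
  have hle' : f ⁻¹ᵁ (S.basicOpen g) ≤ f ⁻¹ᵁ V := fun _ h => hle h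
  have e : f ⁻¹ᵁ (S.basicOpen g) = X.basicOpen (f.app V g) := Scheme.preimage_basicOpen f g
  let _ : Algebra Γ(X, f ⁻¹ᵁ V) Γ(X, f ⁻¹ᵁ (S.basicOpen g)) :=
    (X.presheaf.map (homOfLE hle').op).hom.toAlgebra
  have hloc : IsLocalization.Away (f.app V g) Γ(X, f ⁻¹ᵁ (S.basicOpen g)) :=
    hW.isLocalization_of_eq_basicOpen (f.app V g) (homOfLE hle') e
  obtain ⟨b, ⟨_, n, rfl⟩, rfl⟩ := IsLocalization.exists_mk'_eq (Submonoid.powers (f.app V g)) z
  have hnat : ∀ a : Γ(S, V), f.app (S.basicOpen g) (S.presheaf.map (homOfLE hle).op a) =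
      algebraMap Γ(X, f ⁻¹ᵁ V) Γ(X, f ⁻¹ᵁ (S.basicOpen g)) (f.app V a) := by
    intro a
    have := ConcreteCategory.congr_hom (f.naturality (homOfLE hle).op) a
    rw [CommRingCat.comp_apply, CommRingCat.comp_apply] at this
    exact this
  have hunit : IsUnit (S.presheaf.map (homOfLE hle).op g) :=
    S.toRingedSpace.isUnit_res_basicOpen g
  obtain ⟨u, hu⟩ := hunit
  have hu' : S.presheaf.map (homOfLE hle).op g = (u : Γ(S, S.basicOpen g)) := hu.symm
  obtain ⟨a, ha⟩ := hg b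
  refine ⟨S.presheaf.map (homOfLE hle).op a * ((u⁻¹ : (Γ(S, S.basicOpen g))ˣ) : Γ(S, S.basicOpen g)) ^ (n + 1), ?_⟩
  rw [IsLocalization.eq_mk'_iff_mul_eq]
  simp only [map_mul, map_pow]
  rw [hnat a, ← ha, map_mul, ← hnat g, hu']
  have h1 : f.app (S.basicOpen g) (u : Γ(S, S.basicOpen g)) *
      f.app (S.basicOpen g) ((u⁻¹ : (Γ(S, S.basicOpen g))ˣ) : Γ(S, S.basicOpen g)) = 1 := by
    rw [← map_mul, Units.mul_inv, map_one]
  generalize f.app (S.basicOpen g) (u : Γ(S, S.basicOpen g)) = c at h1 ⊢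
  generalize f.app (S.basicOpen g) ((u⁻¹ : (Γ(S, S.basicOpen g))ˣ) : Γ(S, S.basicOpen g)) = d at h1 ⊢
  calc c * algebraMap Γ(X, f ⁻¹ᵁ V) Γ(X, f ⁻¹ᵁ (S.basicOpen g)) b * d ^ (n + 1) * c ^ n
      = algebraMap Γ(X, f ⁻¹ᵁ V) Γ(X, f ⁻¹ᵁ (S.basicOpen g)) b * (c * d) ^ (n + 1) := by ring
    _ = _ := by rw [h1, one_pow, mul_one]

theorem main_aux [IsFinite f] [FormallyUnramified f] (x : X)
    (hx : f.base ⁻¹' {f.base x} = {x}) (hκ : Function.Surjective (f.residueFieldMap x)) :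
    ∃ U : S.Opens, f.base x ∈ U ∧ IsClosedImmersion (f ∣_ U) := by
  obtain ⟨V, hV, hsV, -⟩ := exists_isAffineOpen_mem_and_subset (x := f.base x) (U := ⊤) trivial
  have hW : IsAffineOpen (f ⁻¹ᵁ V) := hV.preimage f
  have hxW : x ∈ f ⁻¹ᵁ V := hsV
  let φ : Γ(S, V) →+* Γ(X, f ⁻¹ᵁ V) := (f.app V).hom
  let _ : Algebra Γ(S, V) Γ(X, f ⁻¹ᵁ V) := φ.toAlgebra
  have hfin : Module.Finite Γ(S, V) Γ(X, f ⁻¹ᵁ V) := IsFinite.finite_app f V hV
  have hunr : Algebra.FormallyUnramified Γ(S, V) Γ(X, f ⁻¹ᵁ V) := by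
    have := HasRingHomProperty.appLE @FormallyUnramified f inferInstance ⟨V, hV⟩ ⟨f ⁻¹ᵁ V, hW⟩ le_rfl
    rw [← Scheme.Hom.app_eq_appLE] at this
    exact this
  have hq := primesOver_eq f x hV hsV hW hx
  have hres : ∀ b : Γ(X, f ⁻¹ᵁ V), ∃ a t : Γ(S, V), t ∉ (hV.primeIdealOf ⟨f x, hsV⟩).asIdeal ∧
      algebraMap Γ(S, V) Γ(X, f ⁻¹ᵁ V) t * b - algebraMap Γ(S, V) Γ(X, f ⁻¹ᵁ V) a ∈
        (hW.primeIdealOf ⟨x, hsV⟩).asIdeal := by
    intro b
    obtain ⟨a, t, ht, h⟩ := hres_lemma f x hV hsV hκ b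
    exact ⟨a, t, ht, (mem_primeIdealOf_iff hW x hsV _).mpr h⟩
  obtain ⟨g, hgp, hg⟩ := ring_lemma (hV.primeIdealOf ⟨f x, hsV⟩).asIdeal
    (hW.primeIdealOf ⟨x, hsV⟩).asIdeal hq hres
  refine ⟨S.basicOpen g, (notMem_primeIdealOf_iff hV (f x) hsV g).mp hgp, ?_⟩
  have hUaff : IsAffineOpen (S.basicOpen g) := hV.basicOpen g
  have : IsAffine (S.basicOpen g).toScheme := hUaff
  have : IsAffine (f ⁻¹ᵁ (S.basicOpen g)).toScheme := hUaff.preimage f
  apply IsClosedImmersion.of_surjective_of_isAffine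
  rw [morphismRestrict_appTop]
  have h1 : Function.Surjective (f.app ((S.basicOpen g).ι ''ᵁ ⊤)) := by
    have : ∀ U' : S.Opens, U' = S.basicOpen g → Function.Surjective (f.app U') := by
      rintro _ rfl
      exact app_basicOpen_surjective f hW g hg
    exact this _ (Scheme.Opens.ι_image_top _)
  have h2 : Function.Surjective (X.presheaf.map
      (eqToHom (image_morphismRestrict_preimage f (S.basicOpen g) ⊤)).op) :=
    (ConcreteCategory.bijective_of_isIso _).2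
  intro z
  obtain ⟨w, rfl⟩ := h2 z
  obtain ⟨v, rfl⟩ := h1 w
  exact ⟨v, rfl⟩

theorem main [IsFinite f] [FormallyUnramified f] (s : S) (x : X)
    (hx : f.base ⁻¹' {s} = {x}) (hκ : Function.Surjective (f.residueFieldMap x)) :
    ∃ U : S.Opens, s ∈ U ∧ IsClosedImmersion (f ∣_ U) := by
  have hs : f.base x = s := by
    have : x ∈ f.base ⁻¹' {s} := by rw [hx]; rfl
    exact this
  subst hs
  exact main_aux f x hx hκ

end scheme

end


/-- A finite unramified morphism whose fibre over a point s is a single point with the same residue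
field is a closed immersion over an open neighbourhood of s. -/
theorem result {X S : Scheme.{u}} (f : X ⟶ S) [IsFinite f] [FormallyUnramified f] (s : S) (x : X)
    (hx : f.base ⁻¹' {s} = {x}) (hκ : Function.Surjective (f.residueFieldMap x)) :
    ∃ U : S.Opens, s ∈ U ∧ IsClosedImmersion (f ∣_ U) := by
  classical
  exact main f s x hx hκ

end Groth.Agent.S0097
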