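import Groth.Statements.S0098
import Mathlib
import Groth.Agent.S0097

set_option autoImplicit false
open CategoryTheory CategoryTheory.Limits AlgebraicGeometry Opposite
universe u
open EtBase

namespace Groth.Agent.S0098

section
open CategoryTheory CategoryTheory.Limits AlgebraicGeometry Opposite

theorem main {X S : Scheme.{u}} (f : X ⟶ S) [IsFinite f] [AlgebraicGeometry.Etale f] (s : S) (x : X)
    (hx : f.base ⁻¹' {s} = {x}) (hκ : Function.Surjective (f.residueFieldMap x)) :
    ∃ U : S.Opens, s ∈ U ∧ IsIso (f ∣_ U) := by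
  obtain ⟨U, hsU, hU⟩ := Groth.Agent.S0097.result f s x hx hκ
  have hfx : f.base x = s := by
    have : x ∈ f.base ⁻¹' {s} := by rw [hx]; rfl
    exact this
  have h1 : Flat (f ∣_ U) := inferInstance
  have h2 : LocallyOfFinitePresentation (f ∣_ U) := inferInstance
  have h3 : Mono (f ∣_ U) := inferInstance
  have h4 : IsOpenImmersion (f ∣_ U) := IsOpenImmersion.of_flat_of_mono _
  let V : U.toScheme.Opens := (f ∣_ U).opensRange
  have hxU : x ∈ f ⁻¹ᵁ U := by
    show f.base x ∈ U
    rw [hfx]; exact hsU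
  refine ⟨U.ι ''ᵁ V, ?_, ?_⟩
  · refine ⟨⟨s, hsU⟩, ?_, rfl⟩
    let x' : (f ⁻¹ᵁ U).toScheme := ⟨x, hxU⟩
    refine ⟨x', ?_⟩
    apply Subtype.ext
    exact (morphismRestrict_base_coe f U x').trans hfx
  · have h5 : IsOpenImmersion (f ∣_ U ∣_ V) := inferInstance
    have h6 : Epi (f ∣_ U ∣_ V).base := by
      rw [TopCat.epi_iff_surjective]
      rintro ⟨y, hy⟩
      obtain ⟨z, hz⟩ := hy
      have hzV : z ∈ (f ∣_ U) ⁻¹ᵁ V := ⟨z, rfl⟩
      let z' : ((f ∣_ U) ⁻¹ᵁ V).toScheme := ⟨z, hzV⟩
      refine ⟨z', ?_⟩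
      apply Subtype.ext
      exact (morphismRestrict_base_coe (f ∣_ U) V z').trans hz
    have h7 : IsIso (f ∣_ U ∣_ V) := IsOpenImmersion.isIso _
    exact ((MorphismProperty.isomorphisms Scheme).arrow_mk_iso_iff
      (morphismRestrictRestrict f U V)).mp h7


end


/-- A finite étale morphism whose fibre over a point s is a single point with the same residue field is
an isomorphism over an open neighbourhood of s. -/
theorem result {X S : Scheme.{u}} (f : X ⟶ S) [IsFinite f] [AlgebraicGeometry.Etale f] (s : S) (x : X)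
    (hx : f.base ⁻¹' {s} = {x}) (hκ : Function.Surjective (f.residueFieldMap x)) :
    ∃ U : S.Opens, s ∈ U ∧ IsIso (f ∣_ U) := by
  classical
  exact main f s x hx hκ

end Groth.Agent.S0098
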