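import Groth.Statements.S0102
import Mathlib

set_option autoImplicit false
open CategoryTheory CategoryTheory.Limits AlgebraicGeometry Opposite
universe u
open EtBase

namespace Groth.Agent.S0102

section
open CategoryTheory CategoryTheory.Limits AlgebraicGeometry Opposite

theorem main {S : Scheme.{u}} (F : EtCoh.Ab S) (U : S.Etale) (σ : EtCoh.sect F U) :
    ∃ W : U.left.Opens, ∀ (V : S.Etale) (φ : V ⟶ U),
      F.obj.map φ.op σ = 0 ↔ Set.range φ.left.base ⊆ (W : Set U.left) := by
  let I := Σ V : S.Etale, {φ : V ⟶ U // F.obj.map φ.op σ = 0}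
  refine ⟨⟨⋃ p : I, Set.range p.2.1.left.base,
    isOpen_iUnion fun p => p.2.1.left.isOpenMap.isOpen_range⟩, ?_⟩
  intro V φ
  constructor
  · intro h
    exact Set.subset_iUnion (fun p : I => Set.range p.2.1.left.base) ⟨V, φ, h⟩
  · intro h
    let J := Σ V' : S.Etale, {ψ : V' ⟶ V // F.obj.map ψ.op (F.obj.map φ.op σ) = 0}
    have hcov : Sieve.ofArrows (fun j : J => j.1) (fun j : J => j.2.1) ∈
        S.smallEtaleTopology V := by
      rw [Scheme.ofArrows_mem_smallEtaleTopology_iff]
      ext v
      simp only [Set.mem_iUnion, Set.mem_range, Set.mem_univ, iff_true]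
      have hv : φ.left.base v ∈ ⋃ p : I, Set.range p.2.1.left.base := h ⟨v, rfl⟩
      obtain ⟨p, w, hw⟩ := Set.mem_iUnion.1 hv
      obtain ⟨z, hz1, hz2⟩ := Scheme.Pullback.exists_preimage_pullback
        (f := φ.left) (g := p.2.1.left) v w hw.symm
      have : Etale (pullback.fst φ.left p.2.1.left ≫ V.hom) := inferInstance
      let V' : S.Etale := Scheme.Etale.mk (pullback.fst φ.left p.2.1.left ≫ V.hom)
      let ψ : V' ⟶ V := MorphismProperty.Over.homMk (pullback.fst φ.left p.2.1.left) rfl
      let ψ' : V' ⟶ p.1 := MorphismProperty.Over.homMk (pullback.snd φ.left p.2.1.left) (by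
        show pullback.snd φ.left p.2.1.left ≫ p.1.hom = pullback.fst φ.left p.2.1.left ≫ V.hom
        rw [← MorphismProperty.Over.w p.2.1, ← MorphismProperty.Over.w φ, ← Category.assoc,
          ← Category.assoc, pullback.condition])
      have hcomm : ψ ≫ φ = ψ' ≫ p.2.1 := by
        apply MorphismProperty.Over.Hom.ext
        exact pullback.condition
      have hψ : F.obj.map ψ.op (F.obj.map φ.op σ) = 0 := by
        rw [← ConcreteCategory.comp_apply, ← F.obj.map_comp, ← op_comp, hcomm, op_comp,
          F.obj.map_comp, ConcreteCategory.comp_apply, p.2.2, map_zero]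
      exact ⟨⟨V', ψ, hψ⟩, z, hz1⟩
    refine (Sheaf.isSeparated F) V _ hcov _ _ ?_
    rintro Y f ⟨Y', g, _, ⟨j⟩, rfl⟩
    rw [map_zero, op_comp, F.obj.map_comp, ConcreteCategory.comp_apply, j.2.2, map_zero]


end


/-- A section of an abelian étale sheaf over an étale scheme U vanishes on pullback to an étale V → U
exactly when V maps into a certain largest open subset of U. -/
theorem result {S : Scheme.{u}} (F : EtCoh.Ab S) (U : S.Etale) (σ : EtCoh.sect F U) :
    ∃ W : U.left.Opens, ∀ (V : S.Etale) (φ : V ⟶ U),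
      F.obj.map φ.op σ = 0 ↔ Set.range φ.left.base ⊆ (W : Set U.left) := by
  classical
  exact main F U σ

end Groth.Agent.S0102
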