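import Groth.Statements.S0105
import Mathlib
import Groth.Prelude.Def_EtCore
import Groth.Agent.Lib.Helper9.FE.ConstUnit
import Groth.Agent.Lib.Helper9.FE.ConstSiteOver
import Groth.Agent.Lib.Helper9.FE.ConstSiteIso
import Groth.Agent.S6647
-- import your own Groth.Agent.* helpers here

set_option autoImplicit false
open CategoryTheory CategoryTheory.Limits AlgebraicGeometry Opposite
universe u
open EtBase

namespace Groth.Agent.S0105

open CategoryTheory CategoryTheory.Limits AlgebraicGeometry Opposite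
namespace Aux
set_option backward.isDefEq.respectTransparency false
set_option linter.style.haveILetI false
set_option linter.unusedSectionVars false
open H9FE H9FE.ConstUnit H9FE.ConstSite Groth.Agent.S14453.Aux Groth.Agent.S6647.Aux

theorem bot_not_mem {X : Scheme.{u}} (P : X.Etale) (p : P.left) :
    (⊥ : Sieve (Over.mk (𝟙 P))) ∉ (X.smallEtaleTopology.over P) (Over.mk (𝟙 P)) := by
  intro h
  rw [GrothendieckTopology.mem_over_iff, OrderIso.map_bot] at h
  have h' : (⊥ : Sieve P) ∈ X.smallEtaleTopology P := h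
  rw [mem_et_iff] at h'
  obtain ⟨W, g, y, hg, -, -⟩ := h' p
  exact hg

/-- overlapping members of a trivializing family have isomorphic value groups -/
theorem step1 {X : Scheme.{u}} (F : EtCoh.Ab X) {U₁ U₂ : X.Etale} (M₁ M₂ : Type)
    [AddCommGroup M₁] [AddCommGroup M₂] [Finite M₁] [Finite M₂]
    (α₁ : EtCoh.restr F U₁ ≅ (constantSheaf (X.smallEtaleTopology.over U₁)
      AddCommGrpCat.{u + 1}).obj (AddCommGrpCat.of (ULift.{u + 1} M₁)))
    (α₂ : EtCoh.restr F U₂ ≅ (constantSheaf (X.smallEtaleTopology.over U₂)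
      AddCommGrpCat.{u + 1}).obj (AddCommGrpCat.of (ULift.{u + 1} M₂)))
    (y₁ : U₁.left) (y₂ : U₂.left) (h : U₁.hom y₁ = U₂.hom y₂) : Nonempty (M₁ ≃+ M₂) := by
  let J := X.smallEtaleTopology
  obtain ⟨p, -⟩ := exists_prod_point y₁ y₂ h
  let P := prodObj X (toTop U₁) (toTop U₂)
  let αP := restrictIso.{u+1, u, u+1} J (prodFst X (toTop U₁) (toTop U₂)) α₁
  let βP := restrictIso.{u+1, u, u+1} J (prodSnd X (toTop U₁) (toTop U₂)) α₂
  haveI : Finite (AddCommGrpCat.of (ULift.{u + 1} M₁)) :=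
    inferInstanceAs (Finite (ULift.{u + 1} M₁))
  haveI : Finite (AddCommGrpCat.of (ULift.{u + 1} M₂)) :=
    inferInstanceAs (Finite (ULift.{u + 1} M₂))
  obtain ⟨e⟩ := nonempty_addEquiv_of_iso.{u+1, u, u+1} (J.over P) (αP.symm ≪≫ βP) (bot_not_mem P p)
  have e' : ULift.{u + 1} M₁ ≃+ ULift.{u + 1} M₂ := e
  exact ⟨AddEquiv.ulift.symm.trans (e'.trans AddEquiv.ulift)⟩

theorem main {X : Scheme.{u}} [ConnectedSpace X] (F : EtCoh.Ab X)
    (h : EtCoh.IsFiniteLocallyConstant F) :
    ∃ (M : Type) (_ : AddCommGroup M) (_ : Finite M) (ι : Type u) (U : ι → X.Etale),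
      EtCoh.Covers U ∧
      ∀ i, Nonempty (EtCoh.restr F (U i) ≅
        (constantSheaf (X.smallEtaleTopology.over (U i)) AddCommGrpCat.{u + 1}).obj
          (AddCommGrpCat.of (ULift.{u + 1} M))) := by
  classical
  obtain ⟨ι, U, hU, hα⟩ := h
  choose M iM fM α using hα
  obtain ⟨x₀⟩ := (inferInstance : Nonempty X)
  obtain ⟨i₀, y₀, hy₀⟩ := hU x₀
  let R : ι → Prop := fun i => Nonempty (@AddEquiv (M i) (M i₀) (iM i).toAdd (iM i₀).toAdd)
  let A : Set X := ⋃ (i : ι) (_ : R i), Set.range (U i).hom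
  have hopen : ∀ i, IsOpen (Set.range (U i).hom) := fun i => (U i).hom.isOpenMap.isOpen_range
  have hAo : IsOpen A := isOpen_iUnion (fun i => isOpen_iUnion (fun _ => hopen i))
  have hstep : ∀ i k (y₁ : (U i).left) (y₂ : (U k).left), (U i).hom y₁ = (U k).hom y₂ →
      Nonempty (@AddEquiv (M i) (M k) (iM i).toAdd (iM k).toAdd) := by
    intro i k y₁ y₂ hy
    letI := iM i
    letI := iM k
    haveI := fM i
    haveI := fM k
    exact step1 F (M i) (M k) (α i).some (α k).some y₁ y₂ hy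
  have hAc : IsOpen Aᶜ := by
    rw [isOpen_iff_forall_mem_open]
    intro x hx
    obtain ⟨i, y, hy⟩ := hU x
    refine ⟨Set.range (U i).hom, ?_, hopen i, ⟨y, hy⟩⟩
    rintro _ ⟨y', rfl⟩ hA
    apply hx
    simp only [A, Set.mem_iUnion] at hA ⊢
    obtain ⟨k, hk, y'', hy''⟩ := hA
    obtain ⟨e1⟩ := hstep i k y' y'' hy''.symm
    obtain ⟨e2⟩ := hk
    exact ⟨i, ⟨@AddEquiv.trans _ _ _ (iM i).toAdd (iM k).toAdd (iM i₀).toAdd e1 e2⟩, y, hy⟩
  have hAne : A.Nonempty := by
    refine ⟨x₀, ?_⟩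
    simp only [A, Set.mem_iUnion]
    exact ⟨i₀, ⟨@AddEquiv.refl _ (iM i₀).toAdd⟩, y₀, hy₀⟩
  have hAuniv : A = Set.univ := IsClopen.eq_univ ⟨⟨hAc⟩, hAo⟩ hAne
  have hR : ∀ i, Nonempty (U i).left → R i := by
    rintro i ⟨y⟩
    have hx : (U i).hom y ∈ A := by rw [hAuniv]; trivial
    simp only [A, Set.mem_iUnion] at hx
    obtain ⟨k, hk, y'', hy''⟩ := hx
    obtain ⟨e1⟩ := hstep i k y y'' hy''.symm
    obtain ⟨e2⟩ := hk
    exact ⟨@AddEquiv.trans _ _ _ (iM i).toAdd (iM k).toAdd (iM i₀).toAdd e1 e2⟩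
  refine ⟨M i₀, iM i₀, fM i₀, {i : ι // Nonempty (U i).left}, fun i => U i.1, ?_, ?_⟩
  · intro x
    obtain ⟨i, y, hy⟩ := hU x
    exact ⟨⟨i, ⟨y⟩⟩, y, hy⟩
  · rintro ⟨i, hi⟩
    obtain ⟨e⟩ := hR i hi
    letI := iM i
    letI := iM i₀
    let e' : ULift.{u + 1} (M i) ≃+ ULift.{u + 1} (M i₀) :=
      AddEquiv.ulift.trans (e.trans AddEquiv.ulift.symm)
    exact ⟨(α i).some ≪≫ (constantSheaf (X.smallEtaleTopology.over (U i))
      AddCommGrpCat.{u + 1}).mapIso (AddEquiv.toAddCommGrpIso e')⟩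

end Aux

/-- On a connected scheme X, a finite locally constant abelian sheaf F on the small étale site is, étale
locally, constant with one and the same finite group everywhere: there are a finite abelian group M
and an étale covering (U_i) of X such that the restriction of F to every U_i is isomorphic to the
constant sheaf with value M. (The published statement covers arbitrary locally constant sheaves of
modules; stated here for finite locally constant abelian sheaves.) -/
theorem result {X : Scheme.{u}} [ConnectedSpace X] (F : EtCoh.Ab X) (h : EtCoh.IsFiniteLocallyConstant F) :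
    ∃ (M : Type) (_ : AddCommGroup M) (_ : Finite M) (ι : Type u) (U : ι → X.Etale), EtCoh.Covers U ∧
      ∀ i, Nonempty (EtCoh.restr F (U i) ≅
        (constantSheaf (X.smallEtaleTopology.over (U i)) AddCommGrpCat.{u + 1}).obj
          (AddCommGrpCat.of (ULift.{u + 1} M))) := by
  exact Aux.main F h

end Groth.Agent.S0105
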