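import Groth.Statements.S0111
import Mathlib
import Groth.Prelude.Def_EtBase
import Groth.Prelude.Def_EtBaseX
import Groth.Agent.Lib.Helper9.FE.StrictHensCrit
import Groth.Agent.S14453
-- import your own Groth.Agent.* helpers here

set_option autoImplicit false
open CategoryTheory CategoryTheory.Limits AlgebraicGeometry Opposite
universe u
open EtBase

namespace Groth.Agent.S0111

open CategoryTheory CategoryTheory.Limits AlgebraicGeometry Opposite
open CategoryTheory CategoryTheory.Limits AlgebraicGeometry Opposite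
namespace Aux
set_option backward.isDefEq.respectTransparency false
set_option linter.style.haveILetI false
set_option linter.unusedSectionVars false
open H9FE Polynomial Groth.Agent.S14453.Aux

variable {X : Scheme.{u}} {Ω : Type u} [Field Ω] [IsSepClosed Ω]
  (ξ : Spec (CommRingCat.of Ω) ⟶ X)

/-- evaluation of functions on an étale neighbourhood at the geometric point -/
noncomputable def evW (W : X.Etale) (t : (Scheme.pointSmallEtale ξ).fiber.obj W) :
    (EtBase.OO X).obj (op W) ⟶ CommRingCat.of Ω :=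
  t.left.appTop ≫ (Scheme.ΓSpecIso (CommRingCat.of Ω)).hom

theorem evW_comp {W W' : X.Etale} (k : W' ⟶ W) (t' : (Scheme.pointSmallEtale ξ).fiber.obj W') :
    (EtBase.OO X).map k.op ≫ evW ξ W' t' = evW ξ W ((Scheme.pointSmallEtale ξ).fiber.map k t') := by
  unfold evW
  rw [← Category.assoc]
  congr 1

/-- the evaluation homomorphism from the étale local ring to `Ω` -/
noncomputable def ev : EtBase.etaleLocalRing ξ ⟶ CommRingCat.of Ω :=
  (Scheme.pointSmallEtale ξ).presheafFiberDesc (fun W t => evW ξ W t)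
    (fun _ _ k t' => evW_comp ξ k t')

theorem germ_ev (W : X.Etale) (t : (Scheme.pointSmallEtale ξ).fiber.obj W)
    (s : (EtBase.OO X).obj (op W)) :
    ev ξ ((Scheme.pointSmallEtale ξ).toPresheafFiber W t (EtBase.OO X) s) = evW ξ W t s := by
  have := (Scheme.pointSmallEtale ξ).toPresheafFiber_presheafFiberDesc
    (fun W t => evW ξ W t) (fun _ _ k t' => evW_comp ξ k t') W t
  exact congrArg (fun f => f s) this

/-- a lift of the geometric point to an open subscheme containing its image -/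
noncomputable def liftPt (W : X.Etale) (t : (Scheme.pointSmallEtale ξ).fiber.obj W)
    (O : W.left.Opens) (h : t.left (default : Spec (CommRingCat.of Ω)) ∈ O) :
    (Scheme.pointSmallEtale ξ).fiber.obj (opObj W O) :=
  Over.homMk (IsOpenImmersion.lift O.ι t.left (by
    rintro _ ⟨a, rfl⟩
    have ha : a = (default : Spec (CommRingCat.of Ω)) :=
      Subsingleton.elim (α := ↥(Spec (CommRingCat.of Ω))) a default
    rw [ha]
    exact ⟨⟨_, h⟩, rfl⟩)) (by
    have h1 : t.left ≫ W.hom = ξ := Over.w t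
    show IsOpenImmersion.lift O.ι t.left _ ≫ (O.ι ≫ W.hom) = ξ
    rw [← Category.assoc, IsOpenImmersion.lift_fac, h1])

theorem liftPt_map (W : X.Etale) (t : (Scheme.pointSmallEtale ξ).fiber.obj W)
    (O : W.left.Opens) (h : t.left (default : Spec (CommRingCat.of Ω)) ∈ O) :
    (Scheme.pointSmallEtale ξ).fiber.map (opι W O) (liftPt ξ W t O h) = t := by
  apply Over.OverMorphism.ext
  show IsOpenImmersion.lift O.ι t.left _ ≫ O.ι = t.left
  exact IsOpenImmersion.lift_fac _ _ _

theorem germ_restrict {W W' : X.Etale} (k : W' ⟶ W)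
    (t' : (Scheme.pointSmallEtale ξ).fiber.obj W') (t : (Scheme.pointSmallEtale ξ).fiber.obj W)
    (h : (Scheme.pointSmallEtale ξ).fiber.map k t' = t) (s : (EtBase.OO X).obj (op W)) :
    (Scheme.pointSmallEtale ξ).toPresheafFiber W t (EtBase.OO X) s =
      (Scheme.pointSmallEtale ξ).toPresheafFiber W' t' (EtBase.OO X) ((EtBase.OO X).map k.op s) := by
  subst h
  exact (GrothendieckTopology.Point.toPresheafFiber_w_apply (Scheme.pointSmallEtale ξ) k t'
    (EtBase.OO X) s).symm

theorem mem_basicOpen_of_evW_ne_zero (W : X.Etale) (t : (Scheme.pointSmallEtale ξ).fiber.obj W)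
    (s : (EtBase.OO X).obj (op W)) (h : evW ξ W t s ≠ 0) :
    t.left (default : Spec (CommRingCat.of Ω)) ∈ W.left.basicOpen (U := ⊤) s := by
  have hu : IsUnit (t.left.appTop s) := by
    have h1 : IsUnit ((Scheme.ΓSpecIso (CommRingCat.of Ω)).hom (t.left.appTop s)) :=
      IsUnit.mk0 _ h
    exact (isUnit_map_iff (Scheme.ΓSpecIso (CommRingCat.of Ω)).commRingCatIsoToRingEquiv _).1 h1
  have h2 := Scheme.basicOpen_of_isUnit _ hu
  have h3 := Scheme.preimage_basicOpen_top t.left s
  exact (SetLike.ext_iff.1 (h3.trans h2) (default : Spec (CommRingCat.of Ω))).2 trivial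

theorem isUnit_germ_of_evW_ne_zero (W : X.Etale) (t : (Scheme.pointSmallEtale ξ).fiber.obj W)
    (s : (EtBase.OO X).obj (op W)) (h : evW ξ W t s ≠ 0) :
    IsUnit ((Scheme.pointSmallEtale ξ).toPresheafFiber W t (EtBase.OO X) s) := by
  let O : W.left.Opens := W.left.basicOpen (U := ⊤) s
  have hO := mem_basicOpen_of_evW_ne_zero ξ W t s h
  rw [germ_restrict ξ (opι W O) (liftPt ξ W t O hO) t (liftPt_map ξ W t O hO) s]
  apply IsUnit.map
  -- the restriction of `s` to its basic open is a unit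
  have h1 : IsUnit (W.left.presheaf.map (homOfLE (le_top : O ≤ ⊤)).op s) :=
    RingedSpace.isUnit_res_basicOpen W.left.toRingedSpace s
  have h2 : (EtBase.OO X).map (opι W O).op s =
      O.topIso.inv (W.left.presheaf.map (homOfLE (le_top : O ≤ ⊤)).op s) := by
    have h3 : (EtBase.OO X).map (opι W O).op =
        W.left.presheaf.map (homOfLE (le_top : O ≤ ⊤)).op ≫ O.topIso.inv := by
      show O.ι.appTop = _
      rw [Scheme.Opens.ι_appTop, Scheme.Opens.topIso_inv, ← Functor.map_comp]
      rfl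
    rw [h3]
    rfl
  rw [h2]
  exact h1.map _

/-- the germ homomorphism -/
noncomputable abbrev germ (W : X.Etale) (t : (Scheme.pointSmallEtale ξ).fiber.obj W) :
    (EtBase.OO X).obj (op W) →+* EtBase.etaleLocalRing ξ :=
  ((Scheme.pointSmallEtale ξ).toPresheafFiber W t (EtBase.OO X)).hom

theorem range_germ_mono {W W' : X.Etale} (k : W' ⟶ W)
    (t' : (Scheme.pointSmallEtale ξ).fiber.obj W') (t : (Scheme.pointSmallEtale ξ).fiber.obj W)
    (h : (Scheme.pointSmallEtale ξ).fiber.map k t' = t) :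
    Set.range (germ ξ W t) ⊆ Set.range (germ ξ W' t') := by
  rintro _ ⟨s, rfl⟩
  exact ⟨(EtBase.OO X).map k.op s, (germ_restrict ξ k t' t h s).symm⟩

theorem exists_common (F : Finset (EtBase.etaleLocalRing ξ)) :
    ∃ (W : X.Etale) (t : (Scheme.pointSmallEtale ξ).fiber.obj W),
      ∀ r ∈ F, r ∈ Set.range (germ ξ W t) := by
  classical
  induction F using Finset.induction with
  | empty =>
    obtain ⟨e⟩ := IsCofiltered.nonempty (C := (Scheme.pointSmallEtale ξ).fiber.Elements)
    exact ⟨e.1, e.2, by simp⟩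
  | insert r F _ ih =>
    obtain ⟨W₂, t₂, h₂⟩ := ih
    obtain ⟨W₁, t₁, s₁, rfl⟩ :=
      (Scheme.pointSmallEtale ξ).toPresheafFiber_jointly_surjective (P := EtBase.OO X) r
    let e₁ : (Scheme.pointSmallEtale ξ).fiber.Elements := ⟨W₁, t₁⟩
    let e₂ : (Scheme.pointSmallEtale ξ).fiber.Elements := ⟨W₂, t₂⟩
    let e₀ := IsCofiltered.min e₁ e₂
    let p₁ : e₀ ⟶ e₁ := IsCofiltered.minToLeft e₁ e₂
    let p₂ : e₀ ⟶ e₂ := IsCofiltered.minToRight e₁ e₂
    refine ⟨e₀.1, e₀.2, ?_⟩
    intro r hr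
    rw [Finset.mem_insert] at hr
    rcases hr with rfl | hr
    · exact range_germ_mono ξ p₁.1 e₀.2 t₁ p₁.2 ⟨s₁, rfl⟩
    · exact range_germ_mono ξ p₂.1 e₀.2 t₂ p₂.2 (h₂ r hr)

theorem exists_monic_lift (P : (EtBase.etaleLocalRing ξ)[X]) (hP : P.Monic) :
    ∃ (W : X.Etale) (t : (Scheme.pointSmallEtale ξ).fiber.obj W)
      (Q : ((EtBase.OO X).obj (op W))[X]), Q.Monic ∧ Q.map (germ ξ W t) = P := by
  classical
  obtain ⟨W, t, h⟩ := exists_common ξ (P.support.image P.coeff)
  have hl : P ∈ Polynomial.lifts (germ ξ W t) := by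
    rw [Polynomial.lifts_iff_coeff_lifts]
    intro n
    by_cases hn : n ∈ P.support
    · exact h _ (Finset.mem_image_of_mem _ hn)
    · rw [Polynomial.notMem_support_iff.1 hn]
      exact ⟨0, map_zero _⟩
  haveI : Nontrivial (EtBase.etaleLocalRing ξ) := (ev ξ).hom.domain_nontrivial
  obtain ⟨Q, hQ, -, hQm⟩ := Polynomial.lifts_and_degree_eq_and_monic hl hP
  exact ⟨W, t, Q, hQm, hQ⟩

/-- the key lifting lemma over an affine étale neighbourhood -/
theorem lift_root_affine (A : CommRingCat.{u}) (g : Spec A ⟶ X) [Etale g]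
    (φ : A ⟶ CommRingCat.of Ω) (hτ : Spec.map φ ≫ g = ξ)
    (Q : (A : Type u)[X]) (hQ : Q.Monic) (ω : Ω)
    (h0 : (Q.map φ.hom).eval ω = 0) (h1 : (Q.map φ.hom).derivative.eval ω ≠ 0) :
    ∃ a : EtBase.etaleLocalRing ξ,
      (Q.map ((germ ξ (Scheme.Etale.mk g) (Over.homMk (Spec.map φ) hτ)).comp
        (Scheme.ΓSpecIso A).inv.hom)).eval a = 0 ∧ ev ξ a = ω := by
  classical
  let Pair : StandardEtalePair (A : Type u) :=
    ⟨Q, hQ, Q.derivative, ⟨1, 0, 1, by simp⟩⟩
  letI : Algebra (A : Type u) Ω := φ.hom.toAlgebra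
  have hmap : Pair.HasMap ω := by
    constructor
    · show Polynomial.aeval ω Q = 0
      rw [Polynomial.aeval_def, ← Polynomial.eval_map]
      exact h0
    · show IsUnit (Polynomial.aeval ω Q.derivative)
      rw [Polynomial.aeval_def, ← Polynomial.eval_map, ← Polynomial.derivative_map]
      exact IsUnit.mk0 _ h1
  let ψ : Pair.Ring →ₐ[(A : Type u)] Ω := Pair.lift ω hmap
  let B : CommRingCat.{u} := CommRingCat.of Pair.Ring
  let α : A ⟶ B := CommRingCat.ofHom (algebraMap (A : Type u) Pair.Ring)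
  let ψ' : B ⟶ CommRingCat.of Ω := CommRingCat.ofHom ψ.toRingHom
  have hαψ : α ≫ ψ' = φ := by
    ext x
    exact ψ.commutes x
  haveI : Etale (Spec.map α) := by
    rw [HasRingHomProperty.Spec_iff (P := @Etale)]
    exact RingHom.etale_algebraMap.2 inferInstance
  let V : X.Etale := Scheme.Etale.mk (Spec.map α ≫ g)
  let W : X.Etale := Scheme.Etale.mk g
  have hv : Spec.map ψ' ≫ (Spec.map α ≫ g) = ξ := by
    rw [← Category.assoc, ← Spec.map_comp, hαψ, hτ]
  let tV : (Scheme.pointSmallEtale ξ).fiber.obj V := Over.homMk (Spec.map ψ') hv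
  let tW : (Scheme.pointSmallEtale ξ).fiber.obj W := Over.homMk (Spec.map φ) hτ
  let k : V ⟶ W := MorphismProperty.Over.homMk (Spec.map α) rfl
  have hk : (Scheme.pointSmallEtale ξ).fiber.map k tV = tW := by
    apply Over.OverMorphism.ext
    show Spec.map ψ' ≫ Spec.map α = Spec.map φ
    rw [← Spec.map_comp, hαψ]
  let γ : Pair.Ring →+* EtBase.etaleLocalRing ξ :=
    (germ ξ V tV).comp (Scheme.ΓSpecIso B).inv.hom
  have hγ : (germ ξ W tW).comp (Scheme.ΓSpecIso A).inv.hom =
      γ.comp (algebraMap (A : Type u) Pair.Ring) := by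
    ext x
    show germ ξ W tW ((Scheme.ΓSpecIso A).inv x) =
      germ ξ V tV ((Scheme.ΓSpecIso B).inv (α x))
    rw [germ_restrict ξ k tV tW hk]
    congr 1
    have := congrArg (fun f => f x) (Scheme.ΓSpecIso_inv_naturality α)
    exact this.symm
  refine ⟨γ Pair.X, ?_, ?_⟩
  · show (Q.map ((germ ξ W tW).comp (Scheme.ΓSpecIso A).inv.hom)).eval (γ Pair.X) = 0
    rw [hγ, ← Polynomial.map_map, Polynomial.eval_map_apply]
    have : (Q.map (algebraMap (A : Type u) Pair.Ring)).eval Pair.X = 0 := by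
      rw [Polynomial.eval_map, ← Polynomial.aeval_def]
      exact (StandardEtalePair.hasMap_X (P := Pair)).1
    rw [this, map_zero]
  · show ev ξ (germ ξ V tV ((Scheme.ΓSpecIso B).inv Pair.X)) = ω
    rw [germ_ev]
    show (Scheme.ΓSpecIso (CommRingCat.of Ω)).hom ((Spec.map ψ').appTop
      ((Scheme.ΓSpecIso B).inv Pair.X)) = ω
    have h2 := congrArg (fun f => f Pair.X) (Scheme.ΓSpecIso_inv_naturality ψ')
    simp only at h2
    have h3 : (Spec.map ψ').appTop ((Scheme.ΓSpecIso B).inv Pair.X) =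
        (Scheme.ΓSpecIso (CommRingCat.of Ω)).inv (ψ' Pair.X) := h2.symm
    rw [h3]
    have h4 : (Scheme.ΓSpecIso (CommRingCat.of Ω)).hom
        ((Scheme.ΓSpecIso (CommRingCat.of Ω)).inv (ψ' Pair.X)) = ψ' Pair.X := by
      have := congrArg (fun f => f (ψ' Pair.X)) (Scheme.ΓSpecIso (CommRingCat.of Ω)).inv_hom_id
      exact this
    rw [h4]
    exact Pair.lift_X ω hmap

theorem lift_root (P : (EtBase.etaleLocalRing ξ)[X]) (hP : P.Monic) (ω : Ω)
    (h0 : (P.map (ev ξ).hom).eval ω = 0) (h1 : (P.map (ev ξ).hom).derivative.eval ω ≠ 0) :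
    ∃ a : EtBase.etaleLocalRing ξ, P.eval a = 0 ∧ ev ξ a = ω := by
  classical
  obtain ⟨W, t, Q, hQm, hQ⟩ := exists_monic_lift ξ P hP
  obtain ⟨A, j, _, hj, -⟩ := Scheme.exists_affine_mem_range_and_range_subset
    (x := t.left (default : Spec (CommRingCat.of Ω))) (U := ⊤) (by simp)
  let τ : Spec (CommRingCat.of Ω) ⟶ Spec A := IsOpenImmersion.lift j t.left (by
    rintro _ ⟨a, rfl⟩
    have ha : a = (default : Spec (CommRingCat.of Ω)) :=
      Subsingleton.elim (α := ↥(Spec (CommRingCat.of Ω))) a default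
    rw [ha]
    exact hj)
  have hτj : τ ≫ j = t.left := IsOpenImmersion.lift_fac _ _ _
  let φ : A ⟶ CommRingCat.of Ω := Spec.preimage τ
  have hφ : Spec.map φ = τ := Spec.map_preimage τ
  let g : Spec A ⟶ X := j ≫ W.hom
  have htW : t.left ≫ W.hom = ξ := Over.w t
  have hτ : Spec.map φ ≫ g = ξ := by
    show Spec.map φ ≫ (j ≫ W.hom) = ξ
    rw [hφ, ← Category.assoc, hτj, htW]
  let ρ : (EtBase.OO X).obj (op W) →+* (A : Type u) :=
    (Scheme.ΓSpecIso A).hom.hom.comp j.appTop.hom
  let QA : (A : Type u)[X] := Q.map ρ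
  have hQA : QA.Monic := hQm.map ρ
  let W' : X.Etale := Scheme.Etale.mk g
  let t' : (Scheme.pointSmallEtale ξ).fiber.obj W' := Over.homMk (Spec.map φ) hτ
  let k : W' ⟶ W := MorphismProperty.Over.homMk j rfl
  have hk : (Scheme.pointSmallEtale ξ).fiber.map k t' = t := by
    apply Over.OverMorphism.ext
    show Spec.map φ ≫ j = t.left
    rw [hφ, hτj]
  -- compatibility of evaluations
  have hev : φ.hom.comp ρ = (ev ξ).hom.comp (germ ξ W t) := by
    ext s
    show φ ((Scheme.ΓSpecIso A).hom (j.appTop s)) = ev ξ (germ ξ W t s)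
    rw [germ_ev]
    show _ = (Scheme.ΓSpecIso (CommRingCat.of Ω)).hom (t.left.appTop s)
    have e1 : t.left.appTop = j.appTop ≫ (Spec.map φ).appTop := by
      rw [← Scheme.Hom.comp_appTop, hφ, hτj]
    rw [e1]
    have e2 := congrArg (fun f => f (j.appTop s)) (Scheme.ΓSpecIso_naturality φ)
    exact e2.symm
  have hmapev : QA.map φ.hom = P.map (ev ξ).hom := by
    rw [← hQ, Polynomial.map_map, Polynomial.map_map, hev]
  obtain ⟨a, ha0, haω⟩ := lift_root_affine ξ A g φ hτ QA hQA ω
    (by rw [hmapev]; exact h0) (by rw [hmapev]; exact h1)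
  refine ⟨a, ?_, haω⟩
  have hgerm : ((germ ξ W' t').comp (Scheme.ΓSpecIso A).inv.hom).comp ρ = germ ξ W t := by
    ext s
    show germ ξ W' t' ((Scheme.ΓSpecIso A).inv ((Scheme.ΓSpecIso A).hom (j.appTop s))) =
      germ ξ W t s
    have e3 : (Scheme.ΓSpecIso A).inv ((Scheme.ΓSpecIso A).hom (j.appTop s)) = j.appTop s := by
      have := congrArg (fun f => f (j.appTop s)) (Scheme.ΓSpecIso A).hom_inv_id
      exact this
    rw [e3, germ_restrict ξ k t' t hk s]
    rfl
  have hPQ : QA.map ((germ ξ W' t').comp (Scheme.ΓSpecIso A).inv.hom) = P := by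
    rw [Polynomial.map_map, hgerm, hQ]
  rw [← hPQ]
  exact ha0

theorem isUnit_of_ev_ne_zero (a : EtBase.etaleLocalRing ξ) (h : ev ξ a ≠ 0) : IsUnit a := by
  obtain ⟨W, t, s, rfl⟩ :=
    (Scheme.pointSmallEtale ξ).toPresheafFiber_jointly_surjective (P := EtBase.OO X) a
  rw [germ_ev] at h
  exact isUnit_germ_of_evW_ne_zero ξ W t s h

theorem main : EtCoh.IsStrictlyHenselianLocalRing (EtBase.etaleLocalRing ξ) :=
  StrictHensCrit.main (ev ξ).hom (fun a h => isUnit_of_ev_ne_zero ξ a h)
    (fun P ω hP h0 h1 => lift_root ξ P hP ω h0 h1)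

end Aux

/-- Let X be a scheme and ξ : Spec Ω → X a geometric point, Ω a separably closed field. Then the étale
local ring of X at ξ (the stalk of the structure sheaf on the small étale site of X at ξ) is a
strictly henselian local ring. The published statement is stronger: it identifies this ring with the
strict henselization of the Zariski local ring at the underlying point of ξ; only the consequence
that it is strictly henselian is asserted here. -/
theorem result {X : Scheme.{u}} {Ω : Type u} [Field Ω] [IsSepClosed Ω]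
    (ξ : Spec (CommRingCat.of Ω) ⟶ X) : EtCoh.IsStrictlyHenselianLocalRing (EtBase.etaleLocalRing ξ) := by
  exact Aux.main ξ

end Groth.Agent.S0111
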