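import Groth.Statements.S0119
import Mathlib

set_option autoImplicit false
open CategoryTheory CategoryTheory.Limits AlgebraicGeometry Opposite
universe u
open EtBase

namespace Groth.Agent.S0119

section
open CategoryTheory CategoryTheory.Limits AlgebraicGeometry Opposite TensorProduct

section alg
variable (R T : Type u) [CommRing R] [CommRing T] [Algebra R T]

theorem isReduced_of_etale [IsNoetherianRing R] [IsReduced R] [Algebra.Etale R T] : IsReduced T := by
  classical
  have hfin : (minimalPrimes R).Finite := minimalPrimes.finite_of_isNoetherianRing R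
  let ι := {p : Ideal R // p ∈ minimalPrimes R}
  have hFin : Finite ι := hfin.to_subtype
  have hFt : Fintype ι := Fintype.ofFinite ι
  have hprime : ∀ i : ι, i.1.IsPrime := fun i => Ideal.IsMinimalPrime.isPrime i.2
  let K : ι → Type u := fun i => i.1.ResidueField
  let ψ : R →ₐ[R] (Π i, K i) := Algebra.ofId R _
  have hψ : Function.Injective ψ := by
    rw [injective_iff_map_eq_zero]
    intro r hr
    have hmem : ∀ i : ι, r ∈ i.1 := fun i => by
      have := congrFun hr i
      exact Ideal.algebraMap_residueField_eq_zero.mp this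
    have h1 : r ∈ sInf (minimalPrimes R) := by
      rw [Ideal.mem_sInf]
      intro p hp; exact hmem ⟨p, hp⟩
    rw [minimalPrimes, Ideal.sInf_minimalPrimes] at h1
    have h2 : r ∈ nilradical R := h1
    rw [nilradical_eq_zero] at h2
    exact h2
  have hflat : Module.Flat R T := inferInstance
  have hinj1 := Module.Flat.lTensor_preserves_injective_linearMap (M := T) ψ.toLinearMap hψ
  have hinj : Function.Injective
      (Algebra.TensorProduct.includeLeft : T →ₐ[R] T ⊗[R] (Π i, K i)) := by
    intro t₁ t₂ h
    have h' : (ψ.toLinearMap.lTensor T) (t₁ ⊗ₜ 1) = (ψ.toLinearMap.lTensor T) (t₂ ⊗ₜ 1) := by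
      simpa using h
    have := hinj1 h'
    have := congrArg (TensorProduct.rid R T) this
    simpa using this
  have hred : ∀ i, IsReduced (T ⊗[R] K i) := by
    intro i
    have : Algebra.Etale (K i) (K i ⊗[R] T) := inferInstance
    have : IsReduced (K i ⊗[R] T) := Algebra.FormallyUnramified.isReduced_of_field (K i) _
    exact isReduced_of_injective (Algebra.TensorProduct.comm R T (K i)).toRingEquiv.toRingHom
      (Algebra.TensorProduct.comm R T (K i)).injective
  have hredPi : IsReduced (Π i, T ⊗[R] K i) := inferInstance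
  have e := Algebra.TensorProduct.piRight R R T K
  have hredT : IsReduced (T ⊗[R] (Π i, K i)) :=
    isReduced_of_injective e.toRingEquiv.toRingHom e.injective
  exact isReduced_of_injective
    (Algebra.TensorProduct.includeLeft : T →ₐ[R] T ⊗[R] (Π i, K i)).toRingHom hinj

theorem isReduced_localization_of_etale (A B : Type u) [CommRing A] [CommRing B] [Algebra A B]
    [IsNoetherianRing A] [Algebra.Etale A B] (q : Ideal B) [q.IsPrime] (p : Ideal A) [p.IsPrime]
    [q.LiesOver p] (h : IsReduced (Localization.AtPrime p)) :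
    IsReduced (Localization.AtPrime q) := by
  have hnoeth : IsNoetherianRing (Localization.AtPrime p) :=
    IsLocalization.isNoetherianRing p.primeCompl _ inferInstance
  have hT : IsReduced (Localization.AtPrime p ⊗[A] B) :=
    isReduced_of_etale (Localization.AtPrime p) (Localization.AtPrime p ⊗[A] B)
  constructor
  intro z hz
  obtain ⟨b, s, rfl⟩ := IsLocalization.exists_mk'_eq q.primeCompl z
  obtain ⟨n, hn⟩ := hz
  rw [← IsLocalization.mk'_pow, IsLocalization.mk'_eq_zero_iff] at hn
  obtain ⟨t, ht⟩ := hn
  have hnil : IsNilpotent ((1 : Localization.AtPrime p) ⊗ₜ[A] ((t : B) * b)) := by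
    refine ⟨n + 1, ?_⟩
    have : ((t : B) * b) ^ (n + 1) = 0 := by
      calc ((t : B) * b) ^ (n + 1) = (t : B) ^ n * b * ((t : B) * b ^ n) := by ring
        _ = 0 := by rw [ht, mul_zero]
    rw [Algebra.TensorProduct.tmul_pow, this, TensorProduct.tmul_zero]
  have h0 : (1 : Localization.AtPrime p) ⊗ₜ[A] ((t : B) * b) = 0 := hT.eq_zero _ hnil
  have h0' : TensorProduct.mk A (Localization.AtPrime p) B 1 ((t : B) * b) = 0 := h0
  obtain ⟨a, ha⟩ := (IsLocalizedModule.eq_zero_iff p.primeCompl
    (TensorProduct.mk A (Localization.AtPrime p) B 1)).mp h0'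
  rw [IsLocalization.mk'_eq_zero_iff]
  refine ⟨⟨algebraMap A B a * t, ?_⟩, ?_⟩
  · refine Submonoid.mul_mem _ ?_ t.2
    show algebraMap A B a ∉ q
    intro hmem
    have : (a : A) ∈ q.under A := hmem
    rw [← Ideal.LiesOver.over (p := p) (P := q)] at this
    exact a.2 this
  · show algebraMap A B a * t * b = 0
    rw [mul_assoc, ← Algebra.smul_def]
    exact ha

end alg

section scheme
variable {X Y : Scheme.{u}} (f : X ⟶ Y)

theorem stalkMap_injective_of_flat [Flat f] (x : X) : Function.Injective (f.stalkMap x) := by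
  algebraize [(f.stalkMap x).hom]
  have : Module.FaithfullyFlat (Y.presheaf.stalk (f x)) (X.presheaf.stalk x) :=
    @Module.FaithfullyFlat.of_flat_of_isLocalHom _ _ _ _ _ _ _
      (Flat.stalkMap f x) (f.toLRSHom.prop x)
  exact ‹RingHom.FaithfullyFlat _›.injective

theorem main [AlgebraicGeometry.Etale f] [IsLocallyNoetherian Y] (x : X) :
    _root_.IsReduced (X.presheaf.stalk x) ↔ _root_.IsReduced (Y.presheaf.stalk (f.base x)) := by
  constructor
  · intro h
    exact isReduced_of_injective (f.stalkMap x).hom (stalkMap_injective_of_flat f x)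
  · intro h
    obtain ⟨V, hV, hyV, -⟩ := exists_isAffineOpen_mem_and_subset (x := f.base x) (U := ⊤) trivial
    have hxV : x ∈ f ⁻¹ᵁ V := hyV
    obtain ⟨U, hU, hxU, hUV⟩ := exists_isAffineOpen_mem_and_subset (x := x) (U := f ⁻¹ᵁ V) hxV
    have e : U ≤ f ⁻¹ᵁ V := hUV
    let φ : Γ(Y, V) →+* Γ(X, U) := (f.appLE V U e).hom
    let _ : Algebra Γ(Y, V) Γ(X, U) := φ.toAlgebra
    have het : Algebra.Etale Γ(Y, V) Γ(X, U) :=
      HasRingHomProperty.appLE @AlgebraicGeometry.Etale f inferInstance ⟨V, hV⟩ ⟨U, hU⟩ e
    have hnoeth : IsNoetherianRing Γ(Y, V) := IsLocallyNoetherian.component_noetherian ⟨V, hV⟩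
    let p := (hV.primeIdealOf ⟨f x, hyV⟩).asIdeal
    let q := (hU.primeIdealOf ⟨x, hxU⟩).asIdeal
    have hqp : q.LiesOver p := by
      constructor
      have := IsAffineOpen.comap_primeIdealOf_appLE (f := f) V hV U hU e hxU
      exact (congrArg PrimeSpectrum.asIdeal this).symm
    let _ := Y.presheaf.algebra_section_stalk ⟨f x, hyV⟩
    let _ := X.presheaf.algebra_section_stalk ⟨x, hxU⟩
    have hlocY := hV.isLocalization_stalk ⟨f x, hyV⟩
    have hlocX := hU.isLocalization_stalk ⟨x, hxU⟩
    let eY := IsLocalization.algEquiv p.primeCompl (Y.presheaf.stalk (f x)) (Localization.AtPrime p)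
    let eX := IsLocalization.algEquiv q.primeCompl (X.presheaf.stalk x) (Localization.AtPrime q)
    have h1 : _root_.IsReduced (Localization.AtPrime p) :=
      isReduced_of_injective eY.symm.toRingEquiv.toRingHom eY.symm.injective
    have h2 : _root_.IsReduced (Localization.AtPrime q) :=
      isReduced_localization_of_etale Γ(Y, V) Γ(X, U) q p h1
    exact isReduced_of_injective eX.toRingEquiv.toRingHom eX.injective

end scheme


end


/-- Let f : X → Y be an étale morphism of schemes with Y locally Noetherian, and let x ∈ X. Then the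
local ring O_{X,x} is reduced if and only if the local ring O_{Y,f(x)} is reduced. -/
theorem result {X Y : Scheme.{u}} (f : X ⟶ Y) [AlgebraicGeometry.Etale f]
    [IsLocallyNoetherian Y] (x : X) :
    _root_.IsReduced (X.presheaf.stalk x) ↔ _root_.IsReduced (Y.presheaf.stalk (f.base x)) := by
  classical
  exact main f x

end Groth.Agent.S0119
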