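import Groth.Statements.S0149
import Mathlib
import Groth.Prelude.Def_PBC
import Groth.Agent.Lib.Helper9.FE.LimTors
import Groth.Agent.Lib.Helper9.FE.LimNull2
import Groth.Agent.Lib.Helper9.FE.LimPush4
-- import your own Groth.Agent.* helpers here

set_option autoImplicit false
universe u
open CategoryTheory CategoryTheory.Limits AlgebraicGeometry Opposite
open EtPBC

namespace Groth.Agent.S0149

open CategoryTheory CategoryTheory.Limits AlgebraicGeometry Opposite
namespace Aux
set_option linter.unusedSectionVars false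
set_option linter.style.haveILetI false
set_option backward.isDefEq.respectTransparency false
open H9FE.LimTower H9FE.LimPush H9FE.LimNull H9FE.LimGeom H9FE.LimTors

theorem cd_directed {ι : Type u} [Preorder ι] [Nonempty ι] [IsDirected ι (· ≤ ·)]
    (Xs : ιᵒᵖ ⥤ Scheme.{u})
    (haff : ∀ ⦃a b : ιᵒᵖ⦄ (h : a ⟶ b), IsAffineHom (Xs.map h))
    (hqc : ∀ a, CompactSpace ↥(Xs.obj a)) (hqs : ∀ a, QuasiSeparatedSpace ↥(Xs.obj a))
    (c : Cone Xs) (hc : IsLimit c) (d : ℕ) (h : ∀ a, EtCoh.CohDimLE (Xs.obj a) d) :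
    EtCoh.CohDimLE c.pt d := by
  intro F hF q hq
  obtain ⟨hs, -⟩ := push_thm c (nullHyp haff c hc hqc hqs) q F
  refine ⟨fun ξ ξ' => ?_⟩
  have h0 : ∀ ξ : EtCoh.H c.pt F q, ξ = 0 := by
    intro ξ
    obtain ⟨j, ξj, hξ⟩ := hs ξ
    haveI := cu_affine Xs haff c hc j
    haveI : Subsingleton (EtCoh.H (XX Xs j) ((RSys c F).obj j) q) :=
      h (op j) _ (isTorsion_push (cu Xs c j) F hF) q hq
    rw [← hξ, Subsingleton.elim ξj 0, map_zero]
  rw [h0 ξ, h0 ξ']

theorem main {I : Type u} [SmallCategory I] [IsCofiltered I] (D : I ⥤ Scheme.{u})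
    [∀ {i j : I} (a : i ⟶ j), IsAffineHom (D.map a)]
    [∀ i, CompactSpace (D.obj i)] [∀ i, QuasiSeparatedSpace (D.obj i)]
    (c : Cone D) (hc : IsLimit c) (d : ℕ) (h : ∀ i, EtCoh.CohDimLE (D.obj i) d) :
    EtCoh.CohDimLE c.pt d := by
  obtain ⟨α, _, _, _, F, hF⟩ := IsFiltered.exists_directed Iᵒᵖ
  exact cd_directed (F.leftOp ⋙ D)
    (fun a b f => (inferInstance : IsAffineHom (D.map (F.leftOp.map f))))
    (fun a => (inferInstance : CompactSpace (D.obj (F.leftOp.obj a))))
    (fun a => (inferInstance : QuasiSeparatedSpace (D.obj (F.leftOp.obj a)))) (c.whisker F.leftOp)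
    ((Functor.Initial.isLimitWhiskerEquiv F.leftOp c).symm hc) d (fun a => h _)

end Aux

/-- If X = lim X_i is a cofiltered limit of quasi-compact quasi-separated schemes with affine transition
morphisms and cd(X_i) <= d for all i, then cd(X) <= d. -/
theorem result {I : Type u} [SmallCategory I] [IsCofiltered I] (D : I ⥤ Scheme.{u})
    [∀ {i j : I} (a : i ⟶ j), IsAffineHom (D.map a)]
    [∀ i, CompactSpace (D.obj i)] [∀ i, QuasiSeparatedSpace (D.obj i)]
    (c : Cone D) (hc : IsLimit c) (d : ℕ) (h : ∀ i, EtCoh.CohDimLE (D.obj i) d) :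
    EtCoh.CohDimLE c.pt d := by
  exact Aux.main D c hc d h

end Groth.Agent.S0149
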