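import Groth.Statements.S0152
import Mathlib

set_option autoImplicit false
universe u
open EtPBC

namespace Groth.Agent.S0152

section
open Topology

variable {X : Type u} [TopologicalSpace X]

theorem isClosed_constr {U : Set X} (ho : IsOpen U) (hc : IsCompact U) :
    IsClosed[constructibleTopology X] U := by
  rw [← @isOpen_compl_iff _ _ (constructibleTopology X)]
  apply IsCompact.isOpen_constructibleTopology_of_isClosed
  · rwa [compl_compl]
  · exact ho.isClosed_compl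

theorem constr_compact [SpectralSpace X] {ι : Type*} (t : ι → Set X)
    (ht : ∀ i, IsOpen (t i) ∧ IsCompact (t i)) (h : ⋂ i, t i = ∅) :
    ∃ u : Finset ι, ⋂ i ∈ u, t i = ∅ := by
  have hcpt : IsCompact (Set.univ : Set (WithConstructibleTopology X)) := isCompact_univ
  obtain ⟨u, hu⟩ := hcpt.elim_finite_subfamily_closed
    (fun i => WithTopology.ofTopology ⁻¹' (t i)) (fun i => by
      rw [WithTopology.isClosed_iff]
      exact isClosed_constr (ht i).1 (ht i).2) (by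
      rw [Set.univ_inter, ← Set.preimage_iInter, h, Set.preimage_empty])
  refine ⟨u, ?_⟩
  rw [Set.univ_inter] at hu
  ext x
  simp only [Set.mem_iInter, Set.mem_empty_iff_false, iff_false]
  intro hx
  have : WithTopology.toTopology (constructibleTopology X) x ∈
      ⋂ i ∈ u, WithTopology.ofTopology ⁻¹' (t i) := by
    simp only [Set.mem_iInter, Set.mem_preimage]
    exact hx
  rw [hu] at this
  exact this

theorem exists_nhd [SpectralSpace X] (Z : Set X) (hZ : IsClosed Z) (x : X)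
    (hx : Z ∩ closure {x} = ∅) : ∃ U : Set X, IsOpen U ∧ IsCompact U ∧ Z ⊆ U ∧ x ∉ U := by
  have h1 : ∀ z : Z, ∃ W : Set X, (IsOpen W ∧ IsCompact W) ∧ (z : X) ∈ W ∧ x ∉ W := by
    intro z
    have hz : (z : X) ∉ closure {x} := fun h => by
      have : (z : X) ∈ Z ∩ closure {x} := ⟨z.2, h⟩
      rw [hx] at this
      exact this
    rw [mem_closure_iff] at hz
    simp only [not_forall] at hz
    obtain ⟨V, hVo, hzV, hV⟩ := hz
    obtain ⟨W, hW, hzW, hWV⟩ :=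
      (PrespectralSpace.isTopologicalBasis (X := X)).exists_subset_of_mem_open hzV hVo
    refine ⟨W, hW, hzW, fun hxW => hV ⟨x, hWV hxW, rfl⟩⟩
  choose W hW hzW hxW using h1
  obtain ⟨s, hs⟩ := hZ.isCompact.elim_finite_subcover W (fun z => (hW z).1)
    (fun z hz => Set.mem_iUnion.2 ⟨⟨z, hz⟩, hzW ⟨z, hz⟩⟩)
  refine ⟨⋃ z ∈ s, W z, isOpen_biUnion fun z _ => (hW z).1,
    s.isCompact_biUnion fun z _ => (hW z).2, hs, ?_⟩
  simp only [Set.mem_iUnion, not_exists]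
  exact fun z _ => hxW z

theorem main (X : Type u) [TopologicalSpace X] [SpectralSpace X]
    (Z : Set X) (hZ : IsClosed Z)
    (hconn : ∀ x : X, IsConnected (Z ∩ closure {x}))
    (Z₁ Z₂ : Set X) (h₁ : IsClosed Z₁) (h₂ : IsClosed Z₂) (hdisj : Disjoint Z₁ Z₂) (hunion : Z₁ ∪ Z₂ = Z) :
    ∃ X₁ X₂ : Set X, IsClosed X₁ ∧ IsClosed X₂ ∧ Disjoint X₁ X₂ ∧ X₁ ∪ X₂ = Set.univ ∧
      Z₁ = Z ∩ X₁ ∧ Z₂ = Z ∩ X₂ := by
  have hd : ∀ y, y ∈ Z₁ → y ∈ Z₂ → False := fun y h1 h2 => Set.disjoint_left.1 hdisj h1 h2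
  -- (a)
  have ha1 : ∀ x : X, (Z₁ ∩ closure {x}).Nonempty ∨ (Z₂ ∩ closure {x}).Nonempty := by
    intro x
    obtain ⟨y, hy⟩ := (hconn x).nonempty
    rw [← hunion] at hy
    rcases hy.1 with h | h
    · exact Or.inl ⟨y, h, hy.2⟩
    · exact Or.inr ⟨y, h, hy.2⟩
  have ha2 : ∀ x : X, (Z₁ ∩ closure {x}).Nonempty → (Z₂ ∩ closure {x}).Nonempty → False := by
    intro x ⟨y1, hy1⟩ ⟨y2, hy2⟩
    have hpre := isPreconnected_closed_iff.1 (hconn x).isPreconnected Z₁ Z₂ h₁ h₂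
      (by rw [hunion]; exact Set.inter_subset_left)
      ⟨y1, ⟨hunion ▸ Or.inl hy1.1, hy1.2⟩, hy1.1⟩ ⟨y2, ⟨hunion ▸ Or.inr hy2.1, hy2.2⟩, hy2.1⟩
    obtain ⟨y, -, hy1', hy2'⟩ := hpre
    exact hd y hy1' hy2'
  -- (c)
  let ι := {p : Set X × Set X // (IsOpen p.1 ∧ IsCompact p.1 ∧ Z₁ ⊆ p.1) ∧
    (IsOpen p.2 ∧ IsCompact p.2 ∧ Z₂ ⊆ p.2)}
  have hc := constr_compact (fun p : ι => p.1.1 ∩ p.1.2)
    (fun p => ⟨p.2.1.1.inter p.2.2.1,
      QuasiSeparatedSpace.inter_isCompact _ _ p.2.1.1 p.2.1.2.1 p.2.2.1 p.2.2.2.1⟩) (by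
      ext x
      simp only [Set.mem_iInter, Set.mem_empty_iff_false, iff_false]
      intro hx
      have hnot : ¬ (Z₁ ∩ closure {x}).Nonempty ∨ ¬ (Z₂ ∩ closure {x}).Nonempty := by
        by_contra hcon
        rw [not_or, not_not, not_not] at hcon
        exact ha2 x hcon.1 hcon.2
      rcases hnot with h | h
      · obtain ⟨U, hUo, hUc, hZU, hxU⟩ := exists_nhd Z₁ h₁ x (Set.not_nonempty_iff_eq_empty.1 h)
        exact hxU (hx ⟨(U, Set.univ), ⟨hUo, hUc, hZU⟩,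
          ⟨isOpen_univ, isCompact_univ, Set.subset_univ _⟩⟩).1
      · obtain ⟨U, hUo, hUc, hZU, hxU⟩ := exists_nhd Z₂ h₂ x (Set.not_nonempty_iff_eq_empty.1 h)
        exact hxU (hx ⟨(Set.univ, U), ⟨isOpen_univ, isCompact_univ, Set.subset_univ _⟩,
          ⟨hUo, hUc, hZU⟩⟩).2)
  obtain ⟨u, hu⟩ := hc
  let U₁ : Set X := ⋂ p ∈ u, (p : ι).1.1
  let U₂ : Set X := ⋂ p ∈ u, (p : ι).1.2
  have hU₁o : IsOpen U₁ := isOpen_biInter_finset fun p _ => p.2.1.1
  have hU₂o : IsOpen U₂ := isOpen_biInter_finset fun p _ => p.2.2.1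
  have hZU₁ : Z₁ ⊆ U₁ := Set.subset_iInter₂ fun p _ => p.2.1.2.2
  have hZU₂ : Z₂ ⊆ U₂ := Set.subset_iInter₂ fun p _ => p.2.2.2.2
  have hUd : ∀ y, y ∈ U₁ → y ∈ U₂ → False := by
    intro y hy1 hy2
    have : y ∈ ⋂ p ∈ u, (p : ι).1.1 ∩ (p : ι).1.2 := by
      simp only [Set.mem_iInter]
      intro p hp
      exact ⟨Set.mem_iInter₂.1 hy1 p hp, Set.mem_iInter₂.1 hy2 p hp⟩
    rw [hu] at this
    exact this
  have hUu : ∀ y, y ∈ U₁ ∨ y ∈ U₂ := by
    intro y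
    rcases ha1 y with ⟨z, hz, hzy⟩ | ⟨z, hz, hzy⟩
    · left
      have hsp : y ⤳ z := specializes_iff_mem_closure.2 hzy
      exact hsp.mem_open hU₁o (hZU₁ hz)
    · right
      have hsp : y ⤳ z := specializes_iff_mem_closure.2 hzy
      exact hsp.mem_open hU₂o (hZU₂ hz)
  have hU₁c : U₁ = U₂ᶜ := by
    ext y
    constructor
    · exact fun h1 h2 => hUd y h1 h2
    · intro h
      exact (hUu y).resolve_right h
  refine ⟨U₁, U₂, ?_, ?_, ?_, ?_, ?_, ?_⟩
  · rw [hU₁c]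
    exact hU₂o.isClosed_compl
  · have : U₂ = U₁ᶜ := by rw [hU₁c, compl_compl]
    rw [this]
    exact hU₁o.isClosed_compl
  · exact Set.disjoint_left.2 fun y h1 h2 => hUd y h1 h2
  · ext y
    simp only [Set.mem_union, Set.mem_univ, iff_true]
    exact hUu y
  · ext y
    constructor
    · intro hy
      exact ⟨hunion ▸ Or.inl hy, hZU₁ hy⟩
    · rintro ⟨hyZ, hyU⟩
      rw [← hunion] at hyZ
      rcases hyZ with h | h
      · exact h
      · exact (hUd y hyU (hZU₂ h)).elim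
  · ext y
    constructor
    · intro hy
      exact ⟨hunion ▸ Or.inr hy, hZU₂ hy⟩
    · rintro ⟨hyZ, hyU⟩
      rw [← hunion] at hyZ
      rcases hyZ with h | h
      · exact (hUd y (hZU₁ h) hyU).elim
      · exact h


end


/-- Let X be a spectral space and Z a closed subset such that Z meets the closure of every point of X in
a connected (nonempty) set. If Z is the disjoint union of two closed subsets Z_1, Z_2 then X is the
disjoint union of closed subsets X_1, X_2 with Z_i = Z ∩ X_i. -/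
theorem result (X : Type u) [TopologicalSpace X] [SpectralSpace X]
    (Z : Set X) (hZ : IsClosed Z)
    (hconn : ∀ x : X, IsConnected (Z ∩ closure {x}))
    (Z₁ Z₂ : Set X) (h₁ : IsClosed Z₁) (h₂ : IsClosed Z₂) (hdisj : Disjoint Z₁ Z₂) (hunion : Z₁ ∪ Z₂ = Z) :
    ∃ X₁ X₂ : Set X, IsClosed X₁ ∧ IsClosed X₂ ∧ Disjoint X₁ X₂ ∧ X₁ ∪ X₂ = Set.univ ∧
      Z₁ = Z ∩ X₁ ∧ Z₂ = Z ∩ X₂ := by
  classical
  exact main X Z hZ hconn Z₁ Z₂ h₁ h₂ hdisj hunion

end Groth.Agent.S0152
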