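import Groth.Statements.S0621
import Mathlib
import Groth.Prelude.Def_EtBase
import Groth.Agent.Lib.Helper5.Misc.EtStalk
import Groth.Agent.Lib.Helper5.Misc.EtStalkPull
import Groth.Agent.Lib.Helper9.FE.BC0Germ
import Groth.Agent.Lib.Helper9.FE.FinGeoPt
import Groth.Agent.S0072
import Groth.Agent.S0631
-- import your own Groth.Agent.* helpers here

set_option autoImplicit false
open CategoryTheory CategoryTheory.Limits AlgebraicGeometry Opposite
universe u
open EtCore

namespace Groth.Agent.S0621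

open CategoryTheory CategoryTheory.Limits AlgebraicGeometry Opposite
namespace Aux

set_option backward.isDefEq.respectTransparency false
set_option linter.style.haveILetI false
set_option linter.unusedSectionVars false

open Groth.Agent.Lib.Helper5 H9FE Groth.Agent.S0072.Aux

variable {X Y X' Y' : Scheme.{u}} (f : X ⟶ Y) (g : Y' ⟶ Y) (f' : X' ⟶ Y') (g' : X' ⟶ X)
  (h : IsPullback g' f' f g) (F : EtCoh.Ab X)
variable {Ω : Type u} [Field Ω] [IsSepClosed Ω]

include h in
lemma isFinite_f' [IsFinite f] : IsFinite f' :=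
  MorphismProperty.of_isPullback (P := @IsFinite) h inferInstance

theorem stalk_bc_injective [IsFinite f] (hac : IsAlgClosed Ω)
    (η' : Spec (CommRingCat.of Ω) ⟶ Y') :
    Function.Injective ((EtCoh.stalk η').map (EtCoh.baseChange0 f g f' g' h.w F)) := by
  rw [injective_iff_map_eq_zero]
  intro a ha
  have hinj : Function.Injective ((EtStalkPull.stalkPullIso g η').hom.app ((EtCoh.push f).obj F)) :=
    ((ConcreteCategory.isIso_iff_bijective _).1 inferInstance).1
  apply hinj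
  rw [map_zero]
  apply phi_injective f (η' ≫ g) F hac
  intro ξ hξ
  obtain ⟨ξ', hg', hf'⟩ : ∃ ξ' : Spec (CommRingCat.of Ω) ⟶ X', ξ' ≫ g' = ξ ∧ ξ' ≫ f' = η' :=
    ⟨h.lift ξ η' hξ, h.lift_fst _ _ _, h.lift_snd _ _ _⟩
  subst hg'
  have c := BC0Germ.claim' f g f' g' h.w F ξ' η' hf'
  have c' := ConcreteCategory.congr_hom c
    ((EtStalkPull.stalkPullIso g η').hom.app ((EtCoh.push f).obj F) a)
  simp only [ConcreteCategory.comp_apply] at c'
  have e1 : (EtStalkPull.stalkPullIso g η').inv.app ((EtCoh.push f).obj F)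
      ((EtStalkPull.stalkPullIso g η').hom.app ((EtCoh.push f).obj F) a) = a := by
    have := ConcreteCategory.congr_hom
      ((EtStalkPull.stalkPullIso g η').hom_inv_id_app ((EtCoh.push f).obj F)) a
    simp only [ConcreteCategory.comp_apply, ConcreteCategory.id_apply] at this
    exact this
  have e2 : (EtStalkPull.stalkPullIso g' ξ').hom.app F
      (phi f' η' ((EtCoh.pull g').obj F) ξ' hf'
        ((EtCoh.stalk η').map (EtCoh.baseChange0 f g f' g' h.w F) a)) = 0 := by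
    rw [ha, map_zero, map_zero]
  have c'' := congrArg (fun z => (EtStalkPull.stalkPullIso g' ξ').hom.app F
      (phi f' η' ((EtCoh.pull g').obj F) ξ' hf'
        ((EtCoh.stalk η').map (EtCoh.baseChange0 f g f' g' h.w F) z))) e1
  exact c'.symm.trans (c''.trans e2)

theorem stalk_bc_surjective [IsFinite f] (hac : IsAlgClosed Ω)
    (η' : Spec (CommRingCat.of Ω) ⟶ Y') :
    Function.Surjective ((EtCoh.stalk η').map (EtCoh.baseChange0 f g f' g' h.w F)) := by
  haveI : IsFinite f' := isFinite_f' f g f' g' h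
  intro b
  haveI : Finite {ξ' : Spec (CommRingCat.of Ω) ⟶ X' // ξ' ≫ f' = η'} :=
    FinGeoPt.finite_lifts f' η'
  letI : Fintype {ξ' : Spec (CommRingCat.of Ω) ⟶ X' // ξ' ≫ f' = η'} := Fintype.ofFinite _
  classical
  have hξ : ∀ ξ' : {ξ' : Spec (CommRingCat.of Ω) ⟶ X' // ξ' ≫ f' = η'},
      (ξ'.1 ≫ g') ≫ f = η' ≫ g := fun ξ' => by
    rw [Category.assoc, h.w, ← Category.assoc, ξ'.2]
  let t : ∀ ξ' : {ξ' : Spec (CommRingCat.of Ω) ⟶ X' // ξ' ≫ f' = η'},
      (EtCoh.stalk (ξ'.1 ≫ g')).obj F := fun ξ' =>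
    (EtStalkPull.stalkPullIso g' ξ'.1).hom.app F
      (phi f' η' ((EtCoh.pull g').obj F) ξ'.1 ξ'.2 b)
  have hs : ∀ ξ' : {ξ' : Spec (CommRingCat.of Ω) ⟶ X' // ξ' ≫ f' = η'},
      ∃ a : (EtCoh.stalk (η' ≫ g)).obj ((EtCoh.push f).obj F),
        phi f (η' ≫ g) F (ξ'.1 ≫ g') (hξ ξ') a = t ξ' ∧
        ∀ (ξ : Spec (CommRingCat.of Ω) ⟶ X) (hξ0 : ξ ≫ f = η' ≫ g), ξ ≠ ξ'.1 ≫ g' →
          phi f (η' ≫ g) F ξ hξ0 a = 0 := fun ξ' =>
    phi_surj_single f (η' ≫ g) F (ξ'.1 ≫ g') (hξ ξ') (t ξ')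
  choose a₁ ha₁ ha₂ using hs
  let a₀ : (EtCoh.stalk (η' ≫ g)).obj ((EtCoh.push f).obj F) := ∑ ξ', a₁ ξ'
  have hinjg : ∀ ξ' ξ'' : {ξ' : Spec (CommRingCat.of Ω) ⟶ X' // ξ' ≫ f' = η'},
      ξ'.1 ≫ g' = ξ''.1 ≫ g' → ξ' = ξ'' := by
    intro ξ' ξ'' e
    apply Subtype.ext
    apply h.hom_ext e
    rw [ξ'.2, ξ''.2]
  have ha₀ : ∀ ξ' : {ξ' : Spec (CommRingCat.of Ω) ⟶ X' // ξ' ≫ f' = η'},
      phi f (η' ≫ g) F (ξ'.1 ≫ g') (hξ ξ') a₀ = t ξ' := by
    intro ξ'
    change (phi f (η' ≫ g) F (ξ'.1 ≫ g') (hξ ξ')) (∑ ξ'', a₁ ξ'') = t ξ'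
    rw [map_sum, Finset.sum_eq_single ξ']
    · exact ha₁ ξ'
    · intro ξ'' _ hne
      exact ha₂ ξ'' (ξ'.1 ≫ g') (hξ ξ') (fun e => hne (hinjg _ _ e.symm))
    · intro hn
      exact absurd (Finset.mem_univ _) hn
  refine ⟨(EtStalkPull.stalkPullIso g η').inv.app ((EtCoh.push f).obj F) a₀, ?_⟩
  have hsub : (EtCoh.stalk η').map (EtCoh.baseChange0 f g f' g' h.w F)
      ((EtStalkPull.stalkPullIso g η').inv.app ((EtCoh.push f).obj F) a₀) - b = 0 := by
    apply phi_injective f' η' ((EtCoh.pull g').obj F) hac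
    intro ξ' hξ'
    rw [map_sub, sub_eq_zero]
    have hinj' : Function.Injective ((EtStalkPull.stalkPullIso g' ξ').hom.app F) :=
      ((ConcreteCategory.isIso_iff_bijective _).1 inferInstance).1
    apply hinj'
    have c := ConcreteCategory.congr_hom (BC0Germ.claim' f g f' g' h.w F ξ' η' hξ') a₀
    simp only [ConcreteCategory.comp_apply] at c
    exact c.trans (ha₀ ⟨ξ', hξ'⟩)
  exact sub_eq_zero.1 hsub

theorem main [IsFinite f] : IsIso (EtCoh.baseChange0 f g f' g' h.w F) := by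
  haveI := EtStalk.pfc.{u}
  haveI := EtStalk.ab5'.{u}
  have hcov : ∀ y : Y', ∃ i : Y', (Groth.Agent.S0631.Aux.geomPtAlgAt i).ξ
      (default : Spec (CommRingCat.of (Groth.Agent.S0631.Aux.geomPtAlgAt i).Ω)) = y :=
    fun y => ⟨y, Groth.Agent.S0631.Aux.geomPtAlgAt_default y⟩
  have hb : ∀ y : Y', Function.Bijective
      (((Groth.Agent.S0631.Aux.geomPtAlgAt y).point.sheafFiber (A := AddCommGrpCat.{u + 1})).map
        (EtCoh.baseChange0 f g f' g' h.w F)) := by
    intro y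
    have hac : IsAlgClosed (Groth.Agent.S0631.Aux.geomPtAlgAt y).Ω :=
      (inferInstance : IsAlgClosed (AlgebraicClosure (Y'.residueField y)))
    exact ⟨stalk_bc_injective f g f' g' h F hac (Groth.Agent.S0631.Aux.geomPtAlgAt y).ξ,
      stalk_bc_surjective f g f' g' h F hac (Groth.Agent.S0631.Aux.geomPtAlgAt y).ξ⟩
  haveI : Mono (EtCoh.baseChange0 f g f' g' h.w F) := by
    rw [EtStalk.mono_iff_ab]
    intro U
    exact PointDetect.injective_app_of_injective_fibers
      (EtStalk.detects_of_cover (fun y : Y' => Groth.Agent.S0631.Aux.geomPtAlgAt y) hcov)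
      (EtCoh.baseChange0 f g f' g' h.w F) (fun y => (hb y).1) U
  haveI : Epi (EtCoh.baseChange0 f g f' g' h.w F) := by
    rw [← Sheaf.isLocallySurjective_iff_epi']
    exact PointDetect.isLocallySurjective_of_surjective_fibers
      (EtStalk.detects_of_cover (fun y : Y' => Groth.Agent.S0631.Aux.geomPtAlgAt y) hcov)
      (EtCoh.baseChange0 f g f' g' h.w F) (fun y => (hb y).2)
  exact isIso_of_mono_of_epi _

end Aux

/-- In a cartesian square of schemes X' = X x_Y Y' whose right vertical arrow f is finite, the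
degree-zero base change map from the pullback along g of f_* F to f'_* of the pullback of F along g'
is an isomorphism, for every abelian sheaf F on the small etale site of X (no torsion hypothesis). -/
theorem result {X Y X' Y' : Scheme.{u}} (f : X ⟶ Y) [IsFinite f] (g : Y' ⟶ Y)
    (f' : X' ⟶ Y') (g' : X' ⟶ X) (h : IsPullback g' f' f g) (F : EtCoh.Ab X) :
    IsIso (EtCoh.baseChange0 f g f' g' h.w F) := by
  exact Aux.main f g f' g' h F

end Groth.Agent.S0621
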