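import Groth.Statements.S0161
import Mathlib
import Groth.Prelude.Def_PBC
import Groth.Agent.S0621
import Groth.Agent.S3054
-- import your own Groth.Agent.* helpers here

set_option autoImplicit false
universe u
open CategoryTheory CategoryTheory.Limits AlgebraicGeometry Opposite
open EtPBC

namespace Groth.Agent.S0161

open CategoryTheory CategoryTheory.Limits AlgebraicGeometry Opposite
namespace Aux

set_option backward.isDefEq.respectTransparency false
set_option linter.style.haveILetI false
set_option linter.unusedSectionVars false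

variable {X Y : Scheme.{u}} (f : X ⟶ Y)

theorem main [IsFinite f] [EtCoh.BCCont f] : EtPBC.CohCommutesWithBC f := by
  intro X' Y' f' g' g _ _ _ h F _ q
  haveI : IsFinite f' := MorphismProperty.of_isPullback (P := @IsFinite) h inferInstance
  rcases Nat.eq_zero_or_pos q with rfl | hq
  · haveI : PreservesFiniteLimits (EtCoh.push f) :=
      (EtCoh.pullPushAdj f).rightAdjoint_preservesLimits.{0, 0}.preservesFiniteLimits
    haveI : PreservesFiniteLimits (EtCoh.push f') :=
      (EtCoh.pullPushAdj f').rightAdjoint_preservesLimits.{0, 0}.preservesFiniteLimits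
    haveI := Groth.Agent.S0621.result f g f' g' h F
    let i0 : (EtCoh.Rpush f 0).obj F ≅ (EtCoh.push f).obj F :=
      (Functor.rightDerivedZeroIsoSelf (EtCoh.push f)).app F
    let i0' : (EtCoh.Rpush f' 0).obj ((EtCoh.pull g').obj F) ≅
        (EtCoh.push f').obj ((EtCoh.pull g').obj F) :=
      (Functor.rightDerivedZeroIsoSelf (EtCoh.push f')).app _
    exact ⟨(EtCoh.pull g).mapIso i0 ≪≫ asIso (EtCoh.baseChange0 f g f' g' h.w F) ≪≫ i0'.symm⟩
  · have hz : IsZero ((EtCoh.Rpush f q).obj F) := Groth.Agent.S3054.result f F q hq
    have hz' : IsZero ((EtCoh.Rpush f' q).obj ((EtCoh.pull g').obj F)) :=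
      Groth.Agent.S3054.result f' _ q hq
    haveI : (EtCoh.pull g).IsLeftAdjoint := (EtCoh.pullPushAdj g).isLeftAdjoint
    haveI : (EtCoh.pull g).PreservesZeroMorphisms :=
      Functor.preservesZeroMorphisms_of_isLeftAdjoint _
    exact ⟨((EtCoh.pull g).map_isZero hz).iso hz'⟩

end Aux

/-- For a finite morphism f : X -> Y, cohomology commutes with base change: for every cartesian square
and torsion abelian F on X_et and every q, g^* R^q f_* F ≅ R^q f'_* g'^* F (abstract-isomorphism
form). -/
theorem result {X Y : Scheme.{u}} (f : X ⟶ Y) [IsFinite f] [EtCoh.BCCont f] :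
    EtPBC.CohCommutesWithBC f := by
  exact Aux.main f

end Groth.Agent.S0161
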