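import Groth.Statements.S0674
import Mathlib
import Groth.Statements.S0674
import Groth.Agent.Lib.Helper9.FE.BCAssemble
import Groth.Agent.Lib.Helper9.FE.BCStrict2
import Groth.Agent.Lib.Helper9.FE.FlatInd
import Groth.Agent.Lib.Helper9.FE.SHMap
import Groth.Agent.Lib.Helper9.FE.SHSpec
import Groth.Agent.Lib.Helper9.FE.ShriekEtIso
-- import your own Groth.Agent.* helpers here

set_option autoImplicit false
open CategoryTheory CategoryTheory.Limits AlgebraicGeometry Opposite
universe u
open EtCore

namespace Groth.Agent.S0674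

open CategoryTheory CategoryTheory.Limits AlgebraicGeometry Opposite
open EtCore
namespace Aux
set_option linter.style.haveILetI false
set_option linter.unusedSectionVars false
set_option linter.overlappingInstances false
set_option backward.isDefEq.respectTransparency false
open H9FE.BCConn H9FE.BCAssemble H9FE.BCStrict H9FE.SLocSect IsLocalRing
  Groth.Agent.Lib.Helper5 Groth.Agent.Helper7.SHens

/-- the compatibility of the strict localizations with `f` -/
lemma spec_comm {X S : Scheme.{u}} (f : X ⟶ S) (x : X)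
    (RS : Type u) [CommRing RS] [Algebra (S.presheaf.stalk (f.base x)) RS]
    (RX : Type u) [CommRing RX] [Algebra (X.presheaf.stalk x) RX]
    (ψ : RS →+* RX)
    (hψ : ψ.comp (algebraMap (S.presheaf.stalk (f.base x)) RS) =
      (algebraMap (X.presheaf.stalk x) RX).comp (f.stalkMap x).hom) :
    Spec.map (CommRingCat.ofHom ψ) ≫ Hens2.specOf S (f.base x) RS =
      Hens2.specOf X x RX ≫ f := by
  change Spec.map (CommRingCat.ofHom ψ) ≫
      Spec.map (CommRingCat.ofHom (algebraMap (S.presheaf.stalk (f.base x)) RS)) ≫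
        S.fromSpecStalk (f.base x) =
    (Spec.map (CommRingCat.ofHom (algebraMap (X.presheaf.stalk x) RX)) ≫ X.fromSpecStalk x) ≫ f
  rw [Category.assoc, ← Scheme.SpecMap_stalkMap_fromSpecStalk f (x := x), ← Category.assoc,
    ← Category.assoc, ← Spec.map_comp, ← Spec.map_comp]
  congr 2
  ext a
  exact RingHom.congr_fun hψ a

/-- the local statement at one point -/
theorem local_main {X S : Scheme.{u}} (f : X ⟶ S) [Flat f]
    {Y T : Scheme.{u}} (g : T ⟶ S) [QuasiCompact g] [QuasiSeparated g] (h : Y ⟶ X) (e : Y ⟶ T)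
    (hsq : IsPullback e h g f) (F : EtCoh.Ab T) (x : X)
    (RS : Type u) [CommRing RS] [IsLocalRing RS] [Algebra (S.presheaf.stalk (f.base x)) RS]
    [IsLocalHom (algebraMap (S.presheaf.stalk (f.base x)) RS)]
    [hS : Hensel.IsStrictHenselization (S.presheaf.stalk (f.base x)) RS]
    (RX : Type u) [CommRing RX] [IsLocalRing RX] [Algebra (X.presheaf.stalk x) RX]
    [IsLocalHom (algebraMap (X.presheaf.stalk x) RX)]
    [hX : Hensel.IsStrictHenselization (X.presheaf.stalk x) RX]
    [HenselianLocalRing RX] [IsSepClosed (ResidueField RX)] [IsSepClosed (ResidueField RS)]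
    (ψ : RS →+* RX) [IsLocalHom ψ]
    (hψ : ψ.comp (algebraMap (S.presheaf.stalk (f.base x)) RS) =
      (algebraMap (X.presheaf.stalk x) RX).comp (f.stalkMap x).hom)
    (hc : ∀ (Ω : Type u) [Field Ω] [IsAlgClosed Ω]
      (η : Spec (CommRingCat.of Ω) ⟶ Spec (CommRingCat.of RS)),
        ConnectedSpace ↥(pullback (Spec.map (CommRingCat.ofHom ψ)) η)) :
    IsIso ((EtCoh.stalk (cpt RX ≫ Hens2.specOf X x RX)).map
      (EtCoh.baseChange0 g f h e hsq.w F)) := by
  apply isIso_stalk_of_pull
  set j := Hens2.specOf X x RX with hj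
  set jS := Hens2.specOf S (f.base x) RS with hjS
  set p := Spec.map (CommRingCat.ofHom ψ) with hp
  have c : p ≫ jS = j ≫ f := spec_comm f x RS RX ψ hψ
  -- flatness
  have hflat : ψ.Flat :=
    H9FE.FlatInd.flat_of_strictHens (f.stalkMap x).hom (Flat.stalkMap f x) RS RX ψ hψ
  haveI : Flat p := Flat.SpecMap_iff.2 hflat
  haveI : QuasiCompact p := inferInstance
  -- `h` is quasi-compact and quasi-separated
  haveI : QuasiCompact h := MorphismProperty.of_isPullback hsq (inferInstance : QuasiCompact g)
  haveI : QuasiSeparated h :=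
    MorphismProperty.of_isPullback hsq (inferInstance : QuasiSeparated g)
  -- the morphism between the fibre products
  have w3 : (pullback.fst h j ≫ e) ≫ g = pullback.snd h j ≫ (j ≫ f) :=
    calc (pullback.fst h j ≫ e) ≫ g = pullback.fst h j ≫ (e ≫ g) := Category.assoc _ _ _
      _ = pullback.fst h j ≫ (h ≫ f) := by rw [hsq.w]
      _ = (pullback.fst h j ≫ h) ≫ f := (Category.assoc _ _ _).symm
      _ = (pullback.snd h j ≫ j) ≫ f := by rw [pullback.condition]
      _ = pullback.snd h j ≫ (j ≫ f) := Category.assoc _ _ _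
  have w3' : (pullback.fst h j ≫ e) ≫ g = (pullback.snd h j ≫ p) ≫ jS :=
    calc (pullback.fst h j ≫ e) ≫ g = pullback.snd h j ≫ (j ≫ f) := w3
      _ = pullback.snd h j ≫ (p ≫ jS) := by rw [c]
      _ = (pullback.snd h j ≫ p) ≫ jS := (Category.assoc _ _ _).symm
  let t : pullback h j ⟶ pullback g jS :=
    pullback.lift (pullback.fst h j ≫ e) (pullback.snd h j ≫ p) w3'
  have wt1 : t ≫ pullback.fst g jS = pullback.fst h j ≫ e := pullback.lift_fst _ _ _
  have wt2 : t ≫ pullback.snd g jS = pullback.snd h j ≫ p := pullback.lift_snd _ _ _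
  -- cartesian squares
  have big : IsPullback (pullback.fst h j ≫ e) (pullback.snd h j) g (j ≫ f) :=
    IsPullback.paste_horiz (IsPullback.of_hasPullback h j) hsq
  have big' : IsPullback (t ≫ pullback.fst g jS) (pullback.snd h j) g (p ≫ jS) := by
    rw [wt1, c]; exact big
  have sq : IsPullback t (pullback.snd h j) (pullback.snd g jS) p :=
    IsPullback.of_right big' wt2 (IsPullback.of_hasPullback g jS)
  have H3 : SecBij p := secBij_of_flat p hc
  have H4 : SecBij t := secBij_of_isPullback p t (pullback.snd h j) (pullback.snd g jS) sq.flip hc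
  haveI : IsSepClosed (ResidueField RS) := inferInstance
  exact assemble f g h e hsq.w j jS p (pullback.fst h j) (pullback.snd h j) pullback.condition
    (pullback.fst g jS) (pullback.snd g jS) pullback.condition t wt2 (j ≫ f)
    (pullback.fst h j ≫ e) w3 rfl rfl c wt1 F
    (bc_isIso_specOf h ((EtCoh.pull e).obj F) x RX)
    (bc_isIso_specOf g F (f.base x) RS) H3 H4

theorem main {X S : Scheme.{u}} (f : X ⟶ S) [Flat f]
    (hconn : ∀ (x : X) (RS : Type u) [CommRing RS] [IsLocalRing RS] [Algebra (S.presheaf.stalk (f.base x)) RS]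
      [IsLocalHom (algebraMap (S.presheaf.stalk (f.base x)) RS)]
      [Hensel.IsStrictHenselization (S.presheaf.stalk (f.base x)) RS]
      (RX : Type u) [CommRing RX] [IsLocalRing RX] [Algebra (X.presheaf.stalk x) RX]
      [IsLocalHom (algebraMap (X.presheaf.stalk x) RX)] [Hensel.IsStrictHenselization (X.presheaf.stalk x) RX]
      (ψ : RS →+* RX) [IsLocalHom ψ],
      ψ.comp (algebraMap (S.presheaf.stalk (f.base x)) RS) = (algebraMap (X.presheaf.stalk x) RX).comp (f.stalkMap x).hom →
      ∀ (Ω : Type u) [Field Ω] [IsAlgClosed Ω] (η : Spec (CommRingCat.of Ω) ⟶ Spec (CommRingCat.of RS)),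
        ConnectedSpace ↥(pullback (Spec.map (CommRingCat.ofHom ψ)) η))
    {Y T : Scheme.{u}} (g : T ⟶ S) [QuasiCompact g] [QuasiSeparated g] (h : Y ⟶ X) (e : Y ⟶ T)
    (hsq : IsPullback e h g f) (F : EtCoh.Ab T) :
    IsIso (EtCoh.baseChange0 g f h e hsq.w F) := by
  classical
  have key : ∀ x : X, ∃ P : EtStalk.GeomPt X,
      P.ξ (default : Spec (CommRingCat.of P.Ω)) = x ∧
      Function.Bijective ((P.point.sheafFiber (A := AddCommGrpCat.{u + 1})).map
        (EtCoh.baseChange0 g f h e hsq.w F)) := by
    intro x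
    obtain ⟨RX, _, _, _, _, hX⟩ := exists_isStrictHenselization (X.presheaf.stalk x)
    obtain ⟨RS, _, _, _, _, hS⟩ := exists_isStrictHenselization (S.presheaf.stalk (f.base x))
    obtain ⟨ψ, hψloc, hψ⟩ := H9FE.SHMap.exists_map (f.stalkMap x).hom RS RX
    haveI : HenselianLocalRing RX := hX.henselian
    haveI := hX.isSepClosure
    haveI := hS.isSepClosure
    haveI : IsSepClosed (ResidueField RX) :=
      IsSepClosure.sep_closed (ResidueField (X.presheaf.stalk x))
    haveI : IsSepClosed (ResidueField RS) :=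
      IsSepClosure.sep_closed (ResidueField (S.presheaf.stalk (f.base x)))
    refine ⟨⟨ResidueField RX, cpt RX ≫ Hens2.specOf X x RX⟩, ?_, ?_⟩
    · change (cpt RX ≫ Hens2.specOf X x RX) default = x
      rw [Scheme.Hom.comp_apply, cpt_apply]
      exact H9FE.SHSpec.specOf_closedPoint X x RX
    · haveI := local_main f g h e hsq F x RS RX ψ hψ (hconn x RS RX ψ hψ)
      exact (ConcreteCategory.isIso_iff_bijective _).1
        (inferInstanceAs (IsIso ((EtCoh.stalk (cpt RX ≫ Hens2.specOf X x RX)).map
          (EtCoh.baseChange0 g f h e hsq.w F))))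
  choose P hP1 hP2 using key
  exact H9FE.ShriekEtIso.isIso_of_stalks_family P (fun x => ⟨x, hP1 x⟩) _ (fun x => hP2 x)

end Aux

/-- Let f : X -> S be flat and assume that for every point x of X and all strict henselizations R_S of
the local ring of S at f(x) and R_X of the local ring of X at x, every local homomorphism R_S -> R_X
compatible with the map of local rings induces a morphism Spec R_X -> Spec R_S with connected
geometric fibres. Then for every cartesian square Y = X x_S T with g : T -> S quasi-compact and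
quasi-separated and projections h : Y -> X, e : Y -> T, the base change map from f^{-1} g_* F to h_*
e^{-1} F is an isomorphism for every abelian sheaf F on the small etale site of T. -/
theorem result {X S : Scheme.{u}} (f : X ⟶ S) [Flat f]
    (hconn : ∀ (x : X) (RS : Type u) [CommRing RS] [IsLocalRing RS] [Algebra (S.presheaf.stalk (f.base x)) RS]
      [IsLocalHom (algebraMap (S.presheaf.stalk (f.base x)) RS)]
      [Hensel.IsStrictHenselization (S.presheaf.stalk (f.base x)) RS]
      (RX : Type u) [CommRing RX] [IsLocalRing RX] [Algebra (X.presheaf.stalk x) RX]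
      [IsLocalHom (algebraMap (X.presheaf.stalk x) RX)] [Hensel.IsStrictHenselization (X.presheaf.stalk x) RX]
      (ψ : RS →+* RX) [IsLocalHom ψ],
      ψ.comp (algebraMap (S.presheaf.stalk (f.base x)) RS) = (algebraMap (X.presheaf.stalk x) RX).comp (f.stalkMap x).hom →
      ∀ (Ω : Type u) [Field Ω] [IsAlgClosed Ω] (η : Spec (CommRingCat.of Ω) ⟶ Spec (CommRingCat.of RS)),
        ConnectedSpace ↥(pullback (Spec.map (CommRingCat.ofHom ψ)) η))
    {Y T : Scheme.{u}} (g : T ⟶ S) [QuasiCompact g] [QuasiSeparated g] (h : Y ⟶ X) (e : Y ⟶ T)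
    (hsq : IsPullback e h g f) (F : EtCoh.Ab T) :
    IsIso (EtCoh.baseChange0 g f h e hsq.w F) := by
  exact Aux.main f hconn g h e hsq F

end Groth.Agent.S0674
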