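import Groth.Statements.S0175
import Mathlib
import Groth.Agent.Lib.Helper5.Misc.EtStalkFam
import Groth.Agent.Lib.Helper5.Misc.EtStalkPull
import Groth.Agent.Lib.Helper5.Misc.EtOpenImm
import Groth.Agent.Lib.Helper5.Misc.EtClosedDense
import Groth.Agent.Lib.Helper5.Misc.JContGen
import Groth.Agent.S0623
import Groth.Agent.S0654
import Groth.Agent.S0069

set_option autoImplicit false
universe u
open CategoryTheory CategoryTheory.Limits AlgebraicGeometry Opposite
open EtPBC

open Groth.Agent.Lib.Helper5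

namespace Groth.Agent.S0175

/-- Abstract injectivity transfer along a fully faithful mono-preserving functor. -/
lemma injective_of_fullyFaithful {A B : Type*} [Category A] [Category B]
    (L : B ⥤ A) [L.Full] [L.Faithful] [L.PreservesMonomorphisms]
    {K I : A} (ι : K ⟶ I) [Mono ι] [Injective I] (G₀ : B) (e : L.obj G₀ ≅ K)
    (hfac : ∀ (B' : B) (φ : L.obj B' ⟶ I), ∃ ψ : L.obj B' ⟶ K, ψ ≫ ι = φ) : Injective G₀ := by
  refine ⟨fun {B₁ B₂} f m hm => ?_⟩
  haveI : Mono (L.map m) := inferInstance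
  obtain ⟨g, hg⟩ : ∃ g : L.obj B₂ ⟶ I, L.map m ≫ g = L.map f ≫ e.hom ≫ ι :=
    ⟨Injective.factorThru (L.map f ≫ e.hom ≫ ι) (L.map m), Injective.comp_factorThru _ _⟩
  obtain ⟨g', hg'⟩ := hfac B₂ g
  refine ⟨L.preimage (g' ≫ e.inv), ?_⟩
  apply L.map_injective
  rw [L.map_comp, L.map_preimage]
  have h1 : (L.map m ≫ g' ≫ e.inv) ≫ e.hom ≫ ι = L.map f ≫ e.hom ≫ ι := by
    simp only [Category.assoc, Iso.inv_hom_id_assoc]
    rw [hg', hg]
  have h2 : Mono (e.hom ≫ ι) := inferInstance
  exact (cancel_mono (e.hom ≫ ι)).1 h1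

/-- If `j^* F = 0` for the open complement `j` of a closed immersion `i`, then `F → i_* i^* F`
is an isomorphism. -/
lemma isIso_unit_of_isZero_pull {Z X U : Scheme.{u}} (i : Z ⟶ X) [IsClosedImmersion i]
    (j : U ⟶ X) [IsOpenImmersion j] (hZU : Set.range j = (Set.range i)ᶜ)
    (F : EtCoh.Ab X) (hF : IsZero ((EtCoh.pull j).obj F)) :
    IsIso ((EtCoh.pullPushAdj i).unit.app F) := by
  haveI : (EtCoh.push i).Full := EtClosedDense.full_pushA i AddCommGrpCat.{u + 1}
  haveI : (EtCoh.push i).Faithful := EtClosedDense.faithful_pushA i AddCommGrpCat.{u + 1}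
  haveI : IsIso (EtCoh.pullPushAdj i).counit := inferInstance
  let P : (↥U ⊕ ↥Z) → EtStalk.GeomPt X := fun s => Sum.elim
    (fun p : ↥U => ⟨(EtStalk.geomPtAt p).Ω, (EtStalk.geomPtAt p).ξ ≫ j⟩)
    (fun z : ↥Z => ⟨(EtStalk.geomPtAt z).Ω, (EtStalk.geomPtAt z).ξ ≫ i⟩) s
  have hcov : ∀ x : X, ∃ s, (P s).ξ (default : Spec (CommRingCat.of (P s).Ω)) = x := by
    intro x
    by_cases hx : x ∈ Set.range i
    · obtain ⟨z, rfl⟩ := hx
      refine ⟨Sum.inr z, ?_⟩
      change i ((EtStalk.geomPtAt z).ξ default) = i z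
      rw [EtStalk.geomPtAt_default]
    · have hx' : x ∈ Set.range j := by rw [hZU]; exact hx
      obtain ⟨p, rfl⟩ := hx'
      refine ⟨Sum.inl p, ?_⟩
      change j ((EtStalk.geomPtAt p).ξ default) = j p
      rw [EtStalk.geomPtAt_default]
  apply EtStalkFam.isIso_of_stalks P hcov
  rintro (p | z)
  · have z1 : IsZero ((EtCoh.stalk ((EtStalk.geomPtAt p).ξ ≫ j)).obj F) :=
      ((EtCoh.stalk (EtStalk.geomPtAt p).ξ).map_isZero hF).of_iso
        ((EtStalkPull.stalkPullIso j (EtStalk.geomPtAt p).ξ).app F).symm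
    have z2 : IsZero ((EtCoh.stalk ((EtStalk.geomPtAt p).ξ ≫ j)).obj
        ((EtCoh.push i).obj ((EtCoh.pull i).obj F))) := by
      apply Groth.Agent.S0069.result i ((EtCoh.pull i).obj F)
      rw [Set.disjoint_left]
      rintro _ ⟨a, rfl⟩ hb
      have hb' : j ((EtStalk.geomPtAt p).ξ a) ∈ Set.range i := hb
      have hc : j ((EtStalk.geomPtAt p).ξ a) ∈ Set.range j := ⟨_, rfl⟩
      rw [hZU] at hc
      exact hc hb'
    exact isIso_of_source_target_iso_zero _ z1.isoZero z2.isoZero
  · have tri := (EtCoh.pullPushAdj i).left_triangle_components F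
    have h1 : IsIso ((EtCoh.pull i).map ((EtCoh.pullPushAdj i).unit.app F)) := by
      haveI : IsIso ((EtCoh.pull i).map ((EtCoh.pullPushAdj i).unit.app F) ≫
          (EtCoh.pullPushAdj i).counit.app ((EtCoh.pull i).obj F)) := by
        rw [tri]
        exact IsIso.id _
      exact IsIso.of_isIso_comp_right _ ((EtCoh.pullPushAdj i).counit.app ((EtCoh.pull i).obj F))
    have h3 : IsIso ((EtCoh.pull i ⋙ EtCoh.stalk (EtStalk.geomPtAt z).ξ).map
        ((EtCoh.pullPushAdj i).unit.app F)) := by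
      rw [Functor.comp_map]
      infer_instance
    exact (NatIso.isIso_map_iff (EtStalkPull.stalkPullIso i (EtStalk.geomPtAt z).ξ) _).1 h3

end Groth.Agent.S0175

namespace Groth.Agent.S0175

/-- Let i : Z → X be a closed immersion of schemes with open complement j : U → X, and I an injective
abelian sheaf on X_ét. Then the subsheaf H_Z(I) of sections supported on Z (the kernel of I → j_*
j^* I), viewed on Z_ét via i^*, is an injective abelian sheaf on Z_ét. -/
theorem result {Z X U : Scheme.{u}} (i : Z ⟶ X) [IsClosedImmersion i]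
    (j : U ⟶ X) [IsOpenImmersion j] (hZU : Set.range j = (Set.range i)ᶜ)
    [EtCoh.BCCont i] [EtCoh.BCCont j] (I : EtCoh.Ab X) [Injective I] :
    Injective ((EtCoh.pull i).obj (kernel ((EtCoh.pullPushAdj j).unit.app I))) := by
  haveI : EtShriek.JCont j := Misc.JContGen.jCont j
  haveI : Mono j := inferInstance
  have hzero : IsZero ((EtCoh.pull j).obj (kernel ((EtCoh.pullPushAdj j).unit.app I))) := by
    have e := PreservesKernel.iso (EtCoh.pull j) ((EtCoh.pullPushAdj j).unit.app I)
    have tri := (EtCoh.pullPushAdj j).left_triangle_components I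
    haveI : IsIso ((EtCoh.pull j).map ((EtCoh.pullPushAdj j).unit.app I)) := by
      haveI := EtOpenImm.isIso_counit_pullPush j ((EtCoh.pull j).obj I)
      haveI : IsIso ((EtCoh.pull j).map ((EtCoh.pullPushAdj j).unit.app I) ≫
          (EtCoh.pullPushAdj j).counit.app ((EtCoh.pull j).obj I)) := by
        rw [tri]
        exact IsIso.id _
      exact IsIso.of_isIso_comp_right _ ((EtCoh.pullPushAdj j).counit.app ((EtCoh.pull j).obj I))
    exact (isZero_kernel_of_mono _).of_iso e
  haveI := isIso_unit_of_isZero_pull i j hZU _ hzero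
  haveI : (EtCoh.push i).Full := EtClosedDense.full_pushA i AddCommGrpCat.{u + 1}
  haveI : (EtCoh.push i).Faithful := EtClosedDense.faithful_pushA i AddCommGrpCat.{u + 1}
  haveI : (EtCoh.push i).PreservesMonomorphisms :=
    Functor.preservesMonomorphisms_of_adjunction (EtCoh.pullPushAdj i)
  refine injective_of_fullyFaithful (EtCoh.push i) (kernel.ι ((EtCoh.pullPushAdj j).unit.app I))
    _ (asIso ((EtCoh.pullPushAdj i).unit.app
      (kernel ((EtCoh.pullPushAdj j).unit.app I)))).symm ?_
  intro B' φ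
  have hd : Disjoint (Set.range j.base) (Set.range i.base) := by
    rw [Set.disjoint_left]
    intro a ha hb
    have ha' : a ∈ Set.range j := ha
    rw [hZU] at ha'
    exact ha' hb
  have hz : IsZero ((EtCoh.pull j).obj ((EtCoh.push i).obj B')) :=
    (Groth.Agent.S0654.isZero_restr_push i j hd B').of_iso
      ((Groth.Agent.S0623.pullIso j).app _)
  refine ⟨kernel.lift _ φ ?_, kernel.lift_ι _ _ _⟩
  have nat := (EtCoh.pullPushAdj j).unit.naturality φ
  simp only [Functor.id_obj, Functor.id_map, Functor.comp_obj, Functor.comp_map] at nat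
  rw [nat]
  have hz2 : IsZero ((EtCoh.push j).obj ((EtCoh.pull j).obj ((EtCoh.push i).obj B'))) :=
    (EtCoh.push j).map_isZero hz
  rw [hz2.eq_of_tgt ((EtCoh.pullPushAdj j).unit.app ((EtCoh.push i).obj B')) 0, zero_comp]

end Groth.Agent.S0175
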