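import Groth.Statements.S0177
import Mathlib
import Groth.Statements.S0177
import Groth.Agent.Lib.Helper9.FE.WStr6
-- import your own Groth.Agent.* helpers here

set_option autoImplicit false
universe u
open CategoryTheory CategoryTheory.Limits AlgebraicGeometry Opposite
open EtPBC

namespace Groth.Agent.S0177

namespace Aux
theorem main (A : Type u) [CommRing A] :
    ∃ (D : Type u) (_ : CommRing D) (_ : Algebra A D),
      Module.FaithfullyFlat A D ∧ EtPBC.IsIndEtale A D ∧ EtPBC.IsWContractible D :=
  H9FE.WStr.main177 A
end Aux

/-- For every ring A there is a faithfully flat ind-etale A-algebra D which is w-contractible, i.e.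
every faithfully flat weakly etale D-algebra has a D-algebra retraction. -/
theorem result (A : Type u) [CommRing A] :
    ∃ (D : Type u) (_ : CommRing D) (_ : Algebra A D),
      Module.FaithfullyFlat A D ∧ EtPBC.IsIndEtale A D ∧ EtPBC.IsWContractible D := by
  exact Aux.main A

end Groth.Agent.S0177
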