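import Groth.Statements.S0179
import Mathlib

set_option autoImplicit false
universe u
open EtPBC

namespace Groth.Agent.S0179

section
open Topology Set

variable {X : Type u} [TopologicalSpace X]

/-- for a compact set `K` disjoint from the intersection of all clopen neighbourhoods of `x`
there is a clopen neighbourhood of `x` disjoint from `K` -/
theorem exists_clopen_disjoint (x : X) {K : Set X} (hK : IsCompact K)
    (hdis : K ∩ ⋂ s : { s : Set X // IsClopen s ∧ x ∈ s }, (s : Set X) = ∅) :
    ∃ Z : Set X, IsClopen Z ∧ x ∈ Z ∧ K ∩ Z = ∅ := by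
  have H1 := hK.inter_iInter_nonempty
    (fun s : { s : Set X // IsClopen s ∧ x ∈ s } => (s : Set X)) fun s => s.2.1.1
  rw [← not_imp_not, not_forall] at H1
  obtain ⟨si, H2⟩ := H1 (by rw [hdis]; exact not_nonempty_empty)
  refine ⟨⋂ U ∈ si, Subtype.val U, ?_, ?_, ?_⟩
  · exact isClopen_biInter_finset fun s _ => s.2.1
  · exact mem_iInter₂.2 fun s _ => s.2.2
  · rwa [← not_nonempty_iff_eq_empty]

theorem connectedComponent_eq_iInter_isClopen' [SpectralSpace X] (x : X) :
    connectedComponent x = ⋂ s : { s : Set X // IsClopen s ∧ x ∈ s }, (s : Set X) := by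
  apply Subset.antisymm connectedComponent_subset_iInter_isClopen
  refine IsPreconnected.subset_connectedComponent ?_ (mem_iInter.2 fun s => s.2.2)
  have hs : IsClosed (⋂ s : { s : Set X // IsClopen s ∧ x ∈ s }, (s : Set X)) :=
    isClosed_iInter fun s => s.2.1.1
  set S := ⋂ s : { s : Set X // IsClopen s ∧ x ∈ s }, (s : Set X) with hS
  have hxS : x ∈ S := mem_iInter.2 fun s => s.2.2
  rw [isPreconnected_iff_subset_of_fully_disjoint_closed hs]
  intro a b ha hb hab ab_disj
  have hd : ∀ y, y ∈ a → y ∈ b → False := fun y h1 h2 => Set.disjoint_left.1 ab_disj h1 h2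
  obtain ⟨U, hUc, hUo, haU, hUb⟩ := PrespectralSpace.exists_isCompact_and_isOpen_between
    ha.isCompact hb.isOpen_compl (fun y hy hy' => hd y hy hy')
  obtain ⟨V, hVc, hVo, hbV, hVa⟩ := PrespectralSpace.exists_isCompact_and_isOpen_between
    hb.isCompact ha.isOpen_compl (fun y hy hy' => hd y hy' hy)
  -- U ∩ V ∩ S = ∅
  have h1 : (U ∩ V) ∩ S = ∅ := by
    ext y
    simp only [mem_inter_iff, mem_empty_iff_false, iff_false]
    rintro ⟨⟨hyU, hyV⟩, hyS⟩
    rcases hab hyS with h | h
    · exact hVa hyV h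
    · exact hUb hyU h
  obtain ⟨Z₁, hZ₁, hxZ₁, hZ₁'⟩ := exists_clopen_disjoint x
    (QuasiSeparatedSpace.inter_isCompact U V hUo hUc hVo hVc) h1
  have h2 : (U ∪ V)ᶜ ∩ S = ∅ := by
    ext y
    simp only [mem_inter_iff, mem_compl_iff, mem_union, mem_empty_iff_false, iff_false]
    rintro ⟨hy, hyS⟩
    rcases hab hyS with h | h
    · exact hy (Or.inl (haU h))
    · exact hy (Or.inr (hbV h))
  obtain ⟨Z₂, hZ₂, hxZ₂, hZ₂'⟩ := exists_clopen_disjoint x
    ((hUo.union hVo).isClosed_compl.isCompact) h2
  set Z := Z₁ ∩ Z₂ with hZ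
  have hZc : IsClopen Z := hZ₁.inter hZ₂
  have hxZ : x ∈ Z := ⟨hxZ₁, hxZ₂⟩
  have hZUV : ∀ y ∈ Z, y ∈ U ∨ y ∈ V := by
    intro y hy
    by_contra hcon
    have : y ∈ (U ∪ V)ᶜ ∩ Z₂ := ⟨hcon, hy.2⟩
    rw [hZ₂'] at this
    exact this
  have hZUV' : ∀ y ∈ Z, y ∈ U → y ∈ V → False := by
    intro y hy hyU hyV
    have : y ∈ (U ∩ V) ∩ Z₁ := ⟨⟨hyU, hyV⟩, hy.1⟩
    rw [hZ₁'] at this
    exact this
  have hZU : IsClopen (Z ∩ U) := by
    refine ⟨?_, hZc.2.inter hUo⟩
    have : Z ∩ U = Z ∩ Vᶜ := by
      ext y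
      constructor
      · rintro ⟨hy, hyU⟩
        exact ⟨hy, fun hyV => hZUV' y hy hyU hyV⟩
      · rintro ⟨hy, hyV⟩
        exact ⟨hy, (hZUV y hy).resolve_right hyV⟩
    rw [this]
    exact hZc.1.inter hVo.isClosed_compl
  have hZV : IsClopen (Z ∩ V) := by
    refine ⟨?_, hZc.2.inter hVo⟩
    have : Z ∩ V = Z ∩ Uᶜ := by
      ext y
      constructor
      · rintro ⟨hy, hyV⟩
        exact ⟨hy, fun hyU => hZUV' y hy hyU hyV⟩
      · rintro ⟨hy, hyU⟩
        exact ⟨hy, (hZUV y hy).resolve_left hyU⟩
    rw [this]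
    exact hZc.1.inter hUo.isClosed_compl
  rcases hZUV x hxZ with hxU | hxV
  · left
    intro y hyS
    have hyZU : y ∈ Z ∩ U := (iInter_subset (fun s : { s : Set X // IsClopen s ∧ x ∈ s } => s.1)
      ⟨Z ∩ U, hZU, ⟨hxZ, hxU⟩⟩) hyS
    rcases hab hyS with h | h
    · exact h
    · exact (hUb hyZU.2 h).elim
  · right
    intro y hyS
    have hyZV : y ∈ Z ∩ V := (iInter_subset (fun s : { s : Set X // IsClopen s ∧ x ∈ s } => s.1)
      ⟨Z ∩ V, hZV, ⟨hxZ, hxV⟩⟩) hyS
    rcases hab hyS with h | h
    · exact (hVa hyZV.2 h).elim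
    · exact h

theorem dir12 [SpectralSpace X]
    (h : ∀ (ι : Type u) (U : ι → Set X), (∀ i, IsOpen (U i)) → (⋃ i, U i) = Set.univ →
      ∃ (n : ℕ) (V : Fin n → Set X), (∀ k, IsClopen (V k)) ∧
        Pairwise (fun k l => Disjoint (V k) (V l)) ∧ (⋃ k, V k) = Set.univ ∧ ∀ k, ∃ i, V k ⊆ U i) :
    Function.Bijective (fun x : {x : X // IsClosed ({x} : Set X)} =>
      _root_.ConnectedComponents.mk x.1) := by
  constructor
  · rintro ⟨z, hz⟩ ⟨z', hz'⟩ heq
    by_contra hne
    have hne' : z ≠ z' := fun h => hne (Subtype.ext h)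
    obtain ⟨n, V, hV, -, hcov, href⟩ := h (ULift Bool)
      (fun i => if i.down then ({z} : Set X)ᶜ else ({z'} : Set X)ᶜ)
      (fun i => by
        by_cases hi : i.down
        · simp only [hi, if_true]; exact hz.isOpen_compl
        · simp only [hi]; exact hz'.isOpen_compl)
      (by
        ext y
        simp only [mem_iUnion, mem_univ, iff_true]
        by_cases hy : y = z
        · refine ⟨⟨false⟩, ?_⟩
          simp only [Bool.false_eq_true, if_false]
          rw [hy]
          exact hne'
        · exact ⟨⟨true⟩, by simpa using hy⟩)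
    have hzV : z ∈ ⋃ k, V k := hcov ▸ mem_univ z
    obtain ⟨k, hk⟩ := mem_iUnion.1 hzV
    obtain ⟨i, hi⟩ := href k
    have hz'k : z' ∉ V k := by
      intro hz'k
      by_cases hid : i.down
      · have := hi hk
        simp only [hid, if_true] at this
        exact this rfl
      · have := hi hz'k
        simp only [hid] at this
        exact this rfl
    have h3 : z' ∈ connectedComponent z := ConnectedComponents.coe_eq_coe'.1 heq.symm
    exact hz'k ((hV k).connectedComponent_subset hk h3)
  · intro c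
    obtain ⟨x, rfl⟩ := ConnectedComponents.surjective_coe c
    obtain ⟨z, hz1, hz2⟩ := (isClosed_connectedComponent (x := x)).exists_closed_singleton
      ⟨x, mem_connectedComponent⟩
    refine ⟨⟨z, hz2⟩, ?_⟩
    show (ConnectedComponents.mk z) = ConnectedComponents.mk x
    rw [ConnectedComponents.coe_eq_coe']
    exact hz1

theorem dir21 [SpectralSpace X]
    (hbij : Function.Bijective (fun x : {x : X // IsClosed ({x} : Set X)} =>
      _root_.ConnectedComponents.mk x.1))
    (ι : Type u) (U : ι → Set X) (hU : ∀ i, IsOpen (U i)) (hcov : (⋃ i, U i) = Set.univ) :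
    ∃ (n : ℕ) (V : Fin n → Set X), (∀ k, IsClopen (V k)) ∧
      Pairwise (fun k l => Disjoint (V k) (V l)) ∧ (⋃ k, V k) = Set.univ ∧ ∀ k, ∃ i, V k ⊆ U i := by
  classical
  -- for each closed point a clopen neighbourhood inside some U i
  have h1 : ∀ z : {x : X // IsClosed ({x} : Set X)}, ∃ W : Set X, IsClopen W ∧ z.1 ∈ W ∧
      ∃ i, W ⊆ U i := by
    intro z
    have hz : z.1 ∈ ⋃ i, U i := hcov ▸ mem_univ _
    obtain ⟨i, hi⟩ := mem_iUnion.1 hz
    have hC : connectedComponent z.1 ⊆ U i := by
      intro y hy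
      -- y specializes to a closed point of the component, which is z
      obtain ⟨w, hw1, hw2⟩ := (isClosed_closure (s := ({y} : Set X))).exists_closed_singleton
        ⟨y, subset_closure rfl⟩
      have hyw : y ⤳ w := specializes_iff_mem_closure.2 hw1
      have hwC : w ∈ connectedComponent z.1 := by
        have hpre : IsPreconnected (closure ({y} : Set X)) := isPreconnected_singleton.closure
        have := hpre.subset_connectedComponent (subset_closure rfl) hw1
        rwa [← connectedComponent_eq hy] at this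
      have hwz : (⟨w, hw2⟩ : {x : X // IsClosed ({x} : Set X)}) = z := by
        apply hbij.1
        show ConnectedComponents.mk w = ConnectedComponents.mk z.1
        rw [ConnectedComponents.coe_eq_coe']
        exact hwC
      have hwz' : w = z.1 := congrArg Subtype.val hwz
      rw [hwz'] at hyw
      exact hyw.mem_open (hU i) hi
    rw [connectedComponent_eq_iInter_isClopen'] at hC
    obtain ⟨W, hW, hzW, hWd⟩ := exists_clopen_disjoint z.1 ((hU i).isClosed_compl.isCompact) (by
      ext y
      simp only [mem_inter_iff, mem_compl_iff, mem_empty_iff_false, iff_false]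
      rintro ⟨hy1, hy2⟩
      exact hy1 (hC hy2))
    refine ⟨W, hW, hzW, i, ?_⟩
    intro y hy
    by_contra hyU
    have : y ∈ (U i)ᶜ ∩ W := ⟨hyU, hy⟩
    rw [hWd] at this
    exact this
  choose W hW hzW hWU using h1
  have hWcov : (⋃ z, W z) = Set.univ := by
    ext x
    simp only [mem_iUnion, mem_univ, iff_true]
    obtain ⟨z, hz⟩ := hbij.2 (ConnectedComponents.mk x)
    refine ⟨z, ?_⟩
    have h2 : x ∈ connectedComponent z.1 := ConnectedComponents.coe_eq_coe'.1 hz.symm
    exact (hW z).connectedComponent_subset (hzW z) h2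
  obtain ⟨F, hF⟩ := isCompact_univ.elim_finite_subcover W (fun z => (hW z).2) (by rw [hWcov])
  let e := F.equivFin
  let W' : Fin F.card → Set X := fun k => W (e.symm k).1
  let V : Fin F.card → Set X := fun k => W' k \ ⋃ l ∈ Finset.univ.filter (· < k), W' l
  refine ⟨F.card, V, ?_, ?_, ?_, ?_⟩
  · intro k
    exact (hW _).diff (isClopen_biUnion_finset fun l _ => hW _)
  · intro k l hkl
    rcases lt_or_gt_of_ne hkl with hlt | hlt
    · rw [Set.disjoint_left]
      intro y hyk hyl
      exact hyl.2 (mem_iUnion₂.2 ⟨k, by simpa using hlt, hyk.1⟩)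
    · rw [Set.disjoint_left]
      intro y hyk hyl
      exact hyk.2 (mem_iUnion₂.2 ⟨l, by simpa using hlt, hyl.1⟩)
  · ext x
    simp only [mem_iUnion, mem_univ, iff_true]
    have hx : x ∈ ⋃ z ∈ F, W z := hF (mem_univ x)
    obtain ⟨z, hzF, hxz⟩ := mem_iUnion₂.1 hx
    have hne : (Finset.univ.filter (fun k : Fin F.card => x ∈ W' k)).Nonempty := by
      refine ⟨e ⟨z, hzF⟩, ?_⟩
      simp only [Finset.mem_filter, Finset.mem_univ, true_and]
      show x ∈ W (e.symm (e ⟨z, hzF⟩)).1
      rw [Equiv.symm_apply_apply]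
      exact hxz
    refine ⟨(Finset.univ.filter (fun k : Fin F.card => x ∈ W' k)).min' hne, ?_, ?_⟩
    · have := Finset.min'_mem _ hne
      simp only [Finset.mem_filter, Finset.mem_univ, true_and] at this
      exact this
    · intro hcon
      obtain ⟨l, hl, hxl⟩ := mem_iUnion₂.1 hcon
      have hl' : l < (Finset.univ.filter (fun k : Fin F.card => x ∈ W' k)).min' hne := by
        simpa using hl
      have := Finset.min'_le (Finset.univ.filter (fun k : Fin F.card => x ∈ W' k)) l (by
        simp only [Finset.mem_filter, Finset.mem_univ, true_and]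
        exact hxl)
      exact absurd hl' (not_lt.2 this)
  · intro k
    obtain ⟨i, hi⟩ := hWU (e.symm k).1
    exact ⟨i, fun y hy => hi hy.1⟩

theorem main (X : Type u) [TopologicalSpace X] [SpectralSpace X] :
    (∀ (ι : Type u) (U : ι → Set X), (∀ i, IsOpen (U i)) → (⋃ i, U i) = Set.univ →
      ∃ (n : ℕ) (V : Fin n → Set X), (∀ k, IsClopen (V k)) ∧
        Pairwise (fun k l => Disjoint (V k) (V l)) ∧ (⋃ k, V k) = Set.univ ∧ ∀ k, ∃ i, V k ⊆ U i) ↔
    Function.Bijective (fun x : {x : X // IsClosed ({x} : Set X)} =>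
      _root_.ConnectedComponents.mk x.1) :=
  ⟨dir12, fun h ι U hU hcov => dir21 h ι U hU hcov⟩


end


/-- For a spectral space X with set of closed points X_0, the following are equivalent: (1) any open
cover of X admits a refinement by finitely many pairwise disjoint open-and-closed pieces; (2) the
map from X_0 to the space of connected components pi_0(X) is a bijection. -/
theorem result (X : Type u) [TopologicalSpace X] [SpectralSpace X] :
    (∀ (ι : Type u) (U : ι → Set X), (∀ i, IsOpen (U i)) → (⋃ i, U i) = Set.univ →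
      ∃ (n : ℕ) (V : Fin n → Set X), (∀ k, IsClopen (V k)) ∧
        Pairwise (fun k l => Disjoint (V k) (V l)) ∧ (⋃ k, V k) = Set.univ ∧ ∀ k, ∃ i, V k ⊆ U i) ↔
    Function.Bijective (fun x : {x : X // IsClosed ({x} : Set X)} => _root_.ConnectedComponents.mk x.1) := by
  classical
  exact main X

end Groth.Agent.S0179
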