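import Groth.Statements.S0180
import Mathlib
import Groth.Agent.S0152

set_option autoImplicit false
universe u
open EtPBC

namespace Groth.Agent.S0180

section
open Topology

variable {X : Type u} [TopologicalSpace X]

theorem isClosed_constr_of_isClosed [SpectralSpace X] {C : Set X} (hC : IsClosed C) :
    IsClosed[constructibleTopology X] C := by
  rw [← @isOpen_compl_iff _ _ (constructibleTopology X)]
  rw [(PrespectralSpace.isTopologicalBasis (X := X)).open_eq_sUnion' hC.isOpen_compl]
  apply @isOpen_sUnion _ (constructibleTopology X)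
  rintro W ⟨⟨hWo, hWc⟩, -⟩
  exact hWc.isOpen_constructibleTopology_of_isOpen hWo

theorem constr_compact' [SpectralSpace X] {ι : Type*} (t : ι → Set X)
    (ht : ∀ i, IsClosed[constructibleTopology X] (t i)) (h : ⋂ i, t i = ∅) :
    ∃ u : Finset ι, ⋂ i ∈ u, t i = ∅ := by
  have hcpt : IsCompact (Set.univ : Set (WithConstructibleTopology X)) := isCompact_univ
  obtain ⟨u, hu⟩ := hcpt.elim_finite_subfamily_closed
    (fun i => WithTopology.ofTopology ⁻¹' (t i)) (fun i => by
      rw [WithTopology.isClosed_iff]
      exact ht i) (by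
      rw [Set.univ_inter, ← Set.preimage_iInter, h, Set.preimage_empty])
  refine ⟨u, ?_⟩
  rw [Set.univ_inter] at hu
  ext x
  simp only [Set.mem_iInter, Set.mem_empty_iff_false, iff_false]
  intro hx
  have : WithTopology.toTopology (constructibleTopology X) x ∈
      ⋂ i ∈ u, WithTopology.ofTopology ⁻¹' (t i) := by
    simp only [Set.mem_iInter, Set.mem_preimage]
    exact hx
  rw [hu] at this
  exact this

/-- compact opens meet the (closed) set of closed points in a closed set -/
theorem isClosed_inter_closedPts [SpectralSpace X]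
    (h0 : IsClosed {x : X | IsClosed ({x} : Set X)}) (U : Set X) (hUo : IsOpen U)
    (hUc : IsCompact U) : IsClosed (U ∩ {x : X | IsClosed ({x} : Set X)}) := by
  set X₀ := {x : X | IsClosed ({x} : Set X)} with hX₀
  rw [← isOpen_compl_iff, isOpen_iff_forall_mem_open]
  intro y hy
  by_cases hy0 : y ∈ X₀
  · have hyU : y ∉ U := fun h => hy ⟨h, hy0⟩
    -- for each u in K choose compact open V_u ∋ y, u ∉ V_u
    have h1 : ∀ w : ↥(U ∩ X₀), ∃ V : Set X, (IsOpen V ∧ IsCompact V) ∧ y ∈ V ∧ (w : X) ∉ V := by
      intro w
      have hne : y ≠ (w : X) := fun h => hyU (h ▸ w.2.1)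
      have hwc : IsClosed ({(w : X)} : Set X) := w.2.2
      obtain ⟨V, hV, hyV, hVs⟩ :=
        (PrespectralSpace.isTopologicalBasis (X := X)).exists_subset_of_mem_open
          (show y ∈ ({(w : X)} : Set X)ᶜ from hne) hwc.isOpen_compl
      exact ⟨V, hV, hyV, fun hw => hVs hw rfl⟩
    choose V hV hyV hwV using h1
    let T : Option ↥(U ∩ X₀) → Set X := fun o => o.elim (U ∩ X₀) V
    let T' : Option ↥(U ∩ X₀) → Set X := fun o => o.elim Set.univ V
    obtain ⟨F, hF⟩ := constr_compact' T (by
        intro o
        cases o with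
        | none =>
          exact @IsClosed.inter X U X₀ (constructibleTopology X)
            (Groth.Agent.S0152.isClosed_constr hUo hUc) (isClosed_constr_of_isClosed h0)
        | some w => exact Groth.Agent.S0152.isClosed_constr (hV w).1 (hV w).2) (by
        ext x
        simp only [Set.mem_iInter, Set.mem_empty_iff_false, iff_false]
        intro hx
        have hxK : x ∈ U ∩ X₀ := hx none
        exact hwV ⟨x, hxK⟩ (hx (some ⟨x, hxK⟩)))
    refine ⟨⋂ o ∈ F, T' o, ?_, ?_, ?_⟩
    · intro x hx hxK
      have : x ∈ ⋂ o ∈ F, T o := by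
        simp only [Set.mem_iInter] at hx ⊢
        intro o ho
        cases o with
        | none => exact hxK
        | some w => exact hx (some w) ho
      rw [hF] at this
      exact this
    · apply isOpen_biInter_finset
      intro o _
      cases o with
      | none => exact isOpen_univ
      | some w => exact (hV w).1
    · simp only [Set.mem_iInter]
      intro o _
      cases o with
      | none => trivial
      | some w => exact hyV w
  · exact ⟨X₀ᶜ, fun x hx hxK => hx hxK.2, h0.isOpen_compl, hy0⟩

theorem main (X : Type u) [TopologicalSpace X]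
    [SpectralSpace X] (h0 : IsClosed {x : X | IsClosed ({x} : Set X)})
    (huniq : ∀ x : X, ∃! z : X, IsClosed ({z} : Set X) ∧ x ⤳ z) :
    Function.Bijective (fun x : {x : X // IsClosed ({x} : Set X)} =>
      _root_.ConnectedComponents.mk x.1) := by
  set X₀ := {x : X | IsClosed ({x} : Set X)} with hX₀
  have hconn : ∀ x : X, IsConnected (X₀ ∩ closure {x}) := by
    intro x
    obtain ⟨z, ⟨hz1, hz2⟩, hz3⟩ := huniq x
    have : X₀ ∩ closure {x} = {z} := by
      ext y
      constructor
      · rintro ⟨hy1, hy2⟩
        exact hz3 y ⟨hy1, specializes_iff_mem_closure.2 hy2⟩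
      · rintro rfl
        exact ⟨hz1, specializes_iff_mem_closure.1 hz2⟩
    rw [this]
    exact isConnected_singleton
  constructor
  · rintro ⟨z, hz⟩ ⟨z', hz'⟩ heq
    by_contra hne
    have hne' : z ≠ z' := fun h => hne (Subtype.ext h)
    obtain ⟨U, ⟨hUo, hUc⟩, hzU, hUs⟩ :=
      (PrespectralSpace.isTopologicalBasis (X := X)).exists_subset_of_mem_open
        (show z ∈ ({z'} : Set X)ᶜ from hne') hz'.isOpen_compl
    have hz'U : z' ∉ U := fun h => hUs h rfl
    obtain ⟨X₁, X₂, hX₁, hX₂, hd, hu, hZ₁, hZ₂⟩ := Groth.Agent.S0152.result X X₀ h0 hconn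
      (U ∩ X₀) (Uᶜ ∩ X₀) (isClosed_inter_closedPts h0 U hUo hUc)
      (hUo.isClosed_compl.inter h0)
      (Set.disjoint_left.2 fun y h1 h2 => h2.1 h1.1)
      (by rw [← Set.union_inter_distrib_right, Set.union_compl_self, Set.univ_inter])
    have hclopen : IsClopen X₁ := by
      refine ⟨hX₁, ?_⟩
      have : X₁ = X₂ᶜ := by
        ext y
        constructor
        · exact fun h1 h2 => Set.disjoint_left.1 hd h1 h2
        · intro h
          have : y ∈ X₁ ∪ X₂ := hu ▸ Set.mem_univ y
          exact this.resolve_right h
      rw [this]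
      exact hX₂.isOpen_compl
    have hz1 : z ∈ X₁ := by
      have : z ∈ U ∩ X₀ := ⟨hzU, hz⟩
      rw [hZ₁] at this
      exact this.2
    have hz2 : z' ∈ X₂ := by
      have : z' ∈ Uᶜ ∩ X₀ := ⟨hz'U, hz'⟩
      rw [hZ₂] at this
      exact this.2
    have h3 : z' ∈ connectedComponent z := by
      have := ConnectedComponents.coe_eq_coe'.1 heq.symm
      exact this
    exact Set.disjoint_left.1 hd (hclopen.connectedComponent_subset hz1 h3) hz2
  · intro c
    obtain ⟨x, rfl⟩ := ConnectedComponents.surjective_coe c
    obtain ⟨z, ⟨hz1, hz2⟩, -⟩ := huniq x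
    refine ⟨⟨z, hz1⟩, ?_⟩
    show (ConnectedComponents.mk z) = ConnectedComponents.mk x
    rw [ConnectedComponents.coe_eq_coe']
    have hpre : IsPreconnected (closure ({x} : Set X)) :=
      isPreconnected_singleton.closure
    exact hpre.subset_connectedComponent (subset_closure rfl)
      (specializes_iff_mem_closure.1 hz2)


end


/-- Final assertion: if X is spectral, the set X_0 of closed points is closed, and every point of X
specializes to exactly one closed point, then X_0 -> pi_0(X) is bijective (so X satisfies the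
equivalent conditions of the lemma; such X are called w-local). -/
theorem result (X : Type u) [TopologicalSpace X]
    [SpectralSpace X] (h0 : IsClosed {x : X | IsClosed ({x} : Set X)})
    (huniq : ∀ x : X, ∃! z : X, IsClosed ({z} : Set X) ∧ x ⤳ z) :
    Function.Bijective (fun x : {x : X // IsClosed ({x} : Set X)} => _root_.ConnectedComponents.mk x.1) := by
  classical
  exact main X h0 huniq

end Groth.Agent.S0180
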