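import Groth.Statements.S0195
import Mathlib
import Groth.Agent.Lib.Lead.CSA18

set_option autoImplicit false
universe u v w
open scoped TensorProduct
open Curves

namespace Groth.Agent.S0195

/-- A finite extension k' of k splits a finite central simple algebra A exactly when some algebra
similar to A contains k' with dim equal to [k':k]^2. Uses Mathlib's bundled CSA and Brauer
equivalence. -/
theorem result (k : Type u) [Field k] (A : CSA.{u, u} k)
    (k' : Type u) [Field k'] [Algebra k k'] [FiniteDimensional k k'] :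
    Curves.Splits k A k' ↔ ∃ (B : CSA.{u, u} k) (_ : k' →ₐ[k] B), IsBrauerEquivalent A B ∧
      Module.finrank k B = Module.finrank k k' ^ 2 := by
  classical
constructor
· rintro ⟨n, hn, ⟨e⟩⟩
  obtain ⟨B, iR, iA, iC, iS, iF, ι, hfr, s, r, hs, hr, ⟨iso⟩⟩ :=
    Groth.Agent.Lead.CSA.exists_of_splits k k' A n hn e
  let Bc : CSA.{u, u} k :=
    { toAlgCat := AlgCat.of k B
      isCentral := iC
      isSimple := iS
      fin_dim := iF }
  exact ⟨Bc, ι, ⟨s, r, hs, hr, ⟨iso⟩⟩, hfr⟩
· rintro ⟨B, ι, ⟨p, q, hp, hq, ⟨iso⟩⟩, hfr⟩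
  exact Groth.Agent.Lead.CSA.splits_of_brauer k k' A B p q hp hq iso
    (Groth.Agent.Lead.CSA.splits_of_subfield k k' B ι hfr)

end Groth.Agent.S0195
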