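import Groth.Statements.S0235
import Mathlib
import Groth.Agent.Lib.Lead.SLF1

set_option autoImplicit false
universe u
open CategoryTheory CategoryTheory.Limits AlgebraicGeometry
open Curves

namespace Groth.Agent.S0235

section
open CategoryTheory CategoryTheory.Limits AlgebraicGeometry

open Groth.Agent.Lead.SLF Groth.Agent.Lead.FLF

/-- a free module of rank one is the structure sheaf -/
noncomputable def freeOneIso (Z : Scheme.{u}) : FlatMod.freeMod Z 1 ≅ Coh.structureModule Z :=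
  Limits.coproductUniqueIso (fun _ : Fin 1 => Coh.structureModule Z)

theorem rankOne_of_invertible {X : Scheme.{u}} (L : X.Modules) (hL : PicF.IsInvertible L) :
    FlatMod.IsFinLocFreeOfRank 1 L := by
  intro x
  obtain ⟨U, hxU, ⟨e⟩⟩ := hL x
  exact ⟨U, hxU, ⟨e ≪≫ (freeOneIso _).symm⟩⟩

/-- general rank version -/
theorem free_near_fibre {X Y : Scheme.{u}} (π : X ⟶ Y) [IsFinite π]
    (M : X.Modules) (n : ℕ) (hM : FlatMod.IsFinLocFreeOfRank n M) (y : Y) :
    ∃ V : Y.Opens, y ∈ V ∧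
      Nonempty (M.restrict (π ⁻¹ᵁ V).ι ≅ FlatMod.freeMod (↑(π ⁻¹ᵁ V)) n) := by
  classical
  obtain ⟨_, ⟨V₀, hV₀, rfl⟩, hyV₀, -⟩ :=
    Y.isBasis_affineOpens.exists_subset_of_mem_open (Set.mem_univ y) isOpen_univ
  have hU₀ : IsAffineOpen (π ⁻¹ᵁ V₀) := hV₀.preimage π
  have hfin : (π ⁻¹' {y}).Finite := π.finite_preimage_singleton y
  let T : Finset X := hfin.toFinset
  have hT : ∀ x ∈ T, x ∈ π ⁻¹ᵁ V₀ := by
    intro x hx
    have : π x = y := (hfin.mem_toFinset.1 hx)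
    show π x ∈ V₀
    rw [this]; exact hyV₀
  obtain ⟨f, hf, ⟨e⟩⟩ := exists_basicOpen_free M n hM hU₀ T hT
  -- the closed complement of the basic open
  let C : Set X := (X.basicOpen f : Set X)ᶜ
  have hC : IsClosed C := (X.basicOpen f).2.isClosed_compl
  have hπC : IsClosed (π '' C) := π.isClosedMap _ hC
  let V : Y.Opens := ⟨(π '' C)ᶜ, hπC.isOpen_compl⟩
  have hyV : y ∈ V := by
    rintro ⟨c, hc, hcy⟩
    have : c ∈ T := hfin.mem_toFinset.2 hcy
    exact hc (hf c this)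
  have hle : π ⁻¹ᵁ V ≤ X.basicOpen f := by
    intro x hx
    by_contra hxf
    exact hx ⟨x, hxf, rfl⟩
  exact ⟨V, hyV, ⟨freeOfLE hle M n e⟩⟩

theorem main {X Y : Scheme.{u}} (π : X ⟶ Y) [IsFinite π]
    (L : X.Modules) (hL : PicF.IsInvertible L) (y : Y) :
    ∃ V : Y.Opens, y ∈ V ∧ Nonempty (L.restrict (π ⁻¹ᵁ V).ι ≅ Coh.structureModule (↑(π ⁻¹ᵁ V))) := by
  obtain ⟨V, hy, ⟨e⟩⟩ := free_near_fibre π L 1 (rankOne_of_invertible L hL) y
  exact ⟨V, hy, ⟨e ≪≫ freeOneIso _⟩⟩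


end


/-- For a finite morphism π : X → Y and an invertible module L on X, every point y of Y has an open
neighbourhood V such that L is trivial on the preimage of V. -/
theorem result {X Y : Scheme.{u}} (π : X ⟶ Y) [IsFinite π]
    (L : X.Modules) (hL : PicF.IsInvertible L) (y : Y) :
    ∃ V : Y.Opens, y ∈ V ∧ Nonempty (L.restrict (π ⁻¹ᵁ V).ι ≅ Coh.structureModule (↑(π ⁻¹ᵁ V))) := by
  classical
  exact main π L hL y

end Groth.Agent.S0235
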