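import Groth.Statements.S0238
import Mathlib
import Groth.Prelude.Def_Pi1
import Groth.Agent.Lib.Helper9.FE.ThickGlue
-- import your own Groth.Agent.* helpers here

set_option autoImplicit false
universe u
open Pi1

namespace Groth.Agent.S0238

open Pi1
open AlgebraicGeometry CategoryTheory CategoryTheory.Limits
namespace Aux
set_option backward.isDefEq.respectTransparency false
set_option linter.style.haveILetI false
set_option linter.unusedSectionVars false
open H9FE

theorem main {X X' : Scheme.{u}} (i : X ⟶ X') [IsClosedImmersion i] [Surjective i] :
    (FEt.restrict i).IsEquivalence := by
  have hff := restrict_full_faithful_of_univHomeo i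
  exact { faithful := hff.2, full := hff.1, essSurj := restrict_essSurj_of_thickening i }

end Aux

open AlgebraicGeometry CategoryTheory CategoryTheory.Limits in
/-- For a thickening, i.e. a closed immersion which is surjective on points, pulling back finite etale
covers is an equivalence of categories. -/
theorem result {X X' : Scheme.{u}} (i : X ⟶ X') [IsClosedImmersion i] [Surjective i] :
    (FEt.restrict i).IsEquivalence := by
  exact Aux.main i

end Groth.Agent.S0238
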