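import Groth.Statements.S0246
import Groth.Agent.Lib.Helper6.Normal.Scheme
import Groth.Agent.Lib.Helper6.Normal.Connected

set_option autoImplicit false
universe u
open Pi1

namespace Groth.Agent.S0246

open AlgebraicGeometry CategoryTheory CategoryTheory.Limits in
/-- If Y is finite etale over a normal integral scheme X and Y is connected, then Y is an integral
scheme all of whose local rings are integrally closed domains. -/
theorem result {X : Scheme.{u}} [IsIntegral X] (hX : Pi1.IsNormalScheme X) (Y : FEt.Cat X)
    [ConnectedSpace Y.left] : IsIntegral Y.left ∧ Pi1.IsNormalScheme Y.left := by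
  have hfin : IsFinite Y.hom := Y.prop.1
  have het : Etale Y.hom := Y.prop.2
  have key : ∀ (Z : Scheme.{u}) (g : Y.left ⟶ Z) [IsIntegral Z] [IsFinite g] [Etale g],
      Pi1.IsNormalScheme Z → IsIntegral Y.left ∧ Pi1.IsNormalScheme Y.left := by
    intro Z g _ _ _ hZ
    have hnorm : Pi1.IsNormalScheme Y.left :=
      Groth.Agent.Lib.Helper6.Normal.isNormalScheme_of_smooth g hZ
    exact ⟨Groth.Agent.Lib.Helper6.Normal.isIntegral_of_connected g g.isOpenMap
      (fun y => (hnorm y).1), hnorm⟩
  exact key X Y.hom hX

end Groth.Agent.S0246
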