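import Groth.Statements.S0268
import Mathlib
import Groth.Prelude.Def_FEt
import Groth.Agent.Lib.Helper9.FE.ClopenCrit
import Groth.Agent.Lib.Helper9.FE.FieldFiberTrans
-- import your own Groth.Agent.* helpers here

set_option autoImplicit false
universe u
open Pi1

namespace Groth.Agent.S0268

open CategoryTheory CategoryTheory.Limits AlgebraicGeometry MorphismProperty
namespace Aux
open H9FE H9SF

section Field
variable (k : Type u) [Field k] {Ω : Type u} [Field Ω] [Algebra k Ω] [IsAlgClosed Ω]

/-- every point of a finite étale cover of a field is the image of a geometric point -/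
theorem exists_geomPt_apply_eq (W : FEt.Cat (Spec (CommRingCat.of k))) (w : W.left) :
    ∃ wbar : Spec (CommRingCat.of Ω) ⟶ W.left, wbar ≫ W.hom = ptK k Ω ∧ Set.range wbar = {w} := by
  let U : W.left.Opens := ⟨{w}, isOpen_discrete _⟩
  have hU : IsClosed (U : Set W.left) := isClosed_discrete _
  have hne : ¬ IsEmpty (FEt.fiberObj (ptK k Ω) (clopenObj W U hU)) := by
    intro hE
    have := isEmpty_of_fiber_isEmpty (ptK k Ω) (clopenObj W U hU) hE
    exact this.false (⟨w, rfl⟩ : U)
  rw [not_isEmpty_iff] at hne
  obtain ⟨t, ht⟩ := hne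
  refine ⟨t ≫ U.ι, ?_, ?_⟩
  · rw [Category.assoc]; exact ht
  · ext z
    constructor
    · rintro ⟨p, rfl⟩
      rw [Scheme.Hom.comp_apply]
      exact (t p).2
    · intro hz
      have hz' : z = w := hz
      refine ⟨default, ?_⟩
      rw [hz', Scheme.Hom.comp_apply]
      exact (t default).2

variable {k} {X : Scheme.{u}} (f : X ⟶ Spec (CommRingCat.of k))

/-- the fibres of `X ×ₖ W → W` are images of `X_Ω` -/
theorem preimage_singleton_eq_range (W : FEt.Cat (Spec (CommRingCat.of k))) (w : W.left) :
    ∃ q : pullback f (ptK k Ω) ⟶ pullback W.hom f,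
      (pullback.fst W.hom f) ⁻¹' {w} = Set.range q := by
  obtain ⟨wbar, hw1, hw2⟩ := exists_geomPt_apply_eq (Ω := Ω) k W w
  let q : pullback f (ptK k Ω) ⟶ pullback W.hom f :=
    pullback.lift (pullback.snd f (ptK k Ω) ≫ wbar) (pullback.fst f (ptK k Ω)) (by
      rw [Category.assoc, hw1, pullback.condition])
  have hq1 : q ≫ pullback.fst W.hom f = pullback.snd f (ptK k Ω) ≫ wbar := pullback.lift_fst _ _ _
  have hq2 : q ≫ pullback.snd W.hom f = pullback.fst f (ptK k Ω) := pullback.lift_snd _ _ _
  have s : IsPullback (q ≫ pullback.snd W.hom f) (pullback.snd f (ptK k Ω)) f (wbar ≫ W.hom) := by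
    rw [hq2, hw1]
    exact IsPullback.of_hasPullback f (ptK k Ω)
  have hpb : IsPullback q (pullback.snd f (ptK k Ω)) (pullback.fst W.hom f) wbar :=
    IsPullback.of_right s hq1 (IsPullback.of_hasPullback W.hom f).flip
  have h := Scheme.image_preimage_eq_of_isPullback hpb.flip Set.univ
  rw [Set.preimage_univ, Set.image_univ, Set.image_univ] at h
  refine ⟨q, ?_⟩
  rw [← hw2]
  exact h.symm

theorem isPreconnected_preimage_singleton [ConnectedSpace ↥(pullback f (ptK k Ω))]
    (W : FEt.Cat (Spec (CommRingCat.of k))) (w : W.left) :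
    _root_.IsPreconnected ((pullback.fst W.hom f) ⁻¹' {w}) ∧
      ((pullback.fst W.hom f) ⁻¹' {w}).Nonempty := by
  obtain ⟨q, hq⟩ := preimage_singleton_eq_range (Ω := Ω) f W w
  rw [hq]
  exact ⟨isPreconnected_range q.continuous, Set.range_nonempty _⟩

theorem main_field [ConnectedSpace ↥(pullback f (ptK k Ω))] :
    (FEt.restrict f).Full ∧ (FEt.restrict f).Faithful := by
  apply restrict_full_faithful_of_clopen
  · intro Y T _ hpT
    rw [Set.eq_univ_iff_forall]
    intro w
    obtain ⟨y, hy⟩ := (isPreconnected_preimage_singleton (Ω := Ω) f Y w).2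
    have h1 : y ∈ (pullback.fst Y.hom f) ⁻¹' T := by rw [hpT]; trivial
    have h2 : pullback.fst Y.hom f y = w := hy
    rw [← h2]
    exact h1
  · intro W T' hT'
    refine ⟨(pullback.fst W.hom f) '' T', isClopen_discrete _, ?_⟩
    apply Set.Subset.antisymm
    · rintro y ⟨y', hy', hyy⟩
      have hpc := (isPreconnected_preimage_singleton (Ω := Ω) f W (pullback.fst W.hom f y)).1
      have hsub := hpc.subset_isClopen hT' ⟨y', hyy, hy'⟩
      exact hsub rfl
    · exact Set.subset_preimage_image _ _

end Field

theorem main (k : Type u) [Field k] {X : Scheme.{u}} (f : X ⟶ Spec (CommRingCat.of k)) [CompactSpace X]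
    [QuasiSeparatedSpace X]
    [ConnectedSpace ↥(pullback f (Spec.map (CommRingCat.ofHom (algebraMap k (AlgebraicClosure k)))))] :
    (FEt.restrict f).Full ∧ (FEt.restrict f).Faithful :=
  main_field (Ω := AlgebraicClosure k) f

end Aux

open AlgebraicGeometry CategoryTheory CategoryTheory.Limits in
/-- Functor form of the surjectivity of pi_1(X) -> pi_1(Spec k): Let X be quasi-compact and
quasi-separated over a field k with X_{kbar} connected. Then the functor pulling back finite etale
k-schemes to X is full and faithful. -/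
theorem result (k : Type u) [Field k] {X : Scheme.{u}} (f : X ⟶ Spec (CommRingCat.of k)) [CompactSpace X]
    [QuasiSeparatedSpace X]
    [ConnectedSpace ↥(pullback f (Spec.map (CommRingCat.ofHom (algebraMap k (AlgebraicClosure k)))))] :
    (FEt.restrict f).Full ∧ (FEt.restrict f).Faithful := by
  exact Aux.main k f

end Groth.Agent.S0268
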