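import Groth.Statements.S5075
-- import your own Groth.Agent.* helpers here
import Groth.Agent.Lib.Helper7.TopInv

set_option autoImplicit false
open CategoryTheory AlgebraicGeometry
universe u
open Unram

namespace Groth.Agent.S5075

/-- Let p : X ⟶ S be étale, g : S' ⟶ S a morphism and i : S'₀ ⟶ S' a surjective closed immersion (a
closed subscheme with the same underlying space). Then for every f₀ : S'₀ ⟶ X over S there is
exactly one f : S' ⟶ X over S with i ≫ f = f₀. -/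
theorem result {X S S' S'₀ : Scheme.{u}} (p : X ⟶ S) [Etale p]
    (g : S' ⟶ S) (i : S'₀ ⟶ S') [IsClosedImmersion i] [Surjective i]
    (f₀ : S'₀ ⟶ X) (h₀ : f₀ ≫ p = i ≫ g) :
    ∃! f : S' ⟶ X, f ≫ p = g ∧ i ≫ f = f₀ := by
  have hi : FlatMor.IsUnivHomeo i := Groth.Agent.Helper9.UH.isUnivHomeo_of i
  obtain ⟨φ, hφ1, hφ2⟩ := Groth.Agent.Helper7.TopInv.exists_descent p g i hi f₀ h₀
  refine ⟨φ, ⟨hφ1, hφ2⟩, fun ψ hψ => ?_⟩
  exact Groth.Agent.Helper7.TopInv.eq_of_surjective_comp p ψ φ (hψ.1.trans hφ1.symm) i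
    (hψ.2.trans hφ2.symm)

end Groth.Agent.S5075
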