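import Groth.Statements.S5115
import Mathlib
import Groth.Statements.S5115
import Groth.Agent.S2912
import Groth.Agent.S5075
import Groth.Agent.Lib.Helper7.TopInv
import Groth.Agent.Lib.Helper2.EtThick.Main
import Groth.Agent.Lib.Helper2.Desc.QFin
-- import your own Groth.Agent.* helpers here

set_option autoImplicit false
universe u
open EtBase

namespace Groth.Agent.S5115

open EtBase
open AlgebraicGeometry CategoryTheory CategoryTheory.Limits
namespace Aux

/-- two morphisms agree on a closed subscheme with the same underlying space -/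
def Rel {T V : Scheme.{u}} (v w : T ⟶ V) : Prop :=
  ∃ (E : Scheme.{u}) (ι : E ⟶ T), IsClosedImmersion ι ∧ Surjective ι ∧ ι ≫ v = ι ≫ w

theorem Rel.refl {T V : Scheme.{u}} (v : T ⟶ V) : Rel v v :=
  ⟨T, 𝟙 T, inferInstance, inferInstance, rfl⟩

theorem Rel.symm {T V : Scheme.{u}} {v w : T ⟶ V} (h : Rel v w) : Rel w v := by
  obtain ⟨E, ι, h1, h2, h3⟩ := h
  exact ⟨E, ι, h1, h2, h3.symm⟩

theorem Rel.trans {T V : Scheme.{u}} {v w z : T ⟶ V} (h : Rel v w) (h' : Rel w z) : Rel v z := by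
  obtain ⟨E₁, ι₁, h1, h2, h3⟩ := h
  obtain ⟨E₂, ι₂, h4, h5, h6⟩ := h'
  refine ⟨pullback ι₁ ι₂, pullback.fst ι₁ ι₂ ≫ ι₁, inferInstance, inferInstance, ?_⟩
  rw [Category.assoc, h3, pullback.condition_assoc, h6, Category.assoc, pullback.condition_assoc]

theorem Rel.precomp {T T' V : Scheme.{u}} {v w : T ⟶ V} (f : T' ⟶ T) (h : Rel v w) :
    Rel (f ≫ v) (f ≫ w) := by
  obtain ⟨E, ι, h1, h2, h3⟩ := h
  refine ⟨pullback ι f, pullback.snd ι f, inferInstance, inferInstance, ?_⟩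
  rw [← pullback.condition_assoc, ← pullback.condition_assoc, h3]

theorem Rel.eq {T V S' : Scheme.{u}} (p : V ⟶ S') [Etale p] {v w : T ⟶ V}
    (h : v ≫ p = w ≫ p) (hr : Rel v w) : v = w := by
  obtain ⟨E, ι, h1, h2, h3⟩ := hr
  obtain ⟨f, -, hf⟩ := Groth.Agent.S5075.result p (w ≫ p) ι (ι ≫ w) (by rw [Category.assoc])
  exact (hf v ⟨h, h3⟩).trans (hf w ⟨rfl, rfl⟩).symm

theorem Rel.exists {T V S' S : Scheme.{u}} (p : V ⟶ S') [Etale p] (g : S' ⟶ S)
    [UniversallyInjective g] (x₀ x₁ : T ⟶ S') (h : x₀ ≫ g = x₁ ≫ g) (v : T ⟶ V)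
    (hv : v ≫ p = x₀) : ∃ w : T ⟶ V, w ≫ p = x₁ ∧ Rel v w := by
  haveI : IsSeparated g := Groth.Agent.Helper2.DescRad.isSeparated_of_universallyInjective g
  haveI : Surjective (pullback.diagonal g) :=
    (UniversallyInjective.iff_diagonal g).mp inferInstance
  obtain ⟨l, hl⟩ : ∃ l : T ⟶ pullback g g, l = pullback.lift x₀ x₁ h := ⟨_, rfl⟩
  have hl1 : l ≫ pullback.fst g g = x₀ := by rw [hl, pullback.lift_fst]
  have hl2 : l ≫ pullback.snd g g = x₁ := by rw [hl, pullback.lift_snd]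
  obtain ⟨ι, hι⟩ : ∃ ι : pullback l (pullback.diagonal g) ⟶ T,
      ι = pullback.fst l (pullback.diagonal g) := ⟨_, rfl⟩
  haveI : IsClosedImmersion ι := by rw [hι]; infer_instance
  haveI : Surjective ι := by rw [hι]; infer_instance
  have hc : ι ≫ l = pullback.snd l (pullback.diagonal g) ≫ pullback.diagonal g := by
    rw [hι]; exact pullback.condition
  have e0 : ι ≫ x₀ = pullback.snd l (pullback.diagonal g) := by
    rw [← hl1, ← Category.assoc, hc, Category.assoc, pullback.diagonal_fst, Category.comp_id]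
  have e1 : ι ≫ x₁ = pullback.snd l (pullback.diagonal g) := by
    rw [← hl2, ← Category.assoc, hc, Category.assoc, pullback.diagonal_snd, Category.comp_id]
  obtain ⟨f, ⟨hf1, hf2⟩, -⟩ := Groth.Agent.S5075.result p x₁ ι (ι ≫ v)
    (by rw [Category.assoc, hv, e0, e1])
  exact ⟨f, hf1, _, ι, inferInstance, inferInstance, hf2.symm⟩

section DD

variable {S' S : Scheme.{u}} (g : S' ⟶ S) [UniversallyInjective g] (V' : Over S') [Etale V'.hom]

/-- the transport of points. -/
noncomputable def tr {T : Scheme.{u}} (x₀ x₁ : T ⟶ S') (h : x₀ ≫ g = x₁ ≫ g)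
    (v : Desc.Lifts V' x₀) : Desc.Lifts V' x₁ :=
  ⟨(Rel.exists V'.hom g x₀ x₁ h v.1 v.2).choose,
    (Rel.exists V'.hom g x₀ x₁ h v.1 v.2).choose_spec.1⟩

theorem tr_rel {T : Scheme.{u}} (x₀ x₁ : T ⟶ S') (h : x₀ ≫ g = x₁ ≫ g)
    (v : Desc.Lifts V' x₀) : Rel v.1 (tr g V' x₀ x₁ h v).1 :=
  (Rel.exists V'.hom g x₀ x₁ h v.1 v.2).choose_spec.2

theorem tr_unique {T : Scheme.{u}} (x₀ x₁ : T ⟶ S') (h : x₀ ≫ g = x₁ ≫ g)
    (v : Desc.Lifts V' x₀) (w : Desc.Lifts V' x₁) (hw : Rel v.1 w.1) :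
    tr g V' x₀ x₁ h v = w :=
  Subtype.ext (Rel.eq V'.hom (by rw [(tr g V' x₀ x₁ h v).2, w.2])
    ((tr_rel g V' x₀ x₁ h v).symm.trans hw))

/-- the automatic descent datum on a scheme etale over the source of a radicial morphism. -/
noncomputable def autoDD : Desc.SchDD g where
  obj := V'
  φ T x₀ x₁ h :=
    { toFun := tr g V' x₀ x₁ h
      invFun := tr g V' x₁ x₀ h.symm
      left_inv := fun v => tr_unique g V' x₁ x₀ h.symm _ v (tr_rel g V' x₀ x₁ h v).symm
      right_inv := fun v => tr_unique g V' x₀ x₁ h _ v (tr_rel g V' x₁ x₀ h.symm v).symm }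
  φ_natural T T' f x₀ x₁ h h' v v' hv' := by
    have := tr_unique g V' (f ≫ x₀) (f ≫ x₁) h' v'
      ⟨f ≫ (tr g V' x₀ x₁ h v).1, by rw [Category.assoc, (tr g V' x₀ x₁ h v).2]⟩
      (by rw [hv']; exact (tr_rel g V' x₀ x₁ h v).precomp f)
    exact congrArg Subtype.val this
  φ_self T x v := tr_unique g V' x x rfl v v (Rel.refl _)
  φ_comp T x₀ x₁ x₂ h₀₁ h₁₂ v :=
    (tr_unique g V' x₀ x₂ (h₀₁.trans h₁₂) v _
      ((tr_rel g V' x₀ x₁ h₀₁ v).trans (tr_rel g V' x₁ x₂ h₁₂ _))).symm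

end DD

theorem isUnivHomeo_of_fpqc {X Y : Scheme.{u}} (f : X ⟶ Y) [Flat f] [QuasiCompact f]
    [UniversallyInjective f] [Surjective f] : FlatMor.IsUnivHomeo f := by
  intro X' Y' i₁ i₂ f' h
  haveI h1 : Flat f' := MorphismProperty.of_isPullback h.flip inferInstance
  haveI h2 : UniversallyInjective f' := MorphismProperty.of_isPullback h.flip inferInstance
  haveI h3 : Surjective f' := MorphismProperty.of_isPullback h.flip inferInstance
  haveI h4 : QuasiCompact f' := MorphismProperty.of_isPullback h.flip inferInstance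
  show IsHomeomorph f'
  rw [isHomeomorph_iff_isQuotientMap_injective]
  exact ⟨Flat.isQuotientMap_of_surjective f', f'.injective⟩

variable {S S' : Scheme.{u}} (g : S' ⟶ S) [Flat g] [Surjective g] [QuasiCompact g]
  [UniversallyInjective g]

theorem bc_full_faithful : (EtCoh.bc g).Full ∧ (EtCoh.bc g).Faithful := by
  have hUH : FlatMor.IsUnivHomeo g := isUnivHomeo_of_fpqc g
  haveI : IsIntegralHom g := ((Groth.Agent.Helper7.UHSch.isUnivHomeo_iff g).mp hUH).1
  refine Groth.Agent.Helper2.EtThick.full_faithful_of_iso (EtCoh.bc g) (Scheme.Etale.forget S)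
    (Scheme.Etale.forget S') (Over.pullback g)
    (MorphismProperty.Over.pullbackCompForgetIso (P := EtCoh.etaleMP) (Q := ⊤) g) ?_
  intro A B
  haveI : Etale ((Scheme.Etale.forget S).obj B).hom := B.prop
  exact Groth.Agent.Helper7.TopInv.main0076 g ((Scheme.Etale.forget S).obj B)
    ((Scheme.Etale.forget S).obj A)

theorem exists_etale_lift (U₀ : Over S') [Etale U₀.hom] :
    ∃ (El : Scheme.{u}) (e : El ⟶ S), Etale e ∧
      ∃ ε : pullback e g ≅ U₀.left, ε.hom ≫ U₀.hom = pullback.snd e g := by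
  obtain ⟨U, ⟨e⟩⟩ := Groth.Agent.S2912.result g (autoDD g U₀)
  have hE : Etale U.hom :=
    Groth.Agent.Helper2.DescRed.prop_of_toDD_iso @Etale g U (autoDD g U₀) e
      (show Etale U₀.hom from inferInstance)
  have h1 : e.hom.hom.left ≫ e.inv.hom.left = 𝟙 _ :=
    congrArg (fun a : (Desc.toDD g).obj U ⟶ (Desc.toDD g).obj U => a.hom.left) e.hom_inv_id
  have h2 : e.inv.hom.left ≫ e.hom.hom.left = 𝟙 _ :=
    congrArg (fun a : autoDD g U₀ ⟶ autoDD g U₀ => a.hom.left) e.inv_hom_id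
  have hw : e.hom.hom.left ≫ U₀.hom = pullback.fst g U.hom := Over.w e.hom.hom
  obtain ⟨ε₁, hε₁⟩ : ∃ ε₁ : pullback g U.hom ≅ U₀.left, ε₁.hom = e.hom.hom.left :=
    ⟨⟨e.hom.hom.left, e.inv.hom.left, h1, h2⟩, rfl⟩
  have hw' : ε₁.hom ≫ U₀.hom = pullback.fst g U.hom := (congrArg (· ≫ U₀.hom) hε₁).trans hw
  refine ⟨U.left, U.hom, hE, pullbackSymmetry U.hom g ≪≫ ε₁, ?_⟩
  rw [Iso.trans_hom, Category.assoc, hw', pullbackSymmetry_hom_comp_fst]

theorem bc_essSurj : (EtCoh.bc g).EssSurj := by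
  refine ⟨fun U₀' => ?_⟩
  haveI : Etale ((Scheme.Etale.forget S').obj U₀').hom := U₀'.prop
  obtain ⟨El, e, hE, ε, hε⟩ := exists_etale_lift g ((Scheme.Etale.forget S').obj U₀')
  refine ⟨MorphismProperty.Over.mk ⊤ e hE, ⟨MorphismProperty.Over.isoMk ε ?_⟩⟩
  exact hε

theorem main : (EtCoh.bc g).IsEquivalence := by
  have hff := bc_full_faithful g
  exact { faithful := hff.2, full := hff.1, essSurj := bc_essSurj g }

end Aux

open AlgebraicGeometry CategoryTheory CategoryTheory.Limits in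
/-- Let g : S' ⟶ S be faithfully flat (flat and surjective), quasi-compact and radicial (universally
injective). Then base change along g is an equivalence from the category of schemes etale over S to
the category of schemes etale over S'. -/
theorem result {S S' : Scheme.{u}} (g : S' ⟶ S)
    [Flat g] [Surjective g] [QuasiCompact g] [UniversallyInjective g] :
    (EtCoh.bc g).IsEquivalence := by
  exact Aux.main g

end Groth.Agent.S5115
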