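import Groth.Statements.S0286
import Mathlib
import Groth.Statements.S0286
import Groth.Agent.S5115
import Groth.Agent.S0084
import Groth.Agent.Lib.Helper9.FE.InsepSec
-- import your own Groth.Agent.* helpers here

set_option autoImplicit false
universe u
open Pi1

namespace Groth.Agent.S0286

open Pi1
open AlgebraicGeometry CategoryTheory CategoryTheory.Limits
namespace Aux

set_option backward.isDefEq.respectTransparency.types false
set_option synthInstance.maxHeartbeats 400000
set_option maxHeartbeats 4000000
set_option linter.style.haveILetI false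
set_option linter.unusedSectionVars false
set_option linter.unusedVariables false

section General

variable {X X' : Scheme.{u}} (q : X' ⟶ X) [Flat q] [Surjective q] [QuasiCompact q]
  [UniversallyInjective q]

theorem restrict_full_faithful : (FEt.restrict q).Full ∧ (FEt.restrict q).Faithful := by
  have hUH : FlatMor.IsUnivHomeo q := Groth.Agent.S5115.Aux.isUnivHomeo_of_fpqc q
  haveI : IsIntegralHom q := ((Groth.Agent.Helper7.UHSch.isUnivHomeo_iff q).mp hUH).1
  haveI : UniversallyClosed q := inferInstance
  exact H9FE.restrict_full_faithful_of_univHomeo q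

theorem restrict_essSurj : (FEt.restrict q).EssSurj := by
  refine ⟨fun V' => ?_⟩
  haveI hV1 : IsFinite V'.hom := V'.prop.1
  haveI hV2 : Etale V'.hom := V'.prop.2
  obtain ⟨U₀, hU₀⟩ : ∃ U₀ : Over X', U₀ = Over.mk V'.hom := ⟨_, rfl⟩
  haveI : Etale U₀.hom := by rw [hU₀]; exact hV2
  obtain ⟨El, e, hE, ε, hε⟩ := Groth.Agent.S5115.Aux.exists_etale_lift q U₀
  subst hU₀
  have hε' : ε.hom ≫ V'.hom = pullback.snd e q := hε
  have hfin : IsFinite (pullback.snd e q) := by rw [← hε']; infer_instance
  haveI := Groth.Agent.S0084.result.{u}
  have hfin' : IsFinite e :=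
    MorphismProperty.of_pullback_snd_of_descendsAlong (P := @IsFinite)
      (Q := (@Surjective ⊓ @Flat ⊓ @QuasiCompact : MorphismProperty Scheme.{u}))
      (f := e) (g := q) ⟨⟨inferInstance, inferInstance⟩, inferInstance⟩ hfin
  refine ⟨MorphismProperty.Over.mk ⊤ e ⟨hfin', hE⟩, ⟨MorphismProperty.Over.isoMk ε ?_⟩⟩
  exact hε'

theorem restrict_isEquivalence : (FEt.restrict q).IsEquivalence := by
  have hff := restrict_full_faithful q
  exact { faithful := hff.2, full := hff.1, essSurj := restrict_essSurj q }

end General

theorem main (k : Type u) [Field k] (p : ℕ) [Fact p.Prime] [CharP k p] {X : Scheme.{u}}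
    (f : X ⟶ Spec (CommRingCat.of k)) :
    (FEt.restrict (pullback.fst f
      (Spec.map (CommRingCat.ofHom (PerfectClosure.of k p))))).IsEquivalence := by
  letI : Algebra k (PerfectClosure k p) := (PerfectClosure.of k p).toAlgebra
  have halg : algebraMap k (PerfectClosure k p) = PerfectClosure.of k p := rfl
  haveI : ExpChar k p := ExpChar.prime Fact.out
  haveI : IsPRadical (algebraMap k (PerfectClosure k p)) p := by
    rw [halg]; infer_instance
  haveI : IsPurelyInseparable k (PerfectClosure k p) :=
    IsPRadical.isPurelyInseparable k (PerfectClosure k p) p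
  obtain ⟨s, hs⟩ : ∃ s : Spec (CommRingCat.of (PerfectClosure k p)) ⟶ Spec (CommRingCat.of k),
      s = Spec.map (CommRingCat.ofHom (PerfectClosure.of k p)) := ⟨_, rfl⟩
  have hs' : s = Spec.map (CommRingCat.ofHom (algebraMap k (PerfectClosure k p))) := by
    rw [hs, halg]
  haveI : Surjective s := by rw [hs']; exact H9FE.specMap_surjective_of_field k _
  haveI : UniversallyInjective s := by rw [hs']; exact H9FE.specMap_univInj_of_insep k _
  haveI : Flat s := by
    rw [hs', HasRingHomProperty.Spec_iff (P := @Flat)]
    simp only [CommRingCat.hom_ofHom]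
    rw [RingHom.flat_algebraMap_iff]
    infer_instance
  haveI : QuasiCompact s := by rw [hs]; infer_instance
  rw [← hs]
  haveI : UniversallyInjective (pullback.fst f s) :=
    MorphismProperty.pullback_fst (P := @UniversallyInjective) _ _ inferInstance
  exact restrict_isEquivalence (pullback.fst f s)

end Aux

open AlgebraicGeometry CategoryTheory CategoryTheory.Limits in
/-- For a scheme X over a field k of characteristic p (p a prime), pulling back finite étale covers
along the projection X ×_{Spec k} Spec(k^perf) → X, where k^perf is the perfect closure of k, is an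
equivalence of categories. -/
theorem result (k : Type u) [Field k] (p : ℕ) [Fact p.Prime] [CharP k p] {X : Scheme.{u}}
    (f : X ⟶ Spec (CommRingCat.of k)) :
    (FEt.restrict (pullback.fst f
      (Spec.map (CommRingCat.ofHom (PerfectClosure.of k p))))).IsEquivalence := by
  exact Aux.main k p f

end Groth.Agent.S0286
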