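import Groth.Statements.S0269
import Mathlib
import Groth.Statements.S0269
import Groth.Agent.S0286
import Groth.Agent.S8230
import Groth.Agent.Lib.Helper9.FE.InsepSec
import Groth.Agent.Lib.Helper9.FE.FieldFiberNonTriv
-- import your own Groth.Agent.* helpers here

set_option autoImplicit false
universe u
open Pi1

namespace Groth.Agent.S0269

open Pi1
open AlgebraicGeometry CategoryTheory CategoryTheory.Limits
namespace Aux

set_option backward.isDefEq.respectTransparency false
set_option synthInstance.maxHeartbeats 400000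
set_option maxHeartbeats 4000000
set_option linter.style.haveILetI false
set_option linter.unusedSectionVars false
set_option linter.unusedVariables false

/-- a monomorphism between finite etale schemes over a base is an open and closed immersion. -/
theorem isOpen_isClosed_immersion_of_mono {Z A B : Scheme.{u}} (a : A ⟶ Z) (b : B ⟶ Z)
    [IsFinite a] [Etale a] [IsFinite b] [Etale b] (ι : A ⟶ B) (h : ι ≫ b = a) [Mono ι] :
    IsOpenImmersion ι ∧ IsClosedImmersion ι := by
  have h1 : Etale (ι ≫ b) := by rw [h]; infer_instance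
  haveI h2 : Etale ι := MorphismProperty.of_postcomp (W := @Etale) (W' := @Etale) ι b
    inferInstance h1
  haveI h3 : IsOpenImmersion ι := IsOpenImmersion.of_flat_of_mono ι
  have h4 : IsFinite (ι ≫ b) := by rw [h]; infer_instance
  haveI h5 : IsFinite ι := MorphismProperty.of_postcomp (W := @IsFinite) (W' := @IsSeparated) ι b
    inferInstance h4
  refine ⟨h3, ?_⟩
  apply IsClosedImmersion.of_isPreimmersion
  exact (ι.isClosedMap).isClosed_range

section Field

variable (k : Type u) [Field k] {X : Scheme.{u}} (f : X ⟶ Spec (CommRingCat.of k))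

/-- the transition map `X_{k̄} ⟶ X_{k_s}`. -/
noncomputable abbrev tr : pullback f (Spec.map (CommRingCat.ofHom (algebraMap k (AlgebraicClosure k)))) ⟶
    pullback f (Spec.map (CommRingCat.ofHom (algebraMap k (SeparableClosure k)))) :=
  H9FE.fieldTrans (SeparableClosure k) (AlgebraicClosure k) k f

theorem flat_specMap_field (F E : Type u) [Field F] [Field E] [Algebra F E] :
    Flat (Spec.map (CommRingCat.ofHom (algebraMap F E))) := by
  rw [HasRingHomProperty.Spec_iff (P := @Flat)]
  simp only [CommRingCat.hom_ofHom]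
  rw [RingHom.flat_algebraMap_iff]
  infer_instance

theorem tr_props : Flat (tr k f) ∧ Surjective (tr k f) ∧ QuasiCompact (tr k f) ∧
    UniversallyInjective (tr k f) := by
  have e2 : Spec.map (CommRingCat.ofHom (algebraMap k (AlgebraicClosure k))) =
      Spec.map (CommRingCat.ofHom (algebraMap (SeparableClosure k) (AlgebraicClosure k))) ≫
        Spec.map (CommRingCat.ofHom (algebraMap k (SeparableClosure k))) := by
    rw [← Spec.map_comp, ← CommRingCat.ofHom_comp, ← IsScalarTower.algebraMap_eq]
  refine ⟨?_, ?_, ?_, ?_⟩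
  · exact MorphismProperty.pullbackMap (P := @Flat) (inferInstanceAs (Flat (𝟙 X)))
      (flat_specMap_field _ _) (by simp) e2
  · exact MorphismProperty.pullbackMap (P := @Surjective) (inferInstanceAs (Surjective (𝟙 X)))
      (H9FE.specMap_surjective_of_field _ _) (by simp) e2
  · exact MorphismProperty.pullbackMap (P := @QuasiCompact)
      (inferInstanceAs (QuasiCompact (𝟙 X))) inferInstance (by simp) e2
  · exact MorphismProperty.pullbackMap (P := @UniversallyInjective)
      (inferInstanceAs (UniversallyInjective (𝟙 X)))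
      (H9FE.specMap_univInj_of_insep _ _) (by simp) e2

end Field

section Main

variable (k : Type u) [Field k] {X : Scheme.{u}} (f : X ⟶ Spec (CommRingCat.of k)) [CompactSpace X]
    [QuasiSeparatedSpace X]
    [ConnectedSpace ↥(pullback f (Spec.map (CommRingCat.ofHom (algebraMap k (AlgebraicClosure k)))))]

/-- packaging: a monomorphism from `V` into the base change of a finite etale `u : Y ⟶ X`. -/
theorem package {XK X : Scheme.{u}} (qK : XK ⟶ X) (V : FEt.Cat XK) {Y : Scheme.{u}} (u : Y ⟶ X)
    [IsFinite u] [Etale u] (vh : V.left ⟶ XK) (hvh : vh = V.hom)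
    (ιl : V.left ⟶ pullback u qK) (hι : ιl ≫ pullback.snd u qK = vh) [Mono ιl] :
    ∃ (U : FEt.Cat X) (ι : V ⟶ (FEt.restrict qK).obj U),
      IsOpenImmersion ι.left ∧ IsClosedImmersion ι.left := by
  haveI hV1 : IsFinite vh := by rw [hvh]; exact V.prop.1
  haveI hV2 : Etale vh := by rw [hvh]; exact V.prop.2
  have key := isOpen_isClosed_immersion_of_mono vh (pullback.snd u qK) ιl hι
  refine ⟨MorphismProperty.Over.mk ⊤ u ⟨inferInstance, inferInstance⟩,
    MorphismProperty.Over.homMk ιl (by rw [← hvh, ← hι]; rfl), key⟩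

theorem main_empty
    (V : FEt.Cat (pullback f (Spec.map (CommRingCat.ofHom (algebraMap k (AlgebraicClosure k))))))
    (hemp : IsEmpty V.left) :
    ∃ (U : FEt.Cat X) (ι : V ⟶ (FEt.restrict (pullback.fst f (Spec.map (CommRingCat.ofHom
      (algebraMap k (AlgebraicClosure k)))))).obj U),
      IsOpenImmersion ι.left ∧ IsClosedImmersion ι.left := by
  obtain ⟨qK, hqK⟩ : ∃ qK, qK = pullback.fst f (Spec.map (CommRingCat.ofHom
    (algebraMap k (AlgebraicClosure k)))) := ⟨_, rfl⟩
  rw [← hqK]
  obtain ⟨vh, hvh⟩ : ∃ vh : V.left ⟶ pullback f (Spec.map (CommRingCat.ofHom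
    (algebraMap k (AlgebraicClosure k)))), vh = V.hom := ⟨V.hom, rfl⟩
  obtain ⟨ιl, hιl⟩ : ∃ ιl : V.left ⟶ pullback (𝟙 X) qK, ιl ≫ pullback.snd (𝟙 X) qK = vh :=
    ⟨pullback.lift (vh ≫ qK) vh (by rw [Category.comp_id]), pullback.lift_snd _ _ _⟩
  haveI : Mono ιl := (isInitialOfIsEmpty (X := V.left)).mono_from ιl
  exact package qK V (𝟙 X) vh hvh ιl hιl

theorem main_nonempty
    (V : FEt.Cat (pullback f (Spec.map (CommRingCat.ofHom (algebraMap k (AlgebraicClosure k))))))
    (hne : Nonempty V.left) :
    ∃ (U : FEt.Cat X) (ι : V ⟶ (FEt.restrict (pullback.fst f (Spec.map (CommRingCat.ofHom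
      (algebraMap k (AlgebraicClosure k)))))).obj U),
      IsOpenImmersion ι.left ∧ IsClosedImmersion ι.left := by
  obtain ⟨vh, hvh⟩ : ∃ vh : V.left ⟶ pullback f (Spec.map (CommRingCat.ofHom
    (algebraMap k (AlgebraicClosure k)))), vh = V.hom := ⟨V.hom, rfl⟩
  haveI hV1 : IsFinite vh := by rw [hvh]; exact V.prop.1
  haveI hV2 : Etale vh := by rw [hvh]; exact V.prop.2
  obtain ⟨hF, hS, hQ, hI⟩ := tr_props k f
  obtain ⟨t, ht⟩ : ∃ t, t = tr k f := ⟨_, rfl⟩
  haveI : Flat t := by rw [ht]; exact hF
  haveI : Surjective t := by rw [ht]; exact hS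
  haveI : QuasiCompact t := by rw [ht]; exact hQ
  haveI : UniversallyInjective t := by rw [ht]; exact hI
  obtain ⟨qK, hqK⟩ : ∃ qK, qK = pullback.fst f (Spec.map (CommRingCat.ofHom
    (algebraMap k (AlgebraicClosure k)))) := ⟨_, rfl⟩
  obtain ⟨qS, hqS⟩ : ∃ qS, qS = pullback.fst f (Spec.map (CommRingCat.ofHom
    (algebraMap k (SeparableClosure k)))) := ⟨_, rfl⟩
  have htq : t ≫ qS = qK := by
    rw [ht, hqS, hqK]; exact H9FE.fieldTrans_fst _ _ k f
  rw [← hqK]
  haveI := Groth.Agent.S0286.Aux.restrict_essSurj t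
  obtain ⟨Vs, ⟨α⟩⟩ : ∃ Vs, Nonempty ((FEt.restrict t).obj Vs ≅ V) :=
    ⟨_, ⟨(FEt.restrict t).objObjPreimageIso V⟩⟩
  obtain ⟨vs, hvs⟩ : ∃ vs : Vs.left ⟶ pullback f (Spec.map (CommRingCat.ofHom
    (algebraMap k (SeparableClosure k)))), vs = Vs.hom := ⟨Vs.hom, rfl⟩
  haveI hVs1 : IsFinite vs := by rw [hvs]; exact Vs.prop.1
  haveI hVs2 : Etale vs := by rw [hvs]; exact Vs.prop.2
  obtain ⟨β, hβw, hβiso⟩ : ∃ β : V.left ⟶ pullback vs t,
      β ≫ pullback.snd vs t = vh ∧ IsIso β := by
    subst hvs
    refine ⟨α.inv.left, ?_, ?_⟩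
    · rw [hvh]; exact MorphismProperty.Over.w α.inv
    · exact ⟨α.hom.left, by
        constructor
        · have := congrArg (fun m => m.left) α.inv_hom_id
          exact this
        · have := congrArg (fun m => m.left) α.hom_inv_id
          exact this⟩
  haveI := hβiso
  -- surjectivity
  have hVsurj : Function.Surjective vh := by
    have hcl := H9FE.isClopen_range vh
    have : Set.range vh = Set.univ := hcl.eq_univ (Set.range_nonempty _)
    exact Set.range_eq_univ.mp this
  haveI hVsS : Surjective vs := by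
    refine ⟨fun y => ?_⟩
    obtain ⟨x, rfl⟩ := t.surjective y
    obtain ⟨v, rfl⟩ := hVsurj x
    refine ⟨(β ≫ pullback.fst vs t) v, ?_⟩
    rw [← Scheme.Hom.comp_apply, ← Scheme.Hom.comp_apply, Category.assoc, pullback.condition,
      ← Category.assoc, hβw]
  obtain ⟨L, hfd, YL, gL, hgf, hge, hgs, c, hc1, hc2, e, hpb⟩ :=
    Groth.Agent.S8230.result k X f Vs.left vs
  haveI := hfd
  haveI := hgf
  haveI := hge
  haveI : Algebra.IsSeparable k ↥L :=
    Algebra.isSeparable_tower_bot_of_isSeparable k ↥L (SeparableClosure k)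
  haveI : Algebra.Etale k ↥L :=
    haveI : Algebra.FormallyEtale k ↥L := Algebra.FormallyEtale.of_isSeparable k ↥L
    haveI : Algebra.FinitePresentation k ↥L :=
      Algebra.FinitePresentation.of_finiteType.mp inferInstance
    ⟨inferInstance, inferInstance⟩
  obtain ⟨qL, hqL⟩ : ∃ qL, qL = pullback.fst f (Spec.map (CommRingCat.ofHom
    (algebraMap k ↥L))) := ⟨_, rfl⟩
  have hcq : c ≫ qL = qS := by rw [hqL, hqS]; exact hc1
  haveI hqL1 : IsFinite qL := by
    rw [hqL]; exact MorphismProperty.pullback_fst _ _ (H9FE.fetOfAlg k ↥L).prop.1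
  haveI hqL2 : Etale qL := by
    rw [hqL]; exact MorphismProperty.pullback_fst _ _ (H9FE.fetOfAlg k ↥L).prop.2
  obtain ⟨uu, huu⟩ : ∃ uu : YL ⟶ X, uu = gL ≫ qL := ⟨_, rfl⟩
  haveI : IsFinite uu := by rw [huu]; infer_instance
  haveI : Etale uu := by rw [huu]; infer_instance
  have hcond : (β ≫ pullback.fst vs t ≫ e) ≫ uu = vh ≫ qK := by
    rw [huu, Category.assoc, Category.assoc, ← Category.assoc e, hpb.w, Category.assoc, hcq,
      ← Category.assoc (pullback.fst vs t), pullback.condition, Category.assoc, htq,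
      ← Category.assoc, hβw]
  obtain ⟨ιl, hι1, hι2⟩ : ∃ ιl : V.left ⟶ pullback uu qK,
      ιl ≫ pullback.fst uu qK = β ≫ pullback.fst vs t ≫ e ∧
      ιl ≫ pullback.snd uu qK = vh :=
    ⟨pullback.lift _ _ hcond, pullback.lift_fst _ _ _, pullback.lift_snd _ _ _⟩
  haveI : Mono ιl := by
    refine ⟨fun {T} u u' huu' => ?_⟩
    have h1 : u ≫ vh = u' ≫ vh := by
      rw [← hι2, ← Category.assoc, huu', Category.assoc]
    have h2 : (u ≫ β ≫ pullback.fst vs t) ≫ e = (u' ≫ β ≫ pullback.fst vs t) ≫ e := by
      simp only [Category.assoc]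
      rw [← hι1, ← Category.assoc, huu', Category.assoc]
    have h3 : (u ≫ β) ≫ pullback.snd vs t = (u' ≫ β) ≫ pullback.snd vs t := by
      rw [Category.assoc, Category.assoc, hβw, h1]
    have h4 : (u ≫ β ≫ pullback.fst vs t) ≫ vs =
        (u' ≫ β ≫ pullback.fst vs t) ≫ vs := by
      have e1 : ∀ w : T ⟶ V.left, (w ≫ β ≫ pullback.fst vs t) ≫ vs =
          ((w ≫ β) ≫ pullback.snd vs t) ≫ t := by
        intro w
        simp only [Category.assoc]
        rw [pullback.condition]
      rw [e1, e1, h3]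
    have h5 : u ≫ β ≫ pullback.fst vs t = u' ≫ β ≫ pullback.fst vs t :=
      hpb.hom_ext h2 h4
    have h6 : u ≫ β = u' ≫ β := by
      apply pullback.hom_ext
      · simpa only [Category.assoc] using h5
      · exact h3
    exact (cancel_mono β).mp h6
  exact package qK V uu vh hvh ιl hι2

theorem main
    (V : FEt.Cat (pullback f (Spec.map (CommRingCat.ofHom (algebraMap k (AlgebraicClosure k)))))) :
    ∃ (U : FEt.Cat X) (ι : V ⟶ (FEt.restrict (pullback.fst f (Spec.map (CommRingCat.ofHom
      (algebraMap k (AlgebraicClosure k)))))).obj U),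
      IsOpenImmersion ι.left ∧ IsClosedImmersion ι.left := by
  rcases isEmpty_or_nonempty V.left with hemp | hne
  · exact main_empty k f V hemp
  · exact main_nonempty k f V hne

end Main

end Aux

open AlgebraicGeometry CategoryTheory CategoryTheory.Limits in
/-- Functor form of the injectivity of pi_1(X_{kbar}) -> pi_1(X): Let X be quasi-compact and
quasi-separated over a field k with X_{kbar} connected. Every finite etale cover of X_{kbar} admits
an open and closed immersion, over X_{kbar}, into the base change of some finite etale cover of X. -/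
theorem result (k : Type u) [Field k] {X : Scheme.{u}} (f : X ⟶ Spec (CommRingCat.of k)) [CompactSpace X]
    [QuasiSeparatedSpace X]
    [ConnectedSpace ↥(pullback f (Spec.map (CommRingCat.ofHom (algebraMap k (AlgebraicClosure k)))))]
    (V : FEt.Cat (pullback f (Spec.map (CommRingCat.ofHom (algebraMap k (AlgebraicClosure k)))))) :
    ∃ (U : FEt.Cat X) (ι : V ⟶ (FEt.restrict (pullback.fst f (Spec.map (CommRingCat.ofHom (algebraMap k (AlgebraicClosure k)))))).obj U),
      IsOpenImmersion ι.left ∧ IsClosedImmersion ι.left := by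
  exact Aux.main k f V

end Groth.Agent.S0269
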