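import Groth.Statements.S0270
import Mathlib
import Groth.Prelude.Def_Pi1
import Groth.Agent.Lib.Helper9.FE.FieldSec
import Groth.Agent.Lib.Helper9.FE.FieldFiberNonTriv
import Groth.Agent.Lib.Helper9.FE.RestrictColim
-- import your own Groth.Agent.* helpers here

set_option autoImplicit false
universe u
open Pi1

namespace Groth.Agent.S0270

open CategoryTheory CategoryTheory.Limits AlgebraicGeometry
namespace Aux
set_option backward.isDefEq.respectTransparency false
set_option linter.style.haveILetI false
set_option linter.unusedSectionVars false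
open H9FE

theorem main (k : Type u) [Field k] {X : Scheme.{u}} (f : X ⟶ Spec (CommRingCat.of k))
    [CompactSpace X] [QuasiSeparatedSpace X]
    (U : FEt.Cat X) (hU : Pi1.IsSplit ((FEt.restrict (pullback.fst f (Spec.map (CommRingCat.ofHom (algebraMap k (AlgebraicClosure k)))))).obj U)) :
    ∃ (V : FEt.Cat (Spec (CommRingCat.of k))) (e : (FEt.restrict f).obj V ⟶ U),
      Surjective e.left := by
  obtain ⟨ι, hι, e, he⟩ := hU
  obtain ⟨n, ⟨eqv⟩⟩ := Finite.exists_equiv_fin ι
  let K := AlgebraicClosure k
  let p₁ := pullback.fst f (Spec.map (CommRingCat.ofHom (algebraMap k K)))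
  let Xb := pullback f (Spec.map (CommRingCat.ofHom (algebraMap k K)))
  let a : Fin n → (Xb ⟶ U.left) := fun j =>
    Sigma.ι (fun _ : ι => Xb) (eqv.symm j) ≫ e.inv ≫ pullback.fst U.hom p₁
  have ha : ∀ j, a j ≫ U.hom = p₁ := by
    intro j
    have h1 := he (eqv.symm j)
    simp only [a, Category.assoc]
    rw [pullback.condition]
    have h2 : Sigma.ι (fun _ : ι => Xb) (eqv.symm j) ≫ e.inv ≫ pullback.snd U.hom p₁ = 𝟙 Xb := h1
    rw [← Category.assoc, ← Category.assoc, Category.assoc _ e.inv, h2, Category.id_comp]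
  choose F iF1 iF2 iF3 iF4 iF5 iF6 g hg1 hg2 using fun j => exists_descent_sep k K f U (a j) (ha j)
  letI := iF1
  letI := iF2
  letI := iF3
  haveI := iF4
  haveI := iF5
  haveI := iF6
  haveI hE : ∀ j, Algebra.Etale k (F j) := fun j =>
    haveI : Algebra.FormallyEtale k (F j) := Algebra.FormallyEtale.of_isSeparable k (F j)
    haveI : Algebra.FinitePresentation k (F j) :=
      Algebra.FinitePresentation.of_finiteType.mp inferInstance
    ⟨inferInstance, inferInstance⟩
  let Vfam : Fin n → FEt.Cat (Spec (CommRingCat.of k)) := fun j => fetOfAlg k (F j)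
  haveI := hasFiniteColimits_fet (Spec (CommRingCat.of k))
  let gm : ∀ j, (FEt.restrict f).obj (Vfam j) ⟶ U := fun j =>
    MorphismProperty.Over.homMk ((pullbackSymmetry _ _).hom ≫ g j) (by
      show ((pullbackSymmetry _ _).hom ≫ g j) ≫ U.hom = pullback.snd _ f
      rw [Category.assoc, hg1 j, pullbackSymmetry_hom_comp_fst])
  haveI := restrict_preservesColimit f (Discrete.functor Vfam)
  have hc : IsColimit ((FEt.restrict f).mapCocone (colimit.cocone (Discrete.functor Vfam))) :=
    isColimitOfPreserves _ (colimit.isColimit _)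
  let co : Cocone (Discrete.functor Vfam ⋙ FEt.restrict f) :=
    { pt := U
      ι := Discrete.natTrans (fun j => gm j.as) }
  let e' := hc.desc co
  have hfac : ∀ j, (FEt.restrict f).map (Sigma.ι Vfam j) ≫ e' = gm j := fun j => hc.fac co ⟨j⟩
  refine ⟨∐ Vfam, e', ⟨fun u => ?_⟩⟩
  obtain ⟨ub, rfl⟩ := (pullback.fst U.hom p₁).surjective u
  obtain ⟨⟨i, xb⟩, hx⟩ := (sigmaMk (fun _ : ι => Xb)).surjective (e.hom ub)
  obtain ⟨j, rfl⟩ := eqv.symm.surjective i
  rw [sigmaMk_mk] at hx
  have h1 : ub = e.inv (Sigma.ι (fun _ : ι => Xb) (eqv.symm j) xb) := by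
    rw [hx, ← Scheme.Hom.comp_apply, e.hom_inv_id]
    rfl
  have h2 : (pullback.fst U.hom p₁) ub = (a j) xb := by
    rw [h1]
    rfl
  have h3 : g j = (pullbackSymmetry _ _).inv ≫ ((FEt.restrict f).map (Sigma.ι Vfam j)).left ≫
      e'.left := by
    have := congrArg (fun m => m.left) (hfac j)
    simp only [MorphismProperty.Comma.comp_left] at this
    rw [this]
    simp [gm]
  refine ⟨((FEt.restrict f).map (Sigma.ι Vfam j)).left ((pullbackSymmetry (Vfam j).hom f).inv
    ((fieldTrans (F j) K k f) xb)), ?_⟩
  rw [h2, ← hg2 j, h3]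
  simp only [Scheme.Hom.comp_apply]
  rfl

end Aux

open AlgebraicGeometry CategoryTheory CategoryTheory.Limits in
/-- (Exactness of the homotopy sequence of etale fundamental groups at pi_1(X), in functor form.) Let X
be quasi-compact and quasi-separated over a field k with X_{kbar} connected, kbar an algebraic
closure of k. If a finite etale cover U of X becomes completely split (a disjoint union of copies of
X_{kbar}) after base change to kbar, then there are a finite etale k-scheme V and an X-morphism from
V x_k X to U which is surjective. -/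
theorem result (k : Type u) [Field k] {X : Scheme.{u}} (f : X ⟶ Spec (CommRingCat.of k)) [CompactSpace X]
    [QuasiSeparatedSpace X]
    [ConnectedSpace ↥(pullback f (Spec.map (CommRingCat.ofHom (algebraMap k (AlgebraicClosure k)))))]
    (U : FEt.Cat X) (hU : Pi1.IsSplit ((FEt.restrict (pullback.fst f (Spec.map (CommRingCat.ofHom (algebraMap k (AlgebraicClosure k)))))).obj U)) :
    ∃ (V : FEt.Cat (Spec (CommRingCat.of k))) (e : (FEt.restrict f).obj V ⟶ U), Surjective e.left := by
  exact Aux.main k f U hU

end Groth.Agent.S0270
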