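import Groth.Statements.S0271
import Groth.Agent.Lib.Helper6.InvEtale
import Groth.Agent.Lib.Helper6.TrivStab

set_option autoImplicit false
universe u
open Pi1

namespace Groth.Agent.S0271

open AlgebraicGeometry CategoryTheory CategoryTheory.Limits in
/-- Let a finite group G act on a ring R, let q be a prime of R with inertia subgroup I (elements acting
trivially modulo q). Then the ring of I-invariants is etale over the ring of G-invariants at the
prime below q: some principal localization of the I-invariants at an element outside that prime is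
an etale algebra over the G-invariants. -/
theorem result (G R : Type u) [Group G] [Finite G] [CommRing R] [MulSemiringAction G R]
    (q : Ideal R) [q.IsPrime] :
    ∃ g : FixedPoints.subring R (q.inertia G),
      g ∉ q.comap (FixedPoints.subring R (q.inertia G)).subtype ∧
      Algebra.Etale (FixedPoints.subring R G) (Localization.Away g) := by
  classical
  cases nonempty_fintype G
  obtain ⟨y, hy1, hy2⟩ := Groth.Agent.Lib.Helper6.TrivStab.exists_y (G := G) q
  -- the stabilizer of `y` is the inertia group
  have hstab : ∀ σ : G, σ • y = y → σ ∈ q.inertia G := by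
    intro σ hσ
    by_contra hcon
    apply hy2 σ hcon
    rw [hσ, sub_self]; exact q.zero_mem
  have hmem : ∀ x : R, x ∈ FixedPoints.subring R (q.inertia G) ↔
      ∀ τ ∈ q.inertia G, τ • x = x := by
    intro x
    constructor
    · intro hx τ hτ; exact hx ⟨τ, hτ⟩
    · intro hx τ; exact hx τ.1 τ.2
  have hyR' : y ∈ FixedPoints.subring R (q.inertia G) := (hmem y).2 hy1
  have hgR' : Groth.Agent.Lib.Helper6.InvEtale.diffElt G y ∈
      FixedPoints.subring R (q.inertia G) :=
    (hmem _).2 fun τ hτ => Groth.Agent.Lib.Helper6.InvEtale.smul_diffElt y τ (hy1 τ hτ)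
  refine ⟨⟨_, hgR'⟩, ?_, ?_⟩
  · rw [Ideal.mem_comap]
    exact Groth.Agent.Lib.Helper6.InvEtale.diffElt_notMem y q fun σ hσ =>
      hy2 σ fun hcon => hσ (hy1 σ hcon)
  · exact Groth.Agent.Lib.Helper6.InvEtale.etale_away_diffElt y
      (FixedPoints.subring R (q.inertia G)) (fun b => rfl) hyR'
      (fun s hs σ hσ => (hmem s).1 hs σ (hstab σ hσ)) _ rfl

end Groth.Agent.S0271
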