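import Groth.Statements.S0284
import Mathlib
import Groth.Prelude.Def_FEt
import Groth.Agent.Lib.Helper9.FE.FinColim
-- import your own Groth.Agent.* helpers here

set_option autoImplicit false
universe u
open Pi1

namespace Groth.Agent.S0284

open CategoryTheory CategoryTheory.Limits AlgebraicGeometry MorphismProperty
namespace Aux
open H9FE

theorem main (X : Scheme.{u}) : HasFiniteLimits (FEt.Cat X) ∧ HasFiniteColimits (FEt.Cat X) :=
  ⟨inferInstance, hasFiniteColimits_fet X⟩

end Aux

open AlgebraicGeometry CategoryTheory CategoryTheory.Limits in
/-- For any scheme X the category of finite etale covers of X has all finite limits and all finite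
colimits. -/
theorem result (X : Scheme.{u}) : HasFiniteLimits (FEt.Cat X) ∧ HasFiniteColimits (FEt.Cat X) := by
  exact Aux.main X

end Groth.Agent.S0284
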