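import Groth.Statements.S0288
-- import your own Groth.Agent.* helpers here
import Groth.Agent.S1450
import Groth.Agent.S9812

set_option autoImplicit false
universe u
open Pi1

namespace Groth.Agent.S0288

open AlgebraicGeometry CategoryTheory CategoryTheory.Limits in
/-- Let X be a normal integral scheme with function field K, L a finite field extension of K and Y -> X
the normalization of X in Spec L. If Y -> X is unramified (formally unramified and locally of finite
type), then it is etale, and finite. -/
theorem result {X : Scheme.{u}} [IsIntegral X] (hX : Pi1.IsNormalScheme X) (L : Type u) [Field L]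
    [Algebra X.functionField L] [FiniteDimensional X.functionField L]
    [QuasiCompact (Spec.map (CommRingCat.ofHom (algebraMap X.functionField L)) ≫ X.fromSpecStalk (genericPoint X))]
    [QuasiSeparated (Spec.map (CommRingCat.ofHom (algebraMap X.functionField L)) ≫ X.fromSpecStalk (genericPoint X))]
    [FormallyUnramified (Spec.map (CommRingCat.ofHom (algebraMap X.functionField L)) ≫ X.fromSpecStalk (genericPoint X)).fromNormalization]
    [LocallyOfFiniteType (Spec.map (CommRingCat.ofHom (algebraMap X.functionField L)) ≫ X.fromSpecStalk (genericPoint X)).fromNormalization] :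
    Etale (Spec.map (CommRingCat.ofHom (algebraMap X.functionField L)) ≫ X.fromSpecStalk (genericPoint X)).fromNormalization ∧
    IsFinite (Spec.map (CommRingCat.ofHom (algebraMap X.functionField L)) ≫ X.fromSpecStalk (genericPoint X)).fromNormalization := by
  classical
  have key : ∀ (g : Spec (CommRingCat.of L) ⟶ X) [QuasiCompact g] [QuasiSeparated g]
      [FormallyUnramified g.fromNormalization] [LocallyOfFiniteType g.fromNormalization],
      genericPoint X ∈ Set.range g.base →
      Etale g.fromNormalization ∧ IsFinite g.fromNormalization := by
    intro g _ _ _ _ hgen
    have hY : ∀ y : X, CAlg2.IsGeomUnibranch (X.presheaf.stalk y) := by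
      intro y
      haveI := (hX y).1
      haveI := (hX y).2
      exact Groth.Agent.S9812.result _
    haveI : IsIntegral g.normalization := inferInstance
    haveI : ConnectedSpace g.normalization := inferInstance
    have hdom : genericPoint X ∈ Set.range g.fromNormalization.base := by
      obtain ⟨z, hz⟩ := hgen
      refine ⟨g.toNormalization.base z, ?_⟩
      rw [← hz, ← Scheme.Hom.comp_apply, Scheme.Hom.toNormalization_fromNormalization]
    refine ⟨(Groth.Agent.S1450.result g.fromNormalization hY hdom).1, ?_⟩
    rw [IsFinite.iff_isIntegralHom_and_locallyOfFiniteType]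
    exact ⟨inferInstance, inferInstance⟩
  apply key
  refine ⟨IsLocalRing.closedPoint L, ?_⟩
  rw [Scheme.Hom.comp_apply]
  have h1 : (Spec.map (CommRingCat.ofHom (algebraMap X.functionField L))).base
      (IsLocalRing.closedPoint L) = IsLocalRing.closedPoint (X.presheaf.stalk (genericPoint X)) :=
    Subsingleton.elim (α := PrimeSpectrum X.functionField) _ _
  rw [h1]
  exact Scheme.fromSpecStalk_closedPoint

end Groth.Agent.S0288
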