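import Groth.Statements.S0297
import Mathlib
import Groth.Prelude.Def_FEt
import Groth.Agent.Lib.Helper9.FE.Galois
import Groth.Agent.Lib.Helper9.FE.GalAbs
-- import your own Groth.Agent.* helpers here

set_option autoImplicit false
universe u
open Pi1

namespace Groth.Agent.S0297

open CategoryTheory CategoryTheory.Limits AlgebraicGeometry MorphismProperty
namespace Aux
open H9FE

variable {X : Scheme.{u}} [ConnectedSpace X] {Ω Ω' : Type u} [Field Ω] [IsAlgClosed Ω] [Field Ω']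
    [IsAlgClosed Ω'] (ξ : Spec (CommRingCat.of Ω) ⟶ X) (ξ' : Spec (CommRingCat.of Ω') ⟶ X)

theorem galoisCat (ξ : Spec (CommRingCat.of Ω) ⟶ X) : GaloisCategory (FEt.Cat X) where
  hasFiberFunctor := ⟨fiberFin ξ, ⟨fiberFunctor_fiberFin ξ⟩⟩

theorem main : Nonempty (FEt.fiber ξ ≅ FEt.fiber ξ') := by
  haveI := galoisCat ξ
  obtain ⟨e⟩ := exists_natIso (fiberFin ξ) (fiberFin ξ')
  exact ⟨(fiberFinIso ξ).symm ≪≫ Functor.isoWhiskerRight e FintypeCat.incl ≪≫ fiberFinIso ξ'⟩

theorem main2 (φ : FEt.fiber ξ ⟶ FEt.fiber ξ') : IsIso φ := by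
  haveI := galoisCat ξ
  let φ' : fiberFin ξ ⋙ FintypeCat.incl ⟶ fiberFin ξ' ⋙ FintypeCat.incl :=
    (fiberFinIso ξ).hom ≫ φ ≫ (fiberFinIso ξ').inv
  let φ₀ : fiberFin ξ ⟶ fiberFin ξ' := (Functor.FullyFaithful.whiskeringRight
    (Functor.FullyFaithful.ofFullyFaithful FintypeCat.incl) _).preimage φ'
  have h0 : Functor.whiskerRight φ₀ FintypeCat.incl = φ' := (Functor.FullyFaithful.whiskeringRight
    (Functor.FullyFaithful.ofFullyFaithful FintypeCat.incl) _).map_preimage φ'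
  haveI : IsIso φ₀ := natTrans_isIso _ _ φ₀
  haveI : IsIso φ' := by rw [← h0]; infer_instance
  have h1 : φ = (fiberFinIso ξ).inv ≫ φ' ≫ (fiberFinIso ξ').hom := by
    simp [φ']
  rw [h1]
  infer_instance

end Aux

open AlgebraicGeometry CategoryTheory CategoryTheory.Limits in
/-- For a connected scheme X and geometric points ξ : Spec Ω → X and ξ' : Spec Ω' → X (Ω, Ω'
algebraically closed fields), every morphism of functors from the fibre functor at ξ to the fibre
functor at ξ' on finite étale covers of X is an isomorphism. -/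
theorem result {X : Scheme.{u}} [ConnectedSpace X] {Ω Ω' : Type u} [Field Ω]
    [IsAlgClosed Ω] [Field Ω'] [IsAlgClosed Ω'] (ξ : Spec (CommRingCat.of Ω) ⟶ X)
    (ξ' : Spec (CommRingCat.of Ω') ⟶ X) (φ : FEt.fiber ξ ⟶ FEt.fiber ξ') : IsIso φ := by
  exact Aux.main2 ξ ξ' φ

end Groth.Agent.S0297
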