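import Groth.Statements.S0304
import Mathlib
import Groth.Agent.Lib.Helper1.InjHullL

set_option autoImplicit false
universe u v
open InjHull

namespace Groth.Agent.S0304

/-- Let R be a commutative ring and E an indecomposable injective R-module. Then any two nonzero
submodules of E have nonzero intersection, and the set of elements r ∈ R such that r·x = 0 for some
nonzero x ∈ E is a prime ideal of R. -/
theorem result (R : Type u) [CommRing R] (E : Type u) [AddCommGroup E] [Module R E] (hE : InjHull.IsIndecomposable R E) (hinj : Module.Injective R E) : (∀ N N' : Submodule R E, N ≠ ⊥ → N' ≠ ⊥ → N ⊓ N' ≠ ⊥) ∧ ∃ p : Ideal R, p.IsPrime ∧ (p : Set R) = {r : R | ∃ x : E, x ≠ 0 ∧ r • x = 0} := by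
  have hess : ∀ N : Submodule R E, N ≠ ⊥ → Groth.Agent.Helper1.InjHullL.EssIn N ⊤ :=
    fun N hN => Groth.Agent.Helper1.InjHullL.essIn_top_of_indecomposable hE hinj hN
  have hmeet : ∀ N N' : Submodule R E, N ≠ ⊥ → N' ≠ ⊥ → N ⊓ N' ≠ ⊥ := by
    intro N N' hN hN'
    rw [inf_comm]
    exact (hess N hN).inf_ne_bot le_top hN'
  refine ⟨hmeet, ?_⟩
  have : Nontrivial E := hE.1
  -- key: two nonzero elements have a common nonzero multiple
  have hcommon : ∀ x y : E, x ≠ 0 → y ≠ 0 → ∃ (a b : R), a • x = b • y ∧ a • x ≠ 0 := by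
    intro x y hx hy
    have h1 : Submodule.span R {x} ≠ ⊥ := by simpa [Submodule.span_singleton_eq_bot] using hx
    have h2 : Submodule.span R {y} ≠ ⊥ := by simpa [Submodule.span_singleton_eq_bot] using hy
    obtain ⟨z, ⟨hz1, hz2⟩, hz0⟩ := (Submodule.ne_bot_iff _).mp (hmeet _ _ h1 h2)
    obtain ⟨a, rfl⟩ := Submodule.mem_span_singleton.mp hz1
    obtain ⟨b, hb⟩ := Submodule.mem_span_singleton.mp hz2
    exact ⟨a, b, hb.symm, hz0⟩
  let p : Ideal R :=
    { carrier := {r : R | ∃ x : E, x ≠ 0 ∧ r • x = 0}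
      add_mem' := by
        rintro r s ⟨x, hx, hrx⟩ ⟨y, hy, hsy⟩
        obtain ⟨a, b, hab, h0⟩ := hcommon x y hx hy
        refine ⟨a • x, h0, ?_⟩
        rw [add_smul, smul_comm r a x, hrx, smul_zero, zero_add, hab, smul_comm s b y, hsy,
          smul_zero]
      zero_mem' := by
        obtain ⟨x, hx⟩ := exists_ne (0 : E)
        exact ⟨x, hx, zero_smul _ _⟩
      smul_mem' := by
        rintro c r ⟨x, hx, hrx⟩
        exact ⟨x, hx, by rw [smul_eq_mul, mul_smul, hrx, smul_zero]⟩ }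
  refine ⟨p, ?_, rfl⟩
  refine ⟨?_, ?_⟩
  · intro htop
    have : (1 : R) ∈ p := htop ▸ Submodule.mem_top
    obtain ⟨x, hx, h1⟩ := this
    exact hx (by simpa using h1)
  · rintro a b ⟨x, hx, habx⟩
    by_cases hbx : b • x = 0
    · exact Or.inr ⟨x, hx, hbx⟩
    · exact Or.inl ⟨b • x, hbx, by rw [← mul_smul]; exact habx⟩

end Groth.Agent.S0304
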