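import Groth.Statements.S0389
import Mathlib
import Groth.Agent.Lib.Helper9.GenFree.Forms
-- import your own Groth.Agent.* helpers here

set_option autoImplicit false
universe u
open FlatMor

namespace Groth.Agent.S0389

namespace Aux
open Groth.Agent.Helper9.GenFree
open TensorProduct

theorem main {R S M : Type u} [CommRing R] [IsDomain R] [CommRing S] [Algebra R S] [Algebra.FiniteType R S] [AddCommGroup M] [Module S M] [Module R M] [IsScalarTower R S M] [Module.Finite S M] :
    ∃ f : R, f ≠ 0 ∧ Module.Free (Localization.Away f) (Localization.Away f ⊗[R] M) ∧
      Module.Free (Localization.Away f) (Localization.Away f ⊗[R] S) ∧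
      Algebra.FinitePresentation (Localization.Away f) (Localization.Away f ⊗[R] S) ∧
      Module.FinitePresentation (Localization.Away (algebraMap R S f)) (LocalizedModule (Submonoid.powers (algebraMap R S f)) M) := by
  obtain ⟨f, hf, ⟨ιM, bM, hbM⟩, ⟨ιS, bS, hbS⟩, ⟨S', _, _, hS'fp, π, hπ, hπker⟩,
    ⟨M', _, _, _, _, hM'fp, ρ, hρ, hρker⟩⟩ := generic_freeness_core R S M
  refine ⟨f, hf, ?_, ?_, ?_, ?_⟩
  · have := hbM.free_localizedModule
    exact Module.Free.of_equiv (LocalizedModule.equivTensorProduct (Submonoid.powers f) M)
  · have := hbS.free_localizedModule
    exact Module.Free.of_equiv (LocalizedModule.equivTensorProduct (Submonoid.powers f) S)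
  · exact finitePresentation_tensor_of_torsion_ker f π hπ hπker
  · apply finitePresentation_localizedModule_of_torsion_ker (algebraMap R S f) ρ hρ
    intro z hz
    obtain ⟨k, hk⟩ := hρker z hz
    refine ⟨k, ?_⟩
    rw [← map_pow, algebraMap_smul]
    exact hk

end Aux

open TensorProduct in
/-- Generic freeness: over a domain, for a finite type algebra and a finite module over it, after
inverting one nonzero element of the base the algebra and the module become free over the base, the
algebra becomes finitely presented over the base and the module finitely presented over the algebra. -/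
theorem result {R S M : Type u} [CommRing R] [IsDomain R] [CommRing S] [Algebra R S] [Algebra.FiniteType R S] [AddCommGroup M] [Module S M] [Module R M] [IsScalarTower R S M] [Module.Finite S M] :
    ∃ f : R, f ≠ 0 ∧ Module.Free (Localization.Away f) (Localization.Away f ⊗[R] M) ∧
      Module.Free (Localization.Away f) (Localization.Away f ⊗[R] S) ∧
      Algebra.FinitePresentation (Localization.Away f) (Localization.Away f ⊗[R] S) ∧
      Module.FinitePresentation (Localization.Away (algebraMap R S f)) (LocalizedModule (Submonoid.powers (algebraMap R S f)) M) := by
  exact Aux.main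

end Groth.Agent.S0389
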