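import Groth.Statements.S0394
import Mathlib
import Groth.Agent.Lib.Helper1.LocalCrit

set_option autoImplicit false
universe u
open FlatMor Groth.Agent.Helper1.LocalCrit

namespace Groth.Agent.S0394

open TensorProduct in
/-- For a local homomorphism R → S of Noetherian local rings and a nonzero finite S-module M flat over R
whose fibre M/mM is free over S/mS (m the maximal ideal of R), M is free over S and S is flat over
R. -/
theorem result {R S M : Type u} [CommRing R] [CommRing S] [IsLocalRing R] [IsLocalRing S] [IsNoetherianRing R] [IsNoetherianRing S] [Algebra R S] [IsLocalHom (algebraMap R S)]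
    [AddCommGroup M] [Module R M] [Module S M] [IsScalarTower R S M] [Module.Finite S M] [Nontrivial M] [Module.Flat R M]
    (h : Module.Free (S ⧸ ((IsLocalRing.maximalIdeal R).map (algebraMap R S))) ((S ⧸ ((IsLocalRing.maximalIdeal R).map (algebraMap R S))) ⊗[S] M)) :
    Module.Free S M ∧ Module.Flat R S := by
  classical
  generalize h𝔫 : (IsLocalRing.maximalIdeal R).map (algebraMap R S) = 𝔫 at h
  let b := Module.Free.chooseBasis (S ⧸ 𝔫) ((S ⧸ 𝔫) ⊗[S] M)
  have hzero : ∀ m : M, (1 : S ⧸ 𝔫) ⊗ₜ[S] m = 0 ↔ m ∈ 𝔫 • (⊤ : Submodule S M) := by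
    intro m
    rw [← (quotTensorEquivQuotSMul M 𝔫).map_eq_zero_iff, quotTensorEquivQuotSMul_mk_one_tmul,
      Submodule.Quotient.mk_eq_zero]
  have hsurj : ∀ z : (S ⧸ 𝔫) ⊗[S] M, ∃ m : M, (1 : S ⧸ 𝔫) ⊗ₜ[S] m = z := by
    intro z
    obtain ⟨m, hm⟩ := Submodule.Quotient.mk_surjective _ (quotTensorEquivQuotSMul M 𝔫 z)
    refine ⟨m, ?_⟩
    apply (quotTensorEquivQuotSMul M 𝔫).injective
    rw [quotTensorEquivQuotSMul_mk_one_tmul, hm]
  choose x hx using fun i => hsurj (b i)
  let uS : (Module.Free.ChooseBasisIndex (S ⧸ 𝔫) ((S ⧸ 𝔫) ⊗[S] M) → S) →ₗ[S] M :=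
    Fintype.linearCombination S x
  have key : ∀ y, (1 : S ⧸ 𝔫) ⊗ₜ[S] (uS y) = ∑ i, (Ideal.Quotient.mk 𝔫 (y i)) • b i := by
    intro y
    rw [Fintype.linearCombination_apply, tmul_sum]
    refine Finset.sum_congr rfl (fun i _ => ?_)
    rw [tmul_smul, ← hx i]
    rfl
  have h𝔫jac : 𝔫 ≤ Ideal.jacobson ⊥ := by
    rw [← h𝔫]
    exact (IsLocalRing.map_maximalIdeal_le (algebraMap R S)).trans
      (IsLocalRing.maximalIdeal_le_jacobson ⊥)
  have hsurjU : Function.Surjective uS := by
    rw [← LinearMap.range_eq_top, eq_top_iff]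
    apply Submodule.le_of_le_smul_of_le_jacobson_bot (I := 𝔫)
      (Module.finite_def.mp inferInstance) h𝔫jac
    intro m _
    choose s hs using fun i => Ideal.Quotient.mk_surjective (b.equivFun ((1 : S ⧸ 𝔫) ⊗ₜ[S] m) i)
    have h0 : (1 : S ⧸ 𝔫) ⊗ₜ[S] (m - uS s) = 0 := by
      rw [tmul_sub, key, sub_eq_zero]
      simp_rw [hs]
      exact (b.sum_equivFun _).symm
    rw [hzero] at h0
    have hm : m = uS s + (m - uS s) := by abel
    rw [hm]
    exact Submodule.add_mem_sup (LinearMap.mem_range_self _ _) h0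
  have hsmul : ∀ (N' : Type u) [AddCommGroup N'] [Module R N'] [Module S N']
      [IsScalarTower R S N'] (z : N'),
      z ∈ IsLocalRing.maximalIdeal R • (⊤ : Submodule R N') ↔ z ∈ 𝔫 • (⊤ : Submodule S N') := by
    intro N' _ _ _ _ z
    have := Ideal.smul_restrictScalars (IsLocalRing.maximalIdeal R) (⊤ : Submodule S N')
    rw [Submodule.restrictScalars_top] at this
    rw [← h𝔫, ← this, Submodule.restrictScalars_mem]
  have hκ : Function.Injective ((uS.restrictScalars R).lTensor (IsLocalRing.ResidueField R)) := by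
    rw [lTensor_residueField_injective_iff]
    intro y hy
    rw [hsmul] at hy ⊢
    have h0 := (hzero (uS y)).mpr hy
    rw [key] at h0
    have hli := Fintype.linearIndependent_iff.mp b.linearIndependent _ h0
    have hyi : ∀ i, y i ∈ 𝔫 := fun i => Ideal.Quotient.eq_zero_iff_mem.mp (hli i)
    rw [pi_eq_sum_univ y]
    exact Submodule.sum_mem _ (fun i _ => Submodule.smul_mem_smul (hyi i) Submodule.mem_top)
  have hinj : Function.Injective uS :=
    injective_of_lTensor_residueField_injective (S := S) (uS.restrictScalars R) hκ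
  let e := LinearEquiv.ofBijective uS ⟨hinj, hsurjU⟩
  refine ⟨Module.Free.of_equiv e, ?_⟩
  have hne : Nonempty (Module.Free.ChooseBasisIndex (S ⧸ 𝔫) ((S ⧸ 𝔫) ⊗[S] M)) := by
    by_contra hemp
    rw [not_nonempty_iff] at hemp
    have : Subsingleton M := e.symm.toEquiv.subsingleton
    exact not_subsingleton M this
  obtain ⟨i₀⟩ := hne
  let inc : S →ₗ[R] M :=
    (uS.restrictScalars R) ∘ₗ (LinearMap.single S (fun _ => S) i₀).restrictScalars R
  let ret : M →ₗ[R] S :=
    (LinearMap.proj (R := S) (φ := fun _ => S) i₀).restrictScalars R ∘ₗ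
      e.symm.toLinearMap.restrictScalars R
  refine Module.Flat.of_retract inc ret (LinearMap.ext fun s => ?_)
  show (e.symm (e (Pi.single i₀ s))) i₀ = s
  rw [LinearEquiv.symm_apply_apply, Pi.single_eq_same]

end Groth.Agent.S0394
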