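import Groth.Statements.S0395
import Mathlib
import Groth.Agent.Lib.Helper1.LocalCrit

set_option autoImplicit false
universe u
open FlatMor Groth.Agent.Helper1.LocalCrit

namespace Groth.Agent.S0395

open TensorProduct nonZeroDivisors in
/-- For a flat local homomorphism R → S of Noetherian local rings and an element f of S that is regular
on the fibre ring S/mS, the quotient of S by f is again R-flat and f is regular on S. -/
theorem result {R S : Type u} [CommRing R] [CommRing S] [IsLocalRing R] [IsLocalRing S] [IsNoetherianRing R] [IsNoetherianRing S] [Algebra R S] [IsLocalHom (algebraMap R S)] [Module.Flat R S]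
    (f : S) (hf : Ideal.Quotient.mk ((IsLocalRing.maximalIdeal R).map (algebraMap R S)) f ∈ nonZeroDivisors (S ⧸ ((IsLocalRing.maximalIdeal R).map (algebraMap R S)))) :
    Module.Flat R (S ⧸ Ideal.span {f}) ∧ f ∈ nonZeroDivisors S := by
  let u : S →ₗ[R] S := LinearMap.mulLeft R f
  have hmem : ∀ s : S, s ∈ IsLocalRing.maximalIdeal R • (⊤ : Submodule R S) ↔
      s ∈ (IsLocalRing.maximalIdeal R).map (algebraMap R S) := by
    intro s
    rw [Ideal.smul_top_eq_map]
    rfl
  have h : Function.Injective (u.lTensor (IsLocalRing.ResidueField R)) := by
    rw [lTensor_residueField_injective_iff]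
    intro s hs
    rw [hmem] at hs ⊢
    have hs' : f * s ∈ (IsLocalRing.maximalIdeal R).map (algebraMap R S) := hs
    rw [← Ideal.Quotient.eq_zero_iff_mem] at hs' ⊢
    apply (mem_nonZeroDivisors_iff.mp hf).1
    rw [← map_mul]
    exact hs'
  have hinj := injective_of_lTensor_residueField_injective (S := S) u h
  have hflat := flat_quotient_range_of_lTensor_residueField_injective (S := S) u h
  refine ⟨?_, ?_⟩
  · have hr : LinearMap.range u = (Ideal.span {f}).restrictScalars R := by
      ext x
      simp only [LinearMap.mem_range, Submodule.restrictScalars_mem, Ideal.mem_span_singleton', u,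
        LinearMap.mulLeft_apply]
      constructor
      · rintro ⟨y, rfl⟩; exact ⟨y, mul_comm _ _⟩
      · rintro ⟨y, rfl⟩; exact ⟨y, mul_comm _ _⟩
    exact Module.Flat.of_linearEquiv
      ((Submodule.Quotient.restrictScalarsEquiv R (Ideal.span {f})).symm.trans
        (Submodule.quotEquivOfEq _ _ hr.symm))
  · rw [mem_nonZeroDivisors_iff]
    constructor
    · intro x hx
      apply hinj
      rw [map_zero]
      exact hx
    · intro x hx
      apply hinj
      rw [map_zero]
      show f * x = 0
      rw [mul_comm]; exact hx

end Groth.Agent.S0395
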