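import Groth.Statements.S0401
import Mathlib

set_option autoImplicit false
universe u
open FlatMor

namespace Groth.Agent.S0401

/-- For a finite type ring map R → S quasi-finite at a prime q lying over p, the dimension of S_q is at
most the dimension of R_p. -/
theorem result {R S : Type u} [CommRing R] [CommRing S] [Algebra R S] [Algebra.FiniteType R S] (q : Ideal S) [q.IsPrime] [Algebra.QuasiFiniteAt R q] :
    ringKrullDim (Localization.AtPrime q) ≤ ringKrullDim (Localization.AtPrime (q.under R)) := by
  rw [IsLocalization.AtPrime.ringKrullDim_eq_height q,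
    IsLocalization.AtPrime.ringKrullDim_eq_height (q.under R), WithBot.coe_le_coe]
  have e1 := PrimeSpectrum.height_eq_orderHeight (⟨q, inferInstance⟩ : PrimeSpectrum S)
  have e2 := PrimeSpectrum.height_eq_orderHeight (⟨q.under R, inferInstance⟩ : PrimeSpectrum R)
  simp only at e1 e2
  rw [e1, e2, Order.height_le_iff]
  intro l hl
  -- map the chain down
  have hqf : ∀ i, Algebra.QuasiFiniteAt R (l i).asIdeal := fun i =>
    Algebra.QuasiFiniteAt.of_le (show (l i).asIdeal ≤ q from
      (PrimeSpectrum.asIdeal_le_asIdeal _ _).2 ((l.monotone (Fin.le_last i)).trans hl))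
  let l' : LTSeries (PrimeSpectrum R) :=
    { length := l.length
      toFun := fun i => PrimeSpectrum.comap (algebraMap R S) (l i)
      step := by
        intro i
        have hlt := l.step i
        have hle : (l i.castSucc).asIdeal ≤ (l i.succ).asIdeal :=
          (PrimeSpectrum.asIdeal_le_asIdeal _ _).2 hlt.le
        refine lt_of_le_of_ne (α := PrimeSpectrum R) ?_ ?_
        · exact (PrimeSpectrum.asIdeal_le_asIdeal _ _).1 (Ideal.comap_mono hle)
        · intro heq
          have h2 : (l i.castSucc).asIdeal.under R = (l i.succ).asIdeal.under R :=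
            congrArg PrimeSpectrum.asIdeal heq
          have := hqf i.succ
          have h3 := Algebra.QuasiFiniteAt.eq_of_le_of_under_eq (R := R) hle h2
          exact hlt.ne (PrimeSpectrum.ext h3) }
  have hlast : l'.last ≤ (⟨q.under R, inferInstance⟩ : PrimeSpectrum R) := by
    change PrimeSpectrum.comap (algebraMap R S) l.last ≤ _
    exact (PrimeSpectrum.asIdeal_le_asIdeal _ _).1
      (Ideal.comap_mono ((PrimeSpectrum.asIdeal_le_asIdeal _ _).2 hl))
  exact Order.length_le_height hlast

end Groth.Agent.S0401
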