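import Groth.Statements.S0408
import Groth.Agent.Lib.Helper6.EtLoc.QFPoint
import Groth.Agent.Lib.Helper6.EtLoc.FinUnion

set_option autoImplicit false
universe u
open FlatMor

namespace Groth.Agent.S0408

open AlgebraicGeometry CategoryTheory Limits in
/-- Étale localization of a quasi-finite point (one-point case): for f separated and locally of finite
type and x isolated in its fibre, after base change along an étale morphism g with a point u over
f(x) having the same residue field, the base change splits off an open and closed piece V, finite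
over the base, whose fibre over u is a single point v lying over x with the same residue field as x,
and no other point over u lies over x. -/
theorem result {X S : Scheme.{u}} (f : X ⟶ S) [LocallyOfFiniteType f] [IsSeparated f] (x : X) (hx : f.QuasiFiniteAt x) :
    ∃ (U : Scheme.{u}) (g : U ⟶ S) (u : U), Etale g ∧ g u = f x ∧ Function.Surjective (g.residueFieldMap u) ∧
      ∃ (V : (pullback f g).Opens) (v : ↑(pullback f g)), IsClopen (V : Set ↑(pullback f g)) ∧
        IsFinite (V.ι ≫ pullback.snd f g) ∧ v ∈ V ∧ pullback.fst f g v = x ∧ pullback.snd f g v = u ∧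
        Function.Surjective ((pullback.fst f g).residueFieldMap v) ∧
        (∀ w : ↑(pullback f g), pullback.snd f g w = u → (w ∈ V ∨ pullback.fst f g w = x) → w = v) := by
  open Groth.Agent.Lib.Helper6.EtLoc in
  obtain ⟨U, g, u, hg, hgu, hres, K, hK, V, h1, h2, h3, h4⟩ := qf_point f x hx
  obtain ⟨v, hv1, hv2⟩ := Scheme.Pullback.exists_preimage_pullback (f := f) (g := g) x u hgu.symm
  obtain ⟨k, hk⟩ := h4 v hv2 hv1
  have hresv : Function.Surjective (g.residueFieldMap (pullback.snd f g v)) :=
    (Groth.Agent.Lib.Helper6.EtLoc.surjective_residueFieldMap_congr g hv2).mpr hres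
  refine ⟨U, g, u, hg, hgu, hres, V k, v, ⟨?_, (V k).2⟩, (h1 k).1, hk, hv1, hv2, ?_, ?_⟩
  · exact Groth.Agent.Lib.Helper6.EtLoc.isClosed_of_isFinite (pullback.snd f g) (V k) (h1 k).1
  · exact Groth.Agent.Lib.Helper6.EtLoc.surjective_fst_residueFieldMap v hresv
  · intro w hwu hw
    have hwx : pullback.fst f g w = x := by
      rcases hw with hw | hw
      · exact h2 k w hw hwu
      · exact hw
    exact Groth.Agent.Lib.Helper6.EtLoc.eq_of_fst_eq_snd_eq w v (by rw [hwx, hv1])
      (by rw [hwu, hv2]) hresv

end Groth.Agent.S0408
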