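import Groth.Statements.S0417
-- import your own Groth.Agent.* helpers here
import Groth.Agent.Lib.Helper7.ThickSch2

set_option autoImplicit false
universe u
open FlatMor

namespace Groth.Agent.S0417

open AlgebraicGeometry CategoryTheory Limits in
/-- Let i : S' → S be a closed immersion that is bijective on points and f : X → S a morphism of finite
type (locally of finite type and quasi-compact) whose base change X ×_S S' → S' is a closed
immersion. Then f is a closed immersion. The published statement alternatively allows S' → S of
finite presentation in place of the finite-type hypothesis on f; only the first alternative is
stated. -/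
theorem result {X S S' : Scheme.{u}} (f : X ⟶ S) (i : S' ⟶ S) [IsClosedImmersion i] (hi : Function.Bijective i)
    [LocallyOfFiniteType f] [QuasiCompact f] [IsClosedImmersion (pullback.snd f i)] : IsClosedImmersion f := by
  have hth : MoreMor.IsThickening i := ⟨inferInstance, ⟨hi.2⟩⟩
  exact (Groth.Agent.Helper7.ThickSch.S1313_main hth (IsPullback.of_hasPullback f i)).mp inferInstance

end Groth.Agent.S0417
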