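import Groth.Statements.S0423
import Mathlib.AlgebraicGeometry.Morphisms.WeaklyEtale
import Mathlib.AlgebraicGeometry.Morphisms.FormallyUnramified
import Mathlib.RingTheory.Ideal.Pure
import Mathlib.Tactic

set_option autoImplicit false
universe u
open FlatMor

namespace Groth.Agent.S0423


open TensorProduct in
/-- Ring-level statement: if the multiplication map `S ⊗[R] S → S` is flat then `Ω[S⁄R] = 0`. -/
theorem formallyUnramified_of_flat_lmul {R S : Type u} [CommRing R] [CommRing S] [Algebra R S]
    (h : (Algebra.TensorProduct.lmul' R (S := S)).toRingHom.Flat) :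
    Algebra.FormallyUnramified R S := by
  let F : S ⊗[R] S →+* S := (Algebra.TensorProduct.lmul' R (S := S)).toRingHom
  have hF : Function.Surjective F := fun x => ⟨x ⊗ₜ 1, by simp [F]⟩
  letI : Algebra (S ⊗[R] S) S := F.toAlgebra
  have hflat : Module.Flat (S ⊗[R] S) S := h
  let e : ((S ⊗[R] S) ⧸ RingHom.ker F) ≃ₐ[S ⊗[R] S] S :=
    Ideal.quotientKerAlgEquivOfSurjective (f := Algebra.ofId (S ⊗[R] S) S) hF
  have hpure : (RingHom.ker F).Pure :=
    Module.Flat.of_linearEquiv e.toLinearEquiv
  have hidem : IsIdempotentElem (RingHom.ker F) := Ideal.isIdempotentElem_of_pure _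
  refine ⟨?_⟩
  exact (Ideal.cotangent_subsingleton_iff (KaehlerDifferential.ideal R S)).2 hidem

open AlgebraicGeometry CategoryTheory Limits in
set_option backward.isDefEq.respectTransparency.types false in
theorem formallyUnramified_of_flat_diagonal {X Y : Scheme.{u}} (f : X ⟶ Y)
    (hf : Flat (pullback.diagonal f)) : FormallyUnramified f := by
  wlog hY : ∃ R, Y = Spec R generalizing X Y
  · rw [IsZariskiLocalAtTarget.iff_of_openCover (P := @FormallyUnramified) Y.affineCover]
    intro i
    have inst : Flat (pullback.diagonal (pullback.snd f (Y.affineCover.f i))) :=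
      MorphismProperty.pullback_snd (P := .diagonal @Flat) _ _ hf
    exact this (pullback.snd _ _) inst ⟨_, rfl⟩
  obtain ⟨R, rfl⟩ := hY
  wlog hX : ∃ S, X = Spec S generalizing X
  · rw [IsZariskiLocalAtSource.iff_of_openCover (P := @FormallyUnramified) X.affineCover]
    intro i
    have inst : Flat (pullback.diagonal (X.affineCover.f i ≫ f)) :=
      MorphismProperty.comp_mem (.diagonal @Flat) _ _
        (inferInstanceAs (Flat (pullback.diagonal (X.affineCover.f i)))) hf
    exact this (_ ≫ _) inst ⟨_, rfl⟩
  obtain ⟨S, rfl⟩ := hX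
  obtain ⟨φ, rfl : Spec.map φ = f⟩ := Spec.homEquiv.symm.surjective f
  rw [HasRingHomProperty.Spec_iff (P := @FormallyUnramified)]
  algebraize [φ.hom]
  let F := (Algebra.TensorProduct.lmul' R (S := S)).toRingHom
  have : Flat (Spec.map (CommRingCat.ofHom F)) := by
    rwa [← MorphismProperty.cancel_right_of_respectsIso (P := @Flat) _
      (pullbackSpecIso R S S).inv, ← AlgebraicGeometry.diagonal_SpecMap R S]
  rw [HasRingHomProperty.Spec_iff (P := @Flat)] at this
  exact formallyUnramified_of_flat_lmul this

open AlgebraicGeometry CategoryTheory Limits in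
/-- A weakly étale morphism of schemes (flat with flat diagonal) is formally unramified. -/
theorem result {X Y : Scheme.{u}} (f : X ⟶ Y) [WeaklyEtale f] : FormallyUnramified f := by
  exact formallyUnramified_of_flat_diagonal f inferInstance

end Groth.Agent.S0423
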