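import Groth.Statements.S1302
import Mathlib
import Groth.Prelude.Def_MoreMor
import Groth.Agent.Lib.Helper9.ThickAff
-- import your own Groth.Agent.* helpers here

set_option autoImplicit false
universe u
open FlatMor

namespace Groth.Agent.S1302

open AlgebraicGeometry CategoryTheory
namespace Aux

/-- relative version: an open whose preimage under a thickening is affine is affine -/
lemma isAffineOpen_of_preimage {X X' : Scheme.{u}} (t : X ⟶ X') [IsClosedImmersion t]
    (ht : Function.Surjective t) (W : X'.Opens) (hW : IsAffineOpen (t ⁻¹ᵁ W)) : IsAffineOpen W := by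
  have : IsClosedImmersion (t ∣_ W) := IsZariskiLocalAtTarget.restrict (P := @IsClosedImmersion) ‹_› W
  haveI : IsAffine (t ⁻¹ᵁ W).toScheme := hW
  refine H9ThickAff.isAffine_of_thickening (t ∣_ W) ?_
  rintro ⟨x, hx⟩
  obtain ⟨x₀, rfl⟩ := ht x
  refine ⟨⟨x₀, hx⟩, ?_⟩
  apply Subtype.ext
  exact (morphismRestrict_base_coe t W ⟨x₀, hx⟩)

theorem main {X X' S S' : Scheme.{u}} (iX : X ⟶ X') (iS : S ⟶ S') (f : X ⟶ S) (f' : X' ⟶ S')
    (hX : MoreMor.IsThickening iX) (hS : MoreMor.IsThickening iS) (w : iX ≫ f' = f ≫ iS) :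
    IsAffineHom f ↔ IsAffineHom f' := by
  haveI := hX.1
  haveI := hS.1
  have hXs : Function.Surjective iX := hX.2.surj
  constructor
  · intro hf
    refine ⟨fun V' hV' => ?_⟩
    apply isAffineOpen_of_preimage iX hXs
    have e : iX ⁻¹ᵁ (f' ⁻¹ᵁ V') = f ⁻¹ᵁ (iS ⁻¹ᵁ V') := by
      change (iX ≫ f') ⁻¹ᵁ V' = (f ≫ iS) ⁻¹ᵁ V'
      rw [w]
    rw [e]
    exact (hV'.preimage iS).preimage f
  · intro hf'
    haveI : IsAffineHom (f ≫ iS) := by
      rw [← w]
      infer_instance
    exact IsAffineHom.of_comp f iS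

end Aux

open AlgebraicGeometry CategoryTheory Limits in
/-- For a morphism of thickenings, that is a commutative square whose horizontal maps are thickenings
(closed immersions that are surjective on points), the morphism between the thin schemes is affine
if and only if the morphism between the thick ones is. -/
theorem result {X X' S S' : Scheme.{u}} (iX : X ⟶ X') (iS : S ⟶ S') (f : X ⟶ S) (f' : X' ⟶ S')
    (hX : MoreMor.IsThickening iX) (hS : MoreMor.IsThickening iS) (w : iX ≫ f' = f ≫ iS) :
    IsAffineHom f ↔ IsAffineHom f' := by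
  exact Aux.main iX iS f f' hX hS w

end Groth.Agent.S1302
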