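import Groth.Statements.S0431
import Mathlib
import Groth.Agent.Lib.Helper9.PO.Glue8
import Groth.Agent.S1302
-- import your own Groth.Agent.* helpers here

set_option autoImplicit false
universe u
open FlatMor

namespace Groth.Agent.S0431

open AlgebraicGeometry CategoryTheory Opposite TopologicalSpace Limits
namespace Aux

open H9PO H9Ferrand H9ThickAff

variable {X X' Y : Scheme.{u}} (t : X ⟶ X') [IsClosedImmersion t] (ht : Function.Surjective t)
  (f : X ⟶ Y) [IsAffineHom f]

include ht in
lemma exists_chart (y : Y) : ∃ c : Chart t f, y ∈ c.V ∧ ∀ x : X, f x = y → t x ∈ c.U := by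
  obtain ⟨V, hV, hyV, -⟩ := Opens.isBasis_iff_nbhd.mp Y.isBasis_affineOpens
    (show y ∈ (⊤ : Y.Opens) from trivial)
  have hW : IsAffineOpen (f ⁻¹ᵁ V) := hV.preimage f
  have e : t ⁻¹ᵁ (img t ht (f ⁻¹ᵁ V)) = f ⁻¹ᵁ V := preimage_img t ht _
  have hU : IsAffineOpen (img t ht (f ⁻¹ᵁ V)) :=
    Groth.Agent.S1302.Aux.isAffineOpen_of_preimage t ht _ (by rw [e]; exact hW)
  refine ⟨⟨⟨img t ht (f ⁻¹ᵁ V), V, e⟩, hU, hV⟩, hyV, ?_⟩
  rintro x rfl
  exact ⟨x, hyV, rfl⟩

include ht in
lemma covers : Covers t f where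
  covX x' := by
    obtain ⟨x, rfl⟩ := ht x'
    obtain ⟨c, -, hc⟩ := exists_chart t ht f (f x)
    exact ⟨c, hc x rfl⟩
  covY y := by
    obtain ⟨c, hc, -⟩ := exists_chart t ht f y
    exact ⟨c, hc⟩

include ht in
theorem main : ∃ (Y' : Scheme.{u}) (f' : X' ⟶ Y') (b : Y ⟶ Y'), IsPushout t f f' b ∧
    IsPullback t f f' b ∧ IsClosedImmersion b ∧ Function.Surjective b := by
  obtain ⟨P, a, b, h1, h2, h3, -, -, -, h7⟩ := exists_pushout (covers t ht f)
  exact ⟨P, a, b, h1, h2, h3, h7 ht⟩

end Aux

open AlgebraicGeometry CategoryTheory Limits in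
/-- For a thickening X → X' (a surjective closed immersion) and an affine morphism X → Y, the pushout Y'
of X' and Y along X exists in schemes, Y → Y' is again a thickening and X is the fibre product of Y
and X' over Y' (the source's description of the structure sheaf of the pushout as a fibre product of
sheaves is not restated). -/
theorem result {X X' Y : Scheme.{u}} (t : X ⟶ X') [IsClosedImmersion t] (ht : Function.Surjective t) (f : X ⟶ Y) [IsAffineHom f] :
    ∃ (Y' : Scheme.{u}) (f' : X' ⟶ Y') (b : Y ⟶ Y'), IsPushout t f f' b ∧ IsPullback t f f' b ∧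
      IsClosedImmersion b ∧ Function.Surjective b := by
  exact Aux.main t ht f

end Groth.Agent.S0431
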