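import Groth.Statements.S0433
import Mathlib
import Groth.Agent.Lib.Helper9.Ferrand.Sch
-- import your own Groth.Agent.* helpers here

set_option autoImplicit false
universe u
open FlatMor

namespace Groth.Agent.S0433

open AlgebraicGeometry CategoryTheory Limits
namespace Aux

open H9Ferrand

theorem main {A A' B : Type u} [CommRing A] [CommRing A'] [CommRing B] (p : A' →+* A)
    (hp : Function.Surjective p) (q : B →+* A) :
    IsPushout (Spec.map (CommRingCat.ofHom p)) (Spec.map (CommRingCat.ofHom q))
      (Spec.map (pullback.snd (CommRingCat.ofHom q) (CommRingCat.ofHom p)))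
      (Spec.map (pullback.fst (CommRingCat.ofHom q) (CommRingCat.ofHom p))) := by
  set Q := CommRingCat.ofHom q with hQ
  set P' := CommRingCat.ofHom p with hP'
  let e : pullback Q P' ≅ (CommRingCat.pullbackCone Q P').pt :=
    (limit.isLimit _).conePointUniqueUpToIso (CommRingCat.pullbackConeIsLimit Q P')
  have he1 : e.hom ≫ (CommRingCat.pullbackCone Q P').fst = pullback.fst Q P' :=
    IsLimit.conePointUniqueUpToIso_hom_comp _ _ WalkingCospan.left
  have he2 : e.hom ≫ (CommRingCat.pullbackCone Q P').snd = pullback.snd Q P' :=
    IsLimit.conePointUniqueUpToIso_hom_comp _ _ WalkingCospan.right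
  have hi1 : e.inv ≫ pullback.fst Q P' = (CommRingCat.pullbackCone Q P').fst :=
    IsLimit.conePointUniqueUpToIso_inv_comp _ _ WalkingCospan.left
  have hi2 : e.inv ≫ pullback.snd Q P' = (CommRingCat.pullbackCone Q P').snd :=
    IsLimit.conePointUniqueUpToIso_inv_comp _ _ WalkingCospan.right
  let M : MSq ((pullback Q P' : CommRingCat.{u}) : Type u) B A' A :=
    { f := (pullback.fst Q P').hom
      g := (pullback.snd Q P').hom
      q := q
      p := p
      comm := by
        have := congrArg CommRingCat.Hom.hom (pullback.condition (f := Q) (g := P'))
        exact this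
      surj := hp
      pb := by
        intro b a' h
        let x₀ : (CommRingCat.pullbackCone Q P').pt := ⟨(b, a'), h⟩
        refine ⟨e.inv x₀, ⟨?_, ?_⟩, ?_⟩
        · have := congr(($hi1).hom x₀)
          exact this
        · have := congr(($hi2).hom x₀)
          exact this
        · rintro y ⟨hy1, hy2⟩
          have h1 : e.hom y = x₀ := by
            apply Subtype.ext
            apply Prod.ext
            · have := congr(($he1).hom y)
              exact this.trans hy1
            · have := congr(($he2).hom y)
              exact this.trans hy2
          rw [← h1]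
          exact (congr(($(e.hom_inv_id)).hom y)).symm }
  exact M.isPushout.flip

end Aux

open AlgebraicGeometry CategoryTheory Limits in
/-- For a surjective ring map A' → A and any ring map B → A, the spectra of A, A', B and of the fibre
product ring B ×_A A' form a pushout square of schemes. -/
theorem result {A A' B : Type u} [CommRing A] [CommRing A'] [CommRing B] (p : A' →+* A) (hp : Function.Surjective p) (q : B →+* A) :
    IsPushout (Spec.map (CommRingCat.ofHom p)) (Spec.map (CommRingCat.ofHom q))
      (Spec.map (pullback.snd (CommRingCat.ofHom q) (CommRingCat.ofHom p)))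
      (Spec.map (pullback.fst (CommRingCat.ofHom q) (CommRingCat.ofHom p))) := by
  exact Aux.main p hp q

end Groth.Agent.S0433
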