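import Groth.Statements.S0436
import Groth.Agent.Lib.Helper6.DVRFib.SchReduced

set_option autoImplicit false
universe u
open FlatMor

namespace Groth.Agent.S0436

open AlgebraicGeometry CategoryTheory Limits in
/-- For a proper flat morphism to the spectrum of a discrete valuation ring whose special fibre is
reduced, both the total space and the generic fibre are reduced. (The published statement is
stronger: instead of flatness it only needs every irreducible component of the total space to
dominate the base.) -/
theorem result {R : Type u} [CommRing R] [IsDomain R] [IsDiscreteValuationRing R] {X : Scheme.{u}}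
    (f : X ⟶ Spec (CommRingCat.of R)) [IsProper f] [Flat f]
    (hred : IsReduced (f.fiber (IsLocalRing.closedPoint R))) :
    IsReduced X ∧ IsReduced (f.fiber (⟨⊥, Ideal.isPrime_bot⟩ : PrimeSpectrum R)) := by
  have hst : ∀ x : X, _root_.IsReduced (X.presheaf.stalk x) := fun x =>
    Groth.Agent.Lib.Helper6.DVRFib.isReduced_stalk_of_proper f hred x
  have hX : AlgebraicGeometry.IsReduced X := isReduced_of_isReduced_stalk X
  refine ⟨hX, ?_⟩
  have h1 : IsOpenImmersion ((Spec (CommRingCat.of R)).fromSpecResidueField
      (⟨⊥, Ideal.isPrime_bot⟩ : PrimeSpectrum R)) :=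
    Groth.Agent.Lib.Helper6.DVRFib.isOpenImmersion_fromSpecResidueField_generic
  have h2 : IsOpenImmersion (f.fiberι (⟨⊥, Ideal.isPrime_bot⟩ : PrimeSpectrum R)) := by
    unfold Scheme.Hom.fiberι
    exact MorphismProperty.pullback_fst (P := @IsOpenImmersion) _ _ h1
  exact isReduced_of_isOpenImmersion (f.fiberι (⟨⊥, Ideal.isPrime_bot⟩ : PrimeSpectrum R))

end Groth.Agent.S0436
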