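import Groth.Statements.S0468
import Groth.Agent.S0862
import Groth.Agent.Lib.Helper3.SpecCov

set_option autoImplicit false
universe u
open CategoryTheory
open CohTop

namespace Groth.Agent.S0468

open TopologicalSpace Opposite CategoryTheory.Limits in
/-- Let X be a space whose compact opens form a basis and are stable under pairwise intersections, U a
compact open and (F_i) a directed system of abelian sheaves. Then colim H^q(U, F_i) → H^q(U, colim
F_i) is an isomorphism; stated as: H^q(U, -) preserves colimits of shape ι for every nonempty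
directed preorder ι. -/
theorem result {X : TopCat.{u}} [PrespectralSpace X] [QuasiSeparatedSpace X]
    (U : Opens X) (hU : IsCompact (U : Set X))
    (ι : Type u) [Preorder ι] [IsDirected ι (· ≤ ·)] [Nonempty ι] (q : ℕ) :
    PreservesColimitsOfShape ι
      ((Sheaf.cohomologyPresheafFunctor (Opens.grothendieckTopology X) q).flip.obj (op U) :
        CohTop.Ab X ⥤ AddCommGrpCat.{u}) := by
  constructor
  intro F
  let B : Set (TopologicalSpace.Opens X) := {V | IsCompact (V : Set X)}
  let Cov : ∀ (V : TopologicalSpace.Opens X) (κ : Type u), (κ → Over V) → Prop :=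
    fun V κ Y => Finite κ ∧ IsCompact (V : Set X) ∧ (∀ k, IsCompact ((Y k).left : Set X)) ∧
      Sieve.ofArrows (fun k => (Y k).left) (fun k => (Y k).hom) ∈ Opens.grothendieckTopology X V
  refine Groth.Agent.S0862.result (Opens.grothendieckTopology X) B Cov ?_ ?_ U hU q ι F
  · intro V κ Y hc
    obtain ⟨hfin, hV, hY, hcov⟩ := hc
    refine ⟨hfin, hV, hcov, fun p a => ?_⟩
    change IsCompact (((∏ᶜ fun k => Y (a k)).left : TopologicalSpace.Opens X) : Set X)
    rw [Groth.Agent.Helper3.SpecCov.prod_left_eq_iInf Y a]
    exact Groth.Agent.Helper3.SpecCov.isCompact_iInf_fin p _ (fun k => hY (a k))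
  · intro V hV T hT
    obtain ⟨κ, Y, hfin, hYc, hcov, hYT⟩ :=
      Groth.Agent.Helper3.SpecCov.exists_finite_refinement V hV T hT
    exact ⟨κ, Y, ⟨hfin, hV, hYc, hcov⟩, hYT⟩


end Groth.Agent.S0468
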