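import Groth.Statements.S0471
import Groth.Agent.Lib.Helper3.Prof
import Groth.Agent.Lib.Helper3.AcyClass

set_option autoImplicit false
universe u
open CategoryTheory
open CohTop

namespace Groth.Agent.S0471

/-- If X is profinite (compact, Hausdorff, totally disconnected), then H^(p+1)(X, F) = 0 for every
abelian sheaf F. -/
theorem result {X : TopCat.{u}} [CompactSpace X] [T2Space X] [TotallyDisconnectedSpace X]
    (F : CohTop.Ab X) (p : ℕ) : Subsingleton (CohTop.H F (p + 1)) := by
  refine ⟨fun x y => ?_⟩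
  have hT : Limits.IsTerminal (⊤ : TopologicalSpace.Opens X) := Limits.isTerminalTop
  have h := Groth.Agent.Helper3.AcyClass.ext_eq_zero
    ((constantSheaf (Opens.grothendieckTopology X) AddCommGrpCat.{u}).obj
      (AddCommGrpCat.of (ULift ℤ)))
    (fun _ : CohTop.Ab X => True) (by
      intro S hS _ _
      refine ⟨trivial, fun ψ => ?_⟩
      have := hS.epi_g
      have hepi := Groth.Agent.Helper3.Prof.surjective_of_epi S.g
      obtain ⟨t, ht⟩ := hepi (Sheaf.H.equiv₀ S.X₃ hT (Abelian.Ext.mk₀ ψ))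
      obtain ⟨ψ', hψ'⟩ := (Abelian.Ext.mk₀_bijective _ _).2 ((Sheaf.H.equiv₀ S.X₂ hT).symm t)
      refine ⟨ψ', ?_⟩
      apply (Abelian.Ext.mk₀_bijective _ _).1
      apply (Sheaf.H.equiv₀ S.X₃ hT).injective
      rw [← ht]
      have h3 := Sheaf.H.equiv₀_naturality hT S.g ((Sheaf.H.equiv₀ S.X₂ hT).symm t)
      rw [AddEquiv.apply_symm_apply] at h3
      rw [h3, ← hψ']
      congr 1
      exact (Abelian.Ext.mk₀_comp_mk₀ ψ' S.g).symm) p F trivial
  exact (h x).trans (h y).symm


end Groth.Agent.S0471
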