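import Groth.Statements.S0480
import Mathlib.Algebra.Homology.HomotopyCategory.MappingCone

set_option autoImplicit false
universe v u
open CategoryTheory
open CohDer

namespace Groth.Agent.S0480

open CategoryTheory.Limits in
/-- In an abelian category, if the product of a family of K-injective cochain complexes exists (it is
then the termwise product), it is again K-injective. -/
theorem result {A : Type u} [Category.{v} A] [Abelian A] {T : Type v} (I : T → CochainComplex A ℤ)
    [HasProduct I] (h : ∀ t, (I t).IsKInjective) : (∏ᶜ I).IsKInjective := by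
  refine ⟨?_⟩
  intro K f hK
  open CochainComplex HomComplex in
  -- homotopies of the components
  have hz : ∀ t, ∃ z : Cochain K (I t) (-1), δ (-1) 0 z = Cochain.ofHom (f ≫ Pi.π I t) := by
    intro t
    have := h t
    let ho := IsKInjective.homotopyZero (f ≫ Pi.π I t) hK
    have h2 := (Cochain.equivHomotopy _ _ ho).2
    refine ⟨(Cochain.equivHomotopy _ _ ho).1, ?_⟩
    simpa using h2.symm
  choose z hz using hz
  -- the induced maps from the cone of the identity
  let ψ : ∀ t, mappingCone (𝟙 K) ⟶ I t := fun t =>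
    mappingCone.desc (𝟙 K) (z t) (f ≫ Pi.π I t) (by rw [hz t, Category.id_comp])
  let Ψ : mappingCone (𝟙 K) ⟶ ∏ᶜ I := Pi.lift ψ
  have hΨ : mappingCone.inr (𝟙 K) ≫ Ψ = f := by
    apply Pi.hom_ext
    intro t
    simp [Ψ, ψ]
  -- the resulting homotopy
  let α : Cochain K (∏ᶜ I) (-1) := (mappingCone.inl (𝟙 K)).comp (Cochain.ofHom Ψ) (add_zero _)
  have hα : δ (-1) 0 α = Cochain.ofHom f := by
    rw [δ_comp_ofHom, mappingCone.δ_inl, Category.id_comp, ← Cochain.ofHom_comp, hΨ]
  refine ⟨(Cochain.equivHomotopy f 0).symm ⟨α, ?_⟩⟩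
  rw [hα]
  simp

end Groth.Agent.S0480
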