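import Groth.Statements.S0490
import Groth.Statements.S0490
import Mathlib

set_option autoImplicit false
universe v u
open CategoryTheory
open CohDer

namespace Groth.Agent.S0490

section Aux

open CategoryTheory.Pretriangulated CategoryTheory.Limits ObjectProperty

variable {D : Type u} [Category.{v} D] [Preadditive D] [Limits.HasZeroObject D] [HasShift D ℤ]
  [∀ n : ℤ, (shiftFunctor D n).Additive] [Pretriangulated D]
  (P : ObjectProperty D) [P.IsTriangulated]

/-- if composing with `f : A ⟶ X` is bijective on maps from objects of `P`, the cone of `f` is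
right orthogonal to `P` -/
lemma cone_ortho {A X B : D} (f : A ⟶ X) (g : X ⟶ B) (h : B ⟶ A⟦(1 : ℤ)⟧)
    (hT : Triangle.mk f g h ∈ distTriang D)
    (hbij : ∀ Q : D, P Q → Function.Bijective (fun t : Q ⟶ A => t ≫ f)) :
    P.rightOrthogonal B := by
  intro Q t hQ
  have hQ' : P (Q⟦(-1 : ℤ)⟧) := P.le_shift (-1 : ℤ) _ hQ
  let e : (Q⟦(-1 : ℤ)⟧)⟦(1 : ℤ)⟧ ≅ Q := (shiftFunctorCompIsoId D (-1 : ℤ) 1 (by omega)).app Q
  have h31 : h ≫ (shiftFunctor D (1 : ℤ)).map f = 0 := comp_distTriang_mor_zero₃₁ _ hT
  have h12 : f ≫ g = 0 := comp_distTriang_mor_zero₁₂ _ hT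
  have h1 : t ≫ h = 0 := by
    obtain ⟨m, hm⟩ := (shiftFunctor D (1 : ℤ)).map_surjective (e.hom ≫ t ≫ h)
    have h2 : m ≫ f = 0 := by
      apply (shiftFunctor D (1 : ℤ)).map_injective
      rw [Functor.map_comp, hm, Functor.map_zero, Category.assoc, Category.assoc, h31,
        comp_zero, comp_zero]
    have hm0 : m = 0 := (hbij _ hQ').1 (by simpa using h2)
    rw [hm0, Functor.map_zero] at hm
    have h3 : e.inv ≫ e.hom ≫ t ≫ h = 0 := by rw [← hm, comp_zero]
    simpa using h3
  obtain ⟨t', ht'⟩ : ∃ t' : Q ⟶ X, t = t' ≫ g := Triangle.coyoneda_exact₃ _ hT t h1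
  obtain ⟨t'', ht''⟩ := (hbij Q hQ).2 t'
  dsimp at ht''
  rw [ht', ← ht'', Category.assoc, h12, comp_zero]

/-- conversely for a decomposition triangle composing with `f` is bijective -/
lemma bij_of_ortho {A X B : D} (f : A ⟶ X) (g : X ⟶ B) (h : B ⟶ A⟦(1 : ℤ)⟧)
    (hT : Triangle.mk f g h ∈ distTriang D) (hB : P.rightOrthogonal B)
    (Q : D) (hQ : P Q) : Function.Bijective (fun t : Q ⟶ A => t ≫ f) := by
  constructor
  · intro t t' htt'
    have h0 : (t - t') ≫ f = 0 := by
      rw [Preadditive.sub_comp, sub_eq_zero]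
      exact htt'
    obtain ⟨s, hs⟩ : ∃ s : Q ⟶ B⟦(-1 : ℤ)⟧, t - t' = s ≫ (Triangle.mk f g h).invRotate.mor₁ :=
      Triangle.coyoneda_exact₂ _ (inv_rot_of_distTriang _ hT) (t - t') h0
    have hs0 : s = 0 := (P.rightOrthogonal.le_shift (-1 : ℤ) _ hB) s hQ
    rw [hs0, zero_comp] at hs
    exact sub_eq_zero.mp hs
  · intro u
    have h0 : u ≫ g = 0 := hB _ hQ
    obtain ⟨t, ht⟩ := Triangle.coyoneda_exact₂ _ hT u h0
    exact ⟨t, ht.symm⟩

end Aux

open CategoryTheory.Pretriangulated in
/-- Let A be a full triangulated subcategory of a pretriangulated category D (an object property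
containing zero, stable under shifts and closed under extensions). The inclusion A → D is a left
adjoint (i.e. has a right adjoint) if and only if every object X of D fits in a distinguished
triangle A → X → B → A[1] with A in the subcategory and B right orthogonal to it. (The source's
further conclusions about saturation are not asserted.) -/
theorem result {D : Type u} [Category.{v} D] [Preadditive D] [Limits.HasZeroObject D] [HasShift D ℤ]
    [∀ n : ℤ, (shiftFunctor D n).Additive] [Pretriangulated D]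
    (P : ObjectProperty D) [P.IsTriangulated] :
    P.ι.IsLeftAdjoint ↔ ∀ X : D, ∃ (A B : D) (f : A ⟶ X) (g : X ⟶ B) (h : B ⟶ (shiftFunctor D (1 : ℤ)).obj A),
      Triangle.mk f g h ∈ distinguishedTriangles ∧ P A ∧ P.rightOrthogonal B := by
  constructor
  · intro hadj X
    let R := P.ι.rightAdjoint
    let adj : P.ι ⊣ R := Adjunction.ofIsLeftAdjoint P.ι
    let f : (R.obj X).obj ⟶ X := adj.counit.app X
    obtain ⟨B, g, h, hT⟩ := distinguished_cocone_triangle f
    refine ⟨(R.obj X).obj, B, f, g, h, hT, (R.obj X).property, ?_⟩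
    apply cone_ortho P f g h hT
    intro Q hQ
    have h1 : (fun t : Q ⟶ (R.obj X).obj => t ≫ f) =
        (fun t => (adj.homEquiv ⟨Q, hQ⟩ X).symm (ObjectProperty.homMk t)) := by
      funext t
      rw [Adjunction.homEquiv_counit]
      rfl
    rw [h1]
    exact (adj.homEquiv ⟨Q, hQ⟩ X).symm.bijective.comp
      ⟨fun t t' h => congrArg (fun s => s.hom) h, ObjectProperty.homMk_surjective⟩
  · intro hdec
    apply Functor.isLeftAdjoint_of_rightAdjointObjIsDefined_eq_top
    ext X
    simp only [Pi.top_apply, Prop.top_eq_true, iff_true]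
    rw [Functor.rightAdjointObjIsDefined_iff]
    obtain ⟨A, B, f, g, h, hT, hA, hB⟩ := hdec X
    have hb := bij_of_ortho P f g h hT hB
    exact Functor.RepresentableBy.isRepresentable (Y := (⟨A, hA⟩ : P.FullSubcategory))
      { homEquiv := fun {Q} => Equiv.ofBijective (fun t => t.hom ≫ f)
          ((hb Q.obj Q.property).comp
            ⟨fun t t' h => ObjectProperty.hom_ext _ h, fun t => ⟨ObjectProperty.homMk t, rfl⟩⟩)
        homEquiv_comp := fun {Q Q'} s t => by
          change (s ≫ t).hom ≫ f = s.hom ≫ t.hom ≫ f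
          rw [ObjectProperty.FullSubcategory.comp_hom, Category.assoc] }

end Groth.Agent.S0490
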