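import Groth.Statements.S0494
import Groth.Agent.Lib.Helper3.ConstG
import Groth.Agent.Lib.Helper3.GSS
import Groth.Agent.Lib.Helper3.SpVan
import Groth.Agent.S0453
import Groth.Agent.S0454

set_option autoImplicit false
universe u
open CohTop

namespace Groth.Agent.S0494

open Groth.Agent.Helper3 CategoryTheory CategoryTheory.Limits Opposite TopologicalSpace

open Opposite in
/-- If H^p(Y, R^q f_* F) = 0 for all q and all p > 0, then H^q(X, F) ≅ Γ(Y, R^q f_* F) for every q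
(existence of a group isomorphism). -/
theorem result {X Y : TopCat.{u}} (f : X ⟶ Y) (F : CohTop.Ab X)
    (h : ∀ p q : ℕ, Subsingleton (CohTop.H ((CohTop.Rpush f q).obj F) (p + 1))) (q : ℕ) :
    Nonempty (CohTop.H F q ≃+ ((CohTop.Rpush f q).obj F).obj.obj (op ⊤)) := by
  let T := CohTop.push f
  let S := ConstG.G Y
  have hT : ∀ Q : CohTop.Ab X, Injective Q → ∀ q : ℕ, 0 < q →
      IsZero ((S.rightDerived q).obj (T.obj Q)) := by
    intro Q hQ q hq
    obtain ⟨m, rfl⟩ : ∃ m, q = m + 1 := ⟨q - 1, by omega⟩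
    have h1 : TopCat.Sheaf.IsFlasque Q := Groth.Agent.S0454.result Q
    have h2 : TopCat.Sheaf.IsFlasque (T.obj Q) :=
      TopCat.Sheaf.IsFlasque.pushforward_isFlasque Q f
    have h3 : Subsingleton (CohTop.H (T.obj Q) (m + 1)) := Groth.Agent.S0453.result (T.obj Q) m
    refine IsZero.of_iso ?_ (ConstG.rightDerivedGIso Y (T.obj Q) (m + 1))
    exact @AddCommGrpCat.isZero_of_subsingleton _ h3
  obtain ⟨E, a, hfin, hbdd, hE⟩ := GSS.main' T S hT F
  have hz : ∀ p q : ℤ, p ≠ 0 → IsZero ((E.page 2 le_rfl).X (p, q)) := by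
    intro p q hp
    obtain ⟨e⟩ := hE p q
    refine IsZero.of_iso ?_ e
    split_ifs with hpq
    · obtain ⟨m, rfl⟩ : ∃ m : ℕ, p = (m : ℤ) + 1 := ⟨(p - 1).toNat, by omega⟩
      have : ((m : ℤ) + 1).toNat = m + 1 := by omega
      rw [this]
      refine IsZero.of_iso ?_ (ConstG.rightDerivedGIso Y _ (m + 1))
      exact @AddCommGrpCat.isZero_of_subsingleton _ (h m q.toNat)
    · exact isZero_zero _
  obtain ⟨e1⟩ := SpVan.iso_col0 E a 2 le_rfl (by norm_num) (q : ℤ) (hfin q) hz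
  obtain ⟨e2⟩ := hE 0 (q : ℤ)
  rw [if_pos (by omega)] at e1
  rw [if_pos (by omega)] at e2
  simp only [Int.toNat_natCast, Int.toNat_zero] at e1 e2
  have e3 : ((T ⋙ S).rightDerived q).obj F ≅ AddCommGrpCat.of (CohTop.H F q) :=
    ExtRD.rightDerivedIsoExt (T ⋙ S) (ConstG.ZZ X) (ConstG.coyonedaIsoG X).symm F q
  have e4 := (S.rightDerivedZeroIsoSelf).app ((T.rightDerived q).obj F)
  exact ⟨(e3.symm ≪≫ e1 ≪≫ e2 ≪≫ e4).addCommGroupIsoToAddEquiv⟩


end Groth.Agent.S0494
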