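import Groth.Statements.S0527
import Groth.Agent.Lib.Helper2.Hensel

set_option autoImplicit false
universe u
open Hensel

namespace Groth.Agent.S0527

/-- A ring is Henselian at any locally nilpotent ideal, i.e. an ideal all of whose elements are
nilpotent. -/
theorem result (A : Type u) [CommRing A] (I : Ideal A) (hI : ∀ x ∈ I, IsNilpotent x) :
    HenselianRing A I := by
  have hjac : I ≤ Ideal.jacobson ⊥ := by
    intro x hx
    have h1 : x ∈ nilradical A := mem_nilradical.2 (hI x hx)
    exact Ideal.radical_le_jacobson h1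
  refine ⟨hjac, ?_⟩
  intro f _ a₀ h₁ h₂
  have hu : IsUnit (f.derivative.eval a₀) := Groth.Agent.Helper2.Hensel.isUnit_of_isUnit_mk hjac h₂
  obtain ⟨n, hn⟩ := hI _ h₁
  obtain ⟨a, ha1, ha2⟩ := Groth.Agent.Helper2.Hensel.newton f a₀ (hjac h₁) hu n
  refine ⟨a, ?_, ?_⟩
  · rw [pow_succ, hn, zero_mul] at ha2
    simpa using ha2
  · have : Ideal.span ({f.eval a₀} : Set A) ≤ I := by
      rw [Ideal.span_le]
      intro x hx
      rw [Set.mem_singleton_iff] at hx
      subst hx
      exact h₁
    exact this ha1

end Groth.Agent.S0527
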