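import Groth.Statements.S0498
import Mathlib.RingTheory.Henselian
import Mathlib.Algebra.Polynomial.Reverse
import Mathlib.Tactic

set_option autoImplicit false
universe u
open Hensel

namespace Groth.Agent.S0498


open Polynomial in
theorem simple_root_aux {K : Type u} [Field K] (c : K) (hc : c ≠ 0) (N : ℕ) (hN : 1 ≤ N) :
    (reflect N (1 + C c * X : K[X])).eval (-c) = 0 ∧
      (derivative (reflect N (1 + C c * X : K[X]))).eval (-c) ≠ 0 := by
  have hp : reflect N (1 + C c * X : K[X]) = X ^ (N - 1) * (X + C c) := by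
    have h1 : (C c * X : K[X]) = C c * X ^ 1 := by rw [pow_one]
    rw [reflect_add, reflect_one, h1, reflect_C_mul_X_pow, revAt_le hN]
    obtain ⟨M, rfl⟩ : ∃ M, N = M + 1 := ⟨N - 1, by omega⟩
    simp only [Nat.add_sub_cancel, pow_succ]
    ring
  rw [hp]
  constructor
  · simp
  · rw [derivative_mul]
    simp only [eval_add, eval_mul, eval_pow, eval_X, derivative_add, derivative_X, derivative_C,
      add_zero, eval_one, mul_one, eval_C, neg_add_cancel, mul_zero, zero_add]
    exact pow_ne_zero _ (neg_ne_zero.2 hc)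

open Polynomial IsLocalRing in
theorem exists_root_of_coeff (R : Type u) [CommRing R] [HenselianLocalRing R] (g : R[X])
    (h0 : g.coeff 0 ∈ maximalIdeal R) (h1 : IsUnit (g.coeff 1)) :
    ∃ b ∈ maximalIdeal R, g.eval b = 0 := by
  set c0 := g.coeff 0 with hc0
  let gt : R[X] := 1 + X * (divX g).comp (C c0 * X)
  have hgt : ∀ x, g.eval (c0 * x) = c0 * gt.eval x := by
    intro x
    conv_lhs => rw [← divX_mul_X_add g]
    simp only [gt, eval_add, eval_mul, eval_X, eval_C, eval_comp, eval_one]
    ring
  set N := gt.natDegree + 1 with hN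
  let h : R[X] := reflect N gt
  have hgt0 : gt.coeff 0 = 1 := by
    simp [gt]
  have hmonic : h.Monic := by
    apply monic_of_natDegree_le_of_coeff_eq_one N
    · refine natDegree_reflect_le.trans ?_
      simp [hN]
    · rw [coeff_reflect, revAt_le le_rfl, Nat.sub_self, hgt0]
  have hres0 : residue R c0 = 0 := by
    rw [residue_eq_zero_iff]; exact h0
  have hc1 : residue R (g.coeff 1) ≠ 0 := by
    intro hh
    rw [residue_eq_zero_iff] at hh
    exact (mem_maximalIdeal _).1 hh h1
  have hmap : h.map (residue R) = reflect N (1 + C (residue R (g.coeff 1)) * X) := by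
    rw [← reflect_map]
    congr 1
    simp only [gt, Polynomial.map_add, Polynomial.map_one, Polynomial.map_mul, Polynomial.map_X,
      Polynomial.map_comp, Polynomial.map_C, hres0, C_0, zero_mul, comp_zero]
    rw [← coeff_zero_eq_eval_zero, coeff_map, coeff_divX]
    ring
  obtain ⟨hr1, hr2⟩ := simple_root_aux (residue R (g.coeff 1)) hc1 N (by omega)
  rw [← hmap] at hr1 hr2
  have e1 : h.eval (-(g.coeff 1)) ∈ maximalIdeal R := by
    rw [← residue_eq_zero_iff, ← eval_map_apply, map_neg]
    exact hr1
  have e2 : IsUnit (h.derivative.eval (-(g.coeff 1))) := by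
    by_contra hnu
    have : h.derivative.eval (-(g.coeff 1)) ∈ maximalIdeal R := (mem_maximalIdeal _).2 hnu
    rw [← residue_eq_zero_iff, ← eval_map_apply, map_neg, ← derivative_map] at this
    exact hr2 this
  obtain ⟨y, hy1, hy2⟩ := HenselianLocalRing.is_henselian h hmonic (-(g.coeff 1)) e1 e2
  have hyu : IsUnit y := by
    by_contra hnu
    have hym : y ∈ maximalIdeal R := (mem_maximalIdeal _).2 hnu
    have : g.coeff 1 ∈ maximalIdeal R := by
      have e : g.coeff 1 = (y - -(g.coeff 1)) - y := by ring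
      rw [e]
      exact Ideal.sub_mem _ hy2 hym
    exact (mem_maximalIdeal _).1 this h1
  obtain ⟨u, rfl⟩ := hyu
  letI : Invertible ((u⁻¹ : Rˣ) : R) := ⟨(u : R), by simp, by simp⟩
  have hinv : ⅟((u⁻¹ : Rˣ) : R) = (u : R) := rfl
  have key := eval₂_reflect_mul_pow (RingHom.id R) ((u⁻¹ : Rˣ) : R) N gt (by omega)
  rw [hinv] at key
  have hy1' : eval₂ (RingHom.id R) (u : R) (reflect N gt) = 0 := by
    rw [eval₂_id]; exact hy1
  rw [hy1', zero_mul, eval₂_id] at key
  refine ⟨c0 * ((u⁻¹ : Rˣ) : R), Ideal.mul_mem_right _ _ h0, ?_⟩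
  rw [hgt, ← key, mul_zero]

/-- Over a henselian local ring, a simple root in the residue field of the reduction of an arbitrary
polynomial (monic or not) lifts to a root in the ring. -/
theorem result (R : Type u) [CommRing R] [HenselianLocalRing R]
    (f : Polynomial R) (a₀ : IsLocalRing.ResidueField R)
    (h₁ : Polynomial.eval₂ (IsLocalRing.residue R) a₀ f = 0)
    (h₂ : Polynomial.eval₂ (IsLocalRing.residue R) a₀ (Polynomial.derivative f) ≠ 0) :
    ∃ a : R, Polynomial.IsRoot f a ∧ IsLocalRing.residue R a = a₀ := by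
  obtain ⟨a₁, rfl⟩ := IsLocalRing.residue_surjective a₀
  rw [Polynomial.eval₂_at_apply] at h₁ h₂
  let g : Polynomial R := f.comp (Polynomial.X + Polynomial.C a₁)
  have hg0 : g.coeff 0 = f.eval a₁ := by
    rw [Polynomial.coeff_zero_eq_eval_zero]
    simp [g, Polynomial.eval_comp]
  have hg1 : g.coeff 1 = f.derivative.eval a₁ := by
    have h := Polynomial.coeff_derivative g 0
    have h' : (Polynomial.derivative g).coeff 0 = f.derivative.eval a₁ := by
      rw [Polynomial.coeff_zero_eq_eval_zero]
      simp [g, Polynomial.derivative_comp, Polynomial.eval_comp]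
    rw [h'] at h
    simpa using h.symm
  obtain ⟨b, hb, hroot⟩ := exists_root_of_coeff R g
    (by rw [hg0]; exact (IsLocalRing.residue_eq_zero_iff _).1 h₁)
    (by
      rw [hg1]
      by_contra hnu
      exact h₂ ((IsLocalRing.residue_eq_zero_iff _).2 ((IsLocalRing.mem_maximalIdeal _).2 hnu)))
  refine ⟨b + a₁, ?_, ?_⟩
  · have : g.eval b = f.eval (b + a₁) := by simp [g, Polynomial.eval_comp]
    rw [Polynomial.IsRoot, ← this]; exact hroot
  · rw [map_add, (IsLocalRing.residue_eq_zero_iff _).2 hb, zero_add]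

end Groth.Agent.S0498
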