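import Groth.Statements.S0500
-- import your own Groth.Agent.* helpers here
import Groth.Agent.Lib.Helper7.Hensel.Local
import Groth.Agent.Lib.Helper7.Hensel.PiLocal
import Groth.Agent.Lib.Helper7.Hensel.IdemConverse
import Groth.Agent.Lib.Helper7.Hensel.IdemLift

set_option autoImplicit false
universe u
open Hensel

namespace Groth.Agent.S0500

/-- If every algebra over a local ring that is finitely generated as a module is ring-isomorphic to a
finite product of local rings, then the local ring is henselian. -/
theorem result (R : Type u) [CommRing R] [IsLocalRing R]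
    (h : ∀ (S : Type u) [CommRing S] [Algebra R S], Module.Finite R S →
      ∃ (ι : Type u) (_ : Fintype ι) (A : ι → Type u) (_ : ∀ i, CommRing (A i)),
        (∀ i, IsLocalRing (A i)) ∧ Nonempty (S ≃+* (∀ i, A i))) :
    HenselianLocalRing R := by
  classical
  apply Groth.Agent.Helper7.Hensel.henselianLocalRing_of_gabber
  apply Groth.Agent.Helper7.Hensel.gabber_of_bijOn_idempotents
  intro B _ _ hfin
  have hjac : IsLocalRing.maximalIdeal R ≤ Ideal.jacobson ⊥ := by
    rw [IsLocalRing.jacobson_eq_maximalIdeal ⊥ bot_ne_top]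
  have hint : Algebra.IsIntegral R B := inferInstance
  refine ⟨fun e he => he.map _, ?_, ?_⟩
  · intro e he e' he' hee
    apply Groth.Agent.Helper7.Hensel.idempotent_eq_of_sub_mem_jacobson he he'
    exact Groth.Agent.Helper7.Hensel.map_le_jacobson_of_isIntegral hjac (Ideal.Quotient.eq.mp hee)
  · intro ebar hebar
    obtain ⟨b, rfl⟩ := Ideal.Quotient.mk_surjective ebar
    obtain ⟨ι, hι, A, hA, hloc, ⟨φ⟩⟩ := h B hfin
    have hb : b * b - b ∈ Ideal.map (algebraMap R B) (IsLocalRing.maximalIdeal R) := by
      rw [← Ideal.Quotient.eq, map_mul]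
      exact hebar.eq
    obtain ⟨e, he, heb⟩ := Groth.Agent.Helper7.Hensel.exists_idempotent_of_ringEquiv_pi φ _ b hb
    exact ⟨e, he, Ideal.Quotient.eq.mpr heb⟩

end Groth.Agent.S0500
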