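import Groth.Statements.S0501
-- import your own Groth.Agent.* helpers here
import Groth.Agent.Lib.Helper7.Hensel.EtaleLift
import Groth.Agent.Lib.Helper7.Hensel.Local

set_option autoImplicit false
universe u
open Hensel

namespace Groth.Agent.S0501

/-- Let `S` be a henselian local ring over a ring `R`, let `A` be an étale `R`-algebra with a prime `q`,
and let `τ` be a ring map from the residue field of `q` to the residue field of `S` compatible with
the two structure maps from `R`. Then there is exactly one `R`-algebra map from `A` to `S` pulling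
the maximal ideal back to `q` and inducing `τ`. -/
theorem result (R : Type u) [CommRing R]
    (S : Type u) [CommRing S] [HenselianLocalRing S] [Algebra R S]
    (A : Type u) [CommRing A] [Algebra R A] [Algebra.Etale R A] (q : Ideal A) [q.IsPrime]
    (τ : q.ResidueField →+* IsLocalRing.ResidueField S)
    (hτ : τ.comp (algebraMap R q.ResidueField) = (IsLocalRing.residue S).comp (algebraMap R S)) :
    ∃! f : A →ₐ[R] S, Ideal.comap f.toRingHom (IsLocalRing.maximalIdeal S) = q ∧
      ∀ a : A, IsLocalRing.residue S (f a) = τ (algebraMap A q.ResidueField a) := by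
  classical
  have hG := Groth.Agent.Helper7.Hensel.Gabber.of_henselianLocalRing S
  have hjac : IsLocalRing.maximalIdeal S ≤ Ideal.jacobson ⊥ := hG.1
  -- the map to the residue field
  let g : A →ₐ[R] S ⧸ IsLocalRing.maximalIdeal S :=
    { toRingHom := τ.comp (algebraMap A q.ResidueField)
      commutes' := fun r => by
        show τ (algebraMap A q.ResidueField (algebraMap R A r)) = _
        rw [← IsScalarTower.algebraMap_apply R A q.ResidueField]
        have := RingHom.congr_fun hτ r
        exact this }
  have hg : ∀ a, g a = τ (algebraMap A q.ResidueField a) := fun a => rfl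
  let σ : TensorProduct R S A →ₐ[S] S ⧸ IsLocalRing.maximalIdeal S :=
    Algebra.TensorProduct.lift (Algebra.ofId S _) g (fun _ _ => Commute.all _ _)
  obtain ⟨τ', hτ'⟩ := hG.exists_lift_of_etale (TensorProduct R S A) σ
  have key : ∀ a, IsLocalRing.residue S
      (((τ'.restrictScalars R).comp Algebra.TensorProduct.includeRight) a)
      = τ (algebraMap A q.ResidueField a) := by
    intro a
    have h1 := AlgHom.congr_fun hτ' ((1 : S) ⊗ₜ[R] a)
    have h2 : σ ((1 : S) ⊗ₜ[R] a) = g a := by simp [σ]
    rw [h2, hg] at h1
    rw [← h1]
    rfl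
  have comap_eq : ∀ f : A →ₐ[R] S,
      (∀ a : A, IsLocalRing.residue S (f a) = τ (algebraMap A q.ResidueField a)) →
      Ideal.comap f.toRingHom (IsLocalRing.maximalIdeal S) = q := by
    intro f hf
    ext a
    rw [Ideal.mem_comap]
    show f a ∈ IsLocalRing.maximalIdeal S ↔ _
    rw [← IsLocalRing.residue_eq_zero_iff, hf a, map_eq_zero_iff τ τ.injective,
      Ideal.algebraMap_residueField_eq_zero]
  refine ⟨(τ'.restrictScalars R).comp Algebra.TensorProduct.includeRight,
    ⟨comap_eq _ key, key⟩, ?_⟩
  rintro f' ⟨-, hf'⟩
  apply Groth.Agent.Helper7.Hensel.algHom_eq_of_formallyUnramified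
    (IsLocalRing.maximalIdeal S) hjac
  intro a
  rw [← IsLocalRing.residue_eq_zero_iff, map_sub, hf' a, key a, sub_self]

end Groth.Agent.S0501
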