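import Groth.Statements.S0502
-- import your own Groth.Agent.* helpers here
import Mathlib

set_option autoImplicit false
universe u
open Hensel

namespace Groth.Agent.S0502

/-- A local ring `R` is henselian as soon as every étale `R`-algebra having a prime over the maximal
ideal with trivial residue field extension admits an `R`-algebra retraction to `R`. -/
theorem result (R : Type u) [CommRing R] [IsLocalRing R]
    (h : ∀ (S : Type u) [CommRing S] [Algebra R S] [Algebra.Etale R S] (q : Ideal S) [q.IsPrime],
      q.LiesOver (IsLocalRing.maximalIdeal R) → Function.Surjective (algebraMap R q.ResidueField) →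
      Nonempty (S →ₐ[R] R)) :
    HenselianLocalRing R := by
  classical
  constructor
  intro f hf a₀ h₁ h₂
  set hq := f /ₘ (Polynomial.X - Polynomial.C a₀) with hq_def
  have hdiv : f = (Polynomial.X - Polynomial.C a₀) * hq + Polynomial.C (f.eval a₀) := by
    have := Polynomial.modByMonic_add_div f (Polynomial.X - Polynomial.C a₀)
    rw [Polynomial.modByMonic_X_sub_C_eq_C_eval] at this
    rw [hq_def]
    conv_lhs => rw [← this]
    ring
  have hder : f.derivative.eval a₀ = hq.eval a₀ := by
    conv_lhs => rw [hdiv]
    simp
  let P : StandardEtalePair R :=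
    ⟨f, hf, Polynomial.derivative f * hq, hq, 0, 1, by ring⟩
  have hmap : P.HasMap (IsLocalRing.residue R a₀) := by
    refine ⟨?_, ?_⟩
    · show Polynomial.aeval (IsLocalRing.residue R a₀) f = 0
      rw [← IsLocalRing.ResidueField.algebraMap_eq, Polynomial.aeval_algebraMap_apply,
        IsLocalRing.ResidueField.algebraMap_eq, IsLocalRing.residue_eq_zero_iff]
      simpa using h₁
    · show IsUnit (Polynomial.aeval (IsLocalRing.residue R a₀) (Polynomial.derivative f * hq))
      rw [← IsLocalRing.ResidueField.algebraMap_eq, Polynomial.aeval_algebraMap_apply,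
        IsLocalRing.ResidueField.algebraMap_eq]
      apply IsUnit.map
      rw [Polynomial.coe_aeval_eq_eval, Polynomial.eval_mul, ← hder]
      exact h₂.mul h₂
  let ψ : P.Ring →ₐ[R] IsLocalRing.ResidueField R := P.lift _ hmap
  have hψsurj : Function.Surjective ψ := fun x => by
    obtain ⟨r, rfl⟩ := IsLocalRing.residue_surjective x
    exact ⟨algebraMap R _ r, by rw [AlgHom.commutes]; rfl⟩
  let q : Ideal P.Ring := RingHom.ker ψ.toRingHom
  have hqmax : q.IsMaximal := RingHom.ker_isMaximal_of_surjective _ hψsurj
  have hqprime : q.IsPrime := hqmax.isPrime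
  have hlies : q.LiesOver (IsLocalRing.maximalIdeal R) := by
    refine ⟨?_⟩
    ext r
    rw [Ideal.under_def, Ideal.mem_comap, RingHom.mem_ker]
    show _ ↔ ψ (algebraMap R P.Ring r) = 0
    rw [AlgHom.commutes, IsLocalRing.ResidueField.algebraMap_eq, IsLocalRing.residue_eq_zero_iff]
  have hsurj : Function.Surjective (algebraMap R q.ResidueField) := by
    intro y
    obtain ⟨x, rfl⟩ := Ideal.algebraMap_residueField_surjective q y
    obtain ⟨r, hr⟩ := IsLocalRing.residue_surjective (ψ x)
    refine ⟨r, ?_⟩
    rw [IsScalarTower.algebraMap_apply R P.Ring q.ResidueField, ← sub_eq_zero, ← map_sub,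
      Ideal.algebraMap_residueField_eq_zero, RingHom.mem_ker]
    show ψ (algebraMap R P.Ring r - x) = 0
    rw [map_sub, AlgHom.commutes, IsLocalRing.ResidueField.algebraMap_eq, hr, sub_self]
  obtain ⟨τ⟩ := h P.Ring q hlies hsurj
  have hτ := P.hasMap_X.map τ
  have hroot : f.eval (τ P.X) = 0 := by
    have := hτ.1
    simpa using this
  have hunit : IsUnit (hq.eval (τ P.X)) := by
    have := hτ.2
    have h2 : Polynomial.aeval (τ P.X) P.g
        = (Polynomial.derivative f).eval (τ P.X) * hq.eval (τ P.X) := by
      show Polynomial.aeval (τ P.X) (Polynomial.derivative f * hq) = _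
      simp
    rw [h2] at this
    exact isUnit_of_mul_isUnit_right this
  refine ⟨τ P.X, hroot, ?_⟩
  have h3 : (τ P.X - a₀) * hq.eval (τ P.X) = - f.eval a₀ := by
    have := hroot
    rw [hdiv] at this
    simp only [Polynomial.eval_add, Polynomial.eval_mul, Polynomial.eval_sub, Polynomial.eval_X,
      Polynomial.eval_C] at this
    linear_combination this
  have h5 : (τ P.X - a₀) * hq.eval (τ P.X) ∈ IsLocalRing.maximalIdeal R := by
    rw [h3]; exact neg_mem h₁
  exact ((Ideal.IsPrime.mem_or_mem inferInstance h5).resolve_right
    (fun hmem => (IsLocalRing.mem_maximalIdeal _).mp hmem hunit))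

end Groth.Agent.S0502
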