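import Groth.Statements.S0504
-- import your own Groth.Agent.* helpers here
import Groth.Agent.Lib.Helper7.Hensel.QuasiFiniteSplit
import Groth.Agent.Lib.Helper7.Hensel.QuasiFiniteLocus

set_option autoImplicit false
universe u
open Hensel

namespace Groth.Agent.S0504

/-- A finite-type algebra `S` over a henselian local ring `R` contains an idempotent `e` such that
`S/(1-e)` is finitely generated as an `R`-module and `R → S/(e)` is quasi-finite at no prime lying
over the maximal ideal of `R`. -/
theorem result (R : Type u) [CommRing R] [HenselianLocalRing R]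
    (S : Type u) [CommRing S] [Algebra R S] [Algebra.FiniteType R S] :
    ∃ e : S, IsIdempotentElem e ∧ Module.Finite R (S ⧸ Ideal.span ({1 - e} : Set S)) ∧
      ∀ (q : Ideal (S ⧸ Ideal.span ({e} : Set S))) [q.IsPrime],
        q.LiesOver (IsLocalRing.maximalIdeal R) → ¬ Algebra.QuasiFiniteAt R q := by
  classical
  have hfinF := Groth.Agent.Helper7.Hensel.finite_quasiFiniteAt_over (R := R) (S := S)
    (IsLocalRing.closedPoint R)
  obtain ⟨e, he, hfin, hF⟩ := Groth.Agent.Helper7.Hensel.exists_idempotent_split R S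
    hfinF.toFinset (fun q hq => ((Set.Finite.mem_toFinset hfinF).mp hq).2)
  refine ⟨e, he, hfin, ?_⟩
  intro N hNp hNlies hNqf
  let q : Ideal S := N.comap (Ideal.Quotient.mk (Ideal.span ({e} : Set S)))
  have hqp : q.IsPrime := Ideal.comap_isPrime _ _
  have hqc : q.comap (algebraMap R S) = IsLocalRing.maximalIdeal R := by
    have h1 := hNlies.over
    rw [h1]
    rfl
  have hqqf : Algebra.QuasiFiniteAt R q :=
    Groth.Agent.Helper7.Hensel.quasiFiniteAt_comap_of_idempotent e he N q rfl
  have hqF : (⟨q, hqp⟩ : PrimeSpectrum S) ∈ hfinF.toFinset := by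
    rw [Set.Finite.mem_toFinset]
    refine ⟨?_, hqqf⟩
    rw [Set.mem_preimage, Set.mem_singleton_iff]
    ext1
    exact hqc
  have heq : e ∈ q := by
    rw [Ideal.mem_comap, Ideal.Quotient.eq_zero_iff_mem.mpr (Ideal.mem_span_singleton_self e)]
    exact N.zero_mem
  exact hF ⟨q, hqp⟩ hqF (Ideal.map_le_iff_le_comap.mpr hqc.ge) heq

end Groth.Agent.S0504
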