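import Groth.Statements.S0517
-- import your own Groth.Agent.* helpers here
import Groth.Agent.Lib.Helper7.Hensel.StrictPoints
import Groth.Agent.Lib.Helper7.Hensel.MvSolutions

set_option autoImplicit false
universe u
open Hensel

namespace Groth.Agent.S0517

/-- Given strictly henselian local rings `R` and `S`, a local ring map `φ` between them, and a square
system of `n` polynomial equations in `n` unknowns over `R` whose quotient algebra is étale over
`R`, applying `φ` coordinatewise matches the solutions of the system in `Rⁿ` bijectively with the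
solutions of the transported system in `Sⁿ`. -/
theorem result (R : Type u) [CommRing R]
    [HenselianLocalRing R] [IsSepClosed (IsLocalRing.ResidueField R)] (S : Type u) [CommRing S]
    [HenselianLocalRing S] [IsSepClosed (IsLocalRing.ResidueField S)] (φ : R →+* S) [IsLocalHom φ] (n : ℕ)
    (P : Fin n → MvPolynomial (Fin n) R)
    [Algebra.Etale R (MvPolynomial (Fin n) R ⧸ Ideal.span (Set.range P))] :
    Set.BijOn (fun r : Fin n → R => φ ∘ r)
      {r : Fin n → R | ∀ i, MvPolynomial.eval r (P i) = 0}
      {s : Fin n → S | ∀ i, MvPolynomial.eval s (MvPolynomial.map φ (P i)) = 0} := by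
  classical
  let _ : Algebra R S := φ.toAlgebra
  have : IsLocalHom (algebraMap R S) := ‹IsLocalHom φ›
  have hbij := Groth.Agent.Helper7.Hensel.bijective_comp_ofId R S
    (MvPolynomial (Fin n) R ⧸ Ideal.span (Set.range P))
  have haevalS : ∀ (s : Fin n → S) (p : MvPolynomial (Fin n) R),
      MvPolynomial.aeval s p = MvPolynomial.eval s (MvPolynomial.map φ p) := by
    intro s p
    rw [MvPolynomial.eval_map, MvPolynomial.aeval_def]
    rfl
  have haevalR : ∀ (r : Fin n → R) (p : MvPolynomial (Fin n) R),
      MvPolynomial.aeval r p = MvPolynomial.eval r p := by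
    intro r p
    rfl
  refine ⟨?_, ?_, ?_⟩
  · intro r hr i
    show MvPolynomial.eval (φ ∘ r) (MvPolynomial.map φ (P i)) = 0
    rw [MvPolynomial.eval_map, ← MvPolynomial.eval₂_comp (f := φ), hr i, map_zero]
  · intro r hr r' hr' hrr'
    have h1 : Groth.Agent.Helper7.Hensel.solHom P R r (fun i => (haevalR r _).trans (hr i))
        = Groth.Agent.Helper7.Hensel.solHom P R r' (fun i => (haevalR r' _).trans (hr' i)) := by
      apply hbij.1
      apply Groth.Agent.Helper7.Hensel.algHom_ext_of_X
      intro i
      simp only [AlgHom.comp_apply, Groth.Agent.Helper7.Hensel.solHom_mk, MvPolynomial.aeval_X,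
        Algebra.ofId_apply]
      exact congrFun hrr' i
    funext i
    have h2 := AlgHom.congr_fun h1 (Ideal.Quotient.mk _ (MvPolynomial.X i))
    simpa using h2
  · intro s hs
    obtain ⟨τ, hτ⟩ := hbij.2 (Groth.Agent.Helper7.Hensel.solHom P S s
      (fun i => (haevalS s _).trans (hs i)))
    refine ⟨fun i => τ (Ideal.Quotient.mk _ (MvPolynomial.X i)), ?_, ?_⟩
    · intro i
      exact Groth.Agent.Helper7.Hensel.aeval_of_algHom_eq_zero τ i
    · funext i
      have h2 := AlgHom.congr_fun hτ (Ideal.Quotient.mk _ (MvPolynomial.X i))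
      simp only [AlgHom.comp_apply, Groth.Agent.Helper7.Hensel.solHom_mk, MvPolynomial.aeval_X,
        Algebra.ofId_apply] at h2
      exact h2

end Groth.Agent.S0517
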