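import Groth.Statements.S0525
import Groth.Agent.Lib.Helper2.Hensel

set_option autoImplicit false
universe u
open Hensel

namespace Groth.Agent.S0525


open Polynomial in
theorem of_radical_eq (A : Type u) [CommRing A] (I J : Ideal A)
    (h : I.radical = J.radical) (hI : HenselianRing A I) : HenselianRing A J := by
  have hradjac : I.radical ≤ Ideal.jacobson ⊥ := by
    have : I.radical ≤ (Ideal.jacobson (⊥ : Ideal A)).radical := Ideal.radical_mono hI.jac
    rwa [(Ideal.isRadical_jacobson (⊥ : Ideal A)).radical] at this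
  have hJrad : J ≤ I.radical := h ▸ Ideal.le_radical
  have hjac : J ≤ Ideal.jacobson ⊥ := hJrad.trans hradjac
  refine ⟨hjac, ?_⟩
  intro f hf a₀ h₁ h₂
  have hu : IsUnit (f.derivative.eval a₀) := Groth.Agent.Helper2.Hensel.isUnit_of_isUnit_mk hjac h₂
  obtain ⟨n, hn⟩ : ∃ n : ℕ, f.eval a₀ ^ n ∈ I := hJrad h₁
  obtain ⟨a₁, ha1, ha2⟩ := Groth.Agent.Helper2.Hensel.newton f a₀ (hjac h₁) hu n
  have hspanJ : Ideal.span ({f.eval a₀} : Set A) ≤ J := by
    rw [Ideal.span_le]
    intro x hx
    rw [Set.mem_singleton_iff] at hx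
    subst hx
    exact h₁
  have ha1J : a₁ - a₀ ∈ J := hspanJ ha1
  have hfa1 : f.eval a₁ ∈ I := by
    obtain ⟨c, hc⟩ := Ideal.mem_span_singleton'.1 ha2
    rw [← hc, pow_succ]
    exact Ideal.mul_mem_left _ _ (Ideal.mul_mem_right _ _ hn)
  have hu1 : IsUnit (f.derivative.eval a₁) :=
    Groth.Agent.Helper2.Hensel.isUnit_eval_of_sub_mem _ (hjac ha1J) hu
  obtain ⟨a, hroot, haI⟩ := hI.is_henselian f hf a₁ hfa1 (hu1.map _)
  refine ⟨a, hroot, ?_⟩
  have hsub : a - a₀ ∈ Ideal.jacobson (⊥ : Ideal A) := by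
    have : a - a₀ = (a - a₁) + (a₁ - a₀) := by ring
    rw [this]
    exact Ideal.add_mem _ (hI.jac haI) (hjac ha1J)
  exact hspanJ (Groth.Agent.Helper2.Hensel.sub_mem_span_of_root f hroot hsub hu)

/-- If two ideals of a ring have the same radical (the same closed set), the ring is Henselian at one
exactly when it is Henselian at the other. -/
theorem result (A : Type u) [CommRing A] (I J : Ideal A)
    (h : I.radical = J.radical) : HenselianRing A I ↔ HenselianRing A J := by
  exact ⟨of_radical_eq A I J h, of_radical_eq A J I h.symm⟩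

end Groth.Agent.S0525
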