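import Groth.Statements.S0528
import Groth.Agent.Lib.Helper2.Hensel
import Mathlib.Algebra.Polynomial.Lifts

set_option autoImplicit false
universe u
open Hensel

namespace Groth.Agent.S0528


open Polynomial in
theorem henselian_of_le (A : Type u) [CommRing A] (I J : Ideal A) (hIJ : I ≤ J)
    (hJ : HenselianRing A J) : HenselianRing A I := by
  have hjac : I ≤ Ideal.jacobson ⊥ := hIJ.trans hJ.jac
  refine ⟨hjac, ?_⟩
  intro f hf a₀ h₁ h₂
  have hu : IsUnit (f.derivative.eval a₀) := Groth.Agent.Helper2.Hensel.isUnit_of_isUnit_mk hjac h₂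
  obtain ⟨a, hroot, haJ⟩ := hJ.is_henselian f hf a₀ (hIJ h₁) (hu.map _)
  refine ⟨a, hroot, ?_⟩
  have hspan : Ideal.span ({f.eval a₀} : Set A) ≤ I := by
    rw [Ideal.span_le]
    intro x hx
    rw [Set.mem_singleton_iff] at hx
    subst hx
    exact h₁
  exact hspan (Groth.Agent.Helper2.Hensel.sub_mem_span_of_root f hroot (hJ.jac haJ) hu)

theorem map_le_jacobson (A : Type u) [CommRing A] (I J : Ideal A)
    (hJ : J ≤ Ideal.jacobson ⊥) :
    Ideal.map (Ideal.Quotient.mk I) J ≤ Ideal.jacobson ⊥ := by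
  intro x hx
  obtain ⟨x', hx', rfl⟩ := (Ideal.mem_map_iff_of_surjective _ Ideal.Quotient.mk_surjective).1 hx
  rw [Ideal.mem_jacobson_bot]
  intro y
  obtain ⟨y', rfl⟩ := Ideal.Quotient.mk_surjective y
  have := (Ideal.mem_jacobson_bot.1 (hJ hx')) y'
  have h2 := this.map (Ideal.Quotient.mk I)
  simpa using h2

theorem mem_of_mk_mem_map (A : Type u) [CommRing A] (I J : Ideal A) (hIJ : I ≤ J) {x : A}
    (hx : Ideal.Quotient.mk I x ∈ Ideal.map (Ideal.Quotient.mk I) J) : x ∈ J := by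
  obtain ⟨x', hx', he⟩ := (Ideal.mem_map_iff_of_surjective _ Ideal.Quotient.mk_surjective).1 hx
  have : x' - x ∈ I := Ideal.Quotient.eq.1 he
  have h2 : x = x' - (x' - x) := by ring
  rw [h2]
  exact Ideal.sub_mem _ hx' (hIJ this)

open Polynomial in
theorem henselian_quotient (A : Type u) [CommRing A] (I J : Ideal A) (hIJ : I ≤ J)
    (hJ : HenselianRing A J) : HenselianRing (A ⧸ I) (Ideal.map (Ideal.Quotient.mk I) J) := by
  have hjacQ := map_le_jacobson A I J hJ.jac
  refine ⟨hjacQ, ?_⟩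
  intro fb hfb ab h₁ h₂
  obtain ⟨a₀, rfl⟩ := Ideal.Quotient.mk_surjective ab
  obtain ⟨f, rfl, -, hf⟩ := lifts_and_natDegree_eq_and_monic
    ((Polynomial.mem_lifts _).2 (Polynomial.map_surjective _ Ideal.Quotient.mk_surjective fb)) hfb
  rw [Polynomial.eval_map_apply] at h₁
  have h₁' : f.eval a₀ ∈ J := mem_of_mk_mem_map A I J hIJ h₁
  have hu1 : IsUnit ((f.map (Ideal.Quotient.mk I)).derivative.eval (Ideal.Quotient.mk I a₀)) :=
    Groth.Agent.Helper2.Hensel.isUnit_of_isUnit_mk hjacQ h₂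
  rw [Polynomial.derivative_map, Polynomial.eval_map_apply] at hu1
  have hu : IsUnit (f.derivative.eval a₀) :=
    Groth.Agent.Helper2.Hensel.isUnit_of_isUnit_mk (hIJ.trans hJ.jac) hu1
  obtain ⟨a, hroot, haJ⟩ := hJ.is_henselian f hf a₀ h₁' (hu.map _)
  refine ⟨Ideal.Quotient.mk I a, ?_, ?_⟩
  · rw [Polynomial.IsRoot, Polynomial.eval_map_apply]
    rw [Polynomial.IsRoot] at hroot
    rw [hroot, map_zero]
  · rw [← map_sub]
    exact Ideal.mem_map_of_mem _ haJ

/-- For ideals `I ≤ J` of `A`, the ring `A` is Henselian at `J` exactly when `A` is Henselian at `I` and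
`A/I` is Henselian at the image of `J`. -/
theorem result (A : Type u) [CommRing A] (I J : Ideal A) (hIJ : I ≤ J) :
    HenselianRing A J ↔
      (HenselianRing A I ∧ HenselianRing (A ⧸ I) (Ideal.map (Ideal.Quotient.mk I) J)) := by
  constructor
  · intro hJ
    exact ⟨henselian_of_le A I J hIJ hJ, henselian_quotient A I J hIJ hJ⟩
  · rintro ⟨hI, hQ⟩
    have hjac : J ≤ Ideal.jacobson ⊥ := by
      intro x hx
      rw [Ideal.mem_jacobson_bot]
      intro y
      apply Groth.Agent.Helper2.Hensel.isUnit_of_isUnit_mk hI.jac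
      have h1 : Ideal.Quotient.mk I x ∈ Ideal.jacobson (⊥ : Ideal (A ⧸ I)) :=
        hQ.jac (Ideal.mem_map_of_mem _ hx)
      have := (Ideal.mem_jacobson_bot.1 h1) (Ideal.Quotient.mk I y)
      simpa using this
    refine ⟨hjac, ?_⟩
    intro f hf a₀ h₁ h₂
    have hu : IsUnit (f.derivative.eval a₀) :=
      Groth.Agent.Helper2.Hensel.isUnit_of_isUnit_mk hjac h₂
    obtain ⟨bb, hbroot, hbJ⟩ := hQ.is_henselian (f.map (Ideal.Quotient.mk I))
      (hf.map _) (Ideal.Quotient.mk I a₀)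
      (by rw [Polynomial.eval_map_apply]; exact Ideal.mem_map_of_mem _ h₁)
      (by rw [Polynomial.derivative_map, Polynomial.eval_map_apply]; exact (hu.map _).map _)
    obtain ⟨b, rfl⟩ := Ideal.Quotient.mk_surjective bb
    rw [Polynomial.IsRoot, Polynomial.eval_map_apply, Ideal.Quotient.eq_zero_iff_mem] at hbroot
    rw [← map_sub] at hbJ
    have hbJ' : b - a₀ ∈ J := mem_of_mk_mem_map A I J hIJ hbJ
    have hub : IsUnit (f.derivative.eval b) :=
      Groth.Agent.Helper2.Hensel.isUnit_eval_of_sub_mem _ (hjac hbJ') hu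
    obtain ⟨a, hroot, haI⟩ := hI.is_henselian f hf b hbroot (hub.map _)
    refine ⟨a, hroot, ?_⟩
    have : a - a₀ = (a - b) + (b - a₀) := by ring
    rw [this]
    exact Ideal.add_mem _ (hIJ haI) hbJ'


end Groth.Agent.S0528
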