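import Groth.Statements.S0529
import Groth.Agent.Lib.Helper2.Hensel
import Mathlib.Algebra.Group.Pi.Units

set_option autoImplicit false
universe u
open Hensel

namespace Groth.Agent.S0529


open Polynomial in
theorem ev_eval {J : Type u} {A : J → Type u} [∀ j, CommRing (A j)] (F : (∀ j, A j)[X])
    (b : ∀ j, A j) (j : J) :
    (F.eval b) j = (F.map (Pi.evalRingHom A j)).eval (b j) := by
  have := Polynomial.eval_map_apply (p := F) (f := Pi.evalRingHom A j) b
  exact this.symm

theorem mem_P {J : Type u} {A : J → Type u} [∀ j, CommRing (A j)] (I : ∀ j, Ideal (A j))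
    (x : ∀ j, A j) :
    x ∈ (⨅ j, Ideal.comap (Pi.evalRingHom A j) (I j)) ↔ ∀ j, x j ∈ I j := by
  simp [Ideal.mem_iInf, Ideal.mem_comap]

open Polynomial in
theorem pi_of_forall (J : Type u) (A : J → Type u) [∀ j, CommRing (A j)]
    (I : ∀ j, Ideal (A j)) (h : ∀ j, HenselianRing (A j) (I j)) :
    HenselianRing (∀ j, A j) (⨅ j, Ideal.comap (Pi.evalRingHom A j) (I j)) := by
  have hjac : (⨅ j, Ideal.comap (Pi.evalRingHom A j) (I j)) ≤ Ideal.jacobson ⊥ := by
    intro x hx
    rw [mem_P] at hx
    rw [Ideal.mem_jacobson_bot]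
    intro y
    rw [Pi.isUnit_iff]
    intro j
    exact (Ideal.mem_jacobson_bot.1 ((h j).jac (hx j))) (y j)
  refine ⟨hjac, ?_⟩
  intro F hF b₀ h₁ h₂
  have hu : IsUnit (F.derivative.eval b₀) := Groth.Agent.Helper2.Hensel.isUnit_of_isUnit_mk hjac h₂
  rw [mem_P] at h₁
  rw [Pi.isUnit_iff] at hu
  have hex : ∀ j, ∃ a : A j, (F.map (Pi.evalRingHom A j)).IsRoot a ∧ a - b₀ j ∈ I j := by
    intro j
    refine (h j).is_henselian (F.map (Pi.evalRingHom A j)) (hF.map _) (b₀ j) ?_ ?_
    · rw [← ev_eval]; exact h₁ j
    · rw [Polynomial.derivative_map, ← ev_eval]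
      exact (hu j).map _
  choose a ha1 ha2 using hex
  refine ⟨a, ?_, ?_⟩
  · rw [Polynomial.IsRoot]
    funext j
    rw [ev_eval]
    exact ha1 j
  · rw [mem_P]
    intro j
    exact ha2 j

open Polynomial in
theorem factor_of_pi (J : Type u) (A : J → Type u) [∀ j, CommRing (A j)]
    (I : ∀ j, Ideal (A j))
    (h : HenselianRing (∀ j, A j) (⨅ j, Ideal.comap (Pi.evalRingHom A j) (I j))) (j0 : J) :
    HenselianRing (A j0) (I j0) := by
  classical
  have hjac : I j0 ≤ Ideal.jacobson ⊥ := by
    intro x hx
    rw [Ideal.mem_jacobson_bot]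
    intro y
    have hX : (Pi.single j0 x : ∀ j, A j) ∈ (⨅ j, Ideal.comap (Pi.evalRingHom A j) (I j)) := by
      rw [mem_P]
      intro j
      by_cases hj : j = j0
      · subst hj; simpa using hx
      · rw [Pi.single_eq_of_ne hj]; exact Ideal.zero_mem _
    have := (Ideal.mem_jacobson_bot.1 (h.jac hX)) (Pi.single j0 y)
    rw [Pi.isUnit_iff] at this
    simpa using this j0
  refine ⟨hjac, ?_⟩
  intro f hf a₀ h₁ h₂
  have hu : IsUnit (f.derivative.eval a₀) := Groth.Agent.Helper2.Hensel.isUnit_of_isUnit_mk hjac h₂
  by_cases hdeg : f.natDegree = 0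
  · have hf1 : f = 1 := Polynomial.eq_one_of_monic_natDegree_zero hf hdeg
    have h1 : (1 : A j0) ∈ Ideal.jacobson (⊥ : Ideal (A j0)) := by
      have := hjac h₁
      rwa [hf1, Polynomial.eval_one] at this
    have h0 := (Ideal.mem_jacobson_bot.1 h1) (-1)
    have : IsUnit (0 : A j0) := by simpa using h0
    haveI : Subsingleton (A j0) := isUnit_zero_iff.1 this |> fun h => subsingleton_of_zero_eq_one h
    exact ⟨a₀, Subsingleton.elim _ _, by simp⟩
  · set n := f.natDegree with hn
    have hnpos : 1 ≤ n := Nat.pos_of_ne_zero hdeg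
    let e : ∀ j, A j := Pi.single j0 1
    let ft : (∀ j, A j)[X] := f.sum fun k c => monomial k (Pi.single j0 c : ∀ j, A j)
    let G : (∀ j, A j)[X] := X ^ n - X ^ (n - 1)
    let F : (∀ j, A j)[X] := ft + C (1 - e) * G
    have hftmap0 : ft.map (Pi.evalRingHom A j0) = f := by
      simp only [ft, Polynomial.sum, Polynomial.map_sum, Polynomial.map_monomial]
      have : ∀ k, (Pi.evalRingHom A j0) (Pi.single j0 (f.coeff k) : ∀ j, A j) = f.coeff k := by
        intro k; simp
      simp only [this]
      exact f.sum_monomial_eq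
    have hftmap : ∀ j, j ≠ j0 → ft.map (Pi.evalRingHom A j) = 0 := by
      intro j hj
      simp only [ft, Polynomial.sum, Polynomial.map_sum, Polynomial.map_monomial]
      have : ∀ k, (Pi.evalRingHom A j) (Pi.single j0 (f.coeff k) : ∀ j, A j) = 0 := by
        intro k; simp [Pi.single_eq_of_ne hj]
      simp [this]
    have hFmap0 : F.map (Pi.evalRingHom A j0) = f := by
      simp only [F, Polynomial.map_add, Polynomial.map_mul, Polynomial.map_C, hftmap0]
      have : (Pi.evalRingHom A j0) (1 - e) = 0 := by simp [e]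
      rw [this]; simp
    have hFmap : ∀ j, j ≠ j0 → F.map (Pi.evalRingHom A j) = X ^ n - X ^ (n - 1) := by
      intro j hj
      simp only [F, Polynomial.map_add, Polynomial.map_mul, Polynomial.map_C, hftmap j hj]
      have : (Pi.evalRingHom A j) (1 - e) = 1 := by simp [e, Pi.single_eq_of_ne hj]
      rw [this]; simp [G]
    have hFmonic : F.Monic := by
      apply Polynomial.monic_of_natDegree_le_of_coeff_eq_one n
      · apply Polynomial.natDegree_add_le_of_degree_le
        · apply Polynomial.natDegree_sum_le_of_forall_le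
          intro k hk
          exact (Polynomial.natDegree_monomial_le _).trans (Polynomial.le_natDegree_of_mem_supp k hk)
        · apply Polynomial.natDegree_C_mul_le _ _ |>.trans
          have := Polynomial.natDegree_sub_le_of_le (Polynomial.natDegree_X_pow_le (R := ∀ j, A j) n)
            ((Polynomial.natDegree_X_pow_le (R := ∀ j, A j) (n - 1)).trans (Nat.sub_le n 1))
          simpa [G] using this
      · funext j
        rw [← Pi.evalRingHom_apply A j (F.coeff n), ← Polynomial.coeff_map]
        by_cases hj : j = j0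
        · subst hj
          rw [hFmap0]
          exact hf.coeff_natDegree
        · rw [hFmap j hj]
          have : n ≠ n - 1 := by omega
          simp [Polynomial.coeff_X_pow, this]
    let b₀ : ∀ j, A j := Function.update (fun _ => 1) j0 a₀
    have hb0 : b₀ j0 = a₀ := by simp [b₀]
    have hbj : ∀ j, j ≠ j0 → b₀ j = 1 := fun j hj => by simp [b₀, Function.update_of_ne hj]
    have hFb : F.eval b₀ ∈ (⨅ j, Ideal.comap (Pi.evalRingHom A j) (I j)) := by
      rw [mem_P]
      intro j
      rw [ev_eval]
      by_cases hj : j = j0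
      · subst hj
        rw [hFmap0, hb0]; exact h₁
      · rw [hFmap j hj, hbj j hj]
        simp
    have hFu : IsUnit (F.derivative.eval b₀) := by
      rw [Pi.isUnit_iff]
      intro j
      rw [ev_eval, ← Polynomial.derivative_map]
      by_cases hj : j = j0
      · subst hj
        rw [hFmap0, hb0]; exact hu
      · rw [hFmap j hj, hbj j hj]
        have : (derivative (X ^ n - X ^ (n - 1) : (A j)[X])).eval 1 = 1 := by
          simp only [Polynomial.derivative_sub, Polynomial.derivative_X_pow, Polynomial.eval_sub,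
            Polynomial.eval_mul, Polynomial.eval_pow, Polynomial.eval_X, one_pow, mul_one,
            Polynomial.eval_C]
          have : ((n : ℕ) : A j) = ((n - 1 : ℕ) : A j) + 1 := by
            rw [← Nat.cast_succ]; congr 1; omega
          rw [this]
          ring
        rw [this]; exact isUnit_one
    obtain ⟨a, hroot, ha⟩ := h.is_henselian F hFmonic b₀ hFb (hFu.map _)
    refine ⟨a j0, ?_, ?_⟩
    · rw [Polynomial.IsRoot] at hroot ⊢
      have := ev_eval F a j0
      rw [hFmap0, hroot] at this
      exact this.symm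
    · rw [mem_P] at ha
      have := ha j0
      simpa [hb0] using this

/-- A product of rings, with the product ideal, is Henselian exactly when every factor is Henselian at
its ideal. -/
theorem result (J : Type u) (A : J → Type u) [∀ j, CommRing (A j)]
    (I : ∀ j, Ideal (A j)) :
    HenselianRing (∀ j, A j) (⨅ j, Ideal.comap (Pi.evalRingHom A j) (I j)) ↔
      ∀ j, HenselianRing (A j) (I j) := by
  exact ⟨fun h j => factor_of_pi J A I h j, pi_of_forall J A I⟩

end Groth.Agent.S0529
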