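import Groth.Statements.S0530
-- import your own Groth.Agent.* helpers here
import Groth.Agent.Lib.Helper7.Hensel.IdemConverse

set_option autoImplicit false
universe u
open Hensel

namespace Groth.Agent.S0530

/-- If `A` is Henselian at `I` and `p` is a prime ideal of `A`, then the spectrum of `A/(p + I)` is
connected. -/
theorem result (A : Type u) [CommRing A] (I : Ideal A) [HenselianRing A I]
    (p : Ideal A) [p.IsPrime] : ConnectedSpace (PrimeSpectrum (A ⧸ p ⊔ I)) := by
  classical
  have hH : HenselianRing A I := inferInstance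
  have hG := Groth.Agent.Helper7.Hensel.Gabber.of_henselianRing hH
  -- nontriviality
  have hne : p ⊔ I ≠ ⊤ := by
    obtain ⟨m, hm, hpm⟩ := Ideal.exists_le_maximal p (Ideal.IsPrime.ne_top inferInstance)
    have hIm : I ≤ m := hH.jac.trans (by
      rw [Ideal.jacobson]; exact sInf_le ⟨bot_le, hm⟩)
    intro htop
    exact hm.ne_top (top_le_iff.mp (htop ▸ sup_le hpm hIm))
  have hnt : Nontrivial (A ⧸ p ⊔ I) := Ideal.Quotient.nontrivial_iff.mpr hne
  -- idempotents of the quotient are trivial
  have hidem : ∀ e : A ⧸ p ⊔ I, IsIdempotentElem e → e = 0 ∨ e = 1 := by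
    intro e he
    let φ := DoubleQuot.quotQuotEquivQuotSup p I
    have h1 : I.map (algebraMap A (A ⧸ p)) = I.map (Ideal.Quotient.mk p) := rfl
    have hint : Algebra.IsIntegral A (A ⧸ p) := Algebra.IsIntegral.of_finite A (A ⧸ p)
    have he' : IsIdempotentElem (φ.symm e) := he.map φ.symm
    obtain ⟨e₀, he₀, he₀'⟩ := hG.exists_idempotent_lift (B := A ⧸ p) (φ.symm e) he'
    rcases (IsIdempotentElem.iff_eq_zero_or_one.mp he₀) with h0 | h0
    · left
      rw [h0, map_zero] at he₀'
      have := congrArg φ he₀'
      rw [map_zero, RingEquiv.apply_symm_apply] at this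
      exact this.symm
    · right
      rw [h0, map_one] at he₀'
      have := congrArg φ he₀'
      rw [map_one, RingEquiv.apply_symm_apply] at this
      exact this.symm
  rw [connectedSpace_iff_clopen]
  refine ⟨inferInstance, fun s hs => ?_⟩
  obtain ⟨e, he, rfl⟩ := PrimeSpectrum.isClopen_iff.mp hs
  rcases hidem e he with h0 | h0
  · left; rw [h0, PrimeSpectrum.basicOpen_zero]; rfl
  · right; rw [h0, PrimeSpectrum.basicOpen_one]; rfl

end Groth.Agent.S0530
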