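import Groth.Statements.S0531
import Groth.Agent.Lib.Helper2.Hensel

set_option autoImplicit false
universe u
open Hensel

namespace Groth.Agent.S0531


theorem henselian_bot (A : Type u) [CommRing A] : HenselianRing A (⊥ : Ideal A) := by
  refine ⟨bot_le, ?_⟩
  intro f _ a₀ h₁ _
  refine ⟨a₀, ?_, by simp⟩
  rw [Ideal.mem_bot] at h₁
  exact h₁

open Polynomial in
theorem henselian_sup (A : Type u) [CommRing A] (I J : Ideal A)
    (hI : HenselianRing A I) (hJ : HenselianRing A J) : HenselianRing A (I ⊔ J) := by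
  have hjac : I ⊔ J ≤ Ideal.jacobson ⊥ := sup_le hI.jac hJ.jac
  refine ⟨hjac, ?_⟩
  intro f hf a₀ h₁ h₂
  have hu : IsUnit (f.derivative.eval a₀) := Groth.Agent.Helper2.Hensel.isUnit_of_isUnit_mk hjac h₂
  obtain ⟨i, hi, j, hj, hij⟩ := Submodule.mem_sup.1 h₁
  by_cases hdeg : f.natDegree = 0
  · -- then `f = 1`, so `1` lies in the Jacobson radical and the ring is trivial
    have hf1 : f = 1 := Polynomial.eq_one_of_monic_natDegree_zero hf hdeg
    have h1 : (1 : A) ∈ Ideal.jacobson (⊥ : Ideal A) := by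
      have := hjac h₁
      rwa [hf1, Polynomial.eval_one] at this
    have h0 := (Ideal.mem_jacobson_bot.1 h1) (-1)
    have : IsUnit (0 : A) := by simpa using h0
    haveI : Subsingleton A := isUnit_zero_iff.1 this |> fun h => subsingleton_of_zero_eq_one h
    exact ⟨a₀, Subsingleton.elim _ _, by simp⟩
  · have hdeg' : (C i).degree < f.degree := by
      calc (C i).degree ≤ 0 := Polynomial.degree_C_le
        _ < f.degree := Polynomial.natDegree_pos_iff_degree_pos.1 (Nat.pos_of_ne_zero hdeg)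
    have hg : (f - C i).Monic := hf.sub_of_left hdeg'
    have hgd : (f - C i).derivative = f.derivative := by simp
    have hgv : (f - C i).eval a₀ = j := by
      rw [Polynomial.eval_sub, Polynomial.eval_C, ← hij]; ring
    obtain ⟨a₁, hroot1, ha1⟩ := hJ.is_henselian (f - C i) hg a₀ (by rw [hgv]; exact hj)
      (by rw [hgd]; exact hu.map _)
    have hfa1 : f.eval a₁ = i := by
      have : (f - C i).eval a₁ = 0 := hroot1
      rw [Polynomial.eval_sub, Polynomial.eval_C, sub_eq_zero] at this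
      exact this
    have hu1 : IsUnit (f.derivative.eval a₁) :=
      Groth.Agent.Helper2.Hensel.isUnit_eval_of_sub_mem _ (hJ.jac ha1) hu
    obtain ⟨a, hroot, ha⟩ := hI.is_henselian f hf a₁ (by rw [hfa1]; exact hi) (hu1.map _)
    refine ⟨a, hroot, ?_⟩
    have : a - a₀ = (a - a₁) + (a₁ - a₀) := by ring
    rw [this]
    exact Submodule.add_mem_sup ha ha1

/-- Every ring has a largest ideal at which it is Henselian. -/
theorem result (A : Type u) [CommRing A] :
    ∃ I : Ideal A, HenselianRing A I ∧ ∀ J : Ideal A, HenselianRing A J → J ≤ I := by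
  let S : Set (Ideal A) := {J | HenselianRing A J}
  have hne : S.Nonempty := ⟨⊥, henselian_bot A⟩
  have hdir : DirectedOn (· ≤ ·) S := by
    intro I hI J hJ
    exact ⟨I ⊔ J, henselian_sup A I J hI hJ, le_sup_left, le_sup_right⟩
  have hjac : sSup S ≤ Ideal.jacobson ⊥ := sSup_le fun J hJ => (hJ : HenselianRing A J).jac
  refine ⟨sSup S, ⟨hjac, ?_⟩, fun J hJ => le_sSup hJ⟩
  intro f hf a₀ h₁ h₂
  have hu : IsUnit (f.derivative.eval a₀) := Groth.Agent.Helper2.Hensel.isUnit_of_isUnit_mk hjac h₂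
  obtain ⟨J, hJ, hJ1⟩ := (Submodule.mem_sSup_of_directed hne hdir).1 h₁
  obtain ⟨a, hroot, ha⟩ := (hJ : HenselianRing A J).is_henselian f hf a₀ hJ1 (hu.map _)
  exact ⟨a, hroot, le_sSup hJ ha⟩

end Groth.Agent.S0531
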