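import Groth.Statements.S0535
import Mathlib.RingTheory.Henselian
import Mathlib.RingTheory.Nakayama
import Mathlib.RingTheory.OrzechProperty
import Mathlib.LinearAlgebra.TensorProduct.Quotient
import Mathlib.Algebra.Module.Projective
import Mathlib.Tactic

set_option autoImplicit false
universe u
open Hensel

namespace Groth.Agent.S0535


open TensorProduct in
theorem exists_surjective_lift (R : Type u) [CommRing R] (I : Ideal R)
    (hI : I ≤ Ideal.jacobson ⊥) (P₁ P₂ : Type u) [AddCommGroup P₁] [Module R P₁] [AddCommGroup P₂]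
    [Module R P₂] [Module.Projective R P₁] [Module.Finite R P₂]
    (e : ((R ⧸ I) ⊗[R] P₁) →ₗ[R] ((R ⧸ I) ⊗[R] P₂)) (he : Function.Surjective e) :
    ∃ φ : P₁ →ₗ[R] P₂, Function.Surjective φ := by
  let π₁ : P₁ →ₗ[R] (R ⧸ I) ⊗[R] P₁ := TensorProduct.mk R (R ⧸ I) P₁ 1
  let π₂ : P₂ →ₗ[R] (R ⧸ I) ⊗[R] P₂ := TensorProduct.mk R (R ⧸ I) P₂ 1
  have hπ : ∀ (M : Type u) [AddCommGroup M] [Module R M],
      Function.Surjective (TensorProduct.mk R (R ⧸ I) M 1) := by
    intro M _ _
    have h := TensorProduct.quotTensorEquivQuotSMul_comp_mk (M := M) I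
    intro y
    obtain ⟨x, hx⟩ := Submodule.mkQ_surjective (I • (⊤ : Submodule R M))
      (TensorProduct.quotTensorEquivQuotSMul M I y)
    refine ⟨x, ?_⟩
    apply (TensorProduct.quotTensorEquivQuotSMul M I).injective
    rw [← hx, ← h]
    rfl
  have hker : ∀ x : P₂, π₂ x = 0 → x ∈ (I • (⊤ : Submodule R P₂)) := by
    intro x hx
    have h := TensorProduct.quotTensorEquivQuotSMul_comp_mk (M := P₂) I
    have h2 : (I • (⊤ : Submodule R P₂)).mkQ x = 0 := by
      rw [← h]
      change TensorProduct.quotTensorEquivQuotSMul P₂ I (π₂ x) = 0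
      rw [hx, map_zero]
    simpa using h2
  obtain ⟨φ, hφ⟩ := Module.projective_lifting_property π₂ (e ∘ₗ π₁) (hπ P₂)
  refine ⟨φ, ?_⟩
  rw [← LinearMap.range_eq_top, eq_top_iff]
  apply Submodule.le_of_le_smul_of_le_jacobson_bot Module.Finite.fg_top hI
  intro p₂ _
  obtain ⟨t, ht⟩ := he (π₂ p₂)
  obtain ⟨p₁, rfl⟩ := hπ P₁ t
  have h1 : π₂ (p₂ - φ p₁) = 0 := by
    rw [map_sub, sub_eq_zero]
    have := LinearMap.congr_fun hφ p₁
    simp only [LinearMap.coe_comp, Function.comp_apply] at this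
    rw [this]
    exact ht.symm
  have h2 := hker _ h1
  have : p₂ = φ p₁ + (p₂ - φ p₁) := by abel
  rw [this]
  exact Submodule.add_mem_sup (LinearMap.mem_range_self φ p₁) h2

/-- If `R` is Henselian at `I` and two finitely generated projective `R`-modules become isomorphic after
base change to `R/I`, then they are isomorphic. -/
theorem result (R : Type u) [CommRing R] (I : Ideal R)
    [HenselianRing R I] (P₁ P₂ : Type u) [AddCommGroup P₁] [Module R P₁] [AddCommGroup P₂]
    [Module R P₂] [Module.Finite R P₁] [Module.Projective R P₁] [Module.Finite R P₂]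
    [Module.Projective R P₂]
    (e : TensorProduct R (R ⧸ I) P₁ ≃ₗ[R ⧸ I] TensorProduct R (R ⧸ I) P₂) :
    Nonempty (P₁ ≃ₗ[R] P₂) := by
  have hI : I ≤ Ideal.jacobson ⊥ := HenselianRing.jac
  obtain ⟨φ, hφ⟩ := exists_surjective_lift R I hI P₁ P₂ (e.restrictScalars R).toLinearMap
    (e.restrictScalars R).surjective
  obtain ⟨ψ, hψ⟩ := exists_surjective_lift R I hI P₂ P₁ (e.symm.restrictScalars R).toLinearMap
    (e.symm.restrictScalars R).surjective
  have hinj : Function.Injective (ψ ∘ₗ φ) :=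
    OrzechProperty.injective_of_surjective_endomorphism (ψ ∘ₗ φ) (hψ.comp hφ)
  have hφinj : Function.Injective φ := by
    intro x y hxy
    apply hinj
    simp [hxy]
  exact ⟨LinearEquiv.ofBijective φ ⟨hφinj, hφ⟩⟩

end Groth.Agent.S0535
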