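import Groth.Statements.S0547
import Mathlib
import Groth.Agent.Lib.Helper2.CompleteNoeth

set_option autoImplicit false
universe u
open CAlg

namespace Groth.Agent.S0547

/-- The completion of a Noetherian local ring at its maximal ideal has the same Krull dimension as the
ring. -/
theorem result (A : Type u) [CommRing A] [IsLocalRing A]
    [IsNoetherianRing A] :
    ringKrullDim (AdicCompletion (IsLocalRing.maximalIdeal A) A) = ringKrullDim A := by
  have hN : IsNoetherianRing (AdicCompletion (IsLocalRing.maximalIdeal A) A) :=
    Groth.Agent.Helper2.CompleteNoeth.isNoetherianRing_adicCompletion A _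
      (IsNoetherian.noetherian _)
  set B := AdicCompletion (IsLocalRing.maximalIdeal A) A
  have hmap : IsLocalRing.maximalIdeal B = (IsLocalRing.maximalIdeal A).map (algebraMap A B) :=
    AdicCompletion.maximalIdeal_eq_map
  have hlo : (IsLocalRing.maximalIdeal B).LiesOver (IsLocalRing.maximalIdeal A) := inferInstance
  have h := Ideal.height_eq_height_add_of_liesOver_of_hasGoingDown (IsLocalRing.maximalIdeal A)
    (IsLocalRing.maximalIdeal B)
  rw [← hmap] at h
  have h0 : (IsLocalRing.maximalIdeal B).map (Ideal.Quotient.mk (IsLocalRing.maximalIdeal B)) =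
      ⊥ := by
    rw [Ideal.map_quotient_self]
  rw [h0, Ideal.height_bot, add_zero] at h
  rw [← IsLocalRing.maximalIdeal_height_eq_ringKrullDim,
    ← IsLocalRing.maximalIdeal_height_eq_ringKrullDim, h]

end Groth.Agent.S0547
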