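import Groth.Statements.S0553
import Groth.Agent.S9126
import Groth.Agent.Lib.Helper4.DimEq2

set_option autoImplicit false
universe u
open CAlg

namespace Groth.Agent.S0553

/-- A Noetherian ring is universally catenary exactly when its localization at every maximal ideal is
universally catenary. -/
theorem result (R : Type u) [CommRing R]
    [IsNoetherianRing R] :
    CAlg.IsUniversallyCatenary R ↔
      ∀ (m : Ideal R) [m.IsMaximal], CAlg.IsUniversallyCatenary (Localization.AtPrime m) := by
  constructor
  · intro h m hm
    exact Groth.Agent.S9126.result R (Localization.AtPrime m) h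
  · intro h
    refine ⟨inferInstance, fun S _ _ hS => ?_⟩
    haveI := hS
    refine Groth.Agent.Lib.Helper4.DimEq2.isCatenary_of_local R S fun p hp => ?_
    obtain ⟨m, hm, hpm⟩ := Ideal.exists_le_maximal p hp.ne_top
    have hunit : ∀ y : m.primeCompl, IsUnit (algebraMap R (Localization.AtPrime p) y) := fun y =>
      IsLocalization.map_units (M := p.primeCompl) _ ⟨y.1, fun hy => y.2 (hpm hy)⟩
    letI : Algebra (Localization.AtPrime m) (Localization.AtPrime p) :=
      (IsLocalization.lift hunit).toAlgebra
    haveI : IsScalarTower R (Localization.AtPrime m) (Localization.AtPrime p) :=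
      IsScalarTower.of_algebraMap_eq fun x => (IsLocalization.lift_eq hunit x).symm
    haveI : Algebra.EssFiniteType (Localization.AtPrime m) (Localization.AtPrime p) :=
      Algebra.EssFiniteType.of_comp R _ _
    exact Groth.Agent.S9126.result (Localization.AtPrime m) (Localization.AtPrime p) (h m)

end Groth.Agent.S0553
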