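import Groth.Statements.S0572
import Mathlib
import Groth.Prelude.Def_Found
import Groth.Agent.Lib.Helper9.NorLocus
import Groth.Agent.Lib.Helper9.NorLocusDomain
-- import your own Groth.Agent.* helpers here

set_option autoImplicit false
universe u
open CAlg

namespace Groth.Agent.S0572

namespace Aux

open Groth.Agent.Helper9.NorLocus Groth.Agent.Helper9.NorLocusDomain

theorem main (R : Type u) [CommRing R] [IsDomain R] [IsNoetherianRing R] (f : R)
    (hf : f ≠ 0) (hn : IsIntegrallyClosed (Localization.Away f)) :
    IsOpen {p : PrimeSpectrum R | IsIntegrallyClosed (Localization.AtPrime p.asIdeal)} := by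
  have hdomf : IsDomain (Localization.Away f) :=
    IsLocalization.isDomain_localization (powers_le_nonZeroDivisors_of_noZeroDivisors hf)
  have key : ∀ q : PrimeSpectrum R, f ∉ q.asIdeal → q ∈ EGA4.norLocus R := by
    intro q hfq
    have hdisj : Disjoint (Submonoid.powers f : Set R) (q.asIdeal : Set R) := by
      rw [Set.disjoint_left]
      rintro _ ⟨n, rfl⟩ hq
      exact hfq (q.isPrime.mem_of_pow_mem n hq)
    set 𝔮 := Ideal.map (algebraMap R (Localization.Away f)) q.asIdeal with h𝔮
    have h𝔮prime : 𝔮.IsPrime :=
      IsLocalization.isPrime_of_isPrime_disjoint (Submonoid.powers f) _ q.asIdeal q.isPrime hdisj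
    have hcomap : 𝔮.comap (algebraMap R (Localization.Away f)) = q.asIdeal :=
      IsLocalization.under_map_of_isPrime_disjoint (Submonoid.powers f) _ q.isPrime hdisj
    have hnor : Nor (Localization.AtPrime 𝔮) :=
      ⟨IsLocalization.isDomain_localization 𝔮.primeCompl_le_nonZeroDivisors,
        isIntegrallyClosed_of_isLocalization _ 𝔮.primeCompl 𝔮.primeCompl_le_nonZeroDivisors⟩
    have e := (IsLocalization.localizationLocalizationAtPrimeIsoLocalization
      (Submonoid.powers f) 𝔮).toRingEquiv
    have hnor2 : Nor (Localization.AtPrime
        (𝔮.comap (algebraMap R (Localization.Away f)))) :=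
      nor_of_ringEquiv e.symm hnor
    exact nor_of_ideal_eq _ _ hcomap hnor2
  have hopen := isOpen_norLocus_domain f hf key
  convert hopen using 1
  ext p
  constructor
  · intro h
    exact ⟨IsLocalization.isDomain_localization p.asIdeal.primeCompl_le_nonZeroDivisors, h⟩
  · intro h
    exact h.2

end Aux

/-- Let `R` be a Noetherian domain such that `R_f` is integrally closed for some nonzero `f`. Then the
set of primes `p` with `R_p` integrally closed is open in `Spec R`. -/
theorem result (R : Type u) [CommRing R] [IsDomain R] [IsNoetherianRing R] (f : R)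
    (hf : f ≠ 0) (hn : IsIntegrallyClosed (Localization.Away f)) :
    IsOpen {p : PrimeSpectrum R | IsIntegrallyClosed (Localization.AtPrime p.asIdeal)} := by
  exact Aux.main R f hf hn

end Groth.Agent.S0572
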