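import Groth.Statements.S0574
import Mathlib

set_option autoImplicit false
universe u
open CAlg

namespace Groth.Agent.S0574

section


theorem main (R : Type u) [CommRing R] [IsDomain R] [IsNoetherianRing R]
    [CharZero R] : CAlg.IsN1 R ↔ CAlg.IsN2 R := by
  constructor
  · intro h1 L _ _ _ _ hfd
    have h1' : Module.Finite R (integralClosure R (FractionRing R)) := h1
    haveI : CharZero (FractionRing R) :=
      charZero_of_injective_algebraMap (IsFractionRing.injective R (FractionRing R))
    haveI : Algebra.IsSeparable (FractionRing R) L := inferInstance
    -- R' normal noetherian
    haveI : IsIntegrallyClosed (integralClosure R (FractionRing R)) :=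
      integralClosure.isIntegrallyClosedOfFiniteExtension (FractionRing R)
    haveI : IsFractionRing (integralClosure R (FractionRing R)) (FractionRing R) :=
      integralClosure.isFractionRing_of_finite_extension (FractionRing R) (FractionRing R)
    haveI : IsNoetherian R (integralClosure R (FractionRing R)) := isNoetherian_of_isNoetherianRing_of_finite R _
    haveI : IsNoetherianRing (integralClosure R (FractionRing R)) :=
      isNoetherianRing_iff.mpr (isNoetherian_of_tower R inferInstance)
    haveI : IsScalarTower (integralClosure R (FractionRing R)) (FractionRing R) L := inferInstance
    haveI : IsScalarTower R (integralClosure R (FractionRing R)) L := inferInstance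
    have hfin' : Module.Finite (integralClosure R (FractionRing R))
        (integralClosure (integralClosure R (FractionRing R)) L) :=
      IsIntegralClosure.finite (integralClosure R (FractionRing R)) (FractionRing R) L
        (integralClosure (integralClosure R (FractionRing R)) L)
    haveI : Algebra.IsIntegral R (integralClosure R (FractionRing R)) := inferInstance
    have hmem : ∀ x : L, x ∈ integralClosure (integralClosure R (FractionRing R)) L ↔
        x ∈ integralClosure R L := by
      intro x
      constructor
      · intro hx
        exact isIntegral_trans (A := integralClosure R (FractionRing R)) x hx
      · intro hx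
        exact IsIntegral.tower_top hx
    have hfinR : Module.Finite R (integralClosure (integralClosure R (FractionRing R)) L) :=
      Module.Finite.trans (integralClosure R (FractionRing R)) _
    let e : (integralClosure (integralClosure R (FractionRing R)) L) ≃ₗ[R] (integralClosure R L) :=
      { toFun := fun x => ⟨x.1, (hmem x.1).mp x.2⟩
        invFun := fun x => ⟨x.1, (hmem x.1).mpr x.2⟩
        map_add' := fun _ _ => rfl
        map_smul' := fun r x => by
          apply Subtype.ext
          show ((r • x : integralClosure (integralClosure R (FractionRing R)) L) : L) = r • (x : L)
          rfl
        left_inv := fun _ => rfl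
        right_inv := fun _ => rfl }
    exact Module.Finite.equiv e
  · intro h2
    exact h2 (FractionRing R) inferInstance


end


/-- For Noetherian domains of characteristic zero the conditions N-1 and N-2 coincide. -/
theorem result (R : Type u) [CommRing R] [IsDomain R] [IsNoetherianRing R]
    [CharZero R] : CAlg.IsN1 R ↔ CAlg.IsN2 R := by
  classical
  exact main R

end Groth.Agent.S0574
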