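import Groth.Statements.S0625
import Mathlib
import Groth.Prelude.Def_EtBase
import Groth.Agent.Lib.Helper9.FE.NormalSplitSch
-- import your own Groth.Agent.* helpers here

set_option autoImplicit false
open CategoryTheory CategoryTheory.Limits AlgebraicGeometry Opposite
universe u
open EtCore

namespace Groth.Agent.S0625

open CategoryTheory CategoryTheory.Limits AlgebraicGeometry Opposite
namespace Aux
set_option linter.unusedSectionVars false
set_option backward.isDefEq.respectTransparency false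
set_option linter.style.haveILetI false

open scoped Function in
theorem exists_section_of_clopen_cover {V Z : Scheme.{u}} (φ : V ⟶ Z) {I : Type u} [Finite I]
    (W : I → Z.Opens) (hclosed : ∀ k, IsClosed (W k : Set Z)) (hcov : ∀ z : Z, ∃ k, z ∈ W k)
    (g : ∀ k, (W k : Scheme.{u}) ⟶ V) (hg : ∀ k, g k ≫ φ = (W k).ι) :
    ∃ s : Z ⟶ V, s ≫ φ = 𝟙 Z := by
  classical
  have : Fintype I := Fintype.ofFinite I
  let r : I → ℕ := fun k => (Fintype.equivFin I k : ℕ)
  have hr : Function.Injective r := fun a b h =>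
    (Fintype.equivFin I).injective (Fin.ext h)
  let T : I → Z.Opens := fun k =>
    ⟨(W k : Set Z) \ ⋃ l ∈ {l : I | r l < r k}, (W l : Set Z),
      (W k).isOpen.sdiff ((Set.toFinite _).isClosed_biUnion fun l _ => hclosed l)⟩
  have hTW : ∀ k, T k ≤ W k := fun k x hx => hx.1
  have hTcov : ⨆ k, (T k).ι.opensRange = ⊤ := by
    rw [eq_top_iff]
    intro z _
    have hne : {k : I | z ∈ W k}.Nonempty := hcov z
    obtain ⟨k, hk, hmin⟩ := Set.exists_min_image {k : I | z ∈ W k} r (Set.toFinite _) hne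
    simp only [TopologicalSpace.Opens.mem_iSup]
    refine ⟨k, ?_⟩
    rw [Scheme.Opens.opensRange_ι]
    refine ⟨hk, ?_⟩
    simp only [Set.mem_iUnion, not_exists]
    intro l hl hzl
    exact absurd (hmin l hzl) (not_le.2 hl)
  have hTdisj : Pairwise (Disjoint on (fun k => (T k).ι.opensRange)) := by
    intro k l hkl
    show Disjoint (T k).ι.opensRange (T l).ι.opensRange
    rw [Scheme.Opens.opensRange_ι, Scheme.Opens.opensRange_ι, disjoint_iff]
    ext z
    simp only [TopologicalSpace.Opens.coe_inf, Set.mem_inter_iff, SetLike.mem_coe,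
      TopologicalSpace.Opens.coe_bot, Set.mem_empty_iff_false, iff_false, not_and]
    intro hk hl
    rcases lt_or_gt_of_ne (fun h => hkl (hr h)) with h | h
    · exact hl.2 (Set.mem_biUnion (show k ∈ {l' : I | r l' < r l} from h) hk.1)
    · exact hk.2 (Set.mem_biUnion (show l ∈ {l' : I | r l' < r k} from h) hl.1)
  obtain ⟨hc⟩ := nonempty_isColimit_cofanMk_of (fun k => (T k).ι) hTcov hTdisj
  let s : Z ⟶ V := Cofan.IsColimit.desc hc (fun k => Z.homOfLE (hTW k) ≫ g k)
  refine ⟨s, ?_⟩
  apply Cofan.IsColimit.hom_ext hc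
  intro k
  show (T k).ι ≫ s ≫ φ = (T k).ι ≫ 𝟙 Z
  have h1 : (T k).ι ≫ s = Z.homOfLE (hTW k) ≫ g k := Cofan.IsColimit.fac hc _ k
  rw [← Category.assoc, h1, Category.assoc, hg, Scheme.homOfLE_ι, Category.comp_id]

theorem isClosed_range_sigmaι {I : Type u} (X : I → Scheme.{u}) (k : I) :
    IsClosed (Set.range (Sigma.ι X k)) := by
  have h : Set.range (Sigma.ι X k) = sigmaMk X '' Set.range (Sigma.mk k) := by
    ext x
    constructor
    · rintro ⟨y, rfl⟩
      exact ⟨⟨k, y⟩, ⟨y, rfl⟩, sigmaMk_mk X k y⟩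
    · rintro ⟨_, ⟨y, rfl⟩, rfl⟩
      exact ⟨y, (sigmaMk_mk X k y).symm⟩
  rw [h]
  exact (sigmaMk X).isClosedMap _ isClosed_range_sigmaMk

theorem main {V Z X : Scheme.{u}} [IsAffine X] [IsIntegral X]
    (hN : ∀ x : X, IsIntegrallyClosed (X.presheaf.stalk x)) [IsSepClosed X.functionField]
    (i : Z ⟶ X) [IsClosedImmersion i] (φ : V ⟶ Z) [AlgebraicGeometry.Etale φ] [IsFinite φ]
    [Surjective φ] :
    ∃ s : Z ⟶ V, s ≫ φ = 𝟙 Z := by
  obtain ⟨hZ, -⟩ := IsClosedImmersion.isAffine_surjective_of_isAffine (f := i)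
  have hV : IsAffine V := isAffine_of_isAffineHom φ
  obtain ⟨I, hI, e, W, ε, he, hε⟩ := H9FE.normal_sepClosed_split hN i φ
  let g : ∀ k, (W k : Scheme.{u}) ⟶ V := fun k => Sigma.ι (fun k => (W k : Scheme.{u})) k ≫ ε.hom
  have hg : ∀ k, g k ≫ φ = (W k).ι := fun k => by
    show (Sigma.ι (fun k => (W k : Scheme.{u})) k ≫ ε.hom) ≫ φ = _
    rw [Category.assoc]; exact hε k
  have hgclosed : ∀ k, IsClosed (Set.range (g k)) := by
    intro k
    show IsClosed (Set.range (Sigma.ι (fun k => (W k : Scheme.{u})) k ≫ ε.hom))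
    rw [Scheme.Hom.comp_base, TopCat.coe_comp, Set.range_comp]
    exact ε.hom.homeomorph.isClosedMap _ (isClosed_range_sigmaι _ k)
  have hclosed : ∀ k, IsClosed (W k : Set Z) := by
    intro k
    have h1 : (W k : Set Z) = φ '' Set.range (g k) := by
      rw [← Scheme.Opens.range_ι, ← hg k, Scheme.Hom.comp_base, TopCat.coe_comp, Set.range_comp]
    rw [h1]
    exact φ.isClosedMap _ (hgclosed k)
  have hcov : ∀ z : Z, ∃ k, z ∈ W k := by
    intro z
    obtain ⟨v, rfl⟩ := φ.surjective z
    obtain ⟨y, rfl⟩ := ε.hom.surjective v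
    obtain ⟨k, w, rfl⟩ := (sigmaOpenCover (fun k => (W k : Scheme.{u}))).exists_eq y
    refine ⟨k, ?_⟩
    have : φ (ε.hom ((sigmaOpenCover (fun k => (W k : Scheme.{u}))).f k w)) = (W k).ι w := by
      have := congrArg (fun m => m w) (hε k)
      exact this
    rw [this]
    exact w.2
  exact exists_section_of_clopen_cover φ W hclosed hcov g hg

end Aux

/-- Let X be an affine integral normal scheme whose function field is separably closed and Z -> X a
closed immersion. Every surjective finite etale morphism V -> Z has a section. -/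
theorem result {V Z X : Scheme.{u}} [IsAffine X] [IsIntegral X]
    (hN : ∀ x : X, IsIntegrallyClosed (X.presheaf.stalk x)) [IsSepClosed X.functionField]
    (i : Z ⟶ X) [IsClosedImmersion i] (φ : V ⟶ Z) [AlgebraicGeometry.Etale φ] [IsFinite φ] [Surjective φ] :
    ∃ s : Z ⟶ V, s ≫ φ = 𝟙 Z := by
  exact Aux.main hN i φ

end Groth.Agent.S0625
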