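import Groth.Statements.S0626
import Mathlib
import Groth.Prelude.Def_EtCore
import Groth.Agent.Lib.Helper9.FE.ConstUnit
import Groth.Agent.Lib.Helper9.FE.NormalIrredFib
-- import your own Groth.Agent.* helpers here

set_option autoImplicit false
open CategoryTheory CategoryTheory.Limits AlgebraicGeometry Opposite
universe u
open EtCore

namespace Groth.Agent.S0626

open CategoryTheory CategoryTheory.Limits AlgebraicGeometry Opposite
namespace Aux
set_option backward.isDefEq.respectTransparency false
set_option linter.style.haveILetI false
set_option linter.unusedSectionVars false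
open H9FE H9FE.ConstUnit H9FE.NormalIrredSch Groth.Agent.S14453.Aux

theorem range_generic (X : Scheme.{u}) [IsIntegral X] (y : Spec (X.presheaf.stalk (genericPoint X))) :
    X.fromSpecStalk (genericPoint X) y = genericPoint X := by
  have h1 : X.fromSpecStalk (genericPoint X) y ∈ Set.range (X.fromSpecStalk (genericPoint X)) :=
    ⟨y, rfl⟩
  rw [Scheme.range_fromSpecStalk] at h1
  have h2 : genericPoint X ⤳ X.fromSpecStalk (genericPoint X) y :=
    (genericPoint_spec X).specializes (Set.mem_univ _)
  exact (Specializes.antisymm h1 h2).eq

theorem main (X : Scheme.{u}) [IsIntegral X]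
    (hN : ∀ x : X, IsIntegrallyClosed (X.presheaf.stalk x))
    (A : AddCommGrpCat.{u+1}) :
    IsIso ((EtCoh.pullPushAdj (X.fromSpecStalk (genericPoint X))).unit.app (cS X A)) := by
  apply isIso_unit_of_criterion
  · intro V hV
    haveI : Nonempty V.left := hV
    obtain ⟨v, hv⟩ := exists_over_generic (X := X) (V := V.left) V.hom
    obtain ⟨z, -, -⟩ := Scheme.Pullback.exists_preimage_pullback (f := V.hom)
      (g := X.fromSpecStalk (genericPoint X))
      v (IsLocalRing.closedPoint _) (hv.trans Scheme.fromSpecStalk_closedPoint.symm)
    exact ⟨z⟩
  · intro V v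
    obtain ⟨W₀, hvW₀, hirr⟩ := exists_irreducible_nhd (X := X) hN (V := V.left) V.hom v
    refine ⟨opObj V W₀, opι V W₀, ⟨⟨v, hvW₀⟩, rfl⟩, ?_⟩
    haveI : PreirreducibleSpace (W₀ : Scheme.{u}) := Subtype.preirreducibleSpace hirr
    let hW : (W₀ : Scheme.{u}) ⟶ X := (opObj V W₀).hom
    haveI : Etale hW := (opObj V W₀).prop
    let p : pullback hW (X.fromSpecStalk (genericPoint X)) ⟶ (W₀ : Scheme.{u}) :=
      pullback.fst _ _
    let q : pullback hW (X.fromSpecStalk (genericPoint X)) ⟶
      Spec (X.presheaf.stalk (genericPoint X)) := pullback.snd _ _
    have hpq : p ≫ hW = q ≫ X.fromSpecStalk (genericPoint X) := pullback.condition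
    haveI : Subsingleton (pullback hW (X.fromSpecStalk (genericPoint X)) : Scheme.{u}) := by
      constructor
      intro z z'
      have hz : ∀ t, hW (p t) = genericPoint X := by
        intro t
        have h : (p ≫ hW) t = (q ≫ X.fromSpecStalk (genericPoint X)) t := by
          rw [hpq]
        exact h.trans (range_generic X (q t))
      have h1 : p z = p z' :=
        generic_fibre_subsingleton (X := X) (W := (W₀ : Scheme.{u})) hW _ _ (hz z) (hz z')
      exact p.isEmbedding.injective h1
    change PreirreducibleSpace (pullback hW (X.fromSpecStalk (genericPoint X)) : Scheme.{u})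
    infer_instance

end Aux

/-- Let X be an integral normal scheme (all local rings integrally closed) with generic point η, let g :
Spec O_{X,η} → X be the canonical morphism, and let M be an abelian group. Then the adjunction unit
from the constant étale sheaf with value M on X to g_* of its pullback is an isomorphism. (Since the
pullback of a constant sheaf is constant, this says that g_* of the constant sheaf M on the spectrum
of the function field is the constant sheaf M on X.) -/
theorem result (X : Scheme.{u}) [IsIntegral X]
    (hN : ∀ x : X, IsIntegrallyClosed (X.presheaf.stalk x)) (M : Type) [AddCommGroup M] :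
    IsIso ((EtCoh.pullPushAdj (X.fromSpecStalk (genericPoint X))).unit.app (EtCoh.const X M)) := by
  exact Aux.main X hN (AddCommGrpCat.of (ULift.{u + 1} M))

end Groth.Agent.S0626
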