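import Groth.Statements.S0627
import Mathlib
import Groth.Prelude.Def_EtCore
import Groth.Agent.Lib.Helper9.FE.ConstUnit
import Groth.Agent.Lib.Helper9.FE.NormalIrredFib
-- import your own Groth.Agent.* helpers here

set_option autoImplicit false
open CategoryTheory CategoryTheory.Limits AlgebraicGeometry Opposite
universe u
open EtCore

namespace Groth.Agent.S0627

open CategoryTheory CategoryTheory.Limits AlgebraicGeometry Opposite
namespace Aux
set_option backward.isDefEq.respectTransparency false
set_option linter.style.haveILetI false
set_option linter.unusedSectionVars false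
open H9FE H9FE.ConstUnit H9FE.NormalIrredSch Groth.Agent.S14453.Aux

theorem main (X : Scheme.{u}) [IsIntegral X]
    (hN : ∀ x : X, IsIntegrallyClosed (X.presheaf.stalk x)) (U : X.Opens) (hU : (U : Set X).Nonempty)
    (A : AddCommGrpCat.{u+1}) :
    IsIso ((EtCoh.pullPushAdj U.ι).unit.app (cS X A)) := by
  have hη : genericPoint X ∈ U := by
    have := ((genericPoint_spec X).mem_open_set_iff U.isOpen).2
      (by simpa [Set.univ_inter] using hU)
    exact this
  apply isIso_unit_of_criterion
  · intro V hV
    haveI : Nonempty V.left := hV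
    obtain ⟨v, hv⟩ := exists_over_generic (X := X) (V := V.left) V.hom
    obtain ⟨z, -, -⟩ := Scheme.Pullback.exists_preimage_pullback (f := V.hom) (g := U.ι)
      v ⟨genericPoint X, hη⟩ hv
    exact ⟨z⟩
  · intro V v
    obtain ⟨W₀, hvW₀, hirr⟩ := exists_irreducible_nhd (X := X) hN (V := V.left) V.hom v
    refine ⟨opObj V W₀, opι V W₀, ⟨⟨v, hvW₀⟩, rfl⟩, ?_⟩
    haveI : PreirreducibleSpace (W₀ : Scheme.{u}) := Subtype.preirreducibleSpace hirr
    let p : pullback (opObj V W₀).hom U.ι ⟶ (W₀ : Scheme.{u}) := pullback.fst _ _
    exact preirreducibleSpace_of_isOpenEmbedding p p.isOpenEmbedding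

end Aux

/-- Let X be an integral normal scheme (every local ring integrally closed), U a nonempty open subscheme
with inclusion j : U → X, and M an abelian group. Then the adjunction unit from the constant étale
sheaf with value M on X to j_* of its pullback to U is an isomorphism. -/
theorem result (X : Scheme.{u}) [IsIntegral X]
    (hN : ∀ x : X, IsIntegrallyClosed (X.presheaf.stalk x)) (U : X.Opens) (hU : (U : Set X).Nonempty)
    (M : Type) [AddCommGroup M] :
    IsIso ((EtCoh.pullPushAdj U.ι).unit.app (EtCoh.const X M)) := by
  exact Aux.main X hN U hU (AddCommGrpCat.of (ULift.{u + 1} M))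

end Groth.Agent.S0627
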