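import Groth.Statements.S0632
import Mathlib
import Groth.Agent.Lib.Helper5.Misc.EtClosedLift
import Groth.Agent.Lib.Helper5.Misc.EtSiteBasic

set_option autoImplicit false
open CategoryTheory CategoryTheory.Limits AlgebraicGeometry Opposite
universe u
open EtCore

open Groth.Agent.Lib.Helper5

namespace Groth.Agent.S0632

/-- Let X -> Y be a closed immersion and U_i -> X (i in ι) a jointly surjective family of etale
morphisms. Then one can find a jointly surjective family of etale Y-schemes V_j each of which either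
has empty preimage over X or, after base change to X, maps into one of the U_i over X. -/
theorem result {X Y : Scheme.{u}} (f : X ⟶ Y) [IsClosedImmersion f]
    {ι : Type u} (U : ι → X.Etale) (hU : EtCoh.Covers U) :
    ∃ (κ : Type u) (V : κ → Y.Etale), EtCoh.Covers V ∧
      ∀ j, IsEmpty ↥(pullback (V j).hom f) ∨
        ∃ (i : ι) (h : pullback (V j).hom f ⟶ (U i).left), h ≫ (U i).hom = pullback.snd (V j).hom f := by
  haveI : ∀ i, Etale (U i).hom := fun i => (U i).prop
  choose V v hv T t ht a hx hpb using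
    fun p : (Σ i, (U i).left) => EtClosedLift.exists_lift f (U p.1).hom p.2
  let W : Y.Opens := ⟨(Set.range f.base)ᶜ, f.isClosedEmbedding.isClosed_range.isOpen_compl⟩
  refine ⟨Option (Σ i, (U i).left), fun o => o.elim (EtSiteBasic.ofEtale W.ι)
    (fun p => @EtSiteBasic.ofEtale _ _ (v p) (hv p)), ?_, ?_⟩
  · intro y
    by_cases hy : y ∈ Set.range f.base
    · obtain ⟨x', rfl⟩ := hy
      obtain ⟨i, u, hu⟩ := hU x'
      obtain ⟨z, hz⟩ := hx ⟨i, u⟩
      refine ⟨some ⟨i, u⟩, a ⟨i, u⟩ z, ?_⟩
      change v ⟨i, u⟩ (a ⟨i, u⟩ z) = f x'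
      have c := (hpb ⟨i, u⟩).w
      have c1 : v ⟨i, u⟩ (a ⟨i, u⟩ z) = f ((U i).hom (t ⟨i, u⟩ z)) := by
        rw [← Scheme.Hom.comp_apply, ← Scheme.Hom.comp_apply, ← Scheme.Hom.comp_apply, c,
          Category.assoc]
      rw [c1, hz]
      exact congrArg _ hu
    · have m : y ∈ Set.range W.ι := by
        rw [Scheme.Opens.range_ι]
        exact hy
      obtain ⟨w, hw⟩ := m
      exact ⟨none, w, hw⟩
  · rintro (_ | p)
    · left
      refine ⟨fun z => ?_⟩
      have c : pullback.fst W.ι f ≫ W.ι = pullback.snd W.ι f ≫ f := pullback.condition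
      have c1 : W.ι (pullback.fst W.ι f z) = f (pullback.snd W.ι f z) := by
        rw [← Scheme.Hom.comp_apply, ← Scheme.Hom.comp_apply, c]
      have m : W.ι (pullback.fst W.ι f z) ∈ Set.range W.ι := ⟨_, rfl⟩
      rw [Scheme.Opens.range_ι] at m
      exact m ⟨_, c1.symm⟩
    · right
      refine ⟨p.1, (hpb p).isoPullback.inv ≫ t p, ?_⟩
      rw [Category.assoc]
      exact (hpb p).isoPullback_inv_snd

end Groth.Agent.S0632
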