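import Groth.Statements.S0633
import Mathlib
import Groth.Agent.Lib.Helper5.Misc.EtClosedLift
import Groth.Agent.Lib.Helper5.Misc.EtSiteBasic

set_option autoImplicit false
open CategoryTheory CategoryTheory.Limits AlgebraicGeometry Opposite
universe u
open EtCore

open Groth.Agent.Lib.Helper5

namespace Groth.Agent.S0633

/-- Let X -> Y be a closed immersion and U -> X etale. Then there exist etale morphisms V_i -> Y and
X-morphisms V_i x_Y X -> U which are open immersions whose images cover U. -/
theorem result {X Y : Scheme.{u}} (f : X ⟶ Y) [IsClosedImmersion f]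
    (U : X.Etale) :
    ∃ (κ : Type u) (V : κ → Y.Etale) (h : ∀ j, pullback (V j).hom f ⟶ U.left),
      (∀ j, h j ≫ U.hom = pullback.snd (V j).hom f) ∧ (∀ j, IsOpenImmersion (h j)) ∧
      ∀ x : U.left, ∃ (j : κ) (y : ↥(pullback (V j).hom f)), (h j).base y = x := by
  haveI : Etale U.hom := U.prop
  choose V v hv T t ht a hx hpb using fun x : U.left => EtClosedLift.exists_lift f U.hom x
  refine ⟨U.left, fun x => @EtSiteBasic.ofEtale _ _ (v x) (hv x),
    fun x => (hpb x).isoPullback.inv ≫ t x, ?_, ?_, ?_⟩
  · intro x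
    rw [Category.assoc]
    exact (hpb x).isoPullback_inv_snd
  · intro x
    haveI := ht x
    infer_instance
  · intro x
    obtain ⟨z, hz⟩ := hx x
    refine ⟨x, (hpb x).isoPullback.hom z, ?_⟩
    refine Eq.trans ?_ hz
    change ((hpb x).isoPullback.hom ≫ (hpb x).isoPullback.inv ≫ t x) z = _
    rw [Iso.hom_inv_id_assoc]

end Groth.Agent.S0633
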