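import Groth.Statements.S0634
import Mathlib
import Groth.Prelude.Def_EtBase
import Groth.Agent.Lib.Helper5.Misc.EtStalk
import Groth.Agent.Lib.Helper5.Misc.EtStalkPull
import Groth.Agent.Lib.Helper5.Misc.EtSiteBasic
import Groth.Agent.Lib.Helper9.FE.StalkPullGerm
import Groth.Agent.Lib.Helper9.FE.IntUIStalk
import Groth.Agent.S0072
-- import your own Groth.Agent.* helpers here

set_option autoImplicit false
open CategoryTheory CategoryTheory.Limits AlgebraicGeometry Opposite
universe u
open EtCore

namespace Groth.Agent.S0634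

open CategoryTheory CategoryTheory.Limits AlgebraicGeometry Opposite
namespace Aux

set_option backward.isDefEq.respectTransparency false
set_option linter.style.haveILetI false
set_option linter.unusedSectionVars false

open Groth.Agent.Lib.Helper5 H9FE Groth.Agent.S0072.Aux

variable {S : Scheme.{u}} (F : EtCoh.Ab S) (s t : EtCoh.sect F (EtCoh.top S))

/-- the locus where two global sections agree étale locally -/
def agreeSet : Set S :=
  {x | ∃ (U : S.Etale) (g : U ⟶ EtCoh.top S) (u : U.left), U.hom u = x ∧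
    F.obj.map g.op s = F.obj.map g.op t}

lemma isOpen_agreeSet : IsOpen (agreeSet F s t) := by
  rw [isOpen_iff_forall_mem_open]
  intro x hx
  obtain ⟨U, g, u, hu, hg⟩ := hx
  haveI : Etale U.hom := U.prop
  refine ⟨Set.range U.hom, ?_, U.hom.isOpenMap.isOpen_range, ⟨u, hu⟩⟩
  rintro _ ⟨u', rfl⟩
  exact ⟨U, g, u', rfl, hg⟩

variable {T : Scheme.{u}} (f : T ⟶ S)

theorem forward (h : Set.range f.base ⊆ agreeSet F s t) :
    ((EtCoh.pullPushAdj f).unit.app F).hom.app (op (EtCoh.top S)) s =
      ((EtCoh.pullPushAdj f).unit.app F).hom.app (op (EtCoh.top S)) t := by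
  haveI := EtStalk.pfc.{u}
  apply PointDetect.eq_of_germs_sheaf (EtStalk.detects T) ((EtCoh.pull f).obj F)
    (U := (EtCoh.bc f).obj (EtCoh.top S))
  intro g ζ
  obtain ⟨v, -, hv⟩ := IntUIStalk.liftPt_of_fiber f g.ξ (EtCoh.top S) ζ
  have key := StalkPullGerm.stalkPullIso_inv_germ f g.ξ F (EtCoh.top S) v
  have ks := ConcreteCategory.congr_hom key s
  have kt := ConcreteCategory.congr_hom key t
  simp only [ConcreteCategory.comp_apply] at ks kt
  rw [hv] at ks kt
  refine ks.symm.trans (Eq.trans ?_ kt)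
  congr 1
  -- germs of `s` and `t` at `g.ξ ≫ f` agree
  have hpt : f (g.ξ (default : Spec (CommRingCat.of g.Ω))) ∈ agreeSet F s t := h ⟨_, rfl⟩
  obtain ⟨U, gU, u, hu, hgU⟩ := hpt
  have e1 : gU.left = U.hom := (Category.comp_id gU.left).symm.trans (Over.w gU.hom)
  have e2 : v.left = g.ξ ≫ f := (Category.comp_id v.left).symm.trans (Over.w v)
  have hu' : gU.left u = v.left (default : Spec (CommRingCat.of g.Ω)) := by
    rw [e1, e2]
    exact hu
  obtain ⟨v', hv', -⟩ := EtStalk.exists_lift_fiber (g.ξ ≫ f) gU v u hu'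
  have ws := ConcreteCategory.congr_hom
    ((Scheme.pointSmallEtale (g.ξ ≫ f)).toPresheafFiber_w gU v' F.obj) s
  have wt := ConcreteCategory.congr_hom
    ((Scheme.pointSmallEtale (g.ξ ≫ f)).toPresheafFiber_w gU v' F.obj) t
  simp only [ConcreteCategory.comp_apply] at ws wt
  rw [hv'] at ws wt
  rw [← ws, ← wt, hgU]

theorem backward
    (h : ((EtCoh.pullPushAdj f).unit.app F).hom.app (op (EtCoh.top S)) s =
      ((EtCoh.pullPushAdj f).unit.app F).hom.app (op (EtCoh.top S)) t) :
    Set.range f.base ⊆ agreeSet F s t := by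
  haveI := EtStalk.pfc.{u}
  rintro _ ⟨t0, rfl⟩
  let g : EtStalk.GeomPt T := EtStalk.geomPtAt t0
  have hg : g.ξ (default : Spec (CommRingCat.of g.Ω)) = t0 := EtStalk.geomPtAt_default t0
  let v : (Scheme.pointSmallEtale (g.ξ ≫ f)).fiber.obj (EtCoh.top S) :=
    Over.homMk (g.ξ ≫ f) (Category.comp_id _)
  have key := StalkPullGerm.stalkPullIso_inv_germ f g.ξ F (EtCoh.top S) v
  have ks := ConcreteCategory.congr_hom key s
  have kt := ConcreteCategory.congr_hom key t
  simp only [ConcreteCategory.comp_apply] at ks kt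
  have h1 := ks.trans ((congrArg _ h).trans kt.symm)
  have hinj : Function.Injective ((EtStalkPull.stalkPullIso f g.ξ).inv.app F) :=
    ((ConcreteCategory.isIso_iff_bijective _).1 inferInstance).1
  have h2 := hinj h1
  rw [(Scheme.pointSmallEtale (g.ξ ≫ f)).toPresheafFiber_eq_iff'] at h2
  obtain ⟨U, gU, y, hy, hgU⟩ := h2
  refine ⟨U, gU, y.left (default : Spec (CommRingCat.of g.Ω)), ?_, hgU⟩
  have e : y.left ≫ U.hom = g.ξ ≫ f := Over.w y
  have e' := congrArg (fun m : Spec (CommRingCat.of g.Ω) ⟶ S =>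
    m (default : Spec (CommRingCat.of g.Ω))) e
  refine e'.trans ?_
  change f (g.ξ (default : Spec (CommRingCat.of g.Ω))) = f t0
  rw [hg]

theorem main : ∃ W : S.Opens, ∀ (T : Scheme.{u}) (f : T ⟶ S),
      Set.range f.base ⊆ (W : Set S) ↔
        ((EtCoh.pullPushAdj f).unit.app F).hom.app (op (EtCoh.top S)) s =
          ((EtCoh.pullPushAdj f).unit.app F).hom.app (op (EtCoh.top S)) t :=
  ⟨⟨agreeSet F s t, isOpen_agreeSet F s t⟩, fun _ f => ⟨forward F s t f, backward F s t f⟩⟩

end Aux

/-- For an abelian sheaf F on the small etale site of S and two global sections s, t there is an open W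
of S such that a morphism f : T -> S has image inside W if and only if the pullbacks of s and t
along f (images under the adjunction unit, as sections of the pullback sheaf over T) coincide. -/
theorem result {S : Scheme.{u}} (F : EtCoh.Ab S) (s t : EtCoh.sect F (EtCoh.top S)) :
    ∃ W : S.Opens, ∀ (T : Scheme.{u}) (f : T ⟶ S),
      Set.range f.base ⊆ (W : Set S) ↔
        ((EtCoh.pullPushAdj f).unit.app F).hom.app (op (EtCoh.top S)) s =
          ((EtCoh.pullPushAdj f).unit.app F).hom.app (op (EtCoh.top S)) t := by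
  exact Aux.main F s t

end Groth.Agent.S0634
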