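import Groth.Statements.S0643
open Polynomial

set_option autoImplicit false
universe u
open EtCore

namespace Groth.Agent.S0643

open Polynomial in
/-- Let A be a ring, assumed nonzero here (the published statement does not say so; over the zero ring
no polynomial has positive degree in Lean's sense), and a, b elements generating the unit ideal such
that some positive power of a is congruent to 1 modulo b. Then there is a monic polynomial P of
positive degree over A such that in B = A[y]/(P) the element a - b y is a unit. -/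
theorem result (A : Type u) [CommRing A] [Nontrivial A] (a b : A) (hab : IsCoprime a b)
    (hroot : ∃ n : ℕ, 0 < n ∧ a ^ n - 1 ∈ Ideal.span ({b} : Set A)) :
    ∃ P : A[X], P.Monic ∧ 0 < P.natDegree ∧
      IsUnit (algebraMap A (AdjoinRoot P) a - algebraMap A (AdjoinRoot P) b * AdjoinRoot.root P) := by
  obtain ⟨n, hn, hmem⟩ := hroot
  obtain ⟨c, hc⟩ := Ideal.mem_span_singleton'.mp hmem
  obtain ⟨m, rfl⟩ : ∃ m, n = m + 1 := ⟨n - 1, by omega⟩
  obtain ⟨u, v, huv⟩ := (hab.pow (m := m) (n := m))
  let r : A[X] := - (C (c * u) * X ^ m) - C (c * v)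
  have hr : r.degree < ((m + 1 : ℕ) : WithBot ℕ) := by
    have h1 : (C (c * u) * X ^ m : A[X]).degree ≤ (m : WithBot ℕ) := degree_C_mul_X_pow_le m _
    have h2 : (C (c * v) : A[X]).degree ≤ (m : WithBot ℕ) :=
      le_trans degree_C_le (by exact_mod_cast Nat.zero_le m)
    have h3 : r.degree ≤ (m : WithBot ℕ) := by
      refine le_trans (degree_sub_le _ _) (max_le ?_ h2)
      rw [degree_neg]
      exact h1
    refine lt_of_le_of_lt h3 ?_
    exact_mod_cast Nat.lt_succ_self m
  have hmonic : (X ^ (m + 1) + r).Monic := monic_X_pow_add hr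
  refine ⟨X ^ (m + 1) + r, hmonic, ?_, ?_⟩
  · have hd : (X ^ (m + 1) + r).degree = ((m + 1 : ℕ) : WithBot ℕ) := by
      rw [degree_add_eq_left_of_degree_lt (by rw [degree_X_pow]; exact hr), degree_X_pow]
    have : (X ^ (m + 1) + r).natDegree = m + 1 := natDegree_eq_of_degree_eq_some hd
    omega
  · set P : A[X] := X ^ (m + 1) + r with hP
    have hy : (AdjoinRoot.root P) ^ (m + 1)
        - (AdjoinRoot.of P (c * u)) * (AdjoinRoot.root P) ^ m - AdjoinRoot.of P (c * v) = 0 := by
      have h0 := AdjoinRoot.eval₂_root P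
      rw [hP] at h0
      simp only [r, eval₂_add, eval₂_sub, eval₂_neg, eval₂_mul, eval₂_pow, eval₂_X, eval₂_C] at h0
      rw [← h0]
      ring
    have keyA : a ^ (m + 1) - c * u * b * a ^ m - c * v * b ^ (m + 1) = 1 := by
      linear_combination (-1 : A) * hc - c * b * huv
    have keyB := congrArg (AdjoinRoot.of P) keyA
    simp only [map_sub, map_mul, map_pow, map_one] at keyB
    rw [AdjoinRoot.algebraMap_eq]
    apply isUnit_of_dvd_one
    have h1 : (AdjoinRoot.of P a - AdjoinRoot.of P b * AdjoinRoot.root P) ∣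
        (AdjoinRoot.of P a) ^ (m + 1) - (AdjoinRoot.of P b * AdjoinRoot.root P) ^ (m + 1) :=
      sub_dvd_pow_sub_pow _ _ _
    have h2 : (AdjoinRoot.of P a - AdjoinRoot.of P b * AdjoinRoot.root P) ∣
        (AdjoinRoot.of P a) ^ m - (AdjoinRoot.of P b * AdjoinRoot.root P) ^ m :=
      sub_dvd_pow_sub_pow _ _ _
    have h3 : ((AdjoinRoot.of P a) ^ (m + 1) - (AdjoinRoot.of P b * AdjoinRoot.root P) ^ (m + 1))
        - (AdjoinRoot.of P c * AdjoinRoot.of P u * AdjoinRoot.of P b) *
          ((AdjoinRoot.of P a) ^ m - (AdjoinRoot.of P b * AdjoinRoot.root P) ^ m) = 1 := by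
      simp only [map_mul] at hy
      linear_combination keyB - (AdjoinRoot.of P b) ^ (m + 1) * hy
    rw [← h3]
    exact dvd_sub h1 (Dvd.dvd.mul_left h2 _)

end Groth.Agent.S0643
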