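import Groth.Statements.S0644
import Mathlib
import Groth.Agent.Lib.Helper5.Misc.EtSiteBasic
import Groth.Agent.S0728

set_option autoImplicit false
open CategoryTheory CategoryTheory.Limits AlgebraicGeometry Opposite
universe u
open EtCore

open Groth.Agent.Lib.Helper5

namespace Groth.Agent.S0644

variable {S : Scheme.{u}}

/-- Morphisms to an open subscheme in the small étale site. -/
lemma nonempty_hom_iff (W : S.Opens) (V : S.Etale) :
    Nonempty (V ⟶ Scheme.Etale.mk W.ι) ↔ Set.range V.hom.base ⊆ (W : Set S) := by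
  constructor
  · rintro ⟨g⟩ _ ⟨v, rfl⟩
    have e : g.left ≫ W.ι = V.hom := Over.w g.hom
    have m : W.ι (g.left v) ∈ Set.range W.ι := ⟨_, rfl⟩
    rw [Scheme.Opens.range_ι] at m
    have e2 : W.ι (g.left v) = V.hom v := congrArg (fun f : V.left ⟶ S => f v) e
    rw [← e2]
    exact m
  · intro h
    have h' : Set.range V.hom ⊆ Set.range W.ι := by
      rw [Scheme.Opens.range_ι]
      exact h
    let l : V.left ⟶ W.toScheme := IsOpenImmersion.lift W.ι V.hom h'
    have hl : l ≫ W.ι = V.hom := IsOpenImmersion.lift_fac _ _ _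
    exact ⟨MorphismProperty.Over.homMk l hl trivial⟩

instance subsingleton_hom (W : S.Opens) (V : S.Etale) :
    Subsingleton (V ⟶ Scheme.Etale.mk W.ι) := by
  refine ⟨fun g₁ g₂ => ?_⟩
  apply MorphismProperty.Over.Hom.ext
  have e1 : g₁.left ≫ W.ι = V.hom := Over.w g₁.hom
  have e2 : g₂.left ≫ W.ι = V.hom := Over.w g₂.hom
  exact (cancel_mono W.ι).1 (e1.trans e2.symm)

/-- The open attached to a subsheaf of the final sheaf. -/
def openOf (F : Sheaf S.smallEtaleTopology (Type u)) : S.Opens :=
  ⟨⋃ (V : S.Etale) (_ : Nonempty (F.obj.obj (op V))), Set.range V.hom.base, by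
    apply isOpen_iUnion
    intro V
    apply isOpen_iUnion
    intro _
    haveI : Etale V.hom := V.prop
    exact V.hom.isOpenMap.isOpen_range⟩

lemma nonempty_sections_iff (F : Sheaf S.smallEtaleTopology (Type u))
    (hF : ∀ U : S.Etale, Subsingleton (F.obj.obj (op U))) (V : S.Etale) :
    Nonempty (F.obj.obj (op V)) ↔ Set.range V.hom.base ⊆ (openOf F : Set S) := by
  constructor
  · intro h x hx
    exact Set.mem_iUnion.2 ⟨V, Set.mem_iUnion.2 ⟨h, hx⟩⟩
  · intro h
    let R : Sieve V :=
      { arrows := fun V' _ => Nonempty (F.obj.obj (op V'))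
        downward_closed := by
          rintro Y Z f ⟨s⟩ g
          exact ⟨F.obj.map g.op s⟩ }
    have hR : R ∈ S.smallEtaleTopology V := by
      rw [EtSiteBasic.mem_smallEtale_iff]
      intro v
      have hv : V.hom v ∈ (openOf F : Set S) := h ⟨v, rfl⟩
      obtain ⟨Vk, hk⟩ := Set.mem_iUnion.1 hv
      obtain ⟨hne, vk, hvk⟩ := Set.mem_iUnion.1 hk
      let t₁ : V ⟶ Scheme.Etale.mk (𝟙 S) :=
        MorphismProperty.Over.homMk V.hom (Category.comp_id _) trivial
      let t₂ : Vk ⟶ Scheme.Etale.mk (𝟙 S) :=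
        MorphismProperty.Over.homMk Vk.hom (Category.comp_id _) trivial
      obtain ⟨V', p₁, p₂, w, -, hw1, -⟩ :=
        Groth.Agent.S0728.exists_pullback_point t₁ t₂ v vk hvk.symm
      obtain ⟨s⟩ := hne
      exact ⟨V', p₁, w, ⟨F.obj.map p₂.op s⟩, hw1⟩
    have hsh := ((isSheaf_iff_isSheaf_of_type _ _).1 F.2) R hR
    let x : Presieve.FamilyOfElements F.obj R.arrows := fun V' g hg => Classical.choice hg
    have hx : x.Compatible := by
      intro Y₁ Y₂ Z g₁ g₂ f₁ f₂ h₁ h₂ _
      exact @Subsingleton.elim _ (hF Z) _ _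
    exact ⟨hsh.amalgamate x hx⟩

theorem main (S : Scheme.{u}) (F : Sheaf S.smallEtaleTopology (Type u))
    (hF : ∀ U : S.Etale, Subsingleton (F.obj.obj (op U))) :
    ∃! W : S.Opens, Nonempty (F.obj ≅ yoneda.obj (Scheme.Etale.mk W.ι)) := by
  refine ⟨openOf F, ⟨?_⟩, ?_⟩
  · have hiff : ∀ V : S.Etale, Nonempty (F.obj.obj (op V)) ↔
        Nonempty (V ⟶ Scheme.Etale.mk (openOf F).ι) := fun V =>
      (nonempty_sections_iff F hF V).trans (nonempty_hom_iff (openOf F) V).symm
    refine NatIso.ofComponents (fun V => Equiv.toIso ?_) ?_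
    · haveI := hF V.unop
      haveI : Subsingleton ((yoneda.obj (Scheme.Etale.mk (openOf F).ι)).obj V) :=
        subsingleton_hom (openOf F) V.unop
      exact equivOfSubsingletonOfSubsingleton
        (fun s => Classical.choice ((hiff V.unop).1 ⟨s⟩))
        (fun g => Classical.choice ((hiff V.unop).2 ⟨g⟩))
    · intro V V' f
      ext s
      exact (subsingleton_hom (openOf F) V'.unop).elim _ _
  · rintro W' ⟨e'⟩
    have key : ∀ V : S.Etale, Set.range V.hom.base ⊆ (W' : Set S) ↔
        Set.range V.hom.base ⊆ (openOf F : Set S) := by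
      intro V
      rw [← nonempty_hom_iff, ← nonempty_sections_iff F hF]
      exact ⟨fun ⟨g⟩ => ⟨(e'.app (op V)).inv g⟩, fun ⟨s⟩ => ⟨(e'.app (op V)).hom s⟩⟩
    apply le_antisymm
    · have h1 := (key (Scheme.Etale.mk W'.ι)).1 (by
        change Set.range W'.ι ⊆ _
        rw [Scheme.Opens.range_ι])
      intro x hx
      apply h1
      change x ∈ Set.range W'.ι
      rw [Scheme.Opens.range_ι]
      exact hx
    · have h1 := (key (Scheme.Etale.mk (openOf F).ι)).2 (by
        change Set.range (openOf F).ι ⊆ _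
        rw [Scheme.Opens.range_ι])
      intro x hx
      apply h1
      change x ∈ Set.range (openOf F).ι
      rw [Scheme.Opens.range_ι]
      exact hx

end Groth.Agent.S0644

namespace Groth.Agent.S0644

/-- Let F be a sheaf of sets on the small etale site of S which is a subsheaf of the final sheaf, i.e.
every set of sections has at most one element. Then there is exactly one open W of S such that F is
isomorphic to the sheaf represented by W (viewed as a scheme etale over S). -/
theorem result (S : Scheme.{u}) (F : Sheaf S.smallEtaleTopology (Type u))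
    (hF : ∀ U : S.Etale, Subsingleton (F.obj.obj (op U))) :
    ∃! W : S.Opens, Nonempty (F.obj ≅ yoneda.obj (Scheme.Etale.mk W.ι)) := by
  exact main S F hF

end Groth.Agent.S0644
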