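import Groth.Statements.S0652
import Mathlib
import Groth.Agent.Lib.Helper5.Misc.EtStalk
import Groth.Agent.Lib.Helper5.Misc.EtStalkPull
import Groth.Agent.Lib.Helper5.Misc.EtOpenImm
import Groth.Agent.S0647
import Groth.Agent.S0623

set_option autoImplicit false
open CategoryTheory CategoryTheory.Limits AlgebraicGeometry Opposite
universe u
open EtCore

open Groth.Agent.Lib.Helper5

namespace Groth.Agent.S0652

open EtStalk in
/-- A morphism of abelian étale sheaves which is an isomorphism on all geometric stalks is an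
isomorphism. -/
lemma isIso_of_stalks_ab {X : Scheme.{u}} {F G : EtCoh.Ab X} (a : F ⟶ G)
    (h : ∀ g : EtStalk.GeomPt X,
      IsIso ((g.point.sheafFiber (A := AddCommGrpCat.{u + 1})).map a)) : IsIso a := by
  haveI : Mono a := (EtStalk.mono_iff_stalks_ab a).2 (fun g =>
    ((ConcreteCategory.isIso_iff_bijective _).1 (h g)).1)
  haveI : Epi a := (EtStalk.epi_iff_stalks_ab a).2 (fun g =>
    ((ConcreteCategory.isIso_iff_bijective _).1 (h g)).2)
  exact isIso_of_mono_of_epi a

lemma isZero_sigma_of_isEmpty {A : Type*} [Category A] [HasZeroMorphisms A] {ι : Type*}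
    [IsEmpty ι] (f : ι → A) [HasCoproduct f] : IsZero (∐ f) := by
  rw [IsZero.iff_id_eq_zero]
  apply Sigma.hom_ext
  intro i
  exact isEmptyElim i

end Groth.Agent.S0652

namespace Groth.Agent.S0652

/-- For an open immersion j : U -> X and an abelian sheaf F on the small etale site of U, an abelian
sheaf G on X is isomorphic to j_! F as soon as G restricts to a sheaf isomorphic to F on U and has
vanishing stalks at every geometric point of X not in U. (Continuity of the composition functor of
etale sites, which always holds, is carried as an instance hypothesis.) -/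
theorem result {U X : Scheme.{u}} (j : U ⟶ X) [IsOpenImmersion j]
    [AlgebraicGeometry.Etale j] [EtShriek.JCont j] (F : EtCoh.Ab U) (G : EtCoh.Ab X)
    (hres : Nonempty ((EtShriek.restrAlong j).obj G ≅ F))
    (hzero : ∀ (Ω : Type u) [Field Ω] [IsSepClosed Ω] (ξ : Spec (CommRingCat.of Ω) ⟶ X),
      Set.range ξ.base ⊆ (Set.range j.base)ᶜ → IsZero ((EtCoh.stalk ξ).obj G)) :
    Nonempty (G ≅ (EtShriek.extZero j).obj F) := by
  obtain ⟨e⟩ := hres
  suffices hε : IsIso ((EtShriek.extZeroAdj j).counit.app G) from
    ⟨(asIso ((EtShriek.extZeroAdj j).counit.app G)).symm ≪≫ (EtShriek.extZero j).mapIso e⟩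
  apply isIso_of_stalks_ab
  intro g
  by_cases hg : g.ξ (default : Spec (CommRingCat.of g.Ω)) ∈ Set.range j.base
  · have hr : Set.range g.ξ.base ⊆ Set.range j.base := by
      rintro _ ⟨a, rfl⟩
      rwa [Subsingleton.elim a default]
    have hu : IsOpenImmersion.lift j g.ξ hr ≫ j = g.ξ := IsOpenImmersion.lift_fac j g.ξ hr
    have h1 : IsIso ((EtShriek.restrAlong j).map ((EtShriek.extZeroAdj j).counit.app G)) := by
      haveI := EtOpenImm.isIso_unit_extZero j
      have tri := (EtShriek.extZeroAdj j).right_triangle_components G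
      exact IsIso.of_isIso_fac_left tri
    have h2 : IsIso ((EtCoh.pull j).map ((EtShriek.extZeroAdj j).counit.app G)) :=
      (NatIso.isIso_map_iff (Groth.Agent.S0623.pullIso j) _).2 h1
    have h3 : IsIso ((EtCoh.pull j ⋙ EtCoh.stalk (IsOpenImmersion.lift j g.ξ hr)).map
        ((EtShriek.extZeroAdj j).counit.app G)) := by
      rw [Functor.comp_map]
      infer_instance
    have h4 : IsIso ((EtCoh.stalk (IsOpenImmersion.lift j g.ξ hr ≫ j)).map
        ((EtShriek.extZeroAdj j).counit.app G)) :=
      (NatIso.isIso_map_iff (EtStalkPull.stalkPullIso j (IsOpenImmersion.lift j g.ξ hr)) _).1 h3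
    rw [hu] at h4
    exact h4
  · have z1 : IsZero ((EtCoh.stalk g.ξ).obj G) := by
      apply hzero g.Ω g.ξ
      rintro _ ⟨a, rfl⟩
      rwa [Subsingleton.elim a default]
    have z2 : IsZero ((EtCoh.stalk g.ξ).obj
        ((EtShriek.extZero j).obj ((EtShriek.restrAlong j).obj G))) := by
      obtain ⟨i⟩ := Groth.Agent.S0647.result j ((EtShriek.restrAlong j).obj G) g.ξ
      haveI : IsEmpty {u : Spec (CommRingCat.of g.Ω) ⟶ U // u ≫ j = g.ξ} :=
        ⟨fun u => hg ⟨u.1 default, congrArg
          (fun f : Spec (CommRingCat.of g.Ω) ⟶ X => f default) u.2⟩⟩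
      exact (isZero_sigma_of_isEmpty _).of_iso i
    exact isIso_of_source_target_iso_zero _ z2.isoZero z1.isoZero

end Groth.Agent.S0652
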