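import Groth.Statements.S0653
import Mathlib
import Groth.Prelude.Def_EtShriek2
import Groth.Agent.Lib.Helper5.Misc.EtOpenImm
import Groth.Agent.Lib.Helper5.Misc.EtStalk
import Groth.Agent.Lib.Helper5.Misc.EtSiteBasic
import Groth.Agent.S0647
import Groth.Agent.S0652
import Groth.Agent.S0671
import Groth.Agent.S0728
-- import your own Groth.Agent.* helpers here

set_option autoImplicit false
open CategoryTheory CategoryTheory.Limits AlgebraicGeometry Opposite
universe u
open EtCore

namespace Groth.Agent.S0653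

open CategoryTheory CategoryTheory.Limits AlgebraicGeometry Opposite
namespace Aux


set_option backward.isDefEq.respectTransparency false
set_option linter.style.haveILetI false
set_option linter.unusedSectionVars false

open EtShriek Groth.Agent.Lib.Helper5 Groth.Agent.S0728

variable {U X V Y : Scheme.{u}} (f : X ⟶ Y) (j : V ⟶ Y) [Etale j] (j' : U ⟶ X) [Etale j']
  (g : U ⟶ V) (h : IsPullback j' g f j)

lemma bc_map_fst {X Y : Scheme.{u}} (f : X ⟶ Y) {W W' : Y.Etale} (φ : W ⟶ W') :
    ((EtCoh.bc f).map φ).left ≫ pullback.fst W'.hom f = pullback.fst W.hom f ≫ φ.left := by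
  dsimp [EtCoh.bc]
  exact pullback.lift_fst _ _ _

@[reassoc]
lemma bc_map_snd {X Y : Scheme.{u}} (f : X ⟶ Y) {W W' : Y.Etale} (φ : W ⟶ W') :
    ((EtCoh.bc f).map φ).left ≫ pullback.snd W'.hom f = pullback.snd W.hom f := by
  dsimp [EtCoh.bc]
  exact pullback.lift_snd _ _ _

include h in
lemma isPullback_big (W : V.Etale) :
    IsPullback (pullback.fst W.hom g) (pullback.snd W.hom g ≫ j') (W.hom ≫ j) f :=
  ((IsPullback.of_hasPullback W.hom g).flip.paste_horiz h).flip

/-- component of the site-level isomorphism -/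
noncomputable def siteIsoApp (W : V.Etale) :
    (EtCoh.bc g ⋙ compEtale j').obj W ≅ (compEtale j ⋙ EtCoh.bc f).obj W :=
  MorphismProperty.Over.isoMk (isPullback_big f j j' g h W).isoPullback (by
    dsimp [EtCoh.bc]
    exact (isPullback_big f j j' g h W).isoPullback_hom_snd)

noncomputable def siteIso : EtCoh.bc g ⋙ compEtale j' ≅ compEtale j ⋙ EtCoh.bc f :=
  NatIso.ofComponents (siteIsoApp f j j' g h) (by
    intro W W' φ
    apply MorphismProperty.Over.Hom.ext
    change ((EtCoh.bc g).map φ).left ≫ (isPullback_big f j j' g h W').isoPullback.hom =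
      (isPullback_big f j j' g h W).isoPullback.hom ≫
        ((EtCoh.bc f).map ((compEtale j).map φ)).left
    have e1 : ((EtCoh.bc f).map ((compEtale j).map φ)).left ≫ pullback.fst (W'.hom ≫ j) f =
        pullback.fst (W.hom ≫ j) f ≫ φ.left := bc_map_fst f ((compEtale j).map φ)
    have e2 : ((EtCoh.bc f).map ((compEtale j).map φ)).left ≫ pullback.snd (W'.hom ≫ j) f =
        pullback.snd (W.hom ≫ j) f := bc_map_snd f ((compEtale j).map φ)
    apply pullback.hom_ext
    · rw [Category.assoc, Category.assoc, IsPullback.isoPullback_hom_fst, bc_map_fst, e1,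
        IsPullback.isoPullback_hom_fst_assoc]
    · rw [Category.assoc, Category.assoc, IsPullback.isoPullback_hom_snd, bc_map_snd_assoc, e2,
        IsPullback.isoPullback_hom_snd])


variable [JCont j] [JCont j']

/-- `j⁻¹ f_* ≅ g_* j'⁻¹` -/
noncomputable def restrPushIso : EtCoh.push f ⋙ restrAlong j ≅ restrAlong j' ⋙ EtCoh.push g :=
  haveI : (EtCoh.bc g ⋙ compEtale j').IsContinuous V.smallEtaleTopology X.smallEtaleTopology :=
    Functor.isContinuous_comp _ _ _ U.smallEtaleTopology _
  (Functor.sheafPushforwardContinuousComp' (F := compEtale j) (G := EtCoh.bc f)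
    (siteIso f j j' g h).symm AddCommGrpCat.{u + 1} V.smallEtaleTopology Y.smallEtaleTopology
    X.smallEtaleTopology) ≪≫
  (Functor.sheafPushforwardContinuousComp (EtCoh.bc g) (compEtale j') AddCommGrpCat.{u + 1}
    V.smallEtaleTopology U.smallEtaleTopology X.smallEtaleTopology).symm

/-- the restriction hypothesis of the uniqueness criterion -/
noncomputable def resIso [Mono j'] (F : EtCoh.Ab U) :
    (restrAlong j).obj ((EtCoh.push f).obj ((extZero j').obj F)) ≅ (EtCoh.push g).obj F :=
  haveI := EtOpenImm.isIso_unit_extZero j'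
  (restrPushIso f j j' g h).app ((extZero j').obj F) ≪≫
    (EtCoh.push g).mapIso (asIso ((extZeroAdj j').unit.app F)).symm


section Z








/-- a point at which the geometric stalk vanishes is not in the support of any section -/
lemma not_mem_sectSupp_of_isZero_stalk {X : Scheme.{u}} (G : EtCoh.Ab X) (T : X.Etale)
    (s : EtCoh.sect G T) (x' : T.left)
    (hz : IsZero ((EtCoh.stalk ((EtStalk.geomPtAt x').ξ ≫ T.hom)).obj G)) :
    x' ∉ sectSupp G T s := by
  haveI := EtStalk.pfc.{u}
  intro hy
  let P := EtStalk.geomPtAt x'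
  let pt : (Scheme.pointSmallEtale (P.ξ ≫ T.hom)).fiber.obj T := Over.homMk P.ξ rfl
  have h0 : (Scheme.pointSmallEtale (P.ξ ≫ T.hom)).toPresheafFiber T pt G.obj s =
      (Scheme.pointSmallEtale (P.ξ ≫ T.hom)).toPresheafFiber T pt G.obj 0 :=
    @Subsingleton.elim _ (AddCommGrpCat.subsingleton_of_isZero hz) _ _
  rw [(Scheme.pointSmallEtale (P.ξ ≫ T.hom)).toPresheafFiber_eq_iff'] at h0
  obtain ⟨W, g, w, hw, hres⟩ := h0
  refine hy W g ⟨w.left (default : Spec (CommRingCat.of P.Ω)), ?_⟩ (hres.trans (map_zero _))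
  have e1 : w.left ≫ g.left = P.ξ := congrArg (fun a => a.left) hw
  have e2 : g.left (w.left (default : Spec (CommRingCat.of P.Ω))) = P.ξ default :=
    congrArg (fun f : Spec (CommRingCat.of P.Ω) ⟶ T.left => f default) e1
  exact e2.trans (EtStalk.geomPtAt_default x')

/-- sections of `j_! F` are supported over the image of `j` -/
lemma sectSupp_extZero_subset {U X : Scheme.{u}} (j' : U ⟶ X) [Etale j'] [JCont j']
    (F : EtCoh.Ab U) (T : X.Etale) (s : EtCoh.sect ((extZero j').obj F) T) :
    sectSupp ((extZero j').obj F) T s ⊆ T.hom.base ⁻¹' Set.range j'.base := by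
  intro x' hx'
  by_contra hn
  refine not_mem_sectSupp_of_isZero_stalk _ T s x' ?_ hx'
  obtain ⟨e⟩ := Groth.Agent.S0647.result j' F ((EtStalk.geomPtAt x').ξ ≫ T.hom)
  refine IsZero.of_iso ?_ e
  haveI : IsEmpty {u : Spec (CommRingCat.of (EtStalk.geomPtAt x').Ω) ⟶ U //
      u ≫ j' = (EtStalk.geomPtAt x').ξ ≫ T.hom} := by
    refine ⟨fun u => hn ?_⟩
    refine ⟨u.1 (default : Spec (CommRingCat.of (EtStalk.geomPtAt x').Ω)), ?_⟩
    have := congrArg (fun f : Spec (CommRingCat.of (EtStalk.geomPtAt x').Ω) ⟶ X => f default) u.2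
    simp only [Scheme.Hom.comp_apply] at this
    rw [EtStalk.geomPtAt_default] at this
    exact this
  rw [IsZero.iff_id_eq_zero]
  exact Sigma.hom_ext _ _ (fun a => isEmptyElim a)


theorem hzero {U X V Y : Scheme.{u}} (f : X ⟶ Y) [IsFinite f] (j : V ⟶ Y) [Etale j]
    (j' : U ⟶ X) [Etale j'] [JCont j'] (g : U ⟶ V) (h : IsPullback j' g f j)
    (F : EtCoh.Ab U) (Ω : Type u) [Field Ω] [IsSepClosed Ω] (ξ : Spec (CommRingCat.of Ω) ⟶ Y)
    (hξ : Set.range ξ.base ⊆ (Set.range j.base)ᶜ) :
    IsZero ((EtCoh.stalk ξ).obj ((EtCoh.push f).obj ((extZero j').obj F))) := by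
  haveI := EtStalk.pfc.{u}
  set G := (extZero j').obj F with hG
  suffices hh : ∀ t : (EtCoh.stalk ξ).obj ((EtCoh.push f).obj G), t = 0 by
    haveI : Subsingleton ((EtCoh.stalk ξ).obj ((EtCoh.push f).obj G)) :=
      ⟨fun a b => (hh a).trans (hh b).symm⟩
    exact AddCommGrpCat.isZero_of_subsingleton _
  intro t
  obtain ⟨W, x, s, rfl⟩ := (Scheme.pointSmallEtale ξ).toPresheafFiber_jointly_surjective
    (P := ((EtCoh.push f).obj G).obj) t
  let s' : EtCoh.sect G ((EtCoh.bc f).obj W) := s
  let Z : Set ((EtCoh.bc f).obj W).left := sectSupp G ((EtCoh.bc f).obj W) s'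
  have hZcl : IsClosed Z := (Groth.Agent.S0671.result G).1 _ s'
  have hZU : Z ⊆ ((EtCoh.bc f).obj W).hom.base ⁻¹' Set.range j'.base :=
    sectSupp_extZero_subset j' F _ s'
  haveI : IsFinite (prV f W) := inferInstance
  have hC : IsClosed ((prV f W).base '' Z) := (prV f W).isClosedMap _ hZcl
  let O : W.left.Opens := ⟨((prV f W).base '' Z)ᶜ, hC.isOpen_compl⟩
  have hmem : x.left (default : Spec (CommRingCat.of Ω)) ∈ O := by
    rintro ⟨z, hz, hzx⟩
    obtain ⟨u, hu⟩ := hZU hz
    apply hξ ⟨default, rfl⟩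
    have e : x.left ≫ W.hom = ξ := Over.w x
    have e2 : W.hom (x.left (default : Spec (CommRingCat.of Ω))) = ξ default :=
      congrArg (fun f : Spec (CommRingCat.of Ω) ⟶ Y => f default) e
    have c : pullback.fst W.hom f ≫ W.hom = pullback.snd W.hom f ≫ f := pullback.condition
    have c1 : W.hom (pullback.fst W.hom f z) = f (pullback.snd W.hom f z) :=
      congrArg (fun m => m.base z) c
    have hu' : j' u = pullback.snd W.hom f z := hu
    refine ⟨g u, ?_⟩
    rw [← e2, ← hzx]
    change j (g u) = W.hom (pullback.fst W.hom f z)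
    rw [c1, ← hu', ← Scheme.Hom.comp_apply, ← Scheme.Hom.comp_apply, h.w]
  let W' : Y.Etale := restrictOpen W O
  let gι : W' ⟶ W := restrictOpenι W O
  obtain ⟨y, hy, -⟩ := EtStalk.exists_lift_fiber ξ gι x
    ⟨x.left (default : Spec (CommRingCat.of Ω)), hmem⟩ rfl
  have w := ConcreteCategory.congr_hom
    ((Scheme.pointSmallEtale ξ).toPresheafFiber_w gι y ((EtCoh.push f).obj G).obj) s
  simp only [ConcreteCategory.comp_apply] at w
  have w2 : ((Scheme.pointSmallEtale ξ).toPresheafFiber W' y ((EtCoh.push f).obj G).obj)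
      (((EtCoh.push f).obj G).obj.map gι.op s) =
      ((Scheme.pointSmallEtale ξ).toPresheafFiber W x ((EtCoh.push f).obj G).obj) s := by
    refine w.trans ?_
    exact congrArg (fun z => ((Scheme.pointSmallEtale ξ).toPresheafFiber W z
      ((EtCoh.push f).obj G).obj) s) hy
  have hz : ((EtCoh.push f).obj G).obj.map gι.op s = 0 := by
    change G.obj.map ((EtCoh.bc f).map gι).op s' = 0
    apply restrict_eq_zero G s' Z le_rfl ((EtCoh.bc f).map gι)
    intro a ha
    have sq := (EtCoh.isPullback_bc_map f gι).w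
    have e3 : (prV f W) (((EtCoh.bc f).map gι).left a) = gι.left ((prV f W') a) := by
      rw [← Scheme.Hom.comp_apply, ← Scheme.Hom.comp_apply]
      exact congrArg (fun m => m.base a) sq
    have e4 : gι.left ((prV f W') a) ∈ O := restrictOpenι_left_apply W O _
    apply e4
    rw [← e3]
    exact ⟨_, ha, rfl⟩
  refine w2.symm.trans ?_
  exact (congrArg _ hz).trans (map_zero _)


end Z

theorem main {U X V Y : Scheme.{u}} (f : X ⟶ Y) [IsFinite f] (j : V ⟶ Y)
    [IsOpenImmersion j] [AlgebraicGeometry.Etale j] [EtShriek.JCont j] (j' : U ⟶ X) [IsOpenImmersion j']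
    [AlgebraicGeometry.Etale j'] [EtShriek.JCont j'] (g : U ⟶ V) (h : IsPullback j' g f j) (F : EtCoh.Ab U) :
    Nonempty ((EtCoh.push f).obj ((EtShriek.extZero j').obj F) ≅ (EtShriek.extZero j).obj ((EtCoh.push g).obj F)) :=
  Groth.Agent.S0652.result j ((EtCoh.push g).obj F) ((EtCoh.push f).obj ((extZero j').obj F))
    ⟨resIso f j j' g h F⟩ (fun Ω _ _ ξ hξ => hzero f j j' g h F Ω ξ hξ)

end Aux

/-- Consider a cartesian square U = X x_Y V with f : X -> Y finite, j : V -> Y an open immersion, j' : U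
-> X and g : U -> V the projections. Then for every abelian sheaf F on the small etale site of U,
f_* j'_! F is isomorphic to j_! g_* F. (The source also asserts functoriality in F; only the
objectwise isomorphism is stated.) (Continuity of the composition functor of etale sites, which
always holds, is carried as an instance hypothesis.) -/
theorem result {U X V Y : Scheme.{u}} (f : X ⟶ Y) [IsFinite f] (j : V ⟶ Y)
    [IsOpenImmersion j] [AlgebraicGeometry.Etale j] [EtShriek.JCont j] (j' : U ⟶ X) [IsOpenImmersion j']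
    [AlgebraicGeometry.Etale j'] [EtShriek.JCont j'] (g : U ⟶ V) (h : IsPullback j' g f j) (F : EtCoh.Ab U) :
    Nonempty ((EtCoh.push f).obj ((EtShriek.extZero j').obj F) ≅ (EtShriek.extZero j).obj ((EtCoh.push g).obj F)) := by
  exact Aux.main f j j' g h F

end Groth.Agent.S0653
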