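import Groth.Statements.S0658
import Groth.Agent.Lib.Helper6.EtField.Basic

set_option autoImplicit false
open CategoryTheory CategoryTheory.Limits AlgebraicGeometry Opposite
universe u
open EtCore

namespace Groth.Agent.S0658

/-- Let k be a field and φ : U → Spec k a morphism of schemes. Then φ is étale if and only if U is
isomorphic over k to a disjoint union ∐ Spec K_i with each K_i a finite separable field extension of
k. -/
theorem result (k : Type u) [Field k] (U : Scheme.{u}) (φ : U ⟶ Spec (CommRingCat.of k)) :
    AlgebraicGeometry.Etale φ ↔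
      ∃ (ι : Type u) (K : ι → Type u) (_ : ∀ i, Field (K i)) (_ : ∀ i, Algebra k (K i))
        (_ : ∀ i, FiniteDimensional k (K i)) (_ : ∀ i, Algebra.IsSeparable k (K i))
        (e : (∐ fun i => Spec (CommRingCat.of (K i))) ≅ U),
        ∀ i, Sigma.ι (fun i => Spec (CommRingCat.of (K i))) i ≫ e.hom ≫ φ =
          Spec.map (CommRingCat.ofHom (algebraMap k (K i))) := by
  constructor
  · intro hφ
    choose K hField f hOI hrange using
      Groth.Agent.Lib.Helper6.EtField.exists_point_data k U φ
    have hcov : ⨆ i, (f i).opensRange = ⊤ := by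
      rw [eq_top_iff]
      intro y _
      have hy : y ∈ Set.range (f y) := by
        rw [hrange y]
        rfl
      exact TopologicalSpace.Opens.mem_iSup.mpr ⟨y, hy⟩
    have hdisj : Pairwise (Function.onFun Disjoint (fun i => (f i).opensRange)) := by
      intro i j hij
      rw [Function.onFun, disjoint_iff, eq_bot_iff]
      rintro z ⟨hz1, hz2⟩
      have h1 : z ∈ Set.range (f i) := hz1
      have h2 : z ∈ Set.range (f j) := hz2
      rw [hrange i] at h1
      rw [hrange j] at h2
      exact absurd (h1.symm.trans h2) hij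
    obtain ⟨hc⟩ := nonempty_isColimit_cofanMk_of f hcov hdisj
    let e : (∐ fun i => Spec (CommRingCat.of (K i))) ≅ U :=
      (coproductIsCoproduct _).coconePointUniqueUpToIso hc
    have he : ∀ i, Sigma.ι (fun i => Spec (CommRingCat.of (K i))) i ≫ e.hom = f i := fun i =>
      (coproductIsCoproduct _).comp_coconePointUniqueUpToIso_hom hc ⟨i⟩
    have hfs := fun i => Groth.Agent.Lib.Helper6.EtField.fin_sep k (K i) (f i ≫ φ)
    refine ⟨U, K, hField, fun i => (Spec.preimage (f i ≫ φ)).hom.toAlgebra,
      fun i => (hfs i).1, fun i => (hfs i).2, e, fun i => ?_⟩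
    rw [← Category.assoc, he]
    exact (Spec.map_preimage (f i ≫ φ)).symm
  · rintro ⟨ι, K, hField, hAlg, hFin, hSep, e, he⟩
    refine Groth.Agent.Lib.Helper6.EtField.etale_of_sigma _ e φ fun i => ?_
    rw [he]
    exact Groth.Agent.Lib.Helper6.EtField.etale_spec_map_of_isSeparable k (K i)

end Groth.Agent.S0658
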