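import Groth.Statements.S0666
import Groth.Agent.Lib.Helper3.CechG
import Groth.Agent.Lib.Helper3.CechDeltaG
import Groth.Agent.Lib.Helper3.DeltaIso2
import Groth.Agent.Lib.Helper3.RDerL

set_option autoImplicit false
open CategoryTheory CategoryTheory.Limits Opposite
universe w v
open EtCore

namespace Groth.Agent.S0666

/-- `Over.post (𝟭 C)` preserves finite products -/
lemma preservesFiniteProducts_post_id {C : Type w} [Category.{v} C] (U : C) :
    PreservesFiniteProducts (Over.post (X := U) (𝟭 C)) := by
  have h1 : (Over.post (X := U) (𝟭 C)).IsEquivalence :=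
    (Over.postEquiv U (CategoryTheory.Equivalence.refl (C := C))).isEquivalence_functor
  infer_instance

/-- injective resolutions give enough injectives -/
lemma enoughInjectives_of_hasInjectiveResolutions (A : Type*) [Category A] [Abelian A]
    [HasInjectiveResolutions A] : EnoughInjectives A :=
  ⟨fun X => ⟨{ J := (injectiveResolution X).cocomplex.X 0
               injective := inferInstance
               f := (injectiveResolution X).ι.f 0
               mono := inferInstanceAs (Mono ((injectiveResolution X).ι.f 0)) }⟩⟩

/-- With C, U and the family (U_i -> U) as in the definition of the Cech complex, on the abelian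
category of abelian presheaves on C the p-th Cech cohomology functor is isomorphic to the p-th right
derived functor of the zeroth Cech cohomology functor (assuming, as binders, that the latter is
additive and that abelian presheaves have injective resolutions, which hold because C is taken
essentially small relative to the coefficient universe). -/
theorem result {C : Type w} [Category.{v} C] [EssentiallySmall.{w} C] {U : C} [HasFiniteProducts (Over U)]
    {ι : Type w} (Uf : ι → Over U) [(EtCech.cechHFunctor (C := C) Uf 0).Additive]
    [HasInjectiveResolutions (Cᵒᵖ ⥤ AddCommGrpCat.{w})] (p : ℕ) :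
    Nonempty (EtCech.cechHFunctor (C := C) Uf p ≅ (EtCech.cechHFunctor (C := C) Uf 0).rightDerived p) := by
  have hEI : EnoughInjectives (Cᵒᵖ ⥤ AddCommGrpCat.{w}) :=
    enoughInjectives_of_hasInjectiveResolutions _
  have hpost := preservesFiniteProducts_post_id U
  let T := Groth.Agent.Helper3.CechDeltaG.cechDelta Uf
  let T' := (Groth.Agent.Helper3.RDerL.derivedLES (EtCech.cechHFunctor (C := C) Uf 0)).toCohDeltaFunctor
  have hT : T.IsEffaceable := by
    intro n X
    refine ⟨Injective.under X, Injective.ι X, inferInstance, ?_⟩
    have hz : IsZero ((T.F (n + 1)).obj (Injective.under X)) :=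
      Groth.Agent.Helper3.CechG.isZero_cech_of_injective (𝟭 C) Uf (Injective.under X) n
    exact hz.eq_of_tgt _ _
  have hT' : T'.IsEffaceable := by
    intro n X
    refine ⟨Injective.under X, Injective.ι X, inferInstance, ?_⟩
    have hz : IsZero ((T'.F (n + 1)).obj (Injective.under X)) :=
      Functor.isZero_rightDerived_obj_injective_succ _ n (Injective.under X)
    exact hz.eq_of_tgt _ _
  have hlex : PreservesFiniteLimits (EtCech.cechHFunctor (C := C) Uf 0) := by
    rw [Functor.preservesFiniteLimits_iff_forall_exact_map_and_mono]
    intro S hS
    exact ⟨T.exact₂ S hS 0, Groth.Agent.Helper3.CechDeltaG.cechDelta_zeroMono Uf S hS⟩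
  let t : T.F 0 ≅ T'.F 0 := (Functor.rightDerivedZeroIsoSelf (EtCech.cechHFunctor (C := C) Uf 0)).symm
  exact ⟨Groth.Agent.Helper3.DeltaIso2.isoOfZero T T' hT hT' t p⟩


end Groth.Agent.S0666
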