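import Groth.Statements.S0667
import Groth.Agent.Lib.Helper3.CechG
import Groth.Agent.Lib.Helper3.OverPostProdG

set_option autoImplicit false
open CategoryTheory CategoryTheory.Limits AlgebraicGeometry Opposite
universe u
open EtCore

namespace Groth.Agent.S0667

/-- the underlying presheaf of an injective étale sheaf is injective -/
lemma injective_obj {X : Scheme.{u}} (I : EtCoh.Ab X) [Injective I] : Injective I.obj := by
  have : (sheafToPresheaf X.smallEtaleTopology AddCommGrpCat.{u + 1}).PreservesInjectiveObjects :=
    Functor.preservesInjectiveObjects_of_adjunction_of_preservesMonomorphisms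
      (sheafificationAdjunction X.smallEtaleTopology AddCommGrpCat.{u + 1})
  exact (sheafToPresheaf X.smallEtaleTopology AddCommGrpCat.{u + 1}).injective_obj I

/-- Let f : X -> Y be a morphism of schemes, I an injective abelian sheaf on the small etale site of X,
V an etale Y-scheme and (V_j -> V) an etale covering of V, i.e. a jointly surjective family of
morphisms of etale Y-schemes (finite products in the over category, i.e. fibre products over V,
assumed as a binder). Then the Cech cohomology of the presheaf underlying f_* I with respect to this
covering vanishes in positive degrees. -/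
theorem result {X Y : Scheme.{u}} (f : X ⟶ Y) (I : EtCoh.Ab X) [Injective I]
    (V : Y.Etale) [HasFiniteProducts (Over V)] {κ : Type (u + 1)} (Vf : κ → Over V)
    (hV : ∀ v : V.left, ∃ (j : κ) (y : (Vf j).left.left), (Vf j).hom.left.base y = v) (p : ℕ) :
    IsZero (EtCech.cechH Vf ((EtCoh.push f).obj I).obj (p + 1)) := by
  have := injective_obj I
  have : PreservesFiniteProducts (Over.post (X := V) (EtCoh.bc f)) :=
    Groth.Agent.Helper3.OverPostProdG.preservesFiniteProducts_overPost (EtCoh.bc f) V
  exact Groth.Agent.Helper3.CechG.isZero_cech_of_injective (EtCoh.bc f) Vf I.obj p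


end Groth.Agent.S0667
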