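import Groth.Statements.S0670
import Mathlib
import Groth.Agent.Lib.Helper9.FE.EtZar2
import Groth.Agent.Lib.Helper5.Misc.ExtAdj
import Groth.Agent.Lib.Helper5.Misc.ShriekAbConst
import Groth.Agent.S0071
import Groth.Prelude.Def_EtCore
-- import your own Groth.Agent.* helpers here

set_option autoImplicit false
open CategoryTheory CategoryTheory.Limits AlgebraicGeometry Opposite
universe u
open EtCore

namespace Groth.Agent.S0670

open CategoryTheory CategoryTheory.Limits AlgebraicGeometry Opposite
namespace Aux
set_option linter.style.haveILetI false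
set_option linter.unusedSectionVars false
set_option backward.isDefEq.respectTransparency false

open Groth.Agent.Lib.Helper5.Misc
open TopologicalSpace

variable (S : Scheme.{u}) [EtZar.ZarCont S]

noncomputable abbrev L : EtZar.Ab S ⥤ EtCoh.Ab S :=
  (EtZar.zarToEt S).sheafPullback AddCommGrpCat.{u + 1} (Opens.grothendieckTopology S)
    S.smallEtaleTopology

noncomputable abbrev adj : L S ⊣ EtZar.resZar S :=
  (EtZar.zarToEt S).sheafAdjunctionContinuous AddCommGrpCat.{u + 1}
    (Opens.grothendieckTopology S) S.smallEtaleTopology

theorem lexL : PreservesFiniteLimits (L S) := by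
  have : AB5OfSize.{u, u} AddCommGrpCat.{u + 1} :=
    AB5OfSize_shrink.{u, u, u + 1, u + 1} AddCommGrpCat.{u + 1}
  exact LanFlat.preservesFiniteLimits_sheafPullback (EtZar.zarToEt S) AddCommGrpCat.{u + 1} _ _

instance : PreservesFiniteLimits (L S) := lexL S

instance : (L S).IsLeftAdjoint := (adj S).isLeftAdjoint

instance : (L S).Additive :=
  haveI := preservesBinaryBiproducts_of_preservesBinaryCoproducts (L S)
  Functor.additive_of_preservesBinaryBiproducts _

instance : (EtZar.resZar S).IsRightAdjoint := (adj S).isRightAdjoint

instance : (EtZar.resZar S).Additive where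

/-- the terminal object of the étale site as image of `⊤` -/
noncomputable def tIsTerminal : IsTerminal ((EtZar.zarToEt S).obj ⊤) :=
  IsTerminal.ofUniqueHom (fun Y => H9FE.EtZar2.homTo S Y ⊤ (fun _ _ => trivial))
    (fun _ _ => Subsingleton.elim _ _)

noncomputable def adjComp :
    constantSheaf (Opens.grothendieckTopology S) AddCommGrpCat.{u + 1} ⋙ L S ⊣
    EtZar.resZar S ⋙
      (sheafSections (Opens.grothendieckTopology S) AddCommGrpCat.{u + 1}).obj (op ⊤) :=
  (constantSheafAdj (Opens.grothendieckTopology S) AddCommGrpCat.{u + 1} isTerminalTop).comp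
    (adj S)

noncomputable def constIso :
    constantSheaf (Opens.grothendieckTopology S) AddCommGrpCat.{u + 1} ⋙ L S ≅
    constantSheaf S.smallEtaleTopology AddCommGrpCat.{u + 1} :=
  Adjunction.leftAdjointUniq (adjComp S)
    (constantSheafAdj S.smallEtaleTopology AddCommGrpCat.{u + 1} (tIsTerminal S))

theorem main (hS : ∀ s : S, EtCoh.IsStrictlyHenselianLocalRing (S.presheaf.stalk s))
    (F : EtCoh.Ab S) (i : ℕ) :
    Nonempty (EtCoh.H S F i ≃+ EtZar.H ((EtZar.resZar S).obj F) i) := by
  haveI : (EtZar.resZar S).PreservesEpimorphisms :=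
    ⟨fun a _ => H9FE.EtZar2.resZar_map_epi S hS a⟩
  haveI : PreservesLimitsOfSize.{u + 1, u + 1} (EtZar.resZar S) :=
    (adj S).rightAdjoint_preservesLimits
  haveI : PreservesFiniteLimits (EtZar.resZar S) := PreservesLimitsOfSize.preservesFiniteLimits _
  haveI : PreservesFiniteColimits (EtZar.resZar S) :=
    Groth.Agent.S0071.Aux.preservesFiniteColimits_of_epi _
  haveI : PreservesFiniteColimits (L S) := by
    have : PreservesColimitsOfSize.{0, 0} (L S) := (adj S).leftAdjoint_preservesColimits
    exact PreservesColimitsOfSize.preservesFiniteColimits _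
  have e1 := ExtAdj.extAddEquiv (adj S)
    ((constantSheaf (Opens.grothendieckTopology S) AddCommGrpCat.{u + 1}).obj
      (AddCommGrpCat.of (ULift ℤ))) F i
  have e2 := ShriekAb.extAddEquivOfIso ((constIso S).app (AddCommGrpCat.of (ULift ℤ))) F i
  exact ⟨e2.symm.trans e1⟩

end Aux

/-- Suppose S is a scheme in which every local ring is strictly henselian. For any abelian sheaf F on
the small étale site of S and any degree i, the étale cohomology H^i(S, F) is isomorphic to the
Zariski cohomology in degree i of the restriction of F to the site of opens of S. (Continuity of the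
functor from opens of S to étale S-schemes is carried as an instance binder; only some isomorphism
is claimed to exist, whereas the published statement gives a canonical one.) -/
theorem result (S : Scheme.{u})
    (hS : ∀ s : S, EtCoh.IsStrictlyHenselianLocalRing (S.presheaf.stalk s)) [EtZar.ZarCont S]
    (F : EtCoh.Ab S) (i : ℕ) :
    Nonempty (EtCoh.H S F i ≃+ EtZar.H ((EtZar.resZar S).obj F) i) := by
  exact Aux.main S hS F i

end Groth.Agent.S0670
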