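import Groth.Statements.S0687
import Mathlib
import Groth.Prelude.Def_EtShriek2
import Groth.Agent.Lib.Helper9.FE.ShriekEtIso
import Groth.Agent.Lib.Helper9.FE.ProperOverMisc
-- import your own Groth.Agent.* helpers here

set_option autoImplicit false
open CategoryTheory CategoryTheory.Limits AlgebraicGeometry Opposite
universe u
open EtShriek

namespace Groth.Agent.S0687

open CategoryTheory CategoryTheory.Limits AlgebraicGeometry Opposite
namespace Aux

set_option backward.isDefEq.respectTransparency false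
set_option linter.style.haveILetI false
set_option linter.unusedSectionVars false

open EtShriek Groth.Agent.S0728 Groth.Agent.Helper3 H9FE H9FE.ProperOverMisc H9FE.ShriekSh

variable {X Xb : Scheme.{u}} (j : X ⟶ Xb)

/-- `X ⟶ Xb ×_Xb X` -/
noncomputable def topHom : EtCoh.top X ⟶ (EtCoh.bc j).obj (EtCoh.top Xb) :=
  MorphismProperty.Over.homMk
    (pullback.lift j (𝟙 X) (by simp) : X ⟶ pullback (𝟙 Xb) j) (pullback.lift_snd _ _ _) trivial

/-- `Xb ×_Xb X ⟶ X` -/
noncomputable def topInv : (EtCoh.bc j).obj (EtCoh.top Xb) ⟶ EtCoh.top X :=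
  MorphismProperty.Over.homMk (pullback.snd (𝟙 Xb) j : pullback (𝟙 Xb) j ⟶ X)
    (Category.comp_id _) trivial

/-- `X ≅ Xb ×_Xb X` in the small étale site -/
noncomputable def topIso : EtCoh.top X ≅ (EtCoh.bc j).obj (EtCoh.top Xb) where
  hom := topHom j
  inv := topInv j
  hom_inv_id := by
    apply MorphismProperty.Over.Hom.ext
    exact pullback.lift_snd _ _ _
  inv_hom_id := by
    apply MorphismProperty.Over.Hom.ext
    change pullback.snd (𝟙 Xb) j ≫ pullback.lift j (𝟙 X) _ = 𝟙 _
    apply pullback.hom_ext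
    · rw [Category.assoc, pullback.lift_fst, Category.id_comp, ← pullback.condition,
        Category.comp_id]
    · rw [Category.assoc, pullback.lift_snd, Category.id_comp, Category.comp_id]

/-- the underlying isomorphism of schemes -/
noncomputable def topIsoLeft : X ≅ pullback (𝟙 Xb) j where
  hom := (topIso j).hom.left
  inv := (topIso j).inv.left
  hom_inv_id := congrArg (fun a => a.left) (topIso j).hom_inv_id
  inv_hom_id := congrArg (fun a => a.left) (topIso j).inv_hom_id

lemma topIsoLeft_hom_fst : (topIsoLeft j).hom ≫ prV j (EtCoh.top Xb) = j :=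
  pullback.lift_fst _ _ _


lemma mem_H0c_iff {k : Type u} [Field k] (p : X ⟶ Spec (CommRingCat.of k)) [LocallyOfFiniteType p]
    (F : EtCoh.Ab X) (s : EtCoh.sect F (EtCoh.top X)) :
    s ∈ H0c p F ↔ ClSub.IsProperOver p (sectSupp F (EtCoh.top X) s) := by
  constructor
  · intro hs
    have h1 : HasProperSupport F (EtCoh.top X) s p := by
      refine AddSubgroup.closure_induction
        (p := fun s _ => HasProperSupport F (EtCoh.top X) s p) ?_ ?_ ?_ ?_ hs
      · intro s hs
        exact hs
      · refine ⟨∅, ?_, Groth.Agent.S0680.Aux.isProperOver_empty _⟩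
        rw [Groth.Agent.S0680.Aux.sectSupp_zero]
      · rintro s t _ _ ⟨Z1, h1, p1⟩ ⟨Z2, h2, p2⟩
        exact ⟨Z1 ∪ Z2, (Groth.Agent.S0680.Aux.sectSupp_add_subset ..).trans
          (Set.union_subset_union h1 h2), Groth.Agent.S0680.Aux.isProperOver_union _ p1 p2⟩
      · rintro s _ ⟨Z1, h1, p1⟩
        refine ⟨Z1, ?_, p1⟩
        rwa [Groth.Agent.S0680.Aux.sectSupp_neg]
    obtain ⟨Z, hZ, hp⟩ := h1
    exact ProperLoc.isProperOver_mono _ hp ((Groth.Agent.S0671.result F).1 _ s) hZ
  · intro h
    exact AddSubgroup.subset_closure ⟨_, subset_rfl, h⟩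

variable {k : Type u} [Field k] [IsOpenImmersion j] (pb : Xb ⟶ Spec (CommRingCat.of k))
  [IsProper pb] (F : EtCoh.Ab X)

/-- restriction of sections along `topIso` -/
noncomputable def sectEquiv :
    EtCoh.sect F ((EtCoh.bc j).obj (EtCoh.top Xb)) ≃+ EtCoh.sect F (EtCoh.top X) :=
  (F.obj.mapIso (topIso j).op).addCommGroupIsoToAddEquiv

lemma sectEquiv_apply (t : EtCoh.sect F ((EtCoh.bc j).obj (EtCoh.top Xb))) :
    sectEquiv j F t = F.obj.map (topIso j).hom.op t := rfl

lemma mem_iff (t : EtCoh.sect F ((EtCoh.bc j).obj (EtCoh.top Xb))) :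
    t ∈ shriekSubgroup j F (EtCoh.top Xb) ↔ sectEquiv j F t ∈ H0c (j ≫ pb) F := by
  rw [mem_shriekSubgroup_iff, mem_H0c_iff, sectEquiv_apply, sectSupp_map_iso,
    isProperOver_comp_iff]
  have h := isProperOver_iso_iff (topIsoLeft j) (prV j (EtCoh.top Xb))
    (sectSupp F ((EtCoh.bc j).obj (EtCoh.top Xb)) t)
  rw [topIsoLeft_hom_fst] at h
  exact h.symm

variable [JCont j]

theorem main (p : X ⟶ Spec (CommRingCat.of k)) (hp : p = j ≫ pb) :
    Nonempty ((EtShriek.H0c p F) ≃+
      EtCoh.sect ((EtShriek.extZero j).obj F) (EtCoh.top Xb)) := by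
  subst hp
  -- sections of `j_! F`
  let I : (extZero j).obj F ≅ (lowerShriekSh j).obj F := (asIso (ShriekEtUnit.tau j)).app F
  let I' : ((extZero j).obj F).obj.obj (op (EtCoh.top Xb)) ≅
      AddCommGrpCat.of (shriekSubgroup j F (EtCoh.top Xb)) :=
    (sheafToPresheaf _ _ ⋙ (evaluation _ _).obj (op (EtCoh.top Xb))).mapIso I
  let e1 : EtCoh.sect ((extZero j).obj F) (EtCoh.top Xb) ≃+ shriekSubgroup j F (EtCoh.top Xb) :=
    I'.addCommGroupIsoToAddEquiv
  have hmap : (shriekSubgroup j F (EtCoh.top Xb)).map (sectEquiv j F).toAddMonoidHom =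
      H0c (j ≫ pb) F := by
    ext s
    rw [AddSubgroup.mem_map]
    constructor
    · rintro ⟨t, ht, rfl⟩
      exact (mem_iff j pb F t).1 ht
    · intro hs
      refine ⟨(sectEquiv j F).symm s, ?_, (sectEquiv j F).apply_symm_apply s⟩
      rw [mem_iff j pb F, AddEquiv.apply_symm_apply]
      exact hs
  let e2 : shriekSubgroup j F (EtCoh.top Xb) ≃+ H0c (j ≫ pb) F :=
    ((sectEquiv j F).addSubgroupMap (shriekSubgroup j F (EtCoh.top Xb))).trans
      (AddEquiv.addSubgroupCongr hmap)
  exact ⟨(e1.trans e2).symm⟩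

end Aux

/-- Let k be a field, j : X → X' an open immersion into a scheme X' proper over k, and p : X → Spec k
the composite of j with the structure morphism of X', with p separated and locally of finite type.
Then for every abelian sheaf F on X_ét the group H^0_c(X, F) of sections with compact support (the
global sections of F whose support is proper over k) is isomorphic to the group of global sections
H^0(X', j_!F) of the extension by zero of F. (Only the existence of an isomorphism of groups is
asserted; the published statement gives a canonical one.) -/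
theorem result {k : Type u} [Field k] {X Xb : Scheme.{u}} (j : X ⟶ Xb)
    [IsOpenImmersion j] (pb : Xb ⟶ Spec (CommRingCat.of k)) [IsProper pb]
    (p : X ⟶ Spec (CommRingCat.of k)) (hp : p = j ≫ pb) [IsSeparated p] [LocallyOfFiniteType p]
    [EtShriek.JCont j] (F : EtCoh.Ab X) :
    Nonempty ((EtShriek.H0c p F) ≃+ EtCoh.sect ((EtShriek.extZero j).obj F) (EtCoh.top Xb)) := by
  exact Aux.main j pb F p hp

end Groth.Agent.S0687
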