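import Groth.Statements.S0696
import Mathlib
import Groth.Statements.S0696
import Groth.Agent.Lib.Helper9.FE.WLz
import Groth.Agent.Lib.Helper9.FE.PF2
-- import your own Groth.Agent.* helpers here

set_option autoImplicit false
open CategoryTheory CategoryTheory.Limits AlgebraicGeometry Opposite Topology
universe u
open ProEtW

namespace Groth.Agent.S0696

open CategoryTheory CategoryTheory.Limits AlgebraicGeometry Opposite Topology
namespace Aux

set_option linter.style.haveILetI false

open H9FE.IZ H9FE.PF

instance discreteTopology_withTopology_bot (P : Type u) :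
    DiscreteTopology (WithTopology P (⊥ : TopologicalSpace P)) := by
  rw [discreteTopology_iff_forall_isOpen]
  intro s
  rw [WithTopology.isOpen_iff]
  exact @isOpen_discrete P (⊥ : TopologicalSpace P) (@DiscreteTopology.mk P ⊥ rfl) _

theorem isScalarTower_lc (A R : Type u) [CommRing A] [CommRing R] [Algebra A R] (T : Type u)
    [TopologicalSpace T] : IsScalarTower A R (LocallyConstant T R) :=
  IsScalarTower.of_algebraMap_eq (fun a => by
    apply LocallyConstant.ext
    intro t
    rfl)

theorem core (A R : Type u) [CommRing A] [CommRing R] [Algebra A R]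
    (hIZ : EtPBC.IsIndZariski A R) (hW : ProEtW.IsWLocal (PrimeSpectrum R))
    (hsurj : Function.Surjective (PrimeSpectrum.comap (algebraMap A R))) :
    ∃ (B : Type u) (_ : CommRing B) (_ : Algebra A B),
      Module.FaithfullyFlat A B ∧ EtPBC.IsIndZariski A B ∧ ProEtW.IsWLocal (PrimeSpectrum B) ∧
        ExtremallyDisconnected (_root_.ConnectedComponents (PrimeSpectrum B)) := by
  haveI : T2Space (_root_.ConnectedComponents (PrimeSpectrum R)) :=
    Groth.Agent.Helper7.SpecTop.t2Space_connectedComponents _
  let D := WithTopology (_root_.ConnectedComponents (PrimeSpectrum R))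
    (⊥ : TopologicalSpace (_root_.ConnectedComponents (PrimeSpectrum R)))
  let T := StoneCech D
  haveI hED : ExtremallyDisconnected T :=
    CompactT2.Projective.extremallyDisconnected (StoneCech.projective (X := D))
  have hf : Continuous (WithTopology.ofTopology :
      D → _root_.ConnectedComponents (PrimeSpectrum R)) := continuous_of_discreteTopology
  let g : C(T, _root_.ConnectedComponents (PrimeSpectrum R)) :=
    ⟨stoneCechExtend hf, continuous_stoneCechExtend hf⟩
  have hg : Function.Surjective g := by
    intro c
    exact ⟨stoneCechUnit (WithTopology.toTopology _ c), stoneCechExtend_stoneCechUnit hf _⟩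
  haveI : IsScalarTower A R (LocallyConstant T R) := isScalarTower_lc A R T
  have h1 : EtPBC.IsIndZariski A (LocallyConstant T R) :=
    isIndZariski_trans A R (LocallyConstant T R) hIZ (isIndZarLoc_locallyConstant R T)
  have h2 : EtPBC.IsIndZariski A (B R T g) :=
    isIndZariski_trans A (LocallyConstant T R) (B R T g) h1 (isIndZarLoc_B R T g)
  haveI : IsScalarTower A R (B R T g) := inferInstance
  refine ⟨B R T g, inferInstance, inferInstance, ?_, h2, isWLocal_B R T g hW, ?_⟩
  · haveI : Module.Flat A (B R T g) := flat_of_isIndZariski A _ h2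
    apply Module.FaithfullyFlat.of_comap_surjective
    intro p
    obtain ⟨y, hy⟩ := hsurj p
    obtain ⟨z, hz⟩ := H9FE.PF.comap_surjective R T g hg y
    refine ⟨z, ?_⟩
    rw [IsScalarTower.algebraMap_eq A R (B R T g), PrimeSpectrum.comap_comp_apply, hz, hy]
  · exact extremallyDisconnected_of_homeo (eHomeo R T g).symm

theorem main (A : Type u) [CommRing A] :
    ∃ (B : Type u) (_ : CommRing B) (_ : Algebra A B),
      Module.FaithfullyFlat A B ∧ EtPBC.IsIndZariski A B ∧ ProEtW.IsWLocal (PrimeSpectrum B) ∧
        ExtremallyDisconnected (_root_.ConnectedComponents (PrimeSpectrum B)) :=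
  core A (H9FE.WLz.Aw A) (H9FE.WLz.isIndZariski_Aw A) (H9FE.WLz.isWLocal A)
    (H9FE.WLz.comap_surjective A)

end Aux

/-- Every ring A admits a faithfully flat ind-Zariski extension B whose spectrum is w-local with
extremally disconnected space of connected components. -/
theorem result (A : Type u) [CommRing A] :
    ∃ (B : Type u) (_ : CommRing B) (_ : Algebra A B),
      Module.FaithfullyFlat A B ∧ EtPBC.IsIndZariski A B ∧ ProEtW.IsWLocal (PrimeSpectrum B) ∧
        ExtremallyDisconnected (_root_.ConnectedComponents (PrimeSpectrum B)) := by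
  exact Aux.main A

end Groth.Agent.S0696
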