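import Groth.Statements.S0698
import Mathlib
import Groth.Statements.S0698
import Groth.Agent.Lib.Helper9.FE.WLoc1
-- import your own Groth.Agent.* helpers here

set_option autoImplicit false
open CategoryTheory CategoryTheory.Limits AlgebraicGeometry Opposite Topology
universe u
open ProEtW

namespace Groth.Agent.S0698

open CategoryTheory CategoryTheory.Limits AlgebraicGeometry Opposite Topology
namespace Aux
set_option linter.style.haveILetI false

theorem main (A : Type u) [CommRing A]
    (T : Set (_root_.ConnectedComponents (PrimeSpectrum A))) (hT : IsClosed T) :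
    ∃ (B : Type u) (_ : CommRing B) (_ : Algebra A B),
      EtPBC.IsIndZariski A B ∧ Function.Surjective (algebraMap A B) ∧
      Topology.IsEmbedding (PrimeSpectrum.comap (algebraMap A B)) ∧
      Set.range (PrimeSpectrum.comap (algebraMap A B)) = _root_.ConnectedComponents.mk ⁻¹' T := by
  obtain ⟨S, hS, hZ⟩ := H9FE.WLoc.exists_idempotents_zeroLocus_eq_preimage A T hT
  have hsurj : Function.Surjective (algebraMap A (A ⧸ Ideal.span S)) :=
    Ideal.Quotient.mk_surjective
  refine ⟨A ⧸ Ideal.span S, inferInstance, inferInstance,
    H9FE.WLoc.isIndZariski_quotient_span S hS, hsurj,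
    (PrimeSpectrum.isClosedEmbedding_comap_of_surjective _ _ hsurj).isEmbedding, ?_⟩
  rw [_root_.range_comap_of_surjective _ _ hsurj, Ideal.Quotient.algebraMap_eq,
    Ideal.mk_ker]
  exact hZ

end Aux

/-- Let A be a ring, X = Spec A and T a closed subset of pi_0(X). Then A has an ind-Zariski quotient
ring B (the map A -> B is surjective) whose spectrum maps homeomorphically onto the preimage of T in
X. -/
theorem result (A : Type u) [CommRing A]
    (T : Set (_root_.ConnectedComponents (PrimeSpectrum A))) (hT : IsClosed T) :
    ∃ (B : Type u) (_ : CommRing B) (_ : Algebra A B),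
      EtPBC.IsIndZariski A B ∧ Function.Surjective (algebraMap A B) ∧
      Topology.IsEmbedding (PrimeSpectrum.comap (algebraMap A B)) ∧
      Set.range (PrimeSpectrum.comap (algebraMap A B)) = _root_.ConnectedComponents.mk ⁻¹' T := by
  exact Aux.main A T hT

end Groth.Agent.S0698
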