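import Groth.Statements.S0704
-- import your own Groth.Agent.* helpers here
import Groth.Agent.Lib.Helper7.SpecTop2

set_option autoImplicit false
open Topology
universe u
open ProEtW

namespace Groth.Agent.S0704

/-- With X, T, g and the fibre product Y of X and T over pi_0(X) as in the first part, if X is moreover
w-local then Y is w-local, the projection Y -> X is w-local, and the closed points of Y are exactly
the points mapping to closed points of X. -/
theorem result (X T : Type u) [TopologicalSpace X]
    [TopologicalSpace T] [CompactSpace T] [T2Space T] [TotallyDisconnectedSpace T]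
    (hX : ProEtW.IsWLocal X) (g : C(T, _root_.ConnectedComponents X)) :
    ProEtW.IsWLocal {p : X × T // _root_.ConnectedComponents.mk p.1 = g p.2} ∧
      ProEtW.IsWLocalMap (fun y : {p : X × T // _root_.ConnectedComponents.mk p.1 = g p.2} => y.1.1) ∧
      ProEtW.closedPoints {p : X × T // _root_.ConnectedComponents.mk p.1 = g p.2} =
        (fun y : {p : X × T // _root_.ConnectedComponents.mk p.1 = g p.2} => y.1.1) ⁻¹' ProEtW.closedPoints X := by
  obtain ⟨hS, hc, hu⟩ := hX
  obtain ⟨h1, h2, h3⟩ := Groth.Agent.Helper7.SpecTop.wLocal_fibreProduct X T g hc hu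
  refine ⟨⟨Groth.Agent.Helper7.SpecTop.spectralSpace_fibreProduct X T g, h1, h2⟩,
    ⟨Groth.Agent.Helper7.SpecTop.isSpectralMap_fst X T g, fun y hy => ?_⟩, h3⟩
  exact (Groth.Agent.Helper7.SpecTop.isClosed_singleton_fibreProduct_iff X T g y).mp hy

end Groth.Agent.S0704
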