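import Groth.Statements.S0706
import Mathlib

set_option autoImplicit false
open CategoryTheory CategoryTheory.Limits AlgebraicGeometry Opposite Topology
universe u
open ProEtW

namespace Groth.Agent.S0706

namespace H0706

theorem main (A : Type u) [CommRing A] (f : A) (I : Ideal A) :
    ∃ S : Submonoid A,
      Set.range (PrimeSpectrum.comap (algebraMap A (Localization S))) =
        {x | ∃ z : PrimeSpectrum A,
          z ∈ (PrimeSpectrum.basicOpen f : Set (PrimeSpectrum A)) ∩ PrimeSpectrum.zeroLocus I ∧ x ⤳ z} := by
  let S : Submonoid A :=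
    { carrier := {s | ∀ z : PrimeSpectrum A,
        z ∈ (PrimeSpectrum.basicOpen f : Set (PrimeSpectrum A)) ∩ PrimeSpectrum.zeroLocus I → s ∉ z.asIdeal}
      one_mem' := fun z _ h => z.2.ne_top ((Ideal.eq_top_iff_one _).2 h)
      mul_mem' := fun ha hb z hz h => (z.2.mem_or_mem h).elim (ha z hz) (hb z hz) }
  refine ⟨S, ?_⟩
  rw [PrimeSpectrum.localization_comap_range (Localization S) S]
  ext x
  simp only [Set.mem_ofPred_eq]
  constructor
  · intro hdisj
    -- powers of f are disjoint from x + I
    have hd : Disjoint ((x.asIdeal ⊔ I : Ideal A) : Set A) (Submonoid.powers f) := by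
      rw [Set.disjoint_left]
      rintro y hy ⟨n, rfl⟩
      obtain ⟨s, hs, i, hi, hsi⟩ := Submodule.mem_sup.1 hy
      have hsS : s ∈ S := by
        intro z hz hsz
        have hiz : i ∈ z.asIdeal := hz.2 hi
        have : f ^ n ∈ z.asIdeal := by
          have h2 := z.asIdeal.add_mem hsz hiz
          rwa [hsi] at h2
        exact hz.1 (z.2.mem_of_pow_mem n this)
      exact Set.disjoint_left.1 hdisj hsS hs
    obtain ⟨q, hq, hle, hqd⟩ := Ideal.exists_le_prime_disjoint _ _ hd
    refine ⟨⟨q, hq⟩, ⟨?_, ?_⟩, ?_⟩
    · intro hf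
      exact Set.disjoint_left.1 hqd hf ⟨1, by simp⟩
    · intro i hi
      exact hle (Ideal.mem_sup_right hi)
    · rw [← PrimeSpectrum.le_iff_specializes]
      intro a ha
      exact hle (Ideal.mem_sup_left ha)
  · rintro ⟨z, hz, hxz⟩
    rw [← PrimeSpectrum.le_iff_specializes] at hxz
    rw [Set.disjoint_left]
    intro s hs hsx
    exact hs z hz (hxz hsx)
end H0706

/-- Let f be an element and I an ideal of A, and Z the intersection of D(f) and V(I) in Spec A. There is
a multiplicative subset S of A for which the image of Spec(S^{-1}A) in Spec A consists precisely of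
the points having a specialization in Z. -/
theorem result (A : Type u) [CommRing A] (f : A) (I : Ideal A) :
    ∃ S : Submonoid A,
      Set.range (PrimeSpectrum.comap (algebraMap A (Localization S))) =
        {x | ∃ z : PrimeSpectrum A,
          z ∈ (PrimeSpectrum.basicOpen f : Set (PrimeSpectrum A)) ∩ PrimeSpectrum.zeroLocus I ∧ x ⤳ z} := by
  exact H0706.main A f I

end Groth.Agent.S0706
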