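import Groth.Statements.S0707
import Mathlib
import Groth.Prelude.Def_ProEtW
import Groth.Prelude.Def_PBC
import Groth.Agent.Lib.Helper5.WEt.Basic
import Groth.Agent.Lib.Helper5.WEt.Scheme
-- import your own Groth.Agent.* helpers here

set_option autoImplicit false
open CategoryTheory CategoryTheory.Limits AlgebraicGeometry Opposite Topology
universe u
open ProEtW

namespace Groth.Agent.S0707

open CategoryTheory CategoryTheory.Limits AlgebraicGeometry Opposite Topology
namespace Aux

set_option linter.style.haveILetI false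
set_option linter.unusedSectionVars false
set_option backward.isDefEq.respectTransparency false

/-- a product of two weakly étale algebras is weakly étale -/
theorem weaklyEtale_prod (A C D : Type u) [CommRing A] [CommRing C] [CommRing D] [Algebra A C]
    [Algebra A D] [hC : Algebra.WeaklyEtale A C] [hD : Algebra.WeaklyEtale A D] :
    Algebra.WeaklyEtale A (C × D) := by
  rw [← Helper5.WEt.weaklyEtale_Spec_iff]
  have h : WeaklyEtale (coprodSpec C D ≫
      Spec.map (CommRingCat.ofHom (algebraMap A (C × D)))) := by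
    rw [IsZariskiLocalAtSource.iff_of_openCover (P := @WeaklyEtale)
      (coprodOpenCover.{u, 0} (Spec (CommRingCat.of C)) (Spec (CommRingCat.of D)))]
    rintro (⟨⟩ | ⟨⟩)
    · show WeaklyEtale (coprod.inl ≫ coprodSpec C D ≫ _)
      rw [← Category.assoc, coprodSpec_inl, ← Spec.map_comp]
      exact (Helper5.WEt.weaklyEtale_Spec_iff A C).2 hC
    · show WeaklyEtale (coprod.inr ≫ coprodSpec C D ≫ _)
      rw [← Category.assoc, coprodSpec_inr, ← Spec.map_comp]
      exact (Helper5.WEt.weaklyEtale_Spec_iff A D).2 hD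
  exact (MorphismProperty.cancel_left_of_respectsIso @WeaklyEtale _ _).1 h

section Main

variable (A B : Type u) [CommRing A] [CommRing B] [Algebra A B] (S : Submonoid A)
  [IsLocalization S B] (E : Finset A)
  (hB : Set.range (PrimeSpectrum.comap (algebraMap A B)) =
    {x | ∃ z : PrimeSpectrum A, z ∈ PrimeSpectrum.zeroLocus (R := A) E ∧ x ⤳ z})

/-- the auxiliary étale algebra `∏_{e ∈ E} A_e` -/
abbrev DD : Type u := ∀ e : (E : Set A), Localization.Away (e : A)

variable {A E} in
lemma single_mem [DecidableEq (E : Set A)] (C : Type u) [CommRing C] [Algebra A C] (ρ : C × DD A E →ₐ[A] A)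
    (z : PrimeSpectrum A) (hz : z ∈ PrimeSpectrum.zeroLocus (R := A) E) (e : (E : Set A)) :
    ρ (0, Pi.single e 1) ∈ z.asIdeal := by
  classical
  have h1 : ((0 : C), (Pi.single e 1 : DD A E)) =
      (e : A) • ((0 : C), (Pi.single e (IsLocalization.Away.invSelf (e : A)) : DD A E)) := by
    refine Prod.ext ?_ ?_
    · show (0 : C) = (e : A) • (0 : C)
      rw [smul_zero]
    · show (Pi.single e 1 : DD A E) = (e : A) • Pi.single e (IsLocalization.Away.invSelf (e : A))
      funext e'
      by_cases hee : e' = e
      · subst hee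
        rw [Pi.smul_apply, Pi.single_eq_same, Pi.single_eq_same, Algebra.smul_def,
          IsLocalization.Away.mul_invSelf]
      · rw [Pi.smul_apply, Pi.single_eq_of_ne hee, Pi.single_eq_of_ne hee, smul_zero]
  rw [h1, map_smul, smul_eq_mul]
  exact z.asIdeal.mul_mem_right _ ((PrimeSpectrum.mem_zeroLocus _ _).1 hz e.2)

variable {A E} in
lemma snd_mem (C : Type u) [CommRing C] [Algebra A C] (ρ : C × DD A E →ₐ[A] A)
    (z : PrimeSpectrum A) (hz : z ∈ PrimeSpectrum.zeroLocus (R := A) E) :
    ρ (0, 1) ∈ z.asIdeal := by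
  classical
  haveI : Fintype (E : Set A) := inferInstanceAs (Fintype (E : Finset A))
  have h1 : ((0 : C), (1 : DD A E)) = ∑ e : (E : Set A), ((0 : C), (Pi.single e 1 : DD A E)) := by
    refine Prod.ext ?_ ?_
    · rw [Prod.fst_sum]
      simp
    · rw [Prod.snd_sum]
      exact (Finset.univ_sum_single (1 : DD A E)).symm
  rw [h1, map_sum]
  exact z.asIdeal.sum_mem fun e _ => single_mem C ρ z hz e

include S hB in
theorem main (hA : EtPBC.IsWContractible A) : EtPBC.IsWContractible B := by
  classical
  intro C _ _ hff hwe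
  letI : Algebra A C := ((algebraMap B C).comp (algebraMap A B)).toAlgebra
  haveI : IsScalarTower A B C := IsScalarTower.of_algebraMap_eq' rfl
  haveI : Algebra.WeaklyEtale A B := Helper5.WEt.weaklyEtale_of_isLocalization S B
  haveI : Algebra.WeaklyEtale A C := Algebra.WeaklyEtale.trans A B C
  haveI : Finite (E : Set A) := Finite.of_fintype (E : Finset A)
  haveI : ∀ e : (E : Set A), Algebra.Etale A (Localization.Away (e : A)) := fun e =>
    Algebra.Etale.of_isLocalizationAway (e : A)
  haveI : Algebra.Etale A (DD A E) := inferInstance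
  haveI : Algebra.WeaklyEtale A (DD A E) := inferInstance
  haveI hwp : Algebra.WeaklyEtale A (C × DD A E) := weaklyEtale_prod A C (DD A E)
  -- surjectivity on spectra
  have hsurj : Function.Surjective (PrimeSpectrum.comap (algebraMap A (C × DD A E))) := by
    intro p
    by_cases hp : ∃ e ∈ E, e ∉ p.asIdeal
    · obtain ⟨e, heE, hep⟩ := hp
      have h1 : p ∈ Set.range (PrimeSpectrum.comap (algebraMap A (Localization.Away e))) := by
        rw [PrimeSpectrum.localization_away_comap_range (Localization.Away e) e]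
        exact hep
      obtain ⟨q, rfl⟩ := h1
      let ev : C × DD A E →+* Localization.Away e :=
        (Pi.evalRingHom (fun e : (E : Set A) => Localization.Away (e : A)) ⟨e, heE⟩).comp
          (RingHom.snd C (DD A E))
      refine ⟨PrimeSpectrum.comap ev q, ?_⟩
      rw [← PrimeSpectrum.comap_comp_apply]
      rfl
    · have hpz : p ∈ PrimeSpectrum.zeroLocus (R := A) E := by
        rw [PrimeSpectrum.mem_zeroLocus]
        intro e he
        by_contra hne
        exact hp ⟨e, he, hne⟩
      have h1 : p ∈ Set.range (PrimeSpectrum.comap (algebraMap A B)) := by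
        rw [hB]
        exact ⟨p, hpz, specializes_rfl⟩
      obtain ⟨𝔟, rfl⟩ := h1
      obtain ⟨𝔠, rfl⟩ := PrimeSpectrum.comap_surjective_of_faithfullyFlat (A := B) (B := C) 𝔟
      refine ⟨PrimeSpectrum.comap (RingHom.fst C (DD A E)) 𝔠, ?_⟩
      rw [← PrimeSpectrum.comap_comp_apply, ← PrimeSpectrum.comap_comp_apply]
      rfl
  haveI : Module.FaithfullyFlat A (C × DD A E) := Module.FaithfullyFlat.of_comap_surjective hsurj
  obtain ⟨ρ⟩ := hA (C × DD A E) inferInstance hwp
  -- the idempotent `ρ (0, 1)` dies in `B`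
  have hidem : IsIdempotentElem (algebraMap A B (ρ (0, 1))) := by
    show algebraMap A B (ρ (0, 1)) * algebraMap A B (ρ (0, 1)) = algebraMap A B (ρ (0, 1))
    rw [← map_mul, ← map_mul, Prod.mk_mul_mk, mul_zero, mul_one]
  have hnil : IsNilpotent (algebraMap A B (ρ (0, 1))) := by
    rw [nilpotent_iff_mem_prime]
    intro 𝔟 h𝔟
    have h1 : PrimeSpectrum.comap (algebraMap A B) ⟨𝔟, h𝔟⟩ ∈
        Set.range (PrimeSpectrum.comap (algebraMap A B)) := ⟨_, rfl⟩
    rw [hB] at h1
    obtain ⟨z, hz, hpz⟩ := h1
    have hle : (PrimeSpectrum.comap (algebraMap A B) ⟨𝔟, h𝔟⟩).asIdeal ≤ z.asIdeal :=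
      (PrimeSpectrum.le_iff_specializes _ _).2 hpz
    have hmem : ρ (0, 1) ∈ z.asIdeal := snd_mem C ρ z hz
    -- if `ε ∉ p` then `1 - ε ∈ p ⊆ z`, so `1 ∈ z`
    by_contra hne
    have h2 : ρ (0, 1) * (1 - ρ (0, 1)) = 0 := by
      have h3 : ρ (0, 1) * ρ (0, 1) = ρ (0, 1) := by
        rw [← map_mul, Prod.mk_mul_mk, mul_zero, mul_one]
      rw [mul_sub, mul_one, h3, sub_self]
    have h4 : ρ (0, 1) * (1 - ρ (0, 1)) ∈
        (PrimeSpectrum.comap (algebraMap A B) ⟨𝔟, h𝔟⟩).asIdeal := by
      rw [h2]
      exact Ideal.zero_mem _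
    have h5 : (1 - ρ (0, 1)) ∈ (PrimeSpectrum.comap (algebraMap A B) ⟨𝔟, h𝔟⟩).asIdeal :=
      ((PrimeSpectrum.comap (algebraMap A B) ⟨𝔟, h𝔟⟩).isPrime.mem_or_mem h4).resolve_left hne
    have h6 : (1 : A) ∈ z.asIdeal := by
      have := z.asIdeal.add_mem (hle h5) hmem
      rwa [sub_add_cancel] at this
    exact z.isPrime.ne_top ((Ideal.eq_top_iff_one _).2 h6)
  have hzero : algebraMap A B (ρ (0, 1)) = 0 := hidem.eq_zero_of_isNilpotent hnil
  have hone : algebraMap A B (ρ (1, 0)) = 1 := by
    have h1 : ρ (1, 0) + ρ (0, 1) = 1 := by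
      rw [← map_add, Prod.mk_add_mk, add_zero, zero_add]
      exact map_one ρ
    have h2 := congrArg (algebraMap A B) h1
    rw [map_add, hzero, add_zero, map_one] at h2
    exact h2
  let r : C →+* B :=
    { toFun := fun c => algebraMap A B (ρ (c, 0))
      map_one' := hone
      map_mul' := fun x y => by
        rw [← map_mul, ← map_mul, Prod.mk_mul_mk, mul_zero]
      map_zero' := by
        have : ((0 : C), (0 : DD A E)) = 0 := rfl
        rw [this, map_zero, map_zero]
      map_add' := fun x y => by
        rw [← map_add, ← map_add, Prod.mk_add_mk, add_zero] }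
  have hr : r.comp (algebraMap B C) = RingHom.id B := by
    apply IsLocalization.ringHom_ext S
    ext a
    show algebraMap A B (ρ (algebraMap B C (algebraMap A B a), 0)) = algebraMap A B a
    have h1 : ((algebraMap B C (algebraMap A B a), (0 : DD A E)) : C × DD A E) =
        a • ((1 : C), (0 : DD A E)) := by
      refine Prod.ext ?_ ?_
      · show algebraMap B C (algebraMap A B a) = a • (1 : C)
        rw [Algebra.smul_def, mul_one]
        rfl
      · show (0 : DD A E) = a • (0 : DD A E)
        rw [smul_zero]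
    rw [h1, map_smul, smul_eq_mul, map_mul, hone, mul_one]
  exact ⟨{ r with commutes' := fun b => RingHom.congr_fun hr b }⟩

end Main

end Aux

/-- Let A be w-contractible, E a finite set of elements of A with zero set Z in Spec A, and B a
localization of A at a multiplicative subset S such that the image of Spec B → Spec A is precisely
the set of points of Spec A specializing to some point of Z. Then B is w-contractible. -/
theorem result (A B : Type u) [CommRing A] [CommRing B]
    [Algebra A B] (S : Submonoid A) [IsLocalization S B] (E : Finset A)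
    (hB : Set.range (PrimeSpectrum.comap (algebraMap A B)) =
      {x | ∃ z : PrimeSpectrum A, z ∈ PrimeSpectrum.zeroLocus (R := A) E ∧ x ⤳ z})
    (hA : EtPBC.IsWContractible A) : EtPBC.IsWContractible B := by
  exact Aux.main A B S E hB hA

end Groth.Agent.S0707
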