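import Groth.Statements.S0716
import Mathlib
import Groth.Prelude.Def_ProEtS
import Groth.Agent.Lib.Helper9.FE.PCCartan
import Groth.Agent.Lib.Helper9.FE.WTSiteH
import Groth.Agent.Lib.Helper9.FE.ProEtQc
-- import your own Groth.Agent.* helpers here

set_option autoImplicit false
open CategoryTheory CategoryTheory.Limits AlgebraicGeometry Opposite
universe u
open ProEtS

namespace Groth.Agent.S0716

open CategoryTheory Limits Opposite AlgebraicGeometry Abelian
namespace Aux

theorem top_mem_Bp (X : Scheme.{u}) [IsAffine X] : ProEtS.topP X ∈ H9FE.PC.Bp X := by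
  refine ⟨(inferInstance : IsAffine X), EtCoh.top X, (inferInstance : IsAffine X), ?_, ?_⟩
  · exact MorphismProperty.Over.homMk (𝟙 X) (by rfl) trivial
  · exact H9FE.PC.IE_id _

theorem main (X : Scheme.{u}) [IsAffine X] [ProEtS.EpsCont X]
    (I : EtCoh.Ab X) [Injective I] (p : ℕ) (hp : 0 < p) :
    Subsingleton (ProEtS.HP X ((ProEtS.epsPull X).obj I) p) := by
  obtain ⟨q, rfl⟩ : ∃ q, p = q + 1 := ⟨p - 1, by omega⟩
  refine ⟨fun a b => ?_⟩
  have R := H9FE.WTSiteH.reprConst.{u + 1, u + 1} (Scheme.ProEt.topology X)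
    (H9FE.ProEtQc.topIsTerminal X)
  have h := H9FE.PC.ext_eq_zero I R (top_mem_Bp X) q
  exact (h a).trans (h b).symm

end Aux

/-- On an affine scheme X, the pullback to X_proet of any injective abelian sheaf I of the small etale
site has vanishing pro-etale cohomology in every positive degree p (assuming, as a binder, the
continuity of X_et -> X_proet). -/
theorem result (X : Scheme.{u}) [IsAffine X] [ProEtS.EpsCont X]
    (I : EtCoh.Ab X) [Injective I] (p : ℕ) (hp : 0 < p) :
    Subsingleton (ProEtS.HP X ((ProEtS.epsPull X).obj I) p) := by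
  exact Aux.main X I p hp

end Groth.Agent.S0716
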