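import Groth.Statements.S0724
import Mathlib
import Groth.Agent.Lib.Helper9.FE.ProEtQc
import Groth.Agent.Lib.Helper9.FE.CoprodFiltered
-- import your own Groth.Agent.* helpers here

set_option autoImplicit false
open CategoryTheory CategoryTheory.Limits AlgebraicGeometry Opposite
universe u
open ProEtS

namespace Groth.Agent.S0724

open CategoryTheory CategoryTheory.Limits AlgebraicGeometry Opposite
namespace Aux

set_option backward.isDefEq.respectTransparency false
set_option linter.style.haveILetI false

theorem main (X : Scheme.{u}) [CompactSpace ↥X]
    [QuasiSeparatedSpace ↥X] (n : ℕ) (ι : Type u) :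
    PreservesColimitsOfShape (Discrete ι) (ProEtS.HPF X n) := by
  haveI : PreservesColimitsOfShape (Finset (Discrete ι)) (ProEtS.HPF X n) := by
    let e : Finset (Discrete ι) ≌ AsSmall.{u + 1} (Finset (Discrete ι)) := AsSmall.equiv
    haveI : IsFiltered (AsSmall.{u + 1} (Finset (Discrete ι))) := IsFiltered.of_equivalence e
    haveI := H9FE.ProEtQc.preserves_big X (J := AsSmall.{u + 1} (Finset (Discrete ι))) n
    exact preservesColimitsOfShape_of_equiv e.symm (ProEtS.HPF X n)
  haveI : (ProEtS.HPF X n).Additive := by unfold ProEtS.HPF; infer_instance
  haveI : PreservesFiniteCoproducts (ProEtS.HPF X n) := inferInstance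
  exact H9FE.CoprodFiltered.preservesColimitsOfShape_discrete (ProEtS.HPF X n)

end Aux

/-- Applied to abelian sheaves (complexes in degree 0) and read on cohomology groups: for X
quasi-compact and quasi-separated and every n, the functor F |-> H^n(X_proet, F) commutes with
direct sums indexed by any small type. -/
theorem result (X : Scheme.{u}) [CompactSpace ↥X]
    [QuasiSeparatedSpace ↥X] (n : ℕ) (ι : Type u) :
    PreservesColimitsOfShape (Discrete ι) (ProEtS.HPF X n) := by
  exact Aux.main X n ι

end Groth.Agent.S0724
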