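import Groth.Statements.S0738
import Mathlib

set_option autoImplicit false
open Topology
universe u
open ProEtW

namespace Groth.Agent.S0738

namespace H0738
open Topology TopologicalSpace

theorem spectral_of_closed (X : Type u) [TopologicalSpace X] [SpectralSpace X]
    (Y : Set X) (hY : IsClosed Y) : SpectralSpace ↥Y := by
  have hemb : IsClosedEmbedding (Subtype.val : Y → X) := hY.isClosedEmbedding_subtypeVal
  have hbasis : IsTopologicalBasis (Set.range
      (fun U : {U : Set X // IsOpen U ∧ IsCompact U} => (Subtype.val : Y → X) ⁻¹' U.1)) := by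
    have h1 := (PrespectralSpace.isTopologicalBasis (X := X)).isInducing hemb.isInducing
    convert h1 using 1
    ext s
    simp only [Set.mem_range, Set.mem_image, Subtype.exists, exists_prop]
    constructor
    · rintro ⟨U, hU, rfl⟩; exact ⟨U, hU, rfl⟩
    · rintro ⟨U, hU, rfl⟩; exact ⟨U, hU, rfl⟩
  have : CompactSpace Y := isCompact_iff_compactSpace.1 hY.isCompact
  have : QuasiSober Y := hemb.quasiSober
  have : PrespectralSpace Y := PrespectralSpace.of_isTopologicalBasis' hbasis
    (fun U => hemb.isCompact_preimage U.2.2)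
  have : QuasiSeparatedSpace Y := QuasiSeparatedSpace.of_isTopologicalBasis hbasis (fun U V => by
    rw [← Set.preimage_inter]
    exact hemb.isCompact_preimage
      (QuasiSeparatedSpace.inter_isCompact U.1 V.1 U.2.1 U.2.2 V.2.1 V.2.2))
  exact { }

theorem main (X : Type u) [TopologicalSpace X] (hX : ProEtW.IsWLocal X)
    (Y : Set X) (hY : IsClosed Y) : ProEtW.IsWLocal ↥Y := by
  obtain ⟨hsp, hcl, huniq⟩ := hX
  have hemb : IsClosedEmbedding (Subtype.val : Y → X) := hY.isClosedEmbedding_subtypeVal
  have hpt : ∀ y : Y, IsClosed ({y} : Set Y) ↔ IsClosed ({(y : X)} : Set X) := by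
    intro y
    constructor
    · intro h
      have := hemb.isClosedMap _ h
      simpa using this
    · intro h
      have := h.preimage hemb.continuous
      convert this using 1
      ext z
      simp [Subtype.ext_iff]
  refine ⟨spectral_of_closed X Y hY, ?_, ?_⟩
  · have : {x : Y | IsClosed ({x} : Set Y)} = (Subtype.val : Y → X) ⁻¹' {x : X | IsClosed ({x} : Set X)} := by
      ext y
      exact hpt y
    rw [this]
    exact hcl.preimage hemb.continuous
  · intro y
    obtain ⟨c, ⟨hc1, hc2⟩, hcu⟩ := huniq (y : X)
    have hcY : c ∈ Y := hc2.mem_closed hY y.2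
    refine ⟨⟨c, hcY⟩, ⟨(hpt _).2 hc1, ?_⟩, ?_⟩
    · exact (hemb.isInducing.specializes_iff).1 hc2
    · rintro z ⟨hz1, hz2⟩
      apply Subtype.ext
      apply hcu
      exact ⟨(hpt z).1 hz1, (hemb.isInducing.specializes_iff).2 hz2⟩
end H0738

/-- A closed subset of a w-local spectral space is w-local (with the subspace topology). -/
theorem result (X : Type u) [TopologicalSpace X] (hX : ProEtW.IsWLocal X)
    (Y : Set X) (hY : IsClosed Y) : ProEtW.IsWLocal ↥Y := by
  exact H0738.main X hX Y hY

end Groth.Agent.S0738
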