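import Groth.Statements.S0739
import Mathlib
import Groth.Prelude.Def_ProEtS
import Groth.Agent.Lib.Helper9.WEtField.Main
import Groth.Agent.Lib.Helper5.WEt.Scheme
import Groth.Agent.Lib.Helper9.FE.ProEtQc
-- import your own Groth.Agent.* helpers here

set_option autoImplicit false
open CategoryTheory CategoryTheory.Limits AlgebraicGeometry Opposite
universe u
open ProEtS

namespace Groth.Agent.S0739

open CategoryTheory CategoryTheory.Limits AlgebraicGeometry Opposite
namespace Aux

set_option linter.style.haveILetI false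
set_option linter.unusedSectionVars false
set_option backward.isDefEq.respectTransparency false

open H9FE.ProEtQc

/-- a weakly étale algebra over a separably closed field with a prime has a retraction -/
lemma exists_retraction {k : Type u} [Field k] [IsSepClosed k] {B : CommRingCat.{u}}
    (φ : CommRingCat.of k ⟶ B) (hφ : WeaklyEtale (Spec.map φ)) (p : PrimeSpectrum B) :
    ∃ σ : B ⟶ CommRingCat.of k, φ ≫ σ = 𝟙 _ := by
  letI : Algebra k B := φ.hom.toAlgebra
  haveI : Algebra.WeaklyEtale k B := (Helper5.WEt.weaklyEtale_Spec_iff' φ).1 hφ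
  let q : Ideal B := p.asIdeal
  haveI : q.IsPrime := p.isPrime
  haveI : Algebra.IsSeparable k q.ResidueField :=
    Groth.Agent.Helper9.WEtField.isSeparable_residueField k B q
  have hbij : Function.Bijective (algebraMap k q.ResidueField) :=
    IsSepClosed.algebraMap_bijective k q.ResidueField
  let e : k ≃+* q.ResidueField := RingEquiv.ofBijective _ hbij
  refine ⟨CommRingCat.ofHom ((e.symm : q.ResidueField →+* k).comp
    (algebraMap B q.ResidueField)), ?_⟩
  ext a
  show e.symm (algebraMap B q.ResidueField (φ.hom a)) = a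
  have h1 : algebraMap B q.ResidueField (φ.hom a) = e a :=
    (IsScalarTower.algebraMap_apply k B q.ResidueField a).symm
  rw [h1]
  exact e.symm_apply_apply a

/-- geometric points with separably closed field lift along weakly étale morphisms -/
theorem exists_lift {Z U : Scheme.{u}} (f : Z ⟶ U) [WeaklyEtale f] {k : Type u} [Field k]
    [IsSepClosed k] (ξ : Spec (CommRingCat.of k) ⟶ U) (z : Z)
    (pt : Spec (CommRingCat.of k)) (hz : f z = ξ pt) :
    ∃ ξ' : Spec (CommRingCat.of k) ⟶ Z, ξ' ≫ f = ξ := by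
  obtain ⟨w, hw1, hw2⟩ := Scheme.Pullback.exists_preimage_pullback (f := f) (g := ξ) z pt hz
  obtain ⟨_, ⟨V, hV, rfl⟩, hwV, -⟩ :=
    (pullback f ξ).isBasis_affineOpens.exists_subset_of_mem_open (Set.mem_univ w) isOpen_univ
  let j : Spec Γ(pullback f ξ, V) ⟶ pullback f ξ := hV.fromSpec
  let φ : CommRingCat.of k ⟶ Γ(pullback f ξ, V) := Spec.preimage (j ≫ pullback.snd f ξ)
  have hφ : Spec.map φ = j ≫ pullback.snd f ξ := Spec.map_preimage _
  haveI : WeaklyEtale (Spec.map φ) := by
    rw [hφ]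
    infer_instance
  have hp : w ∈ Set.range j := by
    rw [hV.range_fromSpec]
    exact hwV
  obtain ⟨p, -⟩ := hp
  obtain ⟨σ, hσ⟩ := exists_retraction φ inferInstance p
  refine ⟨Spec.map σ ≫ j ≫ pullback.fst f ξ, ?_⟩
  rw [Category.assoc, Category.assoc, pullback.condition, ← Category.assoc j, ← hφ,
    ← Category.assoc, ← Spec.map_comp, hσ, Spec.map_id, Category.id_comp]

theorem main {X : Scheme.{u}} (U : X.ProEt) (R : Sieve U)
    (hR : R ∈ Scheme.ProEt.topology X U) {k : Type u} [Field k] [IsSepClosed k]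
    (ξ : Spec (CommRingCat.of k) ⟶ U.left) :
    ∃ (V : X.ProEt) (g : V ⟶ U) (ξ' : Spec (CommRingCat.of k) ⟶ V.left),
      R g ∧ ξ' ≫ g.left = ξ := by
  rw [Precoverage.mem_toGrothendieck_iff_of_isStableUnderComposition] at hR
  obtain ⟨R₀, hR₀, hle⟩ := hR
  have h1 : R₀.map (toSch X) ∈ Scheme.propQCPrecoverage @WeaklyEtale U.left := hR₀
  rw [Scheme.mem_propQCPrecoverage_iff_exists_quasiCompactCover] at h1
  obtain ⟨𝒰, h𝒰, hR𝒰⟩ := h1
  let pt : Spec (CommRingCat.of k) := IsLocalRing.closedPoint k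
  obtain ⟨i, v, hv⟩ := 𝒰.exists_eq (ξ pt)
  have h2 : (R₀.map (toSch X)) (𝒰.f i) := by
    rw [hR𝒰]
    exact Presieve.ofArrows.mk i
  obtain ⟨Z, hZ, g, hRg, hg⟩ := Presieve.map_iff.1 h2
  have h3 : g.left = eqToHom hZ ≫ 𝒰.f i := hg
  have h4 : (eqToHom hZ.symm : 𝒰.X i ⟶ (toSch X).obj Z) ≫ (toSch X).map g = 𝒰.f i := by
    rw [hg, eqToHom_trans_assoc, eqToHom_refl, Category.id_comp]
  have h5 := congrArg (fun (m : 𝒰.X i ⟶ U.left) => m v) h4
  have hz : g.left ((eqToHom hZ.symm : 𝒰.X i ⟶ (toSch X).obj Z) v) = ξ pt :=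
    (Scheme.Hom.comp_apply _ _ _).symm.trans (h5.trans hv)
  obtain ⟨ξ', hξ'⟩ := exists_lift g.left ξ _ pt hz
  exact ⟨Z, g, ξ', hle _ _ hRg, hξ'⟩

end Aux

/-- Let U be an object of X_proet, R a covering sieve on U, and xi : Spec k -> U a geometric point (k
separably closed). Then there is a morphism V -> U in R and a geometric point of V with the same
field mapping to xi. -/
theorem result {X : Scheme.{u}} (U : X.ProEt) (R : Sieve U)
    (hR : R ∈ Scheme.ProEt.topology X U) {k : Type u} [Field k] [IsSepClosed k]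
    (ξ : Spec (CommRingCat.of k) ⟶ U.left) :
    ∃ (V : X.ProEt) (g : V ⟶ U) (ξ' : Spec (CommRingCat.of k) ⟶ V.left), R g ∧ ξ' ≫ g.left = ξ := by
  exact Aux.main U R hR ξ

end Groth.Agent.S0739
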