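import Groth.Statements.S0742
import Mathlib

set_option autoImplicit false
open CategoryTheory CategoryTheory.Limits AlgebraicGeometry Opposite
universe u
open ProEtS

namespace Groth.Agent.S0742

section
variable {U X : Scheme.{u}} (j : U ⟶ X) [hj : WeaklyEtale j]

/-- The site-level adjunction between composition with `j` and base change along `j`. -/
noncomputable def siteAdj : ProEtS.compP j ⊣ ProEtS.bcP j :=
  MorphismProperty.Over.mapPullbackAdj (@WeaklyEtale) ⊤ j hj trivial

set_option backward.isDefEq.respectTransparency.types false in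
instance full_compP [Mono j] : (ProEtS.compP j).Full where
  map_surjective {V W} g := by
    have e : ((g.left : V.left ⟶ W.left) ≫ W.hom) ≫ j = V.hom ≫ j := by
      rw [Category.assoc]; exact MorphismProperty.Over.w g
    exact ⟨MorphismProperty.Over.homMk g.left ((cancel_mono j).1 e), MorphismProperty.Over.Hom.ext rfl⟩

set_option backward.isDefEq.respectTransparency.types false in
instance faithful_compP : (ProEtS.compP j).Faithful where
  map_injective {_ _} _ _ h :=
    MorphismProperty.Over.Hom.ext (congrArg (fun k => k.left) h :)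

instance isIso_unit_siteAdj [Mono j] : IsIso (siteAdj j).unit :=
  (siteAdj j).unit_isIso_of_L_fully_faithful

/-- Restriction along a weakly etale morphism is left adjoint to the direct image. -/
noncomputable def restrPushAdj [ProEtS.JPCont j] [ProEtS.PCont j] :
    ProEtS.restrP j ⊣ ProEtS.pushP j :=
  (siteAdj j).sheafPushforwardContinuous
    (E := AddCommGrpCat.{u + 1}) (Scheme.ProEt.topology U) (Scheme.ProEt.topology X)

/-- Direct image followed by restriction is the identity, for a monomorphic weakly etale `j`. -/
noncomputable def pushRestrIso [Mono j] [ProEtS.JPCont j] [ProEtS.PCont j] :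
    ProEtS.pushP j ⋙ ProEtS.restrP j ≅ 𝟭 (ProEtS.AbP U) :=
  haveI : (ProEtS.compP j ⋙ ProEtS.bcP j).IsContinuous (Scheme.ProEt.topology U)
      (Scheme.ProEt.topology U) :=
    Functor.isContinuous_comp _ _ _ (Scheme.ProEt.topology X) _
  Functor.sheafPushforwardContinuousComp (ProEtS.compP j) (ProEtS.bcP j)
      AddCommGrpCat.{u + 1} (Scheme.ProEt.topology U) (Scheme.ProEt.topology X)
      (Scheme.ProEt.topology U) ≪≫
    Functor.sheafPushforwardContinuousId' (asIso (siteAdj j).unit).symm AddCommGrpCat.{u + 1}
      (Scheme.ProEt.topology U)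

theorem isIso_counit_restrPush [Mono j] [ProEtS.JPCont j] [ProEtS.PCont j] :
    IsIso (restrPushAdj j).counit :=
  (restrPushAdj j).isIso_counit_of_iso (pushRestrIso j)

theorem isIso_counit_pullPush [Mono j] [ProEtS.JPCont j] [ProEtS.PCont j] (F : ProEtS.AbP U) :
    IsIso ((ProEtS.pullPushAdjP j).counit.app F) := by
  haveI := isIso_counit_restrPush j
  have h := Adjunction.leftAdjointUniq_hom_app_counit (ProEtS.pullPushAdjP j)
    (restrPushAdj j) F
  rw [← h]
  infer_instance

theorem isIso_unit_extZero [Mono j] [ProEtS.JPCont j] [ProEtS.PCont j] :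
    IsIso (ProEtS.extZeroPAdj j).unit :=
  (Adjunction.Triple.mk (ProEtS.extZeroPAdj j)
    (restrPushAdj j)).isIso_unit_iff_isIso_counit.2 (isIso_counit_restrPush j)

end

/-- For an open immersion j : U -> X, the unit F -> j^{-1} j_! F and the counit j^{-1} j_* G -> G are
isomorphisms on abelian pro-etale sheaves (so j_! and j_* are fully faithful; continuity binders
assumed). -/
theorem result {U X : Scheme.{u}} (j : U ⟶ X) [IsOpenImmersion j]
    [ProEtS.JPCont j] [ProEtS.PCont j] (F G : ProEtS.AbP U) :
    IsIso ((ProEtS.extZeroPAdj j).unit.app F) ∧ IsIso ((ProEtS.pullPushAdjP j).counit.app G) := by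
  haveI : Mono j := inferInstance
  refine ⟨?_, isIso_counit_pullPush j G⟩
  haveI := isIso_unit_extZero j
  infer_instance

end Groth.Agent.S0742
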