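import Groth.Statements.S0756
import Groth.Agent.Lib.Helper3.FE7

set_option autoImplicit false
open CategoryTheory CategoryTheory.Limits AlgebraicGeometry Opposite
universe u
open EtFppf

namespace Groth.Agent.S0756

/-- Description of the pullback to the big fppf site: for a sheaf F on S_et and an S-scheme f : T -> S,
the value of a^{-1} F at T is the group of global sections of f_small^{-1} F on T_et (existence of
an isomorphism of groups; continuity binder assumed). -/
theorem result (S : Scheme.{u}) [EtFppf.ACont S] (F : EtCoh.Ab S)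
    {T : Scheme.{u}} (f : T ⟶ S) :
    Nonempty (((EtFppf.aPull S).obj F).obj.obj (op (Over.mk f)) ≅
      ((EtCoh.pull f).obj F).obj.obj (op (EtCoh.top T))) := by
  let e1 : ((EtFppf.aPull S).obj F).obj.obj (op (Over.mk f)) ≅
      (Groth.Agent.Helper3.FE7.Gp F).obj.obj (op (Over.mk f)) :=
    ((sheafToPresheaf _ _ ⋙ (evaluation _ _).obj (op (Over.mk f))).mapIso
      (Groth.Agent.Helper3.FE7.aPullObjIso F))
  let G := (BigSite.piEtPull Scheme.etalePrecoverage S).obj F
  let e2 : G.obj.obj (op (Over.mk f)) ≅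
      G.obj.obj (op ((Groth.Agent.Helper3.FE2.uT (Over.mk f)).obj (EtCoh.top T))) :=
    G.obj.mapIso (Groth.Agent.Helper3.FE5.topIso (Over.mk f)).op
  haveI : IsIso (Groth.Agent.Helper3.FE3.theta (Over.mk f) F) := inferInstance
  let e3 : ((EtCoh.pull f).obj F).obj.obj (op (EtCoh.top T)) ≅
      G.obj.obj (op ((Groth.Agent.Helper3.FE2.uT (Over.mk f)).obj (EtCoh.top T))) :=
    ((sheafToPresheaf _ _ ⋙ (evaluation _ _).obj (op (EtCoh.top T))).mapIso
      (asIso (Groth.Agent.Helper3.FE3.theta (Over.mk f) F)))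
  exact ⟨e1 ≪≫ e2 ≪≫ e3.symm⟩


end Groth.Agent.S0756
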