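import Groth.Statements.S0763
import Mathlib
import Groth.Prelude.Def_ProEtDC
import Groth.Agent.Lib.Helper9.FE.ProEtDC6
-- import your own Groth.Agent.* helpers here

set_option autoImplicit false
open CategoryTheory CategoryTheory.Limits AlgebraicGeometry Opposite
universe u
open ProEtDC

namespace Groth.Agent.S0763

open CategoryTheory CategoryTheory.Limits AlgebraicGeometry Opposite
namespace Aux

set_option linter.style.haveILetI false
set_option backward.isDefEq.respectTransparency false

open H9FE.ProEtDC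

theorem main (X : Scheme.{u}) (Λ : Type (u + 1)) [CommRing Λ] (I : Ideal Λ) :
    (∀ (F G : EtModW.ModP Λ X) (φ : F ⟶ G), ProEtDC.IsDCSheaf Λ I F → ProEtDC.IsDCSheaf Λ I G →
      ProEtDC.IsDCSheaf Λ I (kernel φ) ∧ ProEtDC.IsDCSheaf Λ I (cokernel φ)) ∧
    ∀ (S : ShortComplex (EtModW.ModP Λ X)), S.ShortExact →
      ProEtDC.IsDCSheaf Λ I S.X₁ → ProEtDC.IsDCSheaf Λ I S.X₃ → ProEtDC.IsDCSheaf Λ I S.X₂ := by
  refine ⟨fun F G φ hF hG => ⟨?_, ?_⟩, fun S hS h1 h3 => isDCSheaf_X₂ Λ I S hS h1 h3⟩
  · haveI : Mono (ShortComplex.mk (kernel.ι φ) φ (kernel.condition φ)).f := by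
      show Mono (kernel.ι φ)
      infer_instance
    exact isDCSheaf_X₁ Λ I (ShortComplex.mk (kernel.ι φ) φ (kernel.condition φ))
      (ShortComplex.exact_kernel φ) hF hG
  · haveI : Epi (ShortComplex.mk φ (cokernel.π φ) (cokernel.condition φ)).g := by
      show Epi (cokernel.π φ)
      infer_instance
    exact isDCSheaf_X₃ Λ I (ShortComplex.mk φ (cokernel.π φ) (cokernel.condition φ))
      (ShortComplex.exact_cokernel φ) hF hG

end Aux

/-- Part (1), for the site X_proet (which has enough weakly contractible objects): for a Noetherian ring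
L (in the value universe) and an ideal I, the derived complete sheaves of L-modules form a weak
Serre subcategory: kernels and cokernels of maps between derived complete sheaves are derived
complete, and an extension of derived complete sheaves is derived complete. -/
theorem result (X : Scheme.{u}) (Λ : Type (u + 1)) [CommRing Λ]
    [IsNoetherianRing Λ] (I : Ideal Λ) :
    (∀ (F G : EtModW.ModP Λ X) (φ : F ⟶ G), ProEtDC.IsDCSheaf Λ I F → ProEtDC.IsDCSheaf Λ I G →
      ProEtDC.IsDCSheaf Λ I (kernel φ) ∧ ProEtDC.IsDCSheaf Λ I (cokernel φ)) ∧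
    ∀ (S : ShortComplex (EtModW.ModP Λ X)), S.ShortExact →
      ProEtDC.IsDCSheaf Λ I S.X₁ → ProEtDC.IsDCSheaf Λ I S.X₃ → ProEtDC.IsDCSheaf Λ I S.X₂ := by
  exact Aux.main X Λ I

end Groth.Agent.S0763
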