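import Groth.Statements.S0766
import Mathlib
import Groth.Statements.S0766
import Groth.Agent.Lib.Helper9.FE.ProEtDC1
import Groth.Agent.Lib.Helper9.FE.ProEtDC2
import Groth.Agent.Lib.Helper9.FE.ProEtDC3
import Groth.Agent.Lib.Helper9.FE.ProEtW6
-- import your own Groth.Agent.* helpers here

set_option autoImplicit false
open CategoryTheory CategoryTheory.Limits AlgebraicGeometry Opposite
universe u
open ProEtDC

namespace Groth.Agent.S0766

open CategoryTheory CategoryTheory.Limits AlgebraicGeometry Opposite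
namespace Aux

set_option linter.style.haveILetI false
set_option backward.isDefEq.respectTransparency false

open H9FE.ProEtDC

variable {X : Scheme.{u}} (Λ : Type (u + 1)) [CommRing Λ]

lemma surj_of_epi_of_isWC {G F : EtModW.ModP Λ X} (ψ : G ⟶ F) [Epi ψ] {W : X.ProEt}
    (hW : ProEtS.IsWC W) : Function.Surjective (ψ.hom.app (op W)) := by
  haveI h1 : Sheaf.IsLocallySurjective ψ :=
    (Sheaf.isLocallySurjective_iff_epi' _ ψ).mpr inferInstance
  haveI h2 : Sheaf.IsLocallySurjective
      ((sheafCompose (Scheme.ProEt.topology X) (forget (ModuleCat.{u + 1} Λ))).map ψ) :=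
    inferInstance
  have h3 : Epi ((sheafCompose (Scheme.ProEt.topology X) (forget (ModuleCat.{u + 1} Λ))).map ψ) :=
    inferInstance
  intro m
  obtain ⟨s, hs⟩ := hW _ _ _ h3 m
  exact ⟨s, hs⟩

lemma isZero_of_wc_subsingleton (F : EtModW.ModP Λ X)
    (h : ∀ W : X.ProEt, ProEtS.IsWC W → Subsingleton (F.obj.obj (op W))) : IsZero F := by
  have hU : ∀ U : X.ProEt, Subsingleton (F.obj.obj (op U)) := by
    intro U
    obtain ⟨V, g, hg, hV⟩ := H9FE.ProEtW.main713 U
    haveI := h V hV
    refine ⟨fun s t => ?_⟩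
    apply Sheaf.isSeparated F U _ hg s t
    intro Y k hk
    obtain ⟨Z, k', g', hg', rfl⟩ := hk
    cases hg'
    rw [op_comp, Functor.map_comp]
    show (F.obj.map k'.op) ((F.obj.map g.op) s) = (F.obj.map k'.op) ((F.obj.map g.op) t)
    rw [Subsingleton.elim ((F.obj.map g.op) s) ((F.obj.map g.op) t)]
  rw [IsZero.iff_id_eq_zero]
  apply Sheaf.hom_ext
  ext U x
  haveI := hU U.unop
  exact Subsingleton.elim _ _

lemma desc_app_apply {r : ℕ} (F : EtModW.ModP Λ X) (a : Fin r → Λ) (W : X.ProEt)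
    (s : ((⨁ fun _ : Fin r => F) : EtModW.ModP Λ X).obj.obj (op W)) :
    ((biproduct.desc (fun k : Fin r => ProEtDC.smulHom Λ F (a k))).hom.app (op W)) s =
      ∑ k, a k • ((biproduct.π (fun _ : Fin r => F) k).hom.app (op W)) s := by
  have h1 : (Psi2 Λ W).map (biproduct.desc (fun k : Fin r => ProEtDC.smulHom Λ F (a k))) =
      ∑ k, (Psi2 Λ W).map (biproduct.π (fun _ : Fin r => F) k ≫ ProEtDC.smulHom Λ F (a k)) := by
    rw [biproduct.desc_eq, Functor.map_sum]
  have h2 := congrArg (fun φ => φ.hom s) h1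
  refine h2.trans ?_
  show (∑ k, (Psi2 Λ W).map
    (biproduct.π (fun _ : Fin r => F) k ≫ ProEtDC.smulHom Λ F (a k))).hom s = _
  rw [ModuleCat.hom_sum, LinearMap.sum_apply]
  rfl

theorem main (X : Scheme.{u}) (Λ : Type (u + 1)) [CommRing Λ]
    {r : ℕ} (a : Fin r → Λ) (F : EtModW.ModP Λ X)
    (hF : ProEtDC.IsDCSheaf Λ (Ideal.span (Set.range a)) F) (h0 : ProEtDC.ModGensIsZero Λ a F) :
    IsZero F := by
  apply isZero_of_wc_subsingleton
  intro W hW
  apply subsingleton_of_dc r a (F.obj.obj (op W))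
  · intro k
    have hk : a k ∈ Ideal.span (Set.range a) := Ideal.subset_span ⟨k, rfl⟩
    haveI : Mono (S0 (a k)).f := (S0_shortExact (a k)).mono_f
    exact dcf_of_ext_vanish (a k) (adjU2 Λ W) F (mono_PhiU_map Λ W (S0 (a k)).f)
      (hF W (a k) hk 0) (hF W (a k) hk 1)
  · intro m
    haveI : Epi (biproduct.desc (fun k : Fin r => ProEtDC.smulHom Λ F (a k))) := h0
    obtain ⟨s, hs⟩ := surj_of_epi_of_isWC Λ
      (biproduct.desc (fun k : Fin r => ProEtDC.smulHom Λ F (a k))) hW m
    refine ⟨fun k => ((biproduct.π (fun _ : Fin r => F) k).hom.app (op W)) s, ?_⟩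
    rw [← hs]
    exact desc_app_apply Λ F a W s

end Aux

/-- Let L be a ring (value universe), I an ideal generated by finitely many elements a_1, ..., a_r, and
F a sheaf of L-modules on X_proet which is derived complete with respect to I and satisfies F/IF = 0
(the map F^r -> F, (s_k) |-> sum a_k s_k, is an epimorphism). Then F = 0. -/
theorem result (X : Scheme.{u}) (Λ : Type (u + 1)) [CommRing Λ]
    {r : ℕ} (a : Fin r → Λ) (F : EtModW.ModP Λ X)
    (hF : ProEtDC.IsDCSheaf Λ (Ideal.span (Set.range a)) F) (h0 : ProEtDC.ModGensIsZero Λ a F) :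
    IsZero F := by
  exact Aux.main X Λ a F hF h0

end Groth.Agent.S0766
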