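import Groth.Statements.S0776
import Mathlib
import Groth.Prelude.Def_ProEtDC
import Groth.Agent.Lib.Helper9.FE.ProEtDC6
-- import your own Groth.Agent.* helpers here

set_option autoImplicit false
open CategoryTheory CategoryTheory.Limits AlgebraicGeometry Opposite
universe u
open ProEtDC

namespace Groth.Agent.S0776

open CategoryTheory CategoryTheory.Limits AlgebraicGeometry Opposite
namespace Aux

set_option linter.style.haveILetI false
set_option backward.isDefEq.respectTransparency false

open H9FE.ProEtDC

theorem main (X : Scheme.{u}) (Λ : Type (u + 1)) [CommRing Λ] (I : Ideal Λ) :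
    ProEtDC.IsDCSheaf Λ I (ProEtDC.lambdaHat Λ X I) := by
  apply isDCSheaf_limit Λ I
  intro n
  apply isDCSheaf_constantSheaf_of_pow Λ I _ n
  intro a ha m
  obtain ⟨x, rfl⟩ := Submodule.Quotient.mk_surjective _ m
  rw [← Submodule.Quotient.mk_smul, Submodule.Quotient.mk_eq_zero]
  exact Submodule.smul_mem_smul ha Submodule.mem_top

end Aux

/-- For a Noetherian ring L (value universe) and an ideal I, the sheaf L^ = lim_n L/I^n (limit of
constant sheaves) on X_proet is derived complete with respect to I. -/
theorem result (X : Scheme.{u}) (Λ : Type (u + 1)) [CommRing Λ]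
    [IsNoetherianRing Λ] (I : Ideal Λ) : ProEtDC.IsDCSheaf Λ I (ProEtDC.lambdaHat Λ X I) := by
  exact Aux.main X Λ I

end Groth.Agent.S0776
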