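import Groth.Statements.S0781
import Mathlib


set_option autoImplicit false
open CategoryTheory CategoryTheory.Limits AlgebraicGeometry Opposite
universe u
open Desc

namespace Groth.Agent.S0781

/-- If p : X → S is a surjective morphism of schemes, then for schemes U₁, U₂ étale over S, two
S-morphisms U₁ → U₂ whose base changes to X agree, as morphisms of canonical descent data relative
to p, are equal; that is, the canonical-descent-datum functor is faithful on schemes étale over S.
(Descent data are taken in functor-of-points form, equivalent by the Yoneda lemma to an isomorphism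
over X ×_S X satisfying the cocycle condition.) -/
theorem result {X S : Scheme.{u}} (p : X ⟶ S) [Surjective p] (U₁ U₂ : Over S)
    [Etale U₁.hom] [Etale U₂.hom] : Function.Injective ((Desc.toDD p).map : (U₁ ⟶ U₂) → _) := by
  intro g g' h
  have h1 : ((Desc.toDD p).map g).hom.left = ((Desc.toDD p).map g').hom.left := by rw [h]
  have e1 : ((Desc.toDD p).map g).hom.left ≫ pullback.snd p U₂.hom =
      pullback.snd p U₁.hom ≫ g.left := pullback.lift_snd _ _ _
  have e2 : ((Desc.toDD p).map g').hom.left ≫ pullback.snd p U₂.hom =
      pullback.snd p U₁.hom ≫ g'.left := pullback.lift_snd _ _ _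
  let π : pullback p U₁.hom ⟶ U₁.left := pullback.snd p U₁.hom
  have h2 : π ≫ g.left = π ≫ g'.left := by
    show pullback.snd p U₁.hom ≫ g.left = pullback.snd p U₁.hom ≫ g'.left
    rw [← e1, ← e2, h1]
  -- the equalizer of `g` and `g'` is open in `U₁`
  have hgg : g.left ≫ U₂.hom = g'.left ≫ U₂.hom := by rw [Over.w g, Over.w g']
  let m : U₁.left ⟶ pullback U₂.hom U₂.hom := pullback.lift g.left g'.left hgg
  let ι : pullback m (pullback.diagonal U₂.hom) ⟶ U₁.left := pullback.fst _ _
  haveI : IsOpenImmersion (pullback.diagonal U₂.hom) := inferInstance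
  haveI : IsOpenImmersion ι := inferInstance
  have hιg : ι ≫ g.left = ι ≫ g'.left := by
    have c : ι ≫ m = pullback.snd m (pullback.diagonal U₂.hom) ≫ pullback.diagonal U₂.hom :=
      pullback.condition
    have c1 := congrArg (· ≫ pullback.fst U₂.hom U₂.hom) c
    have c2 := congrArg (· ≫ pullback.snd U₂.hom U₂.hom) c
    simp only [Category.assoc, pullback.diagonal_fst, pullback.diagonal_snd,
      Category.comp_id] at c1 c2
    have d1 : m ≫ pullback.fst U₂.hom U₂.hom = g.left := pullback.lift_fst _ _ _
    have d2 : m ≫ pullback.snd U₂.hom U₂.hom = g'.left := pullback.lift_snd _ _ _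
    rw [d1] at c1
    rw [d2] at c2
    rw [c1, c2]
  -- `π` factors through the equalizer
  have hπm : π ≫ m = (π ≫ g.left) ≫ pullback.diagonal U₂.hom := by
    apply pullback.hom_ext
    · rw [Category.assoc, pullback.lift_fst, Category.assoc, pullback.diagonal_fst,
        Category.comp_id]
    · rw [Category.assoc, pullback.lift_snd, Category.assoc, pullback.diagonal_snd,
        Category.comp_id, h2]
  let τ : pullback p U₁.hom ⟶ pullback m (pullback.diagonal U₂.hom) :=
    pullback.lift π (π ≫ g.left) hπm
  have hτ : τ ≫ ι = π := pullback.lift_fst _ _ _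
  haveI : Surjective π := inferInstance
  have hιs : Function.Surjective ι.base := by
    intro x
    obtain ⟨y, hy⟩ := (inferInstance : Surjective π).surj x
    refine ⟨τ.base y, ?_⟩
    rw [← hy, ← hτ]
    rfl
  haveI : Epi ι.base := (TopCat.epi_iff_surjective _).2 hιs
  haveI : IsIso ι := IsOpenImmersion.isIso ι
  apply Over.OverMorphism.ext
  exact (cancel_epi ι).1 hιg

end Groth.Agent.S0781
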