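import Groth.Statements.S0782
import Mathlib
import Groth.Agent.Lib.Helper2.DescEt


set_option autoImplicit false
open CategoryTheory CategoryTheory.Limits AlgebraicGeometry Opposite
universe u
open Desc

namespace Groth.Agent.S0782

/-- Let p : X ⟶ S be a morphism such that for every scheme U étale over S the projection X ×_S U ⟶ U is
a quotient map of topological spaces (submersive; U = S is allowed). Then for U₁, U₂ étale over S,
every morphism between their canonical descent data relative to p comes from an S-morphism U₁ ⟶ U₂: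
the canonical-descent-datum functor is full on schemes étale over S (injectivity of this assignment
is a companion statement). (Descent data are taken in functor-of-points form, equivalent by the
Yoneda lemma to the usual form of an isomorphism over X ×_S X satisfying the cocycle condition.) -/
theorem result {X S : Scheme.{u}} (p : X ⟶ S)
    (hp : ∀ U : Over S, Etale U.hom → Topology.IsQuotientMap (pullback.snd p U.hom).base) (U₁ U₂ : Over S)
    [Etale U₁.hom] [Etale U₂.hom] : Function.Surjective ((Desc.toDD p).map : (U₁ ⟶ U₂) → _) := by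
  intro F
  obtain ⟨U, hU⟩ : ∃ U : Over S, U = U₁ := ⟨_, rfl⟩
  obtain ⟨U', hU'⟩ : ∃ U' : Over S, U' = U₂ := ⟨_, rfl⟩
  subst hU hU'
  let π : pullback p U.hom ⟶ U.left := pullback.snd p U.hom
  let fp : pullback p U.hom ⟶ X := pullback.fst p U.hom
  obtain ⟨Fl, hFl⟩ : ∃ Fl : pullback p U.hom ⟶ pullback p U'.hom, Fl = F.hom.left := ⟨_, rfl⟩
  let f : pullback p U.hom ⟶ U'.left := Fl ≫ pullback.snd p U'.hom
  have hFw : Fl ≫ pullback.fst p U'.hom = fp := by
    rw [hFl]; exact Over.w F.hom
  have hcond : fp ≫ p = π ≫ U.hom := pullback.condition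
  -- the two pullbacks of `f` agree
  have key : pullback.fst π π ≫ f = pullback.snd π π ≫ f := by
    let x₀ : pullback π π ⟶ X := pullback.fst π π ≫ fp
    let x₁ : pullback π π ⟶ X := pullback.snd π π ≫ fp
    have h : x₀ ≫ p = x₁ ≫ p := by
      show (pullback.fst π π ≫ fp) ≫ p = (pullback.snd π π ≫ fp) ≫ p
      rw [Category.assoc, Category.assoc, hcond, ← Category.assoc, ← Category.assoc,
        pullback.condition]
    let v : Desc.Lifts ((Desc.toDD p).obj U).obj x₀ := ⟨pullback.fst π π, rfl⟩
    let w : Desc.Lifts ((Desc.toDD p).obj U').obj x₀ := ⟨pullback.fst π π ≫ Fl, by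
      show (pullback.fst π π ≫ Fl) ≫ pullback.fst p U'.hom = x₀
      rw [Category.assoc, hFw]⟩
    have hc0 := F.comm x₀ x₁ h v w (congrArg (pullback.fst π π ≫ ·) hFl)
    have hc : (((Desc.toDD p).obj U').φ x₀ x₁ h w).1 =
        (((Desc.toDD p).obj U).φ x₀ x₁ h v).1 ≫ Fl :=
      hc0.trans (congrArg ((((Desc.toDD p).obj U).φ x₀ x₁ h v).1 ≫ ·) hFl.symm)
    have hv : (((Desc.toDD p).obj U).φ x₀ x₁ h v).1 = pullback.snd π π := by
      show pullback.lift x₁ (v.1 ≫ pullback.snd p U.hom) _ = _
      apply pullback.hom_ext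
      · rw [pullback.lift_fst]
      · rw [pullback.lift_snd]
        exact pullback.condition
    have hw : (((Desc.toDD p).obj U').φ x₀ x₁ h w).1 ≫ pullback.snd p U'.hom =
        pullback.fst π π ≫ f := by
      show pullback.lift x₁ (w.1 ≫ pullback.snd p U'.hom) _ ≫ pullback.snd p U'.hom = _
      rw [pullback.lift_snd]
      exact Category.assoc _ _ _
    rw [← hw, hc, hv]
    exact Category.assoc _ _ _
  have hdesc : ∀ {Z : Scheme.{u}} (g₁ g₂ : Z ⟶ pullback p U.hom), g₁ ≫ π = g₂ ≫ π →
      g₁ ≫ f = g₂ ≫ f := by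
    intro Z g₁ g₂ e
    have e1 : g₁ = pullback.lift g₁ g₂ e ≫ pullback.fst π π := (pullback.lift_fst _ _ _).symm
    have e2 : g₂ = pullback.lift g₁ g₂ e ≫ pullback.snd π π := (pullback.lift_snd _ _ _).symm
    calc g₁ ≫ f = (pullback.lift g₁ g₂ e ≫ pullback.fst π π) ≫ f := by rw [← e1]
      _ = pullback.lift g₁ g₂ e ≫ pullback.snd π π ≫ f := by rw [Category.assoc, key]
      _ = g₂ ≫ f := by rw [← Category.assoc, ← e2]
  -- the topological hypotheses
  have hπQ₁ : Topology.IsQuotientMap π.base := hp U inferInstance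
  have hπs : Surjective π := ⟨hπQ₁.surjective⟩
  let q : pullback U.hom U'.hom ⟶ U.left := pullback.fst U.hom U'.hom
  let W : Over S := Over.mk (q ≫ U.hom)
  have hWet : Etale W.hom := by
    show Etale (q ≫ U.hom)
    infer_instance
  have hW : Topology.IsQuotientMap (pullback.snd p (q ≫ U.hom)).base := hp W hWet
  have e : pullback.fst q π = ((pullbackSymmetry q π).hom ≫
      (pullbackLeftPullbackSndIso p U.hom q).hom) ≫ pullback.snd p (q ≫ U.hom) := by
    rw [Category.assoc, pullbackLeftPullbackSndIso_hom_snd, pullbackSymmetry_hom_comp_snd]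
  have hQ : Topology.IsQuotientMap (pullback.fst q π).base := by
    rw [e]
    exact hW.comp (Scheme.Hom.homeomorph ((pullbackSymmetry q π).hom ≫
      (pullbackLeftPullbackSndIso p U.hom q).hom)).isQuotientMap
  have hψ : f ≫ U'.hom = π ≫ U.hom := by
    show (Fl ≫ pullback.snd p U'.hom) ≫ U'.hom = π ≫ U.hom
    rw [Category.assoc, ← pullback.condition, ← Category.assoc, hFw, hcond]
  obtain ⟨g₀, hg₀w, hg₀⟩ := Groth.Agent.Helper2.DescEt.exists_descent_of_isQuotientMap U'.hom U.hom
    π hπs hQ f hψ hdesc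
  refine ⟨Over.homMk g₀ hg₀w, ?_⟩
  apply Desc.SchDD.hom_ext
  apply Over.OverMorphism.ext
  show pullback.map p U.hom p U'.hom (𝟙 X) g₀ (𝟙 S) (by simp) (by simp [hg₀w]) = F.hom.left
  rw [← hFl]
  apply pullback.hom_ext
  · rw [pullback.lift_fst, Category.comp_id, hFw]
  · rw [pullback.lift_snd]
    exact hg₀

end Groth.Agent.S0782
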