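import Groth.Statements.S0785
-- import your own Groth.Agent.* helpers here
import Mathlib
import Groth.Agent.Lib.Helper7.SHens.DepthFlat

set_option autoImplicit false
universe u
open Desc

namespace Groth.Agent.S0785

/-- Let A → B be a local homomorphism of Noetherian local rings which is etale in the sense that B is
the localization at a prime of an etale A-algebra. Then A and B have the same depth. -/
theorem result (A B : Type u) [CommRing A] [CommRing B] [IsLocalRing A] [IsLocalRing B]
    [IsNoetherianRing A] [IsNoetherianRing B] [Algebra A B] [IsLocalHom (algebraMap A B)]
    (E : Type u) [CommRing E] [Algebra A E] [Algebra.Etale A E] (P : Ideal E) [P.IsPrime]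
    [Algebra E B] [IsScalarTower A E B] [IsLocalization.AtPrime B P] :
    LocCoh.depth A A = LocCoh.depth B B := by
  have hflatE : Module.Flat A E := inferInstance
  have hflatB : Module.Flat E B := IsLocalization.flat B P.primeCompl
  have hflat : Module.Flat A B := Module.Flat.trans A E B
  have hunrE : Algebra.FormallyUnramified E B :=
    Algebra.FormallyUnramified.of_isLocalization P.primeCompl
  have hunr : Algebra.FormallyUnramified A B := Algebra.FormallyUnramified.comp A E B
  have hessE : Algebra.EssFiniteType E B := Algebra.EssFiniteType.of_isLocalization B P.primeCompl
  have hess : Algebra.EssFiniteType A B := Algebra.EssFiniteType.comp A E B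
  have hm : (IsLocalRing.maximalIdeal A).map (algebraMap A B) = IsLocalRing.maximalIdeal B :=
    Algebra.FormallyUnramified.map_maximalIdeal
  exact (Groth.Agent.Helper7.SHens.depth_eq_of_flat_of_map_maximalIdeal A B hm).symm

end Groth.Agent.S0785
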