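import Groth.Statements.S0788
import Groth.Agent.Lib.Helper3.ProperOver

set_option autoImplicit false
universe u
open Coherent

namespace Groth.Agent.S0788

open CategoryTheory AlgebraicGeometry in
/-- Let X and Y be schemes locally of finite type over S, with Y separated over S, and f : X → Y a
morphism over S. If Z ⊆ X is closed and proper over S (reduced induced structure), its image f(Z) is
again closed in Y and proper over S. -/
theorem result {X Y S : Scheme.{u}} (p : X ⟶ S) (q : Y ⟶ S)
    [LocallyOfFiniteType p] [LocallyOfFiniteType q] [IsSeparated q] (f : X ⟶ Y) (w : f ≫ q = p)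
    (Z : Set X) (hZ : ClSub.IsProperOver p Z) : ClSub.IsProperOver q (⇑f '' Z) := by
  open Groth.Agent.Helper3 Limits in
  obtain ⟨h, hp⟩ := hZ
  subst w
  have hp' : IsProper ((redι Z h ≫ f) ≫ q) := by rw [Category.assoc]; exact hp
  have hpf : IsProper (redι Z h ≫ f) := IsProper.of_comp (redι Z h ≫ f) q
  have hr : Set.range (redι Z h ≫ f) = f '' Z := by
    rw [Scheme.Hom.comp_base, TopCat.coe_comp, Set.range_comp, range_redι]
  have h' : IsClosed (f '' Z) := hr ▸ (Scheme.Hom.isClosedMap (redι Z h ≫ f)).isClosed_range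
  rw [isProperOver_iff q _ h']
  have hsurj := redMap_surjective f Z h (f '' Z) h' rfl
  have hpk : ∀ _ : Unit, IsProper (redMap f Z h (f '' Z) h' le_rfl ≫ redι (f '' Z) h' ≫ q) := by
    intro _
    rw [redMap_fac_assoc]
    exact hp
  have huc : UniversallyClosed (redMap f Z h (f '' Z) h' le_rfl) := by
    have : UniversallyClosed (redMap f Z h (f '' Z) h' le_rfl ≫ redι (f '' Z) h') := by
      rw [redMap_fac]; infer_instance
    exact UniversallyClosed.of_comp_of_isSeparated _ (redι (f '' Z) h')
  have : ∀ _ : Unit, UniversallyClosed (redMap f Z h (f '' Z) h' le_rfl) := fun _ => huc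
  exact isProper_of_jointly_surjective (ι := Unit) (fun _ => redMap f Z h (f '' Z) h' le_rfl)
    (fun t => ⟨(), hsurj t⟩) (redι (f '' Z) h' ≫ q) hpk

end Groth.Agent.S0788
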