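import Groth.Statements.S0794
import Mathlib
import Groth.Agent.S4357

set_option autoImplicit false
universe u
open Coherent

namespace Groth.Agent.S0794

section
open CategoryTheory AlgebraicGeometry

open CategoryTheory.Limits

/-- General: a closed subset of X' which is the range of a closed immersion `j : W ⟶ X'` with
`j ≫ f'` proper is proper over the base. -/
theorem isProperOver_of_closedImmersion {X' S' W : Scheme.{u}} (f' : X' ⟶ S') (j : W ⟶ X')
    [IsClosedImmersion j] [IsProper (j ≫ f')] (Z' : Set X') (hZ' : Set.range j = Z') :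
    ClSub.IsProperOver f' Z' := by
  have hcl : IsClosed Z' := hZ' ▸ j.isClosedEmbedding.isClosed_range
  refine ⟨hcl, ?_⟩
  set I' := Scheme.IdealSheafData.vanishingIdeal ⟨Z', hcl⟩ with hI'
  have hker : j.ker ≤ I'.subschemeι.ker := by
    rw [Scheme.IdealSheafData.ker_subschemeι, hI',
      ← Scheme.IdealSheafData.le_support_iff_le_vanishingIdeal]
    intro x hx
    have h1 : (j.ker.support : Set X') = closure (Set.range j) := Scheme.Hom.support_ker j
    show x ∈ (j.ker.support : Set X')
    rw [h1, hZ']
    exact subset_closure hx
  let k := IsClosedImmersion.lift j I'.subschemeι hker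
  have hk : k ≫ j = I'.subschemeι := IsClosedImmersion.lift_fac j I'.subschemeι hker
  haveI : IsClosedImmersion (k ≫ j) := by rw [hk]; infer_instance
  haveI : IsClosedImmersion k := IsClosedImmersion.of_comp_isClosedImmersion k j
  have : I'.subschemeι ≫ f' = k ≫ (j ≫ f') := by rw [← Category.assoc, hk]
  rw [this]
  infer_instance

theorem main {X S X' S' : Scheme.{u}} (f : X ⟶ S)
    (g : S' ⟶ S) (g' : X' ⟶ X) (f' : X' ⟶ S') (sq : IsPullback g' f' f g)
    (F : X.Modules) (hq : Coh.IsQCoh F) (hft : CohB1.IsFT F)
    (hF : ClSub.IsProperOver f (CohB1.support F)) :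
    ClSub.IsProperOver f' (CohB1.support ((Scheme.Modules.pullback g').obj F)) := by
  obtain ⟨hcl, hprop⟩ := hF
  haveI : Coh.IsQCoh F := hq
  rw [Groth.Agent.S4357.result g' F hft]
  set I := Scheme.IdealSheafData.vanishingIdeal ⟨CohB1.support F, hcl⟩ with hI
  -- W := pullback of Z_red → X along g'
  let j : pullback I.subschemeι g' ⟶ X' := pullback.snd I.subschemeι g'
  haveI : IsClosedImmersion j := inferInstanceAs (IsClosedImmersion (pullback.snd I.subschemeι g'))
  have hsq1 : IsPullback (pullback.fst I.subschemeι g') j I.subschemeι g' :=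
    IsPullback.of_hasPullback _ _
  have hsq2 : IsPullback (pullback.fst I.subschemeι g') (j ≫ f') (I.subschemeι ≫ f) g :=
    hsq1.paste_vert sq
  haveI : IsProper (j ≫ f') := MorphismProperty.of_isPullback (P := @IsProper) hsq2 hprop
  refine isProperOver_of_closedImmersion f' j _ ?_
  rw [show j = pullback.snd I.subschemeι g' from rfl, Scheme.Pullback.range_snd,
    Scheme.IdealSheafData.range_subschemeι, hI]
  simp


end


open CategoryTheory AlgebraicGeometry in
/-- Consider a cartesian square with X' = X ×_S S', projections g' : X' → X and f' : X' → S', where f :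
X → S is locally of finite type. If F is a quasi-coherent O_X-module of finite type whose support is
proper over S, then the support of the pullback (g')^* F is proper over S'. -/
theorem result {X S X' S' : Scheme.{u}} (f : X ⟶ S) [LocallyOfFiniteType f]
    (g : S' ⟶ S) (g' : X' ⟶ X) (f' : X' ⟶ S') (sq : IsPullback g' f' f g)
    (F : X.Modules) (hq : Coh.IsQCoh F) (hft : CohB1.IsFT F)
    (hF : ClSub.IsProperOver f (CohB1.support F)) :
    ClSub.IsProperOver f' (CohB1.support ((Scheme.Modules.pullback g').obj F)) := by
  classical
  exact main f g g' f' sq F hq hft hF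

end Groth.Agent.S0794
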