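import Groth.Statements.S0796
import Mathlib
import Groth.Agent.S0791
import Groth.Agent.Lib.Helper3.ProperOver
import Groth.Agent.Lib.Helper1.FtSupp
import Groth.Agent.Lib.Helper5.Stalk.Exact

set_option autoImplicit false
universe u
open Coherent

namespace Groth.Agent.S0796

section


open CategoryTheory CategoryTheory.Limits AlgebraicGeometry
open Groth.Agent.Helper1 Groth.Agent.Lib.Helper5.StalkAdj Groth.Agent.Helper3

variable {X S : Scheme.{u}}

theorem isZero_stalkSh_iff (M : X.Modules) (x : X) :
    IsZero ((stalkSh X x).obj M) ↔ x ∉ CohB1.support M := by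
  rw [ModuleCat.isZero_iff_subsingleton]
  change _ ↔ ¬ ¬ Subsingleton (M.presheaf.stalk x)
  rw [not_not]
  rfl

theorem isZero_mid_iff {C : Type*} [Category C] [Abelian C] (T : ShortComplex C)
    (hT : T.ShortExact) : IsZero T.X₂ ↔ IsZero T.X₁ ∧ IsZero T.X₃ := by
  haveI := hT.mono_f
  haveI := hT.epi_g
  constructor
  · intro h
    exact ⟨IsZero.of_mono T.f h, IsZero.of_epi T.g h⟩
  · rintro ⟨h1, h3⟩
    exact hT.exact.isZero_of_both_zeros (h1.eq_of_src _ _) (h3.eq_of_tgt _ _)

/-- **the support of the middle term of a short exact sequence** -/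
theorem support_eq (E : ShortComplex X.Modules) (hE : E.ShortExact) :
    CohB1.support E.X₂ = CohB1.support E.X₁ ∪ CohB1.support E.X₃ := by
  ext x
  have h := isZero_mid_iff (E.map (stalkSh X x)) (hE.map_of_exact (stalkSh X x))
  change IsZero ((stalkSh X x).obj E.X₂) ↔
    IsZero ((stalkSh X x).obj E.X₁) ∧ IsZero ((stalkSh X x).obj E.X₃) at h
  rw [isZero_stalkSh_iff, isZero_stalkSh_iff, isZero_stalkSh_iff] at h
  rw [Set.mem_union]
  tauto

theorem isProperOver_of_subset (f : X ⟶ S) {Z W : Set X} (hZ : ClSub.IsProperOver f Z)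
    (hW : IsClosed W) (hWZ : W ⊆ Z) : ClSub.IsProperOver f W := by
  obtain ⟨h, hp⟩ := hZ
  rw [isProperOver_iff f W hW]
  have hsub : W ⊆ Set.range (redι Z h) := by
    rw [range_redι]; exact hWZ
  have e : redι W hW ≫ f = redLift (redι Z h) W hW hsub ≫ redι Z h ≫ f := by
    rw [redLift_fac_assoc]
  rw [e]
  haveI : IsProper (redι Z h ≫ f) := hp
  infer_instance

theorem main {X S : Scheme.{u}} (f : X ⟶ S) [LocallyOfFiniteType f]
    [IsLocallyNoetherian S] (E : ShortComplex X.Modules) (hE : E.ShortExact)
    (h₁ : Coh.IsCoh E.X₁) (h₂ : Coh.IsCoh E.X₂) (h₃ : Coh.IsCoh E.X₃) :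
    ClSub.IsProperOver f (CohB1.support E.X₂) ↔
      ClSub.IsProperOver f (CohB1.support E.X₁) ∧ ClSub.IsProperOver f (CohB1.support E.X₃) := by
  have hc1 := FtGen.isClosed_support E.X₁ h₁.2
  have hc3 := FtGen.isClosed_support E.X₃ h₃.2
  rw [support_eq E hE]
  constructor
  · intro h
    exact ⟨isProperOver_of_subset f h hc1 Set.subset_union_left,
      isProperOver_of_subset f h hc3 Set.subset_union_right⟩
  · rintro ⟨p1, p3⟩
    have := Groth.Agent.S0791.result f Bool
      (fun b => if b then CohB1.support E.X₁ else CohB1.support E.X₃)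
      (fun b => by cases b <;> simpa)
    have e : (⋃ b : Bool, (if b then CohB1.support E.X₁ else CohB1.support E.X₃)) =
        CohB1.support E.X₁ ∪ CohB1.support E.X₃ := by
      ext x
      simp only [Set.mem_iUnion, Bool.exists_bool, Set.mem_union]
      simp
      tauto
    rw [← e]
    exact this


end


open CategoryTheory AlgebraicGeometry in
/-- Part (2), through the usual criterion for Serre subcategories. Let S be locally Noetherian and f : X
→ S locally of finite type. For a short exact sequence 0 → F₁ → F₂ → F₃ → 0 of coherent O_X-modules,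
the support of F₂ is proper over S if and only if the supports of F₁ and F₃ are. -/
theorem result {X S : Scheme.{u}} (f : X ⟶ S) [LocallyOfFiniteType f]
    [IsLocallyNoetherian S] (E : ShortComplex X.Modules) (hE : E.ShortExact)
    (h₁ : Coh.IsCoh E.X₁) (h₂ : Coh.IsCoh E.X₂) (h₃ : Coh.IsCoh E.X₃) :
    ClSub.IsProperOver f (CohB1.support E.X₂) ↔
      ClSub.IsProperOver f (CohB1.support E.X₁) ∧ ClSub.IsProperOver f (CohB1.support E.X₃) := by
  classical
  exact main f E hE h₁ h₂ h₃

end Groth.Agent.S0796
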