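import Groth.Statements.S0819
import Mathlib
import Groth.Agent.Lib.Helper1.Dv27

set_option autoImplicit false
universe u
open Coherent

namespace Groth.Agent.S0819

open CategoryTheory AlgebraicGeometry in
/-- Let X be a Noetherian scheme, Z₀ ⊆ X an irreducible closed subset with generic point ξ, and P an
isomorphism-invariant property of O_X-modules such that: (1) in every short exact sequence of
coherent modules supported in Z₀, P for two of the terms implies P for the third; (2) P holds for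
i_* I whenever i : Z → X is an integral closed subscheme with i(Z) a proper subset of Z₀ and I ⊆ O_Z
is a quasi-coherent ideal sheaf; (3) there is a coherent G with support exactly Z₀, stalk at ξ
isomorphic to the residue field over the local ring, and P(G). Then P holds for every coherent
module whose support is contained in Z₀. -/
theorem result (X : Scheme.{u}) [IsNoetherian X]
    (Z₀ : Set X) (hZ₀ : IsClosed Z₀) (hirr : IsIrreducible Z₀) (ξ : X) (hξ : ξ ∈ Z₀ ∧ closure {ξ} = Z₀)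
    (P : X.Modules → Prop) (hP : ∀ M N : X.Modules, Nonempty (M ≅ N) → P M → P N)
    (h₁ : ∀ S : ShortComplex X.Modules, S.ShortExact → Coh.IsCoh S.X₁ → Coh.IsCoh S.X₂ → Coh.IsCoh S.X₃ →
      CohB1.support S.X₂ ⊆ Z₀ →
      (P S.X₁ → P S.X₂ → P S.X₃) ∧ (P S.X₁ → P S.X₃ → P S.X₂) ∧ (P S.X₂ → P S.X₃ → P S.X₁))
    (h₂ : ∀ (Z : Scheme.{u}) (i : Z ⟶ X), IsClosedImmersion i → IsIntegral Z →
      Set.range ⇑i ⊆ Z₀ → Set.range ⇑i ≠ Z₀ →
      ∀ (I : Z.Modules) (ι : I ⟶ Coh.structureModule Z), Mono ι → Coh.IsQCoh I →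
        P ((Coh.push i).obj I))
    (h₃ : ∃ G : X.Modules, Coh.IsCoh G ∧ CohB1.support G = Z₀ ∧
      Nonempty (↑(G.presheaf.stalk ξ) ≃ₗ[X.presheaf.stalk ξ] IsLocalRing.ResidueField (X.presheaf.stalk ξ)) ∧ P G)
    (M : X.Modules) (hM : Coh.IsCoh M) (hsupp : CohB1.support M ⊆ Z₀) : P M := by
  obtain ⟨G, hG, hGsupp, ⟨eG⟩, hPG⟩ := h₃
  have hGZ : CohB1.support G ⊆ Z₀ := hGsupp.le
  have hiso : ∀ M N : X.Modules, (M ≅ N) → P M → P N := fun M N e h => hP M N ⟨e⟩ h
  have h0 : ∀ M : X.Modules, CategoryTheory.Limits.IsZero M → P M := by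
    intro M hM
    exact (h₁ _ (Groth.Agent.Helper1.Dv.shortExact_id_zero G M hM) hG hG
      (Groth.Agent.Helper1.Dv.isCoh_of_isZero hM G hG) hGZ).1 hPG hPG
  -- modules supported away from the generic point
  have IH : ∀ M' : X.Modules, Coh.IsCoh M' → CohB1.support M' ⊆ Z₀ → ξ ∉ CohB1.support M' →
      P M' := by
    intro M' hM' hM'Z hξM'
    refine Groth.Agent.Helper1.Dv.dev_ideal P hiso h0 (CohB1.support M') ?_ ?_ M' hM' le_rfl
    · intro S hS c1 c2 c3 hs p1 p3
      exact (h₁ S hS c1 c2 c3 (hs.trans hM'Z)).2.1 p1 p3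
    · intro Z i hi hint hr I ι hι hI
      refine h₂ Z i hi hint (hr.trans hM'Z) ?_ I ι hι hI
      intro heq
      exact hξM' (hr (heq ▸ hξ.1))
  have hsimple : IsSimpleModule (X.presheaf.stalk ξ) (G.presheaf.stalk ξ) := by
    haveI := Groth.Agent.Helper1.Dv.isSimpleModule_residueField (X.presheaf.stalk ξ)
    exact IsSimpleModule.congr eG
  refine Groth.Agent.Helper1.Dv.gen_step P hiso h0 Z₀ ξ hξ.2 ?_ IH G hG hPG hGZ
    (hGsupp ▸ hξ.1) ?_ ?_ M hM hsupp
  · intro S hS c1 c2 c3 hs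
    exact ⟨(h₁ S hS c1 c2 c3 hs).2.2, (h₁ S hS c1 c2 c3 hs).2.1⟩
  · intro a ha v
    exact Groth.Agent.Helper1.Dv.smul_eq_zero_of_simple a ha v
  · intro e he h1 F hF hKF
    have he1 : e = 1 := h1 hsimple
    subst he1
    exact hiso _ _ (Groth.Agent.Helper1.Dv.coprodOneIso F) hKF

end Groth.Agent.S0819
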