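import Groth.Statements.S0856
import Mathlib
import Mathlib
import Groth.Agent.Lib.Helper5.Misc.InjTotAcyc

set_option autoImplicit false
universe u
open CategoryTheory
open CohSite

open CategoryTheory Limits Opposite

namespace Groth.Agent.S0856

open Groth.Agent.Lib.Helper5.Misc

variable {C : Type u} [SmallCategory C] {J : GrothendieckTopology C} (R₀ : Cᵒᵖ ⥤ RingCat.{u})

lemma mono_free_map {P Q : Cᵒᵖ ⥤ Type u} (φ : P ⟶ Q) (hφ : ∀ W, Function.Injective (φ.app W)) :
    Mono ((PresheafOfModules.free R₀).map φ) := by
  apply PresheafOfModules.mono_of_injective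
  intro W
  change Function.Injective (Finsupp.lmapDomain _ _ (φ.app W : _ → _))
  exact Finsupp.mapDomain_injective (hφ W)

theorem main (O : Sheaf J RingCat.{u}) (I : SheafOfModules.{u} O) [Injective I]
    {U U' : C} (a : U' ⟶ U) [Mono a] : Function.Surjective (I.val.map a.op) := by
  intro s'
  have hI : Injective I.val := (SheafOfModules.forget.{u} O).injective_obj I
  have hm : Mono ((PresheafOfModules.free O.obj).map (yoneda.map a)) := by
    apply mono_free_map
    intro W x y hxy
    exact (cancel_mono a).1 hxy
  let φ : yoneda.obj U' ⟶ I.val.presheaf ⋙ forget _ := yonedaEquiv.symm s'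
  let g : (PresheafOfModules.free O.obj).obj (yoneda.obj U') ⟶ I.val :=
    PresheafOfModules.freeObjDesc φ
  let g' : (PresheafOfModules.free O.obj).obj (yoneda.obj U) ⟶ I.val :=
    Injective.factorThru g ((PresheafOfModules.free O.obj).map (yoneda.map a))
  have hg' : (PresheafOfModules.free O.obj).map (yoneda.map a) ≫ g' = g := Injective.comp_factorThru _ _
  refine ⟨g'.app (op U) (ModuleCat.freeMk (𝟙 U)), ?_⟩
  have h1 := PresheafOfModules.naturality_apply g' a.op (ModuleCat.freeMk (𝟙 U))
  refine h1.symm.trans ?_
  have h2 : ((PresheafOfModules.free O.obj).obj (yoneda.obj U)).map a.op (ModuleCat.freeMk (𝟙 U)) =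
      ((PresheafOfModules.free O.obj).map (yoneda.map a)).app (op U') (ModuleCat.freeMk (𝟙 U')) := by
    have e1 : ((PresheafOfModules.free O.obj).obj (yoneda.obj U)).map a.op (ModuleCat.freeMk (𝟙 U)) =
        (ModuleCat.freeMk (R := O.obj.obj (op U')) (a ≫ 𝟙 U) :
          (ModuleCat.free (O.obj.obj (op U'))).obj ((yoneda.obj U).obj (op U'))) :=
      ModuleCat.freeDesc_apply _ _
    have e2 : ((PresheafOfModules.free O.obj).map (yoneda.map a)).app (op U') (ModuleCat.freeMk (𝟙 U')) =
        (ModuleCat.freeMk (R := O.obj.obj (op U')) (𝟙 U' ≫ a) :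
          (ModuleCat.free (O.obj.obj (op U'))).obj ((yoneda.obj U).obj (op U'))) :=
      ModuleCat.free_map_apply _ _
    rw [Category.comp_id] at e1
    rw [Category.id_comp] at e2
    exact e1.trans e2.symm
  have h3 := congrArg (fun t => t.app (op U') (ModuleCat.freeMk (𝟙 U'))) hg'
  have h4 : g.app (op U') (ModuleCat.freeMk (𝟙 U')) = s' := by
    change ModuleCat.freeDesc (φ.app (op U')) (ModuleCat.freeMk (𝟙 U')) = s'
    rw [ModuleCat.freeDesc_apply]
    exact (yonedaEquiv (F := I.val.presheaf ⋙ forget _)).apply_symm_apply s'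
  exact (congrArg (g'.app (op U')) h2).trans (h3.trans h4)

end Groth.Agent.S0856

namespace Groth.Agent.S0856

open Opposite in
/-- Let (C, O) be a ringed site, a : U' -> U a monomorphism of C and I an injective sheaf of O-modules.
Then the restriction map I(U) -> I(U') is surjective. -/
theorem result {C : Type u} [SmallCategory C]
    {J : GrothendieckTopology C} (O : Sheaf J RingCat.{u}) (I : SheafOfModules.{u} O) [Injective I]
    {U U' : C} (a : U' ⟶ U) [Mono a] : Function.Surjective (I.val.map a.op) := by
  exact main O I a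

end Groth.Agent.S0856
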