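import Groth.Statements.S0873
import Groth.Agent.Lib.Helper3.MVFun
import Groth.Agent.Lib.Helper3.MVPush

set_option autoImplicit false
universe u
open CategoryTheory
open CohTop

namespace Groth.Agent.S0873

open TopologicalSpace CategoryTheory.Limits

open TopologicalSpace CategoryTheory.Limits in
/-- Let f : X -> Y be continuous, X = U ∪ V an open covering, and a, b, c the restrictions of f to U, V,
U ∩ V. For an abelian sheaf F there are connecting maps making the long sequence 0 -> f_* F ->
a_*(F|_U) ⊕ b_*(F|_V) -> c_*(F|_{U ∩ V}) -> R^1 f_* F -> R^1 a_*(F|_U) ⊕ R^1 b_*(F|_V) -> ... exact,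
where the unnamed maps are induced (sum, resp. difference) by restriction of sections and R^n
a_*(F|_U) denotes the n-th right derived functor of F ↦ a_*(F|_U) (and similarly for b, c).
Functoriality in F is not asserted. -/
theorem result {X Y : TopCat.{u}} (f : X ⟶ Y) (U V : Opens X) (hUV : U ⊔ V = ⊤)
    (F : CohTop.Ab X) :
    ∃ δ : ∀ n : ℕ, (CohCx.RpushOn f (U ⊓ V) n).obj F ⟶ (CohTop.Rpush f (n + 1)).obj F,
      Mono (biprod.lift ((NatTrans.rightDerived (CohCx.pushToRestrPush f U) 0).app F)
        ((NatTrans.rightDerived (CohCx.pushToRestrPush f V) 0).app F)) ∧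
      ∀ n : ℕ,
        (ComposableArrows.mk₂
          (biprod.lift ((NatTrans.rightDerived (CohCx.pushToRestrPush f U) n).app F)
            ((NatTrans.rightDerived (CohCx.pushToRestrPush f V) n).app F))
          (biprod.desc
            ((NatTrans.rightDerived (CohCx.restrPushToRestrPush f (inf_le_left : U ⊓ V ≤ U)) n).app F)
            (-((NatTrans.rightDerived (CohCx.restrPushToRestrPush f (inf_le_right : U ⊓ V ≤ V)) n).app F)))).Exact ∧
        (ComposableArrows.mk₂
          (biprod.desc
            ((NatTrans.rightDerived (CohCx.restrPushToRestrPush f (inf_le_left : U ⊓ V ≤ U)) n).app F)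
            (-((NatTrans.rightDerived (CohCx.restrPushToRestrPush f (inf_le_right : U ⊓ V ≤ V)) n).app F)))
          (δ n)).Exact ∧
        (ComposableArrows.mk₂ (δ n)
          (biprod.lift ((NatTrans.rightDerived (CohCx.pushToRestrPush f U) (n + 1)).app F)
            ((NatTrans.rightDerived (CohCx.pushToRestrPush f V) (n + 1)).app F))).Exact := by
  have hse : ∀ (I : CohTop.Ab X) [Injective I]
      (w : biprod.lift ((CohCx.pushToRestrPush f U).app I) ((CohCx.pushToRestrPush f V).app I) ≫
        biprod.desc ((CohCx.restrPushToRestrPush f (inf_le_left : U ⊓ V ≤ U)).app I)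
          (-((CohCx.restrPushToRestrPush f (inf_le_right : U ⊓ V ≤ V)).app I)) = 0),
      (ShortComplex.mk _ _ w).ShortExact := by
    intro I _ w
    have hfl : TopCat.Sheaf.IsFlasque I := Groth.Agent.S0454.result I
    have hpb := Groth.Agent.Helper3.MVPush.isPullback f U V I hUV
    have hepi : Epi ((CohCx.restrPushToRestrPush f (inf_le_left : U ⊓ V ≤ U)).app I) :=
      Groth.Agent.Helper3.MVPush.epi_β f I inf_le_left
    have hepi2 : Epi (biprod.desc ((CohCx.restrPushToRestrPush f (inf_le_left : U ⊓ V ≤ U)).app I)
        (-((CohCx.restrPushToRestrPush f (inf_le_right : U ⊓ V ≤ V)).app I))) :=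
      epi_of_epi_fac (biprod.inl_desc _ _)
    exact ShortComplex.ShortExact.mk' hpb.exact_shortComplex' hpb.mono_shortComplex'_f hepi2
  exact Groth.Agent.Helper3.MVFun.main (CohCx.pushToRestrPush f U) (CohCx.pushToRestrPush f V)
    (CohCx.restrPushToRestrPush f (inf_le_left : U ⊓ V ≤ U))
    (CohCx.restrPushToRestrPush f (inf_le_right : U ⊓ V ≤ V))
    (Groth.Agent.Helper3.MVPush.hw f U V) hse F


end Groth.Agent.S0873
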