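import Groth.Statements.S0937
import Groth.Agent.Lib.Helper3.GSS
import Groth.Agent.Lib.Helper3.SiteSec
import Groth.Agent.Lib.Helper3.SpVan
import Groth.Agent.Lib.Helper3.RDAdd
import Groth.Agent.Lib.Helper3.PushAcy
import Groth.Agent.Lib.Helper5.Misc.RDExact

set_option autoImplicit false
universe u
open CategoryTheory
open CohSite

namespace Groth.Agent.S0937

open Groth.Agent.Helper3 CategoryTheory CategoryTheory.Limits Opposite

/-- Part (1), for a single abelian sheaf: let u : C -> D be a functor between sites which is continuous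
(preserving coverings and commuting with fibre products, which exist in C) and cocontinuous, F an
abelian sheaf on D and U an object of C. Then H^p(U, g^{-1}F) ≅ H^p(u(U), F) for all p, where
g^{-1}F is the sheaf V ↦ F(u(V)). -/
theorem result {C D : Type u} [SmallCategory C] [SmallCategory D]
    [Limits.HasPullbacks C] (J : GrothendieckTopology C) (K : GrothendieckTopology D) (u : C ⥤ D)
    [u.IsContinuous J K] (hu : CoverPreserving J K u) [Limits.PreservesLimitsOfShape Limits.WalkingCospan u]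
    [u.IsCocontinuous J K]
    (F : Sheaf K AddCommGrpCat.{u}) (U : C) (p : ℕ) :
    Nonempty (CohSite.HU ((CohSite.push K J u).obj F) p U ≃+ CohSite.HU F p (u.obj U)) := by
  let T := CohSite.push K J u
  let S := SiteSec.Γ J U
  have hS : PreservesFiniteLimits S :=
    preservesFiniteLimits_of_natIso (SiteSec.coyonedaIsoΓ J U)
  haveI : T.IsLeftAdjoint := (u.sheafAdjunctionCocontinuous AddCommGrpCat.{u} J K).isLeftAdjoint
  haveI : PreservesFiniteColimits T := inferInstance
  haveI : PreservesFiniteLimits T := by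
    have := u.sheafAdjunctionContinuous AddCommGrpCat.{u} J K
    haveI : T.IsRightAdjoint := this.isRightAdjoint
    infer_instance
  have hR : ∀ m : ℕ, IsZero ((T.rightDerived (m + 1)).obj F) := fun m =>
    Groth.Agent.Lib.Helper5.Misc.RDExact.isZero_rightDerived_succ T F m
  have hT : ∀ Q : Sheaf K AddCommGrpCat.{u}, Injective Q → ∀ q : ℕ, 0 < q →
      IsZero ((S.rightDerived q).obj (T.obj Q)) := by
    intro Q hQ q hq
    obtain ⟨m, rfl⟩ : ∃ m, q = m + 1 := ⟨q - 1, by omega⟩
    refine IsZero.of_iso ?_ (SiteSec.rightDerivedΓIso J U (T.obj Q) (m + 1))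
    exact @AddCommGrpCat.isZero_of_subsingleton _
      (PushAcy.subsingleton_HU_push_injective J K u Q U m)
  obtain ⟨E, a, hfin, hbdd, hE⟩ := GSS.main' T S hT F
  have hz : ∀ p q' : ℤ, q' ≠ 0 → IsZero ((E.page 2 le_rfl).X (p, q')) := by
    intro p q' hq'
    obtain ⟨e⟩ := hE p q'
    refine IsZero.of_iso ?_ e
    split_ifs with hpq
    · obtain ⟨m, rfl⟩ : ∃ m : ℕ, q' = (m : ℤ) + 1 := ⟨(q' - 1).toNat, by omega⟩
      have : ((m : ℤ) + 1).toNat = m + 1 := by omega
      rw [this]
      exact RDAdd.isZero_rightDerived_obj _ _ (hR m)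
    · exact isZero_zero _
  obtain ⟨e1⟩ := SpVan.iso_row0 E a 2 le_rfl le_rfl ((p : ℕ) : ℤ) (hfin _) hz
  obtain ⟨e2⟩ := hE ((p : ℕ) : ℤ) 0
  rw [if_pos (by omega)] at e1
  rw [if_pos (by omega)] at e2
  simp only [Int.toNat_natCast, Int.toNat_zero] at e1 e2
  have e3 : ((T ⋙ S).rightDerived p).obj F ≅ AddCommGrpCat.of (CohSite.HU F p (u.obj U)) :=
    SiteSec.rightDerivedΓIso K (u.obj U) F p
  have e4 := (S.rightDerived p).mapIso ((T.rightDerivedZeroIsoSelf).app F)
  have e5 := SiteSec.rightDerivedΓIso J U (T.obj F) p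
  exact ⟨(e5.symm ≪≫ e4.symm ≪≫ e2.symm ≪≫ e1.symm ≪≫ e3).addCommGroupIsoToAddEquiv⟩


end Groth.Agent.S0937
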