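import Groth.Statements.S0888
import Mathlib
import Mathlib
import Groth.Agent.Lib.Helper5.Perf.PCBiprod

set_option autoImplicit false
universe u
open CategoryTheory
attribute [local instance] HasDerivedCategory.standard
open DCoh



namespace Groth.Agent.S0888

open AlgebraicGeometry CategoryTheory.Limits in
/-- Let K, L be objects of D(O_X) and m an integer. If the direct sum K ⊕ L is m-pseudo-coherent, then K
and L are m-pseudo-coherent. -/
theorem result {X : Scheme.{u}} (m : ℤ) (K L : DCoh.D X) [HasBinaryBiproduct K L]
    (h : DCoh.IsPseudoCoherentD m (K ⊞ L)) :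
    DCoh.IsPseudoCoherentD m K ∧ DCoh.IsPseudoCoherentD m L := by
  exact Groth.Agent.Lib.Helper5.PCBiprod.isPC_of_isBilimit m
    (CategoryTheory.Limits.BinaryBiproduct.bicone K L)
    (CategoryTheory.Limits.BinaryBiproduct.isBilimit K L) h

end Groth.Agent.S0888
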