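import Groth.Statements.S0894
import Groth.Agent.Lib.Helper6.HyperQI.CoskElem

set_option autoImplicit false
universe u
open CategoryTheory
open Hyper

namespace Groth.Agent.S0894

open Opposite in
/-- For a hypercovering K of an object X of a site with fibre products (a simplicial semi-representable
object over X; coskeleta are assumed to exist): (1) for each n the family K_n is a covering of X,
and (2) every face map d_i : K_{n+1} -> K_n is a covering morphism of semi-representable objects. -/
theorem result {C : Type u} [SmallCategory C] [Limits.HasPullbacks C]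
    (J : GrothendieckTopology C) (X : C) (K : SimplicialObject (Limits.FormalCoproduct.{u} (Over X)))
    [∀ (n : ℕ) (F : (SimplexCategory.Truncated n)ᵒᵖ ⥤ Limits.FormalCoproduct.{u} (Over X)),
      (SimplexCategory.Truncated.inclusion n).op.HasRightKanExtension F]
    (hK : Hyper.IsHypercovering J X K) :
    (∀ n : ℕ, Sieve.ofArrows (fun i => ((K.obj (op (SimplexCategory.mk n))).obj i).left)
      (fun i => ((K.obj (op (SimplexCategory.mk n))).obj i).hom) ∈ J X) ∧
    ∀ (n : ℕ) (i : Fin (n + 2)), Hyper.IsSRCovering (J.over X) (K.δ i) := by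
  have hK' : Sieve.ofArrows (fun i => ((K.obj (op (SimplexCategory.mk 0))).obj i).left)
      (fun i => ((K.obj (op (SimplexCategory.mk 0))).obj i).hom) ∈ J X ∧
    ∀ n : ℕ, IsSRCovering (J.over X)
      (((SimplicialObject.coskAdj n).unit.app K).app (op (SimplexCategory.mk (n + 1)))) := hK
  constructor
  · intro n
    obtain ⟨f, hf⟩ : ∃ f : K.obj (op (SimplexCategory.mk 0)) ⟶ K.obj (op (SimplexCategory.mk n)),
        f = K.map (SimplexCategory.const (SimplexCategory.mk n) (SimplexCategory.mk 0) 0).op :=
      ⟨_, rfl⟩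
    refine J.superset_covering ?_ hK'.1
    intro Z g hg
    obtain ⟨W, a, b, ⟨i⟩, hab⟩ := hg
    have h6 := Sieve.ofArrows_mk (fun i => ((K.obj (op (SimplexCategory.mk n))).obj i).left)
      (fun i => ((K.obj (op (SimplexCategory.mk n))).obj i).hom) (f.f i)
    have h7 := Sieve.downward_closed _ h6 (a ≫ (f.φ i).left)
    have h8 : (a ≫ (f.φ i).left) ≫ ((K.obj (op (SimplexCategory.mk n))).obj (f.f i)).hom = g := by
      rw [Category.assoc, Over.w, hab]
    rw [← h8]
    exact h7
  · intro n i
    obtain ⟨s, hs⟩ : ∃ s : K.obj (op (SimplexCategory.mk n)) ⟶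
        K.obj (op (SimplexCategory.mk (n + 1))), s ≫ K.δ i = 𝟙 _ := by
      by_cases h : i = Fin.last (n + 1)
      · exact ⟨K.σ (Fin.last n),
          SimplicialObject.δ_comp_σ_succ' (X := K) (h.trans (Fin.succ_last n).symm)⟩
      · exact ⟨K.σ (i.castPred h),
          SimplicialObject.δ_comp_σ_self' (X := K) (Fin.castSucc_castPred i h).symm⟩
    refine Groth.Agent.Lib.Helper6.HyperQI.isSRCovering_of_isLocallySurjective (J.over X) _ ?_
    apply Presheaf.isLocallySurjective_of_surjective
    intro U y
    have h2 : Groth.Agent.Lib.Helper6.HyperQI.FY.map s ≫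
        Groth.Agent.Lib.Helper6.HyperQI.FY.map (K.δ i) = 𝟙 _ := by
      rw [← CategoryTheory.Functor.map_comp, hs, CategoryTheory.Functor.map_id]
    exact ⟨(Groth.Agent.Lib.Helper6.HyperQI.FY.map s).app U y,
      types_congr_hom (congr_app h2 U) y⟩

end Groth.Agent.S0894
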