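import Groth.Statements.S6505
import Groth.Agent.Lib.Helper6.HyperQI.Tower

set_option autoImplicit false
universe u
open CategoryTheory
open Hyper

namespace Groth.Agent.S6505

open Opposite CategoryTheory.Limits in
/-- Let C be a small site with fibre products, X an object and K a hypercovering of X. Then the chain
complex of abelian sheaves Z[F(K)]^# on C/X has zero homology sheaves in all positive degrees and
its degree-0 homology sheaf is isomorphic to the sheafification of the constant presheaf Z on C/X
(which corresponds to Z_X^# = Z[h_X]^# on C; existence of an isomorphism only). -/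
theorem result {C : Type u} [SmallCategory C] [HasPullbacks C]
    (J : GrothendieckTopology C) (X : C) (K : SimplicialObject (FormalCoproduct.{u} (Over X)))
    [∀ (n : ℕ) (F : (SimplexCategory.Truncated n)ᵒᵖ ⥤ FormalCoproduct.{u} (Over X)),
      (SimplexCategory.Truncated.inclusion n).op.HasRightKanExtension F]
    (hK : Hyper.IsHypercovering J X K) :
    (∀ i : ℕ, IsZero ((Hyper.freeChainCx (J.over X) K).homology (i + 1))) ∧
    Nonempty ((Hyper.freeChainCx (J.over X) K).homology 0 ≅
      (presheafToSheaf (J.over X) AddCommGrpCat.{u}).obj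
        ((Functor.const (Over X)ᵒᵖ).obj (AddCommGrpCat.free.{u}.obj PUnit.{u + 1}))) := by
  have h0 : Groth.Agent.Lib.Helper6.HyperQI.LocNonempty (J.over X)
      ((K ⋙ Groth.Agent.Lib.Helper6.HyperQI.FY).obj (Opposite.op (SimplexCategory.mk 0))) :=
    Groth.Agent.Lib.Helper6.HyperQI.locNonempty_of_cover J X _ hK.1
  have hn : ∀ n : ℕ, Presheaf.IsLocallySurjective (J.over X)
      (((SimplicialObject.coskAdj n).unit.app (K ⋙ Groth.Agent.Lib.Helper6.HyperQI.FY)).app
        (Opposite.op (SimplexCategory.mk (n + 1)))) := by
    intro n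
    haveI := Groth.Agent.Lib.Helper6.HyperQI.isLocallySurjective_of_isSRCovering (J.over X) _
      (hK.2 n)
    rw [← Groth.Agent.Lib.Helper6.HyperQI.coskCompIso_unit
      Groth.Agent.Lib.Helper6.HyperQI.FY n K, NatTrans.comp_app, Functor.whiskerRight_app]
    infer_instance
  exact Groth.Agent.Lib.Helper6.HyperQI.tower_main (J.over X)
    (K ⋙ Groth.Agent.Lib.Helper6.HyperQI.FY) h0 hn

end Groth.Agent.S6505
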