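import Groth.Statements.S0898
import Mathlib

set_option autoImplicit false
universe u
open CategoryTheory
open Hyper

namespace Groth.Agent.S0898

section
open CategoryTheory
open Hyper CategoryTheory.Limits

variable {C : Type u} [SmallCategory C] (J : GrothendieckTopology C)

lemma mem_sieve {K L : FormalCoproduct.{u} C} (f : K ⟶ L) (j : L.I) {T : C} (h : T ⟶ L.obj j) :
    (Sieve.ofArrows (fun i : {i : K.I // f.f i = j} => K.obj i.1)
      (fun i => f.φ i.1 ≫ eqToHom (congrArg L.obj i.2))) h ↔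
    ∃ (i : K.I) (hi : f.f i = j) (a : T ⟶ K.obj i),
      a ≫ f.φ i ≫ eqToHom (congrArg L.obj hi) = h := by
  rw [Sieve.mem_ofArrows_iff]
  constructor
  · rintro ⟨⟨i, hi⟩, a, rfl⟩; exact ⟨i, hi, a, rfl⟩
  · rintro ⟨i, hi, a, rfl⟩; exact ⟨⟨i, hi⟩, a, rfl⟩

lemma comp_cov {K L M : FormalCoproduct.{u} C} (f : K ⟶ L) (g : L ⟶ M)
    (hf : IsSRCovering J f) (hg : IsSRCovering J g) : IsSRCovering J (f ≫ g) := by
  intro m
  refine J.transitive (hg m) _ (fun T h hh => ?_)
  obtain ⟨j, hj, a, rfl⟩ := (mem_sieve g m h).1 hh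
  refine J.superset_covering ?_ (J.pullback_stable a (hf j))
  intro T' b hb
  obtain ⟨i, hi, c, hc⟩ := (mem_sieve f j _).1 hb
  change (Sieve.ofArrows _ _) (b ≫ a ≫ g.φ j ≫ eqToHom _)
  rw [mem_sieve]
  subst hi
  subst hj
  refine ⟨i, rfl, c, ?_⟩
  simp only [eqToHom_refl, Category.comp_id] at hc ⊢
  rw [← Category.assoc b a, ← hc]
  simp

lemma iso_cov {K L : FormalCoproduct.{u} C} (e : K ≅ L) : IsSRCovering J e.hom := by
  intro j
  convert J.top_mem (L.obj j)
  rw [← Sieve.id_mem_iff_eq_top, mem_sieve]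
  have h1 : e.hom.f (e.inv.f j) = j :=
    congrFun (congrArg FormalCoproduct.Hom.f e.inv_hom_id) j
  refine ⟨e.inv.f j, h1, e.inv.φ j, ?_⟩
  have := ((FormalCoproduct.hom_ext_iff _ _).1 e.inv_hom_id).2 j
  simpa using this

lemma fst_cov [HasPullbacks C] {K L L' : FormalCoproduct.{u} C} (f : K ⟶ L) (g : L' ⟶ L)
    (hf : IsSRCovering J f) :
    IsSRCovering J (FormalCoproduct.pullbackCone g f (fun _ => pullback.cone _ _)).fst := by
  intro j'
  refine J.superset_covering ?_ (J.pullback_stable (g.φ j') (hf (g.f j')))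
  intro T h hh
  obtain ⟨k, hk, a, ha⟩ := (mem_sieve f (g.f j') _).1 hh
  rw [mem_sieve]
  let i : Function.Pullback g.f f.f := ⟨(j', k), hk.symm⟩
  have hcond : h ≫ (g.φ j' ≫ eqToHom (by rw [hk])) = a ≫ f.φ k := by
    rw [← Category.assoc, ← ha]
    simp
  refine ⟨i, rfl, pullback.lift h a hcond, ?_⟩
  change pullback.lift h a hcond ≫ pullback.fst _ _ ≫ 𝟙 _ = h
  rw [Category.comp_id, pullback.lift_fst]

theorem main :
    (∀ {K L M : FormalCoproduct.{u} C} (f : K ⟶ L) (g : L ⟶ M),
      Hyper.IsSRCovering J f → Hyper.IsSRCovering J g → Hyper.IsSRCovering J (f ≫ g)) ∧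
    (∀ [HasPullbacks C] {K L L' : FormalCoproduct.{u} C} (f : K ⟶ L) (g : L' ⟶ L),
      Hyper.IsSRCovering J f → HasPullback g f ∧ ∀ [HasPullback g f], Hyper.IsSRCovering J (pullback.fst g f)) := by
  refine ⟨fun f g hf hg => comp_cov J f g hf hg, ?_⟩
  intro _ K L L' f g hf
  refine ⟨inferInstance, ?_⟩
  intro hp
  have hlim := FormalCoproduct.isLimitPullbackCone g f
    (fun i => pullback.cone (g.φ i.1.1 ≫ eqToHom (by rw [i.2])) (f.φ i.1.2))
    (fun _ => pullback.isLimit _ _)
  let e := (limit.isLimit (cospan g f)).conePointUniqueUpToIso hlim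
  have he : pullback.fst g f = e.hom ≫
      (FormalCoproduct.pullbackCone g f (fun _ => pullback.cone _ _)).fst :=
    (IsLimit.conePointUniqueUpToIso_hom_comp _ _ WalkingCospan.left).symm
  rw [he]
  exact comp_cov J _ _ (iso_cov J e) (fst_cov J f g hf)


end


open CategoryTheory.Limits in
/-- Parts (1) and (2), about covering morphisms between semi-representable objects (formal coproducts)
of a site: (1) the composite of two covering morphisms is a covering, and (2) for a site with fibre
products, the base change of a covering K -> L along any L' -> L (which exists) is a covering L' x_L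
K -> L'. -/
theorem result {C : Type u} [SmallCategory C] (J : GrothendieckTopology C) :
    (∀ {K L M : FormalCoproduct.{u} C} (f : K ⟶ L) (g : L ⟶ M),
      Hyper.IsSRCovering J f → Hyper.IsSRCovering J g → Hyper.IsSRCovering J (f ≫ g)) ∧
    (∀ [HasPullbacks C] {K L L' : FormalCoproduct.{u} C} (f : K ⟶ L) (g : L' ⟶ L),
      Hyper.IsSRCovering J f → HasPullback g f ∧ ∀ [HasPullback g f], Hyper.IsSRCovering J (pullback.fst g f)) := by
  classical
  exact main J

end Groth.Agent.S0898
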