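import Groth.Statements.S0904
import Mathlib

set_option autoImplicit false
universe u
open CategoryTheory
open CohTop

namespace Groth.Agent.S0904

open CategoryTheory Limits TopologicalSpace


theorem pullback_pfl {X Y : TopCat.{u}} (f : X ⟶ Y) : PreservesFiniteLimits ((Opens.map f).sheafPullback AddCommGrpCat.{u} (Opens.grothendieckTopology ↑Y) (Opens.grothendieckTopology ↑X)) := by
  exact CategoryTheory.Functor.SmallCategories.instPreservesFiniteLimitsSheafSheafPullbackOfRepresentablyFlat (Opens.map f) AddCommGrpCat.{u} _ _

theorem push_inj {X Y : TopCat.{u}} (f : X ⟶ Y) (I : CohTop.Ab X) [hI : Injective I] :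
    Injective ((CohTop.push f).obj I) := by
  have h1 : PreservesFiniteLimits (TopCat.Sheaf.pullback AddCommGrpCat.{u} f) := pullback_pfl f
  have h2 : (TopCat.Sheaf.pullback AddCommGrpCat.{u} f).PreservesMonomorphisms := inferInstance
  exact @Injective.injective_of_adjoint _ _ _ _ _ _ h2
    (TopCat.Sheaf.pullbackPushforwardAdjunction AddCommGrpCat.{u} f) I hI

/-- Abelian sheaves, for which every continuous map is flat: for a continuous map f : X -> Y and an
injective abelian sheaf I on X, the direct image f_* I is an injective abelian sheaf on Y. -/
theorem result {X Y : TopCat.{u}} (f : X ⟶ Y) (I : CohTop.Ab X) [Injective I] :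
    Injective ((CohTop.push f).obj I) := by
  exact push_inj f I

end Groth.Agent.S0904
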