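import Groth.Statements.S0916
import Mathlib
import Mathlib
import Groth.Agent.Lib.Helper5.KFlatSite2.TorOne

set_option autoImplicit false
universe u
open CategoryTheory
attribute [local instance] HasDerivedCategory.standard
open DCoh



namespace Groth.Agent.S0916

open AlgebraicGeometry CategoryTheory.Limits in
/-- Flatness of an O_X-module F (all stalks flat) is equivalent to the following Tor-vanishing: for
every O_X-module G the sheaf Tor_1(F, G), i.e. H^{-1} of F ⊗^L G, vanishes; the existence of the
derived tensor product with every G is assumed (hypothesis hL). -/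
theorem result {X : Scheme.{u}} (F : X.Modules) (hL : ∀ G : X.Modules, DCoh.HasLTensorMod G) :
    FlatMod.IsFlat F ↔ ∀ (G : X.Modules) [DCoh.HasLTensorMod G],
      IsZero (DCoh.HD ((DCoh.LTensorMod G).obj (DCoh.inD X F)) (-1)) := by
  constructor
  · intro hF G _
    exact Groth.Agent.Lib.Helper5.Pure.isZero_tor_one_of_flat F hF G
  · intro h
    exact Groth.Agent.Lib.Helper5.Pure.flat_of_tor_one_vanishes F hL h

end Groth.Agent.S0916
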