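import Groth.Statements.S0919
import Mathlib

set_option autoImplicit false
universe v u
open CategoryTheory
open CohDer

namespace Groth.Agent.S0919

open CategoryTheory Limits Opposite



theorem rep_of_pres {A : Type u} [Category.{v} A] [Abelian A]
    [IsGrothendieckAbelian.{v} A] (F : Aᵒᵖ ⥤ Type v) :
    F.IsRepresentable ↔ PreservesLimitsOfSize.{v, v} F := by
  constructor
  · intro h
    exact preservesLimits_of_natIso (F.reprW)
  · intro h
    have hsep : (ObjectProperty.singleton (separator A)).IsSeparating := isSeparator_separator A
    have hcosep : (ObjectProperty.singleton (separator A)).op.IsCoseparating :=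
      (ObjectProperty.isCoseparating_op_iff _).2 hsep
    have : F.IsRightAdjoint :=
      isRightAdjoint_of_preservesLimits_of_isCoseparating.{v} hcosep F
    let L := F.leftAdjoint
    let adj : L ⊣ F := Adjunction.ofIsRightAdjoint F
    let Z : Aᵒᵖ := L.obj PUnit
    refine ⟨unop Z, ⟨{ homEquiv := fun {X} => ?_, homEquiv_comp := ?_ }⟩⟩
    · exact (opEquiv (op (unop Z)) (op X)).symm.trans
        ((adj.homEquiv PUnit (op X)).trans (TypeCat.homEquiv.trans (Equiv.funUnique PUnit _)))
    · intro X X' f g
      simp only [Equiv.trans_apply, Equiv.funUnique_apply, TypeCat.homEquiv_apply]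
      have : (opEquiv (op (unop Z)) (op X)).symm (f ≫ g) =
          (opEquiv (op (unop Z)) (op X')).symm g ≫ f.op := rfl
      rw [this, Adjunction.homEquiv_naturality_right]
      rfl

open CategoryTheory.Limits in
/-- Let A be a Grothendieck abelian category and F a contravariant functor from A to sets (a functor on
the opposite category). Then F is representable if and only if F turns all small colimits of A into
limits, i.e. preserves small limits as a functor on the opposite category. -/
theorem result {A : Type u} [Category.{v} A] [Abelian A]
    [IsGrothendieckAbelian.{v} A] (F : Aᵒᵖ ⥤ Type v) :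
    F.IsRepresentable ↔ PreservesLimitsOfSize.{v, v} F := by
  exact rep_of_pres F

end Groth.Agent.S0919
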