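import Groth.Statements.S0925
import Mathlib
import Groth.Agent.Lib.Helper5.Misc.SectSuppAdj

set_option autoImplicit false
universe u
open CategoryTheory
open CohTop

open Groth.Agent.Lib.Helper5 CategoryTheory.Limits

namespace Groth.Agent.S0925

open TopologicalSpace in
/-- For an open U of X with closed complement Z and an injective abelian sheaf I on X, the sheaf H_Z(I),
the sheaf on Z of sections of I supported in Z (pullback to Z of the kernel of I -> j_* j^{-1} I, j
: U -> X), is an injective abelian sheaf on Z. -/
theorem result {X : TopCat.{u}} (U : Opens X) (I : CohTop.Ab X) [Injective I] :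
    Injective (CohCx.HZ U I) := by
  have adj := SectSuppAdj.adjunction U
  haveI : PreservesLimitsOfSize.{0, 0} (CohTop.push (CohCx.inclCompl U)) :=
    (TopCat.Sheaf.pullbackPushforwardAdjunction AddCommGrpCat.{u}
      (CohCx.inclCompl U)).rightAdjoint_preservesLimits
  haveI : PreservesLimitsOfShape Limits.WalkingCospan (CohTop.push (CohCx.inclCompl U)) :=
    inferInstance
  haveI : (CohTop.push (CohCx.inclCompl U)).PreservesMonomorphisms :=
    preservesMonomorphisms_of_preservesLimitsOfShape _
  exact Injective.injective_of_adjoint adj I

end Groth.Agent.S0925
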