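import Groth.Statements.S0930
import Mathlib
import Groth.Agent.Lib.Helper5.Misc.RPlusIso
import Groth.Agent.S0462

set_option autoImplicit false
universe u
open CategoryTheory
attribute [local instance] HasDerivedCategory.standard
open CohTop

open Groth.Agent.Lib.Helper5.Misc

namespace Groth.Agent.S0930

/-- For continuous maps f : X -> Y and g : Y -> Z, the composite of the right derived functors Rf_* :
D^+(X) -> D^+(Y) and Rg_* : D^+(Y) -> D^+(Z) is isomorphic to R(g ∘ f)_* (existence of an
isomorphism of functors between bounded below derived categories). -/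
theorem result {X Y Z : TopCat.{u}} (f : X ⟶ Y) (g : Y ⟶ Z) :
    Nonempty ((CohTop.push f).rightDerivedFunctorPlus ⋙ (CohTop.push g).rightDerivedFunctorPlus ≅
      (CohTop.push (f ≫ g)).rightDerivedFunctorPlus) := by
  have e : CohTop.push (f ≫ g) ≅ CohTop.push f ⋙ CohTop.push g := Iso.refl _
  have := RPlusIso.isIso_rPlusDesc₂ e.hom
  exact ⟨(asIso (EtSix.rPlusDesc₂ e.hom)).symm⟩

end Groth.Agent.S0930
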