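import Groth.Statements.S5844
import Mathlib
import Groth.Agent.S5842
import Groth.Agent.S5845

set_option autoImplicit false
universe u
open ZClos

namespace Groth.Agent.S5844

section

open CategoryTheory Limits AlgebraicGeometry TopologicalSpace Opposite
open Groth.Agent ZClos

variable {X : Scheme.{u}}

lemma mono_iff_app_injective {M N : X.Modules} (φ : M ⟶ N) :
    Mono φ ↔ ∀ U : X.Opens, Function.Injective (φ.app U) := by
  constructor
  · intro h U
    haveI : Mono ((Scheme.Modules.toPresheaf X).map φ) := inferInstance
    have h2 : Mono (((Scheme.Modules.toPresheaf X).map φ).app (op U)) := inferInstance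
    exact (AddCommGrpCat.mono_iff_injective _).1 h2
  · intro h
    apply Functor.mono_of_mono_map (Scheme.Modules.toPresheaf X)
    haveI : ∀ U, Mono (((Scheme.Modules.toPresheaf X).map φ).app U) := by
      intro U
      exact (AddCommGrpCat.mono_iff_injective _).2 (h U.unop)
    apply NatTrans.mono_of_mono_app

lemma toDiagram_app_inj (Z : Set X) (F : X.Modules) (T : ZClos.Cl Z)
    (h : Mono (toDiagram Z F T)) (V : X.Opens) :
    Function.Injective (S5845.res F (T.U.ι.image_preimage_le V)) :=
  (mono_iff_app_injective ((resPushUnit T.U).app F)).1 h V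

lemma toDiagram_mono_of (Z : Set X) (F : X.Modules) (T : ZClos.Cl Z)
    (h : ∀ V : X.Opens, Function.Injective (S5845.res F (T.U.ι.image_preimage_le V))) :
    Mono (toDiagram Z F T) :=
  (mono_iff_app_injective ((resPushUnit T.U).app F)).2 h

theorem main (X : Scheme.{u}) (Z : Set X) (F : X.Modules) :
    ZClos.IsZPure Z F ↔ ∀ (T : ZClos.Cl Z) (V : X.Opens), IsCompact (V : Set X) →
      Function.Injective (F.presheaf.map (homOfLE (inf_le_left : V ⊓ T.U ≤ V)).op) := by
  rw [S5842.main X Z F]
  have hsub : ∀ (T : ZClos.Cl Z) (W : X.Opens), T.U.ι ''ᵁ T.U.ι ⁻¹ᵁ W = T.U ⊓ W :=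
    fun T W => ι_image_preimage _ _
  constructor
  · intro h T V _
    have h2 := toDiagram_app_inj Z F T (h T) V
    have eA : T.U.ι ''ᵁ T.U.ι ⁻¹ᵁ V = V ⊓ T.U := by rw [ι_image_preimage, inf_comm]
    intro s t hst
    apply h2
    apply S5845.res_inj_of_eq F eA.ge eA.le
    change S5845.res F _ (S5845.res F _ s) = S5845.res F _ (S5845.res F _ t)
    rw [S5845.res_res, S5845.res_res]
    exact hst
  · intro h T
    apply toDiagram_mono_of
    intro W s t hst
    apply TopCat.Presheaf.IsSheaf.section_ext F.isSheaf
    intro x hx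
    obtain ⟨V, hVc, hxV, hVW⟩ := S5845.basis_compact W x hx
    refine ⟨V, hVW, hxV, ?_⟩
    apply h T V hVc
    change S5845.res F _ (S5845.res F hVW s) = S5845.res F _ (S5845.res F hVW t)
    rw [S5845.res_res, S5845.res_res]
    have hle : V ⊓ T.U ≤ T.U.ι ''ᵁ T.U.ι ⁻¹ᵁ W := by
      rw [hsub]; exact le_inf inf_le_right (inf_le_left.trans hVW)
    have := congrArg (S5845.res F hle) hst
    rw [S5845.res_res, S5845.res_res] at this
    exact this


end


open CategoryTheory CategoryTheory.Limits AlgebraicGeometry in
/-- a) ⇔ b'), injective case: for a locally Noetherian scheme X, a subset Z of X stable under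
specialization and an arbitrary O_X-module F, F is Z-pure if and only if for every closed subset T
of X contained in Z and every quasi-compact (that is, Noetherian) open subset V of X, the
restriction map Γ(V, F) → Γ(V ∩ (X ∖ T), F) is injective. -/
theorem result (X : Scheme.{u}) [IsLocallyNoetherian X] (Z : Set X)
    (hZ : StableUnderSpecialization Z) (F : X.Modules) :
    ZClos.IsZPure Z F ↔ ∀ (T : ZClos.Cl Z) (V : X.Opens), IsCompact (V : Set X) →
      Function.Injective (F.presheaf.map (homOfLE (inf_le_left : V ⊓ T.U ≤ V)).op) := by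
  classical
  exact main X Z F

end Groth.Agent.S5844
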