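import Groth.Statements.S5852
import Mathlib
import Groth.Agent.S5850
import Groth.Agent.S5844

set_option autoImplicit false
universe u
open ZClos

namespace Groth.Agent.S5852

section

open CategoryTheory Limits AlgebraicGeometry TopologicalSpace Opposite
open Groth.Agent ZClos

variable {X : Scheme.{u}}

lemma support_lemma' [IsLocallyNoetherian X] (Z : Set X) (hZ : StableUnderSpecialization Z)
    (F : X.Modules) (A : X.Opens) [NoetherianSpace (A : Set X)] (s : Γ(F, A))
    (hs : ∀ (y : X) (hy : y ∈ A), y ∉ Z → F.presheaf.germ A y hy s = 0) :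
    ∃ T' : Cl Z, ∀ (B : X.Opens) (hB : B ≤ A), Disjoint (B : Set X) (T'.1 : Set X) →
      S5845.res F hB s = 0 := by
  haveI := S5870.quasiSober_opens A
  let S : Set A := {y : A | F.presheaf.germ A y.1 y.2 s ≠ 0}
  have hS : IsClosed S := by
    rw [← isOpen_compl_iff]
    have : Sᶜ = {y : A | F.presheaf.germ A y.1 y.2 s = 0} := by
      ext y; exact not_not
    rw [this]; exact S5870.isOpen_germ_zero F A s
  have hSZ : Subtype.val '' S ⊆ Z := by
    rintro _ ⟨y, hy, rfl⟩
    by_contra hyZ
    exact hy (hs y.1 y.2 hyZ)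
  have hcl := S5870.closure_subset_of_noetherian (A : Set X) Z hZ S hS hSZ
  refine ⟨⟨⟨closure (Subtype.val '' S), isClosed_closure⟩, hcl⟩, ?_⟩
  intro B hB hdisj
  apply TopCat.Presheaf.section_ext ⟨F.presheaf, F.isSheaf⟩
  intro y hyB
  rw [map_zero]
  show F.presheaf.germ B y hyB (F.presheaf.map (homOfLE hB).op s) = 0
  rw [F.presheaf.germ_res_apply (homOfLE hB) y hyB s]
  by_contra hne
  have hyS : (⟨y, hB hyB⟩ : A) ∈ S := hne
  have : y ∈ closure (Subtype.val '' S) := subset_closure ⟨⟨y, hB hyB⟩, hyS, rfl⟩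
  exact Set.disjoint_left.1 hdisj hyB this

/-- a section of a Z-pure module over a compact open whose germs vanish outside `Z` is zero -/
lemma eq_zero_of_pure [IsLocallyNoetherian X] (Z : Set X) (hZ : StableUnderSpecialization Z)
    (G : X.Modules) (hG : IsZPure Z G) (V : X.Opens) (hV : IsCompact (V : Set X)) (s : Γ(G, V))
    (hs : ∀ (y : X) (hy : y ∈ V), y ∉ Z → G.presheaf.germ V y hy s = 0) : s = 0 := by
  haveI := S5870.noetherianSpace_of_le V hV V le_rfl
  obtain ⟨T', hT'⟩ := support_lemma' Z hZ G V s hs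
  have hinj := (S5844.main X Z G).1 hG T' V hV
  apply hinj
  rw [map_zero]
  refine hT' (V ⊓ T'.U) inf_le_left ?_
  rw [Set.disjoint_left]
  intro y hy hyT'
  exact hy.2 hyT'

lemma app_res {M N : X.Modules} (φ : M ⟶ N) {W V : X.Opens} (hWV : W ≤ V) (s : Γ(M, V)) :
    φ.app W (S5845.res M hWV s) = S5845.res N hWV (φ.app V s) := by
  unfold S5845.res
  have hnat := φ.mapPresheaf.naturality (homOfLE hWV).op
  exact ConcreteCategory.congr_hom hnat s

lemma mono_of_stalk_inj [IsLocallyNoetherian X] (Z : Set X) (hZ : StableUnderSpecialization Z)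
    {G G' : X.Modules} (hG : IsZPure Z G) (v : G ⟶ G')
    (hv : ∀ x, x ∉ Z → Function.Injective ((S5849.Phi x).map v)) : Mono v := by
  rw [S5844.mono_iff_app_injective]
  intro V
  rw [injective_iff_map_eq_zero]
  intro s hs
  apply TopCat.Presheaf.IsSheaf.section_ext G.isSheaf
  intro x hx
  obtain ⟨W, hWc, hxW, hWV⟩ := S5845.basis_compact V x hx
  refine ⟨W, hWV, hxW, ?_⟩
  rw [map_zero]
  apply eq_zero_of_pure Z hZ G hG W hWc
  intro y hy hyZ
  apply hv y hyZ
  have h1 : v.app W (G.presheaf.map (homOfLE hWV).op s) = 0 := by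
    have := app_res v hWV s
    unfold S5845.res at this
    rw [this, hs, map_zero]
  refine (S5850.Phi_map_germ v y hy _).trans ?_
  rw [h1, map_zero]
  exact (map_zero _).symm

lemma mono_unit_cokernel (U : X.Opens) {G G' : X.Modules} (v : G ⟶ G') [Mono v]
    (hG : IsIso ((resPushUnit U).app G)) (hG' : IsIso ((resPushUnit U).app G')) :
    Mono ((resPushUnit U).app (cokernel v)) := by
  let R₁ : ComposableArrows X.Modules 2 := ComposableArrows.mk₂ v (cokernel.π v)
  let R₂ : ComposableArrows X.Modules 2 :=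
    ComposableArrows.mk₂ ((resPush U).map v) ((resPush U).map (cokernel.π v))
  let φ : R₁ ⟶ R₂ := ComposableArrows.homMk₂ ((resPushUnit U).app G) ((resPushUnit U).app G')
    ((resPushUnit U).app (cokernel v)) ((resPushUnit U).naturality v)
    ((resPushUnit U).naturality (cokernel.π v))
  have hR₂ : R₂.Exact := by
    let S : ShortComplex X.Modules := ShortComplex.mk v (cokernel.π v) (cokernel.condition v)
    have hS : S.Exact := ShortComplex.exact_cokernel v
    have hS' : (S.map (resPush U)).Exact :=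
      hS.map_of_mono_of_preservesKernel (resPush U) inferInstance inferInstance
    exact hS'.exact_toComposableArrows
  have h0 : R₁.map' 0 2 = 0 := by
    have : R₁.map' 0 2 = v ≫ cokernel.π v := rfl
    rw [this]; exact cokernel.condition v
  have h1 : Epi (R₁.map' 1 2) := (inferInstance : Epi (cokernel.π v))
  have h2 : Epi (ComposableArrows.app' φ 0) := by
    have : IsIso (ComposableArrows.app' φ 0) := hG
    infer_instance
  have h3 : Mono (ComposableArrows.app' φ 1) := by
    have : IsIso (ComposableArrows.app' φ 1) := hG'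
    infer_instance
  exact Abelian.mono_of_epi_of_epi_mono' φ h0 h1 hR₂ h2 h3

lemma Phi_map_zero (x : X) (G G' : X.Modules) (c : (S5849.Phi x).obj G) :
    (S5849.Phi x).map (0 : G ⟶ G') c = 0 := by
  obtain ⟨U, hxU, s, rfl⟩ := G.presheaf.exists_germ_eq c
  refine (S5850.Phi_map_germ (0 : G ⟶ G') x hxU s).trans ?_
  rw [Scheme.Modules.Hom.zero_app]
  exact map_zero _

lemma stalk_cokernel_subsingleton {G G' : X.Modules} (v : G ⟶ G') (x : X)
    (hv : Function.Surjective ((S5849.Phi x).map v)) :
    Subsingleton ((cokernel v).presheaf.stalk x) := by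
  have hπ : Function.Surjective ((S5849.Phi x).map (cokernel.π v)) := by
    haveI : PreservesColimitsOfSize.{0, 0} (S5849.Phi x) :=
      preservesColimitsOfSize_shrink.{0, u, 0, u} _
    haveI : Epi ((S5849.Phi x).map (cokernel.π v)) := inferInstance
    exact (AddCommGrpCat.epi_iff_surjective _).1 this
  have hz : ∀ c, (S5849.Phi x).map (cokernel.π v) ((S5849.Phi x).map v c) = 0 := by
    intro c
    rw [← ConcreteCategory.comp_apply, ← Functor.map_comp, cokernel.condition]
    exact Phi_map_zero x _ _ c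
  constructor
  intro a b
  obtain ⟨a', rfl⟩ := hπ a
  obtain ⟨b', rfl⟩ := hπ b
  obtain ⟨a'', rfl⟩ := hv a'
  obtain ⟨b'', rfl⟩ := hv b'
  rw [hz, hz]

theorem isIso_of_closed [IsLocallyNoetherian X] (Z : Set X) (hZ : StableUnderSpecialization Z)
    {G G' : X.Modules} (hG : IsZClosed Z G) (hG' : IsZClosed Z G') (v : G ⟶ G')
    (hv : ∀ x, x ∉ Z → Function.Bijective ((S5849.Phi x).map v)) : IsIso v := by
  have hGp : IsZPure Z G := by
    haveI : IsIso (rhoApp Z G) := hG
    exact (inferInstance : Mono (rhoApp Z G))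
  haveI : Mono v := mono_of_stalk_inj Z hZ hGp v (fun x hx => (hv x hx).1)
  have hCp : IsZPure Z (cokernel v) := by
    rw [S5842.main X Z]
    intro T
    exact mono_unit_cokernel T.U v (S5843.isIso_toDiagram_of_isZClosed Z G hG T)
      (S5843.isIso_toDiagram_of_isZClosed Z G' hG' T)
  have hC0 : IsZero ((H0 Z).obj (cokernel v)) :=
    (S5870.main X Z hZ _).2 (fun x hx => stalk_cokernel_subsingleton v x (hv x hx).2)
  have hC : IsZero (cokernel v) := by
    haveI : Mono (rhoApp Z (cokernel v)) := hCp
    exact IsZero.of_mono (rhoApp Z (cokernel v)) hC0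
  haveI : Epi v := Abelian.epi_of_cokernel_π_eq_zero _ (hC.eq_of_tgt _ _)
  exact isIso_of_mono_of_epi v

theorem main (X : Scheme.{u}) [IsLocallyNoetherian X] (Z : Set X)
    (hZ : StableUnderSpecialization Z) (F F' : X.Modules) (hF' : ZClos.IsZClosed Z F') (u : F ⟶ F')
    (hu : ∀ x : X, x ∉ Z →
      Function.Bijective ((TopCat.Presheaf.stalkFunctor (C := Ab.{u}) x).map u.mapPresheaf))
    (v : (ZClos.H0 Z).obj F ⟶ F') (hv : ZClos.rhoApp Z F ≫ v = u) : IsIso v := by
  apply isIso_of_closed Z hZ (S5850.main X Z hZ F) hF' v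
  intro x hx
  have h1 : (S5849.Phi x).map (rhoApp Z F) ≫ (S5849.Phi x).map v = (S5849.Phi x).map u := by
    rw [← Functor.map_comp, hv]
  have hρ : Function.Bijective ((S5849.Phi x).map (rhoApp Z F)) := S5849.main X Z F x hx
  have hu' : Function.Bijective ((S5849.Phi x).map u) := hu x hx
  have h2 : ⇑(ConcreteCategory.hom ((S5849.Phi x).map v)) ∘
      ⇑(ConcreteCategory.hom ((S5849.Phi x).map (rhoApp Z F))) =
      ⇑(ConcreteCategory.hom ((S5849.Phi x).map u)) := by
    rw [← h1]; rfl
  rw [← h2] at hu'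
  exact (Function.Bijective.of_comp_iff _ hρ).1 hu'


end


open CategoryTheory CategoryTheory.Limits AlgebraicGeometry in
/-- For a locally Noetherian scheme X, a subset Z of X stable under specialization, O_X-modules F and F'
with F' Z-closed, and a homomorphism u : F → F' whose kernel and cokernel have support inside Z (the
map induced by u on stalks is bijective at every point outside Z): the homomorphism v : H⁰_{X/Z}(F)
→ F' with u = v ∘ ρ_{X/Z} is an isomorphism. -/
theorem result (X : Scheme.{u}) [IsLocallyNoetherian X] (Z : Set X)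
    (hZ : StableUnderSpecialization Z) (F F' : X.Modules) (hF' : ZClos.IsZClosed Z F') (u : F ⟶ F')
    (hu : ∀ x : X, x ∉ Z →
      Function.Bijective ((TopCat.Presheaf.stalkFunctor (C := Ab.{u}) x).map u.mapPresheaf))
    (v : (ZClos.H0 Z).obj F ⟶ F') (hv : ZClos.rhoApp Z F ≫ v = u) : IsIso v := by
  classical
  exact main X Z hZ F F' hF' u hu v hv

end Groth.Agent.S5852
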