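import Groth.Statements.S0934
import Mathlib
import Groth.Agent.Lib.Helper1.ModTriv
import Groth.Agent.S5852

set_option autoImplicit false
universe u
open CategoryTheory
open Coh

namespace Groth.Agent.S0934

section
open CategoryTheory
open CategoryTheory.Limits AlgebraicGeometry TopologicalSpace Opposite
open Groth.Agent Groth.Agent.Helper1

variable {Y : Scheme.{u}}

/-- the morphism `O ⟶ N` attached to a global section -/
noncomputable def homOfSec (N : Y.Modules) (σ : Γ(N, ⊤)) : Coh.structureModule Y ⟶ N :=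
  (SheafOfModules.unitHomEquiv N).symm (ModTriv.secOfTop N σ)

theorem homOfSec_app (N : Y.Modules) (σ : Γ(N, ⊤)) (W : Y.Opens) (r : Γ(Y, W)) :
    (Scheme.Modules.Hom.app (M := Coh.structureModule Y) (N := N) (homOfSec N σ) W) r =
      r • N.presheaf.map (homOfLE (le_top : W ≤ ⊤)).op σ := rfl

/-- a map out of the structure sheaf is determined by the image of `1` -/
theorem hom_unit_ext (N : Y.Modules) (a b : Coh.structureModule Y ⟶ N)
    (h : (Scheme.Modules.Hom.app (M := Coh.structureModule Y) (N := N) a ⊤) (1 : Γ(Y, ⊤)) =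
      (Scheme.Modules.Hom.app (M := Coh.structureModule Y) (N := N) b ⊤) (1 : Γ(Y, ⊤))) : a = b := by
  apply (SheafOfModules.unitHomEquiv N).injective
  ext V
  rw [SheafOfModules.unitHomEquiv_apply_coe, SheafOfModules.unitHomEquiv_apply_coe]
  have h1 : ∀ c : Coh.structureModule Y ⟶ N, c.val.app V (1 : (Y.ringCatSheaf).obj.obj V) =
      N.presheaf.map (homOfLE (le_top : V.unop ≤ ⊤)).op
        ((Scheme.Modules.Hom.app (M := Coh.structureModule Y) (N := N) c ⊤) (1 : Γ(Y, ⊤))) := by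
    intro c
    have hn := NatTrans.naturality_apply c.mapPresheaf (homOfLE (le_top : V.unop ≤ ⊤)).op
      (1 : Γ(Y, ⊤))
    refine Eq.trans ?_ hn
    have h1' : (1 : (Y.ringCatSheaf).obj.obj V) =
        (Y.presheaf.map (homOfLE (le_top : V.unop ≤ ⊤)).op).hom (1 : Γ(Y, ⊤)) := (map_one _).symm
    rw [h1']
    rfl
  rw [h1 a, h1 b, h]


/-- local lifting of sections along an epimorphism -/
theorem exists_local_lift {G' F' : Y.Modules} (p' : G' ⟶ F') [Epi p'] (σ : Γ(F', ⊤)) (y : Y) :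
    ∃ (W₀ : Y.Opens) (γ : Γ(G', W₀)), y ∈ W₀ ∧
      p'.app W₀ γ = F'.presheaf.map (homOfLE (le_top : W₀ ≤ ⊤)).op σ := by
  have hπ : Function.Surjective ((S5849.Phi y).map p') := by
    haveI : PreservesColimitsOfSize.{0, 0} (S5849.Phi y) :=
      preservesColimitsOfSize_shrink.{0, u, 0, u} _
    haveI : Epi ((S5849.Phi y).map p') := inferInstance
    exact (AddCommGrpCat.epi_iff_surjective _).1 this
  obtain ⟨c, hc⟩ := hπ (F'.presheaf.germ ⊤ y trivial σ)
  obtain ⟨W₁, hyW₁, γ₁, rfl⟩ := G'.presheaf.exists_germ_eq c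
  have h2 : F'.presheaf.germ W₁ y hyW₁ (p'.app W₁ γ₁) = F'.presheaf.germ ⊤ y trivial σ := by
    rw [← S5850.Phi_map_germ p' y hyW₁ γ₁]; exact hc
  obtain ⟨W₀, hyW₀, i1, i2, h3⟩ := TopCat.Presheaf.germ_eq F'.presheaf y hyW₁ (show y ∈ (⊤ : Y.Opens) from trivial) _ _ h2
  refine ⟨W₀, G'.presheaf.map i1.op γ₁, hyW₀, ?_⟩
  have h4 := S5852.app_res p' (leOfHom i1) γ₁
  have h5 : p'.app W₀ (G'.presheaf.map i1.op γ₁) = F'.presheaf.map i1.op (p'.app W₁ γ₁) := h4
  rw [h5]
  exact h3


theorem exists_lift_restrict {W : Scheme.{u}} (j : W ⟶ Y) [IsOpenImmersion j]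
    {G' F' : Y.Modules} (p' : G' ⟶ F') (f : Coh.structureModule Y ⟶ F')
    (W₀ : Y.Opens) (hj : j ''ᵁ (j ⁻¹ᵁ ⊤) ≤ W₀) (γ : Γ(G', W₀))
    (hγ : p'.app W₀ γ = F'.presheaf.map (homOfLE (le_top : W₀ ≤ ⊤)).op
      ((Scheme.Modules.Hom.app (M := Coh.structureModule Y) (N := F') f ⊤) (1 : Γ(Y, ⊤)))) :
    ∃ g : (Scheme.Modules.restrictFunctor j).obj (Coh.structureModule Y) ⟶
        (Scheme.Modules.restrictFunctor j).obj G',
      g ≫ (Scheme.Modules.restrictFunctor j).map p' = (Scheme.Modules.restrictFunctor j).map f := by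
  let adj := Scheme.Modules.restrictAdjunction j
  let γ' : Γ((Scheme.Modules.pushforward j).obj ((Scheme.Modules.restrictFunctor j).obj G'), ⊤) :=
    G'.presheaf.map (homOfLE hj).op γ
  refine ⟨(adj.homEquiv _ _).symm (homOfSec _ γ'), ?_⟩
  apply (adj.homEquiv _ _).injective
  rw [Adjunction.homEquiv_naturality_right, Equiv.apply_symm_apply, Adjunction.homEquiv_unit]
  have hnat : adj.unit.app (Coh.structureModule Y) ≫
      (Scheme.Modules.pushforward j).map ((Scheme.Modules.restrictFunctor j).map f) =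
      f ≫ adj.unit.app F' := (adj.unit.naturality f).symm
  rw [hnat]
  apply hom_unit_ext
  rw [Scheme.Modules.Hom.comp_app, Scheme.Modules.Hom.comp_app, ConcreteCategory.comp_apply,
    ConcreteCategory.comp_apply, homOfSec_app, one_smul]
  have h1 : ((Scheme.Modules.pushforward j).obj ((Scheme.Modules.restrictFunctor j).obj G')).presheaf.map
      (homOfLE (le_top : (⊤ : Y.Opens) ≤ ⊤)).op γ' = γ' := by
    have : (homOfLE (le_top : (⊤ : Y.Opens) ≤ ⊤)) = 𝟙 _ := Subsingleton.elim _ _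
    rw [this, op_id, CategoryTheory.Functor.map_id]
    rfl
  rw [h1]
  have h2 : (adj.unit.app F').app ⊤ = F'.presheaf.map (homOfLE (j.image_preimage_le ⊤)).op :=
    Scheme.Modules.restrictAdjunction_unit_app_app j F' ⊤
  rw [h2]
  change p'.app (j ''ᵁ (j ⁻¹ᵁ ⊤)) (G'.presheaf.map (homOfLE hj).op γ) = _
  have h3 := S5852.app_res p' hj γ
  have h4 : p'.app (j ''ᵁ (j ⁻¹ᵁ ⊤)) (G'.presheaf.map (homOfLE hj).op γ) =
      F'.presheaf.map (homOfLE hj).op (p'.app W₀ γ) := h3
  rw [h4, hγ, ← ConcreteCategory.comp_apply, ← Functor.map_comp]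
  rfl


lemma mem_finset_inf {I : Type} {Z : Type*} [TopologicalSpace Z] (S : Finset I) (W : I → Opens Z) (x : Z) :
    x ∈ S.inf W ↔ ∀ i ∈ S, x ∈ W i := by
  classical
  induction S using Finset.induction_on with
  | empty => simp
  | insert a S ha ih =>
    rw [Finset.inf_insert]
    constructor
    · rintro ⟨h1, h2⟩ i hi
      rcases Finset.mem_insert.1 hi with rfl | hi
      · exact h1
      · exact ih.1 h2 i hi
    · intro h
      exact ⟨h a (Finset.mem_insert_self a S), ih.2 fun i hi => h i (Finset.mem_insert_of_mem hi)⟩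

theorem main {X : Scheme.{u}} {E F G : X.Modules} (p : G ⟶ F) [Epi p] (φ : E ⟶ F)
    (hE : FlatMod.IsFinLocFree E) (x : X) :
    ∃ (V : X.Opens) (ψ : E.restrict V.ι ⟶ G.restrict V.ι), x ∈ V ∧
      ψ ≫ (Scheme.Modules.restrictFunctor V.ι).map p = (Scheme.Modules.restrictFunctor V.ι).map φ := by
  obtain ⟨U, n, hxU, ⟨e⟩⟩ := hE x
  let RU := Scheme.Modules.restrictFunctor U.ι
  haveI : Epi (RU.map p) := inferInstance
  let f : Fin n → (Coh.structureModule (↑U : Scheme.{u}) ⟶ RU.obj F) :=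
    fun i => Sigma.ι (fun _ : Fin n => Coh.structureModule (↑U : Scheme.{u})) i ≫ e.inv ≫ RU.map φ
  let y : (↑U : Scheme.{u}) := ⟨x, hxU⟩
  choose W₀ γ hy hγ using fun i => exists_local_lift (RU.map p)
    ((Scheme.Modules.Hom.app (M := Coh.structureModule (↑U : Scheme.{u})) (N := RU.obj F) (f i) ⊤)
      (1 : Γ((↑U : Scheme.{u}), ⊤))) y
  let W' : (↑U : Scheme.{u}).Opens := Finset.univ.inf W₀
  have hyW' : y ∈ W' := (mem_finset_inf _ W₀ y).2 fun i _ => hy i
  let V : X.Opens := U.ι ''ᵁ W'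
  have hxV : x ∈ V := ⟨y, hyW', rfl⟩
  have hVU : V ≤ U := U.ι_image_le W'
  let j : (↑V : Scheme.{u}) ⟶ (↑U : Scheme.{u}) := X.homOfLE hVU
  have hj : ∀ i, j ''ᵁ (j ⁻¹ᵁ ⊤) ≤ W₀ i := by
    intro i
    have h1 : j ''ᵁ (j ⁻¹ᵁ ⊤) ≤ j.opensRange := by
      rw [Scheme.Hom.image_preimage_eq_opensRange_inf]; exact inf_le_left
    have h2 : j.opensRange = W' := by
      rw [Scheme.opensRange_homOfLE]
      exact U.ι.preimage_image_eq W'
    rw [h2] at h1
    exact h1.trans (Finset.inf_le (Finset.mem_univ i))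
  choose g hg using fun i => exists_lift_restrict j (RU.map p) (f i) (W₀ i) (hj i) (γ i) (hγ i)
  let T := Scheme.Modules.restrictFunctor j
  let α : Scheme.Modules.restrictFunctor V.ι ≅ RU ⋙ T :=
    Scheme.Modules.restrictFunctorCongr (X.homOfLE_ι hVU).symm ≪≫
      Scheme.Modules.restrictFunctorComp j U.ι
  let c := PreservesCoproduct.iso T (fun _ : Fin n => Coh.structureModule (↑U : Scheme.{u}))
  let ψ'' : T.obj (RU.obj E) ⟶ T.obj (RU.obj G) := T.map e.hom ≫ c.hom ≫ Sigma.desc g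
  have key : c.hom ≫ Sigma.desc g ≫ T.map (RU.map p) = T.map e.inv ≫ T.map (RU.map φ) := by
    rw [← Iso.eq_inv_comp]
    apply Sigma.hom_ext
    intro i
    rw [Sigma.ι_desc_assoc, hg i, PreservesCoproduct.inv_hom, ι_comp_sigmaComparison_assoc,
      ← T.map_comp, ← T.map_comp]
  have hψ'' : ψ'' ≫ T.map (RU.map p) = T.map (RU.map φ) := by
    change (T.map e.hom ≫ c.hom ≫ Sigma.desc g) ≫ T.map (RU.map p) = _
    rw [Category.assoc, Category.assoc, key, ← Category.assoc, ← T.map_comp, e.hom_inv_id,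
      T.map_id, Category.id_comp]
  refine ⟨V, α.hom.app E ≫ ψ'' ≫ α.inv.app G, hxV, ?_⟩
  have nat1 : α.inv.app G ≫ (Scheme.Modules.restrictFunctor V.ι).map p =
      T.map (RU.map p) ≫ α.inv.app F := (α.inv.naturality p).symm
  have nat2 : α.hom.app E ≫ T.map (RU.map φ) =
      (Scheme.Modules.restrictFunctor V.ι).map φ ≫ α.hom.app F := (α.hom.naturality φ).symm
  rw [Category.assoc, Category.assoc, nat1, ← Category.assoc ψ'', hψ'', ← Category.assoc, nat2,
    Category.assoc, ← NatTrans.comp_app, α.hom_inv_id, NatTrans.id_app]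
  exact Category.comp_id _


end


open AlgebraicGeometry in
/-- Schemes; E finite locally free, which on a scheme is locally the same as a direct summand of a
finite free module: let p : G -> F be an epimorphism of O_X-modules and φ : E -> F a morphism with E
finite locally free. Then every point has an open neighbourhood V and a morphism ψ : E|_V -> G|_V
with ψ ≫ p|_V = φ|_V. -/
theorem result {X : Scheme.{u}} {E F G : X.Modules} (p : G ⟶ F) [Epi p] (φ : E ⟶ F)
    (hE : FlatMod.IsFinLocFree E) (x : X) :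
    ∃ (V : X.Opens) (ψ : E.restrict V.ι ⟶ G.restrict V.ι), x ∈ V ∧
      ψ ≫ (Scheme.Modules.restrictFunctor V.ι).map p = (Scheme.Modules.restrictFunctor V.ι).map φ := by
  classical
  exact main p φ hE x

end Groth.Agent.S0934
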