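import Groth.Statements.S0942
import Mathlib
import Groth.Agent.Lib.Helper5.Misc.ShriekAb
import Groth.Agent.Lib.Helper5.Misc.KInjAdj

set_option autoImplicit false
universe u
open CategoryTheory
open CohSite



namespace Groth.Agent.S0942

/-- Let U be an object of a site and I a K-injective complex of abelian sheaves. Then the restriction of
I to the site of objects over U (precomposition with the forgetful functor from the over category)
is a K-injective complex. -/
theorem result {C : Type u} [SmallCategory C] (J : GrothendieckTopology C) (U : C)
    (I : CochainComplex (Sheaf J AddCommGrpCat.{u}) ℤ) (hI : I.IsKInjective) :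
    CochainComplex.IsKInjective ((((Over.forget U).sheafPushforwardContinuous AddCommGrpCat.{u} (J.over U) J).mapHomologicalComplex
      (ComplexShape.up ℤ)).obj I) := by
  have := hI
  exact Groth.Agent.Lib.Helper5.Misc.KInjAdj.isKInjective_map
    (Groth.Agent.Lib.Helper5.Misc.ShriekAb.adj U J) I

end Groth.Agent.S0942
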