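import Groth.Statements.S0947
import Groth.Agent.Lib.Helper3.SpT4

set_option autoImplicit false
universe u
open CategoryTheory
open CohTop

namespace Groth.Agent.S0947

open TopologicalSpace Opposite CategoryTheory.Limits in
/-- Let X be a spectral space, F an abelian sheaf on X, E ⊆ X a quasi-compact subset and W the set of
points of X specializing to some point of E. Then for every p the group H^p(W, F|_W) (cohomology of
the pullback of F to the subspace W) is isomorphic to the colimit of the groups H^p(U, F) over the
quasi-compact open neighbourhoods U of E (existence of an isomorphism). -/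
theorem result {X : TopCat.{u}} [SpectralSpace X] (E : Set X)
    (hE : IsCompact E) (F : CohTop.Ab X) (p : ℕ) :
    Nonempty ((colimit (ObjectProperty.ι (fun U : (Opens X)ᵒᵖ => E ⊆ (U.unop : Set X) ∧ IsCompact (U.unop : Set X)) ⋙
        (Sheaf.cohomologyPresheafFunctor (Opens.grothendieckTopology X) p).obj F) : AddCommGrpCat.{u}) ≃+
      CohTop.H ((CohTop.pull (TopCat.ofHom ⟨Subtype.val, continuous_subtype_val⟩ :
        TopCat.of {x : X | ∃ e ∈ E, e ∈ closure {x}} ⟶ X)).obj F) p) := by
  have h : Groth.Agent.Helper3.SpT2.Nbhd {x : X | ∃ e ∈ E, e ∈ closure {x}}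
      (fun U : (TopologicalSpace.Opens X)ᵒᵖ => E ⊆ (U.unop : Set X) ∧ IsCompact (U.unop : Set X)) :=
    { sub := by
        rintro U ⟨hEU, -⟩ x ⟨e, he, hex⟩
        obtain ⟨y, hyU, hy⟩ := mem_closure_iff.1 hex _ U.unop.isOpen (hEU he)
        rw [Set.mem_singleton_iff] at hy
        subst hy
        exact hyU
      ne := ⟨Opposite.op ⊤, Set.subset_univ _, isCompact_univ⟩
      inf := by
        rintro U V ⟨hEU, hU⟩ ⟨hEV, hV⟩
        exact ⟨Set.subset_inter hEU hEV, hU.inter_of_isOpen hV U.unop.isOpen V.unop.isOpen⟩
      cpt := fun U hU => hU.2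
      sep := by
        intro x hx
        have hsub : E ⊆ (closure {x})ᶜ := by
          intro e he hex
          exact hx ⟨e, he, hex⟩
        obtain ⟨W, hWc, hWo, hEW, hW⟩ := PrespectralSpace.exists_isCompact_and_isOpen_between hE
          isClosed_closure.isOpen_compl hsub
        exact ⟨Opposite.op ⟨W, hWo⟩, ⟨hEW, hWc⟩, fun hxW => hW hxW (subset_closure rfl)⟩ }
  exact Groth.Agent.Helper3.SpT4.nonempty_addEquiv h F p


end Groth.Agent.S0947
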