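import Groth.Statements.S0976
import Groth.Statements.S0976
import Mathlib

set_option autoImplicit false
universe v u
open CategoryTheory
open CohDer

namespace Groth.Agent.S0976

section Aux

open CategoryTheory.Pretriangulated CategoryTheory.Limits ObjectProperty

variable {D : Type u} [Category.{v} D] [Preadditive D] [Limits.HasZeroObject D] [HasShift D ℤ]
  [∀ n : ℤ, (shiftFunctor D n).Additive] [Pretriangulated D]
  (P : ObjectProperty D) [P.IsTriangulated]

/-- an extension of an object of `P` by an object of `P^⊥` splits -/
lemma ortho_mul_le :
    extensionProduct P.rightOrthogonal P ≤ extensionProduct P P.rightOrthogonal := by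
  intro X ⟨B, A, f, g, h, hT, hB, hA⟩
  have h0 : h = 0 := (P.rightOrthogonal.le_shift (1 : ℤ) _ hB) h hA
  obtain ⟨e, -, -⟩ := exists_iso_binaryBiproduct_of_distTriang _ hT h0
  have h1 : extensionProduct P P.rightOrthogonal (A ⊞ B) :=
    ⟨A, B, _, _, _, binaryBiproductTriangle_distinguished A B, hA, hB⟩
  exact (extensionProduct P P.rightOrthogonal).prop_of_iso
    ((biprod.braiding A B) ≪≫ e.symm) h1

lemma mul_self_le [IsTriangulated D] :
    extensionProduct (extensionProduct P P.rightOrthogonal) (extensionProduct P P.rightOrthogonal) ≤
      extensionProduct P P.rightOrthogonal := by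
  have hQQ : extensionProduct P.rightOrthogonal P.rightOrthogonal ≤ P.rightOrthogonal :=
    extensionProduct_le_of_isTriangulatedClosed₂ le_rfl le_rfl
  have hPP : extensionProduct P P ≤ P.isoClosure :=
    extensionProduct_le_of_isTriangulatedClosed₂' le_rfl le_rfl
  calc extensionProduct (extensionProduct P P.rightOrthogonal)
        (extensionProduct P P.rightOrthogonal)
      = extensionProduct P (extensionProduct (extensionProduct P.rightOrthogonal P)
          P.rightOrthogonal) := by
        rw [extensionProduct_assoc, extensionProduct_assoc]
    _ ≤ extensionProduct P (extensionProduct (extensionProduct P P.rightOrthogonal)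
          P.rightOrthogonal) :=
        monotone_extensionProduct_right _ (monotone_extensionProduct_left _ (ortho_mul_le P))
    _ = extensionProduct (extensionProduct P P)
          (extensionProduct P.rightOrthogonal P.rightOrthogonal) := by
        rw [extensionProduct_assoc, ← extensionProduct_assoc]
    _ ≤ extensionProduct P.isoClosure P.rightOrthogonal :=
        (monotone_extensionProduct_left _ hPP).trans (monotone_extensionProduct_right _ hQQ)
    _ = extensionProduct P P.rightOrthogonal := extensionProduct_isoClosure_left _ _

end Aux

open CategoryTheory.Pretriangulated in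
/-- Let P be a triangulated subcategory of a triangulated category D (an object property containing
zero, stable under shifts, closed under extensions). Consider the class of objects X sitting in a
distinguished triangle A → X → B → A[1] with P A and B right orthogonal to P. This class is again
stable under shifts and closed under extensions, i.e. satisfies two-out-of-three in distinguished
triangles. -/
theorem result {D : Type u} [Category.{v} D] [Preadditive D] [Limits.HasZeroObject D] [HasShift D ℤ]
    [∀ n : ℤ, (shiftFunctor D n).Additive] [Pretriangulated D] [IsTriangulated D]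
    (P : ObjectProperty D) [P.IsTriangulated] :
    ObjectProperty.IsTriangulated (fun X : D => ∃ (A B : D) (f : A ⟶ X) (g : X ⟶ B) (h : B ⟶ (shiftFunctor D (1 : ℤ)).obj A),
      Triangle.mk f g h ∈ distinguishedTriangles ∧ P A ∧ P.rightOrthogonal B) := by
  change (ObjectProperty.extensionProduct P P.rightOrthogonal).IsTriangulated
  have h0 : (ObjectProperty.extensionProduct P P.rightOrthogonal).ContainsZero := by
    obtain ⟨Z, hZ, hPZ⟩ := P.exists_prop_of_containsZero
    exact ⟨Z, hZ, ObjectProperty.le_extensionProduct_left _ _ hPZ⟩
  have h2 : (ObjectProperty.extensionProduct P P.rightOrthogonal).IsTriangulatedClosed₂ :=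
    ObjectProperty.IsTriangulatedClosed₂.mk' (fun T hT h₁ h₃ =>
      mul_self_le P _ ⟨_, _, _, _, _, hT, h₁, h₃⟩)
  exact { }

end Groth.Agent.S0976
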