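import Groth.Statements.S0984
import Groth.Statements.S0984
import Mathlib
import Groth.Agent.Lib.Helper3.Brown
import Groth.Agent.Lib.Helper3.BrownCompact

set_option autoImplicit false
universe v u
open CategoryTheory
open DerLim

namespace Groth.Agent.S0984

section Aux

open CategoryTheory.Limits CategoryTheory.Pretriangulated Opposite
open Groth.Agent.Helper3.Brown Groth.Agent.Helper3.BrownCompact

variable {D : Type u} [Category.{v} D] [Preadditive D] [Limits.HasZeroObject D] [HasShift D ℤ]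
  [∀ n : ℤ, (shiftFunctor D n).Additive] [Pretriangulated D]

lemma ev_yoneda (X : D) {W W' : D} (f : W ⟶ W') (y : W' ⟶ X) :
    ev (preadditiveYoneda.obj X) f y = f ≫ y := rfl

end Aux

open CategoryTheory.Limits CategoryTheory.Pretriangulated in
/-- Let D be a triangulated category with all small direct sums and E a small family of compact objects
which generates D. Every object X of D is a homotopy colimit of a sequential system X₀ → X₁ → X₂ → …
in which X₀ is a direct sum of shifts of members of E and each transition map Xₙ → Xₙ₊₁ sits in a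
distinguished triangle Yₙ → Xₙ → Xₙ₊₁ → Yₙ[1] with Yₙ a direct sum of shifts of members of E. -/
theorem result {D : Type u} [Category.{v} D] [Preadditive D] [Limits.HasZeroObject D] [HasShift D ℤ]
    [∀ n : ℤ, (shiftFunctor D n).Additive] [Pretriangulated D] [IsTriangulated D] [HasCoproducts.{v} D]
    [HasColimitsOfShape (Discrete ℕ) D]
    {ι : Type v} (E : ι → D) (hc : ∀ i, CohDer.IsCompactObject (E i)) (hg : CohDer.Generates E) (X : D) :
    ∃ (K : ℕ → D) (f : ∀ n, K n ⟶ K (n + 1)) (i : ∀ n, K n ⟶ X),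
      DerLim.IsHocolim K f X i ∧
      (∃ (κ : Type v) (a : κ → ι) (m : κ → ℤ), Nonempty (K 0 ≅ ∐ (fun k => (shiftFunctor D (m k)).obj (E (a k))))) ∧
      ∀ n, ∃ (κ : Type v) (a : κ → ι) (m : κ → ℤ) (y : (∐ fun k => (shiftFunctor D (m k)).obj (E (a k))) ⟶ K n)
        (z : K (n + 1) ⟶ (shiftFunctor D (1 : ℤ)).obj (∐ fun k => (shiftFunctor D (m k)).obj (E (a k)))),
        Triangle.mk y (f n) z ∈ distinguishedTriangles := by
  classical
  open Groth.Agent.Helper3.Brown Groth.Agent.Helper3.BrownCompact Opposite in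
  -- the family and its properties
  have G1 : ∀ W : D, ¬ IsZero W → ∃ (p : ι × ℤ) (f : Ebar E p ⟶ W), f ≠ 0 := by
    intro W hW
    by_contra hcon
    push Not at hcon
    apply hW
    apply hg
    intro i n f
    have h0 := hcon (i, -n) ((shiftFunctor D (-n)).map f ≫
      (shiftFunctorCompIsoId D n (-n) (by omega)).hom.app W)
    have h1 : (shiftFunctor D (-n)).map f = 0 := by
      have h2 : ((shiftFunctor D (-n)).map f ≫
        (shiftFunctorCompIsoId D n (-n) (by omega)).hom.app W) ≫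
          (shiftFunctorCompIsoId D n (-n) (by omega)).inv.app W = 0 := by
        rw [h0, zero_comp]
      simpa using h2
    exact (shiftFunctor D (-n)).map_injective (by rw [h1, Functor.map_zero])
  have G2 := Ebar_G2 E (fun X i α => by
    obtain ⟨β, γ, h⟩ := compact_h2 (hc i) X α
    exact ⟨fun _ => i, β, γ, h⟩)
  have G3 := Ebar_G3 E
  -- the functor and the start of the tower
  let H : Dᵒᵖ ⥤ AddCommGrpCat.{v} := preadditiveYoneda.obj X
  let Idx : Type v := Σ p : ι × ℤ, (Ebar E p ⟶ X)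
  let X₁ : D := ∐ (fun p : Idx => Ebar E p.1)
  let a₁ : H.obj (op X₁) := Sigma.desc (fun p : Idx => p.2)
  have P1 : ∀ (p : ι × ℤ) (b : H.obj (op (Ebar E p))), ∃ c : Ebar E p ⟶ X₁, ev H c a₁ = b := by
    intro p b
    refine ⟨Sigma.ι (fun p : Idx => Ebar E p.1) ⟨p, b⟩, ?_⟩
    exact Sigma.ι_desc (fun p : Idx => p.2) ⟨p, b⟩
  obtain ⟨Xh, π, δ, ah, hT, hah, hbij⟩ := main_M' H (Ebar E) G2 G3 X₁ a₁ P1
  let ah' : Xh ⟶ X := ah
  have hiso : IsIso ah' := isIso_of_bijective (Ebar E) G1 G3 _ hbij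
  let st : ℕ → Stage H := tower (Ebar E) ⟨X₁, a₁⟩
  refine ⟨fun n => (st n).Y, fun n => (st n).φ (Ebar E), fun n => (st n).y, ?_, ?_, ?_⟩
  · refine ⟨inv ah' ≫ δ, ?_⟩
    refine isomorphic_distinguished _ hT _ (Iso.symm ?_)
    refine Triangle.isoMk _ _ (Iso.refl _) (Iso.refl _) (@asIso _ _ _ _ ah' hiso) ?_ ?_ ?_
    · change (𝟙 _ - sh _ _) ≫ 𝟙 _ = 𝟙 _ ≫ (𝟙 _ - sh _ _)
      rw [Category.comp_id, Category.id_comp]
    · change π ≫ ah' = 𝟙 _ ≫ Sigma.desc (fun n => (st n).y)
      rw [Category.id_comp]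
      apply Sigma.hom_ext
      intro n
      rw [Sigma.ι_desc, ← Category.assoc]
      exact (hah n)
    · change δ ≫ (shiftFunctor D (1 : ℤ)).map (𝟙 _) = ah' ≫ inv ah' ≫ δ
      simp
  · exact ⟨Idx, fun k => k.1.1, fun k => k.1.2, ⟨Iso.refl _⟩⟩
  · intro n
    obtain ⟨κ', g, k, z, hk⟩ := (st n).tri (Ebar E)
    exact ⟨κ', fun j => (g j).1, fun j => (g j).2, k, z, hk⟩

end Groth.Agent.S0984
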