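import Groth.Statements.S0978
import Groth.Statements.S0978
import Mathlib
import Groth.Agent.Lib.Helper3.CompactHocolim
import Groth.Agent.S0984
import Groth.Agent.S1076

set_option autoImplicit false
universe v u
open CategoryTheory
open CohDer

namespace Groth.Agent.S0978

section Aux

open CategoryTheory.Limits CategoryTheory.Pretriangulated ObjectProperty
open Groth.Agent.Helper3.Compact Groth.Agent.Helper3.CompactHocolim

variable {D : Type u} [Category.{v} D] [Preadditive D] [Limits.HasZeroObject D] [HasShift D ℤ]
  [∀ n : ℤ, (shiftFunctor D n).Additive] [Pretriangulated D]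

/-- objects with no maps to any shift of `K` -/
abbrev Q (K : D) : ObjectProperty D :=
  (ObjectProperty.shiftClosure (fun Y : D => Y = K) ℤ).leftOrthogonal

instance (K : D) : (Q K).IsStableUnderRetracts where
  of_retract := by
    intro Y Y' r hY' Z g hZ
    have h0 : r.r ≫ g = 0 := hY' _ hZ
    have : g = r.i ≫ r.r ≫ g := by simp
    rw [this, h0, comp_zero]

lemma Q_iff (K Y : D) : Q K Y ↔ ∀ (n : ℤ) (g : Y ⟶ K⟦n⟧), g = 0 := by
  constructor
  · intro h n g
    exact h g ⟨K, n, Iso.refl _, rfl⟩
  · intro h Z g ⟨K', n, e, hK'⟩
    obtain rfl : K' = K := hK'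
    have h0 := h n (g ≫ e.hom)
    have : g = (g ≫ e.hom) ≫ e.inv := by simp
    rw [this, h0, zero_comp]

end Aux

open CategoryTheory.Limits in
/-- Let D be a triangulated category with all small direct sums and E a compact object. Then E generates
D (an object admitting only zero maps from all shifts of E is zero) if and only if D is compactly
generated and every compact object lies in the triangulated envelope of E (objects reachable from E
by shifts, finite sums, direct summands and extensions). -/
theorem result {D : Type u} [Category.{v} D] [Preadditive D] [Limits.HasZeroObject D] [HasShift D ℤ]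
    [∀ n : ℤ, (shiftFunctor D n).Additive] [Pretriangulated D] [IsTriangulated D] [HasCoproducts.{v} D]
    [HasColimitsOfShape (Discrete ℕ) D]
    (E : D) (hE : CohDer.IsCompactObject E) :
    CohDer.Generates (fun _ : Unit => E) ↔
      (CohDer.IsCompactlyGenerated D ∧ ∀ X : D, CohDer.IsCompactObject X → ObjectProperty.triangEnvelope (fun Y : D => Y = E) X) := by
  constructor
  · intro hgen
    have hgen' : CohDer.Generates (fun _ : PUnit.{v + 1} => E) := by
      intro K hK
      exact hgen K (fun _ n f => hK PUnit.unit n f)
    refine ⟨⟨PUnit.{v + 1}, fun _ => E, fun _ => hE, hgen'⟩, ?_⟩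
    intro X hX
    obtain ⟨K, f, i, hL, h0, hstep⟩ := Groth.Agent.S0984.result (fun _ : PUnit.{v + 1} => E)
      (fun _ => hE) hgen' X
    obtain ⟨N, u, hu⟩ := Groth.Agent.Helper3.CompactHocolim.exists_factor_hocolim K f X i hL hX (𝟙 X)
    obtain ⟨s, E', g, h, hE', hgh⟩ := Groth.Agent.S1076.result (fun _ : PUnit.{v + 1} => E)
      (fun _ => hE) K f h0 hstep X hX N u
    have hE'' : ObjectProperty.triangEnvelope (fun Y : D => Y = E) E' := by
      refine ObjectProperty.monotone_triangEnvelope ?_ _ hE'
      rintro Y ⟨_, _, rfl⟩
      rfl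
    exact ObjectProperty.prop_of_retract _
      ⟨g, h ≫ i N, by rw [← Category.assoc, hgh, hu]⟩ hE''
  · rintro ⟨⟨ι, G, hG, hgen⟩, henv⟩
    intro K hK
    apply hgen
    intro j n t
    have hle : ObjectProperty.triangEnvelope (fun Y : D => Y = E) ≤ Q K := by
      rw [ObjectProperty.triangEnvelope_le_iff]
      rintro Y rfl
      rw [Q_iff]
      intro n g
      exact hK () n g
    exact (Q_iff K _).1 (hle _ (henv _ (hG j))) n t

end Groth.Agent.S0978
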