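import Groth.Statements.S0982
import Mathlib

set_option autoImplicit false
universe w v u
open CategoryTheory CategoryTheory.Limits
open CohDer

namespace Groth.Agent.S0982

section aux

variable {A : Type u} [Category.{v} A] [Abelian A]

/-- a chain map from a complex in degrees `≤ m` to a complex in degrees `≥ m` vanishes as soon as
it vanishes on `Hᵐ`. -/
lemma eq_zero_of_homologyMap_eq_zero {S T : CochainComplex A ℤ} (m : ℤ) [S.IsStrictlyLE m]
    [T.IsStrictlyGE m] (c : S ⟶ T) (hc : HomologicalComplex.homologyMap c m = 0) : c = 0 := by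
  ext i
  rcases lt_trichotomy i m with hi | rfl | hi
  · exact (T.isZero_of_isStrictlyGE m i hi).eq_of_tgt _ _
  · have h1 : IsIso (S.iCycles i) := S.isIso_iCycles i (i + 1) (by simp)
      ((S.isZero_of_isStrictlyLE i (i + 1) (by omega)).eq_of_tgt _ _)
    have h2 : IsIso (T.pOpcycles i) := T.isIso_pOpcycles (i - 1) i (by simp)
      ((T.isZero_of_isStrictlyGE i (i - 1) (by omega)).eq_of_src _ _)
    rw [← cancel_epi (S.iCycles i), ← cancel_mono (T.pOpcycles i)]
    rw [HomologicalComplex.zero_f, comp_zero, zero_comp, Category.assoc]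
    rw [← HomologicalComplex.cyclesMap_i_assoc, ← HomologicalComplex.homology_π_ι,
      ← HomologicalComplex.homologyπ_naturality_assoc, hc, zero_comp, comp_zero]
  · exact (S.isZero_of_isStrictlyLE m i hi).eq_of_src _ _

variable [HasDerivedCategory.{w} A]

/-- lifting to the truncation -/
lemma exists_lift_truncLE (M : CochainComplex A ℤ) (m m' : ℤ) (h : m + 1 = m')
    {X : DerivedCategory A} (ψ : X ⟶ DerivedCategory.Q.obj M)
    (hψ : ψ ≫ DerivedCategory.Q.map (M.πTruncGE m') = 0) :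
    ∃ φ : X ⟶ DerivedCategory.Q.obj (M.truncLE m),
      φ ≫ DerivedCategory.Q.map (M.ιTruncLE m) = ψ := by
  have hS := M.shortComplexTruncLE_shortExact m
  have hT := DerivedCategory.triangleOfSES_distinguished hS
  let g' : M ⟶ (M.shortComplexTruncLE m).X₃ := (M.shortComplexTruncLE m).g
  let t : (M.shortComplexTruncLE m).X₃ ⟶ M.truncGE m' := M.shortComplexTruncLEX₃ToTruncGE m m' h
  have hgt : g' ≫ t = M.πTruncGE m' := M.g_shortComplexTruncLEX₃ToTruncGE m m' h
  have h0 : ψ ≫ DerivedCategory.Q.map g' = 0 := by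
    rw [← cancel_mono (DerivedCategory.Q.map t), Category.assoc, ← Functor.map_comp, hgt,
      zero_comp]
    exact hψ
  obtain ⟨φ, hφ⟩ := Pretriangulated.Triangle.coyoneda_exact₂ _ hT ψ h0
  exact ⟨φ, hφ.symm⟩

end aux

/-- Let K : ℕ ⥤ CochainComplex A ℤ be a sequence of cochain maps K₀ → K₁ → K₂ → … in an abelian category
with Hⁱ(K₀) = 0 for i > 0 and such that for every j < n the map H⁻ʲ(Kⱼ) → H⁻ʲ(Kⱼ₊₁) is zero. Then in
the derived category the composite K₀ → Kₙ factors through the canonical truncation τ_{≤ -n}Kₙ → Kₙ. -/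
theorem result {A : Type u} [Category.{v} A] [Abelian A] [HasDerivedCategory.{w} A]
    (K : ℕ ⥤ CochainComplex A ℤ) (n : ℕ)
    (h0 : ∀ i : ℤ, 0 < i → IsZero ((K.obj 0).homology i))
    (hz : ∀ j : ℕ, j < n → HomologicalComplex.homologyMap (K.map (homOfLE (Nat.le_succ j))) (-(j : ℤ)) = 0) :
    ∃ φ : DerivedCategory.Q.obj (K.obj 0) ⟶ DerivedCategory.Q.obj ((K.obj n).truncLE (-(n : ℤ))),
      φ ≫ DerivedCategory.Q.map ((K.obj n).ιTruncLE (-(n : ℤ))) = DerivedCategory.Q.map (K.map (homOfLE (Nat.zero_le n))) := by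
  induction n with
  | zero =>
    have hLE : (K.obj 0).IsLE (-((0 : ℕ) : ℤ)) := by
      rw [CochainComplex.isLE_iff]
      intro i hi
      rw [HomologicalComplex.exactAt_iff_isZero_homology]
      exact h0 i (by simpa using hi)
    have hq : QuasiIso ((K.obj 0).ιTruncLE (-((0 : ℕ) : ℤ))) :=
      ((K.obj 0).quasiIso_ιTruncLE_iff (-((0 : ℕ) : ℤ))).2 hLE
    refine ⟨inv (DerivedCategory.Q.map ((K.obj 0).ιTruncLE (-((0 : ℕ) : ℤ)))), ?_⟩
    have h1 : K.map (homOfLE (Nat.zero_le 0)) = 𝟙 _ := by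
      rw [← K.map_id]
      congr 1
    rw [h1, CategoryTheory.Functor.map_id]
    exact IsIso.inv_hom_id _
  | succ j ih =>
    obtain ⟨φ, hφ⟩ := ih (fun i hi => hz i (by omega))
    have hu : K.map (homOfLE (Nat.zero_le (j + 1))) =
        K.map (homOfLE (Nat.zero_le j)) ≫ K.map (homOfLE (Nat.le_succ j)) := by
      rw [← K.map_comp]
      congr 1
    -- the composite `τ≤-j K_j ⟶ K_j ⟶ K_{j+1} ⟶ τ≥-j K_{j+1}` vanishes
    have hc : (K.obj j).ιTruncLE (-(j : ℤ)) ≫ K.map (homOfLE (Nat.le_succ j)) ≫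
        (K.obj (j + 1)).πTruncGE (-(j : ℤ)) = 0 := by
      apply eq_zero_of_homologyMap_eq_zero (-(j : ℤ))
      rw [HomologicalComplex.homologyMap_comp, HomologicalComplex.homologyMap_comp,
        hz j (by omega), zero_comp, comp_zero]
    have hψ : DerivedCategory.Q.map (K.map (homOfLE (Nat.zero_le (j + 1)))) ≫
        DerivedCategory.Q.map ((K.obj (j + 1)).πTruncGE (-(j : ℤ))) = 0 := by
      rw [hu, Functor.map_comp, ← hφ, Category.assoc, Category.assoc, ← Functor.map_comp,
        ← Functor.map_comp, hc, Functor.map_zero, comp_zero]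
    have hm : -((j + 1 : ℕ) : ℤ) + 1 = -(j : ℤ) := by push_cast; ring
    exact exists_lift_truncLE (K.obj (j + 1)) (-((j + 1 : ℕ) : ℤ)) (-(j : ℤ)) hm _ hψ

end Groth.Agent.S0982
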