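import Groth.Statements.S0985
import Groth.Statements.S0985
import Mathlib
import Groth.Agent.Lib.Helper3.SeqColim

set_option autoImplicit false
universe w v u
open CategoryTheory CategoryTheory.Limits
open DerLim

namespace Groth.Agent.S0985

section Helpers

open CategoryTheory.Limits.CoproductsFromFiniteFiltered

-- the cofinal sequence of finite subsets of ℕ
def rangeFunctor : ℕ ⥤ Finset (Discrete ℕ) :=
  Monotone.functor (f := fun n => (Finset.range n).map discreteEquiv.symm.toEmbedding)
    (fun _ _ h => Finset.map_subset_map.2 (Finset.range_mono h))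

instance : (rangeFunctor).Final := by
  apply Functor.final_of_exists_of_isFiltered
  · intro d
    obtain ⟨n, hn⟩ := Finset.exists_nat_subset_range (d.map discreteEquiv.toEmbedding)
    refine ⟨n, ⟨homOfLE ?_⟩⟩
    intro x hx
    change x ∈ (Finset.range n).map discreteEquiv.symm.toEmbedding
    rw [Finset.mem_map]
    exact ⟨discreteEquiv x, hn (Finset.mem_map_of_mem _ hx), discreteEquiv.symm_apply_apply x⟩
  · intro d c s s'
    exact ⟨c, 𝟙 _, by rw [Subsingleton.elim s s']⟩

lemma hasCountableCoproducts {A : Type u} [Category.{v} A] [HasFiniteCoproducts A]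
    [HasColimitsOfShape ℕ A] : HasColimitsOfShape (Discrete ℕ) A := by
  have : HasColimitsOfShape (Finset (Discrete ℕ)) A :=
    Functor.Final.hasColimitsOfShape_of_final rangeFunctor
  exact ⟨fun F => HasColimit.mk (liftToFinsetColimitCocone F)⟩

lemma shortExact_aux {A : Type u} [Category.{v} A] [Abelian A]
    [HasColimitsOfShape ℕ A] [HasExactColimitsOfShape ℕ A] [HasColimitsOfShape (Discrete ℕ) A]
    (L : ℕ ⥤ CochainComplex A ℤ) [HasCoproduct L.obj]
    (d : (∐ L.obj) ⟶ ∐ L.obj) (σ : (∐ L.obj) ⟶ colimit L)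
    (hcomp : ∀ n, Sigma.ι L.obj n ≫ d =
      Sigma.ι L.obj n - L.map (homOfLE (Nat.le_succ n)) ≫ Sigma.ι L.obj (n + 1))
    (hσ : ∀ n, Sigma.ι L.obj n ≫ σ = colimit.ι L n) (w : d ≫ σ = 0) :
    (ShortComplex.mk d σ w).ShortExact := by
  rw [HomologicalComplex.shortExact_iff_degreewise_shortExact]
  intro p
  let F : ℕ ⥤ A := L ⋙ HomologicalComplex.eval A (ComplexShape.up ℤ) p
  let c : Cofan F.obj := Cofan.mk ((∐ L.obj).X p) (fun n => (Sigma.ι L.obj n).f p)
  have hc : IsColimit c :=
    isColimitCofanMkObjOfIsColimit (HomologicalComplex.eval A (ComplexShape.up ℤ) p) L.obj _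
      (coproductIsCoproduct L.obj)
  have hd : ∀ n, c.inj n ≫ d.f p = c.inj n - F.map (homOfLE (Nat.le_succ n)) ≫ c.inj (n + 1) := by
    intro n
    have h1 : (Sigma.ι L.obj n ≫ d).f p =
        (Sigma.ι L.obj n - L.map (homOfLE (Nat.le_succ n)) ≫ Sigma.ι L.obj (n + 1)).f p := by
      rw [hcomp]
    rw [HomologicalComplex.comp_f, HomologicalComplex.sub_f_apply,
      HomologicalComplex.comp_f] at h1
    exact h1
  let s : Cocone F := (HomologicalComplex.eval A (ComplexShape.up ℤ) p).mapCocone (colimit.cocone L)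
  have hs : IsColimit s := isColimitOfPreserves _ (colimit.isColimit L)
  have hπ : ∀ n, c.inj n ≫ σ.f p = s.ι.app n := by
    intro n
    have h1 : (Sigma.ι L.obj n ≫ σ).f p = (colimit.ι L n).f p := by rw [hσ]
    rw [HomologicalComplex.comp_f] at h1
    exact h1
  exact Groth.Agent.Helper3.SeqColim.shortExact F c hc (d.f p) hd s hs (σ.f p) hπ

end Helpers

/-- Let A be an abelian category in which colimits of sequences ℕ ⥤ A exist and are exact, and let L : ℕ
⥤ CochainComplex A ℤ be a sequence of complexes. Then the image in the derived category of the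
termwise colimit of L, with the canonical maps from the Lₙ, is a homotopy colimit of the images of
the Lₙ — assuming the termwise direct sum of the Lₙ exists and is preserved by the localization
functor to D(A) (a known result, carried here as a hypothesis rather than proved), and that the
direct sum of the images exists in D(A). -/
theorem result {A : Type u} [Category.{v} A] [Abelian A] [HasDerivedCategory.{w} A]
    [HasColimitsOfShape ℕ A] [HasExactColimitsOfShape ℕ A]
    (L : ℕ ⥤ CochainComplex A ℤ) [HasCoproduct L.obj] [PreservesColimit (Discrete.functor L.obj) (DerivedCategory.Q (C := A))]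
    [HasCoproduct (fun n => DerivedCategory.Q.obj (L.obj n))] :
    DerLim.IsHocolim (fun n => DerivedCategory.Q.obj (L.obj n)) (fun n => DerivedCategory.Q.map (L.map (homOfLE (Nat.le_succ n))))
      (DerivedCategory.Q.obj (colimit L)) (fun n => DerivedCategory.Q.map (colimit.ι L n)) := by
  have hcc : HasColimitsOfShape (Discrete ℕ) A := hasCountableCoproducts
  -- notation
  let f : ∀ n, L.obj n ⟶ L.obj (n + 1) := fun n => L.map (homOfLE (Nat.le_succ n))
  let d : (∐ L.obj) ⟶ ∐ L.obj := 𝟙 (∐ L.obj) - DerLim.shiftMap L.obj f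
  let σ : (∐ L.obj) ⟶ colimit L := Sigma.desc (fun n => colimit.ι L n)
  have hcomp : ∀ n, Sigma.ι L.obj n ≫ d = Sigma.ι L.obj n - f n ≫ Sigma.ι L.obj (n + 1) := by
    intro n
    rw [Preadditive.comp_sub, Category.comp_id, DerLim.shiftMap, Sigma.ι_desc]
  have hσ : ∀ n, Sigma.ι L.obj n ≫ σ = colimit.ι L n := fun n => Sigma.ι_desc _ _
  have w : d ≫ σ = 0 := by
    apply Sigma.hom_ext
    intro n
    rw [← Category.assoc, hcomp, Preadditive.sub_comp, Category.assoc, hσ, hσ, comp_zero,
      colimit.w, sub_self]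
  have hS : (ShortComplex.mk d σ w).ShortExact := shortExact_aux L d σ hcomp hσ w
  have hT := DerivedCategory.triangleOfSES_distinguished hS
  let e : (∐ fun n => DerivedCategory.Q.obj (L.obj n)) ≅ DerivedCategory.Q.obj (∐ L.obj) :=
    (PreservesCoproduct.iso (DerivedCategory.Q (C := A)) L.obj).symm
  have he : ∀ n, Sigma.ι (fun n => DerivedCategory.Q.obj (L.obj n)) n ≫ e.hom =
      DerivedCategory.Q.map (Sigma.ι L.obj n) := fun n =>
    ι_comp_sigmaComparison (DerivedCategory.Q (C := A)) L.obj n
  refine ⟨DerivedCategory.triangleOfSESδ hS ≫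
    (shiftFunctor (DerivedCategory A) (1 : ℤ)).map e.inv, ?_⟩
  refine Pretriangulated.isomorphic_distinguished _ hT _ ?_
  refine Pretriangulated.Triangle.isoMk _ _ e e (Iso.refl _) ?_ ?_ ?_
  · apply Sigma.hom_ext
    intro n
    change Sigma.ι (fun n => DerivedCategory.Q.obj (L.obj n)) n ≫
      (𝟙 _ - DerLim.shiftMap _ _) ≫ e.hom = Sigma.ι (fun n => DerivedCategory.Q.obj (L.obj n)) n ≫
        e.hom ≫ DerivedCategory.Q.map d
    rw [← Category.assoc, ← Category.assoc, he, Preadditive.comp_sub, Category.comp_id,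
      DerLim.shiftMap, Sigma.ι_desc, Preadditive.sub_comp, he, Category.assoc, he,
      ← Functor.map_comp, ← Functor.map_sub]
    exact (congrArg DerivedCategory.Q.map (hcomp n).symm).trans (Functor.map_comp _ _ _)
  · apply Sigma.hom_ext
    intro n
    change Sigma.ι (fun n => DerivedCategory.Q.obj (L.obj n)) n ≫
      Sigma.desc (fun n => DerivedCategory.Q.map (colimit.ι L n)) ≫ 𝟙 _ =
      Sigma.ι (fun n => DerivedCategory.Q.obj (L.obj n)) n ≫ e.hom ≫ DerivedCategory.Q.map σ
    rw [Category.comp_id, Sigma.ι_desc, ← Category.assoc, he, ← Functor.map_comp, hσ]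
  · change (DerivedCategory.triangleOfSESδ hS ≫
      (shiftFunctor (DerivedCategory A) (1 : ℤ)).map e.inv) ≫
        (shiftFunctor (DerivedCategory A) (1 : ℤ)).map e.hom =
      𝟙 _ ≫ DerivedCategory.triangleOfSESδ hS
    rw [Category.assoc, ← Functor.map_comp, e.inv_hom_id, CategoryTheory.Functor.map_id,
      Category.comp_id, Category.id_comp]

end Groth.Agent.S0985
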