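import Groth.Statements.S0986
import Groth.Statements.S0986
import Mathlib
import Groth.Agent.Lib.Helper3.SeqColim

set_option autoImplicit false
universe v u
open CategoryTheory CategoryTheory.Limits
open DerLim

namespace Groth.Agent.S0986


/-- Let A be an abelian category in which colimits of sequences ℕ ⥤ A exist and are exact, and F : ℕ ⥤ A
a sequence whose direct sum ⨁ Fₙ exists. Then the map 1 - shift on ⨁ Fₙ followed by the canonical
map ⨁ Fₙ → colim F is a short exact sequence 0 → ⨁ Fₙ → ⨁ Fₙ → colim F → 0. -/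
theorem result {A : Type u} [Category.{v} A] [Abelian A]
    [HasColimitsOfShape ℕ A] [HasExactColimitsOfShape ℕ A] (F : ℕ ⥤ A) [HasCoproduct F.obj] :
    ∃ w : (𝟙 (∐ F.obj) - DerLim.shiftMap F.obj (fun n => F.map (homOfLE (Nat.le_succ n)))) ≫
        Sigma.desc (fun n => colimit.ι F n) = 0,
      (ShortComplex.mk _ _ w).ShortExact := by
  have hd : ∀ n, (Cofan.mk (∐ F.obj) (Sigma.ι F.obj)).inj n ≫
      (𝟙 (∐ F.obj) - DerLim.shiftMap F.obj (fun n => F.map (homOfLE (Nat.le_succ n)))) =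
      (Cofan.mk (∐ F.obj) (Sigma.ι F.obj)).inj n -
        F.map (homOfLE (Nat.le_succ n)) ≫ (Cofan.mk (∐ F.obj) (Sigma.ι F.obj)).inj (n + 1) := by
    intro n
    change Sigma.ι F.obj n ≫ _ = Sigma.ι F.obj n - _ ≫ Sigma.ι F.obj (n + 1)
    rw [Preadditive.comp_sub, Category.comp_id, DerLim.shiftMap, Sigma.ι_desc]
  have hπ : ∀ n, (Cofan.mk (∐ F.obj) (Sigma.ι F.obj)).inj n ≫
      Sigma.desc (fun n => colimit.ι F n) = (colimit.cocone F).ι.app n := by
    intro n
    change Sigma.ι F.obj n ≫ _ = colimit.ι F n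
    rw [Sigma.ι_desc]
  exact ⟨Groth.Agent.Helper3.SeqColim.d_π F _ (coproductIsCoproduct F.obj) _ hd
      (colimit.cocone F) _ hπ,
    Groth.Agent.Helper3.SeqColim.shortExact F _ (coproductIsCoproduct F.obj) _ hd
      (colimit.cocone F) (colimit.isColimit F) _ hπ⟩

end Groth.Agent.S0986
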