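import Groth.Statements.S0988
import Mathlib
import Groth.Agent.Lib.Helper5.Flasque.QCohInj

set_option autoImplicit false
universe u
open CategoryTheory AlgebraicGeometry Opposite
open Perf



namespace Groth.Agent.S0988

/-- Let X be a Noetherian scheme and J an injective object of the category QCoh(O_X) of quasi-coherent
O_X-modules (the full subcategory of all O_X-modules). Then J is flasque: for opens U ⊆ V of X the
restriction map J(V) → J(U) is surjective. -/
theorem result (X : Scheme.{u}) [IsNoetherian X]
    (J : ObjectProperty.FullSubcategory (fun M : X.Modules => Coh.IsQCoh M)) (hJ : Injective J)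
    (U V : X.Opens) (hUV : U ≤ V) :
    Function.Surjective (J.obj.val.map (homOfLE hUV).op).hom := by
  have hinj : ∀ (n : ℕ) (I : X.IdealSheafData)
      (ψ : (Dual3.idealMul (I ^ n)).obj (Coh.structureModule X) ⟶ J.obj),
      ∃ t : Coh.structureModule X ⟶ J.obj,
        Dual3.idealMulι (I ^ n) (Coh.structureModule X) ≫ t = ψ := by
    intro n I ψ
    let P : ObjectProperty X.Modules := fun M => Coh.IsQCoh M
    have hO := Groth.Agent.Helper1.Dv.isCoh_structureModule X
    let A : P.FullSubcategory := ⟨(Dual3.idealMul (I ^ n)).obj (Coh.structureModule X),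
      (Groth.Agent.Helper1.Dv.isCoh_idealMul (I ^ n) _ hO).1⟩
    let B : P.FullSubcategory := ⟨Coh.structureModule X, hO.1⟩
    let f : A ⟶ B := ObjectProperty.homMk (Dual3.idealMulι (I ^ n) (Coh.structureModule X))
    haveI : Mono f := (ObjectProperty.ι P).mono_of_mono_map (by
      show Mono (Dual3.idealMulι (I ^ n) (Coh.structureModule X))
      infer_instance)
    let g : A ⟶ J := ObjectProperty.homMk ψ
    haveI := hJ
    refine ⟨(Injective.factorThru g f).hom, ?_⟩
    have hh := Injective.comp_factorThru g f
    exact congrArg (fun k => k.hom) hh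
  intro s
  obtain ⟨τ, hτ⟩ := Groth.Agent.Lib.Helper5.FlasqueQC.exists_global_section J.obj J.property hinj U s
  refine ⟨Groth.Agent.Helper1.QcCech.res J.obj (le_top : V ≤ ⊤) τ, ?_⟩
  have h1 := Groth.Agent.Helper1.QcCech.res_res J.obj (le_top : V ≤ ⊤) hUV τ
  exact h1.trans hτ

end Groth.Agent.S0988
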