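import Groth.Statements.S0989
import Mathlib

set_option autoImplicit false
universe w v u
open CategoryTheory CategoryTheory.Limits
open CohDer

namespace Groth.Agent.S0989

open Pretriangulated ComposableArrows ZeroObject

section aux

variable {A : Type u} [Category.{v} A] [Abelian A]

open ComposableArrows in
/-- a weak Serre class is closed under retracts -/
lemma of_retract (P : ObjectProperty A) [P.IsClosedUnderIsomorphisms] (h0 : ∃ Z : A, IsZero Z ∧ P Z)
    (hP : ∀ S : ComposableArrows A 4, S.Exact → P (S.obj 0) → P (S.obj 1) → P (S.obj 3) →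
      P (S.obj 4) → P (S.obj 2))
    {X Y : A} (h : Retract Y X) (hX : P X) : P Y := by
  obtain ⟨Z, hZ, hPZ⟩ := h0
  have hw : h.i ≫ (𝟙 X - h.r ≫ h.i) = 0 := by
    rw [Preadditive.comp_sub, Category.comp_id, ← Category.assoc, h.retract, Category.id_comp,
      sub_self]
  have hmono : Mono h.i := inferInstance
  have e1 : (ShortComplex.mk (0 : Z ⟶ Z) (0 : Z ⟶ Y) (by simp)).Exact :=
    ShortComplex.exact_of_isZero_X₂ _ hZ
  have e2 : (ShortComplex.mk (0 : Z ⟶ Y) h.i (by simp)).Exact := by
    rw [ShortComplex.exact_iff_mono _ (by simp)]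
    exact hmono
  have e3 : (ShortComplex.mk h.i (𝟙 X - h.r ≫ h.i) hw).Exact := by
    apply ShortComplex.exact_of_f_is_kernel
    refine KernelFork.IsLimit.ofι _ _ (fun {W} k hk => k ≫ h.r) ?_ ?_
    · intro W k hk
      rw [Preadditive.comp_sub, Category.comp_id, sub_eq_zero] at hk
      rw [Category.assoc, ← hk]
    · intro W k hk m hm
      rw [← hm, Category.assoc, h.retract, Category.comp_id]
  have hex : (mk₄ (0 : Z ⟶ Z) (0 : Z ⟶ Y) h.i (𝟙 X - h.r ≫ h.i)).Exact :=
    exact_of_δ₀ e1.exact_toComposableArrows
      (exact_of_δ₀ e2.exact_toComposableArrows e3.exact_toComposableArrows)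
  exact hP _ hex hPZ hPZ hX hX


end aux

/-- Let P be a weak Serre class in an abelian category A: P is closed under isomorphisms, holds for a
zero object, and whenever X₀ → X₁ → X₂ → X₃ → X₄ is exact with P holding for X₀, X₁, X₃, X₄ it holds
for X₂. Then the class of objects of the derived category all of whose cohomology objects satisfy P
is a triangulated subcategory (contains zero, stable under shifts, closed under extensions) which is
moreover closed under retracts (saturated). -/
theorem result {A : Type u} [Category.{v} A] [Abelian A] [HasDerivedCategory.{w} A]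
    (P : ObjectProperty A) [P.IsClosedUnderIsomorphisms] (h0 : ∃ Z : A, IsZero Z ∧ P Z)
    (hP : ∀ S : ComposableArrows A 4, S.Exact → P (S.obj 0) → P (S.obj 1) → P (S.obj 3) → P (S.obj 4) → P (S.obj 2)) :
    ObjectProperty.IsTriangulated (fun X : DerivedCategory A => ∀ n : ℤ, P ((DerivedCategory.homologyFunctor A n).obj X)) ∧
    ObjectProperty.IsStableUnderRetracts (fun X : DerivedCategory A => ∀ n : ℤ, P ((DerivedCategory.homologyFunctor A n).obj X)) := by
  set Q : ObjectProperty (DerivedCategory A) :=
    (fun X : DerivedCategory A => ∀ n : ℤ, P ((DerivedCategory.homologyFunctor A n).obj X)) with hQ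
  have hiso : Q.IsClosedUnderIsomorphisms := ⟨fun {X Y} e hX n =>
    P.prop_of_iso ((DerivedCategory.homologyFunctor A n).mapIso e) (hX n)⟩
  have hzero : Q.ContainsZero := by
    obtain ⟨Z, hZ, hPZ⟩ := h0
    refine ⟨0, isZero_zero _, fun n => ?_⟩
    have : IsZero ((DerivedCategory.homologyFunctor A n).obj 0) :=
      (DerivedCategory.homologyFunctor A n).map_isZero (isZero_zero _)
    exact P.prop_of_iso (hZ.iso this) hPZ
  have hshift : Q.IsStableUnderShift ℤ := ⟨fun a => ⟨fun X hX n => by
    have e := ((DerivedCategory.homologyFunctor A 0).shiftIso a n (a + n) rfl).app X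
    exact P.prop_of_iso e.symm (hX (a + n))⟩⟩
  have hext : Q.IsTriangulatedClosed₂ := by
    apply ObjectProperty.IsTriangulatedClosed₂.mk'
    intro T hT h₁ h₃ n
    have hex : (mk₄ (DerivedCategory.HomologySequence.δ T (n - 1) n (by lia))
        ((DerivedCategory.homologyFunctor A n).map T.mor₁)
        ((DerivedCategory.homologyFunctor A n).map T.mor₂)
        (DerivedCategory.HomologySequence.δ T n (n + 1) rfl)).Exact :=
      exact_of_δ₀ (DerivedCategory.HomologySequence.exact₁ T hT (n - 1) n (by lia)).exact_toComposableArrows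
        (exact_of_δ₀ (DerivedCategory.HomologySequence.exact₂ T hT n).exact_toComposableArrows
          (DerivedCategory.HomologySequence.exact₃ T hT n (n + 1) rfl).exact_toComposableArrows)
    exact hP _ hex (h₃ (n - 1)) (h₁ n) (h₃ n) (h₁ (n + 1))
  refine ⟨{ toContainsZero := hzero, toIsStableUnderShift := hshift, toIsTriangulatedClosed₂ := hext }, ?_⟩
  refine ⟨fun {X Y} h hY n => ?_⟩
  exact of_retract P h0 hP (h.map (DerivedCategory.homologyFunctor A n)) (hY n)

end Groth.Agent.S0989
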