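import Groth.Statements.S0992
import Groth.Statements.S0992
import Mathlib
import Groth.Agent.Lib.Helper3.LimCplx

set_option autoImplicit false
universe w
open CategoryTheory CategoryTheory.Limits Opposite
open CohDer

namespace Groth.Agent.S0992

section

open CategoryTheory CategoryTheory.Limits Opposite Groth.Agent.Helper3.LimCplx

variable {I : Type w} [LinearOrder I] (K : Iᵒᵖ ⥤ CochainComplex AddCommGrpCat.{w} ℤ)

/-- restriction maps of the inverse system -/
def rs {γ γ' : I} (h : γ ≤ γ') (q : ℤ) : (K.obj (op γ')).X q →+ (K.obj (op γ)).X q :=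
  ((K.map (homOfLE h).op).f q).hom

lemma rs_rs {γ γ' γ'' : I} (h : γ ≤ γ') (h' : γ' ≤ γ'') (q : ℤ) (x : (K.obj (op γ'')).X q) :
    rs K h q (rs K h' q x) = rs K (h.trans h') q x := by
  have : (homOfLE (h.trans h')).op = (homOfLE h').op ≫ (homOfLE h).op := rfl
  unfold rs
  rw [this, K.map_comp]
  rfl

lemma rs_self {γ : I} (q : ℤ) (x : (K.obj (op γ)).X q) : rs K (le_refl γ) q x = x := by
  have : (homOfLE (le_refl γ)).op = 𝟙 (op γ) := rfl
  unfold rs
  rw [this, K.map_id]
  rfl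

lemma rs_d {γ γ' : I} (h : γ ≤ γ') (m n : ℤ) (x : (K.obj (op γ')).X m) :
    rs K h n (dd (K.obj (op γ')) m n x) = dd (K.obj (op γ)) m n (rs K h m x) :=
  (dd_map (K.map (homOfLE h).op) m n x).symm

/-- compatibility of a family on a set of indices -/
def Compat (J : Set I) (q : ℤ) (x : ∀ γ : I, (K.obj (op γ)).X q) : Prop :=
  ∀ (γ γ' : I) (h : γ ≤ γ'), γ' ∈ J → rs K h q (x γ') = x γ

/-- solvability of `d y = z` for compatible families of cycles on `J` -/
def Q (J : Set I) : Prop :=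
  ∀ (m n p : ℤ) (_ : m + 1 = n) (_ : n + 1 = p) (z : ∀ γ, (K.obj (op γ)).X n),
    Compat K J n z → (∀ γ ∈ J, dd (K.obj (op γ)) n p (z γ) = 0) →
    ∃ y : ∀ γ, (K.obj (op γ)).X m, Compat K J m y ∧ ∀ γ ∈ J, dd (K.obj (op γ)) m n (y γ) = z γ

variable (hex : ∀ (β : I) (m n p : ℤ), m + 1 = n → n + 1 = p → ∀ x : (K.obj (op β)).X n,
    dd (K.obj (op β)) n p x = 0 → ∃ y : (K.obj (op β)).X m, dd (K.obj (op β)) m n y = x)
  (hlift : ∀ (β : I) (q : ℤ) (x : ∀ γ, (K.obj (op γ)).X q), Compat K (Set.Iio β) q x →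
    ∃ y : (K.obj (op β)).X q, ∀ (γ : I) (h : γ < β), rs K h.le q y = x γ)

include hex hlift in
/-- the extension step at `β` -/
lemma extend (β : I) (hQβ : Q K (Set.Iio β)) (m n p : ℤ) (hmn : m + 1 = n) (hnp : n + 1 = p)
    (z : ∀ γ, (K.obj (op γ)).X n) (hz : Compat K (Set.Iic β) n z)
    (hzβ : dd (K.obj (op β)) n p (z β) = 0)
    (y : ∀ γ, (K.obj (op γ)).X m) (hy : Compat K (Set.Iio β) m y)
    (hyd : ∀ γ, γ < β → dd (K.obj (op γ)) m n (y γ) = z γ) :
    ∃ yβ : (K.obj (op β)).X m, dd (K.obj (op β)) m n yβ = z β ∧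
      ∀ (γ : I) (h : γ < β), rs K h.le m yβ = y γ := by
  obtain ⟨yt, hyt⟩ := hlift β m y hy
  let wβ : (K.obj (op β)).X n := z β - dd (K.obj (op β)) m n yt
  have hw : dd (K.obj (op β)) n p wβ = 0 := by
    change dd (K.obj (op β)) n p (z β - dd (K.obj (op β)) m n yt) = 0
    rw [map_sub, hzβ, dd_dd, sub_zero]
  obtain ⟨u₀, hu₀⟩ := hex β m n p hmn hnp wβ hw
  let v : ∀ γ, (K.obj (op γ)).X m := fun γ => if h : γ < β then rs K h.le m u₀ else 0
  have hv : Compat K (Set.Iio β) m v := by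
    intro γ γ' h hγ'
    have h1 : γ' < β := hγ'
    have h2 : γ < β := lt_of_le_of_lt h h1
    simp only [v, dif_pos h1, dif_pos h2]
    rw [rs_rs]
  have hvd : ∀ γ ∈ Set.Iio β, dd (K.obj (op γ)) m n (v γ) = 0 := by
    intro γ hγ
    have h1 : γ < β := hγ
    simp only [v, dif_pos h1]
    rw [← rs_d, hu₀]
    change rs K h1.le n (z β - dd (K.obj (op β)) m n yt) = 0
    rw [map_sub, rs_d, hyt γ h1, hyd γ h1, hz γ β h1.le (Set.mem_Iic.2 le_rfl), sub_self]
  obtain ⟨t, ht, htd⟩ := hQβ (m - 1) m n (by ring) hmn v hv hvd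
  obtain ⟨tt, htt⟩ := hlift β (m - 1) t ht
  refine ⟨yt + (u₀ - dd (K.obj (op β)) (m - 1) m tt), ?_, ?_⟩
  · rw [map_add, map_sub, dd_dd, sub_zero, hu₀]
    change dd (K.obj (op β)) m n yt + (z β - dd (K.obj (op β)) m n yt) = z β
    abel
  · intro γ h
    rw [map_add, map_sub, hyt γ h, rs_d, htt γ h, htd γ h]
    simp only [v, dif_pos h]
    abel

/-- partial solutions -/
structure PS (J : Set I) (m n : ℤ) (z : ∀ γ, (K.obj (op γ)).X n) where
  S : Set I
  hS : S ⊆ J
  low : IsLowerSet S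
  y : ∀ γ, (K.obj (op γ)).X m
  compat : Compat K S m y
  hd : ∀ γ ∈ S, dd (K.obj (op γ)) m n (y γ) = z γ

variable {K} in
/-- extension order on partial solutions -/
def PS.le {J : Set I} {m n : ℤ} {z : ∀ γ, (K.obj (op γ)).X n} (a b : PS K J m n z) : Prop :=
  a.S ⊆ b.S ∧ ∀ γ ∈ a.S, a.y γ = b.y γ

lemma PS.chain_bound {J : Set I} {m n : ℤ} {z : ∀ γ, (K.obj (op γ)).X n}
    (c : Set (PS K J m n z)) (hc : IsChain PS.le c) :
    ∃ ub : PS K J m n z, ∀ a ∈ c, a.le ub := by
  classical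
  let S : Set I := ⋃ a ∈ c, a.S
  let y : ∀ γ, (K.obj (op γ)).X m := fun γ =>
    if h : ∃ a ∈ c, γ ∈ a.S then h.choose.y γ else 0
  have hy : ∀ a ∈ c, ∀ γ ∈ a.S, y γ = a.y γ := by
    intro a ha γ hγ
    have h : ∃ a ∈ c, γ ∈ a.S := ⟨a, ha, hγ⟩
    simp only [y, dif_pos h]
    obtain ⟨ha₀, hγ₀⟩ := h.choose_spec
    by_cases heq : h.choose = a
    · rw [heq]
    · rcases hc ha₀ ha heq with h1 | h1
      · exact h1.2 γ hγ₀
      · exact (h1.2 γ hγ).symm
  refine ⟨⟨S, ?_, ?_, y, ?_, ?_⟩, ?_⟩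
  · intro γ hγ
    simp only [S, Set.mem_iUnion] at hγ
    obtain ⟨a, ha, hγa⟩ := hγ
    exact a.hS hγa
  · intro γ' γ h hγ'
    simp only [S, Set.mem_iUnion] at hγ' ⊢
    obtain ⟨a, ha, hγa⟩ := hγ'
    exact ⟨a, ha, a.low h hγa⟩
  · intro γ γ' h hγ'
    simp only [S, Set.mem_iUnion] at hγ'
    obtain ⟨a, ha, hγa⟩ := hγ'
    rw [hy a ha γ' hγa, hy a ha γ (a.low h hγa)]
    exact a.compat γ γ' h hγa
  · intro γ hγ
    simp only [S, Set.mem_iUnion] at hγ
    obtain ⟨a, ha, hγa⟩ := hγ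
    rw [hy a ha γ hγa]
    exact a.hd γ hγa
  · intro a ha
    refine ⟨fun γ hγ => ?_, fun γ hγ => (hy a ha γ hγ).symm⟩
    simp only [S, Set.mem_iUnion]
    exact ⟨a, ha, hγ⟩

variable [WellFoundedLT I]

include hex hlift in
lemma step (J : Set I) (hJ : IsLowerSet J) (hQ : ∀ β ∈ J, Q K (Set.Iio β)) : Q K J := by
  classical
  intro m n p hmn hnp z hz hzd
  obtain ⟨m₀, hm₀⟩ := exists_maximal_of_chains_bounded
    (r := fun a b : PS K J m n z => a.le b)
    (fun c hc => PS.chain_bound K c hc)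
    (fun {a b c} hab hbc => ⟨hab.1.trans hbc.1, fun γ hγ => (hab.2 γ hγ).trans (hbc.2 γ (hab.1 hγ))⟩)
  have hS : m₀.S = J := by
    by_contra hne
    have hne' : (J \ m₀.S).Nonempty := by
      rw [Set.nonempty_iff_ne_empty]
      intro h
      apply hne
      exact Set.Subset.antisymm m₀.hS (Set.diff_eq_empty.1 h)
    obtain ⟨β, hβ, hmin⟩ := WellFounded.has_min (wellFounded_lt (α := I)) _ hne'
    have hIio : ∀ γ, γ < β → γ ∈ m₀.S := by
      intro γ hγ
      by_contra hγS
      exact hmin γ ⟨hJ hγ.le hβ.1, hγS⟩ hγ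
    obtain ⟨yβ, hyβd, hyβr⟩ := extend K hex hlift β (hQ β hβ.1) m n p hmn hnp z
      (fun γ γ' h hγ' => hz γ γ' h (hJ (Set.mem_Iic.1 hγ') hβ.1))
      (hzd β hβ.1) m₀.y
      (fun γ γ' h hγ' => m₀.compat γ γ' h (hIio γ' hγ'))
      (fun γ hγ => m₀.hd γ (hIio γ hγ))
    let a : PS K J m n z :=
      { S := m₀.S ∪ {β}
        hS := Set.union_subset m₀.hS (Set.singleton_subset_iff.2 hβ.1)
        low := by
          intro γ' γ h hγ'
          rcases hγ' with hγ' | hγ'
          · exact Or.inl (m₀.low h hγ')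
          · rw [Set.mem_singleton_iff] at hγ'
            subst hγ'
            rcases lt_or_eq_of_le h with h1 | h1
            · exact Or.inl (hIio γ h1)
            · exact Or.inr (Set.mem_singleton_iff.2 h1)
        y := Function.update m₀.y β yβ
        compat := by
          intro γ γ' h hγ'
          rcases hγ' with hγ' | hγ'
          · have h1 : γ' ≠ β := fun e => hβ.2 (e ▸ hγ')
            have h2 : γ ≠ β := fun e => hβ.2 (e ▸ m₀.low h hγ')
            rw [Function.update_of_ne h1, Function.update_of_ne h2]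
            exact m₀.compat γ γ' h hγ'
          · rw [Set.mem_singleton_iff] at hγ'
            subst hγ'
            rw [Function.update_self]
            rcases lt_or_eq_of_le h with h1 | h1
            · rw [Function.update_of_ne h1.ne]
              exact hyβr γ h1
            · subst h1
              rw [Function.update_self]
              exact rs_self K m yβ
        hd := by
          intro γ hγ
          rcases hγ with hγ | hγ
          · have h1 : γ ≠ β := fun e => hβ.2 (e ▸ hγ)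
            rw [Function.update_of_ne h1]
            exact m₀.hd γ hγ
          · rw [Set.mem_singleton_iff] at hγ
            subst hγ
            rw [Function.update_self]
            exact hyβd }
    have hle : m₀.le a := by
      refine ⟨Set.subset_union_left, fun γ hγ => ?_⟩
      have h1 : γ ≠ β := fun e => hβ.2 (e ▸ hγ)
      exact (Function.update_of_ne h1 _ _).symm
    exact hβ.2 ((hm₀ a hle).1 (Or.inr rfl))
  refine ⟨m₀.y, ?_, ?_⟩
  · have := m₀.compat
    rwa [hS] at this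
  · intro γ hγ
    rw [← hS] at hγ
    exact m₀.hd γ hγ

include hex hlift in
lemma Q_Iio (β : I) : Q K (Set.Iio β) := by
  induction β using WellFounded.induction (wellFounded_lt (α := I)) with
  | _ β ih =>
    exact step K hex hlift (Set.Iio β) (isLowerSet_Iio β) (fun β' hβ' => ih β' hβ')

include hex hlift in
lemma Q_univ : Q K Set.univ :=
  step K hex hlift Set.univ isLowerSet_univ (fun β _ => Q_Iio K hex hlift β)

end

/-- Let I be a well-ordered type and K : Iᵒᵖ ⥤ CochainComplex Ab an inverse system of acyclic complexes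
of abelian groups such that for every β and every degree n, each family of elements of the Kⁿ_γ (γ <
β) compatible under the transition maps lifts to an element of Kⁿ_β (i.e. Kⁿ_β → lim_{γ<β} Kⁿ_γ is
surjective). Then the limit complex lim K is acyclic. -/
theorem result {I : Type w} [LinearOrder I] [WellFoundedLT I]
    (K : Iᵒᵖ ⥤ CochainComplex AddCommGrpCat.{w} ℤ)
    (hac : ∀ (β : I) (n : ℤ), (K.obj (op β)).ExactAt n)
    (hsurj : ∀ (β : I) (n : ℤ) (x : ∀ γ : {γ : I // γ < β}, (K.obj (op γ.1)).X n),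
      (∀ (γ γ' : {γ : I // γ < β}) (h : γ.1 ≤ γ'.1), ((K.map (homOfLE h).op).f n).hom (x γ') = x γ) →
      ∃ y : (K.obj (op β)).X n, ∀ γ : {γ : I // γ < β}, ((K.map (homOfLE γ.2.le).op).f n).hom y = x γ)
    (n : ℤ) : (limit K).ExactAt n := by
  have hex : ∀ (β : I) (m n p : ℤ), m + 1 = n → n + 1 = p → ∀ x : (K.obj (op β)).X n,
      Groth.Agent.Helper3.LimCplx.dd (K.obj (op β)) n p x = 0 →
      ∃ y : (K.obj (op β)).X m, Groth.Agent.Helper3.LimCplx.dd (K.obj (op β)) m n y = x :=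
    fun β m n p hmn hnp =>
      (Groth.Agent.Helper3.LimCplx.exactAt_iff_elt (K.obj (op β)) m n p hmn hnp).1 (hac β n)
  have hlift : ∀ (β : I) (q : ℤ) (x : ∀ γ, (K.obj (op γ)).X q), Compat K (Set.Iio β) q x →
      ∃ y : (K.obj (op β)).X q, ∀ (γ : I) (h : γ < β), rs K h.le q y = x γ := by
    intro β q x hx
    obtain ⟨y, hy⟩ := hsurj β q (fun γ => x γ.1) (fun γ γ' h => hx γ.1 γ'.1 h γ'.2)
    exact ⟨y, fun γ h => hy ⟨γ, h⟩⟩
  rw [Groth.Agent.Helper3.LimCplx.exactAt_iff_elt (limit K) (n - 1) n (n + 1) (by ring) rfl]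
  intro x hx
  obtain ⟨y, hy, hyd⟩ := Q_univ K hex hlift (n - 1) n (n + 1) (by ring) rfl
    (fun γ => Groth.Agent.Helper3.LimCplx.comp K (op γ) n x)
    (fun γ γ' h _ => Groth.Agent.Helper3.LimCplx.comp_map K (homOfLE h).op n x)
    (fun γ _ => by
      rw [← Groth.Agent.Helper3.LimCplx.comp_d, hx, map_zero])
  obtain ⟨Y, hY⟩ := Groth.Agent.Helper3.LimCplx.exists_of_compatible K (n - 1)
    (fun j => y j.unop) (fun {j j'} f => by
      have hle : j'.unop ≤ j.unop := f.unop.le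
      have : f = (homOfLE hle).op := Subsingleton.elim _ _
      rw [this]
      exact hy j'.unop j.unop hle trivial)
  refine ⟨Y, Groth.Agent.Helper3.LimCplx.ext_of_comp K n _ _ (fun j => ?_)⟩
  rw [Groth.Agent.Helper3.LimCplx.comp_d, hY j]
  exact hyd j.unop trivial

end Groth.Agent.S0992
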