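import Groth.Statements.S10047
import Groth.Agent.Lib.Helper2.AlgSp.ThickProper
import Groth.Agent.Lib.Helper2.AlgSp.ThickLftFp


set_option autoImplicit false
universe u
open CategoryTheory CategoryTheory.Limits AlgebraicGeometry
open AlgSp

namespace Groth.Agent.S10047

/-- Let `f : X ⟶ B` and `g : B' ⟶ B` be morphisms of algebraic spaces over `S` with `g` a closed
immersion inducing a bijection on points, and suppose the base change `X ×_B B' ⟶ B'` is a closed
immersion. If `f` is of finite type or `g` is of finite presentation, then `f` is a closed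
immersion. -/
theorem result (S : Scheme.{u}) {X B B' : AlgSp.Space S}
    (f : X ⟶ B) (g : B' ⟶ B) (hg : AlgSp.RepWith @IsClosedImmersion g.hom)
    (hbij : Function.Bijective (AlgSp.Points.map g.hom))
    (X' : AlgSp.Sp S) (fst : X' ⟶ X.obj) (snd : X' ⟶ B'.obj) (hX' : IsPullback fst snd f.hom g.hom)
    (hsnd : AlgSp.RepWith @IsClosedImmersion snd)
    (hor : AlgSp.IsFiniteTypeMor f.hom ∨ AlgSp.IsFinitePresentationMor g.hom) :
    AlgSp.RepWith @IsClosedImmersion f.hom := by
  have hX := X.property
  have hB := B.property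
  have hB' := B'.property
  have hXa' : AlgSp.IsAlgSpace X' :=
    Groth.Agent.Helper2.AlgSpBasic.isAlgSpace_of_isPullback hB.diag hX hB' f.hom g.hom fst snd hX'
  have hsur : AlgSp.RepWith @Surjective g.hom :=
    Groth.Agent.Helper2.AlgSpBasic.repWith_surjective_of_isSurjectiveMor g.hom hg.rep hbij.2
  have hthick : AlgSp.IsThickMor g.hom :=
    ⟨hg.rep, fun T W c p q sq => ⟨hg.property c p q sq, hsur.property c p q sq⟩⟩
  have hlsnd : AlgSp.LocP @LocallyOfFiniteType snd :=
    Groth.Agent.Helper2.AlgSpBasic.locP_of_repWith @LocallyOfFiniteType hXa'.diag snd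
      (Groth.Agent.Helper2.AlgSpBasic.repWith_mono (fun _ _ g hg => by
        have : IsClosedImmersion g := hg
        infer_instance) hsnd)
  have hft' : AlgSp.LocP @LocallyOfFiniteType f.hom := by
    rcases hor with h | h
    · exact h.1
    · exact Groth.Agent.Helper2.ThickLft.locP_lft_of_thick_lfp fst g.hom snd f.hom hthick h.1 hX'
        hlsnd
  exact Groth.Agent.Helper2.ThickProper.ci_of_thick hXa' hX hB' hB fst g.hom snd f.hom
    hthick hX' hft' hsnd

end Groth.Agent.S10047
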