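import Groth.Statements.S1005
import Mathlib
import Groth.Agent.Lib.Helper5.DRing.RegTorDim
import Groth.Agent.Lib.Helper5.KSix.PerfStalk
import Groth.Agent.Lib.Helper5.Perf.PCCohNoeth

set_option autoImplicit false
universe u
open CategoryTheory CategoryTheory.Limits AlgebraicGeometry
attribute [local instance] HasDerivedCategory.standard
open Perf



namespace Groth.Agent.S1005

/-- Let X be a locally Noetherian scheme all of whose local rings are regular. Then every object of
D(O_X) with bounded, coherent cohomology is perfect. -/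
theorem result (X : Scheme.{u}) [IsLocallyNoetherian X]
    (hreg : ∀ x : X, IsRegularLocalRing (X.presheaf.stalk x))
    (K : DCoh.D X) (a b : ℤ) [K.IsGE a] [K.IsLE b] (hK : DCoh.IsCohD K) : DCoh.IsPerfect K := by
  let F : CochainComplex X.Modules ℤ := DerivedCategory.Q.objPreimage K
  let e : DerivedCategory.Q.obj F ≅ K := DerivedCategory.Q.objObjPreimageIso K
  have hPC : ∀ m : ℤ, DCoh.IsPseudoCoherentD m (DCoh.toD X F) := fun m =>
    Groth.Agent.Lib.Helper5.PCTri.isPC_of_iso e.symm
      (Groth.Agent.Lib.Helper5.PCCoh.isPC_of_isCoh_HD K (fun i => (hK i).1) m (fun i _ => hK i) b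
        (fun i hi => DerivedCategory.isZero_of_isLE K b i hi))
  haveI : (DCoh.toD X F).IsGE a := DerivedCategory.TStructure.t.isGE_of_iso e.symm a
  haveI : (DCoh.toD X F).IsLE b := DerivedCategory.TStructure.t.isLE_of_iso e.symm b
  have hX : ∀ (x : X) (M : Type u) [AddCommGroup M] [Module (X.presheaf.stalk x) M],
      DRing.HasFiniteTorDim (X.presheaf.stalk x) M := fun x M _ _ => by
    haveI := hreg x
    exact Groth.Agent.Lib.Helper5.RegTorDim.hasFiniteTorDim (X.presheaf.stalk x) M
  exact Groth.Agent.Lib.Helper5.PerfTri.isPerfect_of_iso e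
    (Groth.Agent.Lib.Helper5.KSixPerf.isPerfect_of_pseudoCoherent_of_finiteTorDim hX F a b hPC)

end Groth.Agent.S1005
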