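import Groth.Statements.S10067
import Mathlib

set_option autoImplicit false
universe u
open CategoryTheory CategoryTheory.Limits AlgebraicGeometry
open AlgSp

namespace Groth.Agent.S10067

section
open CategoryTheory CategoryTheory.Limits AlgebraicGeometry Opposite

theorem pb_iff {J : Type u} [SmallCategory J] [IsFiltered J] {Φ Γ : J ⥤ Type (u+1)} (α : Φ ⟶ Γ)
    (sF : Cocone Φ) (sG : Cocone Γ) (b : sF.pt ⟶ sG.pt)
    (hb : ∀ j (x : Φ.obj j), b (sF.ι.app j x) = sG.ι.app j (α.app j x)) :
    IsPullback (colimMap α) (colimit.desc Φ sF) (colimit.desc Γ sG) b ↔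
      (∀ j (x x' : Φ.obj j), α.app j x = α.app j x' → sF.ι.app j x = sF.ι.app j x' →
          ∃ (k : J) (f : j ⟶ k), Φ.map f x = Φ.map f x') ∧
      (∀ j (y : Γ.obj j) (x : sF.pt), sG.ι.app j y = b x →
          ∃ (k : J) (f : j ⟶ k) (x' : Φ.obj k), α.app k x' = Γ.map f y ∧ sF.ι.app k x' = x) := by
  have hcm : ∀ j (x : Φ.obj j), colimMap α (colimit.ι Φ j x) = colimit.ι Γ j (α.app j x) := by
    intro j x
    exact types_congr_hom (ι_colimMap α j) x
  have hdF : ∀ j (x : Φ.obj j), colimit.desc Φ sF (colimit.ι Φ j x) = sF.ι.app j x := by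
    intro j x
    exact types_congr_hom (colimit.ι_desc sF j) x
  have hdG : ∀ j (x : Γ.obj j), colimit.desc Γ sG (colimit.ι Γ j x) = sG.ι.app j x := by
    intro j x
    exact types_congr_hom (colimit.ι_desc sG j) x
  rw [Types.isPullback_iff]
  constructor
  · rintro ⟨-, hinj, hsurj⟩
    refine ⟨?_, ?_⟩
    · intro j x x' h1 h2
      have := hinj (colimit.ι Φ j x) (colimit.ι Φ j x') ⟨by rw [hcm, hcm, h1], by rw [hdF, hdF, h2]⟩
      exact (Types.FilteredColimit.isColimit_eq_iff' (colimit.isColimit Φ) x x').1 this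
    · intro j y x h
      obtain ⟨p, hp1, hp2⟩ := hsurj (colimit.ι Γ j y) x (by rw [hdG, h])
      obtain ⟨k0, x0, rfl⟩ := Types.jointly_surjective' p
      rw [hcm] at hp1
      rw [hdF] at hp2
      obtain ⟨k, f, g, hfg⟩ := (Types.FilteredColimit.colimit_eq_iff Γ).1 hp1
      refine ⟨k, g, Φ.map f x0, ?_, ?_⟩
      · rw [← hfg]
        exact types_congr_hom (α.naturality f) x0
      · rw [← hp2]
        exact types_congr_hom (sF.w f) x0
  · rintro ⟨hinj, hsurj⟩
    refine ⟨?_, ?_, ?_⟩
    · apply colimit.hom_ext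
      intro j
      ext x
      change colimit.desc Γ sG (colimMap α (colimit.ι Φ j x)) = b (colimit.desc Φ sF (colimit.ι Φ j x))
      rw [hcm, hdG, hdF, hb]
    · rintro p q ⟨h1, h2⟩
      obtain ⟨j, x, x', rfl, rfl⟩ :=
        Types.FilteredColimit.jointly_surjective_of_isColimit₂ (colimit.isColimit Φ) p q
      change colimMap α (colimit.ι Φ j x) = colimMap α (colimit.ι Φ j x') at h1
      change colimit.desc Φ sF (colimit.ι Φ j x) = colimit.desc Φ sF (colimit.ι Φ j x') at h2
      change colimit.ι Φ j x = colimit.ι Φ j x'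
      rw [hcm, hcm] at h1
      rw [hdF, hdF] at h2
      obtain ⟨k, f, hf⟩ := (Types.FilteredColimit.isColimit_eq_iff' (colimit.isColimit Γ) _ _).1 h1
      have e1 : α.app k (Φ.map f x) = α.app k (Φ.map f x') := by
        have n1 := types_congr_hom (α.naturality f) x
        have n2 := types_congr_hom (α.naturality f) x'
        simp only [comp_apply] at n1 n2
        rw [n1, n2, hf]
      have e2 : sF.ι.app k (Φ.map f x) = sF.ι.app k (Φ.map f x') := by
        have n1 := types_congr_hom (sF.w f) x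
        have n2 := types_congr_hom (sF.w f) x'
        simp only [comp_apply] at n1 n2
        rw [n1, n2, h2]
      obtain ⟨k', f', hf'⟩ := hinj k _ _ e1 e2
      refine (Types.FilteredColimit.isColimit_eq_iff' (colimit.isColimit Φ) _ _).2 ⟨k', f ≫ f', ?_⟩
      simpa using hf'
    · intro g x h
      obtain ⟨j, y, rfl⟩ := Types.jointly_surjective' g
      rw [hdG] at h
      obtain ⟨k, f, x', h1, h2⟩ := hsurj j y x h
      refine ⟨colimit.ι Φ k x', ?_, ?_⟩
      · rw [hcm, h1]
        exact types_congr_hom (colimit.w Γ f) y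
      · rw [hdF, h2]


section fwd
variable {S : Scheme.{u}} {I : Type u} [SmallCategory I] (D : I ⥤ Over S) (c : Cone D) (i : I)

/-- the system over `T_i` -/
def D' : Over i ⥤ Over (D.obj i).left where
  obj j := Over.mk (D.map j.hom).left
  map {j j'} f := Over.homMk (D.map f.left).left (by
    change (D.map f.left).left ≫ (D.map j'.hom).left = (D.map j.hom).left
    rw [← Over.comp_left, ← D.map_comp, Over.w])
  map_id := by intro j; ext; simp
  map_comp := by intros; ext; simp

def c' : Cone (D' D i) where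
  pt := Over.mk (c.π.app i).left
  π :=
    { app := fun j => Over.homMk (c.π.app j.left).left (by
        change (c.π.app j.left).left ≫ (D.map j.hom).left = (c.π.app i).left
        rw [← Over.comp_left, c.w])
      naturality := by
        intro j j' f
        ext
        simp only [Functor.const_obj_obj, Functor.const_obj_map, Category.id_comp, Over.comp_left,
          Over.homMk_left]
        change (c.π.app j'.left).left = (c.π.app j.left).left ≫ (D.map f.left).left
        rw [← Over.comp_left, c.w] }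

noncomputable def isLimit' [IsCofiltered I] (hc : IsLimit ((Over.forget S).mapCone c)) :
    IsLimit ((Over.forget (D.obj i).left).mapCone (c' D c i)) := by
  have h1 := (Functor.Initial.isLimitWhiskerEquiv (Over.forget i) ((Over.forget S).mapCone c)).symm hc
  refine (IsLimit.equivOfNatIsoOfIso (NatIso.ofComponents (fun j => Iso.refl _) ?_) _ _
    (Cones.ext (Iso.refl _) ?_)) h1
  · intro j j' f
    simp
  · intro j
    simp

def e (j : Over i) : (Over.map (D.obj i).hom).obj ((D' D i).obj j) ≅ D.obj j.left :=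
  Over.isoMk (Iso.refl _) (by
    change 𝟙 _ ≫ (D.obj j.left).hom = (D.map j.hom).left ≫ (D.obj i).hom
    rw [Category.id_comp, Over.w])

def eInf : (Over.map (D.obj i).hom).obj (c' D c i).pt ≅ c.pt :=
  Over.isoMk (Iso.refl _) (by
    change 𝟙 _ ≫ c.pt.hom = (c.π.app i).left ≫ (D.obj i).hom
    rw [Category.id_comp, Over.w]
    rfl)

theorem E1 {j j' : Over i} (f : j ⟶ j') :
    (Over.map (D.obj i).hom).map ((D' D i).map f) ≫ (e D i j').hom = (e D i j).hom ≫ D.map f.left := by
  ext
  simp [e, D']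

theorem E2 (j : Over i) :
    (Over.map (D.obj i).hom).map ((c' D c i).π.app j) ≫ (e D i j).hom =
      (eInf D c i).hom ≫ c.π.app j.left := by
  ext
  change (c.π.app j.left).left ≫ 𝟙 _ = 𝟙 _ ≫ (c.π.app j.left).left
  simp

theorem E3 (j : Over i) :
    AlgSp.overHom (D.obj i) ((D' D i).obj j) = (e D i j).hom ≫ D.map j.hom := by
  ext
  simp [e, D']

theorem E4 :
    AlgSp.overHom (D.obj i) (c' D c i).pt = (eInf D c i).hom ≫ c.π.app i := by
  ext
  simp [eInf, c']


variable {F G : AlgSp.PSp S} (a : F ⟶ G)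

theorem Fmap_comp {X Y Z : Over S} (H : AlgSp.PSp S) (f : X ⟶ Y) (g : Y ⟶ Z) (x : H.obj (op Z)) :
    H.map f.op (H.map g.op x) = H.map (f ≫ g).op x := by
  rw [op_comp, Functor.map_comp]
  rfl

theorem anat {X Y : Over S} (f : X ⟶ Y) (x : F.obj (op Y)) :
    a.app (op X) (F.map f.op x) = G.map f.op (a.app (op Y) x) :=
  types_congr_hom (a.naturality f.op) x

/-- lifting an element into the fibre functor -/
def lift (y : G.obj (op (D.obj i))) (j : Over i) (x : F.obj (op (D.obj j.left)))
    (h : a.app _ x = G.map (D.map j.hom).op y) :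
    (AlgSp.fiberFun a (D.obj i) y).obj (op ((D' D i).obj j)) :=
  ⟨F.map (e D i j).hom.op x, by
    rw [anat, h, Fmap_comp, E3]⟩

def liftInf (y : G.obj (op (D.obj i))) (x : F.obj (op c.pt))
    (h : a.app _ x = G.map (c.π.app i).op y) :
    (AlgSp.fiberFun a (D.obj i) y).obj (op (c' D c i).pt) :=
  ⟨F.map (eInf D c i).hom.op x, by
    rw [anat, h, Fmap_comp, E4]⟩

theorem Fmap_iso_inj {X Y : Over S} (H : AlgSp.PSp S) (f : X ≅ Y) (x x' : H.obj (op Y))
    (h : H.map f.hom.op x = H.map f.hom.op x') : x = x' := by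
  have := congrArg (H.map f.inv.op) h
  rw [Fmap_comp, Fmap_comp] at this
  simpa using this


theorem fwd_main [IsCofiltered I] (ha : AlgSp.IsRelLimitPreserving a)
    (hc : IsLimit ((Over.forget S).mapCone c)) (hD : ∀ i, IsAffine (D.obj i).left)
    (hT : IsAffine c.pt.left) :
    IsPullback (colimMap (Functor.whiskerLeft D.op a)) (colimit.desc (D.op ⋙ F) (F.mapCocone c.op))
      (colimit.desc (D.op ⋙ G) (G.mapCocone c.op)) (a.app (Opposite.op c.pt)) := by
  rw [pb_iff (Functor.whiskerLeft D.op a) (F.mapCocone c.op) (G.mapCocone c.op) (a.app (op c.pt))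
    (fun j x => anat a (c.π.app j.unop) x)]
  refine ⟨?_, ?_⟩
  · intro j x x' h1 h2
    obtain ⟨i⟩ := j
    change F.obj (op (D.obj i)) at x x'
    change a.app (op (D.obj i)) x = a.app (op (D.obj i)) x' at h1
    change F.map (c.π.app i).op x = F.map (c.π.app i).op x' at h2
    obtain ⟨hcol⟩ := ha (D.obj i) (a.app _ x) (D' D i) (c' D c i) (isLimit' D c i hc)
      (fun j => hD j.left) hT
    have hy : ∀ z : F.obj (op (D.obj i)), a.app _ z = a.app _ x →
        a.app _ z = G.map (D.map (Over.mk (𝟙 i)).hom).op (a.app _ x) := by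
      intro z hz
      rw [hz]
      change _ = G.map (D.map (𝟙 i)).op _
      simp
    let ξ := lift D i a (a.app _ x) (Over.mk (𝟙 i)) x (hy x rfl)
    let ξ' := lift D i a (a.app _ x) (Over.mk (𝟙 i)) x' (hy x' h1.symm)
    have key : ((AlgSp.fiberFun a (D.obj i) (a.app _ x)).mapCocone (c' D c i).op).ι.app
        (op (Over.mk (𝟙 i))) ξ =
        ((AlgSp.fiberFun a (D.obj i) (a.app _ x)).mapCocone (c' D c i).op).ι.app
        (op (Over.mk (𝟙 i))) ξ' := by
      apply Subtype.ext
      change F.map ((Over.map (D.obj i).hom).map ((c' D c i).π.app (Over.mk (𝟙 i)))).op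
          (F.map (e D i (Over.mk (𝟙 i))).hom.op x) =
        F.map ((Over.map (D.obj i).hom).map ((c' D c i).π.app (Over.mk (𝟙 i)))).op
          (F.map (e D i (Over.mk (𝟙 i))).hom.op x')
      rw [Fmap_comp, Fmap_comp, E2, ← Fmap_comp, ← Fmap_comp]
      exact congrArg _ h2
    obtain ⟨k, f, hf⟩ := (Types.FilteredColimit.isColimit_eq_iff' hcol ξ ξ').1 key
    obtain ⟨k⟩ := k
    obtain ⟨g, rfl⟩ : ∃ g : k ⟶ Over.mk (𝟙 i), f = g.op := ⟨f.unop, rfl⟩
    refine ⟨op k.left, g.left.op, ?_⟩
    have hf' := congrArg Subtype.val hf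
    change F.map ((Over.map (D.obj i).hom).map ((D' D i).map g)).op
          (F.map (e D i (Over.mk (𝟙 i))).hom.op x) =
        F.map ((Over.map (D.obj i).hom).map ((D' D i).map g)).op
          (F.map (e D i (Over.mk (𝟙 i))).hom.op x') at hf'
    rw [Fmap_comp, Fmap_comp, E1 D i g, ← Fmap_comp, ← Fmap_comp] at hf'
    exact Fmap_iso_inj F _ _ _ hf'
  · intro j y x h
    obtain ⟨i⟩ := j
    change G.obj (op (D.obj i)) at y
    change F.obj (op c.pt) at x
    change G.map (c.π.app i).op y = a.app (op c.pt) x at h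
    obtain ⟨hcol⟩ := ha (D.obj i) y (D' D i) (c' D c i) (isLimit' D c i hc)
      (fun j => hD j.left) hT
    obtain ⟨k, ξ, hξ⟩ := Types.jointly_surjective_of_isColimit hcol (liftInf D c i a y x h.symm)
    obtain ⟨k⟩ := k
    have hξ' := congrArg Subtype.val hξ
    change F.map ((Over.map (D.obj i).hom).map ((c' D c i).π.app k)).op ξ.1 =
      F.map (eInf D c i).hom.op x at hξ'
    refine ⟨op k.left, k.hom.op, F.map (e D i k).inv.op ξ.1, ?_, ?_⟩
    · change a.app (op (D.obj k.left)) (F.map (e D i k).inv.op ξ.1) = G.map (D.map k.hom).op y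
      have hξ2 : a.app (op ((Over.map (D.obj i).hom).obj ((D' D i).obj k))) ξ.1 =
          G.map (AlgSp.overHom (D.obj i) ((D' D i).obj k)).op y := ξ.2
      rw [anat, hξ2, Fmap_comp, E3]
      simp
    · change F.map (c.π.app k.left).op (F.map (e D i k).inv.op ξ.1) = x
      have e2 : c.π.app k.left ≫ (e D i k).inv =
          (eInf D c i).inv ≫ (Over.map (D.obj i).hom).map ((c' D c i).π.app k) := by
        rw [Iso.comp_inv_eq, Category.assoc, E2, Iso.inv_hom_id_assoc]
      rw [Fmap_comp, e2, ← Fmap_comp, hξ', Fmap_comp]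
      simp

end fwd


section bwd
variable {S : Scheme.{u}} {F G : AlgSp.PSp S} (a : F ⟶ G)

theorem bwd_main
    (H : ∀ ⦃I : Type u⦄ [SmallCategory I] [IsCofiltered I] (D : I ⥤ Over S) (c : Cone D),
        IsLimit ((Over.forget S).mapCone c) → (∀ i, IsAffine (D.obj i).left) → IsAffine c.pt.left →
          IsPullback (colimMap (Functor.whiskerLeft D.op a))
            (colimit.desc (D.op ⋙ F) (F.mapCocone c.op))
            (colimit.desc (D.op ⋙ G) (G.mapCocone c.op)) (a.app (Opposite.op c.pt))) :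
    AlgSp.IsRelLimitPreserving a := by
  intro T y I _ _ D c hc hD hT
  have hpb := H (D ⋙ Over.map T.hom) ((Over.map T.hom).mapCone c) hc hD hT
  obtain ⟨hinj, hsurj⟩ := (pb_iff (Functor.whiskerLeft (D ⋙ Over.map T.hom).op a)
    (F.mapCocone ((Over.map T.hom).mapCone c).op) (G.mapCocone ((Over.map T.hom).mapCone c).op)
    (a.app (op ((Over.map T.hom).obj c.pt)))
    (fun j x => anat a ((Over.map T.hom).map (c.π.app j.unop)) x)).1 hpb
  refine ⟨Types.FilteredColimit.isColimitOf' _ _ ?_ ?_⟩
  · intro ξ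
    obtain ⟨i0⟩ := IsCofiltered.nonempty (C := I)
    change (AlgSp.fiberFun a T y).obj (op c.pt) at ξ
    have h0 : G.map ((Over.map T.hom).map (c.π.app i0)).op
        (G.map (AlgSp.overHom T (D.obj i0)).op y) =
        a.app (op ((Over.map T.hom).obj c.pt)) ξ.1 := by
      have hξ2 : a.app (op ((Over.map T.hom).obj c.pt)) ξ.1 =
          G.map (AlgSp.overHom T c.pt).op y := ξ.2
      rw [Fmap_comp, AlgSp.map_comp_overHom]
      exact hξ2.symm
    obtain ⟨k, f, x', h1, h2⟩ := hsurj (op i0) (G.map (AlgSp.overHom T (D.obj i0)).op y) ξ.1 h0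
    obtain ⟨k⟩ := k
    obtain ⟨g, rfl⟩ : ∃ g : k ⟶ i0, f = g.op := ⟨f.unop, rfl⟩
    change F.obj (op ((Over.map T.hom).obj (D.obj k))) at x'
    change a.app (op ((Over.map T.hom).obj (D.obj k))) x' =
      G.map ((Over.map T.hom).map (D.map g)).op (G.map (AlgSp.overHom T (D.obj i0)).op y) at h1
    change F.map ((Over.map T.hom).map (c.π.app k)).op x' = ξ.1 at h2
    rw [Fmap_comp, AlgSp.map_comp_overHom] at h1
    refine ⟨op k, ⟨x', h1⟩, ?_⟩
    apply Subtype.ext
    exact h2.symm
  · intro j ξ ξ' h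
    obtain ⟨i⟩ := j
    have hξ2 : a.app (op ((Over.map T.hom).obj (D.obj i))) ξ.1 =
        G.map (AlgSp.overHom T (D.obj i)).op y := ξ.2
    have hξ2' : a.app (op ((Over.map T.hom).obj (D.obj i))) ξ'.1 =
        G.map (AlgSp.overHom T (D.obj i)).op y := ξ'.2
    have h' := congrArg Subtype.val h
    change F.map ((Over.map T.hom).map (c.π.app i)).op ξ.1 =
      F.map ((Over.map T.hom).map (c.π.app i)).op ξ'.1 at h'
    obtain ⟨k, f, hf⟩ := hinj (op i) ξ.1 ξ'.1 (hξ2.trans hξ2'.symm) h'
    refine ⟨k, f, ?_⟩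
    apply Subtype.ext
    exact hf

end bwd


theorem main (S : Scheme.{u}) {F G : AlgSp.PSp S} (a : F ⟶ G) :
    AlgSp.IsRelLimitPreserving a ↔
      ∀ ⦃I : Type u⦄ [SmallCategory I] [IsCofiltered I] (D : I ⥤ Over S) (c : Cone D),
        IsLimit ((Over.forget S).mapCone c) → (∀ i, IsAffine (D.obj i).left) → IsAffine c.pt.left →
          IsPullback (colimMap (Functor.whiskerLeft D.op a)) (colimit.desc (D.op ⋙ F) (F.mapCocone c.op))
            (colimit.desc (D.op ⋙ G) (G.mapCocone c.op)) (a.app (Opposite.op c.pt)) := by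
  constructor
  · intro ha I _ _ D c hc hD hT
    exact fwd_main D c a ha hc hD hT
  · intro H
    exact bwd_main a H


end


/-- A transformation `a : F ⟶ G` of presheaves of sets on schemes over `S` is relatively limit
preserving if and only if, for every directed limit `T = lim T_i` of affine schemes over `S` (with
`T` affine), the square formed by `colim F(T_i) → F(T)`, `colim G(T_i) → G(T)` and the two maps
induced by `a` is cartesian in sets. -/
theorem result (S : Scheme.{u}) {F G : AlgSp.PSp S} (a : F ⟶ G) :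
    AlgSp.IsRelLimitPreserving a ↔
      ∀ ⦃I : Type u⦄ [SmallCategory I] [IsCofiltered I] (D : I ⥤ Over S) (c : Cone D),
        IsLimit ((Over.forget S).mapCone c) → (∀ i, IsAffine (D.obj i).left) → IsAffine c.pt.left →
          IsPullback (colimMap (Functor.whiskerLeft D.op a)) (colimit.desc (D.op ⋙ F) (F.mapCocone c.op))
            (colimit.desc (D.op ⋙ G) (G.mapCocone c.op)) (a.app (Opposite.op c.pt)) := by
  classical
  exact main S a

end Groth.Agent.S10067
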