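import Groth.Statements.S1007
import Mathlib
import Groth.Agent.Lib.Helper5.QC.HolimTrunc
import Groth.Agent.Lib.Helper5.QC.Spalt
import Groth.Agent.Lib.Helper5.QC.AffAcyc
import Groth.Agent.Lib.Helper5.QC.LTenQC
import Groth.Agent.S0485

set_option autoImplicit false
universe u
open CategoryTheory CategoryTheory.Limits AlgebraicGeometry
attribute [local instance] HasDerivedCategory.standard
open Perf



namespace Groth.Agent.S1007

/-- Let X be a scheme and E an object of D(O_X) with quasi-coherent cohomology sheaves. Then the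
canonical map from E to the derived limit of its truncations τ_{≥ -n}E is an isomorphism; concretely
(granted the countable product of the truncations exists in D(O_X), which holds): the map E ⟶ ∏
τ_{≥-n}E with components the truncation morphisms, followed by 'identity minus transition', extends
to a distinguished triangle E ⟶ ∏ τ_{≥-n}E ⟶ ∏ τ_{≥-n}E ⟶ E[1]. -/
theorem result (X : Scheme.{u}) (E : DCoh.D X) (hE : DCoh.IsQCohD E)
    [HasProduct (fun n : ℕ => ((DerivedCategory.TStructure.t : CategoryTheory.Triangulated.TStructure (DCoh.D X)).truncGE (-(n : ℤ))).obj E)] :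
    ∃ c : (∏ᶜ fun n : ℕ => ((DerivedCategory.TStructure.t : CategoryTheory.Triangulated.TStructure (DCoh.D X)).truncGE (-(n : ℤ))).obj E) ⟶ E⟦(1 : ℤ)⟧,
      CategoryTheory.Pretriangulated.Triangle.mk
        (Pi.lift fun n : ℕ => ((DerivedCategory.TStructure.t : CategoryTheory.Triangulated.TStructure (DCoh.D X)).truncGEπ (-(n : ℤ))).app E)
        (Pi.lift fun n : ℕ => Pi.π (fun n : ℕ => ((DerivedCategory.TStructure.t : CategoryTheory.Triangulated.TStructure (DCoh.D X)).truncGE (-(n : ℤ))).obj E) n -
          Pi.π (fun n : ℕ => ((DerivedCategory.TStructure.t : CategoryTheory.Triangulated.TStructure (DCoh.D X)).truncGE (-(n : ℤ))).obj E) (n + 1) ≫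
            ((DerivedCategory.TStructure.t : CategoryTheory.Triangulated.TStructure (DCoh.D X)).natTransTruncGEOfLE (-((n + 1 : ℕ) : ℤ)) (-(n : ℤ)) (Int.neg_le_neg (Int.ofNat_le.mpr (Nat.le_succ n)))).app E)
        c ∈ CategoryTheory.Pretriangulated.distinguishedTriangles := by
  haveI : EnoughInjectives X.Modules := Groth.Agent.S0485.result _ X.ringCatSheaf
  haveI : HasExt.{u} X.Modules := hasExt_of_enoughInjectives _
  let K : CochainComplex X.Modules ℤ := DerivedCategory.Q.objPreimage E
  let e : DerivedCategory.Q.obj K ≅ E := DerivedCategory.Q.objObjPreimageIso E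
  have hK : ∀ i, (K.homology i).IsQuasicoherent :=
    (Groth.Agent.Lib.Helper5.QC.isQCohD_Q_iff K).1
      (Groth.Agent.Lib.Helper5.QC.isQCohD_of_iso e.symm hE)
  have hs : QuasiIso (Helper5.KInj.holimLift (Helper5.KInj.tI K) (Helper5.KInj.tp K)
      (Helper5.KInj.ta K) (Helper5.KInj.ta_tp K)) := by
    refine Groth.Agent.Lib.Helper5.QC.quasiIso_holimLift_of_famAcyc
      (Groth.Agent.Lib.Helper5.QC.testFam X) K Groth.Agent.Lib.Helper5.QC.detects_testFam
      (fun m => ?_)
    haveI := hK m
    exact Groth.Agent.Lib.Helper5.QC.famAcyc_of_isQuasicoherent _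
  exact Groth.Agent.Lib.Helper5.HolimTrunc.exists_holim_triangle K e hs

end Groth.Agent.S1007
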