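import Groth.Statements.S10096
import Mathlib
import Groth.Agent.Lib.Helper2.AlgSp.BootPsh2
import Groth.Agent.Lib.Helper2.AlgSp.Mono

set_option autoImplicit false
universe u
open CategoryTheory CategoryTheory.Limits AlgebraicGeometry
open AlgSp

namespace Groth.Agent.S10096

/-- Let `a : F ⟶ G` be a map of fppf sheaves of sets over `S` that is flat, surjective, locally of
finite presentation and representable by algebraic spaces (every base change `h_U ×_G F ⟶ h_U` to a
scheme is such a morphism of algebraic spaces). Then `a` is surjective as a map of sheaves (an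
epimorphism of fppf sheaves). -/
theorem result (S : Scheme.{u}) (F G : AlgSp.Sp S) (a : F ⟶ G)
    (ha : AlgSp.RepBySpWith (AlgSp.IsSurjectiveMor ⊓ AlgSp.LocP @Flat ⊓ AlgSp.LocP @LocallyOfFinitePresentation) a.hom) :
    Epi a := by
  open Groth.Agent.Helper2.AlgSpBasic in
  have hls : Sheaf.IsLocallySurjective a := by
    constructor
    intro T s
    let ξ : (AlgSp.yon S).obj T ⟶ G := (AlgSp.J S).uliftYonedaEquiv.symm s
    have sq := IsPullback.of_hasPullback a ξ
    obtain ⟨hF', hQ⟩ := (AlgSp.repBySpWith_hom_iff _ a).1 ha ξ _ _ sq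
    have h1 : AlgSp.IsSurjectiveMor (pullback.snd a ξ) := hQ.1.1
    have h2 : AlgSp.LocP @Flat (pullback.snd a ξ) := hQ.1.2
    have h3 : AlgSp.LocP @LocallyOfFinitePresentation (pullback.snd a ξ) := hQ.2
    have h4 : Sheaf.IsLocallySurjective (pullback.snd a ξ) :=
      isLocallySurjective_of_locP_fppf_surjective hF' (AlgSp.IsAlgSpace.yon_obj T) _ h2 h3 h1
    have h5 := Presheaf.imageSieve_mem (AlgSp.J S) (pullback.snd a ξ).hom
      (⟨𝟙 T⟩ : ((AlgSp.yon S).obj T).obj.obj (Opposite.op T))
    refine (AlgSp.J S).superset_covering ?_ h5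
    rintro V g ⟨z, hz⟩
    refine ⟨(pullback.fst a ξ).hom.app _ z, ?_⟩
    have h6 : a.hom.app _ ((pullback.fst a ξ).hom.app _ z) =
        ξ.hom.app _ ((pullback.snd a ξ).hom.app _ z) := by
      have := congrArg (fun m => m.hom.app (Opposite.op V) z) sq.w
      exact this
    rw [h6, hz]
    change ξ.hom.app (Opposite.op V) (⟨g ≫ 𝟙 T⟩ : ULift _) = _
    rw [Category.comp_id]
    rfl
  infer_instance

end Groth.Agent.S10096
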