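import Groth.Statements.S1010
import Mathlib
import Groth.Agent.Lib.Helper5.Perf.HomVanishMV

set_option autoImplicit false
universe u
open CategoryTheory CategoryTheory.Limits AlgebraicGeometry
attribute [local instance] HasDerivedCategory.standard
open Perf



namespace Groth.Agent.S1010

/-- Let the scheme X be quasi-compact and quasi-separated and E a bounded object of D(O_X) with
quasi-coherent cohomology sheaves. There is an integer n₀ > 0 such that for every finite locally
free O_X-module F and every n ≥ n₀, every morphism F ⟶ E[n] in D(O_X) (an element of Extⁿ(F, E)) is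
zero. -/
theorem result (X : Scheme.{u}) [CompactSpace ↥X] [QuasiSeparatedSpace ↥X]
    (E : DCoh.D X) (hE : DCoh.IsQCohD E) (a b : ℤ) [E.IsGE a] [E.IsLE b] :
    ∃ n₀ : ℤ, 0 < n₀ ∧ ∀ (F : X.Modules), FlatMod.IsFinLocFree F → ∀ n : ℤ, n₀ ≤ n →
      ∀ φ : DCoh.inD X F ⟶ E⟦n⟧, φ = 0 := by
  obtain ⟨r, hr, h⟩ := Groth.Agent.Lib.Helper5.HomVanish.exists_uniform_bound (X := X)
  refine ⟨max 1 (b + r + 1), by omega, fun F hF n hn φ => ?_⟩
  refine h (DCoh.inD X F) 0 0 (Groth.Agent.Lib.Helper5.HomVanish.affHyp_inD F hF) (E⟦n⟧)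
    (Groth.Agent.Lib.Helper5.QC.isQCohD_shift' E hE n) (fun i hi _ => ?_) φ
  refine IsZero.of_iso (DerivedCategory.isZero_of_isLE E b (n + i) (by omega))
    (Groth.Agent.Lib.Helper5.QC.hdShiftIso E n i (n + i) rfl)

end Groth.Agent.S1010
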