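import Groth.Statements.S10118
import Groth.Agent.Lib.Helper2.AlgSp.SelfBC
import Groth.Agent.Lib.Helper2.AlgSp.Mono


set_option autoImplicit false
universe u
open CategoryTheory CategoryTheory.Limits AlgebraicGeometry MonoidalCategory MonObj
open AlgSp AlgSp.GAction

namespace Groth.Agent.S10118

/-- Let `X` be a pseudo-torsor under a group algebraic space `G` over an algebraic space `B`, where both
`G` and `X` are locally of finite type over `B`. Whenever `G ⟶ B` is unramified, `X ⟶ B` is
unramified too; likewise, local quasi-finiteness passes from `G ⟶ B` to `X ⟶ B`. -/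
theorem result (S : Scheme.{u}) (B : AlgSp.Sp S) (hB : AlgSp.IsAlgSpace B)
    (G X : Over B) [GrpObj G] (hG : AlgSp.IsAlgSpace G.left) (hX : AlgSp.IsAlgSpace X.left)
    (a : AlgSp.GAction G X) (ha : a.IsPseudoTorsor)
    (hGt : AlgSp.LocP @LocallyOfFiniteType G.hom) (hXt : AlgSp.LocP @LocallyOfFiniteType X.hom) :
    (AlgSp.LocP (@LocallyOfFiniteType ⊓ @FormallyUnramified) G.hom →
        AlgSp.LocP (@LocallyOfFiniteType ⊓ @FormallyUnramified) X.hom) ∧
      (AlgSp.LocP (@LocallyQuasiFinite ⊓ @LocallyOfFiniteType) G.hom →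
        AlgSp.LocP (@LocallyQuasiFinite ⊓ @LocallyOfFiniteType) X.hom) := by
  have hiso : IsIso (CartesianMonoidalCategory.lift a.act (CartesianMonoidalCategory.snd G X)) := ha
  have hφ : IsIso (CartesianMonoidalCategory.lift a.act (CartesianMonoidalCategory.snd G X)).left :=
    Functor.map_isIso (Over.forget B)
      (CartesianMonoidalCategory.lift a.act (CartesianMonoidalCategory.snd G X))
  obtain ⟨φ, hφdef⟩ : ∃ φ : pullback G.hom X.hom ⟶ pullback X.hom X.hom,
      φ = (CartesianMonoidalCategory.lift a.act (CartesianMonoidalCategory.snd G X)).left :=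
    ⟨_, rfl⟩
  have hφi : IsIso φ := by rw [hφdef]; exact hφ
  have hφsnd : φ ≫ pullback.snd X.hom X.hom = pullback.snd G.hom X.hom := by
    have h1 := congrArg (fun m => m.left)
      (CartesianMonoidalCategory.lift_snd a.act (CartesianMonoidalCategory.snd G X))
    simp only [Over.comp_left] at h1
    rw [hφdef]
    exact h1
  have hGX : AlgSp.IsAlgSpace (pullback G.hom X.hom) :=
    Groth.Agent.Helper2.AlgSpBasic.isAlgSpace_of_isPullback hB.diag hG hX G.hom X.hom _ _
      (IsPullback.of_hasPullback _ _)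
  have hXX : AlgSp.IsAlgSpace (pullback X.hom X.hom) :=
    Groth.Agent.Helper2.AlgSpBasic.isAlgSpace_of_isPullback hB.diag hX hX X.hom X.hom _ _
      (IsPullback.of_hasPullback _ _)
  have transfer : ∀ (P : MorphismProperty Scheme.{u})
      [Groth.Agent.Helper2.EtaleLocal.IsEtaleLocalST P],
      AlgSp.LocP P G.hom → AlgSp.LocP P (pullback.snd X.hom X.hom) := by
    intro P _ hP
    have h1 : AlgSp.LocP P (pullback.snd G.hom X.hom) :=
      Groth.Agent.Helper2.AlgSpBasic.locP_of_isPullback P hG hB hX hGX G.hom X.hom _ _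
        (IsPullback.of_hasPullback _ _) hP
    have h2 : pullback.snd X.hom X.hom = inv φ ≫ pullback.snd G.hom X.hom := by
      rw [IsIso.eq_inv_comp, hφsnd]
    rw [h2]
    exact Groth.Agent.Helper2.AlgSpBasic.locP_comp P hXX hGX hX _ _
      (Groth.Agent.Helper2.AlgSpBasic.locP_of_isIso P hGX.diag (inv φ)) h1
  constructor
  · intro h
    exact Groth.Agent.Helper2.SelfBC.unramified_of_snd hX hB X.hom hXt (transfer _ h)
  · intro h
    exact Groth.Agent.Helper2.SelfBC.lqf_of_snd hX hB X.hom hXt (transfer _ h)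

end Groth.Agent.S10118
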