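import Groth.Statements.S10150
import Groth.Agent.Lib.Lead.LinTop

set_option autoImplicit false
universe u v
open LinTop

namespace Groth.Agent.S10150

/-- Let φ : A → B be a continuous ring homomorphism between weakly pre-admissible linearly topologized
rings. Then φ is taut if and only if, for each weak ideal of definition I of A, the closure of the
ideal generated by φ(I) is again a weak ideal of definition, now of B, and every neighbourhood of 0
in B contains one of these closures. (The published statement takes A and B weakly admissible, that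
is, moreover Hausdorff and complete; completeness plays no role and this row omits it.) -/
theorem result
    (A : Type u) [CommRing A] [TopologicalSpace A] [IsTopologicalRing A] [IsLinearTopology A A]
    (B : Type v) [CommRing B] [TopologicalSpace B] [IsTopologicalRing B] [IsLinearTopology B B]
    (hA : LinTop.IsWeaklyPreadmissible A) (hB : LinTop.IsWeaklyPreadmissible B)
    (φ : A →+* B) (hφ : Continuous φ) :
    LinTop.IsTaut φ ↔
      ((∀ I : Ideal A, LinTop.IsWeakIdealOfDefinition A I →
          LinTop.IsWeakIdealOfDefinition B (I.map φ).closure) ∧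
        ∀ U ∈ nhds (0 : B), ∃ I : Ideal A, LinTop.IsWeakIdealOfDefinition A I ∧
          ((I.map φ).closure : Set B) ⊆ U) := by
  obtain ⟨_, I₀, hI₀o, hI₀n⟩ := hA
  have hinf : ∀ I' : Ideal A, IsOpen (I' : Set A) → LinTop.IsWeakIdealOfDefinition A (I' ⊓ I₀) := by
    intro I' hI'
    refine ⟨?_, fun f hf => hI₀n f hf.2⟩
    have : ((I' ⊓ I₀ : Ideal A) : Set A) = (I' : Set A) ∩ I₀ := rfl
    rw [this]
    exact hI'.inter hI₀o
  constructor
  · rintro ⟨hc, h2, h3⟩
    refine ⟨fun I hI => ⟨?_, ?_⟩, fun U hU => ?_⟩
    · rw [Ideal.coe_closure]; exact h2 I hI.1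
    · intro g hg
      exact Groth.Agent.Lead.isTopologicallyNilpotent_of_mem_closure_map φ hc I hI.2 g hg
    · obtain ⟨I', hI'o, hI'U⟩ := h3 U hU
      refine ⟨I' ⊓ I₀, hinf I' hI'o, ?_⟩
      rw [Ideal.coe_closure]
      exact (closure_mono (Ideal.map_mono inf_le_left)).trans hI'U
  · rintro ⟨h1, h2⟩
    refine ⟨hφ, fun I' hI' => ?_, fun U hU => ?_⟩
    · have h4 := (h1 _ (hinf I' hI')).1
      have hsub : ((((I' ⊓ I₀).map φ).closure : Ideal B) : Set B) ⊆ ((I'.map φ).closure : Set B) :=
        Groth.Agent.Lead.closure_mono' (Ideal.map_mono inf_le_left)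
      have := Groth.Agent.Lead.ideal_isOpen_of_subset (J := (I'.map φ).closure) h4
        (Ideal.zero_mem _) hsub
      rwa [Ideal.coe_closure] at this
    · obtain ⟨I, hI, hIU⟩ := h2 U hU
      exact ⟨I, hI.1, by rwa [Ideal.coe_closure] at hIU⟩

end Groth.Agent.S10150
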