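import Groth.Statements.S10154
import Groth.Agent.Lib.Lead.LinTop

set_option autoImplicit false
universe u v
open LinTop

namespace Groth.Agent.S10154

/-- Let φ : A → B be a taut homomorphism of linearly topologized rings. If A is pre-admissible, then B
is pre-admissible. -/
theorem result
    (A : Type u) [CommRing A] [TopologicalSpace A] [IsTopologicalRing A] [IsLinearTopology A A]
    (B : Type v) [CommRing B] [TopologicalSpace B] [IsTopologicalRing B] [IsLinearTopology B B]
    (φ : A →+* B) (hφ : LinTop.IsTaut φ) (hA : LinTop.IsPreadmissible A) :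
    LinTop.IsPreadmissible B := by
  obtain ⟨_, I, hI1, hI2⟩ := hA
  obtain ⟨hc, h2, h3⟩ := hφ
  refine ⟨inferInstance, (I.map φ).closure, ?_, ?_⟩
  · rw [Ideal.coe_closure]; exact h2 I hI1
  · intro U hU
    obtain ⟨K, hK, hKU⟩ := (IsLinearTopology.hasBasis_open_ideal (R := B)).mem_iff.mp hU
    obtain ⟨I', hI'o, hI'K⟩ := h3 K (hK.mem_nhds K.zero_mem)
    obtain ⟨n, hn, hnI⟩ := hI2 I' (hI'o.mem_nhds I'.zero_mem)
    refine ⟨n, hn, ?_⟩
    have h4 : (I.map φ) ^ n ≤ I'.map φ := by
      rw [← Ideal.map_pow]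
      exact Ideal.map_mono hnI
    have h5 : ((I.map φ).closure) ^ n ≤ K := by
      refine (Groth.Agent.Lead.closure_pow_le _ n).trans ?_
      refine (Groth.Agent.Lead.closure_mono' h4).trans ?_
      intro x hx
      exact hI'K hx
    exact (show (((I.map φ).closure ^ n : Ideal B) : Set B) ⊆ K from h5).trans hKU

end Groth.Agent.S10154
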