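import Groth.Statements.S10155
import Mathlib
import Groth.Agent.Lib.Helper1.OpenMapL

set_option autoImplicit false
universe u v
open LinTop

namespace Groth.Agent.S10155

/-- Let φ : A → B be a taut homomorphism of linearly topologized rings with dense image. Assume A is
Hausdorff and complete with a countable fundamental system of open ideals and B is Hausdorff. Then φ
is surjective and open, so that B is the quotient of A by the closed ideal ker φ with the quotient
topology, and B is complete. -/
theorem result
    (A : Type u) [CommRing A] [UniformSpace A] [IsUniformAddGroup A] [IsTopologicalRing A]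
    [IsLinearTopology A A] [T2Space A] [CompleteSpace A] (hA : (nhds (0 : A)).IsCountablyGenerated)
    (B : Type v) [CommRing B] [UniformSpace B] [IsUniformAddGroup B] [IsTopologicalRing B]
    [IsLinearTopology B B] [T2Space B]
    (φ : A →+* B) (hφ : LinTop.IsTaut φ) (hd : DenseRange φ) :
    Function.Surjective φ ∧ IsOpenQuotientMap φ ∧ CompleteSpace B := by
  obtain ⟨hcont, hopen, hbasis⟩ := hφ
  -- countable antitone basis of open ideals
  obtain ⟨I, hIo, hIb⟩ := (IsLinearTopology.hasBasis_open_ideal (R := A)).exists_antitone_subbasis
  have hIanti : Antitone fun n => (I n).toAddSubgroup := by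
    intro i j hij x hx
    exact hIb.antitone hij hx
  -- closure of `φ '' I` equals closure of `I.map φ`
  have hcl : ∀ J : Ideal A, closure (φ '' (J : Set A)) = closure ((J.map φ : Ideal B) : Set B) := by
    intro J
    refine subset_antisymm (closure_mono ?_) (closure_minimal ?_ isClosed_closure)
    · rintro _ ⟨x, hx, rfl⟩
      exact Ideal.mem_map_of_mem φ hx
    · -- `closure (φ '' J)` is an ideal
      set K : AddSubgroup B := (J.toAddSubgroup.map φ.toAddMonoidHom).topologicalClosure with hK
      have hKc : (K : Set B) = closure (φ '' (J : Set A)) := by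
        simp [hK, AddSubgroup.topologicalClosure_coe, AddSubgroup.coe_map]
      have h1 : ∀ (b : B) (x : A), x ∈ J → b * φ x ∈ closure (φ '' (J : Set A)) := by
        intro b x hx
        have hc : Continuous fun b : B => b * φ x := continuous_id.mul continuous_const
        have hb : b ∈ closure (Set.range φ) := hd b
        refine map_mem_closure (f := fun b : B => b * φ x) hc hb ?_
        rintro _ ⟨a, rfl⟩
        have : φ a * φ x ∈ φ '' (J : Set A) := ⟨a * x, J.mul_mem_left a hx, map_mul φ a x⟩
        exact this
      have h2 : ∀ (b : B) (c : B), c ∈ closure (φ '' (J : Set A)) →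
          b * c ∈ closure (φ '' (J : Set A)) := by
        intro b c hc
        have hcc : Continuous fun c : B => b * c := continuous_const.mul continuous_id
        have := map_mem_closure (f := fun c : B => b * c) hcc hc (t := closure (φ '' (J : Set A))) ?_
        · rwa [closure_closure] at this
        · rintro _ ⟨x, hx, rfl⟩
          exact h1 b x hx
      intro y hy
      change y ∈ Ideal.span (φ '' (J : Set A)) at hy
      induction hy using Submodule.span_induction with
      | mem x hx => exact subset_closure hx
      | zero => rw [← hKc]; exact K.zero_mem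
      | add x y _ _ hx hy => rw [← hKc] at hx hy ⊢; exact K.add_mem hx hy
      | smul b x _ hx => exact h2 b x hx
  set U : ℕ → AddSubgroup A := fun n => (I n).toAddSubgroup with hU
  have hUo : ∀ n, IsOpen (U n : Set A) := fun n => hIo n
  have hUb : ∀ W ∈ nhds (0 : A), ∃ n, (U n : Set A) ⊆ W := by
    intro W hW
    obtain ⟨n, -, hn⟩ := hIb.toHasBasis.mem_iff.mp hW
    exact ⟨n, hn⟩
  have hVo : ∀ n, IsOpen (closure (φ.toAddMonoidHom '' (U n : Set A))) := by
    intro n
    have := hopen (I n) (hIo n)
    rw [← hcl] at this
    exact this
  have hVb : ∀ W ∈ nhds (0 : B), ∃ n, closure (φ.toAddMonoidHom '' (U n : Set A)) ⊆ W := by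
    intro W hW
    obtain ⟨J, hJo, hJ⟩ := hbasis W hW
    obtain ⟨n, hn⟩ := hUb (J : Set A) (hJo.mem_nhds J.zero_mem)
    refine ⟨n, subset_trans ?_ hJ⟩
    rw [← hcl]
    exact closure_mono (Set.image_mono hn)
  have hsurj : Function.Surjective φ :=
    Groth.Agent.Helper1.OpenMapL.surjective_of_approx φ.toAddMonoidHom hd U hUo hIanti hUb hVo hVb
  have hom : IsOpenMap φ :=
    Groth.Agent.Helper1.OpenMapL.isOpenMap_of_approx φ.toAddMonoidHom U hUo hIanti hUb hVo hVb
  have hoq : IsOpenQuotientMap φ := ⟨hsurj, hcont, hom⟩
  refine ⟨hsurj, hoq, ?_⟩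
  have : (uniformity A).IsCountablyGenerated := IsUniformAddGroup.uniformity_countably_generated
  exact Groth.Agent.Helper1.OpenMapL.completeSpace_of_isOpenQuotientMap φ.toAddMonoidHom hoq

end Groth.Agent.S10155
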