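import Groth.Statements.S10156
import Groth.Agent.Lib.Lead.LinTop

set_option autoImplicit false
universe u v w
open LinTop

namespace Groth.Agent.S10156

/-- Given pre-adic rings A, B, C and continuous ring maps ψ : B → C and φ : A → B, adicness of the
composite A → C implies that ψ is adic. -/
theorem result
    (A : Type u) [CommRing A] [TopologicalSpace A] [IsTopologicalRing A] (hA : LinTop.IsPreadic A)
    (B : Type v) [CommRing B] [TopologicalSpace B] [IsTopologicalRing B] (hB : LinTop.IsPreadic B)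
    (C : Type w) [CommRing C] [TopologicalSpace C] [IsTopologicalRing C] (hC : LinTop.IsPreadic C)
    (φ : A →+* B) (ψ : B →+* C) (hφ : Continuous φ) (hψ : Continuous ψ)
    (h : LinTop.IsAdicHom (ψ.comp φ)) : LinTop.IsAdicHom ψ := by
  obtain ⟨I, ⟨hIo, hIpow⟩, hadic⟩ := h
  obtain ⟨IB, hIB⟩ := hB
  have hIB' := hIB
  rw [isAdic_iff] at hadic hIB
  obtain ⟨hKo, hKU⟩ := hadic
  -- I^a maps into IB
  have h1 : IsOpen ((IB.comap φ : Ideal A) : Set A) := by
    have := hIB.1 1
    rw [pow_one] at this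
    exact this.preimage hφ
  obtain ⟨a, ha, haI⟩ := hIpow _ (h1.mem_nhds (Ideal.zero_mem _))
  have h2 : (I.map (ψ.comp φ)) ^ a ≤ IB.map ψ := by
    rw [← Ideal.map_pow, ← Ideal.map_map]
    refine Ideal.map_mono ?_
    rw [Ideal.map_le_iff_le_comap]
    exact haI
  -- IB^b maps into K
  have h3 : IsOpen (((I.map (ψ.comp φ)).comap ψ : Ideal B) : Set B) := by
    have := hKo 1
    rw [pow_one] at this
    exact this.preimage hψ
  obtain ⟨b, hb⟩ := hIB.2 _ (h3.mem_nhds (Ideal.zero_mem _))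
  have h4 : (IB.map ψ) ^ b ≤ I.map (ψ.comp φ) := by
    rw [← Ideal.map_pow, Ideal.map_le_iff_le_comap]
    exact hb
  refine ⟨IB, ⟨?_, ?_⟩, ?_⟩
  · have := hIB.1 1
    rwa [pow_one] at this
  · intro U hU
    obtain ⟨n, hn⟩ := hIB.2 U hU
    refine ⟨n + 1, Nat.succ_pos n, ?_⟩
    exact (show ((IB ^ (n + 1) : Ideal B) : Set B) ⊆ (IB ^ n : Ideal B) from
      Ideal.pow_le_pow_right (Nat.le_succ n)).trans hn
  · rw [isAdic_iff]
    refine ⟨fun n => ?_, fun U hU => ?_⟩
    · have hle : (I.map (ψ.comp φ)) ^ (a * n) ≤ (IB.map ψ) ^ n := by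
        rw [pow_mul]; exact Ideal.pow_right_mono h2 n
      exact Groth.Agent.Lead.ideal_isOpen_mono hle (hKo _)
    · obtain ⟨m, hm⟩ := hKU U hU
      refine ⟨b * m, ?_⟩
      have hle : (IB.map ψ) ^ (b * m) ≤ (I.map (ψ.comp φ)) ^ m := by
        rw [pow_mul]; exact Ideal.pow_right_mono h4 m
      exact (show (((IB.map ψ) ^ (b * m) : Ideal C) : Set C) ⊆ _ from hle).trans hm

end Groth.Agent.S10156
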