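import Groth.Statements.S10157
import Groth.Agent.Lib.Lead.LinTop

set_option autoImplicit false
universe u v
open LinTop

namespace Groth.Agent.S10157

/-- A continuous adic homomorphism φ : A → B between pre-adic topological rings is taut. -/
theorem result
    (A : Type u) [CommRing A] [TopologicalSpace A] [IsTopologicalRing A] (hA : LinTop.IsPreadic A)
    (B : Type v) [CommRing B] [TopologicalSpace B] [IsTopologicalRing B] (hB : LinTop.IsPreadic B)
    (φ : A →+* B) (hφ : Continuous φ) (h : LinTop.IsAdicHom φ) : LinTop.IsTaut φ := by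
  obtain ⟨I, ⟨hIo, hIpow⟩, hadic⟩ := h
  obtain ⟨I₀, hI₀⟩ := hA
  rw [isAdic_iff] at hadic hI₀
  obtain ⟨hJo, hJU⟩ := hadic
  -- powers of I are open in A
  have hIn : ∀ n : ℕ, IsOpen ((I ^ n : Ideal A) : Set A) := by
    intro n
    obtain ⟨k, hk⟩ := hI₀.2 I (hIo.mem_nhds I.zero_mem)
    have hle : (I₀ ^ k) ^ n ≤ I ^ n := Ideal.pow_right_mono hk n
    rw [← pow_mul] at hle
    exact Groth.Agent.Lead.ideal_isOpen_mono hle (hI₀.1 _)
  refine ⟨hφ, fun I' hI' => ?_, fun U hU => ?_⟩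
  · obtain ⟨n, hn, hnI⟩ := hIpow I' (hI'.mem_nhds I'.zero_mem)
    have hle : (I.map φ) ^ n ≤ I'.map φ := by
      rw [← Ideal.map_pow]; exact Ideal.map_mono hnI
    have hopen : IsOpen ((I'.map φ : Ideal B) : Set B) :=
      Groth.Agent.Lead.ideal_isOpen_mono hle (hJo n)
    rw [(Groth.Agent.Lead.ideal_isClosed_of_isOpen hopen).closure_eq]
    exact hopen
  · obtain ⟨n, hn⟩ := hJU U hU
    refine ⟨I ^ n, hIn n, ?_⟩
    rw [Ideal.map_pow, (Groth.Agent.Lead.ideal_isClosed_of_isOpen (hJo n)).closure_eq]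
    exact hn

end Groth.Agent.S10157
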