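import Groth.Statements.S10159
import Groth.Agent.Lib.Lead.LinTop2

set_option autoImplicit false
universe u
open LinTop

namespace Groth.Agent.S10159

/-- For a ring A carrying a linear topology, the following four conditions are equivalent: (1) A is
weakly pre-adic; (2) there exist a pre-adic topological ring A' and a taut continuous ring
homomorphism A' → A (A' is taken in the universe of A, which suffices since A with an adic topology
serves); (3) A has an ideal of definition, and for at least one ideal of definition I every closure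
cl(I^n) with n ≥ 1 is open; (4) A has an ideal of definition, and for each of its ideals of
definition I every closure cl(I^n) with n ≥ 1 is open. -/
theorem result
    (A : Type u) [CommRing A] [TopologicalSpace A] [IsTopologicalRing A] [IsLinearTopology A A] :
    List.TFAE [LinTop.IsWeaklyPreadic A,
      ∃ (A' : Type u) (_ : CommRing A') (_ : TopologicalSpace A') (_ : IsTopologicalRing A')
        (φ : A' →+* A), LinTop.IsPreadic A' ∧ LinTop.IsTaut φ,
      LinTop.IsPreadmissible A ∧ ∃ I : Ideal A, LinTop.IsIdealOfDefinition A I ∧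
        ∀ n : ℕ, 0 < n → IsOpen (closure ((I ^ n : Ideal A) : Set A)),
      LinTop.IsPreadmissible A ∧ ∀ I : Ideal A, LinTop.IsIdealOfDefinition A I →
        ∀ n : ℕ, 0 < n → IsOpen (closure ((I ^ n : Ideal A) : Set A))] := by
  tfae_have 1 → 2 := by
    rintro ⟨_, I, hI1, hI2⟩
    exact ⟨Groth.Agent.Lead.AdicCopy A I, inferInstance, inferInstance, inferInstance,
      Groth.Agent.Lead.AdicCopy.toRing A I, Groth.Agent.Lead.AdicCopy.isPreadic A I,
      Groth.Agent.Lead.adicCopy_isTaut I hI1 hI2⟩
  tfae_have 2 → 1 := by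
    rintro ⟨A', _, _, _, φ, ⟨I, hI⟩, hc, h2, h3⟩
    have hI' := isAdic_iff.mp hI
    refine ⟨inferInstance, I.map φ, fun n => ?_, fun U hU => ?_⟩
    · rw [← Ideal.map_pow]
      exact h2 _ (hI'.1 n)
    · obtain ⟨J, hJo, hJU⟩ := h3 U hU
      obtain ⟨n, hn⟩ := hI'.2 J (hJo.mem_nhds J.zero_mem)
      refine ⟨n, ?_⟩
      rw [← Ideal.map_pow]
      exact (closure_mono (Ideal.map_mono hn)).trans hJU
  tfae_have 1 → 4 := by
    rintro ⟨_, I, hI1, hI2⟩
    refine ⟨⟨inferInstance, I.closure, ?_, fun U hU => ?_⟩, fun J hJ n hn => ?_⟩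
    · have := hI1 1
      rwa [pow_one, ← Ideal.coe_closure] at this
    · obtain ⟨n, hn⟩ := hI2 U hU
      refine ⟨n + 1, Nat.succ_pos n, ?_⟩
      have h1 : I.closure ^ (n + 1) ≤ (I ^ (n + 1)).closure := Groth.Agent.Lead.closure_pow_le I (n + 1)
      have h2 : (I ^ (n + 1)).closure ≤ (I ^ n).closure :=
        Groth.Agent.Lead.closure_mono' (Ideal.pow_le_pow_right (Nat.le_succ n))
      intro x hx
      exact hn (h2 (h1 hx))
    · obtain ⟨m, hm⟩ := hI2 J (hJ.1.mem_nhds J.zero_mem)
      have hle : I ^ (m * n) ≤ J ^ n := by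
        rw [pow_mul]
        exact Ideal.pow_right_mono (fun x hx => hm (subset_closure hx)) n
      have hsub : closure ((I ^ (m * n) : Ideal A) : Set A) ⊆ ((J ^ n).closure : Set A) := by
        rw [Ideal.coe_closure]; exact closure_mono hle
      have := Groth.Agent.Lead.ideal_isOpen_of_subset (J := (J ^ n).closure) (hI1 _)
        (subset_closure (Ideal.zero_mem _)) hsub
      rwa [Ideal.coe_closure] at this
  tfae_have 4 → 3 := by
    rintro ⟨hpre, h⟩
    obtain ⟨_, I, hI⟩ := hpre
    exact ⟨⟨inferInstance, I, hI⟩, I, hI, h I hI⟩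
  tfae_have 3 → 1 := by
    rintro ⟨_, I, hI, h⟩
    refine ⟨inferInstance, I, fun n => ?_, fun U hU => ?_⟩
    · rcases Nat.eq_zero_or_pos n with rfl | hn
      · simp
      · exact h n hn
    · obtain ⟨K, hK, hKU⟩ := (IsLinearTopology.hasBasis_open_ideal (R := A)).mem_iff.mp hU
      obtain ⟨n, -, hn⟩ := hI.2 K (hK.mem_nhds K.zero_mem)
      refine ⟨n, ?_⟩
      exact (closure_minimal hn (Groth.Agent.Lead.ideal_isClosed_of_isOpen hK)).trans hKU
  tfae_finish

end Groth.Agent.S10159
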