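import Groth.Statements.S10160
import Groth.Agent.S10159

set_option autoImplicit false
universe u
open LinTop

namespace Groth.Agent.S10160

/-- A weakly adic topological ring is admissible and has a countable fundamental system of open ideals. -/
theorem result
    (A : Type u) [CommRing A] [UniformSpace A] [IsUniformAddGroup A] [IsTopologicalRing A] (hA : LinTop.IsWeaklyAdic A) :
    LinTop.IsAdmissible A ∧ (nhds (0 : A)).IsCountablyGenerated := by
  obtain ⟨hwp, hT2, hC⟩ := hA
  have hlin : IsLinearTopology A A := hwp.1
  have h4 := ((Groth.Agent.S10159.result A).out 0 3).mp hwp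
  refine ⟨⟨h4.1, hT2, hC⟩, ?_⟩
  obtain ⟨_, I, hI1, hI2⟩ := hwp
  have hbasis : (nhds (0 : A)).HasBasis (fun _ : ℕ => True)
      (fun n => closure ((I ^ n : Ideal A) : Set A)) := by
    constructor
    intro U
    constructor
    · intro hU
      obtain ⟨n, hn⟩ := hI2 U hU
      exact ⟨n, trivial, hn⟩
    · rintro ⟨n, -, hn⟩
      exact Filter.mem_of_superset ((hI1 n).mem_nhds (subset_closure (Ideal.zero_mem _))) hn
  exact hbasis.isCountablyGenerated

end Groth.Agent.S10160
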