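import Groth.Statements.S10165
import Groth.Agent.Lib.Lead.LinTop

set_option autoImplicit false
universe u v
open LinTop

namespace Groth.Agent.S10165

/-- Let φ : A → B be a taut homomorphism of linearly topologized rings. If A is weakly pre-adic, then B
is weakly pre-adic. -/
theorem result
    (A : Type u) [CommRing A] [TopologicalSpace A] [IsTopologicalRing A] [IsLinearTopology A A]
    (B : Type v) [CommRing B] [TopologicalSpace B] [IsTopologicalRing B] [IsLinearTopology B B]
    (φ : A →+* B) (hφ : LinTop.IsTaut φ) (hA : LinTop.IsWeaklyPreadic A) :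
    LinTop.IsWeaklyPreadic B := by
  obtain ⟨_, I, hI1, hI2⟩ := hA
  obtain ⟨hc, h2, h3⟩ := hφ
  refine ⟨inferInstance, I.map φ, fun n => ?_, fun U hU => ?_⟩
  · rw [← Ideal.map_pow]
    have hopen : IsOpen (((I ^ n).closure : Ideal A) : Set A) := by
      rw [Ideal.coe_closure]; exact hI1 n
    have h4 := h2 _ hopen
    have hle : ((I ^ n).closure).map φ ≤ ((I ^ n).map φ).closure := by
      rw [Ideal.map_le_iff_le_comap]
      intro a ha
      have ha' : a ∈ closure ((I ^ n : Ideal A) : Set A) := ha
      have : φ a ∈ closure (φ '' ((I ^ n : Ideal A) : Set A)) :=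
        image_closure_subset_closure_image hc ⟨a, ha', rfl⟩
      refine closure_mono ?_ this
      rintro _ ⟨b, hb, rfl⟩
      exact Ideal.mem_map_of_mem φ hb
    have hsub : closure ((((I ^ n).closure).map φ : Ideal B) : Set B) ⊆
        (((I ^ n).map φ).closure : Set B) := by
      rw [Ideal.coe_closure]
      refine closure_minimal ?_ isClosed_closure
      intro x hx
      have := hle hx
      rwa [← Ideal.coe_closure]
    have := Groth.Agent.Lead.ideal_isOpen_of_subset (J := ((I ^ n).map φ).closure) h4
      (subset_closure (Ideal.zero_mem _)) hsub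
    rwa [Ideal.coe_closure] at this
  · obtain ⟨I', hI'o, hI'U⟩ := h3 U hU
    obtain ⟨n, hn⟩ := hI2 I' (hI'o.mem_nhds I'.zero_mem)
    refine ⟨n, ?_⟩
    rw [← Ideal.map_pow]
    have hle : (I ^ n).map φ ≤ I'.map φ := Ideal.map_mono (fun a ha => hn (subset_closure ha))
    exact (closure_mono hle).trans hI'U

end Groth.Agent.S10165
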