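import Groth.Statements.S10162
import Groth.Agent.Lib.Lead.LinTop2

set_option autoImplicit false
universe u
open LinTop

namespace Groth.Agent.S10162

/-- For a linearly topologized ring A, the canonical map from A to its (separated) completion is taut. -/
theorem result
    (A : Type u) [CommRing A] [UniformSpace A] [IsUniformAddGroup A] [IsTopologicalRing A] [IsLinearTopology A A] :
    LinTop.IsTaut (UniformSpace.Completion.coeRingHom : A →+* UniformSpace.Completion A) := by
  have hdi : IsDenseInducing ((↑) : A → UniformSpace.Completion A) :=
    UniformSpace.Completion.isDenseInducing_coe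
  set ι : A →+* UniformSpace.Completion A := UniformSpace.Completion.coeRingHom with hι
  have hιc : Continuous ι := UniformSpace.Completion.continuous_coe A
  have hιapp : ∀ a : A, ι a = (a : UniformSpace.Completion A) := fun a => rfl
  -- the closure of ι(I) absorbs multiplication
  have habs : ∀ (I : Ideal A) (a x : UniformSpace.Completion A),
      x ∈ closure (ι '' (I : Set A)) → a * x ∈ closure (ι '' (I : Set A)) := by
    intro I a x hx
    have step1 : ∀ (a' : A) (y : UniformSpace.Completion A), y ∈ closure (ι '' (I : Set A)) →
        ι a' * y ∈ closure (ι '' (I : Set A)) := by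
      intro a' y hy
      refine map_mem_closure (f := fun y => ι a' * y) (continuous_const.mul continuous_id) hy ?_
      rintro _ ⟨i, hi, rfl⟩
      exact ⟨a' * i, I.mul_mem_left a' hi, by simp⟩
    have hdense : a ∈ closure (Set.range ι) := by
      have : DenseRange ((↑) : A → UniformSpace.Completion A) := UniformSpace.Completion.denseRange_coe
      exact this a
    have := map_mem_closure (f := fun b => b * x) (continuous_id.mul continuous_const) hdense
      (t := closure (ι '' (I : Set A))) (by
        rintro _ ⟨a', rfl⟩
        exact step1 a' x hx)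
    rwa [closure_closure] at this
  have hmapsub : ∀ I : Ideal A, ((I.map ι : Ideal _) : Set (UniformSpace.Completion A)) ⊆
      closure (ι '' (I : Set A)) := by
    intro I x hx
    have hx' : x ∈ Ideal.span (ι '' (I : Set A)) := hx
    refine Submodule.span_induction (p := fun y _ => y ∈ closure (ι '' (I : Set A))) ?_ ?_ ?_ ?_ hx'
    · intro y hy; exact subset_closure hy
    · exact subset_closure ⟨0, I.zero_mem, by simp⟩
    · intro y z _ _ hy hz
      refine map_mem_closure₂ continuous_add hy hz ?_
      rintro _ ⟨i, hi, rfl⟩ _ ⟨j, hj, rfl⟩
      exact ⟨i + j, I.add_mem hi hj, by simp⟩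
    · intro a y _ hy
      exact habs I a y hy
  have hcl : ∀ I : Ideal A, closure ((I.map ι : Ideal _) : Set (UniformSpace.Completion A)) =
      closure (ι '' (I : Set A)) := by
    intro I
    apply subset_antisymm
    · exact closure_minimal (hmapsub I) isClosed_closure
    · apply closure_mono
      rintro _ ⟨i, hi, rfl⟩
      exact Ideal.mem_map_of_mem ι hi
  refine ⟨hιc, fun I hI => ?_, fun U hU => ?_⟩
  · have hnhds : closure (ι '' (I : Set A)) ∈ nhds (0 : UniformSpace.Completion A) := by
      have := hdi.closure_image_mem_nhds (hI.mem_nhds I.zero_mem)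
      rw [UniformSpace.Completion.coe_zero] at this
      exact this
    have := Groth.Agent.Lead.ideal_isOpen_of_mem_nhds (I.map ι).closure (by
      rw [Ideal.coe_closure, hcl I]; exact hnhds)
    rwa [Ideal.coe_closure] at this
  · obtain ⟨V, hV, hVc, hVU⟩ := exists_mem_nhds_isClosed_subset hU
    have hpre : ι ⁻¹' V ∈ nhds (0 : A) := by
      apply hιc.continuousAt
      simpa using hV
    obtain ⟨I, hIo, hIV⟩ := (IsLinearTopology.hasBasis_open_ideal (R := A)).mem_iff.mp hpre
    refine ⟨I, hIo, ?_⟩
    rw [hcl I]
    refine (closure_minimal ?_ hVc).trans hVU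
    rintro _ ⟨i, hi, rfl⟩
    exact hIV hi

end Groth.Agent.S10162
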