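import Groth.Statements.S10164
import Groth.Agent.Lib.Lead.LinTop6
import Groth.Agent.S10163
import Groth.Agent.S10159

set_option autoImplicit false
universe u
open LinTop

namespace Groth.Agent.S10164

/-- Let A be weakly adic and I an ideal of definition of A with I/I₂ finitely generated, where I₂
denotes the closure of I^2 (here: I maps onto a finitely generated ideal of A/I₂). Then A is adic,
and some finitely generated ideal of A is an ideal of definition. -/
theorem result
    (A : Type u) [CommRing A] [UniformSpace A] [IsUniformAddGroup A] [IsTopologicalRing A] (hA : LinTop.IsWeaklyAdic A)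
    (I : Ideal A) (hI : LinTop.IsIdealOfDefinition A I)
    (hfg : (I.map (Ideal.Quotient.mk ((I ^ 2).closure))).FG) :
    LinTop.IsAdicRing A ∧ ∃ J : Ideal A, LinTop.IsIdealOfDefinition A J ∧ J.FG := by
  obtain ⟨hwp, hT2, hC⟩ := hA
  have hlin : IsLinearTopology A A := hwp.1
  have h4 := ((Groth.Agent.S10159.result A).out 0 3).mp hwp
  obtain ⟨hIo, hIpow⟩ := hI
  -- Step 1: lift generators
  set q := Ideal.Quotient.mk ((I ^ 2).closure) with hq
  have hqs : Function.Surjective q := Ideal.Quotient.mk_surjective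
  obtain ⟨s, y, hy⟩ := Submodule.fg_iff_exists_fin_generating_family.mp hfg
  have hyI : ∀ j, ∃ f ∈ I, q f = y j := by
    intro j
    have : y j ∈ I.map q := by rw [← hy]; exact Submodule.subset_span ⟨j, rfl⟩
    exact (Ideal.mem_map_iff_of_surjective q hqs).mp this
  choose f hfI hfy using hyI
  set J : Ideal A := Ideal.span (Set.range f) with hJ
  have hJfg : J.FG := Submodule.fg_span (Set.finite_range f)
  have hJI : J ≤ I := by
    rw [hJ, Ideal.span_le]; rintro _ ⟨j, rfl⟩; exact hfI j
  have hmap : I.map q ≤ J.map q := by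
    rw [← hy]
    show Ideal.span (Set.range y) ≤ _
    rw [Ideal.span_le]
    rintro _ ⟨j, rfl⟩
    rw [← hfy j]
    exact Ideal.mem_map_of_mem q (Ideal.subset_span ⟨j, rfl⟩)
  have hIle : I ≤ J ⊔ (I ^ 2).closure := by
    have h1 : I ≤ (J.map q).comap q := Ideal.le_comap_of_map_le hmap
    rw [Ideal.comap_map_of_surjective q hqs] at h1
    have : Ideal.comap q ⊥ = (I ^ 2).closure := by
      rw [← RingHom.ker_eq_comap_bot, Ideal.mk_ker]
    rwa [this] at h1
  -- Step 2
  have hstep2 : ∀ K : Ideal A, IsOpen (K : Set A) → I ≤ J ⊔ I ^ 2 ⊔ K := by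
    intro K hK
    refine hIle.trans (sup_le (le_sup_of_le_left le_sup_left) ?_)
    intro x hx
    have hx' : x ∈ closure ((I ^ 2 : Ideal A) : Set A) := hx
    rw [Groth.Agent.Lead.mem_closure_ideal_iff] at hx'
    have := hx' K hK
    rw [sup_assoc]
    exact Submodule.mem_sup_right this
  -- Step 3
  have hcl : ∀ n : ℕ, closure ((J ^ n : Ideal A) : Set A) = closure ((I ^ n : Ideal A) : Set A) := by
    intro n
    apply subset_antisymm (closure_mono (Ideal.pow_right_mono hJI n))
    apply closure_minimal _ isClosed_closure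
    intro x hx
    rw [Groth.Agent.Lead.mem_closure_ideal_iff]
    intro K hK
    obtain ⟨m, -, hm⟩ := hIpow K (hK.mem_nhds K.zero_mem)
    have h5 := Groth.Agent.Lead.pow_le_iter I J K hJI (hstep2 K hK) n m hx
    have h6 : J ^ n ⊔ I ^ (n + m) ⊔ K ≤ J ^ n ⊔ K := by
      refine sup_le (sup_le le_sup_left ?_) le_sup_right
      exact le_sup_of_le_right ((Ideal.pow_le_pow_right (Nat.le_add_left m n)).trans hm)
    exact h6 h5
  have hadic : IsAdic J := by
    apply Groth.Agent.S10163.result A J hJfg
    · intro n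
      rw [hcl n]
      rcases Nat.eq_zero_or_pos n with rfl | hn
      · simp
      · exact h4.2 I ⟨hIo, hIpow⟩ n hn
    · intro U hU
      obtain ⟨K, hK, hKU⟩ := (IsLinearTopology.hasBasis_open_ideal (R := A)).mem_iff.mp hU
      obtain ⟨m, -, hm⟩ := hIpow K (hK.mem_nhds K.zero_mem)
      refine ⟨m, ?_⟩
      rw [hcl m]
      exact (closure_minimal hm (Groth.Agent.Lead.ideal_isClosed_of_isOpen hK)).trans hKU
  refine ⟨⟨⟨J, hadic⟩, hT2, hC⟩, J, ⟨?_, ?_⟩, hJfg⟩
  · have := (isAdic_iff.mp hadic).1 1
    rwa [pow_one] at this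
  · intro U hU
    obtain ⟨n, hn⟩ := (isAdic_iff.mp hadic).2 U hU
    refine ⟨n + 1, Nat.succ_pos n, ?_⟩
    exact (show ((J ^ (n + 1) : Ideal A) : Set A) ⊆ (J ^ n : Ideal A) from
      Ideal.pow_le_pow_right (Nat.le_succ n)).trans hn

end Groth.Agent.S10164
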