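import Groth.Statements.S10166
import Groth.Agent.Lib.Lead.LinTop4

set_option autoImplicit false
universe u v
open LinTop

namespace Groth.Agent.S10166

/-- Let φ : A → B be a taut homomorphism of linearly topologized rings such that for every open ideal I
of A, with J the closure of φ(I)B, the induced map A/I → B/J is faithfully flat. If B has a
countable fundamental system of open ideals, then so does A. -/
theorem result
    (A : Type u) [CommRing A] [TopologicalSpace A] [IsTopologicalRing A] [IsLinearTopology A A]
    (B : Type v) [CommRing B] [TopologicalSpace B] [IsTopologicalRing B] [IsLinearTopology B B]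
    (φ : A →+* B) (hφ : LinTop.IsTautFFlat φ) (hB : (nhds (0 : B)).IsCountablyGenerated) :
    (nhds (0 : A)).IsCountablyGenerated := by
  have hφ' := hφ
  obtain ⟨⟨hc, h2, h3⟩, hff⟩ := hφ
  obtain ⟨x, hx⟩ := (nhds (0 : B)).exists_antitone_basis
  have hI : ∀ n : ℕ, ∃ I : Ideal A, IsOpen (I : Set A) ∧
      closure ((I.map φ : Ideal B) : Set B) ⊆ x n := by
    intro n
    exact h3 (x n) (hx.toHasBasis.mem_of_mem (i := n) trivial)
  choose I hIo hIx using hI
  have hbasis : (nhds (0 : A)).HasBasis (fun _ : ℕ => True) (fun n => ((I n : Ideal A) : Set A)) := by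
    constructor
    intro U
    constructor
    · intro hU
      obtain ⟨K, hKo, hKU⟩ := (IsLinearTopology.hasBasis_open_ideal (R := A)).mem_iff.mp hU
      have hJ := h2 K hKo
      obtain ⟨n, -, hn⟩ := hx.toHasBasis.mem_iff.mp (hJ.mem_nhds (subset_closure (Ideal.zero_mem _)))
      refine ⟨n, trivial, ?_⟩
      have hle : (I n) ≤ K := by
        rw [← Groth.Agent.Lead.comap_closure_map_eq hφ' (I n) (hIo n),
          ← Groth.Agent.Lead.comap_closure_map_eq hφ' K hKo]
        apply Ideal.comap_mono
        intro b hb
        exact hn (hIx n hb)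
      exact (show ((I n : Ideal A) : Set A) ⊆ K from hle).trans hKU
    · rintro ⟨n, -, hn⟩
      exact Filter.mem_of_superset ((hIo n).mem_nhds (Ideal.zero_mem _)) hn
  exact hbasis.isCountablyGenerated

end Groth.Agent.S10166
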