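import Groth.Statements.S10167
import Groth.Agent.Lib.Lead.LinTop4

set_option autoImplicit false
universe u v
open LinTop

namespace Groth.Agent.S10167

/-- Let φ : A → B be a taut homomorphism of linearly topologized rings such that for every open ideal I
of A the induced ring map A/I → B/J, where J denotes the closure of φ(I)B, is faithfully flat. If B
has a weak ideal of definition (B is weakly pre-admissible), then so does A. -/
theorem result
    (A : Type u) [CommRing A] [TopologicalSpace A] [IsTopologicalRing A] [IsLinearTopology A A]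
    (B : Type v) [CommRing B] [TopologicalSpace B] [IsTopologicalRing B] [IsLinearTopology B B]
    (φ : A →+* B) (hφ : LinTop.IsTautFFlat φ) (hB : LinTop.IsWeaklyPreadmissible B) :
    LinTop.IsWeaklyPreadmissible A := by
  have hφ' := hφ
  obtain ⟨⟨hc, h2, h3⟩, hff⟩ := hφ
  obtain ⟨_, J, hJo, hJn⟩ := hB
  obtain ⟨I, hIo, hIJ⟩ := h3 J (hJo.mem_nhds J.zero_mem)
  refine ⟨inferInstance, I, hIo, fun f hf => ?_⟩
  have hφf : IsTopologicallyNilpotent (φ f) :=
    hJn _ (hIJ (subset_closure (Ideal.mem_map_of_mem φ hf)))
  unfold IsTopologicallyNilpotent at hφf ⊢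
  rw [(IsLinearTopology.hasBasis_open_ideal (R := A)).tendsto_right_iff]
  intro K hK
  have hJK := h2 K hK
  have hev := hφf.eventually_mem (hJK.mem_nhds (subset_closure (Ideal.zero_mem _)))
  filter_upwards [hev] with n hn
  have : f ^ n ∈ (K.map φ).closure.comap φ := by
    show φ (f ^ n) ∈ (K.map φ).closure
    rw [map_pow]
    exact hn
  rwa [Groth.Agent.Lead.comap_closure_map_eq hφ' K hK] at this

end Groth.Agent.S10167
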