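import Groth.Statements.S10168
import Groth.Agent.Lib.Lead.LinTop4

set_option autoImplicit false
universe u v
open LinTop

namespace Groth.Agent.S10168

/-- Let φ : A → B be a taut homomorphism of linearly topologized rings such that for every open ideal I
of A, with J the closure of φ(I)B, the induced map A/I → B/J is faithfully flat. If B is
pre-admissible, then A is pre-admissible. -/
theorem result
    (A : Type u) [CommRing A] [TopologicalSpace A] [IsTopologicalRing A] [IsLinearTopology A A]
    (B : Type v) [CommRing B] [TopologicalSpace B] [IsTopologicalRing B] [IsLinearTopology B B]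
    (φ : A →+* B) (hφ : LinTop.IsTautFFlat φ) (hB : LinTop.IsPreadmissible B) :
    LinTop.IsPreadmissible A := by
  have hφ' := hφ
  obtain ⟨⟨hc, h2, h3⟩, hff⟩ := hφ
  obtain ⟨_, J, hJo, hJn⟩ := hB
  obtain ⟨I, hIo, hIJ⟩ := h3 J (hJo.mem_nhds J.zero_mem)
  refine ⟨inferInstance, I, hIo, fun U hU => ?_⟩
  obtain ⟨K, hK, hKU⟩ := (IsLinearTopology.hasBasis_open_ideal (R := A)).mem_iff.mp hU
  have hJK := h2 K hK
  obtain ⟨n, hn, hnJ⟩ := hJn _ (hJK.mem_nhds (subset_closure (Ideal.zero_mem _)))
  refine ⟨n, hn, ?_⟩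
  have hle : I ^ n ≤ K := by
    rw [← Groth.Agent.Lead.comap_closure_map_eq hφ' K hK]
    intro a ha
    show φ a ∈ (K.map φ).closure
    have h1 : φ a ∈ (I.map φ) ^ n := by
      rw [← Ideal.map_pow]; exact Ideal.mem_map_of_mem φ ha
    have h2' : (I.map φ) ^ n ≤ J ^ n :=
      Ideal.pow_right_mono (fun b hb => hIJ (subset_closure hb)) n
    exact hnJ (h2' h1)
  exact (show ((I ^ n : Ideal A) : Set A) ⊆ K from hle).trans hKU

end Groth.Agent.S10168
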