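import Groth.Statements.S10169
import Groth.Agent.Lib.Lead.LinTop4
import Groth.Agent.S10159

set_option autoImplicit false
universe u v
open LinTop

namespace Groth.Agent.S10169

/-- Let φ : A → B be a taut homomorphism of linearly topologized rings such that for every open ideal I
of A the induced ring map A/I → B/J, where J denotes the closure of φ(I)B, is faithfully flat. Weak
pre-adicness then descends: when B is weakly pre-adic, A is as well. -/
theorem result
    (A : Type u) [CommRing A] [TopologicalSpace A] [IsTopologicalRing A] [IsLinearTopology A A]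
    (B : Type v) [CommRing B] [TopologicalSpace B] [IsTopologicalRing B] [IsLinearTopology B B]
    (φ : A →+* B) (hφ : LinTop.IsTautFFlat φ) (hB : LinTop.IsWeaklyPreadic B) :
    LinTop.IsWeaklyPreadic A := by
  have hφ' := hφ
  obtain ⟨⟨hc, h2, h3⟩, hff⟩ := hφ
  have hB4 := ((Groth.Agent.S10159.result B).out 0 3).mp hB
  obtain ⟨_, J, hJ1, hJ2⟩ := hB
  obtain ⟨I, hIo, hIJ⟩ := h3 _ ((hJ1 1).mem_nhds (subset_closure (Ideal.zero_mem _)))
  rw [pow_one] at hIJ
  -- J' = closure (I.map φ)
  have hJ'le : ∀ n : ℕ, ((I.map φ).closure) ^ n ≤ (J ^ n).closure := by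
    intro n
    have h1 : (I.map φ).closure ≤ J.closure := by
      intro b hb
      exact hIJ hb
    exact (Ideal.pow_right_mono h1 n).trans (Groth.Agent.Lead.closure_pow_le J n)
  have hJ'open : IsOpen (((I.map φ).closure : Ideal B) : Set B) := by
    rw [Ideal.coe_closure]; exact h2 I hIo
  have hJ'iod : LinTop.IsIdealOfDefinition B (I.map φ).closure := by
    refine ⟨hJ'open, fun U hU => ?_⟩
    obtain ⟨m, hm⟩ := hJ2 U hU
    refine ⟨m + 1, Nat.succ_pos m, ?_⟩
    intro b hb
    have hb' : b ∈ ((I.map φ).closure) ^ m := Ideal.pow_le_pow_right (Nat.le_succ m) hb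
    exact hm (hJ'le m hb')
  refine ⟨inferInstance, I, fun n => ?_, fun U hU => ?_⟩
  · rcases Nat.eq_zero_or_pos n with rfl | hn
    · simp
    · have hopen := hB4.2 _ hJ'iod n hn
      obtain ⟨I'', hI''o, hI''sub⟩ := h3 _ (hopen.mem_nhds (subset_closure (Ideal.zero_mem _)))
      have hsub : (I'' : Set A) ⊆ ((I ^ n).closure : Set A) := by
        intro a ha
        rw [Ideal.coe_closure, Groth.Agent.Lead.mem_closure_ideal_iff]
        intro K hK
        have hKo : IsOpen ((I ^ n ⊔ K : Ideal A) : Set A) :=
          Groth.Agent.Lead.ideal_isOpen_mono le_sup_right hK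
        rw [← Groth.Agent.Lead.comap_closure_map_eq hφ' _ hKo]
        show φ a ∈ ((I ^ n ⊔ K).map φ).closure
        have h5 : φ a ∈ closure ((((I.map φ).closure) ^ n : Ideal B) : Set B) :=
          hI''sub (subset_closure (Ideal.mem_map_of_mem φ ha))
        have h6 : ((I.map φ).closure) ^ n ≤ ((I ^ n ⊔ K).map φ).closure := by
          refine (Groth.Agent.Lead.closure_pow_le _ n).trans ?_
          rw [← Ideal.map_pow]
          exact Groth.Agent.Lead.closure_mono' (Ideal.map_mono le_sup_left)
        exact closure_minimal h6 (by rw [Ideal.coe_closure]; exact isClosed_closure) h5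
      have := Groth.Agent.Lead.ideal_isOpen_of_subset (J := (I ^ n).closure) hI''o
        (Ideal.zero_mem _) hsub
      rwa [Ideal.coe_closure] at this
  · obtain ⟨K, hK, hKU⟩ := (IsLinearTopology.hasBasis_open_ideal (R := A)).mem_iff.mp hU
    have hJK := h2 K hK
    obtain ⟨m, hm⟩ := hJ2 _ (hJK.mem_nhds (subset_closure (Ideal.zero_mem _)))
    refine ⟨m, ?_⟩
    have hle : I ^ m ≤ K := by
      rw [← Groth.Agent.Lead.comap_closure_map_eq hφ' K hK]
      intro a ha
      show φ a ∈ (K.map φ).closure
      have h1 : φ a ∈ (I.map φ) ^ m := by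
        rw [← Ideal.map_pow]; exact Ideal.mem_map_of_mem φ ha
      have h2' : (I.map φ) ^ m ≤ ((I.map φ).closure) ^ m :=
        Ideal.pow_right_mono (fun b hb => subset_closure hb) m
      exact hm (hJ'le m (h2' h1))
    exact (closure_minimal hle (Groth.Agent.Lead.ideal_isClosed_of_isOpen hK)).trans hKU

end Groth.Agent.S10169
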