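import Groth.Statements.S10193
import Groth.Agent.Lib.Helper2.AlgSp.ReducedFactor
open Groth.Agent.Helper2


set_option autoImplicit false
universe u
open CategoryTheory CategoryTheory.Limits AlgebraicGeometry Topology TopologicalSpace
open AlgSp

namespace Groth.Agent.S10193

/-- Let X, Y be algebraic spaces over a scheme S, i : Z ⟶ X a closed subspace (a morphism representable
by closed immersions) and assume Y is reduced. Then a morphism f : Y ⟶ X factors through Z if and
only if |f|(|Y|) is contained in |Z|. -/
theorem result {S : Scheme.{u}} {X Y Z : AlgSp.Space S}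
    (i : Z ⟶ X) (hi : AlgSp.RepWith @IsClosedImmersion i.hom) (hY : AlgSp.IsReducedSp Y.obj) (f : Y ⟶ X) :
    (∃ g : Y ⟶ Z, g ≫ i = f) ↔
      Set.range (AlgSp.Points.map f.hom) ⊆ Set.range (AlgSp.Points.map i.hom) := by
  constructor
  · rintro ⟨g, rfl⟩
    rintro _ ⟨y, rfl⟩
    refine ⟨AlgSp.Points.map g.hom y, ?_⟩
    rw [← AlgSp.Points.map_comp]
    rfl
  · intro h
    obtain ⟨g, hg⟩ := ReducedFactor.exists_factor_closed i.hom hi hY f.hom h
    exact ⟨ObjectProperty.homMk g, by ext1; exact hg⟩

end Groth.Agent.S10193
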