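import Groth.Statements.S10197
import Groth.Agent.Lib.Helper2.AlgSp.LargestSch


set_option autoImplicit false
universe u
open CategoryTheory CategoryTheory.Limits AlgebraicGeometry Topology TopologicalSpace
open AlgSp

namespace Groth.Agent.S10197

/-- An algebraic space X over a scheme S has a largest open subspace which is a scheme: there is an open
subspace X' ⟶ X whose underlying sheaf is representable by a scheme over S, through which every open
subspace of X with representable underlying sheaf factors. -/
theorem result {S : Scheme.{u}} (X : AlgSp.Space S) :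
    ∃ (X' : AlgSp.Space S) (j : X' ⟶ X), AlgSp.RepWith @IsOpenImmersion j.hom ∧ X'.obj.obj.IsRepresentable ∧
      ∀ (X'' : AlgSp.Space S) (j'' : X'' ⟶ X), AlgSp.RepWith @IsOpenImmersion j''.hom →
        X''.obj.obj.IsRepresentable → ∃ k : X'' ⟶ X', k ≫ j = j'' := by
  open Groth.Agent.Helper2.LargestSch Groth.Agent.Helper2.AlgSpBasic in
  refine ⟨⟨openSub X.obj (schLocus X.obj), isAlgSpace_openSub X.property (isOpen_schLocus X.obj)⟩,
    ObjectProperty.homMk (openSubι X.obj (schLocus X.obj)),
    repWith_isOpenImmersion_openSubι X.obj (isOpen_schLocus X.obj), ?_, ?_⟩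
  · obtain ⟨W, ⟨e⟩⟩ := exists_iso_yon_schLocus X.property
    exact (AlgSp.representableByOfIso e).isRepresentable
  · intro X'' j'' hj hrep
    obtain ⟨W, ⟨r⟩⟩ := hrep.has_representation
    have hmem : ∀ p : Points X''.obj, Points.map j''.hom p ∈ schLocus X.obj := fun p =>
      points_map_mem_schLocus X.property X''.property j''.hom hj (AlgSp.isoOfRepresentableBy r) p
    refine ⟨ObjectProperty.homMk (openSubLift _ j''.hom hmem), ?_⟩
    apply ObjectProperty.hom_ext
    exact openSubLift_ι _ _ hmem

end Groth.Agent.S10197
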