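import Groth.Statements.S10198
import Groth.Agent.Lib.Helper2.AlgSp.ZarLocQs


set_option autoImplicit false
universe u
open CategoryTheory CategoryTheory.Limits AlgebraicGeometry Topology TopologicalSpace
open AlgSp

namespace Groth.Agent.S10198

/-- (1) if and only if (3): for an algebraic space X over a scheme S, X is Zariski locally
quasi-separated over S (it has a Zariski covering by open subspaces whose diagonals over S are
quasi-compact) if and only if X has a Zariski covering by open subspaces each of which admits a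
quasi-compact, etale, surjective map from an affine scheme. Since the second condition does not
mention S, being Zariski locally quasi-separated does not depend on the base. -/
theorem result {S : Scheme.{u}} (X : AlgSp.Space S) :
    (∃ (ι : Type u) (Xi : ι → AlgSp.Space S) (j : ∀ i, Xi i ⟶ X),
        AlgSp.IsZarCover (fun i => (Xi i).obj) (fun i => (j i).hom) ∧ ∀ i, AlgSp.IsQuasiSeparatedSp (Xi i).obj) ↔
      (∃ (ι : Type u) (Xi : ι → AlgSp.Space S) (j : ∀ i, Xi i ⟶ X),
        AlgSp.IsZarCover (fun i => (Xi i).obj) (fun i => (j i).hom) ∧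
          ∀ i, ∃ (U : Over S) (p : (AlgSp.yon S).obj U ⟶ (Xi i).obj), IsAffine U.left ∧
            AlgSp.RepWith @QuasiCompact p ∧ AlgSp.RepWith @Etale p ∧ AlgSp.RepWith @Surjective p) := by
  open Groth.Agent.Helper2.AlgSpBasic in
  constructor
  · rintro ⟨ι, Xi, j, hcov, hqs⟩
    choose V₀ q hqe hqs' using fun i => (Xi i).property.atlas
    choose V hV U p hmem hU hpq hpe hps using fun k : (Σ i, ↥(V₀ i).left) =>
      Groth.Agent.Helper2.ZarLocQs.exists_chart_of_isQuasiSeparatedSp (Xi k.1).property (hqs k.1)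
        (AlgSp.Points.ofPt (q k.1) k.2)
    refine ⟨Σ i, ↥(V₀ i).left,
      fun k => ⟨openSub (Xi k.1).obj (V k), isAlgSpace_openSub (Xi k.1).property (hV k)⟩,
      fun k => ObjectProperty.homMk (openSubι (Xi k.1).obj (V k) ≫ (j k.1).hom), ⟨?_, ?_⟩, ?_⟩
    · intro k
      exact repWith_comp @IsOpenImmersion (repWith_isOpenImmersion_openSubι _ (hV k)) (hcov.1 k.1)
    · intro x
      obtain ⟨i, xi, rfl⟩ := hcov.2 x
      obtain ⟨v, rfl⟩ := surjective_ofPt (q i) (hqs' i) xi
      have h1 : AlgSp.Points.ofPt (q i) v ∈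
          Set.range (AlgSp.Points.map (openSubι (Xi i).obj (V ⟨i, v⟩))) := by
        rw [range_points_map_openSubι]; exact hmem ⟨i, v⟩
      obtain ⟨y, hy⟩ := h1
      refine ⟨⟨i, v⟩, y, ?_⟩
      show AlgSp.Points.map (openSubι (Xi i).obj (V ⟨i, v⟩) ≫ (j i).hom) y = _
      rw [AlgSp.Points.map_comp, hy]
    · intro k
      exact ⟨U k, p k, hU k, hpq k, hpe k, hps k⟩
  · rintro ⟨ι, Xi, j, hcov, h⟩
    refine ⟨ι, Xi, j, hcov, fun i => ?_⟩
    obtain ⟨U, p, hU, hpq, hpe, hps⟩ := h i
    exact Groth.Agent.Helper2.ZarLocQs.isQuasiSeparatedSp_of_chart (Xi i).property p hU hpq hpe hps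

end Groth.Agent.S10198
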