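import Groth.Statements.S10202
import Groth.Agent.Lib.Helper2.AlgSp.Points

open Groth.Agent.Helper2.AlgSpBasic TopologicalSpace


set_option autoImplicit false
universe u
open CategoryTheory CategoryTheory.Limits AlgebraicGeometry Topology TopologicalSpace
open AlgSp

namespace Groth.Agent.S10202

/-- If X is a locally Noetherian algebraic space over a scheme S, then the space |X| is locally
Noetherian: every point of |X| has an open neighbourhood which is a Noetherian topological space in
the induced topology. -/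
theorem result {S : Scheme.{u}} (X : AlgSp.Space S)
    (hX : AlgSp.IsLocNoethSp X.obj) (x : AlgSp.Points X.obj) :
    ∃ W : Set (AlgSp.Points X.obj), IsOpen W ∧ x ∈ W ∧ NoetherianSpace ↥W := by
  obtain ⟨U, p, hpe, hps, hU⟩ := hX
  obtain ⟨u, rfl⟩ := surjective_ofPt p hps x
  haveI : IsLocallyNoetherian U.left := hU
  obtain ⟨V₀, hV₀, huV₀, -⟩ := exists_isAffineOpen_mem_and_subset (x := u) (U := ⊤) trivial
  haveI : IsNoetherianRing Γ(U.left, V₀) := IsLocallyNoetherian.component_noetherian ⟨V₀, hV₀⟩
  haveI : NoetherianSpace ↥V₀ := noetherianSpace_of_isAffineOpen V₀ hV₀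
  refine ⟨Points.ofPt p '' (V₀ : Set U.left), isOpenMap_ofPt p hpe _ V₀.isOpen, ⟨u, huV₀, rfl⟩, ?_⟩
  have hc : Continuous (fun v : ↥V₀ => Points.ofPt p v.1) :=
    (Points.continuous_ofPt p).comp continuous_subtype_val
  have hr : Set.range (fun v : ↥V₀ => Points.ofPt p v.1) = Points.ofPt p '' (V₀ : Set U.left) := by
    ext y
    constructor
    · rintro ⟨v, rfl⟩
      exact ⟨v.1, v.2, rfl⟩
    · rintro ⟨v, hv, rfl⟩
      exact ⟨⟨v, hv⟩, rfl⟩
  rw [← hr]
  exact NoetherianSpace.range _ hc

end Groth.Agent.S10202
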