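import Groth.Statements.S10205
import Groth.Agent.Lib.Helper2.AlgSp.FieldQuot
import Groth.Agent.Lib.Helper2.AlgSp.Mono
open Groth.Agent.Helper2

set_option autoImplicit false
universe u
open CategoryTheory CategoryTheory.Limits AlgebraicGeometry Topology TopologicalSpace
open AlgSp

namespace Groth.Agent.S10205

/-- Let X be an algebraic space over a scheme S, k a field with a structure morphism Spec k ⟶ S, and p :
h_{Spec k} ⟶ X a surjective etale map. If the diagonal of X over S is quasi-compact, then X ≅
h_{Spec k'} for a field k' over S, where p corresponds to a finite etale morphism Spec k ⟶ Spec k'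
over S (that is, k is a finite separable extension of k'). (The published statement assumes X
quasi-separated in the absolute sense; the argument only uses that Spec k ×_X Spec k is
quasi-compact, which already follows from quasi-compactness of the diagonal over S since Spec k ×_S
Spec k is affine.) -/
theorem result {S : Scheme.{u}} (X : AlgSp.Space S)
    (hX : AlgSp.IsQuasiSeparatedSp X.obj) (k : Type u) [Field k] (str : Spec (CommRingCat.of k) ⟶ S)
    (p : (AlgSp.yon S).obj (Over.mk str) ⟶ X.obj) (hp : AlgSp.RepWith @Etale p) (hs : AlgSp.RepWith @Surjective p) :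
    ∃ (k' : Type u) (_ : Field k') (str' : Spec (CommRingCat.of k') ⟶ S)
      (e : (AlgSp.yon S).obj (Over.mk str') ≅ X.obj) (c : Over.mk str ⟶ Over.mk str'),
      (AlgSp.yon S).map c ≫ e.hom = p ∧ IsFinite c.left ∧ Etale c.left := by
  have hrep := hp.rep
  have sq := hrep.isPullback p
  obtain ⟨t, ht⟩ := (AlgSp.yon S).map_surjective (hrep.fst p)
  set s := hrep.snd p with hs_def
  rw [← ht] at sq
  haveI : Etale s.left := hp.property p _ _ sq
  haveI : CompactSpace ↥(Over.mk str).left :=
    inferInstanceAs (CompactSpace ↥(Spec (CommRingCat.of k)))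
  haveI : CompactSpace ↥(hrep.pullback p).left :=
    FieldQuot.compactSpace_of_isQuasiSeparatedSp hX (Over.mk str) str t s p p sq
  obtain ⟨k', str', hstr, m, hfd, hm, hqm⟩ := FieldQuot.exists_mono_point str s t p sq
  obtain ⟨-, -, -, hfin⟩ := FieldQuot.fppf_spec_subfield k'
  haveI : Sheaf.IsLocallySurjective p := AlgSpBasic.isLocallySurjective_of_etale_surjective p hp hs
  haveI : Epi p := (Sheaf.isLocallySurjective_iff_epi p).1 inferInstance
  haveI : Epi m := by
    haveI : Epi ((AlgSp.yon S).map (Over.homMk (Spec.map (CommRingCat.ofHom k'.subtype)) hstr :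
        Over.mk str ⟶ Over.mk str') ≫ m) := by rw [hqm]; infer_instance
    exact epi_of_epi ((AlgSp.yon S).map (Over.homMk (Spec.map (CommRingCat.ofHom k'.subtype)) hstr :
        Over.mk str ⟶ Over.mk str')) m
  haveI := hm
  haveI : IsIso m := isIso_of_mono_of_epi m
  refine ⟨k', inferInstance, str', asIso m,
    Over.homMk (Spec.map (CommRingCat.ofHom k'.subtype)) hstr, hqm, hfin, ?_⟩
  have h1 : AlgSp.RepWith @Etale ((AlgSp.yon S).map (Over.homMk
      (Spec.map (CommRingCat.ofHom k'.subtype)) hstr : Over.mk str ⟶ Over.mk str')) := by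
    have h2 : (AlgSp.yon S).map (Over.homMk (Spec.map (CommRingCat.ofHom k'.subtype)) hstr :
        Over.mk str ⟶ Over.mk str') = p ≫ inv m := by
      rw [← hqm, Category.assoc, IsIso.hom_inv_id, Category.comp_id]
    rw [h2]
    exact MorphismProperty.RespectsIso.postcomp _ _ _ hp
  exact (AlgSp.repWith_yon_map_iff @Etale _).1 h1

end Groth.Agent.S10205
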