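import Groth.Statements.S10210
import Mathlib
import Groth.Agent.Lib.Helper2.AlgSp.LocP

set_option autoImplicit false
universe u
open CategoryTheory CategoryTheory.Limits AlgebraicGeometry Topology TopologicalSpace
open AlgSp

namespace Groth.Agent.S10210

/-- Let X, Y, Z be algebraic spaces over a scheme S, g : X ⟶ Z and h : Y ⟶ Z etale morphisms and f : X ⟶
Y a morphism with f ≫ h = g. Then f is etale. -/
theorem result {S : Scheme.{u}} {X Y Z : AlgSp.Space S} (f : X ⟶ Y) (h : Y ⟶ Z) (g : X ⟶ Z)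
    (w : f ≫ h = g) (hg : AlgSp.IsEtaleMor g.hom) (hh : AlgSp.IsEtaleMor h.hom) :
    AlgSp.IsEtaleMor f.hom := by
  refine Groth.Agent.Helper2.AlgSpBasic.isEtaleMor_of_locP_etale X.property Y.property f.hom ?_
  have h1 : AlgSp.LocP @Etale g.hom := Groth.Agent.Helper2.AlgSpBasic.locP_etale_of_isEtaleMor Z.property.diag g.hom hg
  have h2 : AlgSp.LocP @Etale h.hom := Groth.Agent.Helper2.AlgSpBasic.locP_etale_of_isEtaleMor Z.property.diag h.hom hh
  have h3 : AlgSp.LocP @Etale (f.hom ≫ h.hom) := by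
    have : f.hom ≫ h.hom = g.hom := by rw [← w]; rfl
    rw [this]; exact h1
  refine Groth.Agent.Helper2.AlgSpBasic.locP_of_comp' @Etale @Etale ?_ X.property Y.property Z.property f.hom h.hom h3 h2
  intro A B C x y hxy hy
  have : Etale y := hy
  exact Groth.Agent.Helper2.EtaleLocal.IsEtaleLocalST.of_postcomp_etale (P := @Etale) x y hxy

end Groth.Agent.S10210
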