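import Groth.Statements.S10213
import Mathlib
import Groth.Agent.Lib.Helper2.AlgSp.GlueSp

open CategoryTheory CategoryTheory.Limits AlgebraicGeometry Opposite AlgSp
open Groth.Agent.Helper2.AlgSpBasic Groth.Agent.Helper2.Coprod

set_option autoImplicit false
universe u
open CategoryTheory CategoryTheory.Limits AlgebraicGeometry Topology TopologicalSpace
open AlgSp

namespace Groth.Agent.S10213

/-- For an algebraic space X over a scheme S there is a surjective etale map h_U ⟶ X where U is a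
disjoint union of affine schemes, each of which maps into an affine open of S. -/
theorem result {S : Scheme.{u}} (X : AlgSp.Space S) :
    ∃ (ι : Type u) (V : ι → Scheme.{u}) (_ : ∀ i, IsAffine (V i)) (q : (∐ V) ⟶ S)
      (p : (AlgSp.yon S).obj (Over.mk q) ⟶ X.obj),
      AlgSp.RepWith @Etale p ∧ AlgSp.RepWith @Surjective p ∧
        ∀ i, ∃ W : S.Opens, IsAffineOpen W ∧ ∀ v : ↥(V i), (Sigma.ι V i ≫ q) v ∈ W := by
  classical
  obtain ⟨U, a, hae, has⟩ := X.property.atlas
  let ι : Type u := {O : U.left.affineOpens // ∃ W : S.Opens, IsAffineOpen W ∧ O.1 ≤ U.hom ⁻¹ᵁ W}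
  let V : ι → Scheme.{u} := fun i => (i.1.1 : Scheme.{u})
  haveI : ∀ i, IsAffine (V i) := fun i => i.1.2
  let q : (∐ V) ⟶ S := Sigma.desc (fun i => i.1.1.ι ≫ U.hom)
  let rl : (∐ V) ⟶ U.left := Sigma.desc (fun i => i.1.1.ι)
  let r : Over.mk q ⟶ U := Over.homMk rl (by
    apply Sigma.hom_ext
    intro i
    show Sigma.ι V i ≫ Sigma.desc (fun i => i.1.1.ι) ≫ U.hom = Sigma.ι V i ≫ q
    rw [Sigma.ι_desc_assoc, Sigma.ι_desc])
  have hre : Etale r.left :=
    IsZariskiLocalAtSource.sigmaDesc (P := @Etale) (fun i => (inferInstance : Etale i.1.1.ι))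
  have hrs : Surjective r.left := by
    refine ⟨fun x => ?_⟩
    -- an affine open of `S` around the image, and an affine open of `U` inside its preimage
    obtain ⟨_, ⟨W, hW : IsAffineOpen W, rfl⟩, hxW, -⟩ :=
      S.isBasis_affineOpens.exists_subset_of_mem_open (Set.mem_univ (U.hom x)) isOpen_univ
    obtain ⟨_, ⟨O, hO : IsAffineOpen O, rfl⟩, hxO, hOW⟩ :=
      U.left.isBasis_affineOpens.exists_subset_of_mem_open
        (show x ∈ (U.hom ⁻¹ᵁ W : Set _) from hxW) (U.hom ⁻¹ᵁ W).2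
    let i : ι := ⟨⟨O, hO⟩, W, hW, hOW⟩
    refine ⟨Sigma.ι V i ⟨x, hxO⟩, ?_⟩
    show (Sigma.ι V i ≫ Sigma.desc (fun i => i.1.1.ι)) ⟨x, hxO⟩ = x
    rw [Sigma.ι_desc]
    rfl
  refine ⟨ι, V, inferInstance, q, (yon S).map r ≫ a, ?_, ?_, ?_⟩
  · exact repWith_comp @Etale ((repWith_yon_map_iff @Etale r).mpr hre) hae
  · exact repWith_comp @Surjective ((repWith_yon_map_iff @Surjective r).mpr hrs) has
  · intro i
    obtain ⟨W, hW, hOW⟩ := i.2
    refine ⟨W, hW, fun v => ?_⟩
    show (Sigma.ι V i ≫ Sigma.desc (fun i => i.1.1.ι ≫ U.hom)) v ∈ W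
    rw [Sigma.ι_desc]
    exact hOW v.2

end Groth.Agent.S10213
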