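import Groth.Statements.S10214
import Groth.Agent.Lib.Helper2.AlgSp.Points
import Groth.Agent.S10195
import Groth.Agent.S10196

open Groth.Agent.Helper2.AlgSpBasic TopologicalSpace


set_option autoImplicit false
universe u
open CategoryTheory CategoryTheory.Limits AlgebraicGeometry Topology TopologicalSpace
open AlgSp

namespace Groth.Agent.S10214

/-- Every algebraic space X over a scheme S has a Zariski covering by open subspaces X_i such that each
X_i has a surjective etale map from an affine scheme; moreover the affine schemes may be taken to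
map into affine opens of S. -/
theorem result {S : Scheme.{u}} (X : AlgSp.Space S) :
    ∃ (ι : Type u) (Xi : ι → AlgSp.Space S) (j : ∀ i, Xi i ⟶ X),
      AlgSp.IsZarCover (fun i => (Xi i).obj) (fun i => (j i).hom) ∧
        ∀ i, ∃ (U : Over S) (p : (AlgSp.yon S).obj U ⟶ (Xi i).obj), IsAffine U.left ∧
          AlgSp.RepWith @Etale p ∧ AlgSp.RepWith @Surjective p ∧
          ∃ W : S.Opens, IsAffineOpen W ∧ ∀ v : ↥U.left, U.hom v ∈ W := by
  obtain ⟨U₀, p₀, hpe, hps⟩ := X.property.atlas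
  -- affine opens of `S` and of `U₀`
  have hW : ∀ u : ↥U₀.left, ∃ W : S.Opens, IsAffineOpen W ∧ U₀.hom u ∈ W := fun u => by
    obtain ⟨W, hW, hu, -⟩ := exists_isAffineOpen_mem_and_subset (x := U₀.hom u)
      (U := (⊤ : S.Opens)) trivial
    exact ⟨W, hW, hu⟩
  choose W hWa hWu using hW
  have hV : ∀ u : ↥U₀.left, ∃ V : U₀.left.Opens, IsAffineOpen V ∧ u ∈ V ∧
      (V : Set ↥U₀.left) ⊆ (U₀.hom ⁻¹ᵁ W u : U₀.left.Opens) := fun u =>
    exists_isAffineOpen_mem_and_subset (x := u) (U := U₀.hom ⁻¹ᵁ W u) (hWu u)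
  choose V hVa hVu hVW using hV
  -- the charts
  let T : ↥U₀.left → Over S := fun u => Over.mk ((V u).ι ≫ U₀.hom)
  let φ : ∀ u, T u ⟶ U₀ := fun u => Over.homMk (V u).ι rfl
  let a : ∀ u, (yon S).obj (T u) ⟶ X.obj := fun u => (yon S).map (φ u) ≫ p₀
  have hae : ∀ u, RepWith @Etale (a u) := fun u =>
    repWith_comp @Etale ((repWith_yon_map_iff @Etale (φ u)).mpr
      (inferInstanceAs (Etale (V u).ι))) hpe
  have hO : ∀ u, IsOpen (Set.range (Points.ofPt (a u))) := fun u => by
    rw [← Set.image_univ]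
    exact isOpenMap_ofPt (a u) (hae u) _ isOpen_univ
  choose X' j hj hjr using fun u => Groth.Agent.S10195.result X _ (hO u)
  refine ⟨↥U₀.left, X', j, ⟨hj, ?_⟩, ?_⟩
  · intro x
    obtain ⟨u, rfl⟩ := surjective_ofPt p₀ hps x
    refine ⟨u, ?_⟩
    rw [hjr u]
    refine ⟨⟨u, hVu u⟩, ?_⟩
    exact ofPt_yon_map_comp (φ u) p₀ _
  · intro u
    obtain ⟨a', -, h1, h2, -⟩ := Groth.Agent.S10196.result (a u) (hae u) (j u) (hj u) (hjr u)
    refine ⟨T u, a', hVa u, h1, h2, W u, hWa u, ?_⟩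
    intro v
    exact hVW u v.2

end Groth.Agent.S10214
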