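import Groth.Statements.S10215
import Groth.Agent.Lib.Helper2.AlgSp.Boot

open Groth.Agent.Helper2.AlgSpBasic


set_option autoImplicit false
universe u
open CategoryTheory CategoryTheory.Limits AlgebraicGeometry Topology TopologicalSpace
open AlgSp

namespace Groth.Agent.S10215

/-- Let X be an algebraic space over a scheme S and p : Spec K ⟶ X, q : Spec L ⟶ X morphisms from
spectra of fields over S which determine the same point of |X|, with p a monomorphism. Then q
factors uniquely through p. -/
theorem result {S : Scheme.{u}} (X : AlgSp.Space S) (p q : AlgSp.FieldPt X.obj)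
    (h : AlgSp.Points.mk p = AlgSp.Points.mk q) [Mono p.toHom] :
    ∃! c : q.pt ⟶ p.pt, (AlgSp.yon S).map c ≫ p.toHom = q.toHom := by
  obtain ⟨Ω, _, w, a, b, hab⟩ := Points.mk_eq_mk_iff.mp h
  have hab' : (yon S).map a ≫ p.toHom = (yon S).map b ≫ q.toHom := by
    unfold FieldPt.toHom
    rw [GrothendieckTopology.uliftYonedaEquiv_symm_naturality_left,
      GrothendieckTopology.uliftYonedaEquiv_symm_naturality_left, hab]
  obtain ⟨V₀, p₁, p₂, sq₀⟩ := exists_isPullback_yon X.property.diag p.toHom q.toHom
  haveI hm2 : Mono ((yon S).map p₂) :=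
    (MorphismProperty.monomorphisms (Sp S)).of_isPullback sq₀ ‹Mono p.toHom›
  haveI hm2' : Mono p₂ := (yon S).mono_of_mono_map hm2
  haveI hm2'' : Mono p₂.left := inferInstance
  obtain ⟨l, hl, -⟩ : ∃ l : Over.mk w ⟶ V₀, l ≫ p₁ = a ∧ l ≫ p₂ = b := by
    refine ⟨(yon S).preimage (sq₀.lift _ _ hab'), ?_, ?_⟩
    · apply (yon S).map_injective
      rw [Functor.map_comp, Functor.map_preimage, sq₀.lift_fst]
    · apply (yon S).map_injective
      rw [Functor.map_comp, Functor.map_preimage, sq₀.lift_snd]
  haveI : Nonempty ↥V₀.left := ⟨l.left (IsLocalRing.closedPoint Ω)⟩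
  haveI hsub : Subsingleton ↥(Spec (CommRingCat.of q.K)) :=
    inferInstanceAs (Subsingleton (PrimeSpectrum q.K))
  haveI hsub' : Subsingleton ↥q.pt.left := hsub
  have hinj : Function.Injective p₂.left := Scheme.Hom.injective p₂.left
  haveI : Subsingleton ↥V₀.left := hinj.subsingleton
  haveI : Surjective p₂.left := ⟨fun y => by
    obtain ⟨z⟩ := ‹Nonempty ↥V₀.left›
    exact ⟨z, Subsingleton.elim _ _⟩⟩
  haveI : QuasiCompact p₂.left := by
    have : IsAffine q.pt.left := inferInstanceAs (IsAffine (Spec (CommRingCat.of q.K)))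
    rw [HasAffineProperty.iff_of_isAffine (P := @QuasiCompact)]
    exact Finite.compactSpace
  haveI : Flat p₂.left := by
    have : IsIntegral q.pt.left := inferInstanceAs (IsIntegral (Spec (CommRingCat.of q.K)))
    infer_instance
  haveI : IsIso p₂.left := Flat.isIso_of_surjective_of_mono p₂.left
  haveI : IsIso ((Over.forget S).map p₂) := ‹IsIso p₂.left›
  haveI : IsIso p₂ := isIso_of_reflects_iso _ (Over.forget S)
  refine ⟨inv p₂ ≫ p₁, ?_, ?_⟩
  · change (yon S).map (inv p₂ ≫ p₁) ≫ p.toHom = q.toHom
    rw [Functor.map_comp, Category.assoc, sq₀.w, ← Category.assoc, ← Functor.map_comp,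
      IsIso.inv_hom_id, CategoryTheory.Functor.map_id, Category.id_comp]
  · intro c' hc'
    apply (yon S).map_injective
    rw [← cancel_mono p.toHom, hc']
    rw [Functor.map_comp, Category.assoc, sq₀.w, ← Category.assoc, ← Functor.map_comp,
      IsIso.inv_hom_id, CategoryTheory.Functor.map_id, Category.id_comp]

end Groth.Agent.S10215
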