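import Groth.Statements.S10216
import Mathlib
import Groth.Agent.Lib.Helper2.AlgSp.GeomPoint

open CategoryTheory CategoryTheory.Limits AlgebraicGeometry Opposite AlgSp Topology Groth.Agent.Helper2.AlgSpBasic

set_option autoImplicit false
universe u
open CategoryTheory CategoryTheory.Limits AlgebraicGeometry Topology TopologicalSpace
open AlgSp

namespace Groth.Agent.S10216

/-- Let φ : U ⟶ X be an etale morphism of algebraic spaces over a scheme S, take a geometric point x̄ :
Spec k ⟶ X of X whose image in |X| is x, and let u ∈ |U| with φ(u) = x. Then there is a geometric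
point ū : Spec k ⟶ U (with the same field k) lying over u and with φ ∘ ū = x̄. -/
theorem result {S : Scheme.{u}} {U X : AlgSp.Space S} (φ : U ⟶ X)
    (hφ : AlgSp.IsEtaleMor φ.hom) (xbar : AlgSp.FieldPt X.obj) (hx : xbar.IsGeometric)
    (u : AlgSp.Points U.obj) (hu : AlgSp.Points.map φ.hom u = AlgSp.Points.mk xbar) :
    ∃ ubar : (AlgSp.yon S).obj xbar.pt ⟶ U.obj,
      ubar ≫ φ.hom = xbar.toHom ∧ AlgSp.Points.ofPt ubar (IsLocalRing.closedPoint xbar.K) = u := by
  haveI : IsAlgClosed xbar.K := hx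
  obtain ⟨A, a, haE, haS⟩ := U.property.atlas
  obtain ⟨a₀, ha₀⟩ := surjective_ofPt a haS u
  have hE : RepWith @Etale (a ≫ φ.hom) := hφ a haE
  have hrep := hE.rep
  obtain ⟨pU, hpU⟩ := (yon S).map_surjective (hrep.fst xbar.toHom)
  have sq := hrep.isPullback xbar.toHom
  rw [← hpU] at sq
  have het : Etale (hrep.snd xbar.toHom).left := hE.property xbar.toHom _ _ (hrep.isPullback xbar.toHom)
  have e : Points.ofPt (a ≫ φ.hom) a₀ = Points.ofPt xbar.toHom (IsLocalRing.closedPoint xbar.K) := by
    rw [← Points.map_ofPt, ha₀, hu, Points.ofPt_toHom]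
  obtain ⟨w, hw1, hw2⟩ := exists_point_of_isPullback_yon (a ≫ φ.hom) xbar.toHom pU
    (hrep.snd xbar.toHom) sq a₀ (IsLocalRing.closedPoint xbar.K) e
  obtain ⟨s, hs1, hs2⟩ := exists_section_of_etale_algClosed (hrep.snd xbar.toHom).left w
  have hsw : s ≫ (hrep.pullback xbar.toHom).hom = xbar.pt.hom := by
    rw [← Over.w (hrep.snd xbar.toHom), ← Category.assoc, hs1, Category.id_comp]
  let sO : xbar.pt ⟶ hrep.pullback xbar.toHom := Over.homMk s hsw
  have hsO : sO ≫ hrep.snd xbar.toHom = 𝟙 _ := by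
    apply Over.OverMorphism.ext
    exact hs1
  refine ⟨(yon S).map (sO ≫ pU) ≫ a, ?_, ?_⟩
  · rw [Functor.map_comp, Category.assoc, Category.assoc, sq.w, ← Category.assoc, ← Functor.map_comp,
      hsO, CategoryTheory.Functor.map_id, Category.id_comp]
  · rw [ofPt_yon_map_comp]
    have : (sO ≫ pU).left (IsLocalRing.closedPoint xbar.K) = a₀ := by
      change pU.left (s (IsLocalRing.closedPoint xbar.K)) = a₀
      rw [hs2, hw1]
    rw [this, ha₀]

end Groth.Agent.S10216
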