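import Groth.Statements.S10223
import Groth.Agent.Lib.Helper2.AlgSp.OEtStalkG
import Groth.Agent.Lib.Helper2.Ring.StrictHensTransfer


set_option autoImplicit false
universe u
open CategoryTheory CategoryTheory.Limits AlgebraicGeometry Topology TopologicalSpace
open AlgSp

namespace Groth.Agent.S10223

/-- Let X be an algebraic space over a scheme S and x̄ a geometric point of X. Then the etale local ring
of X at x̄ (the stalk at x̄ of the structure sheaf of the small etale site) is a strictly henselian
local ring. (The published statement identifies this ring with the strict henselisation of the local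
ring of any etale neighbourhood (U, ū) at the image point of ū; this row records the resulting
property of the ring, not the identification.) -/
theorem result {S : Scheme.{u}} (X : AlgSp.Space S) (p : AlgSp.FieldPt X.obj)
    (hp : p.IsGeometric) :
    IsLocalRing ↥(AlgSp.OEtStalk p) ∧ EtCoh.IsStrictlyHenselianLocalRing ↥(AlgSp.OEtStalk p) := by
  haveI : IsAlgClosed p.K := hp
  obtain ⟨N⟩ := Groth.Agent.Helper2.EtNbhd.nonempty p X.property hp
  obtain ⟨c, -⟩ := Groth.Agent.Helper2.OEtStalkG.exists_affChart N.1 N.2
  have e := Groth.Agent.Helper2.OEtStalkG.ringEquiv X.property hp c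
  have h := Groth.Agent.Helper2.StrictHensTransfer.isStrictlyHenselian_of_ringEquiv e
    (Groth.Agent.Helper2.SHensLoc.isStrictlyHenselian_G c.A₀ p.K)
  exact ⟨e.isLocalRing, h⟩

end Groth.Agent.S10223
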