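import Groth.Statements.S10226
import Groth.Agent.Lib.Helper2.AlgSp.OEtStalkProps
import Groth.Agent.Lib.Helper2.AlgSp.NoethDescent
import Groth.Agent.S0540
import Groth.Agent.S10223


set_option autoImplicit false
universe u
open CategoryTheory CategoryTheory.Limits AlgebraicGeometry Topology TopologicalSpace
open AlgSp

namespace Groth.Agent.S10226

/-- Let X be a Noetherian algebraic space over a scheme S (quasi-compact, with quasi-compact diagonal
over S, and locally Noetherian) and x̄ a geometric point of X. Then the etale local ring of X at x̄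
is a Noetherian local ring. -/
theorem result {S : Scheme.{u}} (X : AlgSp.Space S)
    (hqc : AlgSp.IsQuasiCompactSp X.obj) (hqs : AlgSp.IsQuasiSeparatedSp X.obj) (hX : AlgSp.IsLocNoethSp X.obj)
    (p : AlgSp.FieldPt X.obj) (hp : p.IsGeometric) :
    IsNoetherianRing ↥(AlgSp.OEtStalk p) ∧ IsLocalRing ↥(AlgSp.OEtStalk p) := by
  refine ⟨?_, (Groth.Agent.S10223.result X p hp).1⟩
  obtain ⟨N⟩ := Groth.Agent.Helper2.EtNbhd.nonempty p X.property hp
  haveI : IsLocallyNoetherian N.1.obj.left.left :=
    Groth.Agent.Helper2.AlgSpBasic.isLocallyNoetherian_of_etale_of_isLocNoethSp hX N.1.obj.hom N.1.property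
  have h := (Groth.Agent.Helper2.OEtStalkProps.stalk_iff X.property p hp
    (fun R _ => IsNoetherianRing R) (fun R _ => IsNoetherianRing R)
    (fun R R' _ _ e h => by haveI := h; exact isNoetherianRing_of_ringEquiv R e)
    (fun R R' _ _ e => ⟨fun h => by haveI := h; exact isNoetherianRing_of_ringEquiv R e,
      fun h => by haveI := h; exact isNoetherianRing_of_ringEquiv R' e.symm⟩)
    (fun R G' _ _ _ _ _ _ _ => Groth.Agent.S0540.result R G') N.1 N.2).1
  exact h inferInstance

end Groth.Agent.S10226
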