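import Groth.Statements.S10227
import Groth.Agent.Lib.Helper2.AlgSp.OEtStalkMinPrime
import Groth.Agent.S2135


set_option autoImplicit false
universe u
open CategoryTheory CategoryTheory.Limits AlgebraicGeometry Topology TopologicalSpace
open AlgSp

namespace Groth.Agent.S10227

/-- (1) ⇔ (4) ⇔ (5): let X be an algebraic space over a scheme S and x ∈ |X|. The following are
equivalent: for every scheme U, every etale h_U ⟶ X and every point u of U over x, the local ring of
U at u has a unique minimal prime; for every such (U, u), the local ring of U at u is geometrically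
unibranch; for every geometric point x̄ over x, the etale local ring of X at x̄ has a unique minimal
prime. -/
theorem result {S : Scheme.{u}} (X : AlgSp.Space S) (x : AlgSp.Points X.obj) :
    ((∀ (U : Over S) (a : (AlgSp.yon S).obj U ⟶ X.obj) (u : ↥U.left),
        AlgSp.RepWith @Etale a → AlgSp.Points.ofPt a u = x → CAlgX.HasUniqueMinimalPrime ↥(U.left.presheaf.stalk u)) ↔
      (∀ (U : Over S) (a : (AlgSp.yon S).obj U ⟶ X.obj) (u : ↥U.left),
        AlgSp.RepWith @Etale a → AlgSp.Points.ofPt a u = x → CAlg2.IsGeomUnibranch ↥(U.left.presheaf.stalk u))) ∧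
    ((∀ (U : Over S) (a : (AlgSp.yon S).obj U ⟶ X.obj) (u : ↥U.left),
        AlgSp.RepWith @Etale a → AlgSp.Points.ofPt a u = x → CAlgX.HasUniqueMinimalPrime ↥(U.left.presheaf.stalk u)) ↔
      ∀ p : AlgSp.FieldPt X.obj, p.IsGeometric → AlgSp.Points.mk p = x →
        CAlgX.HasUniqueMinimalPrime ↥(AlgSp.OEtStalk p)) := by
  -- transport of the prime nilradical along ring isomorphisms
  have hnil : ∀ {R : Type u} {R' : Type (u + 1)} [CommRing R] [CommRing R'] (e : R ≃+* R'),
      ((nilradical R).IsPrime ↔ (nilradical R').IsPrime) := by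
    intro R R' _ _ e
    have h1 : nilradical R = (nilradical R').comap (e : R →+* R') := by
      ext a
      rw [Ideal.mem_comap, mem_nilradical, mem_nilradical]
      exact (IsNilpotent.map_iff e.injective).symm
    have h2 : nilradical R' = (nilradical R).comap (e.symm : R' →+* R) := by
      ext a
      rw [Ideal.mem_comap, mem_nilradical, mem_nilradical]
      exact (IsNilpotent.map_iff e.symm.injective).symm
    constructor
    · intro h
      rw [h2]
      exact Ideal.comap_isPrime _ _
    · intro h
      rw [h1]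
      exact Ideal.comap_isPrime _ _
  have hump : ∀ {R : Type u} {R' : Type (u + 1)} [CommRing R] [CommRing R'] (e : R ≃+* R'),
      (CAlgX.HasUniqueMinimalPrime R ↔ CAlgX.HasUniqueMinimalPrime R') := by
    intro R R' _ _ e
    rw [Groth.Agent.Helper8.HensUB.hasUniqueMinimalPrime_iff_isPrime_nilradical,
      Groth.Agent.Helper8.HensUB.hasUniqueMinimalPrime_iff_isPrime_nilradical]
    exact hnil e
  -- geometrically unibranch implies unique minimal prime
  have hgu : ∀ (A : Type u) [CommRing A] [IsLocalRing A], CAlg2.IsGeomUnibranch A →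
      CAlgX.HasUniqueMinimalPrime A := by
    intro A _ _ h
    rw [Groth.Agent.Helper8.HensUB.hasUniqueMinimalPrime_iff_isPrime_nilradical]
    exact (Ideal.Quotient.isDomain_iff_prime _).1 h.1.1
  -- the three conditions
  have h45 : (∀ (U : Over S) (a : (AlgSp.yon S).obj U ⟶ X.obj) (u : ↥U.left),
        AlgSp.RepWith @Etale a → AlgSp.Points.ofPt a u = x → CAlg2.IsGeomUnibranch ↥(U.left.presheaf.stalk u)) ↔
      ∀ p : AlgSp.FieldPt X.obj, p.IsGeometric → AlgSp.Points.mk p = x →
        CAlgX.HasUniqueMinimalPrime ↥(AlgSp.OEtStalk p) := by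
    constructor
    · intro h p hp hpx
      obtain ⟨N⟩ := Groth.Agent.Helper2.EtNbhd.nonempty p X.property hp
      have hN : AlgSp.Points.ofPt N.1.obj.hom
          (N.2.1.left (default : ↥(Spec (CommRingCat.of p.K)))) = x := by
        rw [Groth.Agent.Helper2.EtStalk.ofPt_lift, hpx]
      have hgu' := h N.1.obj.left N.1.obj.hom _ N.1.property hN
      obtain ⟨G', _, _, _, _, hSH, ⟨e⟩⟩ :=
        Groth.Agent.Helper2.OEtStalkProps.exists_strictHenselization_stalk X.property p hp N.1 N.2
      exact (hump e).1 ((Groth.Agent.S2135.result (Ash := G')).1 hgu')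
    · intro h U a u hae hu
      obtain ⟨p, hp, l, hl⟩ := Groth.Agent.Helper2.EtStalk.exists_geometric_lift
        (AlgSp.EtOver.mk a hae) u
      have hpx : AlgSp.Points.mk p = x := by
        rw [← hu, ← hl]
        exact (Groth.Agent.Helper2.EtStalk.ofPt_lift p l _).symm
      obtain ⟨G', _, _, _, _, hSH, ⟨e⟩⟩ :=
        Groth.Agent.Helper2.OEtStalkProps.exists_strictHenselization_stalk X.property p hp
          (AlgSp.EtOver.mk a hae) l
      have h1 : CAlg2.IsGeomUnibranch ↥((AlgSp.EtOver.mk a hae).obj.left.left.presheaf.stalk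
          (l.1.left (default : ↥(Spec (CommRingCat.of p.K))))) :=
        (Groth.Agent.S2135.result (Ash := G')).2 ((hump e).2 (h p hp hpx))
      rw [hl] at h1
      exact h1
  have h15 : (∀ (U : Over S) (a : (AlgSp.yon S).obj U ⟶ X.obj) (u : ↥U.left),
        AlgSp.RepWith @Etale a → AlgSp.Points.ofPt a u = x → CAlgX.HasUniqueMinimalPrime ↥(U.left.presheaf.stalk u)) →
      ∀ p : AlgSp.FieldPt X.obj, p.IsGeometric → AlgSp.Points.mk p = x →
        CAlgX.HasUniqueMinimalPrime ↥(AlgSp.OEtStalk p) := by
    intro h p hp hpx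
    rw [Groth.Agent.Helper8.HensUB.hasUniqueMinimalPrime_iff_isPrime_nilradical]
    apply Groth.Agent.Helper2.OEtStalkMinPrime.isPrime_nilradical X.property hp
    intro E y
    rw [← Groth.Agent.Helper8.HensUB.hasUniqueMinimalPrime_iff_isPrime_nilradical]
    apply h E.obj.left E.obj.hom _ E.property
    rw [Groth.Agent.Helper2.EtStalk.ofPt_lift, hpx]
  have h41 : (∀ (U : Over S) (a : (AlgSp.yon S).obj U ⟶ X.obj) (u : ↥U.left),
        AlgSp.RepWith @Etale a → AlgSp.Points.ofPt a u = x → CAlg2.IsGeomUnibranch ↥(U.left.presheaf.stalk u)) →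
      (∀ (U : Over S) (a : (AlgSp.yon S).obj U ⟶ X.obj) (u : ↥U.left),
        AlgSp.RepWith @Etale a → AlgSp.Points.ofPt a u = x → CAlgX.HasUniqueMinimalPrime ↥(U.left.presheaf.stalk u)) :=
    fun h U a u hae hu => hgu _ (h U a u hae hu)
  exact ⟨⟨fun h => h45.2 (h15 h), h41⟩, ⟨h15, fun h => h41 (h45.2 h)⟩⟩

end Groth.Agent.S10227
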