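import Groth.Statements.S10228
import Mathlib
import Groth.Agent.Lib.Helper2.AlgSp.GlueSp

open CategoryTheory CategoryTheory.Limits AlgebraicGeometry Opposite AlgSp
open Groth.Agent.Helper2.AlgSpBasic Groth.Agent.Helper2.Coprod

set_option autoImplicit false
universe u
open CategoryTheory CategoryTheory.Limits AlgebraicGeometry Topology TopologicalSpace
open AlgSp

namespace Groth.Agent.S10228

/-- An algebraic space that is the coproduct of finitely many quasi-compact algebraic spaces is
quasi-compact: if X_i (i in a finite type) are quasi-compact algebraic spaces over a scheme S and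
the underlying sheaf of the algebraic space X is a coproduct of the underlying sheaves of the X_i
(given by a colimit cofan of fppf sheaves whose cone point is the sheaf of X), then X is
quasi-compact. -/
theorem result {S : Scheme.{u}} {ι : Type u} [Finite ι] (Xi : ι → AlgSp.Space S)
    (X : AlgSp.Space S) (c : Cofan fun i => (Xi i).obj) (hc : IsColimit c) (hX : c.pt = X.obj)
    (hqc : ∀ i, AlgSp.IsQuasiCompactSp (Xi i).obj) :
    AlgSp.IsQuasiCompactSp X.obj := by
  have hXa : IsAlgSpace c.pt := hX ▸ X.property
  rw [← hX, isQuasiCompactSp_iff_compactSpace_points hXa]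
  haveI : ∀ i, CompactSpace (Points (Xi i).obj) := fun i =>
    (isQuasiCompactSp_iff_compactSpace_points (Xi i).property).mp (hqc i)
  have hcov : (Set.univ : Set (Points c.pt)) = ⋃ i, Set.range (Points.map (c.inj i)) := by
    symm
    rw [Set.eq_univ_iff_forall]
    intro y
    obtain ⟨T, s, t, rfl⟩ := exists_ofPt_eq y
    obtain ⟨κ, W, p, hp, hs, hx⟩ := exists_local_lift c hc s
    obtain ⟨k, w, hw⟩ := hs t
    obtain ⟨i, x, hxi⟩ := hx k
    refine Set.mem_iUnion.mpr ⟨i, Points.ofPt x w, ?_⟩
    rw [Points.map_ofPt, hxi, ofPt_yon_map_comp, hw]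
  refine ⟨?_⟩
  rw [hcov]
  exact isCompact_iUnion fun i => isCompact_range (Points.continuous_map (c.inj i))

end Groth.Agent.S10228
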