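import Groth.Statements.S10231
import Groth.Agent.Lib.Helper2.AlgSp.OEtStalkProps
import Groth.Agent.Lib.Helper2.AlgSp.NoethDescent
import Groth.Agent.S2743
import Groth.Agent.S0540


set_option autoImplicit false
universe u
open CategoryTheory CategoryTheory.Limits AlgebraicGeometry Topology TopologicalSpace
open AlgSp

namespace Groth.Agent.S10231

/-- Let X be a locally Noetherian algebraic space over a scheme S. Then X is regular (etale locally a
regular scheme: some surjective etale chart from a locally Noetherian scheme all of whose local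
rings are regular) if and only if every etale local ring of X at a geometric point is a regular
local ring. -/
theorem result {S : Scheme.{u}} (X : AlgSp.Space S) (hX : AlgSp.IsLocNoethSp X.obj) :
    AlgSp.EtaleLocally (fun U => IsLocallyNoetherian U ∧ ∀ u : ↥U, IsRegularLocalRing ↥(U.presheaf.stalk u)) X.obj ↔
      ∀ p : AlgSp.FieldPt X.obj, p.IsGeometric → IsRegularLocalRing ↥(AlgSp.OEtStalk p) := by
  have key : ∀ (p : AlgSp.FieldPt X.obj) (hp : p.IsGeometric) (E : AlgSp.EtOver X.obj)
      (x : (AlgSp.FieldPt.liftsTo p).obj E),
      (IsRegularLocalRing ↥(E.obj.left.left.presheaf.stalk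
        (x.1.left (default : ↥(Spec (CommRingCat.of p.K))))) ↔
        IsRegularLocalRing ↥(AlgSp.OEtStalk p)) := fun p hp E x =>
    Groth.Agent.Helper2.OEtStalkProps.stalk_iff X.property p hp
      (fun R _ => IsRegularLocalRing R) (fun R _ => IsRegularLocalRing R)
      (fun R R' _ _ e h => by haveI := h; exact IsRegularLocalRing.of_ringEquiv e)
      (fun R R' _ _ e => ⟨fun h => by haveI := h; exact IsRegularLocalRing.of_ringEquiv e,
        fun h => by haveI := h; exact IsRegularLocalRing.of_ringEquiv e.symm⟩)
      (fun R G' _ _ _ _ _ _ _ => by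
        constructor
        · intro h
          haveI := h
          haveI : IsNoetherianRing R := inferInstance
          exact (Groth.Agent.S2743.result R G').2 h
        · intro h
          haveI := h
          haveI : IsNoetherianRing G' := inferInstance
          haveI : IsNoetherianRing R := (Groth.Agent.S0540.result R G').2 inferInstance
          exact (Groth.Agent.S2743.result R G').1 h) E x
  constructor
  · rintro ⟨U, a, hae, has, hN, hreg⟩ p hp
    obtain ⟨u, hu⟩ := Groth.Agent.Helper2.AlgSpBasic.surjective_ofPt a has (AlgSp.Points.mk p)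
    obtain ⟨x, hx⟩ := Groth.Agent.Helper2.OEtStalkProps.exists_lift_through p hp
      (AlgSp.EtOver.mk a hae) u hu.symm
    have := (key p hp (AlgSp.EtOver.mk a hae) x).1
    rw [hx] at this
    exact this (hreg u)
  · intro h
    obtain ⟨U₀, a₀, hae, has⟩ := X.property.atlas
    refine ⟨U₀, a₀, hae, has,
      Groth.Agent.Helper2.AlgSpBasic.isLocallyNoetherian_of_etale_of_isLocNoethSp hX a₀ hae, ?_⟩
    intro u
    obtain ⟨p, hp, l, hl⟩ := Groth.Agent.Helper2.EtStalk.exists_geometric_lift
      (AlgSp.EtOver.mk a₀ hae) u
    have := (key p hp (AlgSp.EtOver.mk a₀ hae) l).2 (h p hp)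
    rw [hl] at this
    exact this

end Groth.Agent.S10231
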