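import Groth.Statements.S10232
import Groth.Agent.Lib.Helper2.AlgSp.OEtStalkProps
import Groth.Agent.S2743
import Groth.Agent.S0540


set_option autoImplicit false
universe u
open CategoryTheory CategoryTheory.Limits AlgebraicGeometry Topology TopologicalSpace
open AlgSp

namespace Groth.Agent.S10232

/-- Let X be an algebraic space over a scheme S and x ∈ |X|. Then X is regular at x (for some etale
chart h_U ⟶ X and some point u of U over x, the local ring of U at u is regular) if and only if the
etale local ring of X at x̄ is regular for every geometric point x̄ lying over x, if and only if it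
is regular for some geometric point x̄ lying over x. -/
theorem result {S : Scheme.{u}} (X : AlgSp.Space S) (x : AlgSp.Points X.obj) :
    (AlgSp.HasAt (fun U u => IsRegularLocalRing ↥(U.presheaf.stalk u)) X.obj x ↔
      ∀ p : AlgSp.FieldPt X.obj, p.IsGeometric → AlgSp.Points.mk p = x → IsRegularLocalRing ↥(AlgSp.OEtStalk p)) ∧
    (AlgSp.HasAt (fun U u => IsRegularLocalRing ↥(U.presheaf.stalk u)) X.obj x ↔
      ∃ p : AlgSp.FieldPt X.obj, p.IsGeometric ∧ AlgSp.Points.mk p = x ∧ IsRegularLocalRing ↥(AlgSp.OEtStalk p)) := by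
  have key : ∀ p : AlgSp.FieldPt X.obj, p.IsGeometric →
      (AlgSp.HasAt (fun U u => IsRegularLocalRing ↥(U.presheaf.stalk u)) X.obj (AlgSp.Points.mk p) ↔
        IsRegularLocalRing ↥(AlgSp.OEtStalk p)) := fun p hp =>
    Groth.Agent.Helper2.OEtStalkProps.hasAt_iff X.property p hp
      (fun R _ => IsRegularLocalRing R) (fun R _ => IsRegularLocalRing R)
      (fun R R' _ _ e h => by haveI := h; exact IsRegularLocalRing.of_ringEquiv e)
      (fun R R' _ _ e => ⟨fun h => by haveI := h; exact IsRegularLocalRing.of_ringEquiv e,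
        fun h => by haveI := h; exact IsRegularLocalRing.of_ringEquiv e.symm⟩)
      (fun R G' _ _ _ _ _ _ _ => by
        constructor
        · intro h
          haveI := h
          haveI : IsNoetherianRing R := inferInstance
          exact (Groth.Agent.S2743.result R G').2 h
        · intro h
          haveI := h
          haveI : IsNoetherianRing G' := inferInstance
          haveI : IsNoetherianRing R := (Groth.Agent.S0540.result R G').2 inferInstance
          exact (Groth.Agent.S2743.result R G').1 h)
  have hex : ∃ p : AlgSp.FieldPt X.obj, p.IsGeometric ∧ AlgSp.Points.mk p = x := by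
    obtain ⟨U₀, a₀, hae, has⟩ := X.property.atlas
    obtain ⟨u, rfl⟩ := Groth.Agent.Helper2.AlgSpBasic.surjective_ofPt a₀ has x
    obtain ⟨p, hp, l, hl⟩ := Groth.Agent.Helper2.EtStalk.exists_geometric_lift (AlgSp.EtOver.mk a₀ hae) u
    refine ⟨p, hp, ?_⟩
    rw [← hl]
    exact (Groth.Agent.Helper2.EtStalk.ofPt_lift p l _).symm
  refine ⟨⟨fun h p hp hpx => ?_, fun h => ?_⟩, ⟨fun h => ?_, fun h => ?_⟩⟩
  · subst hpx
    exact (key p hp).1 h
  · obtain ⟨p, hp, rfl⟩ := hex
    exact (key p hp).2 (h p hp rfl)
  · obtain ⟨p, hp, rfl⟩ := hex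
    exact ⟨p, hp, rfl, (key p hp).1 h⟩
  · obtain ⟨p, hp, rfl, hr⟩ := h
    exact (key p hp).2 hr

end Groth.Agent.S10232
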