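import Groth.Statements.S10239
import Groth.Agent.Lib.Helper2.AlgSp.OEtStalkBranches


set_option autoImplicit false
universe u
open CategoryTheory CategoryTheory.Limits AlgebraicGeometry Topology TopologicalSpace
open AlgSp

namespace Groth.Agent.S10239

/-- (1) ⇔ (4) ⇔ (5): let X be an algebraic space over a scheme S, x ∈ |X| and n ≥ 1 an integer. The
following are equivalent: (1) for every scheme U, etale h_U ⟶ X and u ∈ U over x the local ring of U
at u has at most n minimal primes, and for some such (U, u) exactly n; (4) for every such (U, u) the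
number of geometric branches of U at u is n; (5) for every geometric point x̄ over x the etale local
ring of X at x̄ has exactly n minimal primes. -/
theorem result {S : Scheme.{u}} (X : AlgSp.Space S) (x : AlgSp.Points X.obj)
    (n : ℕ) (hn : 1 ≤ n) :
    (((∀ (U : Over S) (a : (AlgSp.yon S).obj U ⟶ X.obj) (u : ↥U.left),
        AlgSp.RepWith @Etale a → AlgSp.Points.ofPt a u = x → (minimalPrimes ↥(U.left.presheaf.stalk u)).encard ≤ n) ∧
        AlgSp.HasAt (fun U u => (minimalPrimes ↥(U.presheaf.stalk u)).encard = n) X.obj x) ↔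
      (∀ (U : Over S) (a : (AlgSp.yon S).obj U ⟶ X.obj) (u : ↥U.left),
        AlgSp.RepWith @Etale a → AlgSp.Points.ofPt a u = x → Brnch.numGeomBranchesAt U.left u = n)) ∧
    ((∀ (U : Over S) (a : (AlgSp.yon S).obj U ⟶ X.obj) (u : ↥U.left),
        AlgSp.RepWith @Etale a → AlgSp.Points.ofPt a u = x → Brnch.numGeomBranchesAt U.left u = n) ↔
      ∀ p : AlgSp.FieldPt X.obj, p.IsGeometric → AlgSp.Points.mk p = x →
        (minimalPrimes ↥(AlgSp.OEtStalk p)).encard = n) := by
  have hXa := X.property
  -- the etale neighbourhoods of a chart are charts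
  have hchart : ∀ (U : Over S) (a : (AlgSp.yon S).obj U ⟶ X.obj) (u : ↥U.left),
      AlgSp.RepWith @Etale a → AlgSp.Points.ofPt a u = x →
      ∀ (U' : Scheme.{u}) (g : U' ⟶ U.left) (u' : ↥U'), Etale g → g u' = u →
        ∃ (V : Over S) (b : (AlgSp.yon S).obj V ⟶ X.obj) (v : ↥V.left),
          AlgSp.RepWith @Etale b ∧ AlgSp.Points.ofPt b v = x ∧
          (minimalPrimes ↥(V.left.presheaf.stalk v)).encard =
            (minimalPrimes ↥(U'.presheaf.stalk u')).encard := by
    intro U a u hae hu U' g u' hg hgu
    let gO : Over.mk (g ≫ U.hom) ⟶ U := Over.homMk g rfl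
    refine ⟨Over.mk (g ≫ U.hom), (AlgSp.yon S).map gO ≫ a, u', ?_, ?_, rfl⟩
    · exact Groth.Agent.Helper2.AlgSpBasic.repWith_comp @Etale
        ((AlgSp.repWith_yon_map_iff @Etale gO).2 hg) hae
    · rw [Groth.Agent.Helper2.AlgSpBasic.ofPt_yon_map_comp]
      show AlgSp.Points.ofPt a (g u') = x
      rw [hgu, hu]
  constructor
  · constructor
    · rintro ⟨hle, U₀, a₀, u₀, hae₀, hu₀, hn₀⟩ U a u hae hu
      apply le_antisymm
      · rw [Groth.Agent.Helper2.OEtStalkBranches.numGeomBranchesAt_eq_iSup]
        apply iSup_le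
        intro U'
        apply iSup_le
        intro g
        apply iSup_le
        intro u'
        apply iSup_le
        rintro ⟨hg, hgu⟩
        obtain ⟨V, b, v, hbe, hbv, heq⟩ := hchart U a u hae hu U' g u' hg hgu
        rw [← heq]
        exact hle V b v hbe hbv
      · have := Groth.Agent.Helper2.OEtStalkBranches.encard_minimalPrimes_le_of_charts hXa a a₀
          hae hae₀ u u₀ (hu.trans hu₀.symm)
        rw [hn₀] at this
        exact this
    · intro h
      constructor
      · intro U a u hae hu
        have h1 := Groth.Agent.Helper2.OEtStalkBranches.encard_minimalPrimes_le_numGeomBranchesAt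
          (𝟙 U.left) u
        have h2 : (𝟙 U.left : U.left ⟶ U.left) u = u := rfl
        rw [h2, h U a u hae hu] at h1
        exact h1
      · obtain ⟨U₀, a₀, hae, has⟩ := hXa.atlas
        obtain ⟨u, hu⟩ := Groth.Agent.Helper2.AlgSpBasic.surjective_ofPt a₀ has x
        have hN := h U₀ a₀ u hae hu
        rw [Groth.Agent.Helper2.OEtStalkBranches.numGeomBranchesAt_eq_iSup] at hN
        by_contra hcon
        have hlt : ∀ (U' : Scheme.{u}) (g : U' ⟶ U₀.left) (u' : ↥U'), Etale g ∧ g u' = u →
            (minimalPrimes ↥(U'.presheaf.stalk u')).encard ≤ ((n - 1 : ℕ) : ℕ∞) := by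
          rintro U' g u' ⟨hg, hgu⟩
          have hle : (minimalPrimes ↥(U'.presheaf.stalk u')).encard ≤ (n : ℕ∞) := by
            rw [← hN]
            exact le_iSup₂_of_le U' g (le_iSup₂_of_le u' ⟨hg, hgu⟩ le_rfl)
          have hne : (minimalPrimes ↥(U'.presheaf.stalk u')).encard ≠ (n : ℕ∞) := by
            intro he
            obtain ⟨V, b, v, hbe, hbv, heq⟩ := hchart U₀ a₀ u hae hu U' g u' hg hgu
            exact hcon ⟨V, b, v, hbe, hbv, heq.trans he⟩
          have hlt' := lt_of_le_of_ne hle hne
          obtain ⟨m, hm⟩ := ENat.ne_top_iff_exists.1 (ne_top_of_lt hlt')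
          rw [← hm] at hlt' ⊢
          have : m < n := by exact_mod_cast hlt'
          exact_mod_cast Nat.le_sub_one_of_lt this
        have hsup : (n : ℕ∞) ≤ ((n - 1 : ℕ) : ℕ∞) := by
          rw [← hN]
          apply iSup_le
          intro U'
          apply iSup_le
          intro g
          apply iSup_le
          intro u'
          apply iSup_le
          intro hh
          exact hlt U' g u' hh
        have : n ≤ n - 1 := by exact_mod_cast hsup
        omega
  · constructor
    · intro h p hp hpx
      obtain ⟨N⟩ := Groth.Agent.Helper2.EtNbhd.nonempty p hXa hp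
      have hN : AlgSp.Points.ofPt N.1.obj.hom
          (N.2.1.left (default : ↥(Spec (CommRingCat.of p.K)))) = AlgSp.Points.mk p :=
        Groth.Agent.Helper2.EtStalk.ofPt_lift p N.2 _
      rw [Groth.Agent.Helper2.OEtStalkBranches.encard_minimalPrimes_OEtStalk hXa p hp
        N.1.obj.hom N.1.property _ hN]
      exact h N.1.obj.left N.1.obj.hom _ N.1.property (hN.trans hpx)
    · intro h U a u hae hu
      obtain ⟨p, hp, l, hl⟩ := Groth.Agent.Helper2.EtStalk.exists_geometric_lift
        (AlgSp.EtOver.mk a hae) u
      have hpu : AlgSp.Points.ofPt a u = AlgSp.Points.mk p := by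
        rw [← hl]
        exact Groth.Agent.Helper2.EtStalk.ofPt_lift p l _
      rw [← Groth.Agent.Helper2.OEtStalkBranches.encard_minimalPrimes_OEtStalk hXa p hp a hae u hpu]
      exact h p hp (hpu.symm.trans hu)

end Groth.Agent.S10239
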