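import Groth.Statements.S10258
import Groth.Agent.Lib.Helper2.AlgSp.EtNbhd

set_option autoImplicit false
universe u
open CategoryTheory CategoryTheory.Limits AlgebraicGeometry Topology TopologicalSpace
open AlgSp

namespace Groth.Agent.S10258

/-- Let X be an algebraic space over a scheme S, a : F ⟶ G a morphism of abelian sheaves on the small
etale site of X and x ∈ |X|. If a is surjective (an epimorphism of sheaves) and x lies in the
support of G, i.e. G_x̄ ≠ 0 for some geometric point x̄ over x, then x lies in the support of F; if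
a is injective (a monomorphism) and x lies in the support of F, then x lies in the support of G.
(The published definition of the support allows any, equivalently some, geometric point over x; this
row uses the existential form and does not assert that the two readings agree.) -/
theorem result {S : Scheme.{u}} (X : AlgSp.Space S) {F G : AlgSp.AbEt X.obj}
    (a : F ⟶ G) (x : AlgSp.Points X.obj) :
    (Epi a → (∃ p : AlgSp.FieldPt X.obj, p.IsGeometric ∧ AlgSp.Points.mk p = x ∧ ¬ IsZero (AlgSp.stalkEt p G)) →
        ∃ p : AlgSp.FieldPt X.obj, p.IsGeometric ∧ AlgSp.Points.mk p = x ∧ ¬ IsZero (AlgSp.stalkEt p F)) ∧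
    (Mono a → (∃ p : AlgSp.FieldPt X.obj, p.IsGeometric ∧ AlgSp.Points.mk p = x ∧ ¬ IsZero (AlgSp.stalkEt p F)) →
        ∃ p : AlgSp.FieldPt X.obj, p.IsGeometric ∧ AlgSp.Points.mk p = x ∧ ¬ IsZero (AlgSp.stalkEt p G)) := by
  haveI : AB5OfSize.{u, u} AddCommGrpCat.{u + 1} :=
    AB5OfSize_of_univLE.{u, u, u + 1, u + 1} AddCommGrpCat.{u + 1}
  have hex : ∀ (p : AlgSp.FieldPt X.obj) (hp : p.IsGeometric),
      PreservesFiniteLimits (AlgSp.stalkEtFunctor AddCommGrpCat.{u + 1} p) ∧
      PreservesFiniteColimits (AlgSp.stalkEtFunctor AddCommGrpCat.{u + 1} p) := by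
    intro p hp
    exact ⟨(inferInstance : PreservesFiniteLimits
        ((Groth.Agent.Helper2.EtNbhd.point p X.property hp).sheafFiber
          (A := AddCommGrpCat.{u + 1}))),
      (inferInstance : PreservesFiniteColimits
        ((Groth.Agent.Helper2.EtNbhd.point p X.property hp).sheafFiber
          (A := AddCommGrpCat.{u + 1})))⟩
  constructor
  · rintro ha ⟨p, hp, hx, hne⟩
    refine ⟨p, hp, hx, fun hz => hne ?_⟩
    obtain ⟨h1, h2⟩ := hex p hp
    haveI : PreservesColimitsOfShape WalkingSpan
      (AlgSp.stalkEtFunctor AddCommGrpCat.{u + 1} p) := inferInstance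
    haveI : (AlgSp.stalkEtFunctor AddCommGrpCat.{u + 1} p).PreservesEpimorphisms :=
      CategoryTheory.preservesEpimorphisms_of_preservesColimitsOfShape _
    haveI : Epi ((AlgSp.stalkEtFunctor AddCommGrpCat.{u + 1} p).map a) := Functor.map_epi _ a
    have hz' : IsZero ((AlgSp.stalkEtFunctor AddCommGrpCat.{u + 1} p).obj F) := hz
    have hG : IsZero ((AlgSp.stalkEtFunctor AddCommGrpCat.{u + 1} p).obj G) :=
      IsZero.of_epi ((AlgSp.stalkEtFunctor AddCommGrpCat.{u + 1} p).map a) hz'
    exact hG
  · rintro ha ⟨p, hp, hx, hne⟩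
    refine ⟨p, hp, hx, fun hz => hne ?_⟩
    obtain ⟨h1, h2⟩ := hex p hp
    haveI : PreservesLimitsOfShape WalkingCospan
      (AlgSp.stalkEtFunctor AddCommGrpCat.{u + 1} p) := inferInstance
    haveI : (AlgSp.stalkEtFunctor AddCommGrpCat.{u + 1} p).PreservesMonomorphisms :=
      CategoryTheory.preservesMonomorphisms_of_preservesLimitsOfShape _
    haveI : Mono ((AlgSp.stalkEtFunctor AddCommGrpCat.{u + 1} p).map a) := Functor.map_mono _ a
    have hz' : IsZero ((AlgSp.stalkEtFunctor AddCommGrpCat.{u + 1} p).obj G) := hz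
    have hF : IsZero ((AlgSp.stalkEtFunctor AddCommGrpCat.{u + 1} p).obj F) :=
      IsZero.of_mono ((AlgSp.stalkEtFunctor AddCommGrpCat.{u + 1} p).map a) hz'
    exact hF

end Groth.Agent.S10258
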