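import Groth.Statements.S10261
import Mathlib
import Groth.Agent.Lib.Helper2.AlgSp.UnramDiag
import Groth.Agent.Lib.Helper2.AlgSp.Mono
import Groth.Agent.Lib.Helper2.AlgSp.LocP

open Groth.Agent.Helper2.AlgSpBasic

set_option autoImplicit false
universe u
open CategoryTheory CategoryTheory.Limits AlgebraicGeometry
open AlgSp

namespace Groth.Agent.S10261

/-- An etale and universally injective morphism of algebraic spaces is an open immersion. -/
theorem result {S : Scheme.{u}} {X Y : AlgSp.Space S}
    (f : X ⟶ Y) (het : AlgSp.IsEtaleMor f.hom) (hinj : AlgSp.IsUnivInjectiveMor f.hom) :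
    AlgSp.RepWith @IsOpenImmersion f.hom := by
  have hX := X.property
  have hY := Y.property
  have hét : LocP @Etale f.hom := locP_etale_of_isEtaleMor hY.diag f.hom het
  rw [repWith_isOpenImmersion_iff hX hY]
  refine ⟨?_, hét⟩
  have hunr : LocP (@LocallyOfFiniteType ⊓ @FormallyUnramified) f.hom :=
    locP_mono (fun _ _ g (hg : Etale g) => ⟨inferInstance, inferInstance⟩) hét
  have hΔ := repWith_isOpenImmersion_diagonal_of_unramified hX hY f.hom hunr
  have hPP : IsAlgSpace (pullback f.hom f.hom) :=
    isAlgSpace_of_isPullback hY.diag hX hX _ _ _ _ (IsPullback.of_hasPullback _ _)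
  have hΔ' := (repWith_isOpenImmersion_iff hX hPP _).1 hΔ
  have hsurj : IsSurjectiveMor (pullback.diagonal f.hom) := by
    intro p
    refine ⟨Points.map (pullback.snd _ _) p, ?_⟩
    apply hinj hX f.hom (pullback.fst _ _) (pullback.snd _ _) (IsPullback.of_hasPullback _ _)
    rw [← Points.map_comp, pullback.diagonal_snd, Points.map_id]
  have hiso : IsIso (pullback.diagonal f.hom) :=
    (isIso_iff_mono_etale_surjective hX hPP _).2 ⟨hΔ'.1, hΔ'.2, hsurj⟩
  exact (pullback.isIso_diagonal_iff f.hom).1 hiso

end Groth.Agent.S10261
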