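import Groth.Statements.S10269
import Mathlib
import Groth.Agent.Lib.Helper2.AlgSp.FiniteMor

open CategoryTheory CategoryTheory.Limits AlgebraicGeometry Opposite AlgSp
open Groth.Agent.Helper2.AlgSpBasic

set_option autoImplicit false
universe u
open CategoryTheory CategoryTheory.Limits AlgebraicGeometry
open AlgSp

namespace Groth.Agent.S10269

/-- A finite morphism of algebraic spaces is integral; an integral morphism locally of finite type is
finite. -/
theorem result {S : Scheme.{u}} {X Y : AlgSp.Space S} (f : X ⟶ Y) :
    (AlgSp.IsFiniteMor f.hom → AlgSp.IsIntegralMor f.hom) ∧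
    (AlgSp.IsIntegralMor f.hom → AlgSp.LocP @LocallyOfFiniteType f.hom → AlgSp.IsFiniteMor f.hom) := by
  exact ⟨fun h => isIntegralMor_of_isFiniteMor h,
    fun hi hl => isFiniteMor_of_isIntegralMor_of_locP_lft X.property Y.property hi hl⟩

end Groth.Agent.S10269
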