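import Groth.Statements.S10271
import Mathlib
import Groth.Agent.Lib.Helper2.AlgSp.FiniteMor

open CategoryTheory CategoryTheory.Limits AlgebraicGeometry Opposite AlgSp
open Groth.Agent.Helper2.AlgSpBasic

set_option autoImplicit false
universe u
open CategoryTheory CategoryTheory.Limits AlgebraicGeometry
open AlgSp

namespace Groth.Agent.S10271

/-- A morphism of algebraic spaces is finite if and only if it is affine and proper. -/
theorem result {S : Scheme.{u}} {X Y : AlgSp.Space S} (f : X ⟶ Y) :
    AlgSp.IsFiniteMor f.hom ↔ (AlgSp.IsAffineMor f.hom ∧ AlgSp.IsProperMor f.hom) := by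
  exact ⟨fun h => ⟨isAffineMor_of_isFiniteMor h, isProperMor_of_isFiniteMor X.property Y.property h⟩,
    fun h => isFiniteMor_of_isAffineMor_of_isProperMor X.property Y.property h.1 h.2⟩

end Groth.Agent.S10271
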