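import Groth.Statements.S10272
import Mathlib
import Groth.Agent.Lib.Helper2.AlgSp.FiniteMor

open CategoryTheory CategoryTheory.Limits AlgebraicGeometry Opposite AlgSp
open Groth.Agent.Helper2.AlgSpBasic

set_option autoImplicit false
universe u
open CategoryTheory CategoryTheory.Limits AlgebraicGeometry
open AlgSp

namespace Groth.Agent.S10272

/-- If g is separated and the composite of f and g is finite (resp. integral) then f is finite (resp.
integral). -/
theorem result {S : Scheme.{u}} {X Y Z : AlgSp.Space S} (f : X ⟶ Y) (g : Y ⟶ Z)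
    (hg : AlgSp.IsSeparatedMor g.hom) :
    (AlgSp.IsFiniteMor (f ≫ g).hom → AlgSp.IsFiniteMor f.hom) ∧
    (AlgSp.IsIntegralMor (f ≫ g).hom → AlgSp.IsIntegralMor f.hom) := by
  refine ⟨fun h => ?_, fun h => ?_⟩
  · exact isAffQMor_of_comp_of_isSeparatedMor @IsFinite
      (fun j hj => by have := hj; infer_instance) f.hom g.hom hg h
  · exact isAffQMor_of_comp_of_isSeparatedMor @IsIntegralHom
      (fun j hj => by have := hj; infer_instance) f.hom g.hom hg h

end Groth.Agent.S10272
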