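import Groth.Statements.S10273
import Mathlib
import Groth.Agent.Lib.Helper2.AlgSt.PFacts3
import Groth.Agent.Lib.Helper2.AlgSp.PointsMor

open CategoryTheory CategoryTheory.Limits AlgebraicGeometry Opposite AlgSp
open Groth.Agent.Helper2.AlgStLib Groth.Agent.Helper2.AlgSpBasic Groth.Agent.Helper2.EtaleLocal

set_option autoImplicit false
universe u
open CategoryTheory CategoryTheory.Limits AlgebraicGeometry
open AlgSp

namespace Groth.Agent.S10273

/-- (1) ⇔ (3): properness of a morphism of algebraic spaces can be tested after base change to affine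
schemes over the target. -/
theorem result {S : Scheme.{u}} {X Y : AlgSp.Space S} (f : X ⟶ Y) :
    AlgSp.IsProperMor f.hom ↔
      ∀ (Z : Over S), IsAffine Z.left → ∀ (g : (AlgSp.yon S).obj Z ⟶ Y.obj) (P : AlgSp.Sp S) (fst : P ⟶ X.obj)
        (snd : P ⟶ (AlgSp.yon S).obj Z), IsPullback fst snd f.hom g → AlgSp.IsProperMor snd := by
  constructor
  · intro hf Z _ g P fst snd sq
    have hP : IsAlgSpace P :=
      isAlgSpace_of_isPullback Y.property.diag X.property (IsAlgSpace.yon_obj Z) f.hom g fst snd sq
    exact stableBC_isProperMor X.property Y.property hP (IsAlgSpace.yon_obj Z) f.hom g snd fst sq hf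
  · intro H
    obtain ⟨ι, T, a, hT, hae, hsurj⟩ := exists_affine_chartFamily Y.property
    have hcov : IsFppfCover (fun i => (AlgSp.yon S).obj (T i)) a := by
      refine ⟨fun i => ⟨?_, ?_⟩, fun y => ?_⟩
      · exact locP_of_repWith @Flat (AlgSp.IsAlgSpace.yon_obj (T i)).diag (a i)
          (repWith_flat_of_etale (hae i))
      · exact locP_of_repWith @LocallyOfFinitePresentation (AlgSp.IsAlgSpace.yon_obj (T i)).diag (a i)
          (repWith_lfp_of_etale (hae i))
      · obtain ⟨i, t, ht⟩ := hsurj y
        refine ⟨i, Points.ofScheme (T i) t, ?_⟩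
        rw [← ht, Points.ofPt_eq_map_ofScheme]
    have hP : ∀ i, IsAlgSpace (pullback f.hom (a i)) := fun i =>
      isAlgSpace_of_isPullback Y.property.diag X.property (IsAlgSpace.yon_obj (T i)) f.hom (a i) _ _
        (IsPullback.of_hasPullback f.hom (a i))
    have := isLocalOnBase_fppf_isProperMor (fun i => (AlgSp.yon S).obj (T i)) a
      Y.property (fun i => IsAlgSpace.yon_obj (T i)) hcov f.hom X.property
      (fun i => pullback f.hom (a i)) (fun i => pullback.snd f.hom (a i))
      (fun i => pullback.fst f.hom (a i)) hP (fun i => IsPullback.of_hasPullback f.hom (a i))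
    exact this.mpr (fun i => H (T i) (hT i) (a i) _ _ _ (IsPullback.of_hasPullback f.hom (a i)))

end Groth.Agent.S10273
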