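import Groth.Statements.S10274
import Mathlib
import Groth.Agent.Lib.Helper2.AlgSt.PFacts3
import Groth.Agent.Lib.Helper2.AlgSp.PointsMor

open CategoryTheory CategoryTheory.Limits AlgebraicGeometry Opposite AlgSp
open Groth.Agent.Helper2.AlgStLib Groth.Agent.Helper2.AlgSpBasic Groth.Agent.Helper2.EtaleLocal

set_option autoImplicit false
universe u
open CategoryTheory CategoryTheory.Limits AlgebraicGeometry
open AlgSp

namespace Groth.Agent.S10274

/-- (4) ⇒ (1): properness of a morphism of algebraic spaces descends along a surjective etale base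
change from a scheme. -/
theorem result {S : Scheme.{u}} {X Y : AlgSp.Space S} (f : X ⟶ Y) (V : Over S)
    (p : (AlgSp.yon S).obj V ⟶ Y.obj) (hp : AlgSp.RepWith @Etale p) (hps : AlgSp.RepWith @Surjective p)
    {P : AlgSp.Sp S} (fst : P ⟶ X.obj) (snd : P ⟶ (AlgSp.yon S).obj V) (sq : IsPullback fst snd f.hom p)
    (h : AlgSp.IsProperMor snd) : AlgSp.IsProperMor f.hom := by
  have hP : IsAlgSpace P :=
    isAlgSpace_of_isPullback Y.property.diag X.property (IsAlgSpace.yon_obj V) f.hom p fst snd sq
  have hcov := isFppfCover_atlas p hp hps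
  have := isLocalOnBase_fppf_isProperMor (fun _ : PUnit.{u + 1} => (AlgSp.yon S).obj V) (fun _ => p)
    Y.property (fun _ => IsAlgSpace.yon_obj V) hcov f.hom X.property (fun _ => P) (fun _ => snd)
    (fun _ => fst) (fun _ => hP) (fun _ => sq)
  exact this.mpr (fun _ => h)

end Groth.Agent.S10274
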