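import Groth.Statements.S10277
import Mathlib
import Groth.Agent.Lib.Helper2.AlgSt.RepDiagApps2

open Groth.Agent.Helper2.AlgStLib

set_option autoImplicit false
universe u
open CategoryTheory CategoryTheory.Limits AlgebraicGeometry
open AlgSp

namespace Groth.Agent.S10277

/-- A closed immersion of algebraic spaces is proper. -/
theorem result {S : Scheme.{u}} {X Y : AlgSp.Space S} (i : X ⟶ Y)
    (hi : AlgSp.RepWith @IsClosedImmersion i.hom) : AlgSp.IsProperMor i.hom := by
  exact isProperMor_of_repWith_isClosedImmersion X.property Y.property.diag i.hom hi

end Groth.Agent.S10277
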