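import Groth.Statements.S10280
import Mathlib
import Groth.Agent.Lib.Helper2.AlgSt.PFacts4
import Groth.Agent.Lib.Helper2.AlgSp.Mor
import Groth.Agent.Lib.Helper2.AlgSp.UnivTop

open Groth.Agent.Helper2.AlgStLib Groth.Agent.Helper2.AlgSpBasic Groth.Agent.Helper2.EtaleLocal

set_option autoImplicit false
universe u
open CategoryTheory CategoryTheory.Limits AlgebraicGeometry
open AlgSp

namespace Groth.Agent.S10280

/-- F is separated if and only if its diagonal is universally closed, if and only if its diagonal is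
proper. -/
theorem result {S : Scheme.{u}} {X Y : AlgSp.Space S} (f : X ⟶ Y) :
    (AlgSp.IsSeparatedMor f.hom ↔ AlgSp.IsUnivClosedMor (pullback.diagonal f.hom)) ∧
    (AlgSp.IsSeparatedMor f.hom ↔ AlgSp.IsProperMor (pullback.diagonal f.hom)) := by
  obtain ⟨hrep, hlft, hmono, -, -⟩ := repWith_diagonal_properties X.property f.hom
  have key : AlgSp.IsUnivClosedMor (pullback.diagonal f.hom) → AlgSp.IsSeparatedMor f.hom := by
    intro hu
    have h1 : AlgSp.RepWith @UniversallyClosed (pullback.diagonal f.hom) :=
      (repWith_universallyClosed_iff _ hrep).2 hu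
    refine (AlgSp.repWith_iff @IsClosedImmersion _).2 ⟨hrep, fun U V g fst snd sq => ?_⟩
    haveI a1 : UniversallyClosed snd.left := ((AlgSp.repWith_iff _ _).1 h1).2 g fst snd sq
    haveI a2 : LocallyOfFiniteType snd.left := ((AlgSp.repWith_iff _ _).1 hlft).2 g fst snd sq
    haveI a3 : Mono snd.left := ((AlgSp.repWith_iff _ _).1 hmono).2 g fst snd sq
    haveI : IsProper snd.left := {}
    exact (IsClosedImmersion.iff_isProper_and_mono _).2 ⟨inferInstance, a3⟩
  have key2 : AlgSp.IsSeparatedMor f.hom → AlgSp.IsUnivClosedMor (pullback.diagonal f.hom) :=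
    fun h => isUnivClosedMor_of_repWith_isClosedImmersion _ h
  refine ⟨⟨key2, key⟩, ⟨fun h => ?_, fun h => key h.2.2⟩⟩
  have sq := IsPullback.of_hasPullback f.hom f.hom
  have hP : AlgSp.IsAlgSpace (pullback f.hom f.hom) :=
    isAlgSpace_of_isPullback Y.property.diag X.property X.property f.hom f.hom _ _ sq
  refine ⟨isSeparatedMor_of_mono _, ⟨?_, ?_⟩, key2 h⟩
  · exact locP_of_repWith @LocallyOfFiniteType X.property.diag _ hlft
  · exact isQuasiCompactMor_of_repWith X.property hP.diag _
      (repWith_mono (fun _ _ g (hg : IsClosedImmersion g) => (inferInstance : QuasiCompact g)) h)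

end Groth.Agent.S10280
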