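import Groth.Statements.S10287
import Mathlib

open CategoryTheory CategoryTheory.Limits AlgebraicGeometry Opposite AlgSp

set_option autoImplicit false
universe u
open CategoryTheory CategoryTheory.Limits AlgebraicGeometry
open AlgSp

namespace Groth.Agent.S10287

/-- The existence and uniqueness parts of the valuative criterion are stable under composition. -/
theorem result {S : Scheme.{u}} {X Y Z : AlgSp.Space S} (f : X ⟶ Y) (g : Y ⟶ Z) :
    (AlgSp.ExistVC f.hom → AlgSp.ExistVC g.hom → AlgSp.ExistVC (f ≫ g).hom) ∧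
    (AlgSp.UniqVC f.hom → AlgSp.UniqVC g.hom → AlgSp.UniqVC (f ≫ g).hom) := by
  constructor
  · intro hf hg sq
    -- first: the square for g
    let sq₁ : ValSq g.hom :=
      { A := sq.A, K := sq.K, str := sq.str, top := sq.top ≫ f.hom, bot := sq.bot,
        comm := by rw [Category.assoc]; exact sq.comm }
    obtain ⟨e₁, l₁, h11, h12⟩ := hg sq₁
    -- second: the square for f over the extension
    let sq₂ : ValSq f.hom :=
      { A := e₁.A', K := e₁.K', str := Spec.map (CommRingCat.ofHom e₁.φ) ≫ sq.str,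
        top := (yon S).map (Over.homMk (Spec.map (CommRingCat.ofHom e₁.ψ)) (by
          change Spec.map _ ≫ Spec.map _ ≫ _ = Spec.map _ ≫ Spec.map _ ≫ _
          rw [← Spec.map_comp_assoc, ← Spec.map_comp_assoc, ← CommRingCat.ofHom_comp,
            ← CommRingCat.ofHom_comp, e₁.comm]) : e₁.ptK' ⟶ sq.ptK) ≫ sq.top,
        bot := l₁,
        comm := by rw [Category.assoc]; exact h11.symm }
    obtain ⟨e₂, l₂, h21, h22⟩ := hf sq₂
    let e : sq.DomExt :=
      { A' := e₂.A', K' := e₂.K', φ := e₂.φ.comp e₁.φ, ψ := e₂.ψ.comp e₁.ψ,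
        comm := by
          rw [← RingHom.comp_assoc, e₂.comm, RingHom.comp_assoc, RingHom.comp_assoc]
          congr 1
          exact e₁.comm
        isLocalHom := by
          haveI := e₁.isLocalHom
          haveI := e₂.isLocalHom
          exact RingHom.isLocalHom_comp _ _ }
    have hstr : (e.ptA').hom = (e₂.ptA').hom := by
      change Spec.map (CommRingCat.ofHom (e₂.φ.comp e₁.φ)) ≫ sq.str =
        Spec.map (CommRingCat.ofHom e₂.φ) ≫ Spec.map (CommRingCat.ofHom e₁.φ) ≫ sq.str
      rw [CommRingCat.ofHom_comp, Spec.map_comp, Category.assoc]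
    let ι : e.ptA' ⟶ e₂.ptA' := Over.homMk (𝟙 _) (by rw [Category.id_comp]; exact hstr.symm)
    refine ⟨e, (yon S).map ι ≫ l₂, ?_, ?_⟩
    · rw [← Category.assoc, ← Functor.map_comp]
      have h21' := h21
      change _ = (yon S).map _ ≫ (yon S).map _ ≫ sq.top at h21'
      rw [← Category.assoc, ← Functor.map_comp] at h21'
      have e1 : ((Over.homMk (Spec.map (CommRingCat.ofHom (algebraMap e.A' e.K'))) rfl : e.ptK' ⟶ e.ptA') ≫ ι) =
          (Over.homMk (𝟙 _) (by
            change 𝟙 _ ≫ Spec.map _ ≫ Spec.map _ ≫ Spec.map _ ≫ _ = Spec.map _ ≫ Spec.map _ ≫ _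
            rw [Category.id_comp, CommRingCat.ofHom_comp, Spec.map_comp, Category.assoc]) : e.ptK' ⟶ e₂.ptK') ≫
          (Over.homMk (Spec.map (CommRingCat.ofHom (algebraMap e₂.A' e₂.K'))) rfl : e₂.ptK' ⟶ e₂.ptA') := by
        apply Over.OverMorphism.ext
        change Spec.map _ ≫ 𝟙 _ = 𝟙 _ ≫ Spec.map _
        rw [Category.id_comp, Category.comp_id]
      rw [e1, Functor.map_comp, Category.assoc, h21', ← Category.assoc, ← Functor.map_comp]
      congr 2
      apply Over.OverMorphism.ext
      change 𝟙 _ ≫ Spec.map _ ≫ Spec.map _ = Spec.map _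
      rw [Category.id_comp, ← Spec.map_comp, ← CommRingCat.ofHom_comp]
    · change ((yon S).map ι ≫ l₂) ≫ f.hom ≫ g.hom = _
      rw [Category.assoc, ← Category.assoc l₂, h22]
      change (yon S).map ι ≫ ((yon S).map _ ≫ l₁) ≫ g.hom = _
      rw [Category.assoc, h12]
      change (yon S).map ι ≫ (yon S).map _ ≫ (yon S).map _ ≫ sq.bot = _
      rw [← Category.assoc, ← Category.assoc, ← Functor.map_comp, ← Functor.map_comp]
      congr 2
      apply Over.OverMorphism.ext
      change (𝟙 _ ≫ Spec.map _) ≫ Spec.map _ = Spec.map _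
      rw [Category.id_comp, ← Spec.map_comp, ← CommRingCat.ofHom_comp]
  · intro hf hg sq l l' h1 h2 h1' h2'
    let sq₁ : ValSq g.hom :=
      { A := sq.A, K := sq.K, str := sq.str, top := sq.top ≫ f.hom, bot := sq.bot,
        comm := by rw [Category.assoc]; exact sq.comm }
    have hm : l ≫ f.hom = l' ≫ f.hom := hg sq₁ (l ≫ f.hom) (l' ≫ f.hom)
      (by rw [← Category.assoc]; exact congrArg (· ≫ f.hom) h1)
      (by rw [Category.assoc]; exact h2)
      (by rw [← Category.assoc]; exact congrArg (· ≫ f.hom) h1')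
      (by rw [Category.assoc]; exact h2')
    let sq₂ : ValSq f.hom :=
      { A := sq.A, K := sq.K, str := sq.str, top := sq.top, bot := l ≫ f.hom,
        comm := by rw [← Category.assoc]; exact congrArg (· ≫ f.hom) h1.symm }
    exact hf sq₂ l l' h1 rfl h1' hm.symm

end Groth.Agent.S10287
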