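import Groth.Statements.S1029
import Mathlib
import Groth.Agent.Lib.Helper3.K0PerfC
import Groth.Agent.Lib.Helper5.K0Tr.Transport
import Groth.Agent.Lib.Helper5.TildePC.Main
import Groth.Agent.Lib.Helper5.QC.SpecMain
import Groth.Agent.Lib.Helper5.QC.TildeExact
import Groth.Agent.Lib.Helper5.BvdB.GenMV
import Groth.Agent.Lib.Helper5.Perf.CountHomAff
import Groth.Agent.Lib.Helper5.Perf.PerfTri

set_option autoImplicit false
universe u
open CategoryTheory CategoryTheory.Limits AlgebraicGeometry
attribute [local instance] HasDerivedCategory.standard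
open KZero



namespace Groth.Agent.S1029

/-- Let A be a ring and X = Spec A. There is an isomorphism from K₀(A) (free abelian group on finite
projective A-modules modulo short exact sequences of such) to K₀(X) = K₀(D_perf(O_X)) (free abelian
group on perfect objects of D(O_X) modulo distinguished triangles among them) sending the class of M
to the class of M~ placed in degree 0. -/
theorem result (A : Type u) [CommRing A] :
    ∃ φ : KZero.K0sub (fun M : ModuleCat.{u} A => Module.Finite A M ∧ Module.Projective A M) ≃+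
        KZero.K0tr (fun K : DCoh.D (Spec (CommRingCat.of A)) => DCoh.IsPerfect K),
      ∀ (M : ModuleCat.{u} A), Module.Finite A M → Module.Projective A M →
        φ (KZero.clSub (fun M : ModuleCat.{u} A => Module.Finite A M ∧ Module.Projective A M) M) =
          KZero.clTr (fun K : DCoh.D (Spec (CommRingCat.of A)) => DCoh.IsPerfect K) (DCoh.inD (Spec (CommRingCat.of A)) (tilde M)) := by
  haveI : PreservesFiniteLimits (tilde.functor (CommRingCat.of A)) :=
    Groth.Agent.Lib.Helper5.QC.preservesFiniteLimits_tilde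
  haveI : PreservesFiniteColimits (tilde.functor (CommRingCat.of A)) := by
    haveI := (tilde.adjunction (R := CommRingCat.of A)).leftAdjoint_preservesColimits
    infer_instance
  obtain ⟨φ₀, h1, -⟩ := Groth.Agent.Helper3.K0PerfC.main A
  obtain ⟨hfull, hfaith, hess⟩ := Groth.Agent.Lib.Helper5.QC.tildeD_main (CommRingCat.of A)
  haveI := hfull
  haveI := hfaith
  let P₁ : ObjectProperty (Dual.D A) := fun K : Dual.D A => DRing.IsPerfect A K
  let P₂ : ObjectProperty (DCoh.D (Spec (CommRingCat.of A))) :=
    fun K : DCoh.D (Spec (CommRingCat.of A)) => DCoh.IsPerfect K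
  haveI : ObjectProperty.IsClosedUnderIsomorphisms P₂ :=
    ⟨fun {K K'} e h => Groth.Agent.Lib.Helper5.PerfTri.isPerfect_of_iso e h⟩
  haveI : ObjectProperty.ContainsZero P₂ := by
    obtain ⟨Z, hZ⟩ := (inferInstance : HasZeroObject (DCoh.D (Spec (CommRingCat.of A)))).zero
    exact ⟨⟨Z, hZ, Groth.Agent.Lib.Helper5.BvdB.isPerfect_of_isZero Z hZ⟩⟩
  obtain ⟨ψ, hψ⟩ := Groth.Agent.Lib.Helper5.K0Tr.exists_addEquiv
    (DCoh.tildeD (CommRingCat.of A)) P₁ P₂
    (fun K => (Groth.Agent.Lib.Helper5.TildePC.isPerfect_tildeD_iff (CommRingCat.of A) K).symm)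
    (fun L hL => by
      obtain ⟨M, ⟨e⟩⟩ := (hess L).1 (Groth.Agent.Lib.Helper5.CountHom.isQCohD_of_isPerfect L hL)
      exact ⟨M, ⟨e⟩⟩)
  refine ⟨φ₀.trans ψ, fun M hM hM' => ?_⟩
  have hP : P₁ (Dual.inD A M) := by
    refine ⟨(HomologicalComplex.single (ModuleCat.{u} A) (ComplexShape.up ℤ) 0).obj M,
      0, 0, ?_, ?_, ⟨?_⟩⟩
    · intro i hi
      exact HomologicalComplex.isZero_single_obj_X _ _ _ _ (by omega)
    · intro i
      by_cases hi : i = 0
      · subst hi
        let e := (HomologicalComplex.singleObjXSelf (ComplexShape.up ℤ) (0 : ℤ) M).toLinearEquiv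
        exact ⟨Module.Finite.equiv e.symm, Module.Projective.of_equiv e.symm⟩
      · have hz : IsZero (((HomologicalComplex.single (ModuleCat.{u} A) (ComplexShape.up ℤ) 0).obj
            M).X i) := HomologicalComplex.isZero_single_obj_X _ _ _ _ hi
        haveI := ModuleCat.subsingleton_of_isZero hz
        exact ⟨inferInstance, inferInstance⟩
    · exact ((DerivedCategory.singleFunctorIsoCompQ (ModuleCat.{u} A) 0).app M).symm
  have h2 := h1 M hM hM'
  have h3 := hψ (Dual.inD A M) hP
  rw [AddEquiv.trans_apply]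
  refine Eq.trans (congrArg ψ h2) (h3.trans ?_)
  exact Groth.Agent.Lib.Helper5.K0Tr.clTr_iso P₂
    (((tilde.functor (CommRingCat.of A)).mapDerivedCategorySingleFunctor 0).app M).symm
    (Groth.Agent.Lib.Helper5.PerfTri.isPerfect_of_iso
      (((tilde.functor (CommRingCat.of A)).mapDerivedCategorySingleFunctor 0).app M)
      ((Groth.Agent.Lib.Helper5.TildePC.isPerfect_tildeD_iff (CommRingCat.of A) _).2 hP))

end Groth.Agent.S1029
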