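import Groth.Statements.S10291
import Mathlib
import Groth.Agent.Lib.Helper2.AlgSp.Mor
import Groth.Agent.Lib.Helper2.AlgSt.RepDiagApps2

open CategoryTheory CategoryTheory.Limits AlgebraicGeometry Opposite AlgSp
open Groth.Agent.Helper2.AlgSpBasic Groth.Agent.Helper2.AlgStLib

set_option autoImplicit false
universe u
open CategoryTheory CategoryTheory.Limits AlgebraicGeometry
open AlgSp

namespace Groth.Agent.S10291

/-- A quasi-separated morphism of algebraic spaces satisfying the uniqueness part of the valuative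
criterion is separated. -/
theorem result {S : Scheme.{u}} {X Y : AlgSp.Space S} (f : X ⟶ Y)
    (hqs : AlgSp.IsQuasiSeparatedMor f.hom) (hu : AlgSp.UniqVC f.hom) : AlgSp.IsSeparatedMor f.hom := by
  obtain ⟨hrep, hlft, hmono, -, -⟩ := repWith_diagonal_properties X.property f.hom
  refine ⟨hrep, fun T W g fst snd sq => ?_⟩
  change IsClosedImmersion snd.left
  haveI : LocallyOfFiniteType snd.left := hlft.property g fst snd sq
  haveI : Mono snd.left := hmono.property g fst snd sq
  haveI : QuasiCompact snd.left := hqs.property g fst snd sq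
  suffices h : ValuativeCriterion.Existence snd.left by
    haveI := UniversallyClosed.of_valuativeCriterion snd.left h
    exact isClosedImmersion_of_mono_of_universallyClosed snd.left
  intro Sq
  -- the scheme `Spec R` over `S`
  let str : Spec (CommRingCat.of Sq.R) ⟶ S := Sq.i₂ ≫ T.hom
  let i₂O : Over.mk str ⟶ T := Over.homMk Sq.i₂ rfl
  have hw1 : Sq.i₁ ≫ W.hom = Spec.map (CommRingCat.ofHom (algebraMap Sq.R Sq.K)) ≫ str := by
    rw [← Over.w snd, ← Category.assoc, Sq.commSq.w, Category.assoc]
  let i₁O : Over.mk (Spec.map (CommRingCat.ofHom (algebraMap Sq.R Sq.K)) ≫ str) ⟶ W :=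
    Over.homMk Sq.i₁ hw1
  let jO : Over.mk (Spec.map (CommRingCat.ofHom (algebraMap Sq.R Sq.K)) ≫ str) ⟶ Over.mk str :=
    Over.homMk (Spec.map (CommRingCat.ofHom (algebraMap Sq.R Sq.K))) rfl
  have hij : i₁O ≫ snd = jO ≫ i₂O := by
    apply Over.OverMorphism.ext
    exact Sq.commSq.w
  let a : (yon S).obj (Over.mk str) ⟶ X.obj := (yon S).map i₂O ≫ g ≫ pullback.fst f.hom f.hom
  let b : (yon S).obj (Over.mk str) ⟶ X.obj := (yon S).map i₂O ≫ g ≫ pullback.snd f.hom f.hom
  have hfst1 : fst = (yon S).map snd ≫ g ≫ pullback.fst f.hom f.hom := by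
    have := congrArg (· ≫ pullback.fst f.hom f.hom) sq.w
    simpa only [Category.assoc, pullback.diagonal_fst, Category.comp_id] using this
  have hfst2 : fst = (yon S).map snd ≫ g ≫ pullback.snd f.hom f.hom := by
    have := congrArg (· ≫ pullback.snd f.hom f.hom) sq.w
    simpa only [Category.assoc, pullback.diagonal_snd, Category.comp_id] using this
  have hyy : (yon S).map i₁O ≫ (yon S).map snd = (yon S).map jO ≫ (yon S).map i₂O := by
    rw [← Functor.map_comp, ← Functor.map_comp, hij]
  have ha : (yon S).map jO ≫ a = (yon S).map i₁O ≫ fst :=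
    calc (yon S).map jO ≫ a
        = ((yon S).map jO ≫ (yon S).map i₂O) ≫ g ≫ pullback.fst f.hom f.hom :=
          (Category.assoc _ _ _).symm
      _ = ((yon S).map i₁O ≫ (yon S).map snd) ≫ g ≫ pullback.fst f.hom f.hom :=
          congrArg (· ≫ g ≫ pullback.fst f.hom f.hom) hyy.symm
      _ = (yon S).map i₁O ≫ ((yon S).map snd ≫ g ≫ pullback.fst f.hom f.hom) := Category.assoc _ _ _
      _ = (yon S).map i₁O ≫ fst := congrArg ((yon S).map i₁O ≫ ·) hfst1.symm
  have hb : (yon S).map jO ≫ b = (yon S).map i₁O ≫ fst :=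
    calc (yon S).map jO ≫ b
        = ((yon S).map jO ≫ (yon S).map i₂O) ≫ g ≫ pullback.snd f.hom f.hom :=
          (Category.assoc _ _ _).symm
      _ = ((yon S).map i₁O ≫ (yon S).map snd) ≫ g ≫ pullback.snd f.hom f.hom :=
          congrArg (· ≫ g ≫ pullback.snd f.hom f.hom) hyy.symm
      _ = (yon S).map i₁O ≫ ((yon S).map snd ≫ g ≫ pullback.snd f.hom f.hom) := Category.assoc _ _ _
      _ = (yon S).map i₁O ≫ fst := congrArg ((yon S).map i₁O ≫ ·) hfst2.symm
  have hab : b ≫ f.hom = a ≫ f.hom := by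
    simp only [a, b, Category.assoc, pullback.condition]
  let sqV : ValSq f.hom :=
    { A := Sq.R, K := Sq.K, str := str, top := (yon S).map i₁O ≫ fst, bot := a ≫ f.hom,
      comm := by
        rw [← ha, Category.assoc] }
  have hEq : a = b := hu sqV a b ha rfl hb hab
  have hlift : a ≫ pullback.diagonal f.hom = (yon S).map i₂O ≫ g := by
    apply pullback.hom_ext
    · rw [Category.assoc, pullback.diagonal_fst, Category.comp_id, Category.assoc]
    · rw [Category.assoc, pullback.diagonal_snd, Category.comp_id, Category.assoc, hEq]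
  obtain ⟨ℓ, hℓ⟩ := (yon S).map_surjective (sq.lift a ((yon S).map i₂O) hlift)
  have hℓ2 : ℓ ≫ snd = i₂O := by
    apply (yon S).map_injective
    rw [Functor.map_comp, hℓ, sq.lift_snd]
  have hℓ2' : ℓ.left ≫ snd.left = Sq.i₂ := congrArg (fun t => t.left) hℓ2
  refine ⟨⟨{ l := ℓ.left, fac_left := ?_, fac_right := hℓ2' }⟩⟩
  rw [← cancel_mono snd.left, Category.assoc, hℓ2', Sq.commSq.w]

end Groth.Agent.S10291
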