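import Groth.Statements.S10294
import Mathlib
import Groth.Agent.Lib.Helper2.AlgSp.FinLocFree
import Groth.Agent.Lib.Helper2.AlgSp.LocP

open CategoryTheory CategoryTheory.Limits AlgebraicGeometry Opposite AlgSp
open Groth.Agent.Helper2.AlgSpBasic Groth.Agent.Helper2.FinLocFree Groth.Agent.Helper2.EtaleLocal

set_option autoImplicit false
universe u
open CategoryTheory CategoryTheory.Limits AlgebraicGeometry
open AlgSp

namespace Groth.Agent.S10294

/-- Finite locally free is the same as finite, flat and locally of finite presentation; over a locally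
Noetherian target it is the same as finite and flat. -/
theorem result {S : Scheme.{u}} {X Y : AlgSp.Space S} (f : X ⟶ Y) :
    (AlgSp.IsFinLocFreeMor f.hom ↔
      (AlgSp.IsFiniteMor f.hom ∧ AlgSp.LocP @Flat f.hom ∧ AlgSp.LocP @LocallyOfFinitePresentation f.hom)) ∧
    (AlgSp.IsLocNoethSp Y.obj →
      (AlgSp.IsFinLocFreeMor f.hom ↔ (AlgSp.IsFiniteMor f.hom ∧ AlgSp.LocP @Flat f.hom))) := by
  have hfin_le : (finLocFree : MorphismProperty Scheme.{u}) ≤ @IsFinite := fun _ _ _ h => h.1
  have hfl_le : (finLocFree : MorphismProperty Scheme.{u}) ≤ @Flat := fun _ _ _ h => h.2.1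
  have hlfp_le : (finLocFree : MorphismProperty Scheme.{u}) ≤ @LocallyOfFinitePresentation :=
    fun _ _ _ h => h.2.2
  have hfin_aff : (@IsFinite : MorphismProperty Scheme.{u}) ≤ @IsAffineHom :=
    fun _ _ g hg => by haveI : IsFinite g := hg; infer_instance
  have key : AlgSp.IsFinLocFreeMor f.hom ↔
      (AlgSp.IsFiniteMor f.hom ∧ AlgSp.LocP @Flat f.hom ∧
        AlgSp.LocP @LocallyOfFinitePresentation f.hom) := by
    constructor
    · intro h
      exact ⟨isAffQMor_of_repWith @IsFinite hfin_aff (repWith_mono hfin_le h),
        locP_of_repWith @Flat X.property.diag f.hom (repWith_mono hfl_le h),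
        locP_of_repWith @LocallyOfFinitePresentation X.property.diag f.hom
          (repWith_mono hlfp_le h)⟩
    · rintro ⟨hfin, hfl, hlfp⟩
      have h1 : RepWith @IsFinite f.hom := repWith_of_isAffQMor @IsFinite hfin
      have hrep : Representable f.hom := h1.rep
      have h2 : RepWith @Flat f.hom :=
        repWith_of_locP @Flat X.property Y.property f.hom hrep hfl
      have h3 : RepWith @LocallyOfFinitePresentation f.hom :=
        repWith_of_locP @LocallyOfFinitePresentation X.property Y.property f.hom hrep hlfp
      exact ⟨hrep, fun T W g fst snd sq =>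
        ⟨h1.property g fst snd sq, h2.property g fst snd sq, h3.property g fst snd sq⟩⟩
  refine ⟨key, fun hY => ?_⟩
  rw [key]
  constructor
  · rintro ⟨h1, h2, -⟩
    exact ⟨h1, h2⟩
  · rintro ⟨hfin, hfl⟩
    refine ⟨hfin, hfl, ?_⟩
    obtain ⟨U, p, hpe, hps, hU⟩ := hY
    have h1 : RepWith @IsFinite f.hom := repWith_of_isAffQMor @IsFinite hfin
    have hrep : Representable f.hom := h1.rep
    have sq := hrep.isPullback p
    have hk : IsFinite (hrep.snd p).left := h1.property p _ _ sq
    haveI : IsLocallyNoetherian U.left := hU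
    have hk' : LocallyOfFinitePresentation (hrep.snd p).left :=
      LocallyOfFinitePresentation.iff_locallyOfFiniteType.mpr inferInstance
    exact locP_of_one_chart @LocallyOfFinitePresentation X.property.diag Y.property.diag f.hom
      (hrep.fst p) p (hrep.snd p) (repWith_of_isPullback @Etale sq.flip hpe)
      (repWith_of_isPullback @Surjective sq.flip hps) hpe sq.w hk'

end Groth.Agent.S10294
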