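import Groth.Statements.S1032
import Groth.Statements.S1032
import Mathlib

set_option autoImplicit false
universe w v v' u u'
open CategoryTheory CategoryTheory.Limits
open CohDer

namespace Groth.Agent.S1032

section

variable {A : Type u} [Category.{v} A] [Abelian A] [HasDerivedCategory.{w} A]

/-- The property of objects of the homotopy category whose underlying complex is K-injective. -/
def PK : ObjectProperty (HomotopyCategory A (ComplexShape.up ℤ)) :=
  fun X => CochainComplex.IsKInjective (C := A) X.as

/-- The localizer morphism given by the inclusion of K-injective objects. -/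
noncomputable def Φ : LocalizerMorphism
    (MorphismProperty.isomorphisms (PK (A := A)).FullSubcategory)
    (HomotopyCategory.quasiIso A (ComplexShape.up ℤ)) where
  functor := (PK (A := A)).ι
  map K L f (hf : IsIso f) := by
    dsimp only [MorphismProperty.inverseImage]
    rw [HomotopyCategory.mem_quasiIso_iff]
    intro n
    infer_instance

lemma Qh_bij (K : HomotopyCategory A (ComplexShape.up ℤ)) (L : (PK (A := A)).FullSubcategory) :
    Function.Bijective (DerivedCategory.Qh.map : (K ⟶ L.obj) → _) := by
  obtain ⟨⟨L⟩, hL⟩ := L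
  haveI : CochainComplex.IsKInjective L := hL
  exact CochainComplex.IsKInjective.Qh_map_bijective K L

lemma isIso_Qh_of_quasiIso {K L : HomotopyCategory A (ComplexShape.up ℤ)} (f : K ⟶ L)
    (hf : HomotopyCategory.quasiIso A (ComplexShape.up ℤ) f) : IsIso (DerivedCategory.Qh.map f) :=
  Localization.inverts DerivedCategory.Qh (HomotopyCategory.quasiIso A (ComplexShape.up ℤ)) f hf

/-- Factorization through a quasi-isomorphism of a map to a K-injective. -/
lemma exists_factor {X : HomotopyCategory A (ComplexShape.up ℤ)}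
    (I J : (PK (A := A)).FullSubcategory) (wX : X ⟶ I.obj)
    (hwX : HomotopyCategory.quasiIso A (ComplexShape.up ℤ) wX) (g : X ⟶ J.obj) :
    ∃ φ : I ⟶ J, wX ≫ (PK (A := A)).ι.map φ = g := by
  haveI := isIso_Qh_of_quasiIso wX hwX
  obtain ⟨φ, hφ⟩ := (Qh_bij I.obj J).surjective (inv (DerivedCategory.Qh.map wX) ≫
    DerivedCategory.Qh.map g)
  refine ⟨ObjectProperty.homMk φ, (Qh_bij X J).injective ?_⟩
  change DerivedCategory.Qh.map (wX ≫ φ) = _
  rw [Functor.map_comp, hφ, IsIso.hom_inv_id_assoc]

variable (hKinj : ∀ K : CochainComplex A ℤ, ∃ (I : CochainComplex A ℤ) (f : K ⟶ I),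
  I.IsKInjective ∧ QuasiIso f)

include hKinj in
lemma exists_res (X : HomotopyCategory A (ComplexShape.up ℤ)) :
    ∃ (I : (PK (A := A)).FullSubcategory) (w : X ⟶ I.obj),
      HomotopyCategory.quasiIso A (ComplexShape.up ℤ) w := by
  obtain ⟨K, rfl⟩ := HomotopyCategory.quotient_obj_surjective X
  obtain ⟨I, f, hI, hf⟩ := hKinj K
  refine ⟨⟨(HomotopyCategory.quotient A (ComplexShape.up ℤ)).obj I, hI⟩,
    (HomotopyCategory.quotient A (ComplexShape.up ℤ)).map f, ?_⟩
  rw [HomotopyCategory.quotient_map_mem_quasiIso_iff]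
  exact hf

include hKinj in
lemma isConnected_res (X : HomotopyCategory A (ComplexShape.up ℤ)) :
    IsConnected ((Φ (A := A)).RightResolution X) := by
  obtain ⟨I, w, hw⟩ := exists_res hKinj X
  haveI : Nonempty ((Φ (A := A)).RightResolution X) := ⟨⟨w, hw⟩⟩
  refine zigzag_isConnected (fun R R' => ?_)
  obtain ⟨φ, hφ⟩ := exists_factor R.X₁ R'.X₁ R.w R.hw R'.w
  exact Zigzag.of_hom ⟨φ, hφ⟩

include hKinj in
lemma hasRightResolutions_arrow : (Φ (A := A)).arrow.HasRightResolutions := by
  intro f
  obtain ⟨I, wX, hwX⟩ := exists_res hKinj f.left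
  obtain ⟨J, wY, hwY⟩ := exists_res hKinj f.right
  obtain ⟨φ, hφ⟩ := exists_factor I J wX hwX (f.hom ≫ wY)
  exact ⟨{ X₁ := Arrow.mk φ
           w := Arrow.homMk wX wY hφ
           hw := ⟨hwX, hwY⟩ }⟩

include hKinj in
lemma essSurj : ((PK (A := A)).ι ⋙ DerivedCategory.Qh).EssSurj where
  mem_essImage Y := by
    obtain ⟨I, w, hw⟩ := exists_res hKinj (DerivedCategory.Qh.objPreimage Y)
    haveI := isIso_Qh_of_quasiIso w hw
    exact ⟨I, ⟨(asIso (DerivedCategory.Qh.map w)).symm ≪≫ DerivedCategory.Qh.objObjPreimageIso Y⟩⟩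

instance : ((PK (A := A)).ι ⋙ DerivedCategory.Qh).Full where
  map_surjective {X Y} f := by
    obtain ⟨g, hg⟩ := (Qh_bij X.obj Y).surjective f
    exact ⟨ObjectProperty.homMk g, hg⟩

instance : ((PK (A := A)).ι ⋙ DerivedCategory.Qh).Faithful where
  map_injective {X Y} f g h := by
    apply (PK (A := A)).ι.map_injective
    exact (Qh_bij X.obj Y).injective h

include hKinj in
lemma isLocalizedEquivalence : (Φ (A := A)).IsLocalizedEquivalence := by
  haveI := essSurj hKinj
  haveI : ((PK (A := A)).ι ⋙ DerivedCategory.Qh).IsEquivalence := { }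
  haveI : CatCommSq (Φ (A := A)).functor (𝟭 _) DerivedCategory.Qh
      ((PK (A := A)).ι ⋙ DerivedCategory.Qh) := ⟨(Functor.leftUnitor _).symm⟩
  exact LocalizerMorphism.IsLocalizedEquivalence.mk' (Φ (A := A)) (𝟭 _) DerivedCategory.Qh
    ((PK (A := A)).ι ⋙ DerivedCategory.Qh)

include hKinj in
lemma isRightDerivabilityStructure : (Φ (A := A)).IsRightDerivabilityStructure := by
  haveI := isLocalizedEquivalence hKinj
  haveI := hasRightResolutions_arrow hKinj
  haveI : ∀ X, IsConnected ((Φ (A := A)).RightResolution X) := isConnected_res hKinj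
  exact LocalizerMorphism.IsRightDerivabilityStructure.mk' _

end

/-- Let A be an abelian category in which every cochain complex admits a quasi-isomorphism to a
K-injective complex, and let F be an exact functor from the homotopy category K(A) to a
pretriangulated category. Then F has a right derived functor RF with respect to quasi-isomorphisms
(defined on D(A)), and the canonical map F(I) ⟶ RF(I) is an isomorphism for every K-injective
complex I. -/
theorem result {A : Type u} [Category.{v} A] [Abelian A] [HasDerivedCategory.{w} A]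
    (hKinj : ∀ K : CochainComplex A ℤ, ∃ (I : CochainComplex A ℤ) (f : K ⟶ I), I.IsKInjective ∧ QuasiIso f)
    {D' : Type u'} [Category.{v'} D'] [Preadditive D'] [Limits.HasZeroObject D'] [HasShift D' ℤ]
    [∀ n : ℤ, (shiftFunctor D' n).Additive] [Pretriangulated D']
    [IsTriangulated D']
    (F : HomotopyCategory A (ComplexShape.up ℤ) ⥤ D') [F.CommShift ℤ] [F.IsTriangulated] :
    F.HasRightDerivedFunctor (HomotopyCategory.quasiIso A (ComplexShape.up ℤ)) ∧
    ∀ [F.HasRightDerivedFunctor (HomotopyCategory.quasiIso A (ComplexShape.up ℤ))] (I : CochainComplex A ℤ), I.IsKInjective →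
      IsIso ((F.totalRightDerivedUnit DerivedCategory.Qh (HomotopyCategory.quasiIso A (ComplexShape.up ℤ))).app
        ((HomotopyCategory.quotient A (ComplexShape.up ℤ)).obj I)) := by
  haveI := isRightDerivabilityStructure hKinj
  have h : (Φ (A := A)).Derives F := MorphismProperty.isInvertedBy_isomorphisms _
  haveI := h.hasPointwiseRightDerivedFunctor
  refine ⟨inferInstance, ?_⟩
  intro _ I hI
  exact h.isIso_of_isRightDerivedFunctor
    (F.totalRightDerivedUnit DerivedCategory.Qh (HomotopyCategory.quasiIso A (ComplexShape.up ℤ)))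
    ⟨(HomotopyCategory.quotient A (ComplexShape.up ℤ)).obj I, hI⟩

end Groth.Agent.S1032
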