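import Groth.Statements.S10325
import Mathlib
import Groth.Agent.Lib.Helper2.AlgSp.GlueSp
import Groth.Agent.Lib.Helper2.SigmaFinite

open CategoryTheory CategoryTheory.Limits AlgebraicGeometry Opposite AlgSp
open Groth.Agent.Helper2.AlgSpBasic Groth.Agent.Helper2.Coprod

set_option autoImplicit false
universe u
open CategoryTheory CategoryTheory.Limits AlgebraicGeometry
open AlgSp

namespace Groth.Agent.S10325

/-- A finite disjoint union of algebraic spaces finite over Y is finite over Y. -/
theorem result {S : Scheme.{u}} {n : ℕ} (X : Fin n → AlgSp.Space S) (Y : AlgSp.Space S)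
    (g : ∀ i, X i ⟶ Y) (hg : ∀ i, AlgSp.IsFiniteMor (g i).hom) (c : Cofan fun i => (X i).obj) (hc : IsColimit c)
    (d : c.pt ⟶ Y.obj) (hd : ∀ i, c.inj i ≫ d = (g i).hom) : AlgSp.IsFiniteMor d := by
  intro Z hZ s
  choose W i fst sqk hWa hfin using fun k => hg k hZ s
  let κ := ULift.{u} (Fin n)
  let W' : κ → Over S := fun k => W k.down
  haveI : ∀ k, IsAffine (W' k).left := fun k => hWa k.down
  let Wt : Over S := sigmaOver W'
  let itl : Wt.left ⟶ Z.left := Sigma.desc (fun k : κ => (i k.down).left)
  let it : Wt ⟶ Z := Over.homMk itl (by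
    apply Sigma.hom_ext
    intro k
    show Sigma.ι _ k ≫ Sigma.desc (fun k : κ => (i k.down).left) ≫ Z.hom = Sigma.ι _ k ≫ Wt.hom
    rw [Sigma.ι_desc_assoc, Over.w]
    simp [Wt, sigmaOver, W'])
  have hιt : ∀ k : κ, sigmaOverι W' k ≫ it = i k.down := fun k =>
    Over.OverMorphism.ext (Sigma.ι_desc (fun k : κ => (i k.down).left) k)
  -- `h` of the disjoint union as a coproduct indexed by `Fin n`
  let cW : Cofan (fun k : Fin n => (yon S).obj (W k)) :=
    Cofan.mk ((yon S).obj Wt) (fun k => (yon S).map (sigmaOverι W' ⟨k⟩))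
  have hcW : IsColimit cW :=
    mkCofanColimit _ (fun t => (exists_desc_sigmaOver W' (fun k => t.inj k.down)).choose)
      (fun t k => (exists_desc_sigmaOver W' (fun k => t.inj k.down)).choose_spec ⟨k⟩)
      (fun t m hm => hom_ext_sigmaOver W' _ _ (fun k => by
        rw [(exists_desc_sigmaOver W' (fun k => t.inj k.down)).choose_spec k]
        exact hm k.down))
  have hau : IsUniversalColimit c := FinitaryPreExtensive.isUniversal_finiteCoproducts hc
  have sq := hau.isPullback_of_isColimit_right (fun k => (g k).hom) d s fst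
    (fun k => (yon S).map (i k)) sqk hcW hd
  have e : Cofan.IsColimit.desc hcW (fun k => (yon S).map (i k)) = (yon S).map it := by
    apply Cofan.IsColimit.hom_ext hcW
    intro k
    rw [Cofan.IsColimit.fac]
    show _ = (yon S).map (sigmaOverι W' ⟨k⟩) ≫ (yon S).map it
    rw [← Functor.map_comp, hιt]
  rw [e] at sq
  refine ⟨Wt, it, _, sq, (inferInstance : IsAffine (∐ fun k => (W' k).left)), ?_⟩
  exact Groth.Agent.Helper2.SigmaFinite.isFinite_sigmaDesc (fun k : κ => (W' k).left) Z.left
    (fun k => (i k.down).left) (fun k => hfin k.down)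

end Groth.Agent.S10325
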