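import Groth.Statements.S10326
import Groth.Agent.Lib.Helper2.AlgSp.Points

open Groth.Agent.Helper2.AlgSpBasic TopologicalSpace


set_option autoImplicit false
universe u
open CategoryTheory CategoryTheory.Limits AlgebraicGeometry
open AlgSp

namespace Groth.Agent.S10326

/-- Every scheme etale over a locally Noetherian algebraic space has quasi-compact opens with finitely
many irreducible components. -/
theorem result {S : Scheme.{u}} (X : AlgSp.Space S)
    (hX : AlgSp.IsLocNoethSp X.obj) (U : Over S) (a : (AlgSp.yon S).obj U ⟶ X.obj) (ha : AlgSp.RepWith @Etale a)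
    (W : U.left.Opens) (hW : IsCompact (W : Set ↥U.left)) : (irreducibleComponents ↥W).Finite := by
  classical
  obtain ⟨V, q, hqe, hqs, hV⟩ := hX
  haveI : IsLocallyNoetherian V.left := hV
  have hrep := hqe.rep
  have sq := hrep.isPullback a
  obtain ⟨pV, hpV⟩ := (yon S).map_surjective (hrep.fst a)
  rw [← hpV] at sq
  haveI he : Etale (hrep.snd a).left := hqe.property a _ _ sq
  haveI hsj : Surjective (hrep.snd a).left := hqs.property a _ _ sq
  haveI heV : Etale pV.left := ha.property q _ _ sq.flip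
  haveI : IsLocallyNoetherian (hrep.pullback a).left :=
    LocallyOfFiniteType.isLocallyNoetherian pV.left
  -- affine opens upstairs
  have hA : ∀ w : ↥W, ∃ A : (hrep.pullback a).left.Opens, IsAffineOpen A ∧
      (∃ u' ∈ A, (hrep.snd a).left u' = w.1) ∧
      (A : Set ↥(hrep.pullback a).left) ⊆ ((hrep.snd a).left ⁻¹ᵁ W : (hrep.pullback a).left.Opens) := by
    intro w
    obtain ⟨u', hu'⟩ := hsj.surj w.1
    obtain ⟨A, hA, hu'A, hAW⟩ := exists_isAffineOpen_mem_and_subset (x := u')
      (U := (hrep.snd a).left ⁻¹ᵁ W) (by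
        change (hrep.snd a).left u' ∈ W
        rw [hu']; exact w.2)
    exact ⟨A, hA, ⟨u', hu'A, hu'⟩, hAW⟩
  choose A hAa hAw hAW using hA
  have hopen : ∀ w : ↥W, IsOpen ((hrep.snd a).left '' (A w : Set ↥(hrep.pullback a).left)) :=
    fun w => (hrep.snd a).left.isOpenMap _ (A w).isOpen
  obtain ⟨t, ht⟩ := hW.elim_finite_subcover
    (fun w : ↥W => (hrep.snd a).left '' (A w : Set ↥(hrep.pullback a).left)) hopen (by
      intro w hw
      obtain ⟨u', hu'A, hu'⟩ := hAw ⟨w, hw⟩
      exact Set.mem_iUnion.mpr ⟨⟨w, hw⟩, u', hu'A, hu'⟩)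
  haveI : ∀ w : ↥W, NoetherianSpace ↥(A w) := fun w => by
    haveI : IsNoetherianRing Γ((hrep.pullback a).left, A w) :=
      IsLocallyNoetherian.component_noetherian ⟨A w, hAa w⟩
    exact noetherianSpace_of_isAffineOpen (A w) (hAa w)
  haveI hZ : NoetherianSpace ↥(⋃ i : ↥t, (A i.1 : Set ↥(hrep.pullback a).left)) :=
    NoetherianSpace.iUnion (fun i : ↥t => (A i.1 : Set ↥(hrep.pullback a).left))
  have hmem : ∀ z : ↥(⋃ i : ↥t, (A i.1 : Set ↥(hrep.pullback a).left)),
      (hrep.snd a).left z.1 ∈ W := by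
    intro z
    obtain ⟨i, hi⟩ := Set.mem_iUnion.mp z.2
    exact hAW i.1 hi
  let g : ↥(⋃ i : ↥t, (A i.1 : Set ↥(hrep.pullback a).left)) → ↥W :=
    fun z => ⟨(hrep.snd a).left z.1, hmem z⟩
  have hgc : Continuous g :=
    ((hrep.snd a).left.continuous.comp continuous_subtype_val).subtype_mk _
  have hgs : Function.Surjective g := by
    intro w
    have := ht w.2
    simp only [Set.mem_iUnion] at this
    obtain ⟨i, hi, u', hu'A, hu'⟩ := this
    refine ⟨⟨u', Set.mem_iUnion.mpr ⟨⟨i, hi⟩, hu'A⟩⟩, ?_⟩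
    exact Subtype.ext hu'
  haveI : NoetherianSpace ↥W := noetherianSpace_of_surjective g hgc hgs
  exact NoetherianSpace.finite_irreducibleComponents

end Groth.Agent.S10326
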