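import Groth.Statements.S10333
import Groth.Agent.Lib.Helper2.AlgSp.RedInduced
import Groth.Agent.Lib.Helper2.AlgSp.ReducedFactor
import Groth.Agent.Lib.Helper2.AlgSp.FiniteMor
import Groth.Agent.Lib.Helper2.AlgSp.Mor2


set_option autoImplicit false
universe u
open CategoryTheory CategoryTheory.Limits AlgebraicGeometry
open AlgSp

namespace Groth.Agent.S10333

/-- Let f : Y -> X be a morphism of algebraic spaces over S that is quasi-compact and quasi-separated,
and X' -> X the normalization of X in Y (an integral morphism through which f factors, initial among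
such factorizations). If Y is reduced then X' is reduced. -/
theorem result {S : Scheme.{u}} {Y X X' : AlgSp.Space S} (f : Y ⟶ X)
    (hqc : AlgSp.IsQuasiCompactMor f.hom) (hqs : AlgSp.IsQuasiSeparatedMor f.hom) (ν : X' ⟶ X) (f' : Y ⟶ X')
    (hn : AlgSp.IsRelNormalization f.hom ν.hom f'.hom) (hY : AlgSp.IsReducedSp Y.obj) :
    AlgSp.IsReducedSp X'.obj := by
  obtain ⟨hn1, hn2, hn3⟩ := hn
  obtain ⟨Z, hZ, r, hr1, hr2, hr3⟩ :=
    Groth.Agent.Helper2.RedInduced.main192 X'.property Set.univ isClosed_univ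
  obtain ⟨g, hg⟩ := Groth.Agent.Helper2.ReducedFactor.exists_factor_closed r hr1 hY f'.hom
    (by rw [hr2]; exact Set.subset_univ _)
  have hrint : IsIntegralMor r :=
    Groth.Agent.Helper2.AlgSpBasic.isAffQMor_of_repWith_isClosedImmersion @IsIntegralHom
      (fun j hj => inferInstance) hr1
  have hπ : IsIntegralMor (r ≫ ν.hom) :=
    Groth.Agent.Helper2.AlgSpBasic.isAffQMor_comp @IsIntegralHom hrint hn2
  obtain ⟨h, ⟨hh1, hh2⟩, -⟩ := hn3 hZ (r ≫ ν.hom) g hπ (by rw [← Category.assoc, hg, hn1])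
  obtain ⟨h₀, -, hu₀⟩ := hn3 X'.property ν.hom f'.hom hn2 hn1
  have e1 : h ≫ r = h₀ :=
    hu₀ _ ⟨by rw [← Category.assoc, hh1, hg], by rw [Category.assoc, hh2]⟩
  have e2 : 𝟙 X'.obj = h₀ := hu₀ _ ⟨Category.comp_id _, Category.id_comp _⟩
  have hsplit : h ≫ r = 𝟙 X'.obj := e1.trans e2.symm
  haveI : Mono r := Groth.Agent.Helper2.AlgSpBasic.mono_of_repWith_isImmersion r
    (Groth.Agent.Helper2.AlgSpBasic.repWith_mono
      (fun _ _ g (hg : IsClosedImmersion g) => (inferInstance : IsImmersion g)) hr1)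
  have hrh : r ≫ h = 𝟙 Z := by
    rw [← cancel_mono r, Category.assoc, hsplit, Category.comp_id, Category.id_comp]
  haveI : IsIso r := ⟨h, hrh, hsplit⟩
  obtain ⟨U, p, hpe, hps, hU⟩ := hr3
  exact ⟨U, p ≫ r,
    Groth.Agent.Helper2.AlgSpBasic.repWith_comp @Etale hpe
      (Groth.Agent.Helper2.AlgSpBasic.repWith_of_isIso @Etale r),
    Groth.Agent.Helper2.AlgSpBasic.repWith_comp @Surjective hps
      (Groth.Agent.Helper2.AlgSpBasic.repWith_of_isIso @Surjective r), hU⟩

end Groth.Agent.S10333
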