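import Groth.Statements.S10337
import Groth.Agent.Lib.Helper2.AlgSp.DecentOpen2


set_option autoImplicit false
universe u
open CategoryTheory CategoryTheory.Limits AlgebraicGeometry Topology TopologicalSpace
open AlgSp

namespace Groth.Agent.S10337

/-- For a scheme S, a decent algebraic space X over S contains a dense open subspace that is a scheme:
there is an open subspace X' ⟶ X whose underlying sheaf is representable by a scheme and whose set
of points is dense in |X|. -/
theorem result {S : Scheme.{u}} (X : AlgSp.Space S)
    (hX : AlgSp.IsDecent X.obj) :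
    ∃ (X' : AlgSp.Space S) (j : X' ⟶ X), AlgSp.RepWith @IsOpenImmersion j.hom ∧ X'.obj.obj.IsRepresentable ∧
      Dense (Set.range (AlgSp.Points.map j.hom)) := by
  open Groth.Agent.Helper2.LargestSch Groth.Agent.Helper2.AlgSpBasic in
  refine ⟨⟨openSub X.obj (schLocus X.obj), isAlgSpace_openSub X.property (isOpen_schLocus X.obj)⟩,
    ObjectProperty.homMk (openSubι X.obj (schLocus X.obj)),
    repWith_isOpenImmersion_openSubι X.obj (isOpen_schLocus X.obj), ?_, ?_⟩
  · obtain ⟨W, ⟨e⟩⟩ := exists_iso_yon_schLocus X.property
    exact (AlgSp.representableByOfIso e).isRepresentable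
  · have hr : Set.range (AlgSp.Points.map (openSubι X.obj (schLocus X.obj))) = schLocus X.obj :=
      range_points_map_openSubι X.obj (schLocus X.obj)
    show Dense (Set.range (AlgSp.Points.map (openSubι X.obj (schLocus X.obj))))
    rw [hr, dense_iff_inter_open]
    intro O hO hne
    exact Groth.Agent.Helper2.DecentOpen.inter_schLocus_nonempty_of_decent X hX O hO hne

end Groth.Agent.S10337
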