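import Groth.Statements.S1034
import Groth.Statements.S1034
import Mathlib
import Groth.Agent.Lib.Helper3.SeqColim

set_option autoImplicit false
universe v v' u u'
open CategoryTheory CategoryTheory.Limits
open DerLim

namespace Groth.Agent.S1034


open CategoryTheory.Pretriangulated in
/-- Let D be a pretriangulated category with countable direct sums, A an abelian category with exact
colimits of shape ℕ, and H : D ⥤ A a homological functor that preserves countable direct sums. If L
(with maps iₙ : Kₙ ⟶ L) is a homotopy colimit of a system (Kₙ, fₙ), then H(L) is the colimit of the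
H(Kₙ): there is an isomorphism colimₙ H(Kₙ) ≅ H(L) compatible with the maps H(iₙ). -/
theorem result {D : Type u} [Category.{v} D] [Preadditive D] [Limits.HasZeroObject D] [HasShift D ℤ]
    [∀ n : ℤ, (shiftFunctor D n).Additive] [Pretriangulated D] [IsTriangulated D] [HasColimitsOfShape (Discrete ℕ) D]
    {A : Type u'} [Category.{v'} A] [Abelian A] [HasColimitsOfShape ℕ A] [HasExactColimitsOfShape ℕ A]
    (H : D ⥤ A) [H.IsHomological] [PreservesColimitsOfShape (Discrete ℕ) H]
    (K : ℕ → D) (f : ∀ n, K n ⟶ K (n + 1)) (L : D) (i : ∀ n, K n ⟶ L) (hL : DerLim.IsHocolim K f L i) :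
    ∃ e : colimit (Functor.ofSequence (fun n => H.map (f n))) ≅ H.obj L,
      ∀ n : ℕ, colimit.ι (Functor.ofSequence (fun n => H.map (f n))) n ≫ e.hom = H.map (i n) := by
  obtain ⟨c, hT⟩ := hL
  let F : ℕ ⥤ A := Functor.ofSequence (fun n => H.map (f n))
  have hFmap : ∀ n, F.map (homOfLE (Nat.le_succ n)) = H.map (f n) := fun n =>
    Functor.ofSequence_map_homOfLE_succ _ n
  -- the image cofan
  let cH : Cofan F.obj := Cofan.mk (H.obj (∐ K)) (fun n => H.map (Sigma.ι K n))
  have hcH : IsColimit cH := isColimitCofanMkObjOfIsColimit H K _ (coproductIsCoproduct K)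
  let d : cH.pt ⟶ cH.pt := H.map (𝟙 (∐ K) - DerLim.shiftMap K f)
  have hcomp : ∀ n, Sigma.ι K n ≫ (𝟙 (∐ K) - DerLim.shiftMap K f) =
      Sigma.ι K n - f n ≫ Sigma.ι K (n + 1) := by
    intro n
    rw [Preadditive.comp_sub, Category.comp_id, DerLim.shiftMap, Sigma.ι_desc]
  have hd : ∀ n, cH.inj n ≫ d = cH.inj n - F.map (homOfLE (Nat.le_succ n)) ≫ cH.inj (n + 1) := by
    intro n
    rw [hFmap]
    change H.map (Sigma.ι K n) ≫ H.map _ = H.map (Sigma.ι K n) - H.map (f n) ≫ H.map (Sigma.ι K (n + 1))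
    rw [← H.map_comp, ← H.map_comp, ← H.map_sub, hcomp]
  let π : cH.pt ⟶ (colimit.cocone F).pt := Cofan.IsColimit.desc hcH (fun n => colimit.ι F n)
  have hπ : ∀ n, cH.inj n ≫ π = (colimit.cocone F).ι.app n := by
    intro n
    exact Cofan.IsColimit.fac hcH _ n
  have hSES := Groth.Agent.Helper3.SeqColim.shortExact F cH hcH d hd (colimit.cocone F)
    (colimit.isColimit F) π hπ
  -- the shifted cofan
  let cH' : Cofan (fun n => H.obj ((shiftFunctor D (1 : ℤ)).obj (K n))) :=
    Cofan.mk (H.obj ((shiftFunctor D (1 : ℤ)).obj (∐ K)))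
      (fun n => H.map ((shiftFunctor D (1 : ℤ)).map (Sigma.ι K n)))
  have hcH' : IsColimit cH' :=
    isColimitCofanMkObjOfIsColimit (shiftFunctor D (1 : ℤ) ⋙ H) K _ (coproductIsCoproduct K)
  let d' : cH'.pt ⟶ cH'.pt :=
    H.map ((shiftFunctor D (1 : ℤ)).map (𝟙 (∐ K) - DerLim.shiftMap K f))
  have hd' : ∀ n, cH'.inj n ≫ d' =
      cH'.inj n - H.map ((shiftFunctor D (1 : ℤ)).map (f n)) ≫ cH'.inj (n + 1) := by
    intro n
    change H.map ((shiftFunctor D (1 : ℤ)).map (Sigma.ι K n)) ≫ H.map _ =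
      H.map ((shiftFunctor D (1 : ℤ)).map (Sigma.ι K n)) -
        H.map ((shiftFunctor D (1 : ℤ)).map (f n)) ≫
          H.map ((shiftFunctor D (1 : ℤ)).map (Sigma.ι K (n + 1)))
    rw [← H.map_comp, ← H.map_comp, ← H.map_sub, ← Functor.map_comp, ← Functor.map_comp,
      ← Functor.map_sub, hcomp]
  have hmono' : Mono d' :=
    Groth.Agent.Helper3.SeqColim.mono_one_sub_shift cH' hcH'
      (fun n => H.map ((shiftFunctor D (1 : ℤ)).map (f n))) d' hd'
  have hc0 : H.map c = 0 := by
    have h1 : c ≫ (shiftFunctor D (1 : ℤ)).map (𝟙 (∐ K) - DerLim.shiftMap K f) = 0 :=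
      comp_distTriang_mor_zero₃₁ _ hT
    have h2 : H.map c ≫ d' = 0 ≫ d' := by
      rw [zero_comp, ← H.map_comp, h1, H.map_zero]
    exact (cancel_mono d').1 h2
  have hE1 := H.map_distinguished_exact _ (rot_of_distTriang _ hT)
  have hepi : Epi (H.map (Sigma.desc i)) := hE1.epi_f hc0
  have hE := H.map_distinguished_exact _ hT
  have : Epi ((shortComplexOfDistTriangle _ hT).map H).g := hepi
  have hcok1 : IsColimit (CokernelCofork.ofπ (H.map (Sigma.desc i))
      (show d ≫ H.map (Sigma.desc i) = 0 from ((shortComplexOfDistTriangle _ hT).map H).zero)) :=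
    hE.gIsCokernel
  have : Epi (ShortComplex.mk d π (Groth.Agent.Helper3.SeqColim.d_π F cH hcH d hd
    (colimit.cocone F) π hπ)).g := hSES.epi_g
  have hcok2 : IsColimit (CokernelCofork.ofπ π (show d ≫ π = 0 from
      Groth.Agent.Helper3.SeqColim.d_π F cH hcH d hd (colimit.cocone F) π hπ)) :=
    hSES.exact.gIsCokernel
  refine ⟨IsColimit.coconePointUniqueUpToIso hcok2 hcok1, ?_⟩
  intro n
  have h3 : π ≫ (IsColimit.coconePointUniqueUpToIso hcok2 hcok1).hom = H.map (Sigma.desc i) :=
    IsColimit.comp_coconePointUniqueUpToIso_hom hcok2 hcok1 WalkingParallelPair.one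
  have h4 : colimit.ι F n = cH.inj n ≫ π := (hπ n).symm
  change colimit.ι F n ≫ _ = _
  rw [h4, Category.assoc, h3]
  change H.map (Sigma.ι K n) ≫ H.map (Sigma.desc i) = _
  rw [← H.map_comp, Sigma.ι_desc]

end Groth.Agent.S1034
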