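import Groth.Statements.S10349
import Groth.Agent.Lib.Helper2.AlgSp.FieldQuot
import Groth.Agent.Lib.Helper2.AlgSp.Mono
import Groth.Agent.Lib.Helper2.AlgSp.QcMonoPoint
open Groth.Agent.Helper2


set_option autoImplicit false
universe u
open CategoryTheory CategoryTheory.Limits AlgebraicGeometry Topology TopologicalSpace
open AlgSp

namespace Groth.Agent.S10349

/-- Let S be a scheme, X a decent algebraic space over S, k a field over S and p : h_{Spec k} ⟶ X a
surjective etale map. Then X ≅ h_{Spec k'} for a field k' over S, and p corresponds to a finite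
etale morphism Spec k ⟶ Spec k' over S, so that k is a finite separable extension of k'. -/
theorem result {S : Scheme.{u}} (X : AlgSp.Space S)
    (hX : AlgSp.IsDecent X.obj) (k : Type u) [Field k] (str : Spec (CommRingCat.of k) ⟶ S)
    (p : (AlgSp.yon S).obj (Over.mk str) ⟶ X.obj) (hp : AlgSp.RepWith @Etale p) (hs : AlgSp.RepWith @Surjective p) :
    ∃ (k' : Type u) (_ : Field k') (str' : Spec (CommRingCat.of k') ⟶ S)
      (e : (AlgSp.yon S).obj (Over.mk str') ≅ X.obj) (c : Over.mk str ⟶ Over.mk str'),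
      (AlgSp.yon S).map c ≫ e.hom = p ∧ IsFinite c.left ∧ Etale c.left := by
  have hrep := hp.rep
  have sq := hrep.isPullback p
  obtain ⟨t, ht⟩ := (AlgSp.yon S).map_surjective (hrep.fst p)
  set s := hrep.snd p with hs_def
  rw [← ht] at sq
  haveI : Etale s.left := hp.property p _ _ sq
  haveI : CompactSpace ↥(Over.mk str).left :=
    inferInstanceAs (CompactSpace ↥(Spec (CommRingCat.of k)))
  haveI : CompactSpace ↥(hrep.pullback p).left := by
    let c : ↥(Over.mk str).left := (IsLocalRing.closedPoint k : ↥(Spec (CommRingCat.of k)))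
    obtain ⟨q, hq, hqm, -⟩ := hX (Points.ofPt p c)
    obtain ⟨g, hg⟩ := QcMonoPoint.exists_factor_of_mono X.property q
      (AlgSpBasic.fieldPtOfHom str p) hqm (by rw [FieldQuot.mk_fieldPtOfHom str p c, hq])
    rw [FieldQuot.toHom_fieldPtOfHom] at hg
    obtain ⟨g₁, rfl⟩ := (AlgSp.yon S).map_surjective g
    have hg' : ∃ g₀ : Over.mk str ⟶ q.pt, (AlgSp.yon S).map g₀ ≫ q.toHom = p := ⟨g₁, hg⟩
    clear hg
    obtain ⟨g₀, hg⟩ := hg'
    haveI := hqm
    have sq' : IsPullback ((AlgSp.yon S).map t) ((AlgSp.yon S).map s) ((AlgSp.yon S).map g₀)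
        ((AlgSp.yon S).map g₀) :=
      ⟨⟨(cancel_mono q.toHom).1 (by rw [Category.assoc, Category.assoc, hg]; exact sq.w)⟩,
        ⟨PullbackCone.isLimitOfFactors p p q.toHom _ _ hg hg _ sq.isLimit⟩⟩
    have sq'' : IsPullback t s g₀ g₀ :=
      IsPullback.of_map (AlgSp.yon S) ((AlgSp.yon S).map_injective (by
        simp only [Functor.map_comp]; exact sq'.w)) sq'
    have sq3 := sq''.map (Over.forget S)
    haveI : IsAffine q.pt.left := inferInstanceAs (IsAffine (Spec (CommRingCat.of q.K)))
    haveI : IsAffine (Over.mk str).left := inferInstanceAs (IsAffine (Spec (CommRingCat.of k)))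
    haveI : IsAffine ((Over.forget S).obj q.pt) :=
      inferInstanceAs (IsAffine (Spec (CommRingCat.of q.K)))
    haveI : IsAffine ((Over.forget S).obj (Over.mk str)) :=
      inferInstanceAs (IsAffine (Spec (CommRingCat.of k)))
    haveI : IsAffine (hrep.pullback p).left := IsAffine.of_isIso sq3.isoPullback.hom
    infer_instance
  obtain ⟨k', str', hstr, m, hfd, hm, hqm⟩ := FieldQuot.exists_mono_point str s t p sq
  obtain ⟨-, -, -, hfin⟩ := FieldQuot.fppf_spec_subfield k'
  haveI : Sheaf.IsLocallySurjective p := AlgSpBasic.isLocallySurjective_of_etale_surjective p hp hs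
  haveI : Epi p := (Sheaf.isLocallySurjective_iff_epi p).1 inferInstance
  haveI : Epi m := by
    haveI : Epi ((AlgSp.yon S).map (Over.homMk (Spec.map (CommRingCat.ofHom k'.subtype)) hstr :
        Over.mk str ⟶ Over.mk str') ≫ m) := by rw [hqm]; infer_instance
    exact epi_of_epi ((AlgSp.yon S).map (Over.homMk (Spec.map (CommRingCat.ofHom k'.subtype)) hstr :
        Over.mk str ⟶ Over.mk str')) m
  haveI := hm
  haveI : IsIso m := isIso_of_mono_of_epi m
  refine ⟨k', inferInstance, str', asIso m,
    Over.homMk (Spec.map (CommRingCat.ofHom k'.subtype)) hstr, hqm, hfin, ?_⟩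
  have h1 : AlgSp.RepWith @Etale ((AlgSp.yon S).map (Over.homMk
      (Spec.map (CommRingCat.ofHom k'.subtype)) hstr : Over.mk str ⟶ Over.mk str')) := by
    have h2 : (AlgSp.yon S).map (Over.homMk (Spec.map (CommRingCat.ofHom k'.subtype)) hstr :
        Over.mk str ⟶ Over.mk str') = p ≫ inv m := by
      rw [← hqm, Category.assoc, IsIso.hom_inv_id, Category.comp_id]
    rw [h2]
    exact MorphismProperty.RespectsIso.postcomp _ _ _ hp
  exact (AlgSp.repWith_yon_map_iff @Etale _).1 h1

end Groth.Agent.S10349
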