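import Groth.Statements.S10350
import Groth.Agent.Lib.Helper2.AlgSp.FieldFibre
open Groth.Agent.Helper2

set_option autoImplicit false
universe u
open CategoryTheory CategoryTheory.Limits AlgebraicGeometry Topology TopologicalSpace
open AlgSp

namespace Groth.Agent.S10350

/-- For a scheme S, every algebraic space X over S whose diagonal X ⟶ X ×_S X is representable
quasi-compact (X quasi-separated over S) is decent: each point of |X| is the class of some
monomorphism Spec k ⟶ X which is representable quasi-compact. (The published statement assumes X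
quasi-separated in the absolute sense, a condition which implies quasi-separatedness over S; this
row assumes only quasi-separatedness over S.) -/
theorem result {S : Scheme.{u}} (X : AlgSp.Space S)
    (hX : AlgSp.IsQuasiSeparatedSp X.obj) : AlgSp.IsDecent X.obj := by
  intro x
  obtain ⟨U, φ, hφ, hφs⟩ := X.property.atlas
  obtain ⟨u, rfl⟩ := AlgSpBasic.surjective_ofPt φ hφs x
  let a : (AlgSp.yon S).obj (FieldFibre.resOver U u) ⟶ X.obj :=
    (AlgSp.yon S).map (FieldFibre.resι U u) ≫ φ
  obtain ⟨R, s, t, sq⟩ := AlgSpBasic.exists_isPullback_yon X.property.diag a a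
  haveI : Etale s.left := FieldFibre.etale_fst_of_isPullback_residue φ hφ u
    (K := ↥(U.left.residueField u)) (U.left.fromSpecResidueField u ≫ U.hom) a s t sq
  haveI : CompactSpace ↥(FieldFibre.resOver U u).left :=
    inferInstanceAs (CompactSpace ↥(Spec (U.left.residueField u)))
  haveI : CompactSpace ↥R.left :=
    FieldQuot.compactSpace_of_isQuasiSeparatedSp hX (L := ↥(U.left.residueField u))
      (FieldFibre.resOver U u) (U.left.fromSpecResidueField u ≫ U.hom) s t a a sq
  let c : ↥(FieldFibre.resOver U u).left := IsLocalRing.closedPoint ↥(U.left.residueField u)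
  obtain ⟨q, hq1, hq2, -⟩ := FieldQuot.exists_mono_fieldPt
    (K := ↥(U.left.residueField u)) (U.left.fromSpecResidueField u ≫ U.hom) s t a sq.flip c
  refine ⟨q, ?_, hq2, FieldQuot.repWith_quasiCompact_of_field hX _ _⟩
  rw [hq1]
  change AlgSp.Points.ofPt ((AlgSp.yon S).map (FieldFibre.resι U u) ≫ φ) c = _
  rw [AlgSpBasic.ofPt_yon_map_comp]
  have h4 : (FieldFibre.resι U u).left c = u := Scheme.fromSpecResidueField_apply u c
  rw [h4]

end Groth.Agent.S10350
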