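import Groth.Statements.S10353
import Groth.Agent.Lib.Helper2.AlgSp.DecentOpen3


set_option autoImplicit false
universe u
open CategoryTheory CategoryTheory.Limits AlgebraicGeometry Topology TopologicalSpace
open AlgSp

namespace Groth.Agent.S10353

/-- Let X be an algebraic space over a scheme S and suppose there is a finite, etale, surjective map h_U
⟶ X from a scheme U. Then some dense open subspace of X is a scheme: an open subspace X' ⟶ X with
representable underlying sheaf and |X'| dense in |X|. -/
theorem result {S : Scheme.{u}} (X : AlgSp.Space S)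
    {U : Over S} (a : (AlgSp.yon S).obj U ⟶ X.obj) (hf : AlgSp.RepWith @IsFinite a) (he : AlgSp.RepWith @Etale a)
    (hs : AlgSp.RepWith @Surjective a) :
    ∃ (X' : AlgSp.Space S) (j : X' ⟶ X), AlgSp.RepWith @IsOpenImmersion j.hom ∧ X'.obj.obj.IsRepresentable ∧
      Dense (Set.range (AlgSp.Points.map j.hom)) := by
  open Groth.Agent.Helper2.LargestSch Groth.Agent.Helper2.AlgSpBasic in
  refine ⟨⟨openSub X.obj (schLocus X.obj), isAlgSpace_openSub X.property (isOpen_schLocus X.obj)⟩,
    ObjectProperty.homMk (openSubι X.obj (schLocus X.obj)),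
    repWith_isOpenImmersion_openSubι X.obj (isOpen_schLocus X.obj), ?_, ?_⟩
  · obtain ⟨W, ⟨e⟩⟩ := exists_iso_yon_schLocus X.property
    exact (AlgSp.representableByOfIso e).isRepresentable
  · have hr : Set.range (AlgSp.Points.map (openSubι X.obj (schLocus X.obj))) = schLocus X.obj :=
      range_points_map_openSubι X.obj (schLocus X.obj)
    show Dense (Set.range (AlgSp.Points.map (openSubι X.obj (schLocus X.obj))))
    rw [hr, dense_iff_inter_open]
    intro O hO hne
    exact Groth.Agent.Helper2.DecentOpen.inter_schLocus_nonempty_of_finite_etale X a hf he hs O hO hne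

end Groth.Agent.S10353
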