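import Groth.Statements.S10355
import Groth.Agent.Lib.Helper2.AlgSp.DecentClosed


set_option autoImplicit false
universe u
open CategoryTheory CategoryTheory.Limits AlgebraicGeometry Topology TopologicalSpace
open AlgSp

namespace Groth.Agent.S10355

/-- A decent algebraic space X over a scheme S whose space of points is a single point is a scheme (the
underlying sheaf of X is representable). -/
theorem result {S : Scheme.{u}} (X : AlgSp.Space S)
    (hX : AlgSp.IsDecent X.obj) [Nonempty (AlgSp.Points X.obj)] [Subsingleton (AlgSp.Points X.obj)] :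
    X.obj.obj.IsRepresentable := by
  open Groth.Agent.Helper2.LargestSch Groth.Agent.Helper2.AlgSpBasic in
  obtain ⟨x₀⟩ := (inferInstance : Nonempty (AlgSp.Points X.obj))
  open Groth.Agent.Helper2.LargestSch Groth.Agent.Helper2.AlgSpBasic in
  obtain ⟨z, -, V, hV, hzV, W, ⟨e⟩⟩ :=
    Groth.Agent.Helper2.DecentOpen.inter_schLocus_nonempty_of_decent X hX Set.univ isOpen_univ
      ⟨x₀, trivial⟩
  have hVu : V = Set.univ := by
    rw [Set.eq_univ_iff_forall]
    intro y
    rw [Subsingleton.elim y z]
    exact hzV
  have hid : AlgSp.RepWith @IsOpenImmersion (𝟙 X.obj) :=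
    Groth.Agent.Helper2.AlgSpBasic.repWith_of_isIso @IsOpenImmersion (𝟙 X.obj)
  haveI := Groth.Agent.Helper2.AlgSpBasic.isIso_openSubLift_of_range_eq X.property X.property
    (𝟙 X.obj) hid V (by
      rw [hVu, Set.eq_univ_iff_forall]
      intro y
      exact ⟨y, by rw [AlgSp.Points.map_id]⟩) (fun p => by rw [hVu]; trivial)
  exact (AlgSp.representableByOfIso (e ≪≫ (asIso (Groth.Agent.Helper2.AlgSpBasic.openSubLift V
    (𝟙 X.obj) (fun p => by rw [hVu]; trivial))).symm)).isRepresentable

end Groth.Agent.S10355
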