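import Groth.Statements.S10356
import Groth.Agent.S10349
import Groth.Agent.Lib.Helper2.AlgSp.OnePoint
open Groth.Agent.Helper2


set_option autoImplicit false
universe u
open CategoryTheory CategoryTheory.Limits AlgebraicGeometry Topology TopologicalSpace
open AlgSp

namespace Groth.Agent.S10356

/-- A reduced decent algebraic space X over a scheme S whose space of points is a single point is
isomorphic to h_{Spec k} for a field k over S. -/
theorem result {S : Scheme.{u}} (X : AlgSp.Space S)
    (hX : AlgSp.IsDecent X.obj) (hr : AlgSp.EtaleLocally (fun U => IsReduced U) X.obj)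
    [Nonempty (AlgSp.Points X.obj)] [Subsingleton (AlgSp.Points X.obj)] :
    ∃ (k : Type u) (_ : Field k) (str : Spec (CommRingCat.of k) ⟶ S),
      Nonempty ((AlgSp.yon S).obj (Over.mk str) ≅ X.obj) := by
  obtain ⟨U, a, hae, has, hred⟩ := hr
  haveI : IsReduced U.left := hred
  haveI : DiscreteTopology ↥U.left :=
    OnePoint.discreteTopology_of_subsingleton_points X.property hX a hae
  have hFL : EtaleField.IsFieldLike U.left := EtaleField.isFieldLike_of_artinian_reduced U.left
  obtain ⟨x⟩ := (inferInstance : Nonempty (AlgSp.Points X.obj))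
  obtain ⟨u, -⟩ := AlgSpBasic.surjective_ofPt a has x
  haveI : IsOpenImmersion (U.left.fromSpecResidueField u) :=
    FieldFibre.isOpenImmersion_fromSpecResidueField hFL u
  have hp : AlgSp.RepWith @Etale ((AlgSp.yon S).map (FieldFibre.resι U u) ≫ a) := by
    refine AlgSpBasic.repWith_comp @Etale ?_ hae
    rw [AlgSp.repWith_yon_map_iff]
    change Etale (U.left.fromSpecResidueField u)
    infer_instance
  have hs : AlgSp.RepWith @Surjective ((AlgSp.yon S).map (FieldFibre.resι U u) ≫ a) := by
    refine AlgSpBasic.repWith_surjective_of_surjective_ofPt _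
      (X.property.representable_from_yon _) ?_
    intro y
    exact ⟨(IsLocalRing.closedPoint ↥(U.left.residueField u) :
      ↥(Spec (U.left.residueField u))), Subsingleton.elim _ _⟩
  obtain ⟨k', hk', str', e, -, -⟩ := Groth.Agent.S10349.result X hX ↥(U.left.residueField u)
    (U.left.fromSpecResidueField u ≫ U.hom) _ hp hs
  exact ⟨k', hk', str', ⟨e⟩⟩

end Groth.Agent.S10356
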