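import Groth.Statements.S10382
import Groth.Agent.Lib.Helper2.AlgSp.DecentLocal
open Groth.Agent.Helper2


set_option autoImplicit false
universe u
open CategoryTheory CategoryTheory.Limits AlgebraicGeometry Topology TopologicalSpace
open AlgSp

namespace Groth.Agent.S10382

/-- The composition of two decent morphisms of algebraic spaces over a scheme S is decent. -/
theorem result {S : Scheme.{u}} {X Y Z : AlgSp.Space S} (f : X ⟶ Y) (g : Y ⟶ Z)
    (hf : AlgSp.IsDecentMor f.hom) (hg : AlgSp.IsDecentMor g.hom) : AlgSp.IsDecentMor (f ≫ g).hom := by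
  intro T F' h a b sqT
  have sqY := IsPullback.of_hasPullback g.hom h
  have hYT : AlgSp.IsDecent (pullback g.hom h) := hg h _ _ sqY
  have hl : (a ≫ f.hom) ≫ g.hom = b ≫ h := by rw [Category.assoc]; exact sqT.w
  have sqX : IsPullback a (sqY.lift (a ≫ f.hom) b hl) f.hom (pullback.fst g.hom h) := by
    refine IsPullback.of_bot ?_ (sqY.lift_fst _ _ hl).symm sqY
    rw [sqY.lift_snd]; exact sqT
  exact DecentLocal.isDecent_of_isDecentMor _ (DecentLocal.isDecentMor_of_isPullback sqX hf) hYT

end Groth.Agent.S10382
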