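import Groth.Statements.S10393
import Groth.Agent.S10355
import Groth.Agent.Lib.Helper2.AlgSp.QsDecentT
import Groth.Agent.Lib.Helper2.AlgSp.LocalDimDecent
import Groth.Agent.Lib.Helper2.AlgSp.LargestSch


set_option autoImplicit false
universe u
open CategoryTheory CategoryTheory.Limits AlgebraicGeometry Topology TopologicalSpace
open AlgSp

namespace Groth.Agent.S10393

/-- Let S be a scheme, Y a scheme over S whose underlying topological space is discrete (equivalently, Y
is a disjoint union of spectra of local rings of dimension zero), and X an algebraic space over S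
with a monomorphism X ⟶ Y over S. Then X is a scheme. -/
theorem result {S : Scheme.{u}} (Y : Over S) [DiscreteTopology ↥Y.left]
    (X : AlgSp.Space S) (f : X ⟶ (AlgSp.ofScheme S).obj Y) [Mono f.hom] : X.obj.obj.IsRepresentable := by
  open Groth.Agent.Helper2 Groth.Agent.Helper2.AlgSpBasic Groth.Agent.Helper2.LargestSch in
  classical
  have hX := X.property
  have hqs : IsQuasiSeparatedMor f.hom := isQuasiSeparatedMor_of_mono f.hom
  have hdec : IsDecent X.obj := QsDecentT.isDecent_of_isQuasiSeparatedMor hX f.hom hqs
  have hinj := injective_points_map_of_mono f.hom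
  haveI : DiscreteTopology (Points ((ofScheme S).obj Y).obj) :=
    (Points.schemeHomeo Y).symm.isEmbedding.discreteTopology
  have hopen : ∀ x : Points X.obj, IsOpen ({x} : Set (Points X.obj)) := by
    intro x
    have h2 : ({x} : Set (Points X.obj)) = Points.map f.hom ⁻¹' {Points.map f.hom x} := by
      ext x'
      simp only [Set.mem_singleton_iff, Set.mem_preimage]
      exact ⟨fun h => by rw [h], fun h => hinj h⟩
    rw [h2]
    exact (isOpen_discrete _).preimage (Points.continuous_map f.hom)
  have hrep : ∀ x : Points X.obj, (openSub X.obj {x}).obj.IsRepresentable := by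
    intro x
    let Xx : Space S := ⟨openSub X.obj {x}, isAlgSpace_openSub hX (hopen x)⟩
    have e := LocalDimDecent.pointsOpenSubHomeo X (hopen x)
    haveI : Nonempty (Points Xx.obj) := ⟨e.symm ⟨x, rfl⟩⟩
    haveI : Subsingleton (Points Xx.obj) := e.injective.subsingleton
    exact Groth.Agent.S10355.result Xx (LocalDimDecent.isDecent_openSub X hdec (hopen x))
  have hloc : schLocus X.obj = Set.univ := by
    ext x
    simp only [Set.mem_univ, iff_true]
    obtain ⟨W, ⟨r⟩⟩ := (hrep x).has_representation
    exact subset_schLocus (hopen x) (AlgSp.isoOfRepresentableBy r) rfl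
  obtain ⟨W, ⟨e⟩⟩ := exists_iso_yon_schLocus hX
  have hmem : ∀ p : Points X.obj, Points.map (𝟙 X.obj) p ∈ schLocus X.obj := fun p => by
    rw [hloc]; trivial
  haveI hiso := isIso_openSubLift_of_range_eq hX hX (𝟙 X.obj)
    (repWith_of_isIso @IsOpenImmersion (𝟙 X.obj)) (schLocus X.obj) (by
      rw [hloc]
      ext p
      simp only [Set.mem_range, Set.mem_univ, iff_true]
      exact ⟨p, by rw [Points.map_id]⟩) hmem
  exact (AlgSp.representableByOfIso (e ≪≫ (asIso (openSubLift _ (𝟙 X.obj) hmem)).symm)).isRepresentable

end Groth.Agent.S10393
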