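import Groth.Statements.S10409
import Groth.Agent.Lib.Helper2.AlgSp.FieldFibre
import Groth.Agent.Lib.Helper2.AlgSp.Mor2
open Groth.Agent.Helper2

set_option autoImplicit false
universe u
open CategoryTheory CategoryTheory.Limits AlgebraicGeometry Topology TopologicalSpace
open AlgSp

namespace Groth.Agent.S10409

/-- (3) ⇔ (4): for an algebraic space X over a scheme S and x ∈ |X|, there is a monomorphism Spec k ⟶ X
representing x if and only if there is a morphism Spec k' ⟶ X representing x whose
self-fibre-product has etale and quasi-compact projections to Spec k'. -/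
theorem result {S : Scheme.{u}} (X : AlgSp.Space S)
    (x : AlgSp.Points X.obj) :
    (∃ p : AlgSp.FieldPt X.obj, AlgSp.Points.mk p = x ∧ Mono p.toHom) ↔
      ∃ q : AlgSp.FieldPt X.obj, AlgSp.Points.mk q = x ∧
        ∀ (P : AlgSp.Sp S) (fst snd : P ⟶ (AlgSp.yon S).obj q.pt), IsPullback fst snd q.toHom q.toHom →
          AlgSp.RepWith @Etale fst ∧ AlgSp.RepWith @QuasiCompact fst := by
  constructor
  · rintro ⟨p, hp, hm⟩
    refine ⟨p, hp, fun P fst snd sq => ?_⟩
    haveI := hm
    haveI : IsIso fst := sq.isIso_fst_of_mono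
    exact ⟨AlgSpBasic.repWith_of_isIso @Etale fst, AlgSpBasic.repWith_of_isIso @QuasiCompact fst⟩
  · rintro ⟨q, hq, hP⟩
    obtain ⟨R, t, s, sq⟩ := AlgSpBasic.exists_isPullback_yon X.property.diag q.toHom q.toHom
    obtain ⟨h1, h2⟩ := hP _ _ _ sq
    haveI : Etale t.left := (AlgSp.repWith_yon_map_iff @Etale t).1 h1
    haveI : QuasiCompact t.left := (AlgSp.repWith_yon_map_iff @QuasiCompact t).1 h2
    haveI : CompactSpace ↥q.pt.left := inferInstanceAs (CompactSpace ↥(Spec (CommRingCat.of q.K)))
    haveI : CompactSpace ↥R.left := QuasiCompact.compactSpace_of_compactSpace t.left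
    obtain ⟨p, hp1, hp2, -⟩ := FieldQuot.exists_mono_fieldPt q.str t s q.toHom sq.flip
      (IsLocalRing.closedPoint q.K)
    refine ⟨p, ?_, hp2⟩
    rw [hp1, AlgSp.Points.ofPt_toHom, hq]

end Groth.Agent.S10409
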