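import Groth.Statements.S10411
import Groth.Agent.Lib.Helper2.AlgSp.FinLocFreeSchLocus2


set_option autoImplicit false
universe u
open CategoryTheory CategoryTheory.Limits AlgebraicGeometry Topology TopologicalSpace
open AlgSp

namespace Groth.Agent.S10411

/-- Let S be a scheme, X and Y algebraic spaces over S, X ⟶ Y a surjective finite locally free morphism,
and y ∈ |Y|. Then y lies in the schematic locus of Y (some open subspace of Y containing y is a
scheme) if and only if there is an affine open subscheme U ⊆ X containing the preimage of y. -/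
theorem result {S : Scheme.{u}} {X Y : AlgSp.Space S} (f : X ⟶ Y)
    (hf : AlgSp.IsFinLocFreeMor f.hom) (hs : AlgSp.RepWith @Surjective f.hom) (y : AlgSp.Points Y.obj) :
    (∃ (Y' : AlgSp.Space S) (j : Y' ⟶ Y), AlgSp.RepWith @IsOpenImmersion j.hom ∧ Y'.obj.obj.IsRepresentable ∧
        y ∈ Set.range (AlgSp.Points.map j.hom)) ↔
      ∃ (U : Over S) (a : (AlgSp.yon S).obj U ⟶ X.obj), IsAffine U.left ∧ AlgSp.RepWith @IsOpenImmersion a ∧
        AlgSp.Points.map f.hom ⁻¹' {y} ⊆ Set.range (AlgSp.Points.ofPt a) := by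
  have hmain : y ∈ Groth.Agent.Helper2.LargestSch.schLocus Y.obj ↔
      ∃ (U : Over S) (a : (AlgSp.yon S).obj U ⟶ X.obj), IsAffine U.left ∧
        AlgSp.RepWith @IsOpenImmersion a ∧
        AlgSp.Points.map f.hom ⁻¹' {y} ⊆ Set.range (AlgSp.Points.ofPt a) := by
    constructor
    · intro hy
      exact Groth.Agent.Helper2.FinLocFreeSchLocus.exists_affine_open_of_mem_schLocus_target
        f.hom hf y hy
    · rintro ⟨U, a, hU, ha, hfib⟩
      haveI := hU
      exact Groth.Agent.Helper2.FinLocFreeSchLocus.mem_schLocus_of_fiber_subset_affine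
        X.property Y.property f.hom hf hs y a ha hfib
  rw [← hmain]
  open Groth.Agent.Helper2.LargestSch Groth.Agent.Helper2.AlgSpBasic in
  constructor
  · rintro ⟨Y', j, hj, hrep, p, rfl⟩
    obtain ⟨W, ⟨r⟩⟩ := hrep.has_representation
    exact points_map_mem_schLocus Y.property Y'.property j.hom hj (AlgSp.isoOfRepresentableBy r) p
  · intro hy
    refine ⟨⟨openSub Y.obj (schLocus Y.obj), isAlgSpace_openSub Y.property (isOpen_schLocus Y.obj)⟩,
      ObjectProperty.homMk (openSubι Y.obj (schLocus Y.obj)),
      repWith_isOpenImmersion_openSubι Y.obj (isOpen_schLocus Y.obj), ?_, ?_⟩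
    · obtain ⟨W, ⟨e⟩⟩ := exists_iso_yon_schLocus Y.property
      exact (AlgSp.representableByOfIso e).isRepresentable
    · show y ∈ Set.range (AlgSp.Points.map (openSubι Y.obj (schLocus Y.obj)))
      rw [range_points_map_openSubι]
      exact hy

end Groth.Agent.S10411
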