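import Groth.Statements.S10413
import Mathlib
import Groth.Agent.Lib.Helper2.AlgSp.Basic
import Groth.Agent.Lib.Helper2.AlgSp.Points
import Groth.Agent.Lib.Helper2.AlgSp.Mono

open Groth.Agent.Helper2.AlgSpBasic

set_option autoImplicit false
universe u
open CategoryTheory CategoryTheory.Limits AlgebraicGeometry Topology TopologicalSpace
open AlgSp

namespace Groth.Agent.S10413

/-- Let S be a scheme, X and Y algebraic spaces over S, and X ⟶ Y a representable morphism. If every
point of Y can be represented by a monomorphism into Y from the spectrum of a field, then every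
point of X can likewise be represented by such a monomorphism into X. -/
theorem result {S : Scheme.{u}} {X Y : AlgSp.Space S} (f : X ⟶ Y) (hf : AlgSp.Representable f.hom)
    (hY : ∀ y : AlgSp.Points Y.obj, ∃ q : AlgSp.FieldPt Y.obj, AlgSp.Points.mk q = y ∧ Mono q.toHom)
    (x : AlgSp.Points X.obj) : ∃ p : AlgSp.FieldPt X.obj, AlgSp.Points.mk p = x ∧ Mono p.toHom := by
  obtain ⟨p, hp, hpm⟩ := hY (Points.map f.hom x)
  have pb := hf.isPullback p.toHom
  let s : ↥(Spec (CommRingCat.of p.K)) := IsLocalRing.closedPoint p.K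
  have hs : Points.map p.toHom (Points.ofScheme p.pt s) = Points.map f.hom x := by
    rw [← Points.ofPt_eq_map_ofScheme, Points.ofPt_toHom, hp]
  obtain ⟨π, -, hπ⟩ := points_exists_of_isPullback f.hom p.toHom
    ((yon S).map (hf.snd p.toHom)) (hf.fst p.toHom) pb.flip (Points.ofScheme p.pt s) x hs
  have hπ' : Points.ofScheme _ (Points.toScheme _ π) = π := Points.ofScheme_toScheme _ π
  set ξ := Points.toScheme (hf.pullback p.toHom) π with hξ
  have hx : Points.ofPt (hf.fst p.toHom) ξ = x := by
    rw [Points.ofPt_eq_map_ofScheme, hπ', hπ]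
  refine ⟨FieldPt.ofPt (hf.fst p.toHom) ξ, hx, ?_⟩
  rw [FieldPt.toHom_ofPt]
  have h1 : Mono (hf.fst p.toHom) := pb.mono_fst_of_mono hpm
  have h2 : Mono (Over.homMk ((hf.pullback p.toHom).left.fromSpecResidueField ξ) rfl :
      Over.mk ((hf.pullback p.toHom).left.fromSpecResidueField ξ ≫ (hf.pullback p.toHom).hom) ⟶
        hf.pullback p.toHom) := by
    apply (Over.forget S).mono_of_mono_map
    change Mono ((hf.pullback p.toHom).left.fromSpecResidueField ξ)
    infer_instance
  haveI := h2
  have h3 := Functor.map_mono (yon S) (Over.homMk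
    ((hf.pullback p.toHom).left.fromSpecResidueField ξ) rfl :
      Over.mk ((hf.pullback p.toHom).left.fromSpecResidueField ξ ≫ (hf.pullback p.toHom).hom) ⟶
        hf.pullback p.toHom)
  refine @mono_comp _ _ _ _ _ _ ?_ _ h1
  exact h3

end Groth.Agent.S10413
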