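import Groth.Statements.S10414
import Groth.Agent.Lib.Helper2.AlgSp.FieldQuot
import Groth.Agent.Lib.Helper2.AlgSp.MonoField
open Groth.Agent.Helper2


set_option autoImplicit false
universe u
open CategoryTheory CategoryTheory.Limits AlgebraicGeometry Topology TopologicalSpace
open AlgSp

namespace Groth.Agent.S10414

/-- Let S be a scheme, X an algebraic space over S, x ∈ |X|, and Z_x ⟶ X the residual space of x (a
monomorphism with image {x} from a space which admits a locally finitely presented, flat, surjective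
morphism whose source is the spectrum of a field). Then Z_x is isomorphic to Spec k' for some field
k' if and only if the point x is represented by some monomorphism Spec k ⟶ X. (The decent case, in
which the right side holds at every point, is not part of this row.) -/
theorem result {S : Scheme.{u}} (X : AlgSp.Space S) (x : AlgSp.Points X.obj)
    {Z : AlgSp.Space S} (i : Z ⟶ X) [Mono i.hom] (hi : Set.range (AlgSp.Points.map i.hom) = {x})
    (hZ : ∃ (k : Type u) (_ : Field k) (str : Spec (CommRingCat.of k) ⟶ S) (p : (AlgSp.yon S).obj (Over.mk str) ⟶ Z.obj),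
        AlgSp.LocP @LocallyOfFinitePresentation p ∧ AlgSp.LocP @Flat p ∧ AlgSp.IsSurjectiveMor p) :
    (∃ (k : Type u) (_ : Field k) (str : Spec (CommRingCat.of k) ⟶ S), Nonempty (Z.obj ≅ (AlgSp.yon S).obj (Over.mk str))) ↔
      ∃ p : AlgSp.FieldPt X.obj, AlgSp.Points.mk p = x ∧ Mono p.toHom := by
  constructor
  · rintro ⟨k', _, str', ⟨e⟩⟩
    refine ⟨AlgSpBasic.fieldPtOfHom str' (e.inv ≫ i.hom), ?_, ?_⟩
    · let c : ↥(Over.mk str').left :=
        (IsLocalRing.closedPoint k' : ↥(Spec (CommRingCat.of k')))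
      rw [FieldQuot.mk_fieldPtOfHom str' _ c, ← AlgSp.Points.map_ofPt]
      have h1 : AlgSp.Points.map i.hom (AlgSp.Points.ofPt e.inv c) ∈
          Set.range (AlgSp.Points.map i.hom) := ⟨_, rfl⟩
      rw [hi] at h1
      exact h1
    · rw [FieldQuot.toHom_fieldPtOfHom]
      exact mono_comp e.inv i.hom
  · rintro ⟨p, hp, hm⟩
    haveI := hm
    have hrange : Set.range (AlgSp.Points.map p.toHom) = {x} := by
      ext y
      simp only [Set.mem_range, Set.mem_singleton_iff]
      constructor
      · rintro ⟨z, rfl⟩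
        rw [← AlgSp.Points.ofScheme_toScheme p.pt z, ← AlgSp.Points.ofPt_eq_map_ofScheme,
          AlgSp.Points.ofPt_toHom, hp]
      · rintro rfl
        refine ⟨AlgSp.Points.ofScheme p.pt
          (IsLocalRing.closedPoint p.K : ↥(Spec (CommRingCat.of p.K))), ?_⟩
        rw [← AlgSp.Points.ofPt_eq_map_ofScheme, AlgSp.Points.ofPt_toHom, hp]
    have hid : ∃ (k : Type u) (_ : Field k) (str : Spec (CommRingCat.of k) ⟶ S)
        (q : (AlgSp.yon S).obj (Over.mk str) ⟶ (AlgSp.yon S).obj p.pt),
        AlgSp.LocP @LocallyOfFinitePresentation q ∧ AlgSp.LocP @Flat q ∧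
          AlgSp.IsSurjectiveMor q :=
      ⟨p.K, inferInstance, p.str, 𝟙 _,
        AlgSpBasic.locP_of_isIso @LocallyOfFinitePresentation
          (AlgSp.IsAlgSpace.yon_obj p.pt).diag _,
        AlgSpBasic.locP_of_isIso @Flat (AlgSp.IsAlgSpace.yon_obj p.pt).diag _,
        AlgSpBasic.isSurjectiveMor_of_isIso _⟩
    obtain ⟨e, -⟩ := AlgSpBasic.exists_iso_of_mono_of_fieldPt X.property
      (AlgSp.IsAlgSpace.yon_obj p.pt) Z.property x p.toHom i.hom hrange hi hid hZ
    exact ⟨p.K, inferInstance, p.str, ⟨e⟩⟩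

end Groth.Agent.S10414
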