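import Groth.Statements.S10423
import Groth.Agent.S10351
import Groth.Agent.Lib.Helper2.AlgSp.QsDecent
open Groth.Agent.Helper2


set_option autoImplicit false
universe u
open CategoryTheory CategoryTheory.Limits AlgebraicGeometry Topology TopologicalSpace
open AlgSp

namespace Groth.Agent.S10423

/-- A morphism of algebraic spaces over a scheme S which is representable, or which is quasi-separated,
is decent (all its base changes to schemes are decent algebraic spaces). The implications through
reasonable and very reasonable morphisms are not part of this row. -/
theorem result {S : Scheme.{u}} {X Y : AlgSp.Space S} (f : X ⟶ Y) :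
    (AlgSp.Representable f.hom → AlgSp.IsDecentMor f.hom) ∧
      (AlgSp.IsQuasiSeparatedMor f.hom → AlgSp.IsDecentMor f.hom) := by
  constructor
  · intro hf T F' g fst snd sq
    have hF' : AlgSp.IsAlgSpace F' :=
      AlgSpBasic.isAlgSpace_of_isPullback Y.property.diag X.property (AlgSp.IsAlgSpace.yon_obj T)
        f.hom g fst snd sq
    have hsnd : AlgSp.Representable snd :=
      MorphismProperty.of_isPullback (P := AlgSp.Representable) sq hf
    exact Groth.Agent.S10351.result (X := ⟨F', hF'⟩) (Y := ⟨(AlgSp.yon S).obj T, AlgSp.IsAlgSpace.yon_obj T⟩)
      (ObjectProperty.homMk snd) hsnd (DecentLocal.isDecent_yon T)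
  · intro hf
    exact QsDecent.isDecentMor_of_isQuasiSeparatedMor X.property Y.property f.hom hf

end Groth.Agent.S10423
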