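import Groth.Statements.S10426
import Groth.Agent.Lib.Helper2.AlgSp.UBSp2


set_option autoImplicit false
universe u
open CategoryTheory CategoryTheory.Limits AlgebraicGeometry Topology TopologicalSpace
open AlgSp

namespace Groth.Agent.S10426

/-- Let S be a scheme, X and Y algebraic spaces over S, and g : Y ⟶ X a representable morphism; let U be
a scheme, f : U ⟶ X a morphism, and f′ : U ×_X Y ⟶ Y its base change. Assume the image of |U| → |X|
is contained in the image of |Y| → |X| and that f′ has universally bounded fibres. Then the morphism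
f also has universally bounded fibres. -/
theorem result {S : Scheme.{u}} {X Y : AlgSp.Space S} (g : Y ⟶ X)
    (hg : AlgSp.Representable g.hom) {U V : Over S} (f : (AlgSp.yon S).obj U ⟶ X.obj)
    (fst : (AlgSp.yon S).obj V ⟶ (AlgSp.yon S).obj U) (f' : (AlgSp.yon S).obj V ⟶ Y.obj) (h : IsPullback fst f' f g.hom)
    (him : Set.range (AlgSp.Points.ofPt f) ⊆ Set.range (AlgSp.Points.map g.hom)) (hf' : W4dec.HasUnivBddFibres f') :
    W4dec.HasUnivBddFibres f := by
  obtain ⟨n, hn⟩ := hf'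
  refine ⟨n, ?_⟩
  rw [Groth.Agent.Helper2.UBSp.degFibresLE_iff] at hn ⊢
  intro K _ str μ T c snd sq
  by_cases hT : IsEmpty ↥T.left
  · exact Groth.Agent.Helper2.UBSp.degLE_of_isEmpty c.left n
  rw [not_isEmpty_iff] at hT
  obtain ⟨t⟩ := hT
  obtain ⟨snd₀, rfl⟩ := (AlgSp.yon S).map_surjective snd
  -- the point
  obtain ⟨y, hy⟩ := him ⟨snd₀.left t, rfl⟩
  induction y using AlgSp.Points.ind with | h p => ?_
  have e1 : AlgSp.Points.ofPt f (snd₀.left t) =
      AlgSp.Points.mk (Groth.Agent.Helper2.AlgSpBasic.fieldPtOfHom str μ) := by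
    rw [← Groth.Agent.Helper2.AlgSpBasic.ofPt_yon_map_comp, ← sq.w,
      Groth.Agent.Helper2.AlgSpBasic.ofPt_yon_map_comp]
    exact (Groth.Agent.Helper2.FieldQuot.mk_fieldPtOfHom str μ (c.left t)).symm
  rw [AlgSp.Points.map_mk, e1] at hy
  obtain ⟨Ω, _, w, a, b, hab⟩ := Groth.Agent.Helper2.UBSp.exists_common_of_mk_eq' hy
  rw [AlgSp.FieldPt.toHom_map, Groth.Agent.Helper2.FieldQuot.toHom_fieldPtOfHom] at hab
  -- ν : Spec Ω ⟶ Y
  obtain ⟨a', ha'⟩ : ∃ a' : Over.mk w ⟶ p.pt, a' = a := ⟨a, rfl⟩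
  have hab' : (AlgSp.yon S).map a' ≫ p.toHom ≫ g.hom = (AlgSp.yon S).map b ≫ μ := by
    rw [ha']; exact hab
  obtain ⟨ν, hν⟩ : ∃ ν : (AlgSp.yon S).obj (Over.mk w) ⟶ Y.obj,
      ν = (AlgSp.yon S).map a' ≫ p.toHom := ⟨_, rfl⟩
  have hνg : ν ≫ g.hom = (AlgSp.yon S).map b ≫ μ := by rw [hν, Category.assoc]; exact hab'
  have sqΩ := IsPullback.of_hasPullback b c
  have sqΩ' := sqΩ.map (AlgSp.yon S)
  have big := sqΩ'.paste_vert sq
  rw [← hνg] at big
  -- lift to V
  obtain ⟨lam, hlam⟩ : ∃ lam, lam = h.lift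
      ((AlgSp.yon S).map (pullback.snd b c) ≫ (AlgSp.yon S).map snd₀)
      ((AlgSp.yon S).map (pullback.fst b c) ≫ ν) (by
        have := big.w.symm
        simp only [Category.assoc] at this ⊢
        exact this) := ⟨_, rfl⟩
  have hl1 : lam ≫ fst = (AlgSp.yon S).map (pullback.snd b c) ≫ (AlgSp.yon S).map snd₀ := by
    rw [hlam, h.lift_fst]
  have hl2 : lam ≫ f' = (AlgSp.yon S).map (pullback.fst b c) ≫ ν := by
    rw [hlam, h.lift_snd]
  have sqV : IsPullback lam ((AlgSp.yon S).map (pullback.fst b c)) f' ν := by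
    refine IsPullback.of_right ?_ hl2 h
    rw [hl1]
    exact big.flip
  have hd := hn Ω w ν _ (pullback.fst b c) lam sqV.flip
  obtain ⟨ψ, hψ⟩ := Spec.map_surjective b.left
  have sq3 := sqΩ.map (Over.forget S)
  have sq4 : IsPullback (pullback.fst b c).left (pullback.snd b c).left
      (Spec.map (CommRingCat.ofHom ψ.hom)) c.left := by
    have : Spec.map (CommRingCat.ofHom ψ.hom) = b.left := hψ
    rw [this]
    exact sq3
  exact Groth.Agent.Helper2.UBAlg.degLE_of_fieldExt ψ.hom c.left _ _ sq4 hd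

end Groth.Agent.S10426
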