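import Groth.Statements.S10429
import Groth.Agent.Lib.Helper2.AlgSp.UBSp4


set_option autoImplicit false
universe u
open CategoryTheory CategoryTheory.Limits AlgebraicGeometry Topology TopologicalSpace
open AlgSp

namespace Groth.Agent.S10429

/-- For an algebraic space X over a scheme S, if there are etale morphisms U_i ⟶ X from schemes with ∐
U_i ⟶ X surjective and each U_i ⟶ X with universally bounded fibres, then every etale morphism U ⟶ X
from an affine scheme has universally bounded fibres (the converse implication is immediate). -/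
theorem result {S : Scheme.{u}} (X : AlgSp.Space S) {ι : Type u} (U : ι → Over S)
    (φ : ∀ i, (AlgSp.yon S).obj (U i) ⟶ X.obj) (hφ : ∀ i, AlgSp.RepWith @Etale (φ i))
    (hsurj : ∀ x : AlgSp.Points X.obj, ∃ (i : ι) (v : ↥(U i).left), AlgSp.Points.ofPt (φ i) v = x)
    (hb : ∀ i, W4dec.HasUnivBddFibres (φ i)) {V : Over S} [IsAffine V.left] (ψ : (AlgSp.yon S).obj V ⟶ X.obj)
    (hψ : AlgSp.RepWith @Etale ψ) : W4dec.HasUnivBddFibres ψ := by
  classical
  -- local data at each point of V
  have hloc : ∀ v : ↥V.left, ∃ (W' : Over S) (g : W' ⟶ V), Etale g.left ∧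
      v ∈ Set.range g.left ∧ W4dec.HasUnivBddFibres ((AlgSp.yon S).map g ≫ ψ) := by
    intro v
    obtain ⟨i, u, hu⟩ := hsurj (AlgSp.Points.ofPt ψ v)
    obtain ⟨W, p, q, sq⟩ := Groth.Agent.Helper2.AlgSpBasic.exists_isPullback_yon
      X.property.diag (φ i) ψ
    obtain ⟨w, -, hw2⟩ := Groth.Agent.Helper2.AlgSpBasic.exists_point_of_isPullback_yon
      (φ i) ψ p q sq u v hu
    haveI hq : Etale q.left := (hφ i).property ψ ((AlgSp.yon S).map p) q sq
    obtain ⟨W', j, _, hj, hwj, hbd⟩ := Groth.Agent.Helper2.UBSp.exists_affine_nbhd_bdd X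
      (φ i) ψ (hφ i) hψ (hb i) p q sq w
    refine ⟨W', j ≫ q, ?_, ?_, hbd⟩
    · show Etale (j.left ≫ q.left)
      infer_instance
    · obtain ⟨z, hz⟩ := hwj
      refine ⟨z, ?_⟩
      show q.left (j.left z) = v
      rw [hz, hw2]
  choose W' g hg hv hbd using hloc
  haveI : ∀ v, Etale (g v).left := hg
  have hopen : ∀ v, IsOpen (Set.range (g v).left) := fun v => (g v).left.isOpenMap.isOpen_range
  obtain ⟨t, ht⟩ := isCompact_univ.elim_finite_subcover (fun v => Set.range (g v).left) hopen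
    (fun v _ => Set.mem_iUnion.2 ⟨v, hv v⟩)
  refine Groth.Agent.Helper2.UBSp.hasUnivBddFibres_of_flat_cover ψ (κ := ↥t)
    (fun k => W' k.1) (fun k => g k.1) ?_ (fun k => hbd k.1)
  intro v
  have := ht (Set.mem_univ v)
  simp only [Set.mem_iUnion] at this
  obtain ⟨k, hk, hvk⟩ := this
  exact ⟨⟨k, hk⟩, hvk⟩

end Groth.Agent.S10429
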