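import Groth.Statements.S10431
import Groth.Agent.S10429
import Groth.Agent.S10425
import Groth.Agent.Lib.Helper2.AlgSp.PointsMor


set_option autoImplicit false
universe u
open CategoryTheory CategoryTheory.Limits AlgebraicGeometry Topology TopologicalSpace
open AlgSp

namespace Groth.Agent.S10431

/-- Let S be a scheme, X and Y algebraic spaces over S, and X ⟶ Y a representable morphism. If every
etale morphism from an affine scheme to Y has universally bounded fibres, then so does every etale
morphism from an affine scheme to X. -/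
theorem result {S : Scheme.{u}} {X Y : AlgSp.Space S} (f : X ⟶ Y)
    (hf : AlgSp.Representable f.hom)
    (hY : ∀ (V : Over S) (ψ : (AlgSp.yon S).obj V ⟶ Y.obj), IsAffine V.left → AlgSp.RepWith @Etale ψ → W4dec.HasUnivBddFibres ψ)
    (U : Over S) (φ : (AlgSp.yon S).obj U ⟶ X.obj) (hU : IsAffine U.left) (hφ : AlgSp.RepWith @Etale φ) :
    W4dec.HasUnivBddFibres φ := by
  haveI := hU
  obtain ⟨κ, T, a, hTaff, hae, hsurj⟩ :=
    Groth.Agent.Helper2.AlgSpBasic.exists_affine_chartFamily Y.property
  have sqk : ∀ k, IsPullback (hf.fst (a k)) ((AlgSp.yon S).map (hf.snd (a k))) f.hom (a k) :=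
    fun k => hf.isPullback (a k)
  refine Groth.Agent.S10429.result X (fun k => hf.pullback (a k)) (fun k => hf.fst (a k))
    (fun k => ?_) ?_ (fun k => ?_) φ hφ
  · exact MorphismProperty.of_isPullback (P := AlgSp.RepWith @Etale) (sqk k).flip (hae k)
  · intro x
    obtain ⟨k, t, ht⟩ := hsurj (AlgSp.Points.map f.hom x)
    rw [AlgSp.Points.ofPt_eq_map_ofScheme] at ht
    obtain ⟨p, hp1, hp2⟩ := Groth.Agent.Helper2.AlgSpBasic.points_exists_of_isPullback
      f.hom (a k) ((AlgSp.yon S).map (hf.snd (a k))) (hf.fst (a k)) (sqk k).flip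
      (AlgSp.Points.ofScheme (T k) t) x ht
    obtain ⟨w, rfl⟩ := (AlgSp.Points.schemeHomeo (hf.pullback (a k))).surjective p
    refine ⟨k, w, ?_⟩
    rw [AlgSp.Points.ofPt_eq_map_ofScheme]
    exact hp2
  · exact Groth.Agent.S10425.result f hf (a k) (hY _ (a k) (hTaff k) (hae k))
      ((AlgSp.yon S).map (hf.snd (a k))) (hf.fst (a k)) (sqk k).flip

end Groth.Agent.S10431
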