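import Groth.Statements.S10432
import Groth.Agent.S10429
import Groth.Agent.S10426
import Groth.Agent.Lib.Helper2.AlgSp.PointsMor
import Groth.Agent.Lib.Helper2.AlgSp.OpenSub
import Groth.Agent.Lib.Helper2.AlgSp.Thick


set_option autoImplicit false
universe u
open CategoryTheory CategoryTheory.Limits AlgebraicGeometry Topology TopologicalSpace
open AlgSp

namespace Groth.Agent.S10432

/-- Let X be an algebraic space over a scheme S with a Zariski covering by open subspaces X_i ⟶ X such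
that every etale morphism from an affine scheme to X_i has universally bounded fibres. Then every
etale morphism from an affine scheme to X has universally bounded fibres. -/
theorem result {S : Scheme.{u}} (X : AlgSp.Space S) {ι : Type u}
    (Xi : ι → AlgSp.Space S) (j : ∀ i, Xi i ⟶ X) (hj : AlgSp.IsZarCover (fun i => (Xi i).obj) (fun i => (j i).hom))
    (h : ∀ (i : ι) (V : Over S) (ψ : (AlgSp.yon S).obj V ⟶ (Xi i).obj), IsAffine V.left → AlgSp.RepWith @Etale ψ → W4dec.HasUnivBddFibres ψ)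
    (U : Over S) (φ : (AlgSp.yon S).obj U ⟶ X.obj) (hU : IsAffine U.left) (hφ : AlgSp.RepWith @Etale φ) :
    W4dec.HasUnivBddFibres φ := by
  haveI := hU
  obtain ⟨hjo, hjs⟩ := hj
  have hch := fun i => Groth.Agent.Helper2.AlgSpBasic.exists_affine_chartFamily (Xi i).property
  choose κ T a hTaff hae hsurj using hch
  refine Groth.Agent.S10429.result X (ι := Σ i, κ i) (fun k => T k.1 k.2)
    (fun k => a k.1 k.2 ≫ (j k.1).hom) (fun k => ?_) ?_ (fun k => ?_) φ hφ
  · exact Groth.Agent.Helper2.AlgSpBasic.repWith_comp @Etale (hae k.1 k.2)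
      (Groth.Agent.Helper2.AlgSpBasic.repWith_isOpenImmersion_le_etale (hjo k.1))
  · intro x
    obtain ⟨i, y, rfl⟩ := hjs x
    obtain ⟨k, t, rfl⟩ := hsurj i y
    exact ⟨⟨i, k⟩, t, (AlgSp.Points.map_ofPt _ _ _).symm⟩
  · haveI : Mono (j k.1).hom :=
      Groth.Agent.Helper2.AlgSpBasic.mono_of_repWith_isOpenImmersion _ (hjo k.1)
    have sq : IsPullback (𝟙 _) (a k.1 k.2) (a k.1 k.2 ≫ (j k.1).hom) (j k.1).hom :=
      IsPullback.of_horiz_isIso_mono ⟨by simp⟩
    refine Groth.Agent.S10426.result (j k.1) (hjo k.1).rep (a k.1 k.2 ≫ (j k.1).hom) (𝟙 _)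
      (a k.1 k.2) sq ?_ (h k.1 _ (a k.1 k.2) (hTaff k.1 k.2) (hae k.1 k.2))
    rintro _ ⟨t, rfl⟩
    exact ⟨AlgSp.Points.ofPt (a k.1 k.2) t, AlgSp.Points.map_ofPt _ _ _⟩

end Groth.Agent.S10432
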