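import Groth.Statements.S10433
import Groth.Agent.Lib.Helper2.AlgSp.PtDeg2
import Groth.Agent.S10192


set_option autoImplicit false
universe u
open CategoryTheory CategoryTheory.Limits AlgebraicGeometry Topology TopologicalSpace
open AlgSp

namespace Groth.Agent.S10433

/-- Let S be a scheme, X an algebraic space over S, W a scheme over S, and W ⟶ X a morphism which is
flat, separated, locally of finite presentation and locally quasi-finite, with universally bounded
fibres. Then X has closed subspaces, each reduced, ∅ = Z_{-1} ⊆ Z_0 ⊆ ⋯ ⊆ Z_n with |Z_n| = |X| such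
that, putting X_r = Z_r ∖ Z_{r-1}, for every morphism g : T ⟶ X the second projection W ×_X T ⟶ T is
a finite locally free morphism of degree r exactly when g(|T|) ⊆ |X_r|. (Indexing: Zs 0 = Z_{-1}, Zs
(r+1) = Z_r.) -/
theorem result {S : Scheme.{u}} (X : AlgSp.Space S) {W : Over S}
    (w : (AlgSp.yon S).obj W ⟶ X.obj) (hfl : AlgSp.RepWith @Flat w) (hfp : AlgSp.RepWith @LocallyOfFinitePresentation w)
    (hsep : AlgSp.RepWith @IsSeparated w) (hqf : AlgSp.RepWith @LocallyQuasiFinite w) (hb : W4dec.HasUnivBddFibres w) :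
    ∃ (n : ℕ) (Zs : ℕ → AlgSp.Space S) (i : ∀ r, Zs r ⟶ X),
      (∀ r, AlgSp.IsRedInduced (Set.range (AlgSp.Points.map (i r).hom)) (i r).hom) ∧
      IsEmpty (AlgSp.Points (Zs 0).obj) ∧ Set.range (AlgSp.Points.map (i (n + 1)).hom) = Set.univ ∧
      (∀ r, Set.range (AlgSp.Points.map (i r).hom) ⊆ Set.range (AlgSp.Points.map (i (r + 1)).hom)) ∧
      ∀ (r : ℕ) (T : AlgSp.Space S) (g : T ⟶ X) (P : AlgSp.Sp S) (fst : P ⟶ (AlgSp.yon S).obj W) (snd : P ⟶ T.obj),
        IsPullback fst snd w g.hom →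
          (AlgSp.IsFinLocFreeOfDegMor r snd ↔
            Set.range (AlgSp.Points.map g.hom) ⊆
              Set.range (AlgSp.Points.map (i (r + 1)).hom) \ Set.range (AlgSp.Points.map (i r).hom)) := by
  classical
  obtain ⟨n, hn⟩ := hb
  have hn' := (Groth.Agent.Helper2.PtDeg.degFibresLE_iff_forall w n).1 hn
  -- the closed sets
  obtain ⟨Zset, hZset⟩ : ∃ Zset : ℕ → Set (AlgSp.Points X.obj),
      Zset = fun r => {x | ∃ k, k < r ∧ Groth.Agent.Helper2.PtDeg.PtDegLE w x k} := ⟨_, rfl⟩
  have hmem : ∀ r x, x ∈ Zset r ↔ ∃ k, k < r ∧ Groth.Agent.Helper2.PtDeg.PtDegLE w x k := by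
    intro r x; rw [hZset]; exact Iff.rfl
  have hclosed : ∀ r, IsClosed (Zset r) := by
    intro r
    rcases r with _ | k
    · have : Zset 0 = ∅ := by
        ext x
        rw [hmem]
        simp
      rw [this]
      exact isClosed_empty
    · have : Zset (k + 1) = {x | Groth.Agent.Helper2.PtDeg.PtDegLE w x k} := by
        ext x
        rw [hmem]
        constructor
        · rintro ⟨k', hk', H⟩
          exact H.mono (by omega)
        · intro H
          exact ⟨k, by omega, H⟩
      rw [this]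
      exact Groth.Agent.Helper2.PtDeg.isClosed_ptDegLE w hfl hfp hsep hqf k
  choose Zs i hi using fun r => Groth.Agent.S10192.result X (Zset r) (hclosed r)
  have hrange : ∀ r, Set.range (AlgSp.Points.map (i r).hom) = Zset r := fun r => (hi r).2.1
  refine ⟨n, Zs, i, fun r => ⟨(hi r).1, rfl, (hi r).2.2⟩, ?_, ?_, ?_, ?_⟩
  · have h0 : Set.range (AlgSp.Points.map (i 0).hom) = ∅ := by
      rw [hrange]
      ext x
      rw [hmem]
      simp
    exact Set.range_eq_empty_iff.1 h0
  · rw [hrange]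
    ext x
    rw [hmem]
    simp only [Set.mem_univ, iff_true]
    exact ⟨n, by omega, hn' x⟩
  · intro r
    rw [hrange, hrange]
    intro x hx
    rw [hmem] at hx ⊢
    obtain ⟨k, hk, H⟩ := hx
    exact ⟨k, by omega, H⟩
  · intro r T g P fst snd sq
    rw [Groth.Agent.Helper2.PtDeg.isFinLocFreeOfDegMor_iff w hfl hfp hsep hqf r g.hom fst snd sq,
      hrange, hrange]
    constructor
    · rintro H _ ⟨τ, rfl⟩
      obtain ⟨H1, H2⟩ := H τ
      refine ⟨(hmem _ _).2 ⟨r, by omega, H1⟩, fun hx => ?_⟩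
      obtain ⟨k, hk, Hk⟩ := (hmem _ _).1 hx
      have := H2 k Hk
      omega
    · intro H τ
      obtain ⟨h1, h2⟩ := H ⟨τ, rfl⟩
      obtain ⟨k, hk, Hk⟩ := (hmem _ _).1 h1
      refine ⟨Hk.mono (by omega), fun k' Hk' => ?_⟩
      by_contra hlt
      exact h2 ((hmem _ _).2 ⟨k', by omega, Hk'⟩)

end Groth.Agent.S10433
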