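import Groth.Statements.S10441
import Groth.Agent.Lib.Helper2.AlgSp.ElemNbhdBranches


set_option autoImplicit false
universe u
open CategoryTheory CategoryTheory.Limits AlgebraicGeometry Topology TopologicalSpace
open AlgSp

namespace Groth.Agent.S10441

/-- For a decent algebraic space X over a scheme S and x ∈ |X|, fix an elementary etale neighbourhood
(U₀, u₀) of (X, x) and a henselization R of O_{U₀, u₀} (a model of the henselian local ring at x).
The following are equivalent: (1) O_{U, u} has exactly one minimal prime whenever (U, u) is an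
elementary etale neighbourhood of (X, x); (2) a unique irreducible component of U passes through u
for all such (U, u); (3) O_{U, u} is unibranch for all such (U, u); (4) R has exactly one minimal
prime. -/
theorem result {S : Scheme.{u}} (X : AlgSp.Space S)
    (hX : AlgSp.IsDecent X.obj) (x : AlgSp.Points X.obj) {U₀ : Over S}
    (a₀ : (AlgSp.yon S).obj U₀ ⟶ X.obj) (u₀ : ↥U₀.left) (h₀ : AlgSp.IsElemEtaleNbhd a₀ u₀ x)
    (R : Type u) [CommRing R] [IsLocalRing R] [Algebra ↥(U₀.left.presheaf.stalk u₀) R]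
    [IsLocalHom (algebraMap ↥(U₀.left.presheaf.stalk u₀) R)] [Hensel.IsHenselization ↥(U₀.left.presheaf.stalk u₀) R] :
    ((∀ (U : Over S) (a : (AlgSp.yon S).obj U ⟶ X.obj) (u : ↥U.left), AlgSp.IsElemEtaleNbhd a u x →
        CAlgX.HasUniqueMinimalPrime ↥(U.left.presheaf.stalk u)) ↔
      (∀ (U : Over S) (a : (AlgSp.yon S).obj U ⟶ X.obj) (u : ↥U.left), AlgSp.IsElemEtaleNbhd a u x →
        {Z : Set ↥U.left | Z ∈ irreducibleComponents ↥U.left ∧ u ∈ Z}.encard = 1)) ∧
    ((∀ (U : Over S) (a : (AlgSp.yon S).obj U ⟶ X.obj) (u : ↥U.left), AlgSp.IsElemEtaleNbhd a u x →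
        {Z : Set ↥U.left | Z ∈ irreducibleComponents ↥U.left ∧ u ∈ Z}.encard = 1) ↔
      (∀ (U : Over S) (a : (AlgSp.yon S).obj U ⟶ X.obj) (u : ↥U.left), AlgSp.IsElemEtaleNbhd a u x →
        CAlg2.IsUnibranch ↥(U.left.presheaf.stalk u))) ∧
    ((∀ (U : Over S) (a : (AlgSp.yon S).obj U ⟶ X.obj) (u : ↥U.left), AlgSp.IsElemEtaleNbhd a u x →
        CAlg2.IsUnibranch ↥(U.left.presheaf.stalk u)) ↔ CAlgX.HasUniqueMinimalPrime R) := by
  have hA : AlgSp.IsAlgSpace X.obj := X.property
  have hN : (minimalPrimes R).encard = Brnch.numBranchesAt U₀.left u₀ :=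
    Groth.Agent.Helper8.HensGU.card_minimalPrimes_henselization _ R
  have hc := Groth.Agent.Helper2.ElemNbhdBranches.components_conditions_iff hA x 1 le_rfl a₀ u₀ h₀
  have hb := Groth.Agent.Helper2.ElemNbhdBranches.branches_conditions_iff hA x (1 : ℕ∞) a₀ u₀ h₀
  have hU : ∀ (A : Type u) [CommRing A],
      CAlgX.HasUniqueMinimalPrime A ↔ (minimalPrimes A).encard = 1 := by
    intro A _
    rw [Set.encard_eq_one]
    constructor
    · rintro ⟨p, hp, huniq⟩
      exact ⟨p, Set.eq_singleton_iff_unique_mem.2 ⟨hp, huniq⟩⟩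
    · rintro ⟨p, hp⟩
      obtain ⟨h1, h2⟩ := Set.eq_singleton_iff_unique_mem.1 hp
      exact ⟨p, h1, h2⟩
  -- (2) ↔ N = 1
  have h2N : (∀ (U : Over S) (a : (AlgSp.yon S).obj U ⟶ X.obj) (u : ↥U.left),
      AlgSp.IsElemEtaleNbhd a u x →
        {Z : Set ↥U.left | Z ∈ irreducibleComponents ↥U.left ∧ u ∈ Z}.encard = 1) ↔
      Brnch.numBranchesAt U₀.left u₀ = 1 := by
    rw [← Nat.cast_one, ← hc]
    constructor
    · intro h
      exact ⟨fun U a u hu => by rw [Nat.cast_one]; exact (h U a u hu).le,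
        U₀, a₀, u₀, h₀, by rw [Nat.cast_one]; exact h U₀ a₀ u₀ h₀⟩
    · rintro ⟨h, -⟩ U a u hu
      have := h U a u hu
      rw [Nat.cast_one] at this
      exact le_antisymm this (Groth.Agent.Lead.GUnib.one_le_encard_components U.left u)
  -- (3) ↔ N = 1
  have h3N : (∀ (U : Over S) (a : (AlgSp.yon S).obj U ⟶ X.obj) (u : ↥U.left),
      AlgSp.IsElemEtaleNbhd a u x → CAlg2.IsUnibranch ↥(U.left.presheaf.stalk u)) ↔
      Brnch.numBranchesAt U₀.left u₀ = 1 := by
    constructor
    · intro h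
      exact (Groth.Agent.Lib.Helper4.BranchCount1.S9235_main _).2 (h U₀ a₀ u₀ h₀)
    · intro h U a u hu
      apply (Groth.Agent.Lib.Helper4.BranchCount1.S9235_main _).1
      show Brnch.numBranchesAt U.left u = 1
      rw [← h]
      exact Groth.Agent.Helper2.ElemNbhdBranches.numBranchesAt_eq hA x a a₀ u u₀ hu h₀
  refine ⟨?_, h2N.trans h3N.symm, ?_⟩
  · simp only [hU, Groth.Agent.Lead.GUnib.encard_components_eq]
  · rw [h3N, hU, hN]

end Groth.Agent.S10441
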