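import Groth.Statements.S10451
import Groth.Agent.Lib.Helper2.AlgSp.LqfFieldSch


set_option autoImplicit false
universe u
open CategoryTheory CategoryTheory.Limits AlgebraicGeometry Topology TopologicalSpace
open AlgSp

namespace Groth.Agent.S10451

/-- Let k be a field and X an algebraic space locally of finite type over k with dim X = 0. Then X is a
separated scheme and every quasi-compact open of X is affine. -/
theorem result (k : Type u) [Field k]
    (X : AlgSp.Space (Spec (CommRingCat.of k))) (p : X.obj ⟶ (AlgSp.yon (Spec (CommRingCat.of k))).obj (Over.mk (𝟙 _)))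
    (hp : AlgSp.LocP @LocallyOfFiniteType p) (hd : AlgSp.dim X.obj = 0) :
    ∃ (U : Over (Spec (CommRingCat.of k))) (_ : (AlgSp.yon (Spec (CommRingCat.of k))).obj U ≅ X.obj), U.left.IsSeparated ∧
      ∀ V : U.left.Opens, IsCompact (V : Set ↥U.left) → IsAffineOpen V := by
  have hlqf : AlgSp.LocP (@LocallyQuasiFinite ⊓ @LocallyOfFiniteType :
      MorphismProperty Scheme.{u}) p :=
    (Groth.Agent.Helper2.LqfFieldSp.main k X.obj p).mpr ⟨hp, hd.le⟩
  obtain ⟨W, ⟨e⟩⟩ :=
    Groth.Agent.Helper2.LqfFieldSch.exists_iso_yon_of_lqf_field k X.property p hlqf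
  obtain ⟨hq, hft⟩ := Groth.Agent.Helper2.LqfFieldSch.chart_lqf k p hlqf e.hom
    (Groth.Agent.Helper2.AlgSpBasic.repWith_of_isIso @Etale e.hom)
  haveI := hq
  have : IsLocallyArtinian W.left := IsLocallyArtinian.of_locallyQuasiFinite W.hom
  refine ⟨W, e, ?_, ?_⟩
  · haveI : LocallyQuasiFinite (pullback.fst W.hom W.hom ≫ W.hom) := inferInstance
    have : IsLocallyArtinian (pullback W.hom W.hom) :=
      IsLocallyArtinian.of_locallyQuasiFinite (pullback.fst W.hom W.hom ≫ W.hom)
    have h1 : IsClosedImmersion (pullback.diagonal W.hom) :=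
      IsClosedImmersion.of_isPreimmersion _ (isClosed_discrete _)
    have : IsSeparated W.hom := ⟨h1⟩
    have h2 : IsSeparated (W.hom ≫ terminal.from (Spec (CommRingCat.of k))) := inferInstance
    have h3 : terminal.from W.left = W.hom ≫ terminal.from (Spec (CommRingCat.of k)) :=
      terminal.hom_ext _ _
    refine ⟨?_⟩
    rw [h3]
    exact h2
  · intro V hV
    have : CompactSpace ↥(V : Scheme.{u}) := isCompact_iff_compactSpace.mp hV
    have hqc : QuasiCompact (V.ι ≫ W.hom) :=
      (HasAffineProperty.iff_of_isAffine (P := @QuasiCompact)).mpr inferInstance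
    have hfin : IsFinite (V.ι ≫ W.hom) := IsFinite.of_locallyQuasiFinite _
    exact isAffine_of_isAffineHom (V.ι ≫ W.hom)

end Groth.Agent.S10451
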