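import Groth.Statements.S10468
import Groth.Agent.Lib.Helper2.AlgSp.FieldConn
open Groth.Agent.Helper2.FieldConn Groth.Agent.Helper2.FieldBC

set_option autoImplicit false
universe u
open CategoryTheory CategoryTheory.Limits AlgebraicGeometry Topology TopologicalSpace
open AlgSp

namespace Groth.Agent.S10468

/-- Let k be a field with separable algebraic closure k̄ and X an algebraic space over k. Then X is
geometrically connected if and only if X_{k̄} is connected. -/
theorem result (k : Type u) [Field k] (X : AlgSp.Space (Spec (CommRingCat.of k)))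
    (kbar : Type u) [Field kbar] [Algebra k kbar] [IsSepClosure k kbar] :
    (∀ (K : Type u) [Field K] [Algebra k K], ConnectedSpace (AlgSp.Points (X.obj ⨯ (AlgSp.yon (Spec (CommRingCat.of k))).obj (Over.mk (Spec.map (CommRingCat.ofHom (algebraMap k K))))))) ↔ ConnectedSpace (AlgSp.Points (X.obj ⨯ (AlgSp.yon (Spec (CommRingCat.of k))).obj (Over.mk (Spec.map (CommRingCat.ofHom (algebraMap k kbar)))))) := by
  have : IsSepClosed kbar := IsSepClosure.sep_closed (k := k)
  constructor
  · intro H
    exact H kbar
  · intro H K _ _
    obtain ⟨Ω, hΩf, hΩk, hΩk', hΩt, ⟨ψ⟩⟩ := exists_compositum (k := k) kbar K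
    have : ConnectedSpace (Points (X.obj ⨯ (yon _).obj (SK (k := k) Ω))) :=
      connectedSpace_bc_of_isSepClosed X.property (IsScalarTower.toAlgHom k kbar Ω)
    exact connectedSpace_bc_of_algHom (X := X.obj) ψ

end Groth.Agent.S10468
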