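import Groth.Statements.S10478
import Mathlib
import Groth.Agent.Lib.Helper2.AlgSp.FieldBC
import Groth.Agent.S1610

set_option autoImplicit false
universe u
open CategoryTheory CategoryTheory.Limits AlgebraicGeometry Topology TopologicalSpace
open AlgSp

namespace Groth.Agent.S10478

/-- (3) ⇒ (2): let k be a field of characteristic p > 0 and X an algebraic space over k. If X_{k'} is
reduced whenever k' is a finite purely inseparable extension of k, then X_K is reduced for every
field extension K of k. -/
theorem result (k : Type u) [Field k] (p : ℕ) [Fact p.Prime]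
    [CharP k p] (X : AlgSp.Space (Spec (CommRingCat.of k)))
    (h : ∀ (k' : Type u) [Field k'] [Algebra k k'], Module.Finite k k' → IsPurelyInseparable k k' →
      AlgSp.EtaleLocally (fun U => IsReduced U) (X.obj ⨯ (AlgSp.yon (Spec (CommRingCat.of k))).obj (Over.mk (Spec.map (CommRingCat.ofHom (algebraMap k k'))))))
    (K : Type u) [Field K] [Algebra k K] : AlgSp.EtaleLocally (fun U => IsReduced U) (X.obj ⨯ (AlgSp.yon (Spec (CommRingCat.of k))).obj (Over.mk (Spec.map (CommRingCat.ofHom (algebraMap k K))))) := by
  apply Groth.Agent.Helper2.FieldBC.isReducedSp_bc_of_geomReduced K X.property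
  intro x
  obtain ⟨U, a, hae, has⟩ := X.property.atlas
  obtain ⟨u, hu⟩ := Groth.Agent.Helper2.AlgSpBasic.surjective_ofPt a has x
  refine ⟨U, a, u, hae, hu, ?_⟩
  let _ : U.left.Over (Spec (CommRingCat.of k)) := ⟨U.hom⟩
  refine (Groth.Agent.S1610.main k p U.left u).mpr ?_
  intro k' _ _ _ _ x' _
  have hred : AlgebraicGeometry.IsReduced (Groth.Agent.Helper2.FieldBC.UK k' U).left :=
    Groth.Agent.Helper2.AlgSpBasic.isReduced_of_etale_of_isReducedSp (h k' inferInstance inferInstance)
      (Groth.Agent.Helper2.FieldBC.chartK k' a)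
      (Groth.Agent.Helper2.FieldBC.repWith_chartK k' @Etale a hae)
  exact (inferInstance : _root_.IsReduced
    ((Groth.Agent.Helper2.FieldBC.UK k' U).left.presheaf.stalk x'))

end Groth.Agent.S10478
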