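import Groth.Statements.S10492
import Groth.Agent.Lib.Helper2.AlgSp.NormalIntegralChart


set_option autoImplicit false
universe u
open CategoryTheory CategoryTheory.Limits AlgebraicGeometry Topology TopologicalSpace
open AlgSp

namespace Groth.Agent.S10492

/-- Let X be a normal integral algebraic space over a scheme S. Each point x of X lies in the image of
some etale morphism U ⟶ X from an affine scheme U that is normal and integral. -/
theorem result {S : Scheme.{u}} (X : AlgSp.Space S)
    (hXi : AlgSp.IsIntegralSp X.obj)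
    (hXn : AlgSp.EtaleLocally (fun U => ∀ u : ↥U, IsDomain ↥(U.presheaf.stalk u) ∧
      IsIntegrallyClosed ↥(U.presheaf.stalk u)) X.obj)
    (x : AlgSp.Points X.obj) :
    ∃ (U : Over S) (a : (AlgSp.yon S).obj U ⟶ X.obj), AlgSp.RepWith @Etale a ∧ IsAffine U.left ∧
      IsIntegral U.left ∧ IsIntegrallyClosed ↥Γ(U.left, ⊤) ∧ x ∈ Set.range (AlgSp.Points.ofPt a) := by
  obtain ⟨-, hXd, hXirr⟩ := hXi
  haveI := hXirr
  have hXf : (irreducibleComponents (AlgSp.Points X.obj)).Finite := by
    rw [irreducibleComponents_eq_singleton]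
    exact Set.finite_singleton _
  obtain ⟨U, a, hae, hUa, hUi, hUn, hx⟩ :=
    Groth.Agent.Helper2.Birat.exists_normal_integral_chart X hXd hXf hXn x
  haveI := hUi
  haveI : Nonempty ↥((⊤ : U.left.Opens) : Scheme.{u}) := by
    obtain ⟨u⟩ := (inferInstance : Nonempty ↥U.left)
    exact ⟨⟨u, trivial⟩⟩
  exact ⟨U, a, hae, hUa, hUi,
    Groth.Agent.S4808.H4808.intClosed_sections (fun y => (hUn y).2) ⊤, hx⟩

end Groth.Agent.S10492
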