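import Groth.Statements.S10497
import Groth.Agent.Lib.Helper2.AlgSp.FieldBC
import Groth.Agent.Lib.Helper2.AlgSp.Coprod
import Groth.Agent.Lib.Helper2.AlgSp.DecentLocal
import Groth.Agent.S2521
import Groth.Agent.S10383


set_option autoImplicit false
universe u
open CategoryTheory CategoryTheory.Limits AlgebraicGeometry Topology TopologicalSpace
open AlgSp

namespace Groth.Agent.S10497

/-- Let k be a field and X a decent algebraic space over k. Then all base changes X_K to field
extensions K of k are integral exactly when X is geometrically reduced over k and every |X_K| is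
irreducible. -/
theorem result (k : Type u) [Field k] (X : AlgSp.Space (Spec (CommRingCat.of k))) (hX : AlgSp.IsDecent X.obj) :
    (∀ (K : Type u) [Field K] [Algebra k K], AlgSp.IsIntegralSp (X.obj ⨯ (AlgSp.yon (Spec (CommRingCat.of k))).obj (Over.mk (Spec.map (CommRingCat.ofHom (algebraMap k K)))))) ↔
      (∀ x : AlgSp.Points X.obj, (∃ (U : Over (Spec (CommRingCat.of k))) (a : (AlgSp.yon (Spec (CommRingCat.of k))).obj U ⟶ X.obj) (u : ↥U.left),
      AlgSp.RepWith @Etale a ∧ AlgSp.Points.ofPt a u = x ∧ FBase.IsGeomReducedAt U.hom u)) ∧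
        ∀ (K : Type u) [Field K] [Algebra k K], IrreducibleSpace (AlgSp.Points (X.obj ⨯ (AlgSp.yon (Spec (CommRingCat.of k))).obj (Over.mk (Spec.map (CommRingCat.ofHom (algebraMap k K)))))) := by
  constructor
  · intro h
    refine ⟨?_, fun K _ _ => (h K).2.2⟩
    intro x
    have hbar := (h (AlgebraicClosure k)).1
    obtain ⟨U, a, hae, has⟩ := X.property.atlas
    obtain ⟨u, hu⟩ := Groth.Agent.Helper2.AlgSpBasic.surjective_ofPt a has x
    refine ⟨U, a, u, hae, hu, ?_⟩
    obtain ⟨u', hu'⟩ := Groth.Agent.Helper2.FieldBC.surjective_bcπ (AlgebraicClosure k) U u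
    have hred : AlgebraicGeometry.IsReduced
        (Groth.Agent.Helper2.FieldBC.UK (AlgebraicClosure k) U).left :=
      Groth.Agent.Helper2.AlgSpBasic.isReduced_of_etale_of_isReducedSp hbar
        (Groth.Agent.Helper2.FieldBC.chartK (AlgebraicClosure k) a)
        (Groth.Agent.Helper2.FieldBC.repWith_chartK (AlgebraicClosure k) @Etale a hae)
    refine Groth.Agent.S2521.main U.hom u u' hu' ?_
    exact (inferInstance : _root_.IsReduced
      ((Groth.Agent.Helper2.FieldBC.UK (AlgebraicClosure k) U).left.presheaf.stalk u'))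
  · rintro ⟨hgr, hirr⟩ K _ _
    refine ⟨Groth.Agent.Helper2.FieldBC.isReducedSp_bc_of_geomReduced K X.property hgr, ?_, hirr K⟩
    have hT := Groth.Agent.Helper2.Coprod.isTerminalYonId (Spec (CommRingCat.of k))
    let T : AlgSp.Space (Spec (CommRingCat.of k)) :=
      ⟨(AlgSp.yon (Spec (CommRingCat.of k))).obj (Over.mk (𝟙 _)), AlgSp.IsAlgSpace.yon_obj _⟩
    let Z : AlgSp.Space (Spec (CommRingCat.of k)) :=
      ⟨(AlgSp.yon (Spec (CommRingCat.of k))).obj
        (Over.mk (Spec.map (CommRingCat.ofHom (algebraMap k K)))), AlgSp.IsAlgSpace.yon_obj _⟩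
    have sq0 : IsPullback (prod.fst : X.obj ⨯ Z.obj ⟶ X.obj) prod.snd (hT.from X.obj)
        (hT.from Z.obj) :=
      IsPullback.of_isLimit_binaryFan_of_isTerminal (limit.isLimit (pair X.obj Z.obj)) hT
    have hP : AlgSp.IsAlgSpace (X.obj ⨯ Z.obj) :=
      Groth.Agent.Helper2.AlgSpBasic.isAlgSpace_of_isPullback T.property.diag X.property Z.property
        _ _ _ _ sq0
    let P : AlgSp.Space (Spec (CommRingCat.of k)) := ⟨X.obj ⨯ Z.obj, hP⟩
    exact Groth.Agent.S10383.result (X := X) (Y := T) (Z := Z) (P := P)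
      (ObjectProperty.homMk (hT.from X.obj)) (ObjectProperty.homMk (hT.from Z.obj))
      (ObjectProperty.homMk prod.fst) (ObjectProperty.homMk prod.snd) sq0 hX
      (Groth.Agent.Helper2.DecentLocal.isDecent_yon _)

end Groth.Agent.S10497
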