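import Groth.Statements.S10498
-- import your own Groth.Agent.* helpers here
import Mathlib
import Groth.Agent.Lib.Helper7.SHens.BaseChangeReduced

set_option autoImplicit false
universe u
open TensorProduct
open Hensel

namespace Groth.Agent.S10498

/-- (1) ⇔ (2): let k be a field, A a local k-algebra and R a strict henselization of A. Then A is
geometrically reduced over k (K ⊗_k A reduced for every field extension K of k) if and only if R is
geometrically reduced over k. -/
theorem result (k : Type u) [Field k]
    (A : Type u) [CommRing A] [IsLocalRing A] [Algebra k A]
    (R : Type u) [CommRing R] [IsLocalRing R] [Algebra A R] [IsLocalHom (algebraMap A R)]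
    [Hensel.IsStrictHenselization A R] [Algebra k R] [IsScalarTower k A R] :
    (∀ (K : Type u) [Field K] [Algebra k K], IsReduced (TensorProduct k K A)) ↔
      ∀ (K : Type u) [Field K] [Algebra k K], IsReduced (TensorProduct k K R) := by
  have hff : Module.FaithfullyFlat A R :=
    Groth.Agent.Helper7.SHens.faithfullyFlat_of_isStrictHenselization A R
  constructor
  · intro h K _ _
    -- `B = A ⊗[k] K` is reduced
    have h1 : IsReduced (TensorProduct k K A) := h K
    have h2 : IsReduced (TensorProduct k A K) :=
      isReduced_of_injective (Algebra.TensorProduct.comm k A K).toAlgHom
        (Algebra.TensorProduct.comm k A K).injective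
    have h3 : IsReduced (TensorProduct A (TensorProduct k A K) R) :=
      Groth.Agent.Helper7.SHens.isReduced_tensor_of_isStrictHenselization A R (TensorProduct k A K)
    let e1 : TensorProduct k K R ≃+* TensorProduct k R K :=
      (Algebra.TensorProduct.comm k K R).toRingEquiv
    let e2 : TensorProduct k R K ≃+* TensorProduct A R (TensorProduct k A K) :=
      (Algebra.TensorProduct.cancelBaseChange k A A R K).symm.toRingEquiv
    let e3 : TensorProduct A R (TensorProduct k A K) ≃+* TensorProduct A (TensorProduct k A K) R :=
      (Algebra.TensorProduct.comm A R (TensorProduct k A K)).toRingEquiv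
    exact isReduced_of_injective ((e1.trans e2).trans e3).toRingHom ((e1.trans e2).trans e3).injective
  · intro h K _ _
    have h1 : IsReduced (TensorProduct k K R) := h K
    let φ : TensorProduct k K A →ₐ[k] TensorProduct k K R :=
      Algebra.TensorProduct.map (AlgHom.id k K) (IsScalarTower.toAlgHom k A R)
    have hinj : Function.Injective φ := by
      have h2 : Function.Injective (IsScalarTower.toAlgHom k A R).toLinearMap :=
        FaithfulSMul.algebraMap_injective A R
      exact Module.Flat.lTensor_preserves_injective_linearMap (M := K) _ h2
    exact isReduced_of_injective φ hinj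

end Groth.Agent.S10498
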