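import Groth.Statements.S1050
import Groth.Agent.Lib.Helper3.SerreSub4

set_option autoImplicit false
universe w w' v u
open CategoryTheory CategoryTheory.Limits
open CohDer

namespace Groth.Agent.S1050

/-- Let P be a Serre class in an abelian category A (so that the full subcategory on P is abelian; its
closure under kernels, cokernels, finite products and the exactness of the inclusion are carried as
instance hypotheses) such that for every epimorphism X ⟶ Y with P Y there is a subobject X' of X
with P X' mapping onto Y. Then the induced functor D(P) ⥤ D(A) is fully faithful on bounded above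
objects, and every bounded above object of D(A) all of whose cohomology objects satisfy P is in its
essential image from a bounded above object; that is, D⁻(P) ≃ D⁻_P(A). -/
theorem result {A : Type u} [Category.{v} A] [Abelian A] [HasDerivedCategory.{w} A]
    (P : ObjectProperty A) [P.IsSerreClass] [P.IsClosedUnderKernels] [P.IsClosedUnderCokernels]
    [P.IsClosedUnderFiniteProducts] [HasDerivedCategory.{w'} P.FullSubcategory]
    [PreservesFiniteLimits P.ι] [PreservesFiniteColimits P.ι]
    (hlift : ∀ (X Y : A) (π : X ⟶ Y), Epi π → P Y → ∃ (X' : A) (i : X' ⟶ X), Mono i ∧ P X' ∧ Epi (i ≫ π)) :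
    (∀ (M N : DerivedCategory P.FullSubcategory) (b : ℤ), M.IsLE b → N.IsLE b →
      Function.Bijective (fun φ : M ⟶ N => P.ι.mapDerivedCategory.map φ)) ∧
    ∀ (K : DerivedCategory A) (b : ℤ), K.IsLE b → (∀ n : ℤ, P ((DerivedCategory.homologyFunctor A n).obj K)) →
      ∃ M : DerivedCategory P.FullSubcategory, M.IsLE b ∧ Nonempty (P.ι.mapDerivedCategory.obj M ≅ K) := by
  open Groth.Agent.Helper3.SerreSub DerivedCategory in
  refine ⟨?_, fun K b hK hP => essSurj_part hlift K b hK hP⟩
  intro M N b hM hN
  obtain ⟨M₀, hM₀, ⟨eM⟩⟩ := M.exists_iso_Q_obj_of_isLE b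
  obtain ⟨N₀, hN₀, ⟨eN⟩⟩ := N.exists_iso_Q_obj_of_isLE b
  have hinj := injective_of_Q hlift M₀ N₀ b
  have hsurj := surjective_of_Q hlift M₀ N₀ b
  constructor
  · intro φ₁ φ₂ h
    dsimp only at h
    have h' : P.ι.mapDerivedCategory.map (eM.inv ≫ φ₁ ≫ eN.hom) =
        P.ι.mapDerivedCategory.map (eM.inv ≫ φ₂ ≫ eN.hom) := by
      simp only [Functor.map_comp, h]
    have h'' := hinj h'
    rwa [cancel_epi, cancel_mono] at h''
  · intro ψ
    obtain ⟨φ', hφ'⟩ := hsurj (P.ι.mapDerivedCategory.map eM.inv ≫ ψ ≫
      P.ι.mapDerivedCategory.map eN.hom)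
    dsimp only at hφ'
    refine ⟨eM.hom ≫ φ' ≫ eN.inv, ?_⟩
    dsimp only
    rw [Functor.map_comp, Functor.map_comp, hφ']
    simp only [Category.assoc, ← Functor.map_comp, Iso.hom_inv_id]
    rw [← Functor.map_comp_assoc, Iso.hom_inv_id]
    simp


end Groth.Agent.S1050
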