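import Groth.Statements.S10509
import Mathlib
import Groth.Agent.Lib.Helper2.Sch.SmoothSlice
import Groth.Agent.Lib.Helper2.AlgSp.Source
import Groth.Agent.Lib.Helper2.EtaleLocalSmooth

open Groth.Agent.Helper2.SchLib Groth.Agent.Helper2.AlgSpBasic Groth.Agent.Helper2.EtaleLocal

set_option autoImplicit false
universe u
open CategoryTheory CategoryTheory.Limits AlgebraicGeometry
open AlgSp

namespace Groth.Agent.S10509

/-- A smooth covering of an algebraic space `X` over `S` by algebraic spaces can be refined by an etale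
covering of `X` by algebraic spaces: there is an etale covering `{U_j ⟶ X}` each member of which
factors through some member of the given smooth covering. -/
theorem result {S : Scheme.{u}} (X : AlgSp.Space S) {ι : Type u}
    (Xi : ι → AlgSp.Space S) (g : ∀ i, Xi i ⟶ X)
    (h : AlgSp.IsSmCover (fun i => (Xi i).obj) (fun i => (g i).hom)) :
    ∃ (κ : Type u) (U : κ → AlgSp.Space S) (c : ∀ j, U j ⟶ X),
      AlgSp.IsEtCover (fun j => (U j).obj) (fun j => (c j).hom) ∧
      ∀ j, ∃ (i : ι) (r : U j ⟶ Xi i), r ≫ g i = c j := by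
  obtain ⟨W, p, hpe, hps⟩ := X.property.atlas
  choose Wi d e he hRd hcomm hpt using fun i =>
    exists_chart_of_family_member @Smooth X.property (Xi i).property (g i).hom (h.1 i) p
  have hw : ∀ w : W.left, ∃ (i : ι) (wi : (Wi i).left), (d i).left wi = w := by
    intro w
    obtain ⟨i, x, hx⟩ := h.2 (AlgSp.Points.ofPt p w)
    obtain ⟨u', hu'⟩ := hpt i w x hx
    exact ⟨i, u', hu'⟩
  choose idx wi hwi using hw
  have hsl : ∀ w : W.left, ∃ (T : Scheme.{u}) (t : T ⟶ W.left) (s' : T)
      (σ : T ⟶ (Wi (idx w)).left), Etale t ∧ t s' = w ∧ σ ≫ (d (idx w)).left = t := by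
    intro w
    haveI : Smooth (d (idx w)).left := hRd _
    obtain ⟨T, t, s', σ, ht, hs', hσ⟩ := exists_etale_section_of_smooth (d (idx w)).left (wi w)
    exact ⟨T, t, s', σ, ht, by rw [hs', hwi], hσ⟩
  choose T t s' σ ht hts hσ using hsl
  let To : W.left → Over S := fun w => Over.mk (t w ≫ W.hom)
  let tq : ∀ w, To w ⟶ W := fun w => Over.homMk (t w) rfl
  let σo : ∀ w, To w ⟶ Wi (idx w) := fun w => Over.homMk (σ w) (by
    show σ w ≫ (Wi (idx w)).hom = t w ≫ W.hom
    rw [← hσ w, Category.assoc, Over.w])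
  have hσo : ∀ w, σo w ≫ d (idx w) = tq w := fun w => by
    ext
    exact hσ w
  refine ⟨W.left, fun w => ⟨(yon S).obj (To w), AlgSp.IsAlgSpace.yon_obj _⟩,
    fun w => ObjectProperty.homMk ((yon S).map (tq w) ≫ p), ⟨?_, ?_⟩, ?_⟩
  · intro w U φ hφ
    exact repWith_comp @Etale hφ
      (repWith_comp @Etale ((AlgSp.repWith_yon_map_iff @Etale _).2 (ht w)) hpe)
  · intro x
    obtain ⟨w, rfl⟩ := surjective_ofPt p hps x
    refine ⟨w, AlgSp.Points.ofScheme (To w) (s' w), ?_⟩
    show AlgSp.Points.map ((yon S).map (tq w) ≫ p) (AlgSp.Points.ofScheme (To w) (s' w)) = _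
    rw [← AlgSp.Points.ofPt_eq_map_ofScheme, ofPt_yon_map_comp]
    exact congrArg _ (hts w)
  · intro w
    refine ⟨idx w, ObjectProperty.homMk ((yon S).map (σo w) ≫ e (idx w)), ?_⟩
    apply ObjectProperty.hom_ext
    show ((yon S).map (σo w) ≫ e (idx w)) ≫ (g (idx w)).hom = (yon S).map (tq w) ≫ p
    rw [Category.assoc, hcomm, ← Category.assoc, ← Functor.map_comp, hσo]

end Groth.Agent.S10509
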