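import Groth.Statements.S10510
import Mathlib
import Groth.Agent.Lib.Helper2.AlgSp.EpiPullback
import Groth.Agent.Lib.Helper2.AlgSp.Mono
import Groth.Agent.Lib.Helper2.AlgSp.LocP

open Groth.Agent.Helper2.AlgSpBasic Groth.Agent.Helper2.EpiPullback Groth.Agent.Helper2.AlgSpFormal Groth.Agent.Helper2.EtaleLocal

set_option autoImplicit false
universe u
open CategoryTheory CategoryTheory.Limits AlgebraicGeometry
open AlgSp

namespace Groth.Agent.S10510

/-- An fppf covering `{X_i ⟶ X}` of an algebraic space `X` over `S` by algebraic spaces is jointly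
surjective as a family of maps of fppf sheaves: every `h_T ⟶ X` from a scheme `T` over `S` lifts,
locally for the fppf topology on `T`, through members of the family. -/
theorem result {S : Scheme.{u}} (X : AlgSp.Space S) {ι : Type u}
    (Xi : ι → AlgSp.Space S) (g : ∀ i, Xi i ⟶ X)
    (h : AlgSp.IsFppfCover (fun i => (Xi i).obj) (fun i => (g i).hom))
    (T : Over S) (t : (AlgSp.yon S).obj T ⟶ X.obj) :
    ∃ (κ : Type u) (Tk : κ → Over S) (c : ∀ k, Tk k ⟶ T),
      Sieve.ofArrows Tk c ∈ AlgSp.J S T ∧
      ∀ k, ∃ (i : ι) (l : (AlgSp.yon S).obj (Tk k) ⟶ (Xi i).obj), l ≫ (g i).hom = (AlgSp.yon S).map (c k) ≫ t := by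
  classical
  have hT : IsAlgSpace ((yon S).obj T) := IsAlgSpace.yon_obj T
  have hP : ∀ i, IsAlgSpace (pullback t (g i).hom) := fun i =>
    isAlgSpace_of_isPullback X.property.diag hT (Xi i).property t (g i).hom _ _
      (IsPullback.of_hasPullback _ _)
  choose W a hae has using fun i => (hP i).atlas
  choose c hc using fun i => (yon S).map_surjective (a i ≫ pullback.fst t (g i).hom)
  have hfl : ∀ i, LocP @Flat (pullback.fst t (g i).hom) := fun i =>
    locP_of_isPullback @Flat (Xi i).property X.property hT (hP i) (g i).hom t _ _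
      (IsPullback.of_hasPullback t (g i).hom).flip (h.1 i).1
  have hlfp : ∀ i, LocP @LocallyOfFinitePresentation (pullback.fst t (g i).hom) := fun i =>
    locP_of_isPullback @LocallyOfFinitePresentation (Xi i).property X.property hT (hP i)
      (g i).hom t _ _ (IsPullback.of_hasPullback t (g i).hom).flip (h.1 i).2
  have hcomm : ∀ i, a i ≫ pullback.fst t (g i).hom = (yon S).map (c i) ≫ 𝟙 _ := fun i => by
    rw [hc, Category.comp_id]
  refine ⟨ι, W, c, ?_, fun i => ⟨i, a i ≫ pullback.snd _ _, ?_⟩⟩
  · apply ofArrows_mem_J W c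
    · intro i
      exact ⟨hfl i (a i) (𝟙 _) (c i) (hae i) (repWith_id _ T) (hcomm i),
        hlfp i (a i) (𝟙 _) (c i) (hae i) (repWith_id _ T) (hcomm i)⟩
    · intro x
      obtain ⟨i, xi, hxi⟩ := h.2 (Points.ofPt t x)
      rw [Points.ofPt_eq_map_ofScheme] at hxi
      obtain ⟨p, hp1, hp2⟩ := points_exists_of_isPullback (g i).hom t (pullback.fst t (g i).hom)
        (pullback.snd t (g i).hom) (IsPullback.of_hasPullback t (g i).hom)
        (Points.ofScheme T x) xi hxi.symm
      obtain ⟨w, rfl⟩ := isSurjectiveMor_of_repWith_surjective (a i) (has i) p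
      obtain ⟨w0, rfl⟩ := (Points.schemeHomeo (W i)).surjective w
      refine ⟨i, w0, ?_⟩
      have h1 : Points.map ((yon S).map (c i)) (Points.schemeHomeo (W i) w0) =
          Points.ofScheme T x := by
        rw [hc, Points.map_comp]
        exact hp1
      have h2 := Points.map_yon_map_apply (c i) w0
      exact (Points.schemeHomeo T).injective (h2.symm.trans h1)
  · rw [Category.assoc, ← pullback.condition, ← Category.assoc, hc]

end Groth.Agent.S10510
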