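import Groth.Statements.S1052
import Mathlib
import Groth.Agent.Lib.Helper3.K0Db
import Groth.Agent.Lib.Helper1.CohAbel
import Groth.Agent.Lib.Helper5.ProperPush.CohExt
import Groth.Agent.Lib.Helper5.Perf.LocalCoh

set_option autoImplicit false
universe u
open CategoryTheory CategoryTheory.Limits AlgebraicGeometry
attribute [local instance] HasDerivedCategory.standard
open KZero



namespace Groth.Agent.S1052

/-- Let X be a Noetherian scheme. There is an isomorphism between K₀(Coh(O_X)) (free abelian group on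
coherent O_X-modules modulo short exact sequences of coherent modules) and K₀(D^b_Coh(O_X)) (free
abelian group on bounded objects of D(O_X) with coherent cohomology modulo distinguished triangles
among them) which sends the class of a coherent module F to the class of F placed in degree 0. -/
theorem result (X : Scheme.{u}) [IsNoetherian X] :
    ∃ φ : KZero.K0sub (fun M : X.Modules => Coh.IsCoh M) ≃+
        KZero.K0tr (fun K : DCoh.D X => DCoh.IsCohD K ∧ ∃ a b : ℤ, K.IsGE a ∧ K.IsLE b),
      ∀ F : X.Modules, Coh.IsCoh F →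
        φ (KZero.clSub (fun M : X.Modules => Coh.IsCoh M) F) =
          KZero.clTr (fun K : DCoh.D X => DCoh.IsCohD K ∧ ∃ a b : ℤ, K.IsGE a ∧ K.IsLE b) (DCoh.inD X F) := by
  let P : ObjectProperty X.Modules := fun M : X.Modules => Coh.IsCoh M
  haveI h1 : ObjectProperty.IsClosedUnderIsomorphisms P :=
    ⟨fun {M N} e hM => Groth.Agent.Lib.Helper5.LocalCoh.isCoh_of_iso e hM⟩
  haveI h2 : ObjectProperty.ContainsZero P :=
    by
    obtain ⟨Z, hZ⟩ := (inferInstance : HasZeroObject X.Modules).zero
    exact ⟨⟨Z, hZ, Groth.Agent.Lib.Helper5.CohExt.isCoh_of_isZero Z hZ⟩⟩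
  haveI h3 : ObjectProperty.IsClosedUnderKernels P := by
    refine ⟨?_⟩
    rintro _ ⟨f, k, hk, hf⟩
    exact Groth.Agent.Lib.Helper5.LocalCoh.isCoh_of_iso
      (IsLimit.conePointUniqueUpToIso (kernelIsKernel f) hk)
      (Groth.Agent.Helper1.FtLocal.isCoh_kernel hf.1 hf.2 f)
  exact Groth.Agent.Helper3.K0Db.k0sub_main P
    (fun K : DCoh.D X => DCoh.IsCohD K ∧ ∃ a b : ℤ, K.IsGE a ∧ K.IsLE b) (fun K => Iff.rfl)

end Groth.Agent.S1052
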