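import Groth.Statements.S10547
import Mathlib
import Groth.Agent.Lib.Helper2.AlgSp.ImmDescent
import Groth.Agent.Lib.Helper2.EtaleLocal

open CategoryTheory CategoryTheory.Limits AlgebraicGeometry Opposite AlgSp
open Groth.Agent.Helper2.AlgSpBasic Groth.Agent.Helper2.ImmDescent

set_option autoImplicit false
universe u
open CategoryTheory CategoryTheory.Limits AlgebraicGeometry
open AlgSp

namespace Groth.Agent.S10547

/-- The property of morphisms of algebraic spaces over S given by immersions (representable by
immersions of schemes) is fppf local on the base: for an fppf covering of an algebraic space Y by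
algebraic spaces Y_i (each Y_i ⟶ Y flat and locally of finite presentation, jointly surjective on
points), a morphism f : X ⟶ Y of algebraic spaces and cartesian squares X_i = Y_i ×_Y X, f is an
immersion if and only if every X_i ⟶ Y_i is. -/
theorem result (S : Scheme.{u}) :
    AlgSp.IsLocalOnBase (AlgSp.IsFppfCover (S := S)) (AlgSp.RepWith @IsImmersion) := by
  intro κ Y Yi g hY hYi hcov X f hX Xi p q hXi sq
  constructor
  · intro hf i
    exact repWith_of_isPullback @IsImmersion (sq i) hf
  · intro hp
    choose U c hce hcs using fun i => (hYi i).atlas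
    have hflat : ∀ i, RepWith @Flat (c i ≫ g i) := fun i =>
      repWith_of_locP @Flat (IsAlgSpace.yon_obj _) hY _ (hY.representable_from_yon _)
        (locP_comp @Flat (IsAlgSpace.yon_obj _) (hYi i) hY (c i) (g i)
          (locP_of_repWith @Flat (IsAlgSpace.yon_obj _).diag (c i) (repWith_flat_of_etale (hce i)))
          (hcov.1 i).1)
    have hlfp : ∀ i, RepWith @LocallyOfFinitePresentation (c i ≫ g i) := fun i =>
      repWith_of_locP @LocallyOfFinitePresentation (IsAlgSpace.yon_obj _) hY _
        (hY.representable_from_yon _)
        (locP_comp @LocallyOfFinitePresentation (IsAlgSpace.yon_obj _) (hYi i) hY (c i) (g i)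
          (locP_of_repWith @LocallyOfFinitePresentation (IsAlgSpace.yon_obj _).diag (c i)
            (repWith_lfp_of_etale (hce i)))
          (hcov.1 i).2)
    refine repWith_isImmersion_of_fppf_charts f U (fun i => c i ≫ g i) hflat hlfp ?_
      (fun i => (hp i).rep.pullback (c i)) (fun i => (hp i).rep.fst (c i) ≫ q i)
      (fun i => (hp i).rep.snd (c i))
      (fun i => ((hp i).rep.isPullback (c i)).paste_horiz (sq i))
      (fun i => (hp i).property (c i) _ _ ((hp i).rep.isPullback (c i)))
    intro y
    obtain ⟨i, yi, hyi⟩ := hcov.2 y
    obtain ⟨v, hv⟩ := surjective_ofPt (c i) (hcs i) yi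
    refine ⟨i, v, ?_⟩
    rw [← Points.map_ofPt, hv, hyi]

end Groth.Agent.S10547
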