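import Groth.Statements.S10557
import Mathlib
import Groth.Agent.Lib.Helper2.AlgSp.LocSurjComp
import Groth.Agent.Lib.Helper3.FppfDesc3


set_option autoImplicit false
universe u
open CategoryTheory CategoryTheory.Limits AlgebraicGeometry
open AlgSp

namespace Groth.Agent.S10557

/-- Let g : X ⟶ Y and h : Y ⟶ Z be morphisms of algebraic spaces over S with g a surjection of fppf
sheaves (locally surjective for the fppf topology). For P one of flat, locally of finite type,
locally of finite presentation (checked on etale charts): if the composite X ⟶ Z has P then h has P. -/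
theorem result {S : Scheme.{u}} {X Y Z : AlgSp.Space S} (g : X ⟶ Y) (h : Y ⟶ Z)
    (hg : Sheaf.IsLocallySurjective g.hom) :
    (AlgSp.LocP @Flat (g ≫ h).hom → AlgSp.LocP @Flat h.hom) ∧
    (AlgSp.LocP @LocallyOfFiniteType (g ≫ h).hom → AlgSp.LocP @LocallyOfFiniteType h.hom) ∧
    (AlgSp.LocP @LocallyOfFinitePresentation (g ≫ h).hom →
      AlgSp.LocP @LocallyOfFinitePresentation h.hom) := by
  haveI := hg
  refine ⟨fun h1 => ?_, fun h1 => ?_, fun h1 => ?_⟩
  · refine Groth.Agent.Helper2.AlgSpBasic.locP_of_comp_of_isLocallySurjective @Flat ?_ ?_ ?_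
      X.property Y.property g.hom h.hom h1
    · intro A B C d φ h1 h2 h3
      haveI := h1
      haveI : Flat φ := h3
      exact (inferInstance : Flat (d ≫ φ))
    · intro A B C g s hs h h4
      haveI : Flat (g ≫ h) := h4
      exact Groth.Agent.Helper2.AlgSpBasic.flat_of_section g s hs h
    · intro U' U V d φ h1 h2 h3 h4
      haveI := h1
      haveI := h3
      haveI : Flat (d ≫ φ) := h4
      exact Groth.Agent.Helper2.EtaleLocal.flat_of_flat_comp_of_surjective d φ
  · refine Groth.Agent.Helper2.AlgSpBasic.locP_of_comp_of_isLocallySurjective @LocallyOfFiniteType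
      ?_ ?_ ?_ X.property Y.property g.hom h.hom h1
    · intro A B C d φ h1 h2 h3
      haveI := h2
      haveI : LocallyOfFiniteType φ := h3
      exact (inferInstance : LocallyOfFiniteType (d ≫ φ))
    · intro A B C g s hs h h4
      haveI : LocallyOfFiniteType (g ≫ h) := h4
      exact Groth.Agent.Helper2.AlgSpBasic.locallyOfFiniteType_of_section g s hs h
    · intro U' U V d φ h1 h2 h3 h4
      haveI := h1
      haveI := h2
      haveI := h3
      haveI : LocallyOfFiniteType (d ≫ φ) := h4
      exact Groth.Agent.Helper3.FppfDesc.locallyOfFiniteType_of_fppf_cover d φ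
  · refine Groth.Agent.Helper2.AlgSpBasic.locP_of_comp_of_isLocallySurjective
      @LocallyOfFinitePresentation ?_ ?_ ?_ X.property Y.property g.hom h.hom h1
    · intro A B C d φ h1 h2 h3
      haveI := h2
      haveI : LocallyOfFinitePresentation φ := h3
      exact (inferInstance : LocallyOfFinitePresentation (d ≫ φ))
    · intro A B C g s hs h h4
      haveI : LocallyOfFinitePresentation (g ≫ h) := h4
      exact Groth.Agent.Helper2.AlgSpBasic.locallyOfFinitePresentation_of_section g s hs h
    · intro U' U V d φ h1 h2 h3 h4
      haveI := h1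
      haveI := h2
      haveI := h3
      haveI : LocallyOfFinitePresentation (d ≫ φ) := h4
      exact Groth.Agent.Helper3.FppfDesc.locallyOfFinitePresentation_of_fppf_cover d φ

end Groth.Agent.S10557
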