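import Groth.Statements.S10559
import Mathlib
import Groth.Agent.Lib.Helper2.AlgSp.Source
import Groth.Agent.Lib.Helper2.SmoothLocalSmooth
import Groth.Agent.Lib.Helper2.EtaleLocalSmooth

open Groth.Agent.Helper2.AlgSpBasic Groth.Agent.Helper2.EtaleLocal

set_option autoImplicit false
universe u
open CategoryTheory CategoryTheory.Limits AlgebraicGeometry
open AlgSp

namespace Groth.Agent.S10559

/-- Let f : X ⟶ Y and q : Y ⟶ B be morphisms of algebraic spaces over S. If f is surjective and smooth
and f ≫ q is smooth, then q is smooth; if f is surjective and etale and f ≫ q is etale, then q is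
etale. (The syntomic case of the published statement is not included.) -/
theorem result {S : Scheme.{u}} {X Y B : AlgSp.Space S} (f : X ⟶ Y) (q : Y ⟶ B)
    (hs : AlgSp.IsSurjectiveMor f.hom) :
    (AlgSp.LocP @Smooth f.hom → AlgSp.LocP @Smooth (f ≫ q).hom → AlgSp.LocP @Smooth q.hom) ∧
    (AlgSp.IsEtaleMor f.hom → AlgSp.IsEtaleMor (f ≫ q).hom → AlgSp.IsEtaleMor q.hom) := by
  constructor
  · intro hf hfq
    refine locP_of_source_family @Smooth @Smooth (fun _ _ _ d φ hd hs hφ => ?_) Y.property q.hom
      (fun _ : PUnit.{u + 1} => X.obj) (fun _ => X.property) (fun _ => f.hom) (fun _ => hf)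
      (fun y => ⟨PUnit.unit, hs y⟩) (fun _ => hfq)
    haveI : Smooth d := hd
    haveI : Surjective d := hs
    haveI : Smooth (d ≫ φ) := hφ
    exact smooth_of_comp_smooth_surjective d φ hφ
  · intro hf hfq
    rw [isEtaleMor_iff_locP_etale Y.property B.property]
    rw [isEtaleMor_iff_locP_etale X.property Y.property] at hf
    have hfq' : AlgSp.LocP @Etale (f.hom ≫ q.hom) :=
      (isEtaleMor_iff_locP_etale X.property B.property _).1 hfq
    refine locP_of_source_family @Etale @Etale (fun _ _ _ d φ hd hs hφ => ?_) Y.property q.hom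
      (fun _ : PUnit.{u + 1} => X.obj) (fun _ => X.property) (fun _ => f.hom) (fun _ => hf)
      (fun y => ⟨PUnit.unit, hs y⟩) (fun _ => hfq')
    exact IsEtaleLocalST.of_comp_etale_surjective d φ hd hs hφ

end Groth.Agent.S10559
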