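import Groth.Statements.S10569
import Mathlib
import Groth.Agent.Lib.Helper2.AlgSp.SmoothLocal

set_option autoImplicit false
universe u
open CategoryTheory CategoryTheory.Limits AlgebraicGeometry
open AlgSp AlgSp.IsEtaleSmoothLocalST

namespace Groth.Agent.S10569

/-- For a property P of morphisms of algebraic spaces over S that is etale-smooth local on
source-and-target and a morphism f : X ⟶ Y of algebraic spaces, each of the following is equivalent
to P f: (c) for some smooth b : V ⟶ Y, cartesian square W = X ×_Y V and etale e : U ⟶ W with U ⟶ W ⟶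
X surjective, the composite U ⟶ W ⟶ V has P; (d) for every smooth b : V ⟶ Y, cartesian square W = X
×_Y V and etale e : U ⟶ W, the composite U ⟶ W ⟶ V has P; (e) for some smooth covering of Y by
algebraic spaces Y_i every base change Y_i ×_Y X ⟶ Y_i has P; (f) for some etale covering of X by
algebraic spaces X_i every composite X_i ⟶ Y has P. (Condition (b) of the published list is the
defining locality condition, and its condition (g) combines (e) and (f); they are not repeated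
here.) -/
theorem result {S : Scheme.{u}} {P : MorphismProperty (AlgSp.Sp S)}
    (hP : AlgSp.IsEtaleSmoothLocalST P) {X Y : AlgSp.Space S} (f : X ⟶ Y) :
    (P f.hom ↔ ∃ (U V W : AlgSp.Space S) (b : V ⟶ Y) (p : W ⟶ X) (q : W ⟶ V) (e : U ⟶ W),
      AlgSp.LocP @Smooth b.hom ∧ IsPullback p.hom q.hom f.hom b.hom ∧ AlgSp.IsEtaleMor e.hom ∧
      AlgSp.IsSurjectiveMor (e ≫ p).hom ∧ P (e ≫ q).hom) ∧
    (P f.hom ↔ ∀ (U V W : AlgSp.Space S) (b : V ⟶ Y) (p : W ⟶ X) (q : W ⟶ V) (e : U ⟶ W),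
      AlgSp.LocP @Smooth b.hom → IsPullback p.hom q.hom f.hom b.hom → AlgSp.IsEtaleMor e.hom → P (e ≫ q).hom) ∧
    (P f.hom ↔ ∃ (ι : Type u) (Yi Xi : ι → AlgSp.Space S) (g : ∀ i, Yi i ⟶ Y) (p : ∀ i, Xi i ⟶ Yi i)
      (q : ∀ i, Xi i ⟶ X), AlgSp.IsSmCover (fun i => (Yi i).obj) (fun i => (g i).hom) ∧
      (∀ i, IsPullback (q i).hom (p i).hom f.hom (g i).hom) ∧ ∀ i, P (p i).hom) ∧
    (P f.hom ↔ ∃ (ι : Type u) (Xi : ι → AlgSp.Space S) (g : ∀ i, Xi i ⟶ X),
      AlgSp.IsEtCover (fun i => (Xi i).obj) (fun i => (g i).hom) ∧ ∀ i, P (g i ≫ f).hom) := by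
  have hidY : AlgSp.LocP @Smooth (𝟙 Y.obj) :=
    Groth.Agent.Helper2.AlgSpBasic.locP_id @Smooth Y.property.diag
  have hidXe : AlgSp.IsEtaleMor (𝟙 X.obj) :=
    Groth.Agent.Helper2.AlgSpBasic.isEtaleMor_of_locP_etale X.property X.property _
      (Groth.Agent.Helper2.AlgSpBasic.locP_id @Etale X.property.diag)
  have hsurjX : ∀ x : AlgSp.Points X.obj, ∃ i : PUnit.{u + 1},
      x ∈ Set.range (AlgSp.Points.map (𝟙 X.obj)) := fun x =>
    ⟨⟨⟩, x, by rw [AlgSp.Points.map_id]⟩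
  have hsurjY : ∀ y : AlgSp.Points Y.obj, ∃ i : PUnit.{u + 1},
      y ∈ Set.range (AlgSp.Points.map (𝟙 Y.obj)) := fun y =>
    ⟨⟨⟩, y, by rw [AlgSp.Points.map_id]⟩
  have hpb : IsPullback (𝟙 X.obj) f.hom f.hom (𝟙 Y.obj) :=
    Groth.Agent.Helper2.AlgSpBasic.isPullback_id_left f.hom
  refine ⟨⟨?_, ?_⟩, ⟨?_, ?_⟩, ⟨?_, ?_⟩, ⟨?_, ?_⟩⟩
  · intro hf
    refine ⟨X, Y, X, 𝟙 Y, 𝟙 X, f, 𝟙 X, hidY, hpb, hidXe, ?_, ?_⟩
    · intro x
      exact ⟨x, by
        change AlgSp.Points.map (𝟙 X.obj ≫ 𝟙 X.obj) x = x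
        rw [Category.id_comp, AlgSp.Points.map_id]⟩
    · change P (𝟙 X.obj ≫ f.hom)
      rw [Category.id_comp]; exact hf
  · rintro ⟨U, V, W, b, p, q, e, hb, sq, he, hs, hh⟩
    rw [hP.locality X.property Y.property f.hom]
    intro x
    obtain ⟨v, hv⟩ := hs x
    exact ⟨V.obj, W.obj, U.obj, b.hom, p.hom, q.hom, e.hom, v, V.property, W.property, U.property,
      hb, sq, he, hv, hh⟩
  · intro hf U V W b p q e hb sq he
    have hq : P q.hom := hP.baseChange X.property Y.property W.property V.property f.hom b.hom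
      q.hom p.hom sq hb hf
    exact hP.precomp U.property W.property V.property e.hom q.hom he hq
  · intro H
    have := H X Y X (𝟙 Y) (𝟙 X) f (𝟙 X) hidY hpb hidXe
    change P (𝟙 X.obj ≫ f.hom) at this
    rwa [Category.id_comp] at this
  · intro hf
    refine ⟨PUnit.{u + 1}, fun _ => Y, fun _ => X, fun _ => 𝟙 Y, fun _ => f, fun _ => 𝟙 X,
      ⟨fun _ => hidY, hsurjY⟩, fun _ => hpb, fun _ => hf⟩
  · rintro ⟨ι, Yi, Xi, g, p, q, hcov, hsq, hp⟩
    exact (Groth.Agent.Helper2.AlgSpBasic.IsEtaleSmoothLocalST.isLocalOnBase hP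
      (fun i => (Yi i).obj)
      (fun i => (g i).hom) Y.property (fun i => (Yi i).property) hcov f.hom X.property
      (fun i => (Xi i).obj) (fun i => (p i).hom) (fun i => (q i).hom) (fun i => (Xi i).property)
      hsq).mpr hp
  · intro hf
    refine ⟨PUnit.{u + 1}, fun _ => X, fun _ => 𝟙 X, ⟨fun _ => hidXe, hsurjX⟩, fun _ => ?_⟩
    rw [Category.id_comp]
    exact hf
  · rintro ⟨ι, Xi, g, hcov, hp⟩
    exact (Groth.Agent.Helper2.AlgSpBasic.IsEtaleSmoothLocalST.isLocalOnSource hP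
      (fun i => (Xi i).obj)
      (fun i => (g i).hom) X.property (fun i => (Xi i).property) hcov f.hom Y.property).mpr hp

end Groth.Agent.S10569
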