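import Groth.Statements.S10571
import Mathlib
import Groth.Agent.Lib.Helper2.AlgSp.GlueSp

open CategoryTheory CategoryTheory.Limits AlgebraicGeometry Opposite AlgSp
open Groth.Agent.Helper2.AlgSpBasic Groth.Agent.Helper2.Coprod

set_option autoImplicit false
universe u
open CategoryTheory CategoryTheory.Limits AlgebraicGeometry
open AlgSp

namespace Groth.Agent.S10571

/-- Suppose a property P of morphisms between algebraic spaces over S satisfies: (1) if finitely many
morphisms X_i ⟶ Y_i have P then so does the induced morphism ∐ X_i ⟶ ∐ Y_i, (2) f : X ⟶ Y has P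
exactly when, for each affine scheme Z and each h_Z ⟶ Y, the base change h_Z ×_Y X ⟶ h_Z has P, and
(3) for every surjective flat morphism of affine schemes Z' ⟶ Z over S and every f : X ⟶ h_Z, if the
base change h_{Z'} ×_{h_Z} X ⟶ h_{Z'} has P then f has P. Under these hypotheses, P is local on the
base for the fpqc topology. (The published statement asks (1) only for two morphisms; its proof
applies (1) to a disjoint union indexed by a finite set that may be empty, and with (1) for two
morphisms only the property that holds for no morphism satisfies all three hypotheses without being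
fpqc local on the base, as the empty covering of the empty algebraic space shows. This row asks (1)
for all finite families, the empty one included.) -/
theorem result {S : Scheme.{u}} (P : MorphismProperty (AlgSp.Sp S))
    (h1 : ∀ ⦃ι : Type u⦄ [Finite ι] (Xi Yi : ι → AlgSp.Sp S) (fi : ∀ i, Xi i ⟶ Yi i)
      (cX : Cofan Xi) (cY : Cofan Yi) (hcX : IsColimit cX) (hcY : IsColimit cY) (m : cX.pt ⟶ cY.pt),
      (∀ i, AlgSp.IsAlgSpace (Xi i)) → (∀ i, AlgSp.IsAlgSpace (Yi i)) →
      AlgSp.IsAlgSpace cX.pt → AlgSp.IsAlgSpace cY.pt →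
      (∀ i, cX.inj i ≫ m = fi i ≫ cY.inj i) → (∀ i, P (fi i)) → P m)
    (h2 : ∀ ⦃X Y : AlgSp.Sp S⦄, AlgSp.IsAlgSpace X → AlgSp.IsAlgSpace Y → ∀ (f : X ⟶ Y),
      P f ↔ ∀ (Z : Over S), IsAffine Z.left → ∀ (g : (AlgSp.yon S).obj Z ⟶ Y) (W : AlgSp.Sp S)
        (fst : W ⟶ X) (snd : W ⟶ (AlgSp.yon S).obj Z), AlgSp.IsAlgSpace W → IsPullback fst snd f g → P snd)
    (h3 : ∀ ⦃Z Z' : Over S⦄ (c : Z' ⟶ Z), IsAffine Z.left → IsAffine Z'.left → Surjective c.left → Flat c.left →
      ∀ ⦃X X' : AlgSp.Sp S⦄ (f : X ⟶ (AlgSp.yon S).obj Z) (fst : X' ⟶ X) (f' : X' ⟶ (AlgSp.yon S).obj Z'),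
        AlgSp.IsAlgSpace X → AlgSp.IsAlgSpace X' → IsPullback fst f' f ((AlgSp.yon S).map c) → P f' → P f) :
    AlgSp.IsLocalOnBase (AlgSp.IsFpqcCover (S := S)) P := by
  intro ι Y Yi g hY hYi hcov X f hX Xi p q hXi sq
  constructor
  · intro hf i
    rw [h2 (hXi i) (hYi i) (p i)]
    intro Z hZ gZ W fst snd hW sqW
    exact (h2 hX hY f).mp hf Z hZ (gZ ≫ g i) W (fst ≫ q i) snd hW (sqW.paste_horiz (sq i))
  · intro hp
    rw [h2 hX hY f]
    intro Z hZ gZ W fst snd hW sqW
    obtain ⟨m, Wj, cj, hWa, hcf, hcs, hl⟩ := hcov.2 Z hZ gZ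
    choose ij lj hlj using hl
    -- the disjoint union of the members of the standard fpqc covering
    let κ := ULift.{u} (Fin m)
    let Wk : κ → Over S := fun k => Wj k.down
    let ck : ∀ k : κ, Wk k ⟶ Z := fun k => cj k.down
    haveI : ∀ k, IsAffine (Wk k).left := fun k => hWa k.down
    haveI : ∀ k, Flat (ck k).left := fun k => hcf k.down
    let Z' : Over S := sigmaOver Wk
    let cl : Z'.left ⟶ Z.left := Sigma.desc (fun k => (ck k).left)
    let c : Z' ⟶ Z := Over.homMk cl (by
      apply Sigma.hom_ext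
      intro k
      show Sigma.ι _ k ≫ Sigma.desc (fun k => (ck k).left) ≫ Z.hom = Sigma.ι _ k ≫ Z'.hom
      rw [Sigma.ι_desc_assoc, Over.w]
      simp [Z', sigmaOver])
    have hιc : ∀ k, sigmaOverι Wk k ≫ c = ck k := fun k =>
      Over.OverMorphism.ext (Sigma.ι_desc (fun k => (ck k).left) k)
    have hZ' : IsAffine Z'.left := (inferInstance : IsAffine (∐ fun k => (Wk k).left))
    have hcfl : Flat c.left :=
      IsZariskiLocalAtSource.sigmaDesc (P := @Flat) (fun k => (inferInstance : Flat (ck k).left))
    have hcsurj : Surjective c.left := by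
      refine ⟨fun z => ?_⟩
      obtain ⟨j, y, hy⟩ := hcs z
      refine ⟨Sigma.ι (fun k => (Wk k).left) ⟨j⟩ y, ?_⟩
      show (Sigma.ι (fun k => (Wk k).left) ⟨j⟩ ≫ Sigma.desc (fun k => (ck k).left)) y = _
      rw [Sigma.ι_desc]
      exact hy
    -- base change to the disjoint union
    let X' := pullback snd ((yon S).map c)
    have sqX' : IsPullback (pullback.fst snd ((yon S).map c)) (pullback.snd snd ((yon S).map c))
        snd ((yon S).map c) := IsPullback.of_hasPullback _ _
    have hX' : IsAlgSpace X' :=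
      isAlgSpace_of_isPullback (IsAlgSpace.yon_obj Z).diag hW (IsAlgSpace.yon_obj Z') _ _ _ _ sqX'
    refine h3 c hZ hZ' hcsurj hcfl snd _ _ hW hX' sqX' ?_
    -- the summands
    let A : κ → Sp S := fun k => pullback snd ((yon S).map (ck k))
    have sqA : ∀ k, IsPullback (pullback.fst snd ((yon S).map (ck k)))
        (pullback.snd snd ((yon S).map (ck k))) snd ((yon S).map (ck k)) :=
      fun k => IsPullback.of_hasPullback _ _
    have hA : ∀ k, IsAlgSpace (A k) := fun k =>
      isAlgSpace_of_isPullback (IsAlgSpace.yon_obj Z).diag hW (IsAlgSpace.yon_obj (Wk k)) _ _ _ _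
        (sqA k)
    let cY : Cofan (fun k => (yon S).obj (Wk k)) :=
      Cofan.mk ((yon S).obj Z') (fun k => (yon S).map (sigmaOverι Wk k))
    have hcY : IsColimit cY := isColimitYonSigmaOver Wk
    let inA : ∀ k, A k ⟶ X' := fun k =>
      pullback.lift (pullback.fst snd ((yon S).map (ck k)))
        (pullback.snd snd ((yon S).map (ck k)) ≫ (yon S).map (sigmaOverι Wk k)) (by
          rw [Category.assoc, ← Functor.map_comp, hιc]
          exact pullback.condition)
    let cX : Cofan A := Cofan.mk X' inA
    have hcX : IsColimit cX := by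
      have hau : IsUniversalColimit cY := FinitaryPreExtensive.isUniversal_finiteCoproducts hcY
      refine (hau.nonempty_isColimit_of_isPullback_left
        (fun k => (yon S).map (ck k)) ((yon S).map c) snd
        (fun k => pullback.fst snd ((yon S).map (ck k)))
        (fun k => pullback.snd snd ((yon S).map (ck k))) sqA sqX' cX (Iso.refl _) ?_ ?_ ?_).some
      · intro k
        show (yon S).map (sigmaOverι Wk k) ≫ (yon S).map c = _
        rw [← Functor.map_comp, hιc]
      · intro k
        show inA k ≫ 𝟙 _ ≫ pullback.fst snd ((yon S).map c) = _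
        rw [Category.id_comp, pullback.lift_fst]
      · intro k
        show inA k ≫ 𝟙 _ ≫ pullback.snd snd ((yon S).map c) = _
        rw [Category.id_comp, pullback.lift_snd]
        rfl
    refine h1 A (fun k => (yon S).obj (Wk k)) (fun k => pullback.snd snd ((yon S).map (ck k)))
      cX cY hcX hcY (pullback.snd snd ((yon S).map c)) hA (fun k => IsAlgSpace.yon_obj _) hX'
      (IsAlgSpace.yon_obj _) (fun k => pullback.lift_snd _ _ _) ?_
    intro k
    -- each summand is a base change of `p (ij k)`
    have hbig := (sqA k).paste_horiz sqW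
    have e : (yon S).map (ck k) ≫ gZ = lj k.down ≫ g (ij k.down) := (hlj k.down).symm
    rw [e] at hbig
    let l : A k ⟶ Xi (ij k.down) := (sq (ij k.down)).lift
      (pullback.fst snd ((yon S).map (ck k)) ≫ fst)
      (pullback.snd snd ((yon S).map (ck k)) ≫ lj k.down) hbig.w
    have hl1 : l ≫ q (ij k.down) = pullback.fst snd ((yon S).map (ck k)) ≫ fst :=
      (sq (ij k.down)).lift_fst _ _ _
    have hl2 : l ≫ p (ij k.down) = pullback.snd snd ((yon S).map (ck k)) ≫ lj k.down :=
      (sq (ij k.down)).lift_snd _ _ _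
    have sqk : IsPullback l (pullback.snd snd ((yon S).map (ck k))) (p (ij k.down))
        (lj k.down) := by
      refine IsPullback.of_right ?_ hl2 (sq (ij k.down))
      rw [hl1]
      exact hbig
    exact (h2 (hXi _) (hYi _) (p (ij k.down))).mp (hp _) (Wk k) (hWa k.down) (lj k.down) (A k) l
      _ (hA k) sqk

end Groth.Agent.S10571
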