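import Groth.Statements.S10583
import Mathlib
import Groth.Agent.Lib.Helper2.AlgSp.Thick

set_option autoImplicit false
universe u
open CategoryTheory CategoryTheory.Limits AlgebraicGeometry
open AlgSp

namespace Groth.Agent.S10583

/-- Let i : X ⟶ X' be a thickening of algebraic spaces (representable, every base change to a scheme a
surjective closed immersion) and let u : U ⟶ X be an open immersion. Then there is an open immersion
u' : U' ⟶ X' with U = X ×_{X'} U' (a pullback square), and any two open subspaces of X' with this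
property are isomorphic over X'. -/
theorem result {S : Scheme.{u}} {X X' U : AlgSp.Space S} (i : X ⟶ X')
    (hi : AlgSp.IsThickMor i.hom)
    (u : U ⟶ X) (hu : AlgSp.RepWith @IsOpenImmersion u.hom) :
    (∃ (U' : AlgSp.Space S) (u' : U' ⟶ X') (k : U ⟶ U'),
      AlgSp.RepWith @IsOpenImmersion u'.hom ∧ IsPullback u.hom k.hom i.hom u'.hom) ∧
    (∀ (U₁ U₂ : AlgSp.Space S) (u₁ : U₁ ⟶ X') (u₂ : U₂ ⟶ X') (k₁ : U ⟶ U₁) (k₂ : U ⟶ U₂),
      AlgSp.RepWith @IsOpenImmersion u₁.hom → IsPullback u.hom k₁.hom i.hom u₁.hom →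
      AlgSp.RepWith @IsOpenImmersion u₂.hom → IsPullback u.hom k₂.hom i.hom u₂.hom →
      ∃ e : U₁ ≅ U₂, e.hom ≫ u₂ = u₁) := by
  classical
  have hhomeo := Groth.Agent.Helper2.AlgSpBasic.isHomeomorph_points_of_isThickMor X'.property
    i.hom hi
  have hinj : Function.Injective (AlgSp.Points.map i.hom) := hhomeo.injective
  have hsurj : Function.Surjective (AlgSp.Points.map i.hom) := hhomeo.surjective
  -- key: image of any open subspace restricting to `u`
  have hrange : ∀ (U₁ : AlgSp.Space S) (u₁ : U₁ ⟶ X') (k₁ : U ⟶ U₁),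
      IsPullback u.hom k₁.hom i.hom u₁.hom →
      Set.range (AlgSp.Points.map u₁.hom) =
        AlgSp.Points.map i.hom '' Set.range (AlgSp.Points.map u.hom) := by
    intro U₁ u₁ k₁ sq
    apply Set.Subset.antisymm
    · rintro _ ⟨q, rfl⟩
      obtain ⟨x, hx⟩ := hsurj (AlgSp.Points.map u₁.hom q)
      obtain ⟨p, hp1, hp2⟩ := Groth.Agent.Helper2.AlgSpBasic.points_exists_of_isPullback
        u₁.hom i.hom u.hom k₁.hom sq x q hx
      exact ⟨x, ⟨p, hp1⟩, hx⟩
    · rintro _ ⟨_, ⟨p, rfl⟩, rfl⟩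
      refine ⟨AlgSp.Points.map k₁.hom p, ?_⟩
      rw [← AlgSp.Points.map_comp, ← sq.w, AlgSp.Points.map_comp]
  constructor
  · -- existence
    have hRo : IsOpen (Set.range (AlgSp.Points.map u.hom)) :=
      (Groth.Agent.Helper2.AlgSpBasic.isOpenMap_points_of_repWith_isOpenImmersion U.property
        X.property u.hom hu).isOpen_range
    have hVo : IsOpen (AlgSp.Points.map i.hom '' Set.range (AlgSp.Points.map u.hom)) :=
      hhomeo.isOpenMap _ hRo
    let V : Set (AlgSp.Points X'.obj) :=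
      AlgSp.Points.map i.hom '' Set.range (AlgSp.Points.map u.hom)
    have hU' : AlgSp.IsAlgSpace (Groth.Agent.Helper2.AlgSpBasic.openSub X'.obj V) :=
      Groth.Agent.Helper2.AlgSpBasic.isAlgSpace_openSub X'.property hVo
    have pb := Groth.Agent.Helper2.AlgSpBasic.isPullback_openSubMap i.hom V
    have hpre : AlgSp.Points.map i.hom ⁻¹' V = Set.range (AlgSp.Points.map u.hom) :=
      Set.preimage_image_eq _ hinj
    have hmem : ∀ p : AlgSp.Points U.obj, AlgSp.Points.map u.hom p ∈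
        AlgSp.Points.map i.hom ⁻¹' V := fun p => by rw [hpre]; exact ⟨p, rfl⟩
    haveI hliso := Groth.Agent.Helper2.AlgSpBasic.isIso_openSubLift_of_range_eq U.property
      X.property u.hom hu (AlgSp.Points.map i.hom ⁻¹' V) hpre.symm hmem
    let l := Groth.Agent.Helper2.AlgSpBasic.openSubLift (AlgSp.Points.map i.hom ⁻¹' V) u.hom hmem
    have hl : l ≫ Groth.Agent.Helper2.AlgSpBasic.openSubι X.obj _ = u.hom :=
      Groth.Agent.Helper2.AlgSpBasic.openSubLift_ι _ _ _
    let m := Groth.Agent.Helper2.AlgSpBasic.openSubMap i.hom V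
    have left : IsPullback l (l ≫ m) m (𝟙 _) :=
      IsPullback.of_horiz_isIso ⟨by rw [Category.comp_id]⟩
    have big := left.paste_horiz pb
    rw [hl, Category.id_comp] at big
    exact ⟨⟨_, hU'⟩, ObjectProperty.homMk (Groth.Agent.Helper2.AlgSpBasic.openSubι X'.obj V),
      ObjectProperty.homMk (l ≫ m),
      Groth.Agent.Helper2.AlgSpBasic.repWith_isOpenImmersion_openSubι X'.obj hVo, big⟩
  · -- uniqueness
    intro U₁ U₂ u₁ u₂ k₁ k₂ hu₁ sq₁ hu₂ sq₂
    have h1 := hrange U₁ u₁ k₁ sq₁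
    have h2 := hrange U₂ u₂ k₂ sq₂
    have h12 : Set.range (AlgSp.Points.map u₁.hom) = Set.range (AlgSp.Points.map u₂.hom) :=
      h1.trans h2.symm
    haveI iso₁ := Groth.Agent.Helper2.AlgSpBasic.isIso_openSubLift_of_range_eq U₁.property
      X'.property u₁.hom hu₁ (Set.range (AlgSp.Points.map u₂.hom)) h12
      (fun p => h12 ▸ ⟨p, rfl⟩)
    haveI iso₂ := Groth.Agent.Helper2.AlgSpBasic.isIso_openSubLift_of_range_eq U₂.property
      X'.property u₂.hom hu₂ (Set.range (AlgSp.Points.map u₂.hom)) rfl (fun p => ⟨p, rfl⟩)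
    let l₁ := Groth.Agent.Helper2.AlgSpBasic.openSubLift (Set.range (AlgSp.Points.map u₂.hom))
      u₁.hom (fun p => h12 ▸ ⟨p, rfl⟩)
    let l₂ := Groth.Agent.Helper2.AlgSpBasic.openSubLift (Set.range (AlgSp.Points.map u₂.hom))
      u₂.hom (fun p => ⟨p, rfl⟩)
    have hl₁ : l₁ ≫ Groth.Agent.Helper2.AlgSpBasic.openSubι X'.obj _ = u₁.hom :=
      Groth.Agent.Helper2.AlgSpBasic.openSubLift_ι _ _ _
    have hl₂ : l₂ ≫ Groth.Agent.Helper2.AlgSpBasic.openSubι X'.obj _ = u₂.hom :=
      Groth.Agent.Helper2.AlgSpBasic.openSubLift_ι _ _ _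
    refine ⟨ObjectProperty.isoMk _ (asIso l₁ ≪≫ (asIso l₂).symm), ?_⟩
    apply ObjectProperty.hom_ext
    change (l₁ ≫ inv l₂) ≫ u₂.hom = u₁.hom
    have h3 : inv l₂ ≫ u₂.hom = Groth.Agent.Helper2.AlgSpBasic.openSubι X'.obj _ := by
      rw [IsIso.inv_comp_eq, hl₂]
    rw [Category.assoc, h3, hl₁]

end Groth.Agent.S10583
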