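import Groth.Statements.S10591
import Groth.Agent.Lib.Helper2.AlgSp.ThickUnr
import Groth.Agent.Lib.Helper2.AlgSp.ThickLft
import Groth.Agent.Lib.Helper2.AlgSp.RelDimSp


set_option autoImplicit false
universe u
open CategoryTheory CategoryTheory.Limits AlgebraicGeometry
open AlgSp

namespace Groth.Agent.S10591

/-- Consider a morphism (f, f') from the thickening X ⊂ X' to the thickening Y ⊂ Y' of algebraic spaces
over S, meaning: i : X ⟶ X' and j : Y ⟶ Y' are thickenings (representable, every base change to a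
scheme a surjective closed immersion) and i ≫ f' = f ≫ j. Assume moreover that the square is
cartesian (X = Y ×_{Y'} X') and that i is a finite order thickening (for one n, on every affine
etale scheme chart of X' the (n+1)-st power of the ideal of the base change of X vanishes). Then f
is locally of finite type of relative dimension d, resp. locally of finite type, resp. locally
quasi-finite, resp. unramified, if and only if f' is (relative dimension d at a point: some chart
diagram through the point has fibre of local dimension d there) (all in the etale-local sense,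
locally quasi-finite and unramified including locally of finite type). -/
theorem result {S : Scheme.{u}} {X X' Y Y' : AlgSp.Space S} (i : X ⟶ X') (j : Y ⟶ Y')
    (f : X ⟶ Y) (f' : X' ⟶ Y')
    (hi : AlgSp.IsThickMor i.hom)
    (hj : AlgSp.IsThickMor j.hom) (w : i ≫ f' = f ≫ j)
    (hcart : IsPullback i.hom f.hom f'.hom j.hom)
    (hfo : AlgSp.IsFinThickMor i.hom) (d : ℕ) :
    ((AlgSp.LocP @LocallyOfFiniteType f.hom ∧
        ∀ x, AlgSp.HasAtMor (fun _ _ h u => FlatMor.fibreDimAt h u = (d : WithBot ℕ∞)) f.hom x) ↔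
      (AlgSp.LocP @LocallyOfFiniteType f'.hom ∧
        ∀ x', AlgSp.HasAtMor (fun _ _ h u => FlatMor.fibreDimAt h u = (d : WithBot ℕ∞)) f'.hom x')) ∧
    (AlgSp.LocP @LocallyOfFiniteType f.hom ↔ AlgSp.LocP @LocallyOfFiniteType f'.hom) ∧
    (AlgSp.LocP (@LocallyQuasiFinite ⊓ @LocallyOfFiniteType) f.hom ↔
      AlgSp.LocP (@LocallyQuasiFinite ⊓ @LocallyOfFiniteType) f'.hom) ∧
    (AlgSp.LocP (@LocallyOfFiniteType ⊓ @FormallyUnramified) f.hom ↔
      AlgSp.LocP (@LocallyOfFiniteType ⊓ @FormallyUnramified) f'.hom) := by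
  have hX := X.property
  have hX' := X'.property
  have hY := Y.property
  have hY' := Y'.property
  obtain ⟨n, -, hpow⟩ := hfo
  have key : AlgSp.LocP @LocallyOfFiniteType f.hom → AlgSp.LocP @LocallyOfFiniteType f'.hom :=
    Groth.Agent.Helper2.ThickLft.locP_lft_of_finThick i.hom j.hom f.hom f'.hom hj hcart n hpow
  have hs : AlgSp.IsSurjectiveMor i.hom :=
    Groth.Agent.Helper2.AlgSpBasic.isSurjectiveMor_of_repWith_surjective i.hom
      (Groth.Agent.Helper2.AlgSpBasic.repWith_mono (fun _ _ g hg => hg.2) hi)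
  have bc : ∀ (hft' : AlgSp.LocP @LocallyOfFiniteType f'.hom) (x : AlgSp.Points X.obj),
      AlgSp.HasAtMor (fun _ _ h u => FlatMor.fibreDimAt h u = (d : WithBot ℕ∞)) f.hom x ↔
      AlgSp.HasAtMor (fun _ _ h u => FlatMor.fibreDimAt h u = (d : WithBot ℕ∞)) f'.hom
        (AlgSp.Points.map i.hom x) := fun hft' x =>
    Groth.Agent.Helper2.RelDimSp.hasAtMor_bc_iff
      (Groth.Agent.Helper2.ChartIndepMor.etaleLocalST_fibreDimAt_eq _)
      (Groth.Agent.Helper2.RelDimSp.baseChangeInv_fibreDimAt_eq _) hX' hY' hX hY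
      f'.hom j.hom i.hom f.hom hcart hft' x
  refine ⟨⟨?_, ?_⟩, ⟨key, ?_⟩, ⟨?_, ?_⟩, ⟨?_, ?_⟩⟩
  · rintro ⟨h1, h2⟩
    refine ⟨key h1, fun x' => ?_⟩
    obtain ⟨x, rfl⟩ := hs x'
    exact (bc (key h1) x).1 (h2 x)
  · rintro ⟨h1, h2⟩
    refine ⟨Groth.Agent.Helper2.AlgSpBasic.locP_of_isPullback @LocallyOfFiniteType hX' hY' hY hX
      f'.hom j.hom i.hom f.hom hcart h1, fun x => ?_⟩
    exact (bc h1 x).2 (h2 _)
  · intro h
    exact Groth.Agent.Helper2.AlgSpBasic.locP_of_isPullback @LocallyOfFiniteType hX' hY' hY hX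
      f'.hom j.hom i.hom f.hom hcart h
  · intro h
    exact Groth.Agent.Helper2.ThickUnr.locP_lqf_of_thick hX hX' hY hY' i.hom j.hom f.hom f'.hom
      hj hcart (key (Groth.Agent.Helper2.AlgSpBasic.locP_mono inf_le_right h)) h
  · intro h
    exact Groth.Agent.Helper2.AlgSpBasic.locP_of_isPullback
      (@LocallyQuasiFinite ⊓ @LocallyOfFiniteType) hX' hY' hY hX
      f'.hom j.hom i.hom f.hom hcart h
  · intro h
    exact Groth.Agent.Helper2.ThickUnr.locP_unr_of_thick hX hX' hY hY' i.hom j.hom f.hom f'.hom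
      hj hcart (key (Groth.Agent.Helper2.AlgSpBasic.locP_mono inf_le_left h)) h
  · intro h
    exact Groth.Agent.Helper2.AlgSpBasic.locP_of_isPullback
      (@LocallyOfFiniteType ⊓ @FormallyUnramified) hX' hY' hY hX
      f'.hom j.hom i.hom f.hom hcart h

end Groth.Agent.S10591
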