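import Groth.Statements.S10592
import Groth.Agent.Lib.Helper2.AlgSp.ThickImm
import Groth.Agent.Lib.Helper2.AlgSp.ThickLft
import Groth.Agent.Lib.Helper2.AlgSt.PFacts3


set_option autoImplicit false
universe u
open CategoryTheory CategoryTheory.Limits AlgebraicGeometry
open AlgSp

namespace Groth.Agent.S10592

/-- Consider a morphism (f, f') from the thickening X ⊂ X' to the thickening Y ⊂ Y' of algebraic spaces
over S, meaning: i : X ⟶ X' and j : Y ⟶ Y' are thickenings (representable, every base change to a
scheme a surjective closed immersion) and i ≫ f' = f ≫ j. Assume moreover that the square is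
cartesian (X = Y ×_{Y'} X') and that i is a finite order thickening (for one n, on every affine
etale scheme chart of X' the (n+1)-st power of the ideal of the base change of X vanishes). Then f
is a closed immersion, resp. proper, resp. finite, resp. an immersion, if and only if f' is
(immersions of algebraic spaces being the representable ones). -/
theorem result {S : Scheme.{u}} {X X' Y Y' : AlgSp.Space S} (i : X ⟶ X') (j : Y ⟶ Y')
    (f : X ⟶ Y) (f' : X' ⟶ Y')
    (hi : AlgSp.IsThickMor i.hom)
    (hj : AlgSp.IsThickMor j.hom) (w : i ≫ f' = f ≫ j)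
    (hcart : IsPullback i.hom f.hom f'.hom j.hom)
    (hfo : AlgSp.IsFinThickMor i.hom) :
    (AlgSp.RepWith @IsClosedImmersion f.hom ↔ AlgSp.RepWith @IsClosedImmersion f'.hom) ∧
    (AlgSp.IsProperMor f.hom ↔ AlgSp.IsProperMor f'.hom) ∧
    (AlgSp.IsFiniteMor f.hom ↔ AlgSp.IsFiniteMor f'.hom) ∧
    (AlgSp.RepWith @IsImmersion f.hom ↔ AlgSp.RepWith @IsImmersion f'.hom) := by
  have hX := X.property
  have hX' := X'.property
  have hY := Y.property
  have hY' := Y'.property
  obtain ⟨n, -, hpow⟩ := hfo
  have key : AlgSp.LocP @LocallyOfFiniteType f.hom → AlgSp.LocP @LocallyOfFiniteType f'.hom :=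
    Groth.Agent.Helper2.ThickLft.locP_lft_of_finThick i.hom j.hom f.hom f'.hom hj hcart n hpow
  refine ⟨⟨?_, ?_⟩, ⟨?_, ?_⟩, ⟨?_, ?_⟩, ⟨?_, ?_⟩⟩
  · intro h
    have hft : AlgSp.LocP @LocallyOfFiniteType f.hom :=
      Groth.Agent.Helper2.AlgSpBasic.locP_of_repWith @LocallyOfFiniteType hX.diag f.hom
        (Groth.Agent.Helper2.AlgSpBasic.repWith_mono (fun _ _ g hg => by
          have : IsClosedImmersion g := hg
          infer_instance) h)
    exact Groth.Agent.Helper2.ThickProper.ci_of_thick hX hX' hY hY' i.hom j.hom f.hom f'.hom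
      hj hcart (key hft) h
  · intro h
    exact Groth.Agent.Helper2.AlgSpBasic.repWith_of_isPullback @IsClosedImmersion hcart h
  · intro h
    exact Groth.Agent.Helper2.ThickProper.proper_of_thick hX hX' hY hY' i.hom j.hom f.hom f'.hom
      hj hcart (key h.2.1.1) h
  · intro h
    exact Groth.Agent.Helper2.AlgStLib.stableBC_isProperMor hX' hY' hX hY f'.hom j.hom f.hom i.hom
      hcart h
  · intro h
    exact Groth.Agent.Helper2.ThickProper.finite_of_thick hX hX' hY hY' i.hom j.hom f.hom f'.hom
      hj hcart (key (Groth.Agent.Helper2.AlgSpBasic.locP_lft_of_isFiniteMor hX h)) h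
  · intro h
    exact Groth.Agent.Helper2.AlgSpBasic.isAffQMor_of_isPullback @IsFinite hcart h
  · intro h
    have hft : AlgSp.LocP @LocallyOfFiniteType f.hom :=
      Groth.Agent.Helper2.AlgSpBasic.locP_of_repWith @LocallyOfFiniteType hX.diag f.hom
        (Groth.Agent.Helper2.AlgSpBasic.repWith_mono (fun _ _ g hg => by
          have : IsImmersion g := hg
          infer_instance) h)
    exact Groth.Agent.Helper2.ThickImm.imm_of_thick hX hX' hY hY' i.hom j.hom f.hom f'.hom
      hj hcart (key hft) h
  · intro h
    exact Groth.Agent.Helper2.AlgSpBasic.repWith_of_isPullback @IsImmersion hcart h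

end Groth.Agent.S10592
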