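import Groth.Statements.S10596
import Groth.Agent.S1317
import Groth.Agent.S1320
import Groth.Agent.S1321
import Groth.Agent.S1322
import Groth.Agent.S10591
import Groth.Agent.Lib.Helper2.AlgSp.DeformChart
import Groth.Agent.Lib.Helper2.EtaleLocalSmooth


set_option autoImplicit false
universe u
open CategoryTheory CategoryTheory.Limits AlgebraicGeometry
open AlgSp

namespace Groth.Agent.S10596

/-- Let iB : B ⟶ B' be a finite order thickening of algebraic spaces over S (a thickening such that for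
one n the (n+1)-st power of the ideal vanishes on every affine etale scheme chart), f' : X' ⟶ Y' a
morphism of algebraic spaces over B' (via g' : Y' ⟶ B') with X' flat over B', and f : X ⟶ Y, g : Y ⟶
B its base change to B (both squares to iB cartesian, iX ≫ f' = f ≫ iY). Then f is locally of finite
type of relative dimension d, resp. flat, resp. locally of finite type, locally quasi-finite,
locally of finite presentation, smooth, unramified, etale, if and only if f' is (etale-local sense;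
locally quasi-finite and unramified include locally of finite type). -/
theorem result {S : Scheme.{u}} {X X' Y Y' B B' : AlgSp.Space S} (iX : X ⟶ X') (iY : Y ⟶ Y') (iB : B ⟶ B')
    (f : X ⟶ Y) (f' : X' ⟶ Y') (g : Y ⟶ B) (g' : Y' ⟶ B')
    (hcX : IsPullback iX.hom (f ≫ g).hom (f' ≫ g').hom iB.hom) (hcY : IsPullback iY.hom g.hom g'.hom iB.hom)
    (w : iX ≫ f' = f ≫ iY)
    (hB : AlgSp.IsFinThickMor iB.hom) (hflat : AlgSp.LocP @Flat (f' ≫ g').hom) (d : ℕ) :
    ((AlgSp.LocP @LocallyOfFiniteType f.hom ∧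
        ∀ x, AlgSp.HasAtMor (fun _ _ h u => FlatMor.fibreDimAt h u = (d : WithBot ℕ∞)) f.hom x) ↔
      (AlgSp.LocP @LocallyOfFiniteType f'.hom ∧
        ∀ x', AlgSp.HasAtMor (fun _ _ h u => FlatMor.fibreDimAt h u = (d : WithBot ℕ∞)) f'.hom x')) ∧
    (AlgSp.LocP @Flat f.hom ↔ AlgSp.LocP @Flat f'.hom) ∧
    (AlgSp.LocP @LocallyOfFiniteType f.hom ↔ AlgSp.LocP @LocallyOfFiniteType f'.hom) ∧
    (AlgSp.LocP (@LocallyQuasiFinite ⊓ @LocallyOfFiniteType) f.hom ↔
      AlgSp.LocP (@LocallyQuasiFinite ⊓ @LocallyOfFiniteType) f'.hom) ∧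
    (AlgSp.LocP @LocallyOfFinitePresentation f.hom ↔ AlgSp.LocP @LocallyOfFinitePresentation f'.hom) ∧
    (AlgSp.LocP @Smooth f.hom ↔ AlgSp.LocP @Smooth f'.hom) ∧
    (AlgSp.LocP (@LocallyOfFiniteType ⊓ @FormallyUnramified) f.hom ↔
      AlgSp.LocP (@LocallyOfFiniteType ⊓ @FormallyUnramified) f'.hom) ∧
    (AlgSp.IsEtaleMor f.hom ↔ AlgSp.IsEtaleMor f'.hom) := by
  have hX := X.property
  have hX' := X'.property
  have hY := Y.property
  have hY' := Y'.property
  have hw : iX.hom ≫ f'.hom = f.hom ≫ iY.hom := congrArg (fun m => m.hom) w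
  have hcart : IsPullback iX.hom f.hom f'.hom iY.hom := IsPullback.of_bot hcX hw hcY
  obtain ⟨n, hn⟩ := hB
  have hiX : AlgSp.IsNThickMor n iX.hom :=
    Groth.Agent.Helper2.ThickBC.isNThickMor_of_isPullback B'.property iB.hom n hn iX.hom
      (f ≫ g).hom (f' ≫ g').hom hcX
  have hiY : AlgSp.IsNThickMor n iY.hom :=
    Groth.Agent.Helper2.ThickBC.isNThickMor_of_isPullback B'.property iB.hom n hn iY.hom
      g.hom g'.hom hcY
  obtain ⟨r1, r2, r3, r4⟩ := Groth.Agent.S10591.result iX iY f f' hiX.1 hiY.1 w hcart ⟨n, hiX⟩ d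
  have up : ∀ (P : MorphismProperty Scheme.{u}) [Groth.Agent.Helper2.EtaleLocal.IsEtaleLocalST P],
      (∀ {A A' C C' D D' : Scheme.{u}} (jA : A ⟶ A') (jC : C ⟶ C') (jD : D ⟶ D')
        (p : A ⟶ C) (p' : A' ⟶ C') (q : C ⟶ D) (q' : C' ⟶ D'),
        MoreMor.IsFiniteOrderThickening jD → IsPullback jA (p ≫ q) (p' ≫ q') jD →
        IsPullback jC q q' jD → jA ≫ p' = p ≫ jC → Flat (p' ≫ q') → P p → P p') →
      (AlgSp.LocP P f.hom ↔ AlgSp.LocP P f'.hom) := by
    intro P _ Hsch
    constructor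
    · intro h
      exact Groth.Agent.Helper2.DeformChart.locP_transfer_fin iX.hom iY.hom iB.hom f.hom f'.hom
        g.hom g'.hom hcX hcY hw P Hsch hX' hY' B'.property ⟨n, hn⟩ hflat h
    · intro h
      exact Groth.Agent.Helper2.AlgSpBasic.locP_of_isPullback P hX' hY' hY hX
        f'.hom iY.hom iX.hom f.hom hcart h
  have hFlat := up @Flat (fun jA jC jD p p' q q' hT s1 s2 hw hfl hp => by
    haveI := hfl
    exact (Groth.Agent.S1317.result jA jC jD p p' q q' hT s1 s2 hw).1 hp)
  have hLfp := up @LocallyOfFinitePresentation (fun jA jC jD p p' q q' hT s1 s2 hw hfl hp => by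
    haveI := hfl
    exact (Groth.Agent.S1320.result jA jC jD p p' q q' hT s1 s2 hw).1 hp)
  have hSm := up @Smooth (fun jA jC jD p p' q q' hT s1 s2 hw hfl hp => by
    haveI := hfl
    exact (Groth.Agent.S1321.result jA jC jD p p' q q' hT s1 s2 hw).1 hp)
  have hEt := up @Etale (fun jA jC jD p p' q q' hT s1 s2 hw hfl hp => by
    haveI := hfl
    exact (Groth.Agent.S1322.result jA jC jD p p' q q' hT s1 s2 hw).1 hp)
  refine ⟨r1, hFlat, r2, r3, hLfp, hSm, r4, ?_⟩
  rw [Groth.Agent.Helper2.AlgSpBasic.isEtaleMor_iff_locP_etale hX hY,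
    Groth.Agent.Helper2.AlgSpBasic.isEtaleMor_iff_locP_etale hX' hY']
  exact hEt

end Groth.Agent.S10596
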