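import Groth.Statements.S10597
import Groth.Agent.S1317
import Groth.Agent.S1320
import Groth.Agent.S1322
import Groth.Agent.S10610
import Groth.Agent.Lib.Helper2.AlgSp.DeformDiag


set_option autoImplicit false
universe u
open CategoryTheory CategoryTheory.Limits AlgebraicGeometry
open AlgSp

namespace Groth.Agent.S10597

/-- Let iB : B ⟶ B' be a finite order thickening of algebraic spaces over S (a thickening such that for
one n the (n+1)-st power of the ideal vanishes on every affine etale scheme chart), f' : X' ⟶ Y' a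
morphism of algebraic spaces over B' (via g' : Y' ⟶ B') with X' flat over B', and f : X ⟶ Y, g : Y ⟶
B its base change to B (both squares to iB cartesian, iX ≫ f' = f ≫ iY). Then f is an isomorphism,
resp. an open immersion, resp. a monomorphism, resp. finite locally free, resp. finite locally free
of degree d, if and only if f' is. -/
theorem result {S : Scheme.{u}} {X X' Y Y' B B' : AlgSp.Space S} (iX : X ⟶ X') (iY : Y ⟶ Y') (iB : B ⟶ B')
    (f : X ⟶ Y) (f' : X' ⟶ Y') (g : Y ⟶ B) (g' : Y' ⟶ B')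
    (hcX : IsPullback iX.hom (f ≫ g).hom (f' ≫ g').hom iB.hom) (hcY : IsPullback iY.hom g.hom g'.hom iB.hom)
    (w : iX ≫ f' = f ≫ iY)
    (hB : AlgSp.IsFinThickMor iB.hom) (hflat : AlgSp.LocP @Flat (f' ≫ g').hom) :
    (IsIso f.hom ↔ IsIso f'.hom) ∧
    (AlgSp.RepWith @IsOpenImmersion f.hom ↔ AlgSp.RepWith @IsOpenImmersion f'.hom) ∧
    (Mono f.hom ↔ Mono f'.hom) ∧
    (AlgSp.IsFinLocFreeMor f.hom ↔ AlgSp.IsFinLocFreeMor f'.hom) ∧
    (∀ d : ℕ, AlgSp.IsFinLocFreeOfDegMor d f.hom ↔ AlgSp.IsFinLocFreeOfDegMor d f'.hom) := by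
  have hX := X.property
  have hX' := X'.property
  have hY := Y.property
  have hY' := Y'.property
  have hw : iX.hom ≫ f'.hom = f.hom ≫ iY.hom := congrArg (fun m => m.hom) w
  have hcart : IsPullback iX.hom f.hom f'.hom iY.hom := IsPullback.of_bot hcX hw hcY
  have hfin := Groth.Agent.S10610.result iX iY iB f f' g g' hcX hcY w hB hflat
  obtain ⟨n, hn⟩ := hB
  have hiX : AlgSp.IsThickMor iX.hom :=
    Groth.Agent.Helper2.AlgSpBasic.repWith_of_isPullback AlgSp.thick hcX.flip hn.1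
  have hiY : AlgSp.IsThickMor iY.hom :=
    Groth.Agent.Helper2.AlgSpBasic.repWith_of_isPullback AlgSp.thick hcY.flip hn.1
  have hiXs : AlgSp.RepWith @Surjective iX.hom :=
    Groth.Agent.Helper2.AlgSpBasic.repWith_mono (fun _ _ g hg => hg.2) hiX
  have hiYs : AlgSp.RepWith @Surjective iY.hom :=
    Groth.Agent.Helper2.AlgSpBasic.repWith_mono (fun _ _ g hg => hg.2) hiY
  have up : ∀ (P : MorphismProperty Scheme.{u}) [Groth.Agent.Helper2.EtaleLocal.IsEtaleLocalST P],
      (∀ {A A' C C' D D' : Scheme.{u}} (jA : A ⟶ A') (jC : C ⟶ C') (jD : D ⟶ D')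
        (p : A ⟶ C) (p' : A' ⟶ C') (q : C ⟶ D) (q' : C' ⟶ D'),
        MoreMor.IsFiniteOrderThickening jD → IsPullback jA (p ≫ q) (p' ≫ q') jD →
        IsPullback jC q q' jD → jA ≫ p' = p ≫ jC → Flat (p' ≫ q') → P p → P p') →
      (AlgSp.LocP P f.hom → AlgSp.LocP P f'.hom) := by
    intro P _ Hsch h
    exact Groth.Agent.Helper2.DeformChart.locP_transfer_fin iX.hom iY.hom iB.hom f.hom f'.hom
      g.hom g'.hom hcX hcY hw P Hsch hX' hY' B'.property ⟨n, hn⟩ hflat h
  have hFlat := up @Flat (fun jA jC jD p p' q q' hT s1 s2 hw hfl hp => by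
    haveI := hfl
    exact (Groth.Agent.S1317.result jA jC jD p p' q q' hT s1 s2 hw).1 hp)
  have hLfp := up @LocallyOfFinitePresentation (fun jA jC jD p p' q q' hT s1 s2 hw hfl hp => by
    haveI := hfl
    exact (Groth.Agent.S1320.result jA jC jD p p' q q' hT s1 s2 hw).1 hp)
  have hEt := up @Etale (fun jA jC jD p p' q q' hT s1 s2 hw hfl hp => by
    haveI := hfl
    exact (Groth.Agent.S1322.result jA jC jD p p' q q' hT s1 s2 hw).1 hp)
  have hDiag : AlgSp.LocP @Etale (pullback.diagonal f.hom) →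
      AlgSp.LocP @Etale (pullback.diagonal f'.hom) :=
    Groth.Agent.Helper2.DeformDiag.diag_etale_transfer_fin iX.hom iY.hom iB.hom f.hom f'.hom
      g.hom g'.hom hcX hcY hw
      (fun jA jC jD p p' q q' hT s1 s2 hw hfl hp => by
        haveI := hfl
        exact (Groth.Agent.S1322.result jA jC jD p p' q q' hT s1 s2 hw).1 hp)
      hX' hY' B'.property ⟨n, hn⟩ hflat
  have hMono : Mono f.hom → Mono f'.hom :=
    Groth.Agent.Helper2.DeformIso.mono_transfer iX.hom iY.hom f.hom f'.hom hcart hX hY hX' hY'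
      hiXs hDiag
  have hFLF : AlgSp.IsFinLocFreeMor f.hom ↔ AlgSp.IsFinLocFreeMor f'.hom :=
    Groth.Agent.Helper2.DeformIso.isFinLocFreeMor_transfer iX.hom iY.hom f.hom f'.hom hcart
      hX hY hX' hY' hfin.1 hFlat hLfp
  refine ⟨⟨?_, ?_⟩, ?_, ⟨hMono, ?_⟩, hFLF, fun d => ?_⟩
  · exact Groth.Agent.Helper2.DeformIso.isIso_transfer iX.hom iY.hom f.hom f'.hom hcart hY hX' hY'
      hiYs hEt hMono
  · exact Groth.Agent.Helper2.DeformIso.isIso_of_isIso_base iX.hom iY.hom f.hom f'.hom hcart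
  · exact Groth.Agent.Helper2.DeformIso.openImm_transfer iX.hom iY.hom f.hom f'.hom hcart
      hX hY hX' hY' hEt hMono
  · exact Groth.Agent.Helper2.DeformIso.mono_of_mono_base iX.hom iY.hom f.hom f'.hom hcart
  · exact Groth.Agent.Helper2.DeformIso.isFinLocFreeOfDegMor_transfer iX.hom iY.hom f.hom f'.hom
      hcart hiY hFLF d

end Groth.Agent.S10597
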