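import Groth.Statements.S10599
import Groth.Agent.S1381
import Groth.Agent.S1384
import Groth.Agent.S1385
import Groth.Agent.S10593
import Groth.Agent.Lib.Helper2.AlgSp.DeformChart
import Groth.Agent.Lib.Helper2.AlgSp.RelDimSp
import Groth.Agent.Lib.Helper2.EtaleLocalSmooth


set_option autoImplicit false
universe u
open CategoryTheory CategoryTheory.Limits AlgebraicGeometry
open AlgSp

namespace Groth.Agent.S10599

/-- Let iB : B ⟶ B' be a thickening of algebraic spaces over S (representable, every base change to a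
scheme a surjective closed immersion), f' : X' ⟶ Y' a morphism of algebraic spaces over B' (via g' :
Y' ⟶ B') with Y' locally of finite type over B' and X' flat and locally of finite presentation over
B', and f : X ⟶ Y, g : Y ⟶ B its base change to B (both squares to iB cartesian, iX ≫ f' = f ≫ iY).
Then f is locally of finite type of relative dimension d, resp. flat, resp. locally quasi-finite,
smooth, unramified, etale, if and only if f' is (etale-local sense; locally quasi-finite and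
unramified include locally of finite type). -/
theorem result {S : Scheme.{u}} {X X' Y Y' B B' : AlgSp.Space S} (iX : X ⟶ X') (iY : Y ⟶ Y') (iB : B ⟶ B')
    (f : X ⟶ Y) (f' : X' ⟶ Y') (g : Y ⟶ B) (g' : Y' ⟶ B')
    (hcX : IsPullback iX.hom (f ≫ g).hom (f' ≫ g').hom iB.hom) (hcY : IsPullback iY.hom g.hom g'.hom iB.hom)
    (w : iX ≫ f' = f ≫ iY)
    (hB : AlgSp.IsThickMor iB.hom)
    (hg' : AlgSp.LocP @LocallyOfFiniteType g'.hom)
    (hflat : AlgSp.LocP @Flat (f' ≫ g').hom) (hfp : AlgSp.LocP @LocallyOfFinitePresentation (f' ≫ g').hom) (d : ℕ) :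
    ((AlgSp.LocP @LocallyOfFiniteType f.hom ∧
        ∀ x, AlgSp.HasAtMor (fun _ _ h u => FlatMor.fibreDimAt h u = (d : WithBot ℕ∞)) f.hom x) ↔
      (AlgSp.LocP @LocallyOfFiniteType f'.hom ∧
        ∀ x', AlgSp.HasAtMor (fun _ _ h u => FlatMor.fibreDimAt h u = (d : WithBot ℕ∞)) f'.hom x')) ∧
    (AlgSp.LocP @Flat f.hom ↔ AlgSp.LocP @Flat f'.hom) ∧
    (AlgSp.LocP (@LocallyQuasiFinite ⊓ @LocallyOfFiniteType) f.hom ↔
      AlgSp.LocP (@LocallyQuasiFinite ⊓ @LocallyOfFiniteType) f'.hom) ∧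
    (AlgSp.LocP @Smooth f.hom ↔ AlgSp.LocP @Smooth f'.hom) ∧
    (AlgSp.LocP (@LocallyOfFiniteType ⊓ @FormallyUnramified) f.hom ↔
      AlgSp.LocP (@LocallyOfFiniteType ⊓ @FormallyUnramified) f'.hom) ∧
    (AlgSp.IsEtaleMor f.hom ↔ AlgSp.IsEtaleMor f'.hom) := by
  have hX := X.property
  have hX' := X'.property
  have hY := Y.property
  have hY' := Y'.property
  have hw : iX.hom ≫ f'.hom = f.hom ≫ iY.hom := congrArg (fun m => m.hom) w
  have hcart : IsPullback iX.hom f.hom f'.hom iY.hom := IsPullback.of_bot hcX hw hcY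
  have hiX : AlgSp.IsThickMor iX.hom :=
    Groth.Agent.Helper2.AlgSpBasic.repWith_of_isPullback AlgSp.thick hcX.flip hB
  have hiY : AlgSp.IsThickMor iY.hom :=
    Groth.Agent.Helper2.AlgSpBasic.repWith_of_isPullback AlgSp.thick hcY.flip hB
  -- `f'` and `f` are locally of finite type
  have hft' : AlgSp.LocP @LocallyOfFiniteType f'.hom :=
    Groth.Agent.Helper2.AlgSpBasic.locP_of_comp @LocallyOfFiniteType
      (fun _ _ _ x y hxy => by
        haveI : LocallyOfFiniteType (x ≫ y) := hxy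
        exact locallyOfFiniteType_of_comp x y)
      hX' hY' B'.property f'.hom g'.hom
      (Groth.Agent.Helper2.AlgSpBasic.locP_mono
        (fun _ _ q (hq : LocallyOfFinitePresentation q) =>
          (inferInstance : LocallyOfFiniteType q)) hfp)
  have hft : AlgSp.LocP @LocallyOfFiniteType f.hom :=
    Groth.Agent.Helper2.AlgSpBasic.locP_of_isPullback @LocallyOfFiniteType hX' hY' hY hX
      f'.hom iY.hom iX.hom f.hom hcart hft'
  obtain ⟨r3, r4⟩ := Groth.Agent.S10593.result iX iY f f' hiX hiY w hcart hft hft'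
  have hs : AlgSp.IsSurjectiveMor iX.hom :=
    Groth.Agent.Helper2.AlgSpBasic.isSurjectiveMor_of_repWith_surjective iX.hom
      (Groth.Agent.Helper2.AlgSpBasic.repWith_mono (fun _ _ g hg => hg.2) hiX)
  have bc : ∀ (x : AlgSp.Points X.obj),
      AlgSp.HasAtMor (fun _ _ h u => FlatMor.fibreDimAt h u = (d : WithBot ℕ∞)) f.hom x ↔
      AlgSp.HasAtMor (fun _ _ h u => FlatMor.fibreDimAt h u = (d : WithBot ℕ∞)) f'.hom
        (AlgSp.Points.map iX.hom x) := fun x =>
    Groth.Agent.Helper2.RelDimSp.hasAtMor_bc_iff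
      (Groth.Agent.Helper2.ChartIndepMor.etaleLocalST_fibreDimAt_eq _)
      (Groth.Agent.Helper2.RelDimSp.baseChangeInv_fibreDimAt_eq _) hX' hY' hX hY
      f'.hom iY.hom iX.hom f.hom hcart hft' x
  have up : ∀ (P : MorphismProperty Scheme.{u}) [Groth.Agent.Helper2.EtaleLocal.IsEtaleLocalST P],
      (∀ {A A' C C' D D' : Scheme.{u}} (jA : A ⟶ A') (jC : C ⟶ C') (jD : D ⟶ D')
        (p : A ⟶ C) (p' : A' ⟶ C') (q : C ⟶ D) (q' : C' ⟶ D'),
        MoreMor.IsThickening jD → IsPullback jA (p ≫ q) (p' ≫ q') jD →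
        IsPullback jC q q' jD → jA ≫ p' = p ≫ jC → Flat (p' ≫ q') →
        LocallyOfFinitePresentation (p' ≫ q') → LocallyOfFiniteType q' → P p → P p') →
      (AlgSp.LocP P f.hom ↔ AlgSp.LocP P f'.hom) := by
    intro P _ Hsch
    constructor
    · intro h
      exact Groth.Agent.Helper2.DeformChart.locP_transfer_gen iX.hom iY.hom iB.hom f.hom f'.hom
        g.hom g'.hom hcX hcY hw P Hsch hX' hY' B'.property hB hflat hfp hg' h
    · intro h
      exact Groth.Agent.Helper2.AlgSpBasic.locP_of_isPullback P hX' hY' hY hX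
        f'.hom iY.hom iX.hom f.hom hcart h
  have hFlat := up @Flat (fun jA jC jD p p' q q' hT s1 s2 hw hfl hfp hft hp => by
    haveI := hfl
    haveI := hfp
    haveI := hft
    exact (Groth.Agent.S1381.result jA jC jD p p' q q' hT s1 s2 hw).1 hp)
  have hSm := up @Smooth (fun jA jC jD p p' q q' hT s1 s2 hw hfl hfp hft hp => by
    haveI := hfl
    haveI := hfp
    haveI := hft
    exact (Groth.Agent.S1384.result jA jC jD p p' q q' hT s1 s2 hw).1 hp)
  have hEt := up @Etale (fun jA jC jD p p' q q' hT s1 s2 hw hfl hfp hft hp => by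
    haveI := hfl
    haveI := hfp
    haveI := hft
    exact (Groth.Agent.S1385.result jA jC jD p p' q q' hT s1 s2 hw).1 hp)
  refine ⟨⟨?_, ?_⟩, hFlat, r3, hSm, r4, ?_⟩
  · rintro ⟨-, h2⟩
    refine ⟨hft', fun x' => ?_⟩
    obtain ⟨x, rfl⟩ := hs x'
    exact (bc x).1 (h2 x)
  · rintro ⟨-, h2⟩
    exact ⟨hft, fun x => (bc x).2 (h2 _)⟩
  · rw [Groth.Agent.Helper2.AlgSpBasic.isEtaleMor_iff_locP_etale hX hY,
      Groth.Agent.Helper2.AlgSpBasic.isEtaleMor_iff_locP_etale hX' hY']
    exact hEt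

end Groth.Agent.S10599
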