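import Groth.Statements.S10600
import Groth.Agent.S1381
import Groth.Agent.S1385
import Groth.Agent.S10594
import Groth.Agent.Lib.Helper2.AlgSp.DeformDiag


set_option autoImplicit false
universe u
open CategoryTheory CategoryTheory.Limits AlgebraicGeometry
open AlgSp

namespace Groth.Agent.S10600

/-- Let iB : B ⟶ B' be a thickening of algebraic spaces over S (representable, every base change to a
scheme a surjective closed immersion), f' : X' ⟶ Y' a morphism of algebraic spaces over B' (via g' :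
Y' ⟶ B') with Y' locally of finite type over B' and X' flat and locally of finite presentation over
B', and f : X ⟶ Y, g : Y ⟶ B its base change to B (both squares to iB cartesian, iX ≫ f' = f ≫ iY).
Then f is an isomorphism, resp. an open immersion, resp. a monomorphism, resp. finite locally free,
resp. finite locally free of degree d, if and only if f' is. -/
theorem result {S : Scheme.{u}} {X X' Y Y' B B' : AlgSp.Space S} (iX : X ⟶ X') (iY : Y ⟶ Y') (iB : B ⟶ B')
    (f : X ⟶ Y) (f' : X' ⟶ Y') (g : Y ⟶ B) (g' : Y' ⟶ B')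
    (hcX : IsPullback iX.hom (f ≫ g).hom (f' ≫ g').hom iB.hom) (hcY : IsPullback iY.hom g.hom g'.hom iB.hom)
    (w : iX ≫ f' = f ≫ iY)
    (hB : AlgSp.IsThickMor iB.hom)
    (hg' : AlgSp.LocP @LocallyOfFiniteType g'.hom)
    (hflat : AlgSp.LocP @Flat (f' ≫ g').hom) (hfp : AlgSp.LocP @LocallyOfFinitePresentation (f' ≫ g').hom) :
    (IsIso f.hom ↔ IsIso f'.hom) ∧
    (AlgSp.RepWith @IsOpenImmersion f.hom ↔ AlgSp.RepWith @IsOpenImmersion f'.hom) ∧
    (Mono f.hom ↔ Mono f'.hom) ∧
    (AlgSp.IsFinLocFreeMor f.hom ↔ AlgSp.IsFinLocFreeMor f'.hom) ∧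
    (∀ d : ℕ, AlgSp.IsFinLocFreeOfDegMor d f.hom ↔ AlgSp.IsFinLocFreeOfDegMor d f'.hom) := by
  have hX := X.property
  have hX' := X'.property
  have hY := Y.property
  have hY' := Y'.property
  have hw : iX.hom ≫ f'.hom = f.hom ≫ iY.hom := congrArg (fun m => m.hom) w
  have hcart : IsPullback iX.hom f.hom f'.hom iY.hom := IsPullback.of_bot hcX hw hcY
  have hiX : AlgSp.IsThickMor iX.hom :=
    Groth.Agent.Helper2.AlgSpBasic.repWith_of_isPullback AlgSp.thick hcX.flip hB
  have hiY : AlgSp.IsThickMor iY.hom :=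
    Groth.Agent.Helper2.AlgSpBasic.repWith_of_isPullback AlgSp.thick hcY.flip hB
  have hiXs : AlgSp.RepWith @Surjective iX.hom :=
    Groth.Agent.Helper2.AlgSpBasic.repWith_mono (fun _ _ g hg => hg.2) hiX
  have hiYs : AlgSp.RepWith @Surjective iY.hom :=
    Groth.Agent.Helper2.AlgSpBasic.repWith_mono (fun _ _ g hg => hg.2) hiY
  -- `f'` is locally of finite presentation, `f'` and `f` are locally of finite type
  have hlfp' : AlgSp.LocP @LocallyOfFinitePresentation f'.hom :=
    Groth.Agent.Helper2.AlgSpBasic.locP_of_comp' @LocallyOfFinitePresentation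
      @LocallyOfFiniteType
      (fun _ _ _ x y hxy hy =>
        Groth.Agent.Helper2.EtaleLocal.locallyOfFinitePresentation_of_comp x y hxy hy)
      hX' hY' B'.property f'.hom g'.hom hfp hg'
  have hft' : AlgSp.LocP @LocallyOfFiniteType f'.hom :=
    Groth.Agent.Helper2.AlgSpBasic.locP_mono
      (fun _ _ q (hq : LocallyOfFinitePresentation q) =>
        (inferInstance : LocallyOfFiniteType q)) hlfp'
  have hft : AlgSp.LocP @LocallyOfFiniteType f.hom :=
    Groth.Agent.Helper2.AlgSpBasic.locP_of_isPullback @LocallyOfFiniteType hX' hY' hY hX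
      f'.hom iY.hom iX.hom f.hom hcart hft'
  have hfin := (Groth.Agent.S10594.result iX iY f f' hiX hiY w hcart hft hft').1
  have up : ∀ (P : MorphismProperty Scheme.{u}) [Groth.Agent.Helper2.EtaleLocal.IsEtaleLocalST P],
      (∀ {A A' C C' D D' : Scheme.{u}} (jA : A ⟶ A') (jC : C ⟶ C') (jD : D ⟶ D')
        (p : A ⟶ C) (p' : A' ⟶ C') (q : C ⟶ D) (q' : C' ⟶ D'),
        MoreMor.IsThickening jD → IsPullback jA (p ≫ q) (p' ≫ q') jD →
        IsPullback jC q q' jD → jA ≫ p' = p ≫ jC → Flat (p' ≫ q') →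
        LocallyOfFinitePresentation (p' ≫ q') → LocallyOfFiniteType q' → P p → P p') →
      (AlgSp.LocP P f.hom → AlgSp.LocP P f'.hom) := by
    intro P _ Hsch h
    exact Groth.Agent.Helper2.DeformChart.locP_transfer_gen iX.hom iY.hom iB.hom f.hom f'.hom
      g.hom g'.hom hcX hcY hw P Hsch hX' hY' B'.property hB hflat hfp hg' h
  have hFlat := up @Flat (fun jA jC jD p p' q q' hT s1 s2 hw hfl hfp hft hp => by
    haveI := hfl
    haveI := hfp
    haveI := hft
    exact (Groth.Agent.S1381.result jA jC jD p p' q q' hT s1 s2 hw).1 hp)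
  have hEt := up @Etale (fun jA jC jD p p' q q' hT s1 s2 hw hfl hfp hft hp => by
    haveI := hfl
    haveI := hfp
    haveI := hft
    exact (Groth.Agent.S1385.result jA jC jD p p' q q' hT s1 s2 hw).1 hp)
  have hDiag : AlgSp.LocP @Etale (pullback.diagonal f.hom) →
      AlgSp.LocP @Etale (pullback.diagonal f'.hom) :=
    Groth.Agent.Helper2.DeformDiag.diag_etale_transfer_gen iX.hom iY.hom iB.hom f.hom f'.hom
      g.hom g'.hom hcX hcY hw
      (fun jA jC jD p p' q q' hT s1 s2 hw hfl hfp hft hp => by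
        haveI := hfl
        haveI := hfp
        haveI := hft
        exact (Groth.Agent.S1385.result jA jC jD p p' q q' hT s1 s2 hw).1 hp)
      hX' hY' B'.property hB hflat hfp hft'
  have hMono : Mono f.hom → Mono f'.hom :=
    Groth.Agent.Helper2.DeformIso.mono_transfer iX.hom iY.hom f.hom f'.hom hcart hX hY hX' hY'
      hiXs hDiag
  have hFLF : AlgSp.IsFinLocFreeMor f.hom ↔ AlgSp.IsFinLocFreeMor f'.hom :=
    Groth.Agent.Helper2.DeformIso.isFinLocFreeMor_transfer iX.hom iY.hom f.hom f'.hom hcart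
      hX hY hX' hY' hfin.1 hFlat (fun _ => hlfp')
  refine ⟨⟨?_, ?_⟩, ?_, ⟨hMono, ?_⟩, hFLF, fun d => ?_⟩
  · exact Groth.Agent.Helper2.DeformIso.isIso_transfer iX.hom iY.hom f.hom f'.hom hcart hY hX' hY'
      hiYs hEt hMono
  · exact Groth.Agent.Helper2.DeformIso.isIso_of_isIso_base iX.hom iY.hom f.hom f'.hom hcart
  · exact Groth.Agent.Helper2.DeformIso.openImm_transfer iX.hom iY.hom f.hom f'.hom hcart
      hX hY hX' hY' hEt hMono
  · exact Groth.Agent.Helper2.DeformIso.mono_of_mono_base iX.hom iY.hom f.hom f'.hom hcart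
  · exact Groth.Agent.Helper2.DeformIso.isFinLocFreeOfDegMor_transfer iX.hom iY.hom f.hom f'.hom
      hcart hiY hFLF d

end Groth.Agent.S10600
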