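import Groth.Statements.S10614
import Groth.Agent.Lib.Helper2.Lqf.ClosedImmTfae


set_option autoImplicit false
universe u
open CategoryTheory CategoryTheory.Limits AlgebraicGeometry
open AlgSp

namespace Groth.Agent.S10614

/-- For a morphism f : X ⟶ Y of algebraic spaces over S, being a closed immersion (representable by
closed immersions) is equivalent to each of: (a) universally closed plus unramified plus
monomorphism; (b) universally closed plus unramified plus universally injective; (c) a universally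
closed monomorphism that is locally of finite type; (d) universally closed, universally injective,
locally of finite type and formally unramified (lifting sense). (Unramified is the etale-local
condition locally of finite type and formally unramified on charts; monomorphisms are taken in fppf
sheaves.) -/
theorem result {S : Scheme.{u}} {X Y : AlgSp.Space S} (f : X ⟶ Y) :
    (AlgSp.RepWith @IsClosedImmersion f.hom ↔
      (AlgSp.IsUnivClosedMor f.hom ∧ AlgSp.LocP (@LocallyOfFiniteType ⊓ @FormallyUnramified) f.hom ∧ Mono f.hom)) ∧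
    (AlgSp.RepWith @IsClosedImmersion f.hom ↔
      (AlgSp.IsUnivClosedMor f.hom ∧ AlgSp.LocP (@LocallyOfFiniteType ⊓ @FormallyUnramified) f.hom ∧ AlgSp.IsUnivInjectiveMor f.hom)) ∧
    (AlgSp.RepWith @IsClosedImmersion f.hom ↔
      (AlgSp.IsUnivClosedMor f.hom ∧ AlgSp.LocP @LocallyOfFiniteType f.hom ∧ Mono f.hom)) ∧
    (AlgSp.RepWith @IsClosedImmersion f.hom ↔
      (AlgSp.IsUnivClosedMor f.hom ∧ AlgSp.IsUnivInjectiveMor f.hom ∧ AlgSp.LocP @LocallyOfFiniteType f.hom ∧
        AlgSp.IsFormallyUnramifiedMor f.hom)) := by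
  have hX := X.property
  have hY := Y.property
  have key := Groth.Agent.Helper2.Lqf.repWith_isClosedImmersion_iff hX hY f.hom
  obtain ⟨t1, t2, t3, -⟩ := Groth.Agent.Helper2.Lqf.unramified_mono_tfae hX hY f.hom
  refine ⟨?_, ?_, ?_, ?_⟩
  · rw [key]
    constructor
    · rintro ⟨a, b, c⟩
      exact ⟨a, (t2.2 ⟨b, c⟩).1, c⟩
    · rintro ⟨a, b, c⟩
      exact ⟨a, (t2.1 ⟨b, c⟩).1, c⟩
  · rw [key]
    constructor
    · rintro ⟨a, b, c⟩
      have h := t1.1 (t2.2 ⟨b, c⟩)
      exact ⟨a, h.1, h.2⟩
    · rintro ⟨a, b, c⟩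
      have h := t2.1 (t1.2 ⟨b, c⟩)
      exact ⟨a, h.1, h.2⟩
  · exact key
  · rw [key]
    constructor
    · rintro ⟨a, b, c⟩
      have h := t3.1 (t2.2 ⟨b, c⟩)
      exact ⟨a, h.1, h.2.1, h.2.2⟩
    · rintro ⟨a, b, c, d⟩
      have h := t2.1 (t3.2 ⟨b, c, d⟩)
      exact ⟨a, h.1, h.2⟩

end Groth.Agent.S10614
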