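import Groth.Statements.S10625
import Mathlib
import Groth.Agent.Lib.Helper2.AlgSp.FormalLift

open Groth.Agent.Helper2.AlgSpFormal Groth.Agent.Helper2.AlgSpBasic

set_option autoImplicit false
universe u
open CategoryTheory CategoryTheory.Limits AlgebraicGeometry
open AlgSp

namespace Groth.Agent.S10625

/-- Take a formally etale morphism f : X ⟶ Y of algebraic spaces over S and let j : T ⟶ T' be a first
order thickening of algebraic spaces (not necessarily affine schemes) with a : T ⟶ X, b : T' ⟶ Y and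
a ≫ f = j ≫ b. Then there is exactly one l : T' ⟶ X with j ≫ l = a and l ≫ f = b. -/
theorem result {S : Scheme.{u}} {X Y : AlgSp.Space S} (f : X ⟶ Y)
    (hf : AlgSp.IsFormallyEtaleMor f.hom) {T T' : AlgSp.Space S} (j : T ⟶ T') (hj : AlgSp.IsFOThickMor j.hom)
    (a : T ⟶ X) (b : T' ⟶ Y) (w : a ≫ f = j ≫ b) :
    ∃! l : T' ⟶ X, j ≫ l = a ∧ l ≫ f = b := by
  have w' : a.hom ≫ f.hom = j.hom ≫ b.hom := congrArg (fun m => m.hom) w
  obtain ⟨l, ⟨h1, h2⟩, hu⟩ :=
    ul_of_isFormallyEtaleMor_space f.hom hf T'.property j.hom hj a.hom b.hom w'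
  refine ⟨⟨l⟩, ⟨ObjectProperty.hom_ext _ h1, ObjectProperty.hom_ext _ h2⟩, ?_⟩
  rintro m ⟨hm1, hm2⟩
  apply ObjectProperty.hom_ext
  exact hu m.hom ⟨congrArg (fun m => m.hom) hm1, congrArg (fun m => m.hom) hm2⟩

end Groth.Agent.S10625
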