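import Groth.Statements.S10628
import Groth.Agent.Lib.Helper2.AlgSp.FormalEtaleChar
import Groth.Agent.Lib.Helper3.InfSq


set_option autoImplicit false
universe u
open CategoryTheory CategoryTheory.Limits AlgebraicGeometry
open AlgSp

namespace Groth.Agent.S10628

/-- Take a formally smooth morphism f : X ⟶ Y of algebraic spaces over S, and let p : U ⟶ X and q : V ⟶
Y be etale morphisms of algebraic spaces with ψ : U ⟶ V such that ψ ≫ q = p ≫ f. Then ψ is formally
smooth. -/
theorem result {S : Scheme.{u}} {X Y U V : AlgSp.Space S} (f : X ⟶ Y)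
    (hf : AlgSp.IsFormallySmoothMor f.hom) (p : U ⟶ X) (q : V ⟶ Y) (hp : AlgSp.IsEtaleMor p.hom) (hq : AlgSp.IsEtaleMor q.hom)
    (ψ : U ⟶ V) (w : ψ ≫ q = p ≫ f) : AlgSp.IsFormallySmoothMor ψ.hom := by
  have hp' : AlgSp.IsFormallyEtaleMor p.hom :=
    Groth.Agent.Helper2.AlgSpFormal.isFormallyEtaleMor_of_isEtaleMor U.property X.property p.hom hp
  have hq' : AlgSp.IsFormallyEtaleMor q.hom :=
    Groth.Agent.Helper2.AlgSpFormal.isFormallyEtaleMor_of_isEtaleMor V.property Y.property q.hom hq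
  have h1 : AlgSp.IsFormallySmoothMor (p.hom ≫ f.hom) :=
    Groth.Agent.Helper3.InfSqLib.smooth_comp _ _
      (Groth.Agent.Helper2.AlgSpFormal.isFormallySmoothMor_of_isFormallyEtaleMor hp') hf
  have w' : ψ.hom ≫ q.hom = p.hom ≫ f.hom := congrArg (fun t => t.hom) w
  rw [← w'] at h1
  exact Groth.Agent.Helper3.InfSqLib.smooth_of_comp _ _
    (Groth.Agent.Helper2.AlgSpFormal.isFormallyUnramifiedMor_of_isFormallyEtaleMor hq') h1

end Groth.Agent.S10628
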