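import Groth.Statements.S10632
import Mathlib
import Groth.Agent.Lib.Helper2.AlgSp.FormalEtaleChar

open Groth.Agent.Helper2.AlgSpFormal Groth.Agent.Helper2.AlgSpBasic

set_option autoImplicit false
universe u
open CategoryTheory CategoryTheory.Limits AlgebraicGeometry
open AlgSp

namespace Groth.Agent.S10632

/-- Let e : Z ⟶ Y be an etale morphism of algebraic spaces over S, hY : Y ⟶ X, and let (iY : Y ⟶ Y', hY'
: Y' ⟶ X) be a universal first order thickening of Y over X. Let e' : Z' ⟶ Y' be etale with iZ : Z ⟶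
Z' making Z = Y ×_{Y'} Z' a pullback square. Then (iZ, e' ≫ hY') is a universal first order
thickening of Z over X. -/
theorem result {S : Scheme.{u}} {Z Y Y' Z' X : AlgSp.Space S} (e : Z ⟶ Y)
    (he : AlgSp.IsEtaleMor e.hom) (hY : Y ⟶ X) (iY : Y ⟶ Y') (hY' : Y' ⟶ X)
    (HU : AlgSp.IsUnivFOThick hY.hom iY.hom hY'.hom) (iZ : Z ⟶ Z') (e' : Z' ⟶ Y') (he' : AlgSp.IsEtaleMor e'.hom)
    (sq : IsPullback e.hom iZ.hom iY.hom e'.hom) :
    AlgSp.IsUnivFOThick (e ≫ hY).hom iZ.hom (e' ≫ hY').hom := by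
  obtain ⟨hiY, hw, HU⟩ := HU
  have hfe : IsFormallyEtaleMor e'.hom :=
    isFormallyEtaleMor_of_isEtaleMor Z'.property Y'.property e'.hom he'
  refine ⟨⟨repWith_of_isPullback thick sq hiY.1, ?_⟩, ?_, ?_⟩
  · intro V W b fst snd hV hb pb
    exact hiY.2 (b ≫ e'.hom) (fst ≫ e.hom) snd hV (he' b hb) (pb.paste_horiz sq)
  · change iZ.hom ≫ e'.hom ≫ hY'.hom = e.hom ≫ hY.hom
    rw [← Category.assoc, ← sq.w, Category.assoc, hw]
  · intro T T' hT hT' j a b hj w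
    change j ≫ b = a ≫ e.hom ≫ hY.hom at w
    change ∃! a' : T' ⟶ Z'.obj, j ≫ a' = a ≫ iZ.hom ∧ a' ≫ e'.hom ≫ hY'.hom = b
    obtain ⟨c, ⟨hc1, hc2⟩, hcu⟩ := HU hT hT' j (a ≫ e.hom) b hj (by rw [w, Category.assoc])
    have comm : (a ≫ iZ.hom) ≫ e'.hom = j ≫ c := by
      rw [hc1, Category.assoc, Category.assoc, sq.w]
    obtain ⟨a', ⟨ha1, ha2⟩, hau⟩ :=
      ul_of_isFormallyEtaleMor_space e'.hom hfe hT' j hj (a ≫ iZ.hom) c comm
    refine ⟨a', ⟨ha1, by rw [← Category.assoc, ha2, hc2]⟩, ?_⟩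
    rintro a'' ⟨h1, h2⟩
    have e1 : a'' ≫ e'.hom = c := by
      apply hcu
      refine ⟨?_, by rw [Category.assoc, h2]⟩
      rw [← Category.assoc, h1, Category.assoc, Category.assoc, sq.w]
    exact hau a'' ⟨h1, e1⟩

end Groth.Agent.S10632
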