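import Groth.Statements.S10641
import Groth.Agent.Lib.Helper2.AlgSp.UnrInjW
import Groth.Agent.Lib.Helper2.AlgSp.FpqcCI
import Groth.Agent.Lib.Helper2.AlgSt.PFacts4


set_option autoImplicit false
universe u
open CategoryTheory CategoryTheory.Limits AlgebraicGeometry
open AlgSp

namespace Groth.Agent.S10641

/-- For morphisms f : X ⟶ Y, p : X ⟶ Z and q : Y ⟶ Z of algebraic spaces over S with f ≫ q = p, where p
is universally closed and locally of finite type and q is separated, there is an open subspace W of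
Z with the following property: a morphism of algebraic spaces g : Z' ⟶ Z factors through W exactly
when the base change X' ⟶ Y' of f along g is a closed immersion (representable, and a closed
immersion on every represented pullback). Here the base change of f along g is any f' : X' ⟶ Y'
obtained from pullback squares Y' = Y ×_Z Z' and X' = X ×_Y Y' of algebraic spaces over S, and W ⊂ Z
is given as a representable open immersion w : W ⟶ Z. -/
theorem result {S : Scheme.{u}} {X Y Z : AlgSp.Space S}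
    (f : X ⟶ Y) (p : X ⟶ Z) (q : Y ⟶ Z) (hc : f ≫ q = p)
    (hp1 : AlgSp.LocP @LocallyOfFiniteType p.hom) (hp2 : AlgSp.IsUnivClosedMor p.hom)
    (hq : AlgSp.IsSeparatedMor q.hom) :
    ∃ (W : AlgSp.Space S) (w : W ⟶ Z), AlgSp.RepWith @IsOpenImmersion w.hom ∧
      ∀ (Z' : AlgSp.Space S) (g : Z' ⟶ Z),
        (∃ k : Z' ⟶ W, k ≫ w = g) ↔
          ∀ (Y' : AlgSp.Space S) (gY : Y' ⟶ Y) (q' : Y' ⟶ Z'),
            IsPullback gY.hom q'.hom q.hom g.hom →
            ∀ (X' : AlgSp.Space S) (gX : X' ⟶ X) (f' : X' ⟶ Y'),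
              IsPullback gX.hom f'.hom f.hom gY.hom →
                AlgSp.RepWith @IsClosedImmersion f'.hom := by
  have hX := X.property
  have hY := Y.property
  have hZ := Z.property
  have hc' : f.hom ≫ q.hom = p.hom := congrArg (fun m => m.hom) hc
  have hfuc : AlgSp.IsUnivClosedMor f.hom :=
    Groth.Agent.Helper2.AlgStLib.isUnivClosedMor_of_comp_of_isSeparatedMor hX hY hZ f.hom q.hom
      (by rw [hc']; exact hp2) hq
  have hpc : AlgSp.IsClosedMor p.hom :=
    hp2 hZ (𝟙 _) (𝟙 _) p.hom (IsPullback.of_horiz_isIso ⟨by simp⟩)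
  have sqXX := IsPullback.of_hasPullback f.hom f.hom
  have hXX : AlgSp.IsAlgSpace (pullback f.hom f.hom) :=
    Groth.Agent.Helper2.AlgSpBasic.isAlgSpace_of_isPullback hY.diag hX hX f.hom f.hom _ _ sqXX
  have hpr1 : AlgSp.IsUnivClosedMor (pullback.snd f.hom f.hom) :=
    Groth.Agent.Helper2.AlgStLib.univSp_of_isPullback _ sqXX hfuc
  have hcomp : AlgSp.IsUnivClosedMor (pullback.snd f.hom f.hom ≫ p.hom) :=
    Groth.Agent.Helper2.AlgStLib.isUnivClosedMor_comp hX hZ _ _ hpr1 hp2
  have hp3 : AlgSp.IsClosedMor (pullback.snd f.hom f.hom ≫ p.hom) :=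
    hcomp hZ (𝟙 _) (𝟙 _) _ (IsPullback.of_horiz_isIso ⟨by simp⟩)
  obtain ⟨W, w, hW, hw, H⟩ := Groth.Agent.Helper2.UnrAtSp.main640 hX hY hZ
    f.hom p.hom q.hom hc' (pullback.fst f.hom f.hom) (pullback.snd f.hom f.hom) sqXX hp1 hpc hp3
  refine ⟨⟨W, hW⟩, ObjectProperty.homMk w, hw, fun Z' g => ?_⟩
  constructor
  · rintro ⟨k, hk⟩ Y' gY q' sq1 X' gX f' sq2
    obtain ⟨h1, h2⟩ := (H Z'.obj Z'.property g.hom).mp ⟨k.hom, congrArg (fun m => m.hom) hk⟩
      Y'.obj Y'.property gY.hom q'.hom sq1 X'.obj X'.property gX.hom f'.hom sq2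
    exact (Groth.Agent.Helper2.Lqf.repWith_isClosedImmersion_iff_unr X'.property Y'.property
      f'.hom).1 ⟨Groth.Agent.Helper2.AlgStLib.univSp_of_isPullback _ sq2 hfuc, h1, h2⟩
  · intro h
    obtain ⟨k, hk⟩ := (H Z'.obj Z'.property g.hom).mpr
      (fun Y' hY' gY q' sq1 X' hX' gX f' sq2 =>
        ((Groth.Agent.Helper2.Lqf.repWith_isClosedImmersion_iff_unr hX' hY' f').2
          (h ⟨Y', hY'⟩ (ObjectProperty.homMk gY) (ObjectProperty.homMk q') sq1 ⟨X', hX'⟩
            (ObjectProperty.homMk gX) (ObjectProperty.homMk f') sq2)).2)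
    exact ⟨ObjectProperty.homMk k, by ext1; exact hk⟩

end Groth.Agent.S10641
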