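import Groth.Statements.S10644
import Groth.Agent.Lib.Helper2.AlgSp.WhereIso


set_option autoImplicit false
universe u
open CategoryTheory CategoryTheory.Limits AlgebraicGeometry
open AlgSp

namespace Groth.Agent.S10644

/-- For morphisms f : X ⟶ Y, p : X ⟶ Z and q : Y ⟶ Z of algebraic spaces over S with f ≫ q = p, where p
is flat, universally closed and locally of finite presentation and q is closed, separated and
locally of finite type, there is an open subspace W of Z with the following property: a morphism of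
algebraic spaces g : Z' ⟶ Z factors through W exactly when the base change X' ⟶ Y' of f along g is
an isomorphism. Here the base change of f along g is any f' : X' ⟶ Y' obtained from pullback squares
Y' = Y ×_Z Z' and X' = X ×_Y Y' of algebraic spaces over S, and W ⊂ Z is given as a representable
open immersion w : W ⟶ Z. -/
theorem result {S : Scheme.{u}} {X Y Z : AlgSp.Space S}
    (f : X ⟶ Y) (p : X ⟶ Z) (q : Y ⟶ Z) (hc : f ≫ q = p)
    (hp1 : AlgSp.LocP @LocallyOfFinitePresentation p.hom) (hp2 : AlgSp.LocP @Flat p.hom)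
    (hp3 : AlgSp.IsUnivClosedMor p.hom) (hq1 : AlgSp.LocP @LocallyOfFiniteType q.hom)
    (hq2 : AlgSp.IsClosedMor q.hom) (hq3 : AlgSp.IsSeparatedMor q.hom) :
    ∃ (W : AlgSp.Space S) (w : W ⟶ Z), AlgSp.RepWith @IsOpenImmersion w.hom ∧
      ∀ (Z' : AlgSp.Space S) (g : Z' ⟶ Z),
        (∃ k : Z' ⟶ W, k ≫ w = g) ↔
          ∀ (Y' : AlgSp.Space S) (gY : Y' ⟶ Y) (q' : Y' ⟶ Z'),
            IsPullback gY.hom q'.hom q.hom g.hom →
            ∀ (X' : AlgSp.Space S) (gX : X' ⟶ X) (f' : X' ⟶ Y'),
              IsPullback gX.hom f'.hom f.hom gY.hom →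
                IsIso f'.hom := by
  open Groth.Agent.Helper2.AlgSpBasic Groth.Agent.Helper2.WhereFlat in
  have hp1' : AlgSp.LocP @LocallyOfFinitePresentation (f.hom ≫ q.hom) := by
    rw [← hc] at hp1; exact hp1
  open Groth.Agent.Helper2.AlgSpBasic Groth.Agent.Helper2.WhereFlat in
  have hp2' : AlgSp.LocP @Flat (f.hom ≫ q.hom) := by
    rw [← hc] at hp2; exact hp2
  open Groth.Agent.Helper2.AlgSpBasic Groth.Agent.Helper2.WhereFlat in
  have hp3' : AlgSp.IsUnivClosedMor (f.hom ≫ q.hom) := by
    rw [← hc] at hp3; exact hp3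
  open Groth.Agent.Helper2.AlgSpBasic Groth.Agent.Helper2.WhereFlat in
  have hO : IsOpen (isoBase f.hom q.hom) :=
    isOpen_isoBase X.property Y.property Z.property f.hom q.hom hp1' hp2' hp3' hq1 hq2 hq3
  open Groth.Agent.Helper2.AlgSpBasic Groth.Agent.Helper2.WhereFlat in
  refine ⟨⟨openSub Z.obj (isoBase f.hom q.hom), isAlgSpace_openSub Z.property hO⟩,
    ObjectProperty.homMk (openSubι Z.obj (isoBase f.hom q.hom)),
    repWith_isOpenImmersion_openSubι Z.obj hO, ?_⟩
  intro Z' g
  open Groth.Agent.Helper2.AlgSpBasic Groth.Agent.Helper2.WhereFlat in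
  have hmain := where_iso_main X.property Y.property Z.property f.hom q.hom hp1' hp2' hq1
    Z'.property g.hom
  constructor
  · rintro ⟨k, rfl⟩ Y' gY q' sqY X' gX f' sqX
    refine hmain.mp ?_ Y'.obj gY.hom q'.hom Y'.property sqY X'.obj gX.hom f'.hom X'.property sqX
    intro z'
    show AlgSp.Points.map (k.hom ≫ _) z' ∈ _
    rw [AlgSp.Points.map_comp]
    exact Groth.Agent.Helper2.AlgSpBasic.points_map_openSubι_mem _ _ _
  · intro h
    have h' := hmain.mpr (fun Y' gY q' hY' sqY X' gX f' hX' sqX =>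
      h ⟨Y', hY'⟩ (ObjectProperty.homMk gY) (ObjectProperty.homMk q') sqY ⟨X', hX'⟩
        (ObjectProperty.homMk gX) (ObjectProperty.homMk f') sqX)
    refine ⟨ObjectProperty.homMk (Groth.Agent.Helper2.AlgSpBasic.openSubLift _ g.hom h'), ?_⟩
    apply ObjectProperty.hom_ext
    exact Groth.Agent.Helper2.AlgSpBasic.openSubLift_ι _ g.hom h'

end Groth.Agent.S10644
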