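import Groth.Statements.S10651
import Groth.Agent.Lib.Helper2.AlgSp.SchImageProper
import Groth.Agent.Lib.Helper2.AlgSp.SchImage
import Groth.Agent.Lib.Helper2.AlgSp.ProperQf


set_option autoImplicit false
universe u
open CategoryTheory CategoryTheory.Limits AlgebraicGeometry
open AlgSp

namespace Groth.Agent.S10651

/-- Consider morphisms h : X ⟶ Y, f : X ⟶ B, g : Y ⟶ B of algebraic spaces over S with h ≫ g = f, a
point b of |B| and a field point k of B in the class of b. Assume f is proper, g is separated and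
locally of finite type, and either (a) for the fibres X_k ⟶ Y_k of h over k (pullbacks in fppf
sheaves) the image of |X_k| in |Y_k| is finite, or (b) the image in |Y| of the fibre of |X| ⟶ |B|
over b is finite and B is decent. Then over some open subspace B' of B containing b the base change
X_{B'} ⟶ Y_{B'} of h lands in a closed subspace Z of Y_{B'} that is finite over B' (it factors
through Z). -/
theorem result {S : Scheme.{u}} {X Y B : AlgSp.Space S} (h : X ⟶ Y) (f : X ⟶ B) (g : Y ⟶ B) (hc : h ≫ g = f)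
    (b : AlgSp.Points B.obj) (k : AlgSp.FieldPt B.obj) (hk : AlgSp.Points.mk k = b)
    (hf : AlgSp.IsProperMor f.hom) (hg1 : AlgSp.IsSeparatedMor g.hom) (hg2 : AlgSp.LocP @LocallyOfFiniteType g.hom)
    (h3 : (∀ (Yk : AlgSp.Sp S) (gY : Yk ⟶ Y.obj) (sY : Yk ⟶ (AlgSp.yon S).obj k.pt),
            IsPullback gY sY g.hom k.toHom →
            ∀ (Xk : AlgSp.Sp S) (gX : Xk ⟶ X.obj) (hk' : Xk ⟶ Yk), IsPullback gX hk' h.hom gY →
              (Set.range (AlgSp.Points.map hk')).Finite) ∨
          ((AlgSp.Points.map h.hom '' (AlgSp.Points.map f.hom ⁻¹' {b})).Finite ∧ AlgSp.IsDecent B.obj)) :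
    ∃ (B' : AlgSp.Space S) (j : B' ⟶ B), AlgSp.RepWith @IsOpenImmersion j.hom ∧
      b ∈ Set.range (AlgSp.Points.map j.hom) ∧
        ∀ (YB : AlgSp.Space S) (gY : YB ⟶ Y) (sY : YB ⟶ B'), IsPullback gY.hom sY.hom g.hom j.hom →
          ∀ (XB : AlgSp.Space S) (gX : XB ⟶ X) (hB : XB ⟶ YB), IsPullback gX.hom hB.hom h.hom gY.hom →
            ∃ (Z : AlgSp.Space S) (i : Z ⟶ YB) (e : XB ⟶ Z), AlgSp.RepWith @IsClosedImmersion i.hom ∧
              AlgSp.IsFiniteMor (i ≫ sY).hom ∧ e ≫ i = hB := by
  open Groth.Agent.Helper2.AlgSpBasic Groth.Agent.Helper2.EtaleLocal in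
  classical
  have hcomm : h.hom ≫ g.hom = f.hom := congrArg (fun φ => φ.hom) hc
  obtain ⟨Z, hZ, i, hZi⟩ := Groth.Agent.Helper2.SchImage.main64 X.property Y.property h.hom
  obtain ⟨hi, ⟨h', fac⟩, -⟩ := id hZi
  obtain ⟨hprop, hsurj⟩ := Groth.Agent.Helper2.SchImageProper.main81 X.property Y.property hZ
    B.property h.hom f.hom g.hom hcomm hf hg1 hg2 i hZi h' fac
  have himono : Mono i := mono_of_repWith_monomorphisms i
    (repWith_mono (fun _ _ g (hg : IsClosedImmersion g) => (inferInstance : Mono g)) hi)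
  -- a field point over `b` with finite fibre in `Z`
  have key : ∃ k' : FieldPt B.obj, Points.mk k' = b ∧
      Finite (Points (pullback (i ≫ g.hom) k'.toHom)) := by
    rcases h3 with ha | ⟨hb, hd⟩
    · refine ⟨k, hk, ?_⟩
      obtain ⟨zk, sk, sqZk⟩ : ∃ (zk : pullback (i ≫ g.hom) k.toHom ⟶ Z)
          (sk : pullback (i ≫ g.hom) k.toHom ⟶ (yon S).obj k.pt),
          IsPullback zk sk (i ≫ g.hom) k.toHom := ⟨_, _, IsPullback.of_hasPullback _ _⟩
      have sqY := IsPullback.of_hasPullback g.hom k.toHom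
      have sqX := IsPullback.of_hasPullback h.hom (pullback.fst g.hom k.toHom)
      have hfin := ha _ _ _ sqY _ _ _ sqX
      obtain ⟨iZ, hiZ1, hiZ2⟩ : ∃ iZ : pullback (i ≫ g.hom) k.toHom ⟶ pullback g.hom k.toHom,
          iZ ≫ pullback.fst g.hom k.toHom = zk ≫ i ∧ iZ ≫ pullback.snd g.hom k.toHom = sk :=
        ⟨sqY.lift (zk ≫ i) sk (by rw [Category.assoc]; exact sqZk.w), sqY.lift_fst _ _ _,
          sqY.lift_snd _ _ _⟩
      have sqT : IsPullback zk iZ i (pullback.fst g.hom k.toHom) := by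
        refine IsPullback.of_bot ?_ hiZ1.symm sqY
        rw [hiZ2]
        exact sqZk
      have : Mono iZ := sqT.mono_snd_of_mono
      have hinj := injective_points_map_of_mono iZ
      have hsub : ∀ ζ : Points (pullback (i ≫ g.hom) k.toHom), Points.map iZ ζ ∈
          Set.range (Points.map (pullback.snd h.hom (pullback.fst g.hom k.toHom))) := by
        intro ζ
        obtain ⟨x, hx⟩ := hsurj (Points.map zk ζ)
        have e : Points.map (pullback.fst g.hom k.toHom) (Points.map iZ ζ) =
            Points.map h.hom x := by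
          rw [← Points.map_comp, hiZ1, Points.map_comp, ← hx, ← Points.map_comp, fac]
        obtain ⟨ξ, hξ1, -⟩ := points_exists_of_isPullback h.hom (pullback.fst g.hom k.toHom)
          (pullback.snd h.hom (pullback.fst g.hom k.toHom))
          (pullback.fst h.hom (pullback.fst g.hom k.toHom)) sqX.flip _ x e
        exact ⟨ξ, hξ1⟩
      have h1 : (Set.univ : Set (Points (pullback (i ≫ g.hom) k.toHom))).Finite :=
        (hfin.preimage hinj.injOn).subset (fun ζ _ => hsub ζ)
      exact Set.finite_univ_iff.mp h1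
    · obtain ⟨p, hp, hm, -⟩ := hd b
      refine ⟨p, hp, ?_⟩
      have : Mono p.toHom := hm
      obtain ⟨zk, sk, sqZk⟩ : ∃ (zk : pullback (i ≫ g.hom) p.toHom ⟶ Z)
          (sk : pullback (i ≫ g.hom) p.toHom ⟶ (yon S).obj p.pt),
          IsPullback zk sk (i ≫ g.hom) p.toHom := ⟨_, _, IsPullback.of_hasPullback _ _⟩
      have : Mono zk := sqZk.mono_fst_of_mono
      have : Mono (zk ≫ i) := mono_comp zk i
      have hinj := injective_points_map_of_mono (zk ≫ i)
      have hsub : ∀ ζ : Points (pullback (i ≫ g.hom) p.toHom), Points.map (zk ≫ i) ζ ∈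
          Points.map h.hom '' (Points.map f.hom ⁻¹' {b}) := by
        intro ζ
        obtain ⟨x, hx⟩ := hsurj (Points.map zk ζ)
        refine ⟨x, ?_, ?_⟩
        · change Points.map f.hom x = b
          obtain ⟨c, hc'⟩ := (Points.schemeHomeo p.pt).surjective (Points.map sk ζ)
          change Points.ofScheme p.pt c = Points.map sk ζ at hc'
          rw [← hcomm, ← fac, Category.assoc, Points.map_comp, hx, ← Points.map_comp, sqZk.w,
            Points.map_comp, ← hc', ← Points.ofPt_eq_map_ofScheme, Points.ofPt_toHom, hp]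
        · rw [← fac, Points.map_comp, hx, ← Points.map_comp]
      have h1 : (Set.univ : Set (Points (pullback (i ≫ g.hom) p.toHom))).Finite :=
        (hb.preimage hinj.injOn).subset (fun ζ _ => hsub ζ)
      exact Set.finite_univ_iff.mp h1
  obtain ⟨k', hk', hfin⟩ := key
  obtain ⟨O, hO, hbO, H⟩ :=
    Groth.Agent.Helper2.ProperQf.exists_open_finite_of_proper_finite_fibre hZ B.property
      (i ≫ g.hom) hprop k' _ _ _ (IsPullback.of_hasPullback (i ≫ g.hom) k'.toHom) hfin
  refine ⟨⟨openSub B.obj O, isAlgSpace_openSub B.property hO⟩,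
    ObjectProperty.homMk (openSubι B.obj O), repWith_isOpenImmersion_openSubι _ hO, ?_, ?_⟩
  · change b ∈ Set.range (Points.map (openSubι B.obj O))
    rw [range_points_map_openSubι, ← hk']
    exact hbO
  · intro YB gY sY sqY XB gX hB sqX
    obtain ⟨zZ, i', sqZ⟩ : ∃ (zZ : pullback i gY.hom ⟶ Z) (i' : pullback i gY.hom ⟶ YB.obj),
        IsPullback zZ i' i gY.hom := ⟨_, _, IsPullback.of_hasPullback _ _⟩
    have hZ' : IsAlgSpace (pullback i gY.hom) :=
      isAlgSpace_of_isPullback Y.property.diag hZ YB.property i gY.hom zZ i' sqZ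
    have hi' : RepWith @IsClosedImmersion i' := repWith_of_isPullback @IsClosedImmersion sqZ hi
    have sqP : IsPullback zZ (i' ≫ sY.hom) (i ≫ g.hom) (openSubι B.obj O) := sqZ.paste_vert sqY
    have hfinM : IsFiniteMor (i' ≫ sY.hom) := H _ zZ (i' ≫ sY.hom) hZ' sqP
    obtain ⟨e, he1, he2⟩ : ∃ e : XB.obj ⟶ pullback i gY.hom, e ≫ zZ = gX.hom ≫ h' ∧
        e ≫ i' = hB.hom :=
      ⟨sqZ.lift (gX.hom ≫ h') hB.hom (by rw [Category.assoc, fac]; exact sqX.w),
        sqZ.lift_fst _ _ _, sqZ.lift_snd _ _ _⟩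
    refine ⟨⟨pullback i gY.hom, hZ'⟩, ObjectProperty.homMk i', ObjectProperty.homMk e, hi',
      hfinM, ?_⟩
    apply ObjectProperty.hom_ext
    exact he2

end Groth.Agent.S10651
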