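import Groth.Statements.S10676
import Groth.Agent.Lib.Helper2.Lqf.EtSplitMulti


set_option autoImplicit false
universe u
open CategoryTheory CategoryTheory.Limits AlgebraicGeometry
open AlgSp

namespace Groth.Agent.S10676

/-- For a separated morphism f : X ⟶ Y of algebraic spaces over S which is locally of finite type, a
point y of |Y| and a finite set xs of points of |X| mapping to y at each of which f is quasi-finite
(some etale chart diagram through the point has top arrow locally quasi-finite and locally of finite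
type on an open neighbourhood), assuming moreover that f is quasi-compact or Y is decent: there are
an etale morphism of algebraic spaces a : U ⟶ Y and a point u of |U| over y such that for the base
change P = U ×_Y X there is an open and closed subspace V ⊂ P, finite over U, such that every point
of |V| over u maps into xs and no point of |P| outside |V| lying over u maps into xs. -/
theorem result {S : Scheme.{u}} {X Y : AlgSp.Space S} (f : X ⟶ Y) (y : AlgSp.Points Y.obj)
    (xs : Finset (AlgSp.Points X.obj)) (hxs : ∀ x ∈ xs, AlgSp.Points.map f.hom x = y)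
    (hf1 : AlgSp.LocP @LocallyOfFiniteType f.hom) (hf2 : AlgSp.IsSeparatedMor f.hom)
    (hf3 : ∀ x ∈ xs, AlgSp.HasAtMor (fun U _ h u => ∃ W : U.Opens, u ∈ W ∧ LocallyQuasiFinite (W.ι ≫ h) ∧ LocallyOfFiniteType (W.ι ≫ h)) f.hom x)
    (hf4 : AlgSp.IsQuasiCompactMor f.hom ∨ AlgSp.IsDecent Y.obj) :
    ∃ (U : AlgSp.Space S) (a : U ⟶ Y) (u : AlgSp.Points U.obj), AlgSp.IsEtaleMor a.hom ∧ AlgSp.Points.map a.hom u = y ∧
      ∀ (P : AlgSp.Space S) (prX : P ⟶ X) (prU : P ⟶ U), IsPullback prX.hom prU.hom f.hom a.hom →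
        ∃ (V : AlgSp.Space S) (jV : V ⟶ P), AlgSp.RepWith @IsOpenImmersion jV.hom ∧ AlgSp.RepWith @IsClosedImmersion jV.hom ∧
          AlgSp.IsFiniteMor (jV ≫ prU).hom ∧
          (∀ v : AlgSp.Points V.obj, AlgSp.Points.map (jV ≫ prU).hom v = u → AlgSp.Points.map (jV ≫ prX).hom v ∈ xs) ∧
          ∀ w : AlgSp.Points P.obj, w ∉ Set.range (AlgSp.Points.map jV.hom) → AlgSp.Points.map prU.hom w = u →
            AlgSp.Points.map prX.hom w ∉ xs := by
  open Groth.Agent.Helper2.Lqf Groth.Agent.Helper2.AlgSpBasic in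
  obtain ⟨T', V0, a, u, q, c, hae, hau, hcomm, hfin, hfib, hopen⟩ :=
    exists_etale_multiSplit X.property Y.property f.hom y xs hxs hf1 hf2 hf3 hf4
  refine ⟨⟨(yon S).obj T', IsAlgSpace.yon_obj T'⟩, ObjectProperty.homMk a,
    Points.ofScheme T' u, ?_, ?_, ?_⟩
  · intro U φ hφ
    exact repWith_comp @Etale hφ hae
  · change Points.map a (Points.ofScheme T' u) = y
    rw [← Points.ofPt_eq_map_ofScheme, hau]
  · intro P prX prU sqP
    obtain ⟨l, hl1, hl2⟩ : ∃ l : (yon S).obj V0 ⟶ P.obj, l ≫ prX.hom = c ∧
        l ≫ prU.hom = (yon S).map q :=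
      ⟨sqP.lift c ((yon S).map q) hcomm, sqP.lift_fst _ _ _, sqP.lift_snd _ _ _⟩
    obtain ⟨hlo, hcompl⟩ := hopen P.obj prX.hom prU.hom sqP l hl1 hl2
    have hfinM : RepWith @IsFinite (l ≫ prU.hom) := by
      rw [hl2]
      exact (repWith_yon_map_iff @IsFinite q).2 hfin
    have hsep : IsSeparatedMor prU.hom := repWith_diagonal_of_isPullback @IsClosedImmersion sqP hf2
    refine ⟨⟨(yon S).obj V0, IsAlgSpace.yon_obj V0⟩, ObjectProperty.homMk l, hlo,
      repWith_isClosedImmersion_of_comp_finite l prU.hom hsep hfinM hlo, ?_, ?_, ?_⟩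
    · change IsFiniteMor (l ≫ prU.hom)
      rw [hl2]
      exact isFiniteMor_yon_map q hfin
    · intro v hv
      obtain ⟨v0, rfl⟩ := (Points.schemeHomeo V0).surjective v
      change Points.map (l ≫ prU.hom) (Points.ofScheme V0 v0) = Points.ofScheme T' u at hv
      change Points.map (l ≫ prX.hom) (Points.ofScheme V0 v0) ∈ xs
      rw [hl1, ← Points.ofPt_eq_map_ofScheme]
      apply hfib
      rw [hl2] at hv
      have h2 := Points.map_yon_map_apply q v0
      change Points.map ((yon S).map q) (Points.ofScheme V0 v0) =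
        Points.ofScheme T' (q.left v0) at h2
      rw [hv] at h2
      exact ((Points.schemeHomeo T').injective h2).symm
    · intro w hw hwu
      exact hcompl w hw hwu

end Groth.Agent.S10676
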