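import Groth.Statements.S10677
import Groth.Agent.Lib.Helper2.Lqf.EtSplit


set_option autoImplicit false
universe u
open CategoryTheory CategoryTheory.Limits AlgebraicGeometry
open AlgSp

namespace Groth.Agent.S10677

/-- For a separated morphism f : X ⟶ Y of algebraic spaces over S which is locally of finite type and a
point x of |X| with image y at which f is quasi-finite (some etale chart diagram through x has top
arrow locally quasi-finite and locally of finite type on an open neighbourhood), there are an etale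
morphism a : U ⟶ Y and a point u of |U| over y such that for the base change P = U ×_Y X there is an
open and closed subspace V ⊂ P, finite over U, containing a point mapping to x in |X| and to u in
|U|. -/
theorem result {S : Scheme.{u}} {X Y : AlgSp.Space S} (f : X ⟶ Y) (x : AlgSp.Points X.obj)
    (hf1 : AlgSp.LocP @LocallyOfFiniteType f.hom) (hf2 : AlgSp.IsSeparatedMor f.hom)
    (hf3 : AlgSp.HasAtMor (fun U _ h u => ∃ W : U.Opens, u ∈ W ∧ LocallyQuasiFinite (W.ι ≫ h) ∧ LocallyOfFiniteType (W.ι ≫ h)) f.hom x) :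
    ∃ (U : AlgSp.Space S) (a : U ⟶ Y) (u : AlgSp.Points U.obj), AlgSp.IsEtaleMor a.hom ∧
      AlgSp.Points.map a.hom u = AlgSp.Points.map f.hom x ∧
      ∀ (P : AlgSp.Space S) (prX : P ⟶ X) (prU : P ⟶ U), IsPullback prX.hom prU.hom f.hom a.hom →
        ∃ (V : AlgSp.Space S) (jV : V ⟶ P), AlgSp.RepWith @IsOpenImmersion jV.hom ∧ AlgSp.RepWith @IsClosedImmersion jV.hom ∧
          AlgSp.IsFiniteMor (jV ≫ prU).hom ∧
          ∃ v : AlgSp.Points V.obj, AlgSp.Points.map (jV ≫ prX).hom v = x ∧ AlgSp.Points.map (jV ≫ prU).hom v = u := by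
  open Groth.Agent.Helper2.Lqf Groth.Agent.Helper2.AlgSpBasic in
  obtain ⟨T', V0, a, q, c, v, hae, hcomm, hfin, hpt, hopen⟩ :=
    exists_etale_split X.property Y.property f.hom x hf1 hf2 hf3
  refine ⟨⟨(yon S).obj T', IsAlgSpace.yon_obj T'⟩, ObjectProperty.homMk a,
    Points.ofScheme T' (q.left v), ?_, ?_, ?_⟩
  · intro U φ hφ
    exact repWith_comp @Etale hφ hae
  · change Points.map a (Points.ofScheme T' (q.left v)) = Points.map f.hom x
    rw [← Points.ofPt_eq_map_ofScheme, ← ofPt_yon_map_comp, ← hcomm, ← Points.map_ofPt, hpt]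
  · intro P prX prU sqP
    obtain ⟨l, hl1, hl2⟩ : ∃ l : (yon S).obj V0 ⟶ P.obj, l ≫ prX.hom = c ∧
        l ≫ prU.hom = (yon S).map q :=
      ⟨sqP.lift c ((yon S).map q) hcomm, sqP.lift_fst _ _ _, sqP.lift_snd _ _ _⟩
    have hlo : RepWith @IsOpenImmersion l := hopen P.obj prX.hom prU.hom sqP l hl1 hl2
    have hfinM : RepWith @IsFinite (l ≫ prU.hom) := by
      rw [hl2]
      exact (repWith_yon_map_iff @IsFinite q).2 hfin
    have hsep : IsSeparatedMor prU.hom := repWith_diagonal_of_isPullback @IsClosedImmersion sqP hf2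
    refine ⟨⟨(yon S).obj V0, IsAlgSpace.yon_obj V0⟩, ObjectProperty.homMk l, hlo,
      repWith_isClosedImmersion_of_comp_finite l prU.hom hsep hfinM hlo, ?_,
      Points.ofScheme V0 v, ?_, ?_⟩
    · change IsFiniteMor (l ≫ prU.hom)
      rw [hl2]
      exact isFiniteMor_yon_map q hfin
    · change Points.map (l ≫ prX.hom) (Points.ofScheme V0 v) = x
      rw [hl1, ← Points.ofPt_eq_map_ofScheme, hpt]
    · change Points.map (l ≫ prU.hom) (Points.ofScheme V0 v) = Points.ofScheme T' (q.left v)
      rw [hl2]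
      exact Points.map_yon_map_apply q v

end Groth.Agent.S10677
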