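import Groth.Statements.S10721
import Groth.Agent.Lib.Lead.BL1

set_option autoImplicit false
universe u
open TensorProduct
open EtAlg

namespace Groth.Agent.S10721

/-- Glueing along a glueing pair detects closed immersions of affine schemes, stated for coordinate
rings. Let `(R → R', f)` be a glueing pair and `φ : A → B` a homomorphism of `R`-algebras with `A`,
`B` glueable as `R`-modules (so `Spec A`, `Spec B` are affine and glueable over `Spec R`). Then `φ`
is surjective (a closed immersion on spectra) if and only if `A_f → B_f` and `R' ⊗_R A → R' ⊗_R B`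
are surjective. -/
theorem result (R : Type u) [CommRing R] (R' : Type u) [CommRing R'] [Algebra R R'] (f : R)
    (hRR' : EtGlue.IsGlueingPair R R' f) (A B : Type u) [CommRing A] [Algebra R A] [CommRing B] [Algebra R B]
    (hA : EtGlue.IsGlueable R R' f A) (hB : EtGlue.IsGlueable R R' f B) (φ : A →ₐ[R] B) :
    Function.Surjective φ ↔
      Function.Surjective (Localization.awayMap φ.toRingHom (algebraMap R A f)) ∧ Function.Surjective (Algebra.TensorProduct.map (AlgHom.id R R') φ).toRingHom := by
  have hq := hRR'.1
  constructor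
  · intro hφ
    constructor
    · intro y
      obtain ⟨⟨b, s⟩, rfl⟩ := IsLocalization.mk'_surjective
        (Submonoid.powers (φ.toRingHom (algebraMap R A f))) y
      obtain ⟨n, hn⟩ := s.2
      obtain ⟨a, rfl⟩ := hφ b
      refine ⟨IsLocalization.mk' (Localization.Away (algebraMap R A f)) a
        (⟨(algebraMap R A f) ^ n, n, rfl⟩ : Submonoid.powers (algebraMap R A f)), ?_⟩
      unfold Localization.awayMap IsLocalization.Away.map
      rw [IsLocalization.map_mk']
      congr 1
      apply Subtype.ext
      simp only [map_pow]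
      exact hn
    · intro x
      induction x using TensorProduct.induction_on with
      | zero => exact ⟨0, map_zero _⟩
      | tmul r' b =>
        obtain ⟨a, rfl⟩ := hφ b
        exact ⟨r' ⊗ₜ a, by simp⟩
      | add x y hx hy =>
        obtain ⟨x', rfl⟩ := hx
        obtain ⟨y', rfl⟩ := hy
        exact ⟨x' + y', map_add _ _ _⟩
  · rintro ⟨h1, h2⟩
    set Rg : Submodule R B := LinearMap.range φ.toLinearMap with hRg
    have htors : ∀ c : B ⧸ Rg, ∃ n : ℕ, f ^ n • c = 0 := by
      intro c
      obtain ⟨b, rfl⟩ := Submodule.Quotient.mk_surjective _ c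
      obtain ⟨x, hx⟩ := h1 (algebraMap B _ b)
      obtain ⟨⟨a, s⟩, rfl⟩ := IsLocalization.mk'_surjective
        (Submonoid.powers (algebraMap R A f)) x
      obtain ⟨n, hn⟩ := s.2
      unfold Localization.awayMap IsLocalization.Away.map at hx
      rw [IsLocalization.map_mk', IsLocalization.mk'_eq_iff_eq_mul, ← map_mul,
        IsLocalization.eq_iff_exists (Submonoid.powers (φ.toRingHom (algebraMap R A f)))] at hx
      obtain ⟨⟨t, m, hm⟩, ht⟩ := hx
      refine ⟨m + n, ?_⟩
      rw [← Submodule.Quotient.mk_smul, Submodule.Quotient.mk_eq_zero]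
      refine ⟨(algebraMap R A f) ^ m * a, ?_⟩
      have hfB : φ.toRingHom (algebraMap R A f) = algebraMap R B f := φ.commutes f
      simp only [← hm, ← hn, hfB] at ht
      rw [Algebra.smul_def, map_pow, pow_add]
      change φ ((algebraMap R A f) ^ m * a) = _
      rw [map_mul, map_pow, φ.commutes]
      change (algebraMap R B f) ^ m * φ a = _
      have h3 : φ.toRingHom a = φ a := rfl
      rw [h3] at ht
      rw [ht, map_pow, hfB]
      ring
    have hzero : ∀ x : R' ⊗[R] A,
        LinearMap.lTensor R' (Submodule.mkQ Rg)
          ((Algebra.TensorProduct.map (AlgHom.id R R') φ) x) = 0 := by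
      intro x
      induction x using TensorProduct.induction_on with
      | zero => simp
      | tmul r' a =>
        rw [Algebra.TensorProduct.map_tmul, LinearMap.lTensor_tmul]
        have : Submodule.mkQ Rg (φ a) = 0 := by
          rw [Submodule.mkQ_apply, Submodule.Quotient.mk_eq_zero]
          exact ⟨a, rfl⟩
        rw [this, TensorProduct.tmul_zero]
      | add x y hx hy => rw [map_add, map_add, hx, hy, add_zero]
    intro b
    have hb : (1 : R') ⊗ₜ[R] (Submodule.Quotient.mk b : B ⧸ Rg) = (1 : R') ⊗ₜ[R] (0 : B ⧸ Rg) := by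
      obtain ⟨x, hx⟩ := h2 ((1 : R') ⊗ₜ[R] b)
      have := hzero x
      change LinearMap.lTensor R' (Submodule.mkQ Rg)
          ((Algebra.TensorProduct.map (AlgHom.id R R') φ).toRingHom x) = 0 at this
      rw [hx, LinearMap.lTensor_tmul] at this
      rw [TensorProduct.tmul_zero]
      exact this
    have h0 := (Groth.Agent.Lead.BL.tors_bijective hq htors).1 hb
    rw [Submodule.Quotient.mk_eq_zero] at h0
    obtain ⟨a, ha⟩ := h0
    exact ⟨a, ha⟩

end Groth.Agent.S10721
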