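import Groth.Statements.S1073
import Mathlib
import Groth.Agent.Lib.Helper5.TorQC.ResTF

set_option autoImplicit false
universe u
open CategoryTheory CategoryTheory.Limits AlgebraicGeometry Opposite
attribute [local instance] HasDerivedCategory.standard
open Perf



namespace Groth.Agent.S1073

/-- Let X be a quasi-separated scheme, E ∈ D(O_X) with quasi-coherent cohomology sheaves, and a ≤ b.
Then E has tor amplitude in [a, b] (Hⁱ(E ⊗^L F) = 0 outside [a, b] for every O_X-module F, whenever
the derived functor is available) if and only if the same vanishing holds for every quasi-coherent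
O_X-module F. -/
theorem result (X : Scheme.{u}) [QuasiSeparatedSpace ↥X] (E : DCoh.D X) (hE : DCoh.IsQCohD E)
    (a b : ℤ) (hab : a ≤ b) :
    DCoh.HasTorAmplitudeIn a b E ↔
      ∀ (F : X.Modules), Coh.IsQCoh F → ∀ [DCoh.HasLTensorMod F] (i : ℤ), (i < a ∨ b < i) →
        IsZero (DCoh.HD ((DCoh.LTensorMod F).obj E) i) := by
  constructor
  · intro h F _ inst i hi
    exact h F i hi
  · intro h F inst i hi
    obtain ⟨P, hP, -, ⟨eP⟩⟩ := Groth.Agent.Lib.Helper5.Pure.exists_kflat_repr E
    -- the comparison `H^i(E ⊗^L G) ≅ H^i(P ⊗ G)`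
    have key : ∀ (G : X.Modules) [DCoh.HasLTensorMod G],
        Nonempty (DCoh.HD ((DCoh.LTensorMod G).obj E) i ≅
          (Groth.Agent.Lib.Helper5.TorQC.TF P G).homology i) := by
      intro G _
      refine ⟨(DerivedCategory.homologyFunctor X.Modules i).mapIso
        ((DCoh.LTensorMod G).mapIso eP.symm ≪≫
          Groth.Agent.Lib.Helper5.LTM.ltensorModObjIso G P hP) ≪≫
        (DerivedCategory.homologyFunctorFactors X.Modules i).app _⟩
    obtain ⟨e⟩ := key F
    refine IsZero.of_iso ?_ e
    apply Groth.Agent.Lib.Helper5.TorQC.isZero_homology_TF_of_qcoh P i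
    intro G hG
    haveI : DCoh.HasLTensorMod G := Groth.Agent.Lib.Helper5.LTM.hasLTensorMod G
    obtain ⟨e'⟩ := key G
    exact IsZero.of_iso (h G hG i hi) e'.symm

end Groth.Agent.S1073
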