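import Groth.Statements.S10750
import Groth.Agent.Lib.Helper2.AlgSp.ProperQf


set_option autoImplicit false
universe u
open CategoryTheory CategoryTheory.Limits AlgebraicGeometry Opposite
open AlgSp

namespace Groth.Agent.S10750

/-- Take a proper morphism f : X ⟶ Y of algebraic spaces over S whose target Y is locally Noetherian,
and let y be a geometric point of Y such that the fibre X_y (a pullback of f along the corresponding
morphism from the spectrum of the algebraically closed field) has finitely many points. Then there
is an open subspace V of Y containing the image of y such that the base change X ×_Y V ⟶ V is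
finite. -/
theorem result {S : Scheme.{u}} {X Y : AlgSp.Space S}
    (f : X ⟶ Y) (hY : AlgSp.IsLocNoethSp Y.obj) (hf : AlgSp.IsProperMor f.hom) (y : AlgSp.FieldPt Y.obj)
    (hy : y.IsGeometric) (Xy : AlgSp.Sp S) (fst : Xy ⟶ X.obj) (snd : Xy ⟶ (AlgSp.yon S).obj y.pt)
    (hsq : IsPullback fst snd f.hom y.toHom) (hfin : Finite (AlgSp.Points Xy)) :
    ∃ (V : AlgSp.Space S) (j : V ⟶ Y), AlgSp.RepWith @IsOpenImmersion j.hom ∧
      AlgSp.Points.mk y ∈ Set.range (AlgSp.Points.map j.hom) ∧
        ∀ (P : AlgSp.Space S) (fst' : P ⟶ X) (snd' : P ⟶ V), IsPullback fst'.hom snd'.hom f.hom j.hom →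
          AlgSp.IsFiniteMor snd'.hom := by
  open Groth.Agent.Helper2.AlgSpBasic in
  obtain ⟨O, hO, hyO, hfinO⟩ :=
    Groth.Agent.Helper2.ProperQf.exists_open_finite_of_proper_finite_fibre
      X.property Y.property f.hom hf y Xy fst snd hsq hfin
  refine ⟨⟨openSub Y.obj O, isAlgSpace_openSub Y.property hO⟩, ObjectProperty.homMk (openSubι Y.obj O),
    repWith_isOpenImmersion_openSubι Y.obj hO, ?_, ?_⟩
  · change Points.mk y ∈ Set.range (Points.map (openSubι Y.obj O))
    rw [range_points_map_openSubι]
    exact hyO
  · intro P fst' snd' sq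
    exact hfinO P.obj fst'.hom snd'.hom P.property sq

end Groth.Agent.S10750
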