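import Groth.Statements.S1077
import Mathlib
import Groth.Agent.Lib.Helper5.SubObj.FinLen

set_option autoImplicit false
universe v u
open CategoryTheory CategoryTheory.Limits
open CohDer



namespace Groth.Agent.S1077

/-- An object X of an abelian category is Artinian and Noetherian if and only if there is a finite chain
of subobjects ⊥ = F₀ ≤ F₁ ≤ … ≤ Fₙ = ⊤ of X whose successive quotients Fᵢ₊₁/Fᵢ are simple. -/
theorem result {A : Type u} [Category.{v} A] [Abelian A] (X : A) :
    (IsArtinianObject X ∧ IsNoetherianObject X) ↔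
      ∃ (n : ℕ) (F : Fin (n + 1) → Subobject X) (hF : Monotone F), F 0 = ⊥ ∧ F (Fin.last n) = ⊤ ∧
        ∀ i : Fin n, Simple (cokernel (Subobject.ofLE (F (Fin.castSucc i)) (F (Fin.succ i)) (hF (Fin.castSucc_lt_succ (i := i)).le))) := by
  constructor
  · rintro ⟨hA, hN⟩
    obtain ⟨a, h0, n, hn, hc⟩ :=
      exists_covBy_seq_of_wellFoundedLT_wellFoundedGT_of_le (bot_le : (⊥ : Subobject X) ≤ ⊤)
    have hF : Monotone (fun i : Fin (n + 1) => a i) :=
      Fin.monotone_iff_le_succ.2 (fun i => (hc i i.2).le)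
    refine ⟨n, fun i => a i, hF, by simpa using h0, by simpa using hn, fun i => ?_⟩
    exact Helper5.SubObj.simple_of_covBy _ (hc i i.2)
  · rintro ⟨n, F, hF, h0, hn, hs⟩
    obtain ⟨h1, h2⟩ := Helper5.SubObj.wf_of_wcovBy_chain n F h0 hn
      (fun i => (Helper5.SubObj.covBy_of_simple _ (hs i)).wcovBy)
    exact ⟨(isArtinianObject.is_iff X).2 h1, (isNoetherianObject.is_iff X).2 h2⟩

end Groth.Agent.S1077
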