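import Groth.Statements.S12915
import Mathlib

set_option autoImplicit false
universe u
open CAlgX

namespace Groth.Agent.S12915

namespace H12915
open MvPolynomial

variable (k : Type u) [Field k] (r : ℕ)

lemma degSet_eq (n : ℕ) :
    {d : Fin (r + 1) →₀ ℕ | d.degree = n} = ↑((Finset.univ : Finset (Fin (r + 1))).finsuppAntidiag n) := by
  ext d
  simp [Finset.mem_finsuppAntidiag, Finsupp.degree_eq_sum]

lemma finrank_homog (n : ℕ) :
    Module.finrank k (homogeneousSubmodule (Fin (r + 1)) k n) = Nat.choose (n + r) r := by
  rw [homogeneousSubmodule_eq_finsupp_supported, degSet_eq]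
  rw [(AddMonoidAlgebra.supportedEquivFinsupp (R := k) (S := k)
    (↑((Finset.univ : Finset (Fin (r + 1))).finsuppAntidiag n) : Set (Fin (r + 1) →₀ ℕ))).finrank_eq]
  rw [Module.finrank_finsupp_self]
  have : Fintype.card (↑(↑((Finset.univ : Finset (Fin (r + 1))).finsuppAntidiag n) :
      Set (Fin (r + 1) →₀ ℕ))) = ((Finset.univ : Finset (Fin (r + 1))).finsuppAntidiag n).card := by
    simp
  rw [this, Finset.card_finsuppAntidiag_nat_eq_choose]
  simp only [Finset.card_univ, Fintype.card_fin]
  have : r + 1 + n - 1 = n + r := by omega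
  rw [this, Nat.choose_symm_add]


attribute [local instance] MvPolynomial.gradedAlgebra

/-- a homogeneous multiple of a homogeneous polynomial has a homogeneous cofactor -/
lemma exists_homog_cofactor {m t : ℕ} (hmt : m ≤ t) (f : MvPolynomial (Fin (r + 1)) k)
    (hf : f.IsHomogeneous m) (q : MvPolynomial (Fin (r + 1)) k)
    (hx : (f * q).IsHomogeneous t) :
    ∃ q' : MvPolynomial (Fin (r + 1)) k, q'.IsHomogeneous (t - m) ∧ f * q' = f * q := by
  refine ⟨(DirectSum.decompose (homogeneousSubmodule (Fin (r + 1)) k) q (t - m) : _),
    (DirectSum.decompose (homogeneousSubmodule (Fin (r + 1)) k) q (t - m)).2, ?_⟩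
  have h1 := DirectSum.coe_decompose_mul_of_left_mem_of_le (𝒜 := homogeneousSubmodule (Fin (r + 1)) k)
    (a := f) (b := q) (i := m) (n := t) hf hmt
  rw [← h1]
  have h2 : (f * q) ∈ homogeneousSubmodule (Fin (r + 1)) k t := hx
  rw [DirectSum.decompose_of_mem_same _ h2]

theorem main (m : ℕ) (f : MvPolynomial (Fin (r + 1)) k) (hf : f.IsHomogeneous m) (hf0 : f ≠ 0)
    (t : ℕ) (ht : m ≤ t) :
    Module.finrank k
        (Submodule.map ((Ideal.Quotient.mkₐ k (Ideal.span {f})).toLinearMap)
          (MvPolynomial.homogeneousSubmodule (Fin (r + 1)) k t)) =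
      Nat.choose (t + r) r - Nat.choose (t + r - m) r := by
  set φ := (Ideal.Quotient.mkₐ k (Ideal.span {f})).toLinearMap with hφ
  set H := fun n => homogeneousSubmodule (Fin (r + 1)) k n with hH
  have : ∀ n, Module.Finite k (H n) := fun n =>
    Module.Finite.of_fg (homogeneousSubmodule_fg (σ := Fin (r + 1)) (R := k) n)
  let ψ : H t →ₗ[k] _ := φ.domRestrict (H t)
  have hrange : LinearMap.range ψ = Submodule.map φ (H t) := LinearMap.range_domRestrict _ _
  -- multiplication by f
  have hdeg : m + (t - m) = t := by omega
  let μ : H (t - m) →ₗ[k] H t :=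
    { toFun := fun p => ⟨f * p.1, by
        have := hf.mul p.2
        rw [hdeg] at this
        exact this⟩
      map_add' := by
        intro p q
        apply Subtype.ext
        simp [mul_add]
      map_smul' := by
        intro c p
        apply Subtype.ext
        simp }
  have hμinj : Function.Injective μ := by
    intro p q hpq
    have h1 : f * p.1 = f * q.1 := congr_arg Subtype.val hpq
    exact Subtype.ext (mul_left_cancel₀ hf0 h1)
  have hker : LinearMap.range μ = LinearMap.ker ψ := by
    ext x
    constructor
    · rintro ⟨p, rfl⟩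
      rw [LinearMap.mem_ker]
      show Ideal.Quotient.mk _ (f * p.1) = 0
      rw [Ideal.Quotient.eq_zero_iff_mem]
      exact Ideal.mul_mem_right _ _ (Ideal.subset_span rfl)
    · intro hx
      rw [LinearMap.mem_ker] at hx
      have hx' : Ideal.Quotient.mk (Ideal.span {f}) x.1 = 0 := hx
      rw [Ideal.Quotient.eq_zero_iff_mem, Ideal.mem_span_singleton'] at hx'
      obtain ⟨q, hq⟩ := hx'
      rw [mul_comm] at hq
      have hxh : (f * q).IsHomogeneous t := by rw [hq]; exact x.2
      obtain ⟨q', hq'h, hq'⟩ := exists_homog_cofactor k r ht f hf q hxh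
      refine ⟨⟨q', hq'h⟩, ?_⟩
      apply Subtype.ext
      show f * q' = x.1
      rw [hq', hq]
  have hrn := LinearMap.finrank_range_add_finrank_ker ψ
  rw [hrange, ← hker, LinearMap.finrank_range_of_inj hμinj] at hrn
  have e1 : Module.finrank k (H t) = Nat.choose (t + r) r := finrank_homog k r t
  have e2 : Module.finrank k (H (t - m)) = Nat.choose (t + r - m) r := by
    rw [show t + r - m = (t - m) + r by omega]
    exact finrank_homog k r (t - m)
  have hrn' : Module.finrank k (Submodule.map φ (H t)) + Module.finrank k (H (t - m)) =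
      Module.finrank k (H t) := hrn
  rw [e1, e2] at hrn'
  show Module.finrank k (Submodule.map φ (H t)) = _
  omega

end H12915

/-- Let k be a field, S = k[x_0, …, x_r], and f a nonzero homogeneous polynomial of degree m. For every
t ≥ m the image in S/(f) of the homogeneous polynomials of degree t is a k-vector space of dimension
C(t + r, r) - C(t + r - m, r). (The published clause states that the hypersurface f = 0 in P^r has
degree m; its proof computes exactly this Hilbert function, whose polynomial has leading term m
t^(r-1)/(r-1)!, and that computation is what is stated here.) -/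
theorem result (k : Type u) [Field k] (r m : ℕ)
    (f : MvPolynomial (Fin (r + 1)) k) (hf : f.IsHomogeneous m) (hf0 : f ≠ 0) (t : ℕ) (ht : m ≤ t) :
    Module.finrank k
        (Submodule.map ((Ideal.Quotient.mkₐ k (Ideal.span {f})).toLinearMap)
          (MvPolynomial.homogeneousSubmodule (Fin (r + 1)) k t)) =
      Nat.choose (t + r) r - Nat.choose (t + r - m) r := by
  exact H12915.main k r m f hf hf0 t ht

end Groth.Agent.S12915
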