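import Groth.Statements.S10824
import Mathlib
import Groth.Agent.S12915

set_option autoImplicit false
universe u
open Variety

namespace Groth.Agent.S10824

namespace H10824
open MvPolynomial Groth.Agent.S12915.H12915

attribute [local instance] MvPolynomial.gradedAlgebra

variable (k : Type u) [Field k]

abbrev H (e : ℕ) := homogeneousSubmodule (Fin 3) k e

lemma finrank_H (e : ℕ) : Module.finrank k (H k e) = Nat.choose (e + 2) 2 :=
  finrank_homog k 2 e

instance (e : ℕ) : Module.Finite k (H k e) :=
  Module.Finite.of_fg (homogeneousSubmodule_fg (σ := Fin 3) (R := k) e)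


section
variable (n m e : ℕ) (f g : MvPolynomial (Fin 3) k) (hf : f.IsHomogeneous n) (hg : g.IsHomogeneous m)

/-- `(a, b) ↦ f a + g b` -/
noncomputable def Φ : (H k (m + e) × H k (n + e)) →ₗ[k] H k (n + m + e) where
  toFun p := ⟨f * p.1.1 + g * p.2.1, by
    have h1 : (f * p.1.1).IsHomogeneous (n + m + e) := by
      have := hf.mul p.1.2
      rwa [← add_assoc] at this
    have h2 : (g * p.2.1).IsHomogeneous (n + m + e) := by
      have := hg.mul p.2.2
      rwa [← add_assoc, add_comm m n] at this
    exact h1.add h2⟩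
  map_add' := by
    intro p q
    apply Subtype.ext
    simp only [Prod.fst_add, Prod.snd_add, Submodule.coe_add]
    ring
  map_smul' := by
    intro c p
    apply Subtype.ext
    simp only [Prod.smul_fst, Prod.smul_snd, Submodule.coe_smul, RingHom.id_apply,
      Algebra.mul_smul_comm, smul_add]

/-- `c ↦ (g c, - f c)` -/
noncomputable def Ψ : H k e →ₗ[k] (H k (m + e) × H k (n + e)) where
  toFun c := (⟨g * c.1, hg.mul c.2⟩, ⟨-(f * c.1), (hf.mul c.2).neg⟩)
  map_add' := by
    intro p q
    apply Prod.ext <;> apply Subtype.ext <;> simp [mul_add, add_comm]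
  map_smul' := by
    intro c p
    apply Prod.ext <;> apply Subtype.ext <;> simp


include hf hg in
lemma range_Φ : LinearMap.range (Φ k n m e f g hf hg) =
    Submodule.comap (H k (n + m + e)).subtype
      ((Ideal.span ({f, g} : Set (MvPolynomial (Fin 3) k))).restrictScalars k) := by
  ext x
  constructor
  · rintro ⟨p, rfl⟩
    show f * p.1.1 + g * p.2.1 ∈ Ideal.span ({f, g} : Set (MvPolynomial (Fin 3) k))
    exact Ideal.add_mem _ (Ideal.mul_mem_right _ _ (Ideal.subset_span (by simp)))
      (Ideal.mul_mem_right _ _ (Ideal.subset_span (by simp)))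
  · intro hx
    have hx' : x.1 ∈ Ideal.span ({f, g} : Set (MvPolynomial (Fin 3) k)) := hx
    rw [Ideal.mem_span_pair] at hx'
    obtain ⟨a', b', hab⟩ := hx'
    have hn : n ≤ n + m + e := by omega
    have hm : m ≤ n + m + e := by omega
    have h1 := DirectSum.coe_decompose_mul_of_left_mem_of_le (𝒜 := homogeneousSubmodule (Fin 3) k)
      (a := f) (b := a') (i := n) (n := n + m + e) hf hn
    have h2 := DirectSum.coe_decompose_mul_of_left_mem_of_le (𝒜 := homogeneousSubmodule (Fin 3) k)
      (a := g) (b := b') (i := m) (n := n + m + e) hg hm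
    have h3 : (DirectSum.decompose (homogeneousSubmodule (Fin 3) k) x.1 (n + m + e) : _) = x.1 :=
      DirectSum.decompose_of_mem_same _ x.2
    have e1 : n + m + e - n = m + e := by omega
    have e2 : n + m + e - m = n + e := by omega
    let a : H k (m + e) := ⟨(DirectSum.decompose (homogeneousSubmodule (Fin 3) k) a' (n + m + e - n) : _),
      by rw [← e1]; exact (DirectSum.decompose (homogeneousSubmodule (Fin 3) k) a' (n + m + e - n)).2⟩
    let b : H k (n + e) := ⟨(DirectSum.decompose (homogeneousSubmodule (Fin 3) k) b' (n + m + e - m) : _),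
      by rw [← e2]; exact (DirectSum.decompose (homogeneousSubmodule (Fin 3) k) b' (n + m + e - m)).2⟩
    refine ⟨(a, b), ?_⟩
    apply Subtype.ext
    show f * a.1 + g * b.1 = x.1
    rw [← h3, ← hab, mul_comm a' f, mul_comm b' g, DirectSum.decompose_add,
      DirectSum.add_apply, Submodule.coe_add, h1, h2]

lemma Ψ_injective (hg0 : g ≠ 0) : Function.Injective (Ψ k n m e f g hf hg) := by
  intro c c' h
  have h1 : g * c.1 = g * c'.1 := congr_arg (fun p => p.1.1) h
  exact Subtype.ext (mul_left_cancel₀ hg0 h1)

lemma range_Ψ (hg0 : g ≠ 0) (hfg : IsRelPrime f g) :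
    LinearMap.range (Ψ k n m e f g hf hg) = LinearMap.ker (Φ k n m e f g hf hg) := by
  ext p
  constructor
  · rintro ⟨c, rfl⟩
    rw [LinearMap.mem_ker]
    apply Subtype.ext
    show f * (g * c.1) + g * (-(f * c.1)) = 0
    ring
  · intro hp
    rw [LinearMap.mem_ker] at hp
    have hp' : f * p.1.1 + g * p.2.1 = 0 := congr_arg Subtype.val hp
    have hdvd : g ∣ f * p.1.1 := ⟨-p.2.1, by linear_combination hp'⟩
    obtain ⟨c', hc'⟩ := (hfg.symm).dvd_of_dvd_mul_left hdvd
    have hh : (g * c').IsHomogeneous (m + e) := by rw [← hc']; exact p.1.2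
    obtain ⟨c, hch, hc⟩ := exists_homog_cofactor k 2 (Nat.le_add_right m e) g hg c' hh
    rw [Nat.add_sub_cancel_left] at hch
    refine ⟨⟨c, hch⟩, ?_⟩
    apply Prod.ext <;> apply Subtype.ext
    · show g * c = p.1.1
      rw [hc, hc']
    · show -(f * c) = p.2.1
      have h5 : g * (f * c + p.2.1) = 0 := by
        have : p.1.1 = g * c := by rw [hc, hc']
        rw [this] at hp'
        linear_combination hp'
      have h6 := (mul_eq_zero.mp h5).resolve_left hg0
      linear_combination -h6


lemma choose_identity (n m e : ℕ) :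
    Nat.choose (n + m + e + 2) 2 + Nat.choose (e + 2) 2 =
      Nat.choose (m + e + 2) 2 + Nat.choose (n + e + 2) 2 + n * m := by
  have key : ∀ x : ℕ, 2 * Nat.choose (x + 2) 2 = (x + 2) * (x + 1) := by
    intro x
    rw [Nat.choose_two_right, show x + 2 - 1 = x + 1 by omega]
    have : 2 ∣ (x + 2) * (x + 1) := by
      rcases Nat.even_or_odd x with ⟨y, hy⟩ | ⟨y, hy⟩
      · exact Dvd.dvd.mul_right ⟨y + 1, by omega⟩ _
      · exact Dvd.dvd.mul_left ⟨y + 1, by omega⟩ _
    omega
  have h1 := key (n + m + e)
  have h2 := key e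
  have h3 := key (m + e)
  have h4 := key (n + e)
  nlinarith [h1, h2, h3, h4]

include hf hg in
theorem main' (hf0 : f ≠ 0) (hg0 : g ≠ 0) (hfg : IsRelPrime f g) :
    Module.finrank k
        (↥(H k (n + m + e)) ⧸
          Submodule.comap (H k (n + m + e)).subtype
            ((Ideal.span ({f, g} : Set (MvPolynomial (Fin 3) k))).restrictScalars k)) = n * m := by
  have hq := Submodule.finrank_quotient_add_finrank (Submodule.comap (H k (n + m + e)).subtype
            ((Ideal.span ({f, g} : Set (MvPolynomial (Fin 3) k))).restrictScalars k))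
  rw [← range_Φ k n m e f g hf hg] at hq ⊢
  have h1 := LinearMap.finrank_range_add_finrank_ker (Φ k n m e f g hf hg)
  rw [← range_Ψ k n m e f g hf hg hg0 hfg,
    LinearMap.finrank_range_of_inj (Ψ_injective k n m e f g hf hg hg0),
    Module.finrank_prod, finrank_H, finrank_H, finrank_H] at h1
  rw [finrank_H] at hq
  have h2 := choose_identity n m e
  omega

end

theorem main (n m d : ℕ)
    (f g : MvPolynomial (Fin 3) k) (hf : f.IsHomogeneous n) (hg : g.IsHomogeneous m)
    (hf0 : f ≠ 0) (hg0 : g ≠ 0) (hfg : IsRelPrime f g) (hd : n + m ≤ d) :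
    Module.finrank k
        (↥(MvPolynomial.homogeneousSubmodule (Fin 3) k d) ⧸
          Submodule.comap (MvPolynomial.homogeneousSubmodule (Fin 3) k d).subtype
            ((Ideal.span ({f, g} : Set (MvPolynomial (Fin 3) k))).restrictScalars k)) = n * m := by
  obtain ⟨e, rfl⟩ := Nat.exists_eq_add_of_le hd
  exact main' k n m e f g hf hg hf0 hg0 hfg

end H10824

/-- Let k be a field, S the polynomial ring in three variables over k with degree-d part S_d, and f, g
nonzero homogeneous polynomials of positive degrees n and m with no common non-unit factor. Then for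
every d ≥ n + m the degree-d part of S/(f, g), namely S_d modulo its intersection with the ideal (f,
g), has dimension n·m over k. -/
theorem result (k : Type u) [Field k] (n m d : ℕ)
    (f g : MvPolynomial (Fin 3) k) (hf : f.IsHomogeneous n) (hg : g.IsHomogeneous m)
    (hn : 0 < n) (hm : 0 < m) (hf0 : f ≠ 0) (hg0 : g ≠ 0) (hfg : IsRelPrime f g) (hd : n + m ≤ d) :
    Module.finrank k
        (↥(MvPolynomial.homogeneousSubmodule (Fin 3) k d) ⧸
          Submodule.comap (MvPolynomial.homogeneousSubmodule (Fin 3) k d).subtype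
            ((Ideal.span ({f, g} : Set (MvPolynomial (Fin 3) k))).restrictScalars k)) = n * m := by
  exact H10824.main k n m d f g hf hg hf0 hg0 hfg hd

end Groth.Agent.S10824
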