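import Groth.Statements.S10826
import Mathlib

set_option autoImplicit false
open CAlg

namespace Groth.Agent.S10826

namespace H10826
open MvPowerSeries Finsupp

variable {R : Type*} [CommRing R] {σ : Type*}

/-- the order filtration, by coefficients -/
def Fil (k : ℕ) (f : MvPowerSeries σ R) : Prop := ∀ d : σ →₀ ℕ, d.degree < k → coeff d f = 0

lemma fil_iff_order {k : ℕ} {f : MvPowerSeries σ R} : Fil k f ↔ (k : ℕ∞) ≤ f.order := by
  constructor
  · intro h
    exact nat_le_order h
  · intro h d hd
    apply coeff_of_lt_order
    exact lt_of_lt_of_le (by exact_mod_cast hd) h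

lemma Fil.zero (k : ℕ) : Fil k (0 : MvPowerSeries σ R) := fun d _ => by simp

lemma Fil.add {k : ℕ} {f g : MvPowerSeries σ R} (hf : Fil k f) (hg : Fil k g) : Fil k (f + g) :=
  fun d hd => by rw [map_add, hf d hd, hg d hd, add_zero]

lemma Fil.neg {k : ℕ} {f : MvPowerSeries σ R} (hf : Fil k f) : Fil k (-f) :=
  fun d hd => by rw [map_neg, hf d hd, neg_zero]

lemma Fil.sub {k : ℕ} {f g : MvPowerSeries σ R} (hf : Fil k f) (hg : Fil k g) : Fil k (f - g) :=
  fun d hd => by rw [map_sub, hf d hd, hg d hd, sub_zero]

lemma Fil.sum {k : ℕ} {ι : Type*} (s : Finset ι) (f : ι → MvPowerSeries σ R)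
    (hf : ∀ i ∈ s, Fil k (f i)) : Fil k (∑ i ∈ s, f i) :=
  fun d hd => by
    rw [map_sum]
    exact Finset.sum_eq_zero (fun i hi => hf i hi d hd)

lemma Fil.smul {k : ℕ} (r : R) {f : MvPowerSeries σ R} (hf : Fil k f) : Fil k (r • f) :=
  fun d hd => by rw [map_smul, hf d hd, smul_zero]

lemma Fil.mono {k l : ℕ} (hkl : k ≤ l) {f : MvPowerSeries σ R} (hf : Fil l f) : Fil k f :=
  fun d hd => hf d (lt_of_lt_of_le hd hkl)

lemma Fil.mul {a b : ℕ} {f g : MvPowerSeries σ R} (hf : Fil a f) (hg : Fil b g) :
    Fil (a + b) (f * g) := by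
  rw [fil_iff_order] at *
  calc ((a + b : ℕ) : ℕ∞) = a + b := by push_cast; rfl
    _ ≤ f.order + g.order := add_le_add hf hg
    _ ≤ (f * g).order := le_order_mul

lemma fil_zero (f : MvPowerSeries σ R) : Fil 0 f := fun d hd => absurd hd (Nat.not_lt_zero _)

lemma fil_one_iff {f : MvPowerSeries σ R} : Fil 1 f ↔ constantCoeff f = 0 := by
  constructor
  · intro h
    have := h 0 (by simp)
    rwa [coeff_zero_eq_constantCoeff_apply] at this
  · intro h d hd
    have : d = 0 := by
      rw [← Finsupp.degree_eq_zero_iff]
      omega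
    rw [this, coeff_zero_eq_constantCoeff_apply, h]

lemma eq_zero_of_forall_fil {f : MvPowerSeries σ R} (h : ∀ k, Fil k f) : f = 0 := by
  ext d
  rw [h (d.degree + 1) d (Nat.lt_succ_self _)]
  simp

lemma fil_X (i : σ) : Fil 1 (X i : MvPowerSeries σ R) := fil_one_iff.mpr (constantCoeff_X i)

end H10826

namespace H10826
open MvPowerSeries Finsupp

variable {R : Type*} [CommRing R] {σ : Type*} [LinearOrder σ] [Fintype σ]

/-- the `i`-th piece of the decomposition `f = ∑ X_i g_i` -/
noncomputable def piece (f : MvPowerSeries σ R) (i : σ) : MvPowerSeries σ R :=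
  fun e => by
    classical
    exact if (∀ j, j < i → e j = 0) then coeff (e + single i 1) f else 0

lemma coeff_piece (f : MvPowerSeries σ R) (i : σ) (e : σ →₀ ℕ) :
    coeff e (piece f i) = by
      classical
      exact if (∀ j, j < i → e j = 0) then coeff (e + single i 1) f else 0 := rfl

lemma fil_piece {k : ℕ} {f : MvPowerSeries σ R} (hf : Fil (k + 1) f) (i : σ) : Fil k (piece f i) := by
  classical
  intro e he
  rw [coeff_piece]
  split_ifs
  · apply hf
    rw [map_add, Finsupp.degree_single]
    omega
  · rfl

lemma coeff_X_mul_piece (f : MvPowerSeries σ R) (i : σ) (d : σ →₀ ℕ) :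
    coeff d (X i * piece f i) = by
      classical
      exact if (i ∈ d.support ∧ ∀ j, j < i → d j = 0) then coeff d f else 0 := by
  classical
  rw [X_def, coeff_monomial_mul, one_mul]
  by_cases hi : single i 1 ≤ d
  · have hdi : 1 ≤ d i := by
      have := hi i
      simpa using this
    have hmem : i ∈ d.support := by
      rw [Finsupp.mem_support_iff]; omega
    rw [if_pos hi, coeff_piece]
    have hadd : d - single i 1 + single i 1 = d := tsub_add_cancel_of_le hi
    have hiff : (∀ j, j < i → (d - single i 1 : σ →₀ ℕ) j = 0) ↔ (∀ j, j < i → d j = 0) := by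
      constructor
      · intro h j hj
        have := h j hj
        rw [Finsupp.tsub_apply, Finsupp.single_apply, if_neg (ne_of_gt hj)] at this
        simpa using this
      · intro h j hj
        rw [Finsupp.tsub_apply, h j hj]
        simp
    simp only [hiff, hadd, hmem, true_and]
  · rw [if_neg hi]
    have hmem : i ∉ d.support := by
      intro hmem
      apply hi
      rw [Finsupp.mem_support_iff] at hmem
      intro j
      rw [Finsupp.single_apply]
      split_ifs with hji
      · subst hji; omega
      · exact Nat.zero_le _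
    simp only [hmem, false_and, if_false]

lemma decomp {k : ℕ} {f : MvPowerSeries σ R} (hf : Fil (k + 1) f) :
    f = ∑ i, X i * piece f i := by
  classical
  ext d
  rw [map_sum]
  simp only [coeff_X_mul_piece]
  by_cases hd : d = 0
  · subst hd
    simp only [Finsupp.support_zero, Finset.notMem_empty, false_and, if_false,
      Finset.sum_const_zero]
    apply hf
    simp
  · have hne : d.support.Nonempty := Finsupp.support_nonempty_iff.mpr hd
    set i₀ := d.support.min' hne with hi₀
    have hiff : ∀ i, (i ∈ d.support ∧ ∀ j, j < i → d j = 0) ↔ i = i₀ := by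
      intro i
      constructor
      · rintro ⟨hi, hlt⟩
        apply le_antisymm
        · by_contra hcon
          push Not at hcon
          have := hlt i₀ hcon
          have hmem := Finset.min'_mem d.support hne
          rw [Finsupp.mem_support_iff] at hmem
          exact hmem this
        · exact Finset.min'_le _ _ hi
      · rintro rfl
        refine ⟨Finset.min'_mem _ _, fun j hj => ?_⟩
        by_contra hcon
        have hmem : j ∈ d.support := Finsupp.mem_support_iff.mpr hcon
        exact absurd (Finset.min'_le _ _ hmem) (not_le.mpr hj)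
    simp only [hiff]
    rw [Finset.sum_ite_eq' Finset.univ i₀]
    simp

end H10826

namespace H10826
open MvPowerSeries Finsupp

variable {R : Type*} [CommRing R] {σ : Type*} [LinearOrder σ] [Fintype σ]
variable (ψ : MvPowerSeries σ R →ₐ[R] MvPowerSeries σ R)

lemma fil_map (h0 : ∀ i, constantCoeff (ψ (X i)) = 0) :
    ∀ (k : ℕ) (f : MvPowerSeries σ R), Fil k f → Fil k (ψ f) := by
  intro k
  induction k with
  | zero => intro f _; exact fil_zero _
  | succ k ih =>
    intro f hf
    have e := decomp hf
    rw [e, map_sum]
    apply Fil.sum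
    intro i _
    rw [map_mul]
    have : Fil (1 + k) (ψ (X i) * ψ (piece f i)) :=
      Fil.mul (fil_one_iff.mpr (h0 i)) (ih _ (fil_piece hf i))
    rwa [add_comm] at this

lemma map_C' (c : R) : ψ (C c) = C c := by
  have := ψ.commutes c
  rwa [MvPowerSeries.algebraMap_apply, Algebra.algebraMap_self, RingHom.id_apply] at this

lemma fil_sub_map (h0 : ∀ i, constantCoeff (ψ (X i)) = 0) (h2 : ∀ i, Fil 2 (X i - ψ (X i))) :
    ∀ (k : ℕ) (f : MvPowerSeries σ R), Fil k f → Fil (k + 1) (f - ψ f) := by
  intro k
  induction k with
  | zero =>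
    intro f _
    set c := constantCoeff f with hc
    have h1 : Fil 1 (f - C c) := by
      rw [fil_one_iff, map_sub, constantCoeff_C, hc, sub_self]
    have h3 : f - ψ f = (f - C c) - ψ (f - C c) := by
      rw [map_sub, map_C']; ring
    rw [h3]
    exact Fil.sub h1 (fil_map ψ h0 1 _ h1)
  | succ k ih =>
    intro f hf
    have e := decomp hf
    have h3 : f - ψ f = ∑ i, ((X i - ψ (X i)) * piece f i + ψ (X i) * (piece f i - ψ (piece f i))) := by
      conv_lhs => rw [e, map_sum, ← Finset.sum_sub_distrib]
      apply Finset.sum_congr rfl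
      intro i _
      rw [map_mul]; ring
    rw [h3]
    apply Fil.sum
    intro i _
    apply Fil.add
    · have := Fil.mul (h2 i) (fil_piece hf i)
      rwa [show 2 + k = k + 1 + 1 by omega] at this
    · have := Fil.mul (fil_one_iff.mpr (h0 i)) (ih _ (fil_piece hf i))
      rwa [show 1 + (k + 1) = k + 1 + 1 by omega] at this

theorem bijective_of_jac_one (h0 : ∀ i, constantCoeff (ψ (X i)) = 0)
    (h2 : ∀ i, Fil 2 (X i - ψ (X i))) : Function.Bijective ψ := by
  classical
  set N : MvPowerSeries σ R →ₗ[R] MvPowerSeries σ R := LinearMap.id - ψ.toLinearMap with hN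
  have hNapp : ∀ f, N f = f - ψ f := fun f => rfl
  have hNfil : ∀ (k : ℕ) f, Fil k f → Fil (k + 1) (N f) := fun k f hf => by
    rw [hNapp]; exact fil_sub_map ψ h0 h2 k f hf
  have hNpow : ∀ (j : ℕ) f, Fil j ((N ^ j) f) := by
    intro j
    induction j with
    | zero => intro f; exact fil_zero _
    | succ j ih =>
      intro f
      rw [pow_succ', Module.End.mul_apply]
      exact hNfil j _ (ih f)
  constructor
  · rw [injective_iff_map_eq_zero]
    intro f hf
    have hfN : N f = f := by rw [hNapp, hf, sub_zero]
    apply eq_zero_of_forall_fil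
    intro k
    induction k with
    | zero => exact fil_zero _
    | succ k ih => rw [← hfN]; exact hNfil k f ih
  · intro g
    set S : ℕ → MvPowerSeries σ R := fun K => ∑ j ∈ Finset.range (K + 1), (N ^ j) g with hS
    set f : MvPowerSeries σ R := fun d => coeff d (S d.degree) with hf
    have hfS : ∀ K, Fil (K + 1) (f - S K) := by
      intro K d hd
      rw [map_sub]
      have h1 : coeff d f = coeff d (S d.degree) := rfl
      rw [h1]
      have h2' : S K = S d.degree + ∑ j ∈ Finset.Ico (d.degree + 1) (K + 1), (N ^ j) g := by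
        rw [hS]
        exact (Finset.sum_range_add_sum_Ico _ (by omega)).symm
      rw [h2', map_add, sub_add_cancel_left, neg_eq_zero, map_sum]
      apply Finset.sum_eq_zero
      intro j hj
      rw [Finset.mem_Ico] at hj
      exact hNpow j g d (by omega)
    have htel : ∀ K, S K - N (S K) = g - (N ^ (K + 1)) g := by
      intro K
      rw [hS]
      simp only [map_sum]
      rw [← Finset.sum_sub_distrib]
      have : ∀ j, (N ^ j) g - N ((N ^ j) g) = (N ^ j) g - (N ^ (j + 1)) g := by
        intro j
        rw [pow_succ', Module.End.mul_apply]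
      simp only [this]
      rw [Finset.sum_range_sub' (fun j => (N ^ j) g)]
      simp
    refine ⟨f, ?_⟩
    have hkey : f - N f - g = 0 := by
      apply eq_zero_of_forall_fil
      intro k
      have e : f - N f - g = (f - S k) - N (f - S k) - (N ^ (k + 1)) g := by
        have := htel k
        rw [map_sub]
        linear_combination this
      rw [e]
      apply Fil.mono (Nat.le_succ k)
      apply Fil.sub
      · apply Fil.sub (hfS k)
        exact Fil.mono (Nat.le_succ _) (hNfil _ _ (hfS k))
      · exact hNpow (k + 1) g
    have : ψ f = f - N f := by rw [hNapp]; ring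
    rw [this]
    exact sub_eq_zero.mp hkey

end H10826

namespace H10826
open MvPowerSeries Finsupp

section
variable {R : Type*} [CommRing R] {σ : Type*}

lemma eq_zero_or_single_of_degree_lt_two (d : σ →₀ ℕ) (hd : d.degree < 2) :
    d = 0 ∨ ∃ k, d = single k 1 := by
  classical
  by_cases h0 : d = 0
  · exact Or.inl h0
  · right
    have hne : d.support.Nonempty := Finsupp.support_nonempty_iff.mpr h0
    obtain ⟨i, hi⟩ := hne
    have hdi : 1 ≤ d i := by
      rw [Finsupp.mem_support_iff] at hi; omega
    have hle : single i 1 ≤ d := by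
      intro j
      rw [Finsupp.single_apply]
      split_ifs with hji
      · subst hji; exact hdi
      · exact Nat.zero_le _
    have hadd : d - single i 1 + single i 1 = d := tsub_add_cancel_of_le hle
    have hdeg : (d - single i 1 : σ →₀ ℕ).degree = 0 := by
      have := congrArg Finsupp.degree hadd
      rw [map_add, Finsupp.degree_single] at this
      omega
    rw [Finsupp.degree_eq_zero_iff] at hdeg
    refine ⟨i, ?_⟩
    rw [← hadd, hdeg, zero_add]

lemma fil_two_iff {f : MvPowerSeries σ R} :
    Fil 2 f ↔ constantCoeff f = 0 ∧ ∀ k, coeff (single k 1) f = 0 := by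
  constructor
  · intro h
    refine ⟨fil_one_iff.mp (Fil.mono (by omega) h), fun k => h _ ?_⟩
    rw [Finsupp.degree_single]; omega
  · rintro ⟨h0, h1⟩ d hd
    rcases eq_zero_or_single_of_degree_lt_two d hd with rfl | ⟨k, rfl⟩
    · exact h0
    · exact h1 k

variable [LinearOrder σ] [Fintype σ]

/-- the linear part -/
lemma fil_two_sub_linear (f : MvPowerSeries σ R) (hf : constantCoeff f = 0) :
    Fil 2 (f - ∑ k, coeff (single k 1) f • (X k : MvPowerSeries σ R)) := by
  classical
  rw [fil_two_iff]
  constructor
  · rw [map_sub, hf, map_sum]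
    simp
  · intro j
    rw [map_sub, map_sum]
    simp only [map_smul, coeff_index_single_X, smul_eq_mul, mul_ite, mul_one, mul_zero]
    rw [Finset.sum_ite_eq Finset.univ j]
    simp

lemma fil_two_map_sub_linear (ψ : MvPowerSeries σ R →ₐ[R] MvPowerSeries σ R)
    (h0 : ∀ i, constantCoeff (ψ (X i)) = 0) (f : MvPowerSeries σ R) (hf : constantCoeff f = 0) :
    Fil 2 (ψ f - ∑ k, coeff (single k 1) f • ψ (X k)) := by
  have := fil_map ψ h0 2 _ (fil_two_sub_linear f hf)
  rwa [map_sub, map_sum, Finset.sum_congr rfl (fun k _ => map_smul ψ _ _)] at this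

end
end H10826

namespace H10826
open MvPowerSeries Finsupp

theorem main (R : Type*) [CommRing R] (n : ℕ)
    (φ : MvPowerSeries (Fin n) R →ₐ[R] MvPowerSeries (Fin n) R)
    (h0 : ∀ i, MvPowerSeries.constantCoeff (φ (MvPowerSeries.X i)) = 0)
    (hJ : IsUnit (Matrix.det (Matrix.of fun i j : Fin n =>
      MvPowerSeries.coeff (Finsupp.single j 1) (φ (MvPowerSeries.X i))))) :
    Function.Bijective φ := by
  classical
  set J : Matrix (Fin n) (Fin n) R := Matrix.of fun i j : Fin n =>
      MvPowerSeries.coeff (Finsupp.single j 1) (φ (MvPowerSeries.X i)) with hJdef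
  set A : Matrix (Fin n) (Fin n) R := J⁻¹ with hA
  have hJA : J * A = 1 := Matrix.mul_nonsing_inv J hJ
  have hAJ : A * J = 1 := Matrix.nonsing_inv_mul J hJ
  set a : Fin n → MvPowerSeries (Fin n) R := fun i => ∑ j, A i j • (X j : MvPowerSeries (Fin n) R)
    with ha_def
  have ha0 : ∀ i, constantCoeff (a i) = 0 := by
    intro i
    rw [ha_def]
    simp only [map_sum, constantCoeff_smul, constantCoeff_X, smul_zero, Finset.sum_const_zero]
  have ha : HasSubst a := hasSubst_of_constantCoeff_zero ha0
  set lam : MvPowerSeries (Fin n) R →ₐ[R] MvPowerSeries (Fin n) R := substAlgHom ha with hlam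
  have hlamX : ∀ i, lam (X i) = a i := fun i => substAlgHom_X ha i
  have hlam0 : ∀ i, constantCoeff (lam (X i)) = 0 := fun i => by rw [hlamX, ha0]
  -- ψ₁ = φ ∘ lam
  have h1 : Function.Bijective (φ.comp lam) := by
    apply bijective_of_jac_one
    · intro i
      rw [AlgHom.comp_apply, hlamX, ha_def]
      simp only [map_sum, map_smul, constantCoeff_smul, h0, smul_zero, Finset.sum_const_zero]
    · intro i
      rw [fil_two_iff]
      constructor
      · rw [AlgHom.comp_apply, hlamX, ha_def]
        simp only [map_sub, map_sum, map_smul, constantCoeff_smul, constantCoeff_X, h0, smul_zero,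
          Finset.sum_const_zero, sub_zero]
      · intro k
        rw [AlgHom.comp_apply, hlamX, ha_def, map_sub, coeff_index_single_X]
        simp only [map_sum, map_smul, smul_eq_mul]
        have : ∑ j, A i j * coeff (single k 1) (φ (X j)) = (A * J) i k := by
          rw [Matrix.mul_apply]
          rfl
        rw [this, hAJ, Matrix.one_apply]
        by_cases hik : k = i
        · subst hik; simp
        · rw [if_neg hik, if_neg (fun h => hik h.symm), sub_zero]
  -- ψ₂ = lam ∘ φ
  have h2 : Function.Bijective (lam.comp φ) := by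
    apply bijective_of_jac_one
    · intro i
      rw [AlgHom.comp_apply]
      exact fil_one_iff.mp (fil_map lam hlam0 1 _ (fil_one_iff.mpr (h0 i)))
    · intro i
      have := fil_two_map_sub_linear lam hlam0 (φ (X i)) (h0 i)
      have hsum : ∑ k, coeff (single k 1) (φ (X i)) • lam (X k) = X i := by
        simp only [hlamX, ha_def, Finset.smul_sum, smul_smul]
        rw [Finset.sum_comm]
        have : ∀ j, ∑ k, (coeff (single k 1) (φ (X i)) * A k j) • (X j : MvPowerSeries (Fin n) R) =
            ((J * A) i j) • (X j : MvPowerSeries (Fin n) R) := by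
          intro j
          rw [← Finset.sum_smul, Matrix.mul_apply]
          rfl
        simp only [this, hJA, Matrix.one_apply]
        simp only [ite_smul, one_smul, zero_smul]
        rw [Finset.sum_ite_eq Finset.univ i]
        simp
      rw [hsum] at this
      have h3 := this.neg
      rw [neg_sub] at h3
      exact h3
  constructor
  · intro x y hxy
    apply h2.1
    rw [AlgHom.comp_apply, AlgHom.comp_apply, hxy]
  · intro y
    obtain ⟨x, hx⟩ := h1.2 y
    exact ⟨lam x, hx⟩

end H10826

/-- Let R be a commutative ring, n ≥ 1, and φ an R-algebra homomorphism from the power series ring in n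
variables over R to itself that sends each variable to a power series without constant term. If the
Jacobian matrix at the origin, whose (i, j) entry is the coefficient of X_j in φ(X_i), has
invertible determinant in R, then φ is an isomorphism (bijective). -/
theorem result
    (R : Type*) [CommRing R] (n : ℕ) (hn : 1 ≤ n)
    (φ : MvPowerSeries (Fin n) R →ₐ[R] MvPowerSeries (Fin n) R)
    (h0 : ∀ i, MvPowerSeries.constantCoeff (φ (MvPowerSeries.X i)) = 0)
    (hJ : IsUnit (Matrix.det (Matrix.of fun i j : Fin n =>
      MvPowerSeries.coeff (Finsupp.single j 1) (φ (MvPowerSeries.X i))))) :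
    Function.Bijective φ := by
  exact H10826.main R n φ h0 hJ

end Groth.Agent.S10826
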