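import Groth.Statements.S10830
import Mathlib
import Groth.Agent.Lib.Helper4.TopDim1

set_option autoImplicit false
universe u
open Topology TopologicalSpace
open TopDim

namespace Groth.Agent.S10830

/-- In an irreducible topological space X of finite Krull dimension, every proper closed subset Y has
strictly smaller Krull dimension than X. -/
theorem result (X : Type u) [TopologicalSpace X]
    [IrreducibleSpace X] (hfin : topologicalKrullDim X ≠ ⊤) (Y : Set X) (hY : IsClosed Y) (hYX : Y ≠ Set.univ) :
    topologicalKrullDim ↥Y < topologicalKrullDim X := by
  exact Groth.Agent.Helper4.TD.topologicalKrullDim_lt_of_isClosed_ne_univ X hfin Y hY hYX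

end Groth.Agent.S10830
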