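import Groth.Statements.S10836
import Mathlib

set_option autoImplicit false
universe u
open Coh

namespace Groth.Agent.S10836

section


open Module TensorProduct

theorem finrank_quot_eq_rankAtStalk {R : Type u} [CommRing R] (N : Type u) [AddCommGroup N]
    [Module R N] [Module.Finite R N] [Module.Flat R N] (P : Ideal R) [hP : P.IsMaximal] :
    finrank (R ⧸ P) ((R ⧸ P) ⊗[R] N) = rankAtStalk N ⟨P, hP.isPrime⟩ := by
  letI := Ideal.Quotient.field P
  rw [rankAtStalk_eq]
  have h1 : finrank P.ResidueField (P.ResidueField ⊗[R ⧸ P] ((R ⧸ P) ⊗[R] N)) =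
      finrank (R ⧸ P) ((R ⧸ P) ⊗[R] N) := Module.finrank_baseChange
  have h2 := (AlgebraTensorModule.cancelBaseChange R (R ⧸ P) P.ResidueField
    P.ResidueField N).finrank_eq
  rw [← h1, h2]


theorem main (A : Type u) [CommRing A]
    (M : Type u) [AddCommGroup M] [Module A M] [Module.Finite A M] [Module.Projective A M] (r : ℕ)
    (hr : ∀ p : PrimeSpectrum A, Module.rankAtStalk M p = r)
    (Z : Set (PrimeSpectrum A)) (hZ : Z.Finite) :
    ∃ s : A, (∀ p ∈ Z, s ∉ p.asIdeal) ∧
      Nonempty (Module.Basis (Fin r) (Localization.Away s)
        (LocalizedModule (Submonoid.powers s) M)) := by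
  classical
  obtain ⟨T, hT⟩ : ∃ T : Submonoid A, T = ⨅ p ∈ Z, p.asIdeal.primeCompl := ⟨_, rfl⟩
  have hTmem : ∀ s, s ∈ T ↔ ∀ p ∈ Z, s ∉ p.asIdeal := by
    intro s
    rw [hT]
    simp only [Submonoid.mem_iInf]
    rfl
  -- semilocal
  have hZ_of_max : ∀ m : MaximalSpectrum (Localization T),
      ∃ p ∈ Z, Ideal.comap (algebraMap A (Localization T)) m.asIdeal = p.asIdeal := by
    intro m
    haveI := m.isMaximal
    have hmprime : m.asIdeal.IsPrime := m.isMaximal.isPrime
    obtain ⟨hqprime, hqdisj⟩ :=
      (IsLocalization.isPrime_iff_isPrime_disjoint T (Localization T) m.asIdeal).mp hmprime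
    obtain ⟨q, hq⟩ : ∃ q : Ideal A, q = Ideal.comap (algebraMap A (Localization T)) m.asIdeal :=
      ⟨_, rfl⟩
    have hqprime : q.IsPrime := by rw [hq]; exact hqprime
    have hqdisj : Disjoint (T : Set A) (q : Set A) := by rw [hq]; exact hqdisj
    have hsub : (q : Set A) ⊆ ⋃ p ∈ (↑hZ.toFinset : Set (PrimeSpectrum A)), p.asIdeal := by
      intro x hx
      have hxT : x ∉ T := fun h => Set.disjoint_left.mp hqdisj h hx
      rw [hTmem] at hxT
      simp only [not_forall, not_not] at hxT
      obtain ⟨p, hpZ, hxp⟩ := hxT
      simp only [Set.mem_iUnion]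
      exact ⟨p, by simpa using hpZ, hxp⟩
    rw [Ideal.subset_union_prime (⟨q, hqprime⟩ : PrimeSpectrum A) ⟨q, hqprime⟩
      (fun p _ _ _ => p.isPrime)] at hsub
    obtain ⟨p, hpZ, hqp⟩ := hsub
    have hpZ' : p ∈ Z := by simpa using hpZ
    have hpdisj : Disjoint (T : Set A) (p.asIdeal : Set A) := by
      rw [Set.disjoint_left]
      intro x hxT hxp
      exact (hTmem x).mp hxT p hpZ' hxp
    have hmapprime : (Ideal.map (algebraMap A (Localization T)) p.asIdeal).IsPrime :=
      IsLocalization.isPrime_of_isPrime_disjoint T (Localization T) p.asIdeal p.isPrime hpdisj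
    have hle : m.asIdeal ≤ Ideal.map (algebraMap A (Localization T)) p.asIdeal := by
      have e0 : Ideal.map (algebraMap A (Localization T)) q = m.asIdeal := by
        rw [hq]; exact IsLocalization.map_comap T (Localization T) m.asIdeal
      rw [← e0]
      exact Ideal.map_mono hqp
    have heq : m.asIdeal = Ideal.map (algebraMap A (Localization T)) p.asIdeal :=
      m.isMaximal.eq_of_le hmapprime.ne_top hle
    refine ⟨p, hpZ', ?_⟩
    rw [heq]
    exact IsLocalization.comap_map_of_isPrime_disjoint T (Localization T) p.isPrime hpdisj
  haveI : Finite Z := hZ.to_subtype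
  haveI : Finite (MaximalSpectrum (Localization T)) := by
    choose g hgZ hg using hZ_of_max
    refine Finite.of_injective (fun m => (⟨g m, hgZ m⟩ : Z)) ?_
    intro m₁ m₂ h
    have h' : g m₁ = g m₂ := congrArg Subtype.val h
    apply MaximalSpectrum.ext
    have e1 : Ideal.comap (algebraMap A (Localization T)) m₁.asIdeal =
        Ideal.comap (algebraMap A (Localization T)) m₂.asIdeal := by rw [hg, hg, h']
    calc m₁.asIdeal = Ideal.map (algebraMap A (Localization T))
          (Ideal.comap (algebraMap A (Localization T)) m₁.asIdeal) :=
            (IsLocalization.map_comap T (Localization T) m₁.asIdeal).symm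
      _ = Ideal.map (algebraMap A (Localization T))
          (Ideal.comap (algebraMap A (Localization T)) m₂.asIdeal) := by rw [e1]
      _ = m₂.asIdeal := IsLocalization.map_comap T (Localization T) m₂.asIdeal
  -- rank
  have rk : ∀ P : MaximalSpectrum (Localization T),
      finrank (Localization T ⧸ P.1)
        ((Localization T ⧸ P.1) ⊗[Localization T] LocalizedModule T M) = r := by
    intro P
    haveI := P.isMaximal
    rw [finrank_quot_eq_rankAtStalk,
      rankAtStalk_isBaseChange (LocalizedModule.isBaseChange T M), hr]
  obtain ⟨b⟩ :=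
    Module.nonempty_basis_of_flat_of_finrank_eq (Localization T) (LocalizedModule T M) r rk
  haveI : Module.FinitePresentation A M := Module.finitePresentation_of_projective A M
  obtain ⟨s, hs, b', -⟩ := Module.FinitePresentation.exists_basis_localizedModule_powers T
    (LocalizedModule.mkLinearMap T M) (Localization T) b
  exact ⟨s, (hTmem s).mp hs, ⟨b'⟩⟩


end


/-- Let A be a commutative ring, M a finitely generated projective A-module whose rank at every prime is
r, and Z a finite set of prime ideals of A. Then there is an element s of A outside every prime of Z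
such that the localized module M_s has a basis of r elements over A_s. (The published statement is
for a finite locally free module of constant rank r on a scheme and a finite set of points inside an
affine open Spec A, and produces a basic open D(s) containing the points on which the module is free
of rank r; its argument begins by replacing the scheme with Spec A, and this row states that case.) -/
theorem result (A : Type u) [CommRing A]
    (M : Type u) [AddCommGroup M] [Module A M] [Module.Finite A M] [Module.Projective A M] (r : ℕ)
    (hr : ∀ p : PrimeSpectrum A, Module.rankAtStalk M p = r)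
    (Z : Set (PrimeSpectrum A)) (hZ : Z.Finite) :
    ∃ s : A, (∀ p ∈ Z, s ∉ p.asIdeal) ∧
      Nonempty (Module.Basis (Fin r) (Localization.Away s) (LocalizedModule (Submonoid.powers s) M)) := by
  classical
  exact main A M r hr Z hZ

end Groth.Agent.S10836
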