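import Groth.Statements.S10839
import Mathlib
import Groth.Agent.Lib.Helper4.TopDim1

set_option autoImplicit false
universe u
open CategoryTheory AlgebraicGeometry Topology
open Variety

namespace Groth.Agent.S10839

open CategoryTheory AlgebraicGeometry Topology

theorem closedImm_iso {X Y : Scheme.{u}} (i : Y ⟶ X)
    [IsClosedImmersion i] [IsIntegral X] (hfin : topologicalKrullDim ↥X ≠ ⊤)
    (hdim : topologicalKrullDim ↥X = topologicalKrullDim ↥Y) : IsIso i := by
  have hemb : IsClosedEmbedding i := i.isClosedEmbedding
  have hcl : IsClosed (Set.range i) := hemb.isClosed_range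
  have hY : topologicalKrullDim ↥Y = topologicalKrullDim ↥(Set.range i) := by
    have h := hemb.isEmbedding.toHomeomorph
    exact IsHomeomorph.topologicalKrullDim_eq _ h.isHomeomorph
  have hsurj : Set.range i = Set.univ := by
    by_contra hne
    have := Groth.Agent.Helper4.TD.topologicalKrullDim_lt_of_isClosed_ne_univ X hfin _ hcl hne
    rw [← hY, ← hdim] at this
    exact lt_irrefl _ this
  have : Surjective i := ⟨Set.range_eq_univ.1 hsurj⟩
  exact isIso_of_isClosedImmersion_of_surjective i

/-- A closed immersion i : Y → X into an integral scheme X with dim X = dim Y < ∞ is an isomorphism. -/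
theorem result {X Y : Scheme.{u}} (i : Y ⟶ X)
    [IsClosedImmersion i] [IsIntegral X] (hfin : topologicalKrullDim ↥X ≠ ⊤)
    (hdim : topologicalKrullDim ↥X = topologicalKrullDim ↥Y) : IsIso i := by
  exact closedImm_iso i hfin hdim

end Groth.Agent.S10839
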