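import Groth.Statements.S10842
import Mathlib

set_option autoImplicit false
universe u
open CategoryTheory AlgebraicGeometry
open Variety

namespace Groth.Agent.S10842

open CategoryTheory AlgebraicGeometry

namespace H10842

/-- localization of an integrally closed domain, in "bundled" form -/
lemma normal_of_isLocalization {R S T : Type*} [CommRing R] [CommRing S] [CommRing T]
    [Algebra R S] [Algebra R T] [Algebra S T] [IsScalarTower R S T]
    (M N : Submonoid R) (h : M ≤ N) [IsLocalization M S] [IsLocalization N T]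
    [IsDomain S] [IsIntegrallyClosed S] [Nontrivial T] :
    IsDomain T ∧ IsIntegrallyClosed T := by
  have hloc : IsLocalization (N.map (algebraMap R S)) T :=
    IsLocalization.isLocalization_of_submonoid_le S T M N h
  have hle : N.map (algebraMap R S) ≤ nonZeroDivisors S := by
    rintro _ ⟨y, hy, rfl⟩
    rw [mem_nonZeroDivisors_iff_ne_zero]
    intro h0
    have hu : IsUnit (algebraMap R T y) := IsLocalization.map_units T (⟨y, hy⟩ : N)
    rw [IsScalarTower.algebraMap_apply R S T, h0, map_zero] at hu
    exact not_isUnit_zero hu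
  exact ⟨IsLocalization.isDomain_of_le_nonZeroDivisors (M := N.map (algebraMap R S)) T hle,
    isIntegrallyClosed_of_isLocalization T (N.map (algebraMap R S)) hle⟩

theorem main (X : Scheme.{u}) [CompactSpace ↥X]
    (h : ∀ x : X, IsClosed ({x} : Set X) →
      IsDomain (X.presheaf.stalk x) ∧ IsIntegrallyClosed (X.presheaf.stalk x)) :
    Pi1.IsNormalScheme X := by
  intro x
  obtain ⟨y, hy, hyc⟩ := (isClosed_closure (s := {x})).exists_closed_singleton
    (Set.singleton_nonempty x |>.closure)
  have hxy : x ⤳ y := specializes_iff_mem_closure.mpr hy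
  obtain ⟨hdom, hic⟩ := h y hyc
  obtain ⟨_, ⟨U, hU : IsAffineOpen U, rfl⟩, hyU, -⟩ :=
    X.isBasis_affineOpens.exists_subset_of_mem_open (Set.mem_univ y) isOpen_univ
  have hxU : x ∈ U := hxy.mem_open U.2 hyU
  let _ : Algebra Γ(X, U) (X.presheaf.stalk y) := (X.presheaf.germ U y hyU).hom.toAlgebra
  let _ : Algebra Γ(X, U) (X.presheaf.stalk x) := (X.presheaf.germ U x hxU).hom.toAlgebra
  let _ : Algebra (X.presheaf.stalk y) (X.presheaf.stalk x) :=
    (X.presheaf.stalkSpecializes hxy).hom.toAlgebra
  have : IsScalarTower Γ(X, U) (X.presheaf.stalk y) (X.presheaf.stalk x) := by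
    apply IsScalarTower.of_algebraMap_eq'
    simp only [RingHom.algebraMap_toAlgebra]
    rw [← CommRingCat.hom_comp, TopCat.Presheaf.germ_stalkSpecializes]
  have h1 : IsLocalization.AtPrime (X.presheaf.stalk y) (hU.primeIdealOf ⟨y, hyU⟩).asIdeal :=
    hU.isLocalization_stalk ⟨y, hyU⟩
  have h2 : IsLocalization.AtPrime (X.presheaf.stalk x) (hU.primeIdealOf ⟨x, hxU⟩).asIdeal :=
    hU.isLocalization_stalk ⟨x, hxU⟩
  have hle : (hU.primeIdealOf ⟨y, hyU⟩).asIdeal.primeCompl ≤
      (hU.primeIdealOf ⟨x, hxU⟩).asIdeal.primeCompl := by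
    have hspec : hU.primeIdealOf ⟨x, hxU⟩ ⤳ hU.primeIdealOf ⟨y, hyU⟩ := by
      have h3 : (⟨x, hxU⟩ : U) ⤳ ⟨y, hyU⟩ := (subtype_specializes_iff _ _).mpr hxy
      exact h3.map hU.isoSpec.hom.continuous
    rw [← PrimeSpectrum.le_iff_specializes] at hspec
    intro a ha hax
    exact ha (hspec hax)
  exact normal_of_isLocalization (R := Γ(X, U)) (S := X.presheaf.stalk y) (T := X.presheaf.stalk x)
    _ _ hle

end H10842

/-- A quasi-compact scheme whose local rings at all closed points are integrally closed domains is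
normal, i.e. all of its local rings are integrally closed domains. -/
theorem result (X : Scheme.{u}) [CompactSpace ↥X]
    (h : ∀ x : X, IsClosed ({x} : Set X) →
      IsDomain (X.presheaf.stalk x) ∧ IsIntegrallyClosed (X.presheaf.stalk x)) :
    Pi1.IsNormalScheme X := by
  exact H10842.main X h

end Groth.Agent.S10842
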