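import Groth.Statements.S10844
import Mathlib
import Groth.Agent.Lib.Lead.EpiPull

set_option autoImplicit false
universe u
open RepF

namespace Groth.Agent.S10844

section
open AlgebraicGeometry CategoryTheory

open Groth.Agent.Lead.EpiPull Groth.Agent.Helper1

theorem main {S : Scheme.{u}} {E F : S.Modules}
    [Coh.IsQCoh E] [Coh.IsQCoh F] (hF : CohB1.IsFT F) (v : E ⟶ F) :
    ∃ U : S.Opens, ∀ (T : Scheme.{u}) (f : T ⟶ S),
      Set.range f.base ⊆ (U : Set S) ↔ Epi ((Scheme.Modules.pullback f).map v) := by
  haveI : E.IsQuasicoherent := ‹Coh.IsQCoh E›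
  haveI : F.IsQuasicoherent := ‹Coh.IsQCoh F›
  obtain ⟨hCq, hCft⟩ := cokernel_qcoh_ft hF v
  have hcl : IsClosed (CohB1.support (Limits.cokernel v)) := FtGen.isClosed_support _ hCft
  refine ⟨⟨(CohB1.support (Limits.cokernel v))ᶜ, hcl.isOpen_compl⟩, fun T f => ?_⟩
  exact (epi_pullback_iff f hF v).symm


end


open AlgebraicGeometry CategoryTheory in
/-- For a scheme S and a homomorphism v : E → F of quasi-coherent O_S-modules with F of finite type,
there is an open subscheme U of S such that a morphism of schemes f : T → S factors through U (its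
image lies in U) if and only if the pulled-back homomorphism f^*v : f^*E → f^*F is an epimorphism. -/
theorem result {S : Scheme.{u}} {E F : S.Modules}
    [Coh.IsQCoh E] [Coh.IsQCoh F] (hF : CohB1.IsFT F) (v : E ⟶ F) :
    ∃ U : S.Opens, ∀ (T : Scheme.{u}) (f : T ⟶ S),
      Set.range f.base ⊆ (U : Set S) ↔ Epi ((Scheme.Modules.pullback f).map v) := by
  classical
  exact main hF v

end Groth.Agent.S10844
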