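import Groth.Statements.S10847
import Mathlib
import Groth.Agent.Lib.Lead.FittStrat

set_option autoImplicit false
universe u
open FlatMod

namespace Groth.Agent.S10847

section
open CategoryTheory AlgebraicGeometry

open Groth.Agent.Lead.FittStrat

theorem main {X : Scheme.{u}} (F : X.Modules)
    [Coh.IsQCoh F] (hF : CohB1.IsFT F) (r : ℕ) :
    ∃ (Z : Scheme.{u}) (i : Z ⟶ X), IsImmersion i ∧ ∀ (T : Scheme.{u}) (f : T ⟶ X),
      (∃ g : T ⟶ Z, g ≫ i = f) ↔ FlatMod.IsFinLocFreeOfRank r ((Scheme.Modules.pullback f).obj F) := by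
  haveI : F.IsQuasicoherent := ‹Coh.IsQCoh F›
  obtain ⟨Z, i, hi, h⟩ := exists_immersion_of_ideals (lowIdeal F r) (Fitt.sheafIdeal F r)
  refine ⟨Z, i, hi, fun T f => ?_⟩
  rw [h T f, isFinLocFreeOfRank_pullback_iff F hF r f]


end


open AlgebraicGeometry CategoryTheory in
/-- Let X be a scheme, F a finite-type quasi-coherent O_X-module and r a natural number. Then there is
an immersion i : Z → X (a subscheme of X) such that a morphism of schemes f : T → X factors through
i if and only if the pullback f^*F is finite locally free of rank r. -/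
theorem result {X : Scheme.{u}} (F : X.Modules)
    [Coh.IsQCoh F] (hF : CohB1.IsFT F) (r : ℕ) :
    ∃ (Z : Scheme.{u}) (i : Z ⟶ X), IsImmersion i ∧ ∀ (T : Scheme.{u}) (f : T ⟶ X),
      (∃ g : T ⟶ Z, g ≫ i = f) ↔ FlatMod.IsFinLocFreeOfRank r ((Scheme.Modules.pullback f).obj F) := by
  classical
  exact main F hF r

end Groth.Agent.S10847
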