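import Groth.Statements.S10857
import Mathlib
import Groth.Agent.Lib.Helper1.FPA14

set_option autoImplicit false
universe u
open QCohSup

namespace Groth.Agent.S10857

open AlgebraicGeometry CategoryTheory CategoryTheory.Limits in
/-- Take a quasi-compact scheme X, a finite-type quasi-coherent O_X-module F, and G a quasi-coherent
O_X-module which is the colimit of a filtered diagram of quasi-coherent O_X-modules G_j. A
homomorphism u : G → F is an epimorphism if and only if there is an index j₀ such that for every
index j admitting a map from j₀ the composite G_j → G → F is an epimorphism. -/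
theorem result {X : Scheme.{u}} [CompactSpace X]
    {J : Type u} [SmallCategory J] [IsFiltered J] (D : J ⥤ X.Modules) [∀ j, Coh.IsQCoh (D.obj j)]
    (c : Cocone D) (hc : IsColimit c) [Coh.IsQCoh c.pt]
    (F : X.Modules) [Coh.IsQCoh F] (hF : CohB1.IsFT F) (u : c.pt ⟶ F) :
    Epi u ↔ ∃ j₀ : J, ∀ j : J, Nonempty (j₀ ⟶ j) → Epi (c.ι.app j ≫ u) := by
  haveI : c.pt.IsQuasicoherent := ‹Coh.IsQCoh c.pt›
  haveI : F.IsQuasicoherent := ‹Coh.IsQCoh F›
  constructor
  · intro hu
    exact Groth.Agent.Helper1.FPA.exists_stage_epi c hc F hF u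
  · rintro ⟨j₀, h⟩
    haveI := h j₀ ⟨CategoryTheory.CategoryStruct.id j₀⟩
    exact CategoryTheory.epi_of_epi (c.ι.app j₀) u

end Groth.Agent.S10857
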