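import Groth.Statements.S10865
import Mathlib
import Groth.Agent.Lib.Helper1.Dv20

set_option autoImplicit false
universe u
open Coherent

namespace Groth.Agent.S10865

open CategoryTheory CategoryTheory.Limits AlgebraicGeometry in
/-- Let X be a nonempty Noetherian scheme and K an isomorphism-closed class of O_X-modules such that (a)
in a short exact sequence of coherent modules, if the middle and right terms lie in K so does the
left one, and if the two outer terms lie in K so does the middle one; (b) if a coherent F has some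
d-fold direct sum (d ≥ 1) in K then F lies in K. If for every integral closed subscheme i : Z → X
there is a coherent O_Z-module with nonzero stalk at the generic point whose direct image under i
lies in K, then every coherent O_X-module lies in K. (For the empty scheme the hypotheses hold for
the empty class, so X is taken nonempty here.) -/
theorem result (X : Scheme.{u}) [IsNoetherian X] [Nonempty X]
    (K : ObjectProperty X.Modules) [K.IsClosedUnderIsomorphisms]
    (ha : ∀ S : ShortComplex X.Modules, S.ShortExact → Coh.IsCoh S.X₁ → Coh.IsCoh S.X₂ → Coh.IsCoh S.X₃ →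
      (K S.X₂ → K S.X₃ → K S.X₁) ∧ (K S.X₁ → K S.X₃ → K S.X₂))
    (hb : ∀ (F : X.Modules) (d : ℕ), 1 ≤ d → Coh.IsCoh F → K (∐ fun _ : Fin d => F) → K F)
    (hgen : ∀ (Z : Scheme.{u}) (i : Z ⟶ X) [IsClosedImmersion i] [IsIntegral Z],
      ∃ H : Z.Modules, Coh.IsCoh H ∧ Nontrivial (H.presheaf.stalk (genericPoint Z)) ∧
        K ((Scheme.Modules.pushforward i).obj H))
    (F : X.Modules) (hF : Coh.IsCoh F) : K F := by
  have hPG : ∃ G₀ : X.Modules, Coh.IsCoh G₀ ∧ K G₀ := by
    obtain ⟨x₀⟩ := ‹Nonempty X›
    obtain ⟨Z', i, hi, hint, -, -⟩ := Groth.Agent.Helper1.Dv.exists_integral_subscheme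
      (closure {x₀}) isClosed_closure isIrreducible_singleton.closure x₀ rfl
    obtain ⟨H, hH, -, hKH⟩ := @hgen Z' i hi hint
    exact ⟨_, Groth.Agent.Helper1.FinPush.isCoh_pushforward i H hH, hKH⟩
  obtain ⟨G₀, hG₀, hKG₀⟩ := hPG
  have h0 : ∀ M : X.Modules, CategoryTheory.Limits.IsZero M → K M := by
    intro M hM
    exact (ha _ (Groth.Agent.Helper1.Dv.shortExact_zero_id G₀ M hM)
      (Groth.Agent.Helper1.Dv.isCoh_of_isZero hM G₀ hG₀) hG₀ hG₀).1 hKG₀ hKG₀
  refine Groth.Agent.Helper1.Dv.dev_main (fun M => K M)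
    (fun M N e h => K.prop_of_iso e h) h0 Set.univ
    (fun S hS h1 h2 h3 _ => ha S hS h1 h2 h3) ?_ F hF (Set.subset_univ _)
  intro Z hZ hirr _ ξ hξ _
  obtain ⟨Z', i, hi, hint, hr, hη⟩ := Groth.Agent.Helper1.Dv.exists_integral_subscheme Z hZ hirr ξ hξ
  obtain ⟨H, hH, hnt, hKH⟩ := @hgen Z' i hi hint
  subst hη
  have hfield : IsField (Z'.presheaf.stalk (genericPoint Z')) :=
    Field.toIsField Z'.functionField
  exact ⟨_, Groth.Agent.Helper1.FinPush.isCoh_pushforward i H hH, hKH,
    (Groth.Agent.Helper1.Dv.support_pushforward_subset i H).trans hr.le,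
    Groth.Agent.Helper1.Dv.mem_support_pushforward i H _ hnt,
    fun a ha v => Groth.Agent.Helper1.Dv.smul_stalk_pushforward_eq_zero i H (genericPoint Z')
      hfield a ha v,
    fun e he _ F hF hKF => hb F e (Nat.one_le_iff_ne_zero.2 he) hF hKF⟩

end Groth.Agent.S10865
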