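import Groth.Statements.S10866
import Mathlib
import Groth.Agent.Lib.Helper1.Dv28
import Groth.Agent.S10865

set_option autoImplicit false
universe u
open Coherent

namespace Groth.Agent.S10866

open CategoryTheory AlgebraicGeometry in
/-- Let f : X → Y be a morphism of Noetherian schemes such that for every integral closed subscheme i :
Z → X there is a coherent O_Z-module with nonzero stalk at the generic point of Z whose direct image
under i followed by f is coherent on Y. Then the direct image f_*F of every coherent O_X-module F is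
coherent. -/
theorem result {X Y : Scheme.{u}} [IsNoetherian X] [IsNoetherian Y]
    (f : X ⟶ Y)
    (hgen : ∀ (Z : Scheme.{u}) (i : Z ⟶ X) [IsClosedImmersion i] [IsIntegral Z],
      ∃ H : Z.Modules, Coh.IsCoh H ∧ Nontrivial (H.presheaf.stalk (genericPoint Z)) ∧
        Coh.IsCoh ((Scheme.Modules.pushforward (i ≫ f)).obj H))
    (F : X.Modules) (hF : Coh.IsCoh F) : Coh.IsCoh ((Scheme.Modules.pushforward f).obj F) := by
  by_cases hne : Nonempty X
  swap
  · -- the empty scheme
    have hz : CategoryTheory.Limits.IsZero F :=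
      Groth.Agent.Helper1.Dv.isZero_of_support_subset_empty F (fun x _ => hne ⟨x⟩)
    exact Groth.Agent.Helper1.Dv.isCoh_of_isZero
      ((AlgebraicGeometry.Scheme.Modules.pushforward f).map_isZero hz) _
      (Groth.Agent.Helper1.Dv.isCoh_structureModule Y)
  let K : CategoryTheory.ObjectProperty X.Modules :=
    fun M => Coh.IsCoh ((AlgebraicGeometry.Scheme.Modules.pushforward f).obj M)
  haveI : K.IsClosedUnderIsomorphisms :=
    ⟨fun {M N} e hM => Groth.Agent.Helper1.Dv.isCoh_of_iso
      ((AlgebraicGeometry.Scheme.Modules.pushforward f).mapIso e) hM⟩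
  refine Groth.Agent.S10865.result X K ?_ ?_ ?_ F hF
  · intro S hS c1 c2 c3
    refine ⟨fun k2 _ => ?_, fun k1 k3 => ?_⟩
    · haveI := hS.mono_f
      exact Groth.Agent.Helper1.Dv.isCoh_push_of_mono f S.f c1 k2
    · exact Groth.Agent.Helper1.Dv.isCoh_push_mid f hS c2 k1 k3
  · intro F' d hd hF' hK
    let j : Fin d := ⟨0, hd⟩
    have hs : CategoryTheory.Limits.Sigma.ι (fun _ : Fin d => F') j ≫
        Groth.Agent.Helper1.Dv.cpπ F' d j = CategoryTheory.CategoryStruct.id F' := by
      rw [Groth.Agent.Helper1.Dv.ι_cpπ, if_pos rfl]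
    haveI : CategoryTheory.Mono (CategoryTheory.Limits.Sigma.ι (fun _ : Fin d => F') j) :=
      CategoryTheory.mono_of_mono_fac hs
    exact Groth.Agent.Helper1.Dv.isCoh_push_of_mono f
      (CategoryTheory.Limits.Sigma.ι (fun _ : Fin d => F') j) hF' hK
  · intro Z i hi hint
    obtain ⟨H, hH, hnt, hc⟩ := hgen Z i
    refine ⟨H, hH, hnt, ?_⟩
    exact Groth.Agent.Helper1.Dv.isCoh_of_iso
      ((AlgebraicGeometry.Scheme.Modules.pushforwardComp i f).app H).symm hc

end Groth.Agent.S10866
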