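import Groth.Statements.S10869
import Mathlib
import Groth.Agent.Lib.Helper1.CounitLib

set_option autoImplicit false
universe u
open Coh

namespace Groth.Agent.S10869

open CategoryTheory AlgebraicGeometry in
/-- For f : X → S quasi-compact and quasi-separated and F a quasi-coherent O_X-module, the counit
f^*f_*F → F is an epimorphism iff F is a quotient of f^*G for some quasi-coherent O_S-module G, iff
the restriction of F to the inverse image of every affine open of S is globally generated. -/
theorem result {X S : Scheme.{u}} (f : X ⟶ S) [QuasiCompact f] [QuasiSeparated f]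
    (F : X.Modules) (hF : Coh.IsQCoh F) :
    (Epi ((Scheme.Modules.pullbackPushforwardAdjunction f).counit.app F) ↔
      ∃ G : S.Modules, Coh.IsQCoh G ∧ ∃ φ : (Scheme.Modules.pullback f).obj G ⟶ F, Epi φ) ∧
    (Epi ((Scheme.Modules.pullbackPushforwardAdjunction f).counit.app F) ↔
      ∀ U : S.Opens, IsAffineOpen U → Curv2.IsGloballyGenerated (F.restrict (f ⁻¹ᵁ U).ι)) := by
  have : F.IsQuasicoherent := hF
  constructor
  · constructor
    · intro hepi
      exact ⟨(Scheme.Modules.pushforward f).obj F,
        Groth.Agent.Helper1.PushQc.isQuasicoherent_pushforward f F, _, hepi⟩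
    · rintro ⟨G, -, φ, hφ⟩
      let adj := Scheme.Modules.pullbackPushforwardAdjunction f
      have h1 : (Scheme.Modules.pullback f).map (adj.homEquiv G F φ) ≫ adj.counit.app F = φ := by
        have := (Adjunction.homEquiv_counit adj (g := adj.homEquiv G F φ)).symm
        rw [Equiv.symm_apply_apply] at this
        exact this
      have : Epi ((Scheme.Modules.pullback f).map (adj.homEquiv G F φ) ≫ adj.counit.app F) := by
        rw [h1]; exact hφ
      exact epi_of_epi ((Scheme.Modules.pullback f).map (adj.homEquiv G F φ)) (adj.counit.app F)
  · constructor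
    · intro hepi U hU
      exact Groth.Agent.Helper1.CounitLib.isGloballyGenerated_restrict_of_spannedBy F _
        (Groth.Agent.Helper1.CounitLib.spannedBy_of_epi_counit f F hepi U hU)
    · intro h
      exact Groth.Agent.Helper1.CounitLib.epi_counit_of_globallyGenerated_restrict f F h

end Groth.Agent.S10869
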