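import Groth.Statements.S10870
import Groth.Agent.Lib.Helper6.Det.DetCM
import Groth.Agent.Lib.Helper4.DimFT1

set_option autoImplicit false
universe u
open CAlgX

namespace Groth.Agent.S10870

open TensorProduct in
theorem minorIdeal_map {R S : Type u} [CommRing R] [CommRing S] (f : R →+* S) {a b : Type}
    [Fintype a] [Fintype b] (M : Matrix a b R) (t : ℕ) :
    (CAlgX.minorIdeal M t).map f = CAlgX.minorIdeal (M.map f) t := by
  unfold CAlgX.minorIdeal
  rw [Ideal.map_span]
  congr 1
  ext x
  simp only [Set.mem_image, Set.mem_range]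
  constructor
  · rintro ⟨_, ⟨fg, rfl⟩, rfl⟩
    refine ⟨fg, ?_⟩
    rw [Matrix.submatrix_map, RingHom.map_det]
    rfl
  · rintro ⟨fg, rfl⟩
    refine ⟨_, ⟨fg, rfl⟩, ?_⟩
    rw [Matrix.submatrix_map, RingHom.map_det]
    rfl

open TensorProduct in
theorem dim_baseChange (k : Type u) [Field k] (n m t : ℕ) :
    ringKrullDim (MvPolynomial (Fin n × Fin m) (AlgebraicClosure k) ⧸
      CAlgX.minorIdeal (W4bk4grassmannian.genMatrix (AlgebraicClosure k) n m) t) =
    ringKrullDim (MvPolynomial (Fin n × Fin m) k ⧸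
      CAlgX.minorIdeal (W4bk4grassmannian.genMatrix k n m) t) := by
  classical
  let K := AlgebraicClosure k
  let σ := Fin n × Fin m
  set I : Ideal (MvPolynomial σ k) :=
    CAlgX.minorIdeal (W4bk4grassmannian.genMatrix k n m) t with hI
  let A := MvPolynomial σ k ⧸ I
  have h1 : ringKrullDim (A ⊗[k] K) = ringKrullDim A := by
    apply Groth.Agent.Lib.Helper4.DimFT1.ringKrullDim_eq_of_isIntegral_of_injective
    exact FaithfulSMul.algebraMap_injective A (A ⊗[k] K)
  let e1 : A ⊗[k] K ≃+* K ⊗[k] A := (Algebra.TensorProduct.comm k A K).toRingEquiv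
  let J : Ideal (K ⊗[k] MvPolynomial σ k) :=
    I.map (Algebra.TensorProduct.includeRight (R := k) (A := K) (B := MvPolynomial σ k))
  let e2 : K ⊗[k] A ≃+* (K ⊗[k] MvPolynomial σ k) ⧸ J :=
    (Algebra.TensorProduct.tensorQuotientEquiv (R := k) K (MvPolynomial σ k) K I).toRingEquiv
  let e3' : K ⊗[k] MvPolynomial σ k ≃+* MvPolynomial σ K :=
    (MvPolynomial.algebraTensorAlgEquiv k K).toRingEquiv
  let e3 : (K ⊗[k] MvPolynomial σ k) ⧸ J ≃+*
      MvPolynomial σ K ⧸ J.map (e3' : K ⊗[k] MvPolynomial σ k →+* MvPolynomial σ K) :=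
    Ideal.quotientEquiv J (J.map (e3' : K ⊗[k] MvPolynomial σ k →+* MvPolynomial σ K)) e3' rfl
  have hcomp : ((e3' : K ⊗[k] MvPolynomial σ k →+* MvPolynomial σ K)).comp
      (Algebra.TensorProduct.includeRight (R := k) (A := K) (B := MvPolynomial σ k)).toRingHom =
      MvPolynomial.map (algebraMap k K) := by
    apply RingHom.ext
    intro p
    change (MvPolynomial.algebraTensorAlgEquiv k K) ((1 : K) ⊗ₜ[k] p) = _
    rw [MvPolynomial.algebraTensorAlgEquiv_tmul, one_smul]
  have hJ : J.map (e3' : K ⊗[k] MvPolynomial σ k →+* MvPolynomial σ K) =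
      CAlgX.minorIdeal (W4bk4grassmannian.genMatrix K n m) t := by
    have hJ' : J = I.map (Algebra.TensorProduct.includeRight (R := k) (A := K)
        (B := MvPolynomial σ k)).toRingHom := rfl
    rw [hJ', Ideal.map_map, hcomp, hI, minorIdeal_map]
    congr 1
    ext i j : 1
    change MvPolynomial.map (algebraMap k K) (MvPolynomial.X (i, j)) = MvPolynomial.X (i, j)
    rw [MvPolynomial.map_X]
  rw [← hJ, ← h1]
  exact ringKrullDim_eq_of_ringEquiv ((e1.trans e2).trans e3).symm

/-- For a field k and 0 ≤ r ≤ min(n, m), the affine determinantal scheme of n × m matrices of rank at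
most r over k — the spectrum of the polynomial ring on the entries of the generic n × m matrix
modulo the ideal of its (r+1) × (r+1) minors — has dimension r(m + n − r). -/
theorem result (k : Type u) [Field k] (n m r : ℕ) (hr : r ≤ min n m) :
    ringKrullDim (MvPolynomial (Fin n × Fin m) k ⧸ CAlgX.minorIdeal (Matrix.of fun (i : Fin n) (j : Fin m) => (MvPolynomial.X (i, j) : MvPolynomial (Fin n × Fin m) k)) (r + 1)) =
      ((r * (m + n - r) : ℕ) : WithBot ℕ∞) := by
  classical
  by_cases hnm : 0 < n ∧ 0 < m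
  · obtain ⟨hn, hm⟩ := hnm
    have hr1 : r ≤ n := le_trans hr (min_le_left _ _)
    have hr2 : r ≤ m := le_trans hr (min_le_right _ _)
    have : Infinite (AlgebraicClosure k) := IsAlgClosed.instInfinite
    have h3 := (Groth.Agent.Lib.Helper6.Det.determinantal_main (m := n) m (AlgebraicClosure k) r
      hr1 hn hm hr2).2.2.2
    have h4 := dim_baseChange k n m (r + 1)
    rw [h3] at h4
    rw [Nat.add_comm m n]
    exact h4.symm
  · have hr0 : r = 0 := by
      rcases Nat.eq_zero_or_pos n with h | h
      · subst h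
        simpa using hr
      · have hm0 : m = 0 := by
          by_contra h'
          exact hnm ⟨h, Nat.pos_of_ne_zero h'⟩
        subst hm0
        simpa using hr
    subst hr0
    have : IsEmpty (Fin n × Fin m) := by
      constructor
      rintro ⟨i, j⟩
      rcases Nat.eq_zero_or_pos n with h | h
      · subst h
        exact i.elim0
      · have hm0 : m = 0 := by
          by_contra h'
          exact hnm ⟨h, Nat.pos_of_ne_zero h'⟩
        subst hm0
        exact j.elim0
    have hI : CAlgX.minorIdeal (Matrix.of fun (i : Fin n) (j : Fin m) =>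
        (MvPolynomial.X (i, j) : MvPolynomial (Fin n × Fin m) k)) (0 + 1) = ⊥ := by
      unfold CAlgX.minorIdeal
      rw [Ideal.span_eq_bot]
      rintro x ⟨fg, rfl⟩
      exact (IsEmpty.false (fg.1 0, fg.2 0)).elim
    rw [hI]
    have e : (MvPolynomial (Fin n × Fin m) k ⧸ (⊥ : Ideal (MvPolynomial (Fin n × Fin m) k))) ≃+* k :=
      (RingEquiv.quotientBot _).trans (MvPolynomial.isEmptyRingEquiv k _)
    rw [ringKrullDim_eq_of_ringEquiv e, ringKrullDim_eq_zero_of_field]
    simp

end Groth.Agent.S10870
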