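import Groth.Statements.S10871
import Mathlib

set_option autoImplicit false
universe u
open AlgebraicGeometry
open Curves

namespace Groth.Agent.S10871

section
open AlgebraicGeometry

section alg
variable (A : Type u) [CommRing A] [IsDedekindDomain A]

open scoped nonZeroDivisors in
theorem span_S_eq_top (I : Ideal A) (hI : I ≠ ⊥) :
    Ideal.span {c : A | ∃ a ∈ I, ∀ x ∈ I, c * x ∈ Ideal.span {a}} = ⊤ := by
  obtain ⟨S, hS⟩ : ∃ S : Set A, S = {c : A | ∃ a ∈ I, ∀ x ∈ I, c * x ∈ Ideal.span {a}} := ⟨_, rfl⟩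
  rw [← hS]
  let K := FractionRing A
  have hJ : (I : FractionalIdeal A⁰ K) ≠ 0 := by
    rw [Ne, FractionalIdeal.coeIdeal_eq_zero]; exact hI
  have h1 : (I : FractionalIdeal A⁰ K) * (I : FractionalIdeal A⁰ K)⁻¹ = 1 := mul_inv_cancel₀ hJ
  have h2 : (1 : K) ∈ (I : FractionalIdeal A⁰ K) * (I : FractionalIdeal A⁰ K)⁻¹ := by
    rw [h1]; exact FractionalIdeal.one_mem_one _
  have h3 : ∃ c ∈ Ideal.span S, algebraMap A K c = 1 := by
    refine FractionalIdeal.mul_induction_on (C := fun z => ∃ c ∈ Ideal.span S, algebraMap A K c = z)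
      h2 ?_ ?_
    · intro i hi j hj
      obtain ⟨a, ha, rfl⟩ := (FractionalIdeal.mem_coeIdeal _).mp hi
      rw [FractionalIdeal.mem_inv_iff hJ] at hj
      obtain ⟨c, hc⟩ := (FractionalIdeal.mem_one_iff _).mp
        (hj _ ((FractionalIdeal.mem_coeIdeal _).mpr ⟨a, ha, rfl⟩))
      refine ⟨c, Ideal.subset_span ?_, by rw [hc, mul_comm]⟩
      rw [hS]
      refine ⟨a, ha, fun x hx => ?_⟩
      obtain ⟨d, hd⟩ := (FractionalIdeal.mem_one_iff _).mp
        (hj _ ((FractionalIdeal.mem_coeIdeal _).mpr ⟨x, hx, rfl⟩))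
      rw [Ideal.mem_span_singleton']
      refine ⟨d, ?_⟩
      apply IsFractionRing.injective A K
      rw [map_mul, map_mul, hc, hd]
      ring
    · rintro x y ⟨c, hc, rfl⟩ ⟨d, hd, rfl⟩
      exact ⟨c + d, Ideal.add_mem _ hc hd, map_add _ _ _⟩
  obtain ⟨c, hc, hc1⟩ := h3
  have : c = 1 := IsFractionRing.injective A K (by rw [hc1, map_one])
  rw [Ideal.eq_top_iff_one, ← this]
  exact hc

end alg


section sch

theorem affine_of_cover (R : CommRingCat.{u}) (U : (Spec R).Opens) (S : Set R)
    (hS : Ideal.span S = ⊤)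
    (h : ∀ c ∈ S, IsAffineOpen (X := Spec R) (U ⊓ PrimeSpectrum.basicOpen c)) : IsAffineOpen U := by
  have haff : IsAffineHom U.ι := by
    apply isAffineHom_of_forall_exists_isAffineOpen
    intro x
    have hx : ∃ c ∈ S, c ∉ x.asIdeal := by
      by_contra hcon
      have hle : Ideal.span S ≤ x.asIdeal := by
        rw [Ideal.span_le]
        intro c hc
        by_contra hcx
        exact hcon ⟨c, hc, hcx⟩
      rw [hS] at hle
      exact x.2.ne_top (top_le_iff.mp hle)
    obtain ⟨c, hc, hcx⟩ := hx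
    obtain ⟨V, hV⟩ : ∃ V : (Spec R).Opens, V = PrimeSpectrum.basicOpen c := ⟨_, rfl⟩
    refine ⟨V, by rw [hV]; exact hcx, by rw [hV]; exact IsAffineOpen.Spec_basicOpen c, ?_⟩
    have e : U.ι ''ᵁ U.ι ⁻¹ᵁ V = U ⊓ V := by
      rw [Scheme.Hom.image_preimage_eq_opensRange_inf, Scheme.Opens.opensRange_ι]
    rw [← U.ι.isAffineOpen_iff_of_isOpenImmersion, e, hV]
    exact h c hc
  exact isAffine_of_isAffineHom U.ι

end sch

theorem main (A : Type u) [CommRing A] [IsDedekindDomain A]
    (U : (Spec (CommRingCat.of A)).Opens) : IsAffineOpen U := by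
  obtain ⟨I, hI⟩ := (PrimeSpectrum.isClosed_iff_zeroLocus_ideal _).mp U.2.isClosed_compl
  by_cases hI0 : I = ⊥
  · have : U = ⊥ := by
      ext x
      have : x ∈ U.carrierᶜ := by rw [hI, hI0]; simp; trivial
      simpa using this
    rw [this]
    exact isAffineOpen_bot _
  · apply affine_of_cover (CommRingCat.of A) U _ (span_S_eq_top A I hI0)
    rintro c ⟨a, ha, hc⟩
    have : U ⊓ PrimeSpectrum.basicOpen c = PrimeSpectrum.basicOpen (a * c) := by
      ext q
      have hq : q ∈ U.carrier ↔ ¬ (q ∈ PrimeSpectrum.zeroLocus (I : Set A)) := by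
        rw [← hI]; exact Classical.not_not.symm
      change (q ∈ U.carrier ∧ c ∉ q.asIdeal) ↔ a * c ∉ q.asIdeal
      rw [hq]
      change (¬ ((I : Set A) ⊆ q.asIdeal) ∧ c ∉ q.asIdeal) ↔ a * c ∉ q.asIdeal
      constructor
      · rintro ⟨h1, h2⟩ hac
        apply h1
        intro x hx
        rcases q.2.mem_or_mem hac with h3 | h3
        · have := hc x hx
          rw [Ideal.mem_span_singleton'] at this
          obtain ⟨d, hd⟩ := this
          have h4 : c * x ∈ q.asIdeal := by rw [← hd]; exact Ideal.mul_mem_left _ _ h3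
          rcases q.2.mem_or_mem h4 with h5 | h5
          · exact absurd h5 h2
          · exact h5
        · exact absurd h3 h2
      · intro hac
        refine ⟨fun hIq => hac (Ideal.mul_mem_right _ _ (hIq ha)), fun hcq => hac (Ideal.mul_mem_left _ _ hcq)⟩
    rw [this]
    exact IsAffineOpen.Spec_basicOpen (R := CommRingCat.of A) (a * c)


end


/-- Every open subscheme of the spectrum of a Dedekind domain is affine. -/
theorem result (A : Type u) [CommRing A] [IsDedekindDomain A]
    (U : (Spec (CommRingCat.of A)).Opens) : IsAffineOpen U := by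
  classical
  exact main A U

end Groth.Agent.S10871
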