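import Groth.Statements.S10886
import Mathlib

set_option autoImplicit false
universe u
open CategoryTheory AlgebraicGeometry
open Curves

namespace Groth.Agent.S10886

open Topology TopologicalSpace

section
variable {X : Type*} [TopologicalSpace X] [QuasiSober X] [T0Space X] [IrreducibleSpace X]

/-- proper irreducible closed subsets of an irreducible space of dimension ≤ 1 are closed points -/
theorem irred_closed_eq_singleton (hX : topologicalKrullDim X ≤ 1) (W : Set X)
    (hWi : IsIrreducible W) (hWc : IsClosed W) (hW : W ≠ Set.univ) : ∃ w, W = {w} := by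
  obtain ⟨w, hw⟩ := QuasiSober.sober hWi hWc
  refine ⟨w, ?_⟩
  have hall := Order.krullDim_le_one_iff.1 hX
  let Wc : IrreducibleCloseds X := ⟨W, hWi, hWc⟩
  let top : IrreducibleCloseds X := ⟨Set.univ, IrreducibleSpace.isIrreducible_univ X, isClosed_univ⟩
  have hlt : Wc < top := by
    refine lt_of_le_of_ne (fun x _ => Set.mem_univ x) fun h => hW ?_
    exact congrArg (fun s : IrreducibleCloseds X => (s : Set X)) h
  have hmin : IsMin Wc := by
    rcases hall Wc with h | h
    · exact h
    · exact absurd hlt (h.not_lt)
  apply Set.eq_singleton_iff_unique_mem.2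
  refine ⟨hw.mem, fun w' hw' => ?_⟩
  let W' : IrreducibleCloseds X := ⟨closure {w'}, isIrreducible_singleton.closure, isClosed_closure⟩
  have hle : W' ≤ Wc := by
    intro x hx
    exact (closure_minimal (Set.singleton_subset_iff.2 hw') hWc) hx
  have hge : Wc ≤ W' := hmin hle
  have heq : closure {w'} = W := le_antisymm hle hge
  have hgen' : IsGenericPoint w' W := heq
  exact hgen'.eq hw

theorem closed_finite_of_ne_univ [NoetherianSpace X] (hX : topologicalKrullDim X ≤ 1) (Z : Set X)
    (hZc : IsClosed Z) (hZ : Z ≠ Set.univ) : Z.Finite ∧ ∀ x ∈ Z, IsClosed ({x} : Set X) := by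
  obtain ⟨S, hSf, hSc, hSi, rfl⟩ := NoetherianSpace.exists_finite_set_isClosed_irreducible hZc
  have hsing : ∀ t ∈ S, ∃ w, t = {w} := by
    intro t ht
    apply irred_closed_eq_singleton hX t (hSi t ht) (hSc t ht)
    intro h
    apply hZ
    apply Set.eq_univ_of_univ_subset
    rw [← h]
    exact Set.subset_sUnion_of_mem ht
  constructor
  · apply Set.Finite.sUnion hSf
    intro t ht
    obtain ⟨w, rfl⟩ := hsing t ht
    exact Set.finite_singleton w
  · rintro x ⟨t, ht, hxt⟩
    obtain ⟨w, rfl⟩ := hsing t ht
    have : x = w := hxt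
    rw [this]
    exact hSc _ ht

theorem constructible_dim_one [NoetherianSpace X] (hX : topologicalKrullDim X ≤ 1) (s : Set X)
    (hs : Topology.IsConstructible s) :
    (s.Finite ∧ (∀ x ∈ s, IsClosed ({x} : Set X))) ∨ (sᶜ.Finite ∧ ∀ x ∈ sᶜ, IsClosed ({x} : Set X)) := by
  induction hs using Topology.IsConstructible.empty_union_induction with
  | open_retrocompact U hU _ =>
    by_cases hU0 : U = ∅
    · left
      rw [hU0]
      exact ⟨Set.finite_empty, fun x hx => absurd hx (Set.notMem_empty x)⟩
    · right
      apply closed_finite_of_ne_univ hX _ hU.isClosed_compl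
      intro h
      apply hU0
      rw [← compl_compl U, h, Set.compl_univ]
  | union s _ t _ ihs iht =>
    rcases ihs with ⟨h1, h2⟩ | ⟨h1, h2⟩
    · rcases iht with ⟨h3, h4⟩ | ⟨h3, h4⟩
      · left
        refine ⟨h1.union h3, ?_⟩
        rintro x (hx | hx)
        · exact h2 x hx
        · exact h4 x hx
      · right
        have hsub : (s ∪ t)ᶜ ⊆ tᶜ := Set.compl_subset_compl.2 Set.subset_union_right
        exact ⟨h3.subset hsub, fun x hx => h4 x (hsub hx)⟩
    · right
      have hsub : (s ∪ t)ᶜ ⊆ sᶜ := Set.compl_subset_compl.2 Set.subset_union_left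
      exact ⟨h1.subset hsub, fun x hx => h2 x (hsub hx)⟩
  | compl s _ ih =>
    rcases ih with h | h
    · right
      rwa [compl_compl]
    · left
      exact h
end

/-- In an irreducible Noetherian scheme of dimension one every constructible subset is either a finite
set of closed points or the complement of such a set; in particular it is open or closed. -/
theorem result {X : Scheme.{u}} [IsNoetherian X]
    [IrreducibleSpace X] (hX : topologicalKrullDim X = 1) (s : Set X) (hs : Topology.IsConstructible s) :
    (s.Finite ∧ (∀ x ∈ s, IsClosed ({x} : Set X))) ∨ (sᶜ.Finite ∧ ∀ x ∈ sᶜ, IsClosed ({x} : Set X)) := by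
  exact constructible_dim_one hX.le s hs

end Groth.Agent.S10886
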