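import Groth.Statements.S10889
-- import your own Groth.Agent.* helpers here
import Groth.Agent.Lib.Helper4.Chev3
import Groth.Agent.Lib.Helper2.FibDim.LowerSemi
import Groth.Agent.Lib.Helper2.Sch.LqfField

set_option autoImplicit false
universe u
open CategoryTheory AlgebraicGeometry
open FlatMor

namespace Groth.Agent.S10889

/-- Let f : X → Y be proper, flat and of finite presentation, and let V be the set of points of Y whose
fibre is (non-empty and) zero-dimensional. Then V is a clopen subset of Y, and over every open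
subset of V the restriction of f is finite, hence finite locally free. -/
theorem result {X Y : Scheme.{u}} (f : X ⟶ Y) [IsProper f] [Flat f]
    [LocallyOfFinitePresentation f] :
    IsClopen {y : Y | topologicalKrullDim (f.base ⁻¹' {y}) = 0} ∧
      ∀ U : Y.Opens, (U : Set Y) ⊆ {y : Y | topologicalKrullDim (f.base ⁻¹' {y}) = 0} → IsFinite (f ∣_ U) := by
  have key : ∀ y : Y, topologicalKrullDim (f.base ⁻¹' {y}) = topologicalKrullDim (f.fiber y) :=
    fun y => (IsHomeomorph.topologicalKrullDim_eq _ (f.fiberHomeo y).isHomeomorph).symm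
  have hbot : ∀ d : WithBot ℕ∞, d = 0 ↔ (d ≤ 0 ∧ ⊥ < d) := by
    intro d
    constructor
    · rintro rfl
      exact ⟨le_rfl, WithBot.bot_lt_coe _⟩
    · rintro ⟨h1, h2⟩
      refine le_antisymm h1 ?_
      obtain ⟨b, rfl⟩ := WithBot.ne_bot_iff_exists.mp (ne_of_gt h2)
      exact WithBot.coe_le_coe.mpr zero_le
  have hne : ∀ d : WithBot ℕ∞, ¬ d = 0 ↔ (d ≤ ⊥ ∨ 0 < d) := by
    intro d
    rw [hbot d]
    constructor
    · intro h
      by_cases hb : ⊥ < d
      · right
        by_contra h0
        exact h ⟨not_lt.mp h0, hb⟩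
      · left
        exact not_lt.mp hb
    · rintro (h | h) ⟨h1, h2⟩
      · exact absurd h2 (not_lt.mpr h)
      · exact absurd h (not_lt.mpr h1)
  refine ⟨⟨?_, ?_⟩, ?_⟩
  · -- closed
    rw [← isOpen_compl_iff]
    have : {y : Y | topologicalKrullDim (f.base ⁻¹' {y}) = 0}ᶜ =
        {s : Y | topologicalKrullDim (f.fiber s) ≤ ⊥} ∪ {s : Y | 0 < topologicalKrullDim (f.fiber s)} := by
      ext y
      simp only [Set.mem_compl_iff, Set.mem_ofPred_eq, Set.mem_union]
      rw [key y]
      exact hne _
    rw [this]
    exact (Groth.Agent.Lib.Helper4.Chev3.S0403_main f ⊥).union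
      (Groth.Agent.Helper2.FibDim.S0404_main f 0)
  · -- open
    have : {y : Y | topologicalKrullDim (f.base ⁻¹' {y}) = 0} =
        {s : Y | topologicalKrullDim (f.fiber s) ≤ 0} ∩ {s : Y | ⊥ < topologicalKrullDim (f.fiber s)} := by
      ext y
      simp only [Set.mem_ofPred_eq, Set.mem_inter_iff]
      rw [key y]
      exact hbot _
    rw [this]
    exact (Groth.Agent.Lib.Helper4.Chev3.S0403_main f 0).inter
      (Groth.Agent.Helper2.FibDim.S0404_main f ⊥)
  · intro U hU
    have hlqf : LocallyQuasiFinite (f ∣_ U) := by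
      refine LocallyQuasiFinite.of_fiberToSpecResidueField _ fun x => ?_
      have hx0 : topologicalKrullDim (f.base ⁻¹' {x.1}) = 0 := hU x.2
      have hdim : topologicalKrullDim ↥((f ∣_ U).fiber x) ≤ 0 := by
        rw [← hx0]
        let φ : ↥((f ∣_ U).fiber x) → (f.base ⁻¹' {x.1}) := fun z =>
          ⟨(f ⁻¹ᵁ U).ι ((f ∣_ U).fiberι x z), by
            show f ((f ⁻¹ᵁ U).ι ((f ∣_ U).fiberι x z)) = x.1
            have h1 : (f ∣_ U) ((f ∣_ U).fiberι x z) = x :=
              ((f ∣_ U).fiberHomeo x z).2
            have h2 := congrArg (fun t => U.ι t) h1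
            simp only at h2
            rw [← Scheme.Hom.comp_apply, morphismRestrict_ι, Scheme.Hom.comp_apply] at h2
            exact h2⟩
        have hφ : Topology.IsInducing φ := by
          have h3 : Topology.IsInducing (Subtype.val ∘ φ) := by
            show Topology.IsInducing (fun z => (f ⁻¹ᵁ U).ι ((f ∣_ U).fiberι x z))
            exact ((f ⁻¹ᵁ U).ι.isEmbedding.isInducing).comp
              ((f ∣_ U).fiberι x).isEmbedding.isInducing
          exact Topology.IsInducing.of_comp (by
            refine Continuous.subtype_mk ?_ _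
            exact ((f ⁻¹ᵁ U).ι.continuous).comp ((f ∣_ U).fiberι x).continuous)
            continuous_subtype_val h3
        exact hφ.topologicalKrullDim_le
      exact Groth.Agent.Helper2.LqfField.lqf_of_dim_le_zero
        (k := ↑(U.toScheme.residueField x)) ((f ∣_ U).fiberToSpecResidueField x) hdim
    exact IsFinite.of_isProper_of_locallyQuasiFinite _

end Groth.Agent.S10889
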