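import Groth.Statements.S10890
import Mathlib
import Groth.Agent.Lib.Helper4.Fitting13

set_option autoImplicit false
universe u
open CAlgX

namespace Groth.Agent.S10890

open Groth.Agent.Helper4.Fitting

namespace H10890

variable {R : Type u} [CommRing R] {n m : ℕ} (A : Matrix (Fin n) (Fin m) R)

abbrev Cok : Type u := (Fin n → R) ⧸ LinearMap.range (Matrix.mulVecLin A)

noncomputable def gens : Fin n → Cok A := fun i => Submodule.Quotient.mk (Pi.single i 1)

theorem lc_gens (z : Fin n → R) : ∑ i, z i • gens A i = Submodule.Quotient.mk z := by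
  unfold gens
  have : (Submodule.Quotient.mk z : Cok A) = (LinearMap.range (Matrix.mulVecLin A)).mkQ z := rfl
  rw [this]
  conv_rhs => rw [pi_eq_sum_univ' z]
  rw [map_sum]
  simp only [map_smul]
  rfl

theorem span_gens : Submodule.span R (Set.range (gens A)) = ⊤ := by
  rw [eq_top_iff]
  rintro y -
  obtain ⟨z, rfl⟩ := Submodule.Quotient.mk_surjective _ y
  rw [← lc_gens]
  exact Submodule.sum_mem _ (fun i _ => Submodule.smul_mem _ _ (Submodule.subset_span ⟨i, rfl⟩))

theorem relModule_gens : relModule R (gens A) = LinearMap.range (Matrix.mulVecLin A) := by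
  ext z
  rw [mem_relModule, lc_gens, Submodule.Quotient.mk_eq_zero]

theorem minorIdeal_eq (p : ℕ) (hp : p ≤ n) :
    CAlgX.minorIdeal A p = Fitt.ideal R (Cok A) (n - p) := by
  rw [ideal_eq_F (gens A) (span_gens A) (n - p),
    F_eq_span_of_span_eq (gens A) (n - p) (Set.range A.col)
      (by rw [relModule_gens, Matrix.range_mulVecLin])]
  have hq : n - (n - p) = p := by omega
  generalize n - (n - p) = q at hq
  subst hq
  unfold CAlgX.minorIdeal
  congr 1
  ext d
  constructor
  · rintro ⟨⟨f, g⟩, rfl⟩
    exact ⟨fun b => A.col (g b), f, fun b => ⟨g b, rfl⟩, rfl⟩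
  · rintro ⟨w, e, hw, rfl⟩
    choose g hg using hw
    refine ⟨⟨e, g⟩, ?_⟩
    unfold minorDet
    refine congrArg Matrix.det ?_
    ext a b
    simp only [Matrix.submatrix_apply, Matrix.of_apply, ← hg b, Matrix.col_apply]

theorem minorIdeal_eq_bot (p : ℕ) (hp : n < p) : CAlgX.minorIdeal A p = ⊥ := by
  unfold CAlgX.minorIdeal
  rw [Ideal.span_eq_bot]
  rintro d ⟨⟨f, g⟩, rfl⟩
  obtain ⟨a, a', hne, heq⟩ := Fintype.exists_ne_map_eq_of_card_lt f (by simpa using hp)
  apply Matrix.det_zero_of_row_eq hne
  ext b
  simp [heq]

theorem compl_free {R : Type u} [CommRing R] [IsLocalRing R] {n : ℕ}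
    (C N' : Submodule R (Fin n → R)) (h : IsCompl C N') :
    Module.Free R C ∧ Module.Free R N' ∧ Module.Finite R N' ∧
      Module.finrank R C + Module.finrank R N' = n := by
  let e := Submodule.prodEquivOfIsCompl C N' h
  have hprojprod : Module.Projective R (C × N') := Module.Projective.of_equiv e.symm
  have hCproj : Module.Projective R C :=
    Module.Projective.of_split (LinearMap.inl R C N') (LinearMap.fst R C N') (by ext; simp)
  have hNproj : Module.Projective R N' :=
    Module.Projective.of_split (LinearMap.inr R C N') (LinearMap.snd R C N') (by ext; simp)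
  have hfinprod : Module.Finite R (C × N') := Module.Finite.equiv e.symm
  have hCfin : Module.Finite R C :=
    Module.Finite.of_surjective (LinearMap.fst R C N') LinearMap.fst_surjective
  have hNfin : Module.Finite R N' :=
    Module.Finite.of_surjective (LinearMap.snd R C N') LinearMap.snd_surjective
  have hCfree : Module.Free R C := Module.free_of_flat_of_isLocalRing
  have hNfree : Module.Free R N' := Module.free_of_flat_of_isLocalRing
  refine ⟨hCfree, hNfree, hNfin, ?_⟩
  have h1 := LinearEquiv.finrank_eq e
  rw [Module.finrank_prod, Module.finrank_fin_fun] at h1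
  exact h1


theorem main (R : Type u) [CommRing R] [IsLocalRing R] (n m r : ℕ)
    (hrn : r ≤ n) (A : Matrix (Fin n) (Fin m) R) :
    (∃ N' : Submodule R (Fin n → R), IsCompl (LinearMap.range (Matrix.mulVecLin A)) N' ∧
        Module.finrank R (LinearMap.range (Matrix.mulVecLin A)) = r) ↔
      (CAlgX.minorIdeal A (r + 1) = ⊥ ∧ CAlgX.minorIdeal A r = ⊤) := by
  set C := LinearMap.range (Matrix.mulVecLin A) with hC
  constructor
  · rintro ⟨N', hcompl, hrank⟩
    obtain ⟨hCfree, hNfree, hNfin, hsum⟩ := compl_free C N' hcompl
    have hrankN : Module.finrank R N' = n - r := by omega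
    let eM : Cok A ≃ₗ[R] N' := Submodule.quotientEquivOfIsCompl C N' hcompl
    have hrankM : Module.finrank R (Cok A) = n - r := by
      rw [LinearEquiv.finrank_eq eM]; exact hrankN
    have : Module.Free R (Cok A) := Module.Free.of_equiv eM.symm
    have : Module.Finite R (Cok A) := Module.Finite.equiv eM.symm
    let b := Module.finBasisOfFinrankEq R (Cok A) hrankM
    constructor
    · by_cases h : r + 1 ≤ n
      · rw [minorIdeal_eq A (r+1) h]
        exact ideal_eq_bot_of_linearIndependent b b.span_eq b.linearIndependent _ (by omega)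
      · exact minorIdeal_eq_bot A _ (by omega)
    · rw [minorIdeal_eq A r hrn]
      exact ideal_eq_top_of_span b b.span_eq _ le_rfl
  · rintro ⟨h1, h2⟩
    have htop : Fitt.ideal R (Cok A) (n - r) = ⊤ := by rw [← minorIdeal_eq A r hrn]; exact h2
    have hbot : ∀ k, k < n - r → Fitt.ideal R (Cok A) k = ⊥ := by
      intro k hk
      have h3 : r + 1 ≤ n := by omega
      have := minorIdeal_eq A (r+1) h3
      rw [h1] at this
      rw [eq_bot_iff, this]
      exact ideal_mono (by omega)
    have hnle : ¬ Fitt.ideal R (Cok A) (n - r) ≤ IsLocalRing.maximalIdeal R := by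
      rw [htop]; intro h
      exact (IsLocalRing.maximalIdeal.isMaximal R).ne_top (top_le_iff.1 h)
    obtain ⟨f, hf, -, y, hy⟩ := exists_smul_mem_span_of_not_le (gens A) (span_gens A) (n - r)
      (IsLocalRing.maximalIdeal R) hnle
    have hfu : IsUnit f := by
      by_contra h
      exact hf ((IsLocalRing.mem_maximalIdeal f).2 h)
    have hspan : Submodule.span R (Set.range y) = ⊤ := by
      rw [eq_top_iff]; rintro m -
      obtain ⟨u, rfl⟩ := hfu
      have := Submodule.smul_mem _ ((u⁻¹ : Rˣ) : R) (hy m)
      rwa [smul_smul, Units.inv_mul, one_smul] at this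
    have hli : LinearIndependent R y := by
      rw [Fintype.linearIndependent_iff]
      intro c hc j
      have hpos : 0 < n - r := Fin.pos j
      have hmem := coord_mem_ideal_of_relation y hspan (n - r - 1) (by omega) c hc j
      rw [hbot _ (by omega), Ideal.mem_bot] at hmem
      exact hmem
    let b : Module.Basis (Fin (n - r)) R (Cok A) := Module.Basis.mk hli (by rw [hspan])
    have hfree : Module.Free R (Cok A) := Module.Free.of_basis b
    have hrankM : Module.finrank R (Cok A) = n - r := by
      rw [Module.finrank_eq_card_basis b, Fintype.card_fin]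
    obtain ⟨s, hs⟩ := Module.projective_lifting_property C.mkQ LinearMap.id (Submodule.mkQ_surjective C)
    have hs' : ∀ x, C.mkQ (s x) = x := fun x => LinearMap.congr_fun hs x
    have hcompl : IsCompl C (LinearMap.range s) := by
      constructor
      · rw [Submodule.disjoint_def]
        rintro x hx ⟨z, rfl⟩
        have : C.mkQ (s z) = 0 := by rw [Submodule.mkQ_apply, Submodule.Quotient.mk_eq_zero]; exact hx
        rw [hs'] at this
        rw [this, map_zero]
      · rw [codisjoint_iff, eq_top_iff]
        rintro x -
        have : x = (x - s (C.mkQ x)) + s (C.mkQ x) := by abel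
        rw [this]
        refine Submodule.add_mem_sup ?_ ⟨_, rfl⟩
        rw [← Submodule.Quotient.mk_eq_zero, ← Submodule.mkQ_apply, map_sub, hs', sub_self]
    refine ⟨LinearMap.range s, hcompl, ?_⟩
    obtain ⟨hCfree, hNfree, hNfin, hsum⟩ := compl_free C _ hcompl
    have hinj : Function.Injective s := fun a b hab => by
      have := congrArg C.mkQ hab
      rwa [hs', hs'] at this
    have : Module.finrank R (LinearMap.range s) = n - r := by
      rw [← LinearEquiv.finrank_eq (LinearEquiv.ofInjective s hinj), hrankM]
    omega

end H10890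

/-- (i) ⇔ (ii): let R be a local ring, A an n × m matrix over R regarded as a linear map R^m → R^n, and
1 ≤ r ≤ n. Then the image of A is a direct summand of R^n of rank r if and only if every (r+1) ×
(r+1) minor of A is zero and the r × r minors of A generate the unit ideal. (The printed statement
is over an arbitrary ring with 'direct summand of rank r'; its proof localises at once, and this row
states the local case, where a direct summand of R^n is free and its rank is its finrank.) -/
theorem result (R : Type u) [CommRing R] [IsLocalRing R] (n m r : ℕ)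
    (hr : 1 ≤ r) (hrn : r ≤ n) (A : Matrix (Fin n) (Fin m) R) :
    (∃ N' : Submodule R (Fin n → R), IsCompl (LinearMap.range (Matrix.mulVecLin A)) N' ∧
        Module.finrank R (LinearMap.range (Matrix.mulVecLin A)) = r) ↔
      (CAlgX.minorIdeal A (r + 1) = ⊥ ∧ CAlgX.minorIdeal A r = ⊤) := by
  exact H10890.main R n m r hrn A

end Groth.Agent.S10890
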