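import Groth.Statements.S10891
import Mathlib

set_option autoImplicit false
universe u
open CAlg

namespace Groth.Agent.S10891

namespace H10891
open MvPolynomial

variable (k : Type u) [Field k] (r a : ℕ) (ζ : k)

/-- the generator of the action -/
noncomputable def σ : MvPolynomial (Fin 2) k →ₐ[k] MvPolynomial (Fin 2) k :=
  MvPolynomial.aeval (fun i : Fin 2 => if i = 0 then MvPolynomial.C ζ⁻¹ * MvPolynomial.X 0
        else MvPolynomial.C (ζ⁻¹ ^ a) * (MvPolynomial.X 1 : MvPolynomial (Fin 2) k))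

lemma σ_X0 : σ k a ζ (X 0) = C ζ⁻¹ * X 0 := by
  simp [σ]

lemma σ_X1 : σ k a ζ (X 1) = C (ζ⁻¹ ^ a) * X 1 := by
  simp [σ]

lemma σ_pow (i j : ℕ) : σ k a ζ (X 0 ^ i * X 1 ^ j) = C (ζ⁻¹ ^ (i + a * j)) * (X 0 ^ i * X 1 ^ j) := by
  rw [map_mul, map_pow, map_pow, σ_X0, σ_X1, mul_pow, mul_pow, ← C_pow, ← C_pow, ← pow_mul,
    pow_add, C_mul]
  ring

lemma monomial_eq' (d : Fin 2 →₀ ℕ) (c : k) :
    monomial d c = C c * (X 0 ^ d 0 * X 1 ^ d 1) := by
  rw [monomial_eq, Finsupp.prod_fintype _ _ (fun i => pow_zero _), Fin.prod_univ_two]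

lemma σ_monomial (d : Fin 2 →₀ ℕ) (c : k) :
    σ k a ζ (monomial d c) = monomial d (c * ζ⁻¹ ^ (d 0 + a * d 1)) := by
  rw [monomial_eq', map_mul, σ_pow, monomial_eq', C_mul]
  have : σ k a ζ (C c) = C c := by simp [σ]
  rw [this]
  ring

lemma coeff_σ (p : MvPolynomial (Fin 2) k) (d : Fin 2 →₀ ℕ) :
    coeff d (σ k a ζ p) = coeff d p * ζ⁻¹ ^ (d 0 + a * d 1) := by
  induction p using MvPolynomial.induction_on' with
  | monomial e c =>
    rw [σ_monomial, coeff_monomial, coeff_monomial]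
    split_ifs with h
    · rw [h]
    · simp
  | add p q hp hq =>
    rw [map_add, coeff_add, coeff_add, hp, hq, add_mul]


/-- the generating set -/
def gens : Set (MvPolynomial (Fin 2) k) :=
  {q : MvPolynomial (Fin 2) k | ∃ i j : ℕ, i ≤ r ∧ j ≤ r ∧ ¬ (i = r ∧ j = r) ∧
        r ∣ i + a * j ∧ q = MvPolynomial.X 0 ^ i * MvPolynomial.X 1 ^ j}

lemma pow_mem (hr : 0 < r) (i j : ℕ) (h : r ∣ i + a * j) :
    (X 0 ^ i * X 1 ^ j : MvPolynomial (Fin 2) k) ∈ Algebra.adjoin k (gens k r a) := by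
  have h0 : (X 0 ^ r : MvPolynomial (Fin 2) k) ∈ Algebra.adjoin k (gens k r a) :=
    Algebra.subset_adjoin ⟨r, 0, le_rfl, Nat.zero_le _, fun h => hr.ne' h.2.symm, by simp, by simp⟩
  have h1 : (X 1 ^ r : MvPolynomial (Fin 2) k) ∈ Algebra.adjoin k (gens k r a) :=
    Algebra.subset_adjoin ⟨0, r, Nat.zero_le _, le_rfl, fun h => hr.ne h.1, by simp, by simp⟩
  have h2 : (X 0 ^ (i % r) * X 1 ^ (j % r) : MvPolynomial (Fin 2) k) ∈
      Algebra.adjoin k (gens k r a) := by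
    refine Algebra.subset_adjoin ⟨i % r, j % r, (Nat.mod_lt _ hr).le, (Nat.mod_lt _ hr).le,
      fun h => (Nat.mod_lt i hr).ne h.1, ?_, rfl⟩
    have e : i + a * j = (i % r + a * (j % r)) + r * (i / r + a * (j / r)) := by
      conv_lhs => rw [← Nat.div_add_mod i r, ← Nat.div_add_mod j r]
      ring
    rw [e] at h
    exact (Nat.dvd_add_left (Dvd.intro _ rfl)).mp h
  have e : (X 0 ^ i * X 1 ^ j : MvPolynomial (Fin 2) k) =
      (X 0 ^ r) ^ (i / r) * (X 1 ^ r) ^ (j / r) * (X 0 ^ (i % r) * X 1 ^ (j % r)) := by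
    conv_lhs => rw [← Nat.div_add_mod i r, ← Nat.div_add_mod j r]
    rw [pow_add, pow_add, pow_mul, pow_mul]
    ring
  rw [e]
  exact Subalgebra.mul_mem _ (Subalgebra.mul_mem _ (Subalgebra.pow_mem _ h0 _)
    (Subalgebra.pow_mem _ h1 _)) h2

theorem main (ha : 0 < a) (har : a < r) (hζ : IsPrimitiveRoot ζ r) (p : MvPolynomial (Fin 2) k) :
    σ k a ζ p = p ↔ p ∈ Algebra.adjoin k (gens k r a) := by
  have hr : 0 < r := by omega
  have hζ' : IsPrimitiveRoot ζ⁻¹ r := hζ.inv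
  constructor
  · intro h
    rw [p.as_sum]
    refine Subalgebra.sum_mem _ fun d hd => ?_
    rw [monomial_eq']
    refine Subalgebra.mul_mem _ (Subalgebra.algebraMap_mem _ _) ?_
    apply pow_mem k r a hr
    have hc := coeff_σ k a ζ p d
    rw [h] at hc
    have hne : coeff d p ≠ 0 := mem_support_iff.mp hd
    have : ζ⁻¹ ^ (d 0 + a * d 1) = 1 := by
      have := mul_left_cancel₀ hne (a := coeff d p) (b := 1) (c := ζ⁻¹ ^ (d 0 + a * d 1))
        (by rw [mul_one]; exact hc)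
      exact this.symm
    exact (hζ'.pow_eq_one_iff_dvd _).mp this
  · intro h
    have hle : Algebra.adjoin k (gens k r a) ≤ AlgHom.equalizer (σ k a ζ) (AlgHom.id k _) := by
      rw [Algebra.adjoin_le_iff]
      rintro _ ⟨i, j, -, -, -, hdvd, rfl⟩
      show σ k a ζ _ = _
      rw [σ_pow, (hζ'.pow_eq_one_iff_dvd _).mpr hdvd, C_1, one_mul]
      rfl
    exact hle h

end H10891

/-- Let k be a field containing a primitive r-th root of unity ζ and 0 < a < r. The cyclic group of r-th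
roots of unity acts on k[X, Y] through the generator X ↦ ζ⁻¹ X, Y ↦ ζ^(−a) Y, and the ring of
invariants of this action is generated as a k-algebra by the monomials X^i Y^j with 0 ≤ i, j ≤ r,
(i, j) ≠ (r, r) and i + a·j ≡ 0 (mod r). (The printed statement writes n for the order of the group,
which the surrounding section calls r.) -/
theorem result (k : Type u) [Field k] (r a : ℕ) (ha : 0 < a) (har : a < r)
    (ζ : k) (hζ : IsPrimitiveRoot ζ r) (p : MvPolynomial (Fin 2) k) :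
    MvPolynomial.aeval (fun i : Fin 2 => if i = 0 then MvPolynomial.C ζ⁻¹ * MvPolynomial.X 0
        else MvPolynomial.C (ζ⁻¹ ^ a) * (MvPolynomial.X 1 : MvPolynomial (Fin 2) k)) p = p ↔
      p ∈ Algebra.adjoin k {q : MvPolynomial (Fin 2) k | ∃ i j : ℕ, i ≤ r ∧ j ≤ r ∧ ¬ (i = r ∧ j = r) ∧
        r ∣ i + a * j ∧ q = MvPolynomial.X 0 ^ i * MvPolynomial.X 1 ^ j} := by
  exact H10891.main k r a ζ ha har hζ p

end Groth.Agent.S10891
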