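import Groth.Statements.S10898
import Mathlib

set_option autoImplicit false
universe u
open Polynomial
open WDiv

namespace Groth.Agent.S10898

open Polynomial

theorem comap_map_C' {A : Type*} [CommRing A] (q : Ideal A) :
    (q.map (C : A →+* A[X])).comap (C : A →+* A[X]) = q := by
  ext a
  rw [Ideal.mem_comap, Ideal.mem_map_C_iff]
  constructor
  · intro h
    simpa using h 0
  · intro h n
    rw [coeff_C]
    split_ifs
    · exact h
    · exact q.zero_mem

theorem height_one_poly (A : Type*) [CommRing A] [IsDomain A]
    (P : Ideal A[X]) [P.IsPrime] (hP : P.height = 1) :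
    P.comap (C : A →+* A[X]) = ⊥ ∨
      ((P.comap (C : A →+* A[X])).height = 1 ∧ P = (P.comap (C : A →+* A[X])).map C) := by
  by_cases h0 : P.comap (C : A →+* A[X]) = ⊥
  · exact Or.inl h0
  right
  set p := P.comap (C : A →+* A[X]) with hp
  have hpprime : p.IsPrime := Ideal.comap_isPrime _ _
  have hmapprime : (p.map (C : A →+* A[X])).IsPrime := Ideal.isPrime_map_C_of_isPrime
  have hle : p.map (C : A →+* A[X]) ≤ P := Ideal.map_comap_le
  have hne : p.map (C : A →+* A[X]) ≠ ⊥ := by
    intro h
    apply h0
    have := comap_map_C' p
    rw [h] at this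
    rw [← this]
    ext a
    simp
  have hPle : P.height ≤ ((1 : ℕ) : ℕ∞) := by rw [hP]; simp
  have hEq : P = p.map (C : A →+* A[X]) := by
    by_contra hneq
    have hlt : p.map (C : A →+* A[X]) < P := lt_of_le_of_ne hle (Ne.symm hneq)
    have := (Ideal.height_le_iff.1 hPle) _ hmapprime hlt
    have h0' : (p.map (C : A →+* A[X])).height = 0 := by
      simpa using this
    exact hne (Ideal.height_eq_zero_iff_eq_bot.1 h0')
  refine ⟨?_, hEq⟩
  apply le_antisymm
  · have : p.height ≤ ((1 : ℕ) : ℕ∞) := by
      rw [Ideal.height_le_iff]
      intro q hq hqp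
      have hq' : (q.map (C : A →+* A[X])).IsPrime := Ideal.isPrime_map_C_of_isPrime
      have hlt : q.map (C : A →+* A[X]) < P := by
        rw [hEq]
        refine lt_of_le_of_ne (Ideal.map_mono hqp.le) ?_
        intro he
        have := congrArg (Ideal.comap (C : A →+* A[X])) he
        rw [comap_map_C', comap_map_C'] at this
        exact hqp.ne this
      have := (Ideal.height_le_iff.1 hPle) _ hq' hlt
      have h0' : (q.map (C : A →+* A[X])).height = 0 := by
        simpa using this
      have hqbot : q.map (C : A →+* A[X]) = ⊥ := Ideal.height_eq_zero_iff_eq_bot.1 h0'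
      have hq0 : q = ⊥ := by
        have := comap_map_C' q
        rw [hqbot] at this
        rw [← this]
        ext a
        simp
      rw [hq0, Ideal.height_bot]
      simp
    simpa using this
  · rw [Order.one_le_iff_ne_zero]
    intro h
    exact h0 (Ideal.height_eq_zero_iff_eq_bot.1 h)

/-- Let A be a Noetherian integral domain and P a prime ideal of height 1 of the polynomial ring A[X].
Then either P meets A in 0 only, or its contraction p = P ∩ A is a prime of height 1 of A and P is
the extension p·A[X]. (The published lemma also assumes A regular in codimension 1; that hypothesis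
is not used for this assertion.) -/
theorem result (A : Type u) [CommRing A] [IsDomain A]
    [IsNoetherianRing A] (P : Ideal A[X]) [P.IsPrime] (hP : P.height = 1) :
    P.comap (C : A →+* A[X]) = ⊥ ∨
      ((P.comap (C : A →+* A[X])).height = 1 ∧ P = (P.comap (C : A →+* A[X])).map C) := by
  exact height_one_poly A P hP

end Groth.Agent.S10898
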