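import Groth.Statements.S10899
import Mathlib
import Groth.Agent.S10898

set_option autoImplicit false
universe u
open Polynomial
open WDiv

namespace Groth.Agent.S10899

open Polynomial IsLocalRing

/-- general principle: if the max ideal of `Localization.AtPrime P` is the image of a principal
ideal under a ring hom then it is principal. -/
theorem dvr_of_principal {B : Type*} [CommRing B] [IsDomain B] [IsNoetherianRing B]
    (P : Ideal B) [P.IsPrime] (hP0 : P ≠ ⊥)
    (hprin : (maximalIdeal (Localization.AtPrime P)).IsPrincipal) :
    IsDiscreteValuationRing (Localization.AtPrime P) := by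
  have hnf : ¬ IsField (Localization.AtPrime P) := by
    rw [isField_iff_maximalIdeal_eq]
    intro h
    obtain ⟨x, hxP, hx0⟩ := Submodule.exists_mem_ne_zero_of_ne_bot hP0
    have hx : algebraMap B (Localization.AtPrime P) x ∈ maximalIdeal (Localization.AtPrime P) := by
      rw [← Localization.AtPrime.map_eq_maximalIdeal]
      exact Ideal.mem_map_of_mem _ hxP
    rw [h, Ideal.mem_bot] at hx
    have hinj : Function.Injective (algebraMap B (Localization.AtPrime P)) :=
      IsLocalization.injective _ P.primeCompl_le_nonZeroDivisors
    exact hx0 (hinj (by rw [hx, map_zero]))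
  exact ((IsDiscreteValuationRing.TFAE (Localization.AtPrime P) hnf).out 0 4).2 hprin

theorem principal_of_factor {B B' : Type*} [CommRing B] [CommRing B']
    (P : Ideal B) [P.IsPrime] (φ : B →+* B') (ψ : B' →+* Localization.AtPrime P)
    (hψ : ψ.comp φ = algebraMap B (Localization.AtPrime P))
    (hprin : (P.map φ).IsPrincipal) :
    (maximalIdeal (Localization.AtPrime P)).IsPrincipal := by
  rw [← Localization.AtPrime.map_eq_maximalIdeal, ← hψ, ← Ideal.map_map]
  obtain ⟨g, hg⟩ := hprin
  rw [hg]
  refine ⟨ψ g, ?_⟩
  rw [Ideal.submodule_span_eq, Ideal.submodule_span_eq, Ideal.map_span, Set.image_singleton]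

theorem key_poly {A : Type*} [CommRing A] (P : Ideal A[X]) [P.IsPrime]
    (A' : Type*) [CommRing A'] [Algebra A A'] (M : Submonoid A) [IsLocalization M A']
    (hM : ∀ y ∈ M, C y ∉ P)
    (hprin : (P.map (mapRingHom (algebraMap A A'))).IsPrincipal) :
    (maximalIdeal (Localization.AtPrime P)).IsPrincipal := by
  let L := Localization.AtPrime P
  let g : A →+* L := (algebraMap A[X] L).comp C
  have hg : ∀ y : M, IsUnit (g y) := fun y =>
    IsLocalization.map_units L (⟨C (y : A), hM y y.2⟩ : P.primeCompl)
  let ψ₀ : A' →+* L := IsLocalization.lift (M := M) hg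
  let ψ : A'[X] →+* L := eval₂RingHom ψ₀ (algebraMap A[X] L X)
  refine principal_of_factor P (mapRingHom (algebraMap A A')) ψ ?_ hprin
  apply Polynomial.ringHom_ext
  · intro a
    simp only [RingHom.comp_apply, coe_mapRingHom, map_C, ψ, coe_eval₂RingHom, eval₂_C, ψ₀,
      IsLocalization.lift_eq, g]
    rfl
  · simp only [RingHom.comp_apply, coe_mapRingHom, map_X, ψ, coe_eval₂RingHom, eval₂_X]
    rfl

theorem poly_R1 (A : Type*) [CommRing A]
    [IsDomain A] [IsNoetherianRing A]
    (hR1 : ∀ (p : Ideal A) [p.IsPrime], p.height = 1 → IsDiscreteValuationRing (Localization.AtPrime p))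
    (P : Ideal A[X]) [P.IsPrime] (hP : P.height = 1)
    (hdich : P.comap (C : A →+* A[X]) = ⊥ ∨
      ((P.comap (C : A →+* A[X])).height = 1 ∧ P = (P.comap (C : A →+* A[X])).map C)) :
    IsDiscreteValuationRing (Localization.AtPrime P) := by
  have hP0 : P ≠ ⊥ := Ideal.ne_bot_of_height_eq_one hP
  apply dvr_of_principal P hP0
  rcases hdich with h0 | ⟨hp1, hPeq⟩
  · refine key_poly P (FractionRing A) (nonZeroDivisors A) ?_ (IsPrincipalIdealRing.principal _)
    intro y hy hyP
    have : y ∈ P.comap (C : A →+* A[X]) := hyP
    rw [h0, Ideal.mem_bot] at this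
    exact nonZeroDivisors.ne_zero hy this
  · set p := P.comap (C : A →+* A[X]) with hp
    have hpprime : p.IsPrime := Ideal.comap_isPrime _ _
    have hdvr := hR1 p hp1
    refine key_poly P (Localization.AtPrime p) p.primeCompl ?_ ?_
    · intro y hy hyP
      exact hy hyP
    · have h1 : P.map (mapRingHom (algebraMap A (Localization.AtPrime p))) =
          (maximalIdeal (Localization.AtPrime p)).map C := by
        conv_lhs => rw [hPeq]
        rw [Ideal.map_map, ← Localization.AtPrime.map_eq_maximalIdeal, Ideal.map_map]
        congr 1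
        ext a
        simp
      rw [h1]
      obtain ⟨ϖ, hϖ⟩ := (IsPrincipalIdealRing.principal (maximalIdeal (Localization.AtPrime p)))
      rw [hϖ]
      refine ⟨C ϖ, ?_⟩
      rw [Ideal.submodule_span_eq, Ideal.submodule_span_eq, Ideal.map_span, Set.image_singleton]

/-- Let A be a Noetherian integral domain which is regular in codimension 1, i.e. whose localization at
every prime ideal of height 1 is a discrete valuation ring. Then the polynomial ring A[X] is regular
in codimension 1 as well: its localization at every prime ideal of height 1 is a discrete valuation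
ring. -/
theorem result (A : Type u) [CommRing A]
    [IsDomain A] [IsNoetherianRing A]
    (hR1 : ∀ (p : Ideal A) [p.IsPrime], p.height = 1 → IsDiscreteValuationRing (Localization.AtPrime p))
    (P : Ideal A[X]) [P.IsPrime] (hP : P.height = 1) :
    IsDiscreteValuationRing (Localization.AtPrime P) := by
  exact poly_R1 A hR1 P hP (Groth.Agent.S10898.result A P hP)

end Groth.Agent.S10899
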