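import Groth.Statements.S10902
import Mathlib
import Groth.Agent.Lib.Helper2.CartierFinal
import Groth.Agent.Lib.Helper4.DimFT1
import Groth.Agent.Lib.Helper4.Fitting9
-- import your own Groth.Agent.* helpers here

set_option autoImplicit false
universe u
open TensorProduct
open SmVar

namespace Groth.Agent.S10902

open TensorProduct
namespace Aux

open Groth.Agent.Helper4.Fitting

/-- Upper semicontinuity of fibre rank via Fitting ideals. -/
theorem finrank_fibre_mono {A : Type u} [CommRing A] (M : Type u) [AddCommGroup M] [Module A M]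
    [Module.Finite A M] (q P : Ideal A) [q.IsPrime] [P.IsPrime] (hqP : q ≤ P) :
    Module.finrank q.ResidueField (q.ResidueField ⊗[A] M) ≤
      Module.finrank P.ResidueField (P.ResidueField ⊗[A] M) := by
  set d := Module.finrank P.ResidueField (P.ResidueField ⊗[A] M) with hd
  have h1 : ¬ Fitt.ideal A M d ≤ P := (not_le_iff_finrank d P).2 le_rfl
  have h2 : ¬ Fitt.ideal A M d ≤ q := fun h => h1 (h.trans hqP)
  exact (not_le_iff_finrank d q).1 h2

/-- The base change map to the Kähler differentials of the residue field is surjective. -/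
theorem mapBaseChange_residueField_surjective (k : Type u) [Field k] (A : Type u) [CommRing A]
    [Algebra k A] (q : Ideal A) [q.IsPrime] :
    Function.Surjective (KaehlerDifferential.mapBaseChange k A q.ResidueField) := by
  rw [← LinearMap.range_eq_top, eq_top_iff, ← KaehlerDifferential.span_range_derivation,
    Submodule.span_le]
  rintro _ ⟨x, rfl⟩
  -- x = ā / s̄
  obtain ⟨y, rfl⟩ := IsLocalRing.residue_surjective (R := Localization.AtPrime q) x
  obtain ⟨a, s, rfl⟩ := IsLocalization.exists_mk'_eq q.primeCompl y
  set K := q.ResidueField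
  set x : K := IsLocalRing.residue _ (IsLocalization.mk' (Localization.AtPrime q) a s) with hx
  have hs : algebraMap A K (s : A) * x = algebraMap A K a := by
    rw [hx, IsScalarTower.algebraMap_apply A (Localization.AtPrime q) K,
      IsScalarTower.algebraMap_apply A (Localization.AtPrime q) K]
    change IsLocalRing.residue _ _ * IsLocalRing.residue _ _ = IsLocalRing.residue _ _
    rw [← map_mul, mul_comm, IsLocalization.mk'_spec]
  have hs0 : algebraMap A K (s : A) ≠ 0 := by
    intro h0
    rw [Ideal.algebraMap_residueField_eq_zero] at h0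
    exact s.2 h0
  have hD : ∀ b : A, KaehlerDifferential.D k K (algebraMap A K b) ∈
      LinearMap.range (KaehlerDifferential.mapBaseChange k A K) := by
    intro b
    refine ⟨1 ⊗ₜ KaehlerDifferential.D k A b, ?_⟩
    simp [KaehlerDifferential.mapBaseChange_tmul]
  have h1 := congrArg (KaehlerDifferential.D k K) hs
  rw [Derivation.leibniz] at h1
  -- s̄ • D x = D ā - x • D s̄
  have h2 : KaehlerDifferential.D k K x =
      (algebraMap A K (s : A))⁻¹ • (KaehlerDifferential.D k K (algebraMap A K a) -
        x • KaehlerDifferential.D k K (algebraMap A K (s : A))) := by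
    rw [← h1, add_sub_cancel_right, smul_smul, inv_mul_cancel₀ hs0, one_smul]
  rw [SetLike.mem_coe, h2]
  exact Submodule.smul_mem _ _ (Submodule.sub_mem _ (hD a) (Submodule.smul_mem _ _ (hD _)))

theorem main (k : Type u) [Field k]
    (A : Type u) [CommRing A] [Algebra k A] [Algebra.FiniteType k A] (n : ℕ)
    (P : Ideal A) [P.IsPrime] (q : Ideal A) [q.IsPrime] (hqP : q ≤ P)
    (hq : (n : WithBot ℕ∞) ≤ ringKrullDim (A ⧸ q)) :
    n ≤ Module.finrank P.ResidueField (P.ResidueField ⊗[A] (Ω[A⁄k])) := by
  set K := q.ResidueField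
  -- step 1: semicontinuity
  have h1 : Module.finrank K (K ⊗[A] (Ω[A⁄k])) ≤
      Module.finrank P.ResidueField (P.ResidueField ⊗[A] (Ω[A⁄k])) :=
    finrank_fibre_mono (Ω[A⁄k]) q P hqP
  -- step 2: surjection onto Ω[K/k]
  have h2 : Module.finrank K (Ω[K⁄k]) ≤ Module.finrank K (K ⊗[A] (Ω[A⁄k])) :=
    LinearMap.finrank_le_finrank_of_surjective (mapBaseChange_residueField_surjective k A q)
  -- step 3: Cartier
  haveI : Algebra.EssFiniteType k K := Algebra.EssFiniteType.comp k A K
  obtain ⟨-, -, h3⟩ := Groth.Agent.Helper2.Cartier.cartier_eq k K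
  -- step 4: trdeg = dim
  haveI : Algebra.FiniteType k (A ⧸ q) := inferInstance
  obtain ⟨m, hm1, hm2⟩ := Groth.Agent.Lib.Helper4.DimFT1.exists_dim_eq_trdeg k (A ⧸ q)
  have h4 : Algebra.trdeg k K = Algebra.trdeg k (A ⧸ q) :=
    Groth.Agent.Lib.Helper4.DimFT1.trdeg_fractionRing_eq k (A ⧸ q) K
  rw [h4, hm1, Cardinal.toNat_natCast] at h3
  rw [hm2] at hq
  have h5 : n ≤ m := by exact_mod_cast hq
  omega

end Aux

/-- Let k be a field and A a k-algebra of finite type (X = Spec A a k-scheme of finite type), P a prime
ideal of A, and suppose P contains a prime q with dim A/q ≥ n, i.e. the point P lies on an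
irreducible component of X of dimension at least n. Then the fibre at P of the sheaf of
differentials of X over k has dimension at least n over the residue field: dim_{κ(P)} (κ(P) ⊗_A
Ω_{A/k}) ≥ n. (The published statement asks every irreducible component of X to have dimension ≥ n
and concludes this at every point.) -/
theorem result (k : Type u) [Field k]
    (A : Type u) [CommRing A] [Algebra k A] [Algebra.FiniteType k A] (n : ℕ)
    (P : Ideal A) [P.IsPrime] (q : Ideal A) [q.IsPrime] (hqP : q ≤ P)
    (hq : (n : WithBot ℕ∞) ≤ ringKrullDim (A ⧸ q)) :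
    n ≤ Module.finrank P.ResidueField (P.ResidueField ⊗[A] (Ω[A⁄k])) := by
  exact Aux.main k A n P q hqP hq

end Groth.Agent.S10902
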