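import Groth.Statements.S10903
import Groth.Agent.Lib.Helper2.CM.Unmixed
import Groth.Agent.Lib.Helper8.CplMap3
import Groth.Agent.Lib.Helper4.DimFT1


set_option autoImplicit false
universe u
open CInt

namespace Groth.Agent.S10903

/-- Let k be a field, S = k[x_0, …, x_n], and f_1, …, f_r with r ≤ n homogeneous polynomials of positive
degrees whose ideal J = (f_1, …, f_r) has height r — the subscheme of P^n_k cut out by the
hypersurfaces f_i = 0 has codimension r, an ideal-theoretic complete intersection. Then J is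
saturated with respect to the irrelevant ideal (x_0, …, x_n): an element g of S such that, for each
i, x_i^m g ∈ J for some m, already lies in J. Hence J is the full homogeneous ideal of that
subscheme (a global complete intersection). -/
theorem result (k : Type u) [Field k] (n r : ℕ)
    (hr : r ≤ n) (f : Fin r → MvPolynomial (Fin (n + 1)) k) (d : Fin r → ℕ)
    (hf : ∀ i, (f i).IsHomogeneous (d i)) (hd : ∀ i, 0 < d i)
    (hJ : (Ideal.span (Set.range f)).height = r) (g : MvPolynomial (Fin (n + 1)) k)
    (hg : ∀ i : Fin (n + 1), ∃ m : ℕ, MvPolynomial.X i ^ m * g ∈ Ideal.span (Set.range f)) :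
    g ∈ Ideal.span (Set.range f) := by
  classical
  have hCM : LocCoh.IsCohenMacaulayRing (MvPolynomial (Fin (n + 1)) k) :=
    Groth.Agent.Helper8.CplMap.isCohenMacaulayRing_of_isRegularRing _
  by_contra hgJ
  have hne : (Ideal.Quotient.mk (Ideal.span (Set.range f)) g :
      MvPolynomial (Fin (n + 1)) k ⧸ Ideal.span (Set.range f)) ≠ 0 := by
    rwa [Ne, Ideal.Quotient.eq_zero_iff_mem]
  obtain ⟨P, hPass, hle⟩ :=
    exists_le_isAssociatedPrime_of_isNoetherianRing (MvPolynomial (Fin (n + 1)) k)
      (Ideal.Quotient.mk (Ideal.span (Set.range f)) g :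
        MvPolynomial (Fin (n + 1)) k ⧸ Ideal.span (Set.range f)) hne
  haveI hPp : P.IsPrime := hPass.isPrime
  have hX : ∀ i : Fin (n + 1), (MvPolynomial.X i : MvPolynomial (Fin (n + 1)) k) ∈ P := by
    intro i
    obtain ⟨m, hm⟩ := hg i
    have h1 : (MvPolynomial.X i : MvPolynomial (Fin (n + 1)) k) ^ m ∈
        (⊥ : Submodule (MvPolynomial (Fin (n + 1)) k)
          (MvPolynomial (Fin (n + 1)) k ⧸ Ideal.span (Set.range f))).colon
        {(Ideal.Quotient.mk (Ideal.span (Set.range f)) g :
          MvPolynomial (Fin (n + 1)) k ⧸ Ideal.span (Set.range f))} := by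
      rw [Submodule.mem_colon_singleton, Submodule.mem_bot, ← Ideal.Quotient.mk_eq_mk,
        ← Submodule.Quotient.mk_smul, Ideal.Quotient.mk_eq_mk, Ideal.Quotient.eq_zero_iff_mem,
        smul_eq_mul]
      exact hm
    exact hPp.mem_of_pow_mem m (hle h1)
  -- the irrelevant ideal is contained in `P`
  have hker : RingHom.ker (MvPolynomial.constantCoeff (R := k) (σ := Fin (n + 1))) ≤ P := by
    intro p hp
    rw [RingHom.mem_ker] at hp
    have h1 : p ∈ MvPolynomial.idealOfVars (Fin (n + 1)) k ^ 1 := by
      rw [MvPolynomial.mem_pow_idealOfVars_iff']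
      intro x hx
      have hx0 : x = 0 := by
        have : Finsupp.degree x = 0 := by omega
        exact (Finsupp.degree_eq_zero_iff x).mp this
      rw [hx0]
      exact hp
    rw [pow_one] at h1
    exact (Ideal.span_le.mpr (by rintro _ ⟨i, rfl⟩; exact hX i)) h1
  have hmax : (RingHom.ker (MvPolynomial.constantCoeff (R := k) (σ := Fin (n + 1)))).IsMaximal :=
    RingHom.ker_isMaximal_of_surjective _
      (fun c => ⟨MvPolynomial.C c, MvPolynomial.constantCoeff_C _ c⟩)
  have hPeq : RingHom.ker (MvPolynomial.constantCoeff (R := k) (σ := Fin (n + 1))) = P :=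
    hmax.eq_of_le hPp.ne_top hker
  have hPmax : P.IsMaximal := hPeq ▸ hmax
  have h1 : P.height = ((n + 1 : ℕ) : ℕ∞) :=
    Groth.Agent.Lib.Helper4.DimFT1.mvPolynomial_height_of_isMaximal k (n + 1) P
  have h2 : P.height = (r : ℕ∞) :=
    Groth.Agent.Helper2.CM.height_eq_of_mem_associatedPrimes_span_range hCM f
      (by rw [hJ]) P hPass
  rw [h1] at h2
  have h3 : n + 1 = r := by exact_mod_cast h2
  omega

end Groth.Agent.S10903
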