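import Groth.Statements.S10904
import Mathlib

set_option autoImplicit false
universe u
open Polynomial
open ProjDeg

namespace Groth.Agent.S10904

namespace H10904

section Poly
open Polynomial

/-- the finite difference `P(X) - P(X - d)` -/
noncomputable def Δ (d : ℚ) (P : ℚ[X]) : ℚ[X] := P - taylor (-d) P

lemma Δ_eval (d : ℚ) (P : ℚ[X]) (x : ℚ) : (Δ d P).eval x = P.eval x - P.eval (x - d) := by
  rw [Δ, eval_sub, taylor_eval, sub_eq_add_neg x d]

lemma Δ_coeff_of_le (d : ℚ) (P : ℚ[X]) (j : ℕ) (hj : P.natDegree ≤ j) : (Δ d P).coeff j = 0 := by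
  rw [Δ, coeff_sub, taylor_coeff]
  rcases hj.eq_or_lt with h | h
  · have h1 : (hasseDeriv j P).natDegree ≤ 0 := by
      have := natDegree_hasseDeriv_le P j
      omega
    rw [eq_C_of_natDegree_le_zero h1, eval_C, hasseDeriv_coeff]
    simp
  · rw [hasseDeriv_eq_zero_of_lt_natDegree P j h, coeff_eq_zero_of_natDegree_lt h]
    simp

lemma Δ_coeff_pred (d : ℚ) (P : ℚ[X]) (t : ℕ) (ht : P.natDegree = t + 1) :
    (Δ d P).coeff t = (t + 1) * d * P.leadingCoeff := by
  rw [Δ, coeff_sub, taylor_coeff]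
  have h1 : (hasseDeriv t P).natDegree ≤ 1 := by
    have := natDegree_hasseDeriv_le P t
    omega
  rw [eq_X_add_C_of_natDegree_le_one h1, eval_add, eval_mul, eval_C, eval_X, eval_C,
    hasseDeriv_coeff, hasseDeriv_coeff]
  simp only [zero_add, Nat.choose_self, Nat.cast_one, one_mul]
  rw [leadingCoeff, ht, add_comm 1 t, Nat.choose_succ_self_right]
  push_cast
  ring

lemma Δ_natDegree (d : ℚ) (hd : d ≠ 0) (P : ℚ[X]) (t : ℕ) (ht : P.natDegree = t + 1) :
    (Δ d P).natDegree = t := by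
  have hP0 : P ≠ 0 := by
    rintro rfl
    simp at ht
  apply le_antisymm
  · rw [natDegree_le_iff_coeff_eq_zero]
    intro j hj
    exact Δ_coeff_of_le d P j (by omega)
  · apply le_natDegree_of_ne_zero
    rw [Δ_coeff_pred d P t ht]
    have : P.leadingCoeff ≠ 0 := leadingCoeff_ne_zero.mpr hP0
    have h2 : ((t : ℚ) + 1) ≠ 0 := by positivity
    exact mul_ne_zero (mul_ne_zero h2 hd) this

lemma Δ_leadingCoeff (d : ℚ) (hd : d ≠ 0) (P : ℚ[X]) (t : ℕ) (ht : P.natDegree = t + 1) :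
    (Δ d P).leadingCoeff = (t + 1) * d * P.leadingCoeff := by
  rw [leadingCoeff, Δ_natDegree d hd P t ht, Δ_coeff_pred d P t ht]

/-- two polynomials agreeing at all large naturals are equal -/
lemma eq_of_eventually_eq (Q T : ℚ[X]) (M : ℕ) (h : ∀ m : ℕ, M ≤ m → Q.eval (m : ℚ) = T.eval (m : ℚ)) :
    Q = T := by
  apply Polynomial.eq_of_infinite_eval_eq
  apply Set.Infinite.mono (s := Set.range (fun m : ℕ => ((M + m : ℕ) : ℚ)))
  · rintro _ ⟨m, rfl⟩
    exact h (M + m) (Nat.le_add_right _ _)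
  · apply Set.infinite_range_of_injective
    intro a b hab
    have hab' : ((M + a : ℕ) : ℚ) = ((M + b : ℕ) : ℚ) := hab
    have : (M + a : ℕ) = M + b := by exact_mod_cast hab'
    omega


end Poly

open MvPolynomial

attribute [local instance] MvPolynomial.gradedAlgebra

variable (k : Type u) [Field k] (n : ℕ)

/-- degree `m` part -/
noncomputable abbrev Rm (m : ℕ) : Submodule k (MvPolynomial (Fin (n + 1)) k) :=
  homogeneousSubmodule (Fin (n + 1)) k m

instance (m : ℕ) : Module.Finite k (Rm k n m) :=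
  Module.Finite.of_fg (homogeneousSubmodule_fg (σ := Fin (n + 1)) (R := k) m)

variable (I : Ideal (MvPolynomial (Fin (n + 1)) k)) (f : MvPolynomial (Fin (n + 1)) k) (d : ℕ)

/-- `I ∩ R_m` -/
noncomputable abbrev A (m : ℕ) : Submodule k (MvPolynomial (Fin (n + 1)) k) :=
  Submodule.restrictScalars k I ⊓ Rm k n m
/-- `f R_m` -/
noncomputable abbrev F (m : ℕ) : Submodule k (MvPolynomial (Fin (n + 1)) k) :=
  Submodule.map (LinearMap.mulLeft k f) (Rm k n m)

instance (m : ℕ) : Module.Finite k (A k n I m) :=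
  Submodule.finiteDimensional_of_le (inf_le_right : A k n I m ≤ Rm k n m)

lemma finrank_map_mulLeft (hf0 : f ≠ 0) (N : Submodule k (MvPolynomial (Fin (n + 1)) k)) :
    Module.finrank k (Submodule.map (LinearMap.mulLeft k f) N) = Module.finrank k N := by
  have hinj : Function.Injective (LinearMap.mulLeft k f) := fun a b h => mul_left_cancel₀ hf0 h
  exact (Submodule.equivMapOfInjective _ hinj N).finrank_eq.symm


variable {k n I f d}

lemma mem_F_iff {m : ℕ} {x : MvPolynomial (Fin (n + 1)) k} :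
    x ∈ F k n f m ↔ ∃ q, q.IsHomogeneous m ∧ f * q = x := by
  constructor
  · rintro ⟨q, hq, rfl⟩
    exact ⟨q, hq, rfl⟩
  · rintro ⟨q, hq, rfl⟩
    exact ⟨q, hq, rfl⟩

/-- (a) -/
lemma B_eq (hIh : I.IsHomogeneous (CohB1.polyGrading n k)) (hf : f.IsHomogeneous d) (m : ℕ) :
    Submodule.restrictScalars k (I ⊔ Ideal.span {f}) ⊓ Rm k n (d + m) =
      A k n I (d + m) ⊔ F k n f m := by
  apply le_antisymm
  · rintro x ⟨hxI, hxm⟩
    have hxI' : x ∈ I ⊔ Ideal.span {f} := hxI
    rw [Submodule.mem_sup] at hxI'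
    obtain ⟨i, hi, y, hy, rfl⟩ := hxI'
    rw [Ideal.mem_span_singleton'] at hy
    obtain ⟨q, rfl⟩ := hy
    have h3 : (DirectSum.decompose (homogeneousSubmodule (Fin (n + 1)) k) (i + q * f) (d + m) : _) =
        i + q * f := DirectSum.decompose_of_mem_same _ hxm
    have h1 := DirectSum.coe_decompose_mul_of_left_mem_of_le
      (𝒜 := homogeneousSubmodule (Fin (n + 1)) k)
      (a := f) (b := q) (i := d) (n := d + m) hf (Nat.le_add_right d m)
    rw [Nat.add_sub_cancel_left] at h1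
    rw [← h3, DirectSum.decompose_add, DirectSum.add_apply, Submodule.coe_add, mul_comm q f, h1]
    refine Submodule.add_mem_sup ⟨?_, ?_⟩ ?_
    · exact hIh (d + m) hi
    · exact (DirectSum.decompose (homogeneousSubmodule (Fin (n + 1)) k) i (d + m)).2
    · exact mem_F_iff.mpr ⟨_, (DirectSum.decompose (homogeneousSubmodule (Fin (n + 1)) k) q m).2, rfl⟩
  · apply sup_le
    · rintro x ⟨hxI, hxm⟩
      exact ⟨Ideal.mem_sup_left hxI, hxm⟩
    · intro x hx
      obtain ⟨q, hq, rfl⟩ := mem_F_iff.mp hx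
      refine ⟨Ideal.mem_sup_right (Ideal.mul_mem_right _ _ (Ideal.subset_span rfl)), hf.mul hq⟩

/-- (b) -/
lemma A_inf_F [I.IsPrime] (hf : f.IsHomogeneous d) (hfI : f ∉ I) (m : ℕ) :
    A k n I (d + m) ⊓ F k n f m = Submodule.map (LinearMap.mulLeft k f) (A k n I m) := by
  apply le_antisymm
  · rintro x ⟨⟨hxI, -⟩, hxF⟩
    obtain ⟨q, hq, rfl⟩ := mem_F_iff.mp hxF
    have hqI : q ∈ I := (Ideal.IsPrime.mem_or_mem ‹_› hxI).resolve_left hfI
    exact ⟨q, ⟨hqI, hq⟩, rfl⟩
  · rintro x ⟨q, ⟨hqI, hq⟩, rfl⟩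
    exact ⟨⟨Ideal.mul_mem_left _ _ hqI, hf.mul hq⟩, mem_F_iff.mpr ⟨q, hq, rfl⟩⟩

lemma finrank_B [I.IsPrime] (hIh : I.IsHomogeneous (CohB1.polyGrading n k))
    (hf : f.IsHomogeneous d) (hfI : f ∉ I) (m : ℕ) :
    Module.finrank k ↥(Submodule.restrictScalars k (I ⊔ Ideal.span {f}) ⊓ Rm k n (d + m)) +
      Module.finrank k (A k n I m) =
      Module.finrank k (A k n I (d + m)) + Module.finrank k (Rm k n m) := by
  have hf0 : f ≠ 0 := fun h => hfI (h ▸ I.zero_mem)
  rw [B_eq hIh hf m]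
  have : Module.Finite k (F k n f m) := by
    unfold F; infer_instance
  have h := Submodule.finrank_sup_add_finrank_inf_eq (A k n I (d + m)) (F k n f m)
  rw [A_inf_F hf hfI m, finrank_map_mulLeft k n f hf0, finrank_map_mulLeft k n f hf0] at h
  exact h


theorem main (k : Type u) [Field k] (n : ℕ)
    (I : Ideal (MvPolynomial (Fin (n + 1)) k)) (hIh : I.IsHomogeneous (CohB1.polyGrading n k)) [I.IsPrime]
    (f : MvPolynomial (Fin (n + 1)) k) (d : ℕ) (hd : 0 < d) (hf : f.IsHomogeneous d) (hfI : f ∉ I)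
    (P Q : Polynomial ℚ)
    (hP : ∃ m₀ : ℕ, ∀ m : ℕ, m₀ ≤ m → P.eval (m : ℚ) =
      (Module.finrank k ↥(CohB1.polyGrading n k m) : ℚ) -
        Module.finrank k ↥(Submodule.restrictScalars k I ⊓ CohB1.polyGrading n k m))
    (hQ : ∃ m₀ : ℕ, ∀ m : ℕ, m₀ ≤ m → Q.eval (m : ℚ) =
      (Module.finrank k ↥(CohB1.polyGrading n k m) : ℚ) -
        Module.finrank k ↥(Submodule.restrictScalars k (I ⊔ Ideal.span {f}) ⊓ CohB1.polyGrading n k m))
    (hdim : 1 ≤ P.natDegree) :
    Q.natDegree + 1 = P.natDegree ∧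
      (Q.natDegree.factorial : ℚ) * Q.leadingCoeff =
        d * ((P.natDegree.factorial : ℚ) * P.leadingCoeff) := by
  obtain ⟨m₀, hP⟩ := hP
  obtain ⟨m₁, hQ⟩ := hQ
  obtain ⟨t, ht⟩ : ∃ t, P.natDegree = t + 1 := ⟨P.natDegree - 1, by omega⟩
  have hdq : (d : ℚ) ≠ 0 := by exact_mod_cast hd.ne'
  have hQΔ : Q = Δ (d : ℚ) P := by
    apply eq_of_eventually_eq Q (Δ (d : ℚ) P) (d + max m₀ m₁)
    intro M hM
    obtain ⟨m, rfl⟩ : ∃ m, M = d + m := ⟨M - d, by omega⟩
    have hm0 : m₀ ≤ m := by have := le_max_left m₀ m₁; omega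
    have hm1 : m₁ ≤ m := by have := le_max_right m₀ m₁; omega
    rw [Δ_eval, hQ (d + m) (by omega), hP (d + m) (by omega)]
    have e : ((d + m : ℕ) : ℚ) - (d : ℚ) = (m : ℚ) := by push_cast; ring
    rw [e, hP m hm0]
    have hB := finrank_B (k := k) (n := n) (I := I) (f := f) (d := d) hIh hf hfI m
    have hB' : (Module.finrank k ↥(Submodule.restrictScalars k (I ⊔ Ideal.span {f}) ⊓
        CohB1.polyGrading n k (d + m)) : ℚ) +
        Module.finrank k ↥(Submodule.restrictScalars k I ⊓ CohB1.polyGrading n k m) =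
        Module.finrank k ↥(Submodule.restrictScalars k I ⊓ CohB1.polyGrading n k (d + m)) +
        Module.finrank k ↥(CohB1.polyGrading n k m) := by
      exact_mod_cast hB
    linarith
  subst hQΔ
  rw [Δ_natDegree _ hdq P t ht, Δ_leadingCoeff _ hdq P t ht, ht]
  refine ⟨rfl, ?_⟩
  rw [Nat.factorial_succ]
  push_cast
  ring

end H10904

/-- Let k be a field, R = k[X_0, …, X_n] graded by degree, I a homogeneous prime ideal of R, f a
homogeneous element of degree d ≥ 1 not in I, and I' = I + (f). Let P be the Hilbert polynomial of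
R/I and Q that of R/I': rational polynomials whose value at every large integer m is the k-dimension
of the degree-m piece, i.e. dim R_m − dim (I ∩ R_m). Assume P has degree at least 1, i.e. the
projective variety V(I) ⊆ P^n_k has dimension ≥ 1. Then Q has degree deg P − 1, and the degrees of
the projective schemes, (degree of the Hilbert polynomial)! times its leading coefficient, satisfy
deg V(I') = d · deg V(I). (The published statement has no dimension hypothesis; for V(I) a single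
point the left side is 0 and the right side is d · deg V(I) ≠ 0, and the printed proof uses dim
V(I') = dim V(I) − 1.) -/
theorem result (k : Type u) [Field k] (n : ℕ)
    (I : Ideal (MvPolynomial (Fin (n + 1)) k)) (hIh : I.IsHomogeneous (CohB1.polyGrading n k)) [I.IsPrime]
    (f : MvPolynomial (Fin (n + 1)) k) (d : ℕ) (hd : 0 < d) (hf : f.IsHomogeneous d) (hfI : f ∉ I)
    (P Q : ℚ[X])
    (hP : ∃ m₀ : ℕ, ∀ m : ℕ, m₀ ≤ m → P.eval (m : ℚ) =
      (Module.finrank k ↥(CohB1.polyGrading n k m) : ℚ) -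
        Module.finrank k ↥(Submodule.restrictScalars k I ⊓ CohB1.polyGrading n k m))
    (hQ : ∃ m₀ : ℕ, ∀ m : ℕ, m₀ ≤ m → Q.eval (m : ℚ) =
      (Module.finrank k ↥(CohB1.polyGrading n k m) : ℚ) -
        Module.finrank k ↥(Submodule.restrictScalars k (I ⊔ Ideal.span {f}) ⊓ CohB1.polyGrading n k m))
    (hdim : 1 ≤ P.natDegree) :
    Q.natDegree + 1 = P.natDegree ∧
      (Q.natDegree.factorial : ℚ) * Q.leadingCoeff =
        d * ((P.natDegree.factorial : ℚ) * P.leadingCoeff) := by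
  exact H10904.main k n I hIh f d hd hf hfI P Q hP hQ hdim

end Groth.Agent.S10904
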