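import Groth.Statements.S10909
import Mathlib
import Groth.Agent.Lib.Helper4.DimFT1
import Groth.Agent.Lib.Helper4.Fitting15
import Groth.Agent.Lib.Helper4.RegClosedPt1
import Groth.Agent.Lib.Helper9.RegDim2.UFD
import Groth.Agent.Lib.Helper9.FittSplit.Basic
import Groth.Agent.S10902
-- import your own Groth.Agent.* helpers here

set_option autoImplicit false
universe u
open TensorProduct
open SmVar

namespace Groth.Agent.S10909

open TensorProduct IsLocalRing
namespace Aux

section Key

variable (k : Type u) [Field k] (A : Type u) [CommRing A] [Algebra k A] (m : Ideal A) [m.IsPrime]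

local notation "B" => Localization.AtPrime m
local notation "κ" => ResidueField (Localization.AtPrime m)

theorem isScalarTower_cotangent :
    IsScalarTower k κ (CotangentSpace B) := by
  refine ⟨fun c x v => ?_⟩
  obtain ⟨b, rfl⟩ := residue_surjective x
  have h1 : c • residue B b = residue B (c • b) := by
    rw [Algebra.smul_def, Algebra.smul_def, map_mul]; rfl
  have h2 : ∀ (b' : B) (w : CotangentSpace B), residue B b' • w = b' • w := by
    intro b' w
    exact algebraMap_smul κ b' w
  rw [h1, h2, h2, smul_assoc]

theorem finrank_cotangent_ideal_congr (J I : Ideal B) (h : J = I) :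
    Module.finrank k J.Cotangent = Module.finrank k I.Cotangent := by
  subst h; rfl

theorem finrank_eq_of_bijective (hb : Function.Bijective (algebraMap k κ))
    (V : Type u) [AddCommGroup V] [Module k V] [Module κ V] [IsScalarTower k κ V] :
    Module.finrank κ V = Module.finrank k V := by
  have h1 : Module.finrank k κ = 1 := by
    have e : k ≃ₗ[k] κ := LinearEquiv.ofBijective (Algebra.linearMap k κ) hb
    rw [← e.finrank_eq, Module.finrank_self]
  have h2 := Module.finrank_mul_finrank k κ V
  rw [h1, one_mul] at h2
  exact h2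

theorem kerCotangentToTensor_bijective (hb : Function.Bijective (algebraMap k κ)) :
    Function.Bijective (KaehlerDifferential.kerCotangentToTensor k B κ) := by
  have hsurj : Function.Surjective (algebraMap B κ) := residue_surjective
  constructor
  · -- a retraction from a section
    let e : k ≃ₐ[k] κ := AlgEquiv.ofBijective (Algebra.ofId k κ) hb
    let g : κ →ₐ[k] B ⧸ (RingHom.ker (algebraMap B κ) ^ 2) :=
      (Algebra.ofId k _).comp e.symm.toAlgHom
    have hg : (IsScalarTower.toAlgHom k B κ).kerSquareLift.comp g = AlgHom.id k κ := by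
      apply AlgHom.ext
      intro x
      obtain ⟨c, rfl⟩ := hb.2 x
      simp
    obtain ⟨l, hl⟩ := (retractionKerCotangentToTensorEquivSection
      (R := k) (P := B) (S := κ) hsurj).symm ⟨g, hg⟩
    intro x y hxy
    have := congrArg l hxy
    rwa [← LinearMap.comp_apply, ← LinearMap.comp_apply, hl] at this
  · have hex := KaehlerDifferential.exact_kerCotangentToTensor_mapBaseChange k B κ hsurj
    haveI : Subsingleton (Ω[κ⁄k]) := KaehlerDifferential.subsingleton_of_surjective k κ hb.2
    intro y
    exact (hex y).1 (Subsingleton.elim _ _)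

theorem finrank_fibre_eq_cotangent (hb : Function.Bijective (algebraMap k κ)) :
    Module.finrank m.ResidueField (m.ResidueField ⊗[A] Ω[A⁄k]) =
      Module.finrank κ (CotangentSpace B) := by
  haveI := isScalarTower_cotangent k A m
  -- step a
  have h1 : IsBaseChange B (KaehlerDifferential.map k k A B) :=
    KaehlerDifferential.isBaseChange_of_formallyEtale k A B
  have h2 : IsBaseChange κ (TensorProduct.mk B κ (Ω[B⁄k]) 1) := TensorProduct.isBaseChange B _ κ
  have h12 := IsBaseChange.comp h1 h2
  have E1 : κ ⊗[A] Ω[A⁄k] ≃ₗ[κ] κ ⊗[B] Ω[B⁄k] := h12.equiv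
  -- step b
  have hbij := kerCotangentToTensor_bijective k A m hb
  let E2 : (RingHom.ker (algebraMap B κ)).Cotangent ≃ₗ[k] κ ⊗[B] Ω[B⁄k] :=
    LinearEquiv.ofBijective ((KaehlerDifferential.kerCotangentToTensor k B κ).restrictScalars k) hbij
  have hker : RingHom.ker (algebraMap B κ) = maximalIdeal B := IsLocalRing.ker_residue (R := B)
  change Module.finrank κ (κ ⊗[A] Ω[A⁄k]) = _
  rw [E1.finrank_eq, finrank_eq_of_bijective k A m hb, finrank_eq_of_bijective k A m hb,
    ← E2.finrank_eq]
  exact finrank_cotangent_ideal_congr k A m _ _ hker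

end Key

section Dim

variable (k : Type u) [Field k] (A : Type u) [CommRing A] [Algebra k A] [Algebra.FiniteType k A]

theorem residue_bijective [IsAlgClosed k] (m : Ideal A) [hm : m.IsMaximal] :
    Function.Bijective (algebraMap k m.ResidueField) := by
  letI : Field (A ⧸ m) := Ideal.Quotient.field m
  haveI : Module.Finite k (A ⧸ m) := finite_of_finite_type_of_isJacobsonRing k (A ⧸ m)
  have h1 : Function.Bijective (algebraMap k (A ⧸ m)) :=
    IsAlgClosed.algebraMap_bijective_of_isIntegral
  have h2 : Function.Bijective (algebraMap (A ⧸ m) m.ResidueField) :=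
    Ideal.bijective_algebraMap_quotient_residueField m
  rw [IsScalarTower.algebraMap_eq k (A ⧸ m) m.ResidueField]
  exact h2.comp h1

include k in
theorem height_eq_dim (hirr : (nilradical A).IsPrime) (m : Ideal A) [hm : m.IsMaximal] :
    (m.height : WithBot ℕ∞) = ringKrullDim A := by
  haveI := hirr
  set N := nilradical A with hN
  have hz : PrimeSpectrum.zeroLocus (N : Set A) = Set.univ := by
    rw [Set.eq_univ_iff_forall]
    intro p
    rw [PrimeSpectrum.mem_zeroLocus]
    exact nilradical_le_prime p.asIdeal
  let e : PrimeSpectrum (A ⧸ N) ≃o PrimeSpectrum A :=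
    (Ideal.primeSpectrumQuotientOrderIsoZeroLocus N).trans
      ((OrderIso.setCongr _ _ hz).trans OrderIso.Set.univ)
  have hdim : ringKrullDim (A ⧸ N) = ringKrullDim A := Order.krullDim_eq_of_orderIso e
  have hNm : N ≤ m := nilradical_le_prime m
  have hm' : (m.map (Ideal.Quotient.mk N)).IsMaximal := by
    rcases Ideal.map_eq_top_or_isMaximal_of_surjective (Ideal.Quotient.mk N)
      Ideal.Quotient.mk_surjective hm with h | h
    · exfalso
      have h2 := congrArg (Ideal.comap (Ideal.Quotient.mk N)) h
      rw [Ideal.comap_map_of_surjective _ Ideal.Quotient.mk_surjective, Ideal.comap_top,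
        ← RingHom.ker_eq_comap_bot, Ideal.mk_ker, sup_eq_left.2 hNm] at h2
      exact hm.ne_top h2
    · exact h
  haveI := hm'
  have h1 := Groth.Agent.Lib.Helper4.DimFT1.height_eq_dim_of_isMaximal k (A ⧸ N)
    (m.map (Ideal.Quotient.mk N))
  have h2 : e ⟨m.map (Ideal.Quotient.mk N), hm'.isPrime⟩ = ⟨m, hm.isPrime⟩ := by
    apply PrimeSpectrum.ext
    change (m.map (Ideal.Quotient.mk N)).comap (Ideal.Quotient.mk N) = m
    rw [Ideal.comap_map_of_surjective _ Ideal.Quotient.mk_surjective,
      ← RingHom.ker_eq_comap_bot, Ideal.mk_ker, sup_eq_left.2 hNm]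
  have h3 : m.height = (m.map (Ideal.Quotient.mk N)).height := by
    have h4 := PrimeSpectrum.height_eq_orderHeight (⟨m, hm.isPrime⟩ : PrimeSpectrum A)
    have h5 := PrimeSpectrum.height_eq_orderHeight
      (⟨m.map (Ideal.Quotient.mk N), hm'.isPrime⟩ : PrimeSpectrum (A ⧸ N))
    have h6 := Order.height_orderIso e ⟨m.map (Ideal.Quotient.mk N), hm'.isPrime⟩
    rw [h2] at h6
    change m.height = _ at h4
    change (m.map (Ideal.Quotient.mk N)).height = _ at h5
    rw [h4, h5, h6]
  rw [h3, h1, hdim]

end Dim

section Main

open Groth.Agent.Helper4.Fitting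

variable (k : Type u) [Field k] [IsAlgClosed k] (A : Type u) [CommRing A] [Algebra k A]
  [Algebra.FiniteType k A]

/-- Upper semicontinuity of fibre rank via Fitting ideals. -/
theorem finrank_fibre_mono' (M : Type u) [AddCommGroup M] [Module A M]
    [Module.Finite A M] (q P : Ideal A) [q.IsPrime] [P.IsPrime] (hqP : q ≤ P) :
    Module.finrank q.ResidueField (q.ResidueField ⊗[A] M) ≤
      Module.finrank P.ResidueField (P.ResidueField ⊗[A] M) := by
  set d := Module.finrank P.ResidueField (P.ResidueField ⊗[A] M) with hd
  have h1 : ¬ Fitt.ideal A M d ≤ P := (not_le_iff_finrank d P).2 le_rfl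
  have h2 : ¬ Fitt.ideal A M d ≤ q := fun h => h1 (h.trans hqP)
  exact (not_le_iff_finrank d q).1 h2

/-- At a maximal ideal: the fibre rank is the embedding dimension. -/
theorem finrank_fibre_maximal (m : Ideal A) [hm : m.IsMaximal] :
    Module.finrank m.ResidueField (m.ResidueField ⊗[A] Ω[A⁄k]) =
      Module.finrank (ResidueField (Localization.AtPrime m))
        (CotangentSpace (Localization.AtPrime m)) :=
  finrank_fibre_eq_cotangent k A m (residue_bijective k A m)

include k in
theorem dim_localization (hirr : (nilradical A).IsPrime) (m : Ideal A) [hm : m.IsMaximal] :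
    ringKrullDim (Localization.AtPrime m) = ringKrullDim A := by
  rw [IsLocalization.AtPrime.ringKrullDim_eq_height m, height_eq_dim k A hirr m]

theorem backward (hirr : (nilradical A).IsPrime) (n : ℕ) (hn : ringKrullDim A = n)
    (hrank : ∀ (P : Ideal A) [P.IsPrime],
      Module.finrank P.ResidueField (P.ResidueField ⊗[A] Ω[A⁄k]) = n) :
    IsReduced A ∧ IsRegularRing A := by
  haveI : IsNoetherianRing A := Algebra.FiniteType.isNoetherianRing k A
  have hmax : ∀ (m : Ideal A) [m.IsMaximal], IsRegularLocalRing (Localization.AtPrime m) := by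
    intro m hm
    rw [IsRegularLocalRing.iff_finrank_cotangentSpace, ← finrank_fibre_maximal k A m,
      hrank m, dim_localization k A hirr m, hn]
  have hall : ∀ (P : Ideal A) [P.IsPrime], IsRegularLocalRing (Localization.AtPrime P) := by
    intro P hP
    obtain ⟨m, hm, hPm⟩ := Ideal.exists_le_maximal P hP.ne_top
    haveI := hm
    haveI := hmax m
    exact Groth.Agent.Lib.Helper4.RegClosedPt1.isRegularLocalRing_of_le P m hPm
      (Localization.AtPrime m) (Localization.AtPrime P)
  refine ⟨?_, ⟨fun P _ => hall P⟩⟩
  apply isReduced_ofLocalizationMaximal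
  intro m hm
  haveI := hmax m
  haveI := Groth.Agent.Helper9.RegDim2.isDomain (Localization.AtPrime m)
  infer_instance

theorem forward (hirr : (nilradical A).IsPrime) (n : ℕ) (hn : ringKrullDim A = n)
    [IsReduced A] [IsRegularRing A] :
    Module.Projective A (Ω[A⁄k]) ∧
      ∀ (P : Ideal A) [P.IsPrime],
        Module.finrank P.ResidueField (P.ResidueField ⊗[A] Ω[A⁄k]) = n := by
  have hbot : nilradical A = ⊥ := nilradical_eq_bot_iff.2 inferInstance
  haveI hbp : (⊥ : Ideal A).IsPrime := hbot ▸ hirr
  have hmax : ∀ (m : Ideal A) [m.IsMaximal],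
      Module.finrank m.ResidueField (m.ResidueField ⊗[A] Ω[A⁄k]) = n := by
    intro m hm
    have h1 : IsRegularLocalRing (Localization.AtPrime m) := inferInstance
    rw [IsRegularLocalRing.iff_finrank_cotangentSpace, ← finrank_fibre_maximal k A m,
      dim_localization k A hirr m, hn] at h1
    exact_mod_cast h1
  have hrank : ∀ (P : Ideal A) [P.IsPrime],
      Module.finrank P.ResidueField (P.ResidueField ⊗[A] Ω[A⁄k]) = n := by
    intro P hP
    apply le_antisymm
    · obtain ⟨m, hm, hPm⟩ := Ideal.exists_le_maximal P hP.ne_top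
      haveI := hm
      rw [← hmax m]
      exact finrank_fibre_mono' A (Ω[A⁄k]) P m hPm
    · apply Groth.Agent.S10902.result k A n P ⊥ bot_le
      rw [← hn]
      exact (ringKrullDim_eq_of_ringEquiv (RingEquiv.quotientBot A)).ge
  refine ⟨?_, hrank⟩
  -- projectivity via Fitting ideals
  have htop : ∀ j, n ≤ j → Fitt.ideal A (Ω[A⁄k]) j = ⊤ := by
    intro j hj
    apply eq_top_of_forall_prime_not_le
    intro P hP
    haveI := hP
    rw [not_le_iff_finrank, hrank P]
    exact hj
  have hbotj : ∀ j, j < n → Fitt.ideal A (Ω[A⁄k]) j = ⊥ := by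
    intro j hj
    rw [eq_bot_iff, ← hbot, nilradical_eq_sInf]
    apply le_sInf
    intro P hP
    haveI : P.IsPrime := hP
    by_contra hle
    rw [not_le_iff_finrank, hrank P] at hle
    omega
  exact Groth.Agent.Helper9.FittSplit.projective_of_locFree _ n
    (fun p _ => free_of_ideal_conditions n hbotj htop p)

theorem main (hirr : (nilradical A).IsPrime) (n : ℕ) (hn : ringKrullDim A = n) :
    (IsReduced A ∧ IsRegularRing A) ↔
      (Module.Projective A (Ω[A⁄k]) ∧
        ∀ (P : Ideal A) [P.IsPrime],
          Module.finrank P.ResidueField (P.ResidueField ⊗[A] Ω[A⁄k]) = n) := by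
  constructor
  · rintro ⟨h1, h2⟩
    exact forward k A hirr n hn
  · rintro ⟨-, h2⟩
    exact backward k A hirr n hn h2

end Main

end Aux

/-- Let k be an algebraically closed field and A a k-algebra of finite type with irreducible spectrum
(the nilradical of A is prime) and Krull dimension n; X = Spec A is then an irreducible separated
k-scheme of finite type of dimension n. Then X is a nonsingular variety — A is reduced and every
localization of A at a prime is a regular local ring — if and only if the module of Kähler
differentials Ω_{A/k} is locally free of rank n: projective, with fibre κ(P) ⊗_A Ω_{A/k} of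
dimension n at every prime P. -/
theorem result (k : Type u) [Field k]
    [IsAlgClosed k] (A : Type u) [CommRing A] [Algebra k A] [Algebra.FiniteType k A]
    (hirr : (nilradical A).IsPrime) (n : ℕ) (hn : ringKrullDim A = n) :
    (IsReduced A ∧ IsRegularRing A) ↔
      (Module.Projective A (Ω[A⁄k]) ∧
        ∀ (P : Ideal A) [P.IsPrime],
          Module.finrank P.ResidueField (P.ResidueField ⊗[A] Ω[A⁄k]) = n) := by
  exact Aux.main k A hirr n hn

end Groth.Agent.S10909
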