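import Groth.Statements.S10910
import Groth.Agent.Lib.Helper8.AlgClosedReg
import Groth.Agent.Lib.Helper8.PRad15

set_option autoImplicit false
universe u
open TensorProduct
open SmVar

namespace Groth.Agent.S10910

/-- Let k be an algebraically closed field, A a k-algebra of finite type which is an integral domain all
of whose localizations at primes are regular (X = Spec A is a nonsingular affine variety), and B an
A-algebra with surjective structure map A → B whose nilradical is prime (Y = Spec B is an
irreducible closed subscheme of X, with ideal I = ker(A → B)). Then every localization of B is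
regular (Y is nonsingular) if and only if (i) Ω_{B/k} is a projective B-module (locally free) and
(ii) the conormal map I/I² → B ⊗_A Ω_{A/k}, class of x ↦ 1 ⊗ dx, is injective, i.e. the conormal
sequence 0 → I/I² → B ⊗_A Ω_{A/k} → Ω_{B/k} → 0 is exact on the left as well. -/
theorem result (k : Type u) [Field k]
    [IsAlgClosed k] (A B : Type u) [CommRing A] [CommRing B] [Algebra k A] [Algebra.FiniteType k A]
    [IsDomain A] [IsRegularRing A] [Algebra A B] [Algebra k B] [IsScalarTower k A B]
    (hsurj : Function.Surjective (algebraMap A B)) (hirr : (nilradical B).IsPrime) :
    IsRegularRing B ↔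
      (Module.Projective B (Ω[B⁄k]) ∧
        Function.Injective (KaehlerDifferential.kerCotangentToTensor k A B)) := by
  haveI : Algebra.FiniteType A B := Algebra.FiniteType.of_surjective (Algebra.ofId A B) hsurj
  haveI : Algebra.FiniteType k B := Algebra.FiniteType.trans (R := k) (S := A) (A := B)
    inferInstance inferInstance
  haveI : Algebra.FormallySmooth k A :=
    Groth.Agent.Helper8.PRad.formallySmooth_of_isGeometricallyRegular k A
      ((Groth.Agent.Helper8.AlgClosedReg.isGeometricallyRegular_iff_isRegularRing k A).2
        inferInstance)
  rw [← Groth.Agent.Helper8.AlgClosedReg.isGeometricallyRegular_iff_isRegularRing k B,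
    Groth.Agent.Helper8.PRad.isGeometricallyRegular_iff_formallySmooth k B,
    Algebra.formallySmooth_iff,
    Algebra.FormallySmooth.kerCotangentToTensor_injective_iff hsurj]

end Groth.Agent.S10910
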