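import Groth.Statements.S1092
import Mathlib
import Groth.Agent.Lib.Helper5.KInj.Resolution

set_option autoImplicit false
universe v u
open CategoryTheory CategoryTheory.Limits
open CohDer



namespace Groth.Agent.S1092

/-- Let A be an abelian category with enough injectives in which countable products exist and are exact.
Then every cochain complex K admits a quasi-isomorphism K ⟶ I to a K-injective complex I. -/
theorem result {A : Type u} [Category.{v} A] [Abelian A] [EnoughInjectives A]
    [HasLimitsOfShape (Discrete ℕ) A] [HasExactLimitsOfShape (Discrete ℕ) A] (K : CochainComplex A ℤ) :
    ∃ (I : CochainComplex A ℤ) (f : K ⟶ I), I.IsKInjective ∧ QuasiIso f := by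
  exact Helper5.KInj.exists_kinjective_resolution K

end Groth.Agent.S1092
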