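import Groth.Statements.S10926
import Mathlib
import Groth.Agent.S16759
import Groth.Agent.Lib.Lead.SeesawCor
import Groth.Agent.Lib.Lead.PicCalc

set_option autoImplicit false
universe u
open CategoryTheory CategoryTheory.Limits AlgebraicGeometry
open PicF

namespace Groth.Agent.S10926

/-- Let k be an algebraically closed field, Y an integral scheme of finite type over k, f : X → Y flat
and projective (f = i ≫ pr for a closed immersion i : X → P^n_Y) with every fibre X_y integral, and
L, M invertible O_X-modules whose pullbacks to each fibre X_y are isomorphic. Then there is an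
invertible O_Y-module E with L ≅ M ⊗ f^*E. -/
theorem result (k : Type u) [Field k] [IsAlgClosed k]
    {X Y : Scheme.{u}} (g : Y ⟶ Spec (CommRingCat.of k)) [LocallyOfFiniteType g] [QuasiCompact g]
    [IsIntegral Y] (n : ℕ) (i : X ⟶ CohB1.ProjSpaceOver n Y) [IsClosedImmersion i]
    (f : X ⟶ Y) (hf : f = i ≫ CohB1.ProjSpaceOver.toBase n Y) [Flat f]
    (hint : ∀ y : Y, IsIntegral (f.fiber y))
    (L M : X.Modules) (hL : PicF.IsInvertible L) (hM : PicF.IsInvertible M)
    (hLM : ∀ y : Y, Nonempty ((Scheme.Modules.pullback (f.fiberι y)).obj L ≅ (Scheme.Modules.pullback (f.fiberι y)).obj M)) :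
    ∃ E : Y.Modules, PicF.IsInvertible E ∧
      Nonempty (L ≅ CohB1.tensorMod M ((Scheme.Modules.pullback f).obj E)) := by
  classical
  obtain ⟨N, hN, ⟨e⟩⟩ := Groth.Agent.Helper1.InvInv2.exists_inverse hM
  have hN1 : PicF.cl N * PicF.cl M = 1 := Groth.Agent.Lead.PicCalc.cl_eq_of_iso e
  have hE' : PicF.IsInvertible (CohB1.tensorMod L N) :=
    Groth.Agent.Helper1.TwForm.isInvertible_tensorMod hL hN
  have htriv : ∀ y : Y, Nonempty ((Scheme.Modules.pullback (f.fiberι y)).obj (CohB1.tensorMod L N) ≅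
      Coh.structureModule (f.fiber y)) := by
    intro y
    rw [← Groth.Agent.Lead.PicCalc.cl_eq_iff, ← Groth.Agent.Lead.PicCalc.pull_cl,
      Groth.Agent.Lead.PicCalc.cl_tensor, Groth.Agent.Lead.PicCalc.pull_mul,
      Groth.Agent.Lead.PicCalc.pull_cl, Groth.Agent.Lead.PicCalc.pull_cl,
      Groth.Agent.Lead.PicCalc.cl_eq_of_iso (hLM y).some, ← Groth.Agent.Lead.PicCalc.pull_cl,
      ← Groth.Agent.Lead.PicCalc.pull_cl, ← Groth.Agent.Lead.PicCalc.pull_mul, mul_comm, hN1,
      Groth.Agent.Lead.PicCalc.pull_one]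
    rfl
  obtain ⟨hinv, hiso⟩ := Groth.Agent.Lead.SeesawCor.s10925
    (fun f _ _ _ _ h0 L hL => Groth.Agent.S16759.result f h0 L hL) k g n i f hf hint
    (CohB1.tensorMod L N) hE' htriv
  refine ⟨_, hinv, ?_⟩
  rw [← Groth.Agent.Lead.PicCalc.cl_eq_iff]
  have h2 := Groth.Agent.Lead.PicCalc.cl_eq_of_iso
    (asIso ((Scheme.Modules.pullbackPushforwardAdjunction f).counit.app (CohB1.tensorMod L N)))
  rw [Groth.Agent.Lead.PicCalc.cl_tensor]
  erw [h2]
  show PicF.cl L = PicF.cl M * PicF.cl (CohB1.tensorMod L N)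
  rw [Groth.Agent.Lead.PicCalc.cl_tensor, mul_comm (PicF.cl L), ← mul_assoc,
    mul_comm (PicF.cl M), hN1, one_mul]

end Groth.Agent.S10926
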