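import Groth.Statements.S10935
import Mathlib
import Groth.Agent.Lib.Helper1.AssFlat1

set_option autoImplicit false
universe u
open CategoryTheory CategoryTheory.Limits AlgebraicGeometry
open FlatMor

namespace Groth.Agent.S10935

/-- Let Y be an integral, regular (every local ring a regular local ring), one-dimensional scheme with
generic point η, X a Noetherian scheme and f : X → Y a morphism. Then f is flat if and only if every
associated point x of X — a point such that the maximal ideal of O_{X,x} is an associated prime of
O_{X,x} — satisfies f(x) = η. -/
theorem result {X Y : Scheme.{u}} (f : X ⟶ Y)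
    [IsIntegral Y] (hreg : ∀ y : Y, IsRegularLocalRing (Y.presheaf.stalk y))
    (hY : topologicalKrullDim ↥Y = 1) [IsNoetherian X] :
    Flat f ↔ ∀ x : X, Curv2.IsAssPoint (Coh.structureModule X) x → f.base x = genericPoint ↥Y := by
  exact ⟨fun h x hx => by
      haveI := h
      exact Groth.Agent.Helper1.AssFlat.eq_genericPoint_of_flat_of_isAssPoint f x hx,
    fun H => Groth.Agent.Helper1.AssFlat.flat_of_forall_isAssPoint f hreg hY.le H⟩

end Groth.Agent.S10935
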