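import Groth.Statements.S10945
import Mathlib

set_option autoImplicit false
universe u
open CategoryTheory AlgebraicGeometry Opposite
open Coherent

namespace Groth.Agent.S10945

open CategoryTheory AlgebraicGeometry Opposite

namespace H10945
open TopologicalSpace

variable (X : Scheme.{u})

/-- a section over `⊤` extends to a (global) section. -/
noncomputable def secOfTop (M : SheafOfModules.{u} X.ringCatSheaf) (t : M.val.obj (op ⊤)) :
    M.sections :=
  PresheafOfModules.sectionsMk (fun U => M.val.map (homOfLE (le_top : U.unop ≤ ⊤)).op t) (by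
    intro U V f
    rw [← PresheafOfModules.map_comp_apply]
    rfl)

lemma secOfTop_eval_top (M : SheafOfModules.{u} X.ringCatSheaf) (t : M.val.obj (op ⊤)) :
    (secOfTop X M t).1 (op ⊤) = t := by
  show M.val.map (𝟙 _) t = t
  simp

lemma sections_ext_top (M : SheafOfModules.{u} X.ringCatSheaf) (s s' : M.sections)
    (h : s.1 (op ⊤) = s'.1 (op ⊤)) : s = s' := by
  apply PresheafOfModules.sections_ext
  intro U
  have h1 := PresheafOfModules.sections_property s (homOfLE (le_top : U.unop ≤ ⊤)).op
  have h2 := PresheafOfModules.sections_property s' (homOfLE (le_top : U.unop ≤ ⊤)).op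
  rw [← h1, ← h2, h]


open SheafOfModules in
theorem main' (S : ShortComplex (SheafOfModules.{u} X.ringCatSheaf)) (hS : S.ShortExact)
    (hsurj : Function.Surjective (S.g.val.app (op ⊤)).hom)
    (h1 : ∃ (ι : Type u) (p : (SheafOfModules.free ι : SheafOfModules.{u} X.ringCatSheaf) ⟶ S.X₁), Epi p)
    (h3 : ∃ (ι : Type u) (p : (SheafOfModules.free ι : SheafOfModules.{u} X.ringCatSheaf) ⟶ S.X₃), Epi p) :
    ∃ (ι : Type u) (p : (SheafOfModules.free ι : SheafOfModules.{u} X.ringCatSheaf) ⟶ S.X₂), Epi p := by
  obtain ⟨I', p', hp'⟩ := h1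
  obtain ⟨I'', p'', hp''⟩ := h3
  -- lift sections
  choose t ht using fun i : I'' => hsurj ((S.X₃.freeHomEquiv p'' i).1 (op ⊤))
  let q : (SheafOfModules.free I'' : SheafOfModules.{u} X.ringCatSheaf) ⟶ S.X₂ :=
    S.X₂.freeHomEquiv.symm (fun i => secOfTop X S.X₂ (t i))
  have hq : q ≫ S.g = p'' := by
    apply S.X₃.freeHomEquiv.injective
    ext1 i
    rw [freeHomEquiv_comp_apply]
    simp only [q, Equiv.apply_symm_apply]
    apply sections_ext_top
    show (S.g.val.app (op ⊤)).hom ((secOfTop X S.X₂ (t i)).1 (op ⊤)) = _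
    rw [secOfTop_eval_top, ht]
  let r : (SheafOfModules.free (I' ⊕ I'') : SheafOfModules.{u} X.ringCatSheaf) ⟶ S.X₂ :=
    S.X₂.freeHomEquiv.symm (Sum.elim (S.X₂.freeHomEquiv (p' ≫ S.f)) (S.X₂.freeHomEquiv q))
  refine ⟨I' ⊕ I'', r, ?_⟩
  apply Preadditive.epi_of_cancel_zero
  intro Z h hrh
  have hr := fun i => congr_fun (congr_arg (Z.freeHomEquiv) hrh) i
  simp only [freeHomEquiv_comp_apply] at hr
  have e1 : (p' ≫ S.f) ≫ h = 0 := by
    apply Z.freeHomEquiv.injective
    ext1 i
    have := hr (Sum.inl i)
    simp only [r, Equiv.apply_symm_apply, Sum.elim_inl] at this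
    rw [freeHomEquiv_comp_apply, this]
    rfl
  have e2 : q ≫ h = 0 := by
    apply Z.freeHomEquiv.injective
    ext1 i
    have := hr (Sum.inr i)
    simp only [r, Equiv.apply_symm_apply, Sum.elim_inr] at this
    rw [freeHomEquiv_comp_apply, this]
    rfl
  have e3 : S.f ≫ h = 0 := by
    rw [Category.assoc] at e1
    exact (cancel_epi p').mp (by rw [e1, Limits.comp_zero])
  -- h factors through g
  have hg := hS.gIsCokernel
  let h' := hg.desc (Limits.CokernelCofork.ofπ h e3)
  have hh' : S.g ≫ h' = h := hg.fac (Limits.CokernelCofork.ofπ h e3) Limits.WalkingParallelPair.one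
  have : Epi p'' := hp''
  have e4 : p'' ≫ h' = 0 := by rw [← hq, Category.assoc, hh', e2]
  have e5 : h' = 0 := (cancel_epi p'').mp (by rw [e4, Limits.comp_zero])
  rw [← hh', e5, Limits.comp_zero]

end H10945

/-- Let X be a scheme and 0 → F' → F → F'' → 0 a short exact sequence of O_X-modules whose map on global
sections Γ(X, F) → Γ(X, F'') is surjective. If F' and F'' are generated by global sections (each is
a quotient of a free O_X-module), then F is generated by global sections. -/
theorem result (X : Scheme.{u})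
    (S : ShortComplex X.Modules) (hS : S.ShortExact)
    (hsurj : Function.Surjective (S.g.val.app (op ⊤)).hom)
    (h1 : Curv2.IsGloballyGenerated S.X₁) (h3 : Curv2.IsGloballyGenerated S.X₃) :
    Curv2.IsGloballyGenerated S.X₂ := by
  exact H10945.main' X S hS hsurj h1 h3

end Groth.Agent.S10945
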