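import Groth.Statements.S10953
import Mathlib

set_option autoImplicit false
universe u
open RedSep

namespace Groth.Agent.S10953

set_option linter.unusedSectionVars false

open AlgebraicGeometry CategoryTheory Limits Scheme Pullback TopologicalSpace


namespace H10953

variable {X S : Scheme.{u}} [IsAffine S] (f : X ⟶ S)

noncomputable abbrev 𝒰 (S : Scheme.{u}) : S.OpenCover := Scheme.coverOfIsIso (P := @IsOpenImmersion) (𝟙 S)

noncomputable abbrev 𝒲 (X : Scheme.{u}) : X.OpenCover :=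
  X.openCoverOfIsOpenCover (fun V : X.affineOpens => V.1) (iSup_affineOpens_eq_top X)

instance (i : (𝒰 S).I₀) : IsIso ((𝒰 S).f i) := by
  show IsIso (𝟙 S)
  infer_instance

noncomputable abbrev 𝒱 (i : (𝒰 S).I₀) : (pullback f ((𝒰 S).f i)).OpenCover :=
  (𝒲 X).pushforwardIso (inv (pullback.fst f ((𝒰 S).f i)))

instance (i : (𝒰 S).I₀) : IsAffine ((𝒰 S).X i) := by
  show IsAffine S
  infer_instance

instance (i : (𝒰 S).I₀) (j : (𝒱 f i).I₀) : IsAffine ((𝒱 f i).X j) := by
  let j' : X.affineOpens := j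
  show IsAffine (j'.1 : X.Opens).toScheme
  exact j'.2


theorem map_eq (i : (𝒰 S).I₀) (j : X.affineOpens) :
    (𝒱 f i).f j ≫ pullback.fst f ((𝒰 S).f i) = (j.1 : X.Opens).ι := by
  show ((𝒲 X).f j ≫ inv (pullback.fst f ((𝒰 S).f i))) ≫ pullback.fst f ((𝒰 S).f i) = _
  rw [Category.assoc, IsIso.inv_hom_id, Category.comp_id]
  rfl

set_option backward.defeqAttrib.useBackward true in
set_option backward.isDefEq.respectTransparency false in
theorem range_eq_top (h : ∀ x y : X, f x = f y → ∃ U : X.Opens, IsAffineOpen U ∧ x ∈ U ∧ y ∈ U) :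
    diagonalCoverDiagonalRange f (𝒰 S) (𝒱 f) = ⊤ := by
  rw [← top_le_iff]
  rintro z -
  have H : f (pullback.fst f f z) = f (pullback.snd f f z) := by
    rw [← Scheme.Hom.comp_apply, ← Scheme.Hom.comp_apply, pullback.condition]
  obtain ⟨U, hU, hx, hy⟩ := h _ _ H
  let j : X.affineOpens := ⟨U, hU⟩
  have hz : z ∈ ((diagonalCover f (𝒰 S) (𝒱 f)).f ⟨(PUnit.unit : PUnit.{u+1}), j, j⟩).opensRange := by
    show z ∈ Set.range ((diagonalCover f (𝒰 S) (𝒱 f)).f ⟨(PUnit.unit : PUnit.{u+1}), j, j⟩)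
    rw [diagonalCover_map]
    erw [range_map]
    refine ⟨?_, ?_⟩
    · show pullback.fst f f z ∈ Set.range ((𝒱 f (PUnit.unit : PUnit.{u+1})).f j ≫ pullback.fst f ((𝒰 S).f (PUnit.unit : PUnit.{u+1})))
      rw [map_eq]
      simpa using hx
    · show pullback.snd f f z ∈ Set.range ((𝒱 f (PUnit.unit : PUnit.{u+1})).f j ≫ pullback.fst f ((𝒰 S).f (PUnit.unit : PUnit.{u+1})))
      rw [map_eq]
      simpa using hy
  exact (le_iSup (fun i : Σ i, (𝒱 f i).I₀ =>
    ((diagonalCover f (𝒰 S) (𝒱 f)).f ⟨i.1, i.2, i.2⟩).opensRange) ⟨(PUnit.unit : PUnit.{u+1}), j⟩) hz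

theorem main (h : ∀ x y : X, f x = f y → ∃ U : X.Opens, IsAffineOpen U ∧ x ∈ U ∧ y ∈ U) :
    IsSeparated f := by
  constructor
  refine IsZariskiLocalAtTarget.of_iSup_eq_top (fun i : PUnit.{1} ↦ ⊤) (by simp) fun _ ↦ ?_
  rw [← range_eq_top f h]
  exact isClosedImmersion_diagonal_restrict_diagonalCoverDiagonalRange f (𝒰 S) (𝒱 f)

end H10953

open AlgebraicGeometry CategoryTheory in
/-- For a morphism of schemes f : X → S to an affine scheme S such that any two points of X with the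
same image in S lie in one common affine open subset of X, the morphism f is separated. -/
theorem result {X S : Scheme.{u}} [IsAffine S] (f : X ⟶ S)
    (h : ∀ x y : X, f x = f y → ∃ U : X.Opens, IsAffineOpen U ∧ x ∈ U ∧ y ∈ U) :
    IsSeparated f := by
  exact H10953.main f h

end Groth.Agent.S10953
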