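import Groth.Statements.S10954
import Mathlib
import Groth.Agent.Lib.Helper1.SerreCrit2
import Groth.Agent.Lib.Helper1.QcAbel

set_option autoImplicit false
universe u
open Coherent

namespace Groth.Agent.S10954

open AlgebraicGeometry CategoryTheory CategoryTheory.Limits Opposite in
/-- Let X be a quasi-compact scheme such that, for every short exact sequence 0 → F' → F → F'' → 0 of
quasi-coherent O_X-modules whose first term F' admits a monomorphism into a finite direct sum of
copies of O_X, taking global sections gives a surjection F(X) → F''(X). Then X is affine. (The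
published statement is an equivalence of three conditions on a quasi-compact scheme; this row states
the implication from exactness of global sections on such sequences to affineness.) -/
theorem result (X : Scheme.{u}) [CompactSpace X]
    (h : ∀ (S : ShortComplex X.Modules) (n : ℕ)
      (j : S.X₁ ⟶ ∏ᶜ (fun _ : Fin n => Coh.structureModule X)),
      S.ShortExact → Mono j → Coh.IsQCoh S.X₁ → Coh.IsQCoh S.X₂ → Coh.IsQCoh S.X₃ →
        Function.Surjective (S.g.val.app (op ⊤)).hom) :
    IsAffine X := by
  apply Groth.Agent.Helper1.SerreCrit.isAffine_of_sections_exact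
  intro n F F'' i p hi hp hF hF''
  haveI := hF
  haveI := hF''
  haveI : CategoryTheory.Limits.HasFiniteBiproducts X.Modules :=
    CategoryTheory.Limits.HasFiniteBiproducts.of_hasFiniteProducts
  let S : CategoryTheory.ShortComplex X.Modules :=
    CategoryTheory.ShortComplex.mk (CategoryTheory.Limits.kernel.ι p) p
      (CategoryTheory.Limits.kernel.condition p)
  have hS : S.ShortExact :=
    { exact := CategoryTheory.ShortComplex.exact_of_f_is_kernel _
        (CategoryTheory.Limits.kernelIsKernel p)
      mono_f := inferInstanceAs (CategoryTheory.Mono (CategoryTheory.Limits.kernel.ι p))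
      epi_g := hp }
  let e : FlatMod.freeMod X n ≅ ∏ᶜ fun _ : Fin n => Coh.structureModule X :=
    (CategoryTheory.Limits.biproduct.isoCoproduct _).symm ≪≫
      CategoryTheory.Limits.biproduct.isoProduct _
  haveI : CategoryTheory.Mono (i ≫ e.hom) := CategoryTheory.mono_comp _ _
  haveI : CategoryTheory.Mono (CategoryTheory.Limits.kernel.ι p ≫ i ≫ e.hom) :=
    CategoryTheory.mono_comp _ _
  exact h S n (CategoryTheory.Limits.kernel.ι p ≫ i ≫ e.hom) hS inferInstance
    (Groth.Agent.Helper1.QcAbel.isQuasicoherent_kernel p) hF hF''

end Groth.Agent.S10954
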