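import Groth.Statements.S10955
import Mathlib

set_option autoImplicit false
universe u
open scoped TensorProduct
open Unram

namespace Groth.Agent.S10955

open TensorProduct KaehlerDifferential

namespace H10955

section tower
variable (R S T : Type u) [CommRing R] [CommRing S] [CommRing T] [Algebra R S] [Algebra S T]
  [Algebra R T] [IsScalarTower R S T]

theorem tower [Algebra.FormallySmooth R T] :
    Algebra.FormallySmooth S T ↔
      ∃ l' : Ω[T⁄R] →ₗ[T] T ⊗[S] Ω[S⁄R], l' ∘ₗ mapBaseChange R S T = LinearMap.id := by
  have hδinj : Function.Injective (Algebra.H1Cotangent.δ R S T) := by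
    rw [injective_iff_map_eq_zero]
    intro x hx
    obtain ⟨y, rfl⟩ := (Algebra.H1Cotangent.exact_map_δ R S T x).mp hx
    rw [Subsingleton.elim y 0, map_zero]
  have hex := KaehlerDifferential.exact_mapBaseChange_map R S T
  have hsurj : Function.Surjective (KaehlerDifferential.map R S T T) :=
    KaehlerDifferential.map_surjective R S T
  have htfae := Function.Exact.split_tfae' hex
  constructor
  · intro h
    have hinj : Function.Injective (mapBaseChange R S T) := by
      rw [injective_iff_map_eq_zero]
      intro x hx
      obtain ⟨y, rfl⟩ := (Algebra.H1Cotangent.exact_δ_mapBaseChange R S T x).mp hx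
      rw [Subsingleton.elim y 0, map_zero]
    obtain ⟨σ, hσ⟩ := Module.projective_lifting_property (KaehlerDifferential.map R S T T)
      LinearMap.id hsurj
    have h01 := htfae.out 0 1
    exact (h01.mp ⟨hinj, σ, hσ⟩).2
  · rintro ⟨l', hl'⟩
    have h01 := htfae.out 0 1
    obtain ⟨hinj, σ, hσ⟩ := h01.mpr ⟨hsurj, l', hl'⟩
    refine ⟨Module.Projective.of_split σ _ hσ, ?_⟩
    constructor
    intro x y
    apply hδinj
    have h0 : ∀ z, Algebra.H1Cotangent.δ R S T z = 0 := by
      intro z
      apply hinj
      rw [map_zero]
      exact (Algebra.H1Cotangent.exact_δ_mapBaseChange R S T _).mpr ⟨z, rfl⟩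
    rw [h0 x, h0 y]

end tower
end H10955

namespace H10955

section L1
variable {C T : Type u} [CommRing C] [CommRing T] [Algebra C T]
  (k : Type u) [AddCommGroup k] [Module C k] [Module T k] [IsScalarTower C T k]
  {M N : Type u} [AddCommGroup M] [Module C M] [AddCommGroup N] [Module C N] (f : M →ₗ[C] N)

theorem L1 : Function.Injective (f.lTensor k) ↔
    Function.Injective ((f.baseChange T).lTensor k) := by
  have hsq : ⇑(f.lTensor k) ∘ ⇑(AlgebraTensorModule.cancelBaseChange C T T k M) =
      ⇑(AlgebraTensorModule.cancelBaseChange C T T k N) ∘ ⇑((f.baseChange T).lTensor k) := by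
    ext x
    induction x with
    | zero => simp
    | add a b ha hb => simp only [Function.comp_apply, map_add] at ha hb ⊢; rw [ha, hb]
    | tmul x y =>
      induction y with
      | zero => simp
      | add a b ha hb =>
        simp only [Function.comp_apply, tmul_add, map_add] at ha hb ⊢; rw [ha, hb]
      | tmul t m => simp
  constructor
  · intro h
    have h1 : Function.Injective (⇑(f.lTensor k) ∘ ⇑(AlgebraTensorModule.cancelBaseChange C T T k M)) :=
      h.comp (LinearEquiv.injective _)
    rw [hsq] at h1
    exact h1.of_comp
  · intro h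
    have h1 : Function.Injective (⇑(AlgebraTensorModule.cancelBaseChange C T T k N) ∘ ⇑((f.baseChange T).lTensor k)) :=
      (LinearEquiv.injective _).comp h
    rw [← hsq] at h1
    exact (Function.Injective.of_comp_iff' _ (LinearEquiv.bijective _)).mp h1

end L1

section L3
variable {T : Type u} [CommRing T]
  (k : Type u) [AddCommGroup k] [Module T k]
  {M N M' N' : Type u} [AddCommGroup M] [Module T M] [AddCommGroup N] [Module T N]
  [AddCommGroup M'] [Module T M'] [AddCommGroup N'] [Module T N']
  (g : M →ₗ[T] N) (g' : M' →ₗ[T] N') (eM : M ≃ₗ[T] M') (eN : N ≃ₗ[T] N')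
  (h : g' ∘ₗ eM.toLinearMap = eN.toLinearMap ∘ₗ g)

include h in
theorem L3 : Function.Injective (g'.lTensor k) ↔ Function.Injective (g.lTensor k) := by
  have hsq : (g'.lTensor k) ∘ₗ (eM.lTensor k).toLinearMap =
      (eN.lTensor k).toLinearMap ∘ₗ (g.lTensor k) := by
    rw [LinearEquiv.coe_lTensor, LinearEquiv.coe_lTensor, ← LinearMap.lTensor_comp,
      ← LinearMap.lTensor_comp, h]
  have hsq' : ⇑(g'.lTensor k) ∘ ⇑(eM.lTensor k) = ⇑(eN.lTensor k) ∘ ⇑(g.lTensor k) := by
    ext x
    exact LinearMap.congr_fun hsq x
  constructor
  · intro h1
    have h2 : Function.Injective (⇑(g'.lTensor k) ∘ ⇑(eM.lTensor k)) :=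
      h1.comp (LinearEquiv.injective _)
    rw [hsq'] at h2
    exact h2.of_comp
  · intro h1
    have h2 : Function.Injective (⇑(eN.lTensor k) ∘ ⇑(g.lTensor k)) :=
      (LinearEquiv.injective _).comp h1
    rw [← hsq'] at h2
    exact (Function.Injective.of_comp_iff' _ (LinearEquiv.bijective _)).mp h2

end L3
end H10955

namespace H10955

section L2
variable (A B C T : Type u) [CommRing A] [CommRing B] [CommRing C] [CommRing T]
  [Algebra A B] [Algebra B C] [Algebra A C] [IsScalarTower A B C]
  [Algebra C T] [Algebra B T] [Algebra A T] [IsScalarTower B C T] [IsScalarTower A B T]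
  [IsScalarTower A C T] [Algebra.FormallyEtale C T]

omit [Algebra.FormallyEtale C T] in
theorem kd_map_map (ω : Ω[B⁄A]) :
    (KaehlerDifferential.map A A C T) ((KaehlerDifferential.map A A B C) ω) =
      (KaehlerDifferential.map A A B T) ω := by
  have h : ((KaehlerDifferential.map A A C T).restrictScalars B) ∘ₗ
      (KaehlerDifferential.map A A B C) = KaehlerDifferential.map A A B T := by
    apply Derivation.liftKaehlerDifferential_unique
    ext b
    simp [← IsScalarTower.algebraMap_apply]
  exact LinearMap.congr_fun h ω

theorem L2 : (mapBaseChange A B T) ∘ₗ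
      (AlgebraTensorModule.cancelBaseChange B C T T Ω[B⁄A]).toLinearMap =
    (tensorKaehlerEquivOfFormallyEtale A C T).toLinearMap ∘ₗ
      (mapBaseChange A B C).baseChange T := by
  apply TensorProduct.AlgebraTensorModule.curry_injective
  apply LinearMap.ext; intro t
  apply LinearMap.ext; intro y
  induction y with
  | zero => simp
  | add a b ha hb =>
    simp only [map_add] at ha hb ⊢
    rw [ha, hb]
  | tmul c ω =>
    simp only [AlgebraTensorModule.curry_apply, LinearMap.restrictScalars_comp, curry_apply,
      LinearMap.coe_comp, LinearMap.coe_restrictScalars, LinearEquiv.coe_coe, Function.comp_apply,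
      AlgebraTensorModule.cancelBaseChange_tmul, mapBaseChange_tmul, LinearMap.baseChange_tmul,
      tensorKaehlerEquivOfFormallyEtale_apply, map_smul, kd_map_map]
    rw [smul_assoc, smul_comm]

end L2
end H10955

namespace H10955

theorem main (A B C : Type u) [CommRing A] [CommRing B]
    [CommRing C] [Algebra A B] [Algebra B C] [Algebra A C] [IsScalarTower A B C]
    [Algebra.FinitePresentation A B] [Algebra.FinitePresentation A C] (q : Ideal C) [q.IsPrime]
    (hC : Algebra.IsSmoothAt A q) :
    Algebra.IsSmoothAt B q ↔
      Function.Injective ((KaehlerDifferential.mapBaseChange A B C).lTensor q.ResidueField) := by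
  have hess : Algebra.EssFiniteType A (Localization.AtPrime q) := by
    have : Algebra.EssFiniteType C (Localization.AtPrime q) :=
      Algebra.EssFiniteType.of_isLocalization _ q.primeCompl
    exact Algebra.EssFiniteType.comp A C _
  have hsm : Algebra.FormallySmooth A (Localization.AtPrime q) := hC
  have hfree : Module.Free (Localization.AtPrime q) Ω[(Localization.AtPrime q)⁄A] :=
    Module.free_of_flat_of_isLocalRing
  unfold Algebra.IsSmoothAt
  rw [tower A B (Localization.AtPrime q),
    IsLocalRing.split_injective_iff_lTensor_residueField_injective,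
    L3 (IsLocalRing.ResidueField (Localization.AtPrime q)) _ _ _ _
      (L2 A B C (Localization.AtPrime q)),
    ← L1 (T := Localization.AtPrime q)]

end H10955

/-- Let A → B → C be ring homomorphisms with B and C finitely presented over A, let q be a prime ideal
of C and p its inverse image in B, and assume that C is smooth over A at q and that B is smooth over
A at p. Then C is smooth over B at q if and only if the map obtained from the canonical map C ⊗_B
Ω_{B/A} → Ω_{C/A} by tensoring over C with the residue field k(q) is injective. -/
theorem result (A B C : Type u) [CommRing A] [CommRing B]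
    [CommRing C] [Algebra A B] [Algebra B C] [Algebra A C] [IsScalarTower A B C]
    [Algebra.FinitePresentation A B] [Algebra.FinitePresentation A C] (q : Ideal C) [q.IsPrime]
    (hC : Algebra.IsSmoothAt A q) (hB : Algebra.IsSmoothAt A (q.under B)) :
    Algebra.IsSmoothAt B q ↔
      Function.Injective ((KaehlerDifferential.mapBaseChange A B C).lTensor q.ResidueField) := by
  exact H10955.main A B C q hC

end Groth.Agent.S10955
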