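import Groth.Statements.S10956
import Mathlib

set_option autoImplicit false
universe u
open scoped TensorProduct
open CAlg

namespace Groth.Agent.S10956

namespace H10956
open KaehlerDifferential

attribute [local instance] Algebra.TensorProduct.rightAlgebra

variable (R A B : Type u) [CommRing R] [CommRing A] [CommRing B] [Algebra R A] [Algebra R B]

local notation "T" => A ⊗[R] B

/-- `T ⊗[A] Ω[A/R] ≃ Ω[T/B]` -/
noncomputable def eA : (T) ⊗[A] Ω[A⁄R] ≃ₗ[T] Ω[(T)⁄B] := tensorKaehlerEquiv R B A (T)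

/-- `T ⊗[B] Ω[B/R] ≃ Ω[T/A]` -/
noncomputable def eB : (T) ⊗[B] Ω[B⁄R] ≃ₗ[T] Ω[(T)⁄A] := tensorKaehlerEquiv R A B (T)

noncomputable def rA : Ω[(T)⁄R] →ₗ[T] (T) ⊗[A] Ω[A⁄R] :=
  (eA R A B).symm.toLinearMap ∘ₗ KaehlerDifferential.map R B (T) (T)

noncomputable def rB : Ω[(T)⁄R] →ₗ[T] (T) ⊗[B] Ω[B⁄R] :=
  (eB R A B).symm.toLinearMap ∘ₗ KaehlerDifferential.map R A (T) (T)

lemma D_B_tmul (a : A) (b : B) :
    D B (T) (a ⊗ₜ[R] b) = ((1 : A) ⊗ₜ[R] b) • D B (T) (algebraMap A (T) a) := by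
  have h : (a ⊗ₜ[R] b : T) = ((1 : A) ⊗ₜ[R] b) * (a ⊗ₜ[R] (1 : B)) := by
    simp
  rw [h, Derivation.leibniz]
  have h2 : ((1 : A) ⊗ₜ[R] b : T) = algebraMap B (T) b := rfl
  rw [h2, Derivation.map_algebraMap, smul_zero, add_zero]
  rfl

lemma D_A_tmul (a : A) (b : B) :
    D A (T) (a ⊗ₜ[R] b) = (a ⊗ₜ[R] (1 : B)) • D A (T) (algebraMap B (T) b) := by
  have h : (a ⊗ₜ[R] b : T) = (a ⊗ₜ[R] (1 : B)) * ((1 : A) ⊗ₜ[R] b) := by
    simp
  rw [h, Derivation.leibniz]
  have h2 : (a ⊗ₜ[R] (1 : B) : T) = algebraMap A (T) a := rfl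
  rw [h2, Derivation.map_algebraMap, smul_zero, add_zero]
  rfl

lemma rA_D (a : A) (b : B) :
    rA R A B (D R (T) (a ⊗ₜ[R] b)) = ((1 : A) ⊗ₜ[R] b) ⊗ₜ[A] D R A a := by
  simp only [rA, LinearMap.comp_apply, LinearEquiv.coe_coe, KaehlerDifferential.map_D]
  rw [LinearEquiv.symm_apply_eq, eA, tensorKaehlerEquiv_tmul_D]
  exact D_B_tmul R A B a b

lemma rB_D (a : A) (b : B) :
    rB R A B (D R (T) (a ⊗ₜ[R] b)) = (a ⊗ₜ[R] (1 : B)) ⊗ₜ[B] D R B b := by
  simp only [rB, LinearMap.comp_apply, LinearEquiv.coe_coe, KaehlerDifferential.map_D]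
  rw [LinearEquiv.symm_apply_eq, eB, tensorKaehlerEquiv_tmul_D]
  exact D_A_tmul R A B a b

lemma ext_tensor {S T' M : Type u} [CommRing S] [Algebra R S] [CommRing T'] [Algebra S T']
    [AddCommGroup M] [Module T' M]
    (f g : T' ⊗[S] Ω[S⁄R] →ₗ[T'] M) (h : ∀ s, f (1 ⊗ₜ D R S s) = g (1 ⊗ₜ D R S s)) : f = g := by
  have key : ∀ m : Ω[S⁄R], f (1 ⊗ₜ m) = g (1 ⊗ₜ m) := by
    intro m
    have hm : m ∈ Submodule.span S (Set.range (D R S)) := by
      rw [span_range_derivation]; trivial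
    induction hm using Submodule.span_induction with
    | mem x hx => obtain ⟨s, rfl⟩ := hx; exact h s
    | zero => simp
    | add x y _ _ hx hy => rw [TensorProduct.tmul_add, map_add, map_add, hx, hy]
    | smul a x _ hx =>
      rw [TensorProduct.tmul_smul, ← algebraMap_smul T' a, map_smul, map_smul, hx]
  apply LinearMap.ext
  intro x
  induction x using TensorProduct.induction_on with
  | zero => simp
  | add x y hx hy => rw [map_add, map_add, hx, hy]
  | tmul t m =>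
    have : t ⊗ₜ[S] m = t • ((1 : T') ⊗ₜ[S] m) := by
      rw [TensorProduct.smul_tmul', smul_eq_mul, mul_one]
    rw [this, map_smul, map_smul, key]

lemma rA_alpha : (rA R A B) ∘ₗ (mapBaseChange R A (T)) = LinearMap.id := by
  apply ext_tensor
  intro a
  simp only [LinearMap.comp_apply, mapBaseChange_tmul, one_smul, map_D, LinearMap.id_apply]
  exact rA_D R A B a 1

lemma rB_beta : (rB R A B) ∘ₗ (mapBaseChange R B (T)) = LinearMap.id := by
  apply ext_tensor
  intro b
  simp only [LinearMap.comp_apply, mapBaseChange_tmul, one_smul, map_D, LinearMap.id_apply]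
  exact rB_D R A B 1 b

lemma rA_beta : (rA R A B) ∘ₗ (mapBaseChange R B (T)) = 0 := by
  apply ext_tensor
  intro b
  simp only [LinearMap.comp_apply, mapBaseChange_tmul, one_smul, map_D, LinearMap.zero_apply]
  have := rA_D R A B 1 b
  rw [Derivation.map_one_eq_zero, TensorProduct.tmul_zero] at this
  exact this

lemma rB_alpha : (rB R A B) ∘ₗ (mapBaseChange R A (T)) = 0 := by
  apply ext_tensor
  intro a
  simp only [LinearMap.comp_apply, mapBaseChange_tmul, one_smul, map_D, LinearMap.zero_apply]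
  have := rB_D R A B a 1
  rw [Derivation.map_one_eq_zero, TensorProduct.tmul_zero] at this
  exact this

lemma sum_id : (mapBaseChange R A (T)) ∘ₗ (rA R A B) + (mapBaseChange R B (T)) ∘ₗ (rB R A B)
    = LinearMap.id := by
  apply Derivation.liftKaehlerDifferential_unique
  ext t
  simp only [Derivation.coe_comp, LinearMap.coe_comp, LinearMap.coe_restrictScalars,
    Function.comp_apply, LinearMap.add_apply, LinearMap.id_apply, Derivation.coeFn_coe]
  induction t using TensorProduct.induction_on with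
  | zero => simp
  | add x y hx hy =>
    simp only [map_add]
    rw [add_add_add_comm, hx, hy]
  | tmul a b =>
    rw [rA_D, rB_D, mapBaseChange_tmul, mapBaseChange_tmul, map_D, map_D]
    have h : (a ⊗ₜ[R] b : T) = (a ⊗ₜ[R] (1 : B)) * ((1 : A) ⊗ₜ[R] b) := by simp
    conv_rhs => rw [h, Derivation.leibniz]
    rw [add_comm]
    rfl

theorem main :
    ∃ r : Ω[(A ⊗[R] B)⁄R] →ₗ[A ⊗[R] B] ((A ⊗[R] B) ⊗[A] Ω[A⁄R]),
      (∀ (a : A) (b : B), r (KaehlerDifferential.D R (A ⊗[R] B) (a ⊗ₜ[R] b)) =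
          ((1 : A) ⊗ₜ[R] b) ⊗ₜ[A] KaehlerDifferential.D R A a) ∧
        Function.Bijective (fun ω : Ω[(A ⊗[R] B)⁄R] =>
          (r ω, KaehlerDifferential.map R A (A ⊗[R] B) (A ⊗[R] B) ω)) := by
  refine ⟨rA R A B, rA_D R A B, ?_, ?_⟩
  · intro ω₁ ω₂ h
    simp only [Prod.mk.injEq] at h
    obtain ⟨h1, h2⟩ := h
    have h3 : rB R A B ω₁ = rB R A B ω₂ := by
      simp only [rB, LinearMap.comp_apply, h2]
    have e1 := congrArg (fun f => f ω₁) (sum_id R A B)
    have e2 := congrArg (fun f => f ω₂) (sum_id R A B)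
    simp only [LinearMap.add_apply, LinearMap.comp_apply, LinearMap.id_apply] at e1 e2
    rw [← e1, ← e2, h1, h3]
  · rintro ⟨x, y⟩
    refine ⟨mapBaseChange R A (T) x + mapBaseChange R B (T) ((eB R A B).symm y), ?_⟩
    have e1 := congrArg (fun f => f x) (rA_alpha R A B)
    have e2 := congrArg (fun f => f ((eB R A B).symm y)) (rA_beta R A B)
    have e3 := congrArg (fun f => f x) (rB_alpha R A B)
    have e4 := congrArg (fun f => f ((eB R A B).symm y)) (rB_beta R A B)
    simp only [LinearMap.comp_apply, LinearMap.id_apply, LinearMap.zero_apply] at e1 e2 e3 e4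
    simp only [Prod.mk.injEq, map_add]
    refine ⟨by rw [e1, e2, add_zero], ?_⟩
    have h5 : ∀ ω, KaehlerDifferential.map R A (T) (T) ω = eB R A B (rB R A B ω) := by
      intro ω
      simp [rB]
    rw [← map_add, h5, map_add, e3, e4, zero_add, LinearEquiv.apply_symm_apply]

end H10956

/-- Let R be a commutative ring, A and B commutative R-algebras and T = A ⊗_R B, an A-algebra through
the left factor. There is a T-linear map r from Ω_{T/R} to T ⊗_A Ω_{A/R} sending d(a ⊗ b) to (1 ⊗ b)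
⊗ da for all a in A and b in B, and together with the canonical map Ω_{T/R} → Ω_{T/A} it identifies
Ω_{T/R} with the product (T ⊗_A Ω_{A/R}) × Ω_{T/A}. (The published statement is the isomorphism of
(Ω_{A/R} ⊗_R B) ⊕ (A ⊗_R Ω_{B/R}) with Ω_{T/R} matching the exterior differentials; it is stated
here through the canonical identifications T ⊗_A Ω_{A/R} = Ω_{A/R} ⊗_R B and Ω_{T/A} = A ⊗_R
Ω_{B/R}.) -/
theorem result (R A B : Type u) [CommRing R] [CommRing A] [CommRing B]
    [Algebra R A] [Algebra R B] :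
    ∃ r : Ω[(A ⊗[R] B)⁄R] →ₗ[A ⊗[R] B] ((A ⊗[R] B) ⊗[A] Ω[A⁄R]),
      (∀ (a : A) (b : B), r (KaehlerDifferential.D R (A ⊗[R] B) (a ⊗ₜ[R] b)) =
          ((1 : A) ⊗ₜ[R] b) ⊗ₜ[A] KaehlerDifferential.D R A a) ∧
        Function.Bijective (fun ω : Ω[(A ⊗[R] B)⁄R] =>
          (r ω, KaehlerDifferential.map R A (A ⊗[R] B) (A ⊗[R] B) ω)) := by
  exact H10956.main R A B

end Groth.Agent.S10956
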