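import Groth.Statements.S10964
import Mathlib
import Groth.Agent.Lib.Helper1.CocycleIso
import Groth.Agent.Lib.Helper1.PullGen2
import Groth.Agent.Lib.Helper1.ThickLift2
import Groth.Agent.Lib.Helper1.TwForm1

set_option autoImplicit false
universe u
open CategoryTheory AlgebraicGeometry TopologicalSpace Opposite
open PicF

namespace Groth.Agent.S10964

/-- Let X be a scheme with an open cover (U_i)_{i ∈ ι}. Let L and L' be O_X-modules with sections s_i of
L and s'_i of L' over U_i that generate there (for every open V ⊆ U_i, r ↦ r · s_i|_V is a bijection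
from functions on V onto sections of L over V, and likewise for s'_i), and let η_ij, η'_ij be the
functions on U_i ∩ U_j with s_i = η_ij · s_j and s'_i = η'_ij · s'_j there. Then L and L' are
isomorphic as O_X-modules if and only if there is a family of units u_i of the rings of functions on
the U_i with η'_ij · u_i|_{U_i ∩ U_j} = u_j|_{U_i ∩ U_j} · η_ij for all i, j. (So two invertible
modules trivialised by the cover are isomorphic exactly when their transition cocycles define the
same Čech cohomology class.) -/
theorem result (X : Scheme.{u}) {ι : Type u} (U : ι → X.Opens)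
    (hU : iSup U = ⊤) (L L' : X.Modules) (s : ∀ i : ι, Γ(L, U i)) (s' : ∀ i : ι, Γ(L', U i))
    (hs : ∀ (i : ι) (V : X.Opens) (h : V ≤ U i),
        Function.Bijective (fun r : Γ(X, V) => r • L.presheaf.map (homOfLE h).op (s i)))
    (hs' : ∀ (i : ι) (V : X.Opens) (h : V ≤ U i),
        Function.Bijective (fun r : Γ(X, V) => r • L'.presheaf.map (homOfLE h).op (s' i)))
    (η η' : ∀ i j : ι, Γ(X, U i ⊓ U j))
    (hη : ∀ i j : ι, L.presheaf.map (homOfLE (inf_le_left : U i ⊓ U j ≤ U i)).op (s i) =
        η i j • L.presheaf.map (homOfLE (inf_le_right : U i ⊓ U j ≤ U j)).op (s j))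
    (hη' : ∀ i j : ι, L'.presheaf.map (homOfLE (inf_le_left : U i ⊓ U j ≤ U i)).op (s' i) =
        η' i j • L'.presheaf.map (homOfLE (inf_le_right : U i ⊓ U j ≤ U j)).op (s' j)) :
    Nonempty (L ≅ L') ↔ ∃ u : ∀ i : ι, (Γ(X, U i))ˣ, ∀ i j : ι,
      η' i j * X.presheaf.map (homOfLE (inf_le_left : U i ⊓ U j ≤ U i)).op (u i : Γ(X, U i)) =
        X.presheaf.map (homOfLE (inf_le_right : U i ⊓ U j ≤ U j)).op (u j : Γ(X, U j)) * η i j := by
  have hg : ∀ i, Groth.Agent.Helper1.LGen.IsGen L (U i) (s i) := fun i => hs i
  have hg' : ∀ i, Groth.Agent.Helper1.LGen.IsGen L' (U i) (s' i) := fun i => hs' i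
  have hη1 : ∀ i j, Groth.Agent.Helper1.QcCech.res L inf_le_left (s i) =
      η i j • Groth.Agent.Helper1.QcCech.res L inf_le_right (s j) := hη
  have hη1' : ∀ i j, Groth.Agent.Helper1.QcCech.res L' inf_le_left (s' i) =
      η' i j • Groth.Agent.Helper1.QcCech.res L' inf_le_right (s' j) := hη'
  have hcov : ∀ x : X, ∃ i, x ∈ U i := by
    intro x
    have hx : x ∈ (iSup U : X.Opens) := by rw [hU]; trivial
    exact TopologicalSpace.Opens.mem_iSup.1 hx
  constructor
  · rintro ⟨φ⟩
    have hφ : ∀ i, Groth.Agent.Helper1.LGen.IsGen L' (U i) (φ.hom.app (U i) (s i)) :=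
      fun i => Groth.Agent.Helper1.PullGen.isGen_of_iso_app φ (hg i)
    choose u hu using fun i => Groth.Agent.Helper1.TwForm.IsGen.exists_unit (hg' i) (hφ i)
    refine ⟨u, fun i j => ?_⟩
    have hj : Groth.Agent.Helper1.LGen.IsGen L' (U i ⊓ U j)
        (Groth.Agent.Helper1.QcCech.res L' inf_le_right (s' j)) := (hg' j).res inf_le_right
    have h1 : φ.hom.app _ (Groth.Agent.Helper1.QcCech.res L inf_le_left (s i)) =
        (Groth.Agent.Helper1.QcCech.resR inf_le_left (u i : Γ(X, U i)) * η' i j) •
          Groth.Agent.Helper1.QcCech.res L' inf_le_right (s' j) := by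
      rw [Groth.Agent.Helper1.QcExt.app_res, hu i, Groth.Agent.Helper1.QcCech.res_smul, mul_smul,
        hη1' i j]
    have h2 : φ.hom.app _ (Groth.Agent.Helper1.QcCech.res L inf_le_left (s i)) =
        (η i j * Groth.Agent.Helper1.QcCech.resR inf_le_right (u j : Γ(X, U j))) •
          Groth.Agent.Helper1.QcCech.res L' inf_le_right (s' j) := by
      rw [hη1 i j, Scheme.Modules.Hom.app_smul, Groth.Agent.Helper1.QcExt.app_res, hu j,
        Groth.Agent.Helper1.QcCech.res_smul, mul_smul]
    have h3 := Groth.Agent.Helper1.ThickLift.IsGen.smul_injective hj (h1.symm.trans h2)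
    rw [mul_comm (η' i j), mul_comm _ (η i j)]
    exact h3
  · rintro ⟨u, hu⟩
    have hu1 : ∀ i j, η' i j * Groth.Agent.Helper1.QcCech.resR inf_le_left (u i : Γ(X, U i)) =
        Groth.Agent.Helper1.QcCech.resR inf_le_right (u j : Γ(X, U j)) * η i j := hu
    let F : Groth.Agent.Helper1.CocycleIso.GenFam L L' :=
      { ι := ι
        W := U
        a := s
        b := fun i => (u i : Γ(X, U i)) • s' i
        ha := hg
        hb := fun i => Groth.Agent.Helper1.TwForm.IsGen.smul_unit (hg' i) (u i)
        cov := hcov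
        compat := by
          intro i j v hv
          have hvη : v = η i j := by
            apply Groth.Agent.Helper1.ThickLift.IsGen.smul_injective ((hg j).res inf_le_right)
            rw [← hv]
            exact hη1 i j
          rw [hvη, Groth.Agent.Helper1.QcCech.res_smul, Groth.Agent.Helper1.QcCech.res_smul,
            hη1' i j, smul_smul, smul_smul, mul_comm, hu1 i j, mul_comm] }
    exact ⟨F.iso⟩

end Groth.Agent.S10964
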