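import Groth.Statements.S10969
import Mathlib
import Groth.Agent.Lib.Helper4.FF.Degree

set_option autoImplicit false
open FunFld

namespace Groth.Agent.S10969

open FunFld WithZero Groth.Agent.Lib.Helper4.FF

/-- For `x` transcendental over `k` in a function field of one variable `K/k`, the degree of the divisor
of zeros of `x` equals `[K : k(x)]`. -/
theorem result (k K : Type*) [Field k] [Field K] [Algebra k K]
    (hK : FunFld.IsFunctionField k K) (x : K) (hx : Transcendental k x) :
    (∑ P ∈ (FunFld.div k x).support with 0 < FunFld.div k x P,
        FunFld.div k x P * (P.deg : ℤ)) =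
      Module.finrank (IntermediateField.adjoin k ({x} : Set K)) K := by
  classical
  rw [← deg_zeroDiv hK hx]
  rw [Divisor.deg_eq_sum (poleDiv x⁻¹ : Divisor k K)
    ((FunFld.div k x).support.filter fun P => 0 < FunFld.div k x P)]
  · refine Finset.sum_congr rfl fun P hP => ?_
    have hpos := (Finset.mem_filter.mp hP).2
    rw [poleDiv_apply hK, Place.ord_inv, neg_neg, ← div_apply hK, max_eq_left hpos.le]
  · intro P hP
    rw [Finsupp.mem_support_iff, poleDiv_apply hK, Place.ord_inv, neg_neg, ← div_apply hK] at hP
    have hpos : 0 < FunFld.div k x P := by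
      by_contra h
      push Not at h
      exact hP (max_eq_right h)
    exact Finset.mem_filter.mpr ⟨Finsupp.mem_support_iff.mpr hpos.ne', hpos⟩

end Groth.Agent.S10969
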