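import Groth.Statements.S10971
import Mathlib
import Groth.Agent.Lib.Helper4.FF.Basic

set_option autoImplicit false
open FunFld

namespace Groth.Agent.S10971

open FunFld WithZero Groth.Agent.Lib.Helper4.FF

/-- The residue field of a place of a function field of one variable `K/k` is finite over `k`. -/
theorem result (k K : Type*) [Field k] [Field K] [Algebra k K]
    (hK : FunFld.IsFunctionField k K) (P : FunFld.Place k K) :
    FiniteDimensional k (IsLocalRing.ResidueField P.O) := by
  obtain ⟨t, ht⟩ := Place.exists_uniformizer P
  have ht0 : t ≠ 0 := by
    rw [← Valuation.ne_zero_iff P.1, ht]; exact exp_ne_zero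
  have ht1 : P.1 t < 1 := by
    rw [ht, ← exp_zero, exp_lt_exp]; norm_num
  exact (Place.residue_finite_and_le P hK ht0 ht1).1

end Groth.Agent.S10971
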