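import Groth.Statements.S10972
import Mathlib
import Groth.Agent.Lib.Helper4.FF.Exist

set_option autoImplicit false
open FunFld

namespace Groth.Agent.S10972

open FunFld WithZero Groth.Agent.Lib.Helper4.FF

/-- A nonconstant element of a function field of one variable has at least one zero and at least one
pole. -/
theorem result (k K : Type*) [Field k] [Field K] [Algebra k K]
    (hK : FunFld.IsFunctionField k K) (x : K) (hx : x ∉ Set.range (algebraMap k K)) :
    (∃ P : FunFld.Place k K, 0 < P.ord x) ∧ ∃ Q : FunFld.Place k K, Q.ord x < 0 := by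
  have hxt := transcendental_of_notMem hK hx
  have hx0 : x ≠ 0 := by
    rintro rfl
    exact hxt isAlgebraic_zero
  obtain ⟨P, hP⟩ := exists_zero hK hxt
  obtain ⟨Q, hQ⟩ := exists_pole hK hxt
  exact ⟨⟨P, (Place.ord_pos_iff P hx0).mpr hP⟩, ⟨Q, (Place.ord_neg_iff Q hx0).mpr hQ⟩⟩

end Groth.Agent.S10972
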