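import Groth.Statements.S10978
import Mathlib
import Groth.Agent.Lib.Helper4.FF.Exist

set_option autoImplicit false
open FunFld

namespace Groth.Agent.S10978

open FunFld WithZero Groth.Agent.Lib.Helper4.FF

/-- In a function field of one variable the elements without poles are the constants, `L(0) = k`. -/
theorem result (k K : Type*) [Field k] [Field K] [Algebra k K]
    (hK : FunFld.IsFunctionField k K) : FunFld.L (0 : FunFld.Divisor k K) = 1 := by
  ext x
  rw [Submodule.mem_one]
  constructor
  · intro hx
    have : ∀ P : Place k K, P.1 x ≤ 1 := by
      intro P
      have := hx P
      simpa using this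
    exact mem_range_of_forall_le_one hK this
  · rintro ⟨c, rfl⟩
    intro P
    simpa using P.2.1 c

end Groth.Agent.S10978
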