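import Groth.Statements.S1098
import Mathlib
import Groth.Agent.Lib.Helper5.Approx.Lift
import Groth.Agent.Lib.Helper5.Approx.Sharp

set_option autoImplicit false
universe u
open CategoryTheory CategoryTheory.Limits AlgebraicGeometry Opposite
attribute [local instance] HasDerivedCategory.standard
open Perf



namespace Groth.Agent.S1098

/-- Let the scheme X be quasi-compact and quasi-separated, U ⊆ X a quasi-compact open (restriction to U
assumed exact), T ⊆ X closed with quasi-compact complement, E ∈ D(O_X) with quasi-coherent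
cohomology sheaves, and P a perfect object of D(O_U) whose cohomology sheaves are supported on T ∩
U, with a morphism α : P ⟶ E|_U. Then there are a perfect object R of D(O_X) with cohomology sheaves
supported on T, a morphism β : R ⟶ E, and morphisms i : P ⟶ R|_U, p : R|_U ⟶ P exhibiting P as a
direct summand of R|_U, with i ≫ β|_U = α. -/
theorem result (X : Scheme.{u}) [CompactSpace ↥X] [QuasiSeparatedSpace ↥X]
    (U : X.Opens) (hU : IsCompact (U : Set X)) [PreservesFiniteLimits (Scheme.Modules.restrictFunctor U.ι)] (T : Set X) (hT : IsClosed T) (hTc : IsCompact Tᶜ)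
    (E : DCoh.D X) (hE : DCoh.IsQCohD E)
    (P : DCoh.D (U : Scheme.{u})) (hP : DCoh.IsPerfect P) (hPT : ∀ k : ℤ, CohB1.support (DCoh.HD P k) ⊆ {x : ↥(U : Scheme.{u}) | U.ι.base x ∈ T})
    (α : P ⟶ (DCoh.restrictD U.ι).obj E) :
    ∃ (R : DCoh.D X) (β : R ⟶ E) (i : P ⟶ (DCoh.restrictD U.ι).obj R) (p : (DCoh.restrictD U.ι).obj R ⟶ P),
      DCoh.IsPerfect R ∧ (∀ k : ℤ, CohB1.support (DCoh.HD R k) ⊆ T) ∧ i ≫ p = 𝟙 P ∧ i ≫ (DCoh.restrictD U.ι).map β = α := by
  classical
  let W : X.Opens := ⟨Tᶜ, hT.isOpen_compl⟩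
  have hPW : Groth.Agent.Lib.Helper5.BvdB.VanishOn P
      ((U.ι ⁻¹ᵁ W : (U : Scheme.{u}).Opens) : Set ↥(U : Scheme.{u})) :=
    Groth.Agent.Lib.Helper5.Approx.vanishOn_of_support
      {x : ↥(U : Scheme.{u}) | U.ι.base x ∈ T} P hPT
  obtain ⟨R, β, i, p, hR, hRW, hip, hiβ⟩ :=
    Groth.Agent.Lib.Helper5.Approx.liftHolds X U hU W hTc E hE P hP hPW α
  exact ⟨R, β, i, p, hR, fun k =>
    Groth.Agent.Lib.Helper5.Approx.support_subset_of_vanishOn T R hRW k, hip, hiβ⟩

end Groth.Agent.S1098
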