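import Groth.Statements.S11000
import Mathlib
import Groth.Agent.Lib.Helper5.Misc.RegExt

set_option autoImplicit false
universe u v
open FunFld



namespace Groth.Agent.S11000

/-- Over a perfect ground field every function field of one variable is geometric (`k' ⊗_k K` is a field
for all finite `k'/k`). -/
theorem result (k : Type u) (K : Type v) [Field k] [Field K] [Algebra k K] [PerfectField k]
    (hK : FunFld.IsFunctionField k K) : FunFld.IsGeometric k K := by
  intro k' _ _ hfin
  have h : algebraicClosure k K = ⊥ := by
    rw [eq_bot_iff]
    intro y hy
    rw [mem_algebraicClosure_iff] at hy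
    rw [IntermediateField.mem_bot]
    exact hK.2 y hy
  haveI : Algebra.IsAlgebraic k k' := Algebra.IsAlgebraic.of_finite k k'
  have hf := Groth.Agent.Helper5.RegExt.isField_tensor_of_isAlgebraic h k'
  exact MulEquiv.isField hf (Algebra.TensorProduct.comm k k' K).toMulEquiv

end Groth.Agent.S11000
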