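import Groth.Statements.S11003
import Mathlib
import Groth.Agent.Lib.Helper5.Misc.OmegaSep

set_option autoImplicit false
universe u v
open FunFld

set_option linter.style.haveILetI false

namespace S11003aux

open scoped TensorProduct

variable {k : Type u} {K : Type v} [Field k] [Field K] [Algebra k K]

theorem essFiniteType (hK : FunFld.IsFunctionField k K) : Algebra.EssFiniteType k K := by
  obtain ⟨⟨x, hx, hfin⟩, _⟩ := hK
  haveI : Algebra.EssFiniteType k (IntermediateField.adjoin k ({x} : Set K)) :=
    IntermediateField.essFiniteType_iff.mpr ⟨{x}, by simp⟩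
  haveI := hfin
  exact Algebra.EssFiniteType.comp k (IntermediateField.adjoin k ({x} : Set K)) K

theorem trdeg_eq_one (hK : FunFld.IsFunctionField k K) : Algebra.trdeg k K = 1 := by
  obtain ⟨⟨x, hx, hfin⟩, _⟩ := hK
  have hai : AlgebraicIndependent k (fun _ : Unit => x) := by
    rw [algebraicIndependent_unique_type_iff]; exact hx
  have htb : IsTranscendenceBasis k (fun _ : Unit => x) := by
    rw [hai.isTranscendenceBasis_iff_isAlgebraic]
    have : Set.range (fun _ : Unit => x) = {x} := by ext; simp
    rw [this, ← IntermediateField.isAlgebraic_adjoin_iff_top]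
    haveI := hfin
    exact Algebra.IsAlgebraic.of_finite _ _
  have := htb.lift_cardinalMk_eq_trdeg
  simpa using this.symm

theorem key (hg : IsGeometric k K) (p : ℕ) [hp : Fact p.Prime] [CharP k p] (s : Finset K)
    (hs : LinearIndepOn k id (s : Set K)) (k' : Type u) [Field k'] [Algebra k k']
    [FiniteDimensional k k'] (c : K → k) (r' : K → k')
    (hr' : ∀ y ∈ s, (r' y) ^ p = algebraMap k k' (c y))
    (hc : ∑ i ∈ s, c i • i ^ p = 0) : ∀ y ∈ s, c y = 0 := by
  classical
  intro y hy
  have hfield : IsField (k' ⊗[k] K) := hg k' inferInstance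
  haveI := hfield.isDomain
  haveI : CharP (k' ⊗[k] K) p :=
    charP_of_injective_algebraMap (algebraMap k (k' ⊗[k] K)).injective p
  haveI : ExpChar (k' ⊗[k] K) p := .prime hp.out
  have hz : (∑ y ∈ s, r' y ⊗ₜ[k] y) ^ p = 0 := by
    refine (sum_pow_char (R := k' ⊗[k] K) p s (fun y => r' y ⊗ₜ[k] y)).trans ?_
    have : ∀ y ∈ s, (r' y ⊗ₜ[k] y) ^ p = (1 : k') ⊗ₜ[k] (c y • y ^ p) := by
      intro y hy
      rw [Algebra.TensorProduct.tmul_pow, hr' y hy, Algebra.algebraMap_eq_smul_one,
        TensorProduct.smul_tmul]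
    rw [Finset.sum_congr rfl this, ← TensorProduct.tmul_sum, hc, TensorProduct.tmul_zero]
  have hz0 : ∑ y ∈ s, r' y ⊗ₜ[k] y = 0 :=
    (pow_eq_zero_iff (M₀ := k' ⊗[k] K) (hp.out.ne_zero)).mp hz
  have hli : LinearIndepOn k' (fun y : K => (1 : k') ⊗ₜ[k] y) (s : Set K) :=
    Module.Flat.linearIndependent_one_tmul hs
  rw [linearIndepOn_finset_iff] at hli
  have h0 := hli r' (by
    rw [← hz0]
    refine Finset.sum_congr rfl fun y _ => ?_
    rw [TensorProduct.smul_tmul', smul_eq_mul, mul_one]) y hy
  have h1 := hr' y hy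
  rw [h0, zero_pow hp.out.ne_zero] at h1
  exact (map_eq_zero_iff _ (algebraMap k k').injective).mp h1.symm

theorem linIndep_pow (hg : IsGeometric k K) (p : ℕ) [hp : Fact p.Prime] [CharP k p] (s : Finset K)
    (hs : LinearIndepOn k id (s : Set K)) : LinearIndepOn k (· ^ p) (s : Set K) := by
  classical
  rw [linearIndepOn_finset_iff]
  intro c hc
  -- p-th roots
  have hroot : ∀ y : K, ∃ r : AlgebraicClosure k, r ^ p = algebraMap k _ (c y) := fun y =>
    IsAlgClosed.exists_pow_nat_eq _ hp.out.pos
  choose r hr using hroot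
  obtain ⟨k', hk'⟩ : ∃ k' : IntermediateField k (AlgebraicClosure k),
    k' = IntermediateField.adjoin k (r '' (s : Set K)) := ⟨_, rfl⟩
  haveI : FiniteDimensional k k' := by
    rw [hk']
    apply IntermediateField.finiteDimensional_adjoin
    intro x _
    exact Algebra.IsIntegral.isIntegral x
  have hmem : ∀ y ∈ s, r y ∈ k' := fun y hy => by
    rw [hk']; exact IntermediateField.subset_adjoin _ _ ⟨y, hy, rfl⟩
  let r' : K → k' := fun y => if h : y ∈ s then ⟨r y, hmem y h⟩ else 0
  have hr' : ∀ y ∈ s, (r' y) ^ p = algebraMap k k' (c y) := by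
    intro y hy
    apply Subtype.ext
    simp only [r', dif_pos hy]
    exact hr y
  exact key hg p s hs k' c r' hr' hc

end S11003aux

namespace Groth.Agent.S11003

/-- `dim_K Ω_{K/k} = 1` for a geometric function field of one variable `K/k`. -/
theorem result (k : Type u) (K : Type v) [Field k] [Field K] [Algebra k K]
    (hK : FunFld.IsFunctionField k K) (hg : FunFld.IsGeometric k K) :
    Module.finrank K (KaehlerDifferential k K) = 1 := by
  haveI := S11003aux.essFiniteType hK
  have htr := S11003aux.trdeg_eq_one hK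
  suffices h : Module.rank K (Ω[K⁄k]) = Algebra.trdeg k K by
    rw [htr] at h
    exact Module.finrank_eq_of_rank_eq h
  obtain _ | ⟨p, hp, hpk⟩ := CharP.exists' k
  · exact Groth.Agent.Helper5.OmegaSep.rank_eq_trdeg k
  · haveI : ExpChar k p := .prime hp.out
    obtain ⟨s, hs, H⟩ := exists_isTranscendenceBasis_and_isSeparable_of_linearIndepOn_pow_of_essFiniteType
      p hp.out (fun s hs => S11003aux.linIndep_pow hg p s hs)
    haveI : Algebra.IsSeparable (↥(IntermediateField.adjoin k (Set.range ((↑) : s → K)))) K := by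
      convert! H <;> simp
    rw [← (Groth.Agent.Helper5.OmegaSep.basis (x := ((↑) : s → K)) hs.1).mk_eq_rank'',
      hs.cardinalMk_eq_trdeg]

end Groth.Agent.S11003
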