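import Groth.Statements.S11005
import Mathlib
import Groth.Agent.S11003

set_option autoImplicit false
universe u v
open FunFld

set_option linter.style.haveILetI false
set_option linter.unusedSectionVars false

namespace S11005aux

open scoped TensorProduct IntermediateField

variable {k : Type u} {K : Type v} [Field k] [Field K] [Algebra k K]

/-- In a function field of one variable, `K` is finite over `k(x)` for any transcendental `x`. -/
theorem finite_over (hK : FunFld.IsFunctionField k K) (x : K) (hx : Transcendental k x) :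
    FiniteDimensional k⟮x⟯ K := by
  haveI := S11003aux.essFiniteType hK
  have htr := S11003aux.trdeg_eq_one hK
  have hai : AlgebraicIndependent k (fun _ : Unit => x) := by
    rw [algebraicIndependent_unique_type_iff]; exact hx
  have htb : IsTranscendenceBasis k (fun _ : Unit => x) :=
    hai.isTranscendenceBasis_of_lift_trdeg_le (by rw [htr]; exact Cardinal.one_lt_aleph0)
      (by rw [htr]; simp)
  haveI : Algebra.IsAlgebraic k⟮x⟯ K := by
    have := htb.isAlgebraic_field
    convert! this <;> simp
  haveI : Algebra.EssFiniteType k⟮x⟯ K := Algebra.EssFiniteType.of_comp k k⟮x⟯ K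
  exact Algebra.finite_of_essFiniteType_of_isAlgebraic

/-- transfer finiteness to the intermediate field. -/
theorem finite_sub (K₀ : IntermediateField k K) (x : K₀) [FiniteDimensional k⟮x.1⟯ K] :
    FiniteDimensional (IntermediateField.adjoin k ({x} : Set K₀)) K₀ := by
  have hle : k⟮x.1⟯ ≤ K₀ := by
    rw [IntermediateField.adjoin_simple_le_iff]; exact x.2
  have hlift : IntermediateField.lift (IntermediateField.adjoin k ({x} : Set K₀)) = k⟮x.1⟯ :=
    IntermediateField.lift_adjoin_simple k K₀ x
  -- the ring isomorphisms
  let e₁ : k⟮x.1⟯ ≃+* IntermediateField.adjoin k ({x} : Set K₀) :=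
    { toFun := fun z => ⟨⟨z.1, hle z.2⟩, (IntermediateField.mem_lift _).mp (by rw [hlift]; exact z.2)⟩
      invFun := fun w => ⟨w.1.1, by rw [← hlift]; exact (IntermediateField.mem_lift w.1).mpr w.2⟩
      left_inv := fun _ => rfl
      right_inv := fun _ => rfl
      map_mul' := fun _ _ => rfl
      map_add' := fun _ _ => rfl }
  let e₂ : IntermediateField.extendScalars hle ≃+* K₀ :=
    { toFun := fun z => ⟨z.1, z.2⟩
      invFun := fun w => ⟨w.1, w.2⟩
      left_inv := fun _ => rfl
      right_inv := fun _ => rfl
      map_mul' := fun _ _ => rfl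
      map_add' := fun _ _ => rfl }
  exact Module.Finite.of_equiv_equiv e₁ e₂ (by ext z; rfl)

theorem geom_sub (hg : FunFld.IsGeometric k K) (K₀ : IntermediateField k K) :
    FunFld.IsGeometric k K₀ := by
  intro k' _ _ hfin
  have hf : IsField (k' ⊗[k] K) := hg k' hfin
  have hf' : IsField (K ⊗[k] k') :=
    MulEquiv.isField hf (Algebra.TensorProduct.comm k K k').toMulEquiv
  haveI := hf'.isDomain
  let f : K₀ ⊗[k] k' →ₐ[k] K ⊗[k] k' := Algebra.TensorProduct.map K₀.val (AlgHom.id k k')
  have hinj : Function.Injective f := by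
    have := Module.Flat.rTensor_preserves_injective_linearMap (M := k') K₀.val.toLinearMap
      K₀.val.injective
    exact this
  haveI : IsDomain (K₀ ⊗[k] k') := Function.Injective.isDomain f.toRingHom hinj
  haveI : Algebra.IsIntegral K₀ (K₀ ⊗[k] k') := Algebra.IsIntegral.of_finite K₀ _
  have h2 : IsField (K₀ ⊗[k] k') := isField_of_isIntegral_of_isField' (R := K₀) (S := K₀ ⊗[k] k') (Field.toIsField K₀)
  exact MulEquiv.isField h2 (Algebra.TensorProduct.comm k k' K₀).toMulEquiv

end S11005aux

namespace Groth.Agent.S11005

/-- An intermediate field `K₀` of a geometric function field of one variable `K/k` that is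
transcendental over `k` is again a geometric function field of one variable over `k`. -/
theorem result (k : Type u) (K : Type v) [Field k] [Field K] [Algebra k K]
    (hK : FunFld.IsFunctionField k K) (hg : FunFld.IsGeometric k K) (K₀ : IntermediateField k K)
    (h₀ : ∃ x ∈ K₀, Transcendental k x) : FunFld.IsFunctionField k K₀ ∧ FunFld.IsGeometric k K₀ := by
  obtain ⟨x, hxK₀, hx⟩ := h₀
  haveI : FiniteDimensional (IntermediateField.adjoin k ({(⟨x, hxK₀⟩ : K₀).1} : Set K)) K :=
    S11005aux.finite_over hK x hx
  refine ⟨⟨⟨⟨x, hxK₀⟩, ?_, S11005aux.finite_sub K₀ ⟨x, hxK₀⟩⟩, ?_⟩, S11005aux.geom_sub hg K₀⟩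
  · intro halg
    apply hx
    have := halg.algHom K₀.val
    exact this
  · intro y hy
    have hy' : IsAlgebraic k (y : K) := hy.algHom K₀.val
    obtain ⟨c, hc⟩ := hK.2 y hy'
    exact ⟨c, Subtype.ext hc⟩

end Groth.Agent.S11005
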