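import Groth.Statements.S11008
import Mathlib
import Groth.Agent.Lib.Helper9.FFExt.Geo2
import Groth.Agent.Lib.Helper9.FFExt.Geo3
import Groth.Agent.Lib.Helper9.FFExt.Geo4
import Groth.Agent.Lib.Helper9.FFExt.GeoSep
import Groth.Agent.Lib.Helper9.FFExt.PlaneKer2
-- import your own Groth.Agent.* helpers here

set_option autoImplicit false
universe u v
open FunFld

namespace Groth.Agent.S11008

open FunFld
namespace Aux

open TensorProduct Groth.Agent.Lib.Helper4.FF Groth.Agent.Helper9.FFExt Groth.Agent.Helper9.Geo2
  Groth.Agent.Helper9.PlaneKer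

theorem forward (k : Type u) (K : Type v) [Field k] [Field K] [Algebra k K]
    (hK : FunFld.IsFunctionField k K) (hg : FunFld.IsGeometric k K) :
    ∃ (x y : K) (f : MvPolynomial (Fin 2) k),
        IntermediateField.adjoin k ({x, y} : Set K) = ⊤ ∧
        (∀ (k' : Type u) [Field k'] [Algebra k k'], FiniteDimensional k k' →
          Irreducible (MvPolynomial.map (algebraMap k k') f)) ∧
        RingHom.ker (MvPolynomial.aeval ![x, y] : MvPolynomial (Fin 2) k →ₐ[k] K) = Ideal.span {f} := by
  classical
  obtain ⟨x, hxt, hsep⟩ := exists_separating_of_isGeometric hK.1 hg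
  have hfin := finiteDimensional_adjoin hK hxt
  obtain ⟨y, hy⟩ := Field.exists_primitive_element (IntermediateField.adjoin k ({x} : Set K)) K
  have hxy : IntermediateField.adjoin k ({x, y} : Set K) = ⊤ := by
    have h1 := IntermediateField.adjoin_adjoin_left k ({x} : Set K) ({y} : Set K)
    rw [hy] at h1
    have h2 : ({x} : Set K) ∪ {y} = {x, y} := rfl
    rw [h2] at h1
    rw [← h1]
    rfl
  obtain ⟨f, hf, hker⟩ := ker_pair hK x y hxy
  refine ⟨x, y, f, hxy, ?_, hker⟩
  intro k' _ _ hfin'
  have hT : IsField (k' ⊗[k] K) := hg k' hfin'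
  have hdom : IsDomain (k' ⊗[k] K) := hT.isDomain
  have hk := ker_evT (Module.finBasis k k') x y f hker
  have hprime : (RingHom.ker (evT (k := k) (k' := k') x y)).IsPrime := RingHom.ker_isPrime _
  rw [hk] at hprime
  have hne : MvPolynomial.map (algebraMap k k') f ≠ 0 := by
    intro h
    apply hf.ne_zero
    exact (MvPolynomial.map_injective _ (algebraMap k k').injective) (h.trans (map_zero _).symm)
  exact ((Ideal.span_singleton_prime hne).mp hprime).irreducible

open Polynomial in
theorem backward (k : Type u) (K : Type v) [Field k] [Field K] [Algebra k K]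
    (x y : K) (f : MvPolynomial (Fin 2) k)
    (hxy : IntermediateField.adjoin k ({x, y} : Set K) = ⊤)
    (habs : ∀ (k' : Type u) [Field k'] [Algebra k k'], FiniteDimensional k k' →
      Irreducible (MvPolynomial.map (algebraMap k k') f))
    (hker : RingHom.ker (MvPolynomial.aeval ![x, y] : MvPolynomial (Fin 2) k →ₐ[k] K) =
      Ideal.span {f}) :
    FunFld.IsFunctionField k K ∧ FunFld.IsGeometric k K := by
  have hg : IsGeometric k K := isGeometric_of_absIrred x y f hxy habs hker
  have hirr : Irreducible f := by
    have := habs k inferInstance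
    rwa [Algebra.algebraMap_self, MvPolynomial.map_id] at this
  let e := Polynomial.Bivariate.equivMvPolynomial k
  have hcomp : (MvPolynomial.aeval ![x, y] : MvPolynomial (Fin 2) k →ₐ[k] K).comp e.toAlgHom =
      Polynomial.aevalAeval x y := by
    apply (Polynomial.aevalAevalEquiv k K).symm.injective
    rw [Equiv.symm_apply_apply]
    apply Prod.ext
    · change MvPolynomial.aeval ![x, y] (e (Polynomial.C Polynomial.X)) = x
      rw [Polynomial.Bivariate.equivMvPolynomial_C_X, MvPolynomial.aeval_X]
      rfl
    · change MvPolynomial.aeval ![x, y] (e Polynomial.X) = y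
      rw [Polynomial.Bivariate.equivMvPolynomial_X, MvPolynomial.aeval_X]
      rfl
  have hF : Irreducible (e.symm f) := (MulEquiv.irreducible_iff e.symm).mpr hirr
  have hkerF : RingHom.ker (Polynomial.aevalAeval x y : Polynomial (Polynomial k) →ₐ[k] K) =
      Ideal.span {e.symm f} := by
    ext G
    rw [RingHom.mem_ker, Ideal.mem_span_singleton, ← hcomp]
    change MvPolynomial.aeval ![x, y] (e G) = 0 ↔ _
    have h1 : MvPolynomial.aeval ![x, y] (e G) = 0 ↔ e G ∈ RingHom.ker
        (MvPolynomial.aeval ![x, y] : MvPolynomial (Fin 2) k →ₐ[k] K) := Iff.rfl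
    rw [h1, hker, Ideal.mem_span_singleton]
    constructor
    · rintro ⟨h, hh⟩
      refine ⟨e.symm h, ?_⟩
      rw [← map_mul, ← hh, e.symm_apply_apply]
    · rintro ⟨h, hh⟩
      refine ⟨e h, ?_⟩
      rw [hh, map_mul, e.apply_symm_apply]
  have hw : IsFFw k K := isFFw_of_ker x y (e.symm f) hF hxy hkerF
  exact ⟨⟨hw, fun α hα => mem_range_of_isGeometric hg α hα⟩, hg⟩

theorem main (k : Type u) (K : Type v) [Field k] [Field K] [Algebra k K] :
    (FunFld.IsFunctionField k K ∧ FunFld.IsGeometric k K) ↔
      ∃ (x y : K) (f : MvPolynomial (Fin 2) k),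
        IntermediateField.adjoin k ({x, y} : Set K) = ⊤ ∧
        (∀ (k' : Type u) [Field k'] [Algebra k k'], FiniteDimensional k k' →
          Irreducible (MvPolynomial.map (algebraMap k k') f)) ∧
        RingHom.ker (MvPolynomial.aeval ![x, y] : MvPolynomial (Fin 2) k →ₐ[k] K) = Ideal.span {f} := by
  constructor
  · rintro ⟨hK, hg⟩
    exact forward k K hK hg
  · rintro ⟨x, y, f, hxy, habs, hker⟩
    exact backward k K x y f hxy habs hker

end Aux

/-- `K/k` is a geometric function field of one variable iff `K = k(x, y)` where the relation ideal of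
`(x, y)` in `k[X, Y]` is generated by an absolutely irreducible polynomial `f`. -/
theorem result (k : Type u) (K : Type v) [Field k] [Field K] [Algebra k K] :
    (FunFld.IsFunctionField k K ∧ FunFld.IsGeometric k K) ↔
      ∃ (x y : K) (f : MvPolynomial (Fin 2) k),
        IntermediateField.adjoin k ({x, y} : Set K) = ⊤ ∧
        (∀ (k' : Type u) [Field k'] [Algebra k k'], FiniteDimensional k k' →
          Irreducible (MvPolynomial.map (algebraMap k k') f)) ∧
        RingHom.ker (MvPolynomial.aeval ![x, y] : MvPolynomial (Fin 2) k →ₐ[k] K) = Ideal.span {f} := by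
  exact Aux.main k K

end Groth.Agent.S11008
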