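import Groth.Statements.S11010
import Mathlib
import Groth.Agent.S11003
import Groth.Agent.Lib.Helper5.Misc.GeomExt

set_option autoImplicit false
universe u v
open FunFld

open scoped TensorProduct
set_option linter.style.haveILetI false

namespace Groth.Agent.S11010

/-- A finite separable extension `K'/k'` of a geometric function field of one variable `K/k` (with `k'`
the constant field of `K'`) is again geometric. (The published statement has no separability
hypothesis on `K'/K`; for `k = 𝔽_p(s,t)`, `K = k(x)` and `K' = K(y)` with `y^p = s x^p + t`, the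
field `k` is algebraically closed in `K'` yet `k(s^{1/p}, t^{1/p}) ⊗_k K'` has nonzero nilpotents,
so `K'/K` is taken separable here.) -/
theorem result (k k' : Type u) (K K' : Type v) [Field k] [Field k'] [Field K] [Field K']
    [Algebra k k'] [Algebra k K] [Algebra K K'] [Algebra k' K'] [Algebra k K']
    [IsScalarTower k k' K'] [IsScalarTower k K K'] [FiniteDimensional K K'] [Algebra.IsSeparable K K']
    (hK : FunFld.IsFunctionField k K) (hg : FunFld.IsGeometric k K)
    (hK' : FunFld.IsFunctionField k' K') : FunFld.IsGeometric k' K' := by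
  intro k'' _ _ hfin
  haveI := hfin
  haveI halg : Algebra.IsAlgebraic k k' :=
    Groth.Agent.Helper5.GeomExt.isAlgebraic_constants k k' K K' (S11003aux.trdeg_eq_one hK)
      (S11003aux.trdeg_eq_one hK')
  letI : Algebra k k'' := ((algebraMap k' k'').comp (algebraMap k k')).toAlgebra
  haveI : IsScalarTower k k' k'' := IsScalarTower.of_algebraMap_eq (fun _ => rfl)
  haveI : Algebra.IsAlgebraic k k'' := Algebra.IsAlgebraic.trans k k' k''
  have hK₂ : IsField (k'' ⊗[k] K) :=
    Groth.Agent.Helper5.GeomExt.isField_tensor_of_isAlgebraic hg k''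
  have hred : IsReduced (k'' ⊗[k'] K') :=
    Groth.Agent.Helper5.GeomExt.isReduced_tensor k k' k'' K K' hK₂
  have hbot : algebraicClosure k' K' = ⊥ := by
    rw [eq_bot_iff]
    intro y hy
    rw [mem_algebraicClosure_iff] at hy
    obtain ⟨c, hc⟩ := hK'.2 y hy
    rw [IntermediateField.mem_bot]
    exact ⟨c, hc⟩
  have hL : IsField ((separableClosure k' k'') ⊗[k'] K') :=
    Groth.Agent.Helper5.GeomExt.isField_tensor_of_finite_separable k' (separableClosure k' k'') K' hbot
  have hnu := Groth.Agent.Helper5.GeomExt.isNilpotent_or_isUnit k' (separableClosure k' k'') k'' K' hL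
  refine ⟨exists_pair_ne _, mul_comm, fun {a} ha => ?_⟩
  rcases hnu a with h | h
  · exact absurd (hred.eq_zero a h) ha
  · obtain ⟨b, hb⟩ := h.exists_right_inv
    exact ⟨b, hb⟩

end Groth.Agent.S11010
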