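import Groth.Statements.S11011
import Mathlib
import Groth.Prelude.Def_W4bk4goldsch23FF
import Groth.Prelude.Def_W4bk4goldsch23Ext
import Groth.Agent.Lib.Helper9.FFExt.ConstExt8
-- import your own Groth.Agent.* helpers here

set_option autoImplicit false
universe u v
open FunFld

namespace Groth.Agent.S11011

open FunFld
open Groth.Agent.Lib.Helper4.FF Groth.Agent.Helper9.FFExt
namespace Aux

theorem main (k k' : Type u) (K K' : Type v) [Field k] [Field k'] [Field K] [Field K']
    [Algebra k k'] [FiniteDimensional k k'] [Algebra k K] [Algebra K K'] [Algebra k' K'] [Algebra k K']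
    [IsScalarTower k k' K'] [IsScalarTower k K K']
    (h : Function.Bijective (Algebra.TensorProduct.productMap
      (IsScalarTower.toAlgHom k k' K') (IsScalarTower.toAlgHom k K K')))
    (hK : FunFld.IsFunctionField k K) (P : FunFld.Place k K)
    (hpi : IsPurelyInseparable k k' ∨ IsPurelyInseparable k (IsLocalRing.ResidueField P.O)) :
    ∃! Q : FunFld.Place k K', FunFld.IsOver Q P := by
  have hfin := finite_of_bij h
  have hkQ : ∀ (Q : Place k K') (c : k'), Q.1 (algebraMap k' K' c) ≤ 1 := fun Q c =>
    val_le_one_of_isAlgebraic Q ((Algebra.IsAlgebraic.isAlgebraic c).algebraMap)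
  obtain ⟨Q, hQ⟩ := exists_over_w (K' := K') hK.1 P
  refine ⟨Q, hQ, fun Q' hQ' => ?_⟩
  rcases hpi with hpi | hpi
  · exact unique_over_of_pi h hQ' hQ
  · let E := separableClosure k k'
    refine unique_over_of_resIndep h E (fun Q₁ hQ₁ => ?_) hQ' hQ
    have hpi' : @IsPurelyInseparable k (IsLocalRing.ResidueField P.O) _ _
        (resConstAlg P P.2.1) := hpi
    refine resIndep_of_pi_sep hQ₁ P.2.1 (hkQ Q₁) hpi' _ ?_ ?_
    · exact (Module.finBasis k E).linearIndependent.map' E.val.toLinearMap
        (LinearMap.ker_eq_bot.mpr E.val.injective)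
    · intro i
      exact mem_separableClosure_iff.mp (Module.finBasis k E i).2

end Aux

/-- For a place `P` of a geometric function field of one variable `K/k` and a finite extension `k'/k`
with either `k'/k` or `F_P/k` purely inseparable, `P` has exactly one place of `k' ⊗_k K` above it. -/
theorem result (k k' : Type u) (K K' : Type v) [Field k] [Field k'] [Field K] [Field K']
    [Algebra k k'] [FiniteDimensional k k'] [Algebra k K] [Algebra K K'] [Algebra k' K'] [Algebra k K']
    [IsScalarTower k k' K'] [IsScalarTower k K K']
    (h : Function.Bijective (Algebra.TensorProduct.productMap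
      (IsScalarTower.toAlgHom k k' K') (IsScalarTower.toAlgHom k K K')))
    (hK : FunFld.IsFunctionField k K) (hg : FunFld.IsGeometric k K) (P : FunFld.Place k K)
    (hpi : IsPurelyInseparable k k' ∨ IsPurelyInseparable k (IsLocalRing.ResidueField P.O)) :
    ∃! Q : FunFld.Place k K', FunFld.IsOver Q P := by
  exact Aux.main k k' K K' h hK P hpi

end Groth.Agent.S11011
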