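import Groth.Statements.S11014
import Mathlib
import Groth.Prelude.Def_W4bk4goldsch23Ext
import Groth.Agent.Lib.Helper9.FFExt.Hyper
-- import your own Groth.Agent.* helpers here

set_option autoImplicit false
open FunFld

namespace Groth.Agent.S11014

namespace Aux

open FunFld WithZero Polynomial IntermediateField
open Groth.Agent.Lib.Helper4.FF Groth.Agent.Helper9.FFExt Groth.Agent.Helper9.Hyper

/-- degree 2 from generation -/
theorem finrank_eq_two {k K : Type*} [Field k] [Field K] [Algebra k K] [Algebra (RatFunc k) K]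
    [IsScalarTower k (RatFunc k) K] (y : K)
    (hxy : IntermediateField.adjoin k ({algebraMap (RatFunc k) K RatFunc.X, y} : Set K) = ⊤)
    (f : Polynomial k) (hf : Squarefree f) (hd : 1 ≤ f.natDegree)
    (heq : y ^ 2 = algebraMap (RatFunc k) K (algebraMap k[X] (RatFunc k) f)) :
    Module.finrank (RatFunc k) K = 2 := by
  have hy := y_notMem y f hf hd heq
  have htop : (RatFunc k)⟮y⟯ = ⊤ := by
    have h1 : (IntermediateField.restrictScalars k ((RatFunc k)⟮y⟯) : IntermediateField k K) = ⊤ := by
      rw [eq_top_iff, ← hxy, IntermediateField.adjoin_le_iff]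
      rintro z (rfl | rfl)
      · exact IntermediateField.algebraMap_mem ((RatFunc k)⟮y⟯) _
      · exact IntermediateField.mem_adjoin_simple_self (RatFunc k) z
    exact IntermediateField.restrictScalars_eq_top_iff.mp h1
  set g : (RatFunc k)[X] := X ^ 2 - C (algebraMap k[X] (RatFunc k) f) with hg
  have hgm : g.Monic := by
    rw [hg]
    monicity!
  have hgdeg : g.natDegree = 2 := by
    rw [hg]
    compute_degree!
  have hroot : aeval y g = 0 := by
    rw [hg]
    simp only [map_sub, map_pow, aeval_X, aeval_C]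
    rw [heq, sub_self]
  have hyint : IsIntegral (RatFunc k) y := ⟨g, hgm, hroot⟩
  have hmin2 : 2 ≤ (minpoly (RatFunc k) y).natDegree := (minpoly.two_le_natDegree_iff hyint).mpr hy
  have hdvd : minpoly (RatFunc k) y ∣ g := minpoly.dvd _ _ hroot
  have hmeq : minpoly (RatFunc k) y = g :=
    (Polynomial.eq_of_monic_of_dvd_of_natDegree_le (minpoly.monic hyint) hgm hdvd (by
      rw [hgdeg]; exact hmin2)).symm
  have h1 := IntermediateField.adjoin.finrank hyint
  rw [hmeq, hgdeg, htop, IntermediateField.finrank_top'] at h1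
  exact h1

theorem main (k K : Type*) [Field k] [Field K] [Algebra k K]
    (hK : FunFld.IsFunctionField k K) (h2 : ringChar k ≠ 2) (x y : K) (hx : Transcendental k x)
    (hxy : IntermediateField.adjoin k ({x, y} : Set K) = ⊤)
    (f : Polynomial k) (hf : Squarefree f) (hd : 1 ≤ f.natDegree)
    (heq : y ^ 2 = Polynomial.aeval x f) :
    FunFld.genus k K = (f.natDegree - 1) / 2 := by
  let e := RatFunc.algEquivOfTranscendental x hx
  let ψ : RatFunc k →ₐ[k] K := (k⟮x⟯.val).comp e.toAlgHom
  let _ : Algebra (RatFunc k) K := ψ.toRingHom.toAlgebra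
  have : IsScalarTower k (RatFunc k) K :=
    IsScalarTower.of_algebraMap_eq (fun c => (ψ.commutes c).symm)
  have hX : algebraMap (RatFunc k) K RatFunc.X = x := by
    change ψ RatFunc.X = x
    change ((e RatFunc.X : k⟮x⟯) : K) = x
    rw [RatFunc.algEquivOfTranscendental_X]
  have hpoly : ∀ q : k[X], algebraMap (RatFunc k) K (algebraMap k[X] (RatFunc k) q) = aeval x q := by
    intro q
    rw [← aeval_x, hX]
  have heq' : y ^ 2 = algebraMap (RatFunc k) K (algebraMap k[X] (RatFunc k) f) := by
    rw [hpoly, heq]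
  have hdeg : Module.finrank (RatFunc k) K = 2 :=
    finrank_eq_two y (by rw [hX]; exact hxy) f hf hd heq'
  exact genus_eq hK (Ring.two_ne_zero h2) hdeg y f hf hd heq'

end Aux

/-- For `char k ≠ 2` and `K = k(x, y)` with `y² = f(x)`, `f` squarefree of degree `d ≥ 1`, the genus is
`(d - 2)/2` for `d` even and `(d - 1)/2` for `d` odd. -/
theorem result (k K : Type*) [Field k] [Field K] [Algebra k K]
    (hK : FunFld.IsFunctionField k K) (h2 : ringChar k ≠ 2) (x y : K) (hx : Transcendental k x)
    (hxy : IntermediateField.adjoin k ({x, y} : Set K) = ⊤)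
    (f : Polynomial k) (hf : Squarefree f) (hd : 1 ≤ f.natDegree)
    (heq : y ^ 2 = Polynomial.aeval x f) :
    FunFld.genus k K = (f.natDegree - 1) / 2 := by
  exact Aux.main k K hK h2 x y hx hxy f hf hd heq

end Groth.Agent.S11014
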