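import Groth.Statements.S11019
import Mathlib

set_option autoImplicit false
open FunFld

open Polynomial IntermediateField

namespace S11019aux

variable {k K : Type*} [Field k] [Field K] [Algebra k K]

/-- `k` is algebraically closed in `k(x)` for `x` transcendental. -/
theorem mem_range_of_mem_adjoin (x : K) (hx : Transcendental k x) (a : K) (ha : a ∈ k⟮x⟯)
    (halg : IsAlgebraic k a) : a ∈ Set.range (algebraMap k K) := by
  let e := RatFunc.algEquivOfTranscendental x hx
  have h1 : IsAlgebraic k (⟨a, ha⟩ : k⟮x⟯) :=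
    (isAlgebraic_algHom_iff (k⟮x⟯.val) (Subtype.val_injective) (a := (⟨a, ha⟩ : k⟮x⟯))).1 halg
  have h2 : IsAlgebraic k (e.symm ⟨a, ha⟩) := h1.algHom (e.symm : k⟮x⟯ →ₐ[k] RatFunc k)
  by_contra hne
  have h3 : ¬ ∃ c, e.symm ⟨a, ha⟩ = RatFunc.C c := by
    rintro ⟨c, hc⟩
    apply hne
    refine ⟨c, ?_⟩
    have h4 : (⟨a, ha⟩ : k⟮x⟯) = e (RatFunc.C c) := by rw [← hc, e.apply_symm_apply]
    have h5 : e (RatFunc.C c) = algebraMap k k⟮x⟯ c := by
      rw [← RatFunc.algebraMap_eq_C]; exact e.commutes c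
    rw [h5] at h4
    exact (congrArg Subtype.val h4).symm
  exact RatFunc.transcendental_of_ne_C _ h3 h2

theorem not_sq_mul (x : K) (hx : Transcendental k x) (f : k[X]) (hf : Squarefree f)
    (hd : 1 ≤ f.natDegree) (b : K) (hb : b ∈ k⟮x⟯) (hb0 : b ≠ 0) (c : k)
    (h : b ^ 2 * aeval x f = algebraMap k K c) : False := by
  let e := RatFunc.algEquivOfTranscendental x hx
  set r := e.symm ⟨b, hb⟩ with hr
  have hf0 : f ≠ 0 := by rintro rfl; simp at hd
  have hfx : aeval x f ≠ 0 := fun h0 => hx ⟨f, hf0, h0⟩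
  have hc0 : c ≠ 0 := by
    rintro rfl
    rw [map_zero] at h
    exact mul_ne_zero (pow_ne_zero 2 hb0) hfx h
  have hrel : r ^ 2 * algebraMap k[X] (RatFunc k) f = RatFunc.C c := by
    apply e.injective
    apply Subtype.val_injective
    rw [map_mul, map_pow, hr, e.apply_symm_apply, RatFunc.algEquivOfTranscendental_algebraMap,
      ← RatFunc.algebraMap_eq_C, e.commutes]
    simpa using h
  have hr0 : r ≠ 0 := by
    intro h0
    rw [h0] at hrel
    simp only [ne_eq, OfNat.ofNat_ne_zero, not_false_eq_true, zero_pow, zero_mul] at hrel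
    exact hc0 ((map_eq_zero _).1 hrel.symm)
  -- s = r⁻¹ satisfies s^2 = algebraMap (C c⁻¹ * f)
  have hs : (r⁻¹) ^ 2 = algebraMap k[X] (RatFunc k) (C c⁻¹ * f) := by
    rw [map_mul, inv_pow]
    have hCc : algebraMap k[X] (RatFunc k) (C c⁻¹) = (RatFunc.C c)⁻¹ := by
      rw [← map_inv₀]; rfl
    have hfa : algebraMap k[X] (RatFunc k) f ≠ 0 := by
      intro h0
      rw [h0, mul_zero] at hrel
      exact hc0 ((map_eq_zero _).1 hrel.symm)
    rw [hCc, ← hrel]
    field_simp
  obtain ⟨s₀, hs₀⟩ := IsIntegrallyClosed.exists_algebraMap_eq_of_isIntegral_pow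
    (R := k[X]) (K := RatFunc k) (x := r⁻¹) (n := 2) (by norm_num)
    (by rw [hs]; exact isIntegral_algebraMap)
  have hs₁ : s₀ ^ 2 = C c⁻¹ * f := by
    apply IsFractionRing.injective k[X] (RatFunc k)
    rw [map_pow, hs₀, hs]
  have hfeq : f = C c * (s₀ * s₀) := by
    rw [← pow_two, hs₁, ← mul_assoc, ← C_mul, mul_inv_cancel₀ hc0, C_1, one_mul]
  have hunit : IsUnit s₀ := hf s₀ ⟨C c, by rw [hfeq]; ring⟩
  have hdeg : f.natDegree = 0 := by
    rw [hfeq, natDegree_C_mul hc0, natDegree_mul', natDegree_eq_zero_of_isUnit hunit]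
    exact mul_ne_zero (leadingCoeff_ne_zero.2 hunit.ne_zero) (leadingCoeff_ne_zero.2 hunit.ne_zero)
  omega

end S11019aux

namespace Groth.Agent.S11019

/-- For `char k ≠ 2` and `K = k(x, y)` with `x` transcendental and `y² = f(x)`, `f` squarefree of degree
`≥ 1`: the field `k` is algebraically closed in `K` (whatever in `K` is algebraic over `k` lies in
`k`), and `K/k` is a function field of one variable. -/
theorem result (k K : Type*) [Field k] [Field K] [Algebra k K] (h2 : ringChar k ≠ 2) (x y : K) (hx : Transcendental k x)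
    (hxy : IntermediateField.adjoin k ({x, y} : Set K) = ⊤)
    (f : Polynomial k) (hf : Squarefree f) (hd : 1 ≤ f.natDegree)
    (heq : y ^ 2 = Polynomial.aeval x f) : FunFld.IsFunctionField k K := by
  classical
  have htop : (k⟮x⟯)⟮y⟯ = ⊤ := by
    rw [← IntermediateField.restrictScalars_eq_top_iff (K := k),
      IntermediateField.adjoin_simple_adjoin_simple]
    exact hxy
  set φF : k⟮x⟯ := aeval (AdjoinSimple.gen k x) f with hφF
  have hφ : ((φF : k⟮x⟯) : K) = aeval x f := AdjoinSimple.coe_aeval_gen_apply (F := k) (α := x) f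
  have hy2 : y ^ 2 = algebraMap k⟮x⟯ K φF := heq.trans hφ.symm
  have hyint : IsIntegral k⟮x⟯ y :=
    ⟨X ^ 2 - C φF, monic_X_pow_sub_C _ (by norm_num), by simp [hy2]⟩
  have hfin : FiniteDimensional k⟮x⟯ K := by
    have h1 : FiniteDimensional k⟮x⟯ (k⟮x⟯)⟮y⟯ := IntermediateField.adjoin.finiteDimensional hyint
    rw [htop] at h1
    exact Module.Finite.equiv (IntermediateField.topEquiv (F := k⟮x⟯) (E := K)).toLinearEquiv
  have h2K : (2 : K) ≠ 0 := by
    have : (2 : k) ≠ 0 := Ring.two_ne_zero h2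
    intro h0
    apply this
    apply (algebraMap k K).injective
    rw [map_ofNat, h0, map_zero]
  refine ⟨⟨x, hx, hfin⟩, ?_⟩
  intro z hz
  by_cases hyF : y ∈ k⟮x⟯
  · -- K = k(x)
    have hKF : k⟮x⟯ = ⊤ := by
      rw [eq_top_iff, ← hxy, IntermediateField.adjoin_le_iff]
      rintro w (rfl | rfl)
      · exact IntermediateField.mem_adjoin_simple_self k _
      · exact hyF
    exact S11019aux.mem_range_of_mem_adjoin x hx z (hKF ▸ IntermediateField.mem_top) hz
  · -- degree 2 case
    have hirr : Irreducible (X ^ 2 - C φF : (k⟮x⟯)[X]) := by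
      refine X_pow_sub_C_irreducible_of_prime Nat.prime_two ?_
      intro b hb
      apply hyF
      have h3 : ((b : k⟮x⟯) : K) ^ 2 = y ^ 2 := by
        rw [hy2, ← hb]
        rfl
      rcases sq_eq_sq_iff_eq_or_eq_neg.1 h3 with h4 | h4
      · rw [← h4]; exact b.2
      · have : y = -(b : K) := by rw [h4, neg_neg]
        rw [this]; exact neg_mem b.2
    have hmin : minpoly k⟮x⟯ y = X ^ 2 - C φF := by
      refine (minpoly.eq_of_irreducible_of_monic hirr (by simp [hy2])
        (monic_X_pow_sub_C _ (by norm_num))).symm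
    have hadj : Algebra.adjoin k⟮x⟯ {y} = ⊤ := by
      rw [← IntermediateField.adjoin_simple_toSubalgebra_of_isAlgebraic hyint.isAlgebraic, htop,
        IntermediateField.top_toSubalgebra]
    let pb : PowerBasis k⟮x⟯ K := PowerBasis.ofAdjoinEqTop hyint hadj
    have hgen : pb.gen = y := PowerBasis.ofAdjoinEqTop_gen hyint hadj
    have hdim : pb.dim = 2 := by
      rw [PowerBasis.ofAdjoinEqTop_dim hyint hadj, hmin]
      exact natDegree_X_pow_sub_C
    -- the conjugation
    let σ : K →ₐ[k⟮x⟯] K := pb.lift (-y) (by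
      rw [hgen, hmin]
      simp [hy2])
    have hσy : σ y = -y := by
      calc σ y = σ pb.gen := by rw [hgen]
        _ = -y := pb.lift_gen _ _
    -- decomposition
    obtain ⟨g, hgdeg, hzg⟩ := pb.exists_eq_aeval z
    rw [hdim] at hgdeg
    rw [hgen] at hzg
    have hg : g = C (g.coeff 1) * X + C (g.coeff 0) :=
      Polynomial.eq_X_add_C_of_natDegree_le_one (by omega)
    set a : k⟮x⟯ := g.coeff 0 with ha
    set b : k⟮x⟯ := g.coeff 1 with hb
    have hzd : z = (b : K) * y + (a : K) := by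
      rw [hzg, hg]
      simp
    have hσz : σ z = -((b : K) * y) + (a : K) := by
      rw [hzd, map_add, map_mul, hσy]
      have h1 : σ (b : K) = (b : K) := σ.commutes b
      have h3 : σ (a : K) = (a : K) := σ.commutes a
      rw [h1, h3]
      ring
    have hσalg : IsAlgebraic k (σ z) := hz.algHom (σ.restrictScalars k)
    -- a ∈ k
    have ha_alg : IsAlgebraic k (a : K) := by
      have h1 : IsAlgebraic k (z + σ z) := hz.add hσalg
      have h3 : z + σ z = 2 * (a : K) := by rw [hσz, hzd]; ring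
      rw [h3] at h1
      have h4 : IsAlgebraic k ((2 : K)⁻¹ * (2 * (a : K))) := by
        have : IsAlgebraic k ((2 : K)⁻¹) := by
          have : (2 : K)⁻¹ = algebraMap k K (2⁻¹) := by rw [map_inv₀, map_ofNat]
          rw [this]; exact isAlgebraic_algebraMap _
        exact this.mul h1
      rwa [inv_mul_cancel_left₀ h2K] at h4
    obtain ⟨a₀, ha₀⟩ := S11019aux.mem_range_of_mem_adjoin x hx (a : K) a.2 ha_alg
    -- b y algebraic, so b^2 f ∈ k
    have hby_alg : IsAlgebraic k ((b : K) * y) := by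
      have : (b : K) * y = z - (a : K) := by rw [hzd]; ring
      rw [this]
      exact hz.sub ha_alg
    have hb2_alg : IsAlgebraic k ((b : K) ^ 2 * aeval x f) := by
      have : (b : K) ^ 2 * aeval x f = ((b : K) * y) ^ 2 := by rw [mul_pow, heq]
      rw [this]
      exact hby_alg.pow 2
    have hb2_mem : (b : K) ^ 2 * aeval x f ∈ k⟮x⟯ := by
      rw [← hφ]
      exact mul_mem (pow_mem b.2 2) φF.2
    obtain ⟨c, hc⟩ := S11019aux.mem_range_of_mem_adjoin x hx _ hb2_mem hb2_alg
    by_cases hb0 : (b : K) = 0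
    · refine ⟨a₀, ?_⟩
      rw [hzd, hb0, zero_mul, zero_add, ha₀]
    · exact (S11019aux.not_sq_mul x hx f hf hd (b : K) b.2 hb0 c hc.symm).elim

end Groth.Agent.S11019
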