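import Groth.Statements.S11020
import Mathlib
import Groth.Prelude.Def_W4bk4goldsch23FF
import Groth.Agent.Lib.Helper9.FFExt.Ramified
-- import your own Groth.Agent.* helpers here

set_option autoImplicit false
open FunFld

namespace Groth.Agent.S11020

open FunFld WithZero
open Groth.Agent.Lib.Helper4.FF Groth.Agent.Helper9.FFExt
namespace Aux

theorem main (k K K' : Type*) [Field k] [Field K] [Field K'] [Algebra k K] [Algebra K K'] [Algebra k K']
    [IsScalarTower k K K'] [FiniteDimensional K K'] (hK : FunFld.IsFunctionField k K) [Algebra.IsSeparable K K'] :
    {Q : FunFld.Place k K' | ¬ Function.Surjective (Q.1.comap (algebraMap K K'))}.Finite := by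
  refine (finite_ramified_separable (k := k) (K := K) (K' := K') hK.1).subset ?_
  intro Q hQ
  obtain ⟨P, e, he⟩ := exists_below' (K := K) Q
  refine ⟨P, e, he, ?_⟩
  by_contra hlt
  have hpos := ow_pos he
  have he1 : e = 1 := by omega
  subst he1
  apply hQ
  intro γ
  obtain ⟨x, hx⟩ := P.2.2 γ
  exact ⟨x, by rw [Valuation.comap_apply, he x, pow_one, hx]⟩

end Aux

/-- In a finite separable extension `K'/K` of function fields of one variable, almost all places `Q` of
`K'` have `e(Q|P) = 1` over the place `P` of `K` below. (The published statement also gives
separability of almost all residue extensions `F_Q/F_P`; only the ramification part is stated here.) -/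
theorem result (k K K' : Type*) [Field k] [Field K] [Field K'] [Algebra k K] [Algebra K K'] [Algebra k K']
    [IsScalarTower k K K'] [FiniteDimensional K K'] (hK : FunFld.IsFunctionField k K) [Algebra.IsSeparable K K'] :
    {Q : FunFld.Place k K' | ¬ Function.Surjective (Q.1.comap (algebraMap K K'))}.Finite := by
  exact Aux.main k K K' hK

end Groth.Agent.S11020
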