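import Groth.Statements.S11026
import Mathlib
import Groth.Agent.S11003
import Groth.Agent.Lib.Helper5.Misc.FunFldDiff

set_option autoImplicit false
universe u v
open FunFld

set_option linter.style.haveILetI false
open scoped IntermediateField

namespace Groth.Agent.S11026

/-- A weakly separable finite extension `K'/k'` of a geometric function field `K/k` (the map `Ω_{K/k} →
Ω_{K'/k'}` injective) is separable over the compositum `k'K`. -/
theorem result (k k' : Type u) (K K' : Type v) [Field k] [Field k'] [Field K] [Field K']
    [Algebra k k'] [Algebra k K] [Algebra K K'] [Algebra k' K'] [Algebra k K']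
    [IsScalarTower k k' K'] [IsScalarTower k K K'] [FiniteDimensional K K']
    (hK : FunFld.IsFunctionField k K) (hg : FunFld.IsGeometric k K)
    (hK' : FunFld.IsFunctionField k' K') (hg' : FunFld.IsGeometric k' K')
    (hw : Function.Injective (KaehlerDifferential.map k k' K K')) :
    Algebra.IsSeparable (IntermediateField.adjoin K (Set.range (algebraMap k' K'))) K' := by
  haveI := S11003aux.essFiniteType hK
  haveI := S11003aux.essFiniteType hK'
  have h1 := Groth.Agent.S11003.result k K hK hg
  have h1' := Groth.Agent.S11003.result k' K' hK' hg'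
  obtain ⟨t, ht⟩ := Groth.Agent.Helper5.FunFldDiff.exists_D_ne_zero h1
  have ht' : KaehlerDifferential.D k' K' (algebraMap K K' t) ≠ 0 := by
    rw [← KaehlerDifferential.map_D k k' K K']
    intro h
    apply ht
    apply hw
    rw [h, map_zero]
  haveI := Groth.Agent.Helper5.FunFldDiff.isSeparable_of_D_ne_zero h1' _ ht'
  set E := IntermediateField.adjoin K (Set.range (algebraMap k' K')) with hE
  let E₂ : IntermediateField k' K' := E.toSubfield.toIntermediateField
    (fun c => IntermediateField.subset_adjoin _ _ ⟨c, rfl⟩)
  have hle : k'⟮algebraMap K K' t⟯ ≤ E₂ := by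
    rw [IntermediateField.adjoin_simple_le_iff]
    exact E.algebraMap_mem t
  letI : Algebra k'⟮algebraMap K K' t⟯ E :=
    ((algebraMap k'⟮algebraMap K K' t⟯ K').codRestrict E (fun z => hle z.2)).toAlgebra
  haveI : IsScalarTower k'⟮algebraMap K K' t⟯ E K' := IsScalarTower.of_algebraMap_eq (fun _ => rfl)
  exact Algebra.isSeparable_tower_top_of_isSeparable k'⟮algebraMap K K' t⟯ E K'

end Groth.Agent.S11026
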