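import Groth.Statements.S1103
import Mathlib
import Groth.Agent.Lib.Helper5.Approx.Main

set_option autoImplicit false
universe u
open CategoryTheory CategoryTheory.Limits AlgebraicGeometry
attribute [local instance] HasDerivedCategory.standard
open Perf



namespace Groth.Agent.S1103

/-- Approximation by perfect complexes: let X be a quasi-compact and quasi-separated scheme. For every
closed subset T ⊆ X with quasi-compact complement there is an integer r such that for every m ∈ ℤ
and every E ∈ D(O_X) with quasi-coherent cohomology sheaves which is (m − r)-pseudo-coherent and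
whose cohomology sheaves Hⁱ(E) for i ≥ m − r are supported on T, there exist a perfect object P of
D(O_X) with all cohomology sheaves supported on T and a morphism α : P → E inducing isomorphisms
Hⁱ(P) → Hⁱ(E) for i > m and an epimorphism Hᵐ(P) → Hᵐ(E). -/
theorem result (X : Scheme.{u}) [CompactSpace ↥X] [QuasiSeparatedSpace ↥X]
    (T : Set X) (hT : IsClosed T) (hTc : IsCompact Tᶜ) :
    ∃ r : ℤ, ∀ (m : ℤ) (E : DCoh.D X), DCoh.IsQCohD E → DCoh.IsPseudoCoherentD (m - r) E →
      (∀ i : ℤ, m - r ≤ i → CohB1.support (DCoh.HD E i) ⊆ T) →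
      ∃ (P : DCoh.D X) (α : P ⟶ E), DCoh.IsPerfect P ∧ (∀ i : ℤ, CohB1.support (DCoh.HD P i) ⊆ T) ∧
        (∀ i : ℤ, m < i → IsIso ((DerivedCategory.homologyFunctor X.Modules i).map α)) ∧
        Epi ((DerivedCategory.homologyFunctor X.Modules m).map α) := by
  classical
  let W : X.Opens := ⟨Tᶜ, hT.isOpen_compl⟩
  obtain ⟨r, hr, h⟩ := Groth.Agent.Lib.Helper5.Approx.approxHolds X W hTc
  refine ⟨r, fun m E hE hpc hsupp => ?_⟩
  have hv : Groth.Agent.Lib.Helper5.Approx.VanishGE (m - r) E (W : Set X) := by
    intro x hx n hn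
    by_contra hns
    exact hx (hsupp n hn hns)
  obtain ⟨P, α, hP, hPW, happ⟩ := (h m E hE hpc hv).exists_map
  refine ⟨P, α, hP, ?_, happ.1, happ.2⟩
  intro i x hx
  by_contra hxT
  exact hx (hPW x hxT i)

end Groth.Agent.S1103
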