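import Groth.Statements.S11034
import Mathlib
import Groth.Prelude.Def_W4bk4goldsch23Ext
import Groth.Agent.Lib.Helper9.FFExt.Deg
import Groth.Agent.Lib.Helper9.FFExt.RatPlace
-- import your own Groth.Agent.* helpers here

set_option autoImplicit false
open FunFld

namespace Groth.Agent.S11034

open FunFld WithZero
open Groth.Agent.Lib.Helper4.FF Groth.Agent.Helper9.FFExt
namespace Aux

variable {k K : Type*} [Field k] [Field K] [Algebra k K]
    [Algebra (RatFunc k) K] [IsScalarTower k (RatFunc k) K]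

/-- at a place over a zero of a squarefree `f` with `p ∣ f`, `y² = f` forces `e = 2`, `f = 1` -/
theorem key (hdeg : Module.finrank (RatFunc k) K = 2) (y : K) (f : Polynomial k) (hf : Squarefree f)
    (heq : y ^ 2 = algebraMap (RatFunc k) K (algebraMap (Polynomial k) (RatFunc k) f))
    (p : Polynomial k) (hp : Irreducible p) (hpf : p ∣ f)
    (P₀ : FunFld.Place k (RatFunc k)) (hP₀ : P₀.1 (algebraMap (Polynomial k) (RatFunc k) p) < 1)
    (P : FunFld.Place k K) (hP : IsOver P P₀) :
    IsOverWith P P₀ 2 ∧ P.deg = P₀.deg ∧ P.ord y = 1 := by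
  have hfin : FiniteDimensional (RatFunc k) K :=
    Module.finite_of_finrank_pos (by rw [hdeg]; norm_num)
  have hF : IsFunctionField k (RatFunc k) := isFunctionField_ratFunc
  have he := isOver_isOverWith hP
  set e := ramIdx P P₀ with he_def
  have h1 : P.ord (y ^ 2) = e * 1 := by
    rw [heq, ow_ord_eq he, ord_squarefree P₀ hp hP₀ hf hpf]
  rw [Place.ord_pow] at h1
  have hepos : 0 < e := ow_pos he
  have h2 := ramIdx_mul_deg_le hF hP
  rw [hdeg, ← he_def] at h2
  have h3 := deg_dvd_of_isOver hP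
  have h4 : 0 < P.deg := deg_pos' hF P
  have h5 : 0 < P₀.deg := Place.deg_pos hF P₀
  have h6 : P₀.deg ≤ P.deg := Nat.le_of_dvd h4 h3
  have he2 : 2 ≤ e := by
    have : (2 : ℤ) * P.ord y = e := by push_cast at h1; linarith
    omega
  have he2' : e = 2 := by
    by_contra hne
    have h3e : 3 ≤ e := by omega
    nlinarith
  have hdeg' : P.deg = P₀.deg := by
    rw [he2'] at h2
    omega
  refine ⟨he2' ▸ he, hdeg', ?_⟩
  rw [he2'] at h1
  push_cast at h1
  linarith

theorem main (hdeg : Module.finrank (RatFunc k) K = 2) (y : K) (f : Polynomial k) (hf : Squarefree f)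
    (heq : y ^ 2 = algebraMap (RatFunc k) K (algebraMap (Polynomial k) (RatFunc k) f))
    (p : Polynomial k) (hp : Irreducible p) (hpf : p ∣ f)
    (P₀ : FunFld.Place k (RatFunc k)) (hP₀ : P₀.1 (algebraMap (Polynomial k) (RatFunc k) p) < 1) :
    (∃! P : FunFld.Place k K, FunFld.IsOver P P₀) ∧
    ∀ P : FunFld.Place k K, FunFld.IsOver P P₀ → FunFld.IsOverWith P P₀ 2 ∧ P.deg = P₀.deg := by
  have hfin : FiniteDimensional (RatFunc k) K :=
    Module.finite_of_finrank_pos (by rw [hdeg]; norm_num)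
  have hF : IsFunctionField k (RatFunc k) := isFunctionField_ratFunc
  have hk := fun P hP => key hdeg y f hf heq p hp hpf P₀ hP₀ P hP
  refine ⟨?_, fun P hP => ⟨(hk P hP).1, (hk P hP).2.1⟩⟩
  obtain ⟨P, hP⟩ := exists_over (K' := K) hF P₀
  refine ⟨P, hP, fun P' hP' => ?_⟩
  by_contra hne
  have h1 := ramIdx_mul_deg_add_le hF hP' hP hne
  rw [ramIdx_eq (hk P hP).1, ramIdx_eq (hk P' hP').1, (hk P hP).2.1, (hk P' hP').2.1, hdeg] at h1
  have h5 : 0 < P₀.deg := Place.deg_pos hF P₀
  omega

end Aux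

/-- For `char k ≠ 2` and `K = k(x, y)`, `y² = f(x)` with `f` squarefree, each irreducible factor `p` of
`f` has a unique place `P` of `K` above it, with `e(P|p) = 2`, `f(P|p) = 1` and `deg P = deg p`. The
zero divisor of `y` and the behaviour above the infinite place of `k(x)` are not stated. -/
theorem result (k K : Type*) [Field k] [Field K] (h2 : ringChar k ≠ 2) [Algebra k K]
    [Algebra (RatFunc k) K] [IsScalarTower k (RatFunc k) K]
    (hdeg : Module.finrank (RatFunc k) K = 2) (y : K) (f : Polynomial k) (hf : Squarefree f)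
    (hd : 1 ≤ f.natDegree)
    (heq : y ^ 2 = algebraMap (RatFunc k) K (algebraMap (Polynomial k) (RatFunc k) f))
    (p : Polynomial k) (hp : Irreducible p) (hpf : p ∣ f)
    (P₀ : FunFld.Place k (RatFunc k)) (hP₀ : P₀.1 (algebraMap (Polynomial k) (RatFunc k) p) < 1) :
    (∃! P : FunFld.Place k K, FunFld.IsOver P P₀) ∧
    ∀ P : FunFld.Place k K, FunFld.IsOver P P₀ → FunFld.IsOverWith P P₀ 2 ∧ P.deg = P₀.deg := by
  exact Aux.main hdeg y f hf heq p hp hpf P₀ hP₀

end Groth.Agent.S11034
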