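import Groth.Statements.S11035
import Mathlib
import Groth.Prelude.Def_W4bk4goldsch45
import Groth.Agent.Lib.Helper9.Zeta.CE3
-- import your own Groth.Agent.* helpers here

set_option autoImplicit false
open FunFld

namespace Groth.Agent.S11035

open FunFld
namespace Aux
open Groth.Agent.Lib.Helper4.FF Groth.Agent.Helper9.FFExt Groth.Agent.Helper9.Zeta Polynomial

/-- a monic irreducible polynomial of any positive degree over a finite field -/
theorem exists_irreducible_of_degree (k : Type*) [Field k] [Finite k] (n : ℕ) (hn : 0 < n) :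
    ∃ μ : k[X], μ.Monic ∧ Irreducible μ ∧ μ.natDegree = n := by
  obtain ⟨p, hchar⟩ := CharP.exists k
  have hp : p.Prime := by
    have := Fintype.ofFinite k
    exact CharP.char_is_prime k p
  have := Fact.mk hp
  have : NeZero n := ⟨hn.ne'⟩
  let E := FiniteField.Extension k p n
  obtain ⟨α, hα⟩ := Field.exists_primitive_element k E
  refine ⟨minpoly k α, minpoly.monic (Algebra.IsIntegral.isIntegral α),
    minpoly.irreducible (Algebra.IsIntegral.isIntegral α), ?_⟩
  have h1 := IntermediateField.adjoin.finrank (Algebra.IsIntegral.isIntegral (R := k) α)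
  rw [hα, IntermediateField.finrank_top', FiniteField.finrank_extension] at h1
  exact h1.symm

theorem deg_zsmul' {k K : Type*} [Field k] [Field K] [Algebra k K] (m : ℤ) (D : Divisor k K) :
    (m • D).deg = m * D.deg := by
  rw [← degHom_apply, map_zsmul, degHom_apply, smul_eq_mul]

theorem main (k K : Type*) [Field k] [Finite k] [Field K] [Algebra k K]
    (hK : FunFld.IsFunctionField k K) :
    Function.Surjective (FunFld.Divisor.deg : FunFld.Divisor k K → ℤ) := by
  classical
  -- a place
  obtain ⟨x, hxt, -⟩ := hK.1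
  obtain ⟨P₁, -⟩ := exists_zero hK hxt
  have hP₁ := Place.deg_pos hK P₁
  have hex : ∃ n : ℕ, 0 < n ∧ ∃ D : Divisor k K, D.deg = n :=
    ⟨P₁.deg, hP₁, Finsupp.single P₁ 1, by rw [Divisor.deg_single, one_mul]⟩
  set d := Nat.find hex with hd
  obtain ⟨hd0, D₀, hD₀⟩ := Nat.find_spec hex
  rw [← hd] at hd0 hD₀
  have hdvd : ∀ D : Divisor k K, (d : ℤ) ∣ D.deg := by
    intro D
    by_contra hnd
    have hd0' : (0 : ℤ) < d := by exact_mod_cast hd0
    have h1 : 0 ≤ D.deg % d := Int.emod_nonneg _ hd0'.ne'
    have h2 : D.deg % d < d := Int.emod_lt_of_pos _ hd0'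
    have h3 : D.deg % d ≠ 0 := fun h => hnd (Int.dvd_of_emod_eq_zero h)
    have h4 : (D - (D.deg / d) • D₀).deg = D.deg % d := by
      rw [Divisor.deg_sub, deg_zsmul', hD₀, Int.emod_def]
      ring
    obtain ⟨m, hm⟩ := Int.eq_ofNat_of_zero_le h1
    have hm0 : 0 < m := by
      rcases Nat.eq_zero_or_pos m with h | h
      · rw [h] at hm; exact absurd hm h3
      · exact h
    have hmin := Nat.find_min' hex ⟨hm0, D - (D.deg / d) • D₀, by rw [h4, hm]⟩
    rw [← hd] at hmin
    rw [hm] at h2
    have : m < d := by exact_mod_cast h2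
    omega
  suffices hd1 : d = 1 by
    intro m
    refine ⟨m • D₀, ?_⟩
    rw [deg_zsmul', hD₀, hd1]
    simp
  by_contra hne
  have hd2 : 2 ≤ d := by omega
  -- the constant field extension of degree `d`
  obtain ⟨μ, hmon, hirr, hdeg⟩ := exists_irreducible_of_degree k d hd0
  have hirr' : Irreducible (μ.map (algebraMap k K)) := irreducible_map_of_algClosedIn hK.2 hirr hmon
  have := Fact.mk hirr
  have := Fact.mk hirr'
  letI := ceAlg (K := K) μ
  have htower := ce_tower (K := K) μ
  have hbij := ce_bijective (K := K) μ hmon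
  have hfr : Module.finrank k (AdjoinRoot μ) = d := by
    rw [← hdeg]
    exact (AdjoinRoot.powerBasis hirr.ne_zero).finrank
  have hfin : FiniteDimensional k (AdjoinRoot μ) := (AdjoinRoot.powerBasis hirr.ne_zero).finite
  have hsep : Algebra.IsSeparable k (AdjoinRoot μ) := inferInstance
  apply fks_aux hbij hK (by rw [hfr]; exact hd2) (fun P => ?_) D₀ (by rw [hfr]; exact hD₀)
  rw [hfr]
  have := hdvd (Finsupp.single P 1)
  rw [Divisor.deg_single, one_mul] at this
  exact_mod_cast this

end Aux

/-- Over a finite constant field the degree map on the divisors of a function field of one variable is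
onto the integers. -/
theorem result
    (k K : Type*) [Field k] [Finite k] [Field K] [Algebra k K]
    (hK : FunFld.IsFunctionField k K) :
    Function.Surjective (FunFld.Divisor.deg : FunFld.Divisor k K → ℤ) := by
  exact Aux.main k K hK

end Groth.Agent.S11035
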