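import Groth.Statements.S11037
import Mathlib
import Groth.Agent.Lib.Helper9.Zeta.Zeta2
-- import your own Groth.Agent.* helpers here

set_option autoImplicit false
open FunFld

namespace Groth.Agent.S11037

open FunFld
namespace Aux
open Groth.Agent.Helper9.Zeta Groth.Agent.Lib.Helper4.FF

theorem main
    (k K : Type*) [Field k] [Finite k] [Field K] [Algebra k K]
    (hK : FunFld.IsFunctionField k K) :
    Finite ((FunFld.degHom k K).ker ⧸ (FunFld.prinDivs k K).addSubgroupOf (FunFld.degHom k K).ker) ∧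
    ∀ n : ℕ, 2 * FunFld.genus k K ≤ n + 1 →
      ((∃ D : FunFld.Divisor k K, D.deg = n) →
        ((Nat.card k : ℤ) - 1) * (FunFld.effDivCount k K n : ℤ) =
          (FunFld.classNum k K : ℤ) * ((Nat.card k : ℤ) ^ (n + 1 - FunFld.genus k K) - 1)) ∧
      ((¬ ∃ D : FunFld.Divisor k K, D.deg = n) → FunFld.effDivCount k K n = 0) := by
  refine ⟨finite_Cl0 hK, fun n hn => ⟨?_, ?_⟩⟩
  · rintro ⟨D₀, hD₀⟩
    have h := card_effDiv hK n hn D₀ hD₀
    have hq : 1 ≤ Nat.card k := Nat.card_pos
    have hqm : 1 ≤ Nat.card k ^ (n + 1 - genus k K) := Nat.one_le_pow _ _ hq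
    have h2 := congrArg (Nat.cast : ℕ → ℤ) h
    rw [Nat.cast_mul, Nat.cast_mul, Nat.cast_sub hq, Nat.cast_sub hqm, Nat.cast_pow, Nat.cast_one] at h2
    exact h2
  · intro hno
    unfold effDivCount
    rw [Nat.card_eq_zero]
    left
    constructor
    rintro ⟨D, -, hD⟩
    exact hno ⟨D, hD⟩

end Aux

/-- Over a finite constant field with `q` elements the degree-zero divisor classes modulo principal
divisors form a finite group, of order `h`; and for `n ≥ 2g - 1` the number `a(n)` of effective
divisors of degree `n` is `h (q^(n-g+1) - 1)/(q - 1)` when `n` is the degree of some divisor, and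
`0` otherwise. -/
theorem result
    (k K : Type*) [Field k] [Finite k] [Field K] [Algebra k K]
    (hK : FunFld.IsFunctionField k K) :
    Finite ((FunFld.degHom k K).ker ⧸ (FunFld.prinDivs k K).addSubgroupOf (FunFld.degHom k K).ker) ∧
    ∀ n : ℕ, 2 * FunFld.genus k K ≤ n + 1 →
      ((∃ D : FunFld.Divisor k K, D.deg = n) →
        ((Nat.card k : ℤ) - 1) * (FunFld.effDivCount k K n : ℤ) =
          (FunFld.classNum k K : ℤ) * ((Nat.card k : ℤ) ^ (n + 1 - FunFld.genus k K) - 1)) ∧
      ((¬ ∃ D : FunFld.Divisor k K, D.deg = n) → FunFld.effDivCount k K n = 0) := by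
  exact Aux.main k K hK

end Groth.Agent.S11037
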