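import Groth.Statements.S11041
import Mathlib
import Groth.Prelude.Def_W4bk4goldsch45
import Groth.Agent.Lib.Helper9.HW.HW7
-- import your own Groth.Agent.* helpers here

set_option autoImplicit false
open FunFld

namespace Groth.Agent.S11041

open FunFld
namespace Aux

open Groth.Agent.Helper9.HW Groth.Agent.Helper9.Zeta Polynomial

theorem main (k K : Type*) [Field k] [Finite k] [Field K] [Algebra k K]
    (hK : FunFld.IsFunctionField k K) (p : Polynomial ℤ)
    (hp : (p : PowerSeries ℤ) = FunFld.numerZ k K) (z : ℂ)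
    (hz : (p.map (Int.castRingHom ℂ)).IsRoot z) :
    ‖z‖ ^ 2 * (Nat.card k : ℝ) = 1 := by
  obtain ⟨α, hα, hnorm⟩ := norm_alpha_eq hK
  have h1 : ((p.map (Int.castRingHom ℂ) : ℂ[X]) : PowerSeries ℂ) =
      ((∏ i, (1 - C (α i) * X) : ℂ[X]) : PowerSeries ℂ) := by
    rw [← hα, ← hp, Polynomial.polynomial_map_coe]
  have h2 : p.map (Int.castRingHom ℂ) = ∏ i, (1 - C (α i) * X) := Polynomial.coe_injective ℂ h1
  rw [h2, IsRoot.def, eval_prod, Finset.prod_eq_zero_iff] at hz
  obtain ⟨i, -, hi⟩ := hz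
  rw [eval_sub, eval_one, eval_mul, eval_C, eval_X, sub_eq_zero] at hi
  have h3 : ‖α i‖ * ‖z‖ = 1 := by
    rw [← norm_mul, ← hi, norm_one]
  have hq0 : (0 : ℝ) ≤ (Nat.card k : ℝ) := Nat.cast_nonneg _
  have h4 : Real.sqrt (Nat.card k) ^ 2 = (Nat.card k : ℝ) := Real.sq_sqrt hq0
  rw [hnorm i] at h3
  calc ‖z‖ ^ 2 * (Nat.card k : ℝ) = (Real.sqrt (Nat.card k) * ‖z‖) ^ 2 := by
        rw [mul_pow, h4]; ring
    _ = 1 := by rw [h3, one_pow]

end Aux

/-- The Riemann hypothesis for a function field `K` of one variable over a finite field with `q`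
elements: every complex root `z` of `L_K(t) = (1 - t)(1 - q t) Z_K(t)` satisfies `|z|² q = 1`;
equivalently the reciprocal roots `αᵢ` all have `|αᵢ| = q^{1/2}`. -/
theorem result
    (k K : Type*) [Field k] [Finite k] [Field K] [Algebra k K]
    (hK : FunFld.IsFunctionField k K) (p : Polynomial ℤ)
    (hp : (p : PowerSeries ℤ) = FunFld.numerZ k K) (z : ℂ)
    (hz : (p.map (Int.castRingHom ℂ)).IsRoot z) :
    ‖z‖ ^ 2 * (Nat.card k : ℝ) = 1 := by
  exact Aux.main k K hK p hp z hz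

end Groth.Agent.S11041
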