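import Groth.Statements.S11043
import Mathlib
import Mathlib
import Groth.Agent.Lib.Helper5.Misc.RootsProd

set_option autoImplicit false
open FunFld

open Helper5.S11043 Polynomial Finset

namespace Groth.Agent.S11043

/-- For positive integers `n`, `d` with `e = gcd(n, d)`, in `ℂ[t]` one has `(1 - t^{nd/e})^e = ∏_{θⁿ =
1} (1 - (θ t)^d)`, the product over the complex `n`-th roots of unity. -/
theorem result (n d : ℕ) (hn : 0 < n) (hd : 0 < d) :
    ((1 : Polynomial ℂ) - Polynomial.X ^ (n * d / Nat.gcd n d)) ^ Nat.gcd n d =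
      ∏ θ ∈ Polynomial.nthRootsFinset n (1 : ℂ),
        (1 - Polynomial.C (θ ^ d) * Polynomial.X ^ d) := by
  set e := Nat.gcd n d with he
  have he0 : 0 < e := Nat.gcd_pos_of_pos_left d hn
  obtain ⟨m, hm⟩ : e ∣ n := Nat.gcd_dvd_left n d
  obtain ⟨d', hd'⟩ : e ∣ d := Nat.gcd_dvd_right n d
  have hm0 : 0 < m := by
    rcases Nat.eq_zero_or_pos m with h | h
    · rw [h, mul_zero] at hm; omega
    · exact h
  have hcop : Nat.Coprime d' m := by
    have := Nat.coprime_div_gcd_div_gcd (m := n) (n := d) he0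
    rw [← he] at this
    rw [show n / e = m by rw [hm, Nat.mul_div_cancel_left _ he0],
      show d / e = d' by rw [hd', Nat.mul_div_cancel_left _ he0]] at this
    exact this.symm
  have hξ : IsPrimitiveRoot (Complex.exp (2 * Real.pi * Complex.I / n)) n :=
    Complex.isPrimitiveRoot_exp n hn.ne'
  set ξ := Complex.exp (2 * Real.pi * Complex.I / n) with hξdef
  have hη : IsPrimitiveRoot (ξ ^ d) m := by
    have h1 : IsPrimitiveRoot (ξ ^ e) (n / e) := hξ.pow_of_dvd he0.ne' (Nat.gcd_dvd_left n d)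
    rw [show n / e = m by rw [hm, Nat.mul_div_cancel_left _ he0]] at h1
    have h2 := h1.pow_of_coprime d' hcop
    rwa [← pow_mul, ← hd'] at h2
  have hηC : IsPrimitiveRoot (C (ξ ^ d) : ℂ[X]) m := hη.map_of_injective C_injective
  rw [prod_nthRootsFinset_eq hn hξ (fun θ => (1 : ℂ[X]) - C (θ ^ d) * X ^ d)]
  have h1 : ∀ j, (1 : ℂ[X]) - C ((ξ ^ j) ^ d) * X ^ d = 1 - (C (ξ ^ d)) ^ j * X ^ d := by
    intro j
    rw [← pow_mul, mul_comm j d, pow_mul, C_pow]
  rw [prod_congr rfl (fun j _ => h1 j), hm,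
    prod_range_mul_periodic (fun j => (1 : ℂ[X]) - (C (ξ ^ d)) ^ j * X ^ d) m e
      (fun j => by simp only [pow_add, hηC.pow_eq_one, mul_one]),
    prod_range_one_sub hm0 hηC, ← pow_mul]
  congr 3
  rw [Nat.mul_div_right_comm ⟨m, rfl⟩, Nat.mul_div_cancel_left _ he0, mul_comm]

end Groth.Agent.S11043
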