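import Groth.Statements.S11046
import Mathlib
import Groth.Agent.Lib.Helper4.FF.Gaps3

set_option autoImplicit false
open FunFld

namespace Groth.Agent.S11046

/-- Over an algebraically closed constant field, for a place `P` of a function field of genus `g` and a
natural number `n ≤ 2g - 2` one has `ℓ(nP) ≤ 1 + n/2` (Clifford's bound for multiples of a point). -/
theorem result
    (k K : Type*) [Field k] [IsAlgClosed k] [Field K] [Algebra k K]
    (hK : FunFld.IsFunctionField k K) (P : FunFld.Place k K) (n : ℕ)
    (hn : (n : ℤ) ≤ 2 * (FunFld.genus k K : ℤ) - 2) :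
    2 * FunFld.ell (Finsupp.single P (n : ℤ)) ≤ n + 2 := by
  have hP := Groth.Agent.Lib.Helper4.FF.Place.deg_eq_one hK P
  exact Groth.Agent.Lib.Helper4.FF.two_mul_ell_single_le hK P hP n hn

end Groth.Agent.S11046
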