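import Groth.Statements.S12618
import Mathlib
import Groth.Agent.Lib.Helper9.FFExt.Weier1
import Groth.Agent.Lib.Helper9.FFExt.Weier3
-- import your own Groth.Agent.* helpers here

set_option autoImplicit false
open FunFld

namespace Groth.Agent.S12618

open FunFld
namespace Aux
open Groth.Agent.Helper9.FFExt Groth.Agent.Lib.Helper4.FF WithZero

theorem two_mul_sum (n : ℕ) : 2 * ∑ l : Fin n, (((l : ℕ) : ℤ) + 1) = (n : ℤ) * (n + 1) := by
  induction n with
  | zero => simp
  | succ m ih =>
    rw [Fin.sum_univ_castSucc, mul_add]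
    simp only [Fin.val_last, Fin.val_castSucc]
    rw [ih]
    push_cast
    ring

theorem finrank_id_fieldRange (k K : Type*) [Field k] [Field K] [Algebra k K] :
    Module.finrank (AlgHom.id k K).fieldRange K = 1 := by
  have : (AlgHom.id k K).fieldRange = ⊤ := by
    rw [AlgHom.fieldRange_eq_top]
    exact Function.surjective_id
  rw [this]
  exact IntermediateField.finrank_top

theorem main
    (k K : Type*) [Field k] [IsAlgClosed k] [Field K] [Algebra k K]
    (hK : FunFld.IsFunctionField k K) (hg : 1 < FunFld.genus k K)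
    (hchar : ringChar k = 0 ∨ 2 * FunFld.genus k K - 2 < ringChar k)
    (C : FunFld.Divisor k K) (hC : FunFld.IsCanonical k K C)
    {n : ℕ} (φ : Fin (n + 1) → K) (hφ : LinearIndependent k φ)
    (hspan : Submodule.span k (Set.range φ) = FunFld.L C)
    (s : K) (H : K →ₐ[k] PowerSeries K) (hH : LocRes.IsHasseFamily s H)
    (J : Fin n → ℕ) (hJ : FunFld.IsOrders K (FunFld.hcol (AlgHom.id k K) H φ) J)
    (Φ : FunFld.Place k K → (K →ₐ[k] LaurentSeries k))
    (hΦ : ∀ P : FunFld.Place k K, LocRes.IsExpansionAt P.1 (Φ P)) :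
    (2 * FunFld.genus k K + 2 < Set.ncard {P : FunFld.Place k K | FunFld.wDiv (AlgHom.id k K) H Φ s φ J P ≠ 0} ∧
      ∀ σ : K ≃ₐ[k] K, (∀ P : FunFld.Place k K, FunFld.wDiv (AlgHom.id k K) H Φ s φ J P ≠ 0 →
        FunFld.IsFixedPt (σ : K →ₐ[k] K) P) → σ = AlgEquiv.refl) ∨
    (Set.ncard {P : FunFld.Place k K | FunFld.wDiv (AlgHom.id k K) H Φ s φ J P ≠ 0} = 2 * FunFld.genus k K + 2 ∧
      ∃ x : K, Module.finrank (IntermediateField.adjoin k ({x} : Set K)) K = 2 ∧
        ∀ σ : K ≃ₐ[k] K, (∀ P : FunFld.Place k K, FunFld.wDiv (AlgHom.id k K) H Φ s φ J P ≠ 0 →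
          FunFld.IsFixedPt (σ : K →ₐ[k] K) P) ↔ σ x = x) := by
  classical
  obtain ⟨W, hW⟩ : ∃ W : Divisor k K, W = wDiv (AlgHom.id k K) H Φ s φ J := ⟨_, rfl⟩
  rw [← hW]
  have hset : {P : Place k K | W P ≠ 0} = ↑W.support := by
    ext P
    simp [Finsupp.mem_support_iff]
  rw [hset, Set.ncard_coe_finset]
  have hgen := genus_eq_of_canonical_basis hK hC φ hφ hspan
  have hn : 0 < n := by omega
  obtain ⟨T, hT⟩ : ∃ T : ℤ, T = ∑ l : Fin n, (((l : ℕ) : ℤ) + 1) := ⟨_, rfl⟩
  have h2T : 2 * T = (n : ℤ) * (n + 1) := by rw [hT]; exact two_mul_sum n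
  have hTpos : 0 < T := by
    have : (0 : ℤ) < (n : ℤ) * (n + 1) := by positivity
    omega
  -- local bounds
  have hloc : ∀ P : Place k K, W P ≤ T ∧ (W P = T → ¬ IsGap P 2) := by
    intro P
    have := wDiv_apply_le hK hC φ hφ hspan hchar s H hH J hJ Φ hΦ P
    rw [← hW, ← hT] at this
    exact ⟨this.1, this.2 hn⟩
  -- the degree
  have hJeq : J = fun l : Fin n => (l : ℕ) + 1 := by
    apply orders_eq_classical hK φ hφ ?_ s H hH J hJ
    rcases hchar with h | h
    · exact Or.inl h
    · right
      rw [mapDiv_canonical hK hC φ hφ hspan, deg_canonical hK hC]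
      omega
  have hdegW : W.deg = (2 * (genus k K : ℤ) + 2) * T := by
    have h := (Groth.Agent.S12603.Aux.main k K hK φ hφ (AlgHom.id k K) s H hH J hJ Φ hΦ).2
    rw [← hW, finrank_id_fieldRange, mapDiv_canonical hK hC φ hφ hspan, deg_canonical hK hC, hJeq] at h
    have hsum : ∑ l : Fin n, ((((l : ℕ) + 1 : ℕ) : ℤ)) = T := by
      rw [hT]
      apply Finset.sum_congr rfl
      intro l _
      push_cast
      ring
    rw [hsum, hgen] at h
    rw [h, hgen]
    push_cast
    linear_combination (-2 : ℤ) * h2T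
  have hsumW : ∑ P ∈ W.support, W P = W.deg := by
    unfold Divisor.deg Finsupp.sum
    apply Finset.sum_congr rfl
    intro P _
    change W P = W P * ((P.deg : ℕ) : ℤ)
    rw [Place.deg_eq_one hK P]
    simp
  -- counting
  have hcount : (2 * (genus k K : ℤ) + 2) * T ≤ (W.support.card : ℤ) * T := by
    rw [← hdegW, ← hsumW]
    have := Finset.sum_le_card_nsmul W.support (fun P => W P) T (fun P _ => (hloc P).1)
    rw [nsmul_eq_mul] at this
    exact this
  have hcard : 2 * genus k K + 2 ≤ W.support.card := by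
    have := le_of_mul_le_mul_right hcount hTpos
    exact_mod_cast this
  have hfixed : ∀ σ : K ≃ₐ[k] K, (∀ P : Place k K, W P ≠ 0 → IsFixedPt (σ : K →ₐ[k] K) P) ↔
      ∀ P ∈ W.support, comapPlace σ P = P := by
    intro σ
    constructor
    · intro h P hP
      exact comapPlace_eq_of_fixed σ (h P (Finsupp.mem_support_iff.mp hP))
    · intro h P hP z hz
      have := h P (Finsupp.mem_support_iff.mpr hP)
      have e : P.1 ((σ : K →ₐ[k] K) z) = (comapPlace σ P).1 z := rfl
      rw [e, this]
      exact hz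
  rcases lt_or_eq_of_le hcard with hlt | heq
  · left
    refine ⟨hlt, fun σ hσ => ?_⟩
    exact algEquiv_eq_one_of_fixed hK σ W.support ((hfixed σ).mp hσ) hlt
  · right
    refine ⟨heq.symm, ?_⟩
    -- all points in the support have maximal weight
    have hall : ∀ P ∈ W.support, W P = T := by
      have h1 : ∑ P ∈ W.support, (T - W P) = 0 := by
        rw [Finset.sum_sub_distrib, hsumW, hdegW, Finset.sum_const, nsmul_eq_mul, ← heq]
        push_cast
        ring
      have h2 := (Finset.sum_eq_zero_iff_of_nonneg (fun P _ => sub_nonneg.mpr (hloc P).1)).mp h1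
      intro P hP
      have := h2 P hP
      omega
    have hne : W.support.Nonempty := by
      rw [← Finset.card_pos]
      omega
    obtain ⟨P₀, hP₀⟩ := hne
    have hgap2 : ¬ IsGap P₀ 2 := (hloc P₀).2 (hall P₀ hP₀)
    -- the function with a double pole
    have hne2 : L (Finsupp.single P₀ 2 : Divisor k K) ≠ L (Finsupp.single P₀ 1 : Divisor k K) := by
      intro h
      apply hgap2
      unfold IsGap
      have e1 : ((2 : ℕ) : ℤ) = 2 := by norm_num
      have e2 : (2 : ℤ) - 1 = 1 := by norm_num
      rw [e1, e2]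
      exact h
    obtain ⟨x, hxL, hxnot⟩ := SetLike.exists_of_lt
      (lt_of_le_of_ne (L_single_mono P₀ (show (1 : ℤ) ≤ 2 by norm_num)) (Ne.symm hne2))
    have hx0 : x ≠ 0 := by
      rintro rfl
      exact hxnot (Submodule.zero_mem _)
    have hsingle_nonneg : ∀ m : ℤ, 0 ≤ m → (0 : Divisor k K) ≤ Finsupp.single P₀ m := by
      intro m hm
      rw [← Finsupp.single_zero P₀]
      exact single_le_single P₀ hm
    have hxnc : ∀ c : k, x ≠ algebraMap k K c := by
      rintro c rfl
      exact hxnot (algebraMap_mem_L (hsingle_nonneg 1 (by norm_num)) c)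
    have hxt : Transcendental k x := by
      apply transcendental_of_notMem hK
      rintro ⟨c, hc⟩
      exact hxnc c hc.symm
    have hord : P₀.ord x = -2 := by
      have := ord_eq_of_mem_of_not_mem (n := 1) (by norm_num; exact hxL) hxnot
      rw [this]; norm_num
    have hfin : Module.finrank (IntermediateField.adjoin k ({x} : Set K)) K = 2 := by
      have h1 := deg_poleDiv hK hxt
      rw [poleDiv_eq_single hK (by norm_num) hx0 hxL (by rw [hord]), Divisor.deg_single,
        Place.deg_eq_one hK P₀] at h1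
      have : ((Module.finrank (IntermediateField.adjoin k ({x} : Set K)) K : ℕ) : ℤ) = 2 := by
        rw [← h1]; norm_num
      exact_mod_cast this
    refine ⟨x, hfin, fun σ => ?_⟩
    rw [hfixed σ]
    apply fixes_iff_of_double_pole hK (by omega) P₀ hxL hxnot W.support hP₀ (by omega)
    intro P' hP' hP'0 c hc Q hQ
    by_contra hQP
    have hu0 : x - algebraMap k K c ≠ 0 := fun h => hxnc c (sub_eq_zero.mp h)
    have hu : x - algebraMap k K c ∈ L (Finsupp.single P₀ 2 : Divisor k K) :=
      Submodule.sub_mem _ hxL (algebraMap_mem_L (hsingle_nonneg 2 (by norm_num)) c)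
    have hconst := fun f hf => exists_const_of_two_zeros hK P₀ (Place.deg_eq_one hK P₀) hu0 hu hQP hc hQ
      (f := f) hf
    have hgaps := isGap_of_const P' hconst
    have h0 := wDiv_apply_eq_zero_of_gaps hK hC φ hφ hspan hchar s H hH J hJ Φ hΦ P' hgaps
    rw [← hW] at h0
    exact (Finsupp.mem_support_iff.mp hP') h0

end Aux

/-- Over an algebraically closed constant field of characteristic `0` or greater than `2g - 2`, let `K`
have genus `g > 1` and let the Weierstrass points of `K` be the support of the Weierstrass divisor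
`W(φ)` of the canonical map `φ` (a basis of `L(C)`, `C` canonical; the divisor of `ds` in `W` read
through a family of Laurent expansions). Then either the number of Weierstrass points exceeds `2g +
2` and the automorphism group of `K/k` acts faithfully on them, or that number is exactly `2g + 2`
and the automorphisms fixing all of them are exactly those fixing some `x` with `[K : k(x)] = 2`. -/
theorem result
    (k K : Type*) [Field k] [IsAlgClosed k] [Field K] [Algebra k K]
    (hK : FunFld.IsFunctionField k K) (hg : 1 < FunFld.genus k K)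
    (hchar : ringChar k = 0 ∨ 2 * FunFld.genus k K - 2 < ringChar k)
    (C : FunFld.Divisor k K) (hC : FunFld.IsCanonical k K C)
    {n : ℕ} (φ : Fin (n + 1) → K) (hφ : LinearIndependent k φ)
    (hspan : Submodule.span k (Set.range φ) = FunFld.L C)
    (s : K) (H : K →ₐ[k] PowerSeries K) (hH : LocRes.IsHasseFamily s H)
    (J : Fin n → ℕ) (hJ : FunFld.IsOrders K (FunFld.hcol (AlgHom.id k K) H φ) J)
    (Φ : FunFld.Place k K → (K →ₐ[k] LaurentSeries k))
    (hΦ : ∀ P : FunFld.Place k K, LocRes.IsExpansionAt P.1 (Φ P)) :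
    (2 * FunFld.genus k K + 2 < Set.ncard {P : FunFld.Place k K | FunFld.wDiv (AlgHom.id k K) H Φ s φ J P ≠ 0} ∧
      ∀ σ : K ≃ₐ[k] K, (∀ P : FunFld.Place k K, FunFld.wDiv (AlgHom.id k K) H Φ s φ J P ≠ 0 →
        FunFld.IsFixedPt (σ : K →ₐ[k] K) P) → σ = AlgEquiv.refl) ∨
    (Set.ncard {P : FunFld.Place k K | FunFld.wDiv (AlgHom.id k K) H Φ s φ J P ≠ 0} = 2 * FunFld.genus k K + 2 ∧
      ∃ x : K, Module.finrank (IntermediateField.adjoin k ({x} : Set K)) K = 2 ∧
        ∀ σ : K ≃ₐ[k] K, (∀ P : FunFld.Place k K, FunFld.wDiv (AlgHom.id k K) H Φ s φ J P ≠ 0 →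
          FunFld.IsFixedPt (σ : K →ₐ[k] K) P) ↔ σ x = x) := by
  exact Aux.main k K hK hg hchar C hC φ hφ hspan s H hH J hJ Φ hΦ

end Groth.Agent.S12618
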