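import Groth.Statements.S11048
import Mathlib
import Groth.Agent.Lib.Helper9.FFExt.Weier4
import Groth.Agent.S12618
-- import your own Groth.Agent.* helpers here

set_option autoImplicit false
open FunFld

namespace Groth.Agent.S11048

open FunFld
namespace Aux
open Groth.Agent.Helper9.FFExt Groth.Agent.Lib.Helper4.FF WithZero

/-- the fixed field of a single automorphism -/
def fixedFld {k K : Type*} [Field k] [Field K] [Algebra k K] (ρ : K ≃ₐ[k] K) :
    IntermediateField k K where
  carrier := {z | ρ z = z}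
  mul_mem' := by
    intro a b ha hb
    change ρ (a * b) = a * b
    rw [map_mul, ha, hb]
  add_mem' := by
    intro a b ha hb
    change ρ (a + b) = a + b
    rw [map_add, ha, hb]
  algebraMap_mem' := by
    intro c
    exact ρ.commutes c
  inv_mem' := by
    intro a ha
    change ρ a⁻¹ = a⁻¹
    rw [map_inv₀, ha]

/-- the automorphisms fixing `x`, when `K` is finite over `k(x)`, are finitely many -/
theorem finite_fixing {k K : Type*} [Field k] [Field K] [Algebra k K] (x : K)
    (hfin : 0 < Module.finrank (IntermediateField.adjoin k ({x} : Set K)) K) :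
    {ρ : K ≃ₐ[k] K | ρ x = x}.Finite := by
  have : FiniteDimensional (IntermediateField.adjoin k ({x} : Set K)) K :=
    Module.finite_of_finrank_pos hfin
  have hfix : ∀ ρ : K ≃ₐ[k] K, ρ x = x → ∀ z ∈ IntermediateField.adjoin k ({x} : Set K), ρ z = z := by
    intro ρ hρ z hz
    have hle : IntermediateField.adjoin k ({x} : Set K) ≤ fixedFld ρ := by
      rw [IntermediateField.adjoin_simple_le_iff]
      exact hρ
    exact hle hz
  let f : {ρ : K ≃ₐ[k] K | ρ x = x} → (K ≃ₐ[IntermediateField.adjoin k ({x} : Set K)] K) :=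
    fun ρ => { AlgEquiv.toRingEquiv (ρ : K ≃ₐ[k] K) with
      commutes' := fun z => hfix ρ.1 ρ.2 z.1 z.2 }
  have hf : Function.Injective f := by
    intro ρ₁ ρ₂ h
    apply Subtype.ext
    ext z
    have := congrArg (fun e : (K ≃ₐ[IntermediateField.adjoin k ({x} : Set K)] K) => e z) h
    exact this
  exact Set.finite_coe_iff.mp (Finite.of_injective f hf)

theorem main
    (k K : Type*) [Field k] [IsAlgClosed k] [Field K] [Algebra k K]
    (hK : FunFld.IsFunctionField k K) (hg : 1 < FunFld.genus k K)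
    (hp : ringChar k = 0 ∨ 2 * FunFld.genus k K - 2 < ringChar k) :
    Finite (K ≃ₐ[k] K) := by
  classical
  have hKw := isFFw_of_isFunctionField hK
  have hgeo := isGeometric_of_isAlgClosed k K
  -- the data
  obtain ⟨C, hC⟩ := exists_canonical hK
  have hfinL := L_finite hK C
  have hellC := ell_canonical hK hC
  obtain ⟨n, hn⟩ : ∃ n : ℕ, genus k K = n + 1 := ⟨genus k K - 1, by omega⟩
  have hrank : Module.finrank k (L C) = n + 1 := by
    change ell C = _
    rw [hellC, hn]
  let b := (Module.finBasis k (L C)).reindex (finCongr hrank)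
  obtain ⟨φ, hφdef⟩ : ∃ φ : Fin (n + 1) → K, φ = fun i => ((b i : L C) : K) := ⟨_, rfl⟩
  have hφ : LinearIndependent k φ := by
    rw [hφdef]
    exact b.linearIndependent.map' (L C).subtype (Submodule.ker_subtype _)
  have hspan : Submodule.span k (Set.range φ) = L C := by
    have h1 : Set.range φ = (L C).subtype '' Set.range b := by
      rw [hφdef, ← Set.range_comp]
      rfl
    rw [h1, ← Submodule.map_span, b.span_eq, Submodule.map_subtype_top]
  have hΦex : ∀ P : Place k K, ∃ ε : K →ₐ[k] LaurentSeries k, LocRes.IsExpansionAt P.1 ε := by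
    intro P
    obtain ⟨t, ht⟩ := Place.exists_uniformizer P
    obtain ⟨ε, hε, -, -⟩ := exists_expansion_of_deg_one P (Place.deg_eq_one hK P) t ht
    exact ⟨ε, hε⟩
  choose Φ hΦ using hΦex
  obtain ⟨x₀, hx₀t, -⟩ := hK.1
  obtain ⟨P₁, -⟩ := exists_zero hK hx₀t
  obtain ⟨s, hs⟩ := Place.exists_uniformizer P₁
  have hDs : KaehlerDifferential.D k K s ≠ 0 :=
    D_ne_zero_of_vDiff (Φ P₁) (Groth.Agent.S12610.Aux.vDiff_param P₁ (Φ P₁) (hΦ P₁) s hs)
  have hst := transcendental_of_D_ne_zero hK hDs
  obtain ⟨H, hH⟩ := exists_hasse hKw hgeo hDs hst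
  obtain ⟨J, hJ, -⟩ := exists_isOrders_det_ne_zero hK hgeo hH hφ (AlgHom.id k K)
  obtain ⟨W, hW⟩ : ∃ W : Divisor k K, W = wDiv (AlgHom.id k K) H Φ s φ J := ⟨_, rfl⟩
  have hdich := Groth.Agent.S12618.Aux.main k K hK hg hp C hC φ hφ hspan s H hH J hJ Φ hΦ
  rw [← hW] at hdich
  -- the support is invariant
  have hWP : ∀ P : Place k K, W P = 0 ↔ ∀ m : ℕ, 1 ≤ m → m ≤ genus k K → IsGap P m := by
    intro P
    rw [hW]
    exact wDiv_apply_eq_zero_iff hK hC φ hφ hspan hp s H hH J hJ Φ hΦ P
  have hinv : ∀ (σ : K ≃ₐ[k] K) (P : Place k K), P ∈ W.support → comapPlace σ P ∈ W.support := by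
    intro σ P hP
    rw [Finsupp.mem_support_iff] at hP ⊢
    intro h0
    apply hP
    rw [hWP] at h0 ⊢
    intro m hm1 hmg
    exact (isGap_comapPlace σ P m).mp (h0 m hm1 hmg)
  -- the kernel of the action on the support is finite
  have hfixed : ∀ σ : K ≃ₐ[k] K, (∀ P : Place k K, W P ≠ 0 → IsFixedPt (σ : K →ₐ[k] K) P) ↔
      ∀ P ∈ W.support, comapPlace σ P = P := by
    intro σ
    constructor
    · intro h P hP
      exact comapPlace_eq_of_fixed σ (h P (Finsupp.mem_support_iff.mp hP))
    · intro h P hP z hz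
      have := h P (Finsupp.mem_support_iff.mpr hP)
      have e : P.1 ((σ : K →ₐ[k] K) z) = (comapPlace σ P).1 z := rfl
      rw [e, this]
      exact hz
  have hker : {ρ : K ≃ₐ[k] K | ∀ P ∈ W.support, comapPlace ρ P = P}.Finite := by
    rcases hdich with ⟨-, h⟩ | ⟨-, x, hx, h⟩
    · apply (Set.finite_singleton (1 : K ≃ₐ[k] K)).subset
      intro ρ hρ
      exact h ρ ((hfixed ρ).mpr hρ)
    · apply (finite_fixing x (by omega)).subset
      intro ρ hρ
      exact (h ρ).mp ((hfixed ρ).mpr hρ)
  -- the action on the support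
  let f : (K ≃ₐ[k] K) → (W.support → W.support) := fun σ P => ⟨comapPlace σ P.1, hinv σ P.1 P.2⟩
  rw [← Set.finite_univ_iff]
  apply Set.Finite.of_finite_fibers f (Set.toFinite _)
  rintro _ ⟨τ, -, rfl⟩
  have hsub : Set.univ ∩ f ⁻¹' {f τ} ⊆
      (fun ρ => ρ * τ) '' {ρ : K ≃ₐ[k] K | ∀ P ∈ W.support, comapPlace ρ P = P} := by
    rintro σ ⟨-, hσ⟩
    rw [Set.mem_preimage, Set.mem_singleton_iff] at hσ
    refine ⟨σ * τ⁻¹, ?_, by group⟩
    intro P hP
    rw [comapPlace_mul]
    have h1 : comapPlace σ P = comapPlace τ P := by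
      have := congrFun hσ ⟨P, hP⟩
      exact congrArg Subtype.val this
    rw [h1]
    exact comapPlace_comapPlace_symm τ P
  exact (hker.image _).subset hsub

end Aux

/-- Over an algebraically closed constant field of characteristic `0` or greater than `2g - 2`, a
function field of one variable of genus `g > 1` has only finitely many automorphisms over the
constants. -/
theorem result
    (k K : Type*) [Field k] [IsAlgClosed k] [Field K] [Algebra k K]
    (hK : FunFld.IsFunctionField k K) (hg : 1 < FunFld.genus k K)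
    (hp : ringChar k = 0 ∨ 2 * FunFld.genus k K - 2 < ringChar k) :
    Finite (K ≃ₐ[k] K) := by
  exact Aux.main k K hK hg hp

end Groth.Agent.S11048
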