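import Groth.Statements.S11049
import Mathlib
import Mathlib
import Groth.Agent.Lib.Helper5.Misc.LengthQuot

set_option autoImplicit false
open CAlg

open Helper5.S11049

namespace Groth.Agent.S11049

/-- For `k`-algebras `S ⊆ R` with `R` an integral domain and a nonzero `x ∈ S`, if `R/S` and `R/Rx` are
finite-dimensional over `k` then `dim_k R/Rx = dim_k S/Sx`. (The published statement allows `x = 0`;
then `R` is a field finite over `k` and the two sides are `dim_k R` and `dim_k S`, which differ for
`S = k ⊊ R`; the published proof multiplies by `x` as an injection, so `x ≠ 0` is assumed here.) -/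
theorem result
    (k R : Type*) [Field k] [CommRing R]
    [IsDomain R] [Algebra k R] (S : Subalgebra k R) (x : S) (hx : (x : R) ≠ 0)
    [Module.Finite k (R ⧸ Subalgebra.toSubmodule S)]
    [Module.Finite k (R ⧸ Ideal.span {(x : R)})] :
    Module.finrank k (R ⧸ Ideal.span {(x : R)}) = Module.finrank k (S ⧸ Ideal.span {x}) := by
  set P : Submodule k R := Subalgebra.toSubmodule S with hP
  let Q : Submodule k R := (Ideal.span {(x : R)}).restrictScalars k
  let U : Submodule k S := (Ideal.span {x}).restrictScalars k
  let mx : R →ₗ[k] R := LinearMap.mulLeft k (x : R)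
  let T : Submodule k R := P.map mx
  -- sequence (1)
  have e1 : Module.length k (R ⧸ T) = Module.length k (R ⧸ P) + Module.length k (R ⧸ Q) := by
    apply length_quot_eq_add mx P T Q
    · ext y
      simp only [Submodule.mem_comap, T, Submodule.mem_map]
      constructor
      · intro hy; exact ⟨y, hy, rfl⟩
      · rintro ⟨z, hz, hzy⟩
        have : z = y := mul_left_cancel₀ hx (by simpa [mx] using hzy)
        rwa [← this]
    · apply le_antisymm
      · intro y hy
        have hy' : y ∈ Ideal.span {(x : R)} := hy
        rw [Ideal.mem_span_singleton'] at hy'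
        obtain ⟨a, rfl⟩ := hy'
        exact Submodule.mem_sup_left ⟨a, by simp [mx, mul_comm]⟩
      · rw [sup_le_iff]
        constructor
        · rintro _ ⟨a, rfl⟩
          show (x : R) * a ∈ Ideal.span {(x : R)}
          exact Ideal.mul_mem_right _ _ (Ideal.subset_span rfl)
        · rintro _ ⟨a, -, rfl⟩
          show (x : R) * a ∈ Ideal.span {(x : R)}
          exact Ideal.mul_mem_right _ _ (Ideal.subset_span rfl)
  -- sequence (2)
  have e2 : Module.length k (R ⧸ T) = Module.length k (S ⧸ U) + Module.length k (R ⧸ P) := by
    apply length_quot_eq_add S.val.toLinearMap U T P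
    · ext s
      simp only [Submodule.mem_comap, T, Submodule.mem_map]
      constructor
      · intro hs
        have hs' : s ∈ Ideal.span {x} := hs
        rw [Ideal.mem_span_singleton'] at hs'
        obtain ⟨a, rfl⟩ := hs'
        exact ⟨(a : R), a.2, by simp [mx, mul_comm]⟩
      · rintro ⟨z, hz, hzs⟩
        show s ∈ Ideal.span {x}
        rw [Ideal.mem_span_singleton']
        refine ⟨⟨z, hz⟩, ?_⟩
        apply Subtype.ext
        simpa [mx, mul_comm] using hzs
    · apply le_antisymm
      · intro y hy
        exact Submodule.mem_sup_left ⟨⟨y, hy⟩, rfl⟩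
      · rw [sup_le_iff]
        constructor
        · rintro _ ⟨s, rfl⟩
          exact s.2
        · rintro _ ⟨a, ha, rfl⟩
          exact S.mul_mem x.2 ha
  have hPfin : Module.length k (R ⧸ P) ≠ ⊤ := by
    rw [Module.length_eq_finrank]; exact ENat.natCast_ne_top _
  have e3 : Module.length k (R ⧸ Q) = Module.length k (S ⧸ U) := by
    rw [e1, add_comm] at e2
    exact ENat.add_left_injective_of_ne_top hPfin e2
  have eQ : Module.length k (R ⧸ Q) = Module.length k (R ⧸ Ideal.span {(x : R)}) :=
    (Submodule.Quotient.restrictScalarsEquiv k (Ideal.span {(x : R)})).length_eq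
  have eU : Module.length k (S ⧸ U) = Module.length k (S ⧸ Ideal.span {x}) :=
    (Submodule.Quotient.restrictScalarsEquiv k (Ideal.span {x})).length_eq
  rw [eQ, eU, Module.length_eq_finrank] at e3
  have hfin : Module.Finite k (S ⧸ Ideal.span {x}) := by
    have : Module.length k (S ⧸ Ideal.span {x}) ≠ ⊤ := by
      rw [← e3]; exact ENat.natCast_ne_top _
    rw [Module.length_ne_top_iff, isFiniteLength_iff_isNoetherian_isArtinian] at this
    have := this.1
    infer_instance
  rw [Module.length_eq_finrank] at e3
  exact_mod_cast e3

end Groth.Agent.S11049
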