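import Groth.Statements.S11050
import Mathlib
import Groth.Agent.Lib.Helper9.FFExt.AlgClosed
-- import your own Groth.Agent.* helpers here

set_option autoImplicit false
open FunFld

namespace Groth.Agent.S11050

open FunFld
namespace Aux
open Groth.Agent.Helper9.FFExt Groth.Agent.Lib.Helper4.FF IntermediateField

/-- the constants of the universal derivation -/
def kerD (k K : Type*) [Field k] [Field K] [Algebra k K] : IntermediateField k K where
  carrier := {z | KaehlerDifferential.D k K z = 0}
  mul_mem' {a b} ha hb := by
    change KaehlerDifferential.D k K (a * b) = 0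
    rw [Derivation.leibniz, show KaehlerDifferential.D k K a = 0 from ha,
      show KaehlerDifferential.D k K b = 0 from hb, smul_zero, smul_zero, add_zero]
  one_mem' := Derivation.map_one_eq_zero _
  add_mem' {a b} ha hb := by
    change KaehlerDifferential.D k K (a + b) = 0
    rw [map_add, show KaehlerDifferential.D k K a = 0 from ha,
      show KaehlerDifferential.D k K b = 0 from hb, add_zero]
  zero_mem' := map_zero _
  algebraMap_mem' c := Derivation.map_algebraMap _ c
  inv_mem' a ha := by
    change KaehlerDifferential.D k K a⁻¹ = 0
    rw [Derivation.leibniz_inv, show KaehlerDifferential.D k K a = 0 from ha, smul_zero]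

theorem main (k K : Type*) [Field k] [IsAlgClosed k] [Field K] [Algebra k K]
    (hK : FunFld.IsFunctionField k K) (W : Submodule k K)
    [FiniteDimensional k W] (h1 : (1 : K) ∈ W)
    (hW : IntermediateField.adjoin k (W : Set K) = ⊤) :
    (∃ x ∈ W, Algebra.IsSeparable (IntermediateField.adjoin k ({x} : Set K)) K) ∧
    ∀ x ∈ W, Algebra.IsSeparable (IntermediateField.adjoin k ({x} : Set K)) K →
      ∃ y ∈ W, IntermediateField.adjoin k ({x, y} : Set K) = ⊤ := by
  have hg : IsGeometric k K := isGeometric_of_isAlgClosed k K
  constructor
  · by_contra hno
    push Not at hno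
    have hD : ∀ x ∈ W, KaehlerDifferential.D k K x = 0 := by
      intro x hx
      by_contra hne
      apply hno x hx
      apply isSeparable_of_D_ne_zero hK.1 hg hne
      intro halg
      obtain ⟨c, rfl⟩ := hK.2 x halg
      exact hne (Derivation.map_algebraMap _ c)
    have hle : IntermediateField.adjoin k (W : Set K) ≤ kerD k K := by
      rw [IntermediateField.adjoin_le_iff]
      intro x hx
      exact hD x hx
    rw [hW] at hle
    obtain ⟨t, htr, hsep⟩ := exists_separating_of_isGeometric hK.1 hg
    exact D_ne_zero_of_isSeparable k K htr (hle (IntermediateField.mem_top (x := t)))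
  · intro x hxW hsep
    by_contra hno
    push Not at hno
    have hfin : Finite (IntermediateField (IntermediateField.adjoin k ({x} : Set K)) K) := by
      have hxt : Transcendental k x := by
        intro halg
        obtain ⟨t, htr, -⟩ := hK.1
        apply htr
        have h1 : Algebra.IsAlgebraic k (IntermediateField.adjoin k ({x} : Set K)) :=
          IntermediateField.isAlgebraic_adjoin_simple halg.isIntegral
        have h2 : Algebra.IsAlgebraic (IntermediateField.adjoin k ({x} : Set K)) K :=
          Algebra.IsSeparable.isAlgebraic _ _
        exact (Algebra.IsAlgebraic.trans k (IntermediateField.adjoin k ({x} : Set K)) K).isAlgebraic t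
      have hfd : FiniteDimensional (IntermediateField.adjoin k ({x} : Set K)) K :=
        finiteDimensional_adjoin_w hK.1 hxt
      exact Field.finite_intermediateField_of_exists_primitive_element _ _
        (Field.exists_primitive_element _ K)
    let ι := {M : IntermediateField (IntermediateField.adjoin k ({x} : Set K)) K // M ≠ ⊤}
    let p : ι → Subspace k W := fun M =>
      Submodule.comap W.subtype (Subalgebra.toSubmodule (M.1.restrictScalars k).toSubalgebra)
    have hcov : ⋃ i, (p i : Set W) = Set.univ := by
      rw [Set.eq_univ_iff_forall]
      intro w
      have hne : (IntermediateField.adjoin (IntermediateField.adjoin k ({x} : Set K))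
          ({(w : K)} : Set K)) ≠ ⊤ := by
        intro htop
        apply hno w w.2
        have := IntermediateField.adjoin_adjoin_left k ({x} : Set K) ({(w : K)} : Set K)
        rw [htop] at this
        rw [show ({x, (w : K)} : Set K) = {x} ∪ {(w : K)} from rfl, ← this]
        rfl
      rw [Set.mem_iUnion]
      exact ⟨⟨_, hne⟩, IntermediateField.mem_adjoin_simple_self _ (w : K)⟩
    obtain ⟨M, hM⟩ := Subspace.exists_eq_top_of_iUnion_eq_univ hcov
    apply M.2
    rw [eq_top_iff]
    have hle : IntermediateField.adjoin k (W : Set K) ≤ M.1.restrictScalars k := by
      rw [IntermediateField.adjoin_le_iff]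
      intro w hw
      have : (⟨w, hw⟩ : W) ∈ p M := by rw [hM]; exact Submodule.mem_top
      exact this
    rw [hW] at hle
    intro z _
    exact hle (IntermediateField.mem_top (x := z))

end Aux

/-- Over an algebraically closed constant field, let `W` be a finite-dimensional subspace of the
function field `K` containing `1` and generating `K` over `k` (the span of an effective birational
projective map). Then `W` contains a separating variable `x`, and for each separating `x ∈ W` some
`y ∈ W` gives `K = k(x, y)`. -/
theorem result
    (k K : Type*) [Field k] [IsAlgClosed k] [Field K] [Algebra k K]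
    (hK : FunFld.IsFunctionField k K) (W : Submodule k K)
    [FiniteDimensional k W] (h1 : (1 : K) ∈ W)
    (hW : IntermediateField.adjoin k (W : Set K) = ⊤) :
    (∃ x ∈ W, Algebra.IsSeparable (IntermediateField.adjoin k ({x} : Set K)) K) ∧
    ∀ x ∈ W, Algebra.IsSeparable (IntermediateField.adjoin k ({x} : Set K)) K →
      ∃ y ∈ W, IntermediateField.adjoin k ({x, y} : Set K) = ⊤ := by
  exact Aux.main k K hK W h1 hW

end Groth.Agent.S11050
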