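import Groth.Statements.S11051
import Mathlib
import Groth.Agent.Lib.Helper9.FFExt.PlaneFP
import Groth.Agent.Lib.Helper9.FFExt.Ramified
import Groth.Agent.Lib.Helper9.FFExt.DiffSupport
import Groth.Agent.Lib.Helper4.FF.Approx
import Groth.Agent.Lib.Helper4.FF.Zeros
-- import your own Groth.Agent.* helpers here

set_option autoImplicit false
open FunFld

namespace Groth.Agent.S11051

namespace Aux
universe u v

open FunFld WithZero Polynomial
open Groth.Agent.Lib.Helper4.FF Groth.Agent.Helper9.FFExt Groth.Agent.Helper9.PlaneFP
  Groth.Agent.Helper9.PlaneDiff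

variable {k : Type u} {K : Type v} [Field k] [Field K] [Algebra k K]

theorem main [IsAlgClosed k]
    (hK : FunFld.IsFunctionField k K) (x : K)
    (hsep : Algebra.IsSeparable (IntermediateField.adjoin k ({x} : Set K)) K) :
    ∃ y : K, IntermediateField.adjoin k ({x, y} : Set K) = ⊤ ∧
      ∀ P : FunFld.Place k K, ∃ f ∈ Submodule.span k ({1, x, y} : Set K),
        P.1 f = WithZero.exp (-1) := by
  classical
  -- `x` is transcendental
  have hxt : Transcendental k x := by
    intro halg
    obtain ⟨⟨x₀, hx₀t, -⟩, -⟩ := hK
    apply hx₀t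
    have h1 : IsAlgebraic (IntermediateField.adjoin k ({x} : Set K)) x₀ :=
      (Algebra.IsSeparable.isIntegral _ x₀).isAlgebraic
    have h2 : Algebra.IsAlgebraic k (IntermediateField.adjoin k ({x} : Set K)) :=
      IntermediateField.isAlgebraic_adjoin_simple halg.isIntegral
    exact h1.restrictScalars k
  let E := IntermediateField.adjoin k ({x} : Set K)
  let xE : E := IntermediateField.AdjoinSimple.gen k x
  have hxE : algebraMap E K xE = x := rfl
  have hEw : IsFFw k E := isFFw_adjoin hxt
  have hEf : IsFunctionField k E := isFunctionField_adjoin hK hxt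
  have hfd : FiniteDimensional E K := finiteDimensional_adjoin hK hxt
  have hx0 : x ≠ 0 := fun h => hxt (h ▸ isAlgebraic_zero)
  -- the bad places
  have hfin1 : {P : Place k K | 1 < P.1 x}.Finite := finite_poles hK hx0
  have hfin2 : {Q : Place k K | ∃ (P : Place k E) (e : ℕ), IsOverWith Q P e ∧ 2 ≤ e}.Finite :=
    finite_ramified_separable hEw
  set S : Finset (Place k K) := hfin1.toFinset ∪ hfin2.toFinset with hS
  have hSne : S.Nonempty := by
    obtain ⟨P, hP⟩ := exists_pole hK hxt
    exact ⟨P, Finset.mem_union_left _ ((Set.Finite.mem_toFinset _).mpr hP)⟩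
  -- a common uniformizer
  obtain ⟨y₀, hy₀⟩ := weak_approximation S (fun _ => (0 : K)) (fun _ => 1)
  simp only [sub_zero] at hy₀
  -- a primitive element
  obtain ⟨θ, hθ⟩ := Field.exists_primitive_element E K
  obtain ⟨M, hM⟩ := (S.image fun P => log (P.1 θ)).exists_le
  have hM' : ∀ P ∈ S, P.1 θ ≤ exp M := by
    intro P hP
    refine le_exp_log.trans ?_
    rw [exp_le_exp]
    exact hM _ (Finset.mem_image_of_mem _ hP)
  set N : ℤ := max (M + 2) 0 with hN
  have hN0 : 0 ≤ N := le_max_right _ _
  have hNM : M + 2 ≤ N := le_max_left _ _
  have hbelow : ∀ P : Place k K, ∃ (p : Place k E) (e : ℕ), IsOverWith P p e :=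
    fun P => exists_below' P
  choose pb eb hpb using hbelow
  set T : Finset (Place k E) := S.image pb with hT
  obtain ⟨u, hu⟩ := weak_approximation T (fun _ => (0 : E)) (fun _ => N)
  simp only [sub_zero] at hu
  have hu0 : u ≠ 0 := by
    obtain ⟨P, hP⟩ := hSne
    have := hu (pb P) (Finset.mem_image_of_mem pb hP)
    rintro rfl
    rw [map_zero] at this
    exact exp_ne_zero this.symm
  have hu0' : algebraMap E K u ≠ 0 := (_root_.map_ne_zero _).mpr hu0
  set w := algebraMap E K u * θ with hw
  have hwS : ∀ P ∈ S, P.1 w ≤ exp (-2 : ℤ) := by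
    intro P hP
    have h1 : P.1 (algebraMap E K u) = (exp (-N)) ^ (eb P) := by
      rw [hpb P u, hu _ (Finset.mem_image_of_mem pb hP)]
    have hle1 : exp (-N) ≤ (1 : ℤᵐ⁰) := by
      rw [← exp_zero, exp_le_exp]; omega
    have h2 : P.1 (algebraMap E K u) ≤ exp (-N) := by
      rw [h1]
      exact pow_le_of_le_one zero_le hle1 (ow_pos (hpb P)).ne'
    rw [hw, map_mul]
    calc P.1 (algebraMap E K u) * P.1 θ ≤ exp (-N) * exp M := mul_le_mul' h2 (hM' P hP)
      _ = exp (-N + M) := by rw [← exp_add]
      _ ≤ exp (-2 : ℤ) := by rw [exp_le_exp]; omega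
  have hw_prim : IntermediateField.adjoin E ({w} : Set K) = ⊤ := by
    rw [eq_top_iff, ← hθ, IntermediateField.adjoin_simple_le_iff]
    have hwm : w ∈ IntermediateField.adjoin E ({w} : Set K) :=
      IntermediateField.mem_adjoin_simple_self E w
    have : θ = (algebraMap E K u)⁻¹ * w := by rw [hw]; field_simp
    rw [this]
    exact mul_mem (inv_mem (IntermediateField.algebraMap_mem _ u)) hwm
  -- the family of candidates
  let F : k → IntermediateField E K := fun c =>
    IntermediateField.adjoin E ({y₀ + algebraMap k K c * w} : Set K)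
  have hfinI : Finite (IntermediateField E K) :=
    Field.finite_intermediateField_of_exists_primitive_element E K ⟨θ, hθ⟩
  obtain ⟨c, c', hcc', hF⟩ := Finite.exists_ne_map_eq_of_infinite F
  set y := y₀ + algebraMap k K c * w with hy
  have hkmem : ∀ (a : k) (L : IntermediateField E K), algebraMap k K a ∈ L := by
    intro a L
    rw [IsScalarTower.algebraMap_apply k E K]
    exact IntermediateField.algebraMap_mem _ _
  have hytop : IntermediateField.adjoin E ({y} : Set K) = ⊤ := by
    rw [eq_top_iff, ← hw_prim, IntermediateField.adjoin_simple_le_iff]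
    have h1 : y ∈ F c := IntermediateField.mem_adjoin_simple_self E y
    have h2 : y₀ + algebraMap k K c' * w ∈ F c := by
      rw [hF]; exact IntermediateField.mem_adjoin_simple_self E _
    have h3 : algebraMap k K (c - c') * w ∈ F c := by
      have : algebraMap k K (c - c') * w = y - (y₀ + algebraMap k K c' * w) := by
        rw [map_sub, hy]; ring
      rw [this]; exact sub_mem h1 h2
    have h4 : algebraMap k K (c - c') ≠ 0 :=
      (_root_.map_ne_zero _).mpr (sub_ne_zero.mpr hcc')
    have : w = (algebraMap k K (c - c'))⁻¹ * (algebraMap k K (c - c') * w) := by field_simp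
    rw [this]
    exact mul_mem (inv_mem (hkmem _ _)) h3
  refine ⟨y, ?_, ?_⟩
  · have h1 := IntermediateField.adjoin_simple_adjoin_simple (F := k) (α := x) y
    rw [← h1]
    change (IntermediateField.adjoin E ({y} : Set K)).restrictScalars k = ⊤
    rw [hytop, IntermediateField.restrictScalars_top]
  · intro P
    by_cases hP : P ∈ S
    · refine ⟨y, Submodule.subset_span (by simp), ?_⟩
      have h1 : P.1 (algebraMap k K c * w) < P.1 y₀ := by
        rw [hy₀ P hP, map_mul]
        calc P.1 (algebraMap k K c) * P.1 w ≤ 1 * exp (-2 : ℤ) :=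
              mul_le_mul' (Place.val_k_le P c) (hwS P hP)
          _ < exp (-1 : ℤ) := by rw [one_mul, exp_lt_exp]; norm_num
      rw [hy, Valuation.map_add_eq_of_lt_left _ h1, hy₀ P hP]
    · have hP1 : ¬ 1 < P.1 x := by
        intro h
        exact hP (Finset.mem_union_left _ ((Set.Finite.mem_toFinset _).mpr h))
      have hP2 : ¬ 2 ≤ eb P := by
        intro h
        exact hP (Finset.mem_union_right _ ((Set.Finite.mem_toFinset _).mpr
          ⟨pb P, eb P, hpb P, h⟩))
      have he1 : eb P = 1 := by
        have := ow_pos (hpb P)
        omega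
      push Not at hP1
      obtain ⟨a, ha⟩ := Place.exists_const_sub_lt P (Place.deg_eq_one hK P) hP1
      have h1 : algebraMap E K (xE - algebraMap k E a) = x - algebraMap k K a := by
        rw [map_sub, hxE, ← IsScalarTower.algebraMap_apply]
      have h2 : (pb P).1 (xE - algebraMap k E a) < 1 := by
        rw [← ow_lt_one_iff (hpb P), h1]
        exact ha
      have h3 := val_eq_exp_of_zero_linear hxt a (pb P) h2
      refine ⟨x - algebraMap k K a, ?_, ?_⟩
      · refine Submodule.sub_mem _ (Submodule.subset_span (by simp)) ?_
        rw [Algebra.algebraMap_eq_smul_one]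
        exact Submodule.smul_mem _ _ (Submodule.subset_span (by simp))
      · rw [← h1, hpb P, he1, pow_one]
        exact h3

end Aux

/-- Over an algebraically closed constant field, for every separating variable `x` of a function field
`K` of one variable (`K` separable over `k(x)`) there is `y` with `K = k(x, y)` such that the span
of `1, x, y` contains a local parameter at every place. (The published statement takes any `x`; this
row takes `x` separating, which is what the published proof uses, since it works with the finitely
many places ramified over `k(x)`: for a constant `x` the conclusion fails for every `K`, and in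
characteristic `p` it fails for `K = k(t)`, `x = t^p`, where every place is ramified over `k(x)` and
no element of the span has order one at the place at infinity or, if `y` is not a polynomial in `t`,
at a pole of `y`.) -/
theorem result
    (k K : Type*) [Field k] [IsAlgClosed k] [Field K] [Algebra k K]
    (hK : FunFld.IsFunctionField k K) (x : K)
    (hsep : Algebra.IsSeparable (IntermediateField.adjoin k ({x} : Set K)) K) :
    ∃ y : K, IntermediateField.adjoin k ({x, y} : Set K) = ⊤ ∧
      ∀ P : FunFld.Place k K, ∃ f ∈ Submodule.span k ({1, x, y} : Set K),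
        P.1 f = WithZero.exp (-1) := by
  exact Aux.main hK x hsep

end Groth.Agent.S11051
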