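import Groth.Statements.S11069
import Mathlib
import Groth.Prelude.Def_W4bk4goldsch45
import Groth.Prelude.Def_W4bk4goldsch23Ext
import Groth.Agent.Lib.Helper9.FFExt.Conorm
-- import your own Groth.Agent.* helpers here

set_option autoImplicit false
open FunFld

namespace Groth.Agent.S11069

open FunFld WithZero
open Groth.Agent.Lib.Helper4.FF Groth.Agent.Helper9.FFExt
namespace Aux

variable {k K : Type*} [Field k] [Field K] [Algebra k K]

lemma mapDiv_apply (hK : IsFunctionField k K) {ι : Type*} [Fintype ι] [Nonempty ι] (φ : ι → K)
    (Q : Place k K) :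
    mapDiv k φ Q = -Finset.univ.inf' Finset.univ_nonempty (fun i => Q.ord (φ i)) := by
  have hfin : (Function.support fun P : Place k K =>
      -Finset.univ.inf' Finset.univ_nonempty (fun i => P.ord (φ i))).Finite := by
    refine (Set.finite_iUnion fun i => finite_support_ord hK (φ i)).subset ?_
    intro P hP
    rw [Set.mem_iUnion]
    by_contra hcon
    push Not at hcon
    apply hP
    have h0 : ∀ i, P.ord (φ i) = 0 := by
      intro i
      have := hcon i
      rwa [Function.mem_support, not_not] at this
    simp only [h0, Finset.inf'_const, neg_zero]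
  unfold mapDiv
  rw [dif_pos hfin]
  rfl

theorem main (k K' K : Type*) [Field k] [Field K'] [Field K] [Algebra k K'] [Algebra k K]
    [Algebra K' K] [IsScalarTower k K' K] [FiniteDimensional K' K]
    (hK : FunFld.IsFunctionField k K) (hK' : FunFld.IsFunctionField k K') {n : ℕ}
    (φ : Fin (n + 1) → K') :
    FunFld.mapDiv k (fun i => algebraMap K' K (φ i)) = FunFld.conorm K (FunFld.mapDiv k φ) := by
  ext Q
  obtain ⟨P, e, he⟩ := exists_below' (K := K') Q
  rw [mapDiv_apply hK, conorm_apply _ he (finite_over hK' P), mapDiv_apply hK']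
  have hpos : (0 : ℤ) < e := by exact_mod_cast ow_pos he
  simp only [ow_ord_eq he]
  rw [mul_neg, neg_inj]
  apply le_antisymm
  · obtain ⟨j, -, hj⟩ := Finset.exists_mem_eq_inf' Finset.univ_nonempty (fun i => P.ord (φ i))
    rw [hj]
    exact Finset.inf'_le _ (Finset.mem_univ j)
  · apply Finset.le_inf'
    intro i _
    exact mul_le_mul_of_nonneg_left (Finset.inf'_le _ (Finset.mem_univ i)) hpos.le

end Aux

/-- Over an algebraically closed constant field, for function fields `K ⊇ K'` and a projective map `φ`
with entries in `K'`, the divisor of `φ` as a map of `K` is the conorm `N*_{K/K'}` of its divisor as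
a map of `K'`. -/
theorem result
    (k K' K : Type*) [Field k] [IsAlgClosed k] [Field K'] [Field K] [Algebra k K'] [Algebra k K]
    [Algebra K' K] [IsScalarTower k K' K] [FiniteDimensional K' K]
    (hK : FunFld.IsFunctionField k K) (hK' : FunFld.IsFunctionField k K') {n : ℕ}
    (φ : Fin (n + 1) → K') (hφ : LinearIndependent k φ) :
    FunFld.mapDiv k (fun i => algebraMap K' K (φ i)) = FunFld.conorm K (FunFld.mapDiv k φ) := by
  exact Aux.main k K' K hK hK' φ

end Groth.Agent.S11069
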