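import Groth.Statements.S11052
import Mathlib
import Groth.Prelude.Def_W4bk4goldsch45
import Groth.Prelude.Def_W4bk4goldsch23Ext
import Groth.Agent.Lib.Helper9.FFExt.Conorm
import Groth.Agent.S11069
-- import your own Groth.Agent.* helpers here

set_option autoImplicit false
open FunFld

namespace Groth.Agent.S11052

open FunFld WithZero
open Groth.Agent.Lib.Helper4.FF Groth.Agent.Helper9.FFExt
namespace Aux

variable {k K : Type*} [Field k] [Field K] [Algebra k K]

/-- a copy of `K`, viewed as an extension of `K` through `τ` -/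
def Cp (_τ : K →ₐ[k] K) : Type _ := K

instance (τ : K →ₐ[k] K) : Field (Cp τ) := inferInstanceAs (Field K)
instance (τ : K →ₐ[k] K) : Algebra k (Cp τ) := inferInstanceAs (Algebra k K)
instance (τ : K →ₐ[k] K) : Algebra K (Cp τ) := τ.toRingHom.toAlgebra
instance (τ : K →ₐ[k] K) : IsScalarTower k K (Cp τ) :=
  IsScalarTower.of_algebraMap_eq fun c => (τ.commutes c).symm

lemma algebraMap_Cp (τ : K →ₐ[k] K) (z : K) : algebraMap K (Cp τ) z = τ z := rfl

/-- the identity map into the copy -/
def toCp (τ : K →ₐ[k] K) : K → Cp τ := id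

lemma smul_toCp (τ : K →ₐ[k] K) (g w : K) : g • toCp τ w = toCp τ (τ g * w) := by
  rw [Algebra.smul_def, algebraMap_Cp]
  rfl

lemma toCp_sum (τ : K →ₐ[k] K) {ι : Type*} (s : Finset ι) (f : ι → K) :
    toCp τ (∑ i ∈ s, f i) = ∑ i ∈ s, toCp τ (f i) := rfl

lemma finite_Cp (hK : IsFunctionField k K) (τ : K →ₐ[k] K) : FiniteDimensional K (Cp τ) := by
  classical
  obtain ⟨x, hxt, -⟩ := hK.1
  have hxt' : Transcendental k (τ x) := by
    intro halg
    exact hxt ((isAlgebraic_algHom_iff τ τ.injective).mp halg)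
  have hfin : FiniteDimensional (IntermediateField.adjoin k ({τ x} : Set K)) K :=
    finiteDimensional_adjoin hK hxt'
  have hle : IntermediateField.adjoin k ({τ x} : Set K) ≤ τ.fieldRange := by
    rw [IntermediateField.adjoin_le_iff]
    intro y hy
    rw [Set.mem_singleton_iff] at hy
    rw [hy]
    exact ⟨x, rfl⟩
  let b := Module.finBasis (IntermediateField.adjoin k ({τ x} : Set K)) K
  refine ⟨⟨Finset.univ.image (fun i => toCp τ (b i)), ?_⟩⟩
  rw [eq_top_iff]
  have hz : ∀ w : K, w = ∑ i, ((b.repr w i : IntermediateField.adjoin k ({τ x} : Set K)) : K) * b i := by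
    intro w
    conv_lhs => rw [← b.sum_repr w]
    refine Finset.sum_congr rfl fun i _ => ?_
    rw [Algebra.smul_def]
    rfl
  have hg : ∀ (w : K) i, ∃ g : K, τ g = ((b.repr w i : IntermediateField.adjoin k ({τ x} : Set K)) : K) :=
    fun w i => hle (b.repr w i).2
  choose g hg using hg
  have hall : ∀ w : K, toCp τ w ∈ Submodule.span K
      ((Finset.univ.image (fun i => toCp τ (b i)) : Finset (Cp τ)) : Set (Cp τ)) := by
    intro w
    have hz' : toCp τ w = ∑ i, g w i • toCp τ (b i) := by
      conv_lhs => rw [hz w]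
      rw [toCp_sum]
      refine Finset.sum_congr rfl fun i _ => ?_
      rw [smul_toCp, hg]
    rw [hz']
    refine Submodule.sum_mem _ fun i _ => Submodule.smul_mem _ _ (Submodule.subset_span ?_)
    rw [Finset.coe_image]
    exact ⟨i, Finset.mem_coe.mpr (Finset.mem_univ i), rfl⟩
  intro z _
  exact hall z

lemma finrank_Cp (τ : K →ₐ[k] K) : Module.finrank K (Cp τ) = Module.finrank τ.fieldRange K := by
  let i0 : K →+* τ.fieldRange := τ.toRingHom.codRestrict τ.fieldRange (fun z => ⟨z, rfl⟩)
  have hi : Function.Bijective i0 := by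
    constructor
    · intro a b hab
      have : τ a = τ b := congrArg Subtype.val hab
      exact τ.injective this
    · rintro ⟨_, w, rfl⟩
      exact ⟨w, rfl⟩
  exact Algebra.finrank_eq_of_equiv_equiv (RingEquiv.ofBijective i0 hi) (RingEquiv.refl K)
    (by ext z; rfl)

theorem main (k K : Type*) [Field k] [Field K] [Algebra k K]
    (hK : FunFld.IsFunctionField k K) (τ : K →ₐ[k] K) {n : ℕ}
    (φ : Fin (n + 1) → K) :
    (FunFld.mapDiv k (τ ∘ φ)).deg =
      Module.finrank τ.fieldRange K * (FunFld.mapDiv k φ).deg := by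
  have hfin := finite_Cp hK τ
  have hK2 : IsFunctionField k (Cp τ) := hK
  have h1 := Groth.Agent.S11069.Aux.main k K (Cp τ) hK2 hK φ
  have h2 := deg_conorm (K' := Cp τ) hK (FunFld.mapDiv k φ)
  rw [← h1, finrank_Cp] at h2
  exact h2

end Aux

/-- Over an algebraically closed constant field, for a `k`-embedding `τ` of the function field `K` into
itself and a projective map `φ = (φ₀, …, φₙ)` (a linearly independent tuple), the degree of the map
`τ(φ)` is `deg τ · deg φ`, where `deg τ = [K : τ(K)]`. -/
theorem result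
    (k K : Type*) [Field k] [IsAlgClosed k] [Field K] [Algebra k K]
    (hK : FunFld.IsFunctionField k K) (τ : K →ₐ[k] K) {n : ℕ}
    (φ : Fin (n + 1) → K) (hφ : LinearIndependent k φ) :
    (FunFld.mapDiv k (τ ∘ φ)).deg =
      Module.finrank τ.fieldRange K * (FunFld.mapDiv k φ).deg := by
  exact Aux.main k K hK τ φ

end Groth.Agent.S11052
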