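import Groth.Statements.S12606
import Mathlib
import Groth.Prelude.Def_W4bk4goldsch45p2
import Groth.Agent.Lib.Helper9.FFExt.LocalOrd7
-- import your own Groth.Agent.* helpers here

set_option autoImplicit false
open FunFld

namespace Groth.Agent.S12606

open FunFld
namespace Aux
open Groth.Agent.Helper9.FFExt WithZero
open Groth.Agent.Lib.Helper4.FF

open scoped Classical in
/-- enough dimension in the first columns bounds the orders -/
theorem le_of_finrank {K M : Type*} [Field K] [AddCommGroup M] [Module K M] (c : ℕ → M)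
    {n : ℕ} {J : Fin n → ℕ} (hJ : IsOrders K c J) (l : Fin n) (m : ℕ)
    (h1 : (l : ℕ) + 2 ≤ Module.finrank K (Jump.V K c (m + 2))) : J l ≤ m := by
  by_contra hlt
  push Not at hlt
  have h2 : ((Finset.range (m + 2)).filter (fun j => IsJump K c j)).card ≤ l + 1 := by
    let g : ℕ → ℕ := fun i => if h : i < n + 1 then Jump.eJ J ⟨i, h⟩ else 0
    have hsub : (Finset.range (m + 2)).filter (fun j => IsJump K c j) ⊆
        (Finset.range (l + 1)).image g := by
      intro j hj
      rw [Finset.mem_filter, Finset.mem_range] at hj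
      rw [Finset.mem_image]
      rcases j with _ | j
      · refine ⟨0, Finset.mem_range.mpr (by omega), ?_⟩
        have h0 : 0 < n + 1 := by omega
        simp only [g, dif_pos h0]
        rfl
      · obtain ⟨i, hi⟩ := (hJ.2 j).mpr hj.2
        have hil : i < l := by
          by_contra hge
          push Not at hge
          have := hJ.1.monotone hge
          omega
        have hil' : (i : ℕ) < l := hil
        refine ⟨i + 1, Finset.mem_range.mpr (by omega), ?_⟩
        have hlt' : (i : ℕ) + 1 < n + 1 := by omega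
        simp only [g, dif_pos hlt']
        have : (⟨i + 1, hlt'⟩ : Fin (n + 1)) = i.succ := rfl
        rw [this, Jump.eJ_succ, hi]
    exact (Finset.card_le_card hsub).trans (Finset.card_image_le.trans (by simp))
  rw [Jump.finrank_V] at h1
  omega

theorem main
    (k K : Type*) [Field k] [IsAlgClosed k] [Field K] [Algebra k K]
    (hK : FunFld.IsFunctionField k K) (τ : K →ₐ[k] K) (P : FunFld.Place k K) (hP : FunFld.IsStrongFixedPt τ P)
    {n : ℕ} (hn : 0 < n) (φ : Fin (n + 1) → K)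
    (heff : (1 : K) ∈ Submodule.span k (Set.range φ)) (hnorm : ∀ i, P.1 (φ i) ≤ 1)
    (t : K) (ht : P.1 t = WithZero.exp (-1))
    (Ht : K →ₐ[k] PowerSeries K) (hHt : LocRes.IsHasseFamily t Ht)
    (J : Fin n → ℕ) (hJ : FunFld.IsOrders K (FunFld.hcol τ Ht φ) J)
    (J' : Fin n → ℕ) (hJ' : FunFld.IsOrders (IsLocalRing.ResidueField P.O) (FunFld.hcolAt P Ht φ) J') :
    ∀ l, J l + J' ⟨0, hn⟩ ≤ J' l := by
  obtain ⟨E⟩ := exists_hasseExp hK (isGeometric_of_isAlgClosed k K) P (Place.deg_eq_one hK P) t ht Ht hHt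
  have hJ'k := (isOrders_hcolAt_iff E φ hnorm J').mp hJ'
  obtain ⟨X, hX, hXl⟩ := exists_adapted_basis E φ heff hnorm hJ'k
  obtain ⟨ψ, hψ⟩ : ∃ ψ : Fin (n + 1) → K, ψ = fun l => ∑ i, X l i • φ i := ⟨_, rfl⟩
  have hJψ : IsOrders K (hcol τ Ht ψ) J :=
    ((linear_change τ Ht φ X hX ψ (fun l => by rw [hψ])).1 J).mpr hJ
  have hmono := jseq_strictMono E φ heff hJ'k
  intro l
  have hle : (l : ℕ) + 2 ≤ n + 1 := by omega
  have hcore := strong_core E hP ψ (d := l) (Fin.castLE hle) (fun r => jseq J' (Fin.castLE hle r))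
    rfl (hmono.comp (Fin.strictMono_castLE hle))
    (fun r => by rw [hψ]; exact (hXl _).1) (fun r => by rw [hψ]; exact (hXl _).2)
    (J' l - J' ⟨0, hn⟩) (by
      have h1 : Fin.castLE hle (Fin.last ((l : ℕ) + 1)) = l.succ := Fin.ext rfl
      have h2 : Fin.castLE hle (Fin.succ 0) = (⟨0, hn⟩ : Fin n).succ := Fin.ext rfl
      simp only [h1, h2, jseq_succ])
  have h3 := le_of_finrank _ hJψ l _ hcore
  have h4 : J' ⟨0, hn⟩ ≤ J' l := hJ'.1.monotone (Fin.mk_le_of_le_val (Nat.zero_le _))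
  omega

end Aux

/-- Over an algebraically closed constant field, let `P` be a strong fixed point of the `k`-endomorphism
`τ`, `φ = (φ₀, …, φₙ)` (`n ≥ 1`) an effective projective map normalized at `P` with `τ(φ)` not a
`K`-multiple of `φ`, `t` a local parameter at `P`, `j₁, …, jₙ` the `τ`-orders of `φ` and `j'₁, …,
j'ₙ` the orders of `φ` at `P`. Then `jₗ ≤ j'ₗ - j'₁` for `1 ≤ l ≤ n`. -/
theorem result
    (k K : Type*) [Field k] [IsAlgClosed k] [Field K] [Algebra k K]
    (hK : FunFld.IsFunctionField k K) (τ : K →ₐ[k] K) (P : FunFld.Place k K) (hP : FunFld.IsStrongFixedPt τ P)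
    {n : ℕ} (hn : 0 < n) (φ : Fin (n + 1) → K) (hφ : LinearIndependent k φ)
    (heff : (1 : K) ∈ Submodule.span k (Set.range φ)) (hnorm : ∀ i, P.1 (φ i) ≤ 1)
    (hτφ : ¬ ∃ y : K, ∀ i, τ (φ i) = y * φ i)
    (t : K) (ht : P.1 t = WithZero.exp (-1))
    (Ht : K →ₐ[k] PowerSeries K) (hHt : LocRes.IsHasseFamily t Ht)
    (J : Fin n → ℕ) (hJ : FunFld.IsOrders K (FunFld.hcol τ Ht φ) J)
    (J' : Fin n → ℕ) (hJ' : FunFld.IsOrders (IsLocalRing.ResidueField P.O) (FunFld.hcolAt P Ht φ) J') :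
    ∀ l, J l + J' ⟨0, hn⟩ ≤ J' l := by
  exact Aux.main k K hK τ P hP hn φ heff hnorm t ht Ht hHt J hJ J' hJ'

end Groth.Agent.S12606
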