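import Groth.Statements.S12604
import Mathlib
import Groth.Prelude.Def_W4bk4goldsch45p2
import Groth.Agent.Lib.Helper9.FFExt.LocalOrd8
import Groth.Agent.Lib.Helper9.FFExt.Expansion1
import Groth.Agent.S12603
import Groth.Agent.S12606
import Groth.Agent.S12614
import Groth.Agent.S12615
import Groth.Agent.S12610
-- import your own Groth.Agent.* helpers here

set_option autoImplicit false
open FunFld

namespace Groth.Agent.S12604

open FunFld
namespace Aux
open Groth.Agent.Helper9.FFExt WithZero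
open Groth.Agent.Lib.Helper4.FF

/-- at a strong fixed point the Weierstrass divisor has coefficient at least `n` -/
theorem coeff_ge
    (k K : Type*) [Field k] [IsAlgClosed k] [Field K] [Algebra k K]
    (hK : FunFld.IsFunctionField k K) (τ : K →ₐ[k] K) {n : ℕ} (hn : 0 < n)
    (φ : Fin (n + 1) → K) (hφ : LinearIndependent k φ)
    (s : K) (H : K →ₐ[k] PowerSeries K) (hH : LocRes.IsHasseFamily s H)
    (J : Fin n → ℕ) (hJ : FunFld.IsOrders K (FunFld.hcol τ H φ) J)
    (Φ : FunFld.Place k K → (K →ₐ[k] LaurentSeries k))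
    (hΦ : ∀ P : FunFld.Place k K, LocRes.IsExpansionAt P.1 (Φ P)) (P : Place k K)
    (hP : IsStrongFixedPt τ P) :
    (n : ℤ) ≤ FunFld.wDiv τ H Φ s φ J P := by
  classical
  have hKw := isFFw_of_isFunctionField hK
  have hg := isGeometric_of_isAlgClosed k K
  obtain ⟨t, ht⟩ := Place.exists_uniformizer P
  have hDt : KaehlerDifferential.D k K t ≠ 0 :=
    D_ne_zero_of_vDiff (Φ P) (Groth.Agent.S12610.Aux.vDiff_param P (Φ P) (hΦ P) t ht)
  have htt := transcendental_of_D_ne_zero hK hDt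
  obtain ⟨Ht, hHt⟩ := exists_hasse hKw hg hDt htt
  obtain ⟨E⟩ := exists_hasseExp hK hg P (Place.deg_eq_one hK P) t ht Ht hHt
  -- normalization
  obtain ⟨i₀, -, hi₀⟩ := Finset.exists_max_image Finset.univ (fun i => P.1 (φ i)) Finset.univ_nonempty
  have hφi₀ : φ i₀ ≠ 0 := hφ.ne_zero i₀
  obtain ⟨y, hy⟩ : ∃ y : K, y = (φ i₀)⁻¹ := ⟨_, rfl⟩
  have hy0 : y ≠ 0 := by rw [hy]; exact inv_ne_zero hφi₀
  obtain ⟨φ', hφ'⟩ : ∃ φ' : Fin (n + 1) → K, φ' = y • φ := ⟨_, rfl⟩
  have hφ'i : ∀ i, φ' i = y * φ i := fun i => by rw [hφ']; rfl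
  have hφ'def : ∀ i, φ' i = y * ∑ j, (1 : Matrix (Fin (n + 1)) (Fin (n + 1)) k) i j • φ j := by
    intro i
    rw [hφ'i]
    congr 1
    simp only [Matrix.one_apply, ite_smul, one_smul, zero_smul]
    rw [Finset.sum_ite_eq]
    simp
  have hW := Groth.Agent.S12614.Aux.main k K hK φ hφ τ s H hH t Ht hHt J hJ 1 (by simp) y hy0 φ'
    hφ'def Φ hΦ
  rw [← hW]
  have hφ'li : LinearIndependent k φ' := by
    have := hφ.map' (LinearMap.mulLeft k y) (by
      rw [LinearMap.ker_eq_bot]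
      intro a b hab
      exact mul_left_cancel₀ hy0 hab)
    rw [hφ']
    exact this
  have hnorm : ∀ i, P.1 (φ' i) ≤ 1 := by
    intro i
    rw [hφ'i, hy, map_mul, map_inv₀, inv_mul_le_iff₀ (by
      rw [pos_iff_ne_zero, Valuation.ne_zero_iff]; exact hφi₀), mul_one]
    exact hi₀ i (Finset.mem_univ i)
  have heff : (1 : K) ∈ Submodule.span k (Set.range φ') := by
    apply Submodule.subset_span
    refine ⟨i₀, ?_⟩
    rw [hφ'i, hy, inv_mul_cancel₀ hφi₀]
  have hJ't : IsOrders K (hcol τ Ht φ') J := by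
    have h1 : IsOrders K (hcol τ H (y • φ)) J := ((smul_change hH τ φ hφ y hy0).1 J).mpr hJ
    rw [hφ']
    have hli : LinearIndependent k (y • φ) := by rw [← hφ']; exact hφ'li
    exact ((var_change hKw hg hH hHt τ (y • φ) hli).1 J).mpr h1
  obtain ⟨J', hJ'⟩ := exists_local_orders E φ' hφ'li heff hnorm
  have hfix : IsFixedPt τ P := isFixedPt_of_strong hP
  have h15 := Groth.Agent.S12615.Aux.main k K hK τ P hfix φ' hφ'li heff hnorm t ht Ht hHt J hJ't
    J' hJ' Φ hΦ
  refine le_trans ?_ h15.1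
  have hJ'k := (isOrders_hcolAt_iff E φ' hnorm J').mp hJ'
  have hJ'pos : ∀ l, 0 < J' l := fun l =>
    Nat.pos_of_ne_zero ((mem_range_iff_isJump_acol E φ' heff hJ'k (J' l)).mp ⟨l, rfl⟩).2
  have h06 := Groth.Agent.S12606.Aux.main k K hK τ P hP hn φ' heff hnorm t ht Ht hHt J hJ't J' hJ'
  have hterm : ∀ l ∈ Finset.univ, (1 : ℤ) ≤ (J' l : ℤ) - J l := by
    intro l _
    have h1 := h06 l
    have h2 := hJ'pos ⟨0, hn⟩
    omega
  have h3 := Finset.sum_le_sum hterm
  simpa using h3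

theorem main
    (k K : Type*) [Field k] [IsAlgClosed k] [Field K] [Algebra k K]
    (hK : FunFld.IsFunctionField k K) (τ : K →ₐ[k] K) {n : ℕ} (φ : Fin (n + 1) → K) (hφ : LinearIndependent k φ)
    (hτφ : ¬ ∃ y : K, ∀ i, τ (φ i) = y * φ i) (s : K) (H : K →ₐ[k] PowerSeries K) (hH : LocRes.IsHasseFamily s H)
    (J : Fin n → ℕ) (hJ : FunFld.IsOrders K (FunFld.hcol τ H φ) J) :
    {P : FunFld.Place k K | FunFld.IsStrongFixedPt τ P}.Finite ∧
    (n : ℤ) * (Set.ncard {P : FunFld.Place k K | FunFld.IsStrongFixedPt τ P} : ℤ) ≤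
      ((n : ℤ) + Module.finrank τ.fieldRange K) * (FunFld.mapDiv k φ).deg +
        (2 * (FunFld.genus k K : ℤ) - 2) * ∑ l, (J l : ℤ) := by
  classical
  have hn : 0 < n := by
    by_contra hn0
    have hn0' : n = 0 := by omega
    subst hn0'
    apply hτφ
    refine ⟨τ (φ 0) / φ 0, fun i => ?_⟩
    have : i = 0 := Fin.ext (by omega)
    rw [this, div_mul_cancel₀ _ (hφ.ne_zero 0)]
  -- expansions at all places
  have hex : ∀ P : Place k K, ∃ ε : K →ₐ[k] LaurentSeries k, LocRes.IsExpansionAt P.1 ε := by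
    intro P
    obtain ⟨t, ht⟩ := Place.exists_uniformizer P
    obtain ⟨ε, hε, -⟩ := exists_expansion_of_deg_one P (Place.deg_eq_one hK P) t ht
    exact ⟨ε, hε⟩
  choose Φ hΦ using hex
  obtain ⟨hW0, hWdeg⟩ := Groth.Agent.S12603.Aux.main k K hK φ hφ τ s H hH J hJ Φ hΦ
  obtain ⟨W, hW⟩ : ∃ W, W = wDiv τ H Φ s φ J := ⟨_, rfl⟩
  rw [← hW] at hW0 hWdeg
  have hcoeff : ∀ P : Place k K, IsStrongFixedPt τ P → (n : ℤ) ≤ W P := by
    intro P hP
    rw [hW]
    exact coeff_ge k K hK τ hn φ hφ s H hH J hJ Φ hΦ P hP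
  have hsub : {P : Place k K | IsStrongFixedPt τ P} ⊆ (W.support : Set (Place k K)) := by
    intro P hP
    rw [Finset.mem_coe, Finsupp.mem_support_iff]
    have := hcoeff P hP
    have hn' : (0 : ℤ) < n := by exact_mod_cast hn
    omega
  have hfin : {P : Place k K | IsStrongFixedPt τ P}.Finite := W.support.finite_toSet.subset hsub
  refine ⟨hfin, ?_⟩
  have hdeg : W.deg = ∑ P ∈ W.support, W P := by
    unfold FunFld.Divisor.deg Finsupp.sum
    apply Finset.sum_congr rfl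
    intro P _
    change W P * (P.deg : ℤ) = W P
    rw [Place.deg_eq_one hK P]
    simp
  have hcomm : ((n : ℤ) + Module.finrank τ.fieldRange K) = ((Module.finrank τ.fieldRange K : ℤ) + n) := by
    ring
  rw [hcomm, ← hWdeg, hdeg, Set.ncard_eq_toFinset_card _ hfin]
  have hsub' : hfin.toFinset ⊆ W.support := by
    intro P hP
    rw [Set.Finite.mem_toFinset] at hP
    exact Finset.mem_coe.mp (hsub hP)
  calc (n : ℤ) * (hfin.toFinset.card : ℤ) = ∑ P ∈ hfin.toFinset, (n : ℤ) := by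
        rw [Finset.sum_const, nsmul_eq_mul, mul_comm]
    _ ≤ ∑ P ∈ hfin.toFinset, W P := by
        apply Finset.sum_le_sum
        intro P hP
        rw [Set.Finite.mem_toFinset] at hP
        exact hcoeff P hP
    _ ≤ ∑ P ∈ W.support, W P :=
        Finset.sum_le_sum_of_subset_of_nonneg hsub' (fun P _ _ => hW0 P)

end Aux

/-- Over an algebraically closed constant field, let `τ` be a `k`-endomorphism of the function field `K`
of genus `g`, of degree `deg τ = [K : τ(K)]`, and `φ = (φ₀, …, φₙ)` a projective map such that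
`τ(φ)` is not a `K`-multiple of `φ`, with `τ`-orders `j₁, …, jₙ`. Then the number `N` of strong
fixed points of `τ` (places whose maximal ideal `τ` maps into its square) is finite and `n N ≤ (n +
deg τ) deg φ + (2g - 2)(j₁ + ⋯ + jₙ)`, i.e. `N ≤ (1/n) deg W(φ, τ)`. -/
theorem result
    (k K : Type*) [Field k] [IsAlgClosed k] [Field K] [Algebra k K]
    (hK : FunFld.IsFunctionField k K) (τ : K →ₐ[k] K) {n : ℕ} (φ : Fin (n + 1) → K) (hφ : LinearIndependent k φ)
    (hτφ : ¬ ∃ y : K, ∀ i, τ (φ i) = y * φ i) (s : K) (H : K →ₐ[k] PowerSeries K) (hH : LocRes.IsHasseFamily s H)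
    (J : Fin n → ℕ) (hJ : FunFld.IsOrders K (FunFld.hcol τ H φ) J) :
    {P : FunFld.Place k K | FunFld.IsStrongFixedPt τ P}.Finite ∧
    (n : ℤ) * (Set.ncard {P : FunFld.Place k K | FunFld.IsStrongFixedPt τ P} : ℤ) ≤
      ((n : ℤ) + Module.finrank τ.fieldRange K) * (FunFld.mapDiv k φ).deg +
        (2 * (FunFld.genus k K : ℤ) - 2) * ∑ l, (J l : ℤ) := by
  exact Aux.main k K hK τ φ hφ hτφ s H hH J hJ

end Groth.Agent.S12604
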