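import Groth.Statements.S11053
import Mathlib
import Groth.Prelude.Def_W4bk4goldsch45p2
import Groth.Agent.Lib.Helper9.FFExt.LocalOrd8
import Groth.Agent.Lib.Helper9.FFExt.Expansion1
import Groth.Agent.Lib.Helper9.FFExt.Poles
import Groth.Agent.S12600
import Groth.Agent.S12604
import Groth.Agent.S12606
import Groth.Agent.S12610
-- import your own Groth.Agent.* helpers here

set_option autoImplicit false
open FunFld

namespace Groth.Agent.S11053

open FunFld
namespace Aux
open Groth.Agent.Helper9.FFExt WithZero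
open Groth.Agent.Lib.Helper4.FF

/-- a strictly increasing sequence dominates the identity -/
theorem seq_ge {n : ℕ} (f : ℕ → ℕ) (hmono : ∀ i j, i < j → j < n → f i < f j) (hpos : 0 < n → 0 < f 0) :
    ∀ i, i < n → i + 1 ≤ f i := by
  intro i
  induction i with
  | zero => intro h; exact hpos h
  | succ i ih =>
    intro h
    have h1 := ih (by omega)
    have h2 := hmono i (i + 1) (by omega) h
    omega

theorem seq_diff {n : ℕ} (f : ℕ → ℕ) (hmono : ∀ i j, i < j → j < n → f i < f j) :
    ∀ j, j < n → ∀ i, i ≤ j → f i + (j - i) ≤ f j := by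
  intro j
  induction j with
  | zero =>
    intro _ i hi
    have : i = 0 := by omega
    subst this
    simp
  | succ j ih =>
    intro hj i hi
    rcases Nat.lt_or_ge i (j + 1) with h | h
    · have h1 := ih (by omega) i (by omega)
      have h2 := hmono j (j + 1) (by omega) hj
      omega
    · have : i = j + 1 := by omega
      subst this
      simp

theorem seq_eq {n g : ℕ} (f : ℕ → ℕ) (hmono : ∀ i j, i < j → j < n → f i < f j)
    (hpos : 0 < n → 0 < f 0) (hc : ∀ j, 1 ≤ j → j ≤ n - g → ∃ i, i < n ∧ f i = j) :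
    ∀ i, i < n → i + 1 ≤ n - g → f i = i + 1 := by
  intro i
  induction i using Nat.strong_induction_on with
  | _ i ih =>
    intro hi hig
    have hge := seq_ge f hmono hpos i hi
    obtain ⟨l, hl, hfl⟩ := hc (i + 1) (by omega) hig
    rcases Nat.lt_trichotomy l i with h | h | h
    · have := ih l h hl (by omega)
      omega
    · subst h; exact hfl
    · have := hmono i l h hl
      omega

theorem sum_seq_le {n g : ℕ} (hg : 1 ≤ g) (hgn : g < n) (f : ℕ → ℕ)
    (hmono : ∀ i j, i < j → j < n → f i < f j) (hpos : 0 < f 0)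
    (ha : f (n - 1) ≤ n + g) (hb : ∀ i, i < n → f i ≠ n + g - 1)
    (hc : ∀ j, 1 ≤ j → j ≤ n - g → ∃ i, i < n ∧ f i = j) :
    2 * ∑ i ∈ Finset.range n, f i + 2 * g ≤ n * (n + 1) + 2 * (g * g + 1) := by
  have hge := seq_ge f hmono (fun _ => hpos)
  have hdiff := seq_diff f hmono
  have heq := seq_eq f hmono (fun _ => hpos) hc
  -- bounds for the top `g` terms
  have htop : ∀ i, i < n → f i ≤ i + 1 + g := by
    intro i hi
    have := hdiff (n - 1) (by omega) i (by omega)
    omega
  have htop2 : ∀ i, i + 1 < n → f i ≤ i + g := by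
    intro i hi
    have h1 : f (n - 2) ≤ n + g - 2 := by
      have h2 := hmono (n - 2) (n - 1) (by omega) (by omega)
      have h3 := hb (n - 2) (by omega)
      omega
    have := hdiff (n - 2) (by omega) i (by omega)
    omega
  -- split the sum
  have hsplit : n = (n - g) + ((g - 1) + 1) := by omega
  have hsum : ∑ i ∈ Finset.range n, f i =
      ∑ i ∈ Finset.range (n - g), f i + (∑ r ∈ Finset.range (g - 1), f (n - g + r) + f (n - 1)) := by
    conv_lhs => rw [hsplit]
    rw [Finset.sum_range_add, Finset.sum_range_succ]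
    have : n - g + (g - 1) = n - 1 := by omega
    rw [this]
  have h1 : ∑ i ∈ Finset.range (n - g), f i = ∑ i ∈ Finset.range (n - g), (i + 1) := by
    apply Finset.sum_congr rfl
    intro i hi
    rw [Finset.mem_range] at hi
    exact heq i (by omega) (by omega)
  have h2 : ∑ r ∈ Finset.range (g - 1), f (n - g + r) ≤
      ∑ r ∈ Finset.range (g - 1), ((n - g + r + 1) + (g - 1)) := by
    apply Finset.sum_le_sum
    intro r hr
    rw [Finset.mem_range] at hr
    have := htop2 (n - g + r) (by omega)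
    omega
  have h3 : f (n - 1) ≤ (n - 1 + 1) + g := htop (n - 1) (by omega)
  -- the comparison sum
  have hcmp : ∑ i ∈ Finset.range n, (i + 1) =
      ∑ i ∈ Finset.range (n - g), (i + 1) +
        (∑ r ∈ Finset.range (g - 1), (n - g + r + 1) + (n - 1 + 1)) := by
    conv_lhs => rw [hsplit]
    rw [Finset.sum_range_add, Finset.sum_range_succ]
    have : n - g + (g - 1) = n - 1 := by omega
    rw [this]
  have hgauss : 2 * ∑ i ∈ Finset.range n, (i + 1) = n * (n + 1) := by
    have := Finset.sum_range_id_mul_two (n + 1)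
    rw [Finset.sum_range_succ'] at this
    simp only [add_zero] at this
    rw [Nat.add_sub_cancel] at this
    linarith [mul_comm n (n + 1)]
  have h2' : ∑ r ∈ Finset.range (g - 1), ((n - g + r + 1) + (g - 1)) =
      ∑ r ∈ Finset.range (g - 1), (n - g + r + 1) + (g - 1) * (g - 1) := by
    rw [Finset.sum_add_distrib, Finset.sum_const, Finset.card_range, smul_eq_mul]
  have hgg : (g - 1) * (g - 1) + g + g = g * g + 1 := by
    obtain ⟨g', rfl⟩ : ∃ g', g = g' + 1 := ⟨g - 1, by omega⟩
    simp only [Nat.add_sub_cancel]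
    ring
  rw [hsum, h1]
  rw [h2'] at h2
  nlinarith [h2, h3, hcmp, hgauss, hgg]


theorem key (k K : Type*) [Field k] [IsAlgClosed k] [Field K] [Algebra k K]
    (hK : FunFld.IsFunctionField k K) (τ : K →ₐ[k] K) (n : ℕ)
    (hn : FunFld.genus k K < n) (P₀ : Place k K) (hP₀ : IsStrongFixedPt τ P₀) :
    ∃ (φ' : Fin (n + 1) → K) (t : K) (Ht : K →ₐ[k] PowerSeries K) (J : Fin n → ℕ),
      LinearIndependent k φ' ∧ (¬ ∃ y : K, ∀ i, τ (φ' i) = y * φ' i) ∧
      LocRes.IsHasseFamily t Ht ∧ IsOrders K (hcol τ Ht φ') J ∧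
      (mapDiv k φ').deg ≤ (n : ℤ) + genus k K ∧
      (1 ≤ genus k K → 2 * ∑ l, (J l : ℤ) ≤
        (n : ℤ) * (n - 1) + 2 * ((genus k K : ℤ) * genus k K - genus k K + 1)) := by
  classical
  have hKw := isFFw_of_isFunctionField hK
  have hgeo := isGeometric_of_isAlgClosed k K
  obtain ⟨g, hg⟩ : ∃ g, g = genus k K := ⟨_, rfl⟩
  rw [← hg] at hn ⊢
  have hn0 : 0 < n := by omega
  obtain ⟨D, hD⟩ : ∃ D : Divisor k K, D = Finsupp.single P₀ ((n + g : ℕ) : ℤ) := ⟨_, rfl⟩
  obtain ⟨h₀, hh₀0, hh₀L, hh₀ord⟩ := exists_exact_pole hK P₀ (n + g) (by rw [← hg]; omega)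
  rw [← hD] at hh₀L
  have hDdeg : D.deg = ((n + g : ℕ) : ℤ) := by rw [hD]; exact deg_single_nat hK P₀ _
  have hell : ell D = n + 1 := by
    have h1 := ell_eq_of_deg_ge hK (D := D) (by rw [hDdeg, ← hg]; push_cast; omega)
    rw [hDdeg, ← hg] at h1
    push_cast at h1
    omega
  have hfin := L_finite hK D
  unfold FunFld.ell at hell
  let b := Module.finBasisOfFinrankEq k (L D) hell
  obtain ⟨φ, hφ⟩ : ∃ φ : Fin (n + 1) → K, φ = fun i => ((b i : L D) : K) := ⟨_, rfl⟩
  have hφi : ∀ i, φ i = ((b i : L D) : K) := fun i => by rw [hφ]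
  have hφL : ∀ i, φ i ∈ L D := fun i => by rw [hφi]; exact (b i).2
  have hφli : LinearIndependent k φ := by
    have := b.linearIndependent.map' (L D).subtype (Submodule.ker_subtype _)
    rw [hφ]
    exact this
  have hspan : Submodule.span k (Set.range φ) = L D := by
    have h1 : Set.range φ = (L D).subtype '' Set.range b := by
      rw [hφ]
      ext x
      simp
    rw [h1, ← Submodule.map_span, b.span_eq, Submodule.map_subtype_top]
  obtain ⟨y, hy⟩ : ∃ y : K, y = h₀⁻¹ := ⟨_, rfl⟩
  have hy0 : y ≠ 0 := by rw [hy]; exact inv_ne_zero hh₀0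
  have hyord : P₀.ord y = ((n + g : ℕ) : ℤ) := by rw [hy, Place.ord_inv, hh₀ord, neg_neg]
  obtain ⟨φ', hφ'⟩ : ∃ φ' : Fin (n + 1) → K, φ' = fun i => y * φ i := ⟨_, rfl⟩
  have hφ'i : ∀ i, φ' i = y * φ i := fun i => by rw [hφ']
  have hφ'li : LinearIndependent k φ' := by
    have := hφli.map' (LinearMap.mulLeft k y) (by
      rw [LinearMap.ker_eq_bot]
      intro a b hab
      exact mul_left_cancel₀ hy0 hab)
    rw [hφ']
    exact this
  have hspan' : Submodule.span k (Set.range φ') = (L D).map (LinearMap.mulLeft k y) := by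
    have h1 : Set.range φ' = (LinearMap.mulLeft k y) '' Set.range φ := by
      rw [hφ']
      ext x
      simp
    rw [h1, ← Submodule.map_span, hspan]
  have hmem' : ∀ h : K, h ∈ L D → y * h ∈ Submodule.span k (Set.range φ') := by
    intro h hh
    rw [hspan']
    exact ⟨h, hh, rfl⟩
  have heff : (1 : K) ∈ Submodule.span k (Set.range φ') := by
    have := hmem' h₀ hh₀L
    rwa [hy, inv_mul_cancel₀ hh₀0] at this
  -- orders of elements of the span
  have hordL : ∀ h : K, h ≠ 0 → h ∈ L D → -((n + g : ℕ) : ℤ) ≤ P₀.ord h ∧ P₀.ord h ≤ 0 := by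
    intro h hh0 hh
    rw [hD] at hh
    exact ⟨((mem_L_single_iff P₀ _ hh0).mp hh).1, ord_nonpos_of_mem_L_single hK P₀ _ hh0 hh⟩
  have hnorm : ∀ i, P₀.1 (φ' i) ≤ 1 := by
    intro i
    have hne : φ i ≠ 0 := hφli.ne_zero i
    rw [← Place.ord_nonneg_iff P₀ (hφ'li.ne_zero i), hφ'i, Place.ord_mul P₀ hy0 hne, hyord]
    have := (hordL (φ i) hne (hφL i)).1
    omega
  -- local parameter
  obtain ⟨t, ht⟩ := Place.exists_uniformizer P₀
  obtain ⟨ε, hε, -⟩ := exists_expansion_of_deg_one P₀ (Place.deg_eq_one hK P₀) t ht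
  have hDt : KaehlerDifferential.D k K t ≠ 0 :=
    D_ne_zero_of_vDiff ε (Groth.Agent.S12610.Aux.vDiff_param P₀ ε hε t ht)
  have htt := transcendental_of_D_ne_zero hK hDt
  obtain ⟨Ht, hHt⟩ := exists_hasse hKw hgeo hDt htt
  obtain ⟨E⟩ := exists_hasseExp hK hgeo P₀ (Place.deg_eq_one hK P₀) t ht Ht hHt
  obtain ⟨J, hJ, -⟩ := Groth.Agent.S12600.Aux.main k K hK φ' hφ'li τ t Ht hHt
  refine ⟨φ', t, Ht, J, hφ'li, ?_, hHt, hJ, ?_, ?_⟩
  · -- `τ(φ')` is not a multiple of `φ'`
    rintro ⟨y', hy'⟩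
    have hfix : ∀ f ∈ Submodule.span k (Set.range φ'), τ f = y' * f := by
      intro f hf
      obtain ⟨c, rfl⟩ := (Submodule.mem_span_range_iff_exists_fun k).mp hf
      rw [map_sum, Finset.mul_sum]
      apply Finset.sum_congr rfl
      intro i _
      rw [map_smul, hy', mul_smul_comm]
    have hy'1 : y' = 1 := by
      have := hfix 1 heff
      rw [map_one, mul_one] at this
      exact this.symm
    obtain ⟨h₁, hh₁0, hh₁L, hh₁ord⟩ := exists_exact_pole hK P₀ (n + g - 1) (by rw [← hg]; omega)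
    have hh₁L' : h₁ ∈ L D := by
      rw [hD]
      exact L_mono (single_le_single P₀ (by push_cast; omega)) hh₁L
    have hu := hfix (y * h₁) (hmem' h₁ hh₁L')
    rw [hy'1, one_mul] at hu
    have hu0 : y * h₁ ≠ 0 := mul_ne_zero hy0 hh₁0
    have hord : P₀.ord (y * h₁) = 1 := by
      rw [Place.ord_mul P₀ hy0 hh₁0, hyord, hh₁ord]
      push_cast
      omega
    have hval : P₀.1 (y * h₁) = exp (-1 : ℤ) := by
      rw [Place.val_eq_exp_neg_ord P₀ hu0, hord]
    have h2 := hP₀ (y * h₁) (by rw [hval, ← exp_zero, exp_lt_exp]; norm_num)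
    rw [hu, hval, exp_le_exp] at h2
    omega
  · -- the degree
    have hle : mapDiv k φ' ≤ D + div k h₀ := by
      intro P
      rw [mapDiv_apply hK, Finsupp.add_apply, div_apply hK, neg_le, Finset.le_inf'_iff]
      intro i _
      have hne : φ i ≠ 0 := hφli.ne_zero i
      rw [hφ'i, Place.ord_mul P hy0 hne, hy, Place.ord_inv]
      have := hφL i P
      rw [Place.val_eq_exp_neg_ord P hne, exp_le_exp] at this
      omega
    have := Divisor.deg_mono hle
    rw [Divisor.deg_add, deg_div hK, hDdeg, add_zero] at this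
    push_cast at this
    exact this
  · intro hg1
    obtain ⟨J', hJ'⟩ := exists_local_orders E φ' hφ'li heff hnorm
    have hJ'k := (isOrders_hcolAt_iff E φ' hnorm J').mp hJ'
    have hJ'pos : ∀ l, 0 < J' l := fun l =>
      Nat.pos_of_ne_zero ((mem_range_iff_isJump_acol E φ' heff hJ'k (J' l)).mp ⟨l, rfl⟩).2
    have h06 := Groth.Agent.S12606.Aux.main k K hK τ P₀ hP₀ hn0 φ' heff hnorm t ht Ht hHt J hJ J' hJ'
    -- elements of the span
    have hspanord : ∀ f ∈ Submodule.span k (Set.range φ'), f ≠ 0 →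
        ∃ h : K, h ≠ 0 ∧ h ∈ L D ∧ P₀.ord f = ((n + g : ℕ) : ℤ) + P₀.ord h := by
      intro f hf hf0
      rw [hspan'] at hf
      obtain ⟨h, hh, rfl⟩ := hf
      have hh0 : h ≠ 0 := by
        rintro rfl
        apply hf0
        simp
      refine ⟨h, hh0, hh, ?_⟩
      rw [LinearMap.mulLeft_apply, Place.ord_mul P₀ hy0 hh0, hyord]
    have hval_ord : ∀ (f : K) (j : ℕ), P₀.1 f = exp (-(j : ℤ)) → f ≠ 0 ∧ P₀.ord f = j := by
      intro f j hfj
      have hf0 : f ≠ 0 := by
        rintro rfl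
        rw [map_zero] at hfj
        exact exp_ne_zero hfj.symm
      refine ⟨hf0, ?_⟩
      rw [Place.val_eq_exp_neg_ord P₀ hf0, exp_inj] at hfj
      omega
    have hA : ∀ l, J' l ≤ n + g := by
      intro l
      obtain ⟨f, hf, hfv⟩ := (exists_val_iff E φ' heff hnorm hJ'k (J' l)).mp (Or.inr ⟨l, rfl⟩)
      obtain ⟨hf0, hford⟩ := hval_ord f _ hfv
      obtain ⟨h, hh0, hh, hord⟩ := hspanord f hf hf0
      have := (hordL h hh0 hh).2
      have : (J' l : ℤ) ≤ ((n + g : ℕ) : ℤ) := by omega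
      exact_mod_cast this
    have hB : ∀ l, J' l ≠ n + g - 1 := by
      intro l hl
      obtain ⟨f, hf, hfv⟩ := (exists_val_iff E φ' heff hnorm hJ'k (J' l)).mp (Or.inr ⟨l, rfl⟩)
      obtain ⟨hf0, hford⟩ := hval_ord f _ hfv
      obtain ⟨h, hh0, hh, hord⟩ := hspanord f hf hf0
      have hordh : P₀.ord h = -1 := by
        rw [hl] at hford
        push_cast at hford hord
        have : (1 : ℤ) ≤ n + g := by omega
        rw [Nat.cast_sub (by omega)] at hford
        push_cast at hford
        omega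
      have hh1 : h ∈ L (Finsupp.single P₀ (1 : ℤ) : Divisor k K) := by
        rw [mem_L_single_iff P₀ _ hh0]
        rw [hD] at hh
        exact ⟨by omega, ((mem_L_single_iff P₀ _ hh0).mp hh).2⟩
      have hell1 := ell_single_one_of_pos_genus hK (by rw [← hg]; omega) P₀
      unfold FunFld.ell at hell1
      have hone : (1 : K) ∈ L (Finsupp.single P₀ (1 : ℤ) : Divisor k K) := by
        rw [mem_L_single_iff P₀ _ one_ne_zero, Place.ord_one]
        exact ⟨by norm_num, fun Q _ => by rw [Place.ord_one]⟩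
      obtain ⟨c, hc⟩ := (finrank_eq_one_iff_of_nonzero' (⟨1, hone⟩ : L (Finsupp.single P₀ (1 : ℤ) : Divisor k K))
        (by
          intro h
          exact one_ne_zero (congrArg Subtype.val h))).mp hell1 ⟨h, hh1⟩
      have hc' : h = algebraMap k K c := by
        have := congrArg Subtype.val hc
        simp only [Submodule.coe_smul] at this
        rw [← this, Algebra.algebraMap_eq_smul_one]
      rw [hc', Place.ord_k] at hordh
      omega
    have hC : ∀ j : ℕ, 1 ≤ j → j ≤ n - g → ∃ l, J' l = j := by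
      intro j hj1 hj2
      obtain ⟨h, hh0, hhL, hhord⟩ := exists_exact_pole hK P₀ (n + g - j) (by rw [← hg]; omega)
      have hhL' : h ∈ L D := by
        rw [hD]
        exact L_mono (single_le_single P₀ (by push_cast; omega)) hhL
      have hf0 : y * h ≠ 0 := mul_ne_zero hy0 hh0
      have hord : P₀.ord (y * h) = j := by
        rw [Place.ord_mul P₀ hy0 hh0, hyord, hhord]
        rw [Nat.cast_sub (by omega)]
        push_cast
        omega
      have hv : P₀.1 (y * h) = exp (-(j : ℤ)) := by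
        rw [Place.val_eq_exp_neg_ord P₀ hf0, hord]
      rcases (exists_val_iff E φ' heff hnorm hJ'k j).mpr ⟨y * h, hmem' h hhL', hv⟩ with h0 | h0
      · omega
      · exact h0
    -- the combinatorial bound
    obtain ⟨f, hf⟩ : ∃ f : ℕ → ℕ, f = fun i => if h : i < n then J' ⟨i, h⟩ else 0 := ⟨_, rfl⟩
    have hfi : ∀ (i : ℕ) (h : i < n), f i = J' ⟨i, h⟩ := by
      intro i h
      rw [hf]
      exact dif_pos h
    have hsum := sum_seq_le (n := n) (g := g) hg1 hn f
      (by
        intro i j hij hj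
        rw [hfi i (by omega), hfi j hj]
        exact hJ'.1 (by exact hij))
      (by rw [hfi 0 hn0]; exact hJ'pos _)
      (by rw [hfi (n - 1) (by omega)]; exact hA _)
      (by
        intro i hi
        rw [hfi i hi]
        exact hB _)
      (by
        intro j hj1 hj2
        obtain ⟨l, hl⟩ := hC j hj1 hj2
        exact ⟨l.1, l.2, by rw [hfi l.1 l.2]; exact hl⟩)
    have hconv : ∑ l, (J' l : ℤ) = ((∑ i ∈ Finset.range n, f i : ℕ) : ℤ) := by
      rw [Nat.cast_sum, ← Fin.sum_univ_eq_sum_range (fun i => ((f i : ℕ) : ℤ)) n]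
      apply Finset.sum_congr rfl
      intro l _
      rw [hfi l.1 l.2]
    have hJle : ∑ l, (J l : ℤ) ≤ ∑ l, ((J' l : ℤ) - 1) := by
      apply Finset.sum_le_sum
      intro l _
      have h1 := h06 l
      have h2 := hJ'pos ⟨0, hn0⟩
      omega
    rw [Finset.sum_sub_distrib, hconv] at hJle
    simp only [Finset.sum_const, Finset.card_univ, Fintype.card_fin, nsmul_eq_mul, mul_one] at hJle
    have hsum' : (2 * ((∑ i ∈ Finset.range n, f i : ℕ) : ℤ) + 2 * g : ℤ) ≤
        (n : ℤ) * (n + 1) + 2 * ((g : ℤ) * g + 1) := by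
      exact_mod_cast hsum
    nlinarith [hJle, hsum']

theorem strictMono_ge {n : ℕ} (J : Fin n → ℕ) (hJ : StrictMono J) : ∀ l : Fin n, (l : ℕ) ≤ J l := by
  rintro ⟨i, hi⟩
  induction i with
  | zero => exact Nat.zero_le _
  | succ i ih =>
    have h1 := ih (by omega)
    have h2 := hJ (show (⟨i, by omega⟩ : Fin n) < ⟨i + 1, hi⟩ from Nat.lt_succ_self i)
    change i + 1 ≤ J ⟨i + 1, hi⟩
    change i ≤ J ⟨i, _⟩ at h1
    omega

theorem main
    (k K : Type*) [Field k] [IsAlgClosed k] [Field K] [Algebra k K]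
    (hK : FunFld.IsFunctionField k K) (τ : K →ₐ[k] K) (n : ℕ)
    (hn : FunFld.genus k K < n) :
    {P : FunFld.Place k K | ∀ x : K, P.1 x < 1 → P.1 (τ x) ≤ WithZero.exp (-2)}.Finite ∧
    (Set.ncard {P : FunFld.Place k K | ∀ x : K, P.1 x < 1 → P.1 (τ x) ≤ WithZero.exp (-2)} : ℝ) ≤
      1 + Module.finrank τ.fieldRange K +
        (n + (Module.finrank τ.fieldRange K : ℝ) / n) * FunFld.genus k K +
        2 * (FunFld.genus k K : ℝ) ^ 2 * (FunFld.genus k K - 1) / n := by
  have hn0 : 0 < n := by omega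
  have hnR : (0 : ℝ) < n := by exact_mod_cast hn0
  obtain ⟨g, hg⟩ : ∃ g, g = genus k K := ⟨_, rfl⟩
  obtain ⟨q, hq⟩ : ∃ q, q = Module.finrank τ.fieldRange K := ⟨_, rfl⟩
  rw [← hg, ← hq]
  rcases Set.eq_empty_or_nonempty
    {P : FunFld.Place k K | ∀ x : K, P.1 x < 1 → P.1 (τ x) ≤ WithZero.exp (-2)} with hemp | ⟨P₀, hP₀⟩
  · rw [hemp]
    refine ⟨Set.finite_empty, ?_⟩
    rw [Set.ncard_empty, Nat.cast_zero]
    rcases Nat.eq_zero_or_pos g with h0 | h0
    · rw [h0]
      simp only [Nat.cast_zero, mul_zero, add_zero]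
      positivity
    · have : (1 : ℝ) ≤ g := by exact_mod_cast h0
      have h1 : (0 : ℝ) ≤ (g : ℝ) - 1 := by linarith
      positivity
  · obtain ⟨φ', t, Ht, J, hφ'li, hτφ', hHt, hJ, hdeg, hJsum⟩ := key k K hK τ n hn P₀ hP₀
    obtain ⟨hfin, hbound⟩ := Groth.Agent.S12604.Aux.main k K hK τ φ' hφ'li hτφ' t Ht hHt J hJ
    refine ⟨hfin, ?_⟩
    rw [← hg] at hdeg hJsum hbound
    rw [← hq] at hbound
    obtain ⟨N, hN⟩ : ∃ N : ℕ, N = Set.ncard {P : Place k K | IsStrongFixedPt τ P} := ⟨_, rfl⟩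
    rw [← hN] at hbound
    have hNeq : Set.ncard {P : FunFld.Place k K | ∀ x : K, P.1 x < 1 → P.1 (τ x) ≤ WithZero.exp (-2)}
        = N := hN.symm
    rw [hNeq]
    -- the integer inequality
    have hZ : (n : ℤ) * N ≤ n + n * q + n * n * g + q * g + 2 * g * g * (g - 1) := by
      have h1 : ((n : ℤ) + q) * (mapDiv k φ').deg ≤ ((n : ℤ) + q) * (n + g) :=
        mul_le_mul_of_nonneg_left hdeg (by positivity)
      rcases Nat.eq_zero_or_pos g with h0 | h0
      · -- genus zero
        have hJge : ∀ l : Fin n, ((l : ℕ) : ℤ) ≤ J l := fun l => by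
          exact_mod_cast strictMono_ge J hJ.1 l
        have h2 : ∑ l : Fin n, ((l : ℕ) : ℤ) ≤ ∑ l, (J l : ℤ) :=
          Finset.sum_le_sum (fun l _ => hJge l)
        have h3 : 2 * ∑ l : Fin n, ((l : ℕ) : ℤ) = n * (n - 1) := by
          rw [Fin.sum_univ_eq_sum_range (fun i => ((i : ℕ) : ℤ)) n]
          have := Finset.sum_range_id_mul_two n
          have h4 : ((∑ i ∈ Finset.range n, i : ℕ) : ℤ) * 2 = (n : ℤ) * ((n - 1 : ℕ) : ℤ) := by
            exact_mod_cast this
          rw [Nat.cast_sub (by omega)] at h4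
          push_cast at h4
          linarith
        rw [h0] at hbound h1 ⊢
        push_cast at hbound h1 ⊢
        nlinarith [hbound, h1, h2, h3]
      · have hJs := hJsum h0
        have hg1 : (1 : ℤ) ≤ g := by exact_mod_cast h0
        have hg2 : (0 : ℤ) ≤ (g : ℤ) - 1 := by linarith
        have h5 : (2 * (g : ℤ) - 2) * ∑ l, (J l : ℤ) ≤
            ((g : ℤ) - 1) * ((n : ℤ) * (n - 1) + 2 * ((g : ℤ) * g - g + 1)) := by
          nlinarith [hJs, hg2]
        nlinarith [hbound, h1, h5, mul_nonneg hg2 hg2]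
    have hR : (n : ℝ) * N ≤ n + n * q + n * n * g + q * g + 2 * g * g * (g - 1) := by
      exact_mod_cast hZ
    have hrhs : (1 : ℝ) + q + (n + (q : ℝ) / n) * g + 2 * (g : ℝ) ^ 2 * (g - 1) / n =
        (n + n * q + n * n * g + q * g + 2 * g * g * (g - 1)) / n := by
      field_simp
      ring
    rw [hrhs, le_div_iff₀ hnR]
    linarith

end Aux

/-- Over an algebraically closed constant field, let `τ` be a `k`-embedding of the function field `K` of
genus `g` into itself, of degree `deg τ = [K : τ(K)]`. A place is a strong fixed point of `τ` when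
`τ` maps its maximal ideal into the square of that ideal. For every integer `n > g` there are at
most `1 + deg τ + (n + deg τ / n) g + 2g²(g-1)/n` strong fixed points. -/
theorem result
    (k K : Type*) [Field k] [IsAlgClosed k] [Field K] [Algebra k K]
    (hK : FunFld.IsFunctionField k K) (τ : K →ₐ[k] K) (n : ℕ)
    (hn : FunFld.genus k K < n) :
    {P : FunFld.Place k K | ∀ x : K, P.1 x < 1 → P.1 (τ x) ≤ WithZero.exp (-2)}.Finite ∧
    (Set.ncard {P : FunFld.Place k K | ∀ x : K, P.1 x < 1 → P.1 (τ x) ≤ WithZero.exp (-2)} : ℝ) ≤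
      1 + Module.finrank τ.fieldRange K +
        (n + (Module.finrank τ.fieldRange K : ℝ) / n) * FunFld.genus k K +
        2 * (FunFld.genus k K : ℝ) ^ 2 * (FunFld.genus k K - 1) / n := by
  exact Aux.main k K hK τ n hn

end Groth.Agent.S11053
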