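import Groth.Statements.S11055
import Mathlib
import Groth.Agent.Lib.Helper4.FF.ProjMap8

set_option autoImplicit false
open FunFld
open Groth.Agent.Lib.Helper4.FF

namespace Groth.Agent.S11055

/-- Over an algebraically closed constant field, a projective map `φ = (φ₀, …, φₙ)`, `n ≥ 1`, with span
`W` and divisor `[φ]` is nonsingular at the place `P` if and only if `W ∩ L([φ] - P - Q)` has
codimension `2` in `W` for every place `Q`. Here a projective map is nonsingular at a place when its
local ring there (quotients of polynomials over `k` in the ratios `φᵢ/φⱼ`, `φⱼ` of least order at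
the place, with denominator a unit there) is the whole valuation ring. (The published statement is
for any projective map; the published proof uses the finiteness property of the local ring that is
established for birational maps, so `φ` is taken birational here: the ratios `φᵢ/φ₀` generate `K`
over `k`.) -/
theorem result
    (k K : Type*) [Field k] [IsAlgClosed k] [Field K] [Algebra k K]
    (hK : FunFld.IsFunctionField k K) {n : ℕ} (hn : 1 ≤ n)
    (φ : Fin (n + 1) → K) (hφ : LinearIndependent k φ)
    (hbir : IntermediateField.adjoin k (Set.range fun i => φ i / φ 0) = ⊤) (P : FunFld.Place k K) :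
    FunFld.IsNonsingularAt φ P ↔ ∀ Q : FunFld.Place k K,
      Module.finrank k ↥(Submodule.span k (Set.range φ) ⊓
          FunFld.L (FunFld.mapDiv k φ - Finsupp.single P 1 - Finsupp.single Q 1)) + 2 =
        Module.finrank k ↥(Submodule.span k (Set.range φ)) := by
  classical
  have hφ0 : ∀ i, φ i ≠ 0 := fun i => hφ.ne_zero i
  set W := Submodule.span k (Set.range φ) with hW
  set D := mapDiv k φ with hD
  have hWD : W ≤ L D := span_le_L_mapDiv hK φ hφ0
  have hφW : ∀ i, φ i ∈ W := fun i => Submodule.subset_span ⟨i, rfl⟩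
  have hres : ∀ (R : Place k K) (z : K), R.1 z ≤ 1 → ∃ c : k, R.1 (z - algebraMap k K c) < 1 :=
    fun R z hz => Place.exists_const_sub_lt R (Place.deg_eq_one hK R) hz
  obtain ⟨j, hleast⟩ := exists_least φ P
  have hj := hφ0 j
  have hDP : WithZero.exp (D P) = P.1 (φ j) := exp_mapDiv hK φ hφ0 P hleast
  have hP : ∃ v ∈ W, v ∉ L (D - Finsupp.single P 1) := ⟨φ j, hφW j, by
    rw [mem_L_sub_single_iff (hWD (hφW j)), hDP]; exact lt_irrefl _⟩
  have hpos : ∀ (R : Place k K) (i : Fin (n + 1)), 0 < R.1 (φ i) := fun R i =>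
    zero_lt_iff.mpr ((Valuation.ne_zero_iff _).mpr (hφ0 i))
  have hcodim : ∀ Q : Place k K,
      (Module.finrank k ↥(W ⊓ L (D - Finsupp.single P 1 - Finsupp.single Q 1)) + 2 =
        Module.finrank k ↥W) ↔
      ∃ v ∈ W, v ∈ L (D - Finsupp.single P 1) ∧
        v ∉ L (D - Finsupp.single P 1 - Finsupp.single Q 1) :=
    fun Q => codim_two_iff hK W D hWD P Q hP
  have hDPQ : ∀ Q : Place k K, Q ≠ P → (D - Finsupp.single P 1 : Divisor k K) Q = D Q := by
    intro Q hQP
    rw [Finsupp.sub_apply, Finsupp.single_apply, if_neg (Ne.symm hQP), sub_zero]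
  constructor
  · intro hns Q
    rw [hcodim]
    by_cases hQP : Q = P
    · rw [hQP]
      obtain ⟨t, ht⟩ := Place.exists_uniformizer P
      have htR := hns t (by rw [ht, ← WithZero.exp_zero, WithZero.exp_le_exp]; norm_num)
      rw [inLocRing_iff hj hleast] at htR
      obtain ⟨v', hv', hv'v⟩ := exists_span_uniformizer (hres P) hj hleast htR ht
      have hvW : v' * φ j ∈ W := mul_mem_span_of_mem_span_ratio hj hv'
      have hvv : P.1 (v' * φ j) = WithZero.exp (D P - 1) := by
        rw [map_mul, hv'v, ← hDP, ← WithZero.exp_add]; congr 1; ring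
      have hv1 : v' * φ j ∈ L (D - Finsupp.single P 1) := by
        rw [mem_L_sub_single_iff (hWD hvW), hvv, WithZero.exp_lt_exp]; omega
      refine ⟨v' * φ j, hvW, hv1, ?_⟩
      rw [mem_L_sub_single_iff hv1, hvv, Finsupp.sub_apply, Finsupp.single_eq_same]
      exact lt_irrefl _
    · by_contra hcon
      push Not at hcon
      obtain ⟨j', hleastQ⟩ := exists_least φ Q
      have hDQ : WithZero.exp (D Q) = Q.1 (φ j') := exp_mapDiv hK φ hφ0 Q hleastQ
      have hmemQ : ∀ v : K, v ∈ L (D - Finsupp.single P 1) →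
          (v ∈ L (D - Finsupp.single P 1 - Finsupp.single Q 1) ↔ Q.1 v < Q.1 (φ j')) := by
        intro v hv
        rw [mem_L_sub_single_iff hv, hDPQ Q hQP, hDQ]
      have hj'P : P.1 (φ j) ≤ P.1 (φ j') := by
        by_contra hlt
        push Not at hlt
        have h1 : φ j' ∈ L (D - Finsupp.single P 1) := by
          rw [mem_L_sub_single_iff (hWD (hφW j')), hDP]; exact hlt
        have h2 := hcon (φ j') (hφW j') h1
        rw [hmemQ _ h1] at h2
        exact lt_irrefl _ h2
      have hleast' : ∀ i, P.1 (φ i) ≤ P.1 (φ j') := fun i => (hleast i).trans hj'P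
      have hDP' : WithZero.exp (D P) = P.1 (φ j') := exp_mapDiv hK φ hφ0 P hleast'
      have hSI : SameImage φ P Q := by
        refine ⟨j', hφ0 j', hleast', hleastQ, fun i => ?_⟩
        obtain ⟨c, hc⟩ := hres P (φ i / φ j') (val_ratio_le_one hleast' i)
        refine ⟨c, hc, ?_⟩
        set v := φ i - c • φ j' with hv
        have hvW : v ∈ W := W.sub_mem (hφW i) (W.smul_mem c (hφW j'))
        have hvr : v = (φ i / φ j' - algebraMap k K c) * φ j' := by
          rw [hv, Algebra.smul_def, sub_mul, div_mul_cancel₀ _ (hφ0 j')]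
        have h1 : v ∈ L (D - Finsupp.single P 1) := by
          rw [mem_L_sub_single_iff (hWD hvW), hDP', hvr, map_mul]
          calc P.1 (φ i / φ j' - algebraMap k K c) * P.1 (φ j') < 1 * P.1 (φ j') :=
                mul_lt_mul_of_pos_right hc (hpos P j')
            _ = P.1 (φ j') := one_mul _
        have h2 := hcon v hvW h1
        rw [hmemQ _ h1, hvr, map_mul] at h2
        by_contra hge
        push Not at hge
        have : Q.1 (φ j') ≤ Q.1 (φ i / φ j' - algebraMap k K c) * Q.1 (φ j') := by
          calc Q.1 (φ j') = 1 * Q.1 (φ j') := (one_mul _).symm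
            _ ≤ _ := mul_le_mul_left hge _
        exact absurd h2 (not_lt.mpr this)
      have hPQ : P = Q := place_eq_of_forall P Q (fun z hz =>
        val_le_one_of_sameImage hSI (hns z hz.le))
      exact hQP hPQ.symm
  · intro H
    have H' : ∀ Q : Place k K, ∃ v ∈ W, v ∈ L (D - Finsupp.single P 1) ∧
        v ∉ L (D - Finsupp.single P 1 - Finsupp.single Q 1) := fun Q => (hcodim Q).mp (H Q)
    -- the local parameter
    obtain ⟨v, hvW, hv1, hv2⟩ := H' P
    have hvv : P.1 v = WithZero.exp (D P - 1) := by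
      rw [val_eq_of_mem_of_notMem hv1 hv2, Finsupp.sub_apply, Finsupp.single_eq_same]
    have ht₀A : v / φ j ∈ (ratioAlg φ j : Subalgebra k K) :=
      span_ratio_le_ratioAlg φ j (div_mem_span_ratio j hvW)
    have ht₀ : P.1 (v / φ j) = WithZero.exp (-1 : ℤ) := by
      rw [map_div₀, hvv, ← hDP, ← WithZero.exp_sub]; congr 1; ring
    refine isNonsingularAt_of_sep hK φ hφ0 P hleast ?_ ht₀A ht₀
    intro Q hQP hQA
    have hleastQ : ∀ i, Q.1 (φ i) ≤ Q.1 (φ j) := by
      intro i
      have := hQA _ (ratio_mem_ratioAlg φ j i)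
      rw [map_div₀] at this
      rwa [div_le_one₀ (hpos Q j)] at this
    have hDQ : WithZero.exp (D Q) = Q.1 (φ j) := exp_mapDiv hK φ hφ0 Q hleastQ
    obtain ⟨y, hyW, hy1, hy2⟩ := H' Q
    have hyQ : Q.1 y = Q.1 (φ j) := by
      rw [val_eq_of_mem_of_notMem hy1 hy2, hDPQ Q hQP, hDQ]
    have hyP : P.1 y < P.1 (φ j) := by
      rw [← hDP, ← mem_L_sub_single_iff (hWD hyW)]; exact hy1
    have hrQ : Q.1 (y / φ j) = 1 := by
      rw [map_div₀, hyQ]; exact div_self (hpos Q j).ne'
    have hrP : P.1 (y / φ j) < 1 := by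
      rw [map_div₀, div_lt_one₀ (hpos P j)]; exact hyP
    obtain ⟨c, hc⟩ := hres Q (y / φ j) hrQ.le
    have hc0 : c ≠ 0 := by
      rintro rfl
      rw [map_zero, sub_zero, hrQ] at hc
      exact lt_irrefl _ hc
    have hyA : y / φ j ∈ (ratioAlg φ j : Subalgebra k K) :=
      span_ratio_le_ratioAlg φ j (div_mem_span_ratio j hyW)
    refine ⟨y / φ j - algebraMap k K c, Subalgebra.sub_mem _ hyA (Subalgebra.algebraMap_mem _ c),
      ?_, hc⟩
    rw [Valuation.map_sub_eq_of_lt_right, Place.val_k P hc0]
    rw [Place.val_k P hc0]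
    exact hrP

end Groth.Agent.S11055
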