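import Groth.Statements.S11057
import Mathlib
import Groth.Agent.Lib.Helper4.FF.ProjMap3

set_option autoImplicit false
open FunFld
open Groth.Agent.Lib.Helper4.FF

namespace Groth.Agent.S11057

/-- Over an algebraically closed constant field, if `K` has degree at least `3` over every subfield
`k(x)` generated by a nonconstant element, then the canonical map (given by a basis of `L(D)` for a
canonical divisor `D`) is an embedding, i.e. nonsingular at every place. Here a projective map is
nonsingular at a place when its local ring there (quotients of polynomials over `k` in the ratios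
`φᵢ/φⱼ`, `φⱼ` of least order at the place, with denominator a unit there) is the whole valuation
ring. -/
theorem result
    (k K : Type*) [Field k] [IsAlgClosed k] [Field K] [Algebra k K]
    (hK : FunFld.IsFunctionField k K)
    (h2 : ∀ x : K, Transcendental k x →
      2 < Module.finrank (IntermediateField.adjoin k ({x} : Set K)) K)
    (D : FunFld.Divisor k K) (hD : FunFld.IsCanonical k K D) {n : ℕ} (φ : Fin (n + 1) → K)
    (hφ : LinearIndependent k φ) (hspan : Submodule.span k (Set.range φ) = FunFld.L D)
    (P : FunFld.Place k K) : FunFld.IsNonsingularAt φ P := by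
  classical
  have hP1 := Place.deg_eq_one hK P
  have hdegS : ∀ Q : Place k K, Divisor.deg (Finsupp.single Q 1 : Divisor k K) = 1 := by
    intro Q
    rw [Divisor.deg_single, Place.deg_eq_one hK Q]; norm_num
  have hsingle0 : ∀ Q : Place k K, (0 : Divisor k K) ≤ Finsupp.single Q 1 := by
    intro Q
    rw [← Finsupp.single_zero Q]
    exact single_le_single Q (by norm_num)
  -- `ℓ(Q + Q') = 1`
  have hPQ : ∀ Q Q' : Place k K,
      ell (Finsupp.single Q 1 + Finsupp.single Q' 1 : Divisor k K) = 1 := by
    intro Q Q'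
    apply ell_eq_one_of_gonality hK (d := 2) h2 (add_nonneg (hsingle0 Q) (hsingle0 Q'))
    rw [Divisor.deg_add, hdegS, hdegS]; norm_num
  -- genus at least two
  have hg2 : 2 ≤ genus k K := by
    have := le_genus hK (Finsupp.single P 1 + Finsupp.single P 1 : Divisor k K)
    rw [hPQ, Divisor.deg_add, hdegS] at this
    push_cast at this
    omega
  have hg : 0 < genus k K := by omega
  -- pick `j`
  have h1 : ell (D - Finsupp.single P 1) < ell D := ell_sub_single_lt hK hg D (Or.inr hD) P
  have hφL : ∀ i, φ i ∈ L D := fun i => hspan ▸ Submodule.subset_span ⟨i, rfl⟩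
  obtain ⟨j, hj⟩ : ∃ j, φ j ∉ L (D - Finsupp.single P 1) := by
    by_contra hcon
    push Not at hcon
    have hle : L D ≤ L (D - Finsupp.single P 1) := by
      rw [← hspan, Submodule.span_le]
      rintro _ ⟨i, rfl⟩
      exact hcon i
    obtain ⟨x, hx, hx'⟩ := exists_mem_not_mem_of_ell_lt hK h1
    exact hx' (hle hx)
  have hjv : P.1 (φ j) = WithZero.exp (D P) := val_eq_of_mem_of_notMem (hφL j) hj
  have hj0 : φ j ≠ 0 := hφ.ne_zero j
  refine fun z hz => ⟨j, hj0, fun i => by rw [hjv]; exact hφL i P, ?_⟩
  set E := D + div k (φ j) with hEdef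
  have hEc : IsCanonical k K E := isCanonical_add_div hK hD hj0
  have hE : 0 ≤ E := by
    rw [hEdef, add_comm]; exact div_add_nonneg_of_mem_L hK hj0 (hφL j)
  have hEP : E P = 0 := by
    rw [hEdef, Finsupp.add_apply, div_apply hK]
    rw [Place.val_eq_exp_neg_ord P hj0, WithZero.exp_inj] at hjv
    omega
  have hEdeg : E.deg = 2 * (genus k K : ℤ) - 2 := deg_canonical hK hEc
  have hEell : ell E = genus k K := ell_canonical hK hEc
  have hell : ∀ F : Divisor k K, 2 * (genus k K : ℤ) - 1 ≤ F.deg →
      (ell F : ℤ) = F.deg + 1 - genus k K := fun F h => ell_eq_of_deg_ge hK h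
  have hbpf : ∀ Q : Place k K, ell (E - Finsupp.single Q 1) < ell E :=
    fun Q => ell_sub_single_lt hK hg E (Or.inr hEc) Q
  have hellQ : ∀ Q : Place k K, (ell (E - Finsupp.single Q 1) : ℤ) = (genus k K : ℤ) - 1 := by
    intro Q
    have a := riemann_roch hK hEc (E - Finsupp.single Q 1)
    have e : E - (E - Finsupp.single Q 1) = Finsupp.single Q 1 := by abel
    have h3 : ell (Finsupp.single Q 1 : Divisor k K) = 1 := ell_single_one_of_pos_genus hK hg Q
    rw [e, h3, Divisor.deg_sub, hdegS, hEdeg] at a
    push_cast at a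
    omega
  have hsep : ∀ Q : Place k K,
      ell (E - Finsupp.single Q 1 - Finsupp.single P 1) < ell (E - Finsupp.single Q 1) := by
    intro Q
    have a := riemann_roch hK hEc (E - Finsupp.single Q 1 - Finsupp.single P 1)
    have e : E - (E - Finsupp.single Q 1 - Finsupp.single P 1) =
        Finsupp.single Q 1 + Finsupp.single P 1 := by abel
    rw [e, hPQ, Divisor.deg_sub, Divisor.deg_sub, hdegS, hdegS, hEdeg] at a
    have b := hellQ Q
    push_cast at a
    omega
  have hdim : ∀ m : ℕ, 3 ≤ m → ell (m • E + E) + ell (m • E - E) ≤ 2 * ell (m • E) := by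
    intro m hm
    have hg2' : (2 : ℤ) ≤ genus k K := by exact_mod_cast hg2
    have hm' : (3 : ℤ) ≤ m := by exact_mod_cast hm
    have hmd : 2 * E.deg ≤ ((m : ℤ) - 1) * E.deg := by nlinarith
    have a := hell (m • E) (by rw [Divisor.deg_nsmul]; nlinarith)
    have b := hell (m • E + E) (by rw [Divisor.deg_add, Divisor.deg_nsmul]; nlinarith)
    have c := hell (m • E - E) (by rw [Divisor.deg_sub, Divisor.deg_nsmul]; nlinarith)
    rw [Divisor.deg_nsmul] at a
    rw [Divisor.deg_add, Divisor.deg_nsmul] at b
    rw [Divisor.deg_sub, Divisor.deg_nsmul] at c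
    have : ((ell (m • E + E) + ell (m • E - E) : ℕ) : ℤ) ≤ ((2 * ell (m • E) : ℕ) : ℤ) := by
      push_cast; linarith
    exact_mod_cast this
  set A := Algebra.adjoin k (Set.range fun i => φ i / φ j) with hA
  have hLA : ∀ x ∈ L E, x ∈ A := by
    intro x hx
    have h2 : φ j * x ∈ L D := (mul_mem_L_iff hK D x hj0).mpr hx
    rw [← hspan] at h2
    have hmap : (Submodule.span k (Set.range φ)).map (LinearMap.mulLeft k (φ j)⁻¹) ≤
        Subalgebra.toSubmodule A := by
      rw [Submodule.map_span, Submodule.span_le]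
      rintro _ ⟨_, ⟨i, rfl⟩, rfl⟩
      change (φ j)⁻¹ * φ i ∈ A
      rw [inv_mul_eq_div]
      exact Algebra.subset_adjoin ⟨i, rfl⟩
    have h3 : LinearMap.mulLeft k (φ j)⁻¹ (φ j * x) ∈ Subalgebra.toSubmodule A :=
      hmap (Submodule.mem_map_of_mem h2)
    rw [LinearMap.mulLeft_apply, inv_mul_cancel_left₀ hj0] at h3
    exact h3
  have hAO : ∀ a ∈ A, P.1 a ≤ 1 := by
    intro a ha
    induction ha using Algebra.adjoin_induction with
    | mem x hx =>
      obtain ⟨i, rfl⟩ := hx
      rw [map_div₀, hjv]
      exact div_le_one_of_le₀ (hφL i P) zero_le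
    | algebraMap c => exact Place.val_k_le P c
    | add x y _ _ hx hy => exact (P.1.map_add x y).trans (max_le hx hy)
    | mul x y _ _ hx hy => rw [map_mul]; exact mul_le_one' hx hy
  exact locAt_eq_top_of_pencil hK hE P hEP hbpf hsep 3 hdim A hLA hAO z hz

end Groth.Agent.S11057
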