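import Groth.Statements.S11058
import Mathlib
import Groth.Agent.Lib.Helper4.FF.ProjMap7

set_option autoImplicit false
open FunFld
open Groth.Agent.Lib.Helper4.FF

namespace Groth.Agent.S11058

/-- Over an algebraically closed constant field, a birational projective map `φ = (φ₀, …, φₙ)` (the
ratios `φᵢ/φ₀` generate `K` over `k`) is nonsingular at all but finitely many places. Here a
projective map is nonsingular at a place when its local ring there (quotients of polynomials over
`k` in the ratios `φᵢ/φⱼ`, `φⱼ` of least order at the place, with denominator a unit there) is the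
whole valuation ring. -/
theorem result
    (k K : Type*) [Field k] [IsAlgClosed k] [Field K] [Algebra k K]
    (hK : FunFld.IsFunctionField k K) {n : ℕ} (hn : 1 ≤ n) (φ : Fin (n + 1) → K)
    (hφ : LinearIndependent k φ)
    (hbir : IntermediateField.adjoin k (Set.range fun i => φ i / φ 0) = ⊤) :
    {P : FunFld.Place k K | ¬ FunFld.IsNonsingularAt φ P}.Finite := by
  classical
  have hφ0 : ∀ i, φ i ≠ 0 := fun i => hφ.ne_zero i
  set A : Subalgebra k K := ratioAlg φ 0 with hA
  obtain ⟨x, hxA, hpoles⟩ := exists_generic_ratio hK φ hφ0 0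
  have hfrac : ∀ b : K, ∃ u ∈ A, ∃ w ∈ A, w ≠ 0 ∧ b * w = u := by
    intro b
    have hb : b ∈ IntermediateField.adjoin k (Set.range fun i => φ i / φ 0) := by
      rw [hbir]; trivial
    obtain ⟨r, hr, s, hs, e⟩ := IntermediateField.mem_adjoin_iff_div.mp hb
    by_cases hs0 : s = 0
    · refine ⟨0, A.zero_mem, 1, A.one_mem, one_ne_zero, ?_⟩
      rw [e, hs0, div_zero, zero_mul]
    · exact ⟨r, hr, s, hs, hs0, by rw [e]; field_simp⟩
  have hxt : Transcendental k x := by
    apply transcendental_of_notMem hK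
    rintro ⟨c, rfl⟩
    have hAk : ∀ a ∈ A, a ∈ Set.range (algebraMap k K) := by
      intro a ha
      apply mem_range_of_forall_le_one hK
      intro Q
      by_contra h
      push Not at h
      exact absurd (hpoles a ha Q h) (not_lt.mpr (Place.val_k_le Q c))
    obtain ⟨⟨y, hyt, -⟩, -⟩ := hK
    obtain ⟨u, hu, w, hw, hw0, e⟩ := hfrac y
    obtain ⟨cu, rfl⟩ := hAk u hu
    obtain ⟨cw, rfl⟩ := hAk w hw
    apply hyt
    have hy : y = algebraMap k K (cu / cw) := by
      rw [map_div₀, eq_div_iff hw0]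
      exact e
    rw [hy]
    exact isAlgebraic_algebraMap _
  have hx0 : x ≠ 0 := by
    rintro rfl
    exact hxt isAlgebraic_zero
  obtain ⟨w₀, hw₀A, hw₀0, H⟩ := exists_conductor hK A hxA hxt hfrac
  refine ((finite_poles hK hx0).union (finite_zeros hK hw₀0)).subset ?_
  intro P hP
  by_contra hnot
  rw [Set.mem_union, not_or] at hnot
  obtain ⟨hPx, hPw⟩ := hnot
  have hPx' : P.1 x ≤ 1 := not_lt.mp hPx
  have hPw' : 1 ≤ P.1 w₀ := not_lt.mp hPw
  apply hP
  have hAO : ∀ a ∈ A, P.1 a ≤ 1 := by
    intro a ha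
    by_contra h
    push Not at h
    exact absurd (hpoles a ha P h) (not_lt.mpr hPx')
  have hPw1 : P.1 w₀ = 1 := le_antisymm (hAO w₀ hw₀A) hPw'
  have hleast : ∀ i, P.1 (φ i) ≤ P.1 (φ 0) := by
    intro i
    have := hAO _ (ratio_mem_ratioAlg φ 0 i)
    rw [map_div₀] at this
    rwa [div_le_one₀ (zero_lt_iff.mpr ((Valuation.ne_zero_iff _).mpr (hφ0 0)))] at this
  intro z hz
  exact ⟨0, hφ0 0, hleast, H P hPx' hPw1 z hz⟩

end Groth.Agent.S11058
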