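import Groth.Statements.S11060
import Mathlib
import Groth.Agent.Lib.Helper4.FF.Plane4

set_option autoImplicit false
open FunFld
open Groth.Agent.Lib.Helper4.FF

namespace Groth.Agent.S11060

/-- Over an algebraically closed constant field, a function field of genus `g` with a nonsingular plane
model has `g` a triangular number. Here a projective map is nonsingular at a place when its local
ring there (quotients of polynomials over `k` in the ratios `φᵢ/φⱼ`, `φⱼ` of least order at the
place, with denominator a unit there) is the whole valuation ring. -/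
theorem result
    (k K : Type*) [Field k] [IsAlgClosed k] [Field K] [Algebra k K]
    (hK : FunFld.IsFunctionField k K)
    (h : ∃ x y : K, IntermediateField.adjoin k ({x, y} : Set K) = ⊤ ∧
      ∀ P : FunFld.Place k K, FunFld.IsNonsingularAt ![(1 : K), x, y] P) :
    ∃ m : ℕ, 2 * FunFld.genus k K = m * (m + 1) := by
  obtain ⟨x, y, hxy, hns⟩ := h
  have hg := genus_eq_of_nonsingular hK x y hxy hns
  obtain ⟨x', y', -, -, hxt, hpd, -, hgen, -⟩ := exists_generic_coords hK x y hxy
  obtain ⟨dn, hdeg, hdpos, -⟩ := plane_setup hK hxt hgen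
  rw [← hpd, hdeg] at hg
  rcases Nat.lt_or_ge dn 2 with h2 | h2
  · have h1 : dn = 1 := by omega
    refine ⟨0, ?_⟩
    rw [h1] at hg
    have : (2 * genus k K : ℤ) = 0 := by rw [hg]; norm_num
    have h3 : 2 * genus k K = 0 := by exact_mod_cast this
    rw [h3]
  · refine ⟨dn - 2, ?_⟩
    have h3 : ((2 * genus k K : ℕ) : ℤ) = (((dn - 2) * (dn - 2 + 1) : ℕ) : ℤ) := by
      push_cast
      rw [Nat.cast_sub h2, hg]
      push_cast
      ring
    exact_mod_cast h3

end Groth.Agent.S11060
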