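import Groth.Statements.S11065
import Mathlib
import Groth.Agent.Lib.Helper4.FF.ProjMap6

set_option autoImplicit false
open FunFld
open Groth.Agent.Lib.Helper4.FF

namespace Groth.Agent.S11065

/-- Over an algebraically closed constant field, a projective map `φ = (φ₀, …, φₙ)`, `n ≥ 1`, is
nonsingular at the place `P` if and only if its local ring at `P` lies in the valuation ring of no
place other than `P` and contains a local parameter at `P`. Here the local ring of a projective map
at a place consists of the quotients of polynomials over `k` in the ratios `φᵢ/φⱼ`, `φⱼ` of least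
order at the place, with denominator a unit there; the map is nonsingular at the place when this
ring is the whole valuation ring. (The published statement is for any projective map; the published
proof uses the finiteness property of the local ring that is established for birational maps, so `φ`
is taken birational here: the ratios `φᵢ/φ₀` generate `K` over `k`.) -/
theorem result
    (k K : Type*) [Field k] [IsAlgClosed k] [Field K] [Algebra k K]
    (hK : FunFld.IsFunctionField k K) {n : ℕ} (hn : 1 ≤ n)
    (φ : Fin (n + 1) → K) (hφ : LinearIndependent k φ)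
    (hbir : IntermediateField.adjoin k (Set.range fun i => φ i / φ 0) = ⊤) (P : FunFld.Place k K) :
    FunFld.IsNonsingularAt φ P ↔
      (∀ Q : FunFld.Place k K, (∀ z : K, FunFld.InLocRing φ P z → Q.1 z ≤ 1) → Q = P) ∧
        ∃ t : K, FunFld.InLocRing φ P t ∧ P.1 t = WithZero.exp (-1) := by
  classical
  have hφ0 : ∀ i, φ i ≠ 0 := fun i => hφ.ne_zero i
  constructor
  · intro hns
    refine ⟨fun Q hQ => ?_, ?_⟩
    · exact (place_eq_of_forall P Q (fun z hz => hQ z (hns z hz.le))).symm
    · obtain ⟨t, ht⟩ := Place.exists_uniformizer P
      refine ⟨t, hns t ?_, ht⟩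
      rw [ht, ← WithZero.exp_zero, WithZero.exp_le_exp]; norm_num
  · rintro ⟨H1, t, htR, htv⟩
    obtain ⟨j, hleast⟩ := exists_least φ P
    have hj := hφ0 j
    rw [inLocRing_iff hj hleast] at htR
    obtain ⟨u, hu, w, hw, hw1, e⟩ := htR
    have huv : P.1 u = WithZero.exp (-1 : ℤ) := by rw [← e, map_mul, hw1, mul_one, htv]
    refine isNonsingularAt_of_sep hK φ hφ0 P hleast ?_ hu huv
    intro Q hQP hQA
    -- some element of the local ring is not integral at `Q`
    have hex : ∃ z : K, InLocRing φ P z ∧ 1 < Q.1 z := by
      by_contra hcon
      push Not at hcon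
      exact hQP (H1 Q hcon)
    obtain ⟨z, hzR, hzQ⟩ := hex
    rw [inLocRing_iff hj hleast] at hzR
    obtain ⟨u', hu', w', hw', hw1', e'⟩ := hzR
    refine ⟨w', hw', hw1', ?_⟩
    have h1 : Q.1 z * Q.1 w' ≤ 1 := by
      rw [← map_mul, e']; exact hQA u' hu'
    by_contra hge
    push Not at hge
    have h2 : Q.1 w' = 1 := le_antisymm (hQA w' hw') hge
    rw [h2, mul_one] at h1
    exact absurd h1 (not_le.mpr hzQ)

end Groth.Agent.S11065
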