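import Groth.Statements.S11066
import Mathlib
import Groth.Agent.Lib.Helper4.FF.ProjMap5

set_option autoImplicit false
open FunFld
open Groth.Agent.Lib.Helper4.FF

namespace Groth.Agent.S11066

/-- Over an algebraically closed constant field, for an effective projective map `φ` normalized at the
place `P` (`1` in the span of the entries, all entries integral at `P`), the local ring of `φ` at
`P` has an element of order one at `P` (a local parameter) exactly when the span of the entries has
one. The local ring consists of the quotients of polynomials over `k` in the ratios `φᵢ/φⱼ`, `φⱼ` of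
least order at `P`, with denominator a unit at `P`. -/
theorem result
    (k K : Type*) [Field k] [IsAlgClosed k] [Field K] [Algebra k K]
    (hK : FunFld.IsFunctionField k K) {n : ℕ} (φ : Fin (n + 1) → K)
    (P : FunFld.Place k K) (heff : (1 : K) ∈ Submodule.span k (Set.range φ))
    (hnorm : ∀ i, P.1 (φ i) ≤ 1) :
    (∃ t : K, FunFld.InLocRing φ P t ∧ P.1 t = WithZero.exp (-1)) ↔
      ∃ t ∈ Submodule.span k (Set.range φ), P.1 t = WithZero.exp (-1) := by
  classical
  have hres : ∀ z : K, P.1 z ≤ 1 → ∃ c : k, P.1 (z - algebraMap k K c) < 1 :=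
    fun z hz => Place.exists_const_sub_lt P (Place.deg_eq_one hK P) hz
  -- some entry is a unit at `P`
  obtain ⟨j, hjv⟩ : ∃ j, P.1 (φ j) = 1 := by
    by_contra hcon
    push Not at hcon
    have hlt : ∀ i, P.1 (φ i) < 1 := fun i => lt_of_le_of_ne (hnorm i) (hcon i)
    have hall : ∀ x ∈ Submodule.span k (Set.range φ), P.1 x < 1 := by
      intro x hx
      induction hx using Submodule.span_induction with
      | mem x hx => obtain ⟨i, rfl⟩ := hx; exact hlt i
      | zero => simp
      | add x y _ _ hx hy => exact (P.1.map_add _ _).trans_lt (max_lt hx hy)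
      | smul c x _ hx =>
        rw [Algebra.smul_def, map_mul]
        calc P.1 (algebraMap k K c) * P.1 x ≤ 1 * P.1 x := mul_le_mul_left (Place.val_k_le P c) _
          _ < 1 := by rw [one_mul]; exact hx
    have := hall 1 heff
    rw [map_one] at this
    exact lt_irrefl _ this
  have hj : φ j ≠ 0 := by
    intro h
    rw [h, map_zero] at hjv
    exact zero_ne_one hjv
  have hleast : ∀ i, P.1 (φ i) ≤ P.1 (φ j) := fun i => by rw [hjv]; exact hnorm i
  constructor
  · rintro ⟨t, ht, htv⟩
    rw [inLocRing_iff hj hleast] at ht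
    obtain ⟨u, hu, w, hw, hw1, e⟩ := ht
    have huv : P.1 u = WithZero.exp (-1 : ℤ) := by rw [← e, map_mul, hw1, mul_one, htv]
    set V := Submodule.span k (Set.range fun i => φ i / φ j) with hV
    have h1V : (1 : K) ∈ V := by
      have := Submodule.subset_span (R := k) (s := Set.range fun i => φ i / φ j) ⟨j, rfl⟩
      simp only [div_self hj] at this
      exact this
    have hVO : ∀ v ∈ V, P.1 v ≤ 1 := fun v hv =>
      val_le_one_of_mem_ratioAlg hleast (span_ratio_le_ratioAlg φ j hv)
    have hu' : u ∈ Algebra.adjoin k (V : Set K) := Algebra.adjoin_mono Submodule.subset_span hu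
    obtain ⟨v, hv, hv2⟩ := exists_first_order P hres V h1V hVO hu'
    have hvv : P.1 v = WithZero.exp (-1 : ℤ) := by
      have e2 : v = u - (u - v) := by ring
      rw [e2, Valuation.map_sub_eq_of_lt_left, huv]
      rw [huv]
      refine lt_of_le_of_lt hv2 ?_
      rw [WithZero.exp_lt_exp]; norm_num
    exact ⟨v * φ j, mul_mem_span_of_mem_span_ratio hj hv, by rw [map_mul, hjv, mul_one, hvv]⟩
  · rintro ⟨t, ht, htv⟩
    refine ⟨t, (inLocRing_iff hj hleast).mpr ⟨t / φ j,
      span_ratio_le_ratioAlg φ j (div_mem_span_ratio j ht), 1 / φ j,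
      span_ratio_le_ratioAlg φ j (div_mem_span_ratio j heff), ?_, ?_⟩, htv⟩
    · rw [map_div₀, map_one, hjv, div_one]
    · rw [mul_one_div]

end Groth.Agent.S11066
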