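import Groth.Statements.S11067
import Mathlib
import Groth.Agent.Lib.Helper9.FFExt.PlaneFP
import Groth.Agent.Lib.Helper9.FFExt.IntCl4
import Groth.Agent.Lib.Helper4.FF.Plane3
-- import your own Groth.Agent.* helpers here

set_option autoImplicit false
open FunFld

namespace Groth.Agent.S11067

namespace Aux
universe u v

open FunFld WithZero Polynomial
open Groth.Agent.Lib.Helper4.FF Groth.Agent.Helper9.FFExt Groth.Agent.Helper9.PlaneFP
  Groth.Agent.Helper9.PlaneDiff

variable {k : Type u} {K : Type v} [Field k] [Field K] [Algebra k K]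

/-- elements of `k[x]` are integral at the places where `x` is -/
lemma val_le_one_of_mem_adjoin {x : K} (Q : Place k K) (hQ : Q.1 x ≤ 1) {a : K}
    (ha : a ∈ Algebra.adjoin k ({x} : Set K)) : Q.1 a ≤ 1 := by
  induction ha using Algebra.adjoin_induction with
  | mem z hz => rw [Set.mem_singleton_iff] at hz; rw [hz]; exact hQ
  | algebraMap c => exact Place.val_k_le Q c
  | add a b _ _ ha hb => exact (Q.1.map_add a b).trans (max_le ha hb)
  | mul a b _ _ ha hb => rw [map_mul]; exact mul_le_one' ha hb

/-- an element integral over `k[x]` is integral at the places where `x` is -/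
lemma val_le_one_of_isIntegral_adjoin {x y : K} (Q : Place k K) (hQ : Q.1 x ≤ 1)
    (hy : IsIntegral (Algebra.adjoin k ({x} : Set K)) y) : Q.1 y ≤ 1 := by
  let φ : Algebra.adjoin k ({x} : Set K) →+* Q.O :=
    { toFun := fun a => ⟨a.1, (Place.mem_O_iff Q).mpr (val_le_one_of_mem_adjoin Q hQ a.2)⟩
      map_one' := rfl
      map_mul' := fun _ _ => rfl
      map_zero' := rfl
      map_add' := fun _ _ => rfl }
  have h1 : IsIntegral Q.O (RingHom.id K y) :=
    IsIntegral.map_of_comp_eq φ (RingHom.id K) (by ext; rfl) hy
  exact (Valuation.valuationSubring.integers Q.1).isIntegral_iff_v_le_one.mp h1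


/-- in `k(x)`, an element integral at all finite places is a polynomial -/
lemma mem_adjoin_gen_of_forall [IsAlgClosed k] (hK : IsFunctionField k K) {x : K}
    (hxt : Transcendental k x) (c : IntermediateField.adjoin k ({x} : Set K))
    (hc : ∀ P : Place k (IntermediateField.adjoin k ({x} : Set K)),
      P.1 (IntermediateField.AdjoinSimple.gen k x) ≤ 1 → P.1 c ≤ 1) :
    c ∈ Algebra.adjoin k ({IntermediateField.AdjoinSimple.gen k x} :
      Set (IntermediateField.adjoin k ({x} : Set K))) := by
  classical
  let E := IntermediateField.adjoin k ({x} : Set K)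
  let xE : E := IntermediateField.AdjoinSimple.gen k x
  have hEf : IsFunctionField k E := isFunctionField_adjoin hK hxt
  have hfrac : ∀ w : E, ∃ u ∈ Algebra.adjoin k ({xE} : Set E),
      ∃ v ∈ Algebra.adjoin k ({xE} : Set E), v ≠ 0 ∧ w * v = u := by
    intro w
    have hw : w ∈ IntermediateField.adjoin k ({xE} : Set E) := by
      rw [adjoin_gen_eq_top x]; trivial
    obtain ⟨r, hr, s, hs, e⟩ := IntermediateField.mem_adjoin_iff_div.mp hw
    by_cases hs0 : s = 0
    · refine ⟨0, Subalgebra.zero_mem _, 1, Subalgebra.one_mem _, one_ne_zero, ?_⟩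
      rw [e, hs0, div_zero, zero_mul]
    · exact ⟨r, hr, s, hs, hs0, by rw [e]; field_simp⟩
  apply mem_of_forall_locAt hEf (Algebra.adjoin k ({xE} : Set E)) hfrac
  intro P hP
  have hPx : P.1 xE ≤ 1 := hP xE (Algebra.subset_adjoin (Set.mem_singleton _))
  exact mem_locAt_adjoin_gen hK hxt P hPx c (hc P hPx)

theorem main [IsAlgClosed k]
    (hK : FunFld.IsFunctionField k K) (x y : K) (hx : Transcendental k x)
    (hxy : IntermediateField.adjoin k ({x, y} : Set K) = ⊤)
    (hy : IsIntegral (Algebra.adjoin k ({x} : Set K)) y) :
    (Algebra.adjoin k ({x, y} : Set K) : Set K) =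
      ⋂ (P : FunFld.Place k (IntermediateField.adjoin k ({x} : Set K)))
        (_ : P.1 ⟨x, IntermediateField.mem_adjoin_simple_self k x⟩ ≤ 1),
        (Subring.closure
          ((algebraMap (IntermediateField.adjoin k ({x} : Set K)) K '' (P.O : Set _)) ∪ {y}) :
          Set K) := by
  classical
  let E := IntermediateField.adjoin k ({x} : Set K)
  let xE : E := IntermediateField.AdjoinSimple.gen k x
  have hxE : algebraMap E K xE = x := rfl
  have hEf : IsFunctionField k E := isFunctionField_adjoin hK hx
  have hEw : IsFFw k E := isFFw_adjoin hx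
  have hfd : FiniteDimensional E K := finiteDimensional_adjoin hK hx
  have htop : IntermediateField.adjoin E ({y} : Set K) = ⊤ := by
    have h1 := IntermediateField.adjoin_simple_adjoin_simple (F := k) (α := x) y
    rw [hxy] at h1
    rw [eq_top_iff]
    intro z _
    have : z ∈ (IntermediateField.adjoin E ({y} : Set K)).restrictScalars k := by
      rw [h1]; trivial
    exact this
  have hyE : IsIntegral E y := Algebra.IsIntegral.isIntegral y
  set n := (minpoly E y).natDegree with hn
  have hli : LinearIndependent E fun i : Fin n => y ^ (i : ℕ) := linearIndependent_pow y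
  -- representation at a finite place
  have hrepr : ∀ P : Place k E, P.1 xE ≤ 1 → ∀ z ∈ Subring.closure
      ((algebraMap E K '' (P.O : Set E)) ∪ {y}), ∃ c : Fin n → E, (∀ j, P.1 (c j) ≤ 1) ∧
        z = ∑ j, algebraMap E K (c j) * y ^ (j : ℕ) := by
    intro P hP z hz
    let _ : Algebra P.O K := ((algebraMap E K).comp (algebraMap P.O E)).toAlgebra
    have : IsScalarTower P.O E K := IsScalarTower.of_algebraMap_eq fun z => rfl
    have hyi : IsIntegral P.O y := by
      rw [isIntegral_iff hEw P y]
      intro Q hQ
      obtain ⟨e, he⟩ := hQ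
      have h1 : Q.1 x ≤ 1 := (ow_le_one_iff he xE).mpr hP
      exact val_le_one_of_isIntegral_adjoin Q h1 hy
    have hmin : minpoly E y = (minpoly P.O y).map (algebraMap P.O E) :=
      minpoly.isIntegrallyClosed_eq_field_fractions' E hyi
    have hmonic : (minpoly P.O y).Monic := minpoly.monic hyi
    have hdeg : (minpoly P.O y).natDegree = n := by
      rw [hn, hmin, hmonic.natDegree_map]
    have hzq : ∃ q : P.O[X], Polynomial.aeval y q = z := by
      have hle : Subring.closure ((algebraMap E K '' (P.O : Set E)) ∪ {y}) ≤
          (Polynomial.aeval y : P.O[X] →ₐ[P.O] K).range.toSubring := by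
        rw [Subring.closure_le]
        rintro w (⟨r, hr, rfl⟩ | hw)
        · refine ⟨Polynomial.C ⟨r, hr⟩, ?_⟩
          rw [AlgHom.toRingHom_eq_coe, RingHom.coe_coe, Polynomial.aeval_C]
          rfl
        · rw [Set.mem_singleton_iff] at hw
          rw [hw]
          exact ⟨Polynomial.X, by simp⟩
      obtain ⟨q, hq⟩ := hle hz
      exact ⟨q, hq⟩
    obtain ⟨q, rfl⟩ := hzq
    set r := q %ₘ minpoly P.O y with hr
    have hrq : Polynomial.aeval y q = Polynomial.aeval y r := by
      have h1 := Polynomial.modByMonic_add_div q (minpoly P.O y)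
      conv_lhs => rw [← h1]
      rw [map_add, map_mul, minpoly.aeval, zero_mul, add_zero]
    have hrdeg : r.natDegree < n ∨ n = 0 := by
      by_cases hn0 : n = 0
      · exact Or.inr hn0
      · left
        rw [← hdeg]
        apply Polynomial.natDegree_modByMonic_lt _ hmonic
        intro h1
        rw [h1, Polynomial.natDegree_one] at hdeg
        exact hn0 hdeg.symm
    have hn0 : n ≠ 0 := by
      intro hn0
      have := minpoly.natDegree_pos hyE
      omega
    have hrdeg' : r.natDegree < n := hrdeg.resolve_right hn0
    refine ⟨fun j => ((r.coeff j : P.O) : E), fun j => (Place.mem_O_iff P).mp (r.coeff j).2, ?_⟩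
    rw [hrq, Polynomial.aeval_eq_sum_range' hrdeg', Fin.sum_univ_eq_sum_range
      (fun j => algebraMap E K ((r.coeff j : P.O) : E) * y ^ j) n]
    refine Finset.sum_congr rfl fun j _ => ?_
    rw [Algebra.smul_def]
    rfl
  apply Set.Subset.antisymm
  · intro a ha
    simp only [Set.mem_iInter, SetLike.mem_coe]
    intro P hP
    induction ha using Algebra.adjoin_induction with
    | mem z hz =>
      rcases hz with rfl | rfl
      · apply Subring.subset_closure
        left
        exact ⟨xE, (Place.mem_O_iff P).mpr hP, rfl⟩
      · apply Subring.subset_closure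
        right
        rfl
    | algebraMap c =>
      apply Subring.subset_closure
      left
      exact ⟨algebraMap k E c, (Place.mem_O_iff P).mpr (Place.val_k_le P c), rfl⟩
    | add a b _ _ ha hb => exact Subring.add_mem _ ha hb
    | mul a b _ _ ha hb => exact Subring.mul_mem _ ha hb
  · intro z hz
    simp only [Set.mem_iInter, SetLike.mem_coe] at hz
    -- a finite place
    have hxinvt : Transcendental k (xE⁻¹) := by
      intro halg
      apply hx
      have h1 := halg.inv
      rw [inv_inv] at h1
      have := h1.algebraMap (A := K)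
      rwa [hxE] at this
    obtain ⟨P₀, hP₀⟩ := exists_pole hEf hxinvt
    have hP₀x : P₀.1 xE ≤ 1 := by
      rw [map_inv₀] at hP₀
      by_contra h
      push Not at h
      have : (P₀.1 xE)⁻¹ < 1 := inv_lt_one_of_one_lt₀ h
      exact absurd hP₀ (not_lt.mpr this.le)
    obtain ⟨c, -, hzc⟩ := hrepr P₀ hP₀x z (hz P₀ hP₀x)
    have hcall : ∀ P : Place k E, P.1 xE ≤ 1 → ∀ j, P.1 (c j) ≤ 1 := by
      intro P hP j
      obtain ⟨c', hc', hzc'⟩ := hrepr P hP z (hz P hP)
      have heq : ∑ j, (c j - c' j) • (y ^ (j : ℕ)) = 0 := by
        simp only [Algebra.smul_def, map_sub, sub_mul, Finset.sum_sub_distrib]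
        rw [← hzc, ← hzc', sub_self]
      have := Fintype.linearIndependent_iff.mp hli (fun j => c j - c' j) heq j
      rw [sub_eq_zero.mp this]
      exact hc' j
    have hcA : ∀ j, c j ∈ Algebra.adjoin k ({xE} : Set E) := fun j =>
      mem_adjoin_gen_of_forall hK hx (c j) (fun P hP => hcall P hP j)
    have hmap : ∀ s ∈ Algebra.adjoin k ({xE} : Set E),
        algebraMap E K s ∈ Algebra.adjoin k ({x, y} : Set K) := by
      intro s hs
      induction hs using Algebra.adjoin_induction with
      | mem s hs =>
        rw [Set.mem_singleton_iff] at hs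
        rw [hs, hxE]
        exact Algebra.subset_adjoin (by simp)
      | algebraMap c =>
        rw [← IsScalarTower.algebraMap_apply]
        exact Subalgebra.algebraMap_mem _ c
      | add s t _ _ hs ht => rw [map_add]; exact Subalgebra.add_mem _ hs ht
      | mul s t _ _ hs ht => rw [map_mul]; exact Subalgebra.mul_mem _ hs ht
    rw [hzc]
    change _ ∈ Algebra.adjoin k ({x, y} : Set K)
    apply Subalgebra.sum_mem
    intro j _
    exact Subalgebra.mul_mem _ (hmap _ (hcA j))
      (Subalgebra.pow_mem _ (Algebra.subset_adjoin (by simp)) _)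

end Aux

/-- Over an algebraically closed constant field, for a plane curve with natural map `(1 : x : y)` (so `K
= k(x, y)`) and `y` integral over `k[x]`, the ring `k[x, y]` is the intersection of the rings
`O_P[y]` over the places `P` of `k(x)` at which `x` is integral. -/
theorem result
    (k K : Type*) [Field k] [IsAlgClosed k] [Field K] [Algebra k K]
    (hK : FunFld.IsFunctionField k K) (x y : K) (hx : Transcendental k x)
    (hxy : IntermediateField.adjoin k ({x, y} : Set K) = ⊤)
    (hy : IsIntegral (Algebra.adjoin k ({x} : Set K)) y) :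
    (Algebra.adjoin k ({x, y} : Set K) : Set K) =
      ⋂ (P : FunFld.Place k (IntermediateField.adjoin k ({x} : Set K)))
        (_ : P.1 ⟨x, IntermediateField.mem_adjoin_simple_self k x⟩ ≤ 1),
        (Subring.closure
          ((algebraMap (IntermediateField.adjoin k ({x} : Set K)) K '' (P.O : Set _)) ∪ {y}) :
          Set K) := by
  exact Aux.main hK x y hx hxy hy

end Groth.Agent.S11067
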