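import Groth.Statements.S11068
import Mathlib
import Groth.Prelude.Def_W4bk4goldsch45
import Groth.Agent.Lib.Helper9.Zeta.Zeta6
-- import your own Groth.Agent.* helpers here

set_option autoImplicit false
open FunFld

namespace Groth.Agent.S11068

open FunFld
namespace Aux
open Groth.Agent.Lib.Helper4.FF Groth.Agent.Helper9.FFExt Groth.Agent.Helper9.Zeta WithZero Polynomial

section General

variable {k K : Type*} [Field k] [Field K] [Algebra k K]

/-- a place all of whose integral elements are congruent to constants has degree one -/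
theorem deg_eq_one_of_forall_const (P : Place k K)
    (h : ∀ z : K, P.1 z ≤ 1 → ∃ c : k, P.1 (z - algebraMap k K c) < 1) : P.deg = 1 := by
  have hone : Place.resₗ P (1 : P.O) ≠ 0 := by
    rw [Ne, Place.resₗ_eq_zero_iff]
    simp
  change Module.finrank k (IsLocalRing.ResidueField P.O) = 1
  rw [finrank_eq_one_iff_of_nonzero' (Place.resₗ P (1 : P.O)) hone]
  intro w
  obtain ⟨z', rfl⟩ := Place.resₗ_surjective P w
  obtain ⟨c, hc⟩ := h (z' : K) ((Place.mem_O_iff P).mp z'.2)
  refine ⟨c, ?_⟩
  have h2 : Place.resₗ P (z' - c • (1 : P.O)) = 0 := by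
    rw [Place.resₗ_eq_zero_iff]
    convert hc using 2
    change (z' : K) - ((c • (1 : P.O) : P.O) : K) = (z' : K) - algebraMap k K c
    congr 1
    rw [Algebra.smul_def, mul_one]
    rfl
  rw [map_sub, map_smul, sub_eq_zero] at h2
  exact h2.symm

/-- the fixed points of the `q`-Frobenius in an extension of a finite field with `q` elements -/
theorem mem_range_of_pow_card_eq {k L : Type*} [Field k] [Finite k] [Field L] [Algebra k L] {c : L}
    (hc : c ^ Nat.card k = c) : c ∈ Set.range (algebraMap k L) := by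
  classical
  have := Fintype.ofFinite k
  set q := Nat.card k with hq
  have hq1 : 1 < q := Finite.one_lt_card
  have hne : (X ^ q - X : L[X]) ≠ 0 := FiniteField.X_pow_card_sub_X_ne_zero L hq1
  have hdeg : (X ^ q - X : L[X]).natDegree = q := FiniteField.X_pow_card_sub_X_natDegree_eq L hq1
  set S : Finset L := Finset.univ.image (algebraMap k L) with hS
  set T : Finset L := (X ^ q - X : L[X]).roots.toFinset with hT
  have hScard : S.card = q := by
    rw [hS, Finset.card_image_of_injective _ (algebraMap k L).injective, Finset.card_univ, hq,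
      Nat.card_eq_fintype_card]
  have hST : S ⊆ T := by
    intro x hx
    rw [hS, Finset.mem_image] at hx
    obtain ⟨a, -, rfl⟩ := hx
    rw [hT, Multiset.mem_toFinset, mem_roots hne, IsRoot.def, eval_sub, eval_pow, eval_X, ← map_pow,
      hq, Nat.card_eq_fintype_card, FiniteField.pow_card, sub_self]
  have hTcard : T.card ≤ S.card := by
    rw [hScard]
    calc T.card ≤ Multiset.card (X ^ q - X : L[X]).roots := Multiset.toFinset_card_le _
      _ ≤ (X ^ q - X : L[X]).natDegree := card_roots' _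
      _ = q := hdeg
  have hEq : S = T := Finset.eq_of_subset_of_card_le hST hTcard
  have hcT : c ∈ T := by
    rw [hT, Multiset.mem_toFinset, mem_roots hne, IsRoot.def, eval_sub, eval_pow, eval_X, hc,
      sub_self]
  rw [← hEq, hS, Finset.mem_image] at hcT
  obtain ⟨a, -, ha⟩ := hcT
  exact ⟨a, ha⟩

end General

section Frob

variable {k K kb Kb : Type*} [Field k] [Field K] [Algebra k K] [Field kb] [Algebra k kb]
  [Field Kb] [Algebra K Kb] [Algebra kb Kb] [Algebra k Kb] [IsScalarTower k K Kb]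
  [IsScalarTower k kb Kb]

theorem span_of_adjoin (hgen : Algebra.adjoin K (Set.range (algebraMap kb Kb)) = ⊤) {ι : Type*}
    (b : Module.Basis ι k kb) :
    ⊤ ≤ Submodule.span K (Set.range fun i => algebraMap kb Kb (b i)) := by
  classical
  set W : Submodule K Kb := Submodule.span K (Set.range fun i => algebraMap kb Kb (b i)) with hW
  have hrange : ∀ c : kb, algebraMap kb Kb c ∈ W := by
    intro c
    rw [← b.linearCombination_repr c, Finsupp.linearCombination_apply, map_finsuppSum]
    refine Submodule.sum_mem _ fun i _ => ?_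
    change algebraMap kb Kb ((b.repr c) i • b i) ∈ W
    rw [Algebra.smul_def, map_mul, ← IsScalarTower.algebraMap_apply,
      IsScalarTower.algebraMap_apply k K Kb, ← Algebra.smul_def]
    exact Submodule.smul_mem _ _ (Submodule.subset_span ⟨i, rfl⟩)
  have hmul : ∀ x y, x ∈ W → y ∈ W → x * y ∈ W := by
    intro x y hx hy
    induction hx using Submodule.span_induction with
    | mem x hx =>
      obtain ⟨i, rfl⟩ := hx
      induction hy using Submodule.span_induction with
      | mem y hy =>
        obtain ⟨j, rfl⟩ := hy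
        rw [← map_mul]
        exact hrange _
      | zero => rw [mul_zero]; exact Submodule.zero_mem _
      | add y z _ _ hy hz => rw [mul_add]; exact Submodule.add_mem _ hy hz
      | smul c y _ hy => rw [mul_smul_comm]; exact Submodule.smul_mem _ _ hy
    | zero => rw [zero_mul]; exact Submodule.zero_mem _
    | add x z _ _ hx hz => rw [add_mul]; exact Submodule.add_mem _ hx hz
    | smul c x _ hx => rw [smul_mul_assoc]; exact Submodule.smul_mem _ _ hx
  have hone : (1 : Kb) ∈ W := by
    rw [← map_one (algebraMap kb Kb)]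
    exact hrange 1
  have h1 : Algebra.adjoin K (Set.range (algebraMap kb Kb)) ≤ W.toSubalgebra hone hmul := by
    apply Algebra.adjoin_le
    rintro _ ⟨c, rfl⟩
    exact hrange c
  rw [hgen] at h1
  intro x _
  exact h1 (Algebra.mem_top)

omit [Algebra k kb] [Algebra k Kb] [IsScalarTower k kb Kb] [Field K] [Algebra k K] [Algebra K Kb]
  [IsScalarTower k K Kb] [Field k] in
theorem val_const_eq_one (Q : Place kb Kb) {c : kb} (hc : c ≠ 0) : Q.1 (algebraMap kb Kb c) = 1 := by
  apply le_antisymm (Q.2.1 c)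
  have h1 := Q.2.1 c⁻¹
  rw [map_inv₀, map_inv₀] at h1
  have hne : Q.1 (algebraMap kb Kb c) ≠ 0 :=
    (Valuation.ne_zero_iff _).mpr ((map_ne_zero_iff _ (algebraMap kb Kb).injective).mpr hc)
  exact (inv_le_one₀ (zero_lt_iff.mpr hne)).mp h1

omit [Algebra k kb] [Algebra k Kb] [IsScalarTower k kb Kb] [IsScalarTower k K Kb] in
theorem lt_one_iff_of_le_one_iff {Q : Place kb Kb} {P : Place k K}
    (hPQ : ∀ x : K, Q.1 (algebraMap K Kb x) ≤ 1 ↔ P.1 x ≤ 1) (x : K) :
    Q.1 (algebraMap K Kb x) < 1 ↔ P.1 x < 1 := by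
  by_cases hx : x = 0
  · subst hx
    simp
  have h1 := hPQ x⁻¹
  rw [map_inv₀, map_inv₀, map_inv₀] at h1
  have hneQ : Q.1 (algebraMap K Kb x) ≠ 0 :=
    (Valuation.ne_zero_iff _).mpr ((map_ne_zero_iff _ (algebraMap K Kb).injective).mpr hx)
  have hneP : P.1 x ≠ 0 := (Valuation.ne_zero_iff _).mpr hx
  rw [inv_le_one₀ (zero_lt_iff.mpr hneQ), inv_le_one₀ (zero_lt_iff.mpr hneP)] at h1
  have h2 := hPQ x
  constructor
  · intro h
    apply lt_of_le_of_ne (h2.mp h.le)
    intro heq
    have := h1.mpr heq.ge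
    exact absurd h (not_lt.mpr this)
  · intro h
    apply lt_of_le_of_ne (h2.mpr h.le)
    intro heq
    have := h1.mp heq.ge
    exact absurd h (not_lt.mpr this)

/-- at a place over a rational place, a `k`-basis of the constants is valuation independent -/
theorem val_sum_lt_one_iff {Q : Place kb Kb} {P : Place k K}
    (hPQ : ∀ x : K, Q.1 (algebraMap K Kb x) ≤ 1 ↔ P.1 x ≤ 1) (hdeg : P.deg = 1) {ι : Type*}
    (b : Module.Basis ι k kb) (s : Finset ι) (x : ι → K) :
    Q.1 (∑ i ∈ s, algebraMap K Kb (x i) * algebraMap kb Kb (b i)) < 1 ↔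
      ∀ i ∈ s, Q.1 (algebraMap K Kb (x i)) < 1 := by
  classical
  constructor
  · intro hlt
    by_contra hcon
    push Not at hcon
    obtain ⟨i₀, hi₀s, hi₀⟩ := hcon
    obtain ⟨j, hjs, hjmax⟩ := Finset.exists_max_image s (fun i => Q.1 (algebraMap K Kb (x i)))
      ⟨i₀, hi₀s⟩
    have hj1 : 1 ≤ Q.1 (algebraMap K Kb (x j)) := hi₀.trans (hjmax i₀ hi₀s)
    have hxj : x j ≠ 0 := by
      intro h0
      rw [h0, map_zero, map_zero] at hj1
      exact absurd hj1 (by simp)
    have hQxj : Q.1 (algebraMap K Kb (x j)) ≠ 0 :=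
      (Valuation.ne_zero_iff _).mpr ((map_ne_zero_iff _ (algebraMap K Kb).injective).mpr hxj)
    have hy : ∀ i ∈ s, P.1 (x i / x j) ≤ 1 := by
      intro i hi
      rw [← hPQ, map_div₀, map_div₀]
      exact (div_le_one₀ (zero_lt_iff.mpr hQxj)).mpr (hjmax i hi)
    have hex : ∀ i, ∃ a : k, i ∈ s → P.1 (x i / x j - algebraMap k K a) < 1 := by
      intro i
      by_cases hi : i ∈ s
      · obtain ⟨a, ha⟩ := Place.exists_const_sub_lt P hdeg (hy i hi)
        exact ⟨a, fun _ => ha⟩
      · exact ⟨0, fun h => absurd h hi⟩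
    choose a ha using hex
    have haj : a j ≠ 0 := by
      intro h0
      have := ha j hjs
      rw [h0, map_zero, sub_zero, div_self hxj, map_one] at this
      exact lt_irrefl _ this
    set c : kb := ∑ i ∈ s, a i • b i with hc
    have hc0 : c ≠ 0 := by
      intro h0
      have := linearIndependent_iff'.mp b.linearIndependent s a h0 j hjs
      exact haj this
    set m : ι → K := fun i => x i / x j - algebraMap k K (a i) with hm
    have hsplit : ∑ i ∈ s, algebraMap K Kb (x i) * algebraMap kb Kb (b i) =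
        algebraMap K Kb (x j) * (algebraMap kb Kb c +
          ∑ i ∈ s, algebraMap K Kb (m i) * algebraMap kb Kb (b i)) := by
      rw [hc, map_sum, ← Finset.sum_add_distrib, Finset.mul_sum]
      refine Finset.sum_congr rfl fun i _ => ?_
      rw [hm, Algebra.smul_def, map_mul, ← IsScalarTower.algebraMap_apply,
        IsScalarTower.algebraMap_apply k K Kb, map_sub, map_div₀]
      have : algebraMap K Kb (x j) ≠ 0 := (map_ne_zero_iff _ (algebraMap K Kb).injective).mpr hxj
      field_simp
      ring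
    have hsmall : Q.1 (∑ i ∈ s, algebraMap K Kb (m i) * algebraMap kb Kb (b i)) < 1 := by
      apply Valuation.map_sum_lt _ one_ne_zero
      intro i hi
      rw [map_mul]
      have h1 : Q.1 (algebraMap K Kb (m i)) < 1 := (lt_one_iff_of_le_one_iff hPQ _).mpr (ha i hi)
      calc Q.1 (algebraMap K Kb (m i)) * Q.1 (algebraMap kb Kb (b i))
          ≤ Q.1 (algebraMap K Kb (m i)) * 1 := mul_le_mul' le_rfl (Q.2.1 _)
        _ < 1 := by rw [mul_one]; exact h1
    have hone : Q.1 (algebraMap kb Kb c + ∑ i ∈ s, algebraMap K Kb (m i) * algebraMap kb Kb (b i)) = 1 := by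
      rw [Valuation.map_add_eq_of_lt_left, val_const_eq_one Q hc0]
      rw [val_const_eq_one Q hc0]
      exact hsmall
    rw [hsplit, map_mul, hone, mul_one] at hlt
    exact absurd hlt (not_lt.mpr hj1)
  · intro h
    apply Valuation.map_sum_lt _ one_ne_zero
    intro i hi
    rw [map_mul]
    calc Q.1 (algebraMap K Kb (x i)) * Q.1 (algebraMap kb Kb (b i))
        ≤ Q.1 (algebraMap K Kb (x i)) * 1 := mul_le_mul' le_rfl (Q.2.1 _)
      _ < 1 := by rw [mul_one]; exact h i hi

theorem deg_one_of_frob [Finite k] [IsAlgClosed kb] (hK : IsFunctionField k K) (F : Kb →+* Kb)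
    (hF1 : ∀ c : kb, F (algebraMap kb Kb c) = algebraMap kb Kb c)
    (hF2 : ∀ x : K, F (algebraMap K Kb x) = algebraMap K Kb x ^ Nat.card k)
    (Q : Place kb Kb) (hF : ∀ z : Kb, Q.1 (F z) < 1 ↔ Q.1 z < 1) {P : Place k K}
    (hPQ : ∀ x : K, Q.1 (algebraMap K Kb x) ≤ 1 ↔ P.1 x ≤ 1) : P.deg = 1 := by
  classical
  apply deg_eq_one_of_forall_const
  intro y hy
  set q := Nat.card k with hq
  obtain ⟨m, hm0, -, hmv⟩ := exists_poly_of_val_le hK P hy
  set y' : Kb := algebraMap K Kb y with hy'
  have hy'1 : Q.1 y' ≤ 1 := (hPQ y).mpr hy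
  -- factor `m` over `kb`
  set m' : kb[X] := m.map (algebraMap k kb) with hm'
  have hm'0 : m' ≠ 0 := (Polynomial.map_ne_zero_iff (algebraMap k kb).injective).mpr hm0
  have hsplit : m' = C m'.leadingCoeff * (m'.roots.map (fun c => X - C c)).prod :=
    (IsAlgClosed.splits m').eq_prod_roots
  have hlc : m'.leadingCoeff ≠ 0 := leadingCoeff_ne_zero.mpr hm'0
  have heval : algebraMap K Kb (aeval y m) = eval₂ (algebraMap kb Kb) y' m' := by
    rw [hm', eval₂_map, ← IsScalarTower.algebraMap_eq k kb Kb, hy', aeval_def,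
      hom_eval₂, ← IsScalarTower.algebraMap_eq k K Kb]
  have hQm : Q.1 (eval₂ (algebraMap kb Kb) y' m') < 1 := by
    rw [← heval]
    exact (lt_one_iff_of_le_one_iff hPQ _).mpr hmv
  rw [hsplit, eval₂_mul, eval₂_C, map_mul, val_const_eq_one Q hlc, one_mul, eval₂_multiset_prod,
    Multiset.map_map, map_multiset_prod, Multiset.map_map] at hQm
  -- some factor is small
  obtain ⟨c, -, hc⟩ : ∃ c ∈ m'.roots, Q.1 (y' - algebraMap kb Kb c) < 1 := by
    by_contra hcon
    push Not at hcon
    have : 1 ≤ (Multiset.map (⇑Q.1 ∘ (eval₂ (algebraMap kb Kb) y') ∘ fun c => X - C c)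
        m'.roots).prod := by
      apply Multiset.one_le_prod_of_one_le
      intro v hv
      rw [Multiset.mem_map] at hv
      obtain ⟨c, hc, rfl⟩ := hv
      simp only [Function.comp_apply, eval₂_sub, eval₂_X, eval₂_C]
      exact hcon c hc
    exact absurd hQm (not_lt.mpr this)
  -- apply Frobenius
  have h1 : Q.1 (F (y' - algebraMap kb Kb c)) < 1 := (hF _).mpr hc
  rw [map_sub, hF1, hy', hF2, ← hy'] at h1
  have hcle : Q.1 (algebraMap kb Kb c) ≤ 1 := Q.2.1 c
  have h2 : Q.1 (y' ^ q - algebraMap kb Kb c ^ q) < 1 := by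
    rw [← geom_sum₂_mul, map_mul]
    have h3 : Q.1 (∑ i ∈ Finset.range q, y' ^ i * algebraMap kb Kb c ^ (q - 1 - i)) ≤ 1 := by
      apply Valuation.map_sum_le
      intro i _
      rw [map_mul, map_pow, map_pow]
      exact mul_le_one' (pow_le_one' hy'1 _) (pow_le_one' hcle _)
    calc Q.1 (∑ i ∈ Finset.range q, y' ^ i * algebraMap kb Kb c ^ (q - 1 - i)) *
          Q.1 (y' - algebraMap kb Kb c) ≤ 1 * Q.1 (y' - algebraMap kb Kb c) :=
          mul_le_mul' h3 le_rfl
      _ < 1 := by rw [one_mul]; exact hc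
  have h4 : Q.1 (algebraMap kb Kb (c ^ q - c)) < 1 := by
    have e : algebraMap kb Kb (c ^ q - c) =
        (y' ^ q - algebraMap kb Kb c) - (y' ^ q - algebraMap kb Kb c ^ q) := by
      rw [map_sub, map_pow]; ring
    rw [e]
    exact lt_of_le_of_lt (Valuation.map_sub _ _ _) (max_lt h1 h2)
  have h5 : c ^ q - c = 0 := by
    by_contra hne
    rw [val_const_eq_one Q hne] at h4
    exact lt_irrefl _ h4
  obtain ⟨a, ha⟩ := mem_range_of_pow_card_eq (k := k) (sub_eq_zero.mp h5)
  refine ⟨a, ?_⟩
  rw [← lt_one_iff_of_le_one_iff hPQ, map_sub, ← IsScalarTower.algebraMap_apply,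
    IsScalarTower.algebraMap_apply k kb Kb, ha]
  exact hc

end Frob

theorem main (k K kb Kb : Type*) [Field k] [Finite k] [Field K] [Algebra k K] [Field kb] [Algebra k kb]
    [IsAlgClosure k kb] [Field Kb] [Algebra K Kb] [Algebra kb Kb]
    (hK : FunFld.IsFunctionField k K)
    (hc : ∀ c : k, algebraMap K Kb (algebraMap k K c) = algebraMap kb Kb (algebraMap k kb c))
    (hgen : Algebra.adjoin K (Set.range (algebraMap kb Kb)) = ⊤)
    (F : Kb →+* Kb) (hF1 : ∀ c : kb, F (algebraMap kb Kb c) = algebraMap kb Kb c)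
    (hF2 : ∀ x : K, F (algebraMap K Kb x) = algebraMap K Kb x ^ Nat.card k)
    (Q : FunFld.Place kb Kb) :
    (∀ z : Kb, Q.1 (F z) < 1 ↔ Q.1 z < 1) ↔
      ∃ P : FunFld.Place k K, (∀ x : K, Q.1 (algebraMap K Kb x) ≤ 1 ↔ P.1 x ≤ 1) ∧ P.deg = 1 := by
  classical
  let _ : Algebra k Kb := ((algebraMap K Kb).comp (algebraMap k K)).toAlgebra
  have : IsScalarTower k K Kb := IsScalarTower.of_algebraMap_eq fun _ => rfl
  have : IsScalarTower k kb Kb := IsScalarTower.of_algebraMap_eq fun c => hc c
  have : IsAlgClosed kb := IsAlgClosure.isAlgClosed k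
  have halgk : Algebra.IsAlgebraic k kb := IsAlgClosure.isAlgebraic
  constructor
  · intro hF
    have halg : Algebra.IsAlgebraic K Kb := by
      constructor
      intro z
      have h1 : (Algebra.adjoin K (Set.range (algebraMap kb Kb))).IsAlgebraic := by
        rw [Algebra.isAlgebraic_adjoin_iff]
        rintro _ ⟨c, rfl⟩
        exact ((Algebra.IsAlgebraic.isAlgebraic (R := k) c).algebraMap).tower_top K
      exact h1 z (by rw [hgen]; exact Algebra.mem_top)
    obtain ⟨P, e, he⟩ := exists_below' (K := K) (downC (k := k) Q)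
    have hPQ : ∀ x : K, Q.1 (algebraMap K Kb x) ≤ 1 ↔ P.1 x ≤ 1 := fun x => ow_le_one_iff he x
    exact ⟨P, hPQ, deg_one_of_frob hK F hF1 hF2 Q hF hPQ⟩
  · rintro ⟨P, hPQ, hdeg⟩ z
    let b := Module.Basis.ofVectorSpace k kb
    have hz := span_of_adjoin hgen b (Submodule.mem_top : z ∈ ⊤)
    rw [Finsupp.mem_span_range_iff_exists_finsupp] at hz
    obtain ⟨l, rfl⟩ := hz
    have hq : 0 < Nat.card k := Nat.card_pos
    have e1 : (l.sum fun i a => a • algebraMap kb Kb (b i)) =
        ∑ i ∈ l.support, algebraMap K Kb (l i) * algebraMap kb Kb (b i) := by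
      unfold Finsupp.sum
      refine Finset.sum_congr rfl fun i _ => ?_
      exact Algebra.smul_def _ _
    have e2 : F (l.sum fun i a => a • algebraMap kb Kb (b i)) =
        ∑ i ∈ l.support, algebraMap K Kb (l i ^ Nat.card k) * algebraMap kb Kb (b i) := by
      rw [e1, map_sum]
      refine Finset.sum_congr rfl fun i _ => ?_
      rw [map_mul, hF1, hF2, map_pow]
    rw [e2, e1, val_sum_lt_one_iff hPQ hdeg b, val_sum_lt_one_iff hPQ hdeg b]
    refine forall₂_congr fun i _ => ?_
    rw [map_pow, map_pow]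
    exact pow_lt_one_iff hq.ne'

end Aux

/-- Over a finite constant field with `q` elements, let `K̄ = k̄ ⊗ K` be the constant-field extension to
an algebraic closure and `F` its Frobenius map (identity on `k̄`, `q`-th power on `K`). A place `Q`
of `K̄/k̄` satisfies `Q^F = Q` (the maximal ideal of `Q` is exactly the preimage of itself under
`F`) if and only if `Q` is defined over `k`, i.e. the place of `K` below `Q` has degree one. -/
theorem result
    (k K kb Kb : Type*) [Field k] [Finite k] [Field K] [Algebra k K] [Field kb] [Algebra k kb]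
    [IsAlgClosure k kb] [Field Kb] [Algebra K Kb] [Algebra kb Kb]
    (hK : FunFld.IsFunctionField k K)
    (hc : ∀ c : k, algebraMap K Kb (algebraMap k K c) = algebraMap kb Kb (algebraMap k kb c))
    (hgen : Algebra.adjoin K (Set.range (algebraMap kb Kb)) = ⊤)
    (F : Kb →+* Kb) (hF1 : ∀ c : kb, F (algebraMap kb Kb c) = algebraMap kb Kb c)
    (hF2 : ∀ x : K, F (algebraMap K Kb x) = algebraMap K Kb x ^ Nat.card k)
    (Q : FunFld.Place kb Kb) :
    (∀ z : Kb, Q.1 (F z) < 1 ↔ Q.1 z < 1) ↔
      ∃ P : FunFld.Place k K, (∀ x : K, Q.1 (algebraMap K Kb x) ≤ 1 ↔ P.1 x ≤ 1) ∧ P.deg = 1 := by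
  exact Aux.main k K kb Kb hK hc hgen F hF1 hF2 Q

end Groth.Agent.S11068
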