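import Groth.Statements.S11071
import Mathlib
import Groth.Agent.Lib.Helper9.FFExt.PlaneJac
-- import your own Groth.Agent.* helpers here

set_option autoImplicit false
open FunFld

namespace Groth.Agent.S11071

namespace Aux

open FunFld WithZero Polynomial Groth.Agent.Lib.Helper4.FF Groth.Agent.Helper9.PlaneHom
  Groth.Agent.Helper9.PlaneLocal Groth.Agent.Helper9.PlaneProj Groth.Agent.Helper9.PlaneJac

theorem main (k K : Type*) [Field k] [IsAlgClosed k] [Field K] [Algebra k K]
    (hK : FunFld.IsFunctionField k K) {n : ℕ} (hn : 1 ≤ n)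
    (φ : Fin (n + 1) → K) (hφ : LinearIndependent k φ)
    (hbir : IntermediateField.adjoin k (Set.range fun i => φ i / φ 0) = ⊤)
    (P : FunFld.Place k K) (hP : ∀ i, P.1 (φ i) ≤ P.1 (φ 0)) {r : ℕ}
    (f : Fin r → MvPolynomial (Fin (n + 1)) k)
    (hhom : ∀ i, (f i).IsHomogeneous (f i).totalDegree)
    (hgen : Ideal.span (Set.range f) =
      RingHom.ker (MvPolynomial.aeval fun i => Polynomial.C (φ i) * Polynomial.X))
    (M : Matrix (Fin r) (Fin n) P.O)
    (hM : ∀ i j, ((M i j : P.O) : K) =
      MvPolynomial.aeval (fun l => φ l / φ 0) (MvPolynomial.pderiv j.succ (f i))) :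
    FunFld.IsNonsingularAt φ P ↔ (M.map (IsLocalRing.residue P.O)).rank = n - 1 := by
  classical
  have h00 : φ 0 ≠ 0 := hφ.ne_zero 0
  set ρ : Fin (n + 1) → K := fun i => φ i / φ 0 with hρ
  have hρ0 : ρ 0 = 1 := div_self h00
  have hρ1 : ∀ l, P.1 (ρ l) ≤ 1 := by
    intro l
    simp only [hρ]
    rw [map_div₀]
    exact div_le_one_of_le₀ (hP l) zero_le
  have hdeg : P.deg = 1 := Place.deg_eq_one hK P
  have hex : ∀ l, ∃ c : k, P.1 (ρ l - algebraMap k K c) < 1 := fun l =>
    Place.exists_const_sub_lt P hdeg (hρ1 l)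
  choose ā hā using hex
  have hā0 : ā 0 = 1 := by
    have h1 := hā 0
    rw [hρ0, ← map_one (algebraMap k K), ← map_sub] at h1
    have := const_eq_zero_of_val_lt P h1
    exact (sub_eq_zero.mp this).symm
  have hgen' : Ideal.span (Set.range f) =
      RingHom.ker (gradedEval φ : MvPolynomial (Fin (n + 1)) k →ₐ[k] K[X]) := hgen
  have hφρ : φ = fun i => φ 0 * ρ i := by
    funext i
    simp only [hρ]
    field_simp
  have hfρ : ∀ i, MvPolynomial.aeval ρ (f i) = 0 := by
    intro i
    have hmem : f i ∈ RingHom.ker (gradedEval φ : MvPolynomial (Fin (n + 1)) k →ₐ[k] K[X]) := by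
      rw [← hgen']; exact Ideal.subset_span ⟨i, rfl⟩
    have h1 := (mem_ker_gradedEval_of_isHomogeneous φ (hhom i)).mp hmem
    have h2 := aeval_mul_of_isHomogeneous (φ 0) ρ (hhom i)
    rw [← hφρ, h1] at h2
    exact (mul_eq_zero.mp h2.symm).resolve_left (pow_ne_zero _ h00)
  have hcd : ChartData P ρ ā f :=
    { hρ0 := hρ0
      hā0 := hā0
      hres := hā
      hfρ := hfρ
      hker := exists_eq_of_aeval_ratio_eq_zero' φ 0 h00 f hgen' }
  -- the ratios are not all constant
  have hnc : ∃ j, sv ρ ā j ≠ 0 := by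
    by_contra hcon
    push Not at hcon
    obtain ⟨⟨x₀, hx₀t, -⟩, -⟩ := hK
    apply hx₀t
    have hx₀ : x₀ ∈ IntermediateField.adjoin k (Set.range ρ) := by
      rw [hbir]; trivial
    have hle : IntermediateField.adjoin k (Set.range ρ) ≤ ⊥ := by
      rw [IntermediateField.adjoin_le_iff]
      rintro _ ⟨i, rfl⟩
      change ρ i ∈ (⊥ : IntermediateField k K)
      refine Fin.cases ?_ (fun j => ?_) i
      · rw [hρ0]; exact one_mem _
      · have := hcon j
        unfold sv at this
        rw [sub_eq_zero.mp this]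
        exact IntermediateField.algebraMap_mem _ _
    have := hle hx₀
    rw [IntermediateField.mem_bot] at this
    obtain ⟨c, rfl⟩ := this
    exact isAlgebraic_algebraMap c
  have hfrac : ∀ z : K, ∃ u ∈ Algebra.adjoin k (Set.range ρ),
      ∃ w ∈ Algebra.adjoin k (Set.range ρ), w ≠ 0 ∧ z * w = u := by
    intro z
    have hz : z ∈ IntermediateField.adjoin k (Set.range ρ) := by rw [hbir]; trivial
    obtain ⟨a, ha, s, hs, e⟩ := IntermediateField.mem_adjoin_iff_div.mp hz
    by_cases hs0 : s = 0
    · refine ⟨0, Subalgebra.zero_mem _, 1, Subalgebra.one_mem _, one_ne_zero, ?_⟩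
      rw [e, hs0, div_zero, zero_mul]
    · exact ⟨a, ha, s, hs, hs0, by rw [e]; field_simp⟩
  have hiff : IsNonsingularAt φ P ↔
      ∀ z : K, P.1 z ≤ 1 → z ∈ locAt P (Algebra.adjoin k (Set.range ρ)) := by
    unfold IsNonsingularAt
    refine forall_congr' fun z => imp_congr_right fun _ => ?_
    exact inLocRing_iff h00 hP
  have hmain : IsNonsingularAt φ P ↔ Module.finrank k (rowSpace ā f) = n - 1 := by
    rw [hiff]
    exact ⟨fun hns => hcd.finrank_of_nonsingular hn hdeg hns hnc,
      fun hrank => hcd.nonsingular_of_finrank hn hrank hnc hfrac⟩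
  rw [hmain]
  -- the residue field
  let κ := IsLocalRing.ResidueField P.O
  let σ : k →+* κ := algebraMap k κ
  have hσ : Function.Bijective σ := by
    obtain ⟨t, ht⟩ := Place.exists_uniformizer P
    have ht0 : t ≠ 0 := by
      rw [← Valuation.ne_zero_iff P.1, ht]; exact exp_ne_zero
    have ht1 : P.1 t < 1 := by rw [ht]; exact lt_one_iff_le_exp_neg_one.mpr le_rfl
    have hfin : Module.Finite k (IsLocalRing.ResidueField P.O) :=
      (Place.residue_finite_and_le P hK ht0 ht1).1
    have hfin' : @Module.Finite k (IsLocalRing.ResidueField P.O) _ _ Algebra.toModule := hfin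
    have hint : Algebra.IsIntegral k (IsLocalRing.ResidueField P.O) :=
      Algebra.IsIntegral.of_finite _ _
    exact IsAlgClosed.algebraMap_bijective_of_isIntegral (k := k)
      (K := IsLocalRing.ResidueField P.O)
  have hMres : ∀ i j, IsLocalRing.residue P.O (M i j) = σ (grad ā (f i) j) := by
    intro i j
    have h1 : Place.resₗ P (M i j - algebraMap k P.O (grad ā (f i) j)) = 0 := by
      rw [Place.resₗ_eq_zero_iff]
      have h2 := residue_aeval P ρ ā hā (MvPolynomial.pderiv j.succ (f i))
      rw [← hM i j] at h2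
      exact h2
    have h3 : IsLocalRing.residue P.O (M i j - algebraMap k P.O (grad ā (f i) j)) = 0 := h1
    rw [map_sub, sub_eq_zero] at h3
    rw [h3]
    rfl
  have hrows : Set.range (M.map (IsLocalRing.residue P.O)).row =
      Set.range fun i => fun j => σ (grad ā (f i) j) := by
    congr 1
    funext i j
    exact hMres i j
  rw [Matrix.rank_eq_finrank_span_row, hrows]
  exact (finrank_span_map_eq_pred_iff hn σ hσ (fun i => grad ā (f i))).symm

end Aux

/-- Over an algebraically closed constant field, let `φ = (φ₀, …, φₙ)`, `n ≥ 1`, be a birational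
projective map, `f₁, …, f_r` homogeneous generators of its ideal of homogeneous relations (the ideal
of the image curve), and `P` a place at which all `φᵢ/φ₀` are integral, with image point `a`. Then
`φ` is nonsingular at `P` if and only if the matrix `(∂fᵢ/∂Xⱼ(a))`, `1 ≤ j ≤ n`, has rank `n - 1`
(entries read in the residue field of `P`). Here the local ring of `φ` at `P` consists of the
quotients of polynomials over `k` in the ratios `φᵢ/φ₀` with denominator a unit at `P`; `φ` is
nonsingular at `P` when this ring is the whole valuation ring. -/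
theorem result (k K : Type*) [Field k] [IsAlgClosed k] [Field K] [Algebra k K]
    (hK : FunFld.IsFunctionField k K) {n : ℕ} (hn : 1 ≤ n)
    (φ : Fin (n + 1) → K) (hφ : LinearIndependent k φ)
    (hbir : IntermediateField.adjoin k (Set.range fun i => φ i / φ 0) = ⊤)
    (P : FunFld.Place k K) (hP : ∀ i, P.1 (φ i) ≤ P.1 (φ 0)) {r : ℕ}
    (f : Fin r → MvPolynomial (Fin (n + 1)) k)
    (hhom : ∀ i, (f i).IsHomogeneous (f i).totalDegree)
    (hgen : Ideal.span (Set.range f) =
      RingHom.ker (MvPolynomial.aeval fun i => Polynomial.C (φ i) * Polynomial.X))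
    (M : Matrix (Fin r) (Fin n) P.O)
    (hM : ∀ i j, ((M i j : P.O) : K) =
      MvPolynomial.aeval (fun l => φ l / φ 0) (MvPolynomial.pderiv j.succ (f i))) :
    FunFld.IsNonsingularAt φ P ↔ (M.map (IsLocalRing.residue P.O)).rank = n - 1 := by
  exact Aux.main k K hK hn φ hφ hbir P hP f hhom hgen M hM

end Groth.Agent.S11071
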