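import Groth.Statements.S11072
import Mathlib
import Groth.Prelude.Def_W4bk4goldsch45
import Groth.Agent.Lib.Helper9.FFExt.PlaneProj
-- import your own Groth.Agent.* helpers here

set_option autoImplicit false
open FunFld

namespace Groth.Agent.S11072

namespace Aux
open FunFld Groth.Agent.Helper9.PlaneProj Groth.Agent.Lib.Helper4.FF

/-- residues at a place of degree one are constants -/
theorem exists_residues {k K : Type*} [Field k] [IsAlgClosed k] [Field K] [Algebra k K]
    (hK : FunFld.IsFunctionField k K) (P : FunFld.Place k K) {σ : Type*} (a : σ → P.O) :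
    ∃ ā : σ → k, (∀ i, P.1 ((a i : K) - algebraMap k K (ā i)) < 1) ∧
      ∀ i, IsLocalRing.residue P.O (a i) = algebraMap k (IsLocalRing.ResidueField P.O) (ā i) := by
  have h1 : ∀ i, ∃ c : k, P.1 ((a i : K) - algebraMap k K c) < 1 := fun i =>
    Place.exists_const_sub_lt P (Place.deg_eq_one hK P) ((Place.mem_O_iff P).mp (a i).2)
  choose ā hā using h1
  refine ⟨ā, hā, fun i => ?_⟩
  have h2 : Place.resₗ P (a i - algebraMap k P.O (ā i)) = 0 := by
    rw [Place.resₗ_eq_zero_iff]
    exact hā i
  rw [map_sub, sub_eq_zero] at h2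
  exact h2

theorem aeval_residues {k K : Type*} [Field k] [Field K] [Algebra k K]
    (P : FunFld.Place k K) {σ : Type*} (ā : σ → k) (G : MvPolynomial σ k) :
    MvPolynomial.aeval (fun i => algebraMap k (IsLocalRing.ResidueField P.O) (ā i)) G =
      algebraMap k (IsLocalRing.ResidueField P.O) (MvPolynomial.eval ā G) := by
  induction G using MvPolynomial.induction_on with
  | C c => rw [MvPolynomial.aeval_C, MvPolynomial.eval_C]
  | add p q hp hq => rw [map_add, map_add, map_add, hp, hq]
  | mul_X p i hp => rw [map_mul, map_mul, map_mul, hp, MvPolynomial.aeval_X, MvPolynomial.eval_X]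

theorem main (k K : Type*) [Field k] [IsAlgClosed k] [Field K] [Algebra k K]
    (hK : FunFld.IsFunctionField k K) (φ : Fin 3 → K)
    (hφ : LinearIndependent k φ)
    (hbir : IntermediateField.adjoin k (Set.range fun i => φ i / φ 0) = ⊤)
    (f : MvPolynomial (Fin 3) k) (hf : Irreducible f) (hhom : f.IsHomogeneous f.totalDegree)
    (hfφ : MvPolynomial.aeval φ f = 0) (P : FunFld.Place k K) (j : Fin 3)
    (hj : ∀ i, P.1 (φ i) ≤ P.1 (φ j)) (a : Fin 3 → P.O) (ha : ∀ i, ((a i : P.O) : K) = φ i / φ j) :
    ¬ FunFld.IsNonsingularAt φ P ↔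
      ∀ l : Fin 3, MvPolynomial.aeval (fun i => IsLocalRing.residue P.O (a i))
        (MvPolynomial.pderiv l f) = 0 := by
  obtain ⟨ā, hā, hres⟩ := exists_residues hK P a
  have hā' : ∀ l, P.1 (φ l / φ j - algebraMap k K (ā l)) < 1 := by
    intro l; rw [← ha l]; exact hā l
  rw [isNonsingularAt_iff hK φ hφ hbir f hf hhom hfφ P j hj ā hā']
  push Not
  refine forall_congr' fun l => ?_
  have : (fun i => IsLocalRing.residue P.O (a i)) =
      fun i => algebraMap k (IsLocalRing.ResidueField P.O) (ā i) := funext hres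
  rw [this, aeval_residues]
  constructor
  · intro h; rw [h, map_zero]
  · intro h
    exact (map_eq_zero_iff _ (algebraMap k (IsLocalRing.ResidueField P.O)).injective).mp h
end Aux

/-- Over an algebraically closed constant field, a plane curve with defining irreducible homogeneous
polynomial `f` and birational natural map `φ = (φ₀ : φ₁ : φ₂)` is singular at the point `a = φ(P)`
(coordinates `(φᵢ/φⱼ)(P)` for an entry `φⱼ` of least order at `P`, read in the residue field) if and
only if `∂f/∂Xᵢ(a) = 0` for `i = 0, 1, 2`. Here `φ` is nonsingular at `P` when its local ring there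
(quotients of polynomials over `k` in the `φᵢ/φⱼ` with denominator a unit at `P`) is the whole
valuation ring. -/
theorem result (k K : Type*) [Field k] [IsAlgClosed k] [Field K] [Algebra k K]
    (hK : FunFld.IsFunctionField k K) (φ : Fin 3 → K)
    (hφ : LinearIndependent k φ)
    (hbir : IntermediateField.adjoin k (Set.range fun i => φ i / φ 0) = ⊤)
    (f : MvPolynomial (Fin 3) k) (hf : Irreducible f) (hhom : f.IsHomogeneous f.totalDegree)
    (hfφ : MvPolynomial.aeval φ f = 0) (P : FunFld.Place k K) (j : Fin 3)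
    (hj : ∀ i, P.1 (φ i) ≤ P.1 (φ j)) (a : Fin 3 → P.O) (ha : ∀ i, ((a i : P.O) : K) = φ i / φ j) :
    ¬ FunFld.IsNonsingularAt φ P ↔
      ∀ l : Fin 3, MvPolynomial.aeval (fun i => IsLocalRing.residue P.O (a i))
        (MvPolynomial.pderiv l f) = 0 := by
  exact Aux.main k K hK φ hφ hbir f hf hhom hfφ P j hj a ha

end Groth.Agent.S11072
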