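import Groth.Statements.S11074
import Mathlib
import Groth.Prelude.Def_W4bk4goldsch45
import Groth.Agent.Lib.Helper9.FFExt.PlaneProj
-- import your own Groth.Agent.* helpers here

set_option autoImplicit false
open FunFld

namespace Groth.Agent.S11074

namespace Aux
open FunFld WithZero Groth.Agent.Helper9.PlaneProj Groth.Agent.Lib.Helper4.FF
  Groth.Agent.Helper9.PlaneLocal

/-- residues at a place of degree one are constants -/
theorem exists_residues {k K : Type*} [Field k] [IsAlgClosed k] [Field K] [Algebra k K]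
    (hK : FunFld.IsFunctionField k K) (P : FunFld.Place k K) {σ : Type*} (a : σ → P.O) :
    ∃ ā : σ → k, (∀ i, P.1 ((a i : K) - algebraMap k K (ā i)) < 1) ∧
      ∀ i, IsLocalRing.residue P.O (a i) = algebraMap k (IsLocalRing.ResidueField P.O) (ā i) := by
  have h1 : ∀ i, ∃ c : k, P.1 ((a i : K) - algebraMap k K c) < 1 := fun i =>
    Place.exists_const_sub_lt P (Place.deg_eq_one hK P) ((Place.mem_O_iff P).mp (a i).2)
  choose ā hā using h1
  refine ⟨ā, hā, fun i => ?_⟩
  have h2 : Place.resₗ P (a i - algebraMap k P.O (ā i)) = 0 := by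
    rw [Place.resₗ_eq_zero_iff]
    exact hā i
  rw [map_sub, sub_eq_zero] at h2
  exact h2

theorem aeval_residues {k K : Type*} [Field k] [Field K] [Algebra k K]
    (P : FunFld.Place k K) {σ : Type*} (ā : σ → k) (G : MvPolynomial σ k) :
    MvPolynomial.aeval (fun i => algebraMap k (IsLocalRing.ResidueField P.O) (ā i)) G =
      algebraMap k (IsLocalRing.ResidueField P.O) (MvPolynomial.eval ā G) := by
  induction G using MvPolynomial.induction_on with
  | C c => rw [MvPolynomial.aeval_C, MvPolynomial.eval_C]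
  | add p q hp hq => rw [map_add, map_add, map_add, hp, hq]
  | mul_X p i hp => rw [map_mul, map_mul, map_mul, hp, MvPolynomial.aeval_X, MvPolynomial.eval_X]

theorem main
    (k K : Type*) [Field k] [IsAlgClosed k] [Field K] [Algebra k K]
    (hK : FunFld.IsFunctionField k K) (φ : Fin 3 → K) (hφ : LinearIndependent k φ)
    (f : MvPolynomial (Fin 3) k) (hhom : f.IsHomogeneous f.totalDegree)
    (hfφ : MvPolynomial.aeval φ f = 0) (P : FunFld.Place k K) (j : Fin 3)
    (a : Fin 3 → P.O)
    (ha : ∀ i, ((a i : P.O) : K) = φ i / φ j) (c : Fin 3 → k)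
    (hc : ∀ i, algebraMap k (IsLocalRing.ResidueField P.O) (c i) =
      MvPolynomial.aeval (fun l => IsLocalRing.residue P.O (a l)) (MvPolynomial.pderiv i f)) :
    P.1 (∑ i, c i • (φ i / φ j)) ≤ WithZero.exp (-2) := by
  classical
  obtain ⟨ā, hā, hres⟩ := exists_residues hK P a
  have hj0 : φ j ≠ 0 := hφ.ne_zero j
  set ρ : Fin 3 → K := fun i => φ i / φ j with hρ
  have hā' : ∀ l, P.1 (ρ l - algebraMap k K (ā l)) < 1 := by
    intro l; simp only [hρ]; rw [← ha l]; exact hā l
  have hcval : ∀ i, c i = MvPolynomial.eval ā (MvPolynomial.pderiv i f) := by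
    intro i
    have h1 := hc i
    have : (fun i => IsLocalRing.residue P.O (a i)) =
        fun i => algebraMap k (IsLocalRing.ResidueField P.O) (ā i) := funext hres
    rw [this, aeval_residues] at h1
    exact (algebraMap k (IsLocalRing.ResidueField P.O)).injective h1
  have hφρ : φ = fun i => φ j * ρ i := by
    funext i
    simp only [hρ]
    field_simp
  have hfρ : MvPolynomial.aeval ρ f = 0 := by
    have h1 := aeval_mul_of_isHomogeneous (φ j) ρ hhom
    rw [← hφρ, hfφ] at h1
    exact (mul_eq_zero.mp h1.symm).resolve_left (pow_ne_zero _ hj0)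
  have hfā : MvPolynomial.eval ā f = 0 :=
    eval_eq_zero_of_val_lt P ρ ā hā' (by rw [hfρ, map_zero]; exact zero_lt_one)
  have heuler := euler_eval f hhom ā hfā
  obtain ⟨H, hH, hHv⟩ := exists_taylor' ā f
  rw [hfā, map_zero, zero_add] at hH
  have h0 : ∑ l, (ρ l - algebraMap k K (ā l)) * MvPolynomial.aeval ρ (H l) = 0 := by
    rw [← hfρ]
    conv_rhs => rw [hH]
    simp [map_sum, map_mul, map_sub, MvPolynomial.aeval_X]
  have hsum : ∑ i, c i • ρ i =
      -∑ l, (ρ l - algebraMap k K (ā l)) *
        (MvPolynomial.aeval ρ (H l) - algebraMap k K (MvPolynomial.eval ā (H l))) := by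
    have h1 : ∑ l, algebraMap k K (ā l * MvPolynomial.eval ā (MvPolynomial.pderiv l f)) = 0 := by
      rw [← map_sum, heuler, map_zero]
    simp only [mul_sub, Finset.sum_sub_distrib, h0, zero_sub, neg_neg]
    rw [← sub_eq_zero, ← Finset.sum_sub_distrib, ← h1]
    refine Finset.sum_congr rfl fun l _ => ?_
    rw [hcval l, hHv l, Algebra.smul_def, map_mul]
    ring
  rw [hsum, Valuation.map_neg]
  apply Valuation.map_sum_le
  intro l _
  rw [map_mul]
  have h1 : P.1 (ρ l - algebraMap k K (ā l)) ≤ exp (-1 : ℤ) :=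
    val_lt_one_iff_le_exp_neg_one.mp (hā' l)
  have h2 : P.1 (MvPolynomial.aeval ρ (H l) - algebraMap k K (MvPolynomial.eval ā (H l))) ≤
      exp (-1 : ℤ) := val_lt_one_iff_le_exp_neg_one.mp (residue_aeval P ρ ā hā' (H l))
  calc _ ≤ exp (-1 : ℤ) * exp (-1 : ℤ) := mul_le_mul' h1 h2
    _ = exp (-2 : ℤ) := by rw [← exp_add]; norm_num
end Aux

/-- Over an algebraically closed constant field, at a nonsingular point `a = φ(P)` of a plane curve
`V(f)` with birational natural map `φ = (φ₀ : φ₁ : φ₂)`, the tangent line is `(∂f/∂X₀(a) : ∂f/∂X₁(a)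
: ∂f/∂X₂(a))`: the corresponding linear form, pulled back along `φ` normalized at `P`, vanishes to
order at least `2` at `P` (the tangent line being the one line whose pullback vanishes to order `≥
2`). Nonsingular at `P` means that the local ring of `φ` at `P` (quotients of polynomials over `k`
in the `φᵢ/φⱼ`, `φⱼ` of least order at `P`, denominator a unit at `P`) is the whole valuation ring. -/
theorem result
    (k K : Type*) [Field k] [IsAlgClosed k] [Field K] [Algebra k K]
    (hK : FunFld.IsFunctionField k K) (φ : Fin 3 → K) (hφ : LinearIndependent k φ)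
    (hbir : IntermediateField.adjoin k (Set.range fun i => φ i / φ 0) = ⊤)
    (f : MvPolynomial (Fin 3) k) (hf : Irreducible f) (hhom : f.IsHomogeneous f.totalDegree)
    (hfφ : MvPolynomial.aeval φ f = 0) (P : FunFld.Place k K) (j : Fin 3)
    (hj : ∀ i, P.1 (φ i) ≤ P.1 (φ j)) (hns : FunFld.IsNonsingularAt φ P) (a : Fin 3 → P.O)
    (ha : ∀ i, ((a i : P.O) : K) = φ i / φ j) (c : Fin 3 → k)
    (hc : ∀ i, algebraMap k (IsLocalRing.ResidueField P.O) (c i) =
      MvPolynomial.aeval (fun l => IsLocalRing.residue P.O (a l)) (MvPolynomial.pderiv i f)) :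
    P.1 (∑ i, c i • (φ i / φ j)) ≤ WithZero.exp (-2) := by
  exact Aux.main k K hK φ hφ f hhom hfφ P j a ha c hc

end Groth.Agent.S11074
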