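import Groth.Statements.S11075
import Mathlib
import Groth.Agent.Lib.Helper4.FF.ProjMap7

set_option autoImplicit false
open FunFld
open Groth.Agent.Lib.Helper4.FF

namespace Groth.Agent.S11075

open MvPolynomial in
lemma aeval_mul_of_isHomogeneous {k K σ : Type*} [Field k] [Field K] [Algebra k K]
    {g : MvPolynomial σ k} {d : ℕ} (hg : g.IsHomogeneous d) (c : K) (ψ : σ → K) :
    aeval (fun i => c * ψ i) g = c ^ d * aeval ψ g := by
  classical
  conv_lhs => rw [← g.support_sum_monomial_coeff]
  conv_rhs => rw [← g.support_sum_monomial_coeff]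
  rw [map_sum, map_sum, Finset.mul_sum]
  refine Finset.sum_congr rfl fun m hm => ?_
  have hdeg := hg.degree_eq_sum_deg_support hm
  rw [aeval_monomial, aeval_monomial]
  simp only [mul_pow]
  rw [Finsupp.prod_mul]
  have : (m.prod fun i n => c ^ n) = c ^ d := by
    rw [Finsupp.prod, Finset.prod_pow_eq_pow_sum, hdeg]
  rw [this]
  ring


/-- Over an algebraically closed constant field, let `φ = (φ₀, …, φₙ)`, `n ≥ 1`, be a projective map
onto the curve `V`. (a) A homogeneous `g` not vanishing identically on `V` vanishes at the image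
point of only finitely many places (so a closed set not containing `V` meets `V` in a finite set);
(b) each fibre of `φ` is finite. Here `g` vanishes at `φ(P)` when `g(φ₀/φⱼ, …, φₙ/φⱼ)` lies in the
maximal ideal of `P` for an entry `φⱼ` of least order at `P`. Two places have the same image point
when some entry `φⱼ` has least order at both and each `φᵢ/φⱼ` is congruent to one constant modulo
both maximal ideals. -/
theorem result (k K : Type*) [Field k] [IsAlgClosed k] [Field K] [Algebra k K]
    (hK : FunFld.IsFunctionField k K) {n : ℕ} (hn : 1 ≤ n)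
    (φ : Fin (n + 1) → K) (hφ : LinearIndependent k φ) :
    (∀ g : MvPolynomial (Fin (n + 1)) k, g.IsHomogeneous g.totalDegree →
      MvPolynomial.aeval φ g ≠ 0 →
        {P : FunFld.Place k K | ∃ j, φ j ≠ 0 ∧ (∀ i, P.1 (φ i) ≤ P.1 (φ j)) ∧
          P.1 (MvPolynomial.aeval (fun i => φ i / φ j) g) < 1}.Finite) ∧
    ∀ P : FunFld.Place k K, {Q : FunFld.Place k K | FunFld.SameImage φ P Q}.Finite := by
  classical
  have hφ0 : ∀ i, φ i ≠ 0 := fun i => hφ.ne_zero i
  constructor
  · intro g hg hy
    set y := MvPolynomial.aeval φ g with hydef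
    have hfin : ({P : Place k K | P.1 y < 1} ∪
        ⋃ i, ({P : Place k K | P.1 (φ i) < 1} ∪ {P : Place k K | 1 < P.1 (φ i)})).Finite := by
      refine (finite_zeros hK hy).union (Set.finite_iUnion fun i => ?_)
      exact (finite_zeros hK (hφ0 i)).union (finite_poles hK (hφ0 i))
    refine hfin.subset ?_
    rintro P ⟨j, hj, hleast, hlt⟩
    by_contra hnot
    rw [Set.mem_union, not_or, Set.mem_iUnion, not_exists] at hnot
    obtain ⟨h1, h2⟩ := hnot
    have hy1 : 1 ≤ P.1 y := not_lt.mp h1
    have hφ1 : ∀ i, P.1 (φ i) = 1 := by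
      intro i
      have := h2 i
      rw [Set.mem_union, not_or] at this
      exact le_antisymm (not_lt.mp this.2) (not_lt.mp this.1)
    have e : (fun i => φ i / φ j) = fun i => (φ j)⁻¹ * φ i := by
      ext i; rw [div_eq_inv_mul]
    rw [e, aeval_mul_of_isHomogeneous hg, map_mul, map_pow, map_inv₀, hφ1 j, inv_one, one_pow,
      one_mul] at hlt
    exact absurd hy1 (not_le.mpr hlt)
  · intro P
    have hnt : Nontrivial (Fin (n + 1)) := Fin.nontrivial_iff_two_le.mpr (by omega)
    -- for each `j` choose `i ≠ j`
    have hex : ∀ j : Fin (n + 1), ∃ i, i ≠ j := fun j => exists_ne j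
    choose ι hι using hex
    set r : Fin (n + 1) → K := fun j => φ (ι j) / φ j with hr
    have hrne : ∀ j (c : k), r j - algebraMap k K c ≠ 0 := by
      intro j c h0
      have h1 : φ (ι j) = c • φ j := by
        rw [sub_eq_zero] at h0
        rw [Algebra.smul_def, ← h0, hr]
        field_simp [hφ0 j]
      have h2 := hφ.notMem_span_image (s := {j}) (x := ι j) (by
        rw [Set.mem_singleton_iff]; exact hι j)
      apply h2
      rw [Set.image_singleton, h1]
      exact Submodule.smul_mem _ _ (Submodule.subset_span rfl)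
    have hZ : ∀ j, {Q : Place k K | ∃ c : k, P.1 (r j - algebraMap k K c) < 1 ∧
        Q.1 (r j - algebraMap k K c) < 1}.Finite := by
      intro j
      by_cases hc : ∃ c₀ : k, P.1 (r j - algebraMap k K c₀) < 1
      · obtain ⟨c₀, hc₀⟩ := hc
        refine (finite_zeros hK (hrne j c₀)).subset ?_
        rintro Q ⟨c, hcP, hcQ⟩
        have hcc : c = c₀ := by
          by_contra hne
          have h1 : P.1 (algebraMap k K (c - c₀)) < 1 := by
            have : algebraMap k K (c - c₀) =
                (r j - algebraMap k K c₀) - (r j - algebraMap k K c) := by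
              rw [map_sub]; ring
            rw [this]
            exact (P.1.map_sub _ _).trans_lt (max_lt hc₀ hcP)
          rw [Place.val_k P (sub_ne_zero.mpr hne)] at h1
          exact lt_irrefl _ h1
        rw [← hcc]
        exact hcQ
      · refine Set.Finite.subset Set.finite_empty ?_
        rintro Q ⟨c, hcP, -⟩
        exact hc ⟨c, hcP⟩
    refine (Set.finite_iUnion hZ).subset ?_
    rintro Q ⟨j, hj, -, -, hres⟩
    rw [Set.mem_iUnion]
    exact ⟨j, hres (ι j)⟩

end Groth.Agent.S11075
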