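import Groth.Statements.S11078
import Mathlib
import Groth.Agent.Lib.Helper4.FF.ProjMap4

set_option autoImplicit false
open FunFld
open Groth.Agent.Lib.Helper4.FF

namespace Groth.Agent.S11078

/-- Over an algebraically closed constant field, for a projective map `φ = (φ₀, …, φₙ)`, `n ≥ 1`, and a
point `a = φ(P)` with local ring `O_a`, the fibre `φ⁻¹(a)` consists of the places `Q` with `O_a ⊆
O_Q` and `m_Q ∩ O_a` equal to the maximal ideal of `O_a` (which is `m_P ∩ O_a`). Here `O_a` consists
of the quotients of polynomials over `k` in the ratios `φᵢ/φⱼ`, `φⱼ` of least order at `P`, with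
denominator a unit at `P`; and `Q` has the same image point as `P` when some entry has least order
at both places and the ratios are congruent to common constants modulo both maximal ideals. -/
theorem result
    (k K : Type*) [Field k] [IsAlgClosed k] [Field K] [Algebra k K]
    (hK : FunFld.IsFunctionField k K) {n : ℕ} (hn : 1 ≤ n) (φ : Fin (n + 1) → K)
    (hφ : LinearIndependent k φ) (P Q : FunFld.Place k K) :
    FunFld.SameImage φ P Q ↔
      ∀ z : K, FunFld.InLocRing φ P z → (Q.1 z ≤ 1 ∧ (Q.1 z < 1 ↔ P.1 z < 1)) := by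
  constructor
  · rintro ⟨j, hj, hP, hQ, hres⟩ z hz
    rw [inLocRing_iff hj hP] at hz
    obtain ⟨u, hu, w, hw, hw1, e⟩ := hz
    have hS : ∀ s ∈ Set.range (fun i => φ i / φ j), ∃ c : k,
        P.1 (s - algebraMap k K c) < 1 ∧ Q.1 (s - algebraMap k K c) < 1 := by
      rintro _ ⟨i, rfl⟩
      exact hres i
    obtain ⟨cu, hcu1, hcu2⟩ := exists_common_residue hS hu
    obtain ⟨cw, hcw1, hcw2⟩ := exists_common_residue hS hw
    have unit : ∀ (R : Place k K) (x : K) (c : k), c ≠ 0 → R.1 (x - algebraMap k K c) < 1 →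
        R.1 x = 1 := by
      intro R x c hc h
      have : x = algebraMap k K c + (x - algebraMap k K c) := by ring
      rw [this, Valuation.map_add_eq_of_lt_left]
      · exact Place.val_k R hc
      · rw [Place.val_k R hc]; exact h
    have hcw0 : cw ≠ 0 := by
      rintro rfl
      rw [map_zero, sub_zero, hw1] at hcw1
      exact lt_irrefl _ hcw1
    have hQw : Q.1 w = 1 := unit Q w cw hcw0 hcw2
    have hQz : Q.1 z = Q.1 u := by rw [← e, map_mul, hQw, mul_one]
    have hPz : P.1 z = P.1 u := by rw [← e, map_mul, hw1, mul_one]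
    have key : ∀ R : Place k K, R.1 (u - algebraMap k K cu) < 1 →
        (R.1 u ≤ 1 ∧ (R.1 u < 1 ↔ cu = 0)) := by
      intro R h
      by_cases hc : cu = 0
      · subst hc
        rw [map_zero, sub_zero] at h
        exact ⟨h.le, iff_of_true h rfl⟩
      · have h1 : R.1 u = 1 := unit R u cu hc h
        exact ⟨h1.le, iff_of_false (by rw [h1]; exact lt_irrefl _) hc⟩
    rw [hQz, hPz]
    obtain ⟨a1, a2⟩ := key Q hcu2
    obtain ⟨b1, b2⟩ := key P hcu1
    exact ⟨a1, a2.trans b2.symm⟩
  · intro h
    obtain ⟨j, hleast⟩ := exists_least φ P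
    have hj : φ j ≠ 0 := hφ.ne_zero j
    have hin : ∀ a ∈ (ratioAlg φ j : Subalgebra k K), InLocRing φ P a := fun a ha =>
      (inLocRing_iff hj hleast).mpr (le_locAt P _ ha)
    refine ⟨j, hj, hleast, ?_, ?_⟩
    · intro i
      have := (h _ (hin _ (ratio_mem_ratioAlg φ j i))).1
      rw [map_div₀] at this
      rwa [div_le_one₀ (zero_lt_iff.mpr ((Valuation.ne_zero_iff _).mpr hj))] at this
    · intro i
      obtain ⟨c, hc⟩ := Place.exists_const_sub_lt P (Place.deg_eq_one hK P)
        (val_ratio_le_one hleast i)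
      refine ⟨c, hc, ?_⟩
      have hmem : φ i / φ j - algebraMap k K c ∈ (ratioAlg φ j : Subalgebra k K) :=
        Subalgebra.sub_mem _ (ratio_mem_ratioAlg φ j i) (Subalgebra.algebraMap_mem _ c)
      exact ((h _ (hin _ hmem)).2).mpr hc

end Groth.Agent.S11078
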