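import Groth.Statements.S11076
import Mathlib
import Groth.Agent.Lib.Helper4.FF.ProjMap8
import Groth.Agent.S11075
import Groth.Agent.S11078

set_option autoImplicit false
open FunFld
open Groth.Agent.Lib.Helper4.FF

namespace Groth.Agent.S11076

/-- Over an algebraically closed constant field, a projective curve (given by a birational projective
map `φ = (φ₀, …, φₙ)`, `n ≥ 1`) is nonsingular at the point `a = φ(P)` if and only if some
hyperplane `∑ cᵢ Xᵢ` has intersection multiplicity `1` with it at `a`: the sum over the places `Q`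
of the fibre of `a` of `[φ](Q) + ord_Q(∑ cᵢ φᵢ)` is `1`. Nonsingular at `P` means that the local
ring of `φ` at `P` (quotients of polynomials over `k` in the `φᵢ/φⱼ`, `φⱼ` of least order at `P`,
denominator a unit at `P`) is the whole valuation ring. Two places have the same image point when
some entry `φⱼ` has least order at both and each `φᵢ/φⱼ` is congruent to one constant modulo both
maximal ideals. -/
theorem result (k K : Type*) [Field k] [IsAlgClosed k] [Field K] [Algebra k K]
    (hK : FunFld.IsFunctionField k K) {n : ℕ} (hn : 1 ≤ n)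
    (φ : Fin (n + 1) → K) (hφ : LinearIndependent k φ)
    (hbir : IntermediateField.adjoin k (Set.range fun i => φ i / φ 0) = ⊤)
    (P : FunFld.Place k K) :
    FunFld.IsNonsingularAt φ P ↔ ∃ c : Fin (n + 1) → k, ∑ i, c i • φ i ≠ 0 ∧
      ∑ᶠ Q ∈ {Q : FunFld.Place k K | FunFld.SameImage φ P Q},
        ((FunFld.mapDiv k φ) Q + Q.ord (∑ i, c i • φ i)) = 1 := by
  classical
  have hφ0 : ∀ i, φ i ≠ 0 := fun i => hφ.ne_zero i
  set W := Submodule.span k (Set.range φ) with hW
  set D := mapDiv k φ with hD
  have hWD : W ≤ L D := span_le_L_mapDiv hK φ hφ0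
  have hres : ∀ (R : Place k K) (z : K), R.1 z ≤ 1 → ∃ c : k, R.1 (z - algebraMap k K c) < 1 :=
    fun R z hz => Place.exists_const_sub_lt R (Place.deg_eq_one hK R) hz
  have hpos : ∀ (R : Place k K) (i : Fin (n + 1)), 0 < R.1 (φ i) := fun R i =>
    zero_lt_iff.mpr ((Valuation.ne_zero_iff _).mpr (hφ0 i))
  obtain ⟨j, hleast⟩ := exists_least φ P
  have hj := hφ0 j
  have hDP : WithZero.exp (D P) = P.1 (φ j) := exp_mapDiv hK φ hφ0 P hleast
  -- `P` lies in its own fibre
  have hPS : SameImage φ P P := by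
    refine ⟨j, hj, hleast, hleast, fun i => ?_⟩
    obtain ⟨c, hc⟩ := hres P _ (val_ratio_le_one hleast i)
    exact ⟨c, hc, hc⟩
  have hSfin : {Q : Place k K | SameImage φ P Q}.Finite :=
    (Groth.Agent.S11075.result k K hK hn φ hφ).2 P
  -- the term of the sum
  set T : (Fin (n + 1) → k) → Place k K → ℤ := fun c Q => D Q + Q.ord (∑ i, c i • φ i) with hT
  have hTval : ∀ (c : Fin (n + 1) → k) (Q : Place k K), (∑ i, c i • φ i) ≠ 0 →
      Q.1 (∑ i, c i • φ i) = WithZero.exp (D Q - T c Q) := by
    intro c Q hne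
    rw [Place.val_eq_exp_neg_ord Q hne]
    congr 1
    simp only [hT]
    ring
  have hlW : ∀ c : Fin (n + 1) → k, (∑ i, c i • φ i) ∈ W := fun c =>
    W.sum_mem fun i _ => W.smul_mem _ (Submodule.subset_span ⟨i, rfl⟩)
  have hTnonneg : ∀ (c : Fin (n + 1) → k) (Q : Place k K), (∑ i, c i • φ i) ≠ 0 → 0 ≤ T c Q := by
    intro c Q hne
    have h1 := hWD (hlW c) Q
    rw [hTval c Q hne, WithZero.exp_le_exp] at h1
    omega
  constructor
  · intro hns
    -- the fibre is `{P}`
    have hS : {Q : Place k K | SameImage φ P Q} = {P} := by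
      ext Q
      rw [Set.mem_singleton_iff]
      constructor
      · intro hQ
        exact (place_eq_of_forall P Q (fun z hz =>
          val_le_one_of_sameImage hQ (hns z hz.le))).symm
      · rintro rfl
        exact hPS
    obtain ⟨t, ht⟩ := Place.exists_uniformizer P
    have htR := hns t (by rw [ht, ← WithZero.exp_zero, WithZero.exp_le_exp]; norm_num)
    rw [inLocRing_iff hj hleast] at htR
    obtain ⟨v', hv', hv'v⟩ := exists_span_uniformizer (hres P) hj hleast htR ht
    have hvW : v' * φ j ∈ W := mul_mem_span_of_mem_span_ratio hj hv'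
    have hvv : P.1 (v' * φ j) = WithZero.exp (D P - 1) := by
      rw [map_mul, hv'v, ← hDP, ← WithZero.exp_add]; congr 1; ring
    obtain ⟨c, hc⟩ := (Submodule.mem_span_range_iff_exists_fun k).mp hvW
    have hne : (∑ i, c i • φ i) ≠ 0 := by
      rw [hc]
      intro h0
      rw [h0, map_zero] at hvv
      exact WithZero.exp_ne_zero hvv.symm
    refine ⟨c, hne, ?_⟩
    rw [hS, finsum_mem_singleton]
    have h1 := hTval c P hne
    rw [hc, hvv, WithZero.exp_inj] at h1
    change T c P = 1
    omega
  · rintro ⟨c, hne, hsum⟩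
    set l := ∑ i, c i • φ i with hl
    change ∑ᶠ Q ∈ {Q : Place k K | SameImage φ P Q}, T c Q = 1 at hsum
    rw [finsum_mem_eq_finite_toFinset_sum _ hSfin] at hsum
    have hmemS : ∀ Q : Place k K, Q ∈ hSfin.toFinset ↔ SameImage φ P Q := by
      intro Q
      rw [Set.Finite.mem_toFinset]
      rfl
    -- positivity is constant along the fibre
    have hposfib : ∀ Q : Place k K, SameImage φ P Q → (0 < T c Q ↔ 0 < T c P) := by
      intro Q hQ
      have h78 := (Groth.Agent.S11078.result k K hK hn φ hφ P Q).mp hQ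
      obtain ⟨j', hj', hP', hQ', -⟩ := hQ
      have hzA : l / φ j' ∈ (ratioAlg φ j' : Subalgebra k K) :=
        span_ratio_le_ratioAlg φ j' (div_mem_span_ratio j' (hlW c))
      have hzR : InLocRing φ P (l / φ j') := ⟨j', hj', hP', le_locAt P _ hzA⟩
      have h2 := (h78 _ hzR).2
      have hDQ' : WithZero.exp (D Q) = Q.1 (φ j') := exp_mapDiv hK φ hφ0 Q hQ'
      have hDP' : WithZero.exp (D P) = P.1 (φ j') := exp_mapDiv hK φ hφ0 P hP'
      have hQiff : 0 < T c Q ↔ Q.1 (l / φ j') < 1 := by
        rw [map_div₀, div_lt_one₀ (hpos Q j'), ← hDQ', hTval c Q hne,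
          WithZero.exp_lt_exp]
        constructor <;> intro h <;> omega
      have hPiff : 0 < T c P ↔ P.1 (l / φ j') < 1 := by
        rw [map_div₀, div_lt_one₀ (hpos P j'), ← hDP', hTval c P hne,
          WithZero.exp_lt_exp]
        constructor <;> intro h <;> omega
      rw [hQiff, hPiff]
      exact h2
    have hPmem : P ∈ hSfin.toFinset := (hmemS P).mpr hPS
    have hnn : ∀ Q ∈ hSfin.toFinset, 0 ≤ T c Q := fun Q _ => hTnonneg c Q hne
    -- `T c P > 0`
    have hTP : 0 < T c P := by
      by_contra hno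
      have hall : ∀ Q ∈ hSfin.toFinset, T c Q = 0 := by
        intro Q hQ
        have h1 := hnn Q hQ
        have h2 : ¬ 0 < T c Q := fun h => hno ((hposfib Q ((hmemS Q).mp hQ)).mp h)
        omega
      rw [Finset.sum_eq_zero hall] at hsum
      exact zero_ne_one hsum
    have hTP1 : T c P = 1 := by
      have := Finset.single_le_sum hnn hPmem
      omega
    have hfib : ∀ Q : Place k K, Q ≠ P → ¬ SameImage φ P Q := by
      intro Q hQP hQ
      have hQmem : Q ∈ hSfin.toFinset := (hmemS Q).mpr hQ
      have hTQ : 0 < T c Q := (hposfib Q hQ).mpr hTP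
      have hsub : ({P, Q} : Finset (Place k K)) ⊆ hSfin.toFinset := by
        intro R hR
        rcases Finset.mem_insert.mp hR with rfl | hR
        · exact hPmem
        · rw [Finset.mem_singleton] at hR
          rw [hR]; exact hQmem
      have h1 := Finset.sum_le_sum_of_subset_of_nonneg (f := T c) hsub (fun R hR _ => hnn R hR)
      rw [Finset.sum_pair (Ne.symm hQP)] at h1
      omega
    -- the local parameter
    have hlv : P.1 l = WithZero.exp (D P - 1) := by
      rw [hl, hTval c P hne, hTP1]
    have ht₀A : l / φ j ∈ (ratioAlg φ j : Subalgebra k K) :=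
      span_ratio_le_ratioAlg φ j (div_mem_span_ratio j (hlW c))
    have ht₀ : P.1 (l / φ j) = WithZero.exp (-1 : ℤ) := by
      rw [map_div₀, hlv, ← hDP, ← WithZero.exp_sub]; congr 1; ring
    refine isNonsingularAt_of_sep hK φ hφ0 P hleast ?_ ht₀A ht₀
    intro Q hQP hQA
    have hleastQ : ∀ i, Q.1 (φ i) ≤ Q.1 (φ j) := by
      intro i
      have := hQA _ (ratio_mem_ratioAlg φ j i)
      rw [map_div₀] at this
      rwa [div_le_one₀ (hpos Q j)] at this
    have hno : ¬ ∀ i, ∃ c : k, P.1 (φ i / φ j - algebraMap k K c) < 1 ∧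
        Q.1 (φ i / φ j - algebraMap k K c) < 1 := fun h =>
      hfib Q hQP ⟨j, hj, hleast, hleastQ, h⟩
    push Not at hno
    obtain ⟨i, hi⟩ := hno
    obtain ⟨cP, hcP⟩ := hres P _ (val_ratio_le_one hleast i)
    obtain ⟨cQ, hcQ⟩ := hres Q _ (val_ratio_le_one hleastQ i)
    have hcne : cP ≠ cQ := by
      intro h
      rw [← h] at hcQ
      exact absurd hcQ (not_lt.mpr (hi cP hcP))
    refine ⟨φ i / φ j - algebraMap k K cQ,
      Subalgebra.sub_mem _ (ratio_mem_ratioAlg φ j i) (Subalgebra.algebraMap_mem _ cQ), ?_, hcQ⟩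
    have e : φ i / φ j - algebraMap k K cQ =
        algebraMap k K (cP - cQ) + (φ i / φ j - algebraMap k K cP) := by
      rw [map_sub]; ring
    rw [e, Valuation.map_add_eq_of_lt_left]
    · exact Place.val_k P (sub_ne_zero.mpr hcne)
    · rw [Place.val_k P (sub_ne_zero.mpr hcne)]
      exact hcP

end Groth.Agent.S11076
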