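import Groth.Statements.S11077
import Mathlib
import Groth.Agent.Lib.Helper9.FFExt.IntA
import Groth.Agent.Lib.Helper9.FFExt.IntB
import Groth.Agent.Lib.Helper9.FFExt.IntC
import Groth.Agent.Lib.Helper9.FFExt.PlaneKer2
import Groth.Agent.Lib.Helper4.FF.Zeros
-- import your own Groth.Agent.* helpers here

set_option autoImplicit false
open FunFld

namespace Groth.Agent.S11077

open FunFld
namespace Aux
universe u v

open WithZero Groth.Agent.Lib.Helper4.FF Groth.Agent.Helper9.PlaneLocal
  Groth.Agent.Helper9.IntA Groth.Agent.Helper9.IntB Groth.Agent.Helper9.IntC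
  Groth.Agent.Helper9.PlaneKer

theorem main
    (k : Type u) (K : Type v) [Field k] [IsAlgClosed k] [Field K] [Algebra k K]
    (hK : FunFld.IsFunctionField k K) (x y : K)
    (hxy : IntermediateField.adjoin k ({x, y} : Set K) = ⊤) (f g : MvPolynomial (Fin 2) k)
    (hf : Irreducible f) (hfxy : MvPolynomial.aeval ![x, y] f = 0)
    (hgxy : MvPolynomial.aeval ![x, y] g ≠ 0) (P : FunFld.Place k K) (c : Fin 2 → k)
    (hc : ∀ i, P.1 (![x, y] i - algebraMap k K (c i)) < 1)
    (M : Ideal (MvPolynomial (Fin 2) k)) [M.IsMaximal]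
    (hM : M = Ideal.span {MvPolynomial.X 0 - MvPolynomial.C (c 0),
      MvPolynomial.X 1 - MvPolynomial.C (c 1)}) :
    ∑ᶠ Q ∈ {Q : FunFld.Place k K | FunFld.SameImage ![(1 : K), x, y] P Q},
        Q.ord (MvPolynomial.aeval ![x, y] g) =
      (Module.finrank k (Localization.AtPrime M ⧸
        Ideal.map (algebraMap (MvPolynomial (Fin 2) k) (Localization.AtPrime M))
          (Ideal.span {f, g})) : ℤ) := by
  classical
  set γ := MvPolynomial.aeval ![x, y] g with hγ
  set A := Algebra.adjoin k (Set.range ![x, y]) with hA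
  have hSset : {Q : Place k K | SameImage ![(1 : K), x, y] P Q} =
      {Q : Place k K | ∀ i, Q.1 (![x, y] i - algebraMap k K (c i)) < 1} :=
    Set.ext fun Q => sameImage_iff x y P Q c hc
  have hfin : {Q : Place k K | ∀ i, Q.1 (![x, y] i - algebraMap k K (c i)) < 1}.Finite := by
    rcases transcendental_or hK x y hxy with hx | hy
    · have h0 : x - algebraMap k K (c 0) ≠ 0 := by
        intro h
        rw [sub_eq_zero] at h
        exact hx (h ▸ isAlgebraic_algebraMap _)
      exact (finite_zeros hK h0).subset fun Q hQ => hQ 0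
    · have h0 : y - algebraMap k K (c 1) ≠ 0 := by
        intro h
        rw [sub_eq_zero] at h
        exact hy (h ▸ isAlgebraic_algebraMap _)
      exact (finite_zeros hK h0).subset fun Q hQ => hQ 1
  set S := hfin.toFinset with hSdef
  have hS : ∀ Q, Q ∈ S ↔ ∀ i, Q.1 (![x, y] i - algebraMap k K (c i)) < 1 := by
    intro Q
    rw [hSdef, Set.Finite.mem_toFinset]
    rfl
  rw [hSset, finsum_mem_eq_finite_toFinset_sum _ hfin]
  change ∑ Q ∈ S, Q.ord γ = _
  have hγA : γ ∈ A := (mem_adjoin_range_iff _ _).mpr ⟨g, rfl⟩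
  set Bt : Submodule k K := Lam S 0 with hBt
  set B : Submodule k K := Subalgebra.toSubmodule (locAt P A) with hB
  have hBBt : B ≤ Bt := by
    intro z hz Q hQ
    rw [Pi.zero_apply, neg_zero, exp_zero]
    exact val_le_one_of_mem_locAt' x y P Q c hc ((hS Q).mp hQ) hz
  -- relative dimension of `a * Bt` in `Bt`
  have hrel : ∀ a ∈ A, a ≠ 0 → 0 ≤ ∑ Q ∈ S, Q.ord a ∧
      IsRelDim (Bt.map (LinearMap.mulLeft k a)) Bt (∑ Q ∈ S, Q.ord a).toNat := by
    intro a ha ha0
    have hnn : ∀ Q ∈ S, 0 ≤ Q.ord a := by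
      intro Q hQ
      rw [Place.ord_nonneg_iff Q ha0]
      exact (unit_iff x y P Q c hc ((hS Q).mp hQ) ha).1
    have hsum := Finset.sum_nonneg hnn
    refine ⟨hsum, ?_⟩
    rw [hBt, map_mulLeft_Lam S 0 ha0]
    apply isRelDim_Lam hK S 0
    · intro Q hQ
      rw [Pi.zero_apply, zero_add]; exact hnn Q hQ
    · rw [Int.toNat_of_nonneg hsum]
      exact Finset.sum_congr rfl fun Q _ => by rw [Pi.zero_apply, zero_add, sub_zero]
  obtain ⟨d, hdA, hd0, hd⟩ := exists_conductor hK x y hxy P c hc S (fun Q hQ => (hS Q).mpr hQ)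
  have hdB : Bt.map (LinearMap.mulLeft k d) ≤ B := by
    rintro _ ⟨z, hz, rfl⟩
    exact hd z hz
  obtain ⟨-, b, -, -, hb⟩ := IsRelDim.of_le_le (hrel d hdA hd0).2 hdB hBBt
  obtain ⟨hγsum, hγrel⟩ := hrel γ hγA hgxy
  have hinj : Function.Injective (LinearMap.mulLeft k γ) := fun a b h => mul_left_cancel₀ hgxy h
  have h1 := (IsRelDim.map (LinearMap.mulLeft k γ) hinj hb).trans hγrel
  have hγB : B.map (LinearMap.mulLeft k γ) ≤ B := by
    rintro _ ⟨z, hz, rfl⟩
    exact Subalgebra.mul_mem _ (le_locAt P A hγA) hz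
  obtain ⟨a', b', hab, ha', hb'⟩ := IsRelDim.of_le_le h1 hγB hBBt
  have hbb : b' = b := IsRelDim.unique hb' hb
  have ha'eq : a' = (∑ Q ∈ S, Q.ord γ).toNat := by omega
  have hker : ∀ G : MvPolynomial (Fin 2) k, MvPolynomial.aeval ![x, y] G = 0 → f ∣ G := by
    intro G hG
    have : G ∈ RingHom.ker (MvPolynomial.aeval ![x, y] : MvPolynomial (Fin 2) k →ₐ[k] K) := hG
    rw [ker_pair_eq_span hK x y hxy f hf hfxy, Ideal.mem_span_singleton] at this
    exact this
  rw [finrank_localization_quotient x y f g hfxy hker P c hc M hM, ha'.quotient.2, ha'eq,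
    Int.toNat_of_nonneg hγsum]

end Aux

/-- Over an algebraically closed constant field, for a plane curve `V(f)` with natural map `(1 : x :
y)`, a polynomial `g` not vanishing on the curve and a finite point `a = (c₀, c₁)` of the curve
below the place `P`, the intersection multiplicity of `V(g)` with the curve at `a` (the sum of
`ord_Q g(x, y)` over the places `Q` with image point `a`) equals `dim_k A/(f, g)` with `A` the local
ring of the plane at `a`. Two places have the same image point when some entry of `(1, x, y)` has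
least order at both and the ratios are congruent to common constants modulo both maximal ideals. -/
theorem result
    (k K : Type*) [Field k] [IsAlgClosed k] [Field K] [Algebra k K]
    (hK : FunFld.IsFunctionField k K) (x y : K)
    (hxy : IntermediateField.adjoin k ({x, y} : Set K) = ⊤) (f g : MvPolynomial (Fin 2) k)
    (hf : Irreducible f) (hfxy : MvPolynomial.aeval ![x, y] f = 0)
    (hgxy : MvPolynomial.aeval ![x, y] g ≠ 0) (P : FunFld.Place k K) (c : Fin 2 → k)
    (hc : ∀ i, P.1 (![x, y] i - algebraMap k K (c i)) < 1)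
    (M : Ideal (MvPolynomial (Fin 2) k)) [M.IsMaximal]
    (hM : M = Ideal.span {MvPolynomial.X 0 - MvPolynomial.C (c 0),
      MvPolynomial.X 1 - MvPolynomial.C (c 1)}) :
    ∑ᶠ Q ∈ {Q : FunFld.Place k K | FunFld.SameImage ![(1 : K), x, y] P Q},
        Q.ord (MvPolynomial.aeval ![x, y] g) =
      (Module.finrank k (Localization.AtPrime M ⧸
        Ideal.map (algebraMap (MvPolynomial (Fin 2) k) (Localization.AtPrime M))
          (Ideal.span {f, g})) : ℤ) := by
  exact Aux.main k K hK x y hxy f g hf hfxy hgxy P c hc M hM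

end Groth.Agent.S11077
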