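import Groth.Statements.S11079
import Mathlib
import Groth.Agent.S7723

set_option autoImplicit false
universe u
open CAlg

namespace Groth.Agent.S11079

section
open scoped BigOperators

theorem main (K L : Type u) [Field K] [Field L]
    [Algebra K L] [FiniteDimensional K L] [IsGalois K L] (n : ℕ)
    (B : (L ≃ₐ[K] L) → GL (Fin n) L)
    (hB : ∀ σ τ : L ≃ₐ[K] L,
      (B σ : Matrix (Fin n) (Fin n) L) * (B τ : Matrix (Fin n) (Fin n) L).map σ = (B (σ * τ) : Matrix (Fin n) (Fin n) L)) :
    ∃ A : GL (Fin n) L, ∀ σ : L ≃ₐ[K] L,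
      (B σ : Matrix (Fin n) (Fin n) L) = ((A⁻¹ : GL (Fin n) L) : Matrix (Fin n) (Fin n) L) * (A : Matrix (Fin n) (Fin n) L).map σ := by
  classical
  -- B 1 = 1
  have hB1 : (B 1 : Matrix (Fin n) (Fin n) L) = 1 := by
    have h := hB 1 1
    have hmap : (B 1 : Matrix (Fin n) (Fin n) L).map (1 : L ≃ₐ[K] L) = (B 1 : Matrix (Fin n) (Fin n) L) := by
      apply Matrix.ext; intro i j; rfl
    rw [hmap, mul_one] at h
    have h2 : B 1 * B 1 = B 1 := Units.ext h
    have h3 : B 1 = 1 := by
      have := mul_left_cancel (a := B 1) (b := B 1) (c := 1) (by rw [h2, mul_one])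
      exact this
    rw [h3]; rfl
  -- the twisted action
  let inst : DistribMulAction (L ≃ₐ[K] L) (Fin n → L) :=
    { smul := fun σ v => (B σ : Matrix (Fin n) (Fin n) L).mulVec (fun i => σ (v i))
      one_smul := fun v => by
        show (B 1 : Matrix (Fin n) (Fin n) L).mulVec (fun i => (1 : L ≃ₐ[K] L) (v i)) = v
        rw [hB1, Matrix.one_mulVec]
        rfl
      mul_smul := fun σ τ v => by
        show (B (σ * τ) : Matrix (Fin n) (Fin n) L).mulVec (fun i => (σ * τ) (v i)) =
          (B σ : Matrix (Fin n) (Fin n) L).mulVec (fun i => σ ((B τ : Matrix (Fin n) (Fin n) L).mulVec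
            (fun j => τ (v j)) i))
        rw [← hB σ τ, ← Matrix.mulVec_mulVec]
        congr 1
        funext i
        have := RingHom.map_mulVec (σ : L →+* L) (B τ : Matrix (Fin n) (Fin n) L)
          (fun j => τ (v j)) i
        exact this.symm
      smul_zero := fun σ => by
        show (B σ : Matrix (Fin n) (Fin n) L).mulVec (fun i => σ ((0 : Fin n → L) i)) = 0
        have : (fun i => σ ((0 : Fin n → L) i)) = (0 : Fin n → L) := by
          funext i; simp
        rw [this, Matrix.mulVec_zero]
      smul_add := fun σ v w => by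
        show (B σ : Matrix (Fin n) (Fin n) L).mulVec (fun i => σ ((v + w) i)) =
          (B σ : Matrix (Fin n) (Fin n) L).mulVec (fun i => σ (v i)) +
          (B σ : Matrix (Fin n) (Fin n) L).mulVec (fun i => σ (w i))
        rw [← Matrix.mulVec_add]
        congr 1
        funext i
        simp }
  have hsmul : ∀ (σ : L ≃ₐ[K] L) (v : Fin n → L),
      @HSMul.hSMul _ _ _ (@instHSMul _ _ inst.toSMul) σ v =
        (B σ : Matrix (Fin n) (Fin n) L).mulVec (fun i => σ (v i)) := fun σ v => rfl
  have hsemi : ∀ (σ : L ≃ₐ[K] L) (c : L) (v : Fin n → L),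
      @HSMul.hSMul _ _ _ (@instHSMul _ _ inst.toSMul) σ (c • v) =
        σ c • @HSMul.hSMul _ _ _ (@instHSMul _ _ inst.toSMul) σ v := by
    intro σ c v
    rw [hsmul, hsmul, ← Matrix.mulVec_smul]
    congr 1
    funext i
    simp
  have key := (@Groth.Agent.S7723.result K _ L _ _ _ _ (Fin n → L) _ _ _ _ inst hsemi).1
  obtain ⟨b, hbs, hbspan, hbli⟩ := exists_linearIndependent L
    (@MulAction.fixedPoints (L ≃ₐ[K] L) (Fin n → L) _ inst.toMulAction)
  rw [key] at hbspan
  let bas : Module.Basis b L (Fin n → L) := Module.Basis.mk hbli (by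
    rw [Subtype.range_coe]; exact hbspan.ge)
  have hfin : Finite b := Module.Finite.finite_basis bas
  have hft : Fintype b := Fintype.ofFinite b
  have hcard : Fintype.card b = n := by
    rw [← Module.finrank_eq_card_basis bas, Module.finrank_fin_fun]
  let e : b ≃ Fin n := Fintype.equivFinOfCardEq hcard
  let w : Module.Basis (Fin n) L (Fin n → L) := bas.reindex e
  have hw : ∀ j (σ : L ≃ₐ[K] L),
      (B σ : Matrix (Fin n) (Fin n) L).mulVec (fun i => σ (w j i)) = w j := by
    intro j σ
    have h1 : w j ∈ @MulAction.fixedPoints (L ≃ₐ[K] L) (Fin n → L) _ inst.toMulAction := by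
      have : w j = (e.symm j : Fin n → L) := by
        simp [w, bas, Module.Basis.reindex_apply]
      rw [this]
      exact hbs (e.symm j).2
    exact h1 σ
  let W : Matrix (Fin n) (Fin n) L := (Pi.basisFun L (Fin n)).toMatrix w
  let W' : Matrix (Fin n) (Fin n) L := w.toMatrix (Pi.basisFun L (Fin n))
  have hWW' : W * W' = 1 := Module.Basis.toMatrix_mul_toMatrix_flip _ _
  have hW'W : W' * W = 1 := Module.Basis.toMatrix_mul_toMatrix_flip _ _
  have hWapp : ∀ i j, W i j = w j i := by
    intro i j
    simp [W, Module.Basis.toMatrix_apply]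
  refine ⟨⟨W', W, hW'W, hWW'⟩, ?_⟩
  intro σ
  show (B σ : Matrix (Fin n) (Fin n) L) = W * W'.map σ
  have hinv : (B σ : Matrix (Fin n) (Fin n) L) * W.map σ = W := by
    apply Matrix.ext
    intro i j
    rw [Matrix.mul_apply, hWapp, ← hw j σ]
    simp only [Matrix.mulVec, dotProduct, Matrix.map_apply, hWapp]
  have hmap : W.map σ * W'.map σ = 1 := by
    have := Matrix.map_mul (L := W) (M := W') (f := (σ : L →+* L))
    have h2 : (W * W').map (σ : L →+* L) = 1 := by
      rw [hWW']
      exact Matrix.map_one _ (map_zero _) (map_one _)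
    rw [this] at h2
    exact h2
  calc (B σ : Matrix (Fin n) (Fin n) L) = (B σ : Matrix (Fin n) (Fin n) L) * (W.map σ * W'.map σ) := by
        rw [hmap, mul_one]
    _ = W * W'.map σ := by rw [← mul_assoc, hinv]


end


/-- Let L/K be a finite Galois extension of fields, n a natural number, and B a map from the Galois
group of L over K to the invertible n × n matrices over L such that B(σ) · σ(B(τ)) = B(στ) for all
σ, τ, where σ acts on matrices entrywise and στ is the automorphism applying τ first. Then there is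
an invertible matrix A over L with B(σ) = A⁻¹ · σ(A) for every σ; that is, every 1-cocycle of the
Galois group with values in GL_n(L) is a coboundary. -/
theorem result (K L : Type u) [Field K] [Field L]
    [Algebra K L] [FiniteDimensional K L] [IsGalois K L] (n : ℕ)
    (B : (L ≃ₐ[K] L) → GL (Fin n) L)
    (hB : ∀ σ τ : L ≃ₐ[K] L,
      (B σ : Matrix (Fin n) (Fin n) L) * (B τ : Matrix (Fin n) (Fin n) L).map σ = (B (σ * τ) : Matrix (Fin n) (Fin n) L)) :
    ∃ A : GL (Fin n) L, ∀ σ : L ≃ₐ[K] L,
      (B σ : Matrix (Fin n) (Fin n) L) = ((A⁻¹ : GL (Fin n) L) : Matrix (Fin n) (Fin n) L) * (A : Matrix (Fin n) (Fin n) L).map σ := by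
  classical
  exact main K L n B hB

end Groth.Agent.S11079
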