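import Groth.Statements.S11080
import Mathlib

set_option autoImplicit false
universe u
open CAlg

open IsDedekindDomain IsDedekindDomain.HeightOneSpectrum

namespace Groth.Agent.S11080

/-- Valuation rings over a curve: let A be a Dedekind domain with fraction field K. A valuation subring
O of K contains A and is different from K if and only if O is the valuation ring of the v-adic
valuation of K at some nonzero prime v of A (equivalently O is the local ring of A at a maximal
ideal, a discrete valuation ring). (The published statement takes A to be the coordinate ring of a
nonsingular affine curve over an algebraically closed field, which is such a Dedekind domain; its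
proof uses only that the local rings of A at nonzero primes are discrete valuation rings and that
nonzero primes are maximal.) -/
theorem result (A K : Type u) [CommRing A]
    [IsDedekindDomain A] [Field K] [Algebra A K] [IsFractionRing A K] (O : ValuationSubring K) :
    ((algebraMap A K).range ≤ O.toSubring ∧ O ≠ ⊤) ↔
      ∃ v : IsDedekindDomain.HeightOneSpectrum A, O = (v.valuation K).valuationSubring := by
  constructor
  · rintro ⟨hA, hO⟩
    have hmem : ∀ a : A, algebraMap A K a ∈ O := fun a => hA ⟨a, rfl⟩
    let f : A →+* O := (algebraMap A K).codRestrict O.toSubring hmem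
    let p : Ideal A := (IsLocalRing.maximalIdeal O).comap f
    have hp_prime : p.IsPrime := Ideal.comap_isPrime f _
    -- elements outside p have inverse in O
    have hinv : ∀ b : A, b ∉ p → (algebraMap A K b)⁻¹ ∈ O := by
      intro b hb
      have hu : IsUnit (f b) := by
        by_contra hnu
        exact hb ((IsLocalRing.mem_maximalIdeal _).2 hnu)
      have h1 : O.valuation (algebraMap A K b) = 1 := (O.valuation_eq_one_iff (f b)).1 hu
      rw [← O.valuation_le_one_iff, map_inv₀, h1, inv_one]
    have hp_ne : p ≠ ⊥ := by
      intro hbot
      apply hO
      rw [eq_top_iff]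
      intro x _
      obtain ⟨a, b, hb, rfl⟩ := IsFractionRing.div_surjective (A := A) x
      have hb0 : (b : A) ≠ 0 := nonZeroDivisors.ne_zero hb
      have hbp : (b : A) ∉ p := by rw [hbot]; simpa using hb0
      rw [div_eq_mul_inv]
      exact O.mul_mem _ _ (hmem a) (hinv b hbp)
    let v : HeightOneSpectrum A := ⟨p, hp_prime, hp_ne⟩
    refine ⟨v, ?_⟩
    have hle : (v.valuation K).valuationSubring ≤ O := by
      intro x hx
      obtain ⟨n, d, hnd⟩ := v.exists_primeCompl_mul_eq_of_integer x
        ((Valuation.mem_valuationSubring_iff _ _).1 hx)
      have hd0 : algebraMap A K d ≠ 0 := by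
        intro h0
        have : (d : A) = 0 := (IsFractionRing.injective A K) (by rw [h0, map_zero])
        exact d.2 (by rw [this]; exact zero_mem _)
      have hx' : x = algebraMap A K n * (algebraMap A K d)⁻¹ := by
        rw [← hnd, mul_assoc, mul_inv_cancel₀ hd0, mul_one]
      rw [hx']
      exact O.mul_mem _ _ (hmem n) (hinv d d.2)
    have := ValuationSubring.eq_of_le_of_ne_top (A := valuationSubringAtPrime K v) (B := O)
      (by rw [valuationSubringAtPrime_eq_valuationSubring]; exact hle) hO
    rw [← this, valuationSubringAtPrime_eq_valuationSubring]
  · rintro ⟨v, rfl⟩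
    refine ⟨?_, ?_⟩
    · rintro _ ⟨a, rfl⟩
      exact v.valuation_le_one a
    · simp only [ne_eq, Valuation.valuationSubring_eq_top_iff, not_not]
      infer_instance

end Groth.Agent.S11080
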