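import Groth.Statements.S11084
import Mathlib
import Groth.Agent.S11080

set_option autoImplicit false
universe u
open CAlg



namespace Groth.Agent.S11084

/-- Let k be a field and O a valuation subring of the field of rational functions k(x). Then O contains
the constants k and is different from k(x) if and only if O is the valuation ring of the P-adic
valuation at a nonzero prime P of the polynomial ring k[x], or O is the valuation ring of the
valuation at infinity (given by the degree). (The published statement has k algebraically closed, so
that these valuation rings correspond to the points of the projective line; the published proof does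
not use that k is algebraically closed. The published statement also asserts that distinct points
give distinct valuation rings, which this row does not state, and counts k(x) itself among the
valuation rings containing k; this row excludes it.) -/
theorem result (k : Type u) [Field k] [DecidableEq (RatFunc k)]
    (O : ValuationSubring (RatFunc k)) :
    ((algebraMap k (RatFunc k)).range ≤ O.toSubring ∧ O ≠ ⊤) ↔
      ((∃ v : IsDedekindDomain.HeightOneSpectrum (Polynomial k), O = (v.valuation (RatFunc k)).valuationSubring) ∨
        O = (RatFunc.inftyValuation k).valuationSubring) := by
  constructor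
  · rintro ⟨hk, hO⟩
    have : O.valuation.IsTrivialOn k := by
      constructor
      intro a ha
      have h1 : algebraMap k (RatFunc k) a ∈ O := hk ⟨a, rfl⟩
      have h2 : algebraMap k (RatFunc k) a⁻¹ ∈ O := hk ⟨a⁻¹, rfl⟩
      rw [← O.valuation_le_one_iff] at h1 h2
      rw [map_inv₀, map_inv₀] at h2
      have h0 : O.valuation (algebraMap k (RatFunc k) a) ≠ 0 := by
        rw [Valuation.ne_zero_iff]
        exact (map_ne_zero _).2 ha
      exact le_antisymm h1 ((inv_le_one₀ (zero_lt_iff.2 h0)).1 h2)
    by_cases hX : O.valuation RatFunc.X ≤ 1
    · left
      have hpoly : (algebraMap (Polynomial k) (RatFunc k)).range ≤ O.toSubring := by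
        rintro _ ⟨q, rfl⟩
        have := Polynomial.valuation_le_one_of_valuation_X_le_one k hX q
        exact (O.valuation_le_one_iff _).1 this
      exact (Groth.Agent.S11080.result (Polynomial k) (RatFunc k) O).1 ⟨hpoly, hO⟩
    · right
      have hlt : 1 < O.valuation RatFunc.X := not_le.1 hX
      have := RatFunc.valuation_isEquiv_inftyValuation_of_one_lt_valuation_X (v := O.valuation) hlt
      rw [Valuation.isEquiv_iff_valuationSubring, ValuationSubring.valuationSubring_valuation] at this
      exact this
  · rintro (⟨v, rfl⟩ | rfl)
    · have := (Groth.Agent.S11080.result (Polynomial k) (RatFunc k)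
        (v.valuation (RatFunc k)).valuationSubring).2 ⟨v, rfl⟩
      refine ⟨?_, this.2⟩
      rintro _ ⟨a, rfl⟩
      apply this.1
      exact ⟨Polynomial.C a, rfl⟩
    · refine ⟨?_, ?_⟩
      · rintro _ ⟨a, rfl⟩
        show RatFunc.inftyValuation k (algebraMap k (RatFunc k) a) ≤ 1
        by_cases ha : a = 0
        · rw [ha, map_zero, map_zero]; exact zero_le_one
        · rw [RatFunc.algebraMap_eq_C, RatFunc.inftyValuation.C k ha]
      · intro htop
        have hX : (RatFunc.X : RatFunc k) ∈ (RatFunc.inftyValuation k).valuationSubring := by
          rw [htop]; trivial
        have h1 : RatFunc.inftyValuation k RatFunc.X ≤ 1 := hX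
        rw [RatFunc.inftyValuation.X] at h1
        have : (1 : WithZero (Multiplicative ℤ)) < WithZero.exp 1 := by
          rw [← WithZero.exp_zero]
          exact WithZero.exp_lt_exp.2 zero_lt_one
        exact absurd h1 (not_le.2 this)

end Groth.Agent.S11084
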