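import Groth.Statements.S11091
-- import your own Groth.Agent.* helpers here
import Groth.Agent.Lib.Helper7.Hensel.IntegralDomain

set_option autoImplicit false
universe u
attribute [local instance] FractionRing.liftAlgebra
open CAlg

namespace Groth.Agent.S11091

/-- Let A be a complete discrete valuation ring and B a Dedekind domain which is a finite torsion-free
A-algebra whose fraction field is separable over that of A (the integral closure of A in a finite
separable extension E of the fraction field F). Then B has exactly one maximal ideal; equivalently,
since the discrete valuations of E extending a multiple of the valuation of F correspond to the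
nonzero primes of B, the valuation of F extends uniquely to E, and B is a complete discrete
valuation ring. -/
theorem result (A B : Type u) [CommRing A] [IsDomain A] [IsDiscreteValuationRing A]
    [IsAdicComplete (IsLocalRing.maximalIdeal A) A]
    [CommRing B] [IsDedekindDomain B] [Algebra A B] [Module.Finite A B] [Module.IsTorsionFree A B]
    [Algebra.IsSeparable (FractionRing A) (FractionRing B)] :
    ∃! M : Ideal B, M.IsMaximal := by
  classical
  have hA : HenselianLocalRing A :=
    { is_henselian := by
        intro f hf a₀ h₁ h₂
        have H := (IsAdicComplete.henselianRing A (IsLocalRing.maximalIdeal A)).is_henselian f hf a₀ h₁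
        refine H ?_
        exact h₂.map (Ideal.Quotient.mk _) }
  have : Algebra.IsIntegral A B := Algebra.IsIntegral.of_finite A B
  obtain ⟨M, hM⟩ := Ideal.exists_maximal B
  refine ⟨M, hM, fun M' hM' => ?_⟩
  exact Groth.Agent.Helper7.Hensel.maximal_eq_of_isIntegral_domain A B M' M

end Groth.Agent.S11091
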