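import Groth.Statements.S11092
import Mathlib
import Groth.Agent.Lib.Helper5.Misc.OmegaSep

set_option autoImplicit false
universe u v
open CAlg

open Groth.Agent.Helper5

namespace Groth.Agent.S11092

/-- Let k be an algebraically closed field, K a field finitely generated over k admitting a one-element
transcendence basis over k (a function field of dimension one), and L a finite extension field of K
with the compatible k-algebra structure. Then the K-linear map from the Kähler differentials of K
over k to those of L over k induced by the inclusion is either the zero map or injective, and it is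
injective if and only if L is separable over K. (The published statement takes K ⊆ L to be the
function fields of two elliptic curves related by a nonzero homomorphism; its proof uses only that
they are function fields of dimension one over k.) -/
theorem result (k : Type u) (K L : Type v)
    [Field k] [IsAlgClosed k] [Field K] [Field L] [Algebra k K] [Algebra k L] [Algebra K L]
    [IsScalarTower k K L] (hK : (⊤ : IntermediateField k K).FG)
    (hx : ∃ x : K, IsTranscendenceBasis k (fun _ : Unit => x)) [FiniteDimensional K L] :
    (KaehlerDifferential.map k k K L = 0 ∨ Function.Injective (KaehlerDifferential.map k k K L)) ∧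
      (Function.Injective (KaehlerDifferential.map k k K L) ↔ Algebra.IsSeparable K L) := by
  haveI : Algebra.EssFiniteType k K := IntermediateField.fg_top_iff.mp hK
  haveI : Algebra.EssFiniteType k L := Algebra.EssFiniteType.comp k K L
  obtain ⟨x, hx⟩ := hx
  have htK : Algebra.trdeg k K = 1 := by
    have := hx.lift_cardinalMk_eq_trdeg
    simpa using this.symm
  have htL : Algebra.trdeg k L = 1 := by
    have h0 : Algebra.trdeg K L = 0 := trdeg_eq_zero
    rw [← trdeg_add_eq k K (A := L), htK, h0, add_zero]
  have hrK : Module.finrank K (Ω[K⁄k]) = 1 := by
    apply Module.finrank_eq_of_rank_eq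
    rw [OmegaSep.rank_eq_trdeg k, htK, Nat.cast_one]
  have hrL : Module.finrank L (Ω[L⁄k]) = 1 := by
    apply Module.finrank_eq_of_rank_eq
    rw [OmegaSep.rank_eq_trdeg k, htL, Nat.cast_one]
  refine ⟨?_, ?_, ?_⟩
  · haveI := is_simple_module_of_finrank_eq_one (A := K) hrK
    rcases eq_bot_or_eq_top (LinearMap.ker (KaehlerDifferential.map k k K L)) with h | h
    · right
      exact LinearMap.ker_eq_bot.mp h
    · left
      exact LinearMap.ker_eq_top.mp h
  · -- injective ⇒ separable
    intro hinj
    haveI : Nontrivial (Ω[K⁄k]) := Module.nontrivial_of_finrank_pos (R := K) (by omega)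
    have hex : ∃ a : K, KaehlerDifferential.D k K a ≠ 0 := by
      by_contra hcon
      push_neg at hcon
      have hspan := KaehlerDifferential.span_range_derivation k K
      have : (Set.range (KaehlerDifferential.D k K)) ⊆ {0} := by
        rintro _ ⟨a, rfl⟩
        exact hcon a
      have hbot : (⊤ : Submodule K (Ω[K⁄k])) = ⊥ := by
        rw [← hspan, eq_bot_iff]
        exact (Submodule.span_mono this).trans (by simp)
      exact top_ne_bot hbot
    obtain ⟨a, ha⟩ := hex
    have hη : KaehlerDifferential.D k L (algebraMap K L a) ≠ 0 := by
      rw [← KaehlerDifferential.map_D k k K L]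
      intro h0
      exact ha (hinj (h0.trans (map_zero _).symm))
    have hall := (finrank_eq_one_iff_of_nonzero' _ hη).mp hrL
    haveI : Subsingleton (Ω[L⁄K]) := by
      refine ⟨fun p q => ?_⟩
      obtain ⟨p', rfl⟩ := KaehlerDifferential.map_surjective k K L p
      obtain ⟨q', rfl⟩ := KaehlerDifferential.map_surjective k K L q
      obtain ⟨c, rfl⟩ := hall p'
      obtain ⟨c', rfl⟩ := hall q'
      rw [map_smul, map_smul, KaehlerDifferential.map_D, Algebra.algebraMap_self,
        RingHom.id_apply, Derivation.map_algebraMap, smul_zero, smul_zero]
    haveI : Algebra.FormallyUnramified K L := ⟨inferInstance⟩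
    exact Algebra.FormallyUnramified.isSeparable K L
  · -- separable ⇒ injective
    intro hsep
    haveI : Algebra.FormallyEtale K L := Algebra.FormallyEtale.of_isSeparable K L
    have hbc := KaehlerDifferential.isBaseChange_of_formallyEtale k K L
    have h1 : ∀ ω, KaehlerDifferential.map k k K L ω = hbc.equiv ((1 : L) ⊗ₜ[K] ω) := by
      intro ω
      rw [IsBaseChange.equiv_tmul, one_smul]
    intro ω ω' h
    rw [h1, h1] at h
    exact Module.Flat.tensorProduct_mk_injective K (Ω[K⁄k]) L (hbc.equiv.injective h)

end Groth.Agent.S11092
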