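import Groth.Statements.S11097
import Mathlib
-- import your own Groth.Agent.* helpers here

set_option autoImplicit false
universe u
open Polynomial
open Neron

namespace Groth.Agent.S11097

open Polynomial
namespace Aux

open WeierstrassCurve.Affine IsLocalRing
open scoped Polynomial.Bivariate

variable {R : Type u} [CommRing R] [IsDomain R] [IsDiscreteValuationRing R]
  (W : WeierstrassCurve.Affine R)

theorem algebraMap_eq_mk (r : R) :
    algebraMap R W.CoordinateRing r = CoordinateRing.mk W (C (C r)) := by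
  rw [IsScalarTower.algebraMap_apply R R[X] W.CoordinateRing]
  rfl

/-- `a₆` lies in the ideal `(x, y)` -/
theorem a₆_mem : algebraMap R W.CoordinateRing W.a₆ ∈
    Ideal.span {CoordinateRing.mk W (C X), CoordinateRing.mk W Y} := by
  have h1 : (C (C W.a₆) : R[X][Y]) =
      Y * (Y + C (C W.a₁ * X + C W.a₃)) - C X * C (X ^ 2 + C W.a₂ * X + C W.a₄) - W.polynomial := by
    rw [WeierstrassCurve.Affine.polynomial]
    simp only [map_add, map_mul, map_pow]
    ring
  rw [algebraMap_eq_mk, h1, map_sub, AdjoinRoot.mk_self, sub_zero, map_sub, map_mul, map_mul]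
  refine sub_mem ?_ ?_
  · exact Ideal.mul_mem_right _ _ (Ideal.subset_span (by simp))
  · exact Ideal.mul_mem_right _ _ (Ideal.subset_span (by simp))

theorem maximal_mem (h6 : W.a₆ ∈ maximalIdeal R) (h6' : W.a₆ ∉ maximalIdeal R ^ 2)
    (r : R) (hr : r ∈ maximalIdeal R) : algebraMap R W.CoordinateRing r ∈
    Ideal.span {CoordinateRing.mk W (C X), CoordinateRing.mk W Y} := by
  obtain ⟨ϖ, hϖ⟩ := IsDiscreteValuationRing.exists_irreducible R
  have hm := hϖ.maximalIdeal_eq
  rw [hm, Ideal.mem_span_singleton'] at h6 hr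
  obtain ⟨b, hb⟩ := h6
  obtain ⟨c, hc⟩ := hr
  have hbu : IsUnit b := by
    by_contra hnu
    have hbm : b ∈ maximalIdeal R := (IsLocalRing.mem_maximalIdeal b).mpr hnu
    apply h6'
    rw [pow_two, ← hb]
    apply Ideal.mul_mem_mul hbm
    rw [hm]
    exact Ideal.mem_span_singleton_self ϖ
  obtain ⟨u, rfl⟩ := hbu
  have h1 : r = W.a₆ * (↑u⁻¹ * c) := by
    rw [← hb, ← hc]
    have : (↑u : R) * ϖ * (↑u⁻¹ * c) = (↑u * ↑u⁻¹) * (c * ϖ) := by ring
    rw [this, Units.mul_inv, one_mul]
  rw [h1, map_mul]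
  exact Ideal.mul_mem_right _ _ (a₆_mem W)

/-- every element is congruent to a constant modulo `(x, y)` -/
theorem exists_const (c : W.CoordinateRing) : ∃ r : R, c - algebraMap R W.CoordinateRing r ∈
    Ideal.span {CoordinateRing.mk W (C X), CoordinateRing.mk W Y} := by
  obtain ⟨p, q, rfl⟩ := CoordinateRing.exists_smul_basis_eq c
  refine ⟨p.coeff 0, ?_⟩
  have h1 : p = p.divX * X + C (p.coeff 0) := (Polynomial.divX_mul_X_add p).symm
  generalize p.coeff 0 = r0 at h1 ⊢
  generalize p.divX = d at h1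
  subst h1
  have h2 : (d * X + C r0) • (1 : W.CoordinateRing) + q • CoordinateRing.mk W Y -
      algebraMap R W.CoordinateRing r0 =
      CoordinateRing.mk W (C d) * CoordinateRing.mk W (C X) +
        CoordinateRing.mk W (C q) * CoordinateRing.mk W Y := by
    rw [CoordinateRing.smul, CoordinateRing.smul, algebraMap_eq_mk, mul_one]
    simp only [map_add, map_mul]
    ring
  rw [h2]
  refine add_mem ?_ ?_
  · exact Ideal.mul_mem_left _ _ (Ideal.subset_span (by simp))
  · exact Ideal.mul_mem_left _ _ (Ideal.subset_span (by simp))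

theorem P_eq (h6 : W.a₆ ∈ maximalIdeal R) (h6' : W.a₆ ∉ maximalIdeal R ^ 2)
    (P : Ideal W.CoordinateRing) [P.IsMaximal]
    (hx : CoordinateRing.mk W (C X) ∈ P) (hy : CoordinateRing.mk W Y ∈ P) :
    P = Ideal.span {CoordinateRing.mk W (C X), CoordinateRing.mk W Y} := by
  have hle : Ideal.span {CoordinateRing.mk W (C X), CoordinateRing.mk W Y} ≤ P := by
    rw [Ideal.span_le]
    intro z hz
    rcases hz with rfl | rfl
    · exact hx
    · exact hy
  refine le_antisymm ?_ hle
  intro c hc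
  obtain ⟨r, hr⟩ := exists_const W c
  have h1 : algebraMap R W.CoordinateRing r ∈ P := by
    have := P.sub_mem hc (hle hr)
    rwa [sub_sub_cancel] at this
  have hrm : r ∈ maximalIdeal R := by
    rw [IsLocalRing.mem_maximalIdeal]
    intro hu
    have : IsUnit (algebraMap R W.CoordinateRing r) := hu.map _
    exact (Ideal.IsMaximal.ne_top ‹_›) (Ideal.eq_top_of_isUnit_mem _ h1 this)
  have := add_mem hr (maximal_mem W h6 h6' r hrm)
  rwa [sub_add_cancel] at this

/-- membership in `ϖ C` in terms of the basis -/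
theorem dvd_of_mem_span (ϖ : R) (p q : R[X])
    (h : p • (1 : W.CoordinateRing) + q • CoordinateRing.mk W Y ∈
      Ideal.span {algebraMap R W.CoordinateRing ϖ}) : C ϖ ∣ p ∧ C ϖ ∣ q := by
  rw [Ideal.mem_span_singleton'] at h
  obtain ⟨t, ht⟩ := h
  obtain ⟨p', q', rfl⟩ := CoordinateRing.exists_smul_basis_eq t
  have h1 : (p - C ϖ * p') • (1 : W.CoordinateRing) + (q - C ϖ * q') • CoordinateRing.mk W Y = 0 := by
    have ht' := ht
    rw [algebraMap_eq_mk] at ht'
    simp only [CoordinateRing.smul, map_mul, map_sub, mul_one] at ht' ⊢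
    linear_combination (-1 : W.CoordinateRing) * ht'
  obtain ⟨hp, hq⟩ := CoordinateRing.smul_basis_eq_zero h1
  exact ⟨⟨p', (sub_eq_zero.mp hp)⟩, ⟨q', (sub_eq_zero.mp hq)⟩⟩

theorem C_dvd_of_C_dvd_X_pow_mul (ϖ : R) (N : ℕ) (p : R[X]) (h : C ϖ ∣ X ^ N * p) : C ϖ ∣ p := by
  rw [Polynomial.C_dvd_iff_dvd_coeff] at h ⊢
  intro i
  have := h (i + N)
  rwa [Polynomial.coeff_X_pow_mul] at this

theorem mem_span_of_X_pow_mul_mem (ϖ : R) (N : ℕ) (t : W.CoordinateRing)
    (h : CoordinateRing.mk W (C X) ^ N * t ∈ Ideal.span {algebraMap R W.CoordinateRing ϖ}) :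
    t ∈ Ideal.span {algebraMap R W.CoordinateRing ϖ} := by
  obtain ⟨p, q, rfl⟩ := CoordinateRing.exists_smul_basis_eq t
  have h1 : CoordinateRing.mk W (C X) ^ N * (p • (1 : W.CoordinateRing) + q • CoordinateRing.mk W Y) =
      (X ^ N * p) • (1 : W.CoordinateRing) + (X ^ N * q) • CoordinateRing.mk W Y := by
    simp only [CoordinateRing.smul, map_mul, map_pow, mul_one]
    ring
  rw [h1] at h
  obtain ⟨hp, hq⟩ := dvd_of_mem_span W ϖ _ _ h
  obtain ⟨p', hp'⟩ := C_dvd_of_C_dvd_X_pow_mul ϖ N p hp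
  obtain ⟨q', hq'⟩ := C_dvd_of_C_dvd_X_pow_mul ϖ N q hq
  rw [Ideal.mem_span_singleton']
  refine ⟨p' • (1 : W.CoordinateRing) + q' • CoordinateRing.mk W Y, ?_⟩
  rw [hp', hq', algebraMap_eq_mk]
  simp only [CoordinateRing.smul, map_mul, mul_one]
  ring

theorem not_minimal (ϖ : R) (P : Ideal W.CoordinateRing) [P.IsPrime]
    (hx : CoordinateRing.mk W (C X) ∈ P) :
    P ∉ (Ideal.span {algebraMap R W.CoordinateRing ϖ}).minimalPrimes := by
  intro hmin
  have h1 : CoordinateRing.mk W (C X) ∈ ⋃ p ∈ (Ideal.span {algebraMap R W.CoordinateRing ϖ}).minimalPrimes,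
      (p : Set W.CoordinateRing) := Set.mem_biUnion hmin hx
  rw [Ideal.iUnion_minimalPrimes] at h1
  obtain ⟨s, hs, N, hN⟩ := h1
  apply hs
  refine ⟨N, ?_⟩
  rw [mul_pow] at hN
  exact mem_span_of_X_pow_mul_mem W ϖ N _ hN

theorem two_le_height (h6 : W.a₆ ∈ maximalIdeal R) (h6' : W.a₆ ∉ maximalIdeal R ^ 2)
    (P : Ideal W.CoordinateRing) [P.IsMaximal]
    (hP : ∀ r ∈ maximalIdeal R, algebraMap R W.CoordinateRing r ∈ P)
    (hx : CoordinateRing.mk W (C X) ∈ P) : 2 ≤ P.height := by
  obtain ⟨ϖ, hϖ⟩ := IsDiscreteValuationRing.exists_irreducible R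
  have hϖm : ϖ ∈ maximalIdeal R := by
    rw [hϖ.maximalIdeal_eq]
    exact Ideal.mem_span_singleton_self ϖ
  have hle : Ideal.span {algebraMap R W.CoordinateRing ϖ} ≤ P := by
    rw [Ideal.span_le, Set.singleton_subset_iff]
    exact hP ϖ hϖm
  obtain ⟨𝔭, h𝔭, h𝔭P⟩ := Ideal.exists_minimalPrimes_le hle
  haveI : 𝔭.IsPrime := h𝔭.1.1
  have hne : 𝔭 ≠ P := by
    rintro rfl
    exact not_minimal W ϖ 𝔭 hx h𝔭
  have hlt : 𝔭 < P := lt_of_le_of_ne h𝔭P hne
  have hϖ0 : algebraMap R W.CoordinateRing ϖ ≠ 0 := by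
    rw [Ne, map_eq_zero_iff _ (FaithfulSMul.algebraMap_injective R W.CoordinateRing)]
    exact hϖ.ne_zero
  have hbot : (⊥ : Ideal W.CoordinateRing) < 𝔭 := by
    rw [bot_lt_iff_ne_bot]
    intro h
    have : algebraMap R W.CoordinateRing ϖ ∈ 𝔭 := h𝔭.1.2 (Ideal.mem_span_singleton_self _)
    rw [h, Ideal.mem_bot] at this
    exact hϖ0 this
  have h1 := Ideal.height_add_one_le_of_lt_of_isPrime hbot
  have h2 := Ideal.height_add_one_le_of_lt_of_isPrime hlt
  calc (2 : ℕ∞) = 0 + 1 + 1 := by norm_num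
    _ ≤ (⊥ : Ideal W.CoordinateRing).height + 1 + 1 := by gcongr; exact zero_le
    _ ≤ 𝔭.height + 1 := by gcongr
    _ ≤ P.height := h2

theorem main (h6 : W.a₆ ∈ maximalIdeal R) (h6' : W.a₆ ∉ maximalIdeal R ^ 2)
    (P : Ideal W.CoordinateRing) [P.IsMaximal]
    (hP : ∀ r ∈ maximalIdeal R, algebraMap R W.CoordinateRing r ∈ P)
    (hx : CoordinateRing.mk W (C X) ∈ P) (hy : CoordinateRing.mk W Y ∈ P) :
    IsRegularLocalRing (Localization.AtPrime P) := by
  haveI : IsNoetherianRing W.CoordinateRing := by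
    unfold WeierstrassCurve.Affine.CoordinateRing
    infer_instance
  apply IsRegularLocalRing.of_spanFinrank_maximalIdeal_le
  rw [IsLocalization.AtPrime.ringKrullDim_eq_height P (Localization.AtPrime P)]
  have h1 : maximalIdeal (Localization.AtPrime P) =
      Ideal.span ((algebraMap W.CoordinateRing (Localization.AtPrime P)) ''
        {CoordinateRing.mk W (C X), CoordinateRing.mk W Y}) := by
    rw [← Localization.AtPrime.map_eq_maximalIdeal, ← Ideal.map_span]
    congr 1
    exact P_eq W h6 h6' P hx hy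
  have hfin : ((algebraMap W.CoordinateRing (Localization.AtPrime P)) ''
        {CoordinateRing.mk W (C X), CoordinateRing.mk W Y}).Finite :=
    (Set.toFinite _).image _
  have h2 : (maximalIdeal (Localization.AtPrime P)).spanFinrank ≤ 2 := by
    rw [h1]
    refine le_trans (Submodule.spanFinrank_span_le_ncard_of_finite hfin) ?_
    refine le_trans (Set.ncard_image_le (Set.toFinite _)) ?_
    exact Set.ncard_insert_le _ _ |>.trans (by simp)
  have h3 := two_le_height W h6 h6' P hP hx
  have h4 : (((maximalIdeal (Localization.AtPrime P)).spanFinrank : ℕ∞)) ≤ 2 := by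
    exact_mod_cast h2
  have h5 : (((maximalIdeal (Localization.AtPrime P)).spanFinrank : ℕ∞) : WithBot ℕ∞) ≤
      ((P.height : ℕ∞) : WithBot ℕ∞) := WithBot.coe_le_coe.mpr (h4.trans h3)
  exact_mod_cast h5

end Aux

/-- Let R be a discrete valuation ring with maximal ideal m and let y² + a₁xy + a₃y = x³ + a₂x² + a₄x +
a₆ be a Weierstrass equation with coefficients in R such that a₃, a₄, a₆ ∈ m and a₆ ∉ m². Then the
affine scheme defined by the equation over R is regular at the point π = x = y = 0 of its special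
fibre: the localization of the coordinate ring at a maximal ideal containing the image of m and the
classes of x and y is a regular local ring. (The published statement asserts regularity of the
projective Weierstrass scheme; this row states it at the point π = x = y = 0 of the special fibre.) -/
theorem result (R : Type u) [CommRing R] [IsDomain R]
    [IsDiscreteValuationRing R] (W : WeierstrassCurve.Affine R)
    (h3 : W.a₃ ∈ IsLocalRing.maximalIdeal R) (h4 : W.a₄ ∈ IsLocalRing.maximalIdeal R)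
    (h6 : W.a₆ ∈ IsLocalRing.maximalIdeal R) (h6' : W.a₆ ∉ IsLocalRing.maximalIdeal R ^ 2)
    (P : Ideal W.CoordinateRing) [P.IsMaximal]
    (hP : ∀ r ∈ IsLocalRing.maximalIdeal R, algebraMap R W.CoordinateRing r ∈ P)
    (hx : WeierstrassCurve.Affine.CoordinateRing.mk W (C X) ∈ P)
    (hy : WeierstrassCurve.Affine.CoordinateRing.mk W X ∈ P) :
    IsRegularLocalRing (Localization.AtPrime P) := by
  exact Aux.main W h6 h6' P hP hx hy

end Groth.Agent.S11097
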