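import Groth.Statements.S11125
import Groth.Agent.Lib.Helper6.KInj.Forward
import Groth.Agent.Lib.Helper6.KInj.BackK
import Groth.Agent.Lib.Helper6.KInj.BackInj

set_option autoImplicit false
universe v u
open CategoryTheory
open CohDer

namespace Groth.Agent.S11125

/-- In an abelian category, a cochain complex I is K-injective with injective terms if and only if for
every short exact sequence 0 → A → B → C → 0 of cochain complexes whose third term C is acyclic,
every chain map A → I extends to a chain map B → I. -/
theorem result {A : Type u} [Category.{v} A] [Abelian A]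
    (I : CochainComplex A ℤ) :
    (I.IsKInjective ∧ ∀ n : ℤ, Injective (I.X n)) ↔
      ∀ (S : ShortComplex (CochainComplex A ℤ)), S.ShortExact → S.X₃.Acyclic →
        ∀ φ : S.X₁ ⟶ I, ∃ ψ : S.X₂ ⟶ I, S.f ≫ ψ = φ := by
  constructor
  · rintro ⟨h1, h2⟩ S hS hacyc φ
    haveI := h1
    haveI := h2
    exact Groth.Agent.Lib.Helper6.KInj.lift_of_kinj I S hS hacyc φ
  · intro h
    exact ⟨Groth.Agent.Lib.Helper6.KInj.kinj_of_lift I h,
      Groth.Agent.Lib.Helper6.KInj.injective_of_lift I h⟩

end Groth.Agent.S11125
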