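import Groth.Statements.S11126
import Mathlib
import Groth.Agent.Lib.Helper5.Misc.CohDerGen

set_option autoImplicit false
universe w u₁ u₂
open CategoryTheory CategoryTheory.Limits
open CohDer

open Groth.Agent.Lib.Helper5.Misc.CohDerGen

namespace Groth.Agent.S11126

/-- Let A and B be abelian categories with small hom-sets and all small colimits, B having exact
filtered colimits and a small family of noetherian objects which is separating. Let F : A ⥤ B be
faithful and exact with a right adjoint G preserving filtered colimits. Then A has exact filtered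
colimits and admits a small separating family of noetherian objects. -/
theorem result
    {A : Type u₁} [Category.{w} A] [Abelian A] [HasColimitsOfSize.{w, w} A]
    {B : Type u₂} [Category.{w} B] [Abelian B] [HasColimitsOfSize.{w, w} B] [AB5OfSize.{w, w} B]
    {ι : Type w} (s : ι → B) (hsN : ∀ i, IsNoetherianObject (s i))
    (hsep : ∀ ⦃X Y : B⦄ (f g : X ⟶ Y), (∀ (i : ι) (h : s i ⟶ X), h ≫ f = h ≫ g) → f = g)
    (F : A ⥤ B) (G : B ⥤ A) (adj : F ⊣ G) [F.Additive] [F.Faithful]
    [PreservesFiniteLimits F] [PreservesFiniteColimits F] [PreservesFilteredColimitsOfSize.{w, w} G] :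
    AB5OfSize.{w, w} A ∧
      ∃ (κ : Type w) (t : κ → A), (∀ k, IsNoetherianObject (t k)) ∧
        ∀ ⦃X Y : A⦄ (f g : X ⟶ Y), (∀ (k : κ) (h : t k ⟶ X), h ≫ f = h ≫ g) → f = g := by
  haveI : IsGrothendieckAbelian.{w} B := isGrothendieckAbelian_of_sep s hsep
  refine ⟨ab5_of_faithful adj, ?_⟩
  refine main s adj (fun x => IsNoetherianObject x)
    (fun e h => by haveI := h; exact isNoetherianObject_of_mono e.inv) hsep (fun a j => ?_)
  haveI : IsNoetherianObject ((DD s (F.obj a)).obj j) := isNoetherianObject_DD_obj s hsN (F.obj a) j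
  exact isNoetherianObject_aj adj (ccι s (F.obj a)) j

end Groth.Agent.S11126
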