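import Groth.Statements.S11136
import Mathlib

set_option autoImplicit false
universe u v
open InvTh

namespace Groth.Agent.S11136

section
open TopologicalSpace

theorem open_cc (X : Type*) [TopologicalSpace X] [NoetherianSpace X] (x : X) :
    IsOpen (connectedComponent x) := by
  rw [← isClosed_compl_iff]
  have h : (connectedComponent x)ᶜ =
      ⋃ Z ∈ {Z ∈ irreducibleComponents X | Disjoint Z (connectedComponent x)}, Z := by
    ext z
    simp only [Set.mem_compl_iff, Set.mem_setOf_eq, Set.mem_iUnion, exists_prop]
    constructor
    · intro hz
      refine ⟨irreducibleComponent z, ⟨irreducibleComponent_mem_irreducibleComponents z, ?_⟩,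
        mem_irreducibleComponent⟩
      rw [Set.disjoint_left]
      intro w hw hwx
      apply hz
      have h1 : irreducibleComponent z ⊆ connectedComponent w :=
        (isIrreducible_irreducibleComponent (x := z)).isConnected.isPreconnected.subset_connectedComponent hw
      rw [connectedComponent_eq hwx]
      exact h1 mem_irreducibleComponent
    · rintro ⟨Z, ⟨_, hZ⟩, hz⟩ hzx
      exact Set.disjoint_left.mp hZ hz hzx
  rw [h]
  apply Set.Finite.isClosed_biUnion
  · exact (NoetherianSpace.finite_irreducibleComponents (α := X)).subset (fun Z hZ => hZ.1)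
  · intro Z hZ
    exact isClosed_of_mem_irreducibleComponents Z hZ.1

section main
variable (A : Type u) (R : Type v) [CommRing A] [CommRing R] [Algebra A R]
    (G : Type u) [Group G] [MulSemiringAction G R]

noncomputable def sigma (g : G) : PrimeSpectrum R ≃ₜ PrimeSpectrum R where
  toFun := PrimeSpectrum.comap (MulSemiringAction.toRingHom G R g)
  invFun := PrimeSpectrum.comap (MulSemiringAction.toRingHom G R g⁻¹)
  left_inv p := by
    ext r
    simp
  right_inv p := by
    ext r
    simp
  continuous_toFun := PrimeSpectrum.continuous_comap _
  continuous_invFun := PrimeSpectrum.continuous_comap _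


theorem sigma_sigma (g h : G) (p : PrimeSpectrum R) :
    sigma R G h (sigma R G g p) = sigma R G (g * h) p := by
  ext r
  simp [sigma, mul_smul]

theorem sigma_one (p : PrimeSpectrum R) : sigma R G 1 p = p := by
  ext r
  simp [sigma]

theorem homeo_image_cc {X Y : Type*} [TopologicalSpace X] [TopologicalSpace Y] (h : X ≃ₜ Y) (x : X) :
    h '' connectedComponent x = connectedComponent (h x) := by
  apply le_antisymm
  · exact h.continuous.image_connectedComponent_subset x
  · intro y hy
    have h1 := h.symm.continuous.image_connectedComponent_subset (h x)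
    rw [h.symm_apply_apply] at h1
    refine ⟨h.symm y, h1 ⟨y, hy, rfl⟩, h.apply_symm_apply y⟩

theorem main [IsNoetherianRing R] [Finite G] [SMulCommClass G A R]
    [Algebra.IsInvariant A R G] [FaithfulSMul A R]
    [ConnectedSpace (PrimeSpectrum A)] (x y : PrimeSpectrum R) :
    ∃ g : G, PrimeSpectrum.comap (MulSemiringAction.toRingHom G R g) '' connectedComponent x =
      connectedComponent y := by
  classical
  obtain ⟨U, hU⟩ : ∃ U : Set (PrimeSpectrum R),
    U = ⋃ g : G, sigma R G g '' connectedComponent x := ⟨_, rfl⟩
  have hclopen : IsClopen U := by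
    rw [hU]
    apply isClopen_iUnion_of_finite
    intro g
    have : IsClopen (connectedComponent x) := ⟨isClosed_connectedComponent, open_cc _ x⟩
    exact ⟨(sigma R G g).isClosed_image.mpr this.1, (sigma R G g).isOpen_image.mpr this.2⟩
  have hstable : ∀ h : G, (sigma R G h) ⁻¹' U = U := by
    intro h
    rw [hU]
    ext p
    simp only [Set.mem_preimage, Set.mem_iUnion, Set.mem_image]
    constructor
    · rintro ⟨g, z, hz, hzp⟩
      refine ⟨g * h⁻¹, z, hz, ?_⟩
      rw [← sigma_sigma, hzp, sigma_sigma, mul_inv_cancel, sigma_one]
    · rintro ⟨g, z, hz, rfl⟩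
      exact ⟨g * h, z, hz, (sigma_sigma R G g h z).symm⟩
  obtain ⟨e, he, hUe⟩ := PrimeSpectrum.isClopen_iff.mp hclopen
  have hinv : ∀ h : G, h • e = e := by
    intro h
    have h1 : (PrimeSpectrum.basicOpen (h • e) : Set (PrimeSpectrum R)) =
        PrimeSpectrum.basicOpen e := by
      rw [← hUe, ← hstable h, hUe]
      ext p
      simp [sigma]
    have he' : IsIdempotentElem (h • e) := by
      have := he.map (MulSemiringAction.toRingHom G R h)
      simpa using this
    exact PrimeSpectrum.basicOpen_injOn_isIdempotentElem he' he (SetLike.ext' h1)
  obtain ⟨a, ha⟩ := Algebra.IsInvariant.isInvariant (A := A) (G := G) e hinv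
  have ha_idem : IsIdempotentElem a := by
    apply FaithfulSMul.algebraMap_injective A R
    rw [map_mul, ha]
    exact he
  have ha01 : a = 0 ∨ a = 1 := by
    have hc : IsClopen (PrimeSpectrum.basicOpen a : Set (PrimeSpectrum A)) :=
      PrimeSpectrum.isClopen_iff.mpr ⟨a, ha_idem, rfl⟩
    rcases isClopen_iff.mp hc with h | h
    · left
      exact PrimeSpectrum.basicOpen_injOn_isIdempotentElem ha_idem IsIdempotentElem.zero
        (SetLike.ext' (by rw [h]; simp))
    · right
      exact PrimeSpectrum.basicOpen_injOn_isIdempotentElem ha_idem IsIdempotentElem.one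
        (SetLike.ext' (by rw [h]; simp))
  have hx : x ∈ U := by
    rw [hU]
    exact Set.mem_iUnion.mpr ⟨1, x, mem_connectedComponent, sigma_one R G x⟩
  have hUuniv : U = Set.univ := by
    rcases ha01 with h | h
    · exfalso
      rw [h, map_zero] at ha
      rw [← ha] at hUe
      rw [hUe] at hx
      simp at hx
    · rw [h, map_one] at ha
      rw [← ha] at hUe
      rw [hUe]
      simp
  have hy : y ∈ U := hUuniv ▸ Set.mem_univ y
  rw [hU] at hy
  obtain ⟨g, z, hz, hzy⟩ := Set.mem_iUnion.mp hy
  refine ⟨g, ?_⟩
  change sigma R G g '' connectedComponent x = _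
  rw [homeo_image_cc]
  apply connectedComponent_eq
  rw [← homeo_image_cc]
  exact ⟨z, hz, hzy⟩

end main


end


/-- Let a finite group G act on a Noetherian commutative ring R by ring automorphisms, with ring of
invariants A (A → R injective with image the fixed elements). When the prime spectrum of A is
connected, any two connected components of Spec R are exchanged by some element of G: for all points
x, y of Spec R there is g in G whose induced self-map of Spec R carries the connected component of x
onto the connected component of y. -/
theorem result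
    (A : Type u) (R : Type v) [CommRing A] [CommRing R] [Algebra A R] [IsNoetherianRing R]
    (G : Type u) [Group G] [Finite G] [MulSemiringAction G R] [SMulCommClass G A R]
    [Algebra.IsInvariant A R G] [FaithfulSMul A R]
    [ConnectedSpace (PrimeSpectrum A)] (x y : PrimeSpectrum R) :
    ∃ g : G, PrimeSpectrum.comap (MulSemiringAction.toRingHom G R g) '' connectedComponent x =
      connectedComponent y := by
  classical
  exact main A R G x y

end Groth.Agent.S11136
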