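import Groth.Statements.S11142
import Mathlib

set_option autoImplicit false
universe u
open CategoryTheory AlgebraicGeometry
open FlatMor

namespace S11142aux

open TopologicalSpace

/-- In a Noetherian quasi-sober space, every point is a specialization of a point of any given
dense open subset. -/
theorem exists_specializes_of_dense {W : Type*} [TopologicalSpace W] [NoetherianSpace W]
    [QuasiSober W] (U : Set W) (hUo : IsOpen U) (hU : Dense U) (y : W) :
    ∃ y' ∈ U, y' ⤳ y := by
  obtain ⟨S, hSf, hSc, hSi, hSU⟩ :=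
    NoetherianSpace.exists_finite_set_isClosed_irreducible (isClosed_univ : IsClosed (Set.univ : Set W))
  have hUeq : U = ⋃ Z ∈ S, (Z ∩ U) := by
    ext z
    simp only [Set.mem_iUnion, Set.mem_inter_iff, exists_and_left, exists_prop]
    constructor
    · intro hz
      have : z ∈ ⋃₀ S := by rw [← hSU]; trivial
      obtain ⟨Z, hZ, hzZ⟩ := this
      exact ⟨Z, hzZ, hZ, hz⟩
    · rintro ⟨Z, _, _, hz⟩; exact hz
  have hy : y ∈ closure U := hU y
  rw [hUeq, hSf.closure_biUnion] at hy
  simp only [Set.mem_iUnion, exists_prop] at hy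
  obtain ⟨Z, hZ, hyZ⟩ := hy
  have hne : (Z ∩ U).Nonempty := by
    by_contra h
    rw [Set.not_nonempty_iff_eq_empty] at h
    rw [h, closure_empty] at hyZ
    exact hyZ
  obtain ⟨η, hη⟩ := QuasiSober.sober (hSi Z hZ) (hSc Z hZ)
  refine ⟨η, (hη.mem_open_set_iff hUo).2 hne, ?_⟩
  rw [specializes_iff_mem_closure, hη.def]
  exact closure_minimal Set.inter_subset_left (hSc Z hZ) hyZ

end S11142aux

namespace Groth.Agent.S11142

/-- For a flat morphism f : X → Y between locally Noetherian schemes, the preimage under f of any dense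
open subset of Y is dense in X. -/
theorem result (X Y : Scheme.{u}) [IsLocallyNoetherian X]
    [IsLocallyNoetherian Y] (f : X ⟶ Y) [Flat f] (U : Y.Opens) (hU : Dense (U : Set Y)) :
    Dense ((f ⁻¹ᵁ U : X.Opens) : Set X) := by
  rw [dense_iff_inter_open]
  intro V hV ⟨x, hx⟩
  -- affine open nbhd of f x
  obtain ⟨W, hWaff, hyW, -⟩ := exists_isAffineOpen_mem_and_subset
    (x := f.base x) (U := (⊤ : Y.Opens)) trivial
  have : IsNoetherianRing Γ(Y, W) := IsLocallyNoetherian.component_noetherian ⟨W, hWaff⟩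
  have : TopologicalSpace.NoetherianSpace (↥W : Type u) := noetherianSpace_of_isAffineOpen W hWaff
  have : QuasiSober (↥W : Type u) := W.isOpen.isOpenEmbedding_subtypeVal.quasiSober
  have hdense : Dense (Subtype.val ⁻¹' (U : Set Y) : Set W) :=
    hU.preimage W.isOpen.isOpenMap_subtype_val
  obtain ⟨y', hy'U, hy'⟩ := S11142aux.exists_specializes_of_dense (W := ↥W)
    (Subtype.val ⁻¹' (U : Set Y) : Set W) (U.isOpen.preimage continuous_subtype_val) hdense
    ⟨f.base x, hyW⟩
  have hspec : (y' : Y) ⤳ f.base x := hy'.map continuous_subtype_val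
  obtain ⟨x', hx'x, hx'⟩ := (Flat.generalizingMap f) hspec
  refine ⟨x', hx'x.mem_open hV hx, ?_⟩
  show f.base x' ∈ U
  rw [hx']
  exact hy'U

end Groth.Agent.S11142
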