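import Groth.Statements.S11143
import Mathlib

set_option autoImplicit false
universe v v' u u'
open CategoryTheory CategoryTheory.Triangulated Pretriangulated
open CohDer

namespace Groth.Agent.S11143

/-- Let S and T be pretriangulated categories carrying t-structures, F : S ⥤ T a triangulated functor
and G a right adjoint of F. Suppose F is way-out left: for some integer d, F carries objects of S
lying in degrees ≤ 0 to objects of T lying in degrees ≤ d. Then G is way-out right: G carries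
objects of T lying in degrees ≥ 0 to objects of S lying in degrees ≥ -d. -/
theorem result
    {S : Type u} [Category.{v} S] [Limits.HasZeroObject S] [Preadditive S] [HasShift S ℤ]
    [∀ n : ℤ, (shiftFunctor S n).Additive] [Pretriangulated S]
    {T : Type u'} [Category.{v'} T] [Limits.HasZeroObject T] [Preadditive T] [HasShift T ℤ]
    [∀ n : ℤ, (shiftFunctor T n).Additive] [Pretriangulated T]
    (tS : TStructure S) (tT : TStructure T) (F : S ⥤ T) [F.CommShift ℤ] [F.IsTriangulated]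
    (G : T ⥤ S) (adj : F ⊣ G) (d : ℤ)
    (hF : ∀ X : S, tS.IsLE X 0 → tT.IsLE (F.obj X) d) (Y : T) (hY : tT.IsGE Y 0) :
    tS.IsGE (G.obj Y) (-d) := by
  obtain ⟨X, Z, hX, hZ, f, g, h, hT⟩ := tS.exists_triangle (G.obj Y) (-d - 1) (-d) (by ring)
  haveI : tS.IsLE X (-d - 1) := ⟨hX⟩
  haveI : tS.IsGE Z (-d) := ⟨hZ⟩
  haveI : tT.IsGE Y 0 := hY
  -- F X ≤ -1
  haveI hFX : tT.IsLE (F.obj X) (-1) := by
    haveI h1 : tS.IsLE (X⟦(-d - 1 : ℤ)⟧) 0 := tS.isLE_shift X (-d - 1) (-d - 1) 0 (by ring)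
    haveI h2 : tT.IsLE (F.obj (X⟦(-d - 1 : ℤ)⟧)) d := hF _ h1
    haveI h2' : tT.IsLE ((shiftFunctor S (-d - 1 : ℤ) ⋙ F).obj X) d := h2
    haveI h3 : tT.IsLE ((F.obj X)⟦(-d - 1 : ℤ)⟧) d :=
      tT.isLE_of_iso ((F.commShiftIso (-d - 1 : ℤ)).app X) d
    exact tT.isLE_of_shift (F.obj X) (-1) (-d - 1) d (by ring)
  -- f = 0 by adjunction
  have hf : f = 0 := by
    have h1 : (adj.homEquiv X Y).symm f = 0 := tT.zero _ (-1) 0 (by norm_num)
    have h2 : (adj.homEquiv X Y).symm (0 : X ⟶ G.obj Y) = 0 := by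
      rw [Adjunction.homEquiv_symm_apply, F.map_zero, Limits.zero_comp]
    exact (adj.homEquiv X Y).symm.injective (h1.trans h2.symm)
  -- X is zero
  have hX0 : Limits.IsZero X := by
    rw [Limits.IsZero.iff_id_eq_zero]
    have hT' := inv_rot_of_distTriang _ hT
    obtain ⟨j, hj⟩ := Triangle.coyoneda_exact₂ _ hT' (𝟙 X) (by
      show 𝟙 X ≫ f = 0
      rw [hf, Limits.comp_zero])
    haveI h4 : tS.IsGE (Z⟦(-1 : ℤ)⟧) (-d + 1) := tS.isGE_shift Z (-d) (-1) (-d + 1) (by ring)
    haveI h5 : tS.IsGE (Triangle.mk f g h).invRotate.obj₁ (-d + 1) := h4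
    have hj0 : j = 0 := tS.zero j (-d - 1) (-d + 1) (by linarith)
    exact hj.trans (by rw [hj0]; exact Limits.zero_comp)
  -- hence g is an isomorphism
  haveI : IsIso g := (Triangle.isZero₁_iff_isIso₂ _ hT).1 hX0
  exact tS.isGE_of_iso (asIso g).symm (-d)

end Groth.Agent.S11143
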