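import Groth.Statements.S11159
import Mathlib
import Groth.Agent.Lib.Helper5.DRing.ConeG

set_option autoImplicit false
universe w v u
open CategoryTheory CategoryTheory.Limits CategoryTheory.Pretriangulated
open CohDer



namespace Groth.Agent.S11159

/-- Let A be an abelian category with enough injectives and X ⟶ Y ⟶ Z ⟶ X⟦1⟧ a distinguished triangle in
D(A). If X and Z are each isomorphic in D(A) to a bounded complex of injective objects of A, then so
is Y. -/
theorem result {A : Type u} [Category.{v} A] [Abelian A]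
    [HasDerivedCategory.{w} A] [EnoughInjectives A]
    (T : Triangle (DerivedCategory A)) (hT : T ∈ distTriang (DerivedCategory A))
    (h₁ : (∃ (I : CochainComplex A ℤ) (b c : ℤ), I.IsStrictlyGE b ∧ I.IsStrictlyLE c ∧
        (∀ n : ℤ, Injective (I.X n)) ∧ Nonempty (T.obj₁ ≅ DerivedCategory.Q.obj I)))
    (h₃ : (∃ (I : CochainComplex A ℤ) (b c : ℤ), I.IsStrictlyGE b ∧ I.IsStrictlyLE c ∧
        (∀ n : ℤ, Injective (I.X n)) ∧ Nonempty (T.obj₃ ≅ DerivedCategory.Q.obj I))) :
    (∃ (I : CochainComplex A ℤ) (b c : ℤ), I.IsStrictlyGE b ∧ I.IsStrictlyLE c ∧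
        (∀ n : ℤ, Injective (I.X n)) ∧ Nonempty (T.obj₂ ≅ DerivedCategory.Q.obj I)) := by
  classical
  let P : ObjectProperty A := fun X => Injective X
  have hPiso : P.IsClosedUnderIsomorphisms := ⟨fun e h => Injective.of_iso e h⟩
  have conv : ∀ X : DerivedCategory A,
      (∃ (I : CochainComplex A ℤ) (b c : ℤ), I.IsStrictlyGE b ∧ I.IsStrictlyLE c ∧
        (∀ n : ℤ, Injective (I.X n)) ∧ Nonempty (X ≅ DerivedCategory.Q.obj I)) ↔
      Groth.Agent.Helper5.ConeG.Rep (Groth.Agent.Helper5.ConeG.BddIn P) X := by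
    intro X
    constructor
    · rintro ⟨I, b, c, h1, h2, h3, ⟨e⟩⟩
      refine ⟨I, ⟨b, c, ?_, h3⟩, ⟨e.symm⟩⟩
      rintro i (hi | hi)
      · exact I.isZero_of_isStrictlyGE b i hi
      · exact I.isZero_of_isStrictlyLE c i hi
    · rintro ⟨I, ⟨b, c, h1, h3⟩, ⟨e⟩⟩
      refine ⟨I, b, c, ?_, ?_, h3, ⟨e.symm⟩⟩
      · rw [CochainComplex.isStrictlyGE_iff]
        exact fun i hi => h1 i (Or.inl hi)
      · rw [CochainComplex.isStrictlyLE_iff]
        exact fun i hi => h1 i (Or.inr hi)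
  rw [conv] at h₁ h₃ ⊢
  refine (Groth.Agent.Helper5.ConeG.two_of_three_inj P (fun X h => h) ?_ T hT).2.1 h₁ h₃
  intro X Y hX hY
  have : Injective X := hX
  have : Injective Y := hY
  exact (inferInstance : Injective (X ⊞ Y))

end Groth.Agent.S11159
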