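import Groth.Statements.S11160
import Groth.Statements.S11160
import Mathlib
import Groth.Agent.Lib.Helper3.IRes

set_option autoImplicit false
universe w w' v v' u u'
open CategoryTheory CategoryTheory.Limits
open CohDer

namespace Groth.Agent.S11160

section ff

variable {A' : Type u'} [Category.{v'} A'] [Abelian A']
  {A : Type u} [Category.{v} A] [Abelian A]
  (ι : A' ⥤ A) [ι.Additive] [ι.Full] [ι.Faithful]

/-- retyped components of a homotopy between mapped morphisms -/
def homF {K J : CochainComplex A' ℤ} {φ₁ φ₂ : K ⟶ J}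
    (h : Homotopy ((ι.mapHomologicalComplex (ComplexShape.up ℤ)).map φ₁)
      ((ι.mapHomologicalComplex (ComplexShape.up ℤ)).map φ₂)) (i j : ℤ) :
    ι.obj (K.X i) ⟶ ι.obj (J.X j) := h.hom i j

lemma homF_zero {K J : CochainComplex A' ℤ} {φ₁ φ₂ : K ⟶ J}
    (h : Homotopy ((ι.mapHomologicalComplex (ComplexShape.up ℤ)).map φ₁)
      ((ι.mapHomologicalComplex (ComplexShape.up ℤ)).map φ₂)) (i j : ℤ)
    (w : ¬ (ComplexShape.up ℤ).Rel j i) : homF ι h i j = 0 := h.zero i j w

lemma homF_comm {K J : CochainComplex A' ℤ} {φ₁ φ₂ : K ⟶ J}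
    (h : Homotopy ((ι.mapHomologicalComplex (ComplexShape.up ℤ)).map φ₁)
      ((ι.mapHomologicalComplex (ComplexShape.up ℤ)).map φ₂)) (i : ℤ) :
    ι.map (φ₁.f i) = ι.map (K.d i (i + 1)) ≫ homF ι h (i + 1) i +
      homF ι h i (i - 1) ≫ ι.map (J.d (i - 1) i) + ι.map (φ₂.f i) := by
  have H := h.comm i
  rw [dNext_eq _ (show (ComplexShape.up ℤ).Rel i (i + 1) from rfl),
    prevD_eq _ (show (ComplexShape.up ℤ).Rel (i - 1) i by simp)] at H
  exact H

/-- pull back a homotopy along a fully faithful additive functor -/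
noncomputable def homotopyOfMap {K J : CochainComplex A' ℤ} (φ₁ φ₂ : K ⟶ J)
    (h : Homotopy ((ι.mapHomologicalComplex (ComplexShape.up ℤ)).map φ₁)
      ((ι.mapHomologicalComplex (ComplexShape.up ℤ)).map φ₂)) : Homotopy φ₁ φ₂ where
  hom i j := ι.preimage (homF ι h i j)
  zero i j w := ι.map_injective (by rw [ι.map_preimage, homF_zero ι h i j w, ι.map_zero])
  comm i := ι.map_injective (by
    rw [dNext_eq _ (show (ComplexShape.up ℤ).Rel i (i + 1) from rfl),
      prevD_eq _ (show (ComplexShape.up ℤ).Rel (i - 1) i by simp)]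
    simp only [Functor.map_add, Functor.map_comp, Functor.map_preimage]
    exact homF_comm ι h i)

/-- retyped components of a morphism between mapped complexes -/
def fF {K J : CochainComplex A' ℤ}
    (ψ : (ι.mapHomologicalComplex (ComplexShape.up ℤ)).obj K ⟶
      (ι.mapHomologicalComplex (ComplexShape.up ℤ)).obj J) (i : ℤ) :
    ι.obj (K.X i) ⟶ ι.obj (J.X i) := ψ.f i

lemma fF_comm {K J : CochainComplex A' ℤ}
    (ψ : (ι.mapHomologicalComplex (ComplexShape.up ℤ)).obj K ⟶
      (ι.mapHomologicalComplex (ComplexShape.up ℤ)).obj J) (i j : ℤ) :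
    fF ι ψ i ≫ ι.map (J.d i j) = ι.map (K.d i j) ≫ fF ι ψ j := ψ.comm i j

lemma exists_map_eq {K J : CochainComplex A' ℤ}
    (ψ : (ι.mapHomologicalComplex (ComplexShape.up ℤ)).obj K ⟶
      (ι.mapHomologicalComplex (ComplexShape.up ℤ)).obj J) :
    ∃ φ : K ⟶ J, (ι.mapHomologicalComplex (ComplexShape.up ℤ)).map φ = ψ := by
  refine ⟨{ f := fun i => ι.preimage (fF ι ψ i), comm' := fun i j _ => ι.map_injective ?_ }, ?_⟩
  · simp only [Functor.map_comp, Functor.map_preimage]
    exact fF_comm ι ψ i j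
  · ext i
    exact ι.map_preimage (fF ι ψ i)

end ff

section dc

open DerivedCategory

variable {C : Type u} [Category.{v} C] [Abelian C] [HasDerivedCategory.{w} C]

lemma exists_Q_map_eq (K J : CochainComplex C ℤ) [J.IsKInjective] (g : Q.obj K ⟶ Q.obj J) :
    ∃ φ : K ⟶ J, Q.map φ = g := by
  obtain ⟨ψ, hψ⟩ := (CochainComplex.IsKInjective.Qh_map_bijective
    ((HomotopyCategory.quotient _ _).obj K) J).2
    ((quotientCompQhIso C).hom.app K ≫ g ≫ (quotientCompQhIso C).inv.app J)
  obtain ⟨φ, rfl⟩ := (HomotopyCategory.quotient _ _).map_surjective ψ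
  refine ⟨φ, ?_⟩
  have := quotientCompQhIso_hom_naturality φ
  rw [hψ] at this
  simpa using this.symm

lemma homotopy_of_Q_map_eq {K J : CochainComplex C ℤ} [J.IsKInjective] (φ₁ φ₂ : K ⟶ J)
    (h : Q.map φ₁ = Q.map φ₂) : Nonempty (Homotopy φ₁ φ₂) := by
  have h1 := quotientCompQhIso_hom_naturality φ₁
  have h2 := quotientCompQhIso_hom_naturality φ₂
  rw [h, ← h2, cancel_mono] at h1
  exact ⟨HomotopyCategory.homotopyOfEq _ _ ((CochainComplex.IsKInjective.Qh_map_bijective
    ((HomotopyCategory.quotient _ _).obj K) J).1 h1)⟩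

lemma Q_map_eq_of_homotopy {K J : CochainComplex C ℤ} (φ₁ φ₂ : K ⟶ J)
    (h : Homotopy φ₁ φ₂) : Q.map φ₁ = Q.map φ₂ := by
  have h1 := quotientCompQhIso_inv_naturality φ₁
  have h2 := quotientCompQhIso_inv_naturality φ₂
  rw [HomotopyCategory.eq_of_homotopy _ _ h, ← h2, cancel_mono] at h1
  exact h1

end dc

/-- Let ι : A' ⥤ A be an exact fully faithful functor of abelian categories whose essential image is
closed under extensions (a thick abelian subcategory), and suppose every object of A' admits a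
monomorphism into an object of A' whose image in A is injective (A' has enough A-injectives). Then
the induced triangulated functor D(A') ⥤ D(A) is fully faithful on cohomologically bounded below
objects. -/
theorem result {A' : Type u'} [Category.{v'} A'] [Abelian A'] [HasDerivedCategory.{w'} A']
    {A : Type u} [Category.{v} A] [Abelian A] [HasDerivedCategory.{w} A]
    (ι : A' ⥤ A) [ι.Additive] [PreservesFiniteLimits ι] [PreservesFiniteColimits ι] [ι.Full] [ι.Faithful]
    (hext : ∀ S : ShortComplex A, S.ShortExact → ι.essImage S.X₁ → ι.essImage S.X₃ → ι.essImage S.X₂)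
    (hinj : ∀ X' : A', ∃ (Y' : A') (i : X' ⟶ Y'), Mono i ∧ Injective (ι.obj Y'))
    (X Y : DerivedCategory A') (a b : ℤ) [X.IsGE a] [Y.IsGE b] :
    Function.Bijective (fun f : X ⟶ Y => ι.mapDerivedCategory.map f) := by
  -- represent `X` and `Y`
  let K := DerivedCategory.Q.objPreimage X
  let eX : DerivedCategory.Q.obj K ≅ X := DerivedCategory.Q.objObjPreimageIso X
  obtain ⟨K₀, hK₀, ⟨e₀⟩⟩ := DerivedCategory.exists_iso_Q_obj_of_isGE Y b
  obtain ⟨J, α, hJ, hJI, -, hα⟩ := Groth.Agent.Helper3.IRes.exists_resolution_int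
    (fun Z : A' => Injective (ι.obj Z))
    (by
      obtain ⟨Z, hZ⟩ := HasZeroObject.zero (C := A')
      have : IsZero (ι.obj Z) := ι.map_isZero hZ
      exact ⟨Z, hZ, this.injective⟩)
    (fun X' => by
      obtain ⟨Y', i, hi, hY'⟩ := hinj X'
      exact ⟨Y', i, hY', hi⟩) K₀ b
  let eY : Y ≅ DerivedCategory.Q.obj J := e₀ ≪≫ asIso (DerivedCategory.Q.map α)
  have hJ' : ∀ n, Injective (J.X n) := fun n => ι.injective_of_map_injective (hJI n)
  have kJ : J.IsKInjective := CochainComplex.isKInjective_of_injective J b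
  let ιJ : CochainComplex A ℤ := (ι.mapHomologicalComplex (ComplexShape.up ℤ)).obj J
  let ιK : CochainComplex A ℤ := (ι.mapHomologicalComplex (ComplexShape.up ℤ)).obj K
  have hιJ : ∀ n, Injective (ιJ.X n) := fun n => hJI n
  have sιJ : ιJ.IsStrictlyGE b := inferInstance
  have kιJ : ιJ.IsKInjective := CochainComplex.isKInjective_of_injective ιJ b
  constructor
  · intro f₁ f₂ h
    have h' : ι.mapDerivedCategory.map f₁ = ι.mapDerivedCategory.map f₂ := h
    obtain ⟨φ₁, hφ₁⟩ := exists_Q_map_eq K J (eX.hom ≫ f₁ ≫ eY.hom)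
    obtain ⟨φ₂, hφ₂⟩ := exists_Q_map_eq K J (eX.hom ≫ f₂ ≫ eY.hom)
    have h3 : ι.mapDerivedCategory.map (DerivedCategory.Q.map φ₁) =
        ι.mapDerivedCategory.map (DerivedCategory.Q.map φ₂) := by
      rw [hφ₁, hφ₂, Functor.map_comp, Functor.map_comp, Functor.map_comp, Functor.map_comp, h']
    have n1 := ι.mapDerivedCategoryFactors_hom_naturality φ₁
    have n2 := ι.mapDerivedCategoryFactors_hom_naturality φ₂
    rw [h3, n2, cancel_epi] at n1
    obtain ⟨H⟩ := homotopy_of_Q_map_eq (J := ιJ) _ _ n1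
    have h4 := Q_map_eq_of_homotopy _ _ (homotopyOfMap ι φ₂ φ₁ H)
    rw [hφ₁, hφ₂, cancel_epi, cancel_mono] at h4
    exact h4.symm
  · intro g
    obtain ⟨ψ, hψ⟩ := exists_Q_map_eq ιK ιJ
      (ι.mapDerivedCategoryFactors.inv.app K ≫ ι.mapDerivedCategory.map eX.hom ≫ g ≫
        ι.mapDerivedCategory.map eY.hom ≫ ι.mapDerivedCategoryFactors.hom.app J)
    obtain ⟨φ, rfl⟩ := exists_map_eq ι ψ
    refine ⟨eX.inv ≫ DerivedCategory.Q.map φ ≫ eY.inv, ?_⟩
    have n1 := ι.mapDerivedCategoryFactors_hom_naturality φ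
    change ι.mapDerivedCategory.map (eX.inv ≫ DerivedCategory.Q.map φ ≫ eY.inv) = g
    have h5 : ι.mapDerivedCategory.map (DerivedCategory.Q.map φ) =
        ι.mapDerivedCategory.map eX.hom ≫ g ≫ ι.mapDerivedCategory.map eY.hom := by
      rw [← cancel_mono (ι.mapDerivedCategoryFactors.hom.app J), n1, hψ]
      simp only [Category.assoc, Iso.hom_inv_id_app_assoc]
    rw [Functor.map_comp, Functor.map_comp, h5]
    simp only [Category.assoc, ← Functor.map_comp, Iso.hom_inv_id, Iso.inv_hom_id,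
      CategoryTheory.Functor.map_id, Category.comp_id]
    rw [← Functor.map_comp_assoc, Iso.inv_hom_id, CategoryTheory.Functor.map_id, Category.id_comp]

end Groth.Agent.S11160
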