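import Groth.Statements.S11161
import Groth.Statements.S11161
import Mathlib
import Groth.Agent.Lib.Helper3.SubRes

set_option autoImplicit false
universe w w' v v' u u'
open CategoryTheory CategoryTheory.Limits
open CohDer

namespace Groth.Agent.S11161

section ess

variable {A' : Type u'} [Category.{v'} A'] [Abelian A']
  {A : Type u} [Category.{v} A] [Abelian A]
  (ι : A' ⥤ A) [ι.Additive] [PreservesFiniteLimits ι] [PreservesFiniteColimits ι]
  [ι.Full] [ι.Faithful]

lemma essImage_cokernel {X Y : A} (f : X ⟶ Y) (hX : ι.essImage X) (hY : ι.essImage Y) :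
    ι.essImage (cokernel f) := by
  obtain ⟨X', ⟨eX⟩⟩ := hX
  obtain ⟨Y', ⟨eY⟩⟩ := hY
  let f' : X' ⟶ Y' := ι.preimage (eX.hom ≫ f ≫ eY.inv)
  have hf' : ι.map f' = eX.hom ≫ f ≫ eY.inv := ι.map_preimage _
  have e1 : cokernel (ι.map f') ≅ cokernel f :=
    cokernel.mapIso (ι.map f') f eX eY (by rw [hf']; simp)
  exact ⟨cokernel f', ⟨PreservesCokernel.iso ι f' ≪≫ e1⟩⟩

lemma essImage_biprod (X Y : A) (hX : ι.essImage X) (hY : ι.essImage Y) :
    ι.essImage (X ⊞ Y) := by
  obtain ⟨X', ⟨eX⟩⟩ := hX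
  obtain ⟨Y', ⟨eY⟩⟩ := hY
  have : PreservesBinaryBiproducts ι := preservesBinaryBiproducts_of_preservesBiproducts ι
  exact ⟨X' ⊞ Y', ⟨ι.mapBiprod X' Y' ≪≫ biprod.mapIso eX eY⟩⟩

lemma essImage_of_isZero {X : A} (hX : IsZero X) : ι.essImage X := by
  obtain ⟨Z, hZ⟩ := HasZeroObject.zero (C := A')
  exact ⟨Z, ⟨(ι.map_isZero hZ).iso hX⟩⟩

/-- lift a complex with terms in the essential image -/
lemma exists_lift (L : CochainComplex A ℤ) (hL : ∀ n, ι.essImage (L.X n)) :
    ∃ (I : CochainComplex A' ℤ),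
      Nonempty ((ι.mapHomologicalComplex (ComplexShape.up ℤ)).obj I ≅ L) := by
  choose X' hφ using hL
  let φ : ∀ n, ι.obj (X' n) ≅ L.X n := fun n => (hφ n).some
  let d' : ∀ n m, X' n ⟶ X' m := fun n m => ι.preimage ((φ n).hom ≫ L.d n m ≫ (φ m).inv)
  have hd' : ∀ n m, ι.map (d' n m) = (φ n).hom ≫ L.d n m ≫ (φ m).inv :=
    fun n m => ι.map_preimage _
  let I : CochainComplex A' ℤ :=
    { X := X'
      d := d'
      shape := fun n m h => ι.map_injective (by rw [hd', L.shape n m h]; simp)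
      d_comp_d' := fun i j k _ _ => ι.map_injective (by
        rw [ι.map_comp, hd', hd']
        simp) }
  refine ⟨I, ⟨HomologicalComplex.Hom.isoOfComponents φ ?_⟩⟩
  intro i j _
  change (φ i).hom ≫ L.d i j = ι.map (d' i j) ≫ (φ j).hom
  rw [hd']
  simp

end ess

/-- Let ι : A' ⥤ A be an exact fully faithful functor of abelian categories whose essential image is
closed under extensions, and suppose every object of A' admits a monomorphism into an object of A'
whose image in A is injective. Then every object Z of D(A) with H^i(Z) = 0 for i < a and all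
cohomology objects in the essential image of ι is isomorphic to the image under D(A') ⥤ D(A) of a
complex I of objects of A', zero in degrees < a, whose terms are injective in A. -/
theorem result {A' : Type u'} [Category.{v'} A'] [Abelian A'] [HasDerivedCategory.{w'} A']
    {A : Type u} [Category.{v} A] [Abelian A] [HasDerivedCategory.{w} A]
    (ι : A' ⥤ A) [ι.Additive] [PreservesFiniteLimits ι] [PreservesFiniteColimits ι] [ι.Full] [ι.Faithful]
    (hext : ∀ S : ShortComplex A, S.ShortExact → ι.essImage S.X₁ → ι.essImage S.X₃ → ι.essImage S.X₂)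
    (hinj : ∀ X' : A', ∃ (Y' : A') (i : X' ⟶ Y'), Mono i ∧ Injective (ι.obj Y'))
    (Z : DerivedCategory A) (a : ℤ) [Z.IsGE a]
    (hZ : ∀ i : ℤ, ι.essImage ((DerivedCategory.homologyFunctor A i).obj Z)) :
    ∃ (I : CochainComplex A' ℤ), I.IsStrictlyGE a ∧ (∀ n : ℤ, Injective (ι.obj (I.X n))) ∧
      Nonempty (ι.mapDerivedCategory.obj (DerivedCategory.Q.obj I) ≅ Z) := by
  obtain ⟨K, hK, ⟨eZ⟩⟩ := DerivedCategory.exists_iso_Q_obj_of_isGE Z a
  have hKP : ∀ n, ι.essImage (K.homology n) := fun n =>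
    Functor.essImage.ofIso ((DerivedCategory.homologyFunctor A n).mapIso eZ ≪≫
      (DerivedCategory.homologyFunctorFactors A n).app K) (hZ n)
  obtain ⟨L, α, hL, hLP, hα⟩ := Groth.Agent.Helper3.SubRes.exists_resolution_int
    (fun X => ι.essImage X)
    (fun f hX hY => essImage_cokernel ι f hX hY)
    (fun X Y hX hY => essImage_biprod ι X Y hX hY)
    (fun e hX => Functor.essImage.ofIso e hX)
    (fun X hX => by
      obtain ⟨X', ⟨eX⟩⟩ := hX
      obtain ⟨Y', i, hi, hY'⟩ := hinj X'
      exact ⟨ι.obj Y', eX.inv ≫ ι.map i, inferInstance, ι.obj_mem_essImage Y', hY'⟩)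
    K a hKP
  have hL' : ∀ n, ι.essImage (L.X n) := fun n => by
    rcases (hLP n).1 with h | h
    · exact h
    · exact essImage_of_isZero ι h
  obtain ⟨I, ⟨Φ⟩⟩ := exists_lift ι L hL'
  refine ⟨I, ?_, ?_, ?_⟩
  · rw [← CochainComplex.isStrictlyGE_mapHomologicalComplex_obj_iff I ι]
    exact HomologicalComplex.isStrictlySupported_of_iso Φ.symm _
  · intro n
    have h1 : Injective (L.X n) := (hLP n).2
    have e1 : L.X n ≅ ι.obj (I.X n) := ((HomologicalComplex.eval _ _ n).mapIso Φ).symm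
    exact Injective.of_iso e1 h1
  · exact ⟨ι.mapDerivedCategoryFactors.app I ≪≫ DerivedCategory.Q.mapIso Φ ≪≫
      (asIso (DerivedCategory.Q.map α)).symm ≪≫ eZ.symm⟩

end Groth.Agent.S11161
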