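import Groth.Statements.S11165
import Mathlib
import Groth.Agent.Lib.Helper1.RpushComp
import Groth.Agent.S4456
import Groth.Agent.Lib.Helper1.RpushZero

set_option autoImplicit false
universe u
open CategoryTheory CategoryTheory.Limits AlgebraicGeometry
open Coherent

namespace Groth.Agent.S11165

/-- Let f : X ⟶ Y be a separated morphism of schemes, U an open of X on which f restricts to an affine
morphism, i : U ⟶ X the inclusion and F a quasi-coherent O_X-module. Then i_*(F|_U) is acyclic for
f_*: its higher direct images R^j f_* vanish for j > 0. (The binder asserting injective resolutions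
of O_X-modules always holds.) -/
theorem result {X Y : Scheme.{u}} (f : X ⟶ Y) [IsSeparated f]
    (U : X.Opens) [IsAffineHom (U.ι ≫ f)] (F : X.Modules) (hF : Coh.IsQCoh F)
    [HasInjectiveResolutions X.Modules] (j : ℕ) (hj : 0 < j) :
    IsZero ((Coh.Rpush f j).obj ((Scheme.Modules.pushforward U.ι).obj ((Scheme.Modules.restrictFunctor U.ι).obj F))) := by
  haveI : F.IsQuasicoherent := hF
  haveI : IsAffineHom U.ι := IsAffineHom.of_comp (f := U.ι) (g := f)
  haveI hq : ((Scheme.Modules.restrictFunctor U.ι).obj F).IsQuasicoherent := inferInstance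
  obtain ⟨q, rfl⟩ : ∃ q, j = q + 1 := ⟨j - 1, by omega⟩
  apply Groth.Agent.Helper1.RpushComp.isZero_of_toAb
  obtain ⟨e1⟩ := Groth.Agent.Helper1.RpushComp.nonempty_iso f
    ((Scheme.Modules.pushforward U.ι).obj ((Scheme.Modules.restrictFunctor U.ι).obj F)) (q + 1)
  obtain ⟨e2⟩ := Groth.Agent.S4456.result U.ι f ((Scheme.Modules.restrictFunctor U.ι).obj F) (q + 1)
  have hz := Groth.Agent.Helper1.RpushZero.rpushAb_isZero (U.ι ≫ f)
    ((Scheme.Modules.restrictFunctor U.ι).obj F) q
  exact (hz.of_iso e2).of_iso e1

end Groth.Agent.S11165
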