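import Groth.Statements.S11180
import Mathlib

set_option autoImplicit false
universe u
open scoped TensorProduct
open CAlg

namespace Groth.Agent.S11180

section
open scoped TensorProduct

section lift
universe v w
variable {R : Type u} [CommRing R] {σ : Type v} [Finite σ]

lemma algebraMap_X (i : σ) :
    algebraMap (MvPolynomial σ R) (MvPowerSeries σ R) (MvPolynomial.X i) = MvPowerSeries.X i := by
  rw [MvPowerSeries.algebraMap_apply', Algebra.algebraMap_self, MvPowerSeries.map_id]
  simp

/-- a power series ring maps to any adically complete algebra with prescribed images of the variables -/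
theorem exists_lift {E : Type w} [CommRing E] [Algebra R E] (I : Ideal E) [hcomp : IsAdicComplete I E]
    (e : σ → E) (heI : ∀ i, e i ∈ I) :
    ∃ l : MvPowerSeries σ R →ₐ[R] E, ∀ i, l (MvPowerSeries.X i) = e i := by
  obtain ⟨φ, hφ⟩ : ∃ φ : MvPolynomial σ R →ₐ[R] E, φ = MvPolynomial.aeval e := ⟨_, rfl⟩
  have hφX : ∀ i, φ (MvPolynomial.X i) = e i := fun i => by rw [hφ, MvPolynomial.aeval_X]
  have hφJ : ∀ n, (MvPolynomial.idealOfVars σ R) ^ n ≤ (I ^ n).comap φ := by
    intro n
    have h1 : (MvPolynomial.idealOfVars σ R).map φ ≤ I := by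
      rw [Ideal.map_le_iff_le_comap, MvPolynomial.idealOfVars, Ideal.span_le]
      rintro _ ⟨i, rfl⟩
      show φ (MvPolynomial.X i) ∈ I
      rw [hφX]
      exact heI i
    rw [← Ideal.map_le_iff_le_comap, Ideal.map_pow]
    exact Ideal.pow_right_mono h1 n
  obtain ⟨fn, hfn⟩ : ∃ fn : ∀ n, MvPowerSeries σ R →ₐ[R] E ⧸ I ^ n, ∀ n, fn n =
      (Ideal.quotientMapₐ (I ^ n) φ (hφJ n)).comp
        ((MvPowerSeries.truncTotalAlgHom σ R n).restrictScalars R) := ⟨_, fun n => rfl⟩
  have hfn' : ∀ n p, fn n p =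
      Ideal.Quotient.mk (I ^ n) (φ (MvPowerSeries.truncTotal n p)) := fun n p => by
    rw [hfn]; rfl
  have hcompat : ∀ {m n : ℕ} (hle : m ≤ n),
      (Ideal.Quotient.factorₐ R (Ideal.pow_le_pow_right hle)).comp (fn n) = fn m := by
    intro m n hle
    apply AlgHom.ext
    intro p
    rw [AlgHom.comp_apply, hfn', hfn']
    show Ideal.Quotient.mk (I ^ m) _ = _
    rw [Ideal.Quotient.eq, ← map_sub]
    exact hφJ m (MvPowerSeries.truncTotal_sub_truncTotal_mem_pow_idealOfVars hle le_rfl p)
  obtain ⟨l, hl⟩ : ∃ l : MvPowerSeries σ R →ₐ[R] E,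
      ∀ n p, Ideal.Quotient.mk (I ^ n) (l p) = fn n p :=
    ⟨IsAdicComplete.liftAlgHom I fn hcompat, fun n p => IsAdicComplete.mk_liftAlgHom I fn hcompat n p⟩
  have hlpoly : ∀ c : MvPolynomial σ R,
      l (algebraMap (MvPolynomial σ R) (MvPowerSeries σ R) c) = φ c := by
    intro c
    rw [IsHausdorff.eq_iff_smodEq (I := I)]
    intro n
    rw [SModEq.sub_mem, smul_eq_mul, Ideal.mul_top, ← Ideal.Quotient.eq, hl, hfn]
    show (Ideal.quotientMapₐ (I ^ n) φ (hφJ n))
      ((MvPowerSeries.truncTotalAlgHom σ R n) (algebraMap _ _ c)) = _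
    rw [AlgHom.commutes]
    rfl
  exact ⟨l, fun i => by rw [← algebraMap_X, hlpoly, hφX]⟩
end lift

section noeth
open IsLocalRing
variable (R : Type u) [CommRing R] [IsNoetherianRing R] [IsLocalRing R]

/-- the completion of a Noetherian local ring is Noetherian -/
theorem noeth_completion : IsNoetherianRing (AdicCompletion (maximalIdeal R) R) := by
  obtain ⟨n, a, ha⟩ := Submodule.fg_iff_exists_fin_generating_family.1
    (IsNoetherian.noetherian (maximalIdeal R))
  obtain ⟨E, hE⟩ : ∃ E, E = AdicCompletion (maximalIdeal R) R := ⟨_, rfl⟩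
  have hmax := AdicCompletion.maximalIdeal_eq_map (R := R)
  have he : ∀ i, algebraMap R (AdicCompletion (maximalIdeal R) R) (a i) ∈
      maximalIdeal (AdicCompletion (maximalIdeal R) R) := by
    intro i
    rw [hmax]
    apply Ideal.mem_map_of_mem
    rw [← ha]
    exact Submodule.subset_span ⟨i, rfl⟩
  obtain ⟨l, hl⟩ := exists_lift (R := R) (σ := Fin n)
    (maximalIdeal (AdicCompletion (maximalIdeal R) R))
    (fun i => algebraMap R (AdicCompletion (maximalIdeal R) R) (a i)) he
  have hmap : (Ideal.span (Set.range (MvPowerSeries.X : Fin n → MvPowerSeries (Fin n) R))).map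
      (l : MvPowerSeries (Fin n) R →+* AdicCompletion (maximalIdeal R) R) =
      maximalIdeal (AdicCompletion (maximalIdeal R) R) := by
    rw [Ideal.map_span, hmax]
    have : Ideal.map (algebraMap R (AdicCompletion (maximalIdeal R) R)) (maximalIdeal R) =
        Ideal.map (algebraMap R (AdicCompletion (maximalIdeal R) R)) (Ideal.span (Set.range a)) :=
      congrArg (Ideal.map (algebraMap R (AdicCompletion (maximalIdeal R) R))) ha.symm
    rw [this, Ideal.map_span]
    congr 1
    ext x
    constructor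
    · rintro ⟨_, ⟨i, rfl⟩, rfl⟩
      exact ⟨a i, ⟨i, rfl⟩, (hl i).symm⟩
    · rintro ⟨_, ⟨i, rfl⟩, rfl⟩
      exact ⟨MvPowerSeries.X i, ⟨i, rfl⟩, hl i⟩
  have hsurj : Function.Surjective (l : MvPowerSeries (Fin n) R →+* AdicCompletion (maximalIdeal R) R) := by
    haveI : IsHausdorff ((Ideal.span (Set.range (MvPowerSeries.X : Fin n → MvPowerSeries (Fin n) R))).map
        (l : MvPowerSeries (Fin n) R →+* AdicCompletion (maximalIdeal R) R))
        (AdicCompletion (maximalIdeal R) R) := by
      rw [hmap]; infer_instance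
    apply surjective_of_mk_map_comp_surjective
      (I := Ideal.span (Set.range (MvPowerSeries.X : Fin n → MvPowerSeries (Fin n) R)))
    intro y
    obtain ⟨z, rfl⟩ := Ideal.Quotient.mk_surjective y
    obtain ⟨r, hr⟩ := (AdicCompletion.residueField_map_bijective R).2 (residue _ z)
    obtain ⟨r, rfl⟩ := residue_surjective r
    rw [ResidueField.map_residue] at hr
    refine ⟨MvPowerSeries.C r, ?_⟩
    rw [RingHom.comp_apply, Ideal.Quotient.eq, hmap]
    have h1 : (l : MvPowerSeries (Fin n) R →+* AdicCompletion (maximalIdeal R) R) (MvPowerSeries.C r) =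
        algebraMap R _ r := by
      have := l.commutes r
      rwa [MvPowerSeries.algebraMap_apply, Algebra.algebraMap_self, RingHom.id_apply] at this
    rw [h1]
    exact (Ideal.Quotient.eq).1 hr
  exact isNoetherianRing_of_surjective _ _ _ hsurj

end noeth

theorem main (A : Type u) [CommRing A] [IsNoetherianRing A] (M : Type u) [AddCommGroup M] [Module A M] (m : M)
    (h : ∀ (B : Type u) [CommRing B] [Algebra A B] [IsNoetherianRing B] [IsLocalRing B],
      IsAdicComplete (IsLocalRing.maximalIdeal B) B → Module.Flat A B → (1 : B) ⊗ₜ[A] m = 0) : m = 0 := by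
  by_contra hm
  obtain ⟨g, hg⟩ : ∃ g : A →ₗ[A] M, g = LinearMap.toSpanSingleton A M m := ⟨_, rfl⟩
  obtain ⟨I, hI⟩ : ∃ I : Ideal A, I = LinearMap.ker g := ⟨_, rfl⟩
  have hItop : I ≠ ⊤ := by
    intro htop
    have : (1 : A) ∈ I := htop ▸ Submodule.mem_top
    rw [hI, LinearMap.mem_ker, hg, LinearMap.toSpanSingleton_apply, one_smul] at this
    exact hm this
  obtain ⟨𝔭, h𝔭max, hI𝔭⟩ := Ideal.exists_le_maximal I hItop
  haveI : 𝔭.IsPrime := h𝔭max.isPrime
  obtain ⟨R', hR'⟩ : ∃ R' : Type u, R' = Localization.AtPrime 𝔭 := ⟨_, rfl⟩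
  haveI : IsNoetherianRing (Localization.AtPrime 𝔭) := IsLocalization.isNoetherianRing 𝔭.primeCompl _ inferInstance
  haveI := noeth_completion (Localization.AtPrime 𝔭)
  haveI : IsScalarTower A (Localization.AtPrime 𝔭)
      (AdicCompletion (IsLocalRing.maximalIdeal (Localization.AtPrime 𝔭)) (Localization.AtPrime 𝔭)) :=
    IsScalarTower.of_algebraMap_eq (fun s => rfl)
  haveI : Module.Flat A (Localization.AtPrime 𝔭) := IsLocalization.flat _ 𝔭.primeCompl
  haveI : Module.Flat A
      (AdicCompletion (IsLocalRing.maximalIdeal (Localization.AtPrime 𝔭)) (Localization.AtPrime 𝔭)) :=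
    Module.Flat.trans A (Localization.AtPrime 𝔭) _
  have h0 := h (AdicCompletion (IsLocalRing.maximalIdeal (Localization.AtPrime 𝔭)) (Localization.AtPrime 𝔭))
    inferInstance inferInstance
  obtain ⟨B, hB⟩ : ∃ B : Type u, B = AdicCompletion (IsLocalRing.maximalIdeal (Localization.AtPrime 𝔭)) (Localization.AtPrime 𝔭) := ⟨_, rfl⟩
  -- the injective map A/I → M
  let ι : (A ⧸ I) →ₗ[A] M := Submodule.liftQ I g (le_of_eq hI)
  have hι : Function.Injective ι := by
    rw [← LinearMap.ker_eq_bot]
    exact Submodule.ker_liftQ_eq_bot _ _ _ (le_of_eq hI.symm)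
  have hinj := Module.Flat.lTensor_preserves_injective_linearMap
    (M := AdicCompletion (IsLocalRing.maximalIdeal (Localization.AtPrime 𝔭)) (Localization.AtPrime 𝔭)) ι hι
  have h1 : (1 : AdicCompletion (IsLocalRing.maximalIdeal (Localization.AtPrime 𝔭)) (Localization.AtPrime 𝔭))
      ⊗ₜ[A] (Submodule.Quotient.mk (1 : A) : A ⧸ I) = 0 := by
    apply hinj
    rw [LinearMap.lTensor_tmul, map_zero]
    have : ι (Submodule.Quotient.mk (1 : A)) = m := by
      show g 1 = m
      rw [hg, LinearMap.toSpanSingleton_apply, one_smul]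
    rw [this]
    exact h0
  -- the map to the residue field
  let κ := IsLocalRing.ResidueField
    (AdicCompletion (IsLocalRing.maximalIdeal (Localization.AtPrime 𝔭)) (Localization.AtPrime 𝔭))
  have hIκ : I ≤ LinearMap.ker (Algebra.linearMap A κ) := by
    intro a ha
    rw [LinearMap.mem_ker, Algebra.linearMap_apply]
    have h2 : algebraMap A (Localization.AtPrime 𝔭) a ∈ IsLocalRing.maximalIdeal (Localization.AtPrime 𝔭) :=
      (IsLocalization.AtPrime.to_map_mem_maximal_iff _ 𝔭 a).2 (hI𝔭 ha)
    have h3 : algebraMap (Localization.AtPrime 𝔭)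
        (AdicCompletion (IsLocalRing.maximalIdeal (Localization.AtPrime 𝔭)) (Localization.AtPrime 𝔭))
        (algebraMap A (Localization.AtPrime 𝔭) a) ∈ IsLocalRing.maximalIdeal _ := by
      rw [AdicCompletion.maximalIdeal_eq_map]
      exact Ideal.mem_map_of_mem _ h2
    rw [IsScalarTower.algebraMap_apply A
      (AdicCompletion (IsLocalRing.maximalIdeal (Localization.AtPrime 𝔭)) (Localization.AtPrime 𝔭)) κ,
      IsScalarTower.algebraMap_apply A (Localization.AtPrime 𝔭)
      (AdicCompletion (IsLocalRing.maximalIdeal (Localization.AtPrime 𝔭)) (Localization.AtPrime 𝔭))]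
    exact (IsLocalRing.residue_eq_zero_iff _).2 h3
  let φ : (A ⧸ I) →ₗ[A] κ := Submodule.liftQ I (Algebra.linearMap A κ) hIκ
  let ψ : (AdicCompletion (IsLocalRing.maximalIdeal (Localization.AtPrime 𝔭)) (Localization.AtPrime 𝔭)) ⊗[A] (A ⧸ I) →ₗ[A] κ :=
    TensorProduct.lift (((LinearMap.mul A κ).comp (Algebra.linearMap _ κ |>.restrictScalars A)).compl₂ φ)
  have h4 := congrArg ψ h1
  rw [map_zero] at h4
  have h5 : ψ ((1 : AdicCompletion (IsLocalRing.maximalIdeal (Localization.AtPrime 𝔭)) (Localization.AtPrime 𝔭))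
      ⊗ₜ[A] (Submodule.Quotient.mk (1 : A) : A ⧸ I)) = 1 := by
    change (Algebra.linearMap (AdicCompletion (IsLocalRing.maximalIdeal (Localization.AtPrime 𝔭))
      (Localization.AtPrime 𝔭)) κ 1) * φ (Submodule.Quotient.mk 1) = 1
    rw [Algebra.linearMap_apply, map_one, one_mul]
    show algebraMap A κ 1 = 1
    exact map_one _
  rw [h5] at h4
  exact one_ne_zero h4


end


/-- Let A be a Noetherian ring and M an A-module. If an element m of M is such that 1 ⊗ m = 0 in B ⊗_A M
for every A-algebra B which is a complete Noetherian local ring, flat over A, then m = 0.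
(Equivalently the natural map from M to the limit of the modules B ⊗_A M over all such B is
injective.) -/
theorem result (A : Type u) [CommRing A] [IsNoetherianRing A] (M : Type u) [AddCommGroup M] [Module A M] (m : M) (h : ∀ (B : Type u) [CommRing B] [Algebra A B] [IsNoetherianRing B] [IsLocalRing B], IsAdicComplete (IsLocalRing.maximalIdeal B) B → Module.Flat A B → (1 : B) ⊗ₜ[A] m = 0) : m = 0 := by
  classical
  exact main A M m h

end Groth.Agent.S11180
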