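import Groth.Statements.S1119
import Mathlib
import Groth.Agent.Lib.Helper5.LTen.TensorTri
import Groth.Agent.Lib.Helper5.Approx.Main
import Groth.Agent.Lib.Helper5.QC.RpushPC
import Groth.Agent.Lib.Helper5.QC.LTenQC
import Groth.Agent.Lib.Helper5.CohTen.Bound
import Groth.Agent.Lib.Helper5.Perf.PCTri
import Groth.Agent.Lib.Helper5.MV.RpushTri

set_option autoImplicit false
universe u
open CategoryTheory CategoryTheory.Limits AlgebraicGeometry Opposite
attribute [local instance] HasDerivedCategory.standard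
open Perf



namespace Groth.Agent.S1119

/-- Let A be a ring, π : X ⟶ Spec A with X quasi-compact and quasi-separated, and K a cochain complex of
O_X-modules whose image in D(O_X) is bounded above with quasi-coherent cohomology sheaves. Assuming
Rπ_* and - ⊗^L K exist: if Rπ_*(E ⊗^L K) is pseudo-coherent on Spec A for every perfect E ∈ D(O_X),
then Rπ_*(E ⊗^L K) is pseudo-coherent for every pseudo-coherent E ∈ D(O_X). (The source phrases the
condition with RΓ(X, -) valued in D(A); on the affine base the two formulations correspond under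
D(A) ≃ D_QCoh(Spec A).) -/
theorem result (A : Type u) [CommRing A] (X : Scheme.{u}) [CompactSpace ↥X] [QuasiSeparatedSpace ↥X]
    (π : X ⟶ Spec (CommRingCat.of A)) [DCoh.HasRpush π]
    (K : CochainComplex X.Modules ℤ) (hK : DCoh.IsQCohD (DCoh.toD X K)) (b : ℤ) [(DCoh.toD X K).IsLE b] [DCoh.HasLTensorCx K]
    (h : ∀ E : DCoh.D X, DCoh.IsPerfect E → ∀ m : ℤ, DCoh.IsPseudoCoherentD m ((DCoh.Rpush π).obj ((DCoh.LTensorCx K).obj E)))
    (E : DCoh.D X) (hE : ∀ m : ℤ, DCoh.IsPseudoCoherentD m E) (m : ℤ) :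
    DCoh.IsPseudoCoherentD m ((DCoh.Rpush π).obj ((DCoh.LTensorCx K).obj E)) := by
  classical
  haveI : QuasiSeparated π := (HasAffineProperty.iff_of_isAffine (P := @QuasiSeparated)).2
    (inferInstance : QuasiSeparatedSpace ↥X)
  haveI : QuasiCompact π := inferInstance
  have hEq : DCoh.IsQCohD E := Groth.Agent.Lib.Helper5.QC.isQCohD_of_isPC E hE
  obtain ⟨r, hr, happ⟩ := Groth.Agent.Lib.Helper5.Approx.approxHolds (X := X) (⊥ : X.Opens)
    (by simp)
  obtain ⟨N, hN⟩ := Groth.Agent.Lib.Helper5.QC.exists_bound_shift π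
  -- the level of the approximation
  let m₁ : ℤ := m - N - b + 1
  have hA : Groth.Agent.Lib.Helper5.Approx.ApproxOn (((⊥ : X.Opens) : Set X)) m₁ E :=
    happ m₁ E hEq (hE (m₁ - r)) (fun x hx => (hx : x ∈ (∅ : Set X)).elim)
  obtain ⟨P, C, α, ρ, δ, hT, hP, -, hC⟩ := hA.exists_P
  haveI := hC
  have hPq : DCoh.IsQCohD P := Groth.Agent.Lib.Helper5.CountHom.isQCohD_of_isPerfect P hP
  have hCq : DCoh.IsQCohD C :=
    Groth.Agent.Lib.Helper5.QC.isQCohD_of_triangle_right _ hT hPq hEq
  -- the triangle of derived tensor products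
  obtain ⟨a', b', c', hT'⟩ :=
    Groth.Agent.Lib.Helper5.LTenTri.exists_distinguished_ltensor K _ hT
  obtain ⟨c'', hT''⟩ := Groth.Agent.Lib.Helper5.MV.exists_distinguished_rpush π _ hT'
  -- the bound on `C ⊗^L K`
  have hCKq : DCoh.IsQCohD ((DCoh.LTensorCx K).obj C) :=
    Groth.Agent.Lib.Helper5.QC.isQCohD_LTensorCx K hK C hCq
  have hCKle : ((DCoh.LTensorCx K).obj C).IsLE (m₁ - 1 + b) := by
    obtain ⟨P', hP', ⟨eP'⟩, ⟨eT⟩⟩ := Groth.Agent.Lib.Helper5.LTenAll.exists_ltensor_iso K C
    have h1 : ∀ i : ℤ, m₁ - 1 < i → IsZero (P'.homology i) := by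
      intro i hi
      haveI : (DerivedCategory.Q.obj P').IsLE (m₁ - 1) :=
        DerivedCategory.TStructure.t.isLE_of_iso eP'.symm (m₁ - 1)
      exact IsZero.of_iso (DerivedCategory.isZero_of_isLE (DerivedCategory.Q.obj P') (m₁ - 1) i hi)
        ((DerivedCategory.homologyFunctorFactors X.Modules i).app P').symm
    have h2 : ∀ i : ℤ, b < i → IsZero (K.homology i) := by
      intro i hi
      exact IsZero.of_iso (DerivedCategory.isZero_of_isLE (DCoh.toD X K) b i hi)
        ((DerivedCategory.homologyFunctorFactors X.Modules i).app K).symm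
    haveI : (DerivedCategory.Q.obj ((DCoh.tensorCx.obj P').obj K)).IsLE (m₁ - 1 + b) := by
      rw [DerivedCategory.isLE_iff]
      intro i hi
      exact IsZero.of_iso
        (Groth.Agent.Lib.Helper5.CohTen.isZero_homology_tensorCx_of_isLE P' K hP' (m₁ - 1) b
          h1 h2 i hi)
        ((DerivedCategory.homologyFunctorFactors X.Modules i).app _)
    exact DerivedCategory.TStructure.t.isLE_of_iso eT.symm (m₁ - 1 + b)
  have h3 : DCoh.IsPseudoCoherentD m ((DCoh.Rpush π).obj ((DCoh.LTensorCx K).obj C)) := by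
    haveI : ((DCoh.Rpush π).obj ((DCoh.LTensorCx K).obj C)).IsLE (m - 1) := by
      rw [DerivedCategory.isLE_iff]
      intro i hi
      exact hN _ (m₁ - 1 + b) hCKq hCKle i (by omega)
    exact Groth.Agent.Lib.Helper5.QC.isPC_of_isLE _ m
  have h1 : DCoh.IsPseudoCoherentD m ((DCoh.Rpush π).obj ((DCoh.LTensorCx K).obj P)) := h P hP m
  exact (Groth.Agent.Lib.Helper5.PCTri.isPC_triangle m _ hT'').2.1 h1 h3

end Groth.Agent.S1119
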