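import Groth.Statements.S11221
import Mathlib

set_option autoImplicit false
universe u
open CategoryTheory MonoidalCategory CartesianMonoidalCategory MonObj GrpObj AlgebraicGeometry
open scoped TensorProduct
open AGF

namespace Groth.Agent.S11221

/-- Let R be a Noetherian integrally closed domain with fraction field K and let p be a prime ideal of R
of height one. Then there is f ∈ K which is not in R but lies in the local ring R_q ⊆ K of every
height-one prime q ≠ p (f = a/b with b ∉ q): a rational function on Spec R with a pole along V(p)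
only. (The published statement is for the coordinate ring of a normal affine variety; this row is
for any Noetherian integrally closed domain, which is all the argument uses.) -/
theorem result (R : Type u) [CommRing R] [IsDomain R] [IsNoetherianRing R] [IsIntegrallyClosed R]
    (p : Ideal R) [p.IsPrime] (hp : p.height = 1) :
    ∃ f : FractionRing R, f ∉ Set.range ⇑(algebraMap R (FractionRing R)) ∧
      ∀ q : Ideal R, q.IsPrime → q.height = 1 → q ≠ p →
        ∃ a b : R, b ∉ q ∧ f * algebraMap R (FractionRing R) b = algebraMap R (FractionRing R) a := by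
  classical
  have hpne : p ≠ ⊥ := Ideal.ne_bot_of_height_eq_one hp
  obtain ⟨a, hap, ha0⟩ : ∃ a ∈ p, a ≠ 0 := by
    by_contra hcon
    apply hpne
    rw [eq_bot_iff]
    intro x hx
    by_contra hx0
    exact hcon ⟨x, hx, hx0⟩
  have hfin : p.FiniteHeight := by
    rw [Ideal.finiteHeight_iff_lt]
    right
    rw [hp]
    exact ENat.one_lt_top
  have hle : Ideal.span {a} ≤ p := (Ideal.span_singleton_le_iff_mem p).mpr hap
  have hmin : p ∈ (Ideal.span {a}).minimalPrimes := by
    apply Ideal.mem_minimalPrimes_of_height_le hle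
    rw [hp]
    exact Ideal.one_le_height_span_singleton_of_mem_nonZeroDivisors
      (mem_nonZeroDivisors_of_ne_zero ha0)
  have hass : p ∈ associatedPrimes R (R ⧸ Ideal.span {a}) := by
    apply Module.associatedPrimes.minimalPrimes_annihilator_subset_associatedPrimes
    rw [Ideal.annihilator_quotient]
    exact hmin
  rw [AssociatedPrimes.mem_iff, isAssociatedPrime_iff] at hass
  obtain ⟨-, xb, hxb⟩ := hass
  obtain ⟨x, rfl⟩ := Ideal.Quotient.mk_surjective xb
  have hmem : ∀ b : R, b ∈ p ↔ ∃ c, b * x = a * c := by
    intro b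
    rw [hxb, Submodule.mem_colon_singleton, Submodule.mem_bot]
    have e1 : b • (Ideal.Quotient.mk (Ideal.span {a})) x
        = (Ideal.Quotient.mk (Ideal.span {a})) (b * x) := by
      rw [map_mul]; rfl
    rw [e1, Ideal.Quotient.eq_zero_iff_mem, Ideal.mem_span_singleton']
    constructor
    · rintro ⟨c, hc⟩
      exact ⟨c, by rw [← hc, mul_comm]⟩
    · rintro ⟨c, hc⟩
      exact ⟨c, by rw [hc, mul_comm]⟩
  have hxa : ¬ ∃ c, x = a * c := by
    rintro ⟨c, hc⟩
    have : (1 : R) ∈ p := (hmem 1).mpr ⟨c, by rw [_root_.one_mul, hc]⟩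
    exact (Ideal.IsPrime.ne_top inferInstance) ((Ideal.eq_top_iff_one p).mpr this)
  have ha0' : algebraMap R (FractionRing R) a ≠ 0 := by
    intro h
    exact ha0 ((IsFractionRing.injective R (FractionRing R)) (by rw [h, map_zero]))
  refine ⟨algebraMap R (FractionRing R) x / algebraMap R (FractionRing R) a, ?_, ?_⟩
  · rintro ⟨r, hr⟩
    apply hxa
    refine ⟨r, ?_⟩
    apply IsFractionRing.injective R (FractionRing R)
    rw [map_mul, hr, mul_div_cancel₀ _ ha0']
  · intro q hq hq1 hqp
    have hnle : ¬ p ≤ q := by
      intro hpq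
      have hlt : p < q := lt_of_le_of_ne hpq (Ne.symm hqp)
      have := Ideal.height_strict_mono_of_isPrime_of_isPrime (I := p) (J := q) hlt
      rw [hp, hq1] at this
      exact lt_irrefl _ this
    obtain ⟨b, hbp, hbq⟩ := Set.not_subset.mp hnle
    obtain ⟨c, hc⟩ := (hmem b).mp hbp
    refine ⟨c, b, hbq, ?_⟩
    rw [div_mul_eq_mul_div, ← map_mul, mul_comm x b, hc, map_mul, mul_div_cancel_left₀ _ ha0']

end Groth.Agent.S11221
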