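import Groth.Statements.S1123
import Mathlib
import Groth.Agent.Lib.Helper3.IRes
import Groth.Agent.Lib.Helper3.Splice

set_option autoImplicit false
universe v u
open CategoryTheory CategoryTheory.Limits
open CohDer

namespace Groth.Agent.S1123

section aux

variable {𝒜 : Type u} [Category.{v} 𝒜] [Abelian 𝒜]

/-- the pushout of a monomorphism `g` along `f`: `0 → X₂ → X₂ ⊔ X₃ → coker g → 0`. -/
lemma pushout_shortExact {X₁ X₂ X₃ : 𝒜} (f : X₁ ⟶ X₂) (g : X₁ ⟶ X₃) [Mono g] :
    (ShortComplex.mk (pushout.inl f g)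
      (pushout.desc (0 : X₂ ⟶ cokernel g) (cokernel.π g) (by rw [comp_zero, cokernel.condition]))
      (by rw [pushout.inl_desc])).ShortExact := by
  refine { exact := ?_, mono_f := inferInstanceAs (Mono (pushout.inl f g)), epi_g := ?_ }
  · rw [ShortComplex.exact_iff_exact_up_to_refinements]
    intro W x hx
    dsimp at x hx
    obtain ⟨W₁, π₁, hπ₁, b, c, h⟩ :=
      (IsPushout.of_hasPushout f g).hom_eq_add_up_to_refinements x
    have hc : c ≫ cokernel.π g = 0 := by
      have h' := congrArg (fun z => z ≫ pushout.desc (0 : X₂ ⟶ cokernel g) (cokernel.π g)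
        (by rw [comp_zero, cokernel.condition])) h
      simp only [Category.assoc, hx, comp_zero, Preadditive.add_comp, pushout.inl_desc,
        pushout.inr_desc, zero_add] at h'
      exact h'.symm
    obtain ⟨W₂, π₂, hπ₂, a, ha⟩ :=
      (ShortComplex.exact_cokernel g).exact_up_to_refinements c hc
    dsimp at a ha
    refine ⟨W₂, π₂ ≫ π₁, epi_comp _ _, π₂ ≫ b + a ≫ f, ?_⟩
    dsimp
    rw [Category.assoc, h, Preadditive.comp_add, Preadditive.add_comp, Category.assoc,
      Category.assoc, pushout.condition, ← Category.assoc a, ← ha, Category.assoc]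
  · exact epi_of_epi_fac (pushout.inr_desc _ _ _)

end aux

/-- Let A be an abelian category with enough injectives and S : 0 → A• → B• → C• → 0 a short exact
sequence of cochain complexes all vanishing below degree n. Then there are a short exact sequence T
: 0 → I₁ → I₂ → I₃ → 0 of complexes of injective objects vanishing below degree n and a morphism of
short exact sequences S ⟶ T whose three components are quasi-isomorphisms. -/
theorem result {A : Type u} [Category.{v} A] [Abelian A] [EnoughInjectives A]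
    (S : ShortComplex (CochainComplex A ℤ)) (hS : S.ShortExact) (n : ℤ)
    [S.X₁.IsStrictlyGE n] [S.X₂.IsStrictlyGE n] [S.X₃.IsStrictlyGE n] :
    ∃ (T : ShortComplex (CochainComplex A ℤ)) (φ : S ⟶ T), T.ShortExact ∧
      T.X₁.IsStrictlyGE n ∧ T.X₂.IsStrictlyGE n ∧ T.X₃.IsStrictlyGE n ∧
      (∀ k : ℤ, Injective (T.X₁.X k) ∧ Injective (T.X₂.X k) ∧ Injective (T.X₃.X k)) ∧
      QuasiIso φ.τ₁ ∧ QuasiIso φ.τ₂ ∧ QuasiIso φ.τ₃ := by
  classical
  have hI0 : ∃ Z : A, IsZero Z ∧ Injective Z := ⟨_, isZero_zero A, inferInstance⟩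
  have hI : ∀ X : A, ∃ (Y : A) (ι : X ⟶ Y), Injective Y ∧ Mono ι :=
    fun X => ⟨Injective.under X, Injective.ι X, inferInstance, inferInstance⟩
  obtain ⟨I₁, α, hI₁GE, hI₁inj, hαm, hαq⟩ :=
    Groth.Agent.Helper3.IRes.exists_resolution_int (fun X => Injective X) hI0 hI S.X₁ n
  have hα : Mono α := HomologicalComplex.mono_of_mono_f α hαm
  have hf : Mono S.f := hS.mono_f
  have hinl : QuasiIso (pushout.inl S.f α) := by
    have hP := pushout_shortExact S.f α
    have hC : (ShortComplex.mk α (cokernel.π α) (cokernel.condition α)).ShortExact :=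
      { exact := ShortComplex.exact_cokernel α
        mono_f := hα
        epi_g := inferInstanceAs (Epi (cokernel.π α)) }
    exact Groth.Agent.Helper3.Splice.quasiIso_f_of_acyclic_X₃ hP (hC.acyclic_X₃ hαq)
  have hB'GE : (pushout S.f α).IsStrictlyGE n := by
    rw [CochainComplex.isStrictlyGE_iff]
    intro i hi
    let p : S.X₂ ⊞ I₁ ⟶ pushout S.f α := biprod.desc (pushout.inl _ _) (pushout.inr _ _)
    have hp : Epi p := (IsPushout.of_hasPushout S.f α).epi_shortComplex_g
    have hp' : Epi (p.f i) := inferInstance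
    refine IsZero.of_epi (p.f i) ?_
    refine IsZero.of_iso ?_ (HomologicalComplex.biprodXIso _ _ i)
    rw [biprod_isZero_iff]
    exact ⟨S.X₂.isZero_of_isStrictlyGE n _ hi, I₁.isZero_of_isStrictlyGE n _ hi⟩
  obtain ⟨I₂, β, hI₂GE, hI₂inj, hβm, hβq⟩ :=
    Groth.Agent.Helper3.IRes.exists_resolution_int (fun X => Injective X) hI0 hI
      (pushout S.f α) n
  have hβ : Mono β := HomologicalComplex.mono_of_mono_f β hβm
  have hinr : Mono (pushout.inr S.f α) := inferInstance
  have ht : Mono (pushout.inr S.f α ≫ β) := mono_comp _ _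
  have hT : (ShortComplex.mk (pushout.inr S.f α ≫ β) (cokernel.π (pushout.inr S.f α ≫ β))
      (cokernel.condition _)).ShortExact :=
    { exact := ShortComplex.exact_cokernel _
      mono_f := ht
      epi_g := inferInstanceAs (Epi (cokernel.π _)) }
  have w : S.f ≫ pushout.inl S.f α ≫ β ≫ cokernel.π (pushout.inr S.f α ≫ β) = 0 := by
    rw [pushout.condition_assoc, ← Category.assoc (pushout.inr S.f α), cokernel.condition,
      comp_zero]
  have hτ₃ := hS.gIsCokernel.fac (CokernelCofork.ofπ _ w) WalkingParallelPair.one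
  dsimp at hτ₃
  refine ⟨_, { τ₁ := α, τ₂ := pushout.inl S.f α ≫ β,
               τ₃ := show S.X₃ ⟶ cokernel (pushout.inr S.f α ≫ β) from
                 hS.gIsCokernel.desc (CokernelCofork.ofπ _ w)
               comm₁₂ := ?_, comm₂₃ := ?_ }, hT, hI₁GE, hI₂GE, ?_, ?_, hαq, ?_, ?_⟩
  · dsimp
    rw [pushout.condition_assoc]
  · dsimp
    rw [hτ₃, Category.assoc]
  · dsimp
    rw [CochainComplex.isStrictlyGE_iff]
    intro i hi
    have hp' : Epi ((cokernel.π (pushout.inr S.f α ≫ β)).f i) := inferInstance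
    exact IsZero.of_epi ((cokernel.π (pushout.inr S.f α ≫ β)).f i)
      (I₂.isZero_of_isStrictlyGE n _ hi)
  · intro k
    refine ⟨hI₁inj k, hI₂inj k, ?_⟩
    have hk := hT.map_of_exact (HomologicalComplex.eval A (ComplexShape.up ℤ) k)
    have : Injective (I₁.X k) := hI₁inj k
    have : Injective (I₂.X k) := hI₂inj k
    have hinj : Injective ((ShortComplex.mk (pushout.inr S.f α ≫ β)
      (cokernel.π (pushout.inr S.f α ≫ β)) (cokernel.condition _)).map
        (HomologicalComplex.eval A (ComplexShape.up ℤ) k)).X₁ := hI₁inj k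
    exact Retract.injective (Y := I₂.X k)
      { i := _, r := _, retract := (hk.splittingOfInjective).s_g }
  · dsimp
    infer_instance
  · exact HomologicalComplex.HomologySequence.quasiIso_τ₃ _ hS hT hαq
      (by dsimp; infer_instance)

end Groth.Agent.S1123
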