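import Groth.Statements.S11233
import Mathlib

set_option autoImplicit false
universe u
open CAlg

namespace Groth.Agent.S11233

/-- Let k be an algebraically closed field, A an integral domain which is a k-algebra, T an m by m
matrix over A with invertible determinant, and let the additive group k^m act on the polynomial ring
A[y_1, ..., y_m] by the A-algebra maps y_s ↦ y_s + Σ_r h_r T_rs. Then the only invariant polynomials
are the constants: a polynomial fixed by all these substitutions lies in A. -/
theorem result (k : Type u) [Field k] [IsAlgClosed k]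
    (A : Type u) [CommRing A] [IsDomain A] [Algebra k A] (m : ℕ) (T : Matrix (Fin m) (Fin m) A)
    (hT : IsUnit T.det) (f : MvPolynomial (Fin m) A)
    (hf : ∀ h : Fin m → k, MvPolynomial.aeval
      (fun s : Fin m => MvPolynomial.X s + MvPolynomial.C (∑ r : Fin m, algebraMap k A (h r) * T r s)) f = f) :
    ∃ a : A, f = MvPolynomial.C a := by
  classical
  let Φ : MvPolynomial (Fin m) A →ₐ[A] MvPolynomial (Fin m) (MvPolynomial (Fin m) A) :=
    MvPolynomial.aeval (fun s : Fin m => MvPolynomial.C (MvPolynomial.X s : MvPolynomial (Fin m) A) +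
      ∑ r : Fin m, MvPolynomial.X r * MvPolynomial.C (MvPolynomial.C (T r s) : MvPolynomial (Fin m) A))
  -- evaluation of `Φ` at a point `x`
  have hev : ∀ x : Fin m → MvPolynomial (Fin m) A, ∀ g : MvPolynomial (Fin m) A, MvPolynomial.eval x (Φ g) =
      MvPolynomial.aeval (fun s : Fin m => (MvPolynomial.X s : MvPolynomial (Fin m) A) +
        ∑ r : Fin m, x r * MvPolynomial.C (T r s)) g := by
    intro x g
    have : ((MvPolynomial.eval x).comp Φ.toRingHom) =
        (MvPolynomial.aeval (fun s : Fin m => (MvPolynomial.X s : MvPolynomial (Fin m) A) +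
        ∑ r : Fin m, x r * MvPolynomial.C (T r s)) : MvPolynomial (Fin m) A →ₐ[A] MvPolynomial (Fin m) A).toRingHom := by
      apply MvPolynomial.ringHom_ext
      · intro a
        simp [Φ, MvPolynomial.algebraMap_eq]
      · intro s
        simp [Φ]
    exact congrArg (fun φ : MvPolynomial (Fin m) A →+* MvPolynomial (Fin m) A => φ g) this
  set F : MvPolynomial (Fin m) (MvPolynomial (Fin m) A) := Φ f - MvPolynomial.C f with hF
  have hinf : Infinite k := inferInstance
  have hinj : Function.Injective (fun c : k => (MvPolynomial.C (algebraMap k A c) : MvPolynomial (Fin m) A)) :=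
    (MvPolynomial.C_injective (Fin m) A).comp (algebraMap k A).injective
  have hF0 : F = 0 := by
    apply MvPolynomial.funext_set (fun _ : Fin m =>
      Set.range (fun c : k => (MvPolynomial.C (algebraMap k A c) : MvPolynomial (Fin m) A)))
      (fun _ => Set.infinite_range_of_injective hinj)
    intro x hx
    have hx' : ∀ r, ∃ c : k, MvPolynomial.C (algebraMap k A c) = x r := fun r => hx r (Set.mem_univ r)
    choose h hh using hx'
    rw [map_zero, hF, map_sub, MvPolynomial.eval_C, hev, sub_eq_zero]
    convert hf h using 3
    funext s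
    congr 1
    rw [map_sum]
    refine Finset.sum_congr rfl fun r _ => ?_
    rw [← hh r, map_mul]
  -- now evaluate at `z = - y T⁻¹`
  let z : Fin m → MvPolynomial (Fin m) A := fun r => - ∑ t : Fin m, MvPolynomial.X t * MvPolynomial.C (T⁻¹ t r)
  have h1 : MvPolynomial.eval z F = 0 := by rw [hF0, map_zero]
  rw [hF, map_sub, MvPolynomial.eval_C, hev, sub_eq_zero] at h1
  have h2 : (fun s : Fin m => (MvPolynomial.X s : MvPolynomial (Fin m) A) + ∑ r : Fin m, z r * MvPolynomial.C (T r s))
      = 0 := by
    funext s
    have hTT : T⁻¹ * T = 1 := Matrix.nonsing_inv_mul T hT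
    simp only [z, Pi.zero_apply, neg_mul, Finset.sum_neg_distrib, Finset.sum_mul]
    rw [Finset.sum_comm]
    have : ∀ t : Fin m, ∑ r : Fin m, MvPolynomial.X t * MvPolynomial.C (T⁻¹ t r) * MvPolynomial.C (T r s)
        = (MvPolynomial.X t : MvPolynomial (Fin m) A) * MvPolynomial.C ((1 : Matrix (Fin m) (Fin m) A) t s) := by
      intro t
      rw [← hTT, Matrix.mul_apply, map_sum, Finset.mul_sum]
      refine Finset.sum_congr rfl fun r _ => ?_
      rw [map_mul, mul_assoc]
    simp only [this, Matrix.one_apply]
    simp
  rw [h2, MvPolynomial.aeval_zero] at h1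
  exact ⟨MvPolynomial.constantCoeff f, h1.symm⟩

end Groth.Agent.S11233
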