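import Groth.Statements.S11235
import Mathlib

set_option autoImplicit false
universe u
open CAlg

namespace Groth.Agent.S11235

/-- Let k be an algebraically closed field, A a commutative k-algebra, α ∈ k, and M a maximal ideal of
the polynomial ring A[x] containing x - α. Let I ⊆ M be an ideal whose zero set in Spec A[x] is
invariant under the automorphisms x ↦ c·x, c ∈ k nonzero (equivalently: the image of I under each
such A-algebra automorphism has the same radical as I). Then there is a maximal ideal of A[x]
containing I and x. -/
theorem result (k : Type u) [Field k] [IsAlgClosed k]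
    (A : Type u) [CommRing A] [Algebra k A] (α : k)
    (M : Ideal (Polynomial A)) (hM : M.IsMaximal)
    (hα : Polynomial.X - Polynomial.C (algebraMap k A α) ∈ M)
    (I : Ideal (Polynomial A)) (hIM : I ≤ M)
    (hI : ∀ c : kˣ, (I.map (Polynomial.aeval (R := A)
      (algebraMap k A (c : k) • (Polynomial.X : Polynomial A)))).radical = I.radical) :
    ∃ N : Ideal (Polynomial A), N.IsMaximal ∧ I ≤ N ∧ Polynomial.X ∈ N := by
  classical
  letI : Field (Polynomial A ⧸ M) := Ideal.Quotient.field M
  let φ : Polynomial A →+* (Polynomial A ⧸ M) := Ideal.Quotient.mk M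
  let ψ : A →+* (Polynomial A ⧸ M) := φ.comp Polynomial.C
  have hφ_ev : ∀ g : Polynomial A, φ g = Polynomial.eval₂ ψ (φ Polynomial.X) g := by
    intro g
    have : φ = Polynomial.eval₂RingHom ψ (φ Polynomial.X) := by
      apply Polynomial.ringHom_ext
      · intro a; simp [ψ]
      · simp
    conv_lhs => rw [this]
    rfl
  have hφX : φ Polynomial.X = ψ (algebraMap k A α) := by
    have := Ideal.Quotient.eq.mpr hα
    exact this
  have hψsurj : Function.Surjective ψ := by
    intro y
    obtain ⟨g, rfl⟩ := Ideal.Quotient.mk_surjective y
    refine ⟨Polynomial.eval (algebraMap k A α) g, ?_⟩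
    show ψ _ = φ g
    rw [hφ_ev g, hφX, Polynomial.eval₂_at_apply]
  have hev0surj : Function.Surjective (Polynomial.eval₂RingHom ψ 0) := by
    intro y
    obtain ⟨a, rfl⟩ := hψsurj y
    exact ⟨Polynomial.C a, by simp⟩
  refine ⟨RingHom.ker (Polynomial.eval₂RingHom ψ 0),
    RingHom.ker_isMaximal_of_surjective _ hev0surj, ?_, by simp [RingHom.mem_ker]⟩
  intro g hg
  rw [RingHom.mem_ker]
  show Polynomial.eval₂ ψ 0 g = 0
  rw [← Polynomial.eval_map]
  -- roots of the image polynomial
  have hradM : I.radical ≤ M := by
    rw [← hM.isPrime.radical]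
    exact Ideal.radical_mono hIM
  have hroot : ∀ c : kˣ, Polynomial.eval (ψ (algebraMap k A ((c : k) * α))) (g.map ψ) = 0 := by
    intro c
    have h1 : Polynomial.aeval (R := A) (algebraMap k A (c : k) • (Polynomial.X : Polynomial A)) g ∈
        I.map (Polynomial.aeval (R := A) (algebraMap k A (c : k) • (Polynomial.X : Polynomial A))) :=
      Ideal.mem_map_of_mem _ hg
    have h2 : Polynomial.aeval (R := A) (algebraMap k A (c : k) • (Polynomial.X : Polynomial A)) g ∈ M :=
      hradM (by rw [← hI c]; exact Ideal.le_radical h1)
    have h3 : φ (Polynomial.aeval (R := A)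
        (algebraMap k A (c : k) • (Polynomial.X : Polynomial A)) g) = 0 :=
      Ideal.Quotient.eq_zero_iff_mem.mpr h2
    have h4 : ∀ q : Polynomial A, φ (Polynomial.aeval (R := A)
        (algebraMap k A (c : k) • (Polynomial.X : Polynomial A)) q) =
        Polynomial.eval₂ ψ (φ (algebraMap k A (c : k) • (Polynomial.X : Polynomial A))) q := by
      intro q
      have : φ.comp (Polynomial.aeval (R := A)
          (algebraMap k A (c : k) • (Polynomial.X : Polynomial A))).toRingHom =
          Polynomial.eval₂RingHom ψ (φ (algebraMap k A (c : k) • (Polynomial.X : Polynomial A))) := by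
        apply Polynomial.ringHom_ext
        · intro a; simp [ψ]
        · simp
      exact RingHom.congr_fun this q
    rw [h4] at h3
    have h5 : φ (algebraMap k A (c : k) • (Polynomial.X : Polynomial A)) =
        ψ (algebraMap k A ((c : k) * α)) := by
      rw [Polynomial.smul_eq_C_mul, map_mul, hφX, map_mul, map_mul]
      rfl
    rw [h5, ← Polynomial.eval_map] at h3
    exact h3
  by_cases hα0 : α = 0
  · have := hroot 1
    rw [Units.val_one, one_mul, hα0, map_zero, map_zero] at this
    exact this
  · have hzero : g.map ψ = 0 := by
      apply Polynomial.eq_zero_of_infinite_isRoot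
      have hinj : Function.Injective (fun c : kˣ => ψ (algebraMap k A ((c : k) * α))) := by
        intro c c' hcc
        have h6 : Function.Injective (ψ.comp (algebraMap k A)) := (ψ.comp (algebraMap k A)).injective
        have h7 : (c : k) * α = (c' : k) * α := h6 hcc
        exact Units.ext (mul_right_cancel₀ hα0 h7)
      haveI : Infinite k := IsAlgClosed.instInfinite
      haveI : Infinite kˣ := by
        have h8 : ({0}ᶜ : Set k).Infinite := (Set.finite_singleton (0:k)).infinite_compl
        have h9 : Infinite ({0}ᶜ : Set k) := h8.to_subtype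
        refine Infinite.of_injective (fun x : ({0}ᶜ : Set k) => Units.mk0 (x : k) x.2) ?_
        intro x y hxy
        have := congrArg Units.val hxy
        simpa using Subtype.ext this
      have hinf : (Set.range (fun c : kˣ => ψ (algebraMap k A ((c : k) * α)))).Infinite :=
        Set.infinite_range_of_injective hinj
      refine hinf.mono ?_
      rintro _ ⟨c, rfl⟩
      exact hroot c
    rw [hzero, Polynomial.eval_zero]

end Groth.Agent.S11235
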