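import Groth.Statements.S11239
import Mathlib.Tactic
import Mathlib.LinearAlgebra.Matrix.Block

set_option autoImplicit false
universe u
open AGF

namespace Groth.Agent.S11239

/-- Let X be an m × n matrix over a commutative ring, u an upper triangular n × n matrix with ones on
the diagonal, t a diagonal n × n matrix and p ≤ n. For any choice of p rows, the minor of X·t·u
formed with these rows and the first p columns equals (t_11 ⋯ t_pp) times the corresponding minor of
X: the minors on the first p columns are semi-invariant of weight ω_p under right multiplication by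
the upper triangular group. (The published statement is for the generic matrix over an algebraically
closed field; this row states the identity over any commutative ring.) -/
theorem result (R : Type u) [CommRing R] (m n p : ℕ) (hp : p ≤ n)
    (X : Matrix (Fin m) (Fin n) R) (d : Fin n → R) (u : Matrix (Fin n) (Fin n) R)
    (hu1 : ∀ i, u i i = 1) (hu0 : ∀ i j, j < i → u i j = 0) (I : Fin p → Fin m) :
    ((X * Matrix.diagonal d * u).submatrix I (Fin.castLE hp)).det =
      (∏ i : Fin p, d (Fin.castLE hp i)) * (X.submatrix I (Fin.castLE hp)).det := by
  have hprod : (X * Matrix.diagonal d * u).submatrix I (Fin.castLE hp)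
      = (X.submatrix I (Fin.castLE hp)) *
        ((Matrix.diagonal d * u).submatrix (Fin.castLE hp) (Fin.castLE hp)) := by
    ext a b
    rw [Matrix.submatrix_apply, Matrix.mul_assoc, Matrix.mul_apply, Matrix.mul_apply]
    have hzero : ∀ l : Fin n, l ∉ Finset.univ.map (Fin.castLEEmb hp) →
        X (I a) l * (Matrix.diagonal d * u) l (Fin.castLE hp b) = 0 := by
      intro l hl
      have hl' : p ≤ l.val := by
        by_contra hlt
        push Not at hlt
        apply hl
        rw [Finset.mem_map]
        exact ⟨⟨l.val, hlt⟩, Finset.mem_univ _, Fin.ext rfl⟩
      rw [Matrix.diagonal_mul, hu0 l (Fin.castLE hp b) (by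
        rw [Fin.lt_def]
        exact lt_of_lt_of_le b.isLt hl'), mul_zero, mul_zero]
    rw [← Finset.sum_subset (Finset.subset_univ (Finset.univ.map (Fin.castLEEmb hp)))
      (fun l _ hl => hzero l hl), Finset.sum_map]
    rfl
  rw [hprod, Matrix.det_mul, mul_comm]
  congr 1
  rw [Matrix.det_of_isUpperTriangular]
  · refine Finset.prod_congr rfl fun i _ => ?_
    rw [Matrix.submatrix_apply, Matrix.diagonal_mul, hu1, mul_one]
  · intro i j hij
    rw [Matrix.submatrix_apply, Matrix.diagonal_mul, hu0 _ _ (by
      rw [Fin.lt_def]; exact hij), mul_zero]

end Groth.Agent.S11239
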