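import Groth.Statements.S11240
import Mathlib.LinearAlgebra.Matrix.MvPolynomial
import Mathlib.Algebra.MvPolynomial.Rename
import Mathlib.LinearAlgebra.Matrix.Determinant.Basic

set_option autoImplicit false
universe u
open AGF

namespace Groth.Agent.S11240

/-- For a single root subgroup: let k be an algebraically closed field and X = (x_ab) the generic n × m
matrix over the polynomial ring k[x_ab]. Let i ≠ j be row indices and let I (rows) and J (columns)
be strictly increasing sequences of length p. The minor of X with rows I and columns J is invariant
under replacing X by (1 + b·E_ij)·X for every b ∈ k (the one-parameter unipotent group adding b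
times row j to row i) if and only if j occurs in I whenever i does. (The published statement gives
the criterion for the group generated by several such root subgroups, which is the conjunction of
these.) -/
theorem result (k : Type u) [Field k] [IsAlgClosed k] (n m p : ℕ)
    (i j : Fin n) (hij : i ≠ j) (I : Fin p ↪o Fin n) (J : Fin p ↪o Fin m) :
    (∀ b : k, ((Matrix.transvection i j (MvPolynomial.C b) *
        (Matrix.of fun a c => (MvPolynomial.X (a, c) : MvPolynomial (Fin n × Fin m) k))).submatrix I J).det =
        ((Matrix.of fun a c => (MvPolynomial.X (a, c) : MvPolynomial (Fin n × Fin m) k)).submatrix I J).det) ↔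
      (i ∈ Set.range I → j ∈ Set.range I) := by
  classical
  have minor_ne_zero : ∀ (r : Fin p → Fin n) (c : Fin p → Fin m), Function.Injective r →
      Function.Injective c →
      ((Matrix.of fun a b => (MvPolynomial.X (a, b) : MvPolynomial (Fin n × Fin m) k)).submatrix
        r c).det ≠ 0 := by
    intro r c hr hc
    have h1 : (Matrix.of fun a b =>
        (MvPolynomial.X (a, b) : MvPolynomial (Fin n × Fin m) k)).submatrix r c =
        (MvPolynomial.rename (fun q : Fin p × Fin p => (r q.1, c q.2))).mapMatrix
          (Matrix.mvPolynomialX (Fin p) (Fin p) k) := by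
      refine Matrix.ext fun a b => ?_
      simp [Matrix.mvPolynomialX]
    rw [h1, ← AlgHom.map_det]
    intro h0
    have hinj : Function.Injective (fun q : Fin p × Fin p => (r q.1, c q.2)) := by
      rintro ⟨a, b⟩ ⟨a', b'⟩ h
      simp only [Prod.mk.injEq] at h
      rw [hr h.1, hc h.2]
    exact Matrix.det_mvPolynomialX_ne_zero (Fin p) k
      ((MvPolynomial.rename_injective _ hinj) (h0.trans (map_zero _).symm))
  constructor
  · intro h hi
    obtain ⟨i', rfl⟩ := hi
    by_contra hj
    have h1 := h 1
    have hM : (Matrix.transvection (I i') j (MvPolynomial.C (1 : k)) *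
        (Matrix.of fun a c => (MvPolynomial.X (a, c) : MvPolynomial (Fin n × Fin m) k))).submatrix I J =
        Matrix.updateRow ((Matrix.of fun a c =>
          (MvPolynomial.X (a, c) : MvPolynomial (Fin n × Fin m) k)).submatrix I J) i'
          (((Matrix.of fun a c =>
          (MvPolynomial.X (a, c) : MvPolynomial (Fin n × Fin m) k)).submatrix I J) i' +
          fun c => (MvPolynomial.X (j, J c) : MvPolynomial (Fin n × Fin m) k)) := by
      refine Matrix.ext fun a c => ?_
      by_cases ha : a = i'
      · subst ha
        rw [Matrix.updateRow_self, Matrix.submatrix_apply, Matrix.transvection_mul_apply_same]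
        simp
      · rw [Matrix.updateRow_ne ha, Matrix.submatrix_apply,
          Matrix.transvection_mul_apply_of_ne _ _ _ _ (fun h => ha (I.injective h))]
        rfl
    rw [hM, Matrix.det_updateRow_add, Matrix.updateRow_eq_self] at h1
    have h2 : (Matrix.updateRow ((Matrix.of fun a c =>
        (MvPolynomial.X (a, c) : MvPolynomial (Fin n × Fin m) k)).submatrix I J) i'
        (fun c => (MvPolynomial.X (j, J c) : MvPolynomial (Fin n × Fin m) k))).det = 0 := by
      have := h1
      rwa [add_eq_left] at this
    have h3 : Matrix.updateRow ((Matrix.of fun a c =>
        (MvPolynomial.X (a, c) : MvPolynomial (Fin n × Fin m) k)).submatrix I J) i'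
        (fun c => (MvPolynomial.X (j, J c) : MvPolynomial (Fin n × Fin m) k)) =
        (Matrix.of fun a c => (MvPolynomial.X (a, c) : MvPolynomial (Fin n × Fin m) k)).submatrix
          (Function.update (⇑I) i' j) J := by
      refine Matrix.ext fun a c => ?_
      by_cases ha : a = i'
      · subst ha
        rw [Matrix.updateRow_self, Matrix.submatrix_apply, Function.update_self]
        rfl
      · rw [Matrix.updateRow_ne ha, Matrix.submatrix_apply, Matrix.submatrix_apply,
          Function.update_of_ne ha]
    rw [h3] at h2
    refine minor_ne_zero _ _ ?_ J.injective h2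
    intro a a' haa
    by_cases ha : a = i' <;> by_cases ha' : a' = i'
    · rw [ha, ha']
    · rw [ha, Function.update_self, Function.update_of_ne ha'] at haa
      exact absurd ⟨a', haa.symm⟩ hj
    · rw [ha', Function.update_self, Function.update_of_ne ha] at haa
      exact absurd ⟨a, haa⟩ hj
    · rw [Function.update_of_ne ha, Function.update_of_ne ha'] at haa
      exact I.injective haa
  · intro h b
    by_cases hi : i ∈ Set.range I
    · obtain ⟨j', rfl⟩ := h hi
      obtain ⟨i', rfl⟩ := hi
      have hne : i' ≠ j' := fun e => hij (by rw [e])
      have hM : (Matrix.transvection (I i') (I j') (MvPolynomial.C b) *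
          (Matrix.of fun a c => (MvPolynomial.X (a, c) : MvPolynomial (Fin n × Fin m) k))).submatrix
            I J =
          Matrix.transvection i' j' (MvPolynomial.C b) * ((Matrix.of fun a c =>
            (MvPolynomial.X (a, c) : MvPolynomial (Fin n × Fin m) k)).submatrix I J) := by
        ext a c
        by_cases ha : a = i'
        · subst ha
          rw [Matrix.submatrix_apply, Matrix.transvection_mul_apply_same,
            Matrix.transvection_mul_apply_same]
          rfl
        · rw [Matrix.submatrix_apply,
            Matrix.transvection_mul_apply_of_ne _ _ _ _ (fun h => ha (I.injective h)),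
            Matrix.transvection_mul_apply_of_ne _ _ _ _ ha]
          rfl
      rw [hM, Matrix.det_mul, Matrix.det_transvection_of_ne _ _ hne, one_mul]
    · congr 1
      refine Matrix.ext fun a c => ?_
      rw [Matrix.submatrix_apply, Matrix.submatrix_apply,
        Matrix.transvection_mul_apply_of_ne _ _ _ _ (fun h => hi ⟨a, h⟩)]

end Groth.Agent.S11240
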