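import Groth.Statements.S17662
import Mathlib

set_option autoImplicit false
universe u
open CIDisc

namespace Groth.Agent.S17662

section

open Finset Equiv

variable {R : Type u} [CommRing R]

/-- expansion of det (A * B) as a sum over all functions -/
theorem det_mul_sum (e r : ℕ) (A : Matrix (Fin e) (Fin r) R) (B : Matrix (Fin r) (Fin e) R) :
    (A * B).det = ∑ p : Fin e → Fin r, (A.submatrix id p).det * ∏ i, B (p i) i := by
  calc (A * B).det = ∑ σ : Perm (Fin e), Perm.sign σ * ∏ i, ∑ k, A (σ i) k * B k i := by
        rw [Matrix.det_apply']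
        rfl
    _ = ∑ σ : Perm (Fin e), ∑ p : Fin e → Fin r, (Perm.sign σ : R) * ∏ i, (A (σ i) (p i) * B (p i) i) := by
        apply Finset.sum_congr rfl
        intro σ _
        rw [Finset.prod_univ_sum, Finset.mul_sum, Fintype.piFinset_univ]
    _ = ∑ p : Fin e → Fin r, ∑ σ : Perm (Fin e), (Perm.sign σ : R) * ∏ i, (A (σ i) (p i) * B (p i) i) :=
        Finset.sum_comm
    _ = ∑ p : Fin e → Fin r, (A.submatrix id p).det * ∏ i, B (p i) i := by
        apply Finset.sum_congr rfl
        intro p _
        rw [Matrix.det_apply', Finset.sum_mul]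
        apply Finset.sum_congr rfl
        intro σ _
        rw [Finset.prod_mul_distrib, mul_assoc]
        rfl


theorem image_emb_perm (e r : ℕ) (S : {s : Finset (Fin r) // s.card = e}) (τ : Perm (Fin e)) :
    Finset.image (fun i => S.1.orderEmbOfFin S.2 (τ i)) Finset.univ = S.1 := by
  have h1 : (fun i => S.1.orderEmbOfFin S.2 (τ i)) = (S.1.orderEmbOfFin S.2) ∘ τ := rfl
  rw [h1, ← Finset.image_image, Finset.image_univ_equiv, Finset.image_orderEmbOfFin_univ]

theorem sum_inj (e r : ℕ) (F : (Fin e → Fin r) → R)
    (h0 : ∀ p, ¬ Function.Injective p → F p = 0) :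
    ∑ p, F p = ∑ S : {s : Finset (Fin r) // s.card = e}, ∑ τ : Perm (Fin e),
      F (fun i => S.1.orderEmbOfFin S.2 (τ i)) := by
  classical
  have h1 : ∑ p, F p = ∑ p ∈ Finset.univ.filter (fun p : Fin e → Fin r => Function.Injective p), F p := by
    symm
    apply Finset.sum_subset (Finset.filter_subset _ _)
    intro p _ hp
    apply h0
    intro hinj
    exact hp (Finset.mem_filter.mpr ⟨Finset.mem_univ _, hinj⟩)
  rw [h1, Finset.sum_sigma']
  symm
  apply Finset.sum_bij (fun (x : (S : {s : Finset (Fin r) // s.card = e}) × Perm (Fin e)) _ =>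
    (fun i => x.1.1.orderEmbOfFin x.1.2 (x.2 i)))
  · intro x _
    rw [Finset.mem_filter]
    refine ⟨Finset.mem_univ _, ?_⟩
    intro i j hij
    exact x.2.injective ((x.1.1.orderEmbOfFin x.1.2).injective hij)
  · rintro ⟨S, τ⟩ _ ⟨S', τ'⟩ _ h
    simp only at h
    have hS : S.1 = S'.1 := by
      rw [← image_emb_perm e r S τ, ← image_emb_perm e r S' τ', h]
    have hS' : S = S' := Subtype.ext hS
    subst hS'
    have : τ = τ' := by
      apply Equiv.ext
      intro i
      exact (S.1.orderEmbOfFin S.2).injective (congrFun h i)
    rw [this]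
  · intro p hp
    rw [Finset.mem_filter] at hp
    have hinj := hp.2
    have hcard : (Finset.image p Finset.univ).card = e := by
      rw [Finset.card_image_of_injective _ hinj, Finset.card_univ, Fintype.card_fin]
    let S : {s : Finset (Fin r) // s.card = e} := ⟨Finset.image p Finset.univ, hcard⟩
    have hex : ∀ i, ∃ j, S.1.orderEmbOfFin S.2 j = p i := by
      intro i
      have hmem : p i ∈ (S.1 : Set (Fin r)) := by
        simp only [S, Finset.coe_image, Finset.coe_univ, Set.image_univ, Set.mem_range]
        exact ⟨i, rfl⟩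
      rw [← Finset.range_orderEmbOfFin S.1 S.2] at hmem
      exact hmem
    choose τ0 hτ0 using hex
    have hτinj : Function.Injective τ0 := by
      intro i j hij
      apply hinj
      rw [← hτ0 i, ← hτ0 j, hij]
    refine ⟨⟨S, Equiv.ofBijective τ0 (Finite.injective_iff_bijective.mp hτinj)⟩,
      Finset.mem_sigma.mpr ⟨Finset.mem_univ _, Finset.mem_univ _⟩, ?_⟩
    funext i
    exact hτ0 i
  · intro x _
    rfl

/-- Cauchy–Binet -/
theorem cauchy_binet (e r : ℕ) (A : Matrix (Fin e) (Fin r) R) (B : Matrix (Fin r) (Fin e) R) :
    (A * B).det = ∑ S : {s : Finset (Fin r) // s.card = e},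
      (A.submatrix id (S.1.orderEmbOfFin S.2)).det * (B.submatrix (S.1.orderEmbOfFin S.2) id).det := by
  rw [det_mul_sum, sum_inj e r]
  · apply Finset.sum_congr rfl
    intro S _
    rw [Matrix.det_apply' (B.submatrix (S.1.orderEmbOfFin S.2) id), Finset.mul_sum]
    apply Finset.sum_congr rfl
    intro τ _
    have h1 : A.submatrix id (fun i => S.1.orderEmbOfFin S.2 (τ i)) =
        (A.submatrix id (S.1.orderEmbOfFin S.2)).submatrix id τ := rfl
    rw [h1, Matrix.det_permute']
    simp only [Matrix.submatrix_apply, id_eq]
    ring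
  · intro p hp
    rw [Function.Injective] at hp
    simp only [not_forall] at hp
    obtain ⟨i, j, hij, hne⟩ := hp
    rw [Matrix.det_zero_of_column_eq hne, zero_mul]
    intro k
    simp only [Matrix.submatrix_apply, id_eq, hij]


theorem main (e r n : ℕ)
    (M : Matrix (Fin r) (Fin n) R)
    (A : {s : Finset (Fin r) // s.card = e} → Matrix (Fin e) (Fin r) R)
    (hA : IsUnit (Matrix.det (Matrix.of fun i j : {s : Finset (Fin r) // s.card = e} =>
      ((A i).submatrix id (j.1.orderEmbOfFin j.2)).det))) :
    (⨆ i, Ideal.span (Set.range fun t : {s : Finset (Fin n) // s.card = e} =>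
        ((A i * M).submatrix id (t.1.orderEmbOfFin t.2)).det)) =
      Ideal.span (Set.range fun p : {s : Finset (Fin r) // s.card = e} × {s : Finset (Fin n) // s.card = e} =>
        (M.submatrix (p.1.1.orderEmbOfFin p.1.2) (p.2.1.orderEmbOfFin p.2.2)).det) := by
  classical
  obtain ⟨D, hD⟩ : ∃ D : Matrix {s : Finset (Fin r) // s.card = e} {s : Finset (Fin r) // s.card = e} R,
      D = Matrix.of fun i j => ((A i).submatrix id (j.1.orderEmbOfFin j.2)).det := ⟨_, rfl⟩
  rw [← hD] at hA
  have key : ∀ (L : {s : Finset (Fin r) // s.card = e}) (T : {s : Finset (Fin n) // s.card = e}),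
      ((A L * M).submatrix id (T.1.orderEmbOfFin T.2)).det =
        ∑ L' : {s : Finset (Fin r) // s.card = e}, D L L' *
          (M.submatrix (L'.1.orderEmbOfFin L'.2) (T.1.orderEmbOfFin T.2)).det := by
    intro L T
    have h1 : (A L * M).submatrix id (T.1.orderEmbOfFin T.2) =
        A L * M.submatrix id (T.1.orderEmbOfFin T.2) := by
      rw [Matrix.submatrix_mul (A L) M id id (T.1.orderEmbOfFin T.2) Function.bijective_id]
      rfl
    rw [h1, cauchy_binet]
    apply Finset.sum_congr rfl
    intro L' _
    rw [hD]
    rfl
  have hinv : D⁻¹ * D = 1 := Matrix.nonsing_inv_mul D hA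
  apply le_antisymm
  · apply iSup_le
    intro L
    rw [Ideal.span_le]
    rintro _ ⟨T, rfl⟩
    simp only
    rw [key L T]
    apply Ideal.sum_mem
    intro L' _
    apply Ideal.mul_mem_left
    exact Ideal.subset_span ⟨(L', T), rfl⟩
  · rw [Ideal.span_le]
    rintro _ ⟨⟨L', T⟩, rfl⟩
    simp only
    have h2 : (M.submatrix (L'.1.orderEmbOfFin L'.2) (T.1.orderEmbOfFin T.2)).det =
        ∑ L : {s : Finset (Fin r) // s.card = e}, D⁻¹ L' L *
          ((A L * M).submatrix id (T.1.orderEmbOfFin T.2)).det := by
      have h3 : ∀ L, D⁻¹ L' L * ((A L * M).submatrix id (T.1.orderEmbOfFin T.2)).det =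
          ∑ L'' : {s : Finset (Fin r) // s.card = e}, D⁻¹ L' L * D L L'' *
            (M.submatrix (L''.1.orderEmbOfFin L''.2) (T.1.orderEmbOfFin T.2)).det := by
        intro L
        rw [key L T, Finset.mul_sum]
        apply Finset.sum_congr rfl
        intro L'' _
        rw [mul_assoc]
      rw [Finset.sum_congr rfl (fun L _ => h3 L), Finset.sum_comm]
      have h4 : ∀ L'' : {s : Finset (Fin r) // s.card = e},
          ∑ L : {s : Finset (Fin r) // s.card = e}, D⁻¹ L' L * D L L'' *
            (M.submatrix (L''.1.orderEmbOfFin L''.2) (T.1.orderEmbOfFin T.2)).det =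
          (if L' = L'' then 1 else 0) *
            (M.submatrix (L''.1.orderEmbOfFin L''.2) (T.1.orderEmbOfFin T.2)).det := by
        intro L''
        rw [← Finset.sum_mul, ← Matrix.mul_apply, hinv, Matrix.one_apply]
      rw [Finset.sum_congr rfl (fun L'' _ => h4 L'')]
      simp
    rw [h2]
    apply Ideal.sum_mem
    intro L _
    apply Ideal.mul_mem_left
    apply (le_iSup (fun i => Ideal.span (Set.range fun t : {s : Finset (Fin n) // s.card = e} =>
        ((A i * M).submatrix id (t.1.orderEmbOfFin t.2)).det)) L)
    exact Ideal.subset_span ⟨T, rfl⟩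


end


/-- Let R be a commutative ring, M an r × n matrix over R and e ≥ 0; for each e-element set L of row
indices let A_L be an e × r matrix over R, and form the square matrix, indexed by the e-element sets
of row indices, whose (L, L') entry is the e × e minor of A_L on the columns L'. If the determinant
of that square matrix is a unit, then the sum over L of the ideals generated by the e × e minors of
the products A_L · M is the ideal generated by all e × e minors of M. (In the source R is the
coordinate ring of an affine scheme X of codimension e cut out by f_1, …, f_r in affine n-space, M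
is the image of the Jacobian matrix of the f_j, the A_L have entries in the ground field and cut out
complete intersections Z_L = V(A_L · f), so that the two sides are Σ_L Jac(Z_L) and Jac(X); the
source states the equality for general A_L and establishes it under the present invertibility
condition, which it shows to be generic.) -/
theorem result {R : Type u} [CommRing R] (e r n : ℕ)
    (M : Matrix (Fin r) (Fin n) R)
    (A : {s : Finset (Fin r) // s.card = e} → Matrix (Fin e) (Fin r) R)
    (hA : IsUnit (Matrix.det (Matrix.of fun i j : {s : Finset (Fin r) // s.card = e} =>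
      ((A i).submatrix id (j.1.orderEmbOfFin j.2)).det))) :
    (⨆ i, Ideal.span (Set.range fun t : {s : Finset (Fin n) // s.card = e} =>
        ((A i * M).submatrix id (t.1.orderEmbOfFin t.2)).det)) =
      Ideal.span (Set.range fun p : {s : Finset (Fin r) // s.card = e} × {s : Finset (Fin n) // s.card = e} =>
        (M.submatrix (p.1.1.orderEmbOfFin p.1.2) (p.2.1.orderEmbOfFin p.2.2)).det) := by
  classical
  exact main e r n M A hA

end Groth.Agent.S17662
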