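import Groth.Statements.S11249
import Mathlib
import Groth.Agent.S17662

set_option autoImplicit false
universe u
open W4bk4grassmannian

namespace Groth.Agent.S11249

section

open W4bk4grassmannian
open Groth.Agent.S17662

variable (K : Type u) [Field K] (d n : ℕ)

/-- proportionality for all tuples -/
theorem all_tuples (A A' : Matrix (Fin n) (Fin d) K) (c : K)
    (h : ∀ θ : Idx d n, (A.submatrix θ.1 id).det = c * (A'.submatrix θ.1 id).det)
    (a : Fin d → Fin n) : (A.submatrix a id).det = c * (A'.submatrix a id).det := by
  classical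
  by_cases hinj : Function.Injective a
  · have hcard : (Finset.image a Finset.univ).card = d := by
      rw [Finset.card_image_of_injective _ hinj, Finset.card_univ, Fintype.card_fin]
    obtain ⟨S, hS⟩ : ∃ S : Finset (Fin n), S = Finset.image a Finset.univ := ⟨_, rfl⟩
    rw [← hS] at hcard
    have hex : ∀ i, ∃ j, S.orderEmbOfFin hcard j = a i := by
      intro i
      have hmem : a i ∈ (S : Set (Fin n)) := by
        rw [hS]
        simp only [Finset.coe_image, Finset.coe_univ, Set.image_univ, Set.mem_range]
        exact ⟨i, rfl⟩
      rw [← Finset.range_orderEmbOfFin S hcard] at hmem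
      exact hmem
    choose τ0 hτ0 using hex
    have hτinj : Function.Injective τ0 := by
      intro i j hij
      apply hinj
      rw [← hτ0 i, ← hτ0 j, hij]
    let σ : Equiv.Perm (Fin d) := Equiv.ofBijective τ0 (Finite.injective_iff_bijective.mp hτinj)
    let θ : Idx d n := ⟨fun t => S.orderEmbOfFin hcard t, (S.orderEmbOfFin hcard).strictMono⟩
    have ha : a = θ.1 ∘ σ := by
      funext i
      exact (hτ0 i).symm
    have h1 : ∀ B : Matrix (Fin n) (Fin d) K, (B.submatrix a id).det =
        Equiv.Perm.sign σ * (B.submatrix θ.1 id).det := by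
      intro B
      rw [← Matrix.det_permute σ (B.submatrix θ.1 id), ha]
      rfl
    rw [h1 A, h1 A', h θ]
    ring
  · rw [Function.Injective] at hinj
    simp only [not_forall] at hinj
    obtain ⟨i, j, hij, hne⟩ := hinj
    have h0 : ∀ B : Matrix (Fin n) (Fin d) K, (B.submatrix a id).det = 0 := by
      intro B
      apply Matrix.det_zero_of_row_eq hne
      funext k
      simp only [Matrix.submatrix_apply, id_eq, hij]
    rw [h0 A, h0 A', mul_zero]

theorem exists_minor (A : Matrix (Fin n) (Fin d) K) (hA : LinearIndependent K A.transpose) :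
    ∃ θ : Idx d n, (A.submatrix θ.1 id).det ≠ 0 := by
  classical
  have hinj : Function.Injective A.mulVecLin := by
    have := (Matrix.mulVec_injective_iff (M := A)).mpr hA
    exact this
  obtain ⟨g, hg⟩ := LinearMap.exists_leftInverse_of_injective A.mulVecLin (LinearMap.ker_eq_bot.mpr hinj)
  let L : Matrix (Fin d) (Fin n) K := LinearMap.toMatrix' g
  have hLA : L * A = 1 := by
    have h1 : LinearMap.toMatrix' (g ∘ₗ A.mulVecLin) = L * A := by
      rw [LinearMap.toMatrix'_comp, ← Matrix.toLin'_apply', LinearMap.toMatrix'_toLin']
    rw [← h1, hg, LinearMap.toMatrix'_id]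
  have hdet : (L * A).det = 1 := by rw [hLA, Matrix.det_one]
  rw [cauchy_binet] at hdet
  by_contra hcon
  simp only [not_exists, not_not] at hcon
  have : ∑ S : {s : Finset (Fin n) // s.card = d},
      (L.submatrix id (S.1.orderEmbOfFin S.2)).det * (A.submatrix (S.1.orderEmbOfFin S.2) id).det = 0 := by
    apply Finset.sum_eq_zero
    intro S _
    have := hcon ⟨fun t => S.1.orderEmbOfFin S.2 t, (S.1.orderEmbOfFin S.2).strictMono⟩
    simp only at this
    rw [this, mul_zero]
  rw [this] at hdet
  exact zero_ne_one hdet

/-- row replacement via adjugate -/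
theorem mul_adj_apply (A : Matrix (Fin n) (Fin d) K) (θ : Fin d → Fin n) (i : Fin n) (j : Fin d) :
    (A * (A.submatrix θ id).adjugate) i j = (A.submatrix (Function.update θ j i) id).det := by
  classical
  have h1 : (A * (A.submatrix θ id).adjugate) i j =
      ((Matrix.transpose (A.submatrix θ id).adjugate).mulVec (A i)) j := by
    simp only [Matrix.mul_apply, Matrix.mulVec, dotProduct, Matrix.transpose_apply]
    apply Finset.sum_congr rfl
    intro k _
    ring
  rw [h1, Matrix.adjugate_transpose, ← Matrix.cramer_eq_adjugate_mulVec, Matrix.cramer_transpose_apply]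
  congr 1
  ext s t
  simp only [Matrix.updateRow_apply, Matrix.submatrix_apply, id_eq, Function.update_apply]
  split_ifs <;> rfl

theorem one_dir (A A' : Matrix (Fin n) (Fin d) K) (hA : LinearIndependent K A.transpose)
    (c : K) (hc : c ≠ 0)
    (h : ∀ θ : Idx d n, (A.submatrix θ.1 id).det = c * (A'.submatrix θ.1 id).det) :
    Submodule.span K (Set.range A.transpose) ≤ Submodule.span K (Set.range A'.transpose) := by
  classical
  obtain ⟨θ, hθ⟩ := exists_minor K d n A hA
  have hall := all_tuples K d n A A' c h
  have h1 : A * (A.submatrix θ.1 id).adjugate = c • (A' * (A'.submatrix θ.1 id).adjugate) := by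
    ext i j
    rw [mul_adj_apply, Matrix.smul_apply, mul_adj_apply, hall, smul_eq_mul]
  have h2 : (A.submatrix θ.1 id).det • A =
      A' * (c • ((A'.submatrix θ.1 id).adjugate * (A.submatrix θ.1 id))) := by
    have : A * ((A.submatrix θ.1 id).adjugate * (A.submatrix θ.1 id)) =
        (A.submatrix θ.1 id).det • A := by
      rw [Matrix.adjugate_mul, Matrix.mul_smul, Matrix.mul_one]
    rw [← this, ← Matrix.mul_assoc, h1, Matrix.smul_mul, Matrix.mul_smul, Matrix.mul_assoc]
  obtain ⟨P, hP⟩ : ∃ P : Matrix (Fin d) (Fin d) K, A = A' * P := by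
    refine ⟨(A.submatrix θ.1 id).det⁻¹ • (c • ((A'.submatrix θ.1 id).adjugate * (A.submatrix θ.1 id))), ?_⟩
    rw [Matrix.mul_smul, ← h2, smul_smul, inv_mul_cancel₀ hθ, one_smul]
  rw [Submodule.span_le]
  rintro _ ⟨j, rfl⟩
  have : A.transpose j = ∑ k, P k j • A'.transpose k := by
    funext i
    rw [Matrix.transpose_apply, hP, Matrix.mul_apply, Finset.sum_apply]
    apply Finset.sum_congr rfl
    intro k _
    simp only [Pi.smul_apply, Matrix.transpose_apply, smul_eq_mul]
    ring
  rw [SetLike.mem_coe, this]
  apply Submodule.sum_mem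
  intro k _
  exact Submodule.smul_mem _ _ (Submodule.subset_span ⟨k, rfl⟩)

theorem main (A A' : Matrix (Fin n) (Fin d) K) (hA : LinearIndependent K A.transpose)
    (hA' : LinearIndependent K A'.transpose) (c : K) (hc : c ≠ 0)
    (h : ∀ θ : Idx d n, (A.submatrix θ.1 id).det = c * (A'.submatrix θ.1 id).det) :
    Submodule.span K (Set.range A.transpose) = Submodule.span K (Set.range A'.transpose) := by
  apply le_antisymm (one_dir K d n A A' hA c hc h)
  apply one_dir K d n A' A hA' c⁻¹ (inv_ne_zero hc)
  intro θ
  rw [h θ, ← mul_assoc, inv_mul_cancel₀ hc, one_mul]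


end


open W4bk4grassmannian in
/-- Injectivity of the Plücker map, in matrix form: let K be a field, A and A' two n × d matrices over K
with linearly independent columns, and suppose there is a nonzero scalar c with det A_θ = c · det
A'_θ for every strictly increasing d-tuple θ of row indices (A_θ the d × d submatrix on the rows θ).
Then the columns of A and of A' span the same subspace of K^n. (The published statement is over an
algebraically closed field; this row allows any field K.) -/
theorem result (K : Type u) [Field K] (d n : ℕ)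
    (A A' : Matrix (Fin n) (Fin d) K) (hA : LinearIndependent K A.transpose)
    (hA' : LinearIndependent K A'.transpose) (c : K) (hc : c ≠ 0)
    (h : ∀ θ : Idx d n, (A.submatrix θ.1 id).det = c * (A'.submatrix θ.1 id).det) :
    Submodule.span K (Set.range A.transpose) = Submodule.span K (Set.range A'.transpose) := by
  classical
  exact main K d n A A' hA hA' c hc h

end Groth.Agent.S11249
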