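import Groth.Statements.S11252
import Groth.Agent.Lib.Helper6.Grass.Union

set_option autoImplicit false
universe u
open W4bk4grassmannian

namespace Groth.Agent.S11252

open W4bk4grassmannian in
/-- Standard monomial basis for a union of Schubert varieties: let K be an algebraically closed field, 0
< d < n, and I(d,n) the strictly increasing maps Fin d → Fin n ordered entrywise; S = K[X_θ : θ ∈
I(d,n)] is the Plücker polynomial ring and, for τ ∈ I(d,n), J(τ) ⊆ S is the ideal of polynomials
vanishing at the d × d row-minors of every n × d matrix over K whose minors on rows φ ≰ τ are zero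
(the homogeneous ideal of the Schubert variety X(τ) ⊆ G(d,n)). Let τ_1, …, τ_r ∈ I(d,n) and let J =
⋂_i J(τ_i) be the homogeneous ideal of the union ⋃_i X(τ_i). Then the classes in S/J of the
monomials X_{θ_1} ⋯ X_{θ_m} (m ≥ 0) along chains θ_1 ≥ ⋯ ≥ θ_m all of whose members lie below some
τ_i are linearly independent over K and span S/J. -/
theorem result (K : Type u) [Field K] [IsAlgClosed K] (d n : ℕ)
    (hd : 0 < d) (hdn : d < n) (r : ℕ) (τs : Fin r → Idx d n) :
    LinearIndependent K (fun c : (Σ m : ℕ, {c : Fin m → Idx d n // Antitone c ∧ ∃ i, ∀ k, c k ≤ τs i}) =>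
        Ideal.Quotient.mk (⨅ i, schubertVanishing K d n (τs i)) (chainMon K c.2.1)) ∧
      Submodule.span K (Set.range fun c : (Σ m : ℕ, {c : Fin m → Idx d n // Antitone c ∧ ∃ i, ∀ k, c k ≤ τs i}) =>
        Ideal.Quotient.mk (⨅ i, schubertVanishing K d n (τs i)) (chainMon K c.2.1)) = ⊤ := by
  have hinf : Infinite K := inferInstance
  set J := ⨅ i, schubertVanishing K d n (τs i) with hJ
  have hJle : ∀ i, J ≤ schubertVanishing K d n (τs i) := fun i => iInf_le _ i
  have hmemJ : ∀ x : PlRing K d n, (∀ i, x ∈ schubertVanishing K d n (τs i)) → x ∈ J := by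
    intro x hx
    rw [hJ, Ideal.mem_iInf]
    exact hx
  constructor
  · rw [linearIndependent_iff]
    intro a ha
    rw [Finsupp.linearCombination_apply] at ha
    have hg : (a.sum fun i r => r • chainMon K i.2.1) ∈ J := by
      rw [← Ideal.Quotient.eq_zero_iff_mem, ← ha]
      have : Ideal.Quotient.mk J (a.sum fun i r => r • chainMon K i.2.1) =
          (Ideal.Quotient.mkₐ K J) (a.sum fun i r => r • chainMon K i.2.1) := rfl
      rw [this, map_finsuppSum]
      apply Finsupp.sum_congr
      intro x _
      rw [map_smul]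
      rfl
    ext ⟨m, c, hanti, i, hle⟩
    rw [Finsupp.zero_apply]
    have hker := Groth.Agent.Lib.Helper6.Gr.schubertVanishing_le_ker K (τs i) (hJle i hg)
    rw [RingHom.mem_ker] at hker
    exact Groth.Agent.Lib.Helper6.Gr.coeff_eq_zero_of_phi K hd (τs i)
      (fun x : (Σ m : ℕ, {c : Fin m → Idx d n // Antitone c ∧ ∃ i, ∀ k, c k ≤ τs i}) =>
        (⟨x.1, x.2.1⟩ : Σ m : ℕ, Fin m → Idx d n))
      (by
        rintro ⟨m1, c1, h1⟩ ⟨m2, c2, h2⟩ h
        simp only [Sigma.mk.injEq] at h
        obtain ⟨rfl, h⟩ := h
        have := eq_of_heq h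
        subst this
        rfl)
      (fun x => x.2.2.1) a hker ⟨m, c, hanti, i, hle⟩ hle
  · rw [eq_top_iff]
    intro x _
    obtain ⟨f, rfl⟩ := Ideal.Quotient.mk_surjective x
    set Lm := (Ideal.Quotient.mkₐ K J).toLinearMap with hLm
    set S := Submodule.span K (Set.range fun c : (Σ m : ℕ, {c : Fin m → Idx d n // Antitone c ∧ ∃ i, ∀ k, c k ≤ τs i}) =>
        Ideal.Quotient.mk J (chainMon K c.2.1)) with hS
    have hle : (⊤ : Submodule K (PlRing K d n)) ≤ S.comap Lm := by
      rw [← Groth.Agent.Lib.Helper6.Gr.stdAll_sup_plIdealTop K]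
      apply sup_le
      · unfold Groth.Agent.Lib.Helper6.Gr.stdAll
        rw [Submodule.span_le]
        rintro _ ⟨⟨m, c, hc⟩, rfl⟩
        rw [SetLike.mem_coe, Submodule.mem_comap]
        by_cases h : ∃ i, ∀ k, c k ≤ τs i
        · exact Submodule.subset_span ⟨⟨m, c, hc, h⟩, rfl⟩
        · push Not at h
          have : chainMon K c ∈ J := by
            apply hmemJ
            intro i
            apply Groth.Agent.Lib.Helper6.Gr.plIdeal_le_schubertVanishing K (τs i)
            apply Groth.Agent.Lib.Helper6.Gr.chainMon_mem_plIdeal K (τs i) c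
            push Not
            exact h i
          have e : Lm (chainMon K c) = 0 := Ideal.Quotient.eq_zero_iff_mem.mpr this
          rw [e]
          exact Submodule.zero_mem _
      · intro x hx
        rw [Submodule.mem_comap]
        have : x ∈ J := by
          apply hmemJ
          intro i
          exact Groth.Agent.Lib.Helper6.Gr.plIdeal_le_schubertVanishing K (τs i)
            (Groth.Agent.Lib.Helper6.Gr.plIdealTop_le_plIdeal K (τs i) hx)
        have e : Lm x = 0 := Ideal.Quotient.eq_zero_iff_mem.mpr this
        rw [e]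
        exact Submodule.zero_mem _
    exact hle (Submodule.mem_top (x := f))

end Groth.Agent.S11252
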