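import Groth.Statements.S11257
import Mathlib
import Groth.Prelude.Def_CAlg
-- import your own Groth.Agent.* helpers here

set_option autoImplicit false
universe u
open W4bk4grassmannian

namespace Groth.Agent.S11257

namespace Aux
universe v

open RingTheory.Sequence Function

variable {R : Type u} [CommRing R]

/-- injectivity of `K/rK → M/rM` when `r` is regular on the cokernel `L` -/
theorem map_injective_of_regular {K M L : Type v} [AddCommGroup K] [Module R K] [AddCommGroup M]
    [Module R M] [AddCommGroup L] [Module R L] (r : R) (i : K →ₗ[R] M) (p : M →ₗ[R] L)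
    (hi : Injective i) (hip : Exact i p) (hL : IsSMulRegular L r) :
    Injective (QuotSMulTop.map r i) := by
  have h0 : Exact (0 : PUnit.{v+1} →ₗ[R] K) i := by
    intro x
    constructor
    · intro hx
      exact ⟨PUnit.unit, (hi (hx.trans (map_zero i).symm)).symm⟩
    · rintro ⟨_, rfl⟩
      simp
  have hex := QuotSMulTop.map_first_exact_on_four_term_exact_of_isSMulRegular_last h0 hip hL
  rw [injective_iff_map_eq_zero]
  intro x hx
  obtain ⟨y, rfl⟩ := (hex x).mp hx
  have : y = 0 := by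
    obtain ⟨y', rfl⟩ := Submodule.Quotient.mk_surjective _ y
    rfl
  rw [this, map_zero]

/-- a regular sequence on `M` whose truncation is regular on the cokernel `L` is regular on a
submodule `K` -/
theorem weaklyRegular_sub : ∀ (rs : List R) {K M L : Type v} [AddCommGroup K] [Module R K]
    [AddCommGroup M] [Module R M] [AddCommGroup L] [Module R L] (i : K →ₗ[R] M) (p : M →ₗ[R] L)
    (_ : Injective i) (_ : Exact i p) (_ : Surjective p),
    IsWeaklyRegular M rs → IsWeaklyRegular L rs.dropLast → IsWeaklyRegular K rs := by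
  intro rs
  induction rs with
  | nil => intro K M L _ _ _ _ _ _ i p _ _ _ _ _; exact IsWeaklyRegular.nil R K
  | cons r rs ih =>
    intro K M L _ _ _ _ _ _ i p hi hip hp hM hL
    rw [isWeaklyRegular_cons_iff] at hM ⊢
    have hrK : IsSMulRegular K r := hM.1.of_injective i hi
    refine ⟨hrK, ?_⟩
    cases rs with
    | nil => exact IsWeaklyRegular.nil R _
    | cons r' rs' =>
      rw [List.dropLast_cons_cons, isWeaklyRegular_cons_iff] at hL
      exact ih (QuotSMulTop.map r i) (QuotSMulTop.map r p)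
        (map_injective_of_regular r i p hi hip hL.1)
        (QuotSMulTop.map_exact r hip hp) (QuotSMulTop.map_surjective r hp) hM.2 hL.2

/-- extensions -/
theorem weaklyRegular_ext : ∀ (rs : List R) {K M L : Type v} [AddCommGroup K] [Module R K]
    [AddCommGroup M] [Module R M] [AddCommGroup L] [Module R L] (i : K →ₗ[R] M) (p : M →ₗ[R] L)
    (_ : Injective i) (_ : Exact i p) (_ : Surjective p),
    IsWeaklyRegular K rs → IsWeaklyRegular L rs → IsWeaklyRegular M rs := by
  intro rs
  induction rs with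
  | nil => intro K M L _ _ _ _ _ _ i p _ _ _ _ _; exact IsWeaklyRegular.nil R M
  | cons r rs ih =>
    intro K M L _ _ _ _ _ _ i p hi hip hp hK hL
    rw [isWeaklyRegular_cons_iff] at hK hL ⊢
    refine ⟨isSMulRegular_of_range_eq_ker hi (LinearMap.exact_iff.mp hip).symm hK.1 hL.1, ?_⟩
    exact ih (QuotSMulTop.map r i) (QuotSMulTop.map r p)
      (map_injective_of_regular r i p hi hip hL.1)
      (QuotSMulTop.map_exact r hip hp) (QuotSMulTop.map_surjective r hp) hK.2 hL.2

theorem weaklyRegular_prod (rs : List R) {M₁ M₂ : Type v} [AddCommGroup M₁] [Module R M₁]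
    [AddCommGroup M₂] [Module R M₂] (h₁ : IsWeaklyRegular M₁ rs) (h₂ : IsWeaklyRegular M₂ rs) :
    IsWeaklyRegular (M₁ × M₂) rs := by
  refine weaklyRegular_ext rs (LinearMap.inl R M₁ M₂) (LinearMap.snd R M₁ M₂)
    LinearMap.inl_injective ?_ LinearMap.snd_surjective h₁ h₂
  rw [LinearMap.exact_iff]
  exact (LinearMap.range_inl R M₁ M₂).symm ▸ rfl

theorem main (A : Type u) [CommRing A] [IsDomain A]
    [IsNoetherianRing A] [IsLocalRing A] (I J : Ideal A) (d : ℕ) (hd : 0 < d) (f : Fin d → A)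
    (hf : ∀ k, f k ∈ IsLocalRing.maximalIdeal A)
    (hI : RingTheory.Sequence.IsRegular (A ⧸ I) (List.ofFn f))
    (hJ : RingTheory.Sequence.IsRegular (A ⧸ J) (List.ofFn f))
    (hIJ : RingTheory.Sequence.IsRegular (A ⧸ (I ⊔ J)) ((List.ofFn f).take (d - 1))) :
    RingTheory.Sequence.IsRegular (A ⧸ (I ⊓ J)) (List.ofFn f) := by
  -- the maps
  let i : (A ⧸ (I ⊓ J)) →ₗ[A] (A ⧸ I) × (A ⧸ J) :=
    Submodule.liftQ (I ⊓ J) ((Submodule.mkQ I).prod (Submodule.mkQ J)) (by
      intro x hx
      rw [LinearMap.mem_ker, LinearMap.prod_apply]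
      show ((Submodule.mkQ I) x, (Submodule.mkQ J) x) = 0
      rw [Prod.mk_eq_zero]
      exact ⟨(Submodule.Quotient.mk_eq_zero I).mpr hx.1, (Submodule.Quotient.mk_eq_zero J).mpr hx.2⟩)
  let πI : (A ⧸ I) →ₗ[A] (A ⧸ (I ⊔ J)) := Submodule.mapQ I (I ⊔ J) LinearMap.id
    (fun x hx => (le_sup_left : I ≤ I ⊔ J) hx)
  let πJ : (A ⧸ J) →ₗ[A] (A ⧸ (I ⊔ J)) := Submodule.mapQ J (I ⊔ J) LinearMap.id
    (fun x hx => (le_sup_right : J ≤ I ⊔ J) hx)
  let p : (A ⧸ I) × (A ⧸ J) →ₗ[A] (A ⧸ (I ⊔ J)) :=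
    πI ∘ₗ LinearMap.fst A _ _ - πJ ∘ₗ LinearMap.snd A _ _
  have hi_apply : ∀ x : A, i (Submodule.Quotient.mk x) =
      (Submodule.Quotient.mk x, Submodule.Quotient.mk x) := fun x => rfl
  have hp_apply : ∀ a b : A, p (Submodule.Quotient.mk a, Submodule.Quotient.mk b) =
      Submodule.Quotient.mk (a - b) := fun a b => rfl
  have hi : Injective i := by
    rw [injective_iff_map_eq_zero]
    intro x hx
    obtain ⟨x, rfl⟩ := Submodule.Quotient.mk_surjective _ x
    rw [hi_apply, Prod.mk_eq_zero] at hx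
    exact (Submodule.Quotient.mk_eq_zero _).mpr
      ⟨(Submodule.Quotient.mk_eq_zero I).mp hx.1, (Submodule.Quotient.mk_eq_zero J).mp hx.2⟩
  have hp : Surjective p := by
    intro y
    obtain ⟨y, rfl⟩ := Submodule.Quotient.mk_surjective _ y
    refine ⟨(Submodule.Quotient.mk y, Submodule.Quotient.mk 0), ?_⟩
    rw [hp_apply, sub_zero]
  have hip : Exact i p := by
    rintro ⟨a, b⟩
    obtain ⟨a, rfl⟩ := Submodule.Quotient.mk_surjective _ a
    obtain ⟨b, rfl⟩ := Submodule.Quotient.mk_surjective _ b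
    rw [hp_apply]
    constructor
    · intro h
      have h' : a - b ∈ I ⊔ J := (Submodule.Quotient.mk_eq_zero _).mp h
      obtain ⟨u, hu, v, hv, huv⟩ := Submodule.mem_sup.mp h'
      refine ⟨Submodule.Quotient.mk (a - u), ?_⟩
      rw [hi_apply, Prod.mk.injEq]
      constructor
      · rw [Submodule.Quotient.eq]
        simpa using I.neg_mem hu
      · rw [Submodule.Quotient.eq]
        have : a - u - b = v := by linear_combination -huv
        rw [this]; exact hv
    · rintro ⟨x, hx⟩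
      obtain ⟨x, rfl⟩ := Submodule.Quotient.mk_surjective _ x
      rw [hi_apply, Prod.mk.injEq, Submodule.Quotient.eq, Submodule.Quotient.eq] at hx
      apply (Submodule.Quotient.mk_eq_zero _).mpr
      have : a - b = -(x - a) + (x - b) := by ring
      rw [this]
      exact Submodule.add_mem_sup (I.neg_mem hx.1) hx.2
  have hL : IsWeaklyRegular (A ⧸ (I ⊔ J)) (List.ofFn f).dropLast := by
    rw [List.dropLast_eq_take, List.length_ofFn]
    exact hIJ.toIsWeaklyRegular
  have hM : IsWeaklyRegular ((A ⧸ I) × (A ⧸ J)) (List.ofFn f) :=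
    weaklyRegular_prod _ hI.toIsWeaklyRegular hJ.toIsWeaklyRegular
  have hK : IsWeaklyRegular (A ⧸ (I ⊓ J)) (List.ofFn f) :=
    weaklyRegular_sub _ i p hi hip hp hM hL
  have hnt : Nontrivial (A ⧸ (I ⊓ J)) := by
    have h1 : Nontrivial (A ⧸ I) := hI.nontrivial
    have h2 : I ≠ ⊤ := Ideal.Quotient.nontrivial_iff.mp h1
    apply Ideal.Quotient.nontrivial_iff.mpr
    intro h
    exact h2 (top_le_iff.mp (h ▸ inf_le_left))
  refine RingTheory.Sequence.IsRegular.of_isWeaklyRegular_of_mem_maximalIdeal _ ?_ hK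
  intro r hr
  obtain ⟨k, rfl⟩ := (List.mem_ofFn' f r).mp hr
  exact hf k

end Aux

/-- Let A be a Noetherian local integral domain with maximal ideal m, I and J ideals of A, d ≥ 1, and
f_1, …, f_d ∈ m. Assume depth A/(I+J) ≥ d - 1, depth A/I ≥ d and depth A/J ≥ d (depths of the
quotients as A-modules), that f_1, …, f_d is a regular sequence on A/I and on A/J, and that f_1, …,
f_{d-1} is a regular sequence on A/(I+J). Then f_1, …, f_d is a regular sequence on A/(I ∩ J). -/
theorem result (A : Type u) [CommRing A] [IsDomain A]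
    [IsNoetherianRing A] [IsLocalRing A] (I J : Ideal A) (d : ℕ) (hd : 0 < d) (f : Fin d → A)
    (hf : ∀ k, f k ∈ IsLocalRing.maximalIdeal A)
    (hIJd : ((d - 1 : ℕ) : ℕ∞) ≤ LocCoh.depth A (A ⧸ (I ⊔ J)))
    (hId : (d : ℕ∞) ≤ LocCoh.depth A (A ⧸ I)) (hJd : (d : ℕ∞) ≤ LocCoh.depth A (A ⧸ J))
    (hI : RingTheory.Sequence.IsRegular (A ⧸ I) (List.ofFn f))
    (hJ : RingTheory.Sequence.IsRegular (A ⧸ J) (List.ofFn f))
    (hIJ : RingTheory.Sequence.IsRegular (A ⧸ (I ⊔ J)) ((List.ofFn f).take (d - 1))) :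
    RingTheory.Sequence.IsRegular (A ⧸ (I ⊓ J)) (List.ofFn f) := by
  exact Aux.main A I J d hd f hf hI hJ hIJ

end Groth.Agent.S11257
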