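import Groth.Statements.S11268
import Mathlib.Tactic

set_option autoImplicit false
open W4bk4grassmannian

namespace Groth.Agent.S11268

open W4bk4grassmannian in
/-- Let τ < w in I(d,n), the strictly increasing maps Fin d → Fin n ordered entrywise. Then there is a
Schubert divisor φ of w, i.e. φ < w with Σ_t (φ_t - t) + 1 = Σ_t (w_t - t), such that τ ≤ φ: every
proper Schubert subvariety of X(w) lies in a Schubert divisor of X(w). -/
theorem result (d n : ℕ) (τ w : Idx d n) (h : τ < w) :
    ∃ φ ∈ divisors w, τ ≤ φ := by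
  classical
  have hidle : ∀ (σ : Idx d n) (t : Fin d), t.val ≤ (σ.1 t).val := by
    intro σ t
    obtain ⟨m, hm⟩ := t
    induction m with
    | zero => exact Nat.zero_le _
    | succ m ih =>
      have hm' : m < d := by omega
      have h1 : m ≤ (σ.1 ⟨m, hm'⟩).val := ih hm'
      have h2 : σ.1 ⟨m, hm'⟩ < σ.1 ⟨m + 1, hm⟩ := σ.2 (by rw [Fin.lt_def]; simp)
      rw [Fin.lt_def] at h2
      show m + 1 ≤ _
      omega
  have hle : ∀ t, τ.1 t ≤ w.1 t := fun t => (le_of_lt h : τ ≤ w) t
  have hne : ∃ t, τ.1 t < w.1 t := by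
    by_contra hno
    push Not at hno
    have : τ = w := Subtype.ext (funext fun t => le_antisymm (hle t) (hno t))
    exact (ne_of_lt h) this
  let S : Finset (Fin d) := Finset.univ.filter fun t : Fin d => τ.1 t < w.1 t
  have hS : S.Nonempty := by
    obtain ⟨t, ht⟩ := hne
    exact ⟨t, Finset.mem_filter.2 ⟨Finset.mem_univ _, ht⟩⟩
  let t := S.min' hS
  have ht : τ.1 t < w.1 t := (Finset.mem_filter.1 (S.min'_mem hS)).2
  have hmin : ∀ s, s < t → τ.1 s = w.1 s := by
    intro s hs
    refine le_antisymm (hle s) (not_lt.1 fun hlt => ?_)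
    have : s ∈ S := Finset.mem_filter.2 ⟨Finset.mem_univ _, hlt⟩
    exact absurd (S.min'_le s this) (not_le.2 hs)
  have htv : (τ.1 t).val < (w.1 t).val := ht
  have hvlt : (w.1 t).val - 1 < n := by have := (w.1 t).isLt; omega
  let v : Fin n := ⟨(w.1 t).val - 1, hvlt⟩
  let φf : Fin d → Fin n := Function.update w.1 t v
  have hφt : φf t = v := Function.update_self ..
  have hφs : ∀ s, s ≠ t → φf s = w.1 s := fun s hs => Function.update_of_ne hs ..
  have hmono : StrictMono φf := by
    intro a b hab
    by_cases ha : a = t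
    · have hb : b ≠ t := by rw [← ha]; exact ne_of_gt hab
      rw [ha, hφt, hφs b hb]
      have h1 := w.2 hab
      rw [ha, Fin.lt_def] at h1
      rw [Fin.lt_def]
      show (w.1 t).val - 1 < _
      omega
    · by_cases hb : b = t
      · rw [hφs a ha, hb, hφt]
        have hab' : a < t := hb ▸ hab
        have h1 : τ.1 a = w.1 a := hmin a hab'
        have h2 := τ.2 hab'
        rw [Fin.lt_def] at h2 ⊢
        rw [← h1]
        show _ < (w.1 t).val - 1
        omega
      · rw [hφs a ha, hφs b hb]
        exact w.2 hab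
  let φ : Idx d n := ⟨φf, hmono⟩
  have hφw : φ ≤ w := by
    intro s
    show φf s ≤ w.1 s
    by_cases hs : s = t
    · rw [hs, hφt, Fin.le_def]
      show (w.1 t).val - 1 ≤ _
      omega
    · rw [hφs s hs]
  refine ⟨φ, ⟨?_, ?_⟩, ?_⟩
  · refine lt_of_le_of_ne hφw fun heq => ?_
    have h1 : φf t = w.1 t := congrFun (congrArg Subtype.val heq) t
    rw [hφt] at h1
    have h2 := congrArg Fin.val h1
    have h3 : (w.1 t).val - 1 = (w.1 t).val := h2
    omega
  · unfold codeg
    rw [← Finset.add_sum_erase _ _ (Finset.mem_univ t), ← Finset.add_sum_erase _ _ (Finset.mem_univ t)]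
    have hrest : ∑ x ∈ Finset.univ.erase t, ((φ.1 x).val - x.val)
        = ∑ x ∈ Finset.univ.erase t, ((w.1 x).val - x.val) := by
      refine Finset.sum_congr rfl fun s hs => ?_
      have hs' : s ≠ t := Finset.ne_of_mem_erase hs
      show (φf s).val - s.val = _
      rw [hφs s hs']
    rw [hrest]
    have h1 : (φ.1 t).val = (w.1 t).val - 1 := by
      show (φf t).val = _
      rw [hφt]
    have h2 := hidle τ t
    rw [h1]
    omega
  · intro s
    show τ.1 s ≤ φf s
    by_cases hs : s = t
    · rw [hs, hφt, Fin.le_def]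
      show _ ≤ (w.1 t).val - 1
      omega
    · rw [hφs s hs]
      exact hle s

end Groth.Agent.S11268
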