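import Groth.Statements.S11280
import Mathlib
import Groth.Agent.Lib.Helper1.SmLift

set_option autoImplicit false
universe u
open Deform

namespace Groth.Agent.S11280

/-- Let k be an algebraically closed field, A a local Artinian k-algebra with residue field k and t an
element of the maximal ideal of A annihilated by the maximal ideal, so that A is a small extension
of A/tA. Let B be a flat A-algebra whose closed fibre B/m_A B is a formally smooth k-algebra (an
infinitesimal deformation over A of a formally smooth k-algebra). Then every A-algebra automorphism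
of B/tB is induced by an A-algebra automorphism of B. (The published statement asks the automorphism
of B/tB to induce the identity on B/m_A B; this row does not. The published statement takes the
closed fibre smooth, that is formally smooth and essentially of finite type; this row asks the
closed fibre to be formally smooth over k in the sense of lifting along all square-zero surjections
of commutative k-algebras, with no finiteness condition.) -/
theorem result
    {k : Type u} [Field k] [IsAlgClosed k]
    {A : Type u} [CommRing A] [Algebra k A] [IsLocalRing A] [IsArtinianRing A]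
    (hres : ∀ a : A, ∃ c : k, a - algebraMap k A c ∈ IsLocalRing.maximalIdeal A)
    (t : A) (ht : t ∈ IsLocalRing.maximalIdeal A)
    (htm : ∀ a ∈ IsLocalRing.maximalIdeal A, a * t = 0)
    {B : Type u} [CommRing B] [Algebra A B] [Module.Flat A B] [Algebra k B] [IsScalarTower k A B]
    (hsm : Algebra.FormallySmooth k (B ⧸ (IsLocalRing.maximalIdeal A).map (algebraMap A B)))
    (σ : (B ⧸ Ideal.span {algebraMap A B t}) ≃ₐ[A] (B ⧸ Ideal.span {algebraMap A B t})) :
    ∃ τ : B ≃ₐ[A] B, ∀ b : B,
      Ideal.Quotient.mk (Ideal.span {algebraMap A B t}) (τ b) =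
        σ (Ideal.Quotient.mk (Ideal.span {algebraMap A B t}) b) := by
  classical
  have htt : t * t = 0 := htm t ht
  have hTT : algebraMap A B t * algebraMap A B t = 0 := by rw [← map_mul, htt, map_zero]
  have hI2 : ∀ x ∈ Ideal.span {algebraMap A B t}, ∀ y ∈ Ideal.span {algebraMap A B t},
      x * y = 0 := by
    intro x hx y hy
    obtain ⟨x', rfl⟩ := Ideal.mem_span_singleton'.mp hx
    obtain ⟨y', rfl⟩ := Ideal.mem_span_singleton'.mp hy
    calc x' * algebraMap A B t * (y' * algebraMap A B t)
        = x' * y' * (algebraMap A B t * algebraMap A B t) := by ring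
      _ = 0 := by rw [hTT, mul_zero]
  have hmI : ∀ a ∈ IsLocalRing.maximalIdeal A, ∀ x ∈ Ideal.span {algebraMap A B t},
      a • x = 0 := by
    intro a ha x hx
    obtain ⟨x', rfl⟩ := Ideal.mem_span_singleton'.mp hx
    rw [Algebra.smul_def, mul_left_comm, ← map_mul, htm a ha, map_zero, mul_zero]
  have := hsm
  obtain ⟨ψ, hψ⟩ := Groth.Agent.Helper1.SmLift.exists_lift (k := k) (IsLocalRing.maximalIdeal A)
    (Ideal.span {algebraMap A B t})
    (σ.toAlgHom.comp (Ideal.Quotient.mkₐ A (Ideal.span {algebraMap A B t}))) hI2 hmI hres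
  have hψ' : ∀ b, Ideal.Quotient.mk (Ideal.span {algebraMap A B t}) (ψ b) =
      σ (Ideal.Quotient.mk (Ideal.span {algebraMap A B t}) b) := hψ
  have hψT : ∀ b, ψ (b * algebraMap A B t) = ψ b * algebraMap A B t := by
    intro b; rw [map_mul, AlgHom.commutes]
  have hsurj : Function.Surjective ψ := by
    intro b
    have key : ∀ b : B, ∃ b₁ b₂ : B, b = ψ b₁ + b₂ * algebraMap A B t := by
      intro b
      obtain ⟨q, hq⟩ := σ.surjective (Ideal.Quotient.mk _ b)
      obtain ⟨b₁, rfl⟩ := Ideal.Quotient.mk_surjective q
      rw [← hψ', Ideal.Quotient.eq, Ideal.mem_span_singleton'] at hq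
      obtain ⟨b₂, hb₂⟩ := hq
      exact ⟨b₁, -b₂, by rw [neg_mul, hb₂]; ring⟩
    obtain ⟨b₁, b₂, rfl⟩ := key b
    obtain ⟨b₃, b₄, rfl⟩ := key b₂
    refine ⟨b₁ + b₃ * algebraMap A B t, ?_⟩
    rw [map_add, hψT, add_mul, mul_assoc b₄, hTT, mul_zero, add_zero]
  have hinj : Function.Injective ψ := by
    rw [injective_iff_map_eq_zero]
    intro b hb
    have h1 : σ (Ideal.Quotient.mk (Ideal.span {algebraMap A B t}) b) = 0 := by
      rw [← hψ', hb, map_zero]
    rw [map_eq_zero_iff σ σ.injective, Ideal.Quotient.eq_zero_iff_mem,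
      Ideal.mem_span_singleton'] at h1
    obtain ⟨b₁, rfl⟩ := h1
    by_cases ht0 : t = 0
    · rw [ht0, map_zero, mul_zero]
    rw [hψT, mul_comm] at hb
    have h2 := Groth.Agent.Helper1.AutDef.mem_of_T_mul_eq_zero t ht0 htm hb
    -- `σ (mk b₁) ∈ 𝔪 (B/I)`
    have h3 : σ (Ideal.Quotient.mk (Ideal.span {algebraMap A B t}) b₁) ∈
        Ideal.map (algebraMap A (B ⧸ Ideal.span {algebraMap A B t}))
          (IsLocalRing.maximalIdeal A) := by
      rw [← hψ']
      have := Ideal.mem_map_of_mem (Ideal.Quotient.mk (Ideal.span {algebraMap A B t})) h2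
      rw [Ideal.map_map] at this
      exact this
    have h4 : Ideal.Quotient.mk (Ideal.span {algebraMap A B t}) b₁ ∈
        Ideal.map (algebraMap A (B ⧸ Ideal.span {algebraMap A B t}))
          (IsLocalRing.maximalIdeal A) := by
      have := Ideal.mem_map_of_mem σ.symm.toAlgHom.toRingHom h3
      rw [Ideal.map_map] at this
      have e : (σ.symm.toAlgHom.toRingHom.comp
          (algebraMap A (B ⧸ Ideal.span {algebraMap A B t}))) =
          algebraMap A (B ⧸ Ideal.span {algebraMap A B t}) := by
        ext a; simp
      rw [e] at this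
      simpa using this
    have h5 : Ideal.map (algebraMap A (B ⧸ Ideal.span {algebraMap A B t}))
          (IsLocalRing.maximalIdeal A) =
        Ideal.map (Ideal.Quotient.mk (Ideal.span {algebraMap A B t}))
          (Ideal.map (algebraMap A B) (IsLocalRing.maximalIdeal A)) := by
      rw [Ideal.map_map]; rfl
    rw [h5] at h4
    obtain ⟨n, hn, hnb⟩ := (Ideal.mem_map_iff_of_surjective _ Ideal.Quotient.mk_surjective).mp h4
    rw [Ideal.Quotient.eq, Ideal.mem_span_singleton'] at hnb
    obtain ⟨c, hc⟩ := hnb
    have hb₁ : b₁ ∈ Ideal.map (algebraMap A B) (IsLocalRing.maximalIdeal A) := by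
      have : b₁ = n - c * algebraMap A B t := by rw [hc]; ring
      rw [this]
      exact Ideal.sub_mem _ hn (Ideal.mul_mem_left _ _ (Ideal.mem_map_of_mem _ ht))
    rw [mul_comm]
    exact Groth.Agent.Helper1.AutDef.T_mul_eq_zero t htm hb₁
  exact ⟨AlgEquiv.ofBijective ψ ⟨hinj, hsurj⟩, hψ'⟩

end Groth.Agent.S11280
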