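import Groth.Statements.S11282
import Mathlib

set_option autoImplicit false
universe u
open Deform

namespace Groth.Agent.S11282

/-- Let k be an algebraically closed field, Λ a complete local Noetherian k-algebra with residue field
k, and R a local Noetherian Λ-algebra with local structure map, residue field k and maximal ideal m.
Then for some n the pull-back map o((R/m^(n+1))/Λ) → o(R/Λ) on obstruction spaces is onto: every
Λ-extension 0 → k → E → R → 0 of R by its residue field is the inverse image of a Λ-extension of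
R/m^(n+1) by k. Concretely, the middle ring E of every such extension contains an ideal I which
meets the kernel k only in 0 and whose image in R is exactly m^(n+1) (then E/I is an extension of
R/m^(n+1) by k whose inverse image along R → R/m^(n+1) is E). -/
theorem result
    {k : Type u} [Field k] [IsAlgClosed k]
    {Λ : Type u} [CommRing Λ] [Algebra k Λ] [IsLocalRing Λ] [IsNoetherianRing Λ]
    [IsAdicComplete (IsLocalRing.maximalIdeal Λ) Λ]
    (hΛ : ∀ a : Λ, ∃ c : k, a - algebraMap k Λ c ∈ IsLocalRing.maximalIdeal Λ)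
    {R : Type u} [CommRing R] [Algebra Λ R] [IsLocalRing R] [IsNoetherianRing R]
    [IsLocalHom (algebraMap Λ R)]
    (hR : ∀ r : R, ∃ c : k, r - algebraMap Λ R (algebraMap k Λ c) ∈ IsLocalRing.maximalIdeal R) :
    ∃ n : ℕ, ∀ X : Exal.Ext Λ R (IsLocalRing.ResidueField R),
      ∃ I : Ideal X.E, (∀ x ∈ I, X.proj x = 0 → x = 0) ∧
        Ideal.map X.proj I = IsLocalRing.maximalIdeal R ^ (n + 1) := by
  classical
  obtain ⟨d, x, hx⟩ := Submodule.fg_iff_exists_fin_generating_family.mp
    (IsNoetherian.noetherian (IsLocalRing.maximalIdeal R))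
  have hxm : ∀ i, x i ∈ IsLocalRing.maximalIdeal R := fun i => by
    rw [← hx]
    exact Submodule.subset_span ⟨i, rfl⟩
  obtain ⟨dd, hdd⟩ : ∃ dd : (Fin d → R) →ₗ[R] R, ∀ v, dd v = ∑ i, v i * x i :=
    ⟨Fintype.linearCombination R x, fun v => by
      rw [Fintype.linearCombination_apply]
      simp only [smul_eq_mul]⟩
  obtain ⟨c, hc⟩ := Ideal.exists_pow_inf_eq_pow_smul (IsLocalRing.maximalIdeal R)
    (LinearMap.ker dd)
  refine ⟨c + 1, fun X => ?_⟩
  have hps := X.isExtension.proj_surjective
  choose y hy using fun i => hps (x i)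
  have hkill : ∀ (e : X.E) (s : R), X.proj e = s → s ∈ IsLocalRing.maximalIdeal R →
      ∀ w : X.E, X.proj w = 0 → e * w = 0 := by
    intro e s he hs w hw
    obtain ⟨l, rfl⟩ := (X.isExtension.exact w).mp hw
    rw [X.isExtension.mul_incl, he]
    have h0 : s • l = 0 := by
      rw [Algebra.smul_def, IsLocalRing.ResidueField.algebraMap_eq,
        (IsLocalRing.residue_eq_zero_iff s).mpr hs, zero_mul]
    rw [h0, map_zero]
  have pi_mem : ∀ (I : Ideal R) (v : Fin d → R), (∀ i, v i ∈ I) →
      v ∈ I • (⊤ : Submodule R (Fin d → R)) := by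
    intro I v hv
    rw [pi_eq_sum_univ v]
    exact Submodule.sum_mem _ fun i _ => Submodule.smul_mem_smul (hv i) Submodule.mem_top
  have claim : ∀ r ∈ (IsLocalRing.maximalIdeal R) • LinearMap.ker dd, ∀ e : Fin d → X.E,
      (∀ i, X.proj (e i) = r i) → ∑ i, e i * y i = 0 := by
    intro r hr
    refine Submodule.smul_induction_on hr ?_ ?_
    · intro s hs z hz e he
      obtain ⟨s', hs'⟩ := hps s
      choose z' hz' using fun i => hps (z i)
      have h1 : ∀ i, (e i - s' * z' i) * y i = 0 := by
        intro i
        rw [mul_comm]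
        apply hkill (y i) (x i) (hy i) (hxm i)
        rw [map_sub, map_mul, he, hs', hz', Pi.smul_apply, smul_eq_mul, sub_self]
      have h2 : X.proj (∑ i, z' i * y i) = 0 := by
        rw [map_sum]
        simp only [map_mul, hz', hy]
        rw [← hdd]
        exact hz
      have h3 : s' * ∑ i, z' i * y i = 0 := hkill s' s hs' hs _ h2
      calc ∑ i, e i * y i = ∑ i, ((e i - s' * z' i) * y i + s' * (z' i * y i)) := by
            apply Finset.sum_congr rfl
            intro i _
            ring
        _ = 0 := by
            rw [Finset.sum_add_distrib, Finset.sum_congr rfl (fun i _ => h1 i),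
              Finset.sum_const_zero, zero_add, ← Finset.mul_sum, h3]
    · intro r₁ r₂ h₁ h₂ e he
      choose e₁ he₁ using fun i => hps (r₁ i)
      have h3 := h₁ e₁ he₁
      have h4 := h₂ (fun i => e i - e₁ i) (fun i => by
        rw [map_sub, he, he₁, Pi.add_apply, add_sub_cancel_left])
      calc ∑ i, e i * y i = ∑ i, e₁ i * y i + ∑ i, (e i - e₁ i) * y i := by
            rw [← Finset.sum_add_distrib]
            apply Finset.sum_congr rfl
            intro i _
            ring
        _ = 0 := by rw [h3, h4, add_zero]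
  refine ⟨Ideal.span (Set.range y) *
    Ideal.comap X.proj (IsLocalRing.maximalIdeal R ^ (c + 1)), ?_, ?_⟩
  · intro w hw hw0
    rw [mul_comm] at hw
    have hw' : w ∈ (Ideal.comap X.proj (IsLocalRing.maximalIdeal R ^ (c + 1))) •
        Submodule.span X.E (Set.range y) := hw
    obtain ⟨a, ha, hsum⟩ := (Submodule.mem_ideal_smul_span_iff_exists_sum _ y w).mp hw'
    rw [Finsupp.sum_fintype a (fun i c => c • y i) (fun i => zero_smul _ _)] at hsum
    obtain ⟨r, hr⟩ : ∃ r : Fin d → R, ∀ i, r i = X.proj (a i) := ⟨fun i => X.proj (a i), fun _ => rfl⟩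
    have hrZ : r ∈ LinearMap.ker dd := by
      rw [LinearMap.mem_ker, hdd, ← hw0, ← hsum, map_sum]
      apply Finset.sum_congr rfl
      intro i _
      rw [smul_eq_mul, map_mul, hr, hy]
    have hrm : r ∈ (IsLocalRing.maximalIdeal R ^ (c + 1)) • (⊤ : Submodule R (Fin d → R)) := by
      apply pi_mem
      intro i
      rw [hr]
      exact ha i
    have hr2 : r ∈ (IsLocalRing.maximalIdeal R ^ (c + 1)) • (⊤ : Submodule R (Fin d → R)) ⊓
        LinearMap.ker dd := ⟨hrm, hrZ⟩
    rw [hc (c + 1) (Nat.le_succ c)] at hr2
    have hone : c + 1 - c = 1 := by omega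
    rw [hone, pow_one] at hr2
    have hr3 : r ∈ (IsLocalRing.maximalIdeal R) • LinearMap.ker dd :=
      Submodule.smul_mono le_rfl inf_le_right hr2
    have h5 := claim r hr3 (fun i => a i) (fun i => (hr i).symm)
    rw [← hsum]
    simp only [smul_eq_mul]
    exact h5
  · rw [Ideal.map_mul, Ideal.map_comap_of_surjective X.proj hps, Ideal.map_span,
      ← Set.range_comp]
    have hxy : (X.proj ∘ y) = x := funext hy
    rw [hxy, show Ideal.span (Set.range x) = IsLocalRing.maximalIdeal R from hx]
    exact (pow_succ' _ _).symm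

end Groth.Agent.S11282
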