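import Groth.Statements.S11284
import Mathlib
-- import your own Groth.Agent.* helpers here

set_option autoImplicit false
universe u
open Deform

namespace Groth.Agent.S11284

namespace Aux

open Algebra

/-- In a reduced ring, a submodule element of a projective module that is killed at every minimal prime is zero. -/
theorem eq_zero_of_forall_minimal {B M : Type u} [CommRing B] [IsReduced B] [AddCommGroup M] [Module B M]
    [Module.Projective B M] (y : M)
    (h : ∀ p : Ideal B, p ∈ minimalPrimes B → ∃ s : B, s ∉ p ∧ s • y = 0) : y = 0 := by
  obtain ⟨ι, hι⟩ := Module.projective_def'.1 (inferInstance : Module.Projective B M)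
  have hinj : Function.Injective ι := by
    intro a b hab
    have := congrArg (Finsupp.linearCombination B id) hab
    rwa [← LinearMap.comp_apply, ← LinearMap.comp_apply, hι] at this
  apply hinj
  rw [map_zero]
  ext j
  rw [Finsupp.zero_apply]
  have hmem : ι y j ∈ nilradical B := by
    rw [nilradical_eq_sInf, Ideal.mem_sInf]
    intro q hq
    have hq' : q.IsPrime := hq
    obtain ⟨p, hpmin, hpq⟩ := Ideal.exists_minimalPrimes_le (I := ⊥) (J := q) bot_le
    obtain ⟨s, hs, hsy⟩ := h p hpmin
    have : s * ι y j = 0 := by
      have := congrArg (fun v => ι v j) hsy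
      simpa using this
    have hp' : p.IsPrime := hpmin.1.1
    have : ι y j ∈ p := by
      rcases hp'.mem_or_mem (this ▸ p.zero_mem : s * ι y j ∈ p) with h1 | h1
      · exact absurd h1 hs
      · exact h1
    exact hpq this
  rw [nilradical_eq_zero] at hmem
  exact hmem

theorem main {k : Type u} [Field k]
    {A B : Type u} [CommRing A] [CommRing B] [Algebra k A] [Algebra k B] [Algebra A B]
    [IsScalarTower k A B] [Algebra.FiniteType k A] [Algebra.FiniteType k B] [IsReduced B]
    (hsm : ∀ p : PrimeSpectrum B, p.asIdeal ∈ minimalPrimes B → Algebra.IsSmoothAt A p.asIdeal)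
    (P : Algebra.Extension.{u} A B)
    [Module.Projective B P.Cotangent] :
    Function.Injective P.cotangentComplex := by
  haveI : Algebra.FiniteType A B := Algebra.FiniteType.of_restrictScalars_finiteType k A B
  rw [← LinearMap.ker_eq_bot, eq_bot_iff]
  intro y hy
  rw [Submodule.mem_bot]
  apply eq_zero_of_forall_minimal (B := B) y
  intro p hp
  haveI hpp : p.IsPrime := hp.1.1
  have hsmp : (⟨p, hpp⟩ : PrimeSpectrum B) ∈ Algebra.smoothLocus A B := hsm ⟨p, hpp⟩ hp
  rw [Algebra.smoothLocus_eq_compl_support_inter] at hsmp
  have hsupp := hsmp.1
  rw [Set.mem_compl_iff, Module.notMem_support_iff'] at hsupp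
  -- y comes from H1Cotangent A B
  obtain ⟨x, hx⟩ := Algebra.Extension.H1Cotangent.map_defaultHom_surjective P ⟨y, hy⟩
  obtain ⟨s, hs, hsx⟩ := hsupp x
  refine ⟨s, hs, ?_⟩
  have := congrArg (fun z => Algebra.Extension.H1Cotangent.map P.defaultHom z) hsx
  simp only [map_smul, map_zero] at this
  rw [hx] at this
  have h2 := congrArg Subtype.val this
  exact h2

end Aux

/-- Let k be an algebraically closed field and A → B a map of finitely generated k-algebras with B
reduced and smooth over A at every minimal prime of B (the morphism Spec B → Spec A is smooth on a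
dense open subset). Let E → B be a surjection of A-algebras whose kernel I has square zero and is,
as a B-module, finitely generated and projective (an extension of B over A by a locally free
module). Then the conormal map I = I/I^2 → B ⊗_E Ω_{E/A} is injective, so that the relative conormal
sequence 0 → I → B ⊗_E Ω_{E/A} → Ω_{B/A} → 0 of the extension is exact also on the left. This is the
affine case of the statement for a morphism of finite type of algebraic schemes and a coherent
locally free kernel. -/
theorem result
    {k : Type u} [Field k] [IsAlgClosed k]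
    {A B : Type u} [CommRing A] [CommRing B] [Algebra k A] [Algebra k B] [Algebra A B]
    [IsScalarTower k A B] [Algebra.FiniteType k A] [Algebra.FiniteType k B] [IsReduced B]
    (hsm : ∀ p : PrimeSpectrum B, p.asIdeal ∈ minimalPrimes B → Algebra.IsSmoothAt A p.asIdeal)
    (P : Algebra.Extension.{u} A B) (hsq : P.ker ^ 2 = ⊥)
    [Module.Finite B P.Cotangent] [Module.Projective B P.Cotangent] :
    Function.Injective P.cotangentComplex := by
  exact Aux.main (k := k) hsm P

end Groth.Agent.S11284
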