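import Groth.Statements.S11285
import Mathlib
import Groth.Agent.Lib.Helper9.Exal.Lift
-- import your own Groth.Agent.* helpers here

set_option autoImplicit false
universe u
open Deform

namespace Groth.Agent.S11285

namespace Aux

open Algebra KaehlerDifferential TensorProduct

theorem exists_lift_derivation {A E B N : Type u} [CommRing A] [CommRing E] [CommRing B] [Algebra A E] [Algebra E B]
    [Algebra A B] [IsScalarTower A E B] [AddCommGroup N] [Module B N] [Module E N] [Module A N]
    [IsScalarTower E B N] [IsScalarTower A E N] (δ : Derivation A E N) :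
    ∃ φ : B ⊗[E] Ω[E⁄A] →ₗ[B] N, ∀ x, φ (1 ⊗ₜ D A E x) = δ x :=
  ⟨LinearMap.liftBaseChange B δ.liftKaehlerDifferential, by simp⟩

theorem five {B : Type u} [CommRing B] {C S M N W : Type u} [AddCommGroup C] [AddCommGroup S]
    [AddCommGroup M] [AddCommGroup N] [AddCommGroup W] [Module B C] [Module B S] [Module B M]
    [Module B N] [Module B W]
    (c : C →ₗ[B] S) (t : S →ₗ[B] W) (hct : Function.Exact c t) (ht : Function.Surjective t)
    (i : M →ₗ[B] N) (q : N →ₗ[B] W) (hi : Function.Injective i) (hiq : Function.Exact i q)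
    (e₁ : C ≃ₗ[B] M) (φ : S →ₗ[B] N) (h1 : ∀ x, φ (c x) = i (e₁ x)) (h2 : ∀ y, q (φ y) = t y) :
    Function.Bijective φ := by
  constructor
  · rw [injective_iff_map_eq_zero]
    intro y hy
    have : t y = 0 := by rw [← h2, hy, map_zero]
    obtain ⟨x, rfl⟩ := (hct y).1 this
    rw [h1] at hy
    have : e₁ x = 0 := hi (by rw [hy, map_zero])
    rw [e₁.map_eq_zero_iff.1 this, map_zero]
  · intro n
    obtain ⟨y0, hy0⟩ := ht (q n)
    have : q (n - φ y0) = 0 := by rw [map_sub, h2, hy0, sub_self]
    obtain ⟨m, hm⟩ := (hiq _).1 this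
    refine ⟨y0 + c (e₁.symm m), ?_⟩
    rw [map_add, h1, LinearEquiv.apply_symm_apply, hm]; abel


section ring
variable (A B N : Type u) [CommRing A] [CommRing B] [Algebra A B] [AddCommGroup N] [Module B N]

@[reducible] def opMod : Module Bᵐᵒᵖ N := Module.compHom N ((RingHom.id B).fromOpposite mul_comm)

attribute [local instance] opMod

theorem isCentral : IsCentralScalar B N := ⟨fun _ _ => rfl⟩

attribute [local instance] isCentral

variable {B N} (q : N →ₗ[B] Ω[B⁄A])

/-- the subring of `B ⊕ N` of pairs `(b, n)` with `d b = q n` -/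
def ESub : Subring (TrivSqZeroExt B N) where
  carrier := {x | D A B x.fst = q x.snd}
  mul_mem' := by
    intro x y hx hy
    simp only [Set.mem_ofPred_eq] at hx hy ⊢
    rw [TrivSqZeroExt.fst_mul, TrivSqZeroExt.snd_mul, Derivation.leibniz, map_add, hx, hy]
    simp [op_smul_eq_smul]
  one_mem' := by simp
  add_mem' := by
    intro x y hx hy
    simp only [Set.mem_ofPred_eq] at hx hy ⊢
    simp [hx, hy]
  zero_mem' := by simp
  neg_mem' := by
    intro x hx
    simp only [Set.mem_ofPred_eq] at hx ⊢
    simp [hx]

theorem mem_ESub (x : TrivSqZeroExt B N) : x ∈ ESub A q ↔ D A B x.fst = q x.snd := Iff.rfl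

/-- structure map `A → E` -/
def ιE : A →+* ESub A q :=
  ((TrivSqZeroExt.inlHom B N : B →+* TrivSqZeroExt B N).comp (algebraMap A B)).codRestrict (ESub A q)
    (fun a => by
      rw [mem_ESub]
      simp)

instance algE : Algebra A (ESub A q) := (ιE A q).toAlgebra

theorem algebraMap_E (a : A) :
    ((algebraMap A (ESub A q) a : ESub A q) : TrivSqZeroExt B N) = TrivSqZeroExt.inl (algebraMap A B a) := rfl

/-- projection `E → B` -/
def fstE : ESub A q →ₐ[A] B where
  toFun x := (x : TrivSqZeroExt B N).fst
  map_one' := by simp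
  map_mul' x y := by simp
  map_zero' := by simp
  map_add' x y := by simp
  commutes' a := by
    rw [algebraMap_E]; simp

theorem fstE_apply (x : ESub A q) : fstE A q x = (x : TrivSqZeroExt B N).fst := rfl

theorem fstE_surjective (hq : Function.Surjective q) : Function.Surjective (fstE A q) := by
  intro b
  obtain ⟨n, hn⟩ := hq (D A B b)
  refine ⟨⟨TrivSqZeroExt.inl b + TrivSqZeroExt.inr n, ?_⟩, ?_⟩
  · rw [mem_ESub]; simp [hn]
  · rw [fstE_apply]; simp

/-- the extension -/
noncomputable def PExt (hq : Function.Surjective q) : Algebra.Extension.{u} A B :=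
  Algebra.Extension.ofSurjective (fstE A q) (fstE_surjective A q hq)

section ext
variable (hq : Function.Surjective q)

theorem algebraMap_PExt (x : (PExt A q hq).Ring) :
    algebraMap (PExt A q hq).Ring B x = fstE A q x := rfl

/-- coercion of elements of the extension ring into `B ⊕ N` -/
def toT (x : (PExt A q hq).Ring) : TrivSqZeroExt B N := ((show ESub A q from x) : TrivSqZeroExt B N)

theorem toT_injective : Function.Injective (toT A q hq) := Subtype.val_injective

theorem fst_toT (x : (PExt A q hq).Ring) : (toT A q hq x).fst = algebraMap (PExt A q hq).Ring B x := rfl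

theorem toT_mul (x y : (PExt A q hq).Ring) : toT A q hq (x * y) = toT A q hq x * toT A q hq y := rfl
theorem toT_add (x y : (PExt A q hq).Ring) : toT A q hq (x + y) = toT A q hq x + toT A q hq y := rfl
theorem toT_zero : toT A q hq 0 = 0 := rfl
theorem toT_algebraMap (a : A) :
    toT A q hq (algebraMap A (PExt A q hq).Ring a) = TrivSqZeroExt.inl (algebraMap A B a) := rfl

theorem toT_mem (x : (PExt A q hq).Ring) : D A B (toT A q hq x).fst = q (toT A q hq x).snd :=
  (show ESub A q from x).2

/-- elements from `ker q` -/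
def ofKer (n : N) (hn : q n = 0) : (PExt A q hq).Ring :=
  (⟨TrivSqZeroExt.inr n, by rw [mem_ESub]; simp [hn]⟩ : ESub A q)

theorem toT_ofKer (n : N) (hn : q n = 0) : toT A q hq (ofKer A q hq n hn) = TrivSqZeroExt.inr n := rfl

theorem ofKer_mem_ker (n : N) (hn : q n = 0) : ofKer A q hq n hn ∈ (PExt A q hq).ker := by
  change algebraMap (PExt A q hq).Ring B _ = 0
  rw [← fst_toT, toT_ofKer]; simp

theorem ker_sq : (PExt A q hq).ker ^ 2 = ⊥ := by
  rw [eq_bot_iff, pow_two, Ideal.mul_le]
  intro x hx y hy
  rw [Ideal.mem_bot]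
  apply toT_injective A q hq
  have hx0 : (toT A q hq x).fst = 0 := hx
  have hy0 : (toT A q hq y).fst = 0 := hy
  rw [toT_mul, toT_zero]
  ext
  · simp [hx0]
  · simp [hx0, hy0]

variable {M : Type u} [AddCommGroup M] [Module B M] (i : M →ₗ[B] N) (hex : Function.Exact i q)

/-- `M → I/I²` -/
noncomputable def gMap : M →ₗ[B] (PExt A q hq).Cotangent where
  toFun m := Algebra.Extension.Cotangent.mk
    ⟨ofKer A q hq (i m) ((hex _).2 ⟨m, rfl⟩), ofKer_mem_ker A q hq _ _⟩
  map_add' m m' := by
    rw [← map_add]
    congr 1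
    apply Subtype.ext
    apply toT_injective A q hq
    change _ = toT A q hq _ + toT A q hq _
    simp only [toT_ofKer, map_add, TrivSqZeroExt.inr_add]
  map_smul' b m := by
    obtain ⟨e, rfl⟩ := (PExt A q hq).algebraMap_surjective b
    rw [RingHom.id_apply]
    conv_rhs => rw [algebraMap_smul, ← map_smul]
    congr 1
    apply Subtype.ext
    apply toT_injective A q hq
    change _ = toT A q hq (e * _)
    rw [toT_mul, toT_ofKer, toT_ofKer, map_smul]
    ext
    · simp
    · simp [fst_toT]

theorem gMap_apply (m : M) : gMap A q hq i hex m = Algebra.Extension.Cotangent.mk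
    ⟨ofKer A q hq (i m) ((hex _).2 ⟨m, rfl⟩), ofKer_mem_ker A q hq _ _⟩ := rfl

include hex in
theorem gMap_bijective (hi : Function.Injective i) : Function.Bijective (gMap A q hq i hex) := by
  constructor
  · rw [injective_iff_map_eq_zero]
    intro m hm
    rw [gMap_apply, Algebra.Extension.Cotangent.mk_eq_zero_iff, ker_sq, Ideal.mem_bot] at hm
    have := congrArg (fun x => (toT A q hq x).snd) hm
    simp only [toT_ofKer, TrivSqZeroExt.snd_inr, toT_zero, TrivSqZeroExt.snd_zero] at this
    exact hi (by rw [this, map_zero])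
  · intro c
    obtain ⟨x, rfl⟩ := Algebra.Extension.Cotangent.mk_surjective c
    have hx0 : (toT A q hq x).fst = 0 := x.2
    have hqx : q (toT A q hq x).snd = 0 := by rw [← toT_mem, hx0, map_zero]
    obtain ⟨m, hm⟩ := (hex _).1 hqx
    refine ⟨m, ?_⟩
    rw [gMap_apply]
    congr 1
    apply Subtype.ext
    apply toT_injective A q hq
    rw [toT_ofKer]
    ext
    · simp [hx0]
    · simp [hm]

omit [Module B M] in
theorem exists_phi :
    ∃ φ : (PExt A q hq).CotangentSpace →ₗ[B] N,
      ∀ x : (PExt A q hq).Ring, φ ((1 : B) ⊗ₜ[(PExt A q hq).Ring] D A (PExt A q hq).Ring x) = (toT A q hq x).snd := by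
  letI : Module (PExt A q hq).Ring N := Module.compHom N (algebraMap (PExt A q hq).Ring B)
  letI : Module A N := Module.compHom N (algebraMap A B)
  have hsmulE : ∀ (e : (PExt A q hq).Ring) (n : N), e • n = algebraMap (PExt A q hq).Ring B e • n :=
    fun _ _ => rfl
  have hsmulA : ∀ (a : A) (n : N), a • n = algebraMap A B a • n := fun _ _ => rfl
  haveI : IsScalarTower (PExt A q hq).Ring B N := ⟨fun e b n => by
    rw [hsmulE, Algebra.smul_def, mul_smul]⟩
  haveI : IsScalarTower A (PExt A q hq).Ring N := ⟨fun a e n => by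
    rw [hsmulE, hsmulA, hsmulE, Algebra.smul_def, map_mul, mul_smul,
      ← IsScalarTower.algebraMap_apply A (PExt A q hq).Ring B]⟩
  let δ : Derivation A (PExt A q hq).Ring N :=
    { toFun := fun x => (toT A q hq x).snd
      map_add' := fun x y => by rw [toT_add, TrivSqZeroExt.snd_add]
      map_smul' := fun a x => by
        rw [RingHom.id_apply, Algebra.smul_def, toT_mul, toT_algebraMap, hsmulA]
        simp
      map_one_eq_zero' := by
        change (toT A q hq 1).snd = 0
        change ((1 : TrivSqZeroExt B N)).snd = 0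
        simp
      leibniz' := fun x y => by
        change (toT A q hq (x * y)).snd = x • (toT A q hq y).snd + y • (toT A q hq x).snd
        rw [toT_mul, TrivSqZeroExt.snd_mul, hsmulE, hsmulE, fst_toT, fst_toT, op_smul_eq_smul] }
  obtain ⟨φ, hφ⟩ := exists_lift_derivation (B := B) δ
  exact ⟨φ, hφ⟩

end ext

end ring

open Groth.Agent.Helper9.Exal in
theorem span_dd {A B : Type u} [CommRing A] [CommRing B] [Algebra A B] (P : Algebra.Extension.{u} A B) :
    Submodule.span B (Set.range (dd P)) = ⊤ := by
  rw [_root_.eq_top_iff]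
  rintro y -
  induction y using TensorProduct.induction_on with
  | zero => exact Submodule.zero_mem _
  | add x y hx hy => exact Submodule.add_mem _ hx hy
  | tmul b ω =>
    have hω : ω ∈ Submodule.span P.Ring (Set.range (D A P.Ring)) := by
      rw [KaehlerDifferential.span_range_derivation]; trivial
    have : b ⊗ₜ[P.Ring] ω = b • ((1 : B) ⊗ₜ[P.Ring] ω) := by
      rw [TensorProduct.smul_tmul', smul_eq_mul, mul_one]
    rw [this]
    apply Submodule.smul_mem
    refine Submodule.span_induction (p := fun ω _ => (1 : B) ⊗ₜ[P.Ring] ω ∈ Submodule.span B (Set.range (dd P))) ?_ ?_ ?_ ?_ hω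
    · rintro _ ⟨x, rfl⟩
      exact Submodule.subset_span ⟨x, rfl⟩
    · rw [tmul_zero]; exact Submodule.zero_mem _
    · intro x y _ _ hx hy
      rw [tmul_add]; exact Submodule.add_mem _ hx hy
    · intro e x _ hx
      have : (1 : B) ⊗ₜ[P.Ring] (e • x) = algebraMap P.Ring B e • ((1 : B) ⊗ₜ[P.Ring] x) := by
        rw [← TensorProduct.smul_tmul, Algebra.smul_def, mul_one, TensorProduct.smul_tmul',
          smul_eq_mul, mul_one]
      rw [this]
      exact Submodule.smul_mem _ _ hx

open Groth.Agent.Helper9.Exal in
theorem main {A B : Type u} [CommRing A] [CommRing B] [Algebra A B]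
    (M N : Type u) [AddCommGroup M] [Module B M] [AddCommGroup N] [Module B N]
    (i : M →ₗ[B] N) (q : N →ₗ[B] Ω[B⁄A]) (hi : Function.Injective i) (hq : Function.Surjective q)
    (hex : Function.Exact i q) :
    ∃ P : Algebra.Extension.{u} A B, P.ker ^ 2 = ⊥ ∧
      ∃ (e₁ : P.Cotangent ≃ₗ[B] M) (e₂ : P.CotangentSpace ≃ₗ[B] N),
        (∀ x, e₂ (P.cotangentComplex x) = i (e₁ x)) ∧ (∀ y, q (e₂ y) = P.toKaehler y) := by
  refine ⟨PExt A q hq, ker_sq A q hq, ?_⟩
  let g := LinearEquiv.ofBijective (gMap A q hq i hex) (gMap_bijective A q hq i hex hi)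
  obtain ⟨φ, hφ⟩ := exists_phi A q hq
  have h1 : ∀ x, φ ((PExt A q hq).cotangentComplex x) = i (g.symm x) := by
    intro x
    obtain ⟨m, rfl⟩ := g.surjective x
    rw [LinearEquiv.symm_apply_apply]
    change φ ((PExt A q hq).cotangentComplex (gMap A q hq i hex m)) = _
    rw [gMap_apply, Algebra.Extension.cotangentComplex_mk, hφ, toT_ofKer, TrivSqZeroExt.snd_inr]
  have h2 : ∀ y, q (φ y) = (PExt A q hq).toKaehler y := by
    intro y
    have hy : y ∈ Submodule.span B (Set.range (dd (PExt A q hq))) := by rw [span_dd]; trivial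
    refine Submodule.span_induction (p := fun y _ => q (φ y) = (PExt A q hq).toKaehler y) ?_ ?_ ?_ ?_ hy
    · rintro _ ⟨x, rfl⟩
      rw [toKaehler_dd]
      change q (φ ((1 : B) ⊗ₜ[(PExt A q hq).Ring] D A (PExt A q hq).Ring x)) = _
      rw [hφ, ← toT_mem, fst_toT]
    · simp
    · intro x y _ _ hx hy
      rw [map_add, map_add, map_add, hx, hy]
    · intro b x _ hx
      rw [map_smul, map_smul, map_smul, hx]
  have hbij : Function.Bijective φ :=
    five (PExt A q hq).cotangentComplex (PExt A q hq).toKaehler
      (PExt A q hq).exact_cotangentComplex_toKaehler (PExt A q hq).toKaehler_surjective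
      i q hi hex g.symm φ h1 h2
  exact ⟨g.symm, LinearEquiv.ofBijective φ hbij, h1, h2⟩

end Aux

/-- Let k be an algebraically closed field and A → B a map of finitely generated k-algebras with B
reduced and smooth over A at every minimal prime of B (the morphism Spec B → Spec A is smooth on a
dense open subset). Let M be a finitely generated projective B-module and 0 → M → N → Ω_{B/A} → 0 an
exact sequence of B-modules (i injective, q surjective, image of i = kernel of q). Then there is an
A-algebra extension E → B with square-zero kernel, together with a B-linear identification of its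
kernel with M and a B-linear isomorphism of B ⊗_E Ω_{E/A} with N, carrying the conormal map of the
extension to i and q to the canonical map B ⊗_E Ω_{E/A} → Ω_{B/A}. Together with the injectivity
statement for such conormal sequences this is the surjectivity half of the identification of Ex_A(B,
M) with Ext^1_B(Ω_{B/A}, M); affine case of the statement for algebraic schemes. The module N ranges
over the universe of B. -/
theorem result
    {k : Type u} [Field k] [IsAlgClosed k]
    {A B : Type u} [CommRing A] [CommRing B] [Algebra k A] [Algebra k B] [Algebra A B]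
    [IsScalarTower k A B] [Algebra.FiniteType k A] [Algebra.FiniteType k B] [IsReduced B]
    (hsm : ∀ p : PrimeSpectrum B, p.asIdeal ∈ minimalPrimes B → Algebra.IsSmoothAt A p.asIdeal)
    (M N : Type u) [AddCommGroup M] [Module B M] [Module.Finite B M] [Module.Projective B M]
    [AddCommGroup N] [Module B N]
    (i : M →ₗ[B] N) (q : N →ₗ[B] Ω[B⁄A]) (hi : Function.Injective i) (hq : Function.Surjective q)
    (hex : Function.Exact i q) :
    ∃ P : Algebra.Extension.{u} A B, P.ker ^ 2 = ⊥ ∧
      ∃ (e₁ : P.Cotangent ≃ₗ[B] M) (e₂ : P.CotangentSpace ≃ₗ[B] N),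
        (∀ x, e₂ (P.cotangentComplex x) = i (e₁ x)) ∧ (∀ y, q (e₂ y) = P.toKaehler y) := by
  exact Aux.main M N i q hi hq hex

end Groth.Agent.S11285
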