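import Groth.Statements.S11294
import Mathlib

set_option autoImplicit false
universe u
open Deform

namespace Groth.Agent.S11294

open TrivSqZeroExt in
/-- Let P be a commutative ring, J an ideal, and P[ε] the ring of dual numbers over P. First-order
embedded deformations of Spec(P/J) in Spec P, namely ideals J' of P[ε] lifting J (the image of J'
under ε ↦ 0 is J) with P[ε]/J' flat over the dual numbers — flatness being replaced by the condition
that every element of P[ε]/J' annihilated by ε is a multiple of ε (equivalent to flatness over k[ε]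
when P is an algebra over a field k) — are in canonical bijection with Hom_P(J, P/J) =
Hom_{P/J}(J/J^2, P/J), the normal module: to φ corresponds the ideal of all a + εb with a in J and b
reducing to φ(a) modulo J. The first clause says this rule defines exactly one ideal for each φ; the
second says an ideal J' is a flat lift of J precisely when its membership is given by this rule for
some φ. (The published statement is the global one, identifying first-order deformations of a closed
subscheme X of an algebraic scheme Y with H^0(X, N_{X/Y}); this row is the affine computation in its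
proof, valid for every commutative ring P.) -/
theorem result (P : Type u) [CommRing P] (J : Ideal P) :
    (∀ φ : J →ₗ[P] (P ⧸ J), ∃! J' : Ideal (DualNumber P),
        ∀ a b : P, (inl a + inr b : DualNumber P) ∈ J' ↔ ∃ h : a ∈ J, Ideal.Quotient.mk J b = φ ⟨a, h⟩) ∧
    (∀ J' : Ideal (DualNumber P),
      (J'.map (TrivSqZeroExt.fstHom P P P) = J ∧
        ∀ m : DualNumber P ⧸ J', Ideal.Quotient.mk J' DualNumber.eps * m = 0 →
          ∃ m' : DualNumber P ⧸ J', m = Ideal.Quotient.mk J' DualNumber.eps * m') ↔
      ∃ φ : J →ₗ[P] (P ⧸ J), ∀ a b : P,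
        (inl a + inr b : DualNumber P) ∈ J' ↔ ∃ h : a ∈ J, Ideal.Quotient.mk J b = φ ⟨a, h⟩) := by
  classical
  have hdecomp : ∀ x : DualNumber P, x = inl x.fst + inr x.snd :=
    fun x => (TrivSqZeroExt.inl_fst_add_inr_snd_eq x).symm
  have hφc : ∀ (φ : J →ₗ[P] (P ⧸ J)) (a a' : P) (h : a ∈ J) (h' : a' ∈ J), a = a' →
      φ ⟨a, h⟩ = φ ⟨a', h'⟩ := by
    intro φ a a' h h' e
    subst e
    rfl
  have heps_mul : ∀ x : DualNumber P, DualNumber.eps * x = inr x.fst := by
    intro x
    apply TrivSqZeroExt.ext
    · rw [TrivSqZeroExt.fst_mul, TrivSqZeroExt.fst_inr, DualNumber.fst_eps, zero_mul]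
    · rw [TrivSqZeroExt.snd_mul, TrivSqZeroExt.snd_inr, DualNumber.fst_eps, DualNumber.snd_eps,
        zero_smul, zero_add, op_smul_eq_mul, one_mul]
  constructor
  · intro φ
    -- existence
    let J' : Ideal (DualNumber P) :=
      { carrier := {x | ∃ h : x.fst ∈ J, Ideal.Quotient.mk J x.snd = φ ⟨x.fst, h⟩}
        add_mem' := by
          rintro x y ⟨hx, hx'⟩ ⟨hy, hy'⟩
          have hxy : (x + y).fst ∈ J := by
            rw [TrivSqZeroExt.fst_add]; exact J.add_mem hx hy
          refine ⟨hxy, ?_⟩
          rw [TrivSqZeroExt.snd_add, map_add, hx', hy', ← map_add]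
          exact hφc φ _ _ _ _ (by simp)
        zero_mem' := by
          refine ⟨by simp, ?_⟩
          have h0 : φ ⟨(0 : DualNumber P).fst, by simp⟩ = φ 0 := hφc φ _ _ _ _ (by simp)
          rw [TrivSqZeroExt.snd_zero, map_zero, h0, map_zero]
        smul_mem' := by
          rintro c x ⟨hx, hx'⟩
          have hcx : (c • x).fst ∈ J := by
            rw [smul_eq_mul, TrivSqZeroExt.fst_mul]; exact J.mul_mem_left _ hx
          refine ⟨hcx, ?_⟩
          have h1 : (c • x).snd = c.fst * x.snd + x.fst * c.snd := by
            rw [smul_eq_mul, TrivSqZeroExt.snd_mul]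
            simp [mul_comm]
          have h2 : Ideal.Quotient.mk J (x.fst * c.snd) = 0 :=
            Ideal.Quotient.eq_zero_iff_mem.mpr (J.mul_mem_right _ hx)
          rw [h1, map_add, h2, add_zero, map_mul, hx']
          have h3 : φ ⟨(c • x).fst, hcx⟩ = φ (c.fst • ⟨x.fst, hx⟩) :=
            hφc φ _ _ _ _ (by simp)
          rw [h3, map_smul]
          rfl }
    have hJ' : ∀ a b : P, (inl a + inr b : DualNumber P) ∈ J' ↔
        ∃ h : a ∈ J, Ideal.Quotient.mk J b = φ ⟨a, h⟩ := by
      intro a b
      constructor
      · rintro ⟨h, h'⟩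
        have ha : a ∈ J := by simpa using h
        refine ⟨ha, ?_⟩
        have : (inl a + inr b : DualNumber P).snd = b := by simp
        rw [this] at h'
        rw [h']
        exact hφc φ _ _ _ _ (by simp)
      · rintro ⟨h, h'⟩
        have ha : (inl a + inr b : DualNumber P).fst ∈ J := by simpa using h
        refine ⟨ha, ?_⟩
        have : (inl a + inr b : DualNumber P).snd = b := by simp
        rw [this, h']
        exact hφc φ _ _ _ _ (by simp)
    refine ⟨J', hJ', ?_⟩
    intro J'' hJ''
    ext x
    rw [hdecomp x, hJ', hJ'']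
  · intro J'
    constructor
    · rintro ⟨hmap, htors⟩
      have K0 : ∀ x ∈ J', x.fst ∈ J := by
        intro x hx
        rw [← hmap]
        exact Ideal.mem_map_of_mem (TrivSqZeroExt.fstHom P P P) hx
      have K2 : ∀ a ∈ J, ∃ b : P, (inl a + inr b : DualNumber P) ∈ J' := by
        intro a ha
        rw [← hmap] at ha
        obtain ⟨x, hx, hxa⟩ := (Ideal.mem_map_iff_of_surjective (TrivSqZeroExt.fstHom P P P)
          (fun a => ⟨inl a, by simp⟩)).mp ha
        refine ⟨x.snd, ?_⟩
        have hxa' : x.fst = a := hxa
        rw [← hxa', ← hdecomp x]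
        exact hx
      have K1 : ∀ c : P, (inr c : DualNumber P) ∈ J' ↔ c ∈ J := by
        intro c
        constructor
        · intro hc
          have h1 : Ideal.Quotient.mk J' DualNumber.eps * Ideal.Quotient.mk J' (inl c) = 0 := by
            rw [← map_mul, heps_mul, TrivSqZeroExt.fst_inl]
            exact Ideal.Quotient.eq_zero_iff_mem.mpr hc
          obtain ⟨m', hm'⟩ := htors _ h1
          obtain ⟨y, rfl⟩ := Ideal.Quotient.mk_surjective m'
          rw [← map_mul, Ideal.Quotient.eq, heps_mul] at hm'
          have := K0 _ hm'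
          simpa using this
        · intro hc
          obtain ⟨d, hd⟩ := K2 c hc
          have := J'.mul_mem_left DualNumber.eps hd
          rw [heps_mul] at this
          simpa using this
      have K3 : ∀ a b b' : P, (inl a + inr b : DualNumber P) ∈ J' →
          (inl a + inr b' : DualNumber P) ∈ J' → Ideal.Quotient.mk J b = Ideal.Quotient.mk J b' := by
        intro a b b' h1 h2
        rw [Ideal.Quotient.eq, ← K1]
        have := J'.sub_mem h1 h2
        rw [add_sub_add_left_eq_sub, ← TrivSqZeroExt.inr_sub] at this
        exact this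
      let φ : J →ₗ[P] (P ⧸ J) :=
        { toFun := fun a => Ideal.Quotient.mk J (K2 a.1 a.2).choose
          map_add' := by
            intro a a'
            apply K3 (a.1 + a'.1)
            · exact (K2 (a + a').1 (a + a').2).choose_spec
            · have := J'.add_mem (K2 a.1 a.2).choose_spec (K2 a'.1 a'.2).choose_spec
              rw [TrivSqZeroExt.inl_add, TrivSqZeroExt.inr_add]
              convert this using 1
              abel
          map_smul' := by
            intro c a
            rw [RingHom.id_apply, Algebra.smul_def, Ideal.Quotient.algebraMap_eq, ← map_mul]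
            apply K3 (c * a.1)
            · exact (K2 (c • a).1 (c • a).2).choose_spec
            · have := J'.mul_mem_left (inl c) (K2 a.1 a.2).choose_spec
              rw [mul_add, ← TrivSqZeroExt.inl_mul, TrivSqZeroExt.inl_mul_inr] at this
              exact this }
      refine ⟨φ, ?_⟩
      intro a b
      constructor
      · intro hab
        have ha : a ∈ J := by simpa using K0 _ hab
        exact ⟨ha, K3 a _ _ hab (K2 a ha).choose_spec⟩
      · rintro ⟨ha, hb⟩
        have h1 : Ideal.Quotient.mk J b = Ideal.Quotient.mk J (K2 a ha).choose := hb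
        rw [Ideal.Quotient.eq, ← K1] at h1
        have := J'.add_mem (K2 a ha).choose_spec h1
        rw [add_assoc, ← TrivSqZeroExt.inr_add, add_sub_cancel] at this
        exact this
    · rintro ⟨φ, hφ⟩
      have K0 : ∀ x ∈ J', x.fst ∈ J := by
        intro x hx
        rw [hdecomp x, hφ] at hx
        exact hx.1
      have Kex : ∀ a ∈ J, ∃ b : P, (inl a + inr b : DualNumber P) ∈ J' := by
        intro a ha
        obtain ⟨b, hb⟩ := Ideal.Quotient.mk_surjective (φ ⟨a, ha⟩)
        exact ⟨b, (hφ a b).mpr ⟨ha, hb⟩⟩
      constructor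
      · apply le_antisymm
        · rw [Ideal.map_le_iff_le_comap]
          intro x hx
          exact K0 x hx
        · intro a ha
          obtain ⟨b, hb⟩ := Kex a ha
          have := Ideal.mem_map_of_mem (TrivSqZeroExt.fstHom P P P) hb
          simpa using this
      · intro m hm
        obtain ⟨x, rfl⟩ := Ideal.Quotient.mk_surjective m
        rw [← map_mul, Ideal.Quotient.eq_zero_iff_mem, heps_mul] at hm
        have hm' : (inl 0 + inr x.fst : DualNumber P) ∈ J' := by
          rw [TrivSqZeroExt.inl_zero, zero_add]; exact hm
        obtain ⟨h0, hx0⟩ := (hφ 0 x.fst).mp hm'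
        have hxJ : x.fst ∈ J := by
          have h00 : φ ⟨0, h0⟩ = 0 := by
            have : (⟨0, h0⟩ : J) = 0 := rfl
            rw [this, map_zero]
          rw [h00] at hx0
          exact Ideal.Quotient.eq_zero_iff_mem.mp hx0
        obtain ⟨b', hb'⟩ := Kex x.fst hxJ
        refine ⟨Ideal.Quotient.mk J' (inl (x.snd - b')), ?_⟩
        rw [← map_mul, Ideal.Quotient.eq, heps_mul, TrivSqZeroExt.fst_inl]
        have h2 : x - inr (x.snd - b') = inl x.fst + inr b' := by
          apply TrivSqZeroExt.ext
          · rw [TrivSqZeroExt.fst_sub, TrivSqZeroExt.fst_inr, TrivSqZeroExt.fst_add,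
              TrivSqZeroExt.fst_inl, TrivSqZeroExt.fst_inr, sub_zero, add_zero]
          · rw [TrivSqZeroExt.snd_sub, TrivSqZeroExt.snd_inr, TrivSqZeroExt.snd_add,
              TrivSqZeroExt.snd_inl, TrivSqZeroExt.snd_inr, zero_add, sub_sub_cancel]
        rw [h2]
        exact hb'

end Groth.Agent.S11294
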