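import Groth.Statements.S11298
import Mathlib

set_option autoImplicit false
universe u v
open LocCoh

namespace Groth.Agent.S11298

namespace H11298
open RingTheory.Sequence
open scoped Pointwise

variable (B : Type u) [CommRing B] (M : Type v) [AddCommGroup M] [Module B M]

lemma isWeaklyRegular_dual (a b : B) (ha : IsSMulRegular B a)
    (hb : IsSMulRegular (QuotSMulTop a B) b) :
    IsWeaklyRegular (M →ₗ[B] B) [a, b] := by
  rw [isWeaklyRegular_cons_iff, isWeaklyRegular_singleton_iff]
  have haH : IsSMulRegular (M →ₗ[B] B) a := by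
    intro φ ψ h
    ext m
    have := congrArg (fun f : M →ₗ[B] B => f m) h
    simp only [LinearMap.smul_apply] at this
    exact ha this
  refine ⟨haH, ?_⟩
  -- key: if b φ ∈ a H then φ ∈ a H
  have key : ∀ φ : M →ₗ[B] B, b • φ ∈ a • (⊤ : Submodule B (M →ₗ[B] B)) →
      φ ∈ a • (⊤ : Submodule B (M →ₗ[B] B)) := by
    intro φ hφ
    obtain ⟨χ, -, hχ⟩ := (Submodule.mem_smul_pointwise_iff_exists _ _ _).1 hφ
    have h1 : ∀ m, ∃ c : B, a • c = φ m := by
      intro m
      have h2 : b • (Submodule.Quotient.mk (φ m) : QuotSMulTop a B) = b • 0 := by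
        rw [smul_zero, ← Submodule.Quotient.mk_smul, Submodule.Quotient.mk_eq_zero]
        have := congrArg (fun f : M →ₗ[B] B => f m) hχ
        simp only [LinearMap.smul_apply] at this
        rw [← this]
        exact Submodule.smul_mem_pointwise_smul _ _ _ Submodule.mem_top
      have h3 := hb h2
      rw [Submodule.Quotient.mk_eq_zero] at h3
      obtain ⟨c, -, hc⟩ := (Submodule.mem_smul_pointwise_iff_exists _ _ _).1 h3
      exact ⟨c, hc⟩
    choose θ hθ using h1
    let Θ : M →ₗ[B] B :=
      { toFun := θ
        map_add' := fun m m' => by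
          apply ha
          show a • θ (m + m') = a • (θ m + θ m')
          rw [smul_add, hθ, hθ, hθ, map_add]
        map_smul' := fun r m => by
          apply ha
          show a • θ (r • m) = a • ((RingHom.id B) r • θ m)
          rw [RingHom.id_apply, smul_comm, hθ, hθ, map_smul] }
    refine (Submodule.mem_smul_pointwise_iff_exists _ _ _).2 ⟨Θ, Submodule.mem_top, ?_⟩
    ext m
    exact hθ m
  intro x y hxy
  obtain ⟨φ, rfl⟩ := Submodule.Quotient.mk_surjective _ x
  obtain ⟨ψ, rfl⟩ := Submodule.Quotient.mk_surjective _ y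
  replace hxy : b • (Submodule.Quotient.mk φ : QuotSMulTop a (M →ₗ[B] B)) =
      b • (Submodule.Quotient.mk ψ : QuotSMulTop a (M →ₗ[B] B)) := hxy
  rw [← Submodule.Quotient.mk_smul, ← Submodule.Quotient.mk_smul, Submodule.Quotient.eq,
    ← smul_sub] at hxy
  rw [Submodule.Quotient.eq]
  exact key _ hxy

theorem main (I : Ideal B) (h : 2 ≤ LocCoh.idealDepth I B) :
    2 ≤ LocCoh.idealDepth I (M →ₗ[B] B) := by
  classical
  unfold LocCoh.idealDepth at h ⊢
  by_cases hI : I • (⊤ : Submodule B B) = ⊤
  · have hI' : I = ⊤ := by simpa using hI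
    have : I • (⊤ : Submodule B (M →ₗ[B] B)) = ⊤ := by rw [hI', Submodule.top_smul]
    rw [if_pos this]
    exact le_top
  · rw [if_neg hI] at h
    by_cases hH : I • (⊤ : Submodule B (M →ₗ[B] B)) = ⊤
    · rw [if_pos hH]; exact le_top
    · rw [if_neg hH]
      obtain ⟨rs, hrs, hlen⟩ : ∃ rs : List B, (IsWeaklyRegular B rs ∧ ∀ r ∈ rs, r ∈ I) ∧
          2 ≤ rs.length := by
        by_contra hcon
        push Not at hcon
        have : (⨆ (rs : List B) (_ : IsWeaklyRegular B rs ∧ ∀ r ∈ rs, r ∈ I),
            (rs.length : ℕ∞)) ≤ 1 := by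
          refine iSup₂_le fun rs hrs => ?_
          have := hcon rs hrs
          exact_mod_cast Nat.lt_succ_iff.1 this
        have h2 : (2 : ℕ∞) ≤ 1 := h.trans this
        exact absurd h2 (by decide)
      match rs, hrs, hlen with
      | a :: b :: rest, ⟨hreg, hmem⟩, _ =>
        rw [isWeaklyRegular_cons_iff, isWeaklyRegular_cons_iff] at hreg
        have hw := isWeaklyRegular_dual B M a b hreg.1 hreg.2.1
        refine le_iSup₂_of_le [a, b] ⟨hw, ?_⟩ (by simp)
        intro r hr
        simp only [List.mem_cons, List.not_mem_nil, or_false] at hr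
        rcases hr with rfl | rfl
        · exact hmem _ (by simp)
        · exact hmem _ (by simp)

end H11298

/-- Let X = Spec B be an affine Noetherian scheme, Z = V(I) a closed subscheme and G a coherent sheaf,
i.e. a finitely generated B-module M, with dual G^v = Hom_B(M, B). If depth_Z(O_X) ≥ 2 then
depth_Z(G^v) ≥ 2. Here the depth along I of a module N is the supremum of the lengths of N-regular
sequences contained in I (and is infinite when I N = N). (The published statement adds that sections
of the dual over X and over X minus Z agree; this row omits that clause.) -/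
theorem result (B : Type u) [CommRing B] [IsNoetherianRing B]
    (I : Ideal B) (M : Type v) [AddCommGroup M] [Module B M] [Module.Finite B M]
    (h : 2 ≤ LocCoh.idealDepth I B) : 2 ≤ LocCoh.idealDepth I (M →ₗ[B] B) := by
  exact H11298.main B M I h

end Groth.Agent.S11298
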