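import Groth.Statements.S11306
import Mathlib

set_option autoImplicit false
universe u
open TensorProduct
open CAlg

namespace Groth.Agent.S11306

/-- Take a Noetherian local domain A, with residue field k and fraction field K, and let M be a finitely
generated A-module. If k ⊗_A M and K ⊗_A M have the same dimension r (over k and over K
respectively), then M is a free A-module of rank r. -/
theorem result (A : Type u) [CommRing A] [IsDomain A]
    [IsNoetherianRing A] [IsLocalRing A] (M : Type u) [AddCommGroup M] [Module A M] [Module.Finite A M] (r : ℕ)
    (hk : Module.finrank (IsLocalRing.ResidueField A) (IsLocalRing.ResidueField A ⊗[A] M) = r)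
    (hK : Module.finrank (FractionRing A) (FractionRing A ⊗[A] M) = r) :
    Module.Free A M ∧ Module.finrank A M = r := by
  classical
  set k := IsLocalRing.ResidueField A with hkdef
  set K := FractionRing A with hKdef
  have b : Module.Basis (Fin r) k (k ⊗[A] M) := Module.finBasisOfFinrankEq k _ hk
  have hsurj : Function.Surjective (TensorProduct.mk A k M 1) :=
    TensorProduct.mk_surjective A M k Ideal.Quotient.mk_surjective
  choose f hf using fun i => hsurj (b i)
  have hspan : Submodule.span A (Set.range f) = ⊤ :=
    IsLocalRing.span_eq_top_of_tmul_eq_basis f b hf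
  set φ : (Fin r → A) →ₗ[A] M := Fintype.linearCombination A f with hφ
  have hφsurj : Function.Surjective φ := by
    rw [← LinearMap.range_eq_top, hφ, Fintype.range_linearCombination, hspan]
  set g : Fin r → K ⊗[A] M := fun i => (1 : K) ⊗ₜ[A] f i with hg
  set ψ : (Fin r → K) →ₗ[K] K ⊗[A] M := Fintype.linearCombination K g with hψ
  have hψsurj : Function.Surjective ψ := by
    rw [← LinearMap.range_eq_top, hψ, Fintype.range_linearCombination]
    have h1 := Submodule.baseChange_span (R := A) (A := K) (M := M) (Set.range f)
    rw [hspan, Submodule.baseChange_top] at h1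
    rw [h1]
    congr 1
    ext x
    simp [hg]
  have hψinj : Function.Injective ψ := by
    refine (LinearMap.injective_iff_surjective_of_finrank_eq_finrank ?_).mpr hψsurj
    rw [Module.finrank_fin_fun, hK]
  have hφinj : Function.Injective φ := by
    rw [injective_iff_map_eq_zero]
    intro x hx
    have h2 : ψ (fun i => algebraMap A K (x i)) = (1 : K) ⊗ₜ[A] φ x := by
      simp only [hψ, hφ, Fintype.linearCombination_apply, hg, TensorProduct.tmul_sum]
      refine Finset.sum_congr rfl fun i _ => ?_
      rw [TensorProduct.tmul_smul]
      exact algebraMap_smul K (x i) ((1 : K) ⊗ₜ[A] f i)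
    rw [hx, TensorProduct.tmul_zero] at h2
    have h3 := hψinj (h2.trans (map_zero ψ).symm)
    funext i
    have h4 := congrFun h3 i
    simpa using h4
  let e : (Fin r → A) ≃ₗ[A] M := LinearEquiv.ofBijective φ ⟨hφinj, hφsurj⟩
  exact ⟨Module.Free.of_equiv e, by rw [← e.finrank_eq, Module.finrank_fin_fun]⟩

end Groth.Agent.S11306
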