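import Groth.Statements.S1132
import Mathlib


set_option autoImplicit false
open CategoryTheory CategoryTheory.Limits AlgebraicGeometry Opposite
universe u
open Desc

namespace Groth.Agent.S1132

/-- If p : X ⟶ S is a surjective flat morphism of schemes, the functor sending a scheme over S to its
canonical descent datum relative to p is faithful. (This is a special case of a more general
published statement; in this case the objects being descended are simply schemes over S. Descent
data are taken in functor-of-points form, equivalent by the Yoneda lemma to an isomorphism over X
×_S X satisfying the cocycle condition.) -/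
theorem result {X S : Scheme.{u}} (p : X ⟶ S) [Surjective p] [Flat p] :
    (Desc.toDD p).Faithful := by
  refine ⟨fun {U U'} g g' h => ?_⟩
  have h1 : ((Desc.toDD p).map g).hom.left = ((Desc.toDD p).map g').hom.left := by rw [h]
  have e1 : ((Desc.toDD p).map g).hom.left ≫ pullback.snd p U'.hom =
      pullback.snd p U.hom ≫ g.left := pullback.lift_snd _ _ _
  have e2 : ((Desc.toDD p).map g').hom.left ≫ pullback.snd p U'.hom =
      pullback.snd p U.hom ≫ g'.left := pullback.lift_snd _ _ _
  have h2 : pullback.snd p U.hom ≫ g.left = pullback.snd p U.hom ≫ g'.left := by
    rw [← e1, ← e2, h1]
  haveI : Epi (pullback.snd p U.hom) := Flat.epi_of_flat_of_surjective _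
  apply Over.OverMorphism.ext
  exact (cancel_epi _).1 h2

end Groth.Agent.S1132
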