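import Groth.Statements.S11320
import Mathlib

set_option autoImplicit false
universe u
open CategoryTheory CategoryTheory.Limits
open CohTop

namespace Groth.Agent.S11320

section
open CategoryTheory CategoryTheory.Limits
open TopologicalSpace Opposite

set_option backward.isDefEq.respectTransparency.types true in
lemma stalk_pres {X : TopCat.{u}} (x : X) : PreservesColimitsOfSize.{u, u}
    (TopCat.Sheaf.forget AddCommGrpCat.{u} X ⋙ TopCat.Presheaf.stalkFunctor AddCommGrpCat.{u} x) :=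
  inferInstance

variable {X : TopCat.{u}}

/-- abelian sheaves -/
abbrev Sh (X : TopCat.{u}) := Sheaf (Opens.grothendieckTopology X) AddCommGrpCat.{u}

/-- stalk functor -/
noncomputable abbrev Psi (x : X) : Sh X ⥤ AddCommGrpCat.{u} :=
  TopCat.Sheaf.forget AddCommGrpCat.{u} X ⋙ TopCat.Presheaf.stalkFunctor AddCommGrpCat.{u} x

/-- restriction of sections -/
noncomputable def res (F : Sh X) {A B : Opens X} (h : A ≤ B) (t : F.obj.obj (op B)) :
    F.obj.obj (op A) :=
  F.obj.map (homOfLE h).op t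

theorem res_res (F : Sh X) {A B C : Opens X} (h : A ≤ B) (h' : B ≤ C) (t : F.obj.obj (op C)) :
    res F h (res F h' t) = res F (h.trans h') t := by
  unfold res
  rw [← ConcreteCategory.comp_apply, ← Functor.map_comp, ← op_comp]
  rfl

theorem res_zero (F : Sh X) {A B : Opens X} (h : A ≤ B) : res F h (0 : F.obj.obj (op B)) = 0 := by
  unfold res; exact map_zero _

lemma res_sub (M : Sh X) {A B : Opens X} (h : A ≤ B) (a b : M.obj.obj (op B)) :
    res M h (a - b) = res M h a - res M h b := by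
  unfold res; exact map_sub _ _ _

section SecColim

variable {K : Type u} [Preorder K] [IsDirected K (· ≤ ·)] [Nonempty K] (D : K ⥤ Sh X)

/-- the transition map on sections -/
noncomputable def tr {k k' : K} (h : k ≤ k') (V : Opens X) (s : (D.obj k).obj.obj (op V)) :
    (D.obj k').obj.obj (op V) :=
  (D.map (homOfLE h)).hom.app (op V) s

/-- the colimit injection on sections -/
noncomputable def inj (k : K) (V : Opens X) (s : (D.obj k).obj.obj (op V)) :
    (colimit D).obj.obj (op V) :=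
  (colimit.ι D k).hom.app (op V) s

lemma inj_tr {k k' : K} (h : k ≤ k') (V : Opens X) (s : (D.obj k).obj.obj (op V)) :
    inj D k' V (tr D h V s) = inj D k V s := by
  unfold inj tr
  have e : (D.map (homOfLE h)).hom ≫ (colimit.ι D k').hom = (colimit.ι D k).hom := by
    have : (D.map (homOfLE h) ≫ colimit.ι D k').hom = (colimit.ι D k).hom := by rw [colimit.w]
    exact this
  rw [← ConcreteCategory.comp_apply, ← NatTrans.comp_app, e]

lemma tr_tr {k k' k'' : K} (h : k ≤ k') (h' : k' ≤ k'') (V : Opens X)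
    (s : (D.obj k).obj.obj (op V)) :
    tr D h' V (tr D h V s) = tr D (h.trans h') V s := by
  unfold tr
  have e : (D.map (homOfLE h)).hom ≫ (D.map (homOfLE h')).hom =
      (D.map (homOfLE (h.trans h'))).hom := by
    have : (D.map (homOfLE h) ≫ D.map (homOfLE h')).hom = (D.map (homOfLE (h.trans h'))).hom := by
      rw [← D.map_comp]; rfl
    exact this
  rw [← ConcreteCategory.comp_apply, ← NatTrans.comp_app, e]

lemma tr_res {k k' : K} (h : k ≤ k') {W V : Opens X} (hWV : W ≤ V)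
    (s : (D.obj k).obj.obj (op V)) :
    tr D h W (res (D.obj k) hWV s) = res (D.obj k') hWV (tr D h V s) := by
  unfold tr res
  have hnat := (D.map (homOfLE h)).hom.naturality (homOfLE hWV).op
  exact ConcreteCategory.congr_hom hnat s

lemma inj_res (k : K) {W V : Opens X} (hWV : W ≤ V) (s : (D.obj k).obj.obj (op V)) :
    inj D k W (res (D.obj k) hWV s) = res (colimit D) hWV (inj D k V s) := by
  unfold inj res
  have hnat := (colimit.ι D k).hom.naturality (homOfLE hWV).op
  exact ConcreteCategory.congr_hom hnat s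

lemma tr_zero {k k' : K} (h : k ≤ k') (V : Opens X) : tr D h V 0 = 0 := by
  unfold tr; exact map_zero _

lemma inj_zero (k : K) (V : Opens X) : inj D k V 0 = 0 := by
  unfold inj; exact map_zero _

lemma tr_sub {k k' : K} (h : k ≤ k') (V : Opens X) (a b : (D.obj k).obj.obj (op V)) :
    tr D h V (a - b) = tr D h V a - tr D h V b := by
  unfold tr; exact map_sub _ _ _

lemma inj_sub (k : K) (V : Opens X) (a b : (D.obj k).obj.obj (op V)) :
    inj D k V (a - b) = inj D k V a - inj D k V b := by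
  unfold inj; exact map_sub _ _ _

lemma Psi_map_germ {M N : Sh X} (φ : M ⟶ N) (x : X) {V : Opens X} (hxV : x ∈ V)
    (s : M.obj.obj (op V)) :
    (Psi x).map φ (TopCat.Presheaf.germ M.obj V x hxV s) =
      TopCat.Presheaf.germ N.obj V x hxV (φ.hom.app (op V) s) :=
  TopCat.Presheaf.stalkFunctor_map_germ_apply V x hxV φ.hom s

lemma local_zero (x : X) {k : K} {V : Opens X} (hxV : x ∈ V) (s : (D.obj k).obj.obj (op V))
    (h : TopCat.Presheaf.germ (colimit D).obj V x hxV (inj D k V s) = 0) :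
    ∃ (k' : K) (hk : k ≤ k') (W : Opens X) (hWV : W ≤ V), x ∈ W ∧
      res (D.obj k') hWV (tr D hk V s) = 0 := by
  haveI : PreservesColimitsOfSize.{u, u} (Psi x) := stalk_pres x
  have hc := isColimitOfPreserves (Psi x) (colimit.isColimit D)
  have h1 : ((Psi x).mapCocone (colimit.cocone D)).ι.app k
        (TopCat.Presheaf.germ (D.obj k).obj V x hxV s) =
      ((Psi x).mapCocone (colimit.cocone D)).ι.app k 0 := by
    rw [map_zero]
    exact (Psi_map_germ (colimit.ι D k) x hxV s).trans h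
  obtain ⟨k', f, g, hfg⟩ := Concrete.isColimit_exists_of_rep_eq _ hc _ _ h1
  rw [map_zero] at hfg
  have h2 : TopCat.Presheaf.germ (D.obj k').obj V x hxV (tr D f.le V s) =
      TopCat.Presheaf.germ (D.obj k').obj V x hxV 0 := by
    rw [map_zero]
    exact (Psi_map_germ (D.map f) x hxV s).symm.trans hfg
  obtain ⟨W, hxW, iU, iV, e⟩ := TopCat.Presheaf.germ_eq (D.obj k').obj x hxV hxV _ _ h2
  refine ⟨k', f.le, W, iU.le, hxW, ?_⟩
  rw [map_zero] at e
  exact e

lemma local_rep (x : X) {V : Opens X} (hxV : x ∈ V) (σ : (colimit D).obj.obj (op V)) :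
    ∃ (k : K) (W : Opens X) (hWV : W ≤ V) (s : (D.obj k).obj.obj (op W)), x ∈ W ∧
      inj D k W s = res (colimit D) hWV σ := by
  haveI : PreservesColimitsOfSize.{u, u} (Psi x) := stalk_pres x
  have hc := isColimitOfPreserves (Psi x) (colimit.isColimit D)
  obtain ⟨k, a, ha⟩ := Concrete.isColimit_exists_rep _ hc
    (TopCat.Presheaf.germ (colimit D).obj V x hxV σ)
  obtain ⟨W0, hW0V, hxW0, s0, rfl⟩ := TopCat.Presheaf.exists_le_germ_eq (D.obj k).obj a hxV
  have h2 : TopCat.Presheaf.germ (colimit D).obj W0 x hxW0 (inj D k W0 s0) =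
      TopCat.Presheaf.germ (colimit D).obj V x hxV σ :=
    (Psi_map_germ (colimit.ι D k) x hxW0 s0).symm.trans ha
  obtain ⟨W, hxW, iU, iV, e⟩ := TopCat.Presheaf.germ_eq (colimit D).obj x hxW0 hxV _ _ h2
  refine ⟨k, W, iV.le, res (D.obj k) iU.le s0, hxW, ?_⟩
  rw [inj_res]
  exact e

lemma sec_zero {k : K} {V : Opens X} (hV : IsCompact (V : Set X)) (s : (D.obj k).obj.obj (op V))
    (h : inj D k V s = 0) : ∃ (k' : K) (hk : k ≤ k'), tr D hk V s = 0 := by
  classical
  have hloc : ∀ x : V, ∃ (k' : K) (hk : k ≤ k') (W : Opens X) (hWV : W ≤ V), x.1 ∈ W ∧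
      res (D.obj k') hWV (tr D hk V s) = 0 := by
    intro x
    apply local_zero D x.1 x.2 s
    rw [h, map_zero]
  choose kx hkx W hWV hxW hres using hloc
  obtain ⟨t, ht⟩ := hV.elim_finite_subcover (fun x : V => (W x : Set X))
    (fun x => (W x).2) (fun y hy => Set.mem_iUnion.2 ⟨⟨y, hy⟩, hxW ⟨y, hy⟩⟩)
  obtain ⟨k', hk'⟩ := Finset.exists_le (insert k (t.image kx))
  have hkk' : k ≤ k' := hk' k (Finset.mem_insert_self _ _)
  refine ⟨k', hkk', ?_⟩
  apply TopCat.Presheaf.IsSheaf.section_ext (D.obj k').property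
  intro y hy
  obtain ⟨x, hx⟩ := Set.mem_iUnion.1 (ht hy)
  obtain ⟨hxt, hyW⟩ := Set.mem_iUnion.1 hx
  have hkx' : kx x ≤ k' := hk' _ (Finset.mem_insert_of_mem (Finset.mem_image_of_mem _ hxt))
  refine ⟨W x, hWV x, hyW, ?_⟩
  change res (D.obj k') (hWV x) (tr D hkk' V s) = res (D.obj k') (hWV x) 0
  rw [res_zero, ← tr_tr D (hkx x) hkx' V s, ← tr_res, hres, tr_zero]

lemma sec_rep {V : Opens X} (hV : ∀ W : Opens X, W ≤ V → IsCompact (W : Set X))
    (σ : (colimit D).obj.obj (op V)) : ∃ (k : K) (s : (D.obj k).obj.obj (op V)), inj D k V s = σ := by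
  classical
  have hloc : ∀ x : V, ∃ (k : K) (W : Opens X) (hWV : W ≤ V) (s : (D.obj k).obj.obj (op W)),
      x.1 ∈ W ∧ inj D k W s = res (colimit D) hWV σ := fun x => local_rep D x.1 x.2 σ
  choose kx W hWV sx hxW hsx using hloc
  obtain ⟨t, ht⟩ := (hV V le_rfl).elim_finite_subcover (fun x : V => (W x : Set X))
    (fun x => (W x).2) (fun y hy => Set.mem_iUnion.2 ⟨⟨y, hy⟩, hxW ⟨y, hy⟩⟩)
  obtain ⟨k0, hk0⟩ := Finset.exists_le (t.image kx)
  have hk0' : ∀ i : {x // x ∈ t}, kx i.1 ≤ k0 := fun i => hk0 _ (Finset.mem_image_of_mem _ i.2)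
  obtain ⟨s0, hs0def⟩ : ∃ s0 : ∀ i : {x // x ∈ t}, (D.obj k0).obj.obj (op (W i.1)),
      ∀ i, s0 i = tr D (hk0' i) (W i.1) (sx i.1) := ⟨_, fun _ => rfl⟩
  have hs0 : ∀ i, inj D k0 (W i.1) (s0 i) = res (colimit D) (hWV i.1) σ := fun i => by
    rw [hs0def, inj_tr]; exact hsx i.1
  have hpair : ∀ p : {x // x ∈ t} × {x // x ∈ t}, ∃ (k' : K) (hk : k0 ≤ k'),
      tr D hk (W p.1.1 ⊓ W p.2.1)
        (res (D.obj k0) inf_le_left (s0 p.1) - res (D.obj k0) inf_le_right (s0 p.2)) = 0 := by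
    intro p
    apply sec_zero D (hV _ (inf_le_left.trans (hWV p.1.1)))
    rw [inj_sub, inj_res, inj_res, hs0, hs0, res_res, res_res, sub_self]
  choose kp hkp hkp0 using hpair
  obtain ⟨k1, hk1⟩ := Finset.exists_le (insert k0 (Finset.univ.image kp))
  have hk01 : k0 ≤ k1 := hk1 _ (Finset.mem_insert_self _ _)
  have hkp1 : ∀ p, kp p ≤ k1 := fun p =>
    hk1 _ (Finset.mem_insert_of_mem (Finset.mem_image_of_mem _ (Finset.mem_univ p)))
  obtain ⟨s1, hs1def⟩ : ∃ s1 : ∀ i : {x // x ∈ t}, (D.obj k1).obj.obj (op (W i.1)),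
      ∀ i, s1 i = tr D hk01 (W i.1) (s0 i) := ⟨_, fun _ => rfl⟩
  have hcompat : TopCat.Presheaf.IsCompatible (D.obj k1).obj
      (fun i : {x // x ∈ t} => W i.1) s1 := by
    intro i j
    change res (D.obj k1) inf_le_left (s1 i) = res (D.obj k1) inf_le_right (s1 j)
    have e1 : res (D.obj k1) (inf_le_left : W i.1 ⊓ W j.1 ≤ W i.1) (s1 i) =
        tr D hk01 _ (res (D.obj k0) inf_le_left (s0 i)) := by
      rw [hs1def]; exact (tr_res D hk01 _ (s0 i)).symm
    have e2 : res (D.obj k1) (inf_le_right : W i.1 ⊓ W j.1 ≤ W j.1) (s1 j) =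
        tr D hk01 _ (res (D.obj k0) inf_le_right (s0 j)) := by
      rw [hs1def]; exact (tr_res D hk01 _ (s0 j)).symm
    rw [e1, e2, ← sub_eq_zero, ← tr_sub, ← tr_tr D (hkp (i, j)) (hkp1 (i, j)), hkp0 (i, j),
      tr_zero]
  have hcover : V ≤ iSup (fun i : {x // x ∈ t} => W i.1) := by
    intro y hy
    obtain ⟨x, hx⟩ := Set.mem_iUnion.1 (ht hy)
    obtain ⟨hxt, hyW⟩ := Set.mem_iUnion.1 hx
    exact Opens.mem_iSup.2 ⟨⟨x, hxt⟩, hyW⟩
  obtain ⟨s, hs, -⟩ := TopCat.Sheaf.existsUnique_gluing' (F := D.obj k1)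
    (fun i : {x // x ∈ t} => W i.1) V (fun i => homOfLE (hWV i.1)) hcover s1 hcompat
  refine ⟨k1, s, ?_⟩
  apply TopCat.Presheaf.IsSheaf.section_ext (colimit D).property
  intro y hy
  obtain ⟨i, hyi⟩ := Opens.mem_iSup.1 (hcover hy)
  refine ⟨W i.1, hWV i.1, hyi, ?_⟩
  change res (colimit D) (hWV i.1) (inj D k1 V s) = res (colimit D) (hWV i.1) σ
  rw [← inj_res, ← hs0 i]
  have : res (D.obj k1) (hWV i.1) s = s1 i := hs i
  rw [this, hs1def, inj_tr]

end SecColim

theorem main {X : TopCat.{u}} [TopologicalSpace.NoetherianSpace X]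
    (ι : Type u) [Preorder ι] [IsDirected ι (· ≤ ·)] [Nonempty ι]
    (D : ι ⥤ CohTop.Ab X) (hD : ∀ i : ι, TopCat.Sheaf.IsFlasque (D.obj i)) :
    TopCat.Sheaf.IsFlasque (colimit D : CohTop.Ab X) := by
  constructor
  intro U V i
  rw [AddCommGrpCat.epi_iff_surjective]
  intro σ
  have hV : ∀ W : Opens X, W ≤ V.unop → IsCompact (W : Set X) :=
    fun W _ => TopologicalSpace.NoetherianSpace.isCompact _
  obtain ⟨k, s, rfl⟩ := sec_rep D hV σ
  haveI := (hD k).epi i
  obtain ⟨s', rfl⟩ := (AddCommGrpCat.epi_iff_surjective _).1 this s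
  refine ⟨inj D k U.unop s', ?_⟩
  have hnat := (colimit.ι D k).hom.naturality i
  exact (ConcreteCategory.congr_hom hnat s').symm


end


/-- On a Noetherian topological space X, the direct limit, in the category of abelian sheaves, of a
directed system (F_i) of flasque abelian sheaves indexed by a nonempty directed preorder is flasque
(all its restriction maps are surjective). -/
theorem result {X : TopCat.{u}} [TopologicalSpace.NoetherianSpace X]
    (ι : Type u) [Preorder ι] [IsDirected ι (· ≤ ·)] [Nonempty ι]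
    (D : ι ⥤ CohTop.Ab X) (hD : ∀ i : ι, TopCat.Sheaf.IsFlasque (D.obj i)) :
    TopCat.Sheaf.IsFlasque (colimit D : CohTop.Ab X) := by
  classical
  exact main ι D hD

end Groth.Agent.S11320
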