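import Groth.Statements.S11329
import Mathlib
import Groth.Agent.Lib.Helper5.Flasque.QCohInj

set_option autoImplicit false
universe u
open CategoryTheory AlgebraicGeometry Opposite
open Coherent



namespace Groth.Agent.S11329

/-- Let A be a Noetherian ring and I an injective A-module. Then the quasi-coherent sheaf I~ on Spec A
associated with I is flasque: for all opens U ⊆ V of Spec A the restriction map I~(V) → I~(U) is
surjective. -/
theorem result (A : Type u) [CommRing A] [IsNoetherianRing A]
    (I : Type u) [AddCommGroup I] [Module A I] [Module.Injective A I]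
    (U V : (Spec (CommRingCat.of A)).Opens) (hUV : U ≤ V) :
    Function.Surjective ((tilde (ModuleCat.of A I)).val.map (homOfLE hUV).op).hom := by
  let R : CommRingCat.{u} := CommRingCat.of A
  let M : ModuleCat.{u} R := ModuleCat.of A I
  let F : (Spec R).Modules := tilde M
  have hF : Coh.IsQCoh F := by
    show (tilde M).IsQuasicoherent
    infer_instance
  let G : (Spec R).Modules ⥤ ModuleCat.{u} R := moduleSpecΓFunctor (R := R)
  let adj : tilde.functor R ⊣ G := tilde.adjunction (R := R)
  have hinj : ∀ (n : ℕ) (J : (Spec R).IdealSheafData)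
      (ψ : (Dual3.idealMul (J ^ n)).obj (Coh.structureModule (Spec R)) ⟶ F),
      ∃ t : Coh.structureModule (Spec R) ⟶ F,
        Dual3.idealMulι (J ^ n) (Coh.structureModule (Spec R)) ≫ t = ψ := by
    intro n J ψ
    have hO := Groth.Agent.Helper1.Dv.isCoh_structureModule (Spec R)
    have hK := (Groth.Agent.Helper1.Dv.isCoh_idealMul (J ^ n) _ hO).1
    haveI : (Coh.structureModule (Spec R)).IsQuasicoherent := hO.1
    haveI : ((Dual3.idealMul (J ^ n)).obj (Coh.structureModule (Spec R))).IsQuasicoherent := hK
    haveI hcO : IsIso (adj.counit.app (Coh.structureModule (Spec R))) :=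
      Scheme.Modules.isIso_fromTildeΓ_of_isQuasicoherent (R := R) (Coh.structureModule (Spec R))
    haveI hcK : IsIso (adj.counit.app
        ((Dual3.idealMul (J ^ n)).obj (Coh.structureModule (Spec R)))) :=
      Scheme.Modules.isIso_fromTildeΓ_of_isQuasicoherent (R := R)
        ((Dual3.idealMul (J ^ n)).obj (Coh.structureModule (Spec R)))
    haveI : Mono (Dual3.idealMulι (J ^ n) (Coh.structureModule (Spec R))) := inferInstance
    haveI : G.IsRightAdjoint := adj.isRightAdjoint
    haveI : Mono (G.map (Dual3.idealMulι (J ^ n) (Coh.structureModule (Spec R)))) :=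
      inferInstance
    haveI : Injective M := Module.injective_object_of_injective_module (R := A) (M := I)
    haveI : Injective (G.obj F) :=
      Injective.of_iso ((tilde.toTildeΓNatIso (R := R)).app M) inferInstance
    let t₀ := Injective.factorThru (G.map ψ)
      (G.map (Dual3.idealMulι (J ^ n) (Coh.structureModule (Spec R))))
    have ht₀ : G.map (Dual3.idealMulι (J ^ n) (Coh.structureModule (Spec R))) ≫ t₀ = G.map ψ :=
      Injective.comp_factorThru _ _
    refine ⟨inv (adj.counit.app (Coh.structureModule (Spec R))) ≫ (tilde.functor R).map t₀ ≫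
      adj.counit.app F, ?_⟩
    have h1 := adj.counit.naturality (Dual3.idealMulι (J ^ n) (Coh.structureModule (Spec R)))
    have h2 := adj.counit.naturality ψ
    simp only [Functor.comp_map, Functor.id_map] at h1 h2
    rw [← cancel_epi (adj.counit.app
      ((Dual3.idealMul (J ^ n)).obj (Coh.structureModule (Spec R))))]
    rw [← h2, ← reassoc_of% h1, IsIso.hom_inv_id_assoc, ← Functor.map_comp_assoc, ht₀]
  intro s
  obtain ⟨τ, hτ⟩ := Groth.Agent.Lib.Helper5.FlasqueQC.exists_global_section F hF hinj U s
  refine ⟨Groth.Agent.Helper1.QcCech.res F (le_top : V ≤ ⊤) τ, ?_⟩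
  have h1 := Groth.Agent.Helper1.QcCech.res_res F (le_top : V ≤ ⊤) hUV τ
  exact h1.trans hτ

end Groth.Agent.S11329
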