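import Groth.Statements.S1133
import Groth.Agent.Lib.Helper2.Desc.AffEff


set_option autoImplicit false
open CategoryTheory CategoryTheory.Limits AlgebraicGeometry Opposite
universe u
open Desc

namespace Groth.Agent.S1133

/-- Let p : X ⟶ S be a surjective, flat and quasi-compact morphism of schemes. Every descent datum
relative to p whose underlying scheme is affine over X is effective: it is isomorphic to the
canonical descent datum of some scheme over S. (Descent data are taken in functor-of-points form,
equivalent by the Yoneda lemma to the usual form of an isomorphism over X ×_S X satisfying the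
cocycle condition.) -/
theorem result {X S : Scheme.{u}} (p : X ⟶ S) [Surjective p] [Flat p] [QuasiCompact p]
    (D : Desc.SchDD p) [IsAffineHom D.obj.hom] : ∃ U : Over S, Nonempty ((Desc.toDD p).obj U ≅ D) := by
  apply Groth.Agent.Helper2.DescEff.exists_iso_of_isEffective
  haveI : IsAffineHom (((SchDDFam.ofSchDD.{u, u} p).obj D).obj ⟨⟩).hom :=
    inferInstanceAs (IsAffineHom D.obj.hom)
  exact Groth.Agent.Helper2.DescAff.isEffective_of_affineHom p _

end Groth.Agent.S1133
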