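import Groth.Statements.S1134
import Groth.Agent.Lib.Helper2.Desc.QAff
import Groth.Agent.Lib.Helper2.Desc.Restrict


set_option autoImplicit false
open CategoryTheory CategoryTheory.Limits AlgebraicGeometry Opposite
universe u
open Desc

namespace Groth.Agent.S1134

/-- Let p : X → S be a surjective, flat and quasi-compact morphism of schemes. Every descent datum
relative to p whose underlying scheme is quasi-affine over X is effective: it is isomorphic to the
canonical descent datum of some scheme over S. Descent data are taken in functor-of-points form,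
equivalent by the Yoneda lemma to the usual form of an isomorphism over X ×_S X satisfying the
cocycle condition. -/
theorem result {X S : Scheme.{u}} (p : X ⟶ S) [Surjective p] [Flat p] [QuasiCompact p]
    (D : Desc.SchDD p) (hD : Mor2.IsQuasiAffine D.obj.hom) : ∃ U : Over S, Nonempty ((Desc.toDD p).obj U ≅ D) := by
  classical
  apply Groth.Agent.Helper2.DescEff.exists_iso_of_isEffective
  obtain ⟨Dfam, hDfam⟩ : ∃ Dfam, Dfam = (SchDDFam.ofSchDD.{u, u} p).obj D := ⟨_, rfl⟩
  rw [← hDfam]
  -- the refinement by the affine opens of `X`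
  let K : Type u := Σ _ : PUnit.{u + 1}, X.affineOpens
  let X' : K → Scheme.{u} := fun k => (k.2.1 : Scheme.{u})
  let f' : ∀ k : K, X' k ⟶ S := fun k => k.2.1.ι ≫ p
  have hf' : Presieve.ofArrows X' f' ∈ Scheme.fpqcPrecoverage S := by
    refine Precoverage.comp_mem_coverings (J := Scheme.fpqcPrecoverage)
      (f := fun _ : PUnit.{u + 1} => p) (Groth.Agent.Helper2.DescAff.single_mem_fpqc p)
      (σ := fun _ => X.affineOpens) (Y := fun _ W => (W.1 : Scheme.{u}))
      (fun _ W => W.1.ι) ?_
    intro _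
    apply Scheme.zariskiPrecoverage_le_fpqcPrecoverage
    rw [Scheme.zariskiPrecoverage, Scheme.ofArrows_mem_precoverage_iff]
    refine ⟨fun x => ?_, fun W => inferInstance⟩
    obtain ⟨V, hV, hx, -⟩ := (TopologicalSpace.Opens.isBasis_iff_nbhd.mp X.isBasis_affineOpens)
      (show x ∈ (⊤ : X.Opens) from trivial)
    exact ⟨⟨V, hV⟩, ⟨x, hx⟩, rfl⟩
  have w : ∀ k : K, k.2.1.ι ≫ p = f' k ≫ 𝟙 S := fun k => (Category.comp_id _).symm
  refine Groth.Agent.Helper2.DescPull.isEffective_of_pull (f := fun _ : PUnit.{u + 1} => p)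
    (f' := f') (α := fun _ => PUnit.unit) (p' := fun k => k.2.1.ι) w hf' Dfam ?_
  apply Groth.Agent.Helper2.DescRed.isEffective_of_qaff_fam f' hf'
  intro k
  rw [hDfam]
  change Groth.Agent.Helper2.DescRed.QAff (pullback.snd D.obj.hom k.2.1.ι)
  rw [← pullbackRestrictIsoRestrict_hom_morphismRestrict]
  refine (Groth.Agent.Helper2.DescRed.QAff.{u}.cancel_left_of_respectsIso _ _).mpr ?_
  haveI : IsAffine (k.2.1 : Scheme.{u}) := k.2.2
  haveI : (D.obj.hom ⁻¹ᵁ k.2.1 : Scheme.{u}).IsQuasiAffine := hD.2 k.2.1 k.2.2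
  exact Groth.Agent.Helper2.DescRed.qaff_of_isQuasiAffine _

end Groth.Agent.S1134
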