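import Groth.Statements.S11344
import Mathlib
import Groth.Agent.Lib.Helper1.SurfDual4

set_option autoImplicit false
universe u
open CategoryTheory CategoryTheory.Limits AlgebraicGeometry
open Surf

namespace Groth.Agent.S11344

/-- Let X be a surface over an algebraically closed field k (an integral scheme of dimension two with
all local rings regular, admitting a closed immersion into some P^n_k over k), H an ample invertible
O_X-module, and L an invertible module with (L·H) > 0 and (L·L) > 0, where (L·M) = χ(O_X) - χ(L) -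
χ(M) + χ(L ⊗ M) is the intersection number (packaged as FGA.intNum). Then for all n large enough the
tensor power L^{⊗ n} has a nonzero global section (some effective divisor is linearly equivalent to
nD). -/
theorem result (k : Type u) [Field k] [IsAlgClosed k] (X : Scheme.{u}) [X.Over (Spec (CommRingCat.of k))]
    [IsIntegral X] (hdim : topologicalKrullDim X = 2) (hreg : ∀ x : X, IsRegularLocalRing (X.presheaf.stalk x))
    (hproj : ∃ (n : ℕ) (ι : X ⟶ CohB1.ProjSpace n k), IsClosedImmersion ι ∧ ι ≫ CohB1.ProjSpace.toSpec n k = (X ↘ (Spec (CommRingCat.of k))))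
    (H : X.Modules) (hH : CohB1.IsAmple H) (L : X.Modules) (hL : PicF.IsInvertible L)
    (hLH : 0 < FGA.intNum k X 2 ![L, H] (Coh.structureModule X)) (hLL : 0 < FGA.intNum k X 2 ![L, L] (Coh.structureModule X)) :
    ∃ N : ℕ, ∀ n : ℕ, N ≤ n → Nontrivial (Coh.HH X (CohB1.tensorPow L n) 0) := by
  obtain ⟨n, ι, hcl, hι⟩ := hproj
  haveI := hcl
  haveI : IsProper (CohB1.ProjSpace.toSpec n k) := Groth.Agent.Helper1.VA5.isProper_toSpec n k
  haveI : IsProper (X ↘ Spec (CommRingCat.of k)) := by
    rw [← hι]
    infer_instance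
  obtain ⟨L', hL', ⟨eL⟩⟩ := Groth.Agent.Helper1.InvInv2.exists_inverse hL
  have iL : CohB1.tensorMod L L' ≅ Coh.structureModule X :=
    Groth.Agent.Helper1.TildeTens.tensorModComm L L' ≪≫ eL
  obtain ⟨H', hH', ⟨eH⟩⟩ := Groth.Agent.Helper1.InvInv2.exists_inverse hH.1
  have iH : CohB1.tensorMod H H' ≅ Coh.structureModule X :=
    Groth.Agent.Helper1.TildeTens.tensorModComm H H' ≪≫ eH
  have hLL' : 0 < FGA.intNum k X 2 ![L', L'] (Coh.structureModule X) := by
    rw [Groth.Agent.Helper1.SurfHodge.intNum_inv_inv k X hdim L L' L L' hL hL iL iL]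
    exact hLL
  have hLH' : 0 < FGA.intNum k X 2 ![L', H'] (Coh.structureModule X) := by
    rw [Groth.Agent.Helper1.SurfHodge.intNum_inv_inv k X hdim L L' H H' hL hH.1 iL iH]
    exact hLH
  obtain ⟨m₁, hm₁⟩ :=
    Groth.Agent.Helper1.SurfDual.main k X hdim L L' hL iL hLL' H H' hH iH hLH'
  exact ⟨m₁, fun n hn => (hm₁ n hn).2.2⟩

end Groth.Agent.S11344
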