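import Groth.Statements.S11369
import Mathlib
import Groth.Agent.Lib.Helper1.NM4

set_option autoImplicit false
universe u
open CategoryTheory CategoryTheory.Limits AlgebraicGeometry TopologicalSpace
open Variety

namespace Groth.Agent.S11369

/-- Let X be proper over an algebraically closed field k and L an invertible O_X-module generated by its
global sections. If for every integral closed subscheme C of X of dimension one the pullback of L to
C is ample, then L is ample. -/
theorem result (k : Type u) [Field k] [IsAlgClosed k] (X : Scheme.{u})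
    [X.Over (Spec (CommRingCat.of k))] [IsProper (X ↘ (Spec (CommRingCat.of k)))]
    (L : X.Modules) (hL : PicF.IsInvertible L) (hgen : Curv2.IsGloballyGenerated L)
    (hcurves : ∀ C : X.IdealSheafData, IsIntegral C.subscheme →
      topologicalKrullDim (C.support : Set X) = 1 →
        CohB1.IsAmple ((Scheme.Modules.pullback C.subschemeι).obj L)) :
    CohB1.IsAmple L := by
  haveI := Groth.Agent.Helper1.Euler.isNoetherian_of_proper k X
  have hgen1 : Curv2.IsGloballyGenerated (CohB1.tensorPow L (0 + 1)) :=
    Groth.Agent.Helper1.AmpleLib.isGloballyGenerated_of_iso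
      (Groth.Agent.Helper1.TildeTens.tensorModComm (Coh.structureModule X) L ≪≫
        Groth.Agent.Lib.Helper5.LTenFlf.tensorUnitIso L).symm hgen
  apply Groth.Agent.Helper1.NM.isAmple_of_strictly_nef k X L hL 0 hgen1
  intro ξ hξ
  apply ne_of_gt
  apply Groth.Agent.Helper1.NM.pos_of_ample_restriction k X L hL ξ 1 hξ
  have hd : topologicalKrullDim ((IntMult.ptIdeal ξ).support : Set X) = 1 := by
    rw [Groth.Agent.Helper1.NM.dim_support_ptIdeal ξ 1 hξ, Nat.cast_one]
  exact hcurves (IntMult.ptIdeal ξ) (Groth.Agent.Helper1.Dv.isIntegral_ptIdeal_subscheme ξ) hd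

end Groth.Agent.S11369
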