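import Groth.Statements.S11372
import Mathlib
import Groth.Agent.Lib.Helper1.NM4

set_option autoImplicit false
universe u
open CategoryTheory CategoryTheory.Limits AlgebraicGeometry TopologicalSpace
open Variety

namespace Groth.Agent.S11372

/-- Let X be proper and integral over an algebraically closed field k, L an invertible O_X-module
generated by its global sections, and s : O_X ⟶ L a global section, with U = X_s the open subset
where s generates L (the complement of the support of the effective divisor of s). If U contains no
integral closed subscheme of X of dimension one, then U is an affine open of X. -/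
theorem result (k : Type u) [Field k] [IsAlgClosed k] (X : Scheme.{u})
    [X.Over (Spec (CommRingCat.of k))] [IsProper (X ↘ (Spec (CommRingCat.of k)))] [IsIntegral X]
    (L : X.Modules) (hL : PicF.IsInvertible L) (hgen : Curv2.IsGloballyGenerated L)
    (s : Coh.structureModule X ⟶ L)
    (hcurves : ∀ C : X.IdealSheafData, IsIntegral C.subscheme →
      topologicalKrullDim (C.support : Set X) = 1 →
        ¬ ((C.support : Set X) ⊆ (CohB1.genLocus L s : Set X))) :
    IsAffineOpen (CohB1.genLocus L s) := by
  obtain ⟨n, φ, hφ0, hcov⟩ := Groth.Agent.Helper1.NM.exists_sections k X L hL hgen s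
  rw [← hφ0]
  apply Groth.Agent.Helper1.NM.isAffineOpen_genLocus_of_no_curves k X L hL n φ hcov 0
  intro ξ hξ hsub
  have hd : topologicalKrullDim ((IntMult.ptIdeal ξ).support : Set X) = 1 := by
    rw [Groth.Agent.Helper1.NM.dim_support_ptIdeal ξ 1 hξ, Nat.cast_one]
  apply hcurves (IntMult.ptIdeal ξ) (Groth.Agent.Helper1.Dv.isIntegral_ptIdeal_subscheme ξ) hd
  rw [Groth.Agent.Helper1.NM.coe_support_ptIdeal, ← hφ0]
  exact hsub

end Groth.Agent.S11372
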