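import Groth.Statements.S11376
import Mathlib
import Mathlib
import Groth.Agent.Lib.Helper1.CohDim1
import Groth.Agent.Lib.Helper1.AmpleAff1
import Groth.Agent.Lib.Helper1.ColimCoh2
import Groth.Agent.Lib.Lead.ODiv2
import Groth.Agent.Lib.Helper1.AmpleFam4
import Groth.Agent.Lib.Helper9.RegUFD.Main
import Groth.Agent.Lib.Helper5.KunAD.Basic
import Groth.Agent.Lib.Helper5.Perf.LocalCoh
import Groth.Agent.Lib.Helper4.HHFin2

set_option autoImplicit false
universe u
open CategoryTheory CategoryTheory.Limits AlgebraicGeometry TopologicalSpace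
open CohDim



namespace Groth.Agent.S11376

/-- Let S be an integral scheme, separated and of finite type over an algebraically closed field k, with
all local rings regular, and let r ≥ 0. If H^i(S, E) is finite-dimensional over k for every i > r
and every finite locally free O_S-module E, then H^i(S, F) is finite-dimensional over k for every i
> r and every coherent O_S-module F. -/
theorem result (k : Type u) [Field k] [IsAlgClosed k] (S : Scheme.{u})
    [S.Over (Spec (CommRingCat.of k))] [IsSeparated (S ↘ (Spec (CommRingCat.of k)))]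
    [LocallyOfFiniteType (S ↘ (Spec (CommRingCat.of k)))] [QuasiCompact (S ↘ (Spec (CommRingCat.of k)))]
    [IsIntegral S] (hreg : ∀ x : S, IsRegularLocalRing (S.presheaf.stalk x)) (r : ℕ)
    (hlf : ∀ E : S.Modules, FlatMod.IsFinLocFree E → ∀ i : ℕ, r < i → Module.Finite k (Coh.HH S E i))
    (F : S.Modules) (hF : Coh.IsCoh F) (i : ℕ) (hi : r < i) :
    Module.Finite k (Coh.HH S F i) := by
  haveI : CompactSpace S :=
    (quasiCompact_iff_compactSpace (S ↘ Spec (CommRingCat.of k))).mp inferInstance
  haveI : IsLocallyNoetherian S :=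
    LocallyOfFiniteType.isLocallyNoetherian (S ↘ Spec (CommRingCat.of k))
  haveI : S.IsSeparated := ⟨by
    rw [← CategoryTheory.Limits.terminal.comp_from (S ↘ Spec (CommRingCat.of k))]
    infer_instance⟩
  haveI : IsNoetherian S := {}
  have hΔ : ∀ V W : S.Opens, IsAffineOpen V → IsAffineOpen W → IsAffineOpen (V ⊓ W) :=
    fun V W hV hW =>
      Groth.Agent.Lib.Helper5.KunAD.isAffineOpen_inf (S ↘ Spec (CommRingCat.of k)) hV hW
  have hufd : ∀ x : S, IsDomain (S.presheaf.stalk x) ∧
      UniqueFactorizationMonoid (S.presheaf.stalk x) := fun x => by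
    haveI := hreg x
    exact ⟨inferInstance, Groth.Agent.Helper9.RegUFD.ufd _⟩
  have hres : PerfAux.HasResolutionProperty S :=
    Groth.Agent.Helper1.AmpleFam.hasResolutionProperty_of_hasAmpleFamily
      (Groth.Agent.Lead.ODiv.hasAmpleFamily_of_ufd S hΔ hufd)
  obtain ⟨D, hD⟩ := Groth.Agent.Helper1.CohDim.exists_bound (X := S)
  have key : ∀ j : ℕ, ∀ i : ℕ, r < i → D < i + j → ∀ F : S.Modules, Coh.IsCoh F →
      Module.Finite k (Coh.HH S F i) := by
    intro j
    induction j with
    | zero =>
      intro i _ hDi F hF
      haveI := hF.1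
      haveI : Subsingleton (Coh.HH S F i) := hD F i (by omega)
      exact Module.Finite.of_finite
    | succ j ih =>
      intro i hi hDi F hF
      obtain ⟨E, π, hE, hπ⟩ := hres F hF.1 hF.2
      haveI := hπ
      have hEc : Coh.IsCoh E := Groth.Agent.Lib.Helper5.LocalCoh.isCoh_of_isFinLocFree E hE
      let T : CategoryTheory.ShortComplex S.Modules :=
        CategoryTheory.ShortComplex.mk (CategoryTheory.Limits.kernel.ι π) π
          (CategoryTheory.Limits.kernel.condition π)
      have hT : T.ShortExact :=
        { exact := CategoryTheory.ShortComplex.exact_of_f_is_kernel _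
            (CategoryTheory.Limits.kernelIsKernel π)
          mono_f := inferInstanceAs (Mono (CategoryTheory.Limits.kernel.ι π))
          epi_g := inferInstanceAs (Epi π) }
      have hK : Coh.IsCoh (CategoryTheory.Limits.kernel π) :=
        Groth.Agent.Helper1.FtLocal.isCoh_kernel hEc hF π
      exact Groth.Agent.Lib.Helper4.HHFin2.finite_X₃ k (S := T) hT i (hlf E hE i hi)
        (ih (i + 1) (by omega) (by omega) (CategoryTheory.Limits.kernel π) hK)
  exact key (D + 1) i hi (by omega) F hF

end Groth.Agent.S11376
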