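import Groth.Statements.S11377
import Mathlib
import Groth.Agent.Lib.Helper1.CohDim1
import Groth.Agent.Lib.Helper1.AmpleAff1
import Groth.Agent.Lib.Helper1.ColimCoh2

set_option autoImplicit false
universe u
open CategoryTheory CategoryTheory.Limits AlgebraicGeometry TopologicalSpace
open CohDim

namespace Groth.Agent.S11377

/-- Let S be an integral scheme, separated and of finite type over an algebraically closed field k, with
all local rings regular, let L be an ample invertible O_S-module with tensor inverse M (so S is
quasi-projective and M^{⊗m} plays the role of O_S(-m)), and let r ≥ 0. If there is m₀ such that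
H^i(S, M^{⊗m}) = 0 for every i > r and every m ≥ m₀, then H^i(S, F) = 0 for every i > r and every
coherent O_S-module F. (The published statement takes O_S(1) from a quasi-projective embedding; the
printed proof uses only that F ⊗ O_S(m) is generated by finitely many global sections for m ≫ 0,
which holds for any ample L.) -/
theorem result (k : Type u) [Field k] [IsAlgClosed k] (S : Scheme.{u})
    [S.Over (Spec (CommRingCat.of k))] [IsSeparated (S ↘ (Spec (CommRingCat.of k)))]
    [LocallyOfFiniteType (S ↘ (Spec (CommRingCat.of k)))] [QuasiCompact (S ↘ (Spec (CommRingCat.of k)))]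
    [IsIntegral S] (hreg : ∀ x : S, IsRegularLocalRing (S.presheaf.stalk x))
    (L M : S.Modules) (hL : CohB1.IsAmple L) (hM : ClSub.IsInverseOf M L) (r : ℕ)
    (hneg : ∃ m₀ : ℕ, ∀ m : ℕ, m₀ ≤ m → ∀ i : ℕ, r < i → Subsingleton (Coh.HH S (CohB1.tensorPow M m) i))
    (F : S.Modules) (hF : Coh.IsCoh F) (i : ℕ) (hi : r < i) :
    Subsingleton (Coh.HH S F i) := by
  haveI : CompactSpace S := hL.2.1
  haveI : IsLocallyNoetherian S :=
    LocallyOfFiniteType.isLocallyNoetherian (S ↘ Spec (CommRingCat.of k))
  haveI : S.IsSeparated := ⟨by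
    rw [← terminal.comp_from (S ↘ Spec (CommRingCat.of k))]
    infer_instance⟩
  obtain ⟨m₀, hm₀⟩ := hneg
  obtain ⟨eM⟩ := hM
  have e : CohB1.tensorMod L M ≅ Coh.structureModule S :=
    Groth.Agent.Helper1.TildeTens.tensorModComm L M ≪≫ eM
  have hMinv : PicF.IsInvertible M := Groth.Agent.Helper1.AmpleAff.isInvertible_of_inverse hL.1 e
  obtain ⟨D, hD⟩ := Groth.Agent.Helper1.CohDim.exists_bound (X := S)
  have key : ∀ j : ℕ, ∀ i : ℕ, r < i → D < i + j → ∀ F : S.Modules, Coh.IsCoh F →
      Subsingleton (Coh.HH S F i) := by
    intro j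
    induction j with
    | zero =>
      intro i _ hDi F hF
      haveI := hF.1
      exact hD F i (by omega)
    | succ j ih =>
      intro i hi hDi F hF
      obtain ⟨n, hn, r', π, hπ⟩ := Groth.Agent.Helper1.AmpleAff.exists_epi_negPow hL e F hF m₀
      haveI := hπ
      have hEc : Coh.IsCoh (∐ fun _ : Fin r' => CohB1.tensorPow M n) :=
        Groth.Agent.Helper1.Dv.isCoh_coprod _ (Groth.Agent.Helper1.InvQc.isCoh_of_isInvertible _
          (Groth.Agent.Helper1.TwForm.isInvertible_tensorPow hMinv n)) r'
      let T : ShortComplex S.Modules := ShortComplex.mk (kernel.ι π) π (kernel.condition π)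
      have hT : T.ShortExact :=
        { exact := ShortComplex.exact_of_f_is_kernel _ (kernelIsKernel π)
          mono_f := inferInstanceAs (Mono (kernel.ι π))
          epi_g := inferInstanceAs (Epi π) }
      have hK : Coh.IsCoh (kernel π) := Groth.Agent.Helper1.FtLocal.isCoh_kernel hEc hF π
      have hE : Subsingleton (Coh.HH S (∐ fun _ : Fin r' => CohB1.tensorPow M n) i) := by
        rw [← Groth.Agent.Helper1.ColimCoh.isZero_HHfunctor_iff]
        exact Groth.Agent.Helper1.ColimCoh.isZero_map_sigma_of_finite
          (Groth.Agent.Helper1.ColimCoh.HHfunctor S i) _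
          (fun _ => (Groth.Agent.Helper1.ColimCoh.isZero_HHfunctor_iff _ _).2 (hm₀ n hn i hi))
      exact Groth.Agent.Helper1.CohDim.subsingleton_HH_X₃ (S := T) hT i hE
        (ih (i + 1) (by omega) (by omega) (kernel π) hK)
  exact key (D + 1) i hi (by omega) F hF

end Groth.Agent.S11377
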