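import Groth.Statements.S11424
import Groth.Agent.Lib.Helper2.Sch.FppfLift
import Groth.Agent.S0082


set_option autoImplicit false
universe u
open CategoryTheory MonoidalCategory CartesianMonoidalCategory MonObj GrpObj AlgebraicGeometry CategoryTheory.Limits
open AlgGrp

namespace Groth.Agent.S11424

/-- Over an algebraically closed field k, let G be an algebraic group (a smooth k-group scheme of finite
type), h : H → G a smooth affine closed normal subgroup, and q : G → Q a flat surjective
homomorphism of k-group schemes of finite type with kernel h (so Q = G/H). Then the quotient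
morphism q is affine. (The published statement is the equivalence between affineness of G and of
both H and G/H; this row states that the quotient morphism G → G/H is affine.) -/
theorem result (k : Type u) [Field k] [IsAlgClosed k]
    (G H Q : Over (Spec (CommRingCat.of k))) [GrpObj G] [Smooth G.hom] [QuasiCompact G.hom]
    [GrpObj H] (h : H ⟶ G) [IsMonHom h] [IsClosedImmersion h.left] [Smooth H.hom] [IsAffine H.left]
    [GrpObj Q] [LocallyOfFiniteType Q.hom] [QuasiCompact Q.hom]
    (q : G ⟶ Q) [IsMonHom q] [Surjective q.left] [Flat q.left] (hk : AlgGrp.IsKernel h q) :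
    IsAffineHom q.left := by
  haveI := Groth.Agent.S0082.result.{u}
  haveI : LocallyOfFiniteType G.hom := inferInstance
  haveI : LocallyOfFinitePresentation q.left := Groth.Agent.Helper2.FppfLift.lfp_left q
  have hH : IsAffineHom H.hom := inferInstance
  have sq := Groth.Agent.Lib.Helper4.GrpKer2.isPullback_left
    (Groth.Agent.Lib.Helper4.GrpKer2.isPullback_shear q h hk)
  exact MorphismProperty.of_isPullback_of_descendsAlong (P := @IsAffineHom)
    (Q := @Surjective ⊓ @Flat ⊓ @LocallyOfFinitePresentation) sq
    ⟨⟨inferInstance, inferInstance⟩, inferInstance⟩
    (Groth.Agent.Lib.Helper4.GrpKer2.prop_fst_left G H @IsAffineHom hH)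

end Groth.Agent.S11424
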