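import Groth.Statements.S11445
import Mathlib
import Groth.Agent.Lib.Lead.GITQuot

set_option autoImplicit false
universe u
open CategoryTheory MonoidalCategory CartesianMonoidalCategory MonObj GrpObj AlgebraicGeometry Topology
open GIT

namespace Groth.Agent.S11445

/-- Let G act on X over S and let φ : X → Y over S satisfy (i) φ ∘ σ = φ ∘ p₂, (ii) O_Y is the sheaf of
invariant functions (each Γ(U, O_Y) → Γ(φ⁻¹U, O_X) injective with image the invariant sections),
(iii) the image of every closed invariant subset of X is closed and φ(⋂ W_i) = ⋂ φ(W_i) for every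
family of closed invariant subsets. Then (Y, φ) is a categorical quotient of X by G, and φ is
submersive. -/
theorem result (S : Scheme.{u}) (G X Y : Over S) [GrpObj G]
    (a : AlgGrp.Action G X) (φ : X ⟶ Y) (hi : GIT.IsInvariant a φ)
    (hii : ∀ U : Y.left.Opens,
      Function.Injective (φ.left.app U) ∧ Set.range (φ.left.app U) = {f | GIT.IsInvSection a φ U f})
    (hiii : ∀ W : Set X.left, IsClosed W → a.act.left.base '' ((snd G X).left.base ⁻¹' W) ⊆ W →
      IsClosed (φ.left.base '' W))
    (hiii' : ∀ (J : Type u) (W : J → Set X.left),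
      (∀ i, IsClosed (W i) ∧ a.act.left.base '' ((snd G X).left.base ⁻¹' W i) ⊆ W i) →
      φ.left.base '' (⋂ i, W i) = ⋂ i, φ.left.base '' W i) :
    GIT.IsCatQuot a φ ∧ IsQuotientMap φ.left.base := by
  classical
  have hs : Function.Surjective φ.left.base :=
    Groth.Agent.Lead.GITQuot.surjective_of_closed_range φ.left (fun U => (hii U).1) (by
      have := hiii Set.univ isClosed_univ (Set.subset_univ _)
      rwa [Set.image_univ] at this)
  have hepi : Epi φ.left := by
    haveI : Surjective φ.left := ⟨hs⟩
    exact Groth.Agent.Helper4.EP.epi_of_surjective_of_app_injective _ (fun U => (hii U).1)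
  refine ⟨⟨hi, fun Z ψ hψ => ?_⟩, ?_⟩
  · obtain ⟨χ, hχ⟩ := Groth.Agent.Lead.GITQuot.exists_fac a.act.left (snd G X).left φ.left ψ.left
      hψ.left (fun U => ⟨(hii U).1, fun s hs' => by rw [(hii U).2]; exact hs'⟩) hs hiii hiii'
    have hw : χ ≫ Z.hom = Y.hom := by
      rw [← cancel_epi φ.left, ← Category.assoc, hχ, Over.w, Over.w]
    refine ⟨Over.homMk χ hw, ?_, ?_⟩
    · ext
      exact hχ
    · intro χ' hχ'
      ext
      rw [← cancel_epi φ.left]
      show φ.left ≫ χ'.left = φ.left ≫ χ
      rw [hχ, ← Over.comp_left, hχ']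
  · exact Groth.Agent.Lead.GITQuot.isQuotientMap_of a.act.left (snd G X).left φ.left hi.left hs hiii

end Groth.Agent.S11445
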