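import Groth.Statements.S11427
import Mathlib
import Groth.Agent.S11445

set_option autoImplicit false
universe u
open CategoryTheory MonoidalCategory CartesianMonoidalCategory MonObj GrpObj AlgebraicGeometry Topology
open GIT

namespace Groth.Agent.S11427

/-- A geometric quotient of X by G is a categorical quotient, and a universal geometric quotient is a
universal categorical quotient. -/
theorem result (S : Scheme.{u}) (G X Y : Over S) [GrpObj G] (a : AlgGrp.Action G X)
    (φ : X ⟶ Y) (h : GIT.IsGeomQuot a φ) :
    GIT.IsCatQuot a φ ∧ (GIT.IsUnivGeomQuot a φ → GIT.IsUnivCatQuot a φ) := by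
  classical
  have key : ∀ (X Y : Over S) (a : AlgGrp.Action G X) (φ : X ⟶ Y),
      GIT.IsGeomQuot a φ → GIT.IsCatQuot a φ := by
    intro X Y a φ h
    have hsat : ∀ (W : Set X.left), a.act.left.base '' ((snd G X).left.base ⁻¹' W) ⊆ W →
        ∀ x ∈ W, ∀ x', φ.left.base x' = φ.left.base x → x' ∈ W := by
      intro W hW x hx x' hxx'
      obtain ⟨t, ht1, ht2⟩ := Scheme.Pullback.exists_preimage_pullback x' x hxx'
      obtain ⟨z, rfl⟩ := h.orbit t
      have e1 : a.act.left.base z = x' := by
        rw [← ht1]
        have := congrArg (fun g : (G ⊗ X).left ⟶ X.left => g.base z)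
          (Limits.pullback.lift_fst a.act.left (snd G X).left h.inv.left)
        exact this.symm
      have e2 : (snd G X).left.base z = x := by
        rw [← ht2]
        have := congrArg (fun g : (G ⊗ X).left ⟶ X.left => g.base z)
          (Limits.pullback.lift_snd a.act.left (snd G X).left h.inv.left)
        exact this.symm
      apply hW
      refine ⟨z, ?_, e1⟩
      show (snd G X).left.base z ∈ W
      rw [e2]
      exact hx
    have hq : IsQuotientMap φ.left.base :=
      MorphismProperty.universally_le _ _ h.subm
    refine (Groth.Agent.S11445.result S G X Y a φ h.inv h.sections ?_ ?_).1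
    · intro W hWc hW
      rw [← hq.isClosed_preimage]
      have : φ.left.base ⁻¹' (φ.left.base '' W) = W := by
        apply Set.Subset.antisymm
        · rintro x' ⟨x, hx, hxx'⟩
          exact hsat W hW x hx x' hxx'.symm
        · exact Set.subset_preimage_image _ _
      rw [this]
      exact hWc
    · intro J W hW
      apply Set.Subset.antisymm
      · exact Set.image_iInter_subset _ _
      · intro y hy
        obtain ⟨x, rfl⟩ := h.surj y
        refine ⟨x, ?_, rfl⟩
        rw [Set.mem_iInter] at hy ⊢
        intro i
        obtain ⟨xi, hxi, hxx⟩ := hy i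
        exact hsat (W i) (hW i).2 xi hxi x hxx.symm
  refine ⟨key X Y a φ h, fun hu => ⟨key X Y a φ h, ?_⟩⟩
  intro X' Y' pr φ' g hg hpb a' heq hinv
  exact key X' Y' a' φ' (hu.2 pr φ' g hg hpb a' heq hinv)

end Groth.Agent.S11427
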