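import Groth.Statements.S11451
import Mathlib
import Groth.Prelude.Def_CAlgX
import Groth.Agent.S2453
import Groth.Agent.S2451
-- import your own Groth.Agent.* helpers here

set_option autoImplicit false
universe u
open DefT

namespace Groth.Agent.S11451

namespace Aux
open IsLocalRing

section A
variable (k : Type u) [Field k] (A : Type u) [CommRing A] [IsLocalRing A] [Algebra k A]

theorem geomRed (hres : Function.Surjective (algebraMap k (ResidueField A))) :
    Algebra.IsGeometricallyReduced k (ResidueField A) := by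
  have hbij : Function.Bijective (algebraMap k (ResidueField A)) :=
    ⟨(algebraMap k (ResidueField A)).injective, hres⟩
  let e : k ≃ₐ[k] ResidueField A := AlgEquiv.ofBijective (Algebra.ofId k _) hbij
  haveI : Algebra.FormallySmooth k (ResidueField A) := Algebra.FormallySmooth.of_equiv e
  exact (Groth.Agent.S2451.result (k := k) (K := ResidueField A)).1 inferInstance

theorem reg_iff [IsNoetherianRing A] (hres : Function.Surjective (algebraMap k (ResidueField A))) :
    IsRegularLocalRing A ↔ CAlgX.IsAdicFormallySmooth k A (maximalIdeal A) := by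
  haveI := geomRed k A hres
  exact ((Groth.Agent.S2453.result (k := k) (A := A)).out 3 0)

end A

section fin
variable (k : Type u) [Field k] (A : Type u) [CommRing A] [IsLocalRing A] [Algebra k A]

/-- every element is a constant modulo the maximal ideal -/
theorem exists_const (hres : Function.Surjective (algebraMap k (ResidueField A))) (a : A) :
    ∃ c : k, a - algebraMap k A c ∈ maximalIdeal A := by
  obtain ⟨c, hc⟩ := hres (residue A a)
  refine ⟨c, ?_⟩
  rw [← IsLocalRing.residue_eq_zero_iff, map_sub, ← hc]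
  rw [IsScalarTower.algebraMap_apply k A (ResidueField A)]
  simp

theorem fin_pow [IsNoetherianRing A] (hres : Function.Surjective (algebraMap k (ResidueField A)))
    (j : ℕ) : Module.Finite k (A ⧸ (maximalIdeal A) ^ j) := by
  induction j with
  | zero =>
    have : Subsingleton (A ⧸ (maximalIdeal A) ^ 0) := by
      rw [pow_zero, Ideal.one_eq_top]; exact Ideal.Quotient.subsingleton_iff.2 rfl
    infer_instance
  | succ j ih =>
    let π : (A ⧸ (maximalIdeal A) ^ (j + 1)) →ₗ[k] (A ⧸ (maximalIdeal A) ^ j) :=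
      (Ideal.Quotient.factorₐ k (Ideal.pow_le_pow_right (Nat.le_succ j))).toLinearMap
    have hπs : Function.Surjective π := Ideal.Quotient.factor_surjective (Ideal.pow_le_pow_right (Nat.le_succ j))
    rw [Module.finite_def]
    apply Submodule.fg_of_fg_map_of_fg_inf_ker π
    · rw [Submodule.map_top, LinearMap.range_eq_top.2 hπs]
      exact Module.finite_def.1 ih
    · rw [top_inf_eq]
      obtain ⟨G, hG⟩ := (isNoetherianRing_iff_ideal_fg A).1 inferInstance ((maximalIdeal A) ^ j)
      have hle : LinearMap.ker π ≤ Submodule.span k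
          ((fun g => Ideal.Quotient.mk ((maximalIdeal A) ^ (j + 1)) g) '' (G : Set A)) := by
        intro x hx
        obtain ⟨a, rfl⟩ := Ideal.Quotient.mk_surjective x
        have ha : a ∈ (maximalIdeal A) ^ j := by
          have : π (Ideal.Quotient.mk _ a) = 0 := hx
          simpa [π, Ideal.Quotient.eq_zero_iff_mem] using this
        rw [← hG] at ha
        refine Submodule.span_induction (p := fun a _ => Ideal.Quotient.mk ((maximalIdeal A) ^ (j + 1)) a ∈ Submodule.span k
          ((fun g => Ideal.Quotient.mk ((maximalIdeal A) ^ (j + 1)) g) '' (G : Set A))) ?_ ?_ ?_ ?_ ha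
        · intro g hg
          exact Submodule.subset_span ⟨g, hg, rfl⟩
        · simp
        · intro x y _ _ hx hy
          rw [map_add]; exact Submodule.add_mem _ hx hy
        · intro a x hx' hx
          obtain ⟨c, hc⟩ := exists_const k A hres a
          have hxj : x ∈ (maximalIdeal A) ^ j := by rw [← hG]; exact hx'
          have : Ideal.Quotient.mk ((maximalIdeal A) ^ (j + 1)) (a • x) =
              c • Ideal.Quotient.mk ((maximalIdeal A) ^ (j + 1)) x := by
            rw [smul_eq_mul, Algebra.smul_def (R := k), ← sub_eq_zero,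
              IsScalarTower.algebraMap_apply k A (A ⧸ (maximalIdeal A) ^ (j + 1)),
              Ideal.Quotient.algebraMap_eq, ← map_mul, ← map_sub, Ideal.Quotient.eq_zero_iff_mem,
              ← sub_mul, pow_succ']
            exact Ideal.mul_mem_mul hc hxj
          rw [this]
          exact Submodule.smul_mem _ _ hx
      refine Submodule.FG.of_le ?_ hle
      exact Submodule.fg_span ((G.finite_toSet).image _)
end fin


/-- an extension of a finite-dimensional algebra by a finitely generated square-zero ideal is finite-dimensional -/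
theorem finite_of_sqZero (k : Type u) [Field k] (B : Type u) [CommRing B] [Algebra k B]
    (J : Ideal B) (hJfg : J.FG) (hJ : J ^ 2 = ⊥) [Module.Finite k (B ⧸ J)] : Module.Finite k B := by
  let π : B →ₗ[k] B ⧸ J := (Ideal.Quotient.mkₐ k J).toLinearMap
  have hπs : Function.Surjective π := Ideal.Quotient.mk_surjective
  have hπ0 : ∀ b, π b = 0 → b ∈ J := fun b hb => Ideal.Quotient.eq_zero_iff_mem.1 hb
  rw [Module.finite_def]
  apply Submodule.fg_of_fg_map_of_fg_inf_ker π
  · rw [Submodule.map_top, LinearMap.range_eq_top.2 hπs]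
    exact Module.finite_def.1 inferInstance
  · rw [top_inf_eq]
    obtain ⟨s, hs⟩ := hJfg
    obtain ⟨T0, hT0⟩ := Module.finite_def.1 (inferInstance : Module.Finite k (B ⧸ J))
    classical
    let T : Finset B := T0.image (Function.surjInv hπs)
    have hT : Submodule.map π (Submodule.span k (T : Set B)) = ⊤ := by
      rw [Submodule.map_span, ← hT0]
      congr 1
      ext y
      simp only [T, Finset.coe_image, Set.mem_image, Finset.mem_coe]
      constructor
      · rintro ⟨_, ⟨t, ht, rfl⟩, rfl⟩
        rw [Function.surjInv_eq hπs]; exact ht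
      · intro hy
        exact ⟨_, ⟨y, hy, rfl⟩, Function.surjInv_eq hπs y⟩
    set Sp : Submodule k B := Submodule.span k ((fun p : B × B => p.1 * p.2) '' ((T : Set B) ×ˢ (s : Set B))) with hSp
    have claim1 : ∀ b : B, ∀ σ ∈ s, b * σ ∈ Sp := by
      intro b σ hσ
      have h1 : π b ∈ Submodule.map π (Submodule.span k (T : Set B)) := by rw [hT]; trivial
      obtain ⟨b', hb', hb'1⟩ := h1
      have hj : b - b' ∈ J := hπ0 _ (by rw [map_sub, hb'1, sub_self])
      have hxJ : σ ∈ J := by rw [← hs]; exact Ideal.subset_span hσ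
      have hz : (b - b') * σ = 0 := by
        have : (b - b') * σ ∈ J ^ 2 := by rw [pow_two]; exact Ideal.mul_mem_mul hj hxJ
        rw [hJ] at this; exact this
      have hx' : b * σ = b' * σ := by
        have := hz; rw [sub_mul, sub_eq_zero] at this; exact this
      rw [hx']
      refine Submodule.span_induction (p := fun b _ => b * σ ∈ Sp) ?_ ?_ ?_ ?_ hb'
      · intro t ht
        exact Submodule.subset_span ⟨(t, σ), ⟨ht, hσ⟩, rfl⟩
      · simp
      · intro a b _ _ ha hb
        rw [add_mul]; exact Submodule.add_mem _ ha hb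
      · intro c b _ hb
        rw [smul_mul_assoc]; exact Submodule.smul_mem _ _ hb
    have claim2 : ∀ b : B, ∀ y ∈ Sp, b * y ∈ Sp := by
      intro b y hy
      refine Submodule.span_induction (p := fun y _ => b * y ∈ Sp) ?_ ?_ ?_ ?_ hy
      · rintro _ ⟨⟨t, σ⟩, ⟨_, hσ⟩, rfl⟩
        change b * (t * σ) ∈ Sp
        rw [← mul_assoc]; exact claim1 _ σ hσ
      · simp
      · intro x y _ _ hx hy
        rw [mul_add]; exact Submodule.add_mem _ hx hy
      · intro c x _ hx
        rw [mul_smul_comm]; exact Submodule.smul_mem _ _ hx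
    have hle : LinearMap.ker π ≤ Sp := by
      intro y hy
      have hyJ : y ∈ J := hπ0 _ hy
      rw [← hs] at hyJ
      refine Submodule.span_induction (p := fun y _ => y ∈ Sp) ?_ ?_ ?_ ?_ hyJ
      · intro x hx
        have := claim1 1 x hx
        rwa [one_mul] at this
      · simp
      · intro x y _ _ hx hy
        exact Submodule.add_mem _ hx hy
      · intro b x _ hx
        exact claim2 b x hx
    refine Submodule.FG.of_le ?_ hle
    exact Submodule.fg_span (((T.finite_toSet).prod (s.finite_toSet)).image _)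


section D
variable (k : Type u) [Field k] (A : Type u) [CommRing A] [Algebra k A]

theorem step2 (I : Ideal A) [IsLocalRing (A ⧸ I)] [Module.Finite k (A ⧸ I)]
    (H : ∀ (B' : Type u) [CommRing B'] [IsLocalRing B'] [Algebra k B'] [Module.Finite k B']
        (J : Ideal B'), J ^ 2 = ⊥ → ∀ f : A →ₐ[k] B' ⧸ J,
          ∃ g : A →ₐ[k] B', (Ideal.Quotient.mkₐ k J).comp g = f)
    (B0 : Type u) [CommRing B0] [Algebra k B0] [Algebra.FiniteType k B0]
    (π : B0 →ₐ[k] A ⧸ I) (hπs : Function.Surjective π)
    (hsq : (RingHom.ker (π : B0 →+* (A ⧸ I))) ^ 2 = ⊥) :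
    ∃ g : A →ₐ[k] B0, ∀ a, π (g a) = Ideal.Quotient.mk I a := by
  set J0 : Ideal B0 := RingHom.ker (π : B0 →+* (A ⧸ I)) with hJ0
  let e : (B0 ⧸ J0) ≃ₐ[k] (A ⧸ I) := Ideal.quotientKerAlgEquivOfSurjective hπs
  have he : ∀ b : B0, e (Ideal.Quotient.mk J0 b) = π b := fun b => rfl
  haveI : Module.Finite k (B0 ⧸ J0) := Module.Finite.equiv e.symm.toLinearEquiv
  haveI : IsNoetherianRing B0 := Algebra.FiniteType.isNoetherianRing k B0
  haveI : Module.Finite k B0 := finite_of_sqZero k B0 J0 (IsNoetherian.noetherian J0) hsq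
  haveI : IsLocalHom (π : B0 →+* (A ⧸ I)) := by
    constructor
    intro a ha
    rw [← IsNilpotent.isUnit_quotient_mk_iff (I := J0) ⟨2, hsq⟩]
    have : IsUnit (e (Ideal.Quotient.mk J0 a)) := by rw [he]; exact ha
    exact (isUnit_map_iff e _).1 this
  haveI : IsLocalRing B0 := RingHom.domain_isLocalRing (π : B0 →+* (A ⧸ I))
  let f : A →ₐ[k] B0 ⧸ J0 := (e.symm : (A ⧸ I) →ₐ[k] B0 ⧸ J0).comp (Ideal.Quotient.mkₐ k I)
  obtain ⟨g, hg⟩ := H B0 J0 hsq f
  refine ⟨g, fun a => ?_⟩
  have h1 : Ideal.Quotient.mk J0 (g a) = f a := by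
    have := congrArg (fun φ => φ a) hg
    exact this
  rw [← he, h1]
  change e (e.symm (Ideal.Quotient.mk I a)) = _
  rw [AlgEquiv.apply_symm_apply]

theorem ker_sq {R A' : Type u} [CommRing R] [Algebra k R] [CommRing A'] [Algebra k A'] (J' : Ideal A')
    (hJ' : J' ^ 2 = ⊥) (ψb : R →ₐ[k] A' ⧸ J') (B0 : Subalgebra k (R × A'))
    (hB0 : ∀ x ∈ B0, ψb x.1 = Ideal.Quotient.mk J' x.2) :
    (RingHom.ker (((AlgHom.fst k R A').comp B0.val : B0 →ₐ[k] R) : B0 →+* R)) ^ 2 = ⊥ := by
  rw [eq_bot_iff, pow_two, Ideal.mul_le]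
  intro x hx y hy
  rw [Ideal.mem_bot]
  have hx1 : (x : R × A').1 = 0 := hx
  have hy1 : (y : R × A').1 = 0 := hy
  have hx2 : (x : R × A').2 ∈ J' := by
    have := hB0 x x.2
    rw [hx1, map_zero] at this
    exact Ideal.Quotient.eq_zero_iff_mem.1 this.symm
  have hy2 : (y : R × A').2 ∈ J' := by
    have := hB0 y y.2
    rw [hy1, map_zero] at this
    exact Ideal.Quotient.eq_zero_iff_mem.1 this.symm
  have h2 : (x : R × A').2 * (y : R × A').2 = 0 := by
    have : (x : R × A').2 * (y : R × A').2 ∈ J' ^ 2 := by rw [pow_two]; exact Ideal.mul_mem_mul hx2 hy2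
    rw [hJ'] at this; exact this
  apply Subtype.ext
  apply Prod.ext
  · change (x : R × A').1 * (y : R × A').1 = 0
    rw [hx1, zero_mul]
  · exact h2

theorem adic_of_lift [IsLocalRing A] [IsNoetherianRing A]
    (hres : Function.Surjective (algebraMap k (ResidueField A)))
    (H : ∀ (B' : Type u) [CommRing B'] [IsLocalRing B'] [Algebra k B'] [Module.Finite k B']
        (J : Ideal B'), J ^ 2 = ⊥ → ∀ f : A →ₐ[k] B' ⧸ J,
          ∃ g : A →ₐ[k] B', (Ideal.Quotient.mkₐ k J).comp g = f) :
    CAlgX.IsAdicFormallySmooth k A (maximalIdeal A) := by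
  intro A' _ _ J' hJ' ψ hψ
  obtain ⟨n, hn⟩ := hψ
  have hn' : ∀ x ∈ (maximalIdeal A) ^ (n + 1), ψ x = 0 := fun x hx =>
    hn x (Ideal.pow_le_pow_right (Nat.le_succ n) hx)
  set I : Ideal A := (maximalIdeal A) ^ (n + 1) with hI
  have hIne : I ≠ ⊤ := by
    intro h
    have : I ≤ maximalIdeal A := by
      rw [hI, pow_succ]; exact Ideal.mul_le_right
    rw [h] at this
    exact (IsLocalRing.maximalIdeal.isMaximal A).ne_top (top_le_iff.1 this)
  haveI : Nontrivial (A ⧸ I) := Ideal.Quotient.nontrivial_iff.2 hIne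
  haveI : IsLocalRing (A ⧸ I) := IsLocalRing.of_surjective' (Ideal.Quotient.mk I) Ideal.Quotient.mk_surjective
  haveI : Module.Finite k (A ⧸ I) := fin_pow k A hres (n + 1)
  let ψb : (A ⧸ I) →ₐ[k] A' ⧸ J' := Ideal.Quotient.liftₐ I ψ hn'
  have hψb : ∀ a, ψb (Ideal.Quotient.mk I a) = ψ a := fun a => rfl
  clear_value ψb
  obtain ⟨T0, hT0⟩ := Module.finite_def.1 (inferInstance : Module.Finite k (A ⧸ I))
  have hlift : ∀ r : A ⧸ I, ∃ a' : A', ψb r = Ideal.Quotient.mk J' a' := fun r => by
    obtain ⟨a', ha'⟩ := Ideal.Quotient.mk_surjective (ψb r)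
    exact ⟨a', ha'.symm⟩
  choose l hl using hlift
  classical
  let T : Finset ((A ⧸ I) × A') := T0.image (fun r => (r, l r))
  let B0 : Subalgebra k ((A ⧸ I) × A') := Algebra.adjoin k (T : Set ((A ⧸ I) × A'))
  have hB0 : ∀ x ∈ B0, ψb x.1 = Ideal.Quotient.mk J' x.2 := by
    intro x hx
    refine Algebra.adjoin_induction (p := fun x _ => ψb x.1 = Ideal.Quotient.mk J' x.2) ?_ ?_ ?_ ?_ hx
    · intro x hx
      simp only [T, Finset.coe_image, Set.mem_image] at hx
      obtain ⟨r, _, rfl⟩ := hx
      exact hl r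
    · intro c
      simp only [Prod.algebraMap_apply, Prod.fst, Prod.snd]
      rw [AlgHom.commutes, ← Ideal.Quotient.mkₐ_eq_mk k, AlgHom.commutes]
    · intro x y _ _ hx hy
      simp only [Prod.fst_add, Prod.snd_add, map_add, hx, hy]
    · intro x y _ _ hx hy
      simp only [Prod.fst_mul, Prod.snd_mul, map_mul, hx, hy]
  let π : B0 →ₐ[k] (A ⧸ I) := (AlgHom.fst k (A ⧸ I) A').comp B0.val
  have hπs : Function.Surjective π := by
    rw [← AlgHom.range_eq_top, ← Algebra.toSubmodule_eq_top, eq_top_iff, ← hT0, Submodule.span_le]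
    intro r hr
    refine ⟨⟨(r, l r), Algebra.subset_adjoin ?_⟩, rfl⟩
    simp only [T, Finset.coe_image]
    exact ⟨r, hr, rfl⟩
  have hsq : (RingHom.ker (π : B0 →+* (A ⧸ I))) ^ 2 = ⊥ := ker_sq k J' hJ' ψb B0 hB0
  haveI : Algebra.FiniteType k B0 := (Subalgebra.fg_iff_finiteType _).1 (Subalgebra.fg_adjoin_finset T)
  obtain ⟨g, hg⟩ := step2 k A I H B0 π hπs hsq
  refine ⟨(AlgHom.snd k (A ⧸ I) A').comp (B0.val.comp g), ?_⟩
  ext a
  have h3 := hB0 (g a) (g a).2
  change Ideal.Quotient.mk J' ((g a : B0) : (A ⧸ I) × A').2 = ψ a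
  rw [← h3]
  change ψb (π (g a)) = ψ a
  rw [hg, hψb]


theorem lift_of_adic [IsLocalRing A]
    (hs : CAlgX.IsAdicFormallySmooth k A (maximalIdeal A))
    (B' : Type u) [CommRing B'] [Algebra k B'] [Module.Finite k B']
    (J : Ideal B') (hJ : J ^ 2 = ⊥) (f : A →ₐ[k] B' ⧸ J) :
    ∃ g : A →ₐ[k] B', (Ideal.Quotient.mkₐ k J).comp g = f := by
  apply hs B' J hJ f
  haveI : IsNoetherianRing (B' ⧸ J) := Algebra.FiniteType.isNoetherianRing k (B' ⧸ J)
  have hnil : ∀ x ∈ maximalIdeal A, f x ∈ nilradical (B' ⧸ J) := by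
    intro x hx
    rw [mem_nilradical, nilpotent_iff_mem_prime]
    intro P hP
    haveI := hP
    let q : Ideal A := P.comap (f : A →+* B' ⧸ J)
    haveI : q.IsPrime := Ideal.comap_isPrime _ P
    let φ : (A ⧸ q) →ₐ[k] (B' ⧸ J) ⧸ P := Ideal.quotientMapₐ P f le_rfl
    have hφ : Function.Injective φ := Ideal.quotientMap_injective
    haveI : Algebra.IsIntegral k ((B' ⧸ J) ⧸ P) := inferInstance
    haveI : Algebra.IsIntegral k (A ⧸ q) := Algebra.IsIntegral.of_injective φ hφ
    have hfield : IsField (A ⧸ q) := isField_of_isIntegral_of_isField' (R := k) (Field.toIsField k)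
    have hmax : q.IsMaximal := Ideal.Quotient.maximal_of_isField q hfield
    have hq : q = maximalIdeal A := IsLocalRing.eq_maximalIdeal hmax
    have : x ∈ q := by rw [hq]; exact hx
    exact this
  obtain ⟨n, hn⟩ := IsNoetherianRing.isNilpotent_nilradical (B' ⧸ J)
  refine ⟨n, fun x hx => ?_⟩
  have h1 : (maximalIdeal A).map (f : A →+* B' ⧸ J) ≤ nilradical (B' ⧸ J) := by
    rw [Ideal.map_le_iff_le_comap]
    exact hnil
  have h2 : f x ∈ ((maximalIdeal A) ^ n).map (f : A →+* B' ⧸ J) := Ideal.mem_map_of_mem _ hx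
  rw [Ideal.map_pow] at h2
  have h3 := Ideal.pow_right_mono h1 n h2
  rw [hn] at h3
  exact h3

end D

theorem main (k : Type u) [Field k] [IsAlgClosed k]
    (A : Type u) [CommRing A] [IsLocalRing A] [Algebra k A] [Algebra.EssFiniteType k A]
    (hres : Function.Surjective (algebraMap k (IsLocalRing.ResidueField A))) :
    IsRegularLocalRing A ↔
      ∀ (B' : Type u) [CommRing B'] [IsLocalRing B'] [Algebra k B'] [Module.Finite k B']
        (J : Ideal B'), J ^ 2 = ⊥ → ∀ f : A →ₐ[k] B' ⧸ J,
          ∃ g : A →ₐ[k] B', (Ideal.Quotient.mkₐ k J).comp g = f := by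
  haveI : IsNoetherianRing A := Algebra.EssFiniteType.isNoetherianRing k A
  rw [reg_iff k A hres]
  constructor
  · intro hs B' _ _ _ _ J hJ f
    exact lift_of_adic k A hs B' J hJ f
  · intro H
    exact adic_of_lift k A hres H

end Aux

/-- Let k be an algebraically closed field and A a local k-algebra essentially of finite type over k
with residue field k. Then regularity of A as a local ring is equivalent to the following: for every
local k-algebra B' of finite dimension over k, every ideal J of B' of square zero and every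
k-algebra homomorphism f : A → B'/J, there is a k-algebra homomorphism g : A → B' lifting f. (Local
k-algebras of finite k-dimension are exactly the local Artin rings finite over k; lifting against
square-zero kernels is equivalent to lifting against nilpotent ones by induction.) -/
theorem result (k : Type u) [Field k] [IsAlgClosed k]
    (A : Type u) [CommRing A] [IsLocalRing A] [Algebra k A] [Algebra.EssFiniteType k A]
    (hres : Function.Surjective (algebraMap k (IsLocalRing.ResidueField A))) :
    IsRegularLocalRing A ↔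
      ∀ (B' : Type u) [CommRing B'] [IsLocalRing B'] [Algebra k B'] [Module.Finite k B']
        (J : Ideal B'), J ^ 2 = ⊥ → ∀ f : A →ₐ[k] B' ⧸ J,
          ∃ g : A →ₐ[k] B', (Ideal.Quotient.mkₐ k J).comp g = f := by
  exact Aux.main k A hres

end Groth.Agent.S11451
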