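import Groth.Statements.S11456
import Mathlib
import Groth.Agent.Lib.Helper1.RegLiftRing

set_option autoImplicit false
universe u
open DefT

namespace Groth.Agent.S11456

/-- Let C be a local Artin ring with maximal ideal m, A a flat C-algebra such that A₀ = A/mA is a
Cohen–Macaulay local ring, and I ⊆ A an ideal with A/I flat over C whose image in A₀ is generated by
a regular sequence b_1, …, b_r on A₀. Then I is generated by r elements a_1, …, a_r forming a
regular sequence on A (so the Koszul complex on the a_i resolves A/I). -/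
theorem result (C : Type u) [CommRing C]
    [IsLocalRing C] [IsArtinianRing C] (A : Type u) [CommRing A] [Algebra C A] [Module.Flat C A]
    [LocCoh.IsCohenMacaulayLocalRing (A ⧸ (IsLocalRing.maximalIdeal C).map (algebraMap C A))]
    (I : Ideal A) [Module.Flat C (A ⧸ I)] (r : ℕ)
    (b : Fin r → A ⧸ (IsLocalRing.maximalIdeal C).map (algebraMap C A))
    (hb : RingTheory.Sequence.IsRegular (A ⧸ (IsLocalRing.maximalIdeal C).map (algebraMap C A)) (List.ofFn b))
    (hI : I.map (Ideal.Quotient.mk ((IsLocalRing.maximalIdeal C).map (algebraMap C A))) = Ideal.span (Set.range b)) :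
    ∃ a : Fin r → A, RingTheory.Sequence.IsRegular A (List.ofFn a) ∧ I = Ideal.span (Set.range a) := by
  have hm : IsLocalRing.maximalIdeal C ≠ ⊤ := Ideal.IsPrime.ne_top'
  have hsurj : Function.Surjective (Ideal.Quotient.mk ((IsLocalRing.maximalIdeal C).map (algebraMap C A))) :=
    Ideal.Quotient.mk_surjective
  have hmem : ∀ i, ∃ x ∈ I, Ideal.Quotient.mk ((IsLocalRing.maximalIdeal C).map (algebraMap C A)) x = b i := by
    intro i
    have : b i ∈ I.map (Ideal.Quotient.mk ((IsLocalRing.maximalIdeal C).map (algebraMap C A))) := by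
      rw [hI]; exact Ideal.subset_span ⟨i, rfl⟩
    exact (Ideal.mem_map_iff_of_surjective _ hsurj).mp this
  choose a ha1 ha2 using hmem
  refine ⟨a, ?_, ?_⟩
  · rw [Groth.Agent.Helper1.RegLiftRing.isRegular_ofFn_iff (A' := C) (S' := A) _ hm a]
    have : (fun i => Ideal.Quotient.mk ((IsLocalRing.maximalIdeal C).map (algebraMap C A)) (a i)) = b :=
      funext ha2
    rw [this]
    exact hb
  · refine Groth.Agent.Helper1.RegLiftRing.eq_span_of_flat (A' := C) _ hm I a ha1 ?_
    rw [hI, Ideal.map_span]
    apply Ideal.span_mono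
    rintro _ ⟨i, rfl⟩
    exact ⟨a i, ⟨i, rfl⟩, ha2 i⟩

end Groth.Agent.S11456
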