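import Groth.Statements.S11461
import Mathlib

set_option autoImplicit false
universe u
open CategoryTheory
open DefT

namespace Groth.Agent.S11461

section
open CategoryTheory

variable {B : Type u} [CommRing B] (F : ModuleCat.{u} B ⥤ ModuleCat.{u} B) [F.Additive] [F.Linear B]

theorem F_smul (M : ModuleCat.{u} B) (a : B) (y : F.obj M) :
    (F.map (a • 𝟙 M)).hom y = a • y := by
  rw [Functor.map_smul, CategoryTheory.Functor.map_id]
  rfl

/-- iso invariance -/
theorem zero_of_equiv {M N : Type u} [AddCommGroup M] [Module B M] [AddCommGroup N] [Module B N]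
    (e : M ≃ₗ[B] N) (h : Limits.IsZero (F.obj (ModuleCat.of B N))) :
    Limits.IsZero (F.obj (ModuleCat.of B M)) :=
  Limits.IsZero.of_iso h (F.mapIso e.toModuleIso)

/-- semi-exactness consequence -/
theorem zero_of_exact
    (hex : ∀ S : ShortComplex (ModuleCat.{u} B), S.ShortExact → Module.Finite B S.X₂ → (S.map F).Exact)
    {N₁ N₂ N₃ : Type u} [AddCommGroup N₁] [Module B N₁] [AddCommGroup N₂] [Module B N₂]
    [AddCommGroup N₃] [Module B N₃] [Module.Finite B N₂]
    (f : N₁ →ₗ[B] N₂) (g : N₂ →ₗ[B] N₃)
    (hf : Function.Injective f) (hg : Function.Surjective g) (hfg : Function.Exact f g) :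
    Function.Exact (F.map (ModuleCat.ofHom f)).hom (F.map (ModuleCat.ofHom g)).hom := by
  have hzero : ModuleCat.ofHom f ≫ ModuleCat.ofHom g = 0 := by
    apply ModuleCat.hom_ext
    apply LinearMap.ext
    intro z
    exact hfg.apply_apply_eq_zero z
  let S : ShortComplex (ModuleCat.{u} B) := ShortComplex.mk (ModuleCat.ofHom f) (ModuleCat.ofHom g) hzero
  have hS : S.ShortExact := by
    refine ModuleCat.shortComplex_shortExact S ?_ ?_ ?_
    · exact hfg
    · exact hf
    · exact hg
  have := hex S hS (inferInstanceAs (Module.Finite B N₂))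
  rw [ShortComplex.ShortExact.moduleCat_exact_iff_function_exact] at this
  exact this


theorem zero_prime
    (hfg : ∀ M : ModuleCat.{u} B, Module.Finite B M → Module.Finite B (F.obj M))
    (hex : ∀ S : ShortComplex (ModuleCat.{u} B), S.ShortExact → Module.Finite B S.X₂ → (S.map F).Exact)
    (p : Ideal B) [p.IsPrime] (hp : ¬ p.IsMaximal)
    (ih : ∀ J : Ideal B, p < J → Limits.IsZero (F.obj (ModuleCat.of B (B ⧸ J)))) :
    Limits.IsZero (F.obj (ModuleCat.of B (B ⧸ p))) := by
  rw [ModuleCat.isZero_iff_subsingleton]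
  by_contra hne
  rw [not_subsingleton_iff_nontrivial] at hne
  have hfin : Module.Finite B (F.obj (ModuleCat.of B (B ⧸ p))) :=
    hfg _ (inferInstanceAs (Module.Finite B (B ⧸ p)))
  have hann : Module.annihilator B (F.obj (ModuleCat.of B (B ⧸ p))) ≠ ⊤ := by
    intro h
    have h1 : (1 : B) ∈ Module.annihilator B (F.obj (ModuleCat.of B (B ⧸ p))) := h ▸ Submodule.mem_top
    rw [Module.mem_annihilator] at h1
    obtain ⟨x, y, hxy⟩ := hne
    exact hxy (by rw [← one_smul B x, ← one_smul B y, h1 x, h1 y])
  obtain ⟨m, hm, hle⟩ := Ideal.exists_le_maximal _ hann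
  have hpann : p ≤ Module.annihilator B (F.obj (ModuleCat.of B (B ⧸ p))) := by
    intro a ha
    rw [Module.mem_annihilator]
    intro y
    rw [← F_smul]
    have h0 : a • 𝟙 (ModuleCat.of B (B ⧸ p)) = 0 := by
      apply ModuleCat.hom_ext
      apply LinearMap.ext
      intro x
      show a • x = 0
      obtain ⟨b, rfl⟩ := Ideal.Quotient.mk_surjective x
      show Ideal.Quotient.mk p (a * b) = 0
      rw [Ideal.Quotient.eq_zero_iff_mem]
      exact p.mul_mem_right b ha
    rw [h0, Functor.map_zero]
    rfl
  have hpm : p < m := lt_of_le_of_ne (hpann.trans hle) (fun h => hp (h ▸ hm))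
  obtain ⟨a, ham, hap⟩ := SetLike.exists_of_lt hpm
  have hsurj : ∀ y : F.obj (ModuleCat.of B (B ⧸ p)), ∃ z : F.obj (ModuleCat.of B (B ⧸ p)), a • z = y := by
    intro y
    let J : Ideal B := p ⊔ Ideal.span {a}
    have hpJ : p < J := by
      refine lt_of_le_of_ne le_sup_left ?_
      intro h
      apply hap
      rw [h]
      exact Ideal.mem_sup_right (Ideal.subset_span rfl)
    have hJ0 := ih J hpJ
    let f : (B ⧸ p) →ₗ[B] (B ⧸ p) := a • LinearMap.id
    let g : (B ⧸ p) →ₗ[B] (B ⧸ J) := Submodule.mapQ p J LinearMap.id (by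
      intro b hb
      exact Ideal.mem_sup_left hb)
    have hf : Function.Injective f := by
      rw [injective_iff_map_eq_zero]
      intro x hx
      obtain ⟨b, rfl⟩ := Ideal.Quotient.mk_surjective x
      have hx' : Ideal.Quotient.mk p (a * b) = 0 := hx
      rw [Ideal.Quotient.eq_zero_iff_mem] at hx' ⊢
      exact (Ideal.IsPrime.mem_or_mem inferInstance hx').resolve_left hap
    have hg : Function.Surjective g := by
      intro x
      obtain ⟨b, rfl⟩ := Ideal.Quotient.mk_surjective x
      exact ⟨Ideal.Quotient.mk p b, rfl⟩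
    have hfg' : Function.Exact f g := by
      intro x
      constructor
      · intro hx
        obtain ⟨b, rfl⟩ := Ideal.Quotient.mk_surjective x
        have hx' : Ideal.Quotient.mk J b = 0 := hx
        rw [Ideal.Quotient.eq_zero_iff_mem] at hx'
        obtain ⟨c, hc, d, hd, rfl⟩ := Submodule.mem_sup.mp hx'
        obtain ⟨r, rfl⟩ := Ideal.mem_span_singleton'.mp hd
        refine ⟨Ideal.Quotient.mk p r, ?_⟩
        show Ideal.Quotient.mk p (a * r) = Ideal.Quotient.mk p (c + r * a)
        rw [Ideal.Quotient.eq]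
        have : a * r - (c + r * a) = -c := by ring
        rw [this]
        exact p.neg_mem hc
      · rintro ⟨z, rfl⟩
        obtain ⟨b, rfl⟩ := Ideal.Quotient.mk_surjective z
        show Ideal.Quotient.mk J (a * b) = 0
        rw [Ideal.Quotient.eq_zero_iff_mem]
        exact J.mul_mem_right b (Ideal.mem_sup_right (Ideal.subset_span rfl))
    have hE := zero_of_exact F hex f g hf hg hfg'
    have hsub : Subsingleton (F.obj (ModuleCat.of B (B ⧸ J))) :=
      ModuleCat.isZero_iff_subsingleton.mp hJ0
    have hy : (F.map (ModuleCat.ofHom g)).hom y = 0 := Subsingleton.elim _ _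
    obtain ⟨z, hz⟩ := (hE y).mp hy
    refine ⟨z, ?_⟩
    rw [← hz, ← F_smul]
    rfl
  obtain ⟨r, hr1, hr2⟩ := Submodule.exists_sub_one_mem_and_smul_eq_zero_of_fg_of_le_smul
    (Ideal.span {a}) (⊤ : Submodule B (F.obj (ModuleCat.of B (B ⧸ p)))) (Module.finite_def.mp hfin) (by
      intro y _
      obtain ⟨z, rfl⟩ := hsurj y
      exact Submodule.smul_mem_smul (Ideal.subset_span rfl) Submodule.mem_top)
  have hr : r ∈ m := hle (by
    rw [Module.mem_annihilator]
    intro y
    exact hr2 y Submodule.mem_top)
  have h1 : r - 1 ∈ m := ((Ideal.span_singleton_le_iff_mem m).mpr ham) hr1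
  have h2 : (1 : B) ∈ m := by
    have := m.sub_mem hr h1
    simpa using this
  exact hm.ne_top ((Ideal.eq_top_iff_one _).mpr h2)


theorem killed_zero [IsNoetherianRing B]
    (hfg : ∀ M : ModuleCat.{u} B, Module.Finite B M → Module.Finite B (F.obj M))
    (hex : ∀ S : ShortComplex (ModuleCat.{u} B), S.ShortExact → Module.Finite B S.X₂ → (S.map F).Exact)
    (h0 : ∀ m : Ideal B, m.IsMaximal → Limits.IsZero (F.obj (ModuleCat.of B (B ⧸ m))))
    (I : Ideal B) :
    ∀ (M : Type u) [AddCommGroup M] [Module B M] [Module.Finite B M],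
      (∀ a ∈ I, ∀ x : M, a • x = 0) → Limits.IsZero (F.obj (ModuleCat.of B M)) := by
  induction I using IsNoetherian.induction with
  | hgt I ih =>
  intro M _ _ hM
  induction hM using IsNoetherianRing.induction_on_isQuotientEquivQuotientPrime B with
  | subsingleton N =>
    intro _
    exact F.map_isZero (ModuleCat.isZero_of_subsingleton _)
  | quotient N p e =>
    intro hI
    refine zero_of_equiv F e ?_
    have hIp : I ≤ p.asIdeal := by
      intro a ha
      have h1 := hI a ha (e.symm 1)
      rw [← map_smul, LinearEquiv.map_eq_zero_iff] at h1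
      have h2 : Ideal.Quotient.mk p.asIdeal (a * 1) = 0 := h1
      rw [Ideal.Quotient.eq_zero_iff_mem, mul_one] at h2
      exact h2
    have hkill : ∀ (J : Ideal B), ∀ a ∈ J, ∀ x : B ⧸ J, a • x = 0 := by
      intro J a ha x
      obtain ⟨b, rfl⟩ := Ideal.Quotient.mk_surjective x
      show Ideal.Quotient.mk J (a * b) = 0
      rw [Ideal.Quotient.eq_zero_iff_mem]
      exact J.mul_mem_right b ha
    rcases lt_or_eq_of_le hIp with hlt | heq
    · exact ih p.asIdeal hlt (B ⧸ p.asIdeal) (hkill p.asIdeal)
    · by_cases hmax : p.asIdeal.IsMaximal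
      · exact h0 _ hmax
      · haveI := p.isPrime
        refine zero_prime F hfg hex p.asIdeal hmax ?_
        intro J hJ
        exact ih J (heq ▸ hJ) (B ⧸ J) (hkill J)
  | exact N₁ N₂ N₃ f g hf hg hfg' h₁ h₃ =>
    intro hI
    have hI1 : ∀ a ∈ I, ∀ x : N₁, a • x = 0 := by
      intro a ha x
      apply hf
      rw [map_smul, map_zero]
      exact hI a ha _
    have hI3 : ∀ a ∈ I, ∀ x : N₃, a • x = 0 := by
      intro a ha x
      obtain ⟨y, rfl⟩ := hg x
      rw [← map_smul, hI a ha y, map_zero]
    have z1 := h₁ hI1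
    have z3 := h₃ hI3
    have hE := zero_of_exact F hex f g hf hg hfg'
    rw [ModuleCat.isZero_iff_subsingleton] at z1 z3 ⊢
    refine ⟨fun y y' => ?_⟩
    have key : ∀ y : F.obj (ModuleCat.of B N₂), y = 0 := by
      intro y
      have hy : (F.map (ModuleCat.ofHom g)).hom y = 0 := Subsingleton.elim _ _
      obtain ⟨z, hz⟩ := (hE y).mp hy
      rw [← hz, Subsingleton.elim z 0, map_zero]
    rw [key y, key y']

theorem main (B : Type u) [CommRing B]
    [IsNoetherianRing B] (F : ModuleCat.{u} B ⥤ ModuleCat.{u} B) [F.Additive] [F.Linear B]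
    (hfg : ∀ M : ModuleCat.{u} B, Module.Finite B M → Module.Finite B (F.obj M))
    (hex : ∀ S : ShortComplex (ModuleCat.{u} B), S.ShortExact → Module.Finite B S.X₂ → (S.map F).Exact)
    (h0 : ∀ m : Ideal B, m.IsMaximal → Limits.IsZero (F.obj (ModuleCat.of B (B ⧸ m))))
    (M : ModuleCat.{u} B) (hM : Module.Finite B M) : Limits.IsZero (F.obj M) := by
  have := killed_zero F hfg hex h0 ⊥ M (by
    intro a ha x
    have : a = 0 := ha
    rw [this, zero_smul])
  exact this


end


/-- Let B be a Noetherian ring and F an additive, B-linear endofunctor of B-modules which preserves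
finite generation and is semi-exact on short exact sequences of finitely generated modules (the
image sequence is exact in the middle). If F kills B/m for every maximal ideal m, then F kills every
finitely generated B-module. (The published statement assumes F only additive; this row assumes F
B-linear, and takes the functor on all B-modules with the hypotheses and the conclusion on the
finitely generated ones.) -/
theorem result (B : Type u) [CommRing B]
    [IsNoetherianRing B] (F : ModuleCat.{u} B ⥤ ModuleCat.{u} B) [F.Additive] [F.Linear B]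
    (hfg : ∀ M : ModuleCat.{u} B, Module.Finite B M → Module.Finite B (F.obj M))
    (hex : ∀ S : ShortComplex (ModuleCat.{u} B), S.ShortExact → Module.Finite B S.X₂ → (S.map F).Exact)
    (h0 : ∀ m : Ideal B, m.IsMaximal → Limits.IsZero (F.obj (ModuleCat.of B (B ⧸ m))))
    (M : ModuleCat.{u} B) (hM : Module.Finite B M) : Limits.IsZero (F.obj M) := by
  classical
  exact main B F hfg hex h0 M hM

end Groth.Agent.S11461
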