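import Groth.Statements.S11468
import Mathlib
import Groth.Agent.Lib.Lead.FlatArt

set_option autoImplicit false
universe u
open CategoryTheory AlgebraicGeometry
open DefT

namespace Groth.Agent.S11468

/-- Let C be a local Artin ring with maximal ideal m and residue field k = C/m, g : X → Spec C a flat
morphism, and i : X₀ → X the fibre of g over the closed point, i.e. a pullback of g along Spec k →
Spec C, with structure map f₀ : X₀ → Spec k. If the induced ring map k → Γ(X₀, O_{X₀}) is bijective,
then so is C → Γ(X, O_X). -/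
theorem result (C : Type u) [CommRing C]
    [IsLocalRing C] [IsArtinianRing C] (X X₀ : Scheme.{u}) (g : X ⟶ Spec (CommRingCat.of C)) [Flat g]
    (i : X₀ ⟶ X) (f₀ : X₀ ⟶ Spec (CommRingCat.of (C ⧸ IsLocalRing.maximalIdeal C)))
    (hsq : IsPullback i f₀ g
      (Spec.map (CommRingCat.ofHom (Ideal.Quotient.mk (IsLocalRing.maximalIdeal C)))))
    (h0 : Function.Bijective ((Scheme.ΓSpecIso (CommRingCat.of (C ⧸ IsLocalRing.maximalIdeal C))).inv ≫
      f₀.appTop)) :
    Function.Bijective ((Scheme.ΓSpecIso (CommRingCat.of C)).inv ≫ g.appTop) := by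
  classical
  have e0 : (fun c => ((Scheme.ΓSpecIso (CommRingCat.of (C ⧸ IsLocalRing.maximalIdeal C))).inv ≫
      f₀.appTop).hom c) = ⇑(Groth.Agent.Lead.FlatArt.secMap f₀ ⊤) :=
    funext (fun c => (Groth.Agent.Lead.FlatArt.secMap_top f₀ c).symm)
  have h0' : Function.Bijective (Groth.Agent.Lead.FlatArt.secMap f₀ ⊤) := by
    rw [← e0]
    exact h0
  have h := Groth.Agent.Lead.FlatArt.main g i f₀ hsq h0'
  have e1 : (fun c => ((Scheme.ΓSpecIso (CommRingCat.of C)).inv ≫ g.appTop).hom c) =
      ⇑(Groth.Agent.Lead.FlatArt.secMap g ⊤) :=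
    funext (fun c => (Groth.Agent.Lead.FlatArt.secMap_top g c).symm)
  rw [← e1] at h
  exact h

end Groth.Agent.S11468
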