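import Groth.Statements.S11470
import Groth.Agent.Lib.Helper6.LambdaJ

set_option autoImplicit false
universe u
open Curves

namespace Groth.Agent.S11470

/-- The algebraic step of its proof: Fix an algebraically closed field k whose characteristic is neither
2 nor 3, let B ⊆ k(λ) be the k-subalgebra generated by λ, λ⁻¹ and (λ - 1)⁻¹ (the coordinate ring of
the λ-line with 0 and 1 removed), and let σ and τ be the k-algebra automorphisms of k(λ) determined
by σ(λ) = λ⁻¹ and τ(λ) = 1 - λ (they generate the group of order six permuting λ, 1/λ, 1-λ, 1/(1-λ),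
λ/(λ-1), (λ-1)/λ). Then the elements of B fixed by σ and τ are exactly the elements of the
k-subalgebra generated by j = 256 (λ² - λ + 1)³ / (λ² (λ - 1)²); in other words the ring of
invariants of B is the polynomial ring k[j]. -/
theorem result (k : Type u) [Field k] [IsAlgClosed k]
    (h2 : (2 : k) ≠ 0) (h3 : (3 : k) ≠ 0)
    (σ τ : RatFunc k ≃ₐ[k] RatFunc k) (hσ : σ RatFunc.X = (RatFunc.X : RatFunc k)⁻¹)
    (hτ : τ RatFunc.X = 1 - (RatFunc.X : RatFunc k)) (b : RatFunc k) :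
    (b ∈ Algebra.adjoin k ({RatFunc.X, (RatFunc.X : RatFunc k)⁻¹, ((RatFunc.X : RatFunc k) - 1)⁻¹} : Set (RatFunc k)) ∧
        σ b = b ∧ τ b = b) ↔
      b ∈ Algebra.adjoin k ({(256 : RatFunc k) * ((RatFunc.X : RatFunc k) ^ 2 - RatFunc.X + 1) ^ 3 /
        ((RatFunc.X : RatFunc k) ^ 2 * ((RatFunc.X : RatFunc k) - 1) ^ 2)} : Set (RatFunc k)) := by
  have hjj : (256 : RatFunc k) * ((RatFunc.X : RatFunc k) ^ 2 - RatFunc.X + 1) ^ 3 /
        ((RatFunc.X : RatFunc k) ^ 2 * ((RatFunc.X : RatFunc k) - 1) ^ 2) =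
      Groth.Agent.Lib.Helper6.LambdaJ.jj k := rfl
  rw [hjj]
  constructor
  · rintro ⟨hb, hσb, hτb⟩
    exact Groth.Agent.Lib.Helper6.LambdaJ.mem_A0 h2 b
      (Groth.Agent.Lib.Helper6.LambdaJ.mem_K_of_fixed h2 σ τ hσ hτ b hσb hτb)
      (Groth.Agent.Lib.Helper6.LambdaJ.integral_of_mem h2 σ τ hσ hτ b hb)
  · intro hb
    have hσj := Groth.Agent.Lib.Helper6.LambdaJ.sigma_j σ hσ
    have hτj := Groth.Agent.Lib.Helper6.LambdaJ.tau_j τ hτ
    refine ⟨?_, ?_, ?_⟩
    · have hle : Algebra.adjoin k {Groth.Agent.Lib.Helper6.LambdaJ.jj k} ≤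
          Algebra.adjoin k ({RatFunc.X, (RatFunc.X : RatFunc k)⁻¹,
            ((RatFunc.X : RatFunc k) - 1)⁻¹} : Set (RatFunc k)) := by
        refine Algebra.adjoin_le ?_
        rintro x rfl
        have hX : (RatFunc.X : RatFunc k) ∈ Algebra.adjoin k ({RatFunc.X,
            (RatFunc.X : RatFunc k)⁻¹, ((RatFunc.X : RatFunc k) - 1)⁻¹} : Set (RatFunc k)) :=
          Algebra.subset_adjoin (by simp)
        have hXi : (RatFunc.X : RatFunc k)⁻¹ ∈ Algebra.adjoin k ({RatFunc.X,
            (RatFunc.X : RatFunc k)⁻¹, ((RatFunc.X : RatFunc k) - 1)⁻¹} : Set (RatFunc k)) :=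
          Algebra.subset_adjoin (by simp)
        have hX1i : ((RatFunc.X : RatFunc k) - 1)⁻¹ ∈ Algebra.adjoin k ({RatFunc.X,
            (RatFunc.X : RatFunc k)⁻¹, ((RatFunc.X : RatFunc k) - 1)⁻¹} : Set (RatFunc k)) :=
          Algebra.subset_adjoin (by simp)
        have e : Groth.Agent.Lib.Helper6.LambdaJ.jj k =
            (256 : RatFunc k) * ((RatFunc.X : RatFunc k) ^ 2 - RatFunc.X + 1) ^ 3 *
              ((RatFunc.X : RatFunc k)⁻¹ ^ 2 * (((RatFunc.X : RatFunc k) - 1)⁻¹) ^ 2) := by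
          unfold Groth.Agent.Lib.Helper6.LambdaJ.jj
          rw [div_eq_mul_inv, mul_inv, inv_pow, inv_pow]
        show Groth.Agent.Lib.Helper6.LambdaJ.jj k ∈ _
        rw [e]
        have h256 : (256 : RatFunc k) ∈ Algebra.adjoin k ({RatFunc.X,
            (RatFunc.X : RatFunc k)⁻¹, ((RatFunc.X : RatFunc k) - 1)⁻¹} : Set (RatFunc k)) := by
          rw [← map_ofNat (algebraMap k (RatFunc k)) 256]
          exact Subalgebra.algebraMap_mem _ _
        refine Subalgebra.mul_mem _ (Subalgebra.mul_mem _ h256 (Subalgebra.pow_mem _ ?_ 3))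
          (Subalgebra.mul_mem _ (Subalgebra.pow_mem _ hXi 2) (Subalgebra.pow_mem _ hX1i 2))
        exact Subalgebra.add_mem _ (Subalgebra.sub_mem _ (Subalgebra.pow_mem _ hX 2) hX)
          (Subalgebra.one_mem _)
      exact hle hb
    · -- σ fixes everything in adjoin
      exact Groth.Agent.Lib.Helper6.LambdaJ.fixes_K σ hσj b
        (IntermediateField.algebra_adjoin_le_adjoin k _ hb)
    · exact Groth.Agent.Lib.Helper6.LambdaJ.fixes_K τ hτj b
        (IntermediateField.algebra_adjoin_le_adjoin k _ hb)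

end Groth.Agent.S11470
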