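import Groth.Statements.S11493
import Groth.Statements.S11493
import Mathlib

set_option autoImplicit false
universe u
open CategoryTheory
open VBPn

namespace Groth.Agent.S11493

open CategoryTheory.Abelian

section abstract

universe w' v' u'

variable {C : Type u'} [Category.{v'} C] [Abelian C] [HasExt.{w'} C]

theorem gen_iff {S : ShortComplex C} (hS : S.ShortExact) [Projective S.X₁] :
    (∀ x : Ext.{w'} S.X₃ S.X₁ 1, ∃ f : S.X₁ ⟶ S.X₁,
        hS.extClass.comp (Ext.mk₀ f) (add_zero 1) = x) ↔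
      ∀ y : Ext.{w'} S.X₂ S.X₁ 1, y = 0 := by
  constructor
  · intro h y
    obtain ⟨x₁, hx₁⟩ := Ext.contravariant_sequence_exact₂ hS S.X₁ y
      (Ext.eq_zero_of_projective _)
    obtain ⟨f, hf⟩ := h x₁
    rw [← hx₁, ← hf, ← Ext.comp_assoc (Ext.mk₀ S.g) hS.extClass (Ext.mk₀ f) (zero_add 1)
      (add_zero 1) (by norm_num), hS.comp_extClass, Ext.zero_comp]
  · intro h x
    have h0 : (Ext.mk₀ S.g).comp x (zero_add 1) = 0 := h _
    obtain ⟨x₁, hx₁⟩ := Ext.contravariant_sequence_exact₃ hS S.X₁ x h0 (add_zero 1)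
    obtain ⟨f, rfl⟩ := (Ext.mk₀_bijective _ _).2 x₁
    exact ⟨f, hx₁⟩

theorem exists_section {T : ShortComplex C} (hT : T.ShortExact)
    (h : ∀ x : Ext.{w'} T.X₃ T.X₁ 1, x = 0) :
    ∃ σ : T.X₃ ⟶ T.X₂, σ ≫ T.g = 𝟙 _ := by
  obtain ⟨x₂, hx₂⟩ := Ext.covariant_sequence_exact₃ T.X₃ hT (Ext.mk₀ (𝟙 _)) (zero_add 1) (h _)
  obtain ⟨σ, rfl⟩ := (Ext.mk₀_bijective _ _).2 x₂
  rw [Ext.mk₀_comp_mk₀] at hx₂
  exact ⟨σ, (Ext.mk₀_bijective _ _).1 hx₂⟩

theorem ext_eq_zero_of_sum {M K Y : C} {ι : Type*} [Fintype ι] (π : ι → (K ⟶ Y))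
    (i : ι → (Y ⟶ K)) (hsum : ∑ j, π j ≫ i j = 𝟙 K) (h : ∀ y : Ext.{w'} M Y 1, y = 0)
    (x : Ext.{w'} M K 1) : x = 0 := by
  have h1 : x = x.comp (Ext.mk₀ (𝟙 K)) (add_zero 1) := (Ext.comp_mk₀_id x).symm
  rw [h1, ← hsum, Ext.mk₀_sum]
  have h2 : x.comp (∑ j, Ext.mk₀ (π j ≫ i j)) (add_zero 1) =
      ∑ j, x.comp (Ext.mk₀ (π j ≫ i j)) (add_zero 1) :=
    map_sum (x.precomp K (add_zero 1)) _ _
  rw [h2]
  apply Finset.sum_eq_zero
  intro j _
  rw [← Ext.mk₀_comp_mk₀, ← Ext.comp_assoc x (Ext.mk₀ (π j)) (Ext.mk₀ (i j)) (add_zero 1)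
    (add_zero 0) (by norm_num), h (x.comp (Ext.mk₀ (π j)) (add_zero 1)), Ext.zero_comp]

end abstract


section module

variable (A : Type u) [CommRing A] [IsNoetherianRing A] [IsLocalRing A]

theorem free_of_ext_vanish (I : Ideal A) (q : ℕ) (φ : (Fin q → A) →ₗ[A] ↥I)
    (hφ : Function.Surjective φ) (hfree : Module.Free A ↥(LinearMap.ker φ))
    (S : ShortComplex (ModuleCat.{u} A)) (hS : S.ShortExact)
    (e₁ : S.X₁ ≅ ModuleCat.of A A) (e₃ : S.X₃ ≅ ModuleCat.of A ↥I)
    (hext : ∀ y : Ext S.X₂ S.X₁ 1, y = 0) : Module.Free A S.X₂ := by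
  have hinj := hS.moduleCat_injective_f
  have hsurj := hS.moduleCat_surjective_g
  have hex : Function.Exact S.f S.g :=
    (ShortComplex.ShortExact.moduleCat_exact_iff_function_exact S).1 hS.exact
  let ε₁ : S.X₁ ≃ₗ[A] A := e₁.toLinearEquiv
  let ε₃ : S.X₃ ≃ₗ[A] ↥I := e₃.toLinearEquiv
  let f : S.X₁ →ₗ[A] S.X₂ := S.f.hom
  let g : S.X₂ →ₗ[A] S.X₃ := S.g.hom
  have hg' : Function.Surjective (ε₃.toLinearMap.comp g) := ε₃.surjective.comp hsurj
  obtain ⟨lam, hlam⟩ := Module.projective_lifting_property (ε₃.toLinearMap.comp g) φ hg'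
  have hlam' : ∀ v, ε₃ (g (lam v)) = φ v := fun v => LinearMap.congr_fun hlam v
  let ρ : (S.X₁ × (Fin q → A)) →ₗ[A] S.X₂ := f.coprod lam
  have hρ_apply : ∀ a v, ρ (a, v) = f a + lam v := fun a v => LinearMap.coprod_apply _ _ _
  have hρ : Function.Surjective ρ := by
    intro m
    obtain ⟨v, hv⟩ := hφ (ε₃ (g m))
    have h1 : g (m - lam v) = 0 := by
      rw [map_sub]
      apply ε₃.injective
      rw [map_sub, hlam', hv, sub_self, map_zero]
    obtain ⟨a, ha⟩ := (hex (m - lam v)).1 h1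
    refine ⟨(a, v), ?_⟩
    rw [hρ_apply]
    have : f a = m - lam v := ha
    rw [this]
    abel
  -- the kernel
  have hfinX₁ : Module.Finite A S.X₁ := Module.Finite.equiv ε₁.symm
  have hfreeX₁ : Module.Free A S.X₁ := Module.Free.of_equiv ε₁.symm
  let K := LinearMap.ker ρ
  have hκ0 : ∀ k : K, ((LinearMap.snd A S.X₁ (Fin q → A)).comp K.subtype) k ∈ LinearMap.ker φ := by
    rintro ⟨⟨a, v⟩, hk⟩
    have hk' : f a + lam v = 0 := by rw [← hρ_apply]; exact hk
    change φ v = 0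
    rw [← hlam']
    have : lam v = - f a := eq_neg_of_add_eq_zero_right hk'
    rw [this, map_neg, map_neg]
    have : g (f a) = 0 := S.moduleCat_zero_apply a
    rw [this, map_zero, neg_zero]
  let κ : K →ₗ[A] LinearMap.ker φ :=
    LinearMap.codRestrict (LinearMap.ker φ) ((LinearMap.snd A S.X₁ (Fin q → A)).comp K.subtype) hκ0
  have hκ_apply : ∀ (a : S.X₁) (v : Fin q → A) (h : (a, v) ∈ K), (κ ⟨(a, v), h⟩ : Fin q → A) = v :=
    fun a v h => rfl
  have hκinj : Function.Injective κ := by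
    rw [← LinearMap.ker_eq_bot, LinearMap.ker_eq_bot']
    rintro ⟨⟨a, v⟩, hk⟩ h0
    have hv : v = 0 := by
      have := congrArg Subtype.val h0
      rwa [hκ_apply] at this
    have hk' : f a + lam v = 0 := by rw [← hρ_apply]; exact hk
    rw [hv, map_zero, add_zero] at hk'
    have ha : a = 0 := hinj (hk'.trans (map_zero f).symm)
    exact Subtype.ext (Prod.ext ha hv)
  have hκsurj : Function.Surjective κ := by
    rintro ⟨v, hv⟩
    have hv' : φ v = 0 := hv
    have h1 : g (lam v) = 0 := by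
      apply ε₃.injective
      rw [hlam', hv', map_zero]
    obtain ⟨a, ha⟩ := (hex (lam v)).1 h1
    have ha' : f a = lam v := ha
    have hmem : ((-a, v) : S.X₁ × (Fin q → A)) ∈ K := by
      change ρ (-a, v) = 0
      rw [hρ_apply, map_neg, ha', neg_add_cancel]
    exact ⟨⟨(-a, v), hmem⟩, rfl⟩
  let κe : K ≃ₗ[A] LinearMap.ker φ := LinearEquiv.ofBijective κ ⟨hκinj, hκsurj⟩
  have hfreeK : Module.Free A K := Module.Free.of_equiv κe.symm
  have hfinK : Module.Finite A K := inferInstance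
  -- the short exact sequence
  have hT := LinearMap.shortExact_shortComplexKer hρ
  let b := Module.Free.chooseBasis A K
  have hK0 : ∀ x : Ext (ρ.shortComplexKer).X₃ (ρ.shortComplexKer).X₁ 1, x = 0 := by
    intro x
    refine ext_eq_zero_of_sum (Y := S.X₁)
      (fun j => ModuleCat.ofHom (ε₁.symm.toLinearMap.comp (b.coord j)))
      (fun j => ModuleCat.ofHom ((LinearMap.toSpanSingleton A K (b j)).comp ε₁.toLinearMap))
      ?_ hext x
    apply ModuleCat.hom_ext
    apply LinearMap.ext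
    intro k
    rw [ModuleCat.hom_sum]
    simp only [ModuleCat.hom_comp, ModuleCat.hom_ofHom, LinearMap.sum_apply, LinearMap.comp_apply,
      LinearEquiv.coe_coe, LinearEquiv.apply_symm_apply, LinearMap.toSpanSingleton_apply,
      ModuleCat.hom_id, LinearMap.id_apply, Module.Basis.coord_apply]
    exact b.sum_repr k
  obtain ⟨σ, hσ⟩ := exists_section hT hK0
  have hσ' : ρ.comp σ.hom = LinearMap.id := by
    have := congrArg ModuleCat.Hom.hom hσ
    exact this
  have hproj : Module.Projective A S.X₂ := Module.Projective.of_split σ.hom ρ hσ'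
  have hfin : Module.Finite A S.X₂ := Module.Finite.of_surjective ρ hρ
  exact Module.free_of_flat_of_isLocalRing

end module

/-- Let A be a Noetherian local ring and I an ideal with a free resolution of length 1, 0 → A^p → A^q →
I → 0 (equivalently: a surjection A^q → I with free kernel). Let 0 → A → M → I → 0 be an extension
with class e ∈ Ext^1(I, A). Then M is free if and only if e generates the A-module Ext^1(I, A); the
A-module structure being through End(A) = A, this says every element of Ext^1(I, A) is the composite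
of e with an endomorphism of A. -/
theorem result (A : Type u) [CommRing A] [IsNoetherianRing A] [IsLocalRing A]
    (I : Ideal A)
    (hres : ∃ (q : ℕ) (φ : (Fin q → A) →ₗ[A] ↥I), Function.Surjective φ ∧ Module.Free A ↥(LinearMap.ker φ))
    (S : ShortComplex (ModuleCat.{u} A)) (hS : S.ShortExact)
    (h₁ : Nonempty (S.X₁ ≅ ModuleCat.of A A)) (h₃ : Nonempty (S.X₃ ≅ ModuleCat.of A ↥I)) :
    Module.Free A S.X₂ ↔
      ∀ x : Abelian.Ext S.X₃ S.X₁ 1, ∃ f : S.X₁ ⟶ S.X₁, hS.extClass.comp (Abelian.Ext.mk₀ f) (add_zero 1) = x := by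
  obtain ⟨q, φ, hφ, hfree⟩ := hres
  obtain ⟨e₁⟩ := h₁
  obtain ⟨e₃⟩ := h₃
  have hpA : Projective (ModuleCat.of A A) := ModuleCat.projective_of_categoryTheory_projective _
  have hp₁ : Projective S.X₁ := Projective.of_iso e₁.symm hpA
  rw [gen_iff hS]
  constructor
  · intro hfreeM y
    have hp₂ : Projective S.X₂ := by
      have : Module.Projective A S.X₂ := inferInstance
      exact ModuleCat.projective_of_categoryTheory_projective S.X₂
    exact Ext.eq_zero_of_projective y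
  · intro hext
    exact free_of_ext_vanish A I q φ hφ hfree S hS e₁ e₃ hext

end Groth.Agent.S11493
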