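import Groth.Statements.S11497
import Groth.Statements.S11497
import Mathlib

set_option autoImplicit false
universe w v u
open CategoryTheory
open VBPn

namespace Groth.Agent.S11497

open CategoryTheory.Limits CategoryTheory.Abelian

variable {C : Type u} [Category.{v} C] [Abelian C]

noncomputable abbrev ses1 (M : ShortComplex C) : ShortComplex C :=
  ShortComplex.mk M.toCycles M.homologyπ M.toCycles_comp_homologyπ

noncomputable abbrev ses2 (M : ShortComplex C) : ShortComplex C :=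
  ShortComplex.mk M.iCycles M.g M.iCycles_g

theorem ses1_shortExact (M : ShortComplex C) [Mono M.f] : (ses1 M).ShortExact := by
  have hm : Mono M.toCycles := mono_of_mono_fac M.toCycles_i
  have he : Epi M.homologyπ := inferInstance
  refine ShortComplex.ShortExact.mk' ?_ hm he
  exact ShortComplex.exact_of_g_is_cokernel _ M.homologyIsCokernel

theorem ses2_shortExact (M : ShortComplex C) [Epi M.g] : (ses2 M).ShortExact := by
  have hm : Mono M.iCycles := inferInstance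
  have he : Epi M.g := inferInstance
  refine ShortComplex.ShortExact.mk' ?_ hm he
  exact ShortComplex.exact_of_f_is_kernel _ M.cyclesIsKernel

variable [HasExt.{w} C]

theorem surj (M M' : ShortComplex C) [Mono M.f] [Epi M.g] [Mono M'.f] [Epi M'.g]
    (hBA₁ : Subsingleton (Abelian.Ext.{w} M.X₂ M'.X₁ 1))
    (hCB₁ : Subsingleton (Abelian.Ext.{w} M.X₃ M'.X₂ 1))
    (hCA₂ : Subsingleton (Abelian.Ext.{w} M.X₃ M'.X₁ 2))
    (e : M.homology ⟶ M'.homology) : ∃ φ : M ⟶ M', ShortComplex.homologyMap φ = e := by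
  have h1 := ses1_shortExact M
  have h2 := ses2_shortExact M
  have h1' := ses1_shortExact M'
  have h2' := ses2_shortExact M'
  have := h1'.mono_f
  have := h2.epi_g
  -- Ext¹(K, A') = 0
  have hKA : ∀ x : Ext.{w} M.cycles M'.X₁ 1, x = 0 := by
    intro x
    obtain ⟨x₂, hx₂⟩ := Ext.contravariant_sequence_exact₁ h2 M'.X₁ x (rfl : 1 + 1 = 2)
      (Subsingleton.elim _ _)
    rw [← hx₂, Subsingleton.elim x₂ 0, Ext.comp_zero]
  -- lift to cycles
  obtain ⟨y, hy⟩ := Ext.covariant_sequence_exact₃ M.cycles h1' (Ext.mk₀ (M.homologyπ ≫ e))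
    (zero_add 1) (hKA _)
  obtain ⟨ψ, rfl⟩ := (Ext.mk₀_bijective _ _).2 y
  change (Ext.mk₀ ψ).comp (Ext.mk₀ M'.homologyπ) (add_zero 0) = _ at hy
  rw [Ext.mk₀_comp_mk₀] at hy
  have hψ : ψ ≫ M'.homologyπ = M.homologyπ ≫ e := (Ext.mk₀_bijective _ _).1 hy
  -- α
  have hα0 : (M.toCycles ≫ ψ) ≫ M'.homologyπ = 0 := by
    rw [Category.assoc, hψ, ← Category.assoc, M.toCycles_comp_homologyπ, zero_comp]
  let α : M.X₁ ⟶ M'.X₁ := h1'.exact.lift (M.toCycles ≫ ψ) hα0
  have hα : α ≫ M'.toCycles = M.toCycles ≫ ψ := h1'.exact.lift_f _ _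
  -- β
  obtain ⟨z, hz⟩ := Ext.contravariant_sequence_exact₁ h2 M'.X₂ (Ext.mk₀ (ψ ≫ M'.iCycles))
    (add_zero 1) (Subsingleton.elim _ _)
  obtain ⟨β, rfl⟩ := (Ext.mk₀_bijective _ _).2 z
  change (Ext.mk₀ M.iCycles).comp (Ext.mk₀ β) (zero_add 0) = _ at hz
  rw [Ext.mk₀_comp_mk₀] at hz
  have hβ : M.iCycles ≫ β = ψ ≫ M'.iCycles := (Ext.mk₀_bijective _ _).1 hz
  -- γ
  have hγ0 : M.iCycles ≫ β ≫ M'.g = 0 := by
    rw [← Category.assoc, hβ, Category.assoc, M'.iCycles_g, comp_zero]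
  let γ : M.X₃ ⟶ M'.X₃ := h2.exact.desc (β ≫ M'.g) hγ0
  have hγ : M.g ≫ γ = β ≫ M'.g := h2.exact.g_desc _ _
  let φ : M ⟶ M' :=
    { τ₁ := α, τ₂ := β, τ₃ := γ,
      comm₁₂ := by
        rw [← M'.toCycles_i, ← Category.assoc, hα, Category.assoc, ← hβ, ← Category.assoc,
          M.toCycles_i]
      comm₂₃ := hγ.symm }
  refine ⟨φ, ?_⟩
  have hc : ShortComplex.cyclesMap φ = ψ := by
    rw [← cancel_mono M'.iCycles, ShortComplex.cyclesMap_i]
    exact hβ
  rw [← cancel_epi M.homologyπ, ShortComplex.homologyπ_naturality, hc]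
  exact hψ

theorem inj (M M' : ShortComplex C) [Mono M.f] [Epi M.g] [Mono M'.f] [Epi M'.g]
    (hBA : ∀ f : M.X₂ ⟶ M'.X₁, f = 0) (hCB : ∀ f : M.X₃ ⟶ M'.X₂, f = 0)
    (hCA₁ : Subsingleton (Abelian.Ext.{w} M.X₃ M'.X₁ 1))
    (φ : M ⟶ M') (hφ : ShortComplex.homologyMap φ = 0) : φ = 0 := by
  have h2 := ses2_shortExact M
  have h1' := ses1_shortExact M'
  have := h1'.mono_f
  have := h2.epi_g
  have h0 : ShortComplex.cyclesMap φ ≫ M'.homologyπ = 0 := by
    rw [← ShortComplex.homologyπ_naturality, hφ, comp_zero]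
  let κ : M.cycles ⟶ M'.X₁ := h1'.exact.lift (ShortComplex.cyclesMap φ) h0
  have hκ : κ ≫ M'.toCycles = ShortComplex.cyclesMap φ := h1'.exact.lift_f _ _
  obtain ⟨z, hz⟩ := Ext.contravariant_sequence_exact₁ h2 M'.X₁ (Ext.mk₀ κ)
    (add_zero 1) (Subsingleton.elim _ _)
  obtain ⟨l, rfl⟩ := (Ext.mk₀_bijective _ _).2 z
  change (Ext.mk₀ M.iCycles).comp (Ext.mk₀ l) (zero_add 0) = _ at hz
  rw [Ext.mk₀_comp_mk₀] at hz
  have hl : M.iCycles ≫ l = κ := (Ext.mk₀_bijective _ _).1 hz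
  have hκ0 : κ = 0 := by rw [← hl, hBA l, comp_zero]
  have hc : ShortComplex.cyclesMap φ = 0 := by rw [← hκ, hκ0, zero_comp]
  have h3 : M.iCycles ≫ φ.τ₂ = 0 := by
    rw [← ShortComplex.cyclesMap_i, hc, zero_comp]
  have h4 : M.g ≫ h2.exact.desc φ.τ₂ h3 = φ.τ₂ := h2.exact.g_desc _ _
  have hτ₂ : φ.τ₂ = 0 := by rw [← h4, hCB (h2.exact.desc φ.τ₂ h3), comp_zero]
  have hτ₁ : φ.τ₁ = 0 := by
    rw [← cancel_mono M'.f, φ.comm₁₂, hτ₂, comp_zero, zero_comp]
  have hτ₃ : φ.τ₃ = 0 := by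
    rw [← cancel_epi M.g, ← φ.comm₂₃, hτ₂, zero_comp, comp_zero]
  ext
  · exact hτ₁
  · exact hτ₂
  · exact hτ₃

/-- In an abelian category, let M : A → B → C and M' : A' → B' → C' be monads, i.e. short complexes
whose first map is a monomorphism and whose second map is an epimorphism, with cohomology (homology)
objects E and E'. Suppose Hom(B, A') = 0, Hom(C, B') = 0 and Ext^1(C, A') = Ext^1(B, A') = Ext^1(C,
B') = Ext^2(C, A') = 0. Then the map sending a morphism of monads M → M' to the induced morphism E →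
E' is bijective. The published statement is for monads of vector bundles on a complex manifold X,
with Ext^i(C, A') written H^i(X, C^* ⊗ A'); this row is stated in any abelian category. -/
theorem result {C : Type u} [Category.{v} C] [Abelian C] [HasExt.{w} C]
    (M M' : ShortComplex C) [Mono M.f] [Epi M.g] [Mono M'.f] [Epi M'.g]
    (hBA : ∀ f : M.X₂ ⟶ M'.X₁, f = 0) (hCB : ∀ f : M.X₃ ⟶ M'.X₂, f = 0)
    (hCA₁ : Subsingleton (Abelian.Ext M.X₃ M'.X₁ 1)) (hBA₁ : Subsingleton (Abelian.Ext M.X₂ M'.X₁ 1))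
    (hCB₁ : Subsingleton (Abelian.Ext M.X₃ M'.X₂ 1)) (hCA₂ : Subsingleton (Abelian.Ext M.X₃ M'.X₁ 2)) :
    Function.Bijective (fun φ : M ⟶ M' => ShortComplex.homologyMap φ) := by
  constructor
  · intro φ₁ φ₂ h
    have h' : ShortComplex.homologyMap φ₁ = ShortComplex.homologyMap φ₂ := h
    rw [← sub_eq_zero]
    apply inj M M' hBA hCB hCA₁
    rw [ShortComplex.homologyMap_sub, h', sub_self]
  · intro e
    exact surj M M' hBA₁ hCB₁ hCA₂ e

end Groth.Agent.S11497
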