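import Groth.Statements.S11520
import Mathlib

set_option autoImplicit false
universe v u v' u'
open CategoryTheory CategoryTheory.Limits CategoryTheory.Pretriangulated CategoryTheory.Triangulated
open PervT

namespace Groth.Agent.S11520

section
open CategoryTheory CategoryTheory.Limits CategoryTheory.Pretriangulated CategoryTheory.Triangulated

section
variable {C : Type u} [Category.{v} C] [Preadditive C] [HasZeroObject C] [HasShift C ℤ]
  [∀ n : ℤ, (shiftFunctor C n).Additive] [Pretriangulated C] [IsTriangulated C] (t : TStructure C)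
  {H : Type u'} [Category.{v'} H] [Preadditive H] [t.Heart H]

lemma hι : ∀ ⦃X Y : H⦄ ⦃n : ℤ⦄ (f : t.ιHeart.obj X ⟶ (t.ιHeart.obj Y)⟦n⟧), n < 0 → f = 0 := by
  intro X Y n f hn
  haveI : t.IsGE ((t.ιHeart.obj Y)⟦n⟧) (-n) := t.isGE_shift _ 0 n (-n) (by omega)
  exact t.zero f 0 (-n) (by omega)

lemma hA : AbelianSubcategory.admissibleMorphism (t.ιHeart (H := H)) = ⊤ := by
  ext X₁ X₂ f₁
  simp only [MorphismProperty.top_apply, iff_true]
  intro X₃ f₂ f₃ hT
  have hT' := rot_of_distTriang _ hT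
  haveI : t.IsLE ((t.ιHeart.obj X₁)⟦(1 : ℤ)⟧) (-1) := t.isLE_shift _ 0 1 (-1) (by norm_num)
  haveI : t.IsGE ((t.ιHeart.obj X₁)⟦(1 : ℤ)⟧) (-1) := t.isGE_shift _ 0 1 (-1) (by norm_num)
  haveI h3le : t.IsLE X₃ 0 := t.isLE₂ _ hT' 0
    (show t.IsLE (t.ιHeart.obj X₂) 0 from inferInstance)
    (show t.IsLE ((t.ιHeart.obj X₁)⟦(1 : ℤ)⟧) 0 from t.isLE_of_le _ (-1) 0 (by norm_num))
  haveI h3ge : t.IsGE X₃ (-1) := t.isGE₂ _ hT' (-1)
    (show t.IsGE (t.ιHeart.obj X₂) (-1) from t.isGE_of_ge _ (-1) 0 (by norm_num))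
    (show t.IsGE ((t.ιHeart.obj X₁)⟦(1 : ℤ)⟧) (-1) from inferInstance)
  obtain ⟨K', hK'⟩ : ∃ K', K' = (t.truncLT 0).obj X₃ := ⟨_, rfl⟩
  obtain ⟨Q', hQ'⟩ : ∃ Q', Q' = (t.truncGE 0).obj X₃ := ⟨_, rfl⟩
  haveI : t.IsLE K' (-1) := by rw [hK']; exact t.isLE_truncLT_obj X₃ 0 (-1) (by norm_num)
  haveI : t.IsGE K' (-1) := by rw [hK']; infer_instance
  haveI : t.IsGE Q' 0 := by rw [hQ']; infer_instance
  haveI : t.IsLE Q' 0 := by rw [hQ']; infer_instance
  have hK : t.heart (K'⟦(-1 : ℤ)⟧) := (t.mem_heart_iff _).mpr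
    ⟨t.isLE_shift K' (-1) (-1) 0 (by norm_num), t.isGE_shift K' (-1) (-1) 0 (by norm_num)⟩
  have hQ : t.heart Q' := (t.mem_heart_iff _).mpr ⟨inferInstance, inferInstance⟩
  rw [← t.essImage_ιHeart H] at hK hQ
  obtain ⟨K, ⟨eK⟩⟩ := hK
  obtain ⟨Q, ⟨eQ⟩⟩ := hQ
  obtain ⟨eK', -⟩ : ∃ eK' : (t.ιHeart.obj K)⟦(1 : ℤ)⟧ ≅ K', True :=
    ⟨(shiftFunctor C (1 : ℤ)).mapIso eK ≪≫
      (shiftFunctorCompIsoId C (-1 : ℤ) (1 : ℤ) (by norm_num)).app K', trivial⟩
  subst hK' hQ'
  refine ⟨K, Q, eK'.hom ≫ (t.truncLTι 0).app X₃, (t.truncGEπ 0).app X₃ ≫ eQ.inv,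
    eQ.hom ≫ (t.truncGEδLT 0).app X₃ ≫ eK'.inv⟦(1 : ℤ)⟧', ?_⟩
  refine isomorphic_distinguished _ (t.triangleLTGE_distinguished 0 X₃) _ ?_
  refine Triangle.isoMk _ _ eK' (Iso.refl _) eQ ?_ ?_ ?_
  · exact Category.comp_id _
  · show ((t.truncGEπ 0).app X₃ ≫ eQ.inv) ≫ eQ.hom = 𝟙 X₃ ≫ (t.truncGEπ 0).app X₃
    rw [Category.assoc, Iso.inv_hom_id, Category.comp_id, Category.id_comp]
  · show (eQ.hom ≫ (t.truncGEδLT 0).app X₃ ≫ eK'.inv⟦(1 : ℤ)⟧') ≫ eK'.hom⟦(1 : ℤ)⟧' =
      eQ.hom ≫ (t.truncGEδLT 0).app X₃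
    rw [Category.assoc, Category.assoc, ← Functor.map_comp, Iso.inv_hom_id,
      CategoryTheory.Functor.map_id]
    exact congrArg _ (Category.comp_id _)

include t in
lemma hasZeroObject : HasZeroObject H := by
  open ZeroObject in
  have h0 : t.heart (0 : C) := (t.mem_heart_iff _).mpr ⟨inferInstance, inferInstance⟩
  rw [← t.essImage_ιHeart H] at h0
  obtain ⟨Z, ⟨e⟩⟩ := h0
  refine ⟨⟨Z, ?_⟩⟩
  rw [IsZero.iff_id_eq_zero]
  apply t.ιHeart.map_injective
  rw [CategoryTheory.Functor.map_id, CategoryTheory.Functor.map_zero]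
  exact (IsZero.iff_id_eq_zero _).mp ((isZero_zero C).of_iso e)

include t in
lemma hasBinaryBiproducts : HasBinaryBiproducts H := by
  refine ⟨fun X Y => ?_⟩
  have hT := binaryBiproductTriangle_distinguished (t.ιHeart.obj X) (t.ιHeart.obj Y)
  have hW : t.heart (t.ιHeart.obj X ⊞ t.ιHeart.obj Y) := (t.mem_heart_iff _).mpr
    ⟨t.isLE₂ _ hT 0 (show t.IsLE (t.ιHeart.obj X) 0 from inferInstance)
      (show t.IsLE (t.ιHeart.obj Y) 0 from inferInstance),
     t.isGE₂ _ hT 0 (show t.IsGE (t.ιHeart.obj X) 0 from inferInstance)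
      (show t.IsGE (t.ιHeart.obj Y) 0 from inferInstance)⟩
  rw [← t.essImage_ιHeart H] at hW
  obtain ⟨W, ⟨e⟩⟩ := hW
  refine hasBinaryBiproduct_of_total
    { pt := W
      fst := t.ιHeart.preimage (e.hom ≫ biprod.fst)
      snd := t.ιHeart.preimage (e.hom ≫ biprod.snd)
      inl := t.ιHeart.preimage (biprod.inl ≫ e.inv)
      inr := t.ιHeart.preimage (biprod.inr ≫ e.inv)
      inl_fst := by
        apply t.ιHeart.map_injective
        simp
      inl_snd := by
        apply t.ιHeart.map_injective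
        simp
      inr_fst := by
        apply t.ιHeart.map_injective
        simp
      inr_snd := by
        apply t.ιHeart.map_injective
        simp } ?_
  apply t.ιHeart.map_injective
  simp only [Functor.map_add, Functor.map_comp, Functor.map_preimage, Category.assoc]
  rw [CategoryTheory.Functor.map_id, ← Preadditive.comp_add, ← Category.assoc biprod.fst, ← Category.assoc biprod.snd,
    ← Preadditive.add_comp, biprod.total, Category.id_comp, Iso.hom_inv_id]

include t in
lemma hasFiniteProducts : HasFiniteProducts H := by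
  haveI := hasZeroObject t (H := H)
  haveI := hasBinaryBiproducts t (H := H)
  exact hasFiniteProducts_of_has_binary_and_terminal

end

theorem main {C : Type u} [Category.{v} C] [Preadditive C] [HasZeroObject C] [HasShift C ℤ] [∀ n : ℤ, (shiftFunctor C n).Additive] [Pretriangulated C] [IsTriangulated C] (t : TStructure C) {H : Type u'} [Category.{v'} H] [inst : Preadditive H] [t.Heart H] :
    ∃ a : Abelian H, @Abelian.toPreadditive H _ a = inst := by
  haveI := hasFiniteProducts t (H := H)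
  exact ⟨AbelianSubcategory.abelian t.ιHeart (hι t) (hA t), rfl⟩


end


/-- Let `C` be a triangulated category (octahedron axiom included) with a t-structure `t`, and let `H`
be an additive category identified with the heart of `t` (the objects that are both `≤ 0` and `≥ 0`)
through a fully faithful additive functor whose essential image is the heart. Then `H` is an abelian
category: there is an abelian category structure on `H` whose underlying additive structure is the
given one. -/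
theorem result {C : Type u} [Category.{v} C] [Preadditive C] [HasZeroObject C] [HasShift C ℤ] [∀ n : ℤ, (shiftFunctor C n).Additive] [Pretriangulated C] [IsTriangulated C] (t : TStructure C) {H : Type u'} [Category.{v'} H] [inst : Preadditive H] [t.Heart H] :
    ∃ a : Abelian H, @Abelian.toPreadditive H _ a = inst := by
  classical
  exact main t

end Groth.Agent.S11520
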