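import Groth.Statements.S11522
import Mathlib
import Groth.Statements.S11522
-- import your own Groth.Agent.* helpers here

set_option autoImplicit false
universe v u v' u'
open CategoryTheory CategoryTheory.Limits CategoryTheory.Pretriangulated CategoryTheory.Triangulated
open PervT

namespace Groth.Agent.S11522

open CategoryTheory CategoryTheory.Limits CategoryTheory.Pretriangulated CategoryTheory.Triangulated
namespace Aux
set_option backward.isDefEq.respectTransparency false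
set_option linter.style.haveILetI false
set_option backward.defeqAttrib.useBackward true

variable {C : Type u} [Category.{v} C] [Preadditive C] [HasZeroObject C] [HasShift C ℤ]
  [∀ n : ℤ, (shiftFunctor C n).Additive] [Pretriangulated C] [IsTriangulated C] (t : TStructure C)

lemma O1 (T : Triangle C) (hT : T ∈ distTriang C) (h₃ : t.IsGE T.obj₃ 0) :
    ∃ (g' : (t.truncGE 0).obj T.obj₂ ⟶ T.obj₃)
      (δ' : T.obj₃ ⟶ ((t.truncGE 0).obj T.obj₁)⟦(1 : ℤ)⟧),
      Triangle.mk ((t.truncGE 0).map T.mor₁) g' δ' ∈ distTriang C ∧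
      (t.truncGEπ 0).app T.obj₂ ≫ g' = T.mor₂ := by
  obtain ⟨Q, v, w, hQ⟩ := distinguished_cocone_triangle ((t.truncLTι 0).app T.obj₁ ≫ T.mor₁)
  have H := someOctahedron rfl (t.triangleLTGE_distinguished 0 T.obj₁) hT hQ
  have hQge : t.IsGE Q 0 :=
    t.isGE₂ _ H.mem 0 (by dsimp; infer_instance) (by dsimp; exact h₃)
  haveI := t.isLE_truncLT_obj T.obj₁ 0 (-1)
  haveI := t.isLE_truncLT_obj T.obj₂ 0 (-1)
  obtain ⟨ε, hε⟩ := t.triangle_iso_exists hQ (t.triangleLTGE_distinguished 0 T.obj₂)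
    (Iso.refl _) (-1) 0
    (by dsimp; infer_instance) (by dsimp; exact hQge) (by dsimp; infer_instance)
    (by dsimp; infer_instance)
  have c2 := ε.hom.comm₂
  rw [hε] at c2
  dsimp at c2
  rw [Category.id_comp] at c2
  -- c2 : v ≫ ε.hom.hom₃ = π_Y
  have h3 := (Triangle.π₃.mapIso ε).hom_inv_id
  dsimp at h3
  have c2' : (t.truncGEπ 0).app T.obj₂ ≫ ε.inv.hom₃ = v := by
    rw [← c2, Category.assoc, h3, Category.comp_id]
  refine ⟨ε.inv.hom₃ ≫ H.m₃, T.mor₃ ≫ ((t.truncGEπ 0).app T.obj₁)⟦(1 : ℤ)⟧', ?_, ?_⟩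
  · refine isomorphic_distinguished _ H.mem _ ?_
    refine Triangle.isoMk _ _ (Iso.refl _) (Triangle.π₃.mapIso ε).symm (Iso.refl _) ?_ ?_ ?_
    · dsimp
      rw [Category.id_comp]
      haveI := hQge
      apply t.from_truncGE_obj_ext
      rw [← Category.assoc, t.truncGEπ_naturality, Category.assoc, c2']
      exact H.comm₁.symm
    · dsimp
      rw [Category.comp_id]
    · dsimp
      simp
  · rw [← Category.assoc, c2']
    exact H.comm₃

lemma O2 (T : Triangle C) (hT : T ∈ distTriang C) (h₁ : t.IsLE T.obj₁ 0) :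
    ∃ (f' : T.obj₁ ⟶ (t.truncLE 0).obj T.obj₂)
      (δ' : (t.truncLE 0).obj T.obj₃ ⟶ T.obj₁⟦(1 : ℤ)⟧),
      Triangle.mk f' ((t.truncLE 0).map T.mor₂) δ' ∈ distTriang C ∧
      f' ≫ (t.truncLEι 0).app T.obj₂ = T.mor₁ := by
  haveI := h₁
  obtain ⟨f', hf'⟩ : ∃ f' : T.obj₁ ⟶ (t.truncLE 0).obj T.obj₂,
      f' ≫ (t.truncLEι 0).app T.obj₂ = T.mor₁ := ⟨t.liftTruncLE T.mor₁ 0, t.liftTruncLE_ι _ _⟩
  obtain ⟨Q, v, w, hQ⟩ := distinguished_cocone_triangle f'
  have H := someOctahedron hf' hQ (t.triangleLEGT_distinguished 0 T.obj₂) hT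
  haveI : t.IsLE (T.obj₁⟦(1 : ℤ)⟧) (-1) := t.isLE_shift T.obj₁ 0 1 (-1) (by lia)
  have hQle : t.IsLE Q 0 :=
    t.isLE₂ _ (rot_of_distTriang _ hQ) 0 (by dsimp; infer_instance)
      (by dsimp; exact t.isLE_of_le _ (-1) 0 (by lia))
  haveI := t.isGE_truncGT_obj T.obj₂ 0 1
  haveI := t.isGE_truncGT_obj T.obj₃ 0 1
  obtain ⟨ε, hε⟩ := t.triangle_iso_exists H.mem (t.triangleLEGT_distinguished 0 T.obj₃)
    (Iso.refl _) 0 1
    (by dsimp; exact hQle) (by dsimp; infer_instance) (by dsimp; infer_instance)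
    (by dsimp; infer_instance)
  have c1 := ε.hom.comm₁
  rw [hε] at c1
  dsimp at c1
  rw [Category.comp_id] at c1
  -- c1 : H.m₁ = ε.hom.hom₁ ≫ ι_Z
  have h3 := (Triangle.π₁.mapIso ε).hom_inv_id
  dsimp at h3
  have key : (t.truncLE 0).map T.mor₂ = v ≫ ε.hom.hom₁ := by
    apply t.to_truncLE_obj_ext
    rw [Category.assoc, ← c1, H.comm₁]
    exact (t.truncLEι 0).naturality T.mor₂
  refine ⟨f', ε.inv.hom₁ ≫ w, ?_, hf'⟩
  refine isomorphic_distinguished _ hQ _ ?_
  refine Triangle.isoMk _ _ (Iso.refl _) (Iso.refl _) (Triangle.π₁.mapIso ε).symm ?_ ?_ ?_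
  · dsimp
    simp
  · dsimp
    rw [Category.id_comp, key, Category.assoc, h3, Category.comp_id]
  · dsimp
    simp

variable {H : Type u'} [Category.{v'} H] [Abelian H] [t.Heart H] (H0 : C ⥤ H)
    (e : H0 ⋙ t.ιHeart ≅ t.truncGE 0 ⋙ t.truncLE 0)

include e in
lemma pzm : H0.PreservesZeroMorphisms := ⟨fun X Y => by
  apply t.ιHeart.map_injective
  rw [t.ιHeart.map_zero, ← cancel_mono (e.hom.app Y), zero_comp]
  have h := e.hom.naturality (0 : X ⟶ Y)
  dsimp at h
  rw [h]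
  simp⟩

/-- `γ_W : ι(H0 W) ⟶ τ≥0 W` -/
noncomputable def gam (W : C) : t.ιHeart.obj (H0.obj W) ⟶ (t.truncGE 0).obj W :=
  e.hom.app W ≫ (t.truncLEι 0).app ((t.truncGE 0).obj W)

lemma gam_nat {W W' : C} (φ : W ⟶ W') :
    t.ιHeart.map (H0.map φ) ≫ gam t H0 e W' = gam t H0 e W ≫ (t.truncGE 0).map φ := by
  have h1 := e.hom.naturality φ
  have h2 := (t.truncLEι 0).naturality ((t.truncGE 0).map φ)
  dsimp at h1 h2
  dsimp only [gam]
  rw [← Category.assoc, h1, Category.assoc, h2, Category.assoc]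

lemma gam_inj {U : H} {W : C} (φ : U ⟶ H0.obj W)
    (h : t.ιHeart.map φ ≫ gam t H0 e W = 0) : φ = 0 := by
  apply t.ιHeart.map_injective
  rw [Functor.map_zero]
  have h' : t.ιHeart.map φ ≫ e.hom.app W = 0 := by
    apply t.to_truncLE_obj_ext
    rw [zero_comp, Category.assoc]
    exact h
  rw [← cancel_mono (e.hom.app W), zero_comp]
  exact h'

/-- `γ'_W : τ≤0 W ⟶ ι(H0 W)` -/
noncomputable def gam' (W : C) : (t.truncLE 0).obj W ⟶ t.ιHeart.obj (H0.obj W) :=
  (t.truncLE 0).map ((t.truncGEπ 0).app W) ≫ e.inv.app W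

lemma gam'_nat {W W' : C} (φ : W ⟶ W') :
    gam' t H0 e W ≫ t.ιHeart.map (H0.map φ) = (t.truncLE 0).map φ ≫ gam' t H0 e W' := by
  have h1 := e.inv.naturality φ
  dsimp at h1
  dsimp only [gam']
  rw [Category.assoc, ← h1, ← Category.assoc, ← Category.assoc, ← Functor.map_comp,
    ← Functor.map_comp, t.truncGEπ_naturality]

lemma q_fac (W : C) : (t.truncLE 0).map ((t.truncGEπ 0).app W) =
    (t.truncGEπ 0).app ((t.truncLE 0).obj W) ≫ (t.truncGELEIsoLEGE 0 0).hom.app W := by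
  apply t.to_truncLE_obj_ext
  rw [Category.assoc]
  have h1 := t.truncGELTToLTGE_app_pentagon 0 (0 + 1) W
  have h2 := (t.truncLEι 0).naturality ((t.truncGEπ 0).app W)
  dsimp at h2
  rw [h2]
  exact h1.symm

lemma gam'_inj {V : H} {W : C} (ψ : H0.obj W ⟶ V)
    (h : gam' t H0 e W ≫ t.ιHeart.map ψ = 0) : ψ = 0 := by
  apply t.ιHeart.map_injective
  rw [Functor.map_zero]
  have h' : (t.truncGELEIsoLEGE 0 0).hom.app W ≫ e.inv.app W ≫ t.ιHeart.map ψ = 0 := by
    apply t.from_truncGE_obj_ext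
    rw [comp_zero]
    dsimp only [gam'] at h
    rw [q_fac, Category.assoc, Category.assoc] at h
    exact h
  have h2 : e.inv.app W ≫ t.ιHeart.map ψ = 0 := by
    rw [← cancel_epi ((t.truncGELEIsoLEGE 0 0).hom.app W), comp_zero]
    exact h'
  rw [← cancel_epi (e.inv.app W), comp_zero]
  exact h2

lemma gam'_surj {V : H} {W : C} (a : (t.truncLE 0).obj W ⟶ t.ιHeart.obj V) :
    ∃ ψ : H0.obj W ⟶ V, gam' t H0 e W ≫ t.ιHeart.map ψ = a := by
  refine ⟨t.ιHeart.preimage (e.hom.app W ≫ (t.truncGELEIsoLEGE 0 0).inv.app W ≫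
    t.descTruncGE a 0), ?_⟩
  rw [Functor.map_preimage]
  dsimp only [gam']
  rw [q_fac, Category.assoc, Category.assoc, Iso.inv_hom_id_app_assoc,
    Iso.hom_inv_id_app_assoc]
  exact t.π_descTruncGE a 0

include e in
lemma mono_of_isGE (T : Triangle C) (hT : T ∈ distTriang C) (h₃ : t.IsGE T.obj₃ 0) :
    Mono (H0.map T.mor₁) := by
  obtain ⟨g', δ', hT', -⟩ := O1 t T hT h₃
  rw [Preadditive.mono_iff_cancel_zero]
  intro U φ hφ
  apply gam_inj t H0 e
  haveI := pzm t H0 e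
  have h1 : (t.ιHeart.map φ ≫ gam t H0 e T.obj₁) ≫ (t.truncGE 0).map T.mor₁ = 0 := by
    rw [Category.assoc, ← gam_nat, ← Category.assoc, ← Functor.map_comp, hφ, Functor.map_zero,
      zero_comp]
  obtain ⟨c, hc⟩ := Triangle.coyoneda_exact₂ _ (inv_rot_of_distTriang _ hT') _ h1
  haveI := h₃
  have hc0 : c = 0 := t.zero_of_isLE_of_isGE c 0 1 (by lia) inferInstance
    (by dsimp; exact t.isGE_shift _ 0 (-1) 1 (by lia))
  rw [hc, hc0, zero_comp]

include e in
lemma exact_of_isLE (T : Triangle C) (hT : T ∈ distTriang C) (h₁ : t.IsLE T.obj₁ 0)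
    [H0.PreservesZeroMorphisms] :
    ((shortComplexOfDistTriangle T hT).map H0).Exact := by
  obtain ⟨f', δ', hT', hf'⟩ := O2 t T hT h₁
  haveI := h₁
  have hepi : Epi (H0.map T.mor₂) := by
    rw [Preadditive.epi_iff_cancel_zero]
    intro V ψ hψ
    apply gam'_inj t H0 e
    have h1 : (t.truncLE 0).map T.mor₂ ≫ (gam' t H0 e T.obj₃ ≫ t.ιHeart.map ψ) = 0 := by
      rw [← Category.assoc, ← gam'_nat, Category.assoc, ← Functor.map_comp, hψ,
        Functor.map_zero, comp_zero]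
    obtain ⟨c, hc⟩ := Triangle.yoneda_exact₃ _ hT' _ h1
    have hc0 : c = 0 := t.zero_of_isLE_of_isGE c (-1) 0 (by lia)
      (by dsimp; exact t.isLE_shift _ 0 1 (-1) (by lia)) inferInstance
    rw [hc, hc0, comp_zero]
  have hdesc : ∀ {V : H} (k : H0.obj T.obj₂ ⟶ V), H0.map T.mor₁ ≫ k = 0 →
      ∃ l : H0.obj T.obj₃ ⟶ V, H0.map T.mor₂ ≫ l = k := by
    intro V k hk
    have h0 : (t.truncLE 0).map T.mor₁ ≫ (gam' t H0 e T.obj₂ ≫ t.ιHeart.map k) = 0 := by
      rw [← Category.assoc, ← gam'_nat, Category.assoc, ← Functor.map_comp, hk,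
        Functor.map_zero, comp_zero]
    have h0' : (t.truncLE 0).map T.mor₁ = (t.truncLEι 0).app T.obj₁ ≫ f' := by
      apply t.to_truncLE_obj_ext
      rw [Category.assoc, hf']
      exact (t.truncLEι 0).naturality T.mor₁
    have h1 : f' ≫ (gam' t H0 e T.obj₂ ≫ t.ιHeart.map k) = 0 := by
      rw [h0', Category.assoc] at h0
      rw [← cancel_epi ((t.truncLEι 0).app T.obj₁), comp_zero]
      exact h0
    obtain ⟨b, hb⟩ : ∃ b : (t.truncLE 0).obj T.obj₃ ⟶ t.ιHeart.obj V,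
        gam' t H0 e T.obj₂ ≫ t.ιHeart.map k = (t.truncLE 0).map T.mor₂ ≫ b :=
      Triangle.yoneda_exact₂ _ hT' _ h1
    obtain ⟨l, hl⟩ := gam'_surj t H0 e b
    refine ⟨l, ?_⟩
    have : H0.map T.mor₂ ≫ l - k = 0 := by
      apply gam'_inj t H0 e
      rw [Functor.map_sub, Preadditive.comp_sub, Functor.map_comp, ← Category.assoc, gam'_nat,
        Category.assoc, hl, ← hb, sub_self]
    exact sub_eq_zero.mp this
  exact ((ShortComplex.exact_and_epi_g_iff_g_is_cokernel _).2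
    ⟨CokernelCofork.IsColimit.ofπ _ _ (fun k hk => (hdesc k hk).choose)
      (fun k hk => (hdesc k hk).choose_spec)
      (fun k hk m hm => by
        rw [← cancel_epi (H0.map T.mor₂), (hdesc k hk).choose_spec]
        exact hm)⟩).1

include e in
theorem main : H0.IsHomological := by
  haveI : H0.PreservesZeroMorphisms := pzm t H0 e
  refine ⟨fun T hT => ?_⟩
  obtain ⟨W, v, w, hW⟩ := distinguished_cocone_triangle ((t.truncLEι 0).app T.obj₁ ≫ T.mor₁)
  have Hoct := someOctahedron rfl (t.triangleLEGT_distinguished 0 T.obj₁) hT hW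
  have hrot := rot_of_distTriang _ Hoct.mem
  haveI := t.isGE_truncGT_obj T.obj₁ 0 1
  have hmono : Mono (H0.map Hoct.m₃) := mono_of_isGE t H0 e _ hrot
    (by dsimp; exact t.isGE_shift _ 1 1 0 (by lia))
  have hex := exact_of_isLE t H0 e _ hW (by dsimp; infer_instance)
  have hiso : IsIso (H0.map ((t.truncLEι 0).app T.obj₁)) := by
    have h1 : IsIso ((t.truncLE 0 ⋙ t.truncGE 0).map ((t.truncLEι 0).app T.obj₁)) := by
      dsimp only [Functor.comp_map]; infer_instance
    have h2 : IsIso ((t.truncGE 0 ⋙ t.truncLE 0).map ((t.truncLEι 0).app T.obj₁)) :=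
      (NatIso.isIso_map_iff (t.truncGELEIsoLEGE 0 0) _).1 h1
    have h3 : IsIso ((H0 ⋙ t.ιHeart).map ((t.truncLEι 0).app T.obj₁)) :=
      (NatIso.isIso_map_iff e _).2 h2
    haveI : IsIso (t.ιHeart.map (H0.map ((t.truncLEι 0).app T.obj₁))) := h3
    exact isIso_of_fully_faithful t.ιHeart _
  let φ : (shortComplexOfDistTriangle _ hW).map H0 ⟶ (shortComplexOfDistTriangle T hT).map H0 :=
    { τ₁ := H0.map ((t.truncLEι 0).app T.obj₁)
      τ₂ := 𝟙 _
      τ₃ := H0.map Hoct.m₃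
      comm₁₂ := by
        dsimp
        rw [Category.comp_id, ← Functor.map_comp]
      comm₂₃ := by
        dsimp
        rw [Category.id_comp, ← Functor.map_comp, Hoct.comm₃] }
  haveI : Epi φ.τ₁ := by dsimp [φ]; infer_instance
  haveI : IsIso φ.τ₂ := by dsimp [φ]; infer_instance
  haveI : Mono φ.τ₃ := hmono
  exact (ShortComplex.exact_iff_of_epi_of_isIso_of_mono φ).1 hex

end Aux

/-- Let `C` be a triangulated category (octahedron axiom included) with a t-structure `t`, and let `H`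
be an abelian category identified with the heart of `t` through a fully faithful additive functor
`ι` whose essential image is the heart. Let `H0 : C ⥤ H` be any functor whose composite with `ι` is
isomorphic to `τ≤0 ∘ τ≥0`, the degree-zero cohomology functor of `t`. Then `H0` is a homological
functor: for every distinguished triangle `X ⟶ Y ⟶ Z ⟶ X⟦1⟧` the sequence `H0 X ⟶ H0 Y ⟶ H0 Z` is
exact, so that by rotation one gets the long exact cohomology sequence of the triangle in `H`. -/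
theorem result {C : Type u} [Category.{v} C] [Preadditive C] [HasZeroObject C] [HasShift C ℤ] [∀ n : ℤ, (shiftFunctor C n).Additive] [Pretriangulated C] [IsTriangulated C] (t : TStructure C) {H : Type u'} [Category.{v'} H] [Abelian H] [t.Heart H] (H0 : C ⥤ H)
    (e : H0 ⋙ t.ιHeart ≅ t.truncGE 0 ⋙ t.truncLE 0) : H0.IsHomological := by
  exact Aux.main t H0 e

end Groth.Agent.S11522
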