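import Groth.Statements.S11523
import Mathlib

set_option autoImplicit false
universe v u v' u'
open CategoryTheory CategoryTheory.Limits
open PervT

namespace Groth.Agent.S11523

section
open CategoryTheory CategoryTheory.Limits

variable {A : Type u} [Category.{v} A] [Abelian A] {B : Type u'} [Category.{v'} B] [Abelian B]
    (u : A ⥤ B) [u.Full] [u.Faithful] [PreservesFiniteLimits u] [PreservesFiniteColimits u]

theorem aux (hlen : ∀ X : A, IsArtinianObject X ∧ IsNoetherianObject X)
    (hsimple : ∀ X : A, Simple X → Simple (u.obj X)) (X₀ : A) :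
    ∀ P : Subobject X₀, ∀ (Q : A) (π : X₀ ⟶ Q) [Epi π], kernelSubobject π = P →
      ∀ (K : B) (i : K ⟶ u.obj Q) [Mono i],
        (∀ S : A, Simple S → ∀ f : u.obj S ⟶ K, f = 0) → IsZero K := by
  haveI := (hlen X₀).2
  haveI : u.PreservesZeroMorphisms := inferInstance
  intro P
  induction P using WellFoundedGT.induction with
  | ind P ih =>
  intro Q π _ hP K i _ hK
  by_cases hQ : IsZero Q
  · have : IsZero (u.obj Q) := u.map_isZero hQ
    exact IsZero.of_mono i this
  · haveI := (hlen Q).1
    obtain ⟨S, hS⟩ := exists_simple_subobject hQ
    haveI := hS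
    haveI huS : Simple (u.obj (S : A)) := hsimple _ hS
    let s : (S : A) ⟶ Q := S.arrow
    let c : Q ⟶ cokernel s := cokernel.π s
    -- strictness
    have hle : P ≤ kernelSubobject (π ≫ c) := hP ▸ kernelSubobject_comp_le π c
    have hne : P ≠ kernelSubobject (π ≫ c) := by
      intro heq
      have h0 : kernel.ι (π ≫ c) ≫ π = 0 := by
        have h1 : kernelSubobject (π ≫ c) ≤ kernelSubobject π := by rw [hP, heq]
        have h2 : (kernelSubobject (π ≫ c)).arrow ≫ π = 0 := by
          rw [← Subobject.ofLE_arrow h1, Category.assoc, kernelSubobject_arrow_comp, comp_zero]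
        rw [← kernelSubobject_arrow' (π ≫ c), Category.assoc, h2, comp_zero]
      haveI : Epi (pullback.snd π s) := Abelian.epi_pullback_of_epi_f π s
      have h3 : pullback.fst π s ≫ (π ≫ c) = 0 := by
        rw [← Category.assoc, pullback.condition, Category.assoc, cokernel.condition, comp_zero]
      have h4 : pullback.fst π s ≫ π = 0 := by
        rw [← kernel.lift_ι (π ≫ c) _ h3, Category.assoc, h0, comp_zero]
      have h5 : pullback.snd π s ≫ s = 0 := by rw [← pullback.condition, h4]
      have h6 : s = 0 := by
        rw [← cancel_epi (pullback.snd π s), h5, comp_zero]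
      exact Simple.not_isZero (S : A) (IsZero.of_mono_eq_zero s h6)
    have hlt : P < kernelSubobject (π ≫ c) := lt_of_le_of_ne hle hne
    -- mono-ness of i ≫ u.map c
    have hexact : (ShortComplex.mk s c (cokernel.condition s)).Exact :=
      ShortComplex.exact_cokernel s
    haveI : Mono (i ≫ u.map c) := by
      apply Preadditive.mono_of_kernel_zero
      set k := kernel.ι (i ≫ u.map c) with hk
      have hkc : (k ≫ i) ≫ u.map c = 0 := by rw [Category.assoc, kernel.condition]
      -- u.map s is a kernel of u.map c
      have hex' : ((ShortComplex.mk s c (cokernel.condition s)).map u).Exact :=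
        hexact.map u
      haveI : Mono (u.map s) := inferInstance
      haveI : Mono ((ShortComplex.mk s c (cokernel.condition s)).map u).f := by
        show Mono (u.map s); infer_instance
      obtain ⟨h, hh⟩ : ∃ h : kernel (i ≫ u.map c) ⟶ u.obj (S : A), h ≫ u.map s = k ≫ i :=
        ⟨hex'.lift (k ≫ i) hkc, hex'.lift_f (k ≫ i) hkc⟩
      haveI : Mono (k ≫ i) := mono_comp _ _
      haveI : Mono h := mono_of_mono_fac hh
      by_cases hz : h = 0
      · have : k ≫ i = 0 := by rw [← hh, hz, zero_comp]
        rw [← cancel_mono i, this, zero_comp]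
      · haveI : IsIso h := isIso_of_mono_of_nonzero hz
        have : inv h ≫ k = 0 := hK _ hS _
        calc k = h ≫ (inv h ≫ k) := by simp
          _ = 0 := by rw [this, comp_zero]
    exact ih _ hlt (cokernel s) (π ≫ c) rfl K (i ≫ u.map c) hK

theorem main
    (u : A ⥤ B) [u.Full] [u.Faithful] [PreservesFiniteLimits u] [PreservesFiniteColimits u] [u.IsRightAdjoint]
    (uStar : B ⥤ A) (adj : u ⊣ uStar)
    (hlen : ∀ X : A, IsArtinianObject X ∧ IsNoetherianObject X)
    (hsimple : ∀ X : A, Simple X → Simple (u.obj X)) (Y : B) :
    Mono (adj.counit.app Y) := by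
  haveI : u.PreservesZeroMorphisms := inferInstance
  apply Preadditive.mono_of_kernel_zero
  have hz : IsZero (kernel (adj.counit.app Y)) := by
    refine aux u hlen hsimple (uStar.obj Y) _ (uStar.obj Y) (𝟙 _) rfl _ (kernel.ι _) ?_
    intro S _ f
    have h1 : (f ≫ kernel.ι _) ≫ adj.counit.app Y = 0 := by
      rw [Category.assoc, kernel.condition, comp_zero]
    obtain ⟨g, hg⟩ := u.map_surjective (f ≫ kernel.ι (adj.counit.app Y))
    have h2 : (adj.homEquiv _ _).symm g = 0 := by
      rw [Adjunction.homEquiv_counit, hg, h1]
    have h3 : g = 0 := by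
      apply (adj.homEquiv _ _).symm.injective
      rw [h2, Adjunction.homEquiv_counit, u.map_zero, zero_comp]
    rw [← cancel_mono (kernel.ι (adj.counit.app Y)), ← hg, h3, u.map_zero, zero_comp]
  exact hz.eq_of_src _ _


end


/-- Let `u : A ⥤ B` be a fully faithful exact functor of abelian categories admitting a left adjoint and
a right adjoint `uStar`. Suppose every object of `A` has finite length (it is both an artinian and a
noetherian object) and that `u` sends simple objects to simple objects. Then for every object `Y` of
`B` the counit `u (uStar Y) ⟶ Y` of the adjunction `u ⊣ uStar` is a monomorphism. (The published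
statement also lists two further conditions equivalent to this one: that for every object `Y` of `B`
the unit `Y ⟶ u (L Y)` of the adjunction `L ⊣ u` of the left adjoint `L` is an epimorphism, and that
the essential image of `u` is stable under subobjects and quotients; this row states only the counit
condition.) -/
theorem result {A : Type u} [Category.{v} A] [Abelian A] {B : Type u'} [Category.{v'} B] [Abelian B]
    (u : A ⥤ B) [u.Full] [u.Faithful] [PreservesFiniteLimits u] [PreservesFiniteColimits u] [u.IsRightAdjoint]
    (uStar : B ⥤ A) (adj : u ⊣ uStar)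
    (hlen : ∀ X : A, IsArtinianObject X ∧ IsNoetherianObject X)
    (hsimple : ∀ X : A, Simple X → Simple (u.obj X)) (Y : B) :
    Mono (adj.counit.app Y) := by
  classical
  exact main u uStar adj hlen hsimple Y

end Groth.Agent.S11523
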