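import Groth.Statements.S11538
-- import your own Groth.Agent.* helpers here
import Mathlib
import Groth.Agent.Lib.Helper7.PiFlat

set_option autoImplicit false
universe u v
open scoped TensorProduct
open AdicRing

namespace Groth.Agent.S11538

/-- Let A be a commutative ring, π an element of A which is not a zero divisor and M an A-module. Then M
is flat over A if and only if the π-power torsion of M vanishes, (A/πA) ⊗_A M is flat over A/πA, and
A[π⁻¹] ⊗_A M is flat over A[π⁻¹]. -/
theorem result
    (A : Type u) [CommRing A] (π : A) (hπ : π ∈ nonZeroDivisors A)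
    (M : Type v) [AddCommGroup M] [Module A M] :
    Module.Flat A M ↔
      (∀ (x : M) (n : ℕ), π ^ n • x = 0 → x = 0) ∧
        Module.Flat (A ⧸ Ideal.span {π}) ((A ⧸ Ideal.span {π}) ⊗[A] M) ∧
        Module.Flat (Localization.Away π) ((Localization.Away π) ⊗[A] M) := by
  constructor
  · intro hflat
    refine ⟨?_, inferInstance, inferInstance⟩
    intro x n hx
    have hregM : IsSMulRegular M (π ^ n) :=
      Module.Flat.isSMulRegular_of_nonZeroDivisors (pow_mem hπ n)
    exact hregM (by change π ^ n • x = π ^ n • 0; rw [hx, smul_zero])
  · rintro ⟨htf, h1, h2⟩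
    exact Groth.Agent.Helper7.PiFlat.flat_of_pi π hπ M htf (Localization.Away π)

end Groth.Agent.S11538
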