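import Groth.Statements.S11541
import Groth.Agent.Lib.Helper6.RigPt.RP4
import Groth.Agent.Lib.Helper6.RigPt.RP5

set_option autoImplicit false
universe u
open AdicRing

namespace Groth.Agent.S11541

/-- Let R be a complete valuation ring of height one with t a nonzero element generating an ideal of
definition, and B an admissible R-algebra which is a local integral domain of Krull dimension one.
Then B is a finite R-module whose integral closure inside its fraction field is a valuation ring. -/
theorem result
    (R : Type u) [CommRing R] [IsDomain R] [ValuationRing R] [Ring.KrullDimLE 1 R]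
    (t : R) (ht : t ≠ 0) [IsAdicComplete (Ideal.span {t}) R]
    (B : Type u) [CommRing B] [Algebra R B] [IsDomain B] [IsLocalRing B]
    (hB : AdicRing.Admissible R (Ideal.span {t}) B) (hdim : ringKrullDim B = 1) :
    Module.Finite R B ∧ ValuationRing (integralClosure B (FractionRing B)) := by
  have hfin := Groth.Agent.Lib.Helper6.RigPt.admissible_finite R t ht B hB hdim
  refine ⟨hfin, ?_⟩
  have hint : Algebra.IsIntegral R B := inferInstance
  have hinj : Function.Injective (algebraMap R B) := by
    rw [injective_iff_map_eq_zero]
    intro r hr
    by_contra hr0
    have h1 := Groth.Agent.Lib.Helper6.RigPt.admissible_torsionFree R t ht B hB r hr0 1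
      (by rw [Algebra.smul_def, mul_one]; exact hr)
    exact one_ne_zero h1
  exact Groth.Agent.Lib.Helper6.RigPt.valuationRing_integralClosure R t ht B hinj

end Groth.Agent.S11541
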