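import Groth.Statements.S1156
import Mathlib
import Mathlib

set_option autoImplicit false
universe u
open scoped TensorProduct
open Desc

open TensorProduct

namespace Groth.Agent.S1156

/-- Exactness of the extended Amitsur complex in degree 0 (injectivity in degree −1 being standard). Let
R → A be faithfully flat and M an R-module. An element x of A ⊗_R M with 1 ⊗ x = (a ⊗ m ↦ a ⊗ 1 ⊗
m)(x) in A ⊗_R A ⊗_R M lies in the image of m ↦ 1 ⊗ m. -/
theorem result (R A : Type u) [CommRing R] [CommRing A] [Algebra R A] [Module.FaithfullyFlat R A]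
    (M : Type u) [AddCommGroup M] [Module R M] (x : A ⊗[R] M)
    (hx : TensorProduct.mk R A (A ⊗[R] M) 1 x = LinearMap.lTensor A (TensorProduct.mk R A M 1) x) :
    x ∈ LinearMap.range (TensorProduct.mk R A M 1) := by
  let ι : M →ₗ[R] A ⊗[R] M := TensorProduct.mk R A M 1
  let δ : A ⊗[R] M →ₗ[R] A ⊗[R] (A ⊗[R] M) :=
    TensorProduct.mk R A (A ⊗[R] M) 1 - LinearMap.lTensor A ι
  have hex : Function.Exact ι δ := by
    rw [← Module.FaithfullyFlat.lTensor_exact_iff_exact R A]
    -- contraction
    let s : A ⊗[R] (A ⊗[R] M) →ₗ[R] A ⊗[R] M :=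
      (LinearMap.rTensor M (LinearMap.mul' R A)) ∘ₗ (TensorProduct.assoc R A A M).symm.toLinearMap
    let s' : A ⊗[R] (A ⊗[R] (A ⊗[R] M)) →ₗ[R] A ⊗[R] (A ⊗[R] M) :=
      (LinearMap.rTensor (A ⊗[R] M) (LinearMap.mul' R A)) ∘ₗ
        (TensorProduct.assoc R A A (A ⊗[R] M)).symm.toLinearMap
    have key : ∀ y : A ⊗[R] (A ⊗[R] M), s' (LinearMap.lTensor A δ y) = y - LinearMap.lTensor A ι (s y) := by
      intro y
      induction y using TensorProduct.induction_on with
      | zero => simp
      | add y z hy hz => simp only [map_add, hy, hz]; abel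
      | tmul a y =>
        induction y using TensorProduct.induction_on with
        | zero => simp
        | add y z hy hz => simp only [tmul_add, map_add, hy, hz]; abel
        | tmul a' m =>
          simp [s, s', δ, ι]
    intro y
    constructor
    · intro hy
      have := key y
      rw [hy, map_zero] at this
      exact ⟨s y, (sub_eq_zero.mp this.symm).symm⟩
    · rintro ⟨z, rfl⟩
      induction z using TensorProduct.induction_on with
      | zero => simp
      | add y z hy hz => simp only [map_add, hy, hz, add_zero]
      | tmul a m => simp [δ, ι]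
  have h0 : δ x = 0 := by
    simp only [δ, LinearMap.sub_apply, sub_eq_zero]
    exact hx
  exact (hex x).mp h0

end Groth.Agent.S1156
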