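import Groth.Statements.S1162
-- import your own Groth.Agent.* helpers here
import Groth.Agent.Lib.Helper7.BirBC

set_option autoImplicit false
open CategoryTheory CategoryTheory.Limits AlgebraicGeometry Opposite
universe u
open Desc

namespace Groth.Agent.S1162

/-- Let f : X ⟶ Y be flat and separated. Write X⁰ for the generic points of the irreducible components
of X. If for every ξ in X⁰ the residue field extension κ(f ξ) ⊆ κ(ξ) is trivial and f is injective
on X⁰, then f is universally injective. -/
theorem result {X Y : Scheme.{u}} (f : X ⟶ Y) [Flat f] [IsSeparated f]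
    (h2 : ∀ ξ : X, closure ({ξ} : Set X) ∈ irreducibleComponents (X : Type u) →
      Function.Surjective (f.residueFieldMap ξ).hom)
    (h3 : Set.InjOn f.base {ξ : X | closure ({ξ} : Set X) ∈ irreducibleComponents (X : Type u)}) :
    UniversallyInjective f := by
  rw [UniversallyInjective.iff_diagonal]
  have sq : IsPullback (Limits.pullback.fst f f) (Limits.pullback.snd f f) f f :=
    IsPullback.of_hasPullback f f
  have hcl : IsClosed (Set.range (Limits.pullback.diagonal f)) :=
    (Limits.pullback.diagonal f).isClosedEmbedding.isClosed_range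
  refine ⟨fun w => ?_⟩
  obtain ⟨w₀, hw₀, hsp⟩ := Groth.Agent.Helper7.BirBC.exists_generic_specializes w
  have hmem : w₀ ∈ Set.range (Limits.pullback.diagonal f) := by
    have h₁ : Limits.pullback.fst f f w₀ ∈ genericPoints X :=
      Groth.Agent.Helper7.BirBC.map_mem_genericPoints
        (Flat.generalizingMap (Limits.pullback.fst f f)) hw₀
    have h₂ : Limits.pullback.snd f f w₀ ∈ genericPoints X :=
      Groth.Agent.Helper7.BirBC.map_mem_genericPoints
        (Flat.generalizingMap (Limits.pullback.snd f f)) hw₀
    have heq : Limits.pullback.fst f f w₀ = Limits.pullback.snd f f w₀ :=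
      h3 h₁ h₂ (congr($(Limits.pullback.condition (f := f) (g := f)) w₀))
    have hres : Function.Bijective (f.residueFieldMap (Limits.pullback.fst f f w₀)).hom :=
      ⟨RingHom.injective _, h2 _ h₁⟩
    obtain ⟨-, hb, -⟩ := Groth.Agent.Helper7.BirBC.fibre_lemma sq _ hres
    have e1 : Limits.pullback.fst f f (Limits.pullback.diagonal f (Limits.pullback.fst f f w₀)) =
        Limits.pullback.fst f f w₀ :=
      congr($(Limits.pullback.diagonal_fst f) (Limits.pullback.fst f f w₀))
    have e2 : Limits.pullback.snd f f (Limits.pullback.diagonal f (Limits.pullback.fst f f w₀)) =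
        Limits.pullback.fst f f w₀ :=
      congr($(Limits.pullback.diagonal_snd f) (Limits.pullback.fst f f w₀))
    have s1 := hb _ w₀ e1 rfl (by rw [e2, ← heq])
    have s2 := hb w₀ _ rfl e1 (by rw [e2, ← heq])
    exact ⟨_, (s1.antisymm s2).eq⟩
  exact hsp.mem_closed hcl hmem

end Groth.Agent.S1162
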