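import Groth.Statements.S1177
import Mathlib
import Groth.Agent.Lib.Lead.PB1
import Groth.Agent.Lib.Lead.FLF6

set_option autoImplicit false
open CategoryTheory CategoryTheory.Limits AlgebraicGeometry Opposite
universe u
open Desc

namespace Groth.Agent.S1177

section
open CategoryTheory CategoryTheory.Limits AlgebraicGeometry Opposite

open Groth.Agent.Lead

theorem main {X X' : Scheme.{u}} (g : X' ⟶ X) [QuasiCompact g] [Flat g] [Surjective g]
    (F : X.Modules) [F.IsQuasicoherent] (h : FlatMod.IsFinLocFree ((Scheme.Modules.pullback g).obj F)) :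
    FlatMod.IsFinLocFree F := by
  haveI : ((Scheme.Modules.pullback g).obj F).IsQuasicoherent :=
    FLF.isQuasicoherent_of_isFinLocFree _ h
  have h' := (FLF.isFinLocFree_iff_affineOpens _).1 h
  rw [FLF.isFinLocFree_iff_affineOpens]
  intro V hV
  have hfp : Module.FinitePresentation Γ(X, V) Γ(F.restrict hV.fromSpec, ⊤) :=
    PB.finitePresentation_descent g F hV fun U' hU' _ => by
      obtain ⟨h1, h2⟩ := h' U' hU'
      haveI : Module.Finite Γ(X', U')
          Γ(((Scheme.Modules.pullback g).obj F).restrict hU'.fromSpec, ⊤) :=
        Module.Finite.equiv (FLF.sectionsLinearEquiv hU' _).symm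
      haveI : Module.Projective Γ(X', U')
          Γ(((Scheme.Modules.pullback g).obj F).restrict hU'.fromSpec, ⊤) :=
        Module.Projective.of_equiv (FLF.sectionsLinearEquiv hU' _).symm
      exact Module.finitePresentation_of_projective _ _
  have hfl : Module.Flat Γ(X, V) Γ(F.restrict hV.fromSpec, ⊤) :=
    PB.flat_descent g F hV fun U' hU' _ => by
      obtain ⟨h1, h2⟩ := h' U' hU'
      haveI : Module.Projective Γ(X', U')
          Γ(((Scheme.Modules.pullback g).obj F).restrict hU'.fromSpec, ⊤) :=
        Module.Projective.of_equiv (FLF.sectionsLinearEquiv hU' _).symm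
      infer_instance
  haveI := hfp
  haveI := hfl
  haveI hproj : Module.Projective Γ(X, V) Γ(F.restrict hV.fromSpec, ⊤) :=
    Module.Flat.projective_of_finitePresentation
  exact ⟨Module.Finite.equiv (FLF.sectionsLinearEquiv hV F),
    Module.Projective.of_equiv (FLF.sectionsLinearEquiv hV F)⟩


end


/-- Let g : X' ⟶ X be quasi-compact, flat and surjective and F a quasi-coherent O_X-module. If the
pullback g^*F is a finite locally free O_{X'}-module, then F is finite locally free. -/
theorem result {X X' : Scheme.{u}} (g : X' ⟶ X) [QuasiCompact g] [Flat g] [Surjective g]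
    (F : X.Modules) [F.IsQuasicoherent] (h : FlatMod.IsFinLocFree ((Scheme.Modules.pullback g).obj F)) :
    FlatMod.IsFinLocFree F := by
  classical
  exact main g F h

end Groth.Agent.S1177
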