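import Groth.Statements.S19602
import Mathlib
import Groth.Agent.Lib.Helper9.OrbitLib

set_option autoImplicit false
universe u
open GIT

namespace Groth.Agent.S19602

/-- Let k be an algebraically closed field, G = Spec A a linearly reductive affine algebraic group over
k, and U = Spec R an affine k-scheme of finite type on which G acts. Two k-points x₁, x₂ of U have
the same image in U//G = Spec R^G if and only if the closures of their orbits have a common k-point.
Stated in coaction form. The published statement allows any affine U and asks only that the two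
orbit closures meet; this row assumes U of finite type over k and asks for a common k-point, which
is then equivalent. -/
theorem result (k : Type u) [Field k] [IsAlgClosed k]
    (A : Type u) [CommRing A] [HopfAlgebra k A] [Algebra.FiniteType k A] (hG : HopfRep.IsLinearlyReductive k A)
    (R : Type u) [CommRing R] [Algebra k R] [Algebra.FiniteType k R] [HopfRep.Comod k A R] [GLin.IsCoactAlg k A R]
    (x₁ x₂ : R →ₐ[k] k) :
    x₁.comp (GLin.invariants k A R).val = x₂.comp (GLin.invariants k A R).val ↔
      ∃ z : R →ₐ[k] k, GLin.InOrbitClosure k A x₁ z ∧ GLin.InOrbitClosure k A x₂ z := by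
  have hA1 : (1 : A) ≠ 0 := by
    intro h
    have := congrArg (Coalgebra.counit (R := k) (A := A)) h
    rw [Bialgebra.counit_one, map_zero] at this
    exact one_ne_zero this
  constructor
  · intro hx
    by_contra hne
    push Not at hne
    have hsum : RingHom.ker (GLin.orbitHom k A x₁) ⊔ RingHom.ker (GLin.orbitHom k A x₂) = ⊤ := by
      by_contra hJ
      obtain ⟨z, hz⟩ := Groth.Agent.Helper9.OrbitLib.exists_algHom_of_ne_top (k := k) _ hJ
      exact hne z (le_sup_left.trans hz) (le_sup_right.trans hz)
    have h1 : (1 : R) ∈ RingHom.ker (GLin.orbitHom k A x₁) ⊔ RingHom.ker (GLin.orbitHom k A x₂) := by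
      rw [hsum]; trivial
    obtain ⟨a₁, ha₁, a₂, ha₂, hsum1⟩ := Submodule.mem_sup.mp h1
    obtain ⟨E, hE₁, hE₂, hE₃⟩ := Groth.Agent.Helper9.exists_reynolds hG R
    have hEa₁ := Groth.Agent.Helper9.reynolds_mem_of_isSubcomod hG E hE₁ hE₂ hE₃ _
      (Groth.Agent.Helper9.OrbitLib.isSubcomod_ker_orbitHom x₁) a₁ ha₁
    have hEa₂ := Groth.Agent.Helper9.reynolds_mem_of_isSubcomod hG E hE₁ hE₂ hE₃ _
      (Groth.Agent.Helper9.OrbitLib.isSubcomod_ker_orbitHom x₂) a₂ ha₂
    have hfix : ∀ a, E a ∈ GLin.invariants k A R := fun a =>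
      (hE₃ (E a)).mp (LinearMap.congr_fun hE₂ a)
    have hE1 : E 1 = 1 := by
      rw [hE₃]
      show HopfRep.Comod.coact (k := k) (A := A) (1 : R) = (1 : R) ⊗ₜ[k] (1 : A)
      rw [GLin.IsCoactAlg.coact_one (k := k) (A := A) (R := R), Algebra.TensorProduct.one_def]
    have hval : ∀ (x : R →ₐ[k] k) (a : R), E a ∈ (RingHom.ker (GLin.orbitHom k A x)).restrictScalars k →
        x (E a) = 0 := by
      intro x a ha
      have h2 : GLin.orbitHom k A x (E a) = 0 := ha
      rw [Groth.Agent.Helper9.OrbitLib.orbitHom_of_mem_invariants x _ (hfix a),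
        Algebra.algebraMap_eq_smul_one] at h2
      by_contra hne0
      exact hA1 ((smul_eq_zero.mp h2).resolve_left hne0)
    have h3 : x₁ (E a₁) = 0 := hval x₁ a₁ hEa₁
    have h4 : x₂ (E a₂) = 0 := hval x₂ a₂ hEa₂
    have h5 : x₁ (E a₂) = x₂ (E a₂) := by
      have := AlgHom.congr_fun hx ⟨E a₂, hfix a₂⟩
      exact this
    have h6 : E a₁ + E a₂ = 1 := by rw [← map_add, hsum1, hE1]
    have h7 := congrArg x₁ h6
    rw [map_add, h3, h5, h4, map_one, add_zero] at h7
    exact zero_ne_one h7
  · rintro ⟨z, hz₁, hz₂⟩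
    apply AlgHom.ext
    intro f
    have key : ∀ (x : R →ₐ[k] k), GLin.InOrbitClosure k A x z → z (f : R) = x (f : R) := by
      intro x hz
      have h1 : (f : R) - algebraMap k R (x (f : R)) ∈ RingHom.ker (GLin.orbitHom k A x) := by
        rw [RingHom.mem_ker, map_sub,
          Groth.Agent.Helper9.OrbitLib.orbitHom_of_mem_invariants x _ f.2, AlgHom.commutes, sub_self]
      have h2 := hz h1
      rw [RingHom.mem_ker, map_sub, AlgHom.commutes, sub_eq_zero] at h2
      exact h2
    show x₁ (f : R) = x₂ (f : R)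
    rw [← key x₁ hz₁, ← key x₂ hz₂]

end Groth.Agent.S19602
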