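import Groth.Statements.S1183
import Groth.Agent.Lib.Helper8.J2b
import Groth.Agent.Lib.Helper8.FlatReg9

set_option autoImplicit false
universe u
open Desc

namespace Groth.Agent.S1183

/-- Let A → B be a smooth ring map of Noetherian rings and k a natural number. If A satisfies (R_k) then
so does B; and if moreover A → B is faithfully flat and B satisfies (R_k), then A does. -/
theorem result (A B : Type u) [CommRing A] [CommRing B] [IsNoetherianRing A] [IsNoetherianRing B]
    [Algebra A B] [Algebra.Smooth A B] (k : ℕ) :
    (LocCoh.HasRk k A → LocCoh.HasRk k B) ∧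
    (Module.FaithfullyFlat A B → LocCoh.HasRk k B → LocCoh.HasRk k A) := by
  constructor
  · intro hA Q _ hQ
    haveI : Module.Flat A B := inferInstance
    haveI : Q.LiesOver (Q.comap (algebraMap A B)) := ⟨rfl⟩
    have hPht : (Q.comap (algebraMap A B)).height ≤ k := by
      haveI : Algebra.HasGoingDown A B := Algebra.HasGoingDown.of_flat
      have := Ideal.height_eq_height_add_of_liesOver_of_hasGoingDown (Q.comap (algebraMap A B)) Q
      exact le_trans (this ▸ le_self_add) hQ
    have hP := hA (Q.comap (algebraMap A B)) hPht
    have hsub := Groth.Agent.Helper8.J2.preimage_regLocus_subset_of_formallySmooth A B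
    have hmem : (⟨Q, inferInstance⟩ : PrimeSpectrum B) ∈
        PrimeSpectrum.comap (algebraMap A B) ⁻¹' EGA4.regLocus A := hP
    exact hsub hmem
  · intro hff hB
    exact (Groth.Agent.Helper8.FlatReg.hasRk_of_faithfullyFlat k A B hB).2

end Groth.Agent.S1183
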