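import Groth.Statements.S1186
import Mathlib
import Groth.Prelude.Def_FEt
import Groth.Agent.Lib.Helper9.PO.MilGeo2
import Groth.Agent.Lib.Helper9.PO.IntChart
-- import your own Groth.Agent.* helpers here

set_option autoImplicit false
universe u
open Pi1

namespace Groth.Agent.S1186

open AlgebraicGeometry CategoryTheory CategoryTheory.Limits
namespace Aux

open H9PO

theorem main {Z X Y W : Scheme.{u}} (i : Z ⟶ X) [IsClosedImmersion i] (j : Z ⟶ Y) [IsIntegralHom j]
    (h3 : ∀ y : Y, ∃ U : X.Opens, IsAffineOpen U ∧ ∀ z : Z, j.base z = y → i.base z ∈ U)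
    (a : X ⟶ W) (b : Y ⟶ W) (hpo : IsPushout i j a b)
    (U : FEt.Cat X) (V : FEt.Cat Y) (e : (FEt.restrict i).obj U ≅ (FEt.restrict j).obj V) :
    ∃ T : FEt.Cat W, Nonempty ((FEt.restrict a).obj T ≅ U) ∧ Nonempty ((FEt.restrict b).obj T ≅ V) := by
  -- the data
  haveI hfU : IsFinite U.hom := U.prop.1
  haveI heU : Etale U.hom := U.prop.2
  haveI hfV : IsFinite V.hom := V.prop.1
  haveI heV : Etale V.hom := V.prop.2
  let i' : pullback U.hom i ⟶ U.left := pullback.fst U.hom i
  let c : pullback U.hom i ⟶ Z := pullback.snd U.hom i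
  let ε : pullback U.hom i ⟶ pullback V.hom j := e.hom.left
  have hε : ε ≫ pullback.snd V.hom j = c := MorphismProperty.Over.w e.hom
  haveI : IsIso ε := ⟨⟨e.inv.left, by
    change (e.hom ≫ e.inv).left = 𝟙 _
    rw [e.hom_inv_id]; rfl, by
    change (e.inv ≫ e.hom).left = 𝟙 _
    rw [e.inv_hom_id]; rfl⟩⟩
  let j' : pullback U.hom i ⟶ V.left := ε ≫ pullback.fst V.hom j
  have hX : IsPullback i' c U.hom i := IsPullback.of_hasPullback U.hom i
  have hY : IsPullback j' c V.hom j := by
    refine IsPullback.of_iso (IsPullback.of_hasPullback V.hom j) (asIso ε).symm (Iso.refl _)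
      (Iso.refl _) (Iso.refl _) ?_ ?_ ?_ ?_
    · simp [j']
    · simp [← hε]
    · simp
    · simp
  haveI : IsClosedImmersion i' := MorphismProperty.of_isPullback hX.flip inferInstance
  haveI : IsIntegralHom j' := MorphismProperty.of_isPullback hY.flip inferInstance
  -- covers
  have haff : ∀ y : Y, ∃ U₀ : X.Opens, IsAffineOpen U₀ ∧ j ⁻¹' {y} ⊆ i ⁻¹' (U₀ : Set ↑X) := by
    intro y
    obtain ⟨U₀, hU₀, h⟩ := h3 y
    exact ⟨U₀, hU₀, fun z hz => h z hz⟩
  have H : Covers i j := IntChart.covers i j haff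
  have haff' : ∀ y' : V.left, ∃ U₀ : U.left.Opens, IsAffineOpen U₀ ∧
      j' ⁻¹' {y'} ⊆ i' ⁻¹' (U₀ : Set ↑U.left) := by
    intro y'
    obtain ⟨U₀, hU₀, h⟩ := h3 (V.hom y')
    refine ⟨U.hom ⁻¹ᵁ U₀, hU₀.preimage U.hom, ?_⟩
    intro z' hz'
    have h1 : j' z' = y' := hz'
    have h2 : j (c z') = V.hom y' := by
      rw [← h1, ← Scheme.Hom.comp_apply, ← Scheme.Hom.comp_apply, hY.w]
    have h4 : i (c z') ∈ U₀ := h (c z') h2
    have h5 : U.hom (i' z') = i (c z') := by
      rw [← Scheme.Hom.comp_apply, ← Scheme.Hom.comp_apply, hX.w]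
    change U.hom (i' z') ∈ U₀
    rw [h5]; exact h4
  have H' : Covers i' j' := IntChart.covers i' j' haff'
  obtain ⟨-, hb1, ha1, -, -, -, -⟩ := H.structure_of_isPushout hpo
  haveI := hb1
  haveI := ha1
  haveI : IsAffineHom b := inferInstance
  -- the pushout upstairs
  have hP' : IsPushout i' j' H'.a H'.b := H'.isPushout
  have hw : i' ≫ U.hom ≫ a = j' ≫ V.hom ≫ b := by
    rw [← Category.assoc, hX.w, ← Category.assoc j', hY.w, Category.assoc, Category.assoc, hpo.w]
  let h : PO i' j' ⟶ W := hP'.desc (U.hom ≫ a) (V.hom ≫ b) hw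
  have ha : H'.a ≫ h = U.hom ≫ a := hP'.inl_desc _ _ _
  have hb : H'.b ≫ h = V.hom ≫ b := hP'.inr_desc _ _ _
  haveI : IsAffineHom H'.a := inferInstance
  haveI : IsAffineHom H'.b := inferInstance
  have hfin : IsFinite h := MilGeo.isFinite_h i j a b hpo U.hom V.hom i' j' c hX hY H'.a H'.b hP' h ha hb H'
  have het : Etale h :=
    (MilGeo.main i j a b hpo U.hom V.hom i' j' c hX hY H'.a H'.b hP' h ha hb).2.2.2.2.mpr ⟨heU, heV⟩
  have hpa : IsPullback H'.a U.hom h a :=
    MilGeo.isPullback_a i j a b hpo U.hom V.hom i' j' c hX hY H'.a H'.b hP' h ha hb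
  have hpb : IsPullback H'.b V.hom h b :=
    MilGeo.isPullback_b i j a b hpo U.hom V.hom i' j' c hX hY H'.a H'.b hP' h ha hb
  let T : FEt.Cat W := MorphismProperty.Over.mk ⊤ h ⟨hfin, het⟩
  refine ⟨T, ⟨?_⟩, ⟨?_⟩⟩
  · exact MorphismProperty.Over.isoMk hpa.isoPullback.symm (by
      change hpa.isoPullback.inv ≫ U.hom = pullback.snd h a
      rw [Iso.inv_comp_eq]
      exact (hpa.isoPullback_hom_snd).symm)
  · exact MorphismProperty.Over.isoMk hpb.isoPullback.symm (by
      change hpb.isoPullback.inv ≫ V.hom = pullback.snd h b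
      rw [Iso.inv_comp_eq]
      exact (hpb.isoPullback_hom_snd).symm)

end Aux

open AlgebraicGeometry CategoryTheory CategoryTheory.Limits in
/-- Let i : Z ⟶ X be a closed immersion and j : Z ⟶ Y an integral morphism such that every fibre of j
lies in the preimage under i of some affine open of X, and let a : X ⟶ W, b : Y ⟶ W exhibit W as the
pushout of i and j in the category of schemes. If U is finite étale over X and V is finite étale
over Y with U ×_X Z ≅ V ×_Y Z over Z, then there is a finite étale cover T of W whose restrictions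
to X and to Y are isomorphic to U and to V respectively. (This is the essential-surjectivity part of
an equivalence between finite étale covers of W and the 2-fibre product of the categories of finite
étale covers of X and of Y over that of Z; only the gluing of objects is asserted, and the
compatibility of the two identifications over Z is not asserted.) -/
theorem result {Z X Y W : Scheme.{u}} (i : Z ⟶ X) [IsClosedImmersion i] (j : Z ⟶ Y) [IsIntegralHom j]
    (h3 : ∀ y : Y, ∃ U : X.Opens, IsAffineOpen U ∧ ∀ z : Z, j.base z = y → i.base z ∈ U)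
    (a : X ⟶ W) (b : Y ⟶ W) (hpo : IsPushout i j a b)
    (U : FEt.Cat X) (V : FEt.Cat Y) (e : (FEt.restrict i).obj U ≅ (FEt.restrict j).obj V) :
    ∃ T : FEt.Cat W, Nonempty ((FEt.restrict a).obj T ≅ U) ∧ Nonempty ((FEt.restrict b).obj T ≅ V) := by
  exact Aux.main i j h3 a b hpo U V e

end Groth.Agent.S1186
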