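import Groth.Statements.S12056
import Mathlib

set_option autoImplicit false
open Red

namespace Groth.Agent.S12056

section
open PowerSeries

variable {R : Type} [CommRing R]

/-- vanishing of low coefficients of multiples of a high power -/
theorem coeff_pow_mul_eq_zero {τ : Type*} (a b : MvPowerSeries τ R)
    (ha : MvPowerSeries.constantCoeff a = 0) (e : τ →₀ ℕ) (n : ℕ) (hn : Finsupp.degree e < n) :
    MvPowerSeries.coeff e (a ^ n * b) = 0 := by
  apply MvPowerSeries.coeff_of_lt_order
  have h1 : (n : ℕ∞) ≤ (a ^ n).order := MvPowerSeries.le_order_pow_of_constantCoeff_eq_zero n ha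
  have h2 : (a ^ n).order + b.order ≤ (a ^ n * b).order := MvPowerSeries.le_order_mul
  have h3 : ((Finsupp.degree e : ℕ) : ℕ∞) < n := by exact_mod_cast hn
  calc ((Finsupp.degree e : ℕ) : ℕ∞) < n := h3
    _ ≤ (a ^ n).order := h1
    _ ≤ (a ^ n).order + b.order := le_self_add
    _ ≤ _ := h2

theorem pderiv_subst_poly {τ : Type*} (p : Polynomial R) (a : MvPowerSeries τ R)
    (ha : PowerSeries.HasSubst a) (i : τ) :
    MvPowerSeries.pderiv R i ((p : PowerSeries R).subst a) =
      (PowerSeries.derivative R (p : PowerSeries R)).subst a * MvPowerSeries.pderiv R i a := by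
  simp [subst_coe ha, derivative_coe, Derivation.comp_aeval_eq (a := a) (MvPowerSeries.pderiv R i) p,
    smul_eq_mul]

theorem pderiv_subst {τ : Type*} (f : PowerSeries R) (a : MvPowerSeries τ R)
    (ha0 : MvPowerSeries.constantCoeff a = 0) (i : τ) :
    MvPowerSeries.pderiv R i (f.subst a) =
      (PowerSeries.derivative R f).subst a * MvPowerSeries.pderiv R i a := by
  have ha : PowerSeries.HasSubst a := PowerSeries.HasSubst.of_constantCoeff_zero ha0
  ext e
  obtain ⟨m, hm⟩ : ∃ m, m = Finsupp.degree e + 1 := ⟨_, rfl⟩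
  obtain ⟨g, hg⟩ : ∃ g : PowerSeries R, g = PowerSeries.mk fun j ↦ PowerSeries.coeff (j + (m+1)) f := ⟨_, rfl⟩
  obtain ⟨p, hp⟩ : ∃ p : Polynomial R, p = f.trunc (m+1) := ⟨_, rfl⟩
  have hf : f = g * PowerSeries.X ^ (m+1) + (p : PowerSeries R) := by
    rw [hg, hp]; exact PowerSeries.eq_shift_mul_X_pow_add_trunc (m+1) f
  have h1 : f.subst a = g.subst a * a ^ (m+1) + (p : PowerSeries R).subst a := by
    conv_lhs => rw [hf]
    rw [subst_add ha, subst_mul ha, subst_pow ha, subst_X ha]
  have h2 : PowerSeries.derivative R f = PowerSeries.derivative R g * PowerSeries.X ^ (m+1)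
      + g * (((m+1 : ℕ) : PowerSeries R) * PowerSeries.X ^ m) + PowerSeries.derivative R (p : PowerSeries R) := by
    conv_lhs => rw [hf]
    rw [map_add, Derivation.leibniz, PowerSeries.derivative_pow]
    simp only [smul_eq_mul, PowerSeries.derivative_X, Nat.add_sub_cancel]
    ring
  have h3 : (PowerSeries.derivative R f).subst a = (PowerSeries.derivative R g).subst a * a ^ (m+1)
      + g.subst a * (((m+1 : ℕ) : MvPowerSeries τ R) * a ^ m) + (PowerSeries.derivative R (p : PowerSeries R)).subst a := by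
    rw [h2, subst_add ha, subst_add ha, subst_mul ha, subst_mul ha, subst_pow ha, subst_X ha,
      subst_mul ha, subst_pow ha, subst_X ha]
    congr 3
    have : ((m + 1 : ℕ) : PowerSeries R) = PowerSeries.C ((m+1 : ℕ) : R) := by simp
    rw [this, subst_C]
    simp
  rw [h1, h3, map_add, Derivation.leibniz, MvPowerSeries.pderiv_pow, pderiv_subst_poly p a ha i]
  simp only [smul_eq_mul, Nat.add_sub_cancel, map_add, add_mul]
  have hdeg : Finsupp.degree e < m := by omega
  have e1 : MvPowerSeries.coeff e (g.subst a * (((m+1 : ℕ) : MvPowerSeries τ R) * a ^ m * MvPowerSeries.pderiv R i a)) = 0 := by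
    have : g.subst a * (((m+1 : ℕ) : MvPowerSeries τ R) * a ^ m * MvPowerSeries.pderiv R i a) =
        a ^ m * (g.subst a * (((m+1 : ℕ) : MvPowerSeries τ R) * MvPowerSeries.pderiv R i a)) := by ring
    rw [this]; exact coeff_pow_mul_eq_zero a _ ha0 e m hdeg
  have e2 : MvPowerSeries.coeff e (a ^ (m+1) * MvPowerSeries.pderiv R i (g.subst a)) = 0 :=
    coeff_pow_mul_eq_zero a _ ha0 e (m+1) (by omega)
  have e3 : MvPowerSeries.coeff e ((PowerSeries.derivative R g).subst a * a ^ (m+1) *
      MvPowerSeries.pderiv R i a) = 0 := by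
    have : (PowerSeries.derivative R g).subst a * a ^ (m+1) * MvPowerSeries.pderiv R i a =
        a ^ (m+1) * ((PowerSeries.derivative R g).subst a * MvPowerSeries.pderiv R i a) := by ring
    rw [this]; exact coeff_pow_mul_eq_zero a _ ha0 e (m+1) (by omega)
  have e4 : MvPowerSeries.coeff e (g.subst a * (((m+1 : ℕ) : MvPowerSeries τ R) * a ^ m) * MvPowerSeries.pderiv R i a) = 0 := by
    have : g.subst a * (((m+1 : ℕ) : MvPowerSeries τ R) * a ^ m) * MvPowerSeries.pderiv R i a =
        a ^ m * (g.subst a * (((m+1 : ℕ) : MvPowerSeries τ R) * MvPowerSeries.pderiv R i a)) := by ring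
    rw [this]; exact coeff_pow_mul_eq_zero a _ ha0 e m hdeg
  rw [e1, e2, e3, e4]

theorem spec_subst (b : Fin 2 → PowerSeries R) (hb : MvPowerSeries.HasSubst b)
    (a : MvPowerSeries (Fin 2) R) (ha : PowerSeries.HasSubst a) (f : PowerSeries R) :
    MvPowerSeries.subst b (f.subst a) = f.subst (MvPowerSeries.subst b a) := by
  rw [PowerSeries.subst_def, MvPowerSeries.subst_comp_subst_apply ha.const hb f]
  rfl

theorem main (F : PowerSeries R)
    (h0 : PowerSeries.constantCoeff F = 1) (ha : IsUnit (PowerSeries.coeff 1 F))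
    (hFE : PowerSeries.subst
        (MvPowerSeries.X (0 : Fin 2) + MvPowerSeries.X 1 * PowerSeries.subst (MvPowerSeries.X (0 : Fin 2)) F :
          MvPowerSeries (Fin 2) R) F =
      PowerSeries.subst (MvPowerSeries.X (0 : Fin 2)) F * PowerSeries.subst (MvPowerSeries.X (1 : Fin 2)) F) :
    F = 1 + PowerSeries.C (PowerSeries.coeff 1 F) * PowerSeries.X := by
  obtain ⟨X0, hX0⟩ : ∃ X0 : MvPowerSeries (Fin 2) R, X0 = MvPowerSeries.X 0 := ⟨_, rfl⟩
  obtain ⟨X1, hX1⟩ : ∃ X1 : MvPowerSeries (Fin 2) R, X1 = MvPowerSeries.X 1 := ⟨_, rfl⟩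
  obtain ⟨F', hF'⟩ : ∃ F' : PowerSeries R, F' = PowerSeries.derivative R F := ⟨_, rfl⟩
  rw [← hX0, ← hX1] at hFE
  have c0 : MvPowerSeries.constantCoeff X0 = 0 := by rw [hX0]; simp
  have c1 : MvPowerSeries.constantCoeff X1 = 0 := by rw [hX1]; simp
  have s0 : PowerSeries.HasSubst X0 := PowerSeries.HasSubst.of_constantCoeff_zero c0
  have s1 : PowerSeries.HasSubst X1 := PowerSeries.HasSubst.of_constantCoeff_zero c1
  obtain ⟨H, hH⟩ : ∃ H, H = F.subst X0 := ⟨_, rfl⟩
  obtain ⟨K, hK⟩ : ∃ K, K = F.subst X1 := ⟨_, rfl⟩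
  obtain ⟨G, hG⟩ : ∃ G, G = X0 + X1 * H := ⟨_, rfl⟩
  rw [← hH, ← hK, ← hG] at hFE
  have cG : MvPowerSeries.constantCoeff G = 0 := by rw [hG]; simp [c0, c1]
  have sG : PowerSeries.HasSubst G := PowerSeries.HasSubst.of_constantCoeff_zero cG
  -- partial derivatives of basic pieces
  have d00 : MvPowerSeries.pderiv R (0 : Fin 2) X0 = 1 := by rw [hX0]; exact MvPowerSeries.pderiv_X_self
  have d11 : MvPowerSeries.pderiv R (1 : Fin 2) X1 = 1 := by rw [hX1]; exact MvPowerSeries.pderiv_X_self
  have d01 : MvPowerSeries.pderiv R (0 : Fin 2) X1 = 0 := by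
    rw [hX1]; exact MvPowerSeries.pderiv_X_of_ne (by decide)
  have d10 : MvPowerSeries.pderiv R (1 : Fin 2) X0 = 0 := by
    rw [hX0]; exact MvPowerSeries.pderiv_X_of_ne (by decide)
  have dH0 : MvPowerSeries.pderiv R (0 : Fin 2) H = F'.subst X0 := by
    rw [hH, pderiv_subst F X0 c0, d00, mul_one, hF']
  have dH1 : MvPowerSeries.pderiv R (1 : Fin 2) H = 0 := by
    rw [hH, pderiv_subst F X0 c0, d10, mul_zero]
  have dK0 : MvPowerSeries.pderiv R (0 : Fin 2) K = 0 := by
    rw [hK, pderiv_subst F X1 c1, d01, mul_zero]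
  have dK1 : MvPowerSeries.pderiv R (1 : Fin 2) K = F'.subst X1 := by
    rw [hK, pderiv_subst F X1 c1, d11, mul_one, hF']
  have dG0 : MvPowerSeries.pderiv R (0 : Fin 2) G = 1 + X1 * F'.subst X0 := by
    rw [hG, map_add, Derivation.leibniz, d00, d01, dH0]; simp
  have dG1 : MvPowerSeries.pderiv R (1 : Fin 2) G = H := by
    rw [hG, map_add, Derivation.leibniz, d10, d11, dH1]; simp
  -- differentiate the functional equation
  have A : F'.subst G * H = H * F'.subst X1 := by
    have := congrArg (MvPowerSeries.pderiv R (1 : Fin 2)) hFE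
    rw [pderiv_subst F G cG, dG1, Derivation.leibniz, dK1, dH1, ← hF'] at this
    simpa using this
  have B : F'.subst G * (1 + X1 * F'.subst X0) = K * F'.subst X0 := by
    have := congrArg (MvPowerSeries.pderiv R (0 : Fin 2)) hFE
    rw [pderiv_subst F G cG, dG0, Derivation.leibniz, dK0, dH0, ← hF'] at this
    simpa using this
  -- constant coefficient of F'
  have cF' : PowerSeries.constantCoeff F' = PowerSeries.coeff 1 F := by
    rw [hF', ← PowerSeries.coeff_zero_eq_constantCoeff_apply, PowerSeries.coeff_derivative]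
    simp
  have sub0 : ∀ f : PowerSeries R, f.subst (0 : PowerSeries R) = PowerSeries.C (PowerSeries.constantCoeff f) := by
    intro f
    have := PowerSeries.subst_zero_eq_C_constantCoeff (R := R) (S := R) (τ := Unit) (f := f)
    rw [this]
    ext n
    simp
    rfl
  have subX : ∀ f : PowerSeries R, f.subst (PowerSeries.X : PowerSeries R) = f := fun f => PowerSeries.X_subst f
  -- specialization y = 0
  have hb1 : MvPowerSeries.HasSubst (![PowerSeries.X, 0] : Fin 2 → PowerSeries R) :=
    MvPowerSeries.HasSubst.X_zero (i := ())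
  have hb0 : MvPowerSeries.HasSubst (![0, PowerSeries.X] : Fin 2 → PowerSeries R) :=
    MvPowerSeries.HasSubst.zero_X (i := ())
  have E1 : F' * F = F * PowerSeries.C (PowerSeries.coeff 1 F) := by
    have := congrArg (MvPowerSeries.substAlgHom (R := R) hb1) A
    rw [map_mul, map_mul] at this
    simp only [MvPowerSeries.coe_substAlgHom] at this
    have x0 : MvPowerSeries.subst (![PowerSeries.X, 0] : Fin 2 → PowerSeries R) X0 = PowerSeries.X := by
      rw [hX0, MvPowerSeries.subst_X hb1]; rfl
    have x1 : MvPowerSeries.subst (![PowerSeries.X, 0] : Fin 2 → PowerSeries R) X1 = 0 := by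
      rw [hX1, MvPowerSeries.subst_X hb1]; rfl
    have hh : MvPowerSeries.subst (![PowerSeries.X, 0] : Fin 2 → PowerSeries R) H = F := by
      rw [hH, spec_subst _ hb1 _ s0, x0, subX]
    have hg : MvPowerSeries.subst (![PowerSeries.X, 0] : Fin 2 → PowerSeries R) G = PowerSeries.X := by
      rw [hG, ← MvPowerSeries.coe_substAlgHom hb1, map_add, map_mul]
      simp only [MvPowerSeries.coe_substAlgHom]
      rw [x0, x1, zero_mul, add_zero]
    rw [spec_subst _ hb1 _ sG, spec_subst _ hb1 _ s1, hg, x1, hh, subX, sub0, cF'] at this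
    exact this
  have E0 : F' * (1 + PowerSeries.X * PowerSeries.C (PowerSeries.coeff 1 F)) =
      F * PowerSeries.C (PowerSeries.coeff 1 F) := by
    have := congrArg (MvPowerSeries.substAlgHom (R := R) hb0) B
    rw [map_mul, map_mul, map_add, map_mul, map_one] at this
    simp only [MvPowerSeries.coe_substAlgHom] at this
    have x0 : MvPowerSeries.subst (![0, PowerSeries.X] : Fin 2 → PowerSeries R) X0 = 0 := by
      rw [hX0, MvPowerSeries.subst_X hb0]; rfl
    have x1 : MvPowerSeries.subst (![0, PowerSeries.X] : Fin 2 → PowerSeries R) X1 = PowerSeries.X := by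
      rw [hX1, MvPowerSeries.subst_X hb0]; rfl
    have hh : MvPowerSeries.subst (![0, PowerSeries.X] : Fin 2 → PowerSeries R) H = 1 := by
      rw [hH, spec_subst _ hb0 _ s0, x0, sub0, h0, map_one]
    have hk : MvPowerSeries.subst (![0, PowerSeries.X] : Fin 2 → PowerSeries R) K = F := by
      rw [hK, spec_subst _ hb0 _ s1, x1, subX]
    have hg : MvPowerSeries.subst (![0, PowerSeries.X] : Fin 2 → PowerSeries R) G = PowerSeries.X := by
      rw [hG, ← MvPowerSeries.coe_substAlgHom hb0, map_add, map_mul]
      simp only [MvPowerSeries.coe_substAlgHom]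
      rw [x0, x1, hh, mul_one, zero_add]
    rw [spec_subst _ hb0 _ sG, spec_subst _ hb0 _ s0, hg, x1, x0, hk, subX, sub0, cF'] at this
    exact this
  -- conclude
  have uF : IsUnit F := by
    rw [PowerSeries.isUnit_iff_constantCoeff, h0]; exact isUnit_one
  have hF'a : F' = PowerSeries.C (PowerSeries.coeff 1 F) := by
    have : F * F' = F * PowerSeries.C (PowerSeries.coeff 1 F) := by rw [mul_comm]; exact E1
    exact uF.mul_left_cancel this
  have uC : IsUnit (PowerSeries.C (PowerSeries.coeff 1 F) : PowerSeries R) := ha.map _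
  rw [hF'a] at E0
  have : PowerSeries.C (PowerSeries.coeff 1 F) * (1 + PowerSeries.C (PowerSeries.coeff 1 F) * PowerSeries.X) =
      PowerSeries.C (PowerSeries.coeff 1 F) * F := by
    rw [mul_comm _ F, ← E0]; ring
  exact (uC.mul_left_cancel this).symm


end


/-- In formal-power-series form, let R be a commutative ring and F ∈ R⟦X⟧ with constant term 1 whose
linear coefficient a is a unit of R. Suppose that in R⟦X₀, X₁⟧ one has F(X₀ + X₁ · F(X₀)) = F(X₀) ·
F(X₁) (the functional equation F(x + y F(x)) = F(x) F(y)). Then F = 1 + a X. (The published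
statement concerns a morphism to the multiplicative group from an open neighbourhood of the zero
section in the additive group over a base scheme, the identity holding on an open neighbourhood of
the origin of the plane on which all terms are defined, with a the derivative at 0; this row states
it for formal power series over a ring.) -/
theorem result (R : Type) [CommRing R] (F : PowerSeries R)
    (h0 : PowerSeries.constantCoeff F = 1) (ha : IsUnit (PowerSeries.coeff 1 F))
    (hFE : PowerSeries.subst
        (MvPowerSeries.X (0 : Fin 2) + MvPowerSeries.X 1 * PowerSeries.subst (MvPowerSeries.X (0 : Fin 2)) F :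
          MvPowerSeries (Fin 2) R) F =
      PowerSeries.subst (MvPowerSeries.X (0 : Fin 2)) F * PowerSeries.subst (MvPowerSeries.X (1 : Fin 2)) F) :
    F = 1 + PowerSeries.C (PowerSeries.coeff 1 F) * PowerSeries.X := by
  classical
  exact main F h0 ha hFE

end Groth.Agent.S12056
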