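import Groth.Statements.S12058
import Mathlib

set_option autoImplicit false
universe w v u
open CategoryTheory CategoryTheory.Limits CategoryTheory.Abelian
open SGA3

namespace Groth.Agent.S12058

section
open CategoryTheory CategoryTheory.Limits CategoryTheory.Abelian

variable {C : Type u} [Category.{v} C] [Abelian C] [HasExt.{w} C]

theorem fwd {S : ShortComplex C} (hS : S.ShortExact) {Q P : C} (φ : S.X₁ ⟶ Q) (π : S.X₃ ⟶ P)
    (B : C) (f : Q ⟶ B) (g : B ⟶ P) (h : S.X₂ ⟶ B) (w : f ≫ g = 0)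
    (hB : (ShortComplex.mk f g w).ShortExact) (c1 : S.f ≫ h = φ ≫ f) (c2 : h ≫ g = S.g ≫ π) :
    (Ext.mk₀ (kernel.ι π)).comp (hS.extClass.comp (Ext.mk₀ φ) (add_zero 1)) (zero_add 1) = 0 := by
  let m : S ⟶ ShortComplex.mk f g w :=
    { τ₁ := φ, τ₂ := h, τ₃ := π, comm₁₂ := c1.symm, comm₂₃ := c2 }
  have hn := ShortComplex.ShortExact.extClass_naturality hS hB m
  change hS.extClass.comp (Ext.mk₀ φ) (add_zero 1) = (Ext.mk₀ π).comp hB.extClass (zero_add 1) at hn
  rw [hn, ← Ext.comp_assoc (Ext.mk₀ (kernel.ι π)) (Ext.mk₀ π) hB.extClass (zero_add 0) (zero_add 1)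
    (by norm_num), Ext.mk₀_comp_mk₀, kernel.condition, Ext.mk₀_zero, Ext.zero_comp]


section bwd
variable {S : ShortComplex C} (hS : S.ShortExact) {Q P : C} (φ : S.X₁ ⟶ Q) (π : S.X₃ ⟶ P)

/-- inclusion of `A_C = ker (A → A'' → P)` into `A` -/
noncomputable abbrev jj : kernel (S.g ≫ π) ⟶ S.X₂ := kernel.ι (S.g ≫ π)

noncomputable def i' : S.X₁ ⟶ kernel (S.g ≫ π) :=
  kernel.lift _ S.f (by rw [← Category.assoc, S.zero, zero_comp])

noncomputable def p' : kernel (S.g ≫ π) ⟶ kernel π :=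
  kernel.lift _ (kernel.ι (S.g ≫ π) ≫ S.g) (by rw [Category.assoc, kernel.condition])

@[reassoc (attr := simp)]
theorem i'_j : i' (S := S) π ≫ kernel.ι (S.g ≫ π) = S.f := kernel.lift_ι _ _ _

@[reassoc (attr := simp)]
theorem p'_ι : p' (S := S) π ≫ kernel.ι π = kernel.ι (S.g ≫ π) ≫ S.g := kernel.lift_ι _ _ _

theorem i'_p' : i' (S := S) π ≫ p' π = 0 := by
  rw [← cancel_mono (kernel.ι π), Category.assoc, p'_ι, i'_j_assoc, S.zero, zero_comp]

noncomputable abbrev S' : ShortComplex C := ShortComplex.mk (i' (S := S) π) (p' π) (i'_p' π)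

include hS in
theorem S'_shortExact [Epi π] : (S' (S := S) π).ShortExact := by
  have := hS.mono_f
  have := hS.epi_g
  have hm : Mono (i' (S := S) π) := mono_of_mono_fac (i'_j π)
  have he : Epi (p' (S := S) π) := by
    rw [epi_iff_surjective_up_to_refinements]
    intro T c
    obtain ⟨T', q, hq, a, ha⟩ := surjective_up_to_refinements_of_epi S.g (c ≫ kernel.ι π)
    refine ⟨T', q, hq, kernel.lift _ a ?_, ?_⟩
    · rw [← Category.assoc, ← ha, Category.assoc, Category.assoc, kernel.condition, comp_zero,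
        comp_zero]
    · rw [← cancel_mono (kernel.ι π), Category.assoc, Category.assoc, p'_ι, kernel.lift_ι_assoc, ha]
  refine ShortComplex.ShortExact.mk' ?_ hm he
  apply ShortComplex.exact_of_f_is_kernel
  refine KernelFork.IsLimit.ofι _ _ (fun {T} t ht => hS.exact.lift (t ≫ kernel.ι (S.g ≫ π)) ?_) ?_ ?_
  · have : t ≫ p' (S := S) π = 0 := ht
    rw [Category.assoc, ← p'_ι, ← Category.assoc, this, zero_comp]
  · intro T t ht
    rw [← cancel_mono (kernel.ι (S.g ≫ π))]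
    change (_ ≫ i' π) ≫ _ = _
    rw [Category.assoc, i'_j, ShortComplex.Exact.lift_f]
  · intro T t ht m hm
    rw [← cancel_mono S.f, ShortComplex.Exact.lift_f, ← hm]
    change _ = (m ≫ i' π) ≫ _
    rw [Category.assoc, i'_j]


include hS in
theorem exists_ψ [Epi π]
    (h0 : (Ext.mk₀ (kernel.ι π)).comp (hS.extClass.comp (Ext.mk₀ φ) (add_zero 1)) (zero_add 1) = 0) :
    ∃ ψ : kernel (S.g ≫ π) ⟶ Q, i' (S := S) π ≫ ψ = φ := by
  have hS' := S'_shortExact hS π
  let m : S' (S := S) π ⟶ S :=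
    { τ₁ := 𝟙 _, τ₂ := kernel.ι (S.g ≫ π), τ₃ := kernel.ι π,
      comm₁₂ := by simp, comm₂₃ := by simp }
  have hn := ShortComplex.ShortExact.extClass_naturality hS' hS m
  change hS'.extClass.comp (Ext.mk₀ (𝟙 _)) (add_zero 1) =
    (Ext.mk₀ (kernel.ι π)).comp hS.extClass (zero_add 1) at hn
  rw [Ext.comp_mk₀_id] at hn
  have h1 : hS'.extClass.comp (Ext.mk₀ φ) (add_zero 1) = 0 := by
    rw [hn, Ext.comp_assoc (Ext.mk₀ (kernel.ι π)) hS.extClass (Ext.mk₀ φ) (zero_add 1) (add_zero 1)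
      (by norm_num)]
    exact h0
  obtain ⟨x₂, hx₂⟩ := Ext.contravariant_sequence_exact₁ hS' Q (Ext.mk₀ φ) (add_zero 1) h1
  obtain ⟨ψ, rfl⟩ := (Ext.mk₀_bijective _ _).2 x₂
  refine ⟨ψ, ?_⟩
  change (Ext.mk₀ (i' π)).comp (Ext.mk₀ ψ) (zero_add 0) = Ext.mk₀ φ at hx₂
  rw [Ext.mk₀_comp_mk₀] at hx₂
  exact (Ext.mk₀_bijective _ _).1 hx₂

include hS in
theorem bwd [Epi π]
    (h0 : (Ext.mk₀ (kernel.ι π)).comp (hS.extClass.comp (Ext.mk₀ φ) (add_zero 1)) (zero_add 1) = 0) :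
    ∃ (B : C) (f : Q ⟶ B) (g : B ⟶ P) (h : S.X₂ ⟶ B) (w : f ≫ g = 0),
        (ShortComplex.mk f g w).ShortExact ∧ S.f ≫ h = φ ≫ f ∧ h ≫ g = S.g ≫ π := by
  obtain ⟨ψ, hψ⟩ := exists_ψ hS φ π h0
  have := hS.mono_f
  have := hS.epi_g
  let j := kernel.ι (S.g ≫ π)
  let g : pushout j ψ ⟶ P := pushout.desc (S.g ≫ π) 0 (by simp [j])
  have hinl : pushout.inl j ψ ≫ g = S.g ≫ π := pushout.inl_desc _ _ _
  have hinr : pushout.inr j ψ ≫ g = 0 := pushout.inr_desc _ _ _
  refine ⟨pushout j ψ, pushout.inr j ψ, g, pushout.inl j ψ, hinr, ?_, ?_, hinl⟩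
  · have hg : Epi g := epi_of_epi_fac hinl
    refine ShortComplex.ShortExact.mk' ?_ inferInstance hg
    apply ShortComplex.exact_of_g_is_cokernel
    have hepi : Epi (S.g ≫ π) := epi_comp _ _
    have hker : ∀ {Z : C} (t : pushout j ψ ⟶ Z), pushout.inr j ψ ≫ t = 0 →
        kernel.ι (S.g ≫ π) ≫ pushout.inl j ψ ≫ t = 0 := by
      intro Z t ht
      change j ≫ pushout.inl j ψ ≫ t = 0
      rw [← Category.assoc, pushout.condition, Category.assoc, ht, comp_zero]
    refine CokernelCofork.IsColimit.ofπ _ _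
      (fun {Z} t ht => Abelian.epiDesc (S.g ≫ π) (pushout.inl j ψ ≫ t) (hker t ht)) ?_ ?_
    · intro Z t ht
      have ht' : pushout.inr j ψ ≫ t = 0 := ht
      apply pushout.hom_ext
      · rw [← Category.assoc, hinl, Abelian.comp_epiDesc]
      · rw [← Category.assoc, hinr, zero_comp, ht']
    · intro Z t ht m hm
      rw [← cancel_epi (S.g ≫ π), Abelian.comp_epiDesc, ← hm, ← Category.assoc, hinl]
  · rw [← i'_j π, Category.assoc]
    change _ ≫ j ≫ _ = _
    rw [pushout.condition, ← Category.assoc, hψ]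

end bwd


theorem main {S : ShortComplex C} (hS : S.ShortExact) {Q P : C} (φ : S.X₁ ⟶ Q) (π : S.X₃ ⟶ P) [Epi π] :
    (∃ (B : C) (f : Q ⟶ B) (g : B ⟶ P) (h : S.X₂ ⟶ B) (w : f ≫ g = 0),
        (ShortComplex.mk f g w).ShortExact ∧ S.f ≫ h = φ ≫ f ∧ h ≫ g = S.g ≫ π) ↔
      (Ext.mk₀ (kernel.ι π)).comp (hS.extClass.comp (Ext.mk₀ φ) (add_zero 1)) (zero_add 1) = 0 := by
  constructor
  · rintro ⟨B, f, g, h, w, hB, c1, c2⟩
    exact fwd hS φ π B f g h w hB c1 c2
  · intro h0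
    exact bwd hS φ π h0


end


/-- In an abelian category, let 0 → A' → A → A'' → 0 be a short exact sequence, φ : A' ⟶ Q a morphism
and π : A'' ⟶ P an epimorphism with kernel C. Consider the quadruples (B, f, g, h) with 0 → Q → B →
P → 0 short exact (maps f, g) and h : A ⟶ B such that the squares commute: (A' → A → B) = (A' → Q →
B) and (A → B → P) = (A → A'' → P). Such a quadruple exists if and only if the image in Ext¹(C, Q)
of the class of the given extension in Ext¹(A'', A') (push forward along φ, pull back along the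
inclusion C → A'') is zero. -/
theorem result {C : Type u} [Category.{v} C] [Abelian C]
    [HasExt.{w} C] {S : ShortComplex C} (hS : S.ShortExact) {Q P : C} (φ : S.X₁ ⟶ Q) (π : S.X₃ ⟶ P) [Epi π] :
    (∃ (B : C) (f : Q ⟶ B) (g : B ⟶ P) (h : S.X₂ ⟶ B) (w : f ≫ g = 0),
        (ShortComplex.mk f g w).ShortExact ∧ S.f ≫ h = φ ≫ f ∧ h ≫ g = S.g ≫ π) ↔
      (Ext.mk₀ (kernel.ι π)).comp (hS.extClass.comp (Ext.mk₀ φ) (add_zero 1)) (zero_add 1) = 0 := by
  classical
  exact main hS φ π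

end Groth.Agent.S12058
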