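import Groth.Statements.S12059
-- import your own Groth.Agent.* helpers here
import Groth.Agent.Lib.Helper7.QuotBasis
import Groth.Agent.Lib.Helper7.AffDesc

set_option autoImplicit false
universe u
open CategoryTheory CategoryTheory.Limits AlgebraicGeometry
open SGA1

namespace Groth.Agent.S12059

/-- Let a finite group G act on a commutative ring A by ring automorphisms σ_g, and let B → A be
injective, G-equivariant for the trivial action on B, with image containing all G-invariants (so B
is the ring of invariants A^G). Let ρ be an action of G on Spec A by scheme automorphisms whose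
automorphisms are exactly the maps Spec(σ_g). Then Spec A ⟶ Spec B is a quotient of Spec A by G, and
the structure sheaf of Spec B is the sheaf of G-invariants of the direct image of the structure
sheaf of Spec A: the map is affine and G-invariant, and for every open U of Spec B the sections of
the structure sheaf of Spec B over U map injectively onto the G-invariant sections of the structure
sheaf of Spec A over the inverse image of U. -/
theorem result (G : Type u) [Group G] [Finite G] (A B : Type u) [CommRing A] [CommRing B]
    [Algebra B A] [MulSemiringAction G A] [SMulCommClass G B A] [Algebra.IsInvariant B A G] [FaithfulSMul B A]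
    (ρ : G →* Aut (Spec (CommRingCat.of A)))
    (hρ : Set.range (fun g : G => (ρ g).hom) =
      Set.range (fun g : G => Spec.map (CommRingCat.ofHom (MulSemiringAction.toRingHom G A g)))) :
    SGA1.IsQuot ρ (Spec.map (CommRingCat.ofHom (algebraMap B A))) := by
  have hσφ : ∀ g' : G, CommRingCat.ofHom (algebraMap B A) ≫
      CommRingCat.ofHom (MulSemiringAction.toRingHom G A g') =
      CommRingCat.ofHom (algebraMap B A) := by
    intro g'
    ext b
    change g' • (algebraMap B A b) = algebraMap B A b
    rw [Algebra.algebraMap_eq_smul_one, smul_comm, smul_one]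
  have hinv : ∀ g : G, (ρ g).hom ≫ Spec.map (CommRingCat.ofHom (algebraMap B A)) =
      Spec.map (CommRingCat.ofHom (algebraMap B A)) := by
    intro g
    obtain ⟨g', hg'⟩ : (ρ g).hom ∈ Set.range (fun g : G =>
        Spec.map (CommRingCat.ofHom (MulSemiringAction.toRingHom G A g))) := hρ ▸ ⟨g, rfl⟩
    rw [← hg']
    change Spec.map _ ≫ Spec.map _ = _
    rw [← Spec.map_comp, hσφ]
  have hnat : (Spec.map (CommRingCat.ofHom (algebraMap B A))).app ⊤ ≫
      (Scheme.ΓSpecIso (.of A)).hom = (Scheme.ΓSpecIso (.of B)).hom ≫
      CommRingCat.ofHom (algebraMap B A) :=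
    Scheme.ΓSpecIso_naturality (CommRingCat.ofHom (algebraMap B A))
  refine Groth.Agent.Helper7.QuotBasis.isQuot_of_isAffine ρ _ hinv ?_ ?_
  · intro a b hab
    have h2 : ((Scheme.ΓSpecIso (.of B)).hom ≫ CommRingCat.ofHom (algebraMap B A)).hom a =
        ((Scheme.ΓSpecIso (.of B)).hom ≫ CommRingCat.ofHom (algebraMap B A)).hom b := by
      rw [← hnat]
      exact congrArg (Scheme.ΓSpecIso (.of A)).hom.hom hab
    have h3 : algebraMap B A ((Scheme.ΓSpecIso (.of B)).hom.hom a) =
        algebraMap B A ((Scheme.ΓSpecIso (.of B)).hom.hom b) := h2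
    have h4 := FaithfulSMul.algebraMap_injective B A h3
    exact (ConcreteCategory.bijective_of_isIso (Scheme.ΓSpecIso (.of B)).hom).1 h4
  · intro s hs
    have ha : ∀ g' : G, g' • ((Scheme.ΓSpecIso (.of A)).hom.hom s) =
        (Scheme.ΓSpecIso (.of A)).hom.hom s := by
      intro g'
      obtain ⟨g, hg⟩ : Spec.map (CommRingCat.ofHom (MulSemiringAction.toRingHom G A g')) ∈
          Set.range (fun g : G => (ρ g).hom) := hρ.symm ▸ ⟨g', rfl⟩
      have hg' : (ρ g).hom = Spec.map (CommRingCat.ofHom (MulSemiringAction.toRingHom G A g')) :=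
        hg
      have h2 := hs g
      have key : ∀ (q : Spec (CommRingCat.of A) ⟶ Spec (CommRingCat.of A))
          (hq : q = Spec.map (CommRingCat.ofHom (MulSemiringAction.toRingHom G A g')))
          (e : (⊤ : (Spec (CommRingCat.of A)).Opens) ≤ q ⁻¹ᵁ ⊤)
          (t : Γ(Spec (CommRingCat.of A), ⊤)),
          (Scheme.ΓSpecIso (.of A)).hom.hom ((q.appLE ⊤ ⊤ e).hom t) =
          g' • (Scheme.ΓSpecIso (.of A)).hom.hom t := by
        intro q hq e t
        subst hq
        have h5 := Scheme.ΓSpecIso_naturality
          (CommRingCat.ofHom (MulSemiringAction.toRingHom G A g'))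
        have h6 := congr($(h5).hom t)
        rw [Groth.Agent.Helper7.AffDesc.appLE_top_top]
        exact h6
      have h7 := key (ρ g).hom hg' (SGA1.preimage_le_of_inv ρ _ hinv g ⊤) s
      rw [← h7]
      exact congrArg (Scheme.ΓSpecIso (.of A)).hom.hom h2
    obtain ⟨b, hb⟩ := Algebra.IsInvariant.isInvariant (A := B) (B := A) (G := G) _ ha
    refine ⟨(Scheme.ΓSpecIso (.of B)).inv.hom b, ?_⟩
    apply (ConcreteCategory.bijective_of_isIso (Scheme.ΓSpecIso (.of A)).hom).1
    have h8 := congr($(hnat).hom ((Scheme.ΓSpecIso (.of B)).inv.hom b))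
    rw [← hb]
    refine h8.trans ?_
    change algebraMap B A ((Scheme.ΓSpecIso (.of B)).hom.hom ((Scheme.ΓSpecIso (.of B)).inv.hom b)) = _
    congr 1
    exact congr($((Scheme.ΓSpecIso (.of B)).inv_hom_id).hom b)

end Groth.Agent.S12059
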