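import Groth.Statements.S1206
import Mathlib

set_option autoImplicit false
universe u
open FlatMor

namespace Groth.Agent.S1206

/-- Let A be a local domain which is not a field and 𝒮 a set of finitely generated ideals of A, closed
under products, such that the union of the closed sets V(I), I ∈ 𝒮, is exactly the set of nonzero
primes (every nonzero prime contains a member of 𝒮 and no member is zero). Then the intersection of
all members of 𝒮 is zero. -/
theorem result (A : Type u) [CommRing A] [IsDomain A] [IsLocalRing A] (hA : ¬ IsField A)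
    (𝒮 : Set (Ideal A)) (hfg : ∀ I ∈ 𝒮, I.FG) (hmul : ∀ I ∈ 𝒮, ∀ J ∈ 𝒮, I * J ∈ 𝒮)
    (hne : ∀ I ∈ 𝒮, I ≠ ⊥) (hcov : ∀ (p : Ideal A), p.IsPrime → p ≠ ⊥ → ∃ I ∈ 𝒮, I ≤ p) :
    sInf 𝒮 = ⊥ := by
  classical
  by_contra hne0
  obtain ⟨x, hxN, hx0⟩ := Submodule.exists_mem_ne_zero_of_ne_bot hne0
  have hxI : ∀ I ∈ 𝒮, x ∈ I := fun I hI => (Ideal.mem_sInf.mp hxN) hI
  -- the maximal ideal is a nonzero prime
  have hm0 : IsLocalRing.maximalIdeal A ≠ ⊥ := by
    intro h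
    exact hA (IsLocalRing.isField_iff_maximalIdeal_eq.mpr h)
  obtain ⟨I₀, hI₀, hI₀m⟩ := hcov _ (IsLocalRing.maximalIdeal.isMaximal A).isPrime hm0
  -- x is not a unit
  have hxu : ¬ IsUnit x := by
    intro hu
    have : x ∈ IsLocalRing.maximalIdeal A := hI₀m (hxI I₀ hI₀)
    exact (IsLocalRing.mem_maximalIdeal x).mp this hu
  let P : Ideal A → Prop := fun 𝔞 => ∃ I ∈ 𝒮, I ≤ 𝔞
  have hOka : Ideal.IsOka P := by
    refine ⟨⟨I₀, hI₀, le_top⟩, ?_⟩
    rintro 𝔞 a ⟨I, hI, hI1⟩ ⟨I', hI', hI2⟩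
    refine ⟨I * I', hmul I hI I' hI', ?_⟩
    rw [Ideal.mul_le]
    intro i hi i' hi'
    obtain ⟨α, hα, β, hβ, rfl⟩ := Submodule.mem_sup.mp (hI1 hi)
    obtain ⟨r, rfl⟩ := Ideal.mem_span_singleton'.mp hβ
    have h2 : a * i' ∈ 𝔞 := by
      have := hI2 hi'
      rw [Ideal.mem_colon_span_singleton] at this
      rwa [mul_comm]
    rw [add_mul]
    refine 𝔞.add_mem (𝔞.mul_mem_right _ hα) ?_
    rw [mul_assoc]
    exact 𝔞.mul_mem_left _ h2
  -- (x) does not satisfy P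
  have hPx : ¬ P (Ideal.span {x}) := by
    rintro ⟨I, hI, hIx⟩
    have h1 : x ∈ I * I := hxI _ (hmul I hI I hI)
    have h2 : I ≤ I * I := hIx.trans ((Ideal.span_singleton_le_iff_mem _).mpr h1)
    have h3 : I ≤ IsLocalRing.maximalIdeal A := by
      refine hIx.trans ?_
      rw [Ideal.span_singleton_le_iff_mem]
      exact (IsLocalRing.mem_maximalIdeal x).mpr hxu
    have h4 : I = ⊥ := by
      apply Submodule.eq_bot_of_le_smul_of_le_jacobson_bot I I (hfg I hI)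
      · rw [smul_eq_mul]; exact h2
      · rw [IsLocalRing.jacobson_eq_maximalIdeal ⊥ bot_ne_top]; exact h3
    exact hne I hI h4
  obtain ⟨M, hxM, hM⟩ : ∃ M, Ideal.span {x} ≤ M ∧ Maximal (¬P ·) M := by
    refine zorn_le_nonempty₀ {𝔞 | ¬P 𝔞} (fun C hC₁ hC₂ J hJ ↦ ⟨sSup C, ?_, fun _ ↦ le_sSup⟩) _ hPx
    rintro ⟨I, hI, hIC⟩
    have hcomp := (Submodule.fg_iff_compact I).mp (hfg I hI)
    rw [CompleteLattice.isCompactElement_iff_le_of_directed_sSup_le] at hcomp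
    obtain ⟨K, hKC, hIK⟩ := hcomp C ⟨J, hJ⟩ hC₂.directedOn hIC
    exact hC₁ hKC ⟨I, hI, hIK⟩
  have hMp : M.IsPrime := hOka.isPrime_of_maximal_not hM
  have hM0 : M ≠ ⊥ := by
    intro h
    rw [h] at hxM
    exact hx0 (by simpa using hxM)
  exact hM.prop (hcov M hMp hM0)

end Groth.Agent.S1206
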