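import Groth.Statements.S12066
import Mathlib
import Groth.Prelude.Def_FSch4
import Groth.Prelude.Def_FSch2
import Groth.Prelude.Def_FEt
import Groth.Agent.Lib.Helper9.FE.ThickGlue
-- import your own Groth.Agent.* helpers here

set_option autoImplicit false
universe u
open CategoryTheory AlgebraicGeometry
open FSch

namespace Groth.Agent.S12066

open CategoryTheory AlgebraicGeometry
open FSch
namespace Aux
set_option backward.isDefEq.respectTransparency false
set_option linter.style.haveILetI false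
set_option linter.unusedSectionVars false
open H9FE CategoryTheory.Limits

variable (𝔛 : FSch.Sys.{u}) (hF : 𝔛.IsFormal)

section Obj
variable {𝔛} (R : FSch.EtCov 𝔛)

/-- the structure map at level n -/
noncomputable abbrev rp (n : ℕ) : R.obj.left.X n ⟶ 𝔛.X n := (R.obj.hom : Hom _ _).app n

theorem r_adic (n : ℕ) :
    IsPullback (R.obj.left.ι n) (rp R n) (rp R (n + 1)) (𝔛.ι n) := R.property.1 n

theorem r_comm (n : ℕ) : rp R n ≫ 𝔛.ι n = R.obj.left.ι n ≫ rp R (n + 1) :=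
  (R.obj.hom : Hom _ _).comm n

include hF in
theorem rι_ff (n : ℕ) : (FEt.restrict (R.obj.left.ι n)).Full ∧
    (FEt.restrict (R.obj.left.ι n)).Faithful := by
  haveI : IsClosedImmersion (𝔛.ι n) := (hF n).1
  haveI : Surjective (𝔛.ι n) := ⟨(hF n).2⟩
  haveI : IsClosedImmersion (R.obj.left.ι n) :=
    MorphismProperty.of_isPullback (P := @IsClosedImmersion) (r_adic R n).flip inferInstance
  haveI : Surjective (R.obj.left.ι n) :=
    MorphismProperty.of_isPullback (P := @Surjective) (r_adic R n).flip inferInstance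
  exact restrict_full_faithful_of_univHomeo _

end Obj

include hF in
theorem faithful : (FSch.EtCov.level 𝔛 0).Faithful := by
  refine ⟨fun {R R'} φ ψ h => ?_⟩
  have h0 : (φ.hom.left : Hom _ _).app 0 = (ψ.hom.left : Hom _ _).app 0 :=
    congrArg (fun m => m.left) h
  have hw : ∀ (χ : R ⟶ R') (n : ℕ), (χ.hom.left : Hom _ _).app n ≫ rp R' n = rp R n := by
    intro χ n
    have := Over.w χ.hom
    exact congrArg (fun (m : Hom _ _) => m.app n) this
  have key : ∀ n, (φ.hom.left : Hom _ _).app n = (ψ.hom.left : Hom _ _).app n := by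
    intro n
    induction n with
    | zero => exact h0
    | succ n ih =>
      apply descent_unique (R.obj.left.ι n) (rι_ff hF R n).2 (rp R (n + 1))
        ((FSch.EtCov.level 𝔛 (n + 1)).obj R')
      · exact hw φ (n + 1)
      · exact hw ψ (n + 1)
      · rw [← (φ.hom.left : Hom _ _).comm n, ← (ψ.hom.left : Hom _ _).comm n, ih]
  apply InducedCategory.hom_ext
  apply Over.OverMorphism.ext
  apply FSch.Hom.ext
  funext n
  exact key n

section Full
variable {𝔛} (R R' : FSch.EtCov 𝔛)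

include hF in
theorem exists_step (n : ℕ)
    (prev : {φ : R.obj.left.X n ⟶ R'.obj.left.X n // φ ≫ rp R' n = rp R n}) :
    ∃ φ : R.obj.left.X (n + 1) ⟶ R'.obj.left.X (n + 1), φ ≫ rp R' (n + 1) = rp R (n + 1) ∧
      R.obj.left.ι n ≫ φ = prev.1 ≫ R'.obj.left.ι n := by
  apply exists_descent_of_full (R.obj.left.ι n) (rι_ff hF R n).1 (rp R (n + 1))
    ((FSch.EtCov.level 𝔛 (n + 1)).obj R') (prev.1 ≫ R'.obj.left.ι n)
  show (prev.1 ≫ R'.obj.left.ι n) ≫ rp R' (n + 1) = _
  rw [Category.assoc, ← r_comm R' n, ← Category.assoc, prev.2, r_comm R n]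

noncomputable def step (n : ℕ)
    (prev : {φ : R.obj.left.X n ⟶ R'.obj.left.X n // φ ≫ rp R' n = rp R n}) :
    {φ : R.obj.left.X (n + 1) ⟶ R'.obj.left.X (n + 1) // φ ≫ rp R' (n + 1) = rp R (n + 1)} :=
  ⟨(exists_step hF R R' n prev).choose, (exists_step hF R R' n prev).choose_spec.1⟩

theorem step_comm (n : ℕ)
    (prev : {φ : R.obj.left.X n ⟶ R'.obj.left.X n // φ ≫ rp R' n = rp R n}) :
    R.obj.left.ι n ≫ (step hF R R' n prev).1 = prev.1 ≫ R'.obj.left.ι n :=
  (exists_step hF R R' n prev).choose_spec.2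

noncomputable def seq (f : (FSch.EtCov.level 𝔛 0).obj R ⟶ (FSch.EtCov.level 𝔛 0).obj R') :
    ∀ n, {φ : R.obj.left.X n ⟶ R'.obj.left.X n // φ ≫ rp R' n = rp R n}
  | 0 => ⟨f.left, MorphismProperty.Over.w f⟩
  | n + 1 => step hF R R' n (seq f n)

end Full

include hF in
theorem full : (FSch.EtCov.level 𝔛 0).Full := by
  refine ⟨fun {R R'} f => ?_⟩
  let Φ : R.obj.left ⟶ R'.obj.left :=
    { app := fun n => (seq hF R R' f n).1
      comm := fun n => (step_comm hF R R' n (seq hF R R' f n)).symm }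
  have hΦ : Φ ≫ R'.obj.hom = R.obj.hom := by
    apply FSch.Hom.ext
    funext n
    exact (seq hF R R' f n).2
  refine ⟨ObjectProperty.homMk (Over.homMk Φ hΦ), ?_⟩
  apply MorphismProperty.Over.Hom.ext
  rfl

section Ess
variable {𝔛}

include hF in
theorem essSurj_ι (n : ℕ) : (FEt.restrict (𝔛.ι n)).EssSurj := by
  haveI : IsClosedImmersion (𝔛.ι n) := (hF n).1
  haveI : Surjective (𝔛.ι n) := ⟨(hF n).2⟩
  exact restrict_essSurj_of_thickening (𝔛.ι n)

noncomputable def stepY (n : ℕ) (prev : FEt.Cat (𝔛.X n)) : FEt.Cat (𝔛.X (n + 1)) :=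
  ((essSurj_ι hF n).mem_essImage prev).witness

noncomputable def stepIso (n : ℕ) (prev : FEt.Cat (𝔛.X n)) :
    (FEt.restrict (𝔛.ι n)).obj (stepY hF n prev) ≅ prev :=
  ((essSurj_ι hF n).mem_essImage prev).getIso

noncomputable def seqY (Y₀ : FEt.Cat (𝔛.X 0)) : ∀ n, FEt.Cat (𝔛.X n)
  | 0 => Y₀
  | n + 1 => stepY hF n (seqY Y₀ n)

/-- transition maps of the lifted system -/
noncomputable def seqι (Y₀ : FEt.Cat (𝔛.X 0)) (n : ℕ) :
    (seqY hF Y₀ n).left ⟶ (seqY hF Y₀ (n + 1)).left :=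
  (stepIso hF n (seqY hF Y₀ n)).inv.left ≫
    pullback.fst (stepY hF n (seqY hF Y₀ n)).hom (𝔛.ι n)

theorem seqι_snd (Y₀ : FEt.Cat (𝔛.X 0)) (n : ℕ) :
    (stepIso hF n (seqY hF Y₀ n)).inv.left ≫
      pullback.snd (stepY hF n (seqY hF Y₀ n)).hom (𝔛.ι n) = (seqY hF Y₀ n).hom :=
  MorphismProperty.Over.w (stepIso hF n (seqY hF Y₀ n)).inv

theorem seq_comm (Y₀ : FEt.Cat (𝔛.X 0)) (n : ℕ) :
    (seqY hF Y₀ n).hom ≫ 𝔛.ι n = seqι hF Y₀ n ≫ (seqY hF Y₀ (n + 1)).hom := by
  show _ = ((stepIso hF n (seqY hF Y₀ n)).inv.left ≫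
    pullback.fst (stepY hF n (seqY hF Y₀ n)).hom (𝔛.ι n)) ≫ (stepY hF n (seqY hF Y₀ n)).hom
  rw [Category.assoc, pullback.condition, ← Category.assoc, seqι_snd]

theorem seq_adic (Y₀ : FEt.Cat (𝔛.X 0)) (n : ℕ) :
    IsPullback (seqι hF Y₀ n) (seqY hF Y₀ n).hom (seqY hF Y₀ (n + 1)).hom (𝔛.ι n) := by
  let e : (seqY hF Y₀ n).left ≅ pullback (stepY hF n (seqY hF Y₀ n)).hom (𝔛.ι n) :=
    (MorphismProperty.Over.forget _ _ _ ⋙ CategoryTheory.Over.forget _).mapIso
      (stepIso hF n (seqY hF Y₀ n)).symm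
  have he : e.hom = (stepIso hF n (seqY hF Y₀ n)).inv.left := rfl
  refine IsPullback.of_iso_pullback ⟨(seq_comm hF Y₀ n).symm⟩ e ?_ ?_
  · rw [he]; rfl
  · rw [he]; exact seqι_snd hF Y₀ n

end Ess

include hF in
theorem essSurj : (FSch.EtCov.level 𝔛 0).EssSurj := by
  refine ⟨fun Y₀ => ?_⟩
  let ℜ : FSch.Sys.{u} := { X := fun n => (seqY hF Y₀ n).left, ι := seqι hF Y₀ }
  let p : ℜ ⟶ 𝔛 :=
    { app := fun n => (seqY hF Y₀ n).hom
      comm := fun n => seq_comm hF Y₀ n }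
  have hp : FSch.IsEtaleCover p :=
    ⟨fun n => seq_adic hF Y₀ n, fun n => ⟨(seqY hF Y₀ n).prop.1, (seqY hF Y₀ n).prop.2⟩⟩
  let R : FSch.EtCov 𝔛 := ⟨Over.mk p, hp⟩
  refine ⟨R, ⟨MorphismProperty.Over.isoMk (Iso.refl _) ?_⟩⟩
  show 𝟙 _ ≫ Y₀.hom = Y₀.hom
  exact Category.id_comp _

include hF in
theorem main : (FSch.EtCov.level 𝔛 0).IsEquivalence :=
  { faithful := faithful 𝔛 hF, full := full 𝔛 hF, essSurj := essSurj 𝔛 hF }

end Aux

/-- Let 𝔛 be a locally Noetherian formal scheme with an ideal of definition, presented as the adic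
system of its thickenings X_0 → X_1 → ⋯ (each X_n locally Noetherian). Then the functor "fibre over
X_0", from the category of étale covers of 𝔛 (adic systems R_n → X_n of finite étale covers) to the
category of finite étale covers of the scheme X_0, is an equivalence of categories. -/
theorem result (𝔛 : FSch.Sys.{u}) (h𝔛 : 𝔛.IsLocNoethFormal) :
    (FSch.EtCov.level 𝔛 0).IsEquivalence := by
  exact Aux.main 𝔛 h𝔛.1

end Groth.Agent.S12066
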