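import Groth.Statements.S12067
import Mathlib
import Groth.Agent.Lib.Helper9.Unipotent

set_option autoImplicit false
universe u
open TensorProduct
open SGA3t2b

namespace Groth.Agent.S12067

namespace Aux

open Groth.Agent.Helper9

universe v w

lemma finrank_comap_mkQ {k : Type u} [Field k] {V : Type w} [AddCommGroup V] [Module k V]
    [Module.Finite k V] (W : Submodule k V) (N : Submodule k (V ⧸ W)) :
    Module.finrank k ↥(N.comap W.mkQ) = Module.finrank k ↥N + Module.finrank k ↥W := by
  have hle : W ≤ N.comap W.mkQ := by
    intro x hx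
    rw [Submodule.mem_comap]
    have : W.mkQ x = 0 := by simpa using hx
    rw [this]; exact zero_mem _
  have hmap : (N.comap W.mkQ).map W.mkQ = N :=
    Submodule.map_comap_eq_of_surjective W.mkQ_surjective N
  have e := Submodule.quotientQuotientEquivQuotient W (N.comap W.mkQ) hle
  rw [hmap] at e
  have h1 := e.finrank_eq
  have h2 := Submodule.finrank_quotient_add_finrank W
  have h3 := Submodule.finrank_quotient_add_finrank N
  have h4 := Submodule.finrank_quotient_add_finrank (N.comap W.mkQ)
  omega

theorem flagNat {k : Type u} [Field k] {A : Type v} [CommRing A] [Bialgebra k A]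
    (hU : HopfRep.IsUnipotent k A) :
    ∀ (n : ℕ) (V : Type v) [AddCommGroup V] [Module k V] [HopfRep.Comod k A V],
      Module.Finite k V → Module.finrank k V = n →
      ∃ F : ℕ → Submodule k V, F 0 = ⊥ ∧ F n = ⊤ ∧
        (∀ i, HopfRep.IsSubcomod (k := k) (A := A) (F i)) ∧
        ∀ i < n, F i ≤ F (i + 1) ∧
          Module.finrank k ↥(F (i + 1)) = Module.finrank k ↥(F i) + 1 ∧
          ∀ v ∈ F (i + 1), HopfRep.Comod.coact (k := k) (A := A) v - v ⊗ₜ[k] (1 : A) ∈
            LinearMap.range ((F i).subtype.rTensor A) := by
  intro n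
  induction n with
  | zero =>
    intro V _ _ _ hfin hn
    have hss : Subsingleton V := Module.finrank_zero_iff.mp hn
    refine ⟨fun _ => ⊥, rfl, ?_, fun _ => isSubcomod_bot, fun i hi => absurd hi (Nat.not_lt_zero _)⟩
    exact Subsingleton.elim _ _
  | succ n ih =>
    intro V _ _ _ hfin hn
    have hnt : Nontrivial V := by
      apply Module.nontrivial_of_finrank_pos (R := k)
      omega
    have hWne : HopfRep.fixedPts k A V ≠ ⊥ := hU V hfin hnt
    obtain ⟨v, hv, hv0⟩ := Submodule.exists_mem_ne_zero_of_ne_bot hWne
    have hvfix : HopfRep.Comod.coact (k := k) (A := A) v = v ⊗ₜ[k] (1 : A) := hv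
    set W : Submodule k V := Submodule.span k {v} with hWdef
    have hWfix : W ≤ HopfRep.fixedPts k A V := by
      rw [hWdef, Submodule.span_le]
      intro x hx
      rw [Set.mem_singleton_iff] at hx
      rw [hx]; exact hv
    have hW : HopfRep.IsSubcomod (k := k) (A := A) W := by
      intro w hw
      have hwfix : HopfRep.Comod.coact (k := k) (A := A) w = w ⊗ₜ[k] (1 : A) := hWfix hw
      rw [hwfix]
      exact ⟨(⟨w, hw⟩ : W) ⊗ₜ[k] (1 : A), by simp⟩
    have hWrank : Module.finrank k ↥W = 1 := finrank_span_singleton hv0
    letI : HopfRep.Comod k A (V ⧸ W) := quotComod W hW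
    have hπ : Hoch.IsComodHom A W.mkQ := quotCoact_comp_mkQ W hW
    have hq : Module.finrank k (V ⧸ W) = n := by
      have h1 := Submodule.finrank_quotient_add_finrank W
      omega
    obtain ⟨F', h0, hm, hsub, hstep⟩ := ih (V ⧸ W) inferInstance hq
    refine ⟨shiftFlag W.mkQ F', rfl, ?_, ?_, ?_⟩
    · show (F' n).comap W.mkQ = ⊤
      rw [hm]
      rfl
    · intro i
      cases i with
      | zero => exact isSubcomod_bot
      | succ j => exact isSubcomod_comap W.mkQ hπ (F' j) (hsub j)
    · intro i hi
      cases i with
      | zero =>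
        refine ⟨bot_le, ?_, ?_⟩
        · show Module.finrank k ↥((F' 0).comap W.mkQ) = Module.finrank k ↥(⊥ : Submodule k V) + 1
          rw [finrank_comap_mkQ, h0, hWrank]
          simp
        · intro x hx
          have hx' : x ∈ W := by
            have : W.mkQ x ∈ F' 0 := hx
            rw [h0, Submodule.mem_bot] at this
            simpa using this
          have hxfix : HopfRep.Comod.coact (k := k) (A := A) x = x ⊗ₜ[k] (1 : A) := hWfix hx'
          rw [hxfix, sub_self]
          exact Submodule.zero_mem _
      | succ j =>
        have hj : j < n := by omega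
        obtain ⟨hle, hrk, htr⟩ := hstep j hj
        refine ⟨Submodule.comap_mono hle, ?_, ?_⟩
        · show Module.finrank k ↥((F' (j + 1)).comap W.mkQ) =
            Module.finrank k ↥((F' j).comap W.mkQ) + 1
          rw [finrank_comap_mkQ, finrank_comap_mkQ, hrk]
          omega
        · intro x hx
          have hx' : W.mkQ x ∈ F' (j + 1) := hx
          have h3 := htr _ hx'
          show _ ∈ LinearMap.range (((F' j).comap W.mkQ).subtype.rTensor A)
          apply mem_range_rTensor_comap
          rw [map_sub, LinearMap.rTensor_tmul]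
          have h4 := LinearMap.congr_fun hπ x
          simp only [LinearMap.comp_apply] at h4
          rw [← h4]
          exact h3

end Aux

/-- In Hopf-algebra form, let k be a field and A a finitely generated commutative Hopf algebra over k
(an affine algebraic group G) which is unipotent: every nonzero finite-dimensional comodule has a
nonzero fixed vector. Then every finite-dimensional comodule V (a finite-dimensional representation
of G), of dimension n, has a flag of subcomodules 0 = V_0 ⊂ V_1 ⊂ ⋯ ⊂ V_n = V with one-dimensional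
successive quotients on which G acts trivially: for v ∈ V_(i+1) the coaction of v is congruent to v
⊗ 1 modulo V_i ⊗ A. -/
theorem result (k : Type u) [Field k] (A : Type u) [CommRing A]
    [HopfAlgebra k A] [Algebra.FiniteType k A] (hU : HopfRep.IsUnipotent k A)
    (V : Type u) [AddCommGroup V] [Module k V] [HopfRep.Comod k A V] [Module.Finite k V] :
    ∃ F : Fin (Module.finrank k V + 1) → Submodule k V,
      F 0 = ⊥ ∧ F (Fin.last _) = ⊤ ∧
      (∀ i : Fin (Module.finrank k V + 1), HopfRep.IsSubcomod (k := k) (A := A) (F i)) ∧
      ∀ i : Fin (Module.finrank k V), F i.castSucc ≤ F i.succ ∧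
        Module.finrank k ↥(F i.succ) = Module.finrank k ↥(F i.castSucc) + 1 ∧
        ∀ v ∈ F i.succ, HopfRep.Comod.coact (k := k) (A := A) v - v ⊗ₜ[k] (1 : A) ∈
          LinearMap.range ((F i.castSucc).subtype.rTensor A) := by
  obtain ⟨F, h0, hm, hsub, hstep⟩ := Aux.flagNat hU (Module.finrank k V) V inferInstance rfl
  refine ⟨fun i => F i.val, h0, hm, fun i => hsub i.val, fun i => ?_⟩
  exact hstep i.val i.isLt

end Groth.Agent.S12067
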