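import Groth.Statements.S1207
import Mathlib
import Groth.Agent.S1206

set_option autoImplicit false
universe u
open FlatMor

namespace Groth.Agent.S1207

/-- Let A be a local ring and I, J ideals of A with J finitely generated, J ≠ A, and I ⊆ J^n for all n ≥
1. Then every prime p not containing J which is maximal among the primes not containing J (a closed
point of Spec A ∖ V(J)) contains I. (The published statement leaves the hypothesis J ≠ A implicit;
for J = A the assertion fails.) -/
theorem result (A : Type u) [CommRing A] [IsLocalRing A] (I J : Ideal A) (hJ : J.FG) (hJ1 : J ≠ ⊤)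
    (hI : ∀ n : ℕ, 1 ≤ n → I ≤ J ^ n) (p : Ideal A) [p.IsPrime] (hp : ¬ J ≤ p)
    (hmax : ∀ (p' : Ideal A), p'.IsPrime → p ≤ p' → ¬ J ≤ p' → p' = p) : I ≤ p := by
  classical
  let B := A ⧸ p
  let π : A →+* B := Ideal.Quotient.mk p
  have hπs : Function.Surjective π := Ideal.Quotient.mk_surjective
  have hJm : J ≤ IsLocalRing.maximalIdeal A := IsLocalRing.le_maximalIdeal hJ1
  have hpm : p ≤ IsLocalRing.maximalIdeal A := IsLocalRing.le_maximalIdeal (Ideal.IsPrime.ne_top inferInstance)
  haveI : IsLocalRing B := IsLocalRing.of_surjective' π hπs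
  let Jb : Ideal B := J.map π
  have hJb0 : Jb ≠ ⊥ := by
    intro h
    apply hp
    intro a ha
    have : π a ∈ Jb := Ideal.mem_map_of_mem π ha
    rw [h] at this
    exact Ideal.Quotient.eq_zero_iff_mem.mp this
  have hJbtop : Jb ≠ ⊤ := by
    intro h
    have h1 : (1 : B) ∈ Jb := h ▸ Submodule.mem_top
    obtain ⟨a, ha, ha1⟩ := (Ideal.mem_map_iff_of_surjective π hπs).mp h1
    have h2 : a - 1 ∈ p := by
      rw [← Ideal.Quotient.eq_zero_iff_mem, map_sub, map_one]
      exact sub_eq_zero.mpr ha1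
    have h3 : (1 : A) ∈ IsLocalRing.maximalIdeal A := by
      have := (IsLocalRing.maximalIdeal A).sub_mem (hJm ha) (hpm h2)
      simpa using this
    exact (IsLocalRing.maximalIdeal.isMaximal A).ne_top ((Ideal.eq_top_iff_one _).mpr h3)
  have hBf : ¬ IsField B :=
    Ring.not_isField_iff_exists_ideal_bot_lt_and_lt_top.mpr
      ⟨Jb, bot_lt_iff_ne_bot.mpr hJb0, lt_top_iff_ne_top.mpr hJbtop⟩
  let 𝒮 : Set (Ideal B) := {K | ∃ n : ℕ, 1 ≤ n ∧ K = Jb ^ n}
  have h𝒮 : sInf 𝒮 = ⊥ := by
    apply Groth.Agent.S1206.result B hBf 𝒮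
    · rintro K ⟨n, _, rfl⟩
      exact Ideal.FG.pow (hJ.map π)
    · rintro K ⟨n, hn, rfl⟩ K' ⟨m, hm, rfl⟩
      exact ⟨n + m, by omega, (pow_add _ _ _).symm⟩
    · rintro K ⟨n, _, rfl⟩
      exact pow_ne_zero n hJb0
    · intro q hq hq0
      refine ⟨Jb, ⟨1, le_refl 1, (pow_one _).symm⟩, ?_⟩
      -- the prime q.comap π contains p and is not p
      by_contra hJq
      have h1 : p ≤ q.comap π := by
        intro a ha
        change π a ∈ q
        rw [Ideal.Quotient.eq_zero_iff_mem.mpr ha]; exact q.zero_mem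
      have h2 : ¬ J ≤ q.comap π := by
        intro h
        apply hJq
        rw [Ideal.map_le_iff_le_comap]; exact h
      have h3 := hmax (q.comap π) (Ideal.IsPrime.comap π) h1 h2
      apply hq0
      rw [eq_bot_iff]
      intro b hb
      obtain ⟨a, rfl⟩ := hπs b
      have : a ∈ q.comap π := hb
      rw [h3] at this
      rw [Ideal.mem_bot]
      exact Ideal.Quotient.eq_zero_iff_mem.mpr this
  intro a ha
  rw [← Ideal.Quotient.eq_zero_iff_mem]
  have : π a ∈ sInf 𝒮 := by
    rw [Ideal.mem_sInf]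
    rintro K ⟨n, hn, rfl⟩
    rw [← Ideal.map_pow]
    exact Ideal.mem_map_of_mem π (hI n hn ha)
  rw [h𝒮] at this
  exact this

end Groth.Agent.S1207
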