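import Groth.Statements.S12071
import Mathlib

set_option autoImplicit false
open RootD

namespace Groth.Agent.S12071

open DihedralGroup

/-- `ZMod 0` is `ℤ` -/
def ofZ : ℤ → ZMod 0 := id

theorem ofZ_surj (i : ZMod 0) : ∃ i' : ℤ, ofZ i' = i := ⟨i, rfl⟩
theorem ofZ_inj {a b : ℤ} (h : ofZ a = ofZ b) : a = b := h
theorem ofZ_add (a b : ℤ) : ofZ a + ofZ b = ofZ (a + b) := rfl
theorem ofZ_sub (a b : ℤ) : ofZ a - ofZ b = ofZ (a - b) := rfl
theorem ofZ_neg (a : ℤ) : -ofZ a = ofZ (-a) := rfl
theorem ofZ_mul_cast (a b : ℤ) : ofZ a * (Int.cast b : ZMod 0) = ofZ (a * b) := by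
  change a * (Int.cast b : ℤ) = a * b
  rw [Int.cast_id]
theorem ofZ_zero : ofZ 0 = 0 := rfl
theorem ofZ_one : ofZ 1 = 1 := rfl
theorem ofZ_natCast (n : ℕ) : ofZ (n : ℤ) = (Nat.cast n : ZMod 0) := rfl


/-- Let G be the group generated by two elements x, y subject to x² = y² = 1 (the infinite dihedral
group; here Mathlib's DihedralGroup 0 with x = sr 0 and y = sr 1, so that x y = r 1). Then every
normal subgroup of G containing neither x nor y is generated by an element (x y)^n with n > 0; such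
a subgroup is cyclic, generated by r n. (The published statement does not exclude the trivial
subgroup, for which no n > 0 works; this row assumes the subgroup nontrivial.) -/
theorem result (N : Subgroup (DihedralGroup 0)) [N.Normal]
    (hN : N ≠ ⊥) (hx : DihedralGroup.sr (0 : ZMod 0) ∉ N) (hy : DihedralGroup.sr (1 : ZMod 0) ∉ N) :
    ∃ n : ℕ, 0 < n ∧ N = Subgroup.zpowers (DihedralGroup.r (n : ZMod 0)) := by
  classical
  have hsr : ∀ i : ℤ, sr (ofZ i) ∉ N := by
    intro i hi
    have hconj : ∀ j : ℤ, sr (ofZ (i - j - j)) ∈ N := by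
      intro j
      have := ‹N.Normal›.conj_mem _ hi (r (ofZ j))
      rw [r_mul_sr, inv_r, sr_mul_r, ofZ_sub, ofZ_neg, ofZ_add] at this
      have e : i - j + -j = i - j - j := by ring
      rw [e] at this
      exact this
    rcases Int.even_or_odd' i with ⟨j, hj | hj⟩
    · have := hconj j
      have e : i - j - j = 0 := by rw [hj]; ring
      rw [e, ofZ_zero] at this
      exact hx this
    · have := hconj j
      have e : i - j - j = 1 := by rw [hj]; ring
      rw [e, ofZ_one] at this
      exact hy this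
  let H : AddSubgroup ℤ :=
    { carrier := {i : ℤ | r (ofZ i) ∈ N}
      zero_mem' := by
        change r (ofZ 0) ∈ N
        rw [ofZ_zero, r_zero]; exact N.one_mem
      add_mem' := by
        intro a b ha hb
        change r (ofZ (a + b)) ∈ N
        rw [← ofZ_add, ← r_mul_r]; exact N.mul_mem ha hb
      neg_mem' := by
        intro a ha
        change r (ofZ (-a)) ∈ N
        rw [← ofZ_neg, ← inv_r]; exact N.inv_mem ha }
  have hH : ∀ i : ℤ, i ∈ H ↔ r (ofZ i) ∈ N := fun i => Iff.rfl
  obtain ⟨a, ha⟩ := Int.subgroup_cyclic H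
  have hmem : ∀ i : ℤ, r (ofZ i) ∈ N ↔ ∃ m : ℤ, i = m * a := by
    intro i
    rw [← hH, ha, AddSubgroup.mem_closure_singleton]
    constructor
    · rintro ⟨m, hm⟩; exact ⟨m, by rw [← hm, smul_eq_mul]⟩
    · rintro ⟨m, hm⟩; exact ⟨m, by rw [hm, smul_eq_mul]⟩
  have ha0 : a ≠ 0 := by
    intro h0
    apply hN
    rw [eq_bot_iff]
    intro g hg
    rw [Subgroup.mem_bot]
    cases g with
    | r i =>
      obtain ⟨i, rfl⟩ := ofZ_surj i
      obtain ⟨m, hm⟩ := (hmem i).1 hg
      rw [h0, mul_zero] at hm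
      rw [hm, ofZ_zero]; exact r_zero
    | sr i =>
      obtain ⟨i, rfl⟩ := ofZ_surj i
      exact absurd hg (hsr i)
  refine ⟨a.natAbs, Int.natAbs_pos.2 ha0, ?_⟩
  ext g
  rw [Subgroup.mem_zpowers_iff]
  cases g with
  | r i =>
    obtain ⟨i, rfl⟩ := ofZ_surj i
    constructor
    · intro hg
      obtain ⟨m, hm⟩ := (hmem i).1 hg
      rcases Int.natAbs_eq a with h1 | h1
      · refine ⟨m, ?_⟩
        rw [r_zpow, ← ofZ_natCast, ofZ_mul_cast]
        congr 2
        rw [hm, ← h1, mul_comm]
      · refine ⟨-m, ?_⟩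
        rw [r_zpow, ← ofZ_natCast, ofZ_mul_cast]
        congr 2
        have h2 : (a.natAbs : ℤ) = -a := by omega
        rw [hm, h2]; ring
    · rintro ⟨m, hm⟩
      rw [r_zpow, ← ofZ_natCast, ofZ_mul_cast] at hm
      have hi : (a.natAbs : ℤ) * m = i := ofZ_inj (DihedralGroup.r.inj hm)
      rw [← hi]
      apply (hmem _).2
      rcases Int.natAbs_eq a with h1 | h1
      · exact ⟨m, by rw [← h1]; ring⟩
      · refine ⟨-m, ?_⟩
        have h2 : (a.natAbs : ℤ) = -a := by omega
        rw [h2]; ring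
  | sr i =>
    obtain ⟨i, rfl⟩ := ofZ_surj i
    constructor
    · intro hg; exact absurd hg (hsr i)
    · rintro ⟨m, hm⟩
      rw [r_zpow] at hm
      exact absurd hm (by simp)

end Groth.Agent.S12071
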