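import Groth.Statements.S12073
-- import your own Groth.Agent.* helpers here
import Groth.Agent.Lib.Helper7.LimDesc6
import Groth.Agent.Lib.Helper7.LimHom2

set_option autoImplicit false
universe u
open CategoryTheory CategoryTheory.Limits AlgebraicGeometry
open Pi1

namespace Groth.Agent.S12073

/-- Let X = lim X_i be the limit of a cofiltered system of quasi-compact quasi-separated schemes with
affine transition morphisms, given by a limit cone. Then: (1) every finite étale cover of X is
isomorphic, over X, to the base change of a finite étale cover of some X_i; (2) if two morphisms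
between finite étale covers of some X_i have the same base change to X, then they have the same base
change to some X_j with j → i. (Fullness — every morphism over X between base changes comes from
some stage — is part of the published statement and is not stated here; nor is the consequence on
fundamental groups.) -/
theorem result {I : Type u} [SmallCategory I] [IsCofiltered I]
    (D : I ⥤ Scheme.{u}) (c : Limits.Cone D) (hc : Limits.IsLimit c)
    [∀ (i j : I) (f : i ⟶ j), IsAffineHom (D.map f)] [∀ i, CompactSpace (D.obj i)]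
    [∀ i, QuasiSeparatedSpace (D.obj i)] :
    (∀ V : FEt.Cat c.pt, ∃ (i : I) (Vi : FEt.Cat (D.obj i)), Nonempty ((FEt.restrict (c.π.app i)).obj Vi ≅ V)) ∧
    (∀ (i : I) (Vi Wi : FEt.Cat (D.obj i)) (φ ψ : Vi ⟶ Wi),
      (FEt.restrict (c.π.app i)).map φ = (FEt.restrict (c.π.app i)).map ψ →
      ∃ (j : I) (a : j ⟶ i), (FEt.restrict (D.map a)).map φ = (FEt.restrict (D.map a)).map ψ) := by
  have hD : ∀ {i j : I} (f : i ⟶ j), IsAffineHom (D.map f) := fun f => inferInstance
  refine ⟨fun V => ?_, fun i Vi Wi φ ψ h => ?_⟩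
  · have hfin : IsFinite V.hom := V.prop.1
    have het : Etale V.hom := V.prop.2
    obtain ⟨j₀, M₀, hM₀⟩ := Groth.Agent.Helper7.LimDesc.exists_model_etale hc V.hom
    obtain ⟨j, φ, hfinM⟩ := M₀.exists_stage_property @IsFinite
      (fun hs => Groth.Agent.Helper7.LimGen.exists_stage_isFinite' D c hc M₀.zj (𝟙 _) hs) hfin
    have hetM : Etale (M₀.stage φ).zj := M₀.stage_property @Etale hM₀ φ
    let Vi : FEt.Cat (D.obj j) := MorphismProperty.Over.mk ⊤ (M₀.stage φ).zj ⟨hfinM, hetM⟩
    refine ⟨j, Vi, ⟨MorphismProperty.Over.isoMk ((M₀.stage φ).isPullback.isoPullback).symm ?_⟩⟩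
    exact (M₀.stage φ).isPullback.isoPullback_inv_snd
  · have hfV : IsFinite (Y := D.obj i) Vi.hom := Vi.prop.1
    have hfW : IsFinite (Y := D.obj i) Wi.hom := Wi.prop.1
    have : CompactSpace ↥Vi.left := QuasiCompact.compactSpace_of_compactSpace (Y := D.obj i) Vi.hom
    have e1 : ∀ (χ : Vi ⟶ Wi) {T : Scheme.{u}} (s : T ⟶ D.obj i),
        ((FEt.restrict s).map χ).left ≫ Limits.pullback.fst Wi.hom s =
          Limits.pullback.fst Vi.hom s ≫ χ.left := fun χ _ s => Limits.pullback.lift_fst _ _ _
    have e2 : ∀ (χ : Vi ⟶ Wi) {T : Scheme.{u}} (s : T ⟶ D.obj i),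
        ((FEt.restrict s).map χ).left ≫ Limits.pullback.snd Wi.hom s =
          Limits.pullback.snd Vi.hom s := fun χ _ s => Limits.pullback.lift_snd _ _ _
    have hab : Limits.pullback.fst Vi.hom (c.π.app i) ≫ φ.left =
        Limits.pullback.fst Vi.hom (c.π.app i) ≫ ψ.left := by
      rw [← e1 φ, ← e1 ψ, h]
    have : LocallyOfFiniteType (Y := D.obj i) Wi.hom := inferInstance
    obtain ⟨j, a, hj⟩ := Groth.Agent.Helper7.LimHom.exists_hom_eq_descend D c hc i
      (Xi := Vi.left) (Yi := Wi.left) Vi.hom Wi.hom
      φ.left ψ.left (Over.w φ.hom) (Over.w ψ.hom) hab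
    refine ⟨j, a, ?_⟩
    apply MorphismProperty.Over.Hom.ext
    apply Limits.pullback.hom_ext (f := Wi.hom) (g := D.map a)
    · exact (e1 φ (D.map a)).trans (hj.trans (e1 ψ (D.map a)).symm)
    · exact (e2 φ (D.map a)).trans (e2 ψ (D.map a)).symm

end Groth.Agent.S12073
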