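import Groth.Statements.S12076
import Mathlib

set_option autoImplicit false
open RootD

namespace Groth.Agent.S12076

section
open Module

section cone
variable {Γ : Type*} [AddCommGroup Γ] {n : ℕ} (ℓ : Fin (n + 1) → (Γ →ₗ[ℤ] ℤ))

def cone : Set Γ := {x | ∃ k, 0 < ℓ k x ∧ ∀ k' < k, ℓ k' x = 0}

theorem zero_not_mem : (0 : Γ) ∉ cone ℓ := by
  rintro ⟨k, hk, _⟩
  simp at hk

theorem add_mem (x y : Γ) (hx : x ∈ cone ℓ) (hy : y ∈ cone ℓ) : x + y ∈ cone ℓ := by
  obtain ⟨k, hk, hk'⟩ := hx
  obtain ⟨m, hm, hm'⟩ := hy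
  rcases lt_trichotomy k m with h | h | h
  · refine ⟨k, ?_, ?_⟩
    · rw [map_add, hm' k h]; linarith
    · intro k' hk''
      rw [map_add, hk' k' hk'', hm' k' (hk''.trans h)]; rfl
  · subst h
    refine ⟨k, ?_, ?_⟩
    · rw [map_add]; linarith
    · intro k' hk''
      rw [map_add, hk' k' hk'', hm' k' hk'']; rfl
  · refine ⟨m, ?_, ?_⟩
    · rw [map_add, hk' m h]; linarith
    · intro k' hk''
      rw [map_add, hm' k' hk'', hk' k' (hk''.trans h)]; rfl

theorem mem_or_neg_mem (hinj : ∀ x, (∀ k, ℓ k x = 0) → x = 0) (x : Γ) (hx : x ≠ 0) :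
    x ∈ cone ℓ ∨ -x ∈ cone ℓ := by
  have hne : {k | ℓ k x ≠ 0}.Nonempty := by
    by_contra h
    apply hx
    apply hinj
    intro k
    by_contra hk
    exact h ⟨k, hk⟩
  obtain ⟨k, hk, hmin⟩ := (wellFounded_lt (α := Fin (n + 1))).has_min _ hne
  have hz : ∀ k' < k, ℓ k' x = 0 := by
    intro k' hk'
    by_contra h
    exact hmin k' h hk'
  rcases lt_or_gt_of_ne hk with h | h
  · right
    refine ⟨k, ?_, ?_⟩
    · rw [map_neg]; linarith
    · intro k' hk'
      rw [map_neg, hz k' hk', neg_zero]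
  · left
    exact ⟨k, h, hz⟩

theorem neg_not_mem (x : Γ) (hx : x ∈ cone ℓ) : -x ∉ cone ℓ := by
  obtain ⟨k, hk, hk'⟩ := hx
  rintro ⟨m, hm, hm'⟩
  rw [map_neg] at hm
  rcases lt_trichotomy k m with h | h | h
  · have := hm' k h
    rw [map_neg] at this
    linarith
  · subst h; linarith
  · have := hk' m h
    linarith

end cone

theorem main {ι M N : Type*} [AddCommGroup M] [AddCommGroup N]
    (P : RootPairing ι ℤ M N) [Finite ι] (b : P.Base) :
    ∃ C : Set ↥(Submodule.span ℤ (Set.range P.root)),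
      0 ∉ C ∧ (∀ x ∈ C, ∀ y ∈ C, x + y ∈ C) ∧ (∀ x, x ≠ 0 → (x ∈ C ∨ -x ∈ C)) ∧ (∀ x ∈ C, -x ∉ C) ∧
      (∀ i : ι, (⟨P.root i, Submodule.subset_span (Set.mem_range_self i)⟩ : ↥(Submodule.span ℤ (Set.range P.root))) ∈ C ↔
        b.IsPos i) ∧
      ∀ φ : ↥(Submodule.span ℤ (Set.range P.root)) →+ ℤ,
        (∀ j ∈ b.support, φ ⟨P.root j, Submodule.subset_span (Set.mem_range_self j)⟩ = 1) →
        ∀ x y : ↥(Submodule.span ℤ (Set.range P.root)), y - x ∈ C → φ x ≤ φ y := by
  classical
  obtain ⟨B, hB⟩ : ∃ B : Basis b.support ℤ (P.rootSpan ℤ), B = b.toWeightBasisInt := ⟨_, rfl⟩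
  have hBapp : ∀ j : b.support, B j = P.rootSpanMem ℤ j := by
    intro j
    apply Subtype.ext
    rw [hB]
    exact b.coe_toWeightBasisInt_apply j
  let ht : (P.rootSpan ℤ) →ₗ[ℤ] ℤ := ∑ j : b.support, B.coord j
  have ht_apply : ∀ x, ht x = ∑ j : b.support, B.repr x j := by
    intro x
    simp [ht, LinearMap.sum_apply]
  have ht_basis : ∀ j : b.support, ht (B j) = 1 := by
    intro j
    rw [ht_apply]
    simp [Finsupp.single_apply]
  obtain ⟨n, hn⟩ : ∃ n, n = Fintype.card b.support := ⟨_, rfl⟩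
  let e : b.support ≃ Fin n := hn ▸ Fintype.equivFin b.support
  let ℓ : Fin (n + 1) → ((P.rootSpan ℤ) →ₗ[ℤ] ℤ) :=
    Fin.cons ht (fun k => B.coord (e.symm k))
  have hℓ0 : ℓ 0 = ht := rfl
  have hℓs : ∀ k : Fin n, ℓ k.succ = B.coord (e.symm k) := fun k => by simp [ℓ]
  have hinj : ∀ x, (∀ k, ℓ k x = 0) → x = 0 := by
    intro x hx
    apply B.ext_elem
    intro j
    have := hx (e j).succ
    rw [hℓs, Equiv.symm_apply_apply] at this
    simpa using this
  -- height of a root
  have hroot : ∀ i : ι, ht (P.rootSpanMem ℤ i) = b.height i := by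
    intro i
    let f : ι → ℤ := fun j => if h : j ∈ b.support then B.repr (P.rootSpanMem ℤ i) ⟨j, h⟩ else 0
    have heq : P.root i = ∑ j ∈ b.support, f j • P.root j := by
      have h1 := B.sum_repr (P.rootSpanMem ℤ i)
      have h2 := congrArg Subtype.val h1
      rw [Submodule.coe_sum] at h2
      rw [← Finset.sum_coe_sort b.support (fun j => f j • P.root j)]
      rw [show (P.rootSpanMem ℤ i : M) = P.root i from rfl] at h2
      rw [← h2]
      apply Finset.sum_congr rfl
      intro j _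
      rw [Submodule.coe_smul, hBapp]
      simp [f]
    rw [RootPairing.Base.height_eq_sum heq, ht_apply,
      ← Finset.sum_coe_sort b.support (fun j => f j)]
    apply Finset.sum_congr rfl
    intro j _
    simp [f]
  refine ⟨cone ℓ, zero_not_mem ℓ, fun x hx y hy => add_mem ℓ x y hx hy, mem_or_neg_mem ℓ hinj, neg_not_mem ℓ, ?_, ?_⟩
  · intro i
    constructor
    · rintro ⟨k, hk, hk'⟩
      rw [RootPairing.Base.isPos_iff]
      by_cases h0 : k = 0
      · rw [h0, hℓ0] at hk
        rw [← hroot]; exact hk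
      · exfalso
        have := hk' 0 (Fin.pos_of_ne_zero h0)
        rw [hℓ0] at this
        exact b.height_ne_zero i ((hroot i).symm.trans this)
    · intro hpos
      rw [RootPairing.Base.isPos_iff, ← hroot] at hpos
      exact ⟨0, hpos, fun k' hk' => absurd hk' (Fin.not_lt_zero k')⟩
  · intro φ hφ x y hC
    have hφht : φ.toIntLinearMap = ht := by
      apply B.ext
      intro j
      rw [ht_basis, hBapp]
      exact hφ j j.2
    have h1 : 0 ≤ ht (y - x) := by
      obtain ⟨k, hk, hk'⟩ := hC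
      by_cases h0 : k = 0
      · rw [h0, hℓ0] at hk; exact hk.le
      · have := hk' 0 (Fin.pos_of_ne_zero h0)
        rw [hℓ0] at this
        rw [this]
    rw [← hφht, map_sub] at h1
    have h2 : φ.toIntLinearMap y = φ y := rfl
    have h3 : φ.toIntLinearMap x = φ x := rfl
    rw [h2, h3] at h1
    linarith


end


/-- Let Δ be a system of simple roots (a base b of a root pairing P over ℤ) and Γ₀ the subgroup
generated by the roots. Then Γ₀ has a structure of totally ordered group for which the roots > 0 are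
exactly the positive roots defined by Δ and for which the height (the additive function with value 1
on each simple root) is monotone. The order is given here by its positive cone C ⊆ Γ₀: 0 ∉ C, C + C
⊆ C, and for every x ≠ 0 exactly one of x, −x lies in C (x < y meaning y − x ∈ C). -/
theorem result {ι M N : Type*} [AddCommGroup M] [AddCommGroup N]
    (P : RootPairing ι ℤ M N) [Finite ι] (b : P.Base) :
    ∃ C : Set ↥(Submodule.span ℤ (Set.range P.root)),
      0 ∉ C ∧ (∀ x ∈ C, ∀ y ∈ C, x + y ∈ C) ∧ (∀ x, x ≠ 0 → (x ∈ C ∨ -x ∈ C)) ∧ (∀ x ∈ C, -x ∉ C) ∧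
      (∀ i : ι, (⟨P.root i, Submodule.subset_span (Set.mem_range_self i)⟩ : ↥(Submodule.span ℤ (Set.range P.root))) ∈ C ↔
        b.IsPos i) ∧
      ∀ φ : ↥(Submodule.span ℤ (Set.range P.root)) →+ ℤ,
        (∀ j ∈ b.support, φ ⟨P.root j, Submodule.subset_span (Set.mem_range_self j)⟩ = 1) →
        ∀ x y : ↥(Submodule.span ℤ (Set.range P.root)), y - x ∈ C → φ x ≤ φ y := by
  classical
  exact main P b

end Groth.Agent.S12076
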