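import Groth.Statements.S12077
import Mathlib

set_option autoImplicit false
universe u
open Polynomial
open CAlg

namespace Groth.Agent.S12077

section
open Polynomial

/-- adjoining a root of a monic positive-degree polynomial is injective -/
lemma adjoinRoot_inj {B : Type u} [CommRing B] (g : B[X]) (hg : g.Monic) (hd : 0 < g.natDegree) :
    Function.Injective (AdjoinRoot.of g) := by
  rw [injective_iff_map_eq_zero]
  intro b hb
  rw [AdjoinRoot.of, RingHom.comp_apply, AdjoinRoot.mk_eq_zero] at hb
  by_contra hne
  have hC : (C b : B[X]) ≠ 0 := fun h => hne (C_eq_zero.mp h)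
  exact hg.not_dvd_of_natDegree_lt hC (by rw [natDegree_C]; exact hd) hb

/-- For a finite set of monic positive-degree polynomials, an injective extension with roots. -/
lemma exists_ext {A : Type u} [CommRing A] {ι : Type*} (P : ι → A[X]) (hm : ∀ i, (P i).Monic)
    (hd : ∀ i, 0 < (P i).natDegree) (s : Finset ι) :
    ∃ (B : Type u) (_ : CommRing B) (φ : A →+* B), Function.Injective φ ∧
      ∀ i ∈ s, ∃ b : B, eval₂ φ b (P i) = 0 := by
  classical
  induction s using Finset.induction_on with
  | empty => exact ⟨A, inferInstance, RingHom.id A, fun _ _ h => h, by simp⟩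
  | insert i s hi ih =>
    obtain ⟨B, _, φ, hφ, hroot⟩ := ih
    let g : B[X] := (P i).map φ
    have hg : g.Monic := (hm i).map φ
    have hgd : 0 < g.natDegree := by
      have hnt : Nontrivial B := by
        have : Nontrivial A := by
          by_contra h
          rw [not_nontrivial_iff_subsingleton] at h
          have := hd i
          rw [Subsingleton.elim (P i) 0, natDegree_zero] at this
          exact lt_irrefl _ this
        exact hφ.nontrivial
      rw [(hm i).natDegree_map φ]; exact hd i
    refine ⟨AdjoinRoot g, inferInstance, (AdjoinRoot.of g).comp φ,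
      (adjoinRoot_inj g hg hgd).comp hφ, ?_⟩
    intro j hj
    rcases Finset.mem_insert.mp hj with rfl | hj
    · refine ⟨AdjoinRoot.root g, ?_⟩
      rw [← eval₂_map]
      exact AdjoinRoot.eval₂_root g
    · obtain ⟨b, hb⟩ := hroot j hj
      refine ⟨AdjoinRoot.of g b, ?_⟩
      rw [← hom_eval₂, hb, map_zero]

/-- General injectivity lemma. -/
lemma inj_quot {A : Type u} [CommRing A] {ι : Type*} (P : ι → A[X]) (hm : ∀ i, (P i).Monic)
    (hd : ∀ i, 0 < (P i).natDegree) :
    Function.Injective (algebraMap A (MvPolynomial ι A ⧸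
      Ideal.span (Set.range fun i => Polynomial.aeval (MvPolynomial.X (R := A) i) (P i)))) := by
  classical
  rw [injective_iff_map_eq_zero]
  intro a ha
  rw [IsScalarTower.algebraMap_apply A (MvPolynomial ι A), Ideal.Quotient.algebraMap_eq,
    Ideal.Quotient.eq_zero_iff_mem] at ha
  rw [Ideal.span, Submodule.mem_span_iff_exists_finset_subset] at ha
  obtain ⟨c, t, ht, hc, hsum⟩ := ha
  -- finite set of indices
  choose idx hidx using fun x : {x // x ∈ t} => ht x.2
  let s : Finset ι := t.attach.image idx
  obtain ⟨B, _, φ, hφ, hroot⟩ := exists_ext P hm hd s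
  choose! b hb using hroot
  let ψ : MvPolynomial ι A →+* B := MvPolynomial.eval₂Hom φ (fun i => if i ∈ s then b i else 0)
  have hψ : ∀ x ∈ t, ψ x = 0 := by
    intro x hx
    have hx' := hidx ⟨x, hx⟩
    have his : idx ⟨x, hx⟩ ∈ s := Finset.mem_image_of_mem idx (Finset.mem_attach _ _)
    simp only at hx'
    rw [← hx']
    simp only [ψ]
    rw [Polynomial.aeval_def, Polynomial.hom_eval₂]
    simp only [MvPolynomial.coe_eval₂Hom, MvPolynomial.eval₂_X, if_pos his]
    have : (MvPolynomial.eval₂Hom φ fun i => if i ∈ s then b i else 0).comp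
        (algebraMap A (MvPolynomial ι A)) = φ := by
      ext a; simp
    rw [this]
    exact hb _ his
  have h0 : ψ (algebraMap A (MvPolynomial ι A) a) = 0 := by
    rw [← hsum, map_sum]
    refine Finset.sum_eq_zero fun x hx => ?_
    rw [smul_eq_mul, map_mul, hψ x hx, mul_zero]
  have h1 : ψ (algebraMap A (MvPolynomial ι A) a) = φ a := by simp [ψ]
  rw [h1] at h0
  exact hφ (by rw [h0, map_zero])

lemma exists_root_of_monic {A : Type u} [CommRing A] (p : Ideal A) [p.IsPrime] {E : Type*} [Field E]
    [Algebra A E] [Algebra p.ResidueField E] [IsScalarTower A p.ResidueField E]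
    (hroot : ∀ P : A[X], P.Monic → 0 < P.natDegree → ∃ x : E, aeval x P = 0)
    (g : p.ResidueField[X]) (hg : g.Monic) (hgd : 0 < g.natDegree) : ∃ x : E, aeval x g = 0 := by
  obtain ⟨b, hb⟩ := IsLocalization.exist_integer_multiples_of_finite (nonZeroDivisors (A ⧸ p))
    (fun i : Fin (g.natDegree + 1) => g.coeff i)
  obtain ⟨β, hβ⟩ : ∃ β, β = algebraMap (A ⧸ p) p.ResidueField b := ⟨_, rfl⟩
  have hβ0 : β ≠ 0 := by
    rw [hβ]
    intro h
    have := (IsFractionRing.injective (A ⧸ p) p.ResidueField) (h.trans (map_zero _).symm)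
    exact nonZeroDivisors.ne_zero b.2 this
  have hlift : scaleRoots g β ∈ Polynomial.lifts (algebraMap A p.ResidueField) := by
    rw [Polynomial.lifts_iff_coeff_lifts]
    intro i
    rw [coeff_scaleRoots]
    rcases lt_trichotomy i g.natDegree with hi | hi | hi
    · obtain ⟨y, hy⟩ := hb ⟨i, by omega⟩
      obtain ⟨y, rfl⟩ := Ideal.Quotient.mk_surjective y
      obtain ⟨b0, hb0⟩ := Ideal.Quotient.mk_surjective (b : A ⧸ p)
      obtain ⟨m, hm⟩ : ∃ m, g.natDegree - i = m + 1 := ⟨g.natDegree - i - 1, by omega⟩
      refine ⟨y * b0 ^ m, ?_⟩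
      have e1 : algebraMap A p.ResidueField b0 = β := by
        rw [hβ, ← hb0]; rfl
      have e2 : algebraMap A p.ResidueField y = β * g.coeff i := by
        have : algebraMap A p.ResidueField y =
            algebraMap (A ⧸ p) p.ResidueField (Ideal.Quotient.mk p y) := rfl
        rw [this, hy, Algebra.smul_def, hβ]
      rw [map_mul, map_pow, e1, e2]
      rw [hm, pow_succ]
      ring
    · subst hi
      refine ⟨1, ?_⟩
      rw [map_one, Nat.sub_self, pow_zero, mul_one]
      exact hg.coeff_natDegree.symm
    · refine ⟨0, ?_⟩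
      rw [map_zero, coeff_eq_zero_of_natDegree_lt hi, zero_mul]
  have hmon : (scaleRoots g β).Monic := (monic_scaleRoots_iff β).mpr hg
  obtain ⟨P, hP, hPdeg, hPm⟩ := Polynomial.lifts_and_degree_eq_and_monic hlift hmon
  have hPnd : 0 < P.natDegree := by
    rw [natDegree_eq_of_degree_eq hPdeg, natDegree_scaleRoots]; exact hgd
  obtain ⟨x, hx⟩ := hroot P hPm hPnd
  have hx' : aeval x (scaleRoots g β) = 0 := by
    rw [← hP, Polynomial.aeval_map_algebraMap]; exact hx
  refine ⟨x / algebraMap p.ResidueField E β, ?_⟩
  have hfβ : algebraMap p.ResidueField E β ≠ 0 := by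
    intro h
    exact hβ0 ((algebraMap p.ResidueField E).injective (h.trans (map_zero _).symm))
  have key := scaleRoots_eval₂_mul (p := g) (algebraMap p.ResidueField E)
    (x / algebraMap p.ResidueField E β) β
  rw [mul_div_cancel₀ _ hfβ] at key
  rw [Polynomial.aeval_def] at hx' ⊢
  rw [hx'] at key
  exact (mul_eq_zero.mp key.symm).resolve_left (pow_ne_zero _ hfβ)

section main
variable (A : Type u) [CommRing A]

abbrev Idx := {P : Polynomial A // P.Monic ∧ 0 < P.natDegree}
noncomputable abbrev II : Ideal (MvPolynomial (Idx A) A) :=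
  Ideal.span (Set.range fun P : Idx A => Polynomial.aeval (MvPolynomial.X (R := A) P) P.1)
abbrev TT := MvPolynomial (Idx A) A ⧸ II A

lemma root_T (P : Idx A) :
    aeval (Ideal.Quotient.mk (II A) (MvPolynomial.X P)) P.1 = 0 := by
  have h1 : aeval (Ideal.Quotient.mk (II A) (MvPolynomial.X P)) P.1 =
      Ideal.Quotient.mk (II A) (aeval (MvPolynomial.X (R := A) P) P.1) := by
    rw [Polynomial.aeval_def, Polynomial.aeval_def, Polynomial.hom_eval₂]
    rfl
  rw [h1, Ideal.Quotient.eq_zero_iff_mem]
  exact Ideal.subset_span ⟨P, rfl⟩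

lemma isIntegral_T : Algebra.IsIntegral A (TT A) := by
  refine ⟨fun t => ?_⟩
  obtain ⟨q, rfl⟩ := Ideal.Quotient.mk_surjective t
  induction q using MvPolynomial.induction_on with
  | C a => exact isIntegral_algebraMap (x := a)
  | add p q hp hq => rw [map_add]; exact hp.add hq
  | mul_X p i hp =>
    rw [map_mul]
    exact hp.mul ⟨i.1, i.2.1, root_T A i⟩

lemma inj_T : Function.Injective (algebraMap A (TT A)) :=
  inj_quot (fun P : Idx A => P.1) (fun P => P.2.1) (fun P => P.2.2)

end main

open CategoryTheory

noncomputable def seq (A : Type u) [CommRing A] : ℕ → CommRingCat.{u}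
  | 0 => CommRingCat.of A
  | n+1 => CommRingCat.of (TT (seq A n))

noncomputable def step (A : Type u) [CommRing A] (n : ℕ) : seq A n ⟶ seq A (n+1) :=
  CommRingCat.ofHom (algebraMap (seq A n) (TT (seq A n)))

lemma step_inj (A : Type u) [CommRing A] (n : ℕ) : Function.Injective (step A n).hom :=
  inj_T (seq A n)

noncomputable def tr (A : Type u) [CommRing A] (i j : ℕ) (h : i ≤ j) : seq A i →+* seq A j :=
  (Functor.OfSequence.map (step A) i j h).hom

lemma tr_id (A : Type u) [CommRing A] (i : ℕ) (x : seq A i) : tr A i i le_rfl x = x := by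
  unfold tr
  rw [Functor.OfSequence.map_id]
  rfl

lemma tr_comp (A : Type u) [CommRing A] (i j k : ℕ) (hij : i ≤ j) (hjk : j ≤ k) (x : seq A i) :
    tr A j k hjk (tr A i j hij x) = tr A i k (hij.trans hjk) x := by
  unfold tr
  rw [Functor.OfSequence.map_comp (step A) i j k hij hjk]
  rfl

lemma tr_succ (A : Type u) [CommRing A] (i : ℕ) : tr A i (i+1) (Nat.le_succ i) = (step A i).hom := by
  unfold tr
  rw [Functor.OfSequence.map_le_succ]

instance dirsys (A : Type u) [CommRing A] :
    DirectedSystem (fun n => (seq A n : Type u)) (fun i j h => tr A i j h) where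
  map_self i x := tr_id A i x
  map_map k j i hij hjk x := tr_comp A i j k hij hjk x

lemma tr_inj (A : Type u) [CommRing A] (i j : ℕ) (h : i ≤ j) : Function.Injective (tr A i j h) := by
  induction j, h using Nat.le_induction with
  | base => intro x y hxy; rwa [tr_id, tr_id] at hxy
  | succ j hij ih =>
    intro x y hxy
    rw [← tr_comp A i j (j+1) hij (Nat.le_succ j), ← tr_comp A i j (j+1) hij (Nat.le_succ j),
      tr_succ] at hxy
    exact ih (step_inj A j hxy)

lemma exists_root_stage (A : Type u) [CommRing A] (i : ℕ) (q : (seq A i)[X]) (hq : q.Monic)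
    (hd : 0 < q.natDegree) :
    ∃ x : seq A (i+1), eval₂ (tr A i (i+1) (Nat.le_succ i)) x q = 0 := by
  rw [tr_succ]
  exact ⟨Ideal.Quotient.mk (II (seq A i)) (MvPolynomial.X ⟨q, hq, hd⟩),
    root_T (seq A i) ⟨q, hq, hd⟩⟩

abbrev BB (A : Type u) [CommRing A] : Type u :=
  Ring.DirectLimit (fun n => (seq A n : Type u)) (fun i j h => tr A i j h)

lemma root_B (A : Type u) [CommRing A] (f : (BB A)[X]) (hf : f.Monic) (hd : 0 < f.natDegree) :
    ∃ b : BB A, f.IsRoot b := by
  rcases subsingleton_or_nontrivial (BB A) with hs | hn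
  · exfalso
    rw [Subsingleton.elim f 0, natDegree_zero] at hd
    exact lt_irrefl _ hd
  obtain ⟨i, p0, hp0⟩ := Ring.DirectLimit.Polynomial.exists_of f
  have hlift : f ∈ Polynomial.lifts
      (Ring.DirectLimit.of (fun n => (seq A n : Type u)) (fun i j h => tr A i j h) i) := by
    rw [Polynomial.mem_lifts]; exact ⟨p0, hp0⟩
  obtain ⟨q, hq, hdeg, hqm⟩ := Polynomial.lifts_and_degree_eq_and_monic hlift hf
  have hqd : 0 < q.natDegree := by rw [natDegree_eq_of_degree_eq hdeg]; exact hd
  obtain ⟨x, hx⟩ := exists_root_stage A i q hqm hqd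
  refine ⟨Ring.DirectLimit.of (fun n => (seq A n : Type u)) (fun i j h => tr A i j h) (i+1) x, ?_⟩
  rw [Polynomial.IsRoot.def, ← hq, Polynomial.eval_map]
  have : Ring.DirectLimit.of (fun n => (seq A n : Type u)) (fun i j h => tr A i j h) i =
      (Ring.DirectLimit.of (fun n => (seq A n : Type u)) (fun i j h => tr A i j h) (i+1)).comp
        (tr A i (i+1) (Nat.le_succ i)) := by
    ext y
    simp [Ring.DirectLimit.of_f]
  rw [this, ← Polynomial.hom_eval₂, hx, map_zero]

lemma splits_B (A : Type u) [CommRing A] : ∀ (n : ℕ) (f : (BB A)[X]), f.Monic → f.natDegree = n →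
    ∃ s : Multiset (BB A), f = (s.map fun b => X - C b).prod := by
  intro n
  induction n with
  | zero =>
    intro f hf hn
    refine ⟨0, ?_⟩
    rw [Multiset.map_zero, Multiset.prod_zero]
    exact hf.natDegree_eq_zero.mp hn
  | succ n ih =>
    intro f hf hn
    obtain ⟨b, hb⟩ := root_B A f hf (by omega)
    have hmul := (Polynomial.mul_divByMonic_eq_iff_isRoot (p := f) (a := b)).mpr hb
    have hqm : (f /ₘ (X - C b)).Monic := by
      rcases subsingleton_or_nontrivial (BB A) with hs | hn'
      · exact Subsingleton.elim _ _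
      have := hf
      rw [← hmul] at this
      exact (monic_X_sub_C b).of_mul_monic_left this
    have hqd : (f /ₘ (X - C b)).natDegree = n := by
      rcases subsingleton_or_nontrivial (BB A) with hs | hn'
      · exfalso
        rw [Subsingleton.elim f 0, natDegree_zero] at hn
        omega
      rw [Polynomial.natDegree_divByMonic f (monic_X_sub_C b), natDegree_X_sub_C, hn]
      omega
    obtain ⟨s, hs⟩ := ih _ hqm hqd
    refine ⟨b ::ₘ s, ?_⟩
    rw [Multiset.map_cons, Multiset.prod_cons, ← hs, hmul]

theorem main (A : Type u) [CommRing A] :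
    ∃ (B : Type u) (_ : CommRing B) (_ : Algebra A B), Function.Injective (algebraMap A B) ∧
      ∀ f : B[X], f.Monic → ∃ s : Multiset B, f = (s.map fun b => X - C b).prod := by
  refine ⟨BB A, inferInstance,
    (Ring.DirectLimit.of (fun n => (seq A n : Type u)) (fun i j h => tr A i j h) 0).toAlgebra, ?_, ?_⟩
  · exact Ring.DirectLimit.of_injective (fun i j h => tr A i j h) (fun i j h => tr_inj A i j h) 0
  · intro f hf
    exact splits_B A f.natDegree f hf rfl


end


/-- Every commutative ring `A` admits an injective ring map into an absolutely integrally closed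
commutative ring `B`, that is, one over which every monic polynomial is a product of linear factors
`X - b`. (Only the existence of such an extension is stated, not the finer structure of the
construction.) -/
theorem result (A : Type u) [CommRing A] :
    ∃ (B : Type u) (_ : CommRing B) (_ : Algebra A B), Function.Injective (algebraMap A B) ∧
      ∀ f : B[X], f.Monic → ∃ s : Multiset B, f = (s.map fun b => X - C b).prod := by
  classical
  exact main A

end Groth.Agent.S12077
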