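import Groth.Statements.S12078
import Mathlib

set_option autoImplicit false
universe u
open CAlg

namespace Groth.Agent.S12078

/-- An elementary divisor domain is Bézout. Here `R` is a domain such that for all `n, m ≥ 1` and every
`n × m` matrix `A` there are invertible matrices `U` (`n × n`) and `V` (`m × m`) with `U * A * V`
zero off the diagonal and with diagonal entries `f 0 ∣ f 1 ∣ f 2 ∣ …`; the conclusion is that every
finitely generated ideal of `R` is principal. -/
theorem result (R : Type u) [CommRing R] [IsDomain R]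
    (hR : ∀ n m : ℕ, 1 ≤ n → 1 ≤ m → ∀ A : Matrix (Fin n) (Fin m) R,
      ∃ (U : (Matrix (Fin n) (Fin n) R)ˣ) (V : (Matrix (Fin m) (Fin m) R)ˣ) (f : ℕ → R),
        (∀ k : ℕ, f k ∣ f (k + 1)) ∧
        ∀ (i : Fin n) (j : Fin m), ((U : Matrix (Fin n) (Fin n) R) * A * (V : Matrix (Fin m) (Fin m) R)) i j =
          if (i : ℕ) = (j : ℕ) then f i else 0) :
    IsBezout R := by
  classical
  rw [IsBezout.iff_span_pair_isPrincipal]
  intro a b
  let A : Matrix (Fin 1) (Fin 2) R := Matrix.of fun _ j => if j = 0 then a else b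
  obtain ⟨U, V, f, _, hUV⟩ := hR 1 2 le_rfl (by norm_num) A
  -- W = inverse of V
  set Vm : Matrix (Fin 2) (Fin 2) R := (V : Matrix (Fin 2) (Fin 2) R) with hVm
  set Wm : Matrix (Fin 2) (Fin 2) R := ((V⁻¹ : (Matrix (Fin 2) (Fin 2) R)ˣ) : Matrix (Fin 2) (Fin 2) R) with hWm
  set Um : Matrix (Fin 1) (Fin 1) R := (U : Matrix (Fin 1) (Fin 1) R) with hUm
  set Ui : Matrix (Fin 1) (Fin 1) R := ((U⁻¹ : (Matrix (Fin 1) (Fin 1) R)ˣ) : Matrix (Fin 1) (Fin 1) R) with hUi
  have hVW : Vm * Wm = 1 := by rw [hVm, hWm, ← Units.val_mul, mul_inv_cancel, Units.val_one]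
  have hUU : Ui * Um = 1 := by rw [hUm, hUi, ← Units.val_mul, inv_mul_cancel, Units.val_one]
  -- D := A * V = Ui * (U A V)
  set D : Matrix (Fin 1) (Fin 2) R := A * Vm with hD
  have hD' : D = Ui * (Um * A * Vm) := by
    rw [hD, ← Matrix.mul_assoc, ← Matrix.mul_assoc, hUU, Matrix.one_mul]
  have hD1 : D 0 1 = 0 := by
    rw [hD', Matrix.mul_apply]
    simp only [Fin.sum_univ_one]
    rw [hUV 0 1]
    simp
  have hAD : A = D * Wm := by
    rw [hD, Matrix.mul_assoc, hVW, Matrix.mul_one]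
  set d := D 0 0 with hd
  have hd_mem : d ∈ Ideal.span ({a, b} : Set R) := by
    have : d = a * Vm 0 0 + b * Vm 1 0 := by
      rw [hd, hD, Matrix.mul_apply, Fin.sum_univ_two]
      simp [A]
    rw [this]
    apply Ideal.add_mem
    · exact Ideal.mul_mem_right _ _ (Ideal.subset_span (by simp))
    · exact Ideal.mul_mem_right _ _ (Ideal.subset_span (by simp))
  have ha : a = d * Wm 0 0 := by
    have h1 : A 0 0 = (D * Wm) 0 0 := by rw [← hAD]
    rw [Matrix.mul_apply, Fin.sum_univ_two, hD1, zero_mul, add_zero] at h1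
    simpa [A] using h1
  have hb : b = d * Wm 0 1 := by
    have h1 : A 0 1 = (D * Wm) 0 1 := by rw [← hAD]
    rw [Matrix.mul_apply, Fin.sum_univ_two, hD1, zero_mul, add_zero] at h1
    simpa [A] using h1
  refine ⟨⟨d, ?_⟩⟩
  apply le_antisymm
  · rw [Ideal.span_le]
    intro x hx
    rcases hx with rfl | hx
    · rw [ha]; exact Ideal.mul_mem_right _ _ (Ideal.subset_span rfl)
    · rw [Set.mem_singleton_iff] at hx
      rw [hx, hb]; exact Ideal.mul_mem_right _ _ (Ideal.subset_span rfl)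
  · rw [Ideal.submodule_span_eq, Ideal.span_le]
    intro x hx
    rw [Set.mem_singleton_iff] at hx
    rw [hx]; exact hd_mem

end Groth.Agent.S12078
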