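import Groth.Statements.S12079
import Mathlib

set_option autoImplicit false
universe u
open TensorProduct
open CAlg

namespace Groth.Agent.S12079

section
variable (R : Type u) [CommRing R] (N L : Type u) [AddCommGroup N] [Module R N] [AddCommGroup L] [Module R L]

/-- naturality of the comparison map in the first variable -/
theorem theta_nat {M M' : Type u} [AddCommGroup M] [Module R M] [AddCommGroup M'] [Module R M']
    (v : M' →ₗ[R] M) (t : (M →ₗ[R] N) ⊗[R] L) :
    TensorProduct.rTensorHomToHomRTensor (RingHom.id R) M' N L ((LinearMap.lcomp R N v).rTensor L t) =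
      (TensorProduct.rTensorHomToHomRTensor (RingHom.id R) M N L t).comp v := by
  induction t using TensorProduct.induction_on with
  | zero => simp only [map_zero, LinearMap.zero_comp]
  | add x y hx hy => simp only [map_add, hx, hy, LinearMap.add_comp]
  | tmul f l =>
    apply LinearMap.ext
    intro m
    rw [LinearMap.rTensor_tmul, TensorProduct.rTensorHomToHomRTensor_apply, LinearMap.comp_apply,
      TensorProduct.rTensorHomToHomRTensor_apply, LinearMap.lcomp_apply]

theorem theta_bij_free (n : ℕ) :
    Function.Bijective (TensorProduct.rTensorHomToHomRTensor (RingHom.id R) (Fin n → R) N L) := by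
  have := (rTensorHomEquivHomRTensor R (Fin n → R) N L).bijective
  convert this using 1
  funext x
  exact (rTensorHomEquivHomRTensor_apply x).symm

end

/-- For a finitely presented `R`-module `M`, any `R`-module `N` and a flat `R`-module `L`, the canonical
map `Hom_R(M, N) ⊗_R L → Hom_R(M, N ⊗_R L)` sending `f ⊗ l` to `m ↦ f m ⊗ l` is bijective. -/
theorem result (R : Type u) [CommRing R]
    (M N L : Type u) [AddCommGroup M] [Module R M] [AddCommGroup N] [Module R N] [AddCommGroup L] [Module R L]
    [Module.FinitePresentation R M] [Module.Flat R L] :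
    Function.Bijective (TensorProduct.rTensorHomToHomRTensor (RingHom.id R) M N L) := by
  classical
  obtain ⟨n, m, f, g, hf, hgf⟩ := Module.FinitePresentation.exists_fin' R M
  -- exactness of the Hom sequence
  have hex : Function.Exact (LinearMap.lcomp R N f) (LinearMap.lcomp R N g) := by
    intro φ
    constructor
    · intro hφ
      -- φ ∘ g = 0, so φ factors through M
      have hker : LinearMap.ker f ≤ LinearMap.ker φ := by
        intro x hx
        obtain ⟨y, rfl⟩ := (hgf x).1 hx
        have := LinearMap.congr_fun hφ y
        exact this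
      refine ⟨(LinearMap.ker f).liftQ φ hker ∘ₗ (f.quotKerEquivOfSurjective hf).symm.toLinearMap, ?_⟩
      apply LinearMap.ext
      intro x
      rw [LinearMap.lcomp_apply, LinearMap.comp_apply]
      have h1 : (f.quotKerEquivOfSurjective hf).symm (f x) = Submodule.Quotient.mk x := by
        rw [LinearEquiv.symm_apply_eq]
        rfl
      rw [LinearEquiv.coe_coe, h1, Submodule.liftQ_apply]
    · rintro ⟨ψ, rfl⟩
      apply LinearMap.ext
      intro y
      rw [LinearMap.lcomp_apply, LinearMap.lcomp_apply, LinearMap.zero_apply]
      have : f (g y) = 0 := (hgf (g y)).2 ⟨y, rfl⟩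
      rw [this, map_zero]
  have hexL := Module.Flat.rTensor_exact L hex
  have hinj : Function.Injective (LinearMap.lcomp R N f) := by
    intro φ ψ h
    apply LinearMap.ext
    intro x
    obtain ⟨y, rfl⟩ := hf x
    exact LinearMap.congr_fun h y
  have hinj' : Function.Injective (LinearMap.lcomp R (N ⊗[R] L) f) := by
    intro φ ψ h
    apply LinearMap.ext
    intro x
    obtain ⟨y, rfl⟩ := hf x
    exact LinearMap.congr_fun h y
  have hinjL : Function.Injective ((LinearMap.lcomp R N f).rTensor L) :=
    Module.Flat.rTensor_preserves_injective_linearMap _ hinj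
  constructor
  · -- injective
    intro s s' hss
    apply hinjL
    apply (theta_bij_free R N L n).1
    rw [theta_nat, theta_nat, hss]
  · intro φ
    obtain ⟨t, ht⟩ := (theta_bij_free R N L n).2 (φ.comp f)
    have h0 : (LinearMap.lcomp R N g).rTensor L t = 0 := by
      apply (theta_bij_free R N L m).1
      rw [theta_nat, ht, map_zero]
      apply LinearMap.ext
      intro y
      rw [LinearMap.comp_apply, LinearMap.comp_apply, LinearMap.zero_apply]
      have : f (g y) = 0 := (hgf (g y)).2 ⟨y, rfl⟩
      rw [this, map_zero]
    obtain ⟨s, hs⟩ := (hexL t).1 h0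
    refine ⟨s, ?_⟩
    apply hinj'
    show (TensorProduct.rTensorHomToHomRTensor (RingHom.id R) M N L s).comp f = φ.comp f
    rw [← theta_nat, hs, ht]

end Groth.Agent.S12079
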