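import Groth.Statements.S12080
import Mathlib

set_option autoImplicit false
universe u
open TensorProduct
open CAlg

namespace Groth.Agent.S12080

section
variable (R : Type u) [CommRing R] (M : Type u) [AddCommGroup M] [Module R M]

theorem smul_mk_one (f : R) (m : M) (k : ℕ) :
    (f ^ k) • (LocalizedModule.mk m (⟨f ^ k, k, rfl⟩ : Submonoid.powers f)) =
      LocalizedModule.mk m (1 : Submonoid.powers f) := by
  rw [LocalizedModule.smul'_mk, LocalizedModule.mk_eq]
  refine ⟨1, ?_⟩
  simp [Submonoid.smul_def]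

theorem local_data [Module.FinitePresentation R M] (f : R)
    (ε : LocalizedModule.Away f M ≃ₗ[Localization.Away f] Localization.Away f) :
    ∃ (m₀ : M) (l₀ : M →ₗ[R] R), (∃ N : ℕ, l₀ m₀ = f ^ N) ∧
      ∀ m : M, ∃ (n : ℕ) (c : R), f ^ n • m = c • m₀ := by
  obtain ⟨m₀, k, hx⟩ : ∃ (m₀ : M) (k : ℕ),
      LocalizedModule.mk m₀ (⟨f ^ k, k, rfl⟩ : Submonoid.powers f) = ε.symm 1 := by
    induction (ε.symm 1) using LocalizedModule.induction_on with
    | h m s =>
      obtain ⟨s, k, rfl⟩ := s
      exact ⟨m, k, rfl⟩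
  -- ε (mk m₀ 1) = f^k
  have h1 : ε (LocalizedModule.mk m₀ (1 : Submonoid.powers f)) = algebraMap R (Localization.Away f) (f ^ k) := by
    rw [← smul_mk_one R M f m₀ k, hx]
    rw [← algebraMap_smul (Localization.Away f) (f ^ k) (ε.symm 1), map_smul, LinearEquiv.apply_symm_apply,
      smul_eq_mul, mul_one]
  -- the R-linear map g = ε ∘ ι
  let g : M →ₗ[R] Localization.Away f :=
    (ε.toLinearMap.restrictScalars R) ∘ₗ (LocalizedModule.mkLinearMap (Submonoid.powers f) M)
  have hg : ∀ m, g m = ε (LocalizedModule.mk m (1 : Submonoid.powers f)) := fun m => rfl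
  obtain ⟨h, s₀, hs₀⟩ := Module.FinitePresentation.exists_lift_of_isLocalizedModule (Submonoid.powers f)
    (Algebra.linearMap R (Localization.Away f)) g
  obtain ⟨s₀, a, rfl⟩ := s₀
  have hs₀' : ∀ m, algebraMap R (Localization.Away f) (h m) = (f ^ a) • g m := by
    intro m
    have := LinearMap.congr_fun hs₀ m
    exact this
  -- value at m₀
  have h2 : algebraMap R (Localization.Away f) (h m₀) = algebraMap R (Localization.Away f) (f ^ (a + k)) := by
    rw [hs₀', hg, h1, Algebra.smul_def, ← map_mul, ← pow_add]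
  obtain ⟨⟨_, j, rfl⟩, hj⟩ := (IsLocalization.eq_iff_exists (Submonoid.powers f) (Localization.Away f)).1 h2
  refine ⟨m₀, (f ^ j) • h, ⟨j + (a + k), ?_⟩, ?_⟩
  · rw [LinearMap.smul_apply, smul_eq_mul, pow_add]
    exact hj
  · intro m
    obtain ⟨⟨c, ⟨_, b, rfl⟩⟩, hc⟩ := IsLocalization.surj (Submonoid.powers f) (g m)
    -- hc : g m * algebraMap (f^b) = algebraMap c
    have h3 : (f ^ b) • LocalizedModule.mk m (1 : Submonoid.powers f) =
        c • LocalizedModule.mk m₀ (⟨f ^ k, k, rfl⟩ : Submonoid.powers f) := by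
      apply ε.injective
      rw [hx, ← algebraMap_smul (Localization.Away f) (f ^ b), ← algebraMap_smul (Localization.Away f) c,
        map_smul, map_smul, LinearEquiv.apply_symm_apply, smul_eq_mul, smul_eq_mul, mul_one, ← hg, mul_comm]
      exact hc
    have h4 : LocalizedModule.mk ((f ^ (k + b)) • m) (1 : Submonoid.powers f) =
        LocalizedModule.mk (c • m₀) (1 : Submonoid.powers f) := by
      have e1 : LocalizedModule.mk ((f ^ (k + b)) • m) (1 : Submonoid.powers f) =
          (f ^ k) • ((f ^ b) • LocalizedModule.mk m (1 : Submonoid.powers f)) := by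
        rw [LocalizedModule.smul'_mk, LocalizedModule.smul'_mk, pow_add, mul_smul]
      have e2 : LocalizedModule.mk (c • m₀) (1 : Submonoid.powers f) =
          c • ((f ^ k) • LocalizedModule.mk m₀ (⟨f ^ k, k, rfl⟩ : Submonoid.powers f)) := by
        rw [smul_mk_one, LocalizedModule.smul'_mk]
      rw [e1, e2, h3, smul_comm]
    rw [LocalizedModule.mk_eq] at h4
    obtain ⟨⟨_, i, rfl⟩, hi⟩ := h4
    refine ⟨i + (k + b), f ^ i * c, ?_⟩
    simp only [Submonoid.smul_def, one_smul] at hi
    rw [pow_add, mul_smul, mul_smul]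
    exact hi

end

/-- (1) ⇒ (2): let `M` be a finite locally free `R`-module of rank `1`, i.e. there is a set `s ⊆ R`
generating the unit ideal with `M_f ≅ R_f` as `R_f`-modules for every `f ∈ s`. Then the evaluation
map `Hom_R(M, R) ⊗_R M → R` is bijective, so `M` is invertible with inverse its dual. -/
theorem result (R : Type u) [CommRing R] (M : Type u) [AddCommGroup M]
    [Module R M] (s : Set R) (hs : Ideal.span s = ⊤)
    (hfree : ∀ f ∈ s, Nonempty (LocalizedModule.Away f M ≃ₗ[Localization.Away f] Localization.Away f)) :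
    Module.Invertible R M := by
  classical
  have hfp : Module.FinitePresentation R M :=
    Module.FinitePresentation.of_localizationSpan s hs (fun g => by
      obtain ⟨ε⟩ := hfree g.1 g.2
      exact Module.FinitePresentation.of_equiv ε.symm)
  have hfin : Module.Finite R M := inferInstance
  have hdata : ∀ f ∈ s, ∃ (m₀ : M) (l₀ : M →ₗ[R] R), (∃ N : ℕ, l₀ m₀ = f ^ N) ∧
      ∀ m : M, ∃ (n : ℕ) (c : R), f ^ n • m = c • m₀ := by
    intro f hf
    obtain ⟨ε⟩ := hfree f hf
    exact local_data R M f ε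
  refine ⟨⟨?_, ?_⟩⟩
  · -- injective
    rw [injective_iff_map_eq_zero]
    intro t ht
    by_contra hne
    have hI : LinearMap.ker (LinearMap.toSpanSingleton R (Module.Dual R M ⊗[R] M) t) ≠ ⊤ := by
      intro htop
      have h1 : (1 : R) ∈ LinearMap.ker (LinearMap.toSpanSingleton R (Module.Dual R M ⊗[R] M) t) := by
        rw [htop]; exact Submodule.mem_top
      rw [LinearMap.mem_ker, LinearMap.toSpanSingleton_apply, one_smul] at h1
      exact hne h1
    obtain ⟨f, hfs, hdisj⟩ := Ideal.exists_disjoint_powers_of_span_eq_top s hs _ hI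
    obtain ⟨m₀, l₀, _, hgen⟩ := hdata f hfs
    -- step 1: f^n • t = μ ⊗ m₀
    have step1 : ∀ t : Module.Dual R M ⊗[R] M, ∃ (n : ℕ) (μ : Module.Dual R M), f ^ n • t = μ ⊗ₜ[R] m₀ := by
      intro t
      induction t using TensorProduct.induction_on with
      | zero => exact ⟨0, 0, by simp⟩
      | tmul l m =>
        obtain ⟨n, c, hc⟩ := hgen m
        refine ⟨n, c • l, ?_⟩
        rw [TensorProduct.smul_tmul', TensorProduct.smul_tmul, hc, ← TensorProduct.smul_tmul]
      | add x y hx hy =>
        obtain ⟨n1, μ1, h1⟩ := hx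
        obtain ⟨n2, μ2, h2⟩ := hy
        refine ⟨n1 + n2, f ^ n2 • μ1 + f ^ n1 • μ2, ?_⟩
        have e1 : f ^ (n1 + n2) • x = (f ^ n2 • μ1) ⊗ₜ[R] m₀ := by
          rw [pow_add, mul_comm, mul_smul, h1, TensorProduct.smul_tmul']
        have e2 : f ^ (n1 + n2) • y = (f ^ n1 • μ2) ⊗ₜ[R] m₀ := by
          rw [pow_add, mul_smul, h2, TensorProduct.smul_tmul']
        rw [smul_add, e1, e2, TensorProduct.add_tmul]
    obtain ⟨n, μ, hμ⟩ := step1 t
    -- μ m₀ = 0
    have hμ0 : μ m₀ = 0 := by
      have := congrArg (contractLeft R M) hμ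
      rw [map_smul, ht, smul_zero, contractLeft_apply] at this
      exact this.symm
    -- f^n' • μ = 0
    have step2 : ∃ n' : ℕ, f ^ n' • μ = 0 := by
      obtain ⟨S, hS⟩ := (Module.finite_def.1 hfin)
      have hx : ∀ x ∈ S, ∃ n : ℕ, f ^ n * μ x = 0 := by
        intro x _
        obtain ⟨n, c, hc⟩ := hgen x
        refine ⟨n, ?_⟩
        rw [← smul_eq_mul, ← map_smul, hc, map_smul, hμ0, smul_zero]
      choose! e he using hx
      refine ⟨S.sup e, ?_⟩
      apply LinearMap.ext_on_range (v := fun x : S => (x : M))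
      · rw [Subtype.range_coe_subtype]
        exact hS
      · rintro ⟨x, hxS⟩
        have hle : e x ≤ S.sup e := Finset.le_sup hxS
        obtain ⟨d, hd⟩ := Nat.exists_eq_add_of_le hle
        rw [LinearMap.smul_apply, LinearMap.zero_apply, smul_eq_mul, hd, pow_add, mul_comm (f ^ e x), mul_assoc,
          he x hxS, mul_zero]
    obtain ⟨n', hn'⟩ := step2
    have hkill : f ^ (n' + n) • t = 0 := by
      rw [pow_add, mul_smul, hμ, TensorProduct.smul_tmul', hn', TensorProduct.zero_tmul]
    have hmem : f ^ (n' + n) ∈ LinearMap.ker (LinearMap.toSpanSingleton R (Module.Dual R M ⊗[R] M) t) := by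
      rw [LinearMap.mem_ker, LinearMap.toSpanSingleton_apply]
      exact hkill
    exact Set.disjoint_left.1 hdisj hmem ⟨n' + n, rfl⟩
  · -- surjective
    rw [← LinearMap.range_eq_top]
    by_contra hne
    obtain ⟨f, hfs, hdisj⟩ := Ideal.exists_disjoint_powers_of_span_eq_top s hs
      (LinearMap.range (contractLeft R M)) hne
    obtain ⟨m₀, l₀, ⟨N, hN⟩, _⟩ := hdata f hfs
    have hmem : f ^ N ∈ LinearMap.range (contractLeft R M) := ⟨l₀ ⊗ₜ[R] m₀, by rw [contractLeft_apply, hN]⟩
    exact Set.disjoint_left.1 hdisj hmem ⟨N, rfl⟩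

end Groth.Agent.S12080
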