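import Groth.Statements.S12081
import Mathlib
import Groth.Agent.Lib.Helper4.Milnor

set_option autoImplicit false
universe u
open TensorProduct
open EtAlg

namespace Groth.Agent.S12081

open Groth.Agent.Helper4.Milnor


/-- Let `B' = B ×_A A'` be a fibre square of rings with `A' → A` surjective with kernel `I`, let `J =
Ker(B' → B)`, let `D'` be a `B'`-algebra and `C' = D' ⊗_{B'} A'`. Then the ideal `I C'` is, as a
subset of `C'`, the image of the ideal `J D'` under `D' → C'`; that is, the map `J D' → I C'` is
surjective. -/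
theorem result (B' B A' A : Type u) [CommRing B'] [CommRing B] [CommRing A'] [CommRing A]
    [Algebra B' B] [Algebra B' A'] [Algebra B A] [Algebra A' A] [Algebra B' A] [IsScalarTower B' B A] [IsScalarTower B' A' A]
    (hsq : EtMil.IsFibreSquare B' B A' A)
    (D' C' : Type u) [CommRing D'] [CommRing C'] [Algebra B' D'] [Algebra A' C']
    [Algebra D' C'] [Algebra B' C'] [IsScalarTower B' A' C'] [IsScalarTower B' D' C'] [Algebra.IsPushout B' A' D' C'] :
    (algebraMap D' C') '' ((RingHom.ker (algebraMap B' B)).map (algebraMap B' D') : Set D') =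
      ((RingHom.ker (algebraMap A' A)).map (algebraMap A' C') : Set C') := by
  classical
  have hcomp1 : (algebraMap D' C').comp (algebraMap B' D') = algebraMap B' C' :=
    (IsScalarTower.algebraMap_eq B' D' C').symm
  have hcomp2 : (algebraMap A' C').comp (algebraMap B' A') = algebraMap B' C' :=
    (IsScalarTower.algebraMap_eq B' A' C').symm
  have hJI : (RingHom.ker (algebraMap B' B)).map (algebraMap B' A') ≤ RingHom.ker (algebraMap A' A) := by
    rw [Ideal.map_le_iff_le_comap]
    intro j hj
    rw [Ideal.mem_comap, RingHom.mem_ker, ← compat (B := B), (RingHom.mem_ker).1 hj, map_zero]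
  apply Set.Subset.antisymm
  · rintro _ ⟨y, hy, rfl⟩
    have h1 : algebraMap D' C' y ∈ ((RingHom.ker (algebraMap B' B)).map (algebraMap B' D')).map
        (algebraMap D' C') := Ideal.mem_map_of_mem _ hy
    rw [Ideal.map_map, hcomp1, ← hcomp2, ← Ideal.map_map] at h1
    exact Ideal.map_mono hJI h1
  · -- the image as an additive subgroup
    let T : AddSubgroup C' :=
      ((RingHom.ker (algebraMap B' B)).map (algebraMap B' D')).toAddSubgroup.map
        (algebraMap D' C').toAddMonoidHom
    have hT : ∀ x : C', x ∈ T ↔ x ∈ (algebraMap D' C') ''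
        ((RingHom.ker (algebraMap B' B)).map (algebraMap B' D') : Set D') := by
      intro x
      constructor
      · rintro ⟨y, hy, rfl⟩; exact ⟨y, hy, rfl⟩
      · rintro ⟨y, hy, rfl⟩; exact ⟨y, hy, rfl⟩
    have hbase : IsBaseChange A' (IsScalarTower.toAlgHom B' D' C').toLinearMap :=
      Algebra.IsPushout.out
    have key : ∀ c : C', ∀ i ∈ RingHom.ker (algebraMap A' A), algebraMap A' C' i * c ∈ T := by
      intro c
      refine hbase.inductionOn c (fun c => ∀ i ∈ RingHom.ker (algebraMap A' A),
        algebraMap A' C' i * c ∈ T) ?_ ?_ ?_ ?_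
      · intro i _
        rw [mul_zero]; exact T.zero_mem
      · intro d i hi
        obtain ⟨j, hj1, hj2⟩ := exists_ker hsq i ((RingHom.mem_ker).1 hi)
        refine ⟨algebraMap B' D' j * d, ?_, ?_⟩
        · exact Ideal.mul_mem_right _ _ (Ideal.mem_map_of_mem _ ((RingHom.mem_ker).2 hj1))
        · change algebraMap D' C' (algebraMap B' D' j * d) = algebraMap A' C' i * algebraMap D' C' d
          rw [map_mul, ← hj2, ← RingHom.comp_apply, ← RingHom.comp_apply, hcomp1, hcomp2]
      · intro a' n hn i hi
        rw [Algebra.smul_def, ← mul_assoc, ← map_mul]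
        exact hn (i * a') (Ideal.mul_mem_right _ _ hi)
      · intro n₁ n₂ h₁ h₂ i hi
        rw [mul_add]; exact T.add_mem (h₁ i hi) (h₂ i hi)
    intro x hx
    rw [← hT]
    have hP : ∀ x ∈ (RingHom.ker (algebraMap A' A)).map (algebraMap A' C'), ∀ c : C', c * x ∈ T := by
      intro x hx
      refine Submodule.span_induction ?_ ?_ ?_ ?_ hx
      · rintro _ ⟨i, hi, rfl⟩ c
        rw [mul_comm]; exact key c i hi
      · intro c; rw [mul_zero]; exact T.zero_mem
      · intro x y _ _ hx hy c
        rw [mul_add]; exact T.add_mem (hx c) (hy c)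
      · intro c' x _ hx c
        rw [smul_eq_mul, ← mul_assoc]; exact hx (c * c')
    have := hP x hx 1
    rwa [one_mul] at this

end Groth.Agent.S12081
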