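import Groth.Statements.S12086
import Mathlib
import Groth.Agent.Lib.Helper5.KFlat.Bdd

set_option autoImplicit false
universe u
open CategoryTheory CategoryTheory.Limits MonoidalCategory CategoryTheory.Pretriangulated
open DRing



namespace Groth.Agent.S12086

/-- Let `(K₁•, K₂•, K₃•)` be a distinguished triangle in the homotopy category `K(R)` of complexes of
`R`-modules. If two out of the three complexes are K-flat (tensoring with them carries acyclic
complexes to acyclic complexes), then so is the third. -/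
theorem result (R : Type u) [CommRing R]
    (T : Pretriangulated.Triangle (HomotopyCategory (ModuleCat.{u} R) (ComplexShape.up ℤ)))
    (hT : T ∈ Pretriangulated.distinguishedTriangles) :
    ((∀ L : DRing.Cx R, (∀ i : ℤ, IsZero (L.homology i)) → ∀ i : ℤ, IsZero ((L ⊗ T.obj₁.as).homology i)) → (∀ L : DRing.Cx R, (∀ i : ℤ, IsZero (L.homology i)) → ∀ i : ℤ, IsZero ((L ⊗ T.obj₂.as).homology i)) → (∀ L : DRing.Cx R, (∀ i : ℤ, IsZero (L.homology i)) → ∀ i : ℤ, IsZero ((L ⊗ T.obj₃.as).homology i))) ∧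
    ((∀ L : DRing.Cx R, (∀ i : ℤ, IsZero (L.homology i)) → ∀ i : ℤ, IsZero ((L ⊗ T.obj₁.as).homology i)) → (∀ L : DRing.Cx R, (∀ i : ℤ, IsZero (L.homology i)) → ∀ i : ℤ, IsZero ((L ⊗ T.obj₃.as).homology i)) → (∀ L : DRing.Cx R, (∀ i : ℤ, IsZero (L.homology i)) → ∀ i : ℤ, IsZero ((L ⊗ T.obj₂.as).homology i))) ∧
    ((∀ L : DRing.Cx R, (∀ i : ℤ, IsZero (L.homology i)) → ∀ i : ℤ, IsZero ((L ⊗ T.obj₂.as).homology i)) → (∀ L : DRing.Cx R, (∀ i : ℤ, IsZero (L.homology i)) → ∀ i : ℤ, IsZero ((L ⊗ T.obj₃.as).homology i)) → (∀ L : DRing.Cx R, (∀ i : ℤ, IsZero (L.homology i)) → ∀ i : ℤ, IsZero ((L ⊗ T.obj₁.as).homology i))) := by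
  obtain ⟨X, Y, f, ⟨e⟩⟩ := hT
  have e1 : HomotopyEquiv T.obj₁.as X :=
    HomotopyCategory.homotopyEquivOfIso (Pretriangulated.Triangle.π₁.mapIso e)
  have e2 : HomotopyEquiv T.obj₂.as Y :=
    HomotopyCategory.homotopyEquivOfIso (Pretriangulated.Triangle.π₂.mapIso e)
  have e3 : HomotopyEquiv T.obj₃.as (CochainComplex.mappingCone f) :=
    HomotopyCategory.homotopyEquivOfIso (Pretriangulated.Triangle.π₃.mapIso e)
  have h := Groth.Agent.Lib.Helper5.KFlat.isKFlat_cone_two_of_three f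
  refine ⟨fun k1 k2 => ?_, fun k1 k3 => ?_, fun k2 k3 => ?_⟩
  · exact Groth.Agent.Lib.Helper5.KFlat.isKFlat_of_homotopyEquiv e3.symm
      (h.1 (Groth.Agent.Lib.Helper5.KFlat.isKFlat_of_homotopyEquiv e1 k1)
        (Groth.Agent.Lib.Helper5.KFlat.isKFlat_of_homotopyEquiv e2 k2))
  · exact Groth.Agent.Lib.Helper5.KFlat.isKFlat_of_homotopyEquiv e2.symm
      (h.2.1 (Groth.Agent.Lib.Helper5.KFlat.isKFlat_of_homotopyEquiv e1 k1)
        (Groth.Agent.Lib.Helper5.KFlat.isKFlat_of_homotopyEquiv e3 k3))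
  · exact Groth.Agent.Lib.Helper5.KFlat.isKFlat_of_homotopyEquiv e1.symm
      (h.2.2 (Groth.Agent.Lib.Helper5.KFlat.isKFlat_of_homotopyEquiv e2 k2)
        (Groth.Agent.Lib.Helper5.KFlat.isKFlat_of_homotopyEquiv e3 k3))

end Groth.Agent.S12086
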