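import Groth.Statements.S12091
import Mathlib

set_option autoImplicit false
universe u
open TensorProduct MvPolynomial
open FlatMor

namespace Groth.Agent.S12091

section
open TensorProduct MvPolynomial

variable (A : Type u) [CommRing A] (M : Type u) [AddCommGroup M] [Module A M] (m : ℕ) (x : Fin m → M)

/-- linear form attached to a vector -/
noncomputable def lin : (Fin m → A) →ₗ[A] MvPolynomial (Fin m) A where
  toFun v := ∑ j, C (v j) * X j
  map_add' := by intros; simp [add_mul, Finset.sum_add_distrib]
  map_smul' := by intros; simp [Finset.mul_sum, smul_eq_C_mul, mul_assoc]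

theorem lin_apply (v : Fin m → A) : lin A m v = ∑ j, C (v j) * X j := rfl

theorem lin_single (j : Fin m) : lin A m (Pi.single j 1) = X j := by
  rw [lin_apply, Finset.sum_eq_single j]
  · simp
  · intro i _ hij
    simp [Pi.single_eq_of_ne hij]
  · simp

variable {A M m}

theorem aeval_lin (G : Algebra.Generators A (SymmetricAlgebra A M) (Fin m))
    (hG : ∀ j, G.val j = SymmetricAlgebra.ι A M (x j)) (v : Fin m → A) :
    aeval G.val (lin A m v) = SymmetricAlgebra.ι A M (Fintype.linearCombination A x v) := by
  rw [lin_apply, map_sum, Fintype.linearCombination_apply, map_sum]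
  refine Finset.sum_congr rfl fun j _ => ?_
  rw [map_mul, aeval_C, aeval_X, hG, map_smul, Algebra.smul_def]

/-- the ideal generated by the linear relations -/
noncomputable def J₀ : Ideal (MvPolynomial (Fin m) A) :=
  Ideal.span (Set.range fun k : LinearMap.ker (Fintype.linearCombination A x) => lin A m k.1)

noncomputable def ℓbar (hx : Function.Surjective (Fintype.linearCombination A x)) :
    M →ₗ[A] (MvPolynomial (Fin m) A ⧸ J₀ x) :=
  ((LinearMap.ker (Fintype.linearCombination A x)).liftQ
      ((Ideal.Quotient.mkₐ A (J₀ x)).toLinearMap ∘ₗ lin A m) (by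
        intro k hk
        rw [LinearMap.mem_ker, LinearMap.comp_apply]
        exact Ideal.Quotient.eq_zero_iff_mem.2 (Ideal.subset_span ⟨⟨k, hk⟩, rfl⟩))) ∘ₗ
    ((Fintype.linearCombination A x).quotKerEquivOfSurjective hx).symm.toLinearMap

theorem ℓbar_apply (hx : Function.Surjective (Fintype.linearCombination A x)) (v : Fin m → A) :
    ℓbar x hx (Fintype.linearCombination A x v) = Ideal.Quotient.mk (J₀ x) (lin A m v) := by
  have : ((Fintype.linearCombination A x).quotKerEquivOfSurjective hx).symm
      (Fintype.linearCombination A x v) = Submodule.Quotient.mk v := by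
    rw [LinearEquiv.symm_apply_eq]
    rfl
  rw [ℓbar, LinearMap.comp_apply]
  change (Submodule.liftQ _ _ _) (((Fintype.linearCombination A x).quotKerEquivOfSurjective hx).symm
      (Fintype.linearCombination A x v)) = _
  rw [this, Submodule.liftQ_apply]
  rfl

theorem ker_le' (hx : Function.Surjective (Fintype.linearCombination A x))
    (G : Algebra.Generators A (SymmetricAlgebra A M) (Fin m))
    (hG : ∀ j, G.val j = SymmetricAlgebra.ι A M (x j)) (p : MvPolynomial (Fin m) A)
    (hp : aeval G.val p = 0) : p ∈ J₀ x := by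
  have key : (SymmetricAlgebra.lift (ℓbar x hx)).comp (aeval G.val) =
      Ideal.Quotient.mkₐ A (J₀ x) := by
    apply MvPolynomial.algHom_ext
    intro j
    rw [AlgHom.comp_apply, aeval_X, hG, SymmetricAlgebra.lift_ι_apply]
    have h1 : x j = Fintype.linearCombination A x (Pi.single j 1) := by
      simp [Fintype.linearCombination_apply_single]
    rw [h1, ℓbar_apply, lin_single]
    rfl
  have h2 : (SymmetricAlgebra.lift (ℓbar x hx)) (aeval G.val p) = Ideal.Quotient.mkₐ A (J₀ x) p := by
    rw [← key]
    rfl
  rw [hp, map_zero] at h2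
  exact Ideal.Quotient.eq_zero_iff_mem.1 h2.symm

theorem mem_ker_iff (G : Algebra.Generators A (SymmetricAlgebra A M) (Fin m))
    (p : MvPolynomial (Fin m) A) : p ∈ G.toExtension.ker ↔ aeval G.val p = 0 := by
  have h1 : algebraMap G.Ring (SymmetricAlgebra A M) p = aeval G.val p := G.algebraMap_apply p
  constructor
  · intro h
    rw [← h1]
    exact h
  · intro h
    rw [← h1] at h
    exact h

theorem lin_mem_ker (G : Algebra.Generators A (SymmetricAlgebra A M) (Fin m))
    (hG : ∀ j, G.val j = SymmetricAlgebra.ι A M (x j))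
    (k : LinearMap.ker (Fintype.linearCombination A x)) : lin A m k.1 ∈ G.toExtension.ker := by
  rw [mem_ker_iff, aeval_lin x G hG, LinearMap.mem_ker.1 k.2, map_zero]


noncomputable def κ (G : Algebra.Generators A (SymmetricAlgebra A M) (Fin m))
    (hG : ∀ j, G.val j = SymmetricAlgebra.ι A M (x j)) :
    LinearMap.ker (Fintype.linearCombination A x) →ₗ[A] G.toExtension.Cotangent where
  toFun k := Algebra.Extension.Cotangent.mk ⟨lin A m k.1, lin_mem_ker x G hG k⟩
  map_add' k k' := by
    have h1 : (⟨lin A m (k + k').1, lin_mem_ker x G hG (k + k')⟩ : G.toExtension.ker) =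
        ⟨lin A m k.1, lin_mem_ker x G hG k⟩ + ⟨lin A m k'.1, lin_mem_ker x G hG k'⟩ :=
      Subtype.ext (map_add (lin A m) k.1 k'.1)
    rw [h1, map_add]
  map_smul' a k := by
    have h1 : (⟨lin A m (a • k).1, lin_mem_ker x G hG (a • k)⟩ : G.toExtension.ker) =
        a • (⟨lin A m k.1, lin_mem_ker x G hG k⟩ : G.toExtension.ker) :=
      Subtype.ext (map_smul (lin A m) a k.1)
    rw [h1, LinearMap.map_smul_of_tower]
    rfl

noncomputable def e (G : Algebra.Generators A (SymmetricAlgebra A M) (Fin m))
    (hG : ∀ j, G.val j = SymmetricAlgebra.ι A M (x j)) :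
    SymmetricAlgebra A M ⊗[A] (LinearMap.ker (Fintype.linearCombination A x)) →ₗ[SymmetricAlgebra A M]
        G.toExtension.Cotangent :=
  (κ x G hG).liftBaseChange (SymmetricAlgebra A M)

theorem e_tmul (G : Algebra.Generators A (SymmetricAlgebra A M) (Fin m))
    (hG : ∀ j, G.val j = SymmetricAlgebra.ι A M (x j)) (c : SymmetricAlgebra A M)
    (k : LinearMap.ker (Fintype.linearCombination A x)) :
    e x G hG (c ⊗ₜ k) = c • Algebra.Extension.Cotangent.mk ⟨lin A m k.1, lin_mem_ker x G hG k⟩ := by
  rw [e, LinearMap.liftBaseChange_tmul]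
  rfl

theorem e_surj (hx : Function.Surjective (Fintype.linearCombination A x))
    (G : Algebra.Generators A (SymmetricAlgebra A M) (Fin m))
    (hG : ∀ j, G.val j = SymmetricAlgebra.ι A M (x j)) : Function.Surjective (e x G hG) := by
  have hspan : Ideal.span (Set.range fun k : LinearMap.ker (Fintype.linearCombination A x) =>
      lin A m k.1) = G.toExtension.ker := by
    apply le_antisymm
    · refine Ideal.span_le.2 ?_
      rintro _ ⟨k, rfl⟩
      exact lin_mem_ker x G hG k
    · intro p hp
      exact ker_le' x hx G hG p ((mem_ker_iff G p).1 hp)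
  have h := Algebra.Extension.Cotangent.span_eq_top_of_span_eq_ker
    (P := G.toExtension) (fun k : LinearMap.ker (Fintype.linearCombination A x) => lin A m k.1) hspan
  rw [← LinearMap.range_eq_top, eq_top_iff, ← h, Submodule.span_le]
  rintro _ ⟨k, rfl⟩
  refine ⟨1 ⊗ₜ k, ?_⟩
  rw [e_tmul, one_smul]


theorem pderiv_lin (v : Fin m → A) (i : Fin m) : pderiv i (lin A m v) = C (v i) := by
  rw [lin_apply, map_sum, Finset.sum_eq_single i]
  · simp
  · intro j _ hji
    simp [pderiv_X, Pi.single_eq_of_ne hji]
  · simp

theorem e_inj (hx : Function.Surjective (Fintype.linearCombination A x))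
    (G : Algebra.Generators A (SymmetricAlgebra A M) (Fin m))
    (hG : ∀ j, G.val j = SymmetricAlgebra.ι A M (x j)) (hM : Module.Projective A M) :
    Function.Injective (e x G hG) := by
  obtain ⟨s, hs⟩ := Module.projective_lifting_property (Fintype.linearCombination A x)
    LinearMap.id hx
  have hs' : ∀ y, Fintype.linearCombination A x (s y) = y := fun y => LinearMap.congr_fun hs y
  let r : (Fin m → A) →ₗ[A] LinearMap.ker (Fintype.linearCombination A x) :=
    LinearMap.codRestrict _ (LinearMap.id - s ∘ₗ Fintype.linearCombination A x) (by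
      intro v
      rw [LinearMap.mem_ker, LinearMap.sub_apply, map_sub, LinearMap.comp_apply, hs']
      simp)
  have hr : r ∘ₗ (LinearMap.ker (Fintype.linearCombination A x)).subtype = LinearMap.id := by
    ext k : 1
    apply Subtype.ext
    have hk : Fintype.linearCombination A x k.1 = 0 := LinearMap.mem_ker.1 k.2
    simp [r, hk]
  let Ψ : SymmetricAlgebra A M ⊗[A] (LinearMap.ker (Fintype.linearCombination A x))
      →ₗ[SymmetricAlgebra A M] (Fin m → SymmetricAlgebra A M) :=
    (Finsupp.linearEquivFunOnFinite (SymmetricAlgebra A M) (SymmetricAlgebra A M) (Fin m)).toLinearMap ∘ₗ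
      G.cotangentSpaceBasis.repr.toLinearMap ∘ₗ G.toExtension.cotangentComplex ∘ₗ e x G hG
  have hΨ : Ψ = (TensorProduct.piScalarRight A (SymmetricAlgebra A M) (SymmetricAlgebra A M)
      (Fin m)).toLinearMap ∘ₗ
      (LinearMap.baseChange (SymmetricAlgebra A M)
        (LinearMap.ker (Fintype.linearCombination A x)).subtype) := by
    apply TensorProduct.AlgebraTensorModule.ext
    intro c k
    ext i
    simp only [Ψ, LinearMap.comp_apply, LinearEquiv.coe_coe, e_tmul, map_smul,
      Algebra.Extension.cotangentComplex_mk, Finsupp.linearEquivFunOnFinite_apply,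
      LinearMap.baseChange_tmul, Submodule.subtype_apply, TensorProduct.piScalarRight_apply,
      TensorProduct.piScalarRightHom_tmul]
    change c • (G.cotangentSpaceBasis.repr
      (1 ⊗ₜ[G.toExtension.Ring] (KaehlerDifferential.D A G.toExtension.Ring) ((lin A m) k.1))) i = _
    have h3 : (G.cotangentSpaceBasis.repr
        (1 ⊗ₜ[G.toExtension.Ring] (KaehlerDifferential.D A G.toExtension.Ring) ((lin A m) k.1))) i =
        aeval G.val (pderiv i (lin A m k.1)) := G.cotangentSpaceBasis_repr_one_tmul _ i
    rw [h3, pderiv_lin k.1 i, aeval_C, smul_eq_mul, Algebra.smul_def, mul_comm]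
  have hinj : Function.Injective Ψ := by
    rw [hΨ, LinearMap.coe_comp, LinearEquiv.coe_coe]
    refine (LinearEquiv.injective _).comp ?_
    intro z z' hz
    have h2 := congrArg (LinearMap.baseChange (SymmetricAlgebra A M) r) hz
    rw [← LinearMap.comp_apply, ← LinearMap.comp_apply, ← LinearMap.baseChange_comp, hr,
      LinearMap.baseChange_id] at h2
    exact h2
  intro z z' hz
  apply hinj
  simp only [Ψ, LinearMap.comp_apply, hz]


theorem main (A : Type u) [CommRing A] (M : Type u)
    [AddCommGroup M] [Module A M] (m : ℕ) (x : Fin m → M)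
    (hx : Function.Surjective (Fintype.linearCombination A x))
    (G : Algebra.Generators A (SymmetricAlgebra A M) (Fin m))
    (hG : ∀ j, G.val j = SymmetricAlgebra.ι A M (x j)) :
    ∃ e : SymmetricAlgebra A M ⊗[A] (LinearMap.ker (Fintype.linearCombination A x)) →ₗ[SymmetricAlgebra A M]
        G.toExtension.Cotangent,
      (∀ (k : LinearMap.ker (Fintype.linearCombination A x))
        (hk : (∑ j, C ((k : Fin m → A) j) * X j : MvPolynomial (Fin m) A) ∈ G.toExtension.ker),
        e (1 ⊗ₜ k) = Algebra.Extension.Cotangent.mk ⟨_, hk⟩) ∧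
      Function.Surjective e ∧ (Module.Projective A M → Function.Bijective e) := by
  refine ⟨e x G hG, ?_, e_surj x hx G hG, fun hM => ⟨e_inj x hx G hG hM, e_surj x hx G hG⟩⟩
  intro k hk
  rw [e_tmul, one_smul]
  rfl


end


/-- Let `x_1, …, x_m` generate the `A`-module `M`, let `K ⊆ A^m` be the module of relations, `C =
Sym_A(M)` and `α : A[y_1, …, y_m] → C` the presentation with `y_j ↦ x_j`, with kernel `J`. Then the
`C`-linear map `C ⊗_A K → J/J²` sending `1 ⊗ k` to the class of `Σ_j k_j y_j` is surjective, and it
is bijective when `M` is a projective `A`-module (so that then `J/J² ≅ K ⊗_A C` and the naive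
cotangent complex of `α` is `K ⊗_A C → ⊕_j C dy_j`). (The published statement asserts `J/J² ≅ K ⊗_A
C` for every `M`. For `A = ℤ`, `M = (ℤ/2)²`, `m = 2` and the two unit vectors, `K = 2ℤ²` and the
element `y_2 ⊗ (2, 0) - y_1 ⊗ (0, 2)` of `C ⊗_A K` is non-zero but maps to the class of `y_2 · 2y_1
- y_1 · 2y_2 = 0`; in degree `2` the graded piece of `J/J²` has `8` elements and that of `K ⊗_A C`
has `16`. The published degree-by-degree computation does show that `J` is generated by the linear
forms coming from `K`, which is the surjectivity, and it is valid as written when `0 → K → A^m → M →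
0` splits, which is the projective case.) -/
theorem result (A : Type u) [CommRing A] (M : Type u)
    [AddCommGroup M] [Module A M] (m : ℕ) (x : Fin m → M)
    (hx : Function.Surjective (Fintype.linearCombination A x))
    (G : Algebra.Generators A (SymmetricAlgebra A M) (Fin m))
    (hG : ∀ j, G.val j = SymmetricAlgebra.ι A M (x j)) :
    ∃ e : SymmetricAlgebra A M ⊗[A] (LinearMap.ker (Fintype.linearCombination A x)) →ₗ[SymmetricAlgebra A M]
        G.toExtension.Cotangent,
      (∀ (k : LinearMap.ker (Fintype.linearCombination A x))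
        (hk : (∑ j, C ((k : Fin m → A) j) * X j : MvPolynomial (Fin m) A) ∈ G.toExtension.ker),
        e (1 ⊗ₜ k) = Algebra.Extension.Cotangent.mk ⟨_, hk⟩) ∧
      Function.Surjective e ∧ (Module.Projective A M → Function.Bijective e) := by
  classical
  exact main A M m x hx G hG

end Groth.Agent.S12091
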