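import Groth.Statements.S12093
import Mathlib
import Groth.Agent.Lib.Helper5.KSix.LTCxRep

set_option autoImplicit false
universe u
open CategoryTheory CategoryTheory.Limits MonoidalCategory
attribute [local instance] HasDerivedCategory.standard
open DRing



namespace Groth.Agent.S12093

/-- Let `K•` be a complex of `R`-modules (for which `− ⊗^L_R K•` is assumed to exist) and `a` an
integer. Then `K•` has tor amplitude in `[a, ∞)`, i.e. `H^i(M ⊗^L_R K•) = 0` for every `R`-module
`M` and every `i < a`, if and only if `K•` is quasi-isomorphic to a K-flat complex `E•` (tensoring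
with `E•` preserves acyclic complexes) with flat terms and `E^i = 0` for `i < a`. -/
theorem result (R : Type u) [CommRing R] (a : ℤ) (K : DRing.Cx R)
    [DRing.HasLTensorCx R K] :
    (∀ (M : ModuleCat.{u} R) (i : ℤ), i < a →
        Subsingleton (Dual.HD R ((DRing.LTensorCx R K).obj
          (DRing.toD ((CochainComplex.singleFunctor (ModuleCat.{u} R) 0).obj M))) i)) ↔
      ∃ E : DRing.Cx R, (∀ L : DRing.Cx R, (∀ i : ℤ, IsZero (L.homology i)) → ∀ i : ℤ, IsZero ((L ⊗ E).homology i)) ∧
        DRing.TermwiseFlat E ∧ (∀ i : ℤ, i < a → IsZero (E.X i)) ∧ Nonempty (DRing.toD E ≅ DRing.toD K) := by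
  constructor
  · intro h
    have hF := Groth.Agent.Lib.Helper5.KFlat.isKFlat_res K
    have hflat : DRing.TermwiseFlat (Groth.Agent.Lib.Helper5.KProj.res K) :=
      fun n => Groth.Agent.Lib.Helper5.KFlat.flat_res K n
    have e : DRing.toD (Groth.Agent.Lib.Helper5.KProj.res K) ≅ DRing.toD K :=
      asIso (DerivedCategory.Q.map (Groth.Agent.Lib.Helper5.KProj.resMap K))
    have hv : ∀ (M : ModuleCat.{u} R) (i : ℤ), i < a →
        ((Groth.Agent.Helper5.FlatAcyc.TM M).obj (Groth.Agent.Lib.Helper5.KProj.res K)).ExactAt i := by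
      intro M i hi
      rw [HomologicalComplex.exactAt_iff_isZero_homology]
      refine (Groth.Agent.Lib.Helper5.KSixLT.key K _ hF e M i).1 ?_
      haveI := h M i hi
      exact ModuleCat.isZero_of_subsingleton _
    obtain ⟨E, hE1, hE2, hE3, π, hπ⟩ :=
      Groth.Agent.Lib.Helper5.KSixLT.exists_flat_rep _ a hF hflat hv
    exact ⟨E, hE1, hE2, hE3, ⟨(asIso (DerivedCategory.Q.map π)).symm ≪≫ e⟩⟩
  · rintro ⟨E, hE1, hE2, hE3, ⟨e⟩⟩ M i hi
    have hz : CategoryTheory.Limits.IsZero
        (((Groth.Agent.Helper5.FlatAcyc.TM M).obj E).homology i) := by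
      rw [← HomologicalComplex.exactAt_iff_isZero_homology]
      apply HomologicalComplex.ExactAt.of_isZero
      exact CategoryTheory.Functor.map_isZero (CategoryTheory.MonoidalCategory.tensorRight M) (hE3 i hi)
    exact ModuleCat.subsingleton_of_isZero
      ((Groth.Agent.Lib.Helper5.KSixLT.key K E hE1 e M i).2 hz)

end Groth.Agent.S12093
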