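import Groth.Statements.S12096
import Mathlib

set_option autoImplicit false
universe u
open BlowUp

namespace Groth.Agent.S12096

theorem aux (A Aa : Type u) [CommRing A] [CommRing Aa] [Algebra A Aa] (a : A) [IsLocalization.Away a Aa]
    (I : Ideal A) (π : A)
    (ψ : BlowUp.affineAlgebra A I π →+*
      BlowUp.affineAlgebra Aa (I.map (algebraMap A Aa)) (algebraMap A Aa π))
    (hψ : ∀ x : BlowUp.affineAlgebra A I π,
      ((ψ x : BlowUp.affineAlgebra Aa (I.map (algebraMap A Aa)) (algebraMap A Aa π)) :
          Localization.Away (algebraMap A Aa π)) =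
        Localization.awayMap (algebraMap A Aa) π (x : Localization.Away π)) :
    @IsLocalization.Away _ _ (algebraMap A (BlowUp.affineAlgebra A I π) a)
      (BlowUp.affineAlgebra Aa (I.map (algebraMap A Aa)) (algebraMap A Aa π)) _ ψ.toAlgebra := by
  letI : Algebra (BlowUp.affineAlgebra A I π) (BlowUp.affineAlgebra Aa
    (I.map (algebraMap A Aa)) (algebraMap A Aa π)) := ψ.toAlgebra
  have hφalg : ∀ b : A, Localization.awayMap (algebraMap A Aa) π (algebraMap A (Localization.Away π) b) =
      algebraMap Aa (Localization.Away (algebraMap A Aa π)) (algebraMap A Aa b) := by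
    intro b
    exact IsLocalization.map_eq _ b
  have hpow : ∀ s : Submonoid.powers π, algebraMap A Aa s.1 ∈ Submonoid.powers (algebraMap A Aa π) := by
    intro s
    obtain ⟨n, hn⟩ := s.2
    exact ⟨n, by rw [← hn, map_pow]⟩
  have hφmk : ∀ (b : A) (s : Submonoid.powers π),
      Localization.awayMap (algebraMap A Aa) π (IsLocalization.mk' (Localization.Away π) b s) =
      IsLocalization.mk' (Localization.Away (algebraMap A Aa π)) (algebraMap A Aa b)
        (⟨algebraMap A Aa s.1, hpow s⟩ : Submonoid.powers (algebraMap A Aa π)) := by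
    intro b s
    exact IsLocalization.map_mk' _ b s
  have halg : algebraMap (BlowUp.affineAlgebra A I π)
      (BlowUp.affineAlgebra Aa (I.map (algebraMap A Aa)) (algebraMap A Aa π)) = ψ :=
    RingHom.algebraMap_toAlgebra ψ
  have hψa : ((ψ (algebraMap A (BlowUp.affineAlgebra A I π) a) :
      BlowUp.affineAlgebra Aa (I.map (algebraMap A Aa)) (algebraMap A Aa π)) :
        Localization.Away (algebraMap A Aa π)) =
      algebraMap Aa (Localization.Away (algebraMap A Aa π)) (algebraMap A Aa a) := by
    rw [hψ]
    exact hφalg a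
  have hsurj : ∀ z ∈ BlowUp.affineAlgebra Aa (I.map (algebraMap A Aa)) (algebraMap A Aa π),
      ∃ x ∈ BlowUp.affineAlgebra A I π, ∃ n : ℕ,
        z * (algebraMap Aa (Localization.Away (algebraMap A Aa π)) (algebraMap A Aa a)) ^ n =
          Localization.awayMap (algebraMap A Aa) π x := by
    intro z hz
    unfold BlowUp.affineAlgebra at hz
    induction hz using Algebra.adjoin_induction with
    | mem z hz =>
      obtain ⟨y', hy', rfl⟩ := hz
      rw [IsLocalization.mem_map_algebraMap_iff (Submonoid.powers a)] at hy'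
      obtain ⟨⟨⟨y, hy⟩, ⟨s, n, hn⟩⟩, hys⟩ := hy'
      simp only at hys
      have hn' : a ^ n = s := hn
      refine ⟨IsLocalization.mk' (Localization.Away π) y ⟨π, Submonoid.mem_powers π⟩,
        Algebra.subset_adjoin ⟨y, hy, rfl⟩, n, ?_⟩
      rw [hφmk, ← hys, ← map_pow, ← map_pow, hn']
      rw [IsLocalization.eq_mk'_iff_mul_eq, mul_assoc,
        mul_comm (algebraMap Aa (Localization.Away (algebraMap A Aa π)) _),
        ← mul_assoc, IsLocalization.mk'_spec, map_mul]
    | algebraMap c =>
      obtain ⟨⟨b, ⟨s, n, hn⟩⟩, hbs⟩ := IsLocalization.surj (Submonoid.powers a) c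
      simp only at hbs
      have hn' : a ^ n = s := hn
      refine ⟨algebraMap A (Localization.Away π) b, Subalgebra.algebraMap_mem _ _, n, ?_⟩
      rw [hφalg, ← hbs, ← map_pow, ← map_pow, hn', map_mul]
    | add z1 z2 _ _ h1 h2 =>
      obtain ⟨x1, hx1, n1, e1⟩ := h1
      obtain ⟨x2, hx2, n2, e2⟩ := h2
      refine ⟨x1 * algebraMap A (Localization.Away π) (a ^ n2) + x2 * algebraMap A (Localization.Away π) (a ^ n1),
        Subalgebra.add_mem _ (Subalgebra.mul_mem _ hx1 (Subalgebra.algebraMap_mem _ _))
          (Subalgebra.mul_mem _ hx2 (Subalgebra.algebraMap_mem _ _)), n1 + n2, ?_⟩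
      rw [map_add, map_mul, map_mul, hφalg, hφalg, ← e1, ← e2, map_pow, map_pow, map_pow, map_pow]
      ring
    | mul z1 z2 _ _ h1 h2 =>
      obtain ⟨x1, hx1, n1, e1⟩ := h1
      obtain ⟨x2, hx2, n2, e2⟩ := h2
      refine ⟨x1 * x2, Subalgebra.mul_mem _ hx1 hx2, n1 + n2, ?_⟩
      rw [map_mul, ← e1, ← e2]
      ring
  rw [IsLocalization.Away, isLocalization_iff]
  refine ⟨?_, ?_, ?_⟩
  · rintro ⟨y, n, rfl⟩
    simp only
    rw [halg, map_pow]
    apply IsUnit.pow
    rw [isUnit_iff_exists_inv]
    refine ⟨algebraMap Aa _ (IsLocalization.mk' Aa (1 : A) (⟨a, Submonoid.mem_powers a⟩ : Submonoid.powers a)), ?_⟩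
    apply Subtype.ext
    show ((ψ (algebraMap A (BlowUp.affineAlgebra A I π) a) :
      BlowUp.affineAlgebra Aa (I.map (algebraMap A Aa)) (algebraMap A Aa π)) : Localization.Away (algebraMap A Aa π)) *
      algebraMap Aa (Localization.Away (algebraMap A Aa π))
        (IsLocalization.mk' Aa (1 : A) (⟨a, Submonoid.mem_powers a⟩ : Submonoid.powers a)) = 1
    rw [hψa, ← map_mul, mul_comm, IsLocalization.mk'_spec, map_one, map_one]
  · intro z
    obtain ⟨x, hx, n, e⟩ := hsurj z.1 z.2
    refine ⟨(⟨x, hx⟩, ⟨algebraMap A (BlowUp.affineAlgebra A I π) a ^ n, n, rfl⟩), ?_⟩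
    simp only
    rw [halg]
    apply Subtype.ext
    rw [hψ, map_pow]
    show (z : Localization.Away (algebraMap A Aa π)) * ((ψ (algebraMap A (BlowUp.affineAlgebra A I π) a) :
      BlowUp.affineAlgebra Aa (I.map (algebraMap A Aa)) (algebraMap A Aa π)) :
        Localization.Away (algebraMap A Aa π)) ^ n = Localization.awayMap (algebraMap A Aa) π x
    rw [hψa]
    exact e
  · intro x y hxy
    rw [halg] at hxy
    have h0 : Localization.awayMap (algebraMap A Aa) π
        ((x : Localization.Away π) - (y : Localization.Away π)) = 0 := by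
      rw [map_sub, ← hψ, ← hψ, hxy, sub_self]
    obtain ⟨⟨b, s⟩, hbs⟩ := IsLocalization.mk'_surjective (Submonoid.powers π)
      ((x : Localization.Away π) - (y : Localization.Away π))
    simp only at hbs
    rw [← hbs, hφmk, IsLocalization.mk'_eq_zero_iff] at h0
    obtain ⟨⟨m, k, hk⟩, hm⟩ := h0
    simp only at hm
    have hk' : (algebraMap A Aa π) ^ k = m := hk
    rw [← hk', ← map_pow, ← map_mul, IsLocalization.map_eq_zero_iff (Submonoid.powers a)] at hm
    obtain ⟨⟨c, l, hl⟩, hc⟩ := hm
    simp only at hc
    have hl' : a ^ l = c := hl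
    refine ⟨⟨algebraMap A (BlowUp.affineAlgebra A I π) a ^ l, l, rfl⟩, ?_⟩
    simp only
    apply Subtype.ext
    show algebraMap A (Localization.Away π) a ^ l * (x : Localization.Away π) =
      algebraMap A (Localization.Away π) a ^ l * (y : Localization.Away π)
    rw [← sub_eq_zero, ← mul_sub, ← hbs, ← map_pow, hl']
    rw [IsLocalization.mul_mk'_eq_mk'_of_mul, IsLocalization.mk'_eq_zero_iff]
    refine ⟨⟨π ^ k, k, rfl⟩, ?_⟩
    simp only
    rw [← hc]; ring

/-- Néron's blowup is compatible with localization. For a ring `A`, an ideal `I`, elements `π, a ∈ A`,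
`A' = A[I/π] ⊆ A_π` the affine blowup algebra and `(A_a)' = A_a[I A_a/π]` that of the localization,
the canonical map `A' → (A_a)'` (the restriction of `A_π → (A_a)_π`, given here as a datum with that
compatibility) identifies `(A_a)'` with the localization `A'_a`. In Néron's situation (`I` the
inverse image of the maximal ideal of `Λ`, `π` a uniformizer, `a ∉ I`) this reads: the Néron blowup
of `A_a` is `A'_a`; the identity holds for arbitrary `A, I, π, a`. -/
theorem result (A : Type u) [CommRing A] (I : Ideal A) (π a : A) (hπ : π ∈ I)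
    (ψ : BlowUp.affineAlgebra A I π →+*
      BlowUp.affineAlgebra (Localization.Away a) (I.map (algebraMap A (Localization.Away a))) (algebraMap A (Localization.Away a) π))
    (hψ : ∀ x : BlowUp.affineAlgebra A I π,
      ((ψ x : BlowUp.affineAlgebra (Localization.Away a) (I.map (algebraMap A (Localization.Away a))) (algebraMap A (Localization.Away a) π)) :
          Localization.Away (algebraMap A (Localization.Away a) π)) =
        Localization.awayMap (algebraMap A (Localization.Away a)) π (x : Localization.Away π)) :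
    letI := ψ.toAlgebra
    IsLocalization.Away (algebraMap A (BlowUp.affineAlgebra A I π) a)
      (BlowUp.affineAlgebra (Localization.Away a) (I.map (algebraMap A (Localization.Away a))) (algebraMap A (Localization.Away a) π)) := by
  classical
  exact aux A (Localization.Away a) a I π ψ hψ

end Groth.Agent.S12096
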