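import Groth.Statements.S12097
import Mathlib

set_option autoImplicit false
universe u
open BlowUp

namespace Groth.Agent.S12097

/-- Néron's blowup is compatible with closed immersions. For a surjective ring map `B → A` with kernel
`J`, an ideal `I ⊆ B` containing `π`, and the affine blowup algebras `B' = B[I/π] ⊆ B_π`, `A' =
A[IA/π] ⊆ A_π`, the canonical map `B' → A'` (the restriction of `B_π → A_π`, given as a datum with
that compatibility) is surjective with kernel the elements `x` such that `π^n x ∈ J B'` for some
`n`: `A'` is the quotient of `B'/JB'` by its `π`-power torsion. In Néron's situation (`I` the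
inverse image of the maximal ideal of `Λ`, `π` a uniformizer) this is the printed functoriality; the
identity holds for any surjection. -/
theorem result (B A : Type u) [CommRing B] [CommRing A] [Algebra B A]
    (hq : Function.Surjective (algebraMap B A)) (I : Ideal B) (π : B) (hπ : π ∈ I)
    (ψ : BlowUp.affineAlgebra B I π →+* BlowUp.affineAlgebra A (I.map (algebraMap B A)) (algebraMap B A π))
    (hψ : ∀ x : BlowUp.affineAlgebra B I π,
      ((ψ x : BlowUp.affineAlgebra A (I.map (algebraMap B A)) (algebraMap B A π)) : Localization.Away (algebraMap B A π)) =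
        Localization.awayMap (algebraMap B A) π (x : Localization.Away π)) :
    Function.Surjective ψ ∧
      ∀ x : BlowUp.affineAlgebra B I π, x ∈ RingHom.ker ψ ↔
        ∃ n : ℕ, algebraMap B (BlowUp.affineAlgebra B I π) π ^ n * x ∈
          (RingHom.ker (algebraMap B A)).map (algebraMap B (BlowUp.affineAlgebra B I π)) := by
  classical
  set φ := Localization.awayMap (algebraMap B A) π with hφ
  have hφalg : ∀ b : B, φ (algebraMap B (Localization.Away π) b) =
      algebraMap A (Localization.Away (algebraMap B A π)) (algebraMap B A b) := by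
    intro b
    exact IsLocalization.map_eq _ b
  have hpow : ∀ s : Submonoid.powers π, algebraMap B A s.1 ∈ Submonoid.powers (algebraMap B A π) := by
    intro s
    obtain ⟨n, hn⟩ := s.2
    exact ⟨n, by rw [← hn, map_pow]⟩
  have hφmk : ∀ (b : B) (s : Submonoid.powers π), φ (IsLocalization.mk' (Localization.Away π) b s) =
      IsLocalization.mk' (Localization.Away (algebraMap B A π)) (algebraMap B A b)
        (⟨algebraMap B A s.1, hpow s⟩ : Submonoid.powers (algebraMap B A π)) := by
    intro b s
    exact IsLocalization.map_mk' _ b s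
  have hsurj : ∀ y ∈ BlowUp.affineAlgebra A (I.map (algebraMap B A)) (algebraMap B A π),
      ∃ x ∈ BlowUp.affineAlgebra B I π, φ x = y := by
    intro y hy
    unfold BlowUp.affineAlgebra at hy
    induction hy using Algebra.adjoin_induction with
    | mem y hy =>
      obtain ⟨y1, hy1, rfl⟩ := hy
      rw [Ideal.mem_map_iff_of_surjective _ hq] at hy1
      obtain ⟨y0, hy0, rfl⟩ := hy1
      refine ⟨IsLocalization.mk' (Localization.Away π) y0 ⟨π, Submonoid.mem_powers π⟩, ?_, ?_⟩
      · exact Algebra.subset_adjoin ⟨y0, hy0, rfl⟩
      · rw [hφmk]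
    | algebraMap a =>
      obtain ⟨b, rfl⟩ := hq a
      exact ⟨algebraMap B (Localization.Away π) b, Subalgebra.algebraMap_mem _ _, hφalg b⟩
    | add y1 y2 _ _ h1 h2 =>
      obtain ⟨x1, hx1, rfl⟩ := h1
      obtain ⟨x2, hx2, rfl⟩ := h2
      exact ⟨x1 + x2, Subalgebra.add_mem _ hx1 hx2, map_add _ _ _⟩
    | mul y1 y2 _ _ h1 h2 =>
      obtain ⟨x1, hx1, rfl⟩ := h1
      obtain ⟨x2, hx2, rfl⟩ := h2
      exact ⟨x1 * x2, Subalgebra.mul_mem _ hx1 hx2, map_mul _ _ _⟩
  have hJ : (RingHom.ker (algebraMap B A)).map (algebraMap B (BlowUp.affineAlgebra B I π)) ≤ RingHom.ker ψ := by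
    rw [Ideal.map_le_iff_le_comap]
    intro b hb
    rw [Ideal.mem_comap, RingHom.mem_ker]
    apply Subtype.ext
    rw [hψ]
    have h1 : ((algebraMap B (BlowUp.affineAlgebra B I π) b : BlowUp.affineAlgebra B I π) : Localization.Away π) =
        algebraMap B (Localization.Away π) b := rfl
    rw [h1, hφalg, RingHom.mem_ker.1 hb, map_zero]
    rfl
  constructor
  · intro y
    obtain ⟨x, hx, hxy⟩ := hsurj y.1 y.2
    refine ⟨⟨x, hx⟩, ?_⟩
    apply Subtype.ext
    rw [hψ]
    exact hxy
  · intro x
    constructor
    · intro hx
      rw [RingHom.mem_ker] at hx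
      have h0 : φ (x : Localization.Away π) = 0 := by
        rw [← hψ, hx]; rfl
      obtain ⟨⟨b, s⟩, hbs⟩ := IsLocalization.mk'_surjective (Submonoid.powers π) (x : Localization.Away π)
      simp only at hbs
      rw [← hbs, hφmk, IsLocalization.mk'_eq_zero_iff] at h0
      obtain ⟨⟨m, k, hk⟩, hm⟩ := h0
      simp only at hm
      obtain ⟨n, hn⟩ := s.2
      have hk' : (algebraMap B A) π ^ k = m := hk
      have hn' : π ^ n = (s : B) := hn
      refine ⟨n + k, ?_⟩
      have hmem : π ^ k * b ∈ RingHom.ker (algebraMap B A) := by
        rw [RingHom.mem_ker, map_mul, map_pow, hk']; exact hm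
      have heq : algebraMap B (BlowUp.affineAlgebra B I π) π ^ (n + k) * x =
          algebraMap B (BlowUp.affineAlgebra B I π) (π ^ k * b) := by
        apply Subtype.ext
        show algebraMap B (Localization.Away π) π ^ (n + k) * (x : Localization.Away π) =
          algebraMap B (Localization.Away π) (π ^ k * b)
        rw [← hbs, map_mul, map_pow, pow_add]
        have h1 := IsLocalization.mk'_spec (Localization.Away π) b s
        rw [← hn', map_pow] at h1
        rw [← h1]; ring
      rw [heq]
      exact Ideal.mem_map_of_mem _ hmem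
    · rintro ⟨N, hN⟩
      have h1 := hJ hN
      rw [RingHom.mem_ker, map_mul, map_pow] at h1
      rw [RingHom.mem_ker]
      apply Subtype.ext
      have h2 := congrArg Subtype.val h1
      have h3 : ((ψ (algebraMap B (BlowUp.affineAlgebra B I π) π) ^ N * ψ x :
          BlowUp.affineAlgebra A (I.map (algebraMap B A)) (algebraMap B A π)) : Localization.Away (algebraMap B A π)) =
          (algebraMap A (Localization.Away (algebraMap B A π)) (algebraMap B A π)) ^ N *
            ((ψ x : BlowUp.affineAlgebra A (I.map (algebraMap B A)) (algebraMap B A π)) : Localization.Away (algebraMap B A π)) := by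
        have h4 : ((ψ (algebraMap B (BlowUp.affineAlgebra B I π) π) :
            BlowUp.affineAlgebra A (I.map (algebraMap B A)) (algebraMap B A π)) : Localization.Away (algebraMap B A π)) =
            algebraMap A (Localization.Away (algebraMap B A π)) (algebraMap B A π) := by
          rw [hψ]
          exact hφalg π
        rw [← h4]
        rfl
      rw [h3] at h2
      have hu : IsUnit (algebraMap A (Localization.Away (algebraMap B A π)) (algebraMap B A π)) :=
        IsLocalization.Away.algebraMap_isUnit _
      have h5 := (hu.pow N).mul_right_eq_zero.1 h2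
      exact h5

end Groth.Agent.S12097
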