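import Groth.Statements.S12107
import Mathlib

set_option autoImplicit false
universe u
open CategoryTheory
open SGA4

namespace Groth.Agent.S12107

section
open CategoryTheory CategoryTheory.Limits

variable {𝓔 : Type*} [Category 𝓔] [HasTerminal 𝓔] [HasBinaryProducts 𝓔] [HasPushouts 𝓔]
  [Adhesive 𝓔] (U : 𝓔) (hU : Mono (terminal.from U))

include hU in
theorem sub_ext {T : 𝓔} (f g : T ⟶ U) : f = g :=
  (cancel_mono (terminal.from U)).1 (Subsingleton.elim _ _)

include hU in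
theorem mono_snd (X : 𝓔) : Mono (prod.snd : U ⨯ X ⟶ X) := by
  constructor
  intro T a b hab
  apply Limits.prod.hom_ext
  · exact sub_ext U hU _ _
  · exact hab

theorem back2 {X X' : 𝓔} (m : X ⟶ X') :
    IsPullback (prod.snd : U ⨯ X ⟶ X) (prod.map (𝟙 U) m) m (prod.snd : U ⨯ X' ⟶ X') := by
  refine ⟨⟨by simp⟩, ⟨PullbackCone.IsLimit.mk _
    (fun s => prod.lift (s.snd ≫ prod.fst) s.fst) (fun s => by simp [prod.lift_snd])
    (fun s => ?_) (fun s m' h1 h2 => ?_)⟩⟩
  · apply Limits.prod.hom_ext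
    · simp [prod.lift_fst]
    · simp [prod.lift_snd, s.condition]
  · apply Limits.prod.hom_ext
    · rw [prod.lift_fst, ← h2]
      simp
    · rw [prod.lift_snd, ← h1]

include hU in
theorem main' {X X' : 𝓔} (m : X ⟶ X')
    (k : pushout (prod.fst : U ⨯ X ⟶ U) (prod.snd : U ⨯ X ⟶ X) ⟶
      pushout (prod.fst : U ⨯ X' ⟶ U) (prod.snd : U ⨯ X' ⟶ X'))
    (hk₁ : pushout.inl (prod.fst : U ⨯ X ⟶ U) (prod.snd : U ⨯ X ⟶ X) ≫ k =
      pushout.inl (prod.fst : U ⨯ X' ⟶ U) (prod.snd : U ⨯ X' ⟶ X'))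
    (hk₂ : pushout.inr (prod.fst : U ⨯ X ⟶ U) (prod.snd : U ⨯ X ⟶ X) ≫ k =
      m ≫ pushout.inr (prod.fst : U ⨯ X' ⟶ U) (prod.snd : U ⨯ X' ⟶ X')) :
    IsPullback m (pushout.inr (prod.fst : U ⨯ X ⟶ U) (prod.snd : U ⨯ X ⟶ X))
        (pushout.inr (prod.fst : U ⨯ X' ⟶ U) (prod.snd : U ⨯ X' ⟶ X')) k ↔
      IsIso (prod.map (𝟙 U) m) := by
  have hm1 := mono_snd U hU X
  have hm2 := mono_snd U hU X'
  have H := IsPushout.of_hasPushout (prod.fst : U ⨯ X ⟶ U) (prod.snd : U ⨯ X ⟶ X)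
  have H' := IsPushout.of_hasPushout (prod.fst : U ⨯ X' ⟶ U) (prod.snd : U ⨯ X' ⟶ X')
  constructor
  · intro P1
    have P2 := (Adhesive.isPullback_of_isPushout_of_mono_right H).flip
    have P2' := (Adhesive.isPullback_of_isPushout_of_mono_right H').flip
    have P3 := P2.paste_horiz P1
    rw [hk₁] at P3
    have hiso : prod.map (𝟙 U) m = (P3.isoIsPullback _ _ P2').hom := by
      apply P2'.hom_ext
      · rw [IsPullback.isoIsPullback_hom_fst]
        simp
      · rw [IsPullback.isoIsPullback_hom_snd]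
        simp
    rw [hiso]
    infer_instance
  · intro hiso
    have b1 : IsPullback (prod.fst : U ⨯ X ⟶ U) (prod.map (𝟙 U) m) (𝟙 U)
        (prod.fst : U ⨯ X' ⟶ U) := IsPullback.of_vert_isIso ⟨by simp⟩
    have b2 := back2 U m
    have hvk := Adhesive.van_kampen' H'
    have := (hvk _ _ _ _ _ _ _ _ b1 b2 ⟨by rw [hk₁, Category.id_comp]⟩ ⟨hk₂⟩ ⟨pushout.condition⟩).1 H
    exact this.2.flip


end


open CategoryTheory.Limits in
/-- In the topos of sheaves of sets on a small site, let U be an open (a subobject of the final object)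
and, for an object X, let X_CU be the pushout of U ← U × X → X along the two projections. For a
morphism m : X ⟶ X' let k : X_CU ⟶ X'_CU be the induced morphism (compatible with the maps from U
and with m). Then the square with sides m, k and the canonical maps X ⟶ X_CU, X' ⟶ X'_CU is
cartesian if and only if id_U × m : U × X ⟶ U × X' is an isomorphism (that is, m restricts to an
isomorphism over U). -/
theorem result {C : Type u} [SmallCategory C] (J : GrothendieckTopology C)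
    (U : Sheaf J (Type u)) (hU : SGA4.IsOpen U) {X X' : Sheaf J (Type u)} (m : X ⟶ X')
    (k : pushout (prod.fst : U ⨯ X ⟶ U) (prod.snd : U ⨯ X ⟶ X) ⟶
      pushout (prod.fst : U ⨯ X' ⟶ U) (prod.snd : U ⨯ X' ⟶ X'))
    (hk₁ : pushout.inl (prod.fst : U ⨯ X ⟶ U) (prod.snd : U ⨯ X ⟶ X) ≫ k =
      pushout.inl (prod.fst : U ⨯ X' ⟶ U) (prod.snd : U ⨯ X' ⟶ X'))
    (hk₂ : pushout.inr (prod.fst : U ⨯ X ⟶ U) (prod.snd : U ⨯ X ⟶ X) ≫ k =
      m ≫ pushout.inr (prod.fst : U ⨯ X' ⟶ U) (prod.snd : U ⨯ X' ⟶ X')) :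
    IsPullback m (pushout.inr (prod.fst : U ⨯ X ⟶ U) (prod.snd : U ⨯ X ⟶ X))
        (pushout.inr (prod.fst : U ⨯ X' ⟶ U) (prod.snd : U ⨯ X' ⟶ X')) k ↔
      IsIso (prod.map (𝟙 U) m) := by
  classical
  exact main' U hU m k hk₁ hk₂

end Groth.Agent.S12107
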