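import Groth.Statements.S12108
import Mathlib

set_option autoImplicit false
open CategoryTheory CategoryTheory.Limits
universe u
open SGA4

namespace Groth.Agent.S12108

section
open CategoryTheory CategoryTheory.Limits

variable {C : Type u} [SmallCategory C] (J : GrothendieckTopology C)

/-- elements of a pullback of presheaves of types -/
theorem pb_elem {A B D : Cᵒᵖ ⥤ Type u} (f : A ⟶ D) (g : B ⟶ D) (Z : Cᵒᵖ) :
    (∀ p q : (pullback f g).obj Z, (pullback.fst f g).app Z p = (pullback.fst f g).app Z q →
      (pullback.snd f g).app Z p = (pullback.snd f g).app Z q → p = q) ∧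
    (∀ (x : A.obj Z) (y : B.obj Z), f.app Z x = g.app Z y →
      ∃ p, (pullback.fst f g).app Z p = x ∧ (pullback.snd f g).app Z p = y) := by
  have h := (IsPullback.of_hasPullback f g).map ((evaluation _ _).obj Z)
  have h' := (Types.isPullback_iff _ _ _ _).1 h
  refine ⟨fun p q h1 h2 => h'.2.1 p q ⟨h1, h2⟩, fun x y hxy => ?_⟩
  obtain ⟨p, hp1, hp2⟩ := h'.2.2 x y hxy
  refine ⟨p, ?_, ?_⟩
  · simpa only [evaluation_obj_map] using hp1
  · simpa only [evaluation_obj_map] using hp2

/-- condition at the level of elements -/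
theorem pb_cond {A B D : Cᵒᵖ ⥤ Type u} (f : A ⟶ D) (g : B ⟶ D) (Z : Cᵒᵖ)
    (p : (pullback f g).obj Z) :
    f.app Z ((pullback.fst f g).app Z p) = g.app Z ((pullback.snd f g).app Z p) := by
  have h1 := congrArg (fun t => t.app Z p) (pullback.condition (f := f) (g := g))
  simpa only [NatTrans.comp_app_apply] using h1

variable {X : C} {ι : Type u} (Y : ι → C) (s : ∀ i, Y i ⟶ X)

/-- the elementary extension property -/
def E : Prop := ∀ F : Cᵒᵖ ⥤ Type u, Presheaf.IsSheaf J F →
  Function.Bijective (fun (x : F.obj (Opposite.op X)) (i : ι) => F.map (s i).op x)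

/-- `(b')` -/
def B' : Prop := ∀ i (Z : C) (g₁ g₂ : Z ⟶ Y i), g₁ ≫ s i = g₂ ≫ s i →
  ∃ S ∈ J Z, ∀ W (k : W ⟶ Z), S k → k ≫ g₁ = k ≫ g₂

/-- `(c')` -/
def C' : Prop := ∀ i j, i ≠ j → ∀ (Z : C) (g₁ : Z ⟶ Y i) (g₂ : Z ⟶ Y j), g₁ ≫ s i = g₂ ≫ s j →
  ⊥ ∈ J Z

open Opposite in
theorem E_of_i (ha : Sieve.ofArrows Y s ∈ J X)
    (hb : ∀ i, J.W (pullback.diagonal (yoneda.map (s i))))
    (hc : ∀ i j, i ≠ j → ∀ F : Cᵒᵖ ⥤ Type u, Presheaf.IsSheaf J F →
      ∀ α β : pullback (yoneda.map (s i)) (yoneda.map (s j)) ⟶ F, α = β) : E J Y s := by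
  intro F hF
  have hF' : Presieve.IsSheaf J F := (isSheaf_iff_isSheaf_of_type J F).1 hF
  have hS := hF' _ ha
  have hS' : Presieve.IsSheafFor F (Presieve.ofArrows Y s) :=
    (Presieve.isSheafFor_iff_generate _).2 hS
  rw [Presieve.isSheafFor_arrows_iff] at hS'
  have key : ∀ x : (i : ι) → F.obj (op (Y i)), Presieve.Arrows.Compatible F s x := by
    intro x i j Z gi gj hcomm
    have hαβ : pullback.fst (yoneda.map (s i)) (yoneda.map (s j)) ≫ yonedaEquiv.symm (x i) =
        pullback.snd _ _ ≫ yonedaEquiv.symm (x j) := by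
      by_cases hij : i = j
      · subst hij
        apply (hb i F hF).1
        show pullback.diagonal _ ≫ _ = pullback.diagonal _ ≫ _
        rw [pullback.diagonal_fst_assoc, pullback.diagonal_snd_assoc]
      · exact hc i j hij F hF _ _
    have h1 := congrArg (fun t => pullback.lift (yoneda.map gi) (yoneda.map gj)
      (by rw [← Functor.map_comp, ← Functor.map_comp, hcomm]) ≫ t) hαβ
    simp only [pullback.lift_fst_assoc, pullback.lift_snd_assoc] at h1
    have h2 := congrArg yonedaEquiv h1
    rw [← yonedaEquiv_naturality, ← yonedaEquiv_naturality] at h2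
    simpa using h2
  constructor
  · intro t t' htt'
    obtain ⟨t0, _, huniq⟩ := hS' (fun i => F.map (s i).op t) (key _)
    rw [huniq t (fun i => rfl), huniq t' (fun i => (congrFun htt' i).symm)]
  · intro x
    obtain ⟨t, ht, _⟩ := hS' x (key x)
    exact ⟨t, funext ht⟩

theorem bij_iff_ysc {X : C} (S : Sieve X) (F : Cᵒᵖ ⥤ Type u) :
    Function.Bijective (fun g : yoneda.obj X ⟶ F => S.functorInclusion ≫ g) ↔
      Presieve.IsSheafFor F S.arrows := by
  rw [Presieve.isSheafFor_iff_yonedaSheafCondition]
  constructor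
  · intro h f
    obtain ⟨g, hg⟩ := h.2 f
    exact ⟨g, hg, fun g' hg' => h.1 (hg'.trans hg.symm)⟩
  · intro h
    constructor
    · intro g₁ g₂ h12
      obtain ⟨g, -, hg⟩ := h (S.functorInclusion ≫ g₁)
      rw [hg g₁ rfl, hg g₂ h12.symm]
    · intro f
      obtain ⟨g, hg, -⟩ := h f
      exact ⟨g, hg⟩

open Opposite in
theorem a_of_E (hE : E J Y s) : Sieve.ofArrows Y s ∈ J X := by
  have hW : J.W (Sieve.ofArrows Y s).functorInclusion := by
    intro F hF
    rw [bij_iff_ysc]
    show Presieve.IsSheafFor F (Sieve.generate (Presieve.ofArrows Y s)).arrows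
    rw [← Presieve.isSheafFor_iff_generate, Presieve.isSheafFor_arrows_iff]
    intro x _
    obtain ⟨t, ht⟩ := (hE F hF).2 x
    exact ⟨t, congrFun ht, fun t' ht' => (hE F hF).1 (by
      funext i
      exact (ht' i).trans (congrFun ht i).symm)⟩
  have hLS : Presheaf.IsLocallySurjective J (Sieve.ofArrows Y s).functorInclusion :=
    GrothendieckTopology.W.isLocallySurjective hW
  have h1 := Presheaf.imageSieve_mem J (Sieve.ofArrows Y s).functorInclusion (U := op X) (𝟙 X)
  refine J.superset_covering ?_ h1
  rintro W f ⟨u, hu⟩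
  have : u.1 = f ≫ 𝟙 X := hu
  rw [Category.comp_id] at this
  rw [← this]
  exact u.2

/-- the presheaf `W ↦ Option (W ⟶ T)` -/
def optP (T : C) : Cᵒᵖ ⥤ Type u where
  obj W := Option (W.unop ⟶ T)
  map f := ↾fun o => o.map (fun g => f.unop ≫ g)
  map_id W := by
    ext o
    cases o <;> simp
  map_comp f g := by
    ext o
    cases o <;> simp

open Opposite in
/-- `some g` as a section -/
def osome {T Z : C} (g : Z ⟶ T) : (optP T).obj (op Z) := some g

open Opposite in
/-- `none` as a section -/
def onone {T Z : C} : (optP T).obj (op Z) := none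

open Opposite in
theorem map_osome {T Z W : C} (k : W ⟶ Z) (g : Z ⟶ T) :
    (optP T).map k.op (osome g) = osome (k ≫ g) := rfl

open Opposite in
theorem map_onone {T Z W : C} (k : W ⟶ Z) :
    (optP T).map k.op (onone : (optP T).obj (op Z)) = onone := rfl

theorem osome_inj {T Z : C} {g g' : Z ⟶ T} (h : osome g = osome g') : g = g' :=
  Option.some.inj h

theorem osome_ne {T Z : C} (g : Z ⟶ T) : osome g ≠ onone := Option.some_ne_none _

open Opposite in
/-- the test family -/
def xfam (i k : ι) [Decidable (k = i)] : (optP (Y i)).obj (op (Y k)) :=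
  if h : k = i then osome (eqToHom (congrArg Y h)) else onone

theorem xfam_self (i : ι) [Decidable (i = i)] : xfam Y i i = osome (𝟙 (Y i)) := by
  simp [xfam]

theorem xfam_ne (i k : ι) [Decidable (k = i)] (h : k ≠ i) : xfam Y i k = onone := by
  simp [xfam, h]

open Opposite in
theorem BC_of_E (hE : E J Y s) : B' J Y s ∧ C' J Y s := by
  classical
  have key : ∀ i, ∃ t : (sheafify J (optP (Y i))).obj (op X), ∀ k,
      (sheafify J (optP (Y i))).map (s k).op t = (toSheafify J (optP (Y i))).app (op (Y k))
        (xfam Y i k) := by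
    intro i
    obtain ⟨t, ht⟩ := (hE (sheafify J (optP (Y i)))
      ((presheafToSheaf J (Type u)).obj (optP (Y i))).property).2
      (fun k => (toSheafify J (optP (Y i))).app (op (Y k)) (xfam Y i k))
    exact ⟨t, congrFun ht⟩
  have hη : ∀ i (Z W : C) (g : W ⟶ Z) (o : (optP (Y i)).obj (op Z)),
      (sheafify J (optP (Y i))).map g.op ((toSheafify J (optP (Y i))).app (op Z) o) =
        (toSheafify J (optP (Y i))).app (op W) ((optP (Y i)).map g.op o) := by
    intro i Z W g o
    exact (congrArg (fun m => m o) ((toSheafify J (optP (Y i))).naturality g.op)).symm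
  have e1 : ∀ i k (Z : C) (g : Z ⟶ Y k) (t : (sheafify J (optP (Y i))).obj (op X)),
      (sheafify J (optP (Y i))).map (g ≫ s k).op t =
        (sheafify J (optP (Y i))).map g.op ((sheafify J (optP (Y i))).map (s k).op t) := by
    intro i k Z g t
    rw [op_comp, Functor.map_comp]
    rfl
  constructor
  · intro i Z g₁ g₂ h12
    obtain ⟨t, ht⟩ := key i
    have e2 : ∀ g : Z ⟶ Y i, (toSheafify J (optP (Y i))).app (op Z) (osome g) =
        (sheafify J (optP (Y i))).map (g ≫ s i).op t := by
      intro g
      rw [e1, ht i, xfam_self, hη, map_osome, Category.comp_id]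
    have h3 : (toSheafify J (optP (Y i))).app (op Z) (osome g₁) =
        (toSheafify J (optP (Y i))).app (op Z) (osome g₂) := by rw [e2, e2, h12]
    refine ⟨_, Presheaf.equalizerSieve_mem J _ _ _ h3, ?_⟩
    intro W k hk
    exact osome_inj hk
  · intro i j hij Z g₁ g₂ h12
    obtain ⟨t, ht⟩ := key i
    have e2 : (toSheafify J (optP (Y i))).app (op Z) (osome g₁) =
        (sheafify J (optP (Y i))).map (g₁ ≫ s i).op t := by
      rw [e1, ht i, xfam_self, hη, map_osome, Category.comp_id]
    have e3 : (toSheafify J (optP (Y i))).app (op Z) onone =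
        (sheafify J (optP (Y i))).map (g₂ ≫ s j).op t := by
      rw [e1, ht j, xfam_ne Y i j (Ne.symm hij), hη, map_onone]
    have h3 : (toSheafify J (optP (Y i))).app (op Z) (osome g₁) =
        (toSheafify J (optP (Y i))).app (op Z) onone := by rw [e2, e3, h12]
    refine J.superset_covering ?_ (Presheaf.equalizerSieve_mem J _ _ _ h3)
    intro W k hk
    exact (osome_ne _ hk).elim

theorem pb_map_eq_diag {A D : Cᵒᵖ ⥤ Type u} (f : A ⟶ D) {Z W : Cᵒᵖ} (k : Z ⟶ W)
    (p : (pullback f f).obj Z)
    (h : A.map k ((pullback.fst f f).app Z p) = A.map k ((pullback.snd f f).app Z p)) :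
    (pullback f f).map k p = (pullback.diagonal f).app W (A.map k ((pullback.fst f f).app Z p)) := by
  have n1 : (pullback.fst f f).app W ((pullback f f).map k p) =
      A.map k ((pullback.fst f f).app Z p) :=
    congrArg (fun m => m p) ((pullback.fst f f).naturality k)
  have n2 : (pullback.snd f f).app W ((pullback f f).map k p) =
      A.map k ((pullback.snd f f).app Z p) :=
    congrArg (fun m => m p) ((pullback.snd f f).naturality k)
  have d1 : ∀ x : A.obj W, (pullback.fst f f).app W ((pullback.diagonal f).app W x) = x := fun x =>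
    congrArg (fun m => m.app W x) (pullback.diagonal_fst f)
  have d2 : ∀ x : A.obj W, (pullback.snd f f).app W ((pullback.diagonal f).app W x) = x := fun x =>
    congrArg (fun m => m.app W x) (pullback.diagonal_snd f)
  apply (pb_elem f f W).1
  · rw [n1, d1]
  · rw [n2, d2, h]

open Opposite in
theorem b_of_B' (hB : B' J Y s) (i : ι) : J.W (pullback.diagonal (yoneda.map (s i))) := by
  intro F hF
  have hF' : Presieve.IsSheaf J F := (isSheaf_iff_isSheaf_of_type J F).1 hF
  constructor
  · intro φ ψ h
    have h' : pullback.diagonal (yoneda.map (s i)) ≫ φ =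
      pullback.diagonal (yoneda.map (s i)) ≫ ψ := h
    ext Z p
    obtain ⟨S, hS, hk⟩ := hB i Z.unop
      ((pullback.fst (yoneda.map (s i)) (yoneda.map (s i))).app Z p)
      ((pullback.snd (yoneda.map (s i)) (yoneda.map (s i))).app Z p)
      (pb_cond _ _ Z p)
    apply (hF' S hS).isSeparatedFor.ext
    intro W k hkS
    have n1 : ∀ θ : pullback (yoneda.map (s i)) (yoneda.map (s i)) ⟶ F,
        F.map k.op (θ.app Z p) =
          θ.app (op W) ((pullback (yoneda.map (s i)) (yoneda.map (s i))).map k.op p) := fun θ =>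
      (congrArg (fun m => m p) (θ.naturality k.op)).symm
    refine ((n1 φ).trans ?_).trans (n1 ψ).symm
    rw [pb_map_eq_diag _ _ _ (hk W k hkS)]
    have h2 := congrArg (fun m => m.app (op W) ((yoneda.obj (Y i)).map k.op
      ((pullback.fst (yoneda.map (s i)) (yoneda.map (s i))).app Z p))) h'
    simpa only [NatTrans.comp_app_apply] using h2
  · intro h
    exact ⟨pullback.fst _ _ ≫ h, pullback.diagonal_fst_assoc _ _⟩

open Opposite in
theorem c_of_C' (hC : C' J Y s) (i j : ι) (hij : i ≠ j) :
    Nonempty (IsInitial ((presheafToSheaf J (Type u)).obj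
      (pullback (yoneda.map (s i)) (yoneda.map (s j))))) := by
  classical
  have hbot : ∀ Z : Cᵒᵖ, (pullback (yoneda.map (s i)) (yoneda.map (s j))).obj Z → ⊥ ∈ J Z.unop :=
    fun Z p => hC i j hij Z.unop ((pullback.fst (yoneda.map (s i)) (yoneda.map (s j))).app Z p)
      ((pullback.snd (yoneda.map (s i)) (yoneda.map (s j))).app Z p) (pb_cond _ _ Z p)
  have huniq : ∀ (F : Cᵒᵖ ⥤ Type u), Presieve.IsSheaf J F → ∀ Z : Cᵒᵖ, ⊥ ∈ J Z.unop →
      ∃ t : F.obj Z, ∀ t' : F.obj Z, t' = t := by
    intro F hF Z hZ
    have hs := hF ⊥ hZ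
    obtain ⟨t, _, ht⟩ := hs (fun W f hf => (hf : False).elim)
      (fun _ _ _ _ _ _ _ h1 => (h1 : False).elim)
    exact ⟨t, fun t' => ht t' (fun W f hf => (hf : False).elim)⟩
  have hmap : ∀ F : Sheaf J (Type u),
      ∃ φ : pullback (yoneda.map (s i)) (yoneda.map (s j)) ⟶ F.obj, ∀ ψ, ψ = φ := by
    intro F
    have hF : Presieve.IsSheaf J F.obj := (isSheaf_iff_isSheaf_of_type J _).1 F.property
    refine ⟨{ app := fun Z => ↾fun p => (huniq F.obj hF Z (hbot Z p)).choose, naturality := ?_ }, ?_⟩
    · intro Z W k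
      ext p
      exact ((huniq F.obj hF W (hbot W
        ((pullback (yoneda.map (s i)) (yoneda.map (s j))).map k p))).choose_spec _).symm
    · intro ψ
      ext Z p
      exact (huniq F.obj hF Z (hbot Z p)).choose_spec _
  refine ⟨IsInitial.ofUniqueHom (fun F =>
    ((sheafificationAdjunction J (Type u)).homEquiv _ F).symm (hmap F).choose) ?_⟩
  intro F m
  apply ((sheafificationAdjunction J (Type u)).homEquiv _ F).injective
  rw [Equiv.apply_symm_apply]
  exact (hmap F).choose_spec _

open Opposite in
/-- evaluation -/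
noncomputable def ev (Z : C) (F : Sheaf J (Type u)) :
    ((presheafToSheaf J (Type u)).obj (yoneda.obj Z) ⟶ F) ≃ F.obj.obj (op Z) :=
  ((sheafificationAdjunction J (Type u)).homEquiv (yoneda.obj Z) F).trans yonedaEquiv

open Opposite in
theorem ev_nat {Z Z' : C} (g : Z' ⟶ Z) (F : Sheaf J (Type u))
    (ψ : (presheafToSheaf J (Type u)).obj (yoneda.obj Z) ⟶ F) :
    ev J Z' F ((presheafToSheaf J (Type u)).map (yoneda.map g) ≫ ψ) =
      F.obj.map g.op (ev J Z F ψ) := by
  simp only [ev, Equiv.trans_apply]
  rw [Adjunction.homEquiv_naturality_left]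
  exact (yonedaEquiv_naturality _ _).symm

open Opposite in
theorem ii_iff_E :
    Nonempty (IsColimit (Cofan.mk ((presheafToSheaf J (Type u)).obj (yoneda.obj X))
      (fun i => (presheafToSheaf J (Type u)).map (yoneda.map (s i))))) ↔ E J Y s := by
  constructor
  · rintro ⟨hc⟩ F hF
    let F' : Sheaf J (Type u) := ⟨F, hF⟩
    constructor
    · intro t t' h
      have h1 : (ev J X F').symm t = (ev J X F').symm t' := by
        refine Cofan.IsColimit.hom_ext hc _ _ (fun i => ?_)
        apply (ev J (Y i) F').injective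
        show ev J (Y i) F' ((presheafToSheaf J (Type u)).map (yoneda.map (s i)) ≫ _) =
          ev J (Y i) F' ((presheafToSheaf J (Type u)).map (yoneda.map (s i)) ≫ _)
        rw [ev_nat, ev_nat, Equiv.apply_symm_apply, Equiv.apply_symm_apply]
        exact congrFun h i
      exact (ev J X F').symm.injective h1
    · intro x
      refine ⟨ev J X F' (Cofan.IsColimit.desc hc (fun i => (ev J (Y i) F').symm (x i))), ?_⟩
      funext i
      show F'.obj.map (s i).op _ = x i
      rw [← ev_nat]
      have := Cofan.IsColimit.fac hc (fun i => (ev J (Y i) F').symm (x i)) i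
      have h2 : (presheafToSheaf J (Type u)).map (yoneda.map (s i)) ≫
          Cofan.IsColimit.desc hc (fun i => (ev J (Y i) F').symm (x i)) =
          (ev J (Y i) F').symm (x i) := this
      rw [h2, Equiv.apply_symm_apply]
  · intro hE
    have hch : ∀ c : Cofan (fun i => (presheafToSheaf J (Type u)).obj (yoneda.obj (Y i))),
        ∃ t : c.pt.obj.obj (op X), ∀ i, c.pt.obj.map (s i).op t = ev J (Y i) c.pt (c.inj i) :=
      fun c => by
        obtain ⟨t, ht⟩ := (hE c.pt.obj c.pt.property).2 (fun i => ev J (Y i) c.pt (c.inj i))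
        exact ⟨t, congrFun ht⟩
    refine ⟨Cofan.IsColimit.mk _ (fun c => (ev J X c.pt).symm (hch c).choose) ?_ ?_⟩
    · intro c i
      apply (ev J (Y i) c.pt).injective
      show ev J (Y i) c.pt ((presheafToSheaf J (Type u)).map (yoneda.map (s i)) ≫ _) = _
      rw [ev_nat, Equiv.apply_symm_apply]
      exact (hch c).choose_spec i
    · intro c m hm
      apply (ev J X c.pt).injective
      rw [Equiv.apply_symm_apply]
      apply (hE c.pt.obj c.pt.property).1
      funext i
      show c.pt.obj.map (s i).op (ev J X c.pt m) = c.pt.obj.map (s i).op (hch c).choose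
      rw [← ev_nat, (hch c).choose_spec i]
      exact congrArg _ (hm i)

theorem main :
    (Sieve.ofArrows Y s ∈ J X ∧
      (∀ i, IsIso ((presheafToSheaf J (Type u)).map (pullback.diagonal (yoneda.map (s i))))) ∧
      (∀ i j, i ≠ j → Nonempty (IsInitial ((presheafToSheaf J (Type u)).obj
        (pullback (yoneda.map (s i)) (yoneda.map (s j))))))) ↔
    Nonempty (IsColimit (Cofan.mk ((presheafToSheaf J (Type u)).obj (yoneda.obj X))
      (fun i => (presheafToSheaf J (Type u)).map (yoneda.map (s i))))) := by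
  rw [ii_iff_E]
  constructor
  · rintro ⟨ha, hb, hc⟩
    refine E_of_i J Y s ha (fun i => (J.W_iff _).2 (hb i)) ?_
    intro i j hij F hF α β
    obtain ⟨hI⟩ := hc i j hij
    let F' : Sheaf J (Type u) := ⟨F, hF⟩
    have h1 : ((sheafificationAdjunction J (Type u)).homEquiv _ F').symm α =
        ((sheafificationAdjunction J (Type u)).homEquiv _ F').symm β := hI.hom_ext _ _
    exact ((sheafificationAdjunction J (Type u)).homEquiv _ F').symm.injective h1
  · intro hE
    obtain ⟨hB, hC⟩ := BC_of_E J Y s hE
    exact ⟨a_of_E J Y s hE, fun i => (J.W_iff _).1 (b_of_B' J Y s hB i),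
      fun i j hij => c_of_C' J Y s hC i j hij⟩


end


/-- Let `(C, J)` be a small site, `X` an object and `s i : Y i ⟶ X` a family of morphisms indexed by a
small type. The following are equivalent: (i) the family is covering, for every `i` the diagonal of
presheaves `h_{Y i} ⟶ h_{Y i} ×_{h_X} h_{Y i}` becomes an isomorphism under the associated-sheaf
functor, and for all `i ≠ j` the sheaf associated to the presheaf `h_{Y i} ×_{h_X} h_{Y j}` is an
initial object; (ii) the associated sheaf of `X`, with the maps induced by the `s i`, is a coproduct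
of the associated sheaves of the `Y i` in sheaves of sets. -/
theorem result
    {C : Type u} [SmallCategory C] (J : GrothendieckTopology C) {X : C} {ι : Type u}
    (Y : ι → C) (s : ∀ i, Y i ⟶ X) :
    (Sieve.ofArrows Y s ∈ J X ∧
      (∀ i, IsIso ((presheafToSheaf J (Type u)).map (pullback.diagonal (yoneda.map (s i))))) ∧
      (∀ i j, i ≠ j → Nonempty (IsInitial ((presheafToSheaf J (Type u)).obj
        (pullback (yoneda.map (s i)) (yoneda.map (s j))))))) ↔
    Nonempty (IsColimit (Cofan.mk ((presheafToSheaf J (Type u)).obj (yoneda.obj X))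
      (fun i => (presheafToSheaf J (Type u)).map (yoneda.map (s i))))) := by
  classical
  exact main J Y s

end Groth.Agent.S12108
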