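import Groth.Statements.S6135
import Mathlib

set_option autoImplicit false
open CategoryTheory CategoryTheory.Limits
universe u
open SGA4

namespace Groth.Agent.S6135

section
open CategoryTheory CategoryTheory.Limits Opposite

variable {C : Type u} [SmallCategory C] {C' : Type u} [SmallCategory C'] (u : C ⥤ C')

/-- `u_!` -/
noncomputable abbrev L : (Cᵒᵖ ⥤ Type u) ⥤ (C'ᵒᵖ ⥤ Type u) := u.op.lan

/-- `u^*` -/
abbrev Us : (C'ᵒᵖ ⥤ Type u) ⥤ (Cᵒᵖ ⥤ Type u) :=
  (Functor.whiskeringLeft Cᵒᵖ C'ᵒᵖ (Type u)).obj u.op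

/-- the adjunction -/
noncomputable abbrev adj : L u ⊣ Us u := u.op.lanAdjunction (Type u)

/-- the map `h_Y ⟶ u^* h_{uY}` -/
def yu (Y : C) : yoneda.obj Y ⟶ (Us u).obj (yoneda.obj (u.obj Y)) where
  app Z := ↾fun g => u.map g
  naturality Z W h := by
    ext g
    exact u.map_comp _ _

/-- `u_! h_Y ⟶ h_{uY}` -/
noncomputable def a (Y : C) : (L u).obj (yoneda.obj Y) ⟶ yoneda.obj (u.obj Y) :=
  ((adj u).homEquiv _ _).symm (yu u Y)

theorem unit_a (Y : C) : (adj u).unit.app (yoneda.obj Y) ≫ (Us u).map (a u Y) = yu u Y := by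
  have := ((adj u).homEquiv _ _).apply_symm_apply (yu u Y)
  rw [Adjunction.homEquiv_unit] at this
  exact this

theorem a_unit_apply (Y Z : C) (g : Z ⟶ Y) :
    (a u Y).app (op (u.obj Z)) (((adj u).unit.app (yoneda.obj Y)).app (op Z) g) = u.map g := by
  have := congrFun (congrArg (fun t => t.app (op Z)) (unit_a u Y)) g
  exact this

/-- `h_{uY} ⟶ u_! h_Y` -/
noncomputable def b (Y : C) : yoneda.obj (u.obj Y) ⟶ (L u).obj (yoneda.obj Y) :=
  yonedaEquiv.symm (((adj u).unit.app (yoneda.obj Y)).app (op Y) (𝟙 Y))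

theorem b_a (Y : C) : b u Y ≫ a u Y = 𝟙 _ := by
  apply yonedaEquiv.injective
  rw [yonedaEquiv_comp]
  show (a u Y).app (op (u.obj Y)) (yonedaEquiv (b u Y)) = yonedaEquiv (𝟙 _)
  rw [b, Equiv.apply_symm_apply, a_unit_apply]
  simp [yonedaEquiv]

theorem yu_b (Y : C) : yu u Y ≫ (Us u).map (b u Y) = (adj u).unit.app (yoneda.obj Y) := by
  apply yonedaEquiv.injective
  rw [yonedaEquiv_comp]
  show ((b u Y).app (op (u.obj Y))) (u.map (𝟙 Y)) = _
  rw [u.map_id]
  show yonedaEquiv (b u Y) = _
  rw [b, Equiv.apply_symm_apply]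
  rfl

theorem a_b (Y : C) : a u Y ≫ b u Y = 𝟙 _ := by
  apply ((adj u).homEquiv _ _).injective
  rw [Adjunction.homEquiv_unit, Adjunction.homEquiv_unit, Functor.map_comp, ← Category.assoc,
    unit_a, yu_b]
  simp

/-- `u_! h_Y ≅ h_{uY}` -/
noncomputable def aIso (Y : C) : (L u).obj (yoneda.obj Y) ≅ yoneda.obj (u.obj Y) where
  hom := a u Y
  inv := b u Y
  hom_inv_id := a_b u Y
  inv_hom_id := b_a u Y

theorem a_nat {X Y : C} (f : X ⟶ Y) :
    (L u).map (yoneda.map f) ≫ a u Y = a u X ≫ yoneda.map (u.map f) := by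
  apply ((adj u).homEquiv _ _).injective
  rw [Adjunction.homEquiv_unit, Adjunction.homEquiv_unit, Functor.map_comp, Functor.map_comp,
    ← Category.assoc, ← Category.assoc, unit_a]
  have h1 := (adj u).unit.naturality (yoneda.map f)
  simp only [Functor.id_obj, Functor.id_map, Functor.comp_obj, Functor.comp_map] at h1
  rw [← h1, Category.assoc, unit_a]
  ext Z g
  exact u.map_comp _ _

theorem unit_nat_apply {H K : Cᵒᵖ ⥤ Type u} (α : H ⟶ K) (Z : C) (x : H.obj (op Z)) :
    ((L u).map α).app (op (u.obj Z)) (((adj u).unit.app H).app (op Z) x) =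
      ((adj u).unit.app K).app (op Z) (α.app (op Z) x) := by
  have h1 := (adj u).unit.naturality α
  have := congrFun (congrArg (fun t => t.app (op Z)) h1) x
  exact this.symm

theorem faithful_of_inj
    (h : ∀ X Y : C, Function.Injective
      (fun φ : yoneda.obj X ⟶ yoneda.obj Y => (L u).map φ)) : u.Faithful := by
  refine ⟨fun {X Y} f g hfg => ?_⟩
  have : IsIso (a u Y) := (aIso u Y).isIso_hom
  have h1 : (L u).map (yoneda.map f) = (L u).map (yoneda.map g) := by
    rw [← cancel_mono (a u Y), a_nat, a_nat, hfg]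
  exact yoneda.map_injective (h X Y h1)

theorem unit_inj [u.Faithful] (G : Cᵒᵖ ⥤ Type u) (hG : IsIndObject G) (Z : C) :
    Function.Injective (((adj u).unit.app G).app (op Z)) := by
  obtain ⟨⟨P⟩⟩ := hG
  intro x x' hxx
  have hc := isColimitOfPreserves ((evaluation Cᵒᵖ (Type u)).obj (op Z)) P.coconeIsColimit
  obtain ⟨j, g, rfl⟩ := Types.jointly_surjective_of_isColimit hc x
  obtain ⟨j', g', rfl⟩ := Types.jointly_surjective_of_isColimit hc x'
  have : PreservesColimits (L u) := (adj u).leftAdjoint_preservesColimits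
  have hc' := isColimitOfPreserves ((evaluation C'ᵒᵖ (Type u)).obj (op (u.obj Z)))
    (isColimitOfPreserves (L u) P.coconeIsColimit)
  have e1 := unit_nat_apply u (P.cocone.ι.app j) Z g
  have e2 := unit_nat_apply u (P.cocone.ι.app j') Z g'
  have e3 : ((L u).map (P.cocone.ι.app j)).app (op (u.obj Z))
        (((adj u).unit.app _).app (op Z) g) =
      ((L u).map (P.cocone.ι.app j')).app (op (u.obj Z))
        (((adj u).unit.app _).app (op Z) g') := by
    rw [e1, e2]
    exact hxx
  obtain ⟨k, f, f', hk⟩ := (Types.FilteredColimit.isColimit_eq_iff _ hc').1 e3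
  refine (Types.FilteredColimit.isColimit_eq_iff _ hc).2 ⟨k, f, f', ?_⟩
  have e4 := unit_nat_apply u (yoneda.map (P.F.map f)) Z g
  have e5 := unit_nat_apply u (yoneda.map (P.F.map f')) Z g'
  have e6 : ((adj u).unit.app (yoneda.obj (P.F.obj k))).app (op Z) (g ≫ P.F.map f) =
      ((adj u).unit.app (yoneda.obj (P.F.obj k))).app (op Z) (g' ≫ P.F.map f') := by
    refine e4.symm.trans (Eq.trans ?_ e5)
    exact hk
  have e7 := congrArg ((a u (P.F.obj k)).app (op (u.obj Z))) e6
  rw [a_unit_apply, a_unit_apply] at e7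
  exact u.map_injective e7

theorem main : u.Faithful ↔ ∀ (F G : Cᵒᵖ ⥤ Type u), IsIndObject F → IsIndObject G →
      Function.Injective (fun φ : F ⟶ G => (u.op.lan : (Cᵒᵖ ⥤ Type u) ⥤ (C'ᵒᵖ ⥤ Type u)).map φ) := by
  constructor
  · intro hu F G _ hG φ ψ h
    have h' : (L u).map φ = (L u).map ψ := h
    ext ⟨Z⟩ x
    apply unit_inj u G hG Z
    exact ((unit_nat_apply u φ Z x).symm.trans (by rw [h'])).trans (unit_nat_apply u ψ Z x)
  · intro h
    exact faithful_of_inj u (fun X Y => h _ _ (isIndObject_yoneda X) (isIndObject_yoneda Y))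


end


/-- Faithful case. Let `u : C ⥤ C'` be a functor between small categories and `u_!` the left Kan
extension functor on presheaves of sets, whose restriction to ind-objects (presheaves that are small
filtered colimits of representables) is the induced functor `Ind C ⥤ Ind C'`. Then `u` is faithful
if and only if `u_!` is injective on morphisms between ind-representable presheaves. -/
theorem result
    {C : Type u} [SmallCategory C] {C' : Type u} [SmallCategory C'] (u : C ⥤ C') :
    u.Faithful ↔ ∀ (F G : Cᵒᵖ ⥤ Type u), IsIndObject F → IsIndObject G →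
      Function.Injective (fun φ : F ⟶ G => (u.op.lan : (Cᵒᵖ ⥤ Type u) ⥤ (C'ᵒᵖ ⥤ Type u)).map φ) := by
  classical
  exact main u

end Groth.Agent.S6135
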