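import Groth.Statements.S6136
import Mathlib
import Groth.Agent.S6135

set_option autoImplicit false
open CategoryTheory CategoryTheory.Limits
universe u
open SGA4

namespace Groth.Agent.S6136

section
open CategoryTheory CategoryTheory.Limits Opposite
open Groth.Agent.S6135

variable {C : Type u} [SmallCategory C] {C' : Type u} [SmallCategory C'] (u : C ⥤ C')

theorem full_of_bij
    (h : ∀ X Y : C, Function.Bijective
      (fun φ : yoneda.obj X ⟶ yoneda.obj Y => (L u).map φ)) : u.Full := by
  refine ⟨fun {X Y} k => ?_⟩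
  obtain ⟨φ, hφ⟩ := (h X Y).2 (a u X ≫ yoneda.map k ≫ b u Y)
  obtain ⟨f, rfl⟩ := yoneda.map_surjective φ
  refine ⟨f, ?_⟩
  have h1 : (L u).map (yoneda.map f) ≫ a u Y = a u X ≫ yoneda.map k := by
    have hφ' : (L u).map (yoneda.map f) = a u X ≫ yoneda.map k ≫ b u Y := hφ
    rw [hφ', Category.assoc, Category.assoc, b_a, Category.comp_id]
  rw [a_nat] at h1
  have : IsIso (a u X) := (aIso u X).isIso_hom
  have h2 := (cancel_epi (a u X)).1 h1
  exact yoneda.map_injective h2

theorem bij_of_ff [u.Full] [u.Faithful] (F G : Cᵒᵖ ⥤ Type u) :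
    Function.Bijective (fun φ : F ⟶ G => (L u).map φ) := by
  have : IsIso (adj u).unit := inferInstance
  exact ((adj u).fullyFaithfulLOfIsIsoUnit).map_bijective F G

theorem main : (u.Full ∧ u.Faithful) ↔ ∀ (F G : Cᵒᵖ ⥤ Type u), IsIndObject F → IsIndObject G →
      Function.Bijective (fun φ : F ⟶ G => (u.op.lan : (Cᵒᵖ ⥤ Type u) ⥤ (C'ᵒᵖ ⥤ Type u)).map φ) := by
  constructor
  · rintro ⟨h1, h2⟩ F G _ _
    exact bij_of_ff u F G
  · intro h
    refine ⟨full_of_bij u (fun X Y => h _ _ (isIndObject_yoneda X) (isIndObject_yoneda Y)), ?_⟩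
    exact faithful_of_inj u (fun X Y => (h _ _ (isIndObject_yoneda X) (isIndObject_yoneda Y)).1)


end


/-- Fully faithful case. Let `u : C ⥤ C'` be a functor between small categories and `u_!` the left Kan
extension functor on presheaves of sets, whose restriction to ind-representable presheaves is the
induced functor `Ind C ⥤ Ind C'`. Then `u` is full and faithful if and only if `u_!` is bijective on
morphisms between ind-representable presheaves. -/
theorem result
    {C : Type u} [SmallCategory C] {C' : Type u} [SmallCategory C'] (u : C ⥤ C') :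
    (u.Full ∧ u.Faithful) ↔ ∀ (F G : Cᵒᵖ ⥤ Type u), IsIndObject F → IsIndObject G →
      Function.Bijective (fun φ : F ⟶ G => (u.op.lan : (Cᵒᵖ ⥤ Type u) ⥤ (C'ᵒᵖ ⥤ Type u)).map φ) := by
  classical
  exact main u

end Groth.Agent.S6136
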