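import Groth.Statements.S12109
import Mathlib
import Groth.Agent.S6135
import Groth.Agent.S6136

set_option autoImplicit false
open CategoryTheory CategoryTheory.Limits
universe u
open SGA4

namespace Groth.Agent.S12109

section
open CategoryTheory CategoryTheory.Limits Opposite
open Groth.Agent.S6135

variable {C : Type u} [SmallCategory C] {C' : Type u} [SmallCategory C'] (u : C ⥤ C')

/-- (⟹) retract part -/
theorem retract_of_essSurj
    (h : ∀ G' : C'ᵒᵖ ⥤ Type u, IsIndObject G' →
        ∃ F : Cᵒᵖ ⥤ Type u, IsIndObject F ∧ Nonempty ((L u).obj F ≅ G')) (X' : C') :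
    ∃ (X : C) (i : X' ⟶ u.obj X) (r : u.obj X ⟶ X'), i ≫ r = 𝟙 X' := by
  obtain ⟨F, ⟨⟨P⟩⟩, ⟨e⟩⟩ := h (yoneda.obj X') (isIndObject_yoneda X')
  have : PreservesColimits (L u) := (adj u).leftAdjoint_preservesColimits
  have hc' := isColimitOfPreserves ((evaluation C'ᵒᵖ (Type u)).obj (op X'))
    (isColimitOfPreserves (L u) P.coconeIsColimit)
  obtain ⟨j, ξ, hξ⟩ := Types.jointly_surjective_of_isColimit hc' (e.inv.app (op X') (𝟙 X'))
  have hξ' : ((L u).map (P.cocone.ι.app j)).app (op X') ξ = e.inv.app (op X') (𝟙 X') := hξ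
  let ρ : yoneda.obj (u.obj (P.F.obj j)) ⟶ yoneda.obj X' :=
    b u (P.F.obj j) ≫ (L u).map (P.cocone.ι.app j) ≫ e.hom
  let i : X' ⟶ u.obj (P.F.obj j) := (a u (P.F.obj j)).app (op X') ξ
  obtain ⟨r, hr⟩ := yoneda.map_surjective ρ
  refine ⟨P.F.obj j, i, r, ?_⟩
  have h1 : ρ.app (op X') i = i ≫ r := by
    rw [← hr]
    rfl
  rw [← h1]
  show e.hom.app (op X') (((L u).map (P.cocone.ι.app j)).app (op X')
    ((b u (P.F.obj j)).app (op X') ((a u (P.F.obj j)).app (op X') ξ))) = 𝟙 X'
  have h2 : (b u (P.F.obj j)).app (op X') ((a u (P.F.obj j)).app (op X') ξ) = ξ := by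
    have := congrFun (congrArg (fun t => t.app (op X')) (a_b u (P.F.obj j))) ξ
    exact this
  rw [h2, hξ']
  have := congrFun (congrArg (fun t => t.app (op X')) e.inv_hom_id) (𝟙 X')
  exact this

section conv
variable [u.Full] [u.Faithful]
  (hr : ∀ X' : C', ∃ (X : C) (i : X' ⟶ u.obj X) (r : u.obj X ⟶ X'), i ≫ r = 𝟙 X')

theorem counit_app_bij_u (G' : C'ᵒᵖ ⥤ Type u) (X : C) :
    Function.Bijective (((adj u).counit.app G').app (op (u.obj X))) := by
  have h1 := (adj u).right_triangle_components G'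
  have h2 : IsIso ((adj u).unit.app ((Us u).obj G')) := inferInstance
  have h3 : IsIso ((Us u).map ((adj u).counit.app G')) := by
    have : (Us u).map ((adj u).counit.app G') = inv ((adj u).unit.app ((Us u).obj G')) := by
      rw [← cancel_epi ((adj u).unit.app ((Us u).obj G')), IsIso.hom_inv_id]
      exact h1
    rw [this]
    infer_instance
  have h4 : IsIso (((Us u).map ((adj u).counit.app G')).app (op X)) := inferInstance
  exact (isIso_iff_bijective _).1 h4

include hr in
theorem counit_iso (G' : C'ᵒᵖ ⥤ Type u) : IsIso ((adj u).counit.app G') := by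
  have hb : ∀ X' : C'ᵒᵖ, IsIso (((adj u).counit.app G').app X') := by
    rintro ⟨X'⟩
    obtain ⟨X, i, r, hir⟩ := hr X'
    rw [isIso_iff_bijective]
    set ε := (adj u).counit.app G' with hε
    obtain ⟨hinj, hsurj⟩ := counit_app_bij_u u G' X
    have nat_r : ∀ x, ε.app (op (u.obj X)) (((L u).obj ((Us u).obj G')).map r.op x) =
        G'.map r.op (ε.app (op X') x) := fun x =>
      NatTrans.naturality_apply ε r.op x
    have nat_i : ∀ x, ε.app (op X') (((L u).obj ((Us u).obj G')).map i.op x) =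
        G'.map i.op (ε.app (op (u.obj X)) x) := fun x =>
      NatTrans.naturality_apply ε i.op x
    have hA : ∀ x, ((L u).obj ((Us u).obj G')).map i.op
        (((L u).obj ((Us u).obj G')).map r.op x) = x := by
      intro x
      rw [← Functor.map_comp_apply, ← op_comp, hir]
      simp
    have hB : ∀ z, G'.map i.op (G'.map r.op z) = z := by
      intro z
      rw [← Functor.map_comp_apply, ← op_comp, hir]
      simp
    constructor
    · intro x y hxy
      have h1 : ((L u).obj ((Us u).obj G')).map r.op x =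
          ((L u).obj ((Us u).obj G')).map r.op y := by
        apply hinj
        rw [nat_r, nat_r, hxy]
      rw [← hA x, ← hA y, h1]
    · intro z
      obtain ⟨w, hw⟩ := hsurj (G'.map r.op z)
      refine ⟨((L u).obj ((Us u).obj G')).map i.op w, ?_⟩
      rw [nat_i, hw, hB]
  exact NatIso.isIso_of_isIso_app _

end conv

section ind

/-- transport an object of the comma category along `u` -/
noncomputable def push (G' : C'ᵒᵖ ⥤ Type u) (o : CostructuredArrow yoneda ((Us u).obj G')) :
    CostructuredArrow yoneda G' :=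
  CostructuredArrow.mk (Y := u.obj o.left)
    (yonedaEquiv.symm (yonedaEquiv (F := (Us u).obj G') o.hom : G'.obj (op (u.obj o.left))))

theorem push_hom_elem (G' : C'ᵒᵖ ⥤ Type u) (o : CostructuredArrow yoneda ((Us u).obj G')) :
    yonedaEquiv (push u G' o).hom = yonedaEquiv (F := (Us u).obj G') o.hom :=
  Equiv.apply_symm_apply _ _

/-- an element gives an object of the comma category -/
noncomputable def elObj (A : Cᵒᵖ ⥤ Type u) (X : C) (x : A.obj (op X)) :
    CostructuredArrow yoneda A :=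
  CostructuredArrow.mk (Y := X) (yonedaEquiv.symm x)

theorem hom_cond (A : Cᵒᵖ ⥤ Type u) {X Y : C} (g : X ⟶ Y) (s : yoneda.obj X ⟶ A)
    (t : yoneda.obj Y ⟶ A) :
    yoneda.map g ≫ t = s ↔ A.map g.op (yonedaEquiv t) = yonedaEquiv s := by
  rw [← yonedaEquiv.apply_eq_iff_eq, yonedaEquiv_comp, yonedaEquiv_yoneda_map]
  rw [yonedaEquiv_naturality]
  constructor <;> intro h <;> simpa [yonedaEquiv] using h

variable [u.Full] [u.Faithful]
  (hr : ∀ X' : C', ∃ (X : C) (i : X' ⟶ u.obj X) (r : u.obj X ⟶ X'), i ≫ r = 𝟙 X')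

/-- a morphism out of a pushed object yields one in the source comma category -/
theorem exists_hom (G' : C'ᵒᵖ ⥤ Type u) (o : CostructuredArrow yoneda ((Us u).obj G'))
    {X' : C'} (x' : G'.obj (op X')) (f : u.obj o.left ⟶ X')
    (hf : G'.map f.op x' = yonedaEquiv (F := (Us u).obj G') o.hom)
    {X : C} (i : X' ⟶ u.obj X) (r : u.obj X ⟶ X') (hir : i ≫ r = 𝟙 _) :
    ∃ k : o ⟶ elObj ((Us u).obj G') X (G'.map r.op x'),
      u.map k.left = f ≫ i := by
  refine ⟨CostructuredArrow.homMk (u.preimage (f ≫ i)) ?_, ?_⟩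
  · rw [hom_cond]
    have h1 : yonedaEquiv (F := (Us u).obj G')
        (elObj ((Us u).obj G') X (G'.map r.op x')).hom =
        G'.map r.op x' := Equiv.apply_symm_apply _ _
    rw [h1]
    show G'.map (u.map (u.preimage (f ≫ i))).op (G'.map r.op x') = _
    rw [u.map_preimage, ← Functor.map_comp_apply, ← op_comp, Category.assoc, hir, Category.comp_id]
    exact hf
  · exact u.map_preimage _

include hr in
theorem isFiltered_pull (G' : C'ᵒᵖ ⥤ Type u) [IsFiltered (CostructuredArrow yoneda G')] :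
    IsFiltered (CostructuredArrow yoneda ((Us u).obj G')) := by
  have hne : Nonempty (CostructuredArrow yoneda ((Us u).obj G')) := by
    obtain ⟨o'⟩ := (IsFiltered.nonempty : Nonempty (CostructuredArrow yoneda G'))
    obtain ⟨X, i, r, hir⟩ := hr o'.left
    exact ⟨elObj ((Us u).obj G') X (G'.map r.op (yonedaEquiv o'.hom))⟩
  refine { cocone_objs := ?_, cocone_maps := ?_, nonempty := hne }
  · intro o₁ o₂
    let m := IsFiltered.max (push u G' o₁) (push u G' o₂)
    let f₁ : push u G' o₁ ⟶ m := IsFiltered.leftToMax _ _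
    let f₂ : push u G' o₂ ⟶ m := IsFiltered.rightToMax _ _
    obtain ⟨X, i, r, hir⟩ := hr m.left
    have h₁ := (hom_cond G' f₁.left _ _).1 (CostructuredArrow.w f₁)
    have h₂ := (hom_cond G' f₂.left _ _).1 (CostructuredArrow.w f₂)
    rw [push_hom_elem] at h₁ h₂
    obtain ⟨k₁, -⟩ := exists_hom u G' o₁ (yonedaEquiv m.hom) f₁.left h₁ i r hir
    obtain ⟨k₂, -⟩ := exists_hom u G' o₂ (yonedaEquiv m.hom) f₂.left h₂ i r hir
    exact ⟨_, k₁, k₂, trivial⟩
  · intro o₁ o₂ g g'
    have hg := (hom_cond ((Us u).obj G') g.left _ _).1 (CostructuredArrow.w g)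
    have hg' := (hom_cond ((Us u).obj G') g'.left _ _).1 (CostructuredArrow.w g')
    let φ : push u G' o₁ ⟶ push u G' o₂ := CostructuredArrow.homMk (u.map g.left)
      ((hom_cond G' (u.map g.left) _ _).2
        ((congrArg (G'.map (u.map g.left).op) (push_hom_elem u G' o₂)).trans
          (hg.trans (push_hom_elem u G' o₁).symm)))
    let φ' : push u G' o₁ ⟶ push u G' o₂ := CostructuredArrow.homMk (u.map g'.left)
      ((hom_cond G' (u.map g'.left) _ _).2
        ((congrArg (G'.map (u.map g'.left).op) (push_hom_elem u G' o₂)).trans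
          (hg'.trans (push_hom_elem u G' o₁).symm)))
    let m := IsFiltered.coeq φ φ'
    let h : push u G' o₂ ⟶ m := IsFiltered.coeqHom φ φ'
    have hc : φ ≫ h = φ' ≫ h := IsFiltered.coeq_condition φ φ'
    obtain ⟨X, i, r, hir⟩ := hr m.left
    have h₂ := (hom_cond G' h.left _ _).1 (CostructuredArrow.w h)
    rw [push_hom_elem] at h₂
    obtain ⟨k, hk⟩ := exists_hom u G' o₂ (yonedaEquiv m.hom) h.left h₂ i r hir
    refine ⟨_, k, ?_⟩
    apply CostructuredArrow.hom_ext
    apply u.map_injective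
    have hc' : u.map g.left ≫ h.left = u.map g'.left ≫ h.left := congrArg CommaMorphism.left hc
    show u.map (g.left ≫ k.left) = u.map (g'.left ≫ k.left)
    rw [u.map_comp, u.map_comp, hk]
    exact (Category.assoc _ _ _).symm.trans ((congrArg (· ≫ i) hc').trans (Category.assoc _ _ _))

include hr in
theorem isInd_pull (G' : C'ᵒᵖ ⥤ Type u) (hG' : IsIndObject G') :
    IsIndObject ((Us u).obj G') := by
  have := hG'.isFiltered
  have := isFiltered_pull u hr G'
  have := essentiallySmallSelf (CostructuredArrow yoneda ((Us u).obj G'))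
  have hfs : FinallySmall.{u} (CostructuredArrow yoneda ((Us u).obj G')) :=
    finallySmall_of_essentiallySmall _
  exact (isIndObject_iff _).2 ⟨inferInstance, hfs⟩

end ind

theorem main : ((∀ (F G : Cᵒᵖ ⥤ Type u), IsIndObject F → IsIndObject G →
        Function.Bijective (fun φ : F ⟶ G => (u.op.lan : (Cᵒᵖ ⥤ Type u) ⥤ (C'ᵒᵖ ⥤ Type u)).map φ)) ∧
      (∀ G' : C'ᵒᵖ ⥤ Type u, IsIndObject G' →
        ∃ F : Cᵒᵖ ⥤ Type u, IsIndObject F ∧
          Nonempty ((u.op.lan : (Cᵒᵖ ⥤ Type u) ⥤ (C'ᵒᵖ ⥤ Type u)).obj F ≅ G'))) ↔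
    ((u.Full ∧ u.Faithful) ∧
      ∀ X' : C', ∃ (X : C) (i : X' ⟶ u.obj X) (r : u.obj X ⟶ X'), i ≫ r = 𝟙 X') := by
  constructor
  · rintro ⟨h1, h2⟩
    exact ⟨(Groth.Agent.S6136.result u).2 h1, retract_of_essSurj u h2⟩
  · rintro ⟨⟨h1, h2⟩, hr⟩
    refine ⟨(Groth.Agent.S6136.result u).1 ⟨h1, h2⟩, fun G' hG' => ?_⟩
    refine ⟨(Us u).obj G', isInd_pull u hr G' hG', ?_⟩
    have := counit_iso u hr G'
    exact ⟨asIso ((adj u).counit.app G')⟩


end


/-- Let `u : C ⥤ C'` be a functor between small categories and `u_!` the left Kan extension functor on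
presheaves of sets, whose restriction to ind-representable presheaves is the induced functor `Ind C
⥤ Ind C'`. Then `Ind(u)` is an equivalence — `u_!` is bijective on morphisms between
ind-representable presheaves on `C` and every ind-representable presheaf on `C'` is isomorphic to
`u_! F` for some ind-representable `F` — if and only if `u` is full and faithful and every object of
`C'` is a retract (direct factor) of an object `u X`. -/
theorem result
    {C : Type u} [SmallCategory C] {C' : Type u} [SmallCategory C'] (u : C ⥤ C') :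
    ((∀ (F G : Cᵒᵖ ⥤ Type u), IsIndObject F → IsIndObject G →
        Function.Bijective (fun φ : F ⟶ G => (u.op.lan : (Cᵒᵖ ⥤ Type u) ⥤ (C'ᵒᵖ ⥤ Type u)).map φ)) ∧
      (∀ G' : C'ᵒᵖ ⥤ Type u, IsIndObject G' →
        ∃ F : Cᵒᵖ ⥤ Type u, IsIndObject F ∧
          Nonempty ((u.op.lan : (Cᵒᵖ ⥤ Type u) ⥤ (C'ᵒᵖ ⥤ Type u)).obj F ≅ G'))) ↔
    ((u.Full ∧ u.Faithful) ∧
      ∀ X' : C', ∃ (X : C) (i : X' ⟶ u.obj X) (r : u.obj X ⟶ X'), i ≫ r = 𝟙 X') := by
  classical
  exact main u

end Groth.Agent.S12109
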