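import Groth.Statements.S18859
import Mathlib

set_option autoImplicit false
universe u
open CategoryTheory MonoidalCategory CartesianMonoidalCategory MonObj GrpObj AlgebraicGeometry
open NonAbH1

namespace Groth.Agent.S18859

section
open CategoryTheory MonoidalCategory CartesianMonoidalCategory MonObj GrpObj AlgebraicGeometry
open Limits

/-- Morphisms of schemes agreeing on an fpqc covering family are equal. -/
theorem jointly_epi {Y W : Scheme.{u}} (R : Presieve Y) (hR : R ∈ Scheme.fpqcPrecoverage Y)
    (s t : Y ⟶ W) (h : ∀ ⦃T : Scheme.{u}⦄ (g : T ⟶ Y), R g → g ≫ s = g ≫ t) : s = t := by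
  have hs : Presieve.IsSheaf Scheme.fpqcTopology (yoneda.obj W) :=
    GrothendieckTopology.Subcanonical.isSheaf_of_isRepresentable _
  have h1 := hs _ (Precoverage.generate_mem_toGrothendieck hR)
  rw [← Presieve.isSheafFor_iff_generate] at h1
  refine h1.isSeparatedFor.ext ?_
  intro T g hg
  exact h g hg

/-- Morphisms of schemes glue along fpqc covering families. -/
theorem glue {Y W : Scheme.{u}} (R : Presieve Y) (hR : R ∈ Scheme.fpqcPrecoverage Y)
    (x : ∀ ⦃T : Scheme.{u}⦄ (g : T ⟶ Y), R g → (T ⟶ W))
    (hx : ∀ ⦃T₁ T₂ Z : Scheme.{u}⦄ (g₁ : T₁ ⟶ Y) (g₂ : T₂ ⟶ Y) (h₁ : R g₁) (h₂ : R g₂)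
      (a₁ : Z ⟶ T₁) (a₂ : Z ⟶ T₂), a₁ ≫ g₁ = a₂ ≫ g₂ → a₁ ≫ x g₁ h₁ = a₂ ≫ x g₂ h₂) :
    ∃ m : Y ⟶ W, ∀ ⦃T : Scheme.{u}⦄ (g : T ⟶ Y) (hg : R g), g ≫ m = x g hg := by
  have hs : Presieve.IsSheaf Scheme.fpqcTopology (yoneda.obj W) :=
    GrothendieckTopology.Subcanonical.isSheaf_of_isRepresentable _
  have h1 := hs _ (Precoverage.generate_mem_toGrothendieck hR)
  rw [← Presieve.isSheafFor_iff_generate] at h1
  let fam : Presieve.FamilyOfElements (yoneda.obj W) R := fun T g hg => x g hg
  have hcomp : fam.Compatible := by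
    intro T₁ T₂ Z a₁ a₂ g₁ g₂ h₁ h₂ e
    exact hx g₁ g₂ h₁ h₂ a₁ a₂ e
  obtain ⟨m, hm, -⟩ := h1 fam hcomp
  exact ⟨m, fun T g hg => hm g hg⟩

/-- the affine line over the integers -/
noncomputable abbrev A1 : Scheme.{u} := Spec (CommRingCat.of (MvPolynomial PUnit.{u+1} (ULift.{u} ℤ)))

noncomputable def toFn {Y : Scheme.{u}} (f : Y ⟶ A1.{u}) : Γ(Y, ⊤) :=
  AffineSpace.toSpecMvPolyIntEquiv PUnit.{u+1} f PUnit.unit

noncomputable def ofFn {Y : Scheme.{u}} (s : Γ(Y, ⊤)) : Y ⟶ A1.{u} :=
  (AffineSpace.toSpecMvPolyIntEquiv PUnit.{u+1}).symm (fun _ => s)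

theorem toFn_ofFn {Y : Scheme.{u}} (s : Γ(Y, ⊤)) : toFn (ofFn s) = s := by
  unfold toFn ofFn
  rw [Equiv.apply_symm_apply]

theorem toFn_comp {Y Z : Scheme.{u}} (g : Z ⟶ Y) (f : Y ⟶ A1.{u}) :
    toFn (g ≫ f) = g.appTop.hom (toFn f) := rfl

theorem toFn_injective {Y : Scheme.{u}} : Function.Injective (toFn (Y := Y)) := by
  intro f g h
  apply (AffineSpace.toSpecMvPolyIntEquiv PUnit.{u+1}).injective
  funext i
  cases i
  exact h

theorem main {S : Scheme.{u}} {G X : Over S}
    [GrpObj G] (a : AlgGrp.Action G X) (ha : NonAbH1.IsTorsorFor Scheme.fpqcPrecoverage a) :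
    Function.Injective X.hom.appTop.hom ∧
      ∀ s : Γ(X.left, ⊤), s ∈ Set.range X.hom.appTop.hom ↔
        a.act.left.appTop.hom s = (CartesianMonoidalCategory.snd G X).left.appTop.hom s := by
  obtain ⟨hpt, R, hR, hsec⟩ := ha
  constructor
  · intro f₁ f₂ h
    have e : X.hom ≫ ofFn f₁ = X.hom ≫ ofFn f₂ := by
      apply toFn_injective
      rw [toFn_comp, toFn_comp, toFn_ofFn, toFn_ofFn]
      exact h
    have e2 : ofFn f₁ = ofFn f₂ := by
      refine jointly_epi R hR _ _ ?_
      intro T t ht
      obtain ⟨σ, hσ⟩ := hsec t ht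
      rw [← hσ, Category.assoc, Category.assoc, e]
    have := congrArg toFn e2
    rwa [toFn_ofFn, toFn_ofFn] at this
  · intro s
    constructor
    · rintro ⟨f, rfl⟩
      have h1 : a.act.left ≫ X.hom = (snd G X).left ≫ X.hom := by
        rw [Over.w a.act, Over.w (snd G X)]
      have := congrArg (fun m => (Scheme.Hom.appTop m).hom f) h1
      simp only [Scheme.Hom.comp_appTop, CommRingCat.hom_comp, RingHom.comp_apply] at this
      exact this
    · intro hinv
      set h := ofFn s with hh
      have hinv' : a.act.left ≫ h = (snd G X).left ≫ h := by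
        apply toFn_injective
        rw [toFn_comp, toFn_comp, hh, toFn_ofFn]
        exact hinv
      haveI : IsIso (lift a.act (snd G X)) := hpt
      set τ := lift a.act (snd G X) with hτ
      haveI : IsIso τ.left := (inferInstance : IsIso ((Over.forget S).map τ))
      have hτ1 : τ.left ≫ pullback.fst X.hom X.hom = a.act.left := by
        have := congrArg (fun m => m.left) (lift_fst a.act (snd G X))
        exact this
      have hτ2 : τ.left ≫ pullback.snd X.hom X.hom = (snd G X).left := by
        have := congrArg (fun m => m.left) (lift_snd a.act (snd G X))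
        exact this
      -- invariance on points
      have key : ∀ {Z : Scheme.{u}} (p q : Z ⟶ X.left), p ≫ X.hom = q ≫ X.hom → p ≫ h = q ≫ h := by
        intro Z p q hpq
        obtain ⟨w, hwdef⟩ : ∃ w : Z ⟶ (G ⊗ X).left, w = pullback.lift p q hpq ≫ inv τ.left :=
          ⟨_, rfl⟩
        have hw1 : w ≫ a.act.left = p := by
          rw [hwdef, ← hτ1, Category.assoc, IsIso.inv_hom_id_assoc, pullback.lift_fst]
        have hw2 : w ≫ (snd G X).left = q := by
          rw [hwdef, ← hτ2, Category.assoc, IsIso.inv_hom_id_assoc, pullback.lift_snd]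
        calc p ≫ h = (w ≫ a.act.left) ≫ h := by rw [hw1]
          _ = (w ≫ (snd G X).left) ≫ h := by rw [Category.assoc, Category.assoc, hinv']
          _ = q ≫ h := by rw [hw2]
      -- glue
      obtain ⟨m, hm⟩ := glue R hR (fun T t ht => (hsec t ht).choose ≫ h) (by
        intro T₁ T₂ Z g₁ g₂ h₁ h₂ a₁ a₂ e
        rw [← Category.assoc, ← Category.assoc]
        apply key
        rw [Category.assoc, Category.assoc, (hsec g₁ h₁).choose_spec, (hsec g₂ h₂).choose_spec, e])
      refine ⟨toFn m, ?_⟩
      have e3 : X.hom ≫ m = h := by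
        refine jointly_epi (R.pullbackArrows X.hom) (Precoverage.pullbackArrows_mem X.hom hR) _ _ ?_
        rintro T' g' ⟨T, t, ht⟩
        rw [← Category.assoc, ← pullback.condition, Category.assoc, hm t ht, ← Category.assoc]
        apply key
        rw [Category.assoc, (hsec t ht).choose_spec, pullback.condition]
      rw [← toFn_comp, e3, hh, toFn_ofFn]


end


/-- Let S be a scheme, G a group scheme over S and X → S a G-torsor for the fpqc topology (a
pseudo-torsor under G acquiring sections on the members of some fpqc covering family of S). Then the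
functions on S are the G-invariant functions on X: the ring map Γ(S, O_S) → Γ(X, O_X) is injective,
and a global function s on X lies in its image if and only if the pullbacks of s to G ×_S X along
the action morphism and along the second projection coincide. (The source works over a scheme of
finite type over a field with G the base change of an affine group scheme over that field and states
the equality O_S = (O_X)^G as sheaves on S; applied to the restriction of the torsor over each open
of S, the present global form is that equality.) -/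
theorem result {S : Scheme.{u}} {G X : Over S}
    [GrpObj G] (a : AlgGrp.Action G X) (ha : NonAbH1.IsTorsorFor Scheme.fpqcPrecoverage a) :
    Function.Injective X.hom.appTop.hom ∧
      ∀ s : Γ(X.left, ⊤), s ∈ Set.range X.hom.appTop.hom ↔
        a.act.left.appTop.hom s = (CartesianMonoidalCategory.snd G X).left.appTop.hom s := by
  classical
  exact main a ha

end Groth.Agent.S18859
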