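import Groth.Statements.S12113
import Mathlib
import Groth.Prelude.Def_ChGrp
import Groth.Agent.S18859

set_option autoImplicit false
universe u
open CategoryTheory CategoryTheory.Limits MonoidalCategory CartesianMonoidalCategory MonObj AlgebraicGeometry
open SGA7

namespace Groth.Agent.S12113

section
open CategoryTheory CategoryTheory.Limits MonoidalCategory CartesianMonoidalCategory MonObj AlgebraicGeometry
open GrpObj

section gen
variable {C : Type*} [Category C] [CartesianMonoidalCategory C]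

theorem isPullback_whiskerRight {A B : C} (q : A ⟶ B) (Z : C) :
    IsPullback (fst A Z) (q ▷ Z) q (fst B Z) := by
  refine ⟨⟨by simp⟩, ⟨PullbackCone.IsLimit.mk _ (fun s => lift s.fst (s.snd ≫ snd B Z)) ?_ ?_ ?_⟩⟩
  · intro s; simp
  · intro s
    apply CartesianMonoidalCategory.hom_ext
    · simp [s.condition]
    · simp
  · intro s m h1 h2
    apply CartesianMonoidalCategory.hom_ext
    · simp [← h1]
    · simp [← h2]

theorem isPullback_whiskerLeft {A B : C} (Z : C) (q : A ⟶ B) :
    IsPullback (snd Z A) (Z ◁ q) q (snd Z B) := by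
  refine ⟨⟨by simp⟩, ⟨PullbackCone.IsLimit.mk _ (fun s => lift (s.snd ≫ fst Z B) s.fst) ?_ ?_ ?_⟩⟩
  · intro s; simp
  · intro s
    apply CartesianMonoidalCategory.hom_ext
    · simp
    · simp [s.condition]
  · intro s m h1 h2
    apply CartesianMonoidalCategory.hom_ext
    · simp [← h2]
    · simp [← h1]
end gen

/-- a morphism of schemes which has sections locally for the fpqc topology on its target -/
def LocSplit {E P : Scheme.{u}} (v : E ⟶ P) : Prop :=
  ∃ R ∈ Scheme.fpqcPrecoverage P, ∀ ⦃T : Scheme.{u}⦄ (g : T ⟶ P), R g → ∃ s : T ⟶ E, s ≫ v = g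

theorem LocSplit.of_isPullback {E P E' P' : Scheme.{u}} {v : E ⟶ P} {v' : E' ⟶ P'} {b : P' ⟶ P}
    {t : E' ⟶ E} (sq : IsPullback t v' v b) (h : LocSplit v) : LocSplit v' := by
  obtain ⟨R, hR, hsec⟩ := h
  refine ⟨R.pullbackArrows b, Precoverage.pullbackArrows_mem b hR, ?_⟩
  rintro T' g' ⟨T, g, hg⟩
  obtain ⟨s, hs⟩ := hsec g hg
  refine ⟨sq.lift (pullback.fst g b ≫ s) (pullback.snd g b) ?_, sq.lift_snd _ _ _⟩
  rw [Category.assoc, hs, pullback.condition]

variable {S : Scheme.{u}}

theorem LocSplit.whiskerRight {E P : Over S} {v : E ⟶ P} (h : LocSplit v.left) (A : Over S) :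
    LocSplit (v ▷ A).left :=
  LocSplit.of_isPullback ((isPullback_whiskerRight v A).map (Over.forget S)) h

theorem LocSplit.whiskerLeft {E P : Over S} {v : E ⟶ P} (h : LocSplit v.left) (A : Over S) :
    LocSplit (A ◁ v).left :=
  LocSplit.of_isPullback ((isPullback_whiskerLeft A v).map (Over.forget S)) h

theorem LocSplit.of_fppf {E P : Over S} {v : E ⟶ P}
    (h : NonAbH1.IsLocallyTrivialFor Scheme.fppfPrecoverage (Over.mk v.left : Over P.left)) :
    LocSplit v.left := by
  obtain ⟨R, hR, hsec⟩ := h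
  exact ⟨R, Scheme.fppfPrecoverage_le_fpqcPrecoverage _ hR, hsec⟩

theorem LocSplit.epi {E P : Over S} {v : E ⟶ P} (h : LocSplit v.left) : Epi v := by
  obtain ⟨R, hR, hsec⟩ := h
  constructor
  intro W α β hαβ
  ext
  apply Groth.Agent.S18859.jointly_epi R hR
  intro T g hg
  obtain ⟨s, hs⟩ := hsec g hg
  have := congrArg (fun m => s ≫ m.left) hαβ
  simp only [Over.comp_left] at this
  rw [← Category.assoc, ← Category.assoc, hs] at this
  exact this

/-- descent of morphisms along a locally split morphism -/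
theorem LocSplit.desc {E P W : Over S} {v : E ⟶ P} (h : LocSplit v.left) (f : E ⟶ W)
    (hco : ∀ (Z : Over S) (a b : Z ⟶ E), a ≫ v = b ≫ v → a ≫ f = b ≫ f) :
    ∃ g : P ⟶ W, v ≫ g = f := by
  obtain ⟨R, hR, hsec⟩ := h
  choose s hs using hsec
  -- coequalizing in the category of schemes
  have hco' : ∀ {Z : Scheme.{u}} (a b : Z ⟶ E.left), a ≫ v.left = b ≫ v.left →
      a ≫ f.left = b ≫ f.left := by
    intro Z a b hab
    let Z' : Over S := Over.mk (a ≫ E.hom)
    let a' : Z' ⟶ E := Over.homMk a rfl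
    have hb : b ≫ E.hom = a ≫ E.hom := by
      rw [← Over.w v, ← Category.assoc, ← hab, Category.assoc]
    let b' : Z' ⟶ E := Over.homMk b hb
    have h' : a' ≫ v = b' ≫ v := by
      ext
      exact hab
    exact congrArg (fun m => m.left) (hco Z' a' b' h')
  obtain ⟨m, hm⟩ := Groth.Agent.S18859.glue R hR (fun T g hg => s g hg ≫ f.left) (by
    intro T₁ T₂ Z g₁ g₂ h₁ h₂ a₁ a₂ e
    rw [← Category.assoc, ← Category.assoc]
    apply hco'
    rw [Category.assoc, Category.assoc, hs, hs, e])
  have hmW : m ≫ W.hom = P.hom := by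
    apply Groth.Agent.S18859.jointly_epi R hR
    intro T g hg
    rw [← Category.assoc, hm g hg, Category.assoc, Over.w f, ← Over.w v, ← Category.assoc, hs]
  refine ⟨Over.homMk m hmW, ?_⟩
  ext
  change v.left ≫ m = f.left
  apply Groth.Agent.S18859.jointly_epi (R.pullbackArrows v.left) (Precoverage.pullbackArrows_mem v.left hR)
  rintro T' g' ⟨T, g, hg⟩
  rw [← Category.assoc, ← pullback.condition, Category.assoc, hm g hg, ← Category.assoc]
  apply hco'
  rw [Category.assoc, hs, pullback.condition]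

/-- two-variable descent -/
theorem LocSplit.desc₂ {E P E' P' W : Over S} {v : E ⟶ P} {v' : E' ⟶ P'} (h : LocSplit v.left)
    (h' : LocSplit v'.left) (f : E ⊗ E' ⟶ W)
    (hco : ∀ (Z : Over S) (a b : Z ⟶ E) (a' b' : Z ⟶ E'), a ≫ v = b ≫ v → a' ≫ v' = b' ≫ v' →
      lift a a' ≫ f = lift b b' ≫ f) :
    ∃ g : P ⊗ P' ⟶ W, (v ⊗ₘ v') ≫ g = f := by
  obtain ⟨f₁, hf₁⟩ := LocSplit.desc (h.whiskerRight E') f (by
    intro Z a b hab
    have e1 : a = lift (a ≫ fst E E') (a ≫ snd E E') := by
      apply CartesianMonoidalCategory.hom_ext <;> simp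
    have e2 : b = lift (b ≫ fst E E') (b ≫ snd E E') := by
      apply CartesianMonoidalCategory.hom_ext <;> simp
    rw [e1, e2]
    apply hco
    · have := congrArg (fun m => m ≫ fst P E') hab
      simpa using this
    · have := congrArg (fun m => m ≫ snd P E') hab
      simp only [Category.assoc, whiskerRight_snd] at this
      rw [this])
  haveI := (h.whiskerRight (pullback v' v')).epi
  have key : (P ◁ pullback.fst v' v') ≫ f₁ = (P ◁ pullback.snd v' v') ≫ f₁ := by
    rw [← cancel_epi (v ▷ pullback v' v'), ← whisker_exchange_assoc, ← whisker_exchange_assoc, hf₁]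
    apply AlgGrp.Action.hom_ext_lift₂
    intro Z x k
    rw [lift_whiskerLeft_assoc, lift_whiskerLeft_assoc]
    apply hco _ _ _ _ _ rfl
    rw [Category.assoc, Category.assoc, pullback.condition]
  obtain ⟨g, hg⟩ := LocSplit.desc (h'.whiskerLeft P) f₁ (by
    intro Z a b hab
    have e1 : a = lift (a ≫ fst P E') (a ≫ snd P E') := by
      apply CartesianMonoidalCategory.hom_ext <;> simp
    have e2 : b = lift (b ≫ fst P E') (b ≫ snd P E') := by
      apply CartesianMonoidalCategory.hom_ext <;> simp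
    have h1 : a ≫ fst P E' = b ≫ fst P E' := by
      have := congrArg (fun m => m ≫ fst P P') hab
      simp only [Category.assoc, whiskerLeft_fst] at this
      exact this
    have h2 : (a ≫ snd P E') ≫ v' = (b ≫ snd P E') ≫ v' := by
      have := congrArg (fun m => m ≫ snd P P') hab
      simpa using this
    let k : Z ⟶ pullback v' v' := pullback.lift (a ≫ snd P E') (b ≫ snd P E') h2
    have k1 : k ≫ pullback.fst v' v' = a ≫ snd P E' := pullback.lift_fst _ _ _
    have k2 : k ≫ pullback.snd v' v' = b ≫ snd P E' := pullback.lift_snd _ _ _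
    have := congrArg (fun m => lift (a ≫ fst P E') k ≫ m) key
    rw [lift_whiskerLeft_assoc, lift_whiskerLeft_assoc, k1, k2] at this
    rw [e1, e2, ← h1]
    exact this)
  refine ⟨g, ?_⟩
  rw [MonoidalCategory.tensorHom_def, Category.assoc, hg, hf₁]

theorem LocSplit.epi₂ {E P E' P' : Over S} {v : E ⟶ P} {v' : E' ⟶ P'} (h : LocSplit v.left)
    (h' : LocSplit v'.left) : Epi (v ⊗ₘ v') := by
  haveI := (h.whiskerRight E').epi
  haveI := (h'.whiskerLeft P).epi
  rw [MonoidalCategory.tensorHom_def]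
  infer_instance

/-- the group-theoretic core: the defect of multiplicativity is invariant under the subgroup -/
theorem alg_inv {E E' Gp P : Type*} [Group E] [Group E'] [Group Gp] [Group P]
    (hcomm : ∀ a b : Gp, a * b = b * a)
    (U : Gp →* E) (V : E →* P) (U' : Gp →* E') (F : E → E')
    (hVU : ∀ g, V (U g) = 1)
    (hl : ∀ g x, F (U g * x) = U' g * F x) (hr : ∀ g x, F (x * U g) = F x * U' g)
    (hinj : Function.Injective U') (hK : ∀ b, V b = 1 → ∃ m, b = U m) (C : E → E → Gp)
    (hC : ∀ x y, F (x * y) = F x * F y * U' (C x y)) (x y : E) (g : Gp) :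
    C (x * U g) y = C x y ∧ C x (y * U g) = C x y := by
  constructor
  · obtain ⟨g', hg'⟩ := hK (y⁻¹ * U g * y) (by simp [hVU])
    have h0 : U g * y = y * U g' := by rw [← hg']; group
    have e4 : U' g * F y = F y * U' g' := by rw [← hl, ← hr, h0]
    have e3 : x * U g * y = x * y * U g' := by rw [_root_.mul_assoc, h0, _root_.mul_assoc]
    have e1 := hC (x * U g) y
    rw [e3, hr, hr, hC x y] at e1
    have e5 : F x * F y * (U' (C x y) * U' g') = F x * F y * (U' g' * U' (C (x * U g) y)) := by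
      calc F x * F y * (U' (C x y) * U' g') = F x * F y * U' (C x y) * U' g' := by group
        _ = F x * U' g * F y * U' (C (x * U g) y) := e1
        _ = F x * (U' g * F y) * U' (C (x * U g) y) := by group
        _ = F x * (F y * U' g') * U' (C (x * U g) y) := by rw [e4]
        _ = F x * F y * (U' g' * U' (C (x * U g) y)) := by group
    have e6 := mul_left_cancel e5
    rw [← map_mul, ← map_mul] at e6
    have e7 := hinj e6
    rw [hcomm] at e7
    exact (mul_left_cancel e7).symm
  · have e1 := hC x (y * U g)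
    rw [← _root_.mul_assoc, hr, hr, hC x y] at e1
    have e5 : F x * F y * (U' (C x y) * U' g) = F x * F y * (U' g * U' (C x (y * U g))) := by
      calc F x * F y * (U' (C x y) * U' g) = F x * F y * U' (C x y) * U' g := by group
        _ = F x * (F y * U' g) * U' (C x (y * U g)) := e1
        _ = F x * F y * (U' g * U' (C x (y * U g))) := by group
    have e6 := mul_left_cancel e5
    rw [← map_mul, ← map_mul] at e6
    have e7 := hinj e6
    rw [hcomm] at e7
    exact (mul_left_cancel e7).symm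

theorem main (S : Scheme.{u})
    (P G E E' : Over S) [GrpObj P] [GrpObj G] [GrpObj E] [GrpObj E'] [IsCommMonObj G]
    (u : G ⟶ E) (v : E ⟶ P) (hex : NonAbH1.IsExactSeq Scheme.fppfPrecoverage u v)
    (u' : G ⟶ E') (v' : E' ⟶ P) (hex' : NonAbH1.IsExactSeq Scheme.fppfPrecoverage u' v')
    (hPP : ∀ c : P ⊗ P ⟶ G, lift (𝟙 P) (toUnit P ≫ η[P]) ≫ c = 1 → lift (toUnit P ≫ η[P]) (𝟙 P) ≫ c = 1 → c = 1)
    (f : E ⟶ E') (hv : f ≫ v' = v) (hu : u ≫ f = u') (h1 : η[E] ≫ f = η[E'])
    (hl : ∀ (T : Over S) (g : T ⟶ G) (x : T ⟶ E), ((g ≫ u) * x) ≫ f = (g ≫ u') * (x ≫ f))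
    (hr : ∀ (T : Over S) (g : T ⟶ G) (x : T ⟶ E), (x * (g ≫ u)) ≫ f = (x ≫ f) * (g ≫ u')) :
    IsMonHom f := by
  obtain ⟨hu_hom, hv_hom, huv, hpb, hloc⟩ := hex
  obtain ⟨hu'_hom, hv'_hom, huv', hpb', hloc'⟩ := hex'
  haveI := hu_hom
  haveI := hv_hom
  haveI := hu'_hom
  haveI := hv'_hom
  have hsplit : LocSplit v.left := LocSplit.of_fppf hloc
  haveI := hsplit.epi
  -- kernel-pair properties
  have K2 : ∀ {Z : Over S} (a b : Z ⟶ E), a ≫ v = b ≫ v → ∃ m : Z ⟶ G, b = a * (m ≫ u) := by
    intro Z a b h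
    obtain ⟨l, hl1, hl2⟩ := hpb.exists_lift a b h
    refine ⟨l ≫ snd E G, ?_⟩
    have hl : l = lift a (l ≫ snd E G) := by
      apply CartesianMonoidalCategory.hom_ext
      · rw [lift_fst, hl1]
      · rw [lift_snd]
    rw [← hl2, hl, lift_whiskerLeft_assoc, ← Hom.mul_def, lift_snd]
  have K2' : ∀ {Z : Over S} (a b : Z ⟶ E'), a ≫ v' = b ≫ v' → ∃ m : Z ⟶ G, b = a * (m ≫ u') := by
    intro Z a b h
    obtain ⟨l, hl1, hl2⟩ := hpb'.exists_lift a b h
    refine ⟨l ≫ snd E' G, ?_⟩
    have hl : l = lift a (l ≫ snd E' G) := by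
      apply CartesianMonoidalCategory.hom_ext
      · rw [lift_fst, hl1]
      · rw [lift_snd]
    rw [← hl2, hl, lift_whiskerLeft_assoc, ← Hom.mul_def, lift_snd]
  have hinj : ∀ {Z : Over S} (m m' : Z ⟶ G), m ≫ u' = m' ≫ u' → m = m' := by
    intro Z m m' h
    have : lift (1 : Z ⟶ E') m = lift (1 : Z ⟶ E') m' := by
      apply hpb'.hom_ext
      · rw [lift_fst, lift_fst]
      · rw [lift_whiskerLeft_assoc, lift_whiskerLeft_assoc, h]
    have := congrArg (fun t => t ≫ snd E' G) this
    simpa using this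
  -- the defect
  obtain ⟨ct, hct⟩ := K2' ((fst E E ≫ f) * (snd E E ≫ f)) ((fst E E * snd E E) ≫ f) (by
    rw [MonObj.mul_comp]
    simp only [Category.assoc, hv]
    rw [MonObj.mul_comp])
  have hC : ∀ {Z : Over S} (x y : Z ⟶ E),
      (x * y) ≫ f = (x ≫ f) * (y ≫ f) * ((lift x y ≫ ct) ≫ u') := by
    intro Z x y
    have := congrArg (fun t => lift x y ≫ t) hct
    rw [← Category.assoc, MonObj.comp_mul, lift_fst, lift_snd, MonObj.comp_mul, MonObj.comp_mul,
      lift_fst_assoc, lift_snd_assoc, ← Category.assoc] at this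
    exact this
  have hone_f : ∀ {Z : Over S}, (1 : Z ⟶ E) ≫ f = 1 := by
    intro Z
    rw [Hom.one_def, Category.assoc, h1, ← Hom.one_def]
  have hinv : ∀ {Z : Over S} (x y : Z ⟶ E) (g : Z ⟶ G),
      lift (x * (g ≫ u)) y ≫ ct = lift x y ≫ ct ∧ lift x (y * (g ≫ u)) ≫ ct = lift x y ≫ ct := by
    intro Z x y g
    exact alg_inv (fun a b => mul_comm a b) (IsMonHom.monoidHom u Z) (IsMonHom.monoidHom v Z)
      (IsMonHom.monoidHom u' Z) (fun x => x ≫ f)
      (fun g => by
        change (g ≫ u) ≫ v = 1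
        rw [Category.assoc, huv, MonObj.comp_one])
      (hl Z) (hr Z) (fun m m' h => hinj m m' h)
      (fun b hb => by
        obtain ⟨m, hm⟩ := K2 (1 : Z ⟶ E) b (by
          rw [MonObj.one_comp]
          exact hb.symm)
        exact ⟨m, by rw [hm, _root_.one_mul]; rfl⟩)
      (fun x y => lift x y ≫ ct) (fun x y => hC x y) x y g
  have hC1 : ∀ {Z : Over S} (x : Z ⟶ E), lift x (1 : Z ⟶ E) ≫ ct = 1 := by
    intro Z x
    have := hC x 1
    rw [_root_.mul_one, hone_f, _root_.mul_one] at this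
    have h2 : (lift x (1 : Z ⟶ E) ≫ ct) ≫ u' = (1 : Z ⟶ G) ≫ u' := by
      rw [MonObj.one_comp]
      exact (mul_eq_left.1 this.symm)
    exact hinj _ _ h2
  have h1C : ∀ {Z : Over S} (y : Z ⟶ E), lift (1 : Z ⟶ E) y ≫ ct = 1 := by
    intro Z y
    have := hC 1 y
    rw [_root_.one_mul, hone_f, _root_.one_mul] at this
    have h2 : (lift (1 : Z ⟶ E) y ≫ ct) ≫ u' = (1 : Z ⟶ G) ≫ u' := by
      rw [MonObj.one_comp]
      exact (mul_eq_left.1 this.symm)
    exact hinj _ _ h2
  obtain ⟨c, hc⟩ := LocSplit.desc₂ hsplit hsplit ct (by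
    intro Z a b a' b' hab hab'
    obtain ⟨m, rfl⟩ := K2 a b hab
    obtain ⟨m', rfl⟩ := K2 a' b' hab'
    rw [(hinv a (a' * (m' ≫ u)) m).1, (hinv a a' m').2])
  have hax1 : lift (𝟙 P) (toUnit P ≫ η[P]) ≫ c = 1 := by
    rw [← cancel_epi v, MonObj.comp_one]
    have e : v ≫ lift (𝟙 P) (toUnit P ≫ η[P]) = lift (𝟙 E) (1 : E ⟶ E) ≫ (v ⊗ₘ v) := by
      rw [lift_map, comp_lift, Category.id_comp, Category.comp_id, MonObj.one_comp, Hom.one_def,
        ← Category.assoc, toUnit_unique (v ≫ toUnit P) (toUnit E)]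
    rw [← Category.assoc, e, Category.assoc, hc, hC1]
  have hax2 : lift (toUnit P ≫ η[P]) (𝟙 P) ≫ c = 1 := by
    rw [← cancel_epi v, MonObj.comp_one]
    have e : v ≫ lift (toUnit P ≫ η[P]) (𝟙 P) = lift (1 : E ⟶ E) (𝟙 E) ≫ (v ⊗ₘ v) := by
      rw [lift_map, comp_lift, Category.id_comp, Category.comp_id, MonObj.one_comp, Hom.one_def,
        ← Category.assoc, toUnit_unique (v ≫ toUnit P) (toUnit E)]
    rw [← Category.assoc, e, Category.assoc, hc, h1C]
  have hc1 : c = 1 := hPP c hax1 hax2
  have hct1 : ct = 1 := by rw [← hc, hc1, MonObj.comp_one]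
  rw [hct1, MonObj.one_comp, _root_.mul_one] at hct
  constructor
  · exact h1
  · have e1 : fst E E * snd E E = μ[E] := by
      rw [Hom.mul_def, lift_fst_snd, Category.id_comp]
    have e2 : (fst E E ≫ f) * (snd E E ≫ f) = (f ⊗ₘ f) ≫ μ[E'] := by
      rw [Hom.mul_def]
      congr 1
    rw [← e1, ← e2]
    exact hct


end


/-- Group schemes, fppf site: over a base scheme S, let P and G be S-group schemes with G commutative,
and let u : G → E, v : E → P and u' : G → E', v' : E' → P be homomorphisms forming sequences 1 → G →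
E → P → 1 and 1 → G → E' → P → 1 exact for the fppf topology. Suppose every morphism of S-schemes P
×_S P → G trivial on P × e_P and on e_P × P is trivial. Let f : E → E' be a morphism of S-schemes
over P (f ≫ v' = v) and under G (u ≫ f = u'), preserving the unit section, and compatible with left
and right translations by G: for all points g of G and x of E with values in any S-scheme, f(u(g) x)
= u'(g) f(x) and f(x u(g)) = f(x) u'(g). Then f is a homomorphism of S-group schemes: such
extensions have no non-multiplicative morphisms of their underlying rigidified bitorsors. (The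
published statement is for sheaves of groups on an arbitrary topos and phrased as full faithfulness
of the functor from extensions to rigidified bitorsors; this row is the case of representable
sheaves on the fppf site of S, with G commutative so that the defect of multiplicativity descends to
P ×_S P as in the printed argument. Morphisms to a group scheme form a group; trivial means equal to
its unit.) -/
theorem result (S : Scheme.{u})
    (P G E E' : Over S) [GrpObj P] [GrpObj G] [GrpObj E] [GrpObj E'] [IsCommMonObj G]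
    (u : G ⟶ E) (v : E ⟶ P) (hex : NonAbH1.IsExactSeq Scheme.fppfPrecoverage u v)
    (u' : G ⟶ E') (v' : E' ⟶ P) (hex' : NonAbH1.IsExactSeq Scheme.fppfPrecoverage u' v')
    (hPP : ∀ c : P ⊗ P ⟶ G, lift (𝟙 P) (toUnit P ≫ η[P]) ≫ c = 1 → lift (toUnit P ≫ η[P]) (𝟙 P) ≫ c = 1 → c = 1)
    (f : E ⟶ E') (hv : f ≫ v' = v) (hu : u ≫ f = u') (h1 : η[E] ≫ f = η[E'])
    (hl : ∀ (T : Over S) (g : T ⟶ G) (x : T ⟶ E), ((g ≫ u) * x) ≫ f = (g ≫ u') * (x ≫ f))
    (hr : ∀ (T : Over S) (g : T ⟶ G) (x : T ⟶ E), (x * (g ≫ u)) ≫ f = (x ≫ f) * (g ≫ u')) :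
    IsMonHom f := by
  classical
  exact main S P G E E' u v hex u' v' hex' hPP f hv hu h1 hl hr

end Groth.Agent.S12113
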