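import Groth.Statements.S12122
import Mathlib

set_option autoImplicit false
universe u
open EGA41

namespace Groth.Agent.S12122

section
open AlgebraicGeometry Topology

theorem continuous_val {X : Type*} [TopologicalSpace X] [QuasiSeparatedSpace X] (V : Set X)
    (hVo : IsOpen V) (hVc : IsCompact V) :
    Continuous[constructibleTopology V, constructibleTopology X] (Subtype.val : V → X) := by
  rw [constructibleTopology, continuous_generateFrom_iff]
  have key : ∀ s : Set X, IsOpen s → IsCompact s → IsCompact ((Subtype.val : V → X) ⁻¹' s) := by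
    intro s hso hsc
    rw [Subtype.isCompact_iff, Subtype.image_preimage_coe]
    exact QuasiSeparatedSpace.inter_isCompact V s hVo hVc hso hsc
  rintro s (⟨hso, hsc⟩ | ⟨hsc, hscc⟩)
  · exact (key s hso hsc).isOpen_constructibleTopology_of_isOpen (hso.preimage continuous_subtype_val)
  · refine IsCompact.isOpen_constructibleTopology_of_isClosed ?_ (hsc.preimage continuous_subtype_val)
    rw [← Set.preimage_compl]
    exact key _ hsc.isOpen_compl hscc

/-- a compact open spectral subset is compact for the constructible topology -/
theorem isCompact_constr {X : Type*} [TopologicalSpace X] [QuasiSeparatedSpace X] (V : Set X)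
    (hVo : IsOpen V) (hVc : IsCompact V) [QuasiSober V] [PrespectralSpace V] :
    @IsCompact X (constructibleTopology X) V := by
  have : CompactSpace V := isCompact_iff_compactSpace.1 hVc
  have : QuasiSeparatedSpace V := hVo.isOpenEmbedding_subtypeVal.quasiSeparatedSpace
  have hcpt : CompactSpace (WithConstructibleTopology V) := inferInstance
  let g : WithConstructibleTopology V → X := fun v => (v.ofTopology : X)
  have hg : Continuous[_, constructibleTopology X] g := by
    refine (@continuous_def _ _ _ (constructibleTopology X) _).2 ?_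
    intro s hs
    rw [WithTopology.isOpen_iff]
    exact (@continuous_def _ _ (constructibleTopology V) (constructibleTopology X) _).1
      (continuous_val V hVo hVc) _ hs
  have hr : Set.range g = V := by
    ext y
    constructor
    · rintro ⟨v, rfl⟩
      exact v.ofTopology.2
    · intro hy
      exact ⟨WithTopology.toTopology _ ⟨y, hy⟩, rfl⟩
  rw [← hr]
  exact @isCompact_range _ _ _ (constructibleTopology X) _ g hg

theorem exists_aff (X : Scheme.{u}) (x : X) (U : Set X) (hU : IsOpen U) (hx : x ∈ U) :
    ∃ V : Set X, IsOpen V ∧ IsCompact V ∧ x ∈ V ∧ V ⊆ U ∧ QuasiSober V ∧ PrespectralSpace V := by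
  obtain ⟨V, hV, hxV, hVU⟩ := (X.isBasis_affineOpens).exists_subset_of_mem_open
      (show x ∈ (⟨U, hU⟩ : X.Opens) from hx) hU
  obtain ⟨W, hW, rfl⟩ := hV
  refine ⟨W, W.isOpen, IsAffineOpen.isCompact hW, hxV, hVU, ?_, ?_⟩
  · exact W.isOpenEmbedding'.quasiSober
  · exact W.isOpenEmbedding'.prespectralSpace

/-- In a quasi-separated prespectral space, retrocompact opens are clopen for the constructible
topology. -/
theorem retro_clopen {X : Type*} [TopologicalSpace X] [QuasiSeparatedSpace X] [PrespectralSpace X]
    (U : Set X) (hU : IsOpen U) (hUr : IsRetrocompact U) :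
    IsOpen[constructibleTopology X] U ∧ IsOpen[constructibleTopology X] Uᶜ := by
  have hcov : ∀ x : X, ∃ V : Set X, IsOpen V ∧ IsCompact V ∧ x ∈ V := by
    intro x
    obtain ⟨V, ⟨hV1, hV2⟩, hxV, -⟩ := PrespectralSpace.isTopologicalBasis.mem_nhds_iff.mp
      (Filter.univ_mem : (Set.univ : Set X) ∈ 𝓝 x)
    exact ⟨V, hV1, hV2, hxV⟩
  constructor
  · rw [@isOpen_iff_forall_mem_open _ (constructibleTopology X)]
    intro x hx
    obtain ⟨V, hVo, hVc, hxV⟩ := hcov x
    exact ⟨U ∩ V, Set.inter_subset_left,
      (hUr hVc hVo).isOpen_constructibleTopology_of_isOpen (hU.inter hVo), hx, hxV⟩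
  · rw [@isOpen_iff_forall_mem_open _ (constructibleTopology X)]
    intro x hx
    obtain ⟨V, hVo, hVc, hxV⟩ := hcov x
    refine ⟨V ∩ (U ∩ V)ᶜ, ?_, ?_, hxV, fun h => hx h.1⟩
    · rintro y ⟨hy1, hy2⟩ hyU
      exact hy2 ⟨hyU, hy1⟩
    · refine @IsOpen.inter _ (constructibleTopology X) _ _
        (hVc.isOpen_constructibleTopology_of_isOpen hVo) ?_
      exact IsCompact.isOpen_constructibleTopology_of_isClosed
        (by rw [compl_compl]; exact hUr hVc hVo) (hU.inter hVo).isClosed_compl

theorem constr_clopen {X : Type*} [TopologicalSpace X] [QuasiSeparatedSpace X] [PrespectralSpace X]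
    (s : Set X) (hs : IsConstructible s) :
    IsOpen[constructibleTopology X] s ∧ IsOpen[constructibleTopology X] sᶜ := by
  induction hs using IsConstructible.empty_union_induction with
  | open_retrocompact U hUo hUc => exact retro_clopen U hUo hUc
  | union s hs t ht ihs iht =>
    refine ⟨@IsOpen.union _ _ _ (constructibleTopology X) ihs.1 iht.1, ?_⟩
    rw [Set.compl_union]
    exact @IsOpen.inter _ (constructibleTopology X) _ _ ihs.2 iht.2
  | compl s hs ih => exact ⟨ih.2, by rw [compl_compl]; exact ih.1⟩

theorem loc_open {X : Type*} [TopologicalSpace X] [QuasiSeparatedSpace X] [PrespectralSpace X]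
    (E : Set X) (hE : IsLocallyConstructible E) : IsOpen[constructibleTopology X] E := by
  rw [@isOpen_iff_forall_mem_open _ (constructibleTopology X)]
  intro x hx
  obtain ⟨V, ⟨hV1, hV2⟩, hxV, -⟩ := PrespectralSpace.isTopologicalBasis.mem_nhds_iff.mp
      (Filter.univ_mem : (Set.univ : Set X) ∈ 𝓝 x)
  exact ⟨E ∩ V, Set.inter_subset_left,
    (constr_clopen _ (hE.inter_of_isOpen_isCompact hV1 hV2)).1, hx, hxV⟩

theorem loc_compl {X : Type*} [TopologicalSpace X] (E : Set X) (hE : IsLocallyConstructible E) :
    IsLocallyConstructible Eᶜ := by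
  intro x
  obtain ⟨U, hU1, hU2, hU3⟩ := hE x
  refine ⟨U, hU1, hU2, ?_⟩
  rw [Set.preimage_compl, isConstructible_compl]
  exact hU3

theorem subbasis_constr {X : Type*} [TopologicalSpace X] [QuasiSeparatedSpace X] (s : Set X)
    (hs : s ∈ constructibleTopologySubbasis X) : IsConstructible s := by
  rcases hs with ⟨h1, h2⟩ | ⟨h1, h2⟩
  · exact h2.isConstructible h1
  · rw [← isConstructible_compl]
    exact h2.isConstructible h1.isOpen_compl

theorem main (X : Scheme.{u}) [QuasiSeparatedSpace X] (E : Set X) :
    Topology.IsLocallyConstructible E ↔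
      (IsOpen[constructibleTopology X] E ∧ IsClosed[constructibleTopology X] E) := by
  constructor
  · intro hE
    refine ⟨loc_open E hE, ?_⟩
    rw [← @isOpen_compl_iff _ _ (constructibleTopology X)]
    exact loc_open _ (loc_compl E hE)
  · rintro ⟨hEo, hEc⟩ x
    obtain ⟨V, hVo, hVc, hxV, -, hqs, hps⟩ := exists_aff X x Set.univ isOpen_univ trivial
    refine ⟨V, hVo.mem_nhds hxV, hVo, ?_⟩
    have hVτc : @IsCompact X (constructibleTopology X) V := isCompact_constr V hVo hVc
    have hVτo : IsOpen[constructibleTopology X] V := hVc.isOpen_constructibleTopology_of_isOpen hVo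
    have hKc : @IsCompact X (constructibleTopology X) (E ∩ V) :=
      @IsCompact.inter_left _ (constructibleTopology X) _ _ hVτc hEc
    have hKo : IsOpen[constructibleTopology X] (E ∩ V) :=
      @IsOpen.inter _ (constructibleTopology X) _ _ hEo hVτo
    have hB := @TopologicalSpace.isTopologicalBasis_of_subbasis X (constructibleTopology X)
      (constructibleTopologySubbasis X) rfl
    have hex : ∀ y : (E ∩ V : Set X), ∃ b : Set X, IsConstructible b ∧
        IsOpen[constructibleTopology X] b ∧ (y : X) ∈ b ∧ b ⊆ E ∩ V := by
      intro y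
      obtain ⟨b, hb, hyb, hbK⟩ := @TopologicalSpace.IsTopologicalBasis.exists_subset_of_mem_open
        X (constructibleTopology X) _ hB _ _ y.2 hKo
      refine ⟨b, ?_, @TopologicalSpace.IsTopologicalBasis.isOpen X (constructibleTopology X) _ _ hB hb,
        hyb, hbK⟩
      obtain ⟨f, ⟨hf1, hf2⟩, rfl⟩ := hb
      exact IsConstructible.sInter hf1 (fun s hs => subbasis_constr s (hf2 hs))
    choose b hb1 hb2 hb3 hb4 using hex
    obtain ⟨t, ht⟩ := @IsCompact.elim_finite_subcover X (constructibleTopology X) _ _ hKc b hb2
      (fun y hy => Set.mem_iUnion.2 ⟨⟨y, hy⟩, hb3 ⟨y, hy⟩⟩)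
    have hK : E ∩ V = ⋃ y ∈ t, b y := by
      apply subset_antisymm ht
      exact Set.iUnion₂_subset (fun y _ => hb4 y)
    have hKcons : IsConstructible (E ∩ V) := by
      rw [hK]
      exact IsConstructible.biUnion t.finite_toSet (fun y _ => hb1 y)
    have : ((Subtype.val : V → X) ⁻¹' E) = (Subtype.val : V → X) ⁻¹' (E ∩ V) := by
      ext y
      simp [y.2]
    show IsConstructible ((Subtype.val : V → X) ⁻¹' E)
    rw [this]
    exact hKcons.preimage_of_isOpenEmbedding hVo.isOpenEmbedding_subtypeVal


end


open AlgebraicGeometry Topology in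
/-- Let X be a quasi-separated scheme. A subset E of X is locally constructible if and only if it is
both open and closed for the constructible topology of X. Here the constructible topology is the one
generated by the quasi-compact open subsets of X and their complements; when X is quasi-separated
its open sets are exactly the ind-constructible subsets, i.e. it is the constructible topology of
the source (for a scheme that is not quasi-separated the two topologies differ, and this row does
not cover that case). -/
theorem result (X : Scheme.{u}) [QuasiSeparatedSpace X] (E : Set X) :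
    Topology.IsLocallyConstructible E ↔
      (IsOpen[constructibleTopology X] E ∧ IsClosed[constructibleTopology X] E) := by
  classical
  exact main X E

end Groth.Agent.S12122
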