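import Groth.Statements.S12123
import Mathlib

set_option autoImplicit false
universe u
open EGA41

namespace Groth.Agent.S12123

section
open AlgebraicGeometry Topology

theorem continuous_val {X : Type*} [TopologicalSpace X] [QuasiSeparatedSpace X] (V : Set X)
    (hVo : IsOpen V) (hVc : IsCompact V) :
    Continuous[constructibleTopology V, constructibleTopology X] (Subtype.val : V → X) := by
  rw [constructibleTopology, continuous_generateFrom_iff]
  have key : ∀ s : Set X, IsOpen s → IsCompact s → IsCompact ((Subtype.val : V → X) ⁻¹' s) := by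
    intro s hso hsc
    rw [Subtype.isCompact_iff, Subtype.image_preimage_coe]
    exact QuasiSeparatedSpace.inter_isCompact V s hVo hVc hso hsc
  rintro s (⟨hso, hsc⟩ | ⟨hsc, hscc⟩)
  · exact (key s hso hsc).isOpen_constructibleTopology_of_isOpen (hso.preimage continuous_subtype_val)
  · refine IsCompact.isOpen_constructibleTopology_of_isClosed ?_ (hsc.preimage continuous_subtype_val)
    rw [← Set.preimage_compl]
    exact key _ hsc.isOpen_compl hscc

theorem isOpen_of_preimage {X : Type*} [TopologicalSpace X] (V : Set X)
    (hVo : IsOpen V) (hVc : IsCompact V) :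
    IsOpen ((WithTopology.ofTopology : WithConstructibleTopology X → X) ⁻¹' V) :=
  (WithTopology.isOpen_iff _).2 (hVc.isOpen_constructibleTopology_of_isOpen hVo)

theorem isClosed_of_preimage {X : Type*} [TopologicalSpace X] (V : Set X)
    (hVo : IsOpen V) (hVc : IsCompact V) :
    IsClosed ((WithTopology.ofTopology : WithConstructibleTopology X → X) ⁻¹' V) := by
  rw [← isOpen_compl_iff, ← Set.preimage_compl]
  have h : IsOpen[constructibleTopology X] Vᶜ :=
    IsCompact.isOpen_constructibleTopology_of_isClosed (by rwa [compl_compl]) hVo.isClosed_compl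
  exact (WithTopology.isOpen_iff _).2 h

theorem exists_aff (X : Scheme.{u}) (x : X) (U : Set X) (hU : IsOpen U) (hx : x ∈ U) :
    ∃ V : Set X, IsOpen V ∧ IsCompact V ∧ x ∈ V ∧ V ⊆ U ∧ QuasiSober V ∧ PrespectralSpace V := by
  obtain ⟨V, hV, hxV, hVU⟩ := (X.isBasis_affineOpens).exists_subset_of_mem_open
      (show x ∈ (⟨U, hU⟩ : X.Opens) from hx) hU
  obtain ⟨W, hW, rfl⟩ := hV
  refine ⟨W, W.isOpen, IsAffineOpen.isCompact hW, hxV, hVU, ?_, ?_⟩
  · exact W.isOpenEmbedding'.quasiSober
  · exact W.isOpenEmbedding'.prespectralSpace

theorem exists_sep (X : Scheme.{u}) (x y : X) (hxy : x ≠ y) :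
    ∃ V : Set X, IsOpen V ∧ IsCompact V ∧ ((x ∈ V ∧ y ∉ V) ∨ (y ∈ V ∧ x ∉ V)) := by
  obtain ⟨U, hU, hxor⟩ := exists_isOpen_xor_mem hxy
  rcases hxor with ⟨hx, hy⟩ | ⟨hy, hx⟩
  · obtain ⟨V, hVo, hVc, hxV, hVU, -, -⟩ := exists_aff X x U hU hx
    exact ⟨V, hVo, hVc, Or.inl ⟨hxV, fun h => hy (hVU h)⟩⟩
  · obtain ⟨V, hVo, hVc, hyV, hVU, -, -⟩ := exists_aff X y U hU hy
    exact ⟨V, hVo, hVc, Or.inr ⟨hyV, fun h => hx (hVU h)⟩⟩

theorem exists_clopen (X : Scheme.{u}) (x y : WithConstructibleTopology X) (hxy : x ≠ y) :
    ∃ U : Set (WithConstructibleTopology X), IsClopen U ∧ x ∈ U ∧ y ∈ Uᶜ := by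
  have hxy' : x.ofTopology ≠ y.ofTopology := fun h => hxy ((WithTopology.ofTopology_inj _).1 h)
  obtain ⟨V, hVo, hVc, h⟩ := exists_sep X _ _ hxy'
  rcases h with ⟨h1, h2⟩ | ⟨h1, h2⟩
  · exact ⟨_, ⟨isClosed_of_preimage V hVo hVc, isOpen_of_preimage V hVo hVc⟩, h1, h2⟩
  · refine ⟨(WithTopology.ofTopology ⁻¹' V)ᶜ,
      ⟨(isOpen_of_preimage V hVo hVc).isClosed_compl, (isClosed_of_preimage V hVo hVc).isOpen_compl⟩,
      h2, ?_⟩
    rw [compl_compl]
    exact h1

theorem main (X : Scheme.{u}) [QuasiSeparatedSpace X] :
    T2Space (WithConstructibleTopology X) ∧ LocallyCompactSpace (WithConstructibleTopology X) ∧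
      TotallyDisconnectedSpace (WithConstructibleTopology X) := by
  have hTS : TotallySeparatedSpace (WithConstructibleTopology X) := by
    rw [totallySeparatedSpace_iff_exists_isClopen]
    intro x y hxy
    exact exists_clopen X x y hxy
  have hT2 : T2Space (WithConstructibleTopology X) := inferInstance
  refine ⟨hT2, ?_, inferInstance⟩
  have : WeaklyLocallyCompactSpace (WithConstructibleTopology X) := by
    constructor
    intro x
    obtain ⟨V, hVo, hVc, hxV, -, hqs, hps⟩ := exists_aff X x.ofTopology Set.univ isOpen_univ trivial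
    refine ⟨WithTopology.ofTopology ⁻¹' V, ?_, (isOpen_of_preimage V hVo hVc).mem_nhds hxV⟩
    have : CompactSpace V := isCompact_iff_compactSpace.1 hVc
    have : QuasiSeparatedSpace V := hVo.isOpenEmbedding_subtypeVal.quasiSeparatedSpace
    have hcpt : CompactSpace (WithConstructibleTopology V) := inferInstance
    let g : WithConstructibleTopology V → WithConstructibleTopology X :=
      fun v => WithTopology.toTopology _ (v.ofTopology : X)
    have hg : Continuous g := by
      constructor
      intro s hs
      rw [WithTopology.isOpen_iff] at hs ⊢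
      exact (@continuous_def _ _ (constructibleTopology V) (constructibleTopology X) _).1
        (continuous_val V hVo hVc) _ hs
    have hr : Set.range g = WithTopology.ofTopology ⁻¹' V := by
      ext y
      constructor
      · rintro ⟨v, rfl⟩
        exact v.ofTopology.2
      · intro hy
        exact ⟨WithTopology.toTopology _ ⟨y.ofTopology, hy⟩, rfl⟩
    rw [← hr]
    exact isCompact_range hg
  infer_instance


end


open AlgebraicGeometry Topology in
/-- Let X be a quasi-separated scheme and X^cons its underlying set with the constructible topology,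
generated by the quasi-compact open subsets and their complements (for X quasi-separated this is the
topology whose open sets are the ind-constructible subsets). Then X^cons is a Hausdorff, locally
compact, totally disconnected space. (The published statement also asserts that X^cons is Hausdorff
only if X is quasi-separated; for the topology used here that converse fails when X is not
quasi-separated, where the two constructible topologies differ, so it is not part of this row.) -/
theorem result (X : Scheme.{u}) [QuasiSeparatedSpace X] :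
    T2Space (WithConstructibleTopology X) ∧ LocallyCompactSpace (WithConstructibleTopology X) ∧
      TotallyDisconnectedSpace (WithConstructibleTopology X) := by
  classical
  exact main X

end Groth.Agent.S12123
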