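import Groth.Statements.S12127
import Mathlib

set_option autoImplicit false
universe u
open EGA43

namespace Groth.Agent.S12127

section
open Set

/-- quasi-constructible -/
def QC {α : Type u} [TopologicalSpace α] (Z : Set α) : Prop :=
  ∃ T : Set (Set α), T.Finite ∧ (∀ t ∈ T, IsLocallyClosed t) ∧ Z = ⋃₀ T

theorem QC.inter_open {α : Type u} [TopologicalSpace α] {Z W : Set α} (hZ : QC Z) (hW : IsOpen W) :
    QC (Z ∩ W) := by
  obtain ⟨T, hT, hlc, rfl⟩ := hZ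
  refine ⟨(fun t => t ∩ W) '' T, hT.image _, ?_, ?_⟩
  · rintro _ ⟨t, ht, rfl⟩
    exact (hlc t ht).inter hW.isLocallyClosed
  · ext x
    simp only [mem_inter_iff, mem_sUnion, mem_image, exists_exists_and_eq_and]
    constructor
    · rintro ⟨⟨t, ht, hx⟩, hxW⟩
      exact ⟨t, ht, hx, hxW⟩
    · rintro ⟨t, ht, hx, hxW⟩
      exact ⟨⟨t, ht, hx⟩, hxW⟩

/-- separation of a point from a quasi-constructible set by a locally closed set -/
theorem exists_lc_disjoint {α : Type u} [TopologicalSpace α] (T : Set (Set α)) (hT : T.Finite)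
    (hlc : ∀ t ∈ T, IsLocallyClosed t) (y : α) (hy : y ∉ ⋃₀ T) :
    ∃ L : Set α, IsLocallyClosed L ∧ y ∈ L ∧ L ∩ ⋃₀ T = ∅ := by
  induction T, hT using Set.Finite.induction_on with
  | empty => exact ⟨univ, isOpen_univ.isLocallyClosed, mem_univ _, by simp⟩
  | @insert t T' _ _ ih =>
    have hy' : y ∉ ⋃₀ T' := fun h => hy (by
      obtain ⟨s, hs, hys⟩ := h
      exact ⟨s, mem_insert_of_mem _ hs, hys⟩)
    obtain ⟨L', hL', hyL', hdisj⟩ := ih (fun s hs => hlc s (mem_insert_of_mem _ hs)) hy'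
    have hyt : y ∉ t := fun h => hy ⟨t, mem_insert _ _, h⟩
    obtain ⟨U, C, hU, hC, rfl⟩ := hlc t (mem_insert _ _)
    have hs : ∃ s : Set α, IsLocallyClosed s ∧ y ∈ s ∧ s ∩ (U ∩ C) = ∅ := by
      by_cases hyU : y ∈ U
      · have hyC : y ∉ C := fun h => hyt ⟨hyU, h⟩
        refine ⟨Cᶜ, hC.isOpen_compl.isLocallyClosed, hyC, ?_⟩
        ext z; simp only [mem_inter_iff, mem_compl_iff, mem_empty_iff_false, iff_false]; tauto
      · refine ⟨Uᶜ, hU.isClosed_compl.isLocallyClosed, hyU, ?_⟩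
        ext z; simp only [mem_inter_iff, mem_compl_iff, mem_empty_iff_false, iff_false]; tauto
    obtain ⟨s, hs, hys, hst⟩ := hs
    refine ⟨L' ∩ s, hL'.inter hs, ⟨hyL', hys⟩, ?_⟩
    rw [eq_empty_iff_forall_notMem]
    rintro z ⟨⟨hzL', hzs⟩, r, hr, hzr⟩
    rcases hr with rfl | hr
    · have : z ∈ s ∩ (U ∩ C) := ⟨hzs, hzr⟩
      rw [hst] at this
      exact this
    · have : z ∈ L' ∩ ⋃₀ T' := ⟨hzL', r, hr, hzr⟩
      rw [hdisj] at this
      exact this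

/-- subspace form of quasi-constructibility, for an open subset -/
theorem sub_iff {α : Type u} [TopologicalSpace α] (V : Set α) (hV : IsOpen V) (Z : Set α) :
    (∃ T : Set (Set V), T.Finite ∧ (∀ t ∈ T, IsLocallyClosed t) ∧
      (Subtype.val ⁻¹' Z : Set V) = ⋃₀ T) ↔ QC (Z ∩ V) := by
  constructor
  · rintro ⟨T, hT, hlc, hZ⟩
    refine ⟨(fun t => Subtype.val '' t) '' T, hT.image _, ?_, ?_⟩
    · rintro _ ⟨t, ht, rfl⟩
      refine (hlc t ht).image Topology.IsInducing.subtypeVal ?_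
      rw [Subtype.range_coe]
      exact hV.isLocallyClosed
    · ext x
      simp only [mem_inter_iff, mem_sUnion, mem_image, exists_exists_and_eq_and]
      constructor
      · rintro ⟨hxZ, hxV⟩
        have h1 : (⟨x, hxV⟩ : V) ∈ (Subtype.val ⁻¹' Z : Set V) := hxZ
        rw [hZ] at h1
        obtain ⟨t, ht, hxt⟩ := h1
        exact ⟨t, ht, ⟨x, hxV⟩, hxt, rfl⟩
      · rintro ⟨t, ht, ⟨x', hx'⟩, hxt, rfl⟩
        have h1 : (⟨x', hx'⟩ : V) ∈ (Subtype.val ⁻¹' Z : Set V) := by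
          rw [hZ]; exact ⟨t, ht, hxt⟩
        exact ⟨h1, hx'⟩
  · rintro ⟨T, hT, hlc, hZ⟩
    refine ⟨(fun s => (Subtype.val ⁻¹' s : Set V)) '' T, hT.image _, ?_, ?_⟩
    · rintro _ ⟨s, hs, rfl⟩
      exact (hlc s hs).preimage continuous_subtype_val
    · ext ⟨x, hx⟩
      simp only [mem_preimage, mem_sUnion, mem_image, exists_exists_and_eq_and]
      constructor
      · intro hxZ
        have h1 : x ∈ Z ∩ V := ⟨hxZ, hx⟩
        rw [hZ] at h1
        obtain ⟨s, hs, hxs⟩ := h1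
        exact ⟨s, hs, hxs⟩
      · rintro ⟨s, hs, hxs⟩
        have h1 : x ∈ Z ∩ V := by rw [hZ]; exact ⟨s, hs, hxs⟩
        exact h1.1

theorem QC.union_lc {α : Type u} [TopologicalSpace α] {Z s : Set α} (hZ : QC Z)
    (hs : IsLocallyClosed s) : QC (s ∪ Z) := by
  obtain ⟨T, hT, hlc, rfl⟩ := hZ
  refine ⟨insert s T, hT.insert s, ?_, ?_⟩
  · rintro t (rfl | ht)
    · exact hs
    · exact hlc t ht
  · rw [sUnion_insert]

theorem main {X Y : Type u}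
    [TopologicalSpace X] [TopologicalSpace Y] (f : X → Y) (hf : Continuous f)
    (hq : Function.Bijective (fun U : TopologicalSpace.Opens Y =>
      (⟨f ⁻¹' (U : Set Y), U.isOpen.preimage hf⟩ : TopologicalSpace.Opens X))) :
    Set.BijOn (fun Z : Set Y => f ⁻¹' Z)
        {Z : Set Y | ∃ T : Set (Set Y), T.Finite ∧ (∀ t ∈ T, IsLocallyClosed t) ∧ Z = ⋃₀ T}
        {Z : Set X | ∃ T : Set (Set X), T.Finite ∧ (∀ t ∈ T, IsLocallyClosed t) ∧ Z = ⋃₀ T} ∧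
      Set.BijOn (fun Z : Set Y => f ⁻¹' Z)
        {Z : Set Y | ∀ y : Y, ∃ V : Set Y, IsOpen V ∧ y ∈ V ∧
          ∃ T : Set (Set V), T.Finite ∧ (∀ t ∈ T, IsLocallyClosed t) ∧ (Subtype.val ⁻¹' Z : Set V) = ⋃₀ T}
        {Z : Set X | ∀ x : X, ∃ V : Set X, IsOpen V ∧ x ∈ V ∧
          ∃ T : Set (Set V), T.Finite ∧ (∀ t ∈ T, IsLocallyClosed t) ∧ (Subtype.val ⁻¹' Z : Set V) = ⋃₀ T} := by
  -- basic consequences of the quasi-homeomorphism hypothesis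
  have hmono : ∀ V V' : Set Y, IsOpen V → IsOpen V' → f ⁻¹' V ⊆ f ⁻¹' V' → V ⊆ V' := by
    intro V V' hV hV' h
    have h1 : (⟨f ⁻¹' ((⟨V ∪ V', hV.union hV'⟩ : TopologicalSpace.Opens Y) : Set Y), (hV.union hV').preimage hf⟩ :
        TopologicalSpace.Opens X) =
        ⟨f ⁻¹' ((⟨V', hV'⟩ : TopologicalSpace.Opens Y) : Set Y), hV'.preimage hf⟩ := by
      apply TopologicalSpace.Opens.ext
      change f ⁻¹' (V ∪ V') = f ⁻¹' V'
      rw [preimage_union]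
      exact union_eq_self_of_subset_left h
    have h2 := hq.1 h1
    have h3 : V ∪ V' = V' := congrArg (fun U : TopologicalSpace.Opens Y => (U : Set Y)) h2
    rw [← h3]
    exact subset_union_left
  have hsurjO : ∀ U : Set X, IsOpen U → ∃ V : Set Y, IsOpen V ∧ f ⁻¹' V = U := by
    intro U hU
    obtain ⟨V, hV⟩ := hq.2 ⟨U, hU⟩
    exact ⟨V, V.isOpen, congrArg (fun U : TopologicalSpace.Opens X => (U : Set X)) hV⟩
  have hsurjC : ∀ D : Set X, IsClosed D → ∃ C : Set Y, IsClosed C ∧ f ⁻¹' C = D := by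
    intro D hD
    obtain ⟨V, hV, hfV⟩ := hsurjO Dᶜ hD.isOpen_compl
    refine ⟨Vᶜ, hV.isClosed_compl, ?_⟩
    rw [preimage_compl, hfV, compl_compl]
  have hsurjLC : ∀ t : Set X, IsLocallyClosed t → ∃ s : Set Y, IsLocallyClosed s ∧ f ⁻¹' s = t := by
    rintro _ ⟨U, D, hU, hD, rfl⟩
    obtain ⟨V, hV, hfV⟩ := hsurjO U hU
    obtain ⟨C, hC, hfC⟩ := hsurjC D hD
    exact ⟨V ∩ C, ⟨V, C, hV, hC, rfl⟩, by rw [preimage_inter, hfV, hfC]⟩
  have hne : ∀ s : Set Y, IsLocallyClosed s → f ⁻¹' s = ∅ → s = ∅ := by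
    rintro _ ⟨V, C, hV, hC, rfl⟩ h
    have h1 : f ⁻¹' V ⊆ f ⁻¹' Cᶜ := by
      intro x hxV hxC
      have : x ∈ f ⁻¹' (V ∩ C) := ⟨hxV, hxC⟩
      rw [h] at this
      exact this
    have h2 := hmono V Cᶜ hV hC.isOpen_compl h1
    rw [eq_empty_iff_forall_notMem]
    rintro z ⟨hzV, hzC⟩
    exact h2 hzV hzC
  -- part 1
  have mapsTo1 : ∀ Z : Set Y, QC Z → QC (f ⁻¹' Z) := by
    rintro _ ⟨T, hT, hlc, rfl⟩
    refine ⟨(fun t => f ⁻¹' t) '' T, hT.image _, ?_, ?_⟩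
    · rintro _ ⟨t, ht, rfl⟩
      exact (hlc t ht).preimage hf
    · ext x
      simp only [mem_preimage, mem_sUnion, mem_image, exists_exists_and_eq_and]
  have sub1 : ∀ Z Z' : Set Y, QC Z → QC Z' → f ⁻¹' Z ⊆ f ⁻¹' Z' → Z ⊆ Z' := by
    rintro _ _ ⟨T, hT, hlc, rfl⟩ ⟨T', hT', hlc', rfl⟩ h y hy
    by_contra hy'
    obtain ⟨t, ht, hyt⟩ := hy
    obtain ⟨L, hL, hyL, hdisj⟩ := exists_lc_disjoint T' hT' hlc' y hy'
    have hM : IsLocallyClosed (t ∩ L) := (hlc t ht).inter hL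
    have hMne : f ⁻¹' (t ∩ L) ≠ ∅ := by
      intro h0
      have := hne _ hM h0
      have hy2 : y ∈ t ∩ L := ⟨hyt, hyL⟩
      rw [this] at hy2
      exact hy2
    obtain ⟨x, hx⟩ := nonempty_iff_ne_empty.2 hMne
    have hx1 : x ∈ f ⁻¹' ⋃₀ T := ⟨t, ht, hx.1⟩
    have hx2 : f x ∈ L ∩ ⋃₀ T' := ⟨hx.2, h hx1⟩
    rw [hdisj] at hx2
    exact hx2
  have surj1' : ∀ T : Set (Set X), T.Finite → (∀ t ∈ T, IsLocallyClosed t) →
      ∃ Z : Set Y, QC Z ∧ f ⁻¹' Z = ⋃₀ T := by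
    intro T hT
    induction T, hT using Set.Finite.induction_on with
    | empty =>
      intro _
      exact ⟨∅, ⟨∅, finite_empty, by simp, by simp⟩, by simp⟩
    | @insert t T' _ _ ih =>
      intro hlc
      obtain ⟨Z', hZ', hfZ'⟩ := ih (fun s hs => hlc s (mem_insert_of_mem _ hs))
      obtain ⟨s, hs, hfs⟩ := hsurjLC t (hlc t (mem_insert _ _))
      refine ⟨s ∪ Z', hZ'.union_lc hs, ?_⟩
      rw [preimage_union, hfs, hfZ', sUnion_insert]
  have surj1 : ∀ W : Set X, QC W → ∃ Z : Set Y, QC Z ∧ f ⁻¹' Z = W := by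
    rintro _ ⟨T, hT, hlc, rfl⟩
    exact surj1' T hT hlc
  refine ⟨⟨?_, ?_, ?_⟩, ?_⟩
  · intro Z hZ
    exact mapsTo1 Z hZ
  · intro Z hZ Z' hZ' h
    exact Subset.antisymm (sub1 Z Z' hZ hZ' h.subset) (sub1 Z' Z hZ' hZ h.symm.subset)
  · intro W hW
    obtain ⟨Z, hZ, hfZ⟩ := surj1 W hW
    exact ⟨Z, hZ, hfZ⟩
  -- part 2
  have hconvY : ∀ Z : Set Y, (∀ y : Y, ∃ V : Set Y, IsOpen V ∧ y ∈ V ∧
      ∃ T : Set (Set V), T.Finite ∧ (∀ t ∈ T, IsLocallyClosed t) ∧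
        (Subtype.val ⁻¹' Z : Set V) = ⋃₀ T) ↔
      ∀ y : Y, ∃ V : Set Y, IsOpen V ∧ y ∈ V ∧ QC (Z ∩ V) := by
    intro Z
    refine forall_congr' (fun y => exists_congr (fun V => ?_))
    constructor
    · rintro ⟨hV, hy, h⟩
      exact ⟨hV, hy, (sub_iff V hV Z).1 h⟩
    · rintro ⟨hV, hy, h⟩
      exact ⟨hV, hy, (sub_iff V hV Z).2 h⟩
  have hconvX : ∀ Z : Set X, (∀ y : X, ∃ V : Set X, IsOpen V ∧ y ∈ V ∧
      ∃ T : Set (Set V), T.Finite ∧ (∀ t ∈ T, IsLocallyClosed t) ∧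
        (Subtype.val ⁻¹' Z : Set V) = ⋃₀ T) ↔
      ∀ y : X, ∃ V : Set X, IsOpen V ∧ y ∈ V ∧ QC (Z ∩ V) := by
    intro Z
    refine forall_congr' (fun y => exists_congr (fun V => ?_))
    constructor
    · rintro ⟨hV, hy, h⟩
      exact ⟨hV, hy, (sub_iff V hV Z).1 h⟩
    · rintro ⟨hV, hy, h⟩
      exact ⟨hV, hy, (sub_iff V hV Z).2 h⟩
  have sub2 : ∀ Z Z' : Set Y, (∀ y : Y, ∃ V : Set Y, IsOpen V ∧ y ∈ V ∧ QC (Z ∩ V)) →
      (∀ y : Y, ∃ V : Set Y, IsOpen V ∧ y ∈ V ∧ QC (Z' ∩ V)) → f ⁻¹' Z ⊆ f ⁻¹' Z' → Z ⊆ Z' := by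
    intro Z Z' hZ hZ' h y hy
    obtain ⟨V, hV, hyV, hQ⟩ := hZ y
    obtain ⟨V', hV', hyV', hQ'⟩ := hZ' y
    have h1 : QC ((Z ∩ V) ∩ V') := hQ.inter_open hV'
    have h2 : QC ((Z' ∩ V') ∩ V) := hQ'.inter_open hV
    have h3 : f ⁻¹' ((Z ∩ V) ∩ V') ⊆ f ⁻¹' ((Z' ∩ V') ∩ V) := by
      rintro x ⟨⟨hxZ, hxV⟩, hxV'⟩
      exact ⟨⟨h hxZ, hxV'⟩, hxV⟩
    have h4 := sub1 _ _ h1 h2 h3
    exact (h4 ⟨⟨hy, hyV⟩, hyV'⟩).1.1
  refine ⟨?_, ?_, ?_⟩
  · intro Z hZ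
    rw [mem_setOf_eq, hconvY] at hZ
    rw [mem_setOf_eq, hconvX]
    intro x
    obtain ⟨V, hV, hyV, hQ⟩ := hZ (f x)
    refine ⟨f ⁻¹' V, hV.preimage hf, hyV, ?_⟩
    have := mapsTo1 _ hQ
    rwa [preimage_inter] at this
  · intro Z hZ Z' hZ' h
    rw [mem_setOf_eq, hconvY] at hZ hZ'
    exact Subset.antisymm (sub2 Z Z' hZ hZ' h.subset) (sub2 Z' Z hZ' hZ h.symm.subset)
  · intro W hW
    rw [mem_setOf_eq, hconvX] at hW
    choose U hU hxU hQ using hW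
    choose V hV hfV using fun x => hsurjO (U x) (hU x)
    choose Q hQ' hfQ using fun x => surj1 (W ∩ U x) (hQ x)
    have hcover : ∀ y : Y, ∃ x : X, y ∈ V x := by
      have h1 : f ⁻¹' (univ : Set Y) ⊆ f ⁻¹' (⋃ x, V x) := by
        intro x _
        rw [preimage_iUnion, mem_iUnion]
        exact ⟨x, by rw [hfV x]; exact hxU x⟩
      have h2 := hmono univ (⋃ x, V x) isOpen_univ (isOpen_iUnion hV) h1
      intro y
      exact mem_iUnion.1 (h2 (mem_univ y))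
    refine ⟨⋃ x, Q x ∩ V x, ?_, ?_⟩
    · rw [mem_setOf_eq, hconvY]
      intro y
      obtain ⟨x₀, hx₀⟩ := hcover y
      refine ⟨V x₀, hV x₀, hx₀, ?_⟩
      have heq : (⋃ x, Q x ∩ V x) ∩ V x₀ = Q x₀ ∩ V x₀ := by
        apply Subset.antisymm
        · rintro z ⟨hz, hzV₀⟩
          obtain ⟨x, hzx⟩ := mem_iUnion.1 hz
          have hA : QC ((Q x ∩ V x) ∩ V x₀) := ((hQ' x).inter_open (hV x)).inter_open (hV x₀)
          have hsub : f ⁻¹' ((Q x ∩ V x) ∩ V x₀) ⊆ f ⁻¹' (Q x₀) := by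
            rw [preimage_inter, preimage_inter, hfQ x, hfV x, hfV x₀, hfQ x₀]
            rintro w ⟨⟨⟨hwW, _⟩, _⟩, hw₀⟩
            exact ⟨hwW, hw₀⟩
          exact ⟨sub1 _ _ hA (hQ' x₀) hsub ⟨hzx, hzV₀⟩, hzV₀⟩
        · rintro z ⟨hzQ, hzV⟩
          exact ⟨mem_iUnion.2 ⟨x₀, hzQ, hzV⟩, hzV⟩
      rw [heq]
      exact (hQ' x₀).inter_open (hV x₀)
    · change f ⁻¹' (⋃ x, Q x ∩ V x) = W
      ext w
      rw [preimage_iUnion, mem_iUnion]
      constructor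
      · rintro ⟨x, hw⟩
        rw [preimage_inter, hfQ x] at hw
        exact hw.1.1
      · intro hw
        refine ⟨w, ?_⟩
        rw [preimage_inter, hfQ w, hfV w]
        exact ⟨⟨hw, hxU w⟩, hxU w⟩


end


/-- Let f : X → Y be a quasi-homeomorphism, i.e. a continuous map such that U ↦ f⁻¹(U) is a bijection
from the open subsets of Y onto the open subsets of X. Call a subset quasi-constructible when it is
a finite union of locally closed subsets, and locally quasi-constructible when every point of the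
space has an open neighbourhood V whose intersection with it is quasi-constructible in V. Then Z ↦
f⁻¹(Z) induces a bijection from the quasi-constructible subsets of Y onto those of X, and from the
locally quasi-constructible subsets of Y onto those of X. -/
theorem result {X Y : Type u}
    [TopologicalSpace X] [TopologicalSpace Y] (f : X → Y) (hf : Continuous f)
    (hq : Function.Bijective (fun U : TopologicalSpace.Opens Y =>
      (⟨f ⁻¹' (U : Set Y), U.isOpen.preimage hf⟩ : TopologicalSpace.Opens X))) :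
    Set.BijOn (fun Z : Set Y => f ⁻¹' Z)
        {Z : Set Y | ∃ T : Set (Set Y), T.Finite ∧ (∀ t ∈ T, IsLocallyClosed t) ∧ Z = ⋃₀ T}
        {Z : Set X | ∃ T : Set (Set X), T.Finite ∧ (∀ t ∈ T, IsLocallyClosed t) ∧ Z = ⋃₀ T} ∧
      Set.BijOn (fun Z : Set Y => f ⁻¹' Z)
        {Z : Set Y | ∀ y : Y, ∃ V : Set Y, IsOpen V ∧ y ∈ V ∧
          ∃ T : Set (Set V), T.Finite ∧ (∀ t ∈ T, IsLocallyClosed t) ∧ (Subtype.val ⁻¹' Z : Set V) = ⋃₀ T}
        {Z : Set X | ∀ x : X, ∃ V : Set X, IsOpen V ∧ x ∈ V ∧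
          ∃ T : Set (Set V), T.Finite ∧ (∀ t ∈ T, IsLocallyClosed t) ∧ (Subtype.val ⁻¹' Z : Set V) = ⋃₀ T} := by
  classical
  exact main f hf hq

end Groth.Agent.S12127
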