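import Groth.Statements.S1213
import Groth.Agent.Lib.Helper6.DirSumNak

set_option autoImplicit false
universe u
open scoped Classical
open FlatMor

namespace Groth.Agent.S1213

open TensorProduct IsLocalRing in
/-- Let R be a local ring, S an R-algebra and N an S-module which, as an R-module, is an internal direct
sum of finite R-submodules. Then for every R-module M and every prime q of S which is the
annihilator of an element of the S-module N ⊗_R M we have q + 𝔪_R S ≠ S. -/
theorem result {R S : Type u} [CommRing R] [IsLocalRing R] [CommRing S] [Algebra R S]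
    (N : Type u) [AddCommGroup N] [Module S N] [Module R N] [IsScalarTower R S N]
    (ι : Type u) (F : ι → Submodule R N) (hF : DirectSum.IsInternal F) (hfin : ∀ i, Module.Finite R (F i))
    (M : Type u) [AddCommGroup M] [Module R M]
    (q : Ideal S) [q.IsPrime] (hq : q ∈ FlatCA.ass S (N ⊗[R] M)) :
    q ⊔ (maximalIdeal R).map (algebraMap R S) ≠ ⊤ := by
  intro htop
  obtain ⟨hprime, x, hx⟩ := hq
  have h1 : (1 : S) ∈ q ⊔ (maximalIdeal R).map (algebraMap R S) := by
    rw [htop]; exact Submodule.mem_top
  obtain ⟨a, ha, b, hb, hab⟩ := Submodule.mem_sup.mp h1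
  have ha' : a = 1 - b := by rw [← hab]; ring
  have hax : a • x = 0 := by
    have : a ∈ (Submodule.span S {x}).annihilator := by rw [← hx]; exact ha
    rw [Submodule.mem_annihilator_span_singleton] at this
    exact this
  have hind : iSupIndep F := hF.submodule_iSupIndep
  have hsup : iSup F = ⊤ := hF.submodule_iSup_eq_top
  obtain ⟨J, hJ⟩ := Groth.Agent.Helper6.DirSumNak.exists_finset_mem_range M F hsup x
  have hc := Groth.Agent.Helper6.DirSumNak.isCompl_biSup F hind hsup J
  haveI : Module.Finite R (⨆ i ∈ J, F i : Submodule R N) := by
    rw [Module.Finite.iff_fg]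
    apply Submodule.fg_biSup
    intro i _
    exact Module.Finite.iff_fg.mp (hfin i)
  have hx0 : x = 0 := by
    refine Groth.Agent.Helper6.DirSumNak.eq_zero_of_mem_range M
      (Submodule.projectionOnto _ _ hc) (fun p => Submodule.projectionOnto_apply_left hc p)
      b hb x hJ ?_
    rw [← ha']; exact hax
  have : q = ⊤ := by
    rw [hx, hx0]
    simp [Submodule.annihilator_bot]
  exact hprime.ne_top this

end Groth.Agent.S1213
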