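import Groth.Statements.S1214
import Groth.Agent.Lib.Helper6.AdicUnit

set_option autoImplicit false
universe u
open FlatMor

namespace Groth.Agent.S1214

open TensorProduct in
/-- Let R → S be a ring map, I an ideal of R and N an S-module which is I-adically complete. Then for
every R-module M and every prime q of S which is the annihilator of an element of the S-module N ⊗_R
M we have q + IS ≠ S. -/
theorem result {R S : Type u} [CommRing R] [CommRing S] [Algebra R S] (I : Ideal R)
    (N : Type u) [AddCommGroup N] [Module S N] [Module R N] [IsScalarTower R S N] [IsAdicComplete I N]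
    (M : Type u) [AddCommGroup M] [Module R M]
    (q : Ideal S) [q.IsPrime] (hq : q ∈ FlatCA.ass S (N ⊗[R] M)) :
    q ⊔ I.map (algebraMap R S) ≠ ⊤ := by
  intro htop
  obtain ⟨hprime, x, hx⟩ := hq
  have h1 : (1 : S) ∈ q ⊔ I.map (algebraMap R S) := by rw [htop]; exact Submodule.mem_top
  obtain ⟨a, ha, b, hb, hab⟩ := Submodule.mem_sup.mp h1
  have ha' : a = 1 - b := by rw [← hab]; ring
  -- multiplication by a on N is bijective
  have hbij : Function.Bijective (fun y : N => (1 - b) • y) :=
    ⟨Groth.Agent.Helper6.AdicUnit.one_sub_smul_injective I N b hb,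
      Groth.Agent.Helper6.AdicUnit.one_sub_smul_surjective I N b hb⟩
  let μ : N →ₗ[R] N :=
    { toFun := fun y => (1 - b) • y
      map_add' := fun y z => smul_add _ _ _
      map_smul' := fun r y => by simp only [RingHom.id_apply]; rw [smul_comm] }
  let e : N ≃ₗ[R] N := LinearEquiv.ofBijective μ hbij
  have he : ∀ t : N ⊗[R] M, (e.rTensor M) t = a • t := by
    intro t
    induction t using TensorProduct.induction_on with
    | zero => simp
    | tmul n m =>
      rw [LinearEquiv.rTensor_tmul, TensorProduct.smul_tmul', ha']
      rfl
    | add t₁ t₂ h₁ h₂ => rw [map_add, h₁, h₂, smul_add]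
  have hax : a • x = 0 := by
    have : a ∈ (Submodule.span S {x}).annihilator := by rw [← hx]; exact ha
    rw [Submodule.mem_annihilator_span_singleton] at this
    exact this
  have hx0 : x = 0 := by
    have : (e.rTensor M) x = 0 := by rw [he, hax]
    exact (LinearEquiv.map_eq_zero_iff _).mp this
  have : q = ⊤ := by
    rw [hx, hx0]
    simp [Submodule.annihilator_bot]
  exact hprime.ne_top this

end Groth.Agent.S1214
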