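import Groth.Statements.S12154
import Mathlib
import Groth.Agent.Lib.Helper1.ProjQ9
import Groth.Agent.Lib.Helper1.ProjQ8
import Groth.Agent.Lib.Helper1.ImmComp

set_option autoImplicit false
universe u
open CategoryTheory CategoryTheory.Limits AlgebraicGeometry TopologicalSpace Opposite
open scoped HomogeneousIdeal
noncomputable section
open EGA2

namespace Groth.Agent.S12154

/-- Let q : X → Y be a morphism, L an invertible O_X-module with 𝒮L = ⊕ L^{⊗n} (whose Proj, with its
charts, is X), v : 𝒯 → 𝒮 a graded homomorphism of quasi-coherent positively graded O_Y-algebras, ψ♭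
= u : 𝒮 → q_*𝒮L a graded q-morphism and ψ'♭ = u' its composite with v; let r = r_{L,ψ} : G(ψ) →
Proj(𝒮) and r' = r_{L,ψ'} : G(ψ') → Proj(𝒯), with r' everywhere defined and v (TN)-surjective (v :
𝒯_k → 𝒮_k surjective for all large k, on sections over affine opens). If r' is an open immersion, so
is r; if r' is a closed immersion, so is r. -/
theorem result {Y X P PL P' : Scheme.{u}} (q : X ⟶ Y)
    (L : X.Modules) (hL : PicF.IsInvertible L) (hLq : Coh.IsQCoh L)
    (𝒮 : RelProj.QCGrAlg Y) (𝒮L : RelProj.QCGrAlg X) (j : L ⟶ 𝒮L.toModule) (hj : RelProj.IsGrSymAlg L 𝒮L j)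
    (u : RelProj.QGrHom q 𝒮 𝒮L)
    (p : P ⟶ Y) (chart : ∀ (U : Y.Opens) (hU : IsAffineOpen U), (((p ⁻¹ᵁ U : P.Opens) : Scheme.{u}) ≅ Proj (𝒮.deg U hU)))
    (hP : RelProj.IsRelProj 𝒮 p chart)
    (pL : PL ⟶ X) (chartL : ∀ (U : X.Opens) (hU : IsAffineOpen U), (((pL ⁻¹ᵁ U : PL.Opens) : Scheme.{u}) ≅ Proj (𝒮L.deg U hU)))
    (hPL : RelProj.IsRelProj 𝒮L pL chartL)
    (r : ((RelProj.domQ u pL chartL : PL.Opens) : Scheme.{u}) ⟶ P)
    (hr : RelProj.IsProjQMapOn u p chart pL chartL (RelProj.domQ u pL chartL) r)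
    (𝒯 : RelProj.QCGrAlg Y) (v : 𝒯.toQCAlg ⟶ 𝒮.toQCAlg) (hv : RelProj.IsGradedHom v)
    (u' : RelProj.QGrHom q 𝒯 𝒮L) (hu' : ∀ U : Y.Opens, u'.app U = v.hom.app (op U) ≫ u.app U)
    (p' : P' ⟶ Y) (chart' : ∀ (U : Y.Opens) (hU : IsAffineOpen U), (((p' ⁻¹ᵁ U : P'.Opens) : Scheme.{u}) ≅ Proj (𝒯.deg U hU)))
    (hP' : RelProj.IsRelProj 𝒯 p' chart')
    (r' : ((RelProj.domQ u' pL chartL : PL.Opens) : Scheme.{u}) ⟶ P')
    (hr' : RelProj.IsProjQMapOn u' p' chart' pL chartL (RelProj.domQ u' pL chartL) r')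
    (hTN : ∃ n : ℕ, ∀ k, n ≤ k → ∀ (U : Y.Opens) (hU : IsAffineOpen U), ∀ y ∈ 𝒮.deg U hU k,
      ∃ x ∈ 𝒯.deg U hU k, (v.hom.app (op U)).hom x = y)
    (hdef : RelProj.domQ u' pL chartL = ⊤) :
    (IsOpenImmersion r' → IsOpenImmersion r) ∧ (IsClosedImmersion r' → IsClosedImmersion r) := by
  have hle := Groth.Agent.Helper1.ProjQ.domQ_comp_le u pL chartL v hv u' hu'
  have htop : RelProj.domQ u pL chartL = ⊤ := top_le_iff.mp (hdef ▸ hle)
  have hvtop := Groth.Agent.Helper1.ProjQ.domQ_eq_top_of_tn v hv p chart hTN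
  obtain ⟨s, hs, -⟩ := Groth.Agent.Helper1.ProjQ.existsUnique_isProjQMapOn
    (RelProj.QGrHom.ofHom v hv) p' chart' p chart hP' hP _ rfl
  have hfun := Groth.Agent.Helper1.ProjQ.functoriality u v hv u' hu' p chart pL chartL p' chart'
    r hr r' hr' s hs
  have hsci : IsClosedImmersion s := by
    obtain ⟨n, hn⟩ := hTN
    apply Groth.Agent.Helper1.ProjQ.of_charts v hv p' chart' p chart hP' hP s hs @IsClosedImmersion
    intro U hU t
    apply IsClosedImmersion.spec_of_surjective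
    apply Groth.Agent.Helper1.ProjQ.awayMap_surjective_of_tn _ n
    intro k hk y hy
    obtain ⟨x, hx, hxy⟩ := hn k hk U hU y hy
    exact ⟨x, hx, (DFunLike.congr_fun (Groth.Agent.Helper1.ProjQ.gr_diag v hv U hU) x).trans hxy⟩
  have hge : RelProj.domQ u pL chartL ≤ RelProj.domQ u' pL chartL := by
    rw [hdef]; exact le_top
  have hiso : IsIso (PL.homOfLE hle) := ⟨PL.homOfLE hge, by simp, by simp⟩
  have hiso2 : IsIso (RelProj.domQ (RelProj.QGrHom.ofHom v hv) p chart).ι := by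
    apply isIso_of_isOpenImmersion_of_opensRange_eq_top
    rw [Scheme.Opens.opensRange_ι]
    exact hvtop
  have hfac := IsOpenImmersion.lift_fac (RelProj.domQ (RelProj.QGrHom.ofHom v hv) p chart).ι
      (PL.homOfLE hle ≫ r)
      (Groth.Agent.Helper1.ProjQ.range_comp_subset u v hv u' hu' p chart pL chartL r hr)
  constructor
  · intro himm
    have h1 : IsOpenImmersion (IsOpenImmersion.lift
        (RelProj.domQ (RelProj.QGrHom.ofHom v hv) p chart).ι
        (PL.homOfLE (Groth.Agent.Helper1.ProjQ.domQ_comp_le u pL chartL v hv u' hu') ≫ r)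
        (Groth.Agent.Helper1.ProjQ.range_comp_subset u v hv u' hu' p chart pL chartL r hr) ≫ s) := by
      rw [hfun]; exact himm
    have h2 : IsOpenImmersion (IsOpenImmersion.lift
        (RelProj.domQ (RelProj.QGrHom.ofHom v hv) p chart).ι
        (PL.homOfLE (Groth.Agent.Helper1.ProjQ.domQ_comp_le u pL chartL v hv u' hu') ≫ r)
        (Groth.Agent.Helper1.ProjQ.range_comp_subset u v hv u' hu' p chart pL chartL r hr)) :=
      Groth.Agent.Helper1.ImmComp.isOpenImmersion_of_comp _ s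
    have h3 : IsOpenImmersion (PL.homOfLE hle ≫ r) := by
      rw [← hfac]
      infer_instance
    exact (MorphismProperty.cancel_left_of_respectsIso @IsOpenImmersion (PL.homOfLE hle) r).mp h3
  · intro himm
    have h1 : IsClosedImmersion (IsOpenImmersion.lift
        (RelProj.domQ (RelProj.QGrHom.ofHom v hv) p chart).ι
        (PL.homOfLE (Groth.Agent.Helper1.ProjQ.domQ_comp_le u pL chartL v hv u' hu') ≫ r)
        (Groth.Agent.Helper1.ProjQ.range_comp_subset u v hv u' hu' p chart pL chartL r hr) ≫ s) := by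
      rw [hfun]; exact himm
    have h2 : IsClosedImmersion (IsOpenImmersion.lift
        (RelProj.domQ (RelProj.QGrHom.ofHom v hv) p chart).ι
        (PL.homOfLE (Groth.Agent.Helper1.ProjQ.domQ_comp_le u pL chartL v hv u' hu') ≫ r)
        (Groth.Agent.Helper1.ProjQ.range_comp_subset u v hv u' hu' p chart pL chartL r hr)) :=
      IsClosedImmersion.of_comp _ s
    have h3 : IsClosedImmersion (PL.homOfLE hle ≫ r) := by
      rw [← hfac]
      infer_instance
    exact (MorphismProperty.cancel_left_of_respectsIso @IsClosedImmersion (PL.homOfLE hle) r).mp h3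

end Groth.Agent.S12154
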