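import Groth.Statements.S12155
import Mathlib
import Groth.Agent.Lib.Helper1.ConeFun

set_option autoImplicit false
universe u
open CategoryTheory CategoryTheory.Limits AlgebraicGeometry TopologicalSpace Opposite
open scoped HomogeneousIdeal
noncomputable section
open EGA2

namespace Groth.Agent.S12155

/-- Let q : Y' → Y be a morphism, φ : 𝒮 → q_*𝒮' a graded q-morphism of quasi-coherent positively graded
algebras with 𝒮_0 = O_Y, 𝒮'_0 = O_{Y'}, φ̂ : 𝒮[z] → q_*𝒮'[z] its extension with φ̂(z) = z, Ĉ =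
Proj(𝒮[z]), Ĉ' = Proj(𝒮'[z]) the projective cones with pointed cones Ê, Ê', and Φ̂ = Proj(φ̂) :
G(φ̂) → Ĉ. Then Φ̂⁻¹(Ê) ⊆ Ê'; moreover if Proj(φ) is everywhere defined on Proj(𝒮'), then Φ̂ is
everywhere defined on Ĉ' and Φ̂⁻¹(Ê) = Ê'. -/
theorem result {Y Y' PC PC' : Scheme.{u}} (q : Y' ⟶ Y)
    (𝒮 : RelProj.QCGrAlg Y) (𝒮' : RelProj.QCGrAlg Y') (h0 : RelCone.StrZeroBij 𝒮) (h0' : RelCone.StrZeroBij 𝒮')
    (u : RelProj.QGrHom q 𝒮 𝒮')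
    (𝒮h : RelProj.QCGrAlg Y) (ι : 𝒮.toQCAlg ⟶ 𝒮h.toQCAlg) (z : 𝒮h.presheaf.obj (op ⊤))
    (hz : RelCone.IsPolyOver 𝒮 𝒮h ι z)
    (pC : PC ⟶ Y) (chartC : ∀ (U : Y.Opens) (hU : IsAffineOpen U), (((pC ⁻¹ᵁ U : PC.Opens) : Scheme.{u}) ≅ Proj (𝒮h.deg U hU)))
    (hC : RelProj.IsRelProj 𝒮h pC chartC)
    (𝒮h' : RelProj.QCGrAlg Y') (ι' : 𝒮'.toQCAlg ⟶ 𝒮h'.toQCAlg) (z' : 𝒮h'.presheaf.obj (op ⊤))
    (hz' : RelCone.IsPolyOver 𝒮' 𝒮h' ι' z')
    (pC' : PC' ⟶ Y') (chartC' : ∀ (U : Y'.Opens) (hU : IsAffineOpen U), (((pC' ⁻¹ᵁ U : PC'.Opens) : Scheme.{u}) ≅ Proj (𝒮h'.deg U hU)))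
    (hC' : RelProj.IsRelProj 𝒮h' pC' chartC')
    (uh : RelProj.QGrHom q 𝒮h 𝒮h')
    (huh : ∀ U : Y.Opens, ι.hom.app (op U) ≫ uh.app U = u.app U ≫ ι'.hom.app (op (q ⁻¹ᵁ U)))
    (huhz : (uh.app ⊤).hom z = RelCone.restrictTop 𝒮h' z' (q ⁻¹ᵁ ⊤))
    (Φh : ((RelProj.domQ uh pC' chartC' : PC'.Opens) : Scheme.{u}) ⟶ PC)
    (hΦh : RelProj.IsProjQMapOn uh pC chartC pC' chartC' (RelProj.domQ uh pC' chartC') Φh)
    {P' : Scheme.{u}} (p' : P' ⟶ Y') (chart' : ∀ (U : Y'.Opens) (hU : IsAffineOpen U), (((p' ⁻¹ᵁ U : P'.Opens) : Scheme.{u}) ≅ Proj (𝒮'.deg U hU)))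
    (hP' : RelProj.IsRelProj 𝒮' p' chart') :
    (RelProj.domQ uh pC' chartC').ι ''ᵁ (Φh ⁻¹ᵁ RelCone.pointedProjCone 𝒮 hz pC chartC) ≤ RelCone.pointedProjCone 𝒮' hz' pC' chartC' ∧
      (RelProj.domQ u p' chart' = ⊤ →
        RelProj.domQ uh pC' chartC' = ⊤ ∧
          (RelProj.domQ uh pC' chartC').ι ''ᵁ (Φh ⁻¹ᵁ RelCone.pointedProjCone 𝒮 hz pC chartC) = RelCone.pointedProjCone 𝒮' hz' pC' chartC') := by
  have hE := Groth.Agent.Helper1.ConeFun.pointedProjCone_eq_domQ' hz pC chartC hC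
  have hE' := Groth.Agent.Helper1.ConeFun.pointedProjCone_eq_domQ' hz' pC' chartC' hC'
  have hκ := Groth.Agent.Helper1.ConeFun.gr_kap_pre u hz hz' uh huh
  have hsub : (RelProj.domQ uh pC' chartC').ι ''ᵁ
      (Φh ⁻¹ᵁ RelCone.pointedProjCone 𝒮 hz pC chartC) ≤
      RelProj.domQ (Groth.Agent.Helper1.ConeFun.kap hz uh) pC' chartC' := by
    rintro _ ⟨w, hw, rfl⟩
    have hw' : Φh w ∈ RelProj.domQ (RelProj.QGrHom.ofHom ι hz.graded) pC chartC := by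
      rw [← hE]; exact hw
    exact Groth.Agent.Helper1.ProjQ.mem_domQ_comp' uh ι hz.graded
      (Groth.Agent.Helper1.ConeFun.kap hz uh) (Groth.Agent.Helper1.ProjQ.compHom_app ι hz.graded uh) pC chartC pC' chartC' hC Φh hΦh w hw'
  have hpre := Groth.Agent.Helper1.ProjQ.domQ_pre_le u ι' hz'.graded
    (Groth.Agent.Helper1.ConeFun.kap hz uh) hκ pC' chartC'
  refine ⟨?_, fun htop => ?_⟩
  · rw [hE']
    exact hsub.trans hpre
  · have huhtop := Groth.Agent.Helper1.ConeFun.domQ_uh_eq_top u hz hz' pC' chartC' uh huh huhz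
      p' chart' hP' htop
    refine ⟨huhtop, le_antisymm ?_ ?_⟩
    · rw [hE']
      exact hsub.trans hpre
    · intro x hx
      rw [hE'] at hx
      obtain ⟨r', hr', -⟩ := Groth.Agent.Helper1.ProjQ.existsUnique_isProjQMapOn
        (RelProj.QGrHom.ofHom ι' hz'.graded) p' chart' pC' chartC' hP' hC' _ rfl
      have h1 := Groth.Agent.Helper1.ProjQ.mem_domQ_pre u ι' hz'.graded
        (Groth.Agent.Helper1.ConeFun.kap hz uh) hκ p' chart' pC' chartC' hP' hC' r' hr'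
        ⟨x, hx⟩ (by rw [htop]; trivial)
      have h1' : x ∈ RelProj.domQ (Groth.Agent.Helper1.ConeFun.kap hz uh) pC' chartC' := h1
      have h2 := Groth.Agent.Helper1.ProjQ.range_comp_subset uh ι hz.graded
        (Groth.Agent.Helper1.ConeFun.kap hz uh) (Groth.Agent.Helper1.ProjQ.compHom_app ι hz.graded uh) pC chartC pC' chartC' Φh hΦh
        ⟨⟨x, h1'⟩, rfl⟩
      rw [Scheme.Opens.range_ι] at h2
      refine ⟨PC'.homOfLE (Groth.Agent.Helper1.ProjQ.domQ_comp_le uh pC' chartC' ι hz.graded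
        (Groth.Agent.Helper1.ConeFun.kap hz uh) (Groth.Agent.Helper1.ProjQ.compHom_app ι hz.graded uh)) ⟨x, h1'⟩, ?_, ?_⟩
      · show Φh _ ∈ RelCone.pointedProjCone 𝒮 hz pC chartC
        rw [hE]
        exact h2
      · rw [Scheme.homOfLE_apply']
        rfl

end Groth.Agent.S12155
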