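import Groth.Statements.S12223
import Mathlib
import Groth.Agent.S6697
import Groth.Agent.S6185
import Groth.Agent.Lib.Helper5.Misc.ZarIncl
import Groth.Agent.Lib.Helper5.Misc.LanFlat
import Groth.Agent.Lib.Helper5.Misc.ExtAdj
import Groth.Agent.Lib.Helper5.Misc.ShriekAbConst

set_option autoImplicit false
open CategoryTheory CategoryTheory.Limits AlgebraicGeometry Opposite
universe u
open BigSite

open TopologicalSpace
open Groth.Agent.Lib.Helper5.Misc

namespace Groth.Agent.S12223

variable (X : Scheme.{u}) [BigSite.ZarCont Scheme.zariskiPrecoverage X]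

theorem lexPi : PreservesFiniteLimits (BigSite.piZarPull Scheme.zariskiPrecoverage X) := by
  have : AB5OfSize.{u, u} AddCommGrpCat.{u + 1} :=
    AB5OfSize_shrink.{u, u, u + 1, u + 1} AddCommGrpCat.{u + 1}
  exact LanFlat.preservesFiniteLimits_sheafPullback (BigSite.zarIncl X) AddCommGrpCat.{u + 1} _ _

instance : PreservesFiniteLimits (BigSite.piZarPull Scheme.zariskiPrecoverage X) := lexPi X

instance : (BigSite.piZarPull Scheme.zariskiPrecoverage X).IsLeftAdjoint :=
  (BigSite.piZarAdj Scheme.zariskiPrecoverage X).isLeftAdjoint

instance : (BigSite.piZarPull Scheme.zariskiPrecoverage X).Additive :=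
  haveI := preservesBinaryBiproducts_of_preservesBinaryCoproducts
    (BigSite.piZarPull Scheme.zariskiPrecoverage X)
  Functor.additive_of_preservesBinaryBiproducts _

instance : (BigSite.resZar Scheme.zariskiPrecoverage X).IsRightAdjoint :=
  (BigSite.piZarAdj Scheme.zariskiPrecoverage X).isRightAdjoint

instance : (BigSite.resZar Scheme.zariskiPrecoverage X).IsLeftAdjoint :=
  ((BigSite.zarIncl X).sheafAdjunctionCocontinuous AddCommGrpCat.{u + 1}
    (Opens.grothendieckTopology X) (QuotSh.J Scheme.zariskiPrecoverage X)).isLeftAdjoint

/-- the terminal object of the big site as image of `⊤` -/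
noncomputable def tBIsTerminal : IsTerminal ((BigSite.zarIncl X).obj ⊤) :=
  IsTerminal.ofUniqueHom (fun Y => ZarIncl.liftTo X Y ⊤ (by simp))
    (fun Y m => Subsingleton.elim _ _)

noncomputable def adjComp :
    constantSheaf (Opens.grothendieckTopology X) AddCommGrpCat.{u + 1} ⋙
      BigSite.piZarPull Scheme.zariskiPrecoverage X ⊣
    BigSite.resZar Scheme.zariskiPrecoverage X ⋙
      (sheafSections (Opens.grothendieckTopology X) AddCommGrpCat.{u + 1}).obj (op ⊤) :=
  (constantSheafAdj (Opens.grothendieckTopology X) AddCommGrpCat.{u + 1} isTerminalTop).comp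
    (BigSite.piZarAdj Scheme.zariskiPrecoverage X)

noncomputable def constIso :
    constantSheaf (Opens.grothendieckTopology X) AddCommGrpCat.{u + 1} ⋙
      BigSite.piZarPull Scheme.zariskiPrecoverage X ≅
    constantSheaf (QuotSh.J Scheme.zariskiPrecoverage X) AddCommGrpCat.{u + 1} :=
  Adjunction.leftAdjointUniq (adjComp X)
    (constantSheafAdj (QuotSh.J Scheme.zariskiPrecoverage X) AddCommGrpCat.{u + 1} (tBIsTerminal X))

theorem main (F : BigSite.Ab Scheme.zariskiPrecoverage X) (p : ℕ) :
    Nonempty (EtZar.H ((BigSite.resZar Scheme.zariskiPrecoverage X).obj F) p ≃+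
      BigSite.H Scheme.zariskiPrecoverage X F p) := by
  have e1 := ExtAdj.extAddEquiv (BigSite.piZarAdj Scheme.zariskiPrecoverage X)
    ((constantSheaf (Opens.grothendieckTopology X) AddCommGrpCat.{u + 1}).obj
      (AddCommGrpCat.of (ULift ℤ))) F p
  have e2 := ShriekAb.extAddEquivOfIso ((constIso X).app (AddCommGrpCat.of (ULift ℤ))) F p
  exact ⟨e1.symm.trans e2⟩

end Groth.Agent.S12223

namespace Groth.Agent.S12223

/-- For a scheme X and an abelian sheaf F on the big Zariski site of X, the cohomology groups of the
restriction of F to the small Zariski site X_Zar agree with the cohomology groups of F on the big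
site, in every degree p. Existence of an additive isomorphism only (the canonical comparison map is
not named here). The continuity of the inclusion of the small Zariski site into the big site is
carried as an instance hypothesis; it always holds. -/
theorem result (X : Scheme.{u}) [BigSite.ZarCont Scheme.zariskiPrecoverage X]
    (F : BigSite.Ab Scheme.zariskiPrecoverage X) (p : ℕ) :
    Nonempty (EtZar.H ((BigSite.resZar Scheme.zariskiPrecoverage X).obj F) p ≃+
      BigSite.H Scheme.zariskiPrecoverage X F p) := by
  exact main X F p

end Groth.Agent.S12223
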