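import Groth.Statements.S12228
import Mathlib

set_option autoImplicit false
universe w v u
open CategoryTheory CategoryTheory.Limits
open CohDer

namespace Groth.Agent.S12228

open CategoryTheory.Pretriangulated in
set_option backward.isDefEq.respectTransparency false in
/-- Equalization by a bounded quasi-isomorphism. -/
lemma exists_bounded_postcomp {A : Type u} [Category.{v} A] [Abelian A]
    (K L : CochainComplex A ℤ) (a' B : ℤ) [K.IsStrictlyLE B] [L.IsStrictlyGE a'] [L.IsStrictlyLE B]
    (d : (HomotopyCategory.quotient A (ComplexShape.up ℤ)).obj K ⟶ (HomotopyCategory.quotient A (ComplexShape.up ℤ)).obj L)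
    (Z : HomotopyCategory A (ComplexShape.up ℤ)) (s : (HomotopyCategory.quotient A (ComplexShape.up ℤ)).obj L ⟶ Z)
    (hs : HomotopyCategory.quasiIso A (ComplexShape.up ℤ) s) (hds : d ≫ s = 0) :
    ∃ (L' : CochainComplex A ℤ) (_ : L'.IsStrictlyGE (a' - 1)) (_ : L'.IsStrictlyLE B) (t : L ⟶ L'),
      QuasiIso t ∧ d ≫ (HomotopyCategory.quotient A (ComplexShape.up ℤ)).map t = 0 := by
  rw [HomotopyCategory.quasiIso_eq_trW_subcategoryAcyclic, ObjectProperty.trW_iff'] at hs
  obtain ⟨N, v, h, hT, hN⟩ := hs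
  obtain ⟨u, hu⟩ : ∃ u : (HomotopyCategory.quotient A (ComplexShape.up ℤ)).obj K ⟶ N, d = u ≫ v :=
    Triangle.coyoneda_exact₂ _ hT d hds

  obtain ⟨(N : CochainComplex A ℤ), rfl⟩ := HomotopyCategory.quotient_obj_surjective N
  obtain ⟨u, rfl⟩ := (HomotopyCategory.quotient _ _).map_surjective u
  obtain ⟨v, rfl⟩ := (HomotopyCategory.quotient _ _).map_surjective v
  rw [HomotopyCategory.quotient_obj_mem_subcategoryAcyclic_iff_acyclic] at hN
  -- truncations
  have hN₁ : (N.truncLE B).Acyclic := hN.truncLE _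
  have hN₂ : ((N.truncLE B).truncGE a').Acyclic := hN₁.truncGE _
  let N₂ := (N.truncLE B).truncGE a'
  let u₂ : K ⟶ N₂ := inv (K.ιTruncLE B) ≫ CochainComplex.truncLEMap u B ≫ (N.truncLE B).πTruncGE a'
  let v₁ : N.truncLE B ⟶ L := N.ιTruncLE B ≫ v
  let v₂ : N₂ ⟶ L := CochainComplex.truncGEMap v₁ a' ≫ inv (L.πTruncGE a')
  have huv : u ≫ v = u₂ ≫ v₂ := by
    have e1 : (N.truncLE B).πTruncGE a' ≫ CochainComplex.truncGEMap v₁ a' = v₁ ≫ L.πTruncGE a' :=
      CochainComplex.πTruncGE_naturality v₁ a'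
    have e2 : CochainComplex.truncLEMap u B ≫ N.ιTruncLE B = K.ιTruncLE B ≫ u :=
      CochainComplex.ιTruncLE_naturality u B
    simp only [u₂, v₂, Category.assoc]
    rw [reassoc_of% e1, IsIso.hom_inv_id, Category.comp_id]
    simp only [v₁]
    rw [reassoc_of% e2, IsIso.inv_hom_id_assoc]
  have hGE : (CochainComplex.mappingCone v₂).IsStrictlyGE (a' - 1) :=
    CochainComplex.isStrictlyGE_mappingCone v₂ a' a' (a' - 1) (by lia) (by lia)
  have hLE : (CochainComplex.mappingCone v₂).IsStrictlyLE B := by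
    rw [CochainComplex.isStrictlyLE_iff]
    intro i hi
    rw [CochainComplex.mappingCone.isZero_X_iff]
    exact ⟨N₂.isZero_of_isStrictlyLE B _ (by lia), L.isZero_of_isStrictlyLE B _ hi⟩
  have hT₂ := HomotopyCategory.mappingCone_triangleh_distinguished v₂
  have hz : (HomotopyCategory.quotient A (ComplexShape.up ℤ)).map v₂ ≫
      (HomotopyCategory.quotient A (ComplexShape.up ℤ)).map (CochainComplex.mappingCone.inr v₂) = 0 :=
    comp_distTriang_mor_zero₁₂ _ hT₂
  refine ⟨CochainComplex.mappingCone v₂, hGE, hLE, CochainComplex.mappingCone.inr v₂, ?_, ?_⟩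
  · have : (HomotopyCategory.subcategoryAcyclic A).trW
        ((HomotopyCategory.quotient A (ComplexShape.up ℤ)).map (CochainComplex.mappingCone.inr v₂)) := by
      refine ObjectProperty.trW.mk' _ hT₂ ?_
      change HomotopyCategory.subcategoryAcyclic A ((HomotopyCategory.quotient _ _).obj N₂)
      rw [HomotopyCategory.quotient_obj_mem_subcategoryAcyclic_iff_acyclic]
      exact hN₂
    rw [← HomotopyCategory.quasiIso_eq_trW_subcategoryAcyclic,
      HomotopyCategory.quotient_map_mem_quasiIso_iff, HomologicalComplex.mem_quasiIso_iff] at this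
    exact this
  · rw [hu, ← Functor.map_comp, huv, Functor.map_comp, Category.assoc, hz, comp_zero]

set_option backward.isDefEq.respectTransparency false in
/-- Full faithfulness of Kᵇ(A)[Qis⁻¹] → Dᵇ(A), written in terms of roofs. Let A be an abelian category
and K, L bounded complexes (zero outside a finite range of degrees), viewed in the homotopy
category. Then every morphism Qh(K) → Qh(L) in the derived category is Qh(f) ≫ Qh(t)⁻¹ for some map
f : K → L' and quasi-isomorphism t : L → L' of K(A) with L' again bounded; and two maps f₁, f₂ : K →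
L of K(A) become equal in D(A) only if f₁ ≫ t = f₂ ≫ t for some quasi-isomorphism t : L → L' with L'
bounded. -/
theorem result {A : Type u} [Category.{v} A] [Abelian A] [HasDerivedCategory.{w} A]
    (K L : HomotopyCategory A (ComplexShape.up ℤ)) (a b a' b' : ℤ) [CochainComplex.IsStrictlyGE K.as a] [CochainComplex.IsStrictlyLE K.as b]
    [CochainComplex.IsStrictlyGE L.as a'] [CochainComplex.IsStrictlyLE L.as b'] :
    (∀ φ : DerivedCategory.Qh.obj K ⟶ DerivedCategory.Qh.obj L,
      ∃ (L' : HomotopyCategory A (ComplexShape.up ℤ)) (m n : ℤ) (_ : CochainComplex.IsStrictlyGE L'.as m) (_ : CochainComplex.IsStrictlyLE L'.as n) (f : K ⟶ L') (t : L ⟶ L'),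
        HomotopyCategory.quasiIso A (ComplexShape.up ℤ) t ∧ φ ≫ DerivedCategory.Qh.map t = DerivedCategory.Qh.map f) ∧
    (∀ f₁ f₂ : K ⟶ L, DerivedCategory.Qh.map f₁ = DerivedCategory.Qh.map f₂ →
      ∃ (L' : HomotopyCategory A (ComplexShape.up ℤ)) (m n : ℤ) (_ : CochainComplex.IsStrictlyGE L'.as m) (_ : CochainComplex.IsStrictlyLE L'.as n) (t : L ⟶ L'),
        HomotopyCategory.quasiIso A (ComplexShape.up ℤ) t ∧ f₁ ≫ t = f₂ ≫ t) := by
  obtain ⟨(K : CochainComplex A ℤ), rfl⟩ := HomotopyCategory.quotient_obj_surjective K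
  obtain ⟨(L : CochainComplex A ℤ), rfl⟩ := HomotopyCategory.quotient_obj_surjective L
  have hK : CochainComplex.IsStrictlyLE K b := ‹_›
  have hL₁ : CochainComplex.IsStrictlyGE L a' := ‹_›
  have hL₂ : CochainComplex.IsStrictlyLE L b' := ‹_›
  have hK' : K.IsStrictlyLE (max b b') := K.isStrictlyLE_of_le b _ (le_max_left _ _)
  have hL' : L.IsStrictlyLE (max b b') := L.isStrictlyLE_of_le b' _ (le_max_right _ _)
  constructor
  · intro φ
    obtain ⟨Y', h1, h2, g, s, hs, fac⟩ :=
      DerivedCategory.left_fac_of_isStrictlyLE_of_isStrictlyGE (X := K) (Y := L) a' (max b b') φ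
    refine ⟨(HomotopyCategory.quotient _ _).obj Y', a', max b b', h1, h2,
      (HomotopyCategory.quotient _ _).map g, (HomotopyCategory.quotient _ _).map s, ?_, ?_⟩
    · rw [HomotopyCategory.quotient_map_mem_quasiIso_iff, HomologicalComplex.mem_quasiIso_iff,
        ← DerivedCategory.isIso_Q_map_iff_quasiIso]
      exact hs
    · change φ ≫ DerivedCategory.Q.map s = DerivedCategory.Q.map g
      rw [fac, Category.assoc, IsIso.inv_hom_id, Category.comp_id]
  · intro f₁ f₂ h
    obtain ⟨Z, s, hs, hsf⟩ := (MorphismProperty.map_eq_iff_postcomp DerivedCategory.Qh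
      (HomotopyCategory.quasiIso A (ComplexShape.up ℤ)) f₁ f₂).1 h
    have hds : (f₁ - f₂) ≫ s = 0 := by rw [Preadditive.sub_comp, hsf, sub_self]
    obtain ⟨L', h1, h2, t, ht, hdt⟩ := exists_bounded_postcomp K L a' (max b b') (f₁ - f₂) Z s hs hds
    refine ⟨(HomotopyCategory.quotient _ _).obj L', a' - 1, max b b', h1, h2,
      (HomotopyCategory.quotient _ _).map t, ?_, ?_⟩
    · rw [HomotopyCategory.quotient_map_mem_quasiIso_iff, HomologicalComplex.mem_quasiIso_iff]
      exact ht
    · rw [Preadditive.sub_comp, sub_eq_zero] at hdt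
      exact hdt

end Groth.Agent.S12228
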