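import Groth.Statements.S1224
import Groth.Agent.Lib.Helper6.FinQuotBC

set_option autoImplicit false
universe u
open FlatMor

namespace Groth.Agent.S1224

/-- Ring form, X = Spec B affine, where proper support means finite support: let B be a finite type
A-algebra and N a finite B-module such that B modulo the annihilator of N is finite over A. Then N
is universally pure relative to Spec A. -/
theorem result {A B : Type u} [CommRing A] [CommRing B] [Algebra A B] [Algebra.FiniteType A B]
    (N : Type u) [AddCommGroup N] [Module B N] [Module A N] [IsScalarTower A B N] [Module.Finite B N]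
    [Module.Finite A (B ⧸ Module.annihilator B N)] : FlatCA.IsUnivPure A B N := by
  intro p _ A' B' N' _ _ _ _ _ _ _ _ _ _ _ _ _ _ f t' t _ _ P _ h
  obtain ⟨hpo, hbc, htt, htp, hPt, hass, hno⟩ := h
  classical
  letI : Algebra B' (t'.Fiber B') := Algebra.TensorProduct.rightAlgebra
  set I : Ideal B := Module.annihilator B N with hI
  set I' : Ideal B' := I.map (algebraMap B B') with hI'
  -- the associated prime
  set Q : Ideal (t'.Fiber B') := FlatCA.fiberIdeal t' P with hQ
  have hQprime : Q.IsPrime := hass.1
  set P₀ : Ideal B' := Q.comap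
    (Algebra.TensorProduct.includeRight (R := A') (A := t'.ResidueField) (B := B')).toRingHom with hP₀
  have hP₀prime : P₀.IsPrime := Ideal.comap_isPrime _ _
  -- Step B
  have hPP₀ : P ≤ P₀ := Ideal.le_comap_map
  -- Step A: elements of I' kill N'
  have hkill : ∀ a ∈ I, ∀ n' : N', (algebraMap B B' a) • n' = 0 := by
    intro a ha n'
    refine hbc.inductionOn n' (fun n' => (algebraMap B B' a) • n' = 0) ?_ ?_ ?_ ?_
    · simp
    · intro n
      rw [algebraMap_smul, ← map_smul]
      have : a • n = 0 := Module.mem_annihilator.mp ha n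
      rw [this, map_zero]
    · intro s n hn
      rw [smul_comm, hn, smul_zero]
    · intro n₁ n₂ h₁ h₂
      rw [smul_add, h₁, h₂, add_zero]
  have hI'P₀ : I' ≤ P₀ := by
    rw [hI', Ideal.map_le_iff_le_comap]
    intro a ha
    rw [Ideal.mem_comap, hP₀, Ideal.mem_comap]
    apply hass.annihilator_le
    rw [Submodule.mem_annihilator]
    intro x _
    have key : ∀ y : TensorProduct B' (t'.Fiber B') N',
        ((Algebra.TensorProduct.includeRight (R := A') (A := t'.ResidueField) (B := B')).toRingHom
          (algebraMap B B' a)) • y = 0 := by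
      intro y
      induction y using TensorProduct.induction_on with
      | zero => rw [smul_zero]
      | tmul φ n' =>
        rw [TensorProduct.smul_tmul']
        have : (Algebra.TensorProduct.includeRight (R := A') (A := t'.ResidueField)
            (B := B')).toRingHom (algebraMap B B' a) • φ = (algebraMap B B' a) • φ := by
          rw [smul_eq_mul, Algebra.smul_def ((algebraMap B B') a) φ]
          rfl
        rw [this, TensorProduct.smul_tmul, hkill a ha n', TensorProduct.tmul_zero]
      | add x y hx hy => rw [smul_add, hx, hy, add_zero]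
    exact key x
  -- Step C: P₀ lies over t'
  have hP₀t' : P₀.comap (algebraMap A' B') = t' := by
    have hQover : Q.LiesOver t' := inferInstance
    have h1 : t' = Q.comap (algebraMap A' (t'.Fiber B')) := hQover.over
    rw [h1, hP₀, Ideal.comap_comap]
    congr 1
    ext a
    simp only [AlgHom.toRingHom_eq_coe, RingHom.coe_comp, RingHom.coe_coe, Function.comp_apply,
      AlgHom.commutes]
  -- Step E: integrality
  haveI : Module.Finite A' (B' ⧸ I') :=
    Groth.Agent.Lib.Helper6.FinQuotBC.finite_quotient_map hpo I
  haveI : Algebra.IsIntegral A' (B' ⧸ I') := Algebra.IsIntegral.of_finite A' (B' ⧸ I')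
  -- Step D: going up
  have hcomap : (P₀.map (Ideal.Quotient.mk I')).comap (algebraMap A' (B' ⧸ I')) ≤ t := by
    intro a ha
    rw [Ideal.mem_comap] at ha
    have h2 : algebraMap A' (B' ⧸ I') a = Ideal.Quotient.mk I' (algebraMap A' B' a) := rfl
    rw [h2, Ideal.mem_map_iff_of_surjective _ Ideal.Quotient.mk_surjective] at ha
    obtain ⟨b, hb, hbe⟩ := ha
    have h3 : algebraMap A' B' a - b ∈ I' := by
      rw [← Ideal.Quotient.eq_zero_iff_mem, map_sub, hbe, sub_self]
    have h4 : algebraMap A' B' a ∈ P₀ := by
      have := P₀.add_mem (hI'P₀ h3) hb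
      simpa using this
    apply htt
    rw [← hP₀t']
    exact h4
  obtain ⟨Q'', hQ''ge, hQ''prime, hQ''over⟩ :=
    Ideal.exists_ideal_over_prime_of_isIntegral t (P₀.map (Ideal.Quotient.mk I')) hcomap
  set P' : Ideal B' := Q''.comap (Ideal.Quotient.mk I') with hP'
  have hP'prime : P'.IsPrime := Ideal.comap_isPrime _ _
  have hPP' : P ≤ P' := by
    intro x hx
    rw [hP', Ideal.mem_comap]
    exact hQ''ge (Ideal.mem_map_of_mem _ (hPP₀ hx))
  have hP'over : P'.LiesOver t := by
    constructor
    rw [Ideal.under_def, hP', Ideal.comap_comap, ← hQ''over]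
    rfl
  exact hno P' hPP' hP'over

end Groth.Agent.S1224
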