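import Groth.Statements.S12254
import Groth.Agent.Lib.Lead.OmU13d
import Groth.Agent.Lib.Helper3.DerAutD
import Groth.Agent.Lib.Helper3.DerAutE

set_option autoImplicit false
universe u
open CategoryTheory CategoryTheory.Limits AlgebraicGeometry
open Deform

namespace Groth.Agent.S12254

/-- Let k be an algebraically closed field and X a projective k-scheme, given with a closed immersion
into some P^n_k over k. Then the space of infinitesimal automorphisms H^0(X, T_X) =
Hom_{O_X}(Ω_{X/k}, O_X) vanishes if and only if, for every local Artinian k-algebra A with residue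
field k and every deformation of X over A (a scheme flat over Spec A together with a morphism from X
identifying X with the closed fibre), the only automorphism of the total space over Spec A
compatible with the inclusion of X is the identity. -/
theorem result
    {k : Type u} [Field k] [IsAlgClosed k] (X : Scheme.{u}) (x : X ⟶ Spec (CommRingCat.of k))
    [LocallyOfFiniteType x] [IsSeparated x] [QuasiCompact x]
    (hproj : ∃ (n : ℕ) (c : X ⟶ CohB1.ProjSpaceOver n (Spec (CommRingCat.of k))),
      IsClosedImmersion c ∧ c ≫ CohB1.ProjSpaceOver.toBase n (Spec (CommRingCat.of k)) = x) :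
    Subsingleton (Omega.sheaf x ⟶ Coh.structureModule X) ↔
      ∀ (A : ArtFun.Art k k) (ξ : ArtFun.DefSch X x A) (e : ξ.Iso ξ), e.iso.hom = 𝟙 ξ.total := by
  have hU := Groth.Agent.Lead.OmU.isUniversal_dOmega x
  constructor
  · intro hsub A ξ e
    refine Groth.Agent.Helper3.DerAut.aut_trivial_of_der_zero ?_ ξ e.iso.hom e.hom_f e.i_hom
    intro D U s
    obtain ⟨α, hα, -⟩ := hU _ D
    have h0 : α = 0 := Subsingleton.elim _ _
    have h1 : D.app U s = α.app U ((OmegaSh.dOmega x).app U s) := by
      rw [← hα]
      rfl
    rw [h1, h0]
    rfl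
  · intro H
    refine ⟨fun α β => ?_⟩
    have hz : ∀ (D : OmegaSh.Der x (Coh.structureModule X)) (U : X.Opens) (s : Γ(X, U)),
        D.app U s = 0 := fun D U s =>
      Groth.Agent.Helper3.DerAut.der_eq_zero_of_aut_trivial x D (fun e => H _ _ e) U s
    refine (hU _ ((OmegaSh.dOmega x).postcomp α.val)).unique rfl ?_
    apply Groth.Agent.Lead.DerU.der_ext
    intro U s
    rw [hz, hz]

end Groth.Agent.S12254
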