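import Groth.Statements.S1227
import Mathlib

set_option autoImplicit false
universe u
open FlatMor

namespace Groth.Agent.S1227

open TensorProduct in
/-- Let u be a surjective linear map from a projective A-module M to an A-module N. Then there is an
ideal I of A such that for every A-algebra B, the base change u ⊗ 1 from B ⊗ M to B ⊗ N is bijective
if and only if the image of I in B is zero. -/
theorem result {A : Type u} [CommRing A] {M N : Type u} [AddCommGroup M] [Module A M] [Module.Projective A M]
    [AddCommGroup N] [Module A N] (u : M →ₗ[A] N) (hu : Function.Surjective u) :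
    ∃ I : Ideal A, ∀ (B : Type u) [CommRing B] [Algebra A B],
      Function.Bijective (u.baseChange B) ↔ I.map (algebraMap A B) = ⊥ := by
  classical
  obtain ⟨s, hs⟩ := Module.projective_def'.mp (inferInstance : Module.Projective A M)
  have hrec : ∀ x : M, x = ∑ m ∈ (s x).support, (s x m) • m := by
    intro x
    have := LinearMap.congr_fun hs x
    simp only [LinearMap.comp_apply, Finsupp.linearCombination_apply, Finsupp.sum, id,
      LinearMap.id_apply] at this
    exact this.symm
  let I : Ideal A := Ideal.span {a | ∃ k ∈ LinearMap.ker u, ∃ m : M, a = s k m}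
  refine ⟨I, ?_⟩
  intro B _ _
  open TensorProduct in
  have hsurj : Function.Surjective (u.baseChange B) := by
    rw [LinearMap.baseChange_eq_ltensor]
    exact LinearMap.lTensor_surjective B hu
  constructor
  · intro hbij
    rw [eq_bot_iff, Ideal.map_le_iff_le_comap, Ideal.span_le]
    rintro _ ⟨k, hk, m, rfl⟩
    change algebraMap A B (s k m) ∈ (⊥ : Ideal B)
    rw [Ideal.mem_bot]
    have h1 : u.baseChange B ((1 : B) ⊗ₜ[A] k) = 0 := by
      rw [LinearMap.baseChange_tmul, LinearMap.mem_ker.mp hk, TensorProduct.tmul_zero]
    have h2 : (1 : B) ⊗ₜ[A] k = 0 := hbij.1 (by rw [h1, map_zero])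
    have h3 := congrArg (fun z => TensorProduct.rid A B
      ((((Finsupp.lapply m : (M →₀ A) →ₗ[A] A) ∘ₗ s).lTensor B) z)) h2
    simp only [LinearMap.lTensor_tmul, LinearMap.comp_apply, Finsupp.lapply_apply,
      TensorProduct.rid_tmul, map_zero] at h3
    rw [Algebra.algebraMap_eq_smul_one]
    exact h3
  · intro hI
    refine ⟨?_, hsurj⟩
    have hzero : ∀ k ∈ LinearMap.ker u, (1 : B) ⊗ₜ[A] k = (0 : B ⊗[A] M) := by
      intro k hk
      have hk' : ∀ m, algebraMap A B (s k m) = 0 := by
        intro m
        have : algebraMap A B (s k m) ∈ I.map (algebraMap A B) :=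
          Ideal.mem_map_of_mem _ (Ideal.subset_span ⟨k, hk, m, rfl⟩)
        rw [hI] at this
        exact this
      have h0 : (1 : B) ⊗ₜ[A] (∑ m ∈ (s k).support, (s k m) • m) = (0 : B ⊗[A] M) := by
        rw [TensorProduct.tmul_sum]
        refine Finset.sum_eq_zero (fun m _ => ?_)
        rw [TensorProduct.tmul_smul, TensorProduct.smul_tmul', Algebra.smul_def, hk' m, zero_mul,
          TensorProduct.zero_tmul]
      rw [← hrec k] at h0
      exact h0
    have key : ∀ w : B ⊗[A] (LinearMap.ker u), ((LinearMap.ker u).subtype.lTensor B) w = 0 := by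
      intro w
      induction w using TensorProduct.induction_on with
      | zero => simp
      | tmul b k =>
        rw [LinearMap.lTensor_tmul]
        have : b ⊗ₜ[A] ((LinearMap.ker u).subtype k) = b • ((1 : B) ⊗ₜ[A] (k : M)) := by
          rw [TensorProduct.smul_tmul', smul_eq_mul, mul_one]; rfl
        rw [this, hzero k k.2, smul_zero]
      | add x y hx hy => rw [map_add, hx, hy, add_zero]
    rw [injective_iff_map_eq_zero]
    intro z hz
    have hex : Function.Exact ((LinearMap.ker u).subtype.lTensor B) (u.lTensor B) :=
      lTensor_exact B (LinearMap.exact_subtype_ker_map u) hu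
    have hz' : u.lTensor B z = 0 := by
      rw [← LinearMap.baseChange_eq_ltensor]; exact hz
    obtain ⟨w, rfl⟩ := (hex z).mp hz'
    exact key w

end Groth.Agent.S1227
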