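import Groth.Statements.S12304
import Mathlib
import Groth.Agent.S0543
import Groth.Prelude.Def_ArtFun4
-- import your own Groth.Agent.* helpers here

set_option autoImplicit false
universe u
open CategoryTheory CategoryTheory.Limits AlgebraicGeometry
open ArtFun

namespace Groth.Agent.S12304

open CategoryTheory CategoryTheory.Limits AlgebraicGeometry IsLocalRing
namespace Aux

section Alg
variable {k : Type u} [Field k] (O : Type u) [CommRing O] [IsLocalRing O] [IsNoetherianRing O]
  [Algebra k O] (ε : O →ₐ[k] k)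

abbrev Rhat := AdicCompletion (maximalIdeal O) O

instance : IsNoetherianRing (Rhat O) := Groth.Agent.S0543.result O (maximalIdeal O)

instance : IsScalarTower k O (Rhat O) :=
  IsScalarTower.of_algebraMap_eq fun c => rfl

variable (k) in
/-- `O → Ô`. -/
noncomputable def iota : O →ₐ[k] Rhat O := IsScalarTower.toAlgHom k O (Rhat O)

variable {O}

lemma eps_mem (o : O) : o ∈ maximalIdeal O ↔ ε o = 0 := by
  have hsurj : Function.Surjective ε := fun c => ⟨algebraMap k O c, by simp⟩
  have hmax : (RingHom.ker (ε : O →+* k)).IsMaximal :=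
    RingHom.ker_isMaximal_of_surjective _ hsurj
  rw [← IsLocalRing.eq_maximalIdeal hmax, RingHom.mem_ker]; rfl

/-- The augmentation of the completion. -/
noncomputable def resHat : Rhat O →ₐ[k] k :=
  (Ideal.Quotient.liftₐ (maximalIdeal O) ε (fun a ha => (eps_mem ε a).1 ha)).comp
    ((AdicCompletion.evalOneₐ (maximalIdeal O)).restrictScalars k)

lemma resHat_iota (o : O) : resHat ε (iota k O o) = ε o := by
  have h1 : AdicCompletion.evalOneₐ (maximalIdeal O) (iota k O o) = Ideal.Quotient.mk _ o :=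
    AdicCompletion.evalOneₐ_of (maximalIdeal O) o
  change (Ideal.Quotient.liftₐ (maximalIdeal O) ε (fun a ha => (eps_mem ε a).1 ha))
    (AdicCompletion.evalOneₐ (maximalIdeal O) (iota k O o)) = _
  rw [h1]
  rfl

variable (k) in
lemma dens (n : ℕ) (r : Rhat O) :
    ∃ o : O, r - iota k O o ∈ ((maximalIdeal O) ^ n • ⊤ : Submodule O (Rhat O)) := by
  obtain ⟨o, ho⟩ := Submodule.Quotient.mk_surjective _ (AdicCompletion.eval (maximalIdeal O) O n r)
  refine ⟨o, ?_⟩
  rw [AdicCompletion.pow_smul_top_eq_ker_eval (Ideal.fg_of_isNoetherianRing (maximalIdeal O)),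
    LinearMap.mem_ker, map_sub, sub_eq_zero]
  change _ = AdicCompletion.eval (maximalIdeal O) O n (AdicCompletion.of (maximalIdeal O) O o)
  rw [AdicCompletion.eval_of, ← ho]
  rfl

lemma kill {B : Type*} [CommRing B] (f : Rhat O →+* B) (n : ℕ)
    (h : ∀ a ∈ (maximalIdeal O) ^ n, f (iota k O a) = 0) (s : Rhat O)
    (hs : s ∈ ((maximalIdeal O) ^ n • ⊤ : Submodule O (Rhat O))) : f s = 0 := by
  induction hs using Submodule.smul_induction_on' with
  | smul a ha y hy =>
    have : a • y = iota k O a * y := by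
      rw [Algebra.smul_def]; rfl
    rw [this, map_mul, h a ha, zero_mul]
  | add x hx y hy hx' hy' => rw [map_add, hx', hy', add_zero]

lemma ext_hat {B : Type*} [CommRing B] (f g : Rhat O →+* B) (n : ℕ)
    (hf : ∀ a ∈ (maximalIdeal O) ^ n, f (iota k O a) = 0)
    (hfg : ∀ o : O, f (iota k O o) = g (iota k O o)) : f = g := by
  ext r
  obtain ⟨o, ho⟩ := dens k n r
  have h1 := kill (k := k) f n hf _ ho
  have h2 := kill (k := k) g n (fun a ha => by rw [← hfg, hf a ha]) _ ho
  rw [map_sub, sub_eq_zero] at h1 h2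
  rw [h1, h2, hfg]

end Alg

section ArtPart
variable {k : Type u} [Field k] {O : Type u} [CommRing O] [IsLocalRing O] [IsNoetherianRing O]
  [Algebra k O] (ε : O →ₐ[k] k) (A : ArtFun.Art k k)

lemma exists_pow_max_eq_bot : ∃ n, maximalIdeal A ^ n = ⊥ := by
  have := IsArtinianRing.isNilpotent_jacobson_bot (R := A)
  rw [IsLocalRing.jacobson_eq_maximalIdeal ⊥ bot_ne_top] at this
  exact this

variable {ε A}

lemma psi_mem (ψ : O →ₐ[k] A) (hψ : A.res.comp ψ = ε) (n : ℕ) (a : O)
    (ha : a ∈ maximalIdeal O ^ n) : ψ a ∈ maximalIdeal A ^ n := by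
  have h1 : (maximalIdeal O).map ψ ≤ maximalIdeal A := Ideal.map_le_iff_le_comap.2 (fun o ho => by
    rw [Ideal.mem_comap, ArtFun.Art.mem_maximalIdeal_iff]
    have h2 : A.res (ψ o) = ε o := congrArg (fun f => f o) hψ
    rw [h2]
    exact (eps_mem ε o).1 ho)
  have h3 := Ideal.mem_map_of_mem ψ ha
  rw [Ideal.map_pow] at h3
  exact Ideal.pow_right_mono h1 n h3

variable (ε A)

/-- restriction along `O → Ô`. -/
noncomputable def restr (φ : ArtFun.HomSet (Rhat O) (resHat ε) A) :
    {ψ : O →ₐ[k] A // A.res.comp ψ = ε} :=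
  ⟨φ.1.comp (iota k O), by
    ext o
    have h2 : A.res (φ.1 (iota k O o)) = resHat ε (iota k O o) :=
      congrArg (fun f => f (iota k O o)) φ.2
    change A.res (φ.1 (iota k O o)) = ε o
    rw [h2, resHat_iota]⟩

lemma restr_injective : Function.Injective (restr ε A) := by
  intro φ₁ φ₂ h
  obtain ⟨n, hn⟩ := exists_pow_max_eq_bot A
  have h0 : ∀ o : O, φ₁.1 (iota k O o) = φ₂.1 (iota k O o) := fun o =>
    congrArg (fun f => f.1 o) h
  apply Subtype.ext
  have key : (φ₁.1 : Rhat O →+* A) = (φ₂.1 : Rhat O →+* A) := by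
    refine ext_hat (k := k) _ _ n (fun a ha => ?_) h0
    have := psi_mem (restr ε A φ₁).1 (restr ε A φ₁).2 n a ha
    rw [hn] at this
    exact this
  exact AlgHom.ext fun r => congrArg (fun f => f r) key

lemma restr_surjective : Function.Surjective (restr ε A) := by
  rintro ⟨ψ, hψ⟩
  obtain ⟨n, hn⟩ := exists_pow_max_eq_bot A
  have hkill : ∀ a : O, a ∈ maximalIdeal O ^ n → ψ a = 0 := fun a ha => by
    have := psi_mem ψ hψ n a ha
    rw [hn] at this
    exact this
  let φ : Rhat O →ₐ[k] A :=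
    (Ideal.Quotient.liftₐ (maximalIdeal O ^ n) ψ hkill).comp
      ((AdicCompletion.evalₐ (maximalIdeal O) n).restrictScalars k)
  have hφι : ∀ o : O, φ (iota k O o) = ψ o := fun o => by
    have h1 : AdicCompletion.evalₐ (maximalIdeal O) n (iota k O o) = Ideal.Quotient.mk _ o :=
      AdicCompletion.evalₐ_of (maximalIdeal O) n o
    change (Ideal.Quotient.liftₐ (maximalIdeal O ^ n) ψ hkill)
      (AdicCompletion.evalₐ (maximalIdeal O) n (iota k O o)) = _
    rw [h1]
    rfl
  have hres : A.res.comp φ = resHat ε := by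
    have key : ((A.res.comp φ : Rhat O →ₐ[k] k) : Rhat O →+* k) = (resHat ε : Rhat O →+* k) := by
      refine ext_hat (k := k) _ _ 1 (fun a ha => ?_) (fun o => ?_)
      · change A.res (φ (iota k O a)) = 0
        rw [hφι]
        have h2 : A.res (ψ a) = ε a := congrArg (fun f => f a) hψ
        rw [h2]
        rw [pow_one] at ha
        exact (eps_mem ε a).1 ha
      · change A.res (φ (iota k O o)) = resHat ε (iota k O o)
        rw [hφι, resHat_iota]
        exact congrArg (fun f => f o) hψ
    exact AlgHom.ext fun r => congrArg (fun f => f r) key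
  exact ⟨⟨φ, hres⟩, Subtype.ext (AlgHom.ext hφι)⟩

end ArtPart

section Geo
variable {k : Type u} [Field k] (M : Scheme.{u}) (m : M ⟶ Spec (CommRingCat.of k))
  (x₀ : Spec (CommRingCat.of k) ⟶ M)

abbrev cpt (D : Type u) [CommRing D] [IsLocalRing D] : ↥(Spec (CommRingCat.of D)) := closedPoint D

lemma exists_factor {D : Type u} [CommRing D] [IsLocalRing D] (g : Spec (CommRingCat.of D) ⟶ M)
    (y : M) (hy : g (cpt D) = y) :
    ∃ ψ : M.presheaf.stalk y ⟶ CommRingCat.of D, g = Spec.map ψ ≫ M.fromSpecStalk y := by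
  subst hy
  exact ⟨Scheme.stalkClosedPointTo g, (Scheme.Spec_stalkClosedPointTo_fromSpecStalk g).symm⟩

lemma res_isLocalHom (A : ArtFun.Art k k) : IsLocalHom (A.res : A →+* k) := by
  refine ⟨fun a ha => ?_⟩
  by_contra h
  have ha' : a ∈ maximalIdeal A := (IsLocalRing.mem_maximalIdeal a).2 h
  rw [ArtFun.Art.mem_maximalIdeal_iff] at ha'
  have : (A.res : A →+* k) a = 0 := ha'
  rw [this] at ha
  exact not_isUnit_zero ha

lemma specRes_cpt (A : ArtFun.Art k k) : (ArtFun.Art.specRes A) (cpt k) = cpt A := by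
  haveI : IsLocalHom (CommRingCat.ofHom A.res.toRingHom).hom := res_isLocalHom A
  exact Spec_closedPoint (f := CommRingCat.ofHom A.res.toRingHom)

variable (x : M) [Algebra k (M.presheaf.stalk x)] (ε : M.presheaf.stalk x →ₐ[k] k)
  (hα : Spec.map (CommRingCat.ofHom (algebraMap k (M.presheaf.stalk x))) = M.fromSpecStalk x ≫ m)
  (hε : Spec.map (CommRingCat.ofHom ε.toRingHom) ≫ M.fromSpecStalk x = x₀)
  (hx : x₀ (cpt k) = x)
  (A : ArtFun.Art k k)

include hα hε in
/-- the geometric map. -/
noncomputable def geo (ψ : {ψ : M.presheaf.stalk x →ₐ[k] A // A.res.comp ψ = ε}) :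
    {g : ArtFun.Art.spec A ⟶ M // g ≫ m = ArtFun.Art.specMap (ArtFun.Art.ofBase A) ∧
      ArtFun.Art.specRes A ≫ g = x₀} :=
  ⟨Spec.map (CommRingCat.ofHom ψ.1.toRingHom) ≫ M.fromSpecStalk x, by
    constructor
    · rw [Category.assoc, ← hα, ← Spec.map_comp, ← CommRingCat.ofHom_comp]
      congr 2
      ext c
      exact ψ.1.commutes c
    · rw [← hε, ← Category.assoc]
      change (Spec.map _ ≫ Spec.map _) ≫ _ = _
      rw [← Spec.map_comp, ← CommRingCat.ofHom_comp]
      congr 3
      exact congrArg AlgHom.toRingHom ψ.2⟩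

lemma geo_val (ψ : {ψ : M.presheaf.stalk x →ₐ[k] A // A.res.comp ψ = ε}) :
    (geo M m x₀ x ε hα hε A ψ).1 =
      Spec.map (CommRingCat.ofHom ψ.1.toRingHom) ≫ M.fromSpecStalk x := rfl

lemma geo_injective : Function.Injective (geo M m x₀ x ε hα hε A) := by
  intro ψ₁ ψ₂ h
  have h1 : Spec.map (CommRingCat.ofHom ψ₁.1.toRingHom) ≫ M.fromSpecStalk x =
      Spec.map (CommRingCat.ofHom ψ₂.1.toRingHom) ≫ M.fromSpecStalk x :=
    congrArg Subtype.val h
  have h2 := (cancel_mono (M.fromSpecStalk x)).1 h1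
  have h3 := Spec.map_injective h2
  apply Subtype.ext
  apply AlgHom.ext
  intro o
  exact congrArg (fun f => f.hom o) h3

include hx in
lemma geo_surjective : Function.Surjective (geo M m x₀ x ε hα hε A) := by
  rintro ⟨g, hg1, hg2⟩
  have hpt : g (cpt A) = x := by
    rw [← hx, ← hg2, ← specRes_cpt A]
    rfl
  obtain ⟨ψ, hψ⟩ := exists_factor M g x hpt
  have h1 : CommRingCat.ofHom (algebraMap k (M.presheaf.stalk x)) ≫ ψ =
      CommRingCat.ofHom (ArtFun.Art.ofBase A).toAlgHom.toRingHom := by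
    apply Spec.map_injective
    rw [Spec.map_comp, hα, ← Category.assoc, ← hψ]
    exact hg1
  have h2 : ψ ≫ CommRingCat.ofHom A.res.toRingHom = CommRingCat.ofHom ε.toRingHom := by
    apply Spec.map_injective
    apply (cancel_mono (M.fromSpecStalk x)).1
    rw [hε, Spec.map_comp, Category.assoc, ← hψ]
    exact hg2
  let ψa : M.presheaf.stalk x →ₐ[k] A :=
    { ψ.hom with
      commutes' := fun c => congrArg (fun f => f.hom c) h1 }
  have hψa : A.res.comp ψa = ε := AlgHom.ext fun o => congrArg (fun f => f.hom o) h2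
  refine ⟨⟨ψa, hψa⟩, Subtype.ext ?_⟩
  rw [geo_val]
  change Spec.map (CommRingCat.ofHom ψ.hom) ≫ _ = g
  rw [hψ]
  rfl

end Geo

section Main
variable {k : Type u} [Field k] (M : Scheme.{u}) (m : M ⟶ Spec (CommRingCat.of k))
  [IsLocallyNoetherian M] (x₀ : Spec (CommRingCat.of k) ⟶ M) (hx₀ : x₀ ≫ m = 𝟙 _)

include hx₀ in
theorem main :
    ∃ (R : ArtFun.CRing k k)
      (e : ∀ A : ArtFun.Art k k, ArtFun.HomSet R.carrier R.res A ≃
        {g : ArtFun.Art.spec A ⟶ M // g ≫ m = ArtFun.Art.specMap (ArtFun.Art.ofBase A) ∧ ArtFun.Art.specRes A ≫ g = x₀}),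
      ∀ (A B : ArtFun.Art k k) (h : A ⟶ B) (φ : ArtFun.HomSet R.carrier R.res A),
        ((e B) (ArtFun.HomSet.map h φ)).1 = ArtFun.Art.specMap h ≫ ((e A) φ).1 := by
  set x : M := x₀ (cpt k) with hxdef
  let α₀ : CommRingCat.of k ⟶ M.presheaf.stalk x := Spec.preimage (M.fromSpecStalk x ≫ m)
  let ε₀ : M.presheaf.stalk x ⟶ CommRingCat.of k := Scheme.stalkClosedPointTo x₀
  have hε₀ : Spec.map ε₀ ≫ M.fromSpecStalk x = x₀ := Scheme.Spec_stalkClosedPointTo_fromSpecStalk x₀
  have hαε : α₀ ≫ ε₀ = 𝟙 _ := by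
    apply Spec.map_injective
    rw [Spec.map_comp, Spec.map_preimage, ← Category.assoc, hε₀, hx₀, Spec.map_id]
  letI : Algebra k (M.presheaf.stalk x) := α₀.hom.toAlgebra
  let ε : M.presheaf.stalk x →ₐ[k] k :=
    { ε₀.hom with commutes' := fun c => congrArg (fun f => f.hom c) hαε }
  have hα : Spec.map (CommRingCat.ofHom (algebraMap k (M.presheaf.stalk x))) =
      M.fromSpecStalk x ≫ m := Spec.map_preimage _
  have hε : Spec.map (CommRingCat.ofHom ε.toRingHom) ≫ M.fromSpecStalk x = x₀ := hε₀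
  let R : ArtFun.CRing k k :=
    { carrier := Rhat (M.presheaf.stalk x)
      res := resHat ε
      res_surjective := fun c => ⟨algebraMap k _ c, (resHat ε).commutes c⟩
      isAdicComplete := inferInstance }
  let e : ∀ A : ArtFun.Art k k, ArtFun.HomSet R.carrier R.res A ≃
        {g : ArtFun.Art.spec A ⟶ M // g ≫ m = ArtFun.Art.specMap (ArtFun.Art.ofBase A) ∧ ArtFun.Art.specRes A ≫ g = x₀} :=
    fun A => (Equiv.ofBijective (restr ε A) ⟨restr_injective ε A, restr_surjective ε A⟩).trans
      (Equiv.ofBijective (geo M m x₀ x ε hα hε A)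
        ⟨geo_injective M m x₀ x ε hα hε A, geo_surjective M m x₀ x ε hα hε rfl A⟩)
  refine ⟨R, e, ?_⟩
  intro A B h φ
  change Spec.map (CommRingCat.ofHom ((h.toAlgHom.comp φ.1).comp (iota k _)).toRingHom) ≫ M.fromSpecStalk x =
    Spec.map (CommRingCat.ofHom h.toAlgHom.toRingHom) ≫
      Spec.map (CommRingCat.ofHom (φ.1.comp (iota k _)).toRingHom) ≫ M.fromSpecStalk x
  rw [← Category.assoc, ← Spec.map_comp, ← CommRingCat.ofHom_comp]
  rfl

end Main

end Aux

/-- Let k be an algebraically closed field, M a locally Noetherian k-scheme and x₀ : Spec k → M a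
k-rational point. For a local Artinian k-algebra A with residue field k consider the k-morphisms
Spec A → M whose restriction along the closed point Spec k → Spec A is x₀ (the local functor of M at
x₀, a morphism A → B acting by composition with Spec B → Spec A). This functor is pro-representable:
there are a complete local Noetherian k-algebra R with residue field k and bijections, natural in A,
between the augmentation-compatible k-algebra maps R → A and these morphisms. (The published
statement is phrased for the fine moduli scheme M of a moduli problem, whose local functor at the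
point of a given object is this one; M is taken locally Noetherian here so that the coefficient ring
is Noetherian.) -/
theorem result
    {k : Type u} [Field k] [IsAlgClosed k] (M : Scheme.{u}) (m : M ⟶ Spec (CommRingCat.of k))
    [IsLocallyNoetherian M] (x₀ : Spec (CommRingCat.of k) ⟶ M) (hx₀ : x₀ ≫ m = 𝟙 _) :
    ∃ (R : ArtFun.CRing k k)
      (e : ∀ A : ArtFun.Art k k, ArtFun.HomSet R.carrier R.res A ≃
        {g : ArtFun.Art.spec A ⟶ M // g ≫ m = ArtFun.Art.specMap (ArtFun.Art.ofBase A) ∧ ArtFun.Art.specRes A ≫ g = x₀}),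
      ∀ (A B : ArtFun.Art k k) (h : A ⟶ B) (φ : ArtFun.HomSet R.carrier R.res A),
        ((e B) (ArtFun.HomSet.map h φ)).1 = ArtFun.Art.specMap h ≫ ((e A) φ).1 := by
  exact Aux.main M m x₀ hx₀

end Groth.Agent.S12304
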