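import Groth.Statements.S12731
import Groth.Agent.Lib.Helper3.ArtFunD

set_option autoImplicit false
universe u v
open CategoryTheory
open ArtFun

namespace Groth.Agent.S12731

/-- For functors, if a functor F on Artinian local Λ-algebras with residue field k with F(k) a point has
a versal family over a complete local Noetherian ring with residue field k which is bijective on
tangent spaces (a hull), then F satisfies (S1) and (S2) and has finite-dimensional tangent space. -/
theorem result {Λ : Type u} {k : Type u} [CommRing Λ] [Field k] [Algebra Λ k]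
    [IsNoetherianRing Λ] [Module.Finite Λ k]
    (F : ArtFun.Art Λ k ⥤ Type v) [ArtFun.TangentStr F] (h0 : ArtFun.H0 F) (h : ArtFun.HasHull F) :
    ArtFun.S1 F ∧ ArtFun.Heps F ∧ ArtFun.Hfin F := by
  obtain ⟨P⟩ := h
  have hv := P.miniversal.1
  have hbij := P.miniversal.2
  have hS1 := Groth.Agent.Helper3.ArtFunLib.s1_of_isVersal h0 P.family hv
  refine ⟨hS1, ?_, ?_⟩
  · intro B A' p' p'' h
    refine ⟨?_, hS1 p' p'' _ _ h (Groth.Agent.Helper3.ArtFunLib.surjective_toBase _)⟩
    intro z₁ z₂ hz
    have hz1 : F.map p' z₁ = F.map p' z₂ := congrArg (fun w => w.1.1) hz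
    have hz2 : F.map p'' z₁ = F.map p'' z₂ := congrArg (fun w => w.1.2) hz
    have hp' : Function.Surjective p' := by
      intro a
      obtain ⟨c, hc⟩ := (ArtFun.Art.dual Λ k).res_surjective (A'.res a)
      obtain ⟨b, hb1, -⟩ := h.surj a c hc.symm
      exact ⟨b, hb1⟩
    obtain ⟨a, ha⟩ := Groth.Agent.Helper3.ArtFunLib.surjective_app_of_isVersal h0 P.family hv A'
      (F.map p' z₁)
    obtain ⟨b₁, hb₁a, hb₁z⟩ := hv p' hp' a z₁ ha.symm
    obtain ⟨b₂, hb₂a, hb₂z⟩ := hv p' hp' a z₂ (by rw [← hz1]; exact ha.symm)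
    have ht : ArtFun.HomSet.map p'' b₁ = ArtFun.HomSet.map p'' b₂ :=
      hbij.1 (by rw [P.family.natural, P.family.natural, hb₁z, hb₂z, hz2])
    have hb : b₁ = b₂ := (Groth.Agent.Helper3.ArtFunLib.hR_cmp_bijective h).1
      (ArtFun.FibProd.ext (hb₁a.trans hb₂a.symm) ht)
    rw [← hb₁z, ← hb₂z, hb]
  · exact Groth.Agent.Helper3.ArtFunLib.hfin_of_tangent_surjective P.ring P.family hbij.2

end Groth.Agent.S12731
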