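import Groth.Statements.S12309
import Groth.Agent.Lib.Helper3.DefAut1
import Groth.Agent.S12710
import Groth.Agent.S12726
import Groth.Agent.S12731
import Groth.Agent.S12734

set_option autoImplicit false
universe u
open CategoryTheory AlgebraicGeometry
open SGA7

namespace Groth.Agent.S12309

/-- Suppose Λ is a Noetherian local ring, complete for its maximal ideal, whose residue field is k (so
that Λ → k is surjective), and work with functors defined on local Artinian Λ-algebras having
residue field k. Take a k-scheme X₀ and assume its deformation functor (sending A to isomorphism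
classes of schemes flat over Spec A whose closed fibre is X₀) admits a hull. The deformation functor
is then pro-representable exactly when the following holds: given any surjective morphism p : A' → A
and any deformation X' of X₀ over A', every automorphism of the base change of X' along p arises by
restricting some automorphism of X' (automorphisms being taken over Spec A' and inducing the
identity on X₀), i.e. the restriction map is surjective. (In the published version the assertion is
stated for X₀ proper over k, or affine of finite type with only finitely many non-smooth points,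
cases in which a hull exists; here the existence of a hull is assumed outright, as that is all the
printed proof relies on.) -/
theorem result (Λ k : Type u) [CommRing Λ] [IsLocalRing Λ] [IsNoetherianRing Λ]
    [IsAdicComplete (IsLocalRing.maximalIdeal Λ) Λ] [Field k] [Algebra Λ k]
    (hk : Function.Surjective (algebraMap Λ k))
    (X : Scheme.{u}) (x : X ⟶ Spec (CommRingCat.of k))
    (hX : ArtFun.HasHull (ArtFun.defFunctor (Λ := Λ) X x)) :
    ArtFun.IsProrepresentable (ArtFun.defFunctor (Λ := Λ) X x) ↔
      ∀ (A' A : ArtFun.Art Λ k) (p : A' ⟶ A), Function.Surjective p →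
        ∀ ξ' : ArtFun.DefSch (Λ := Λ) X x A',
          Function.Surjective (fun e : ξ'.Iso ξ' => e.baseChange p) := by
  haveI : Module.Finite Λ k := Module.Finite.of_surjective (Algebra.linearMap Λ k)
    (by intro c; obtain ⟨l, rfl⟩ := hk c; exact ⟨l, rfl⟩)
  have h0 := Groth.Agent.Helper3.DefGl.h0 (Λ := Λ) X x
  have h1 := Groth.Agent.Helper3.DefGl.s1 (Λ := Λ) X x
  have h2 := Groth.Agent.Helper3.DefGl.heps (Λ := Λ) X x
  obtain ⟨T⟩ := Groth.Agent.S12726.result (ArtFun.defFunctor (Λ := Λ) X x) h0 h2
  haveI := T
  have hcrit := Groth.Agent.S12734.result (ArtFun.defFunctor (Λ := Λ) X x)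
  constructor
  · intro hpro A' A p hp ξ'
    obtain ⟨⟨_, hRS⟩, _, _⟩ := hcrit.mp hpro
    obtain ⟨B, q₁, q₂, h⟩ := Groth.Agent.S12710.result p p hp
    exact (Groth.Agent.Helper3.DefGl.autLift_of_inj q₁ q₂ p h hp (hRS q₁ q₂ p p h hp).1 ξ').2
  · intro H
    refine hcrit.mpr ⟨⟨h0, fun B A A' A'' p' p'' f' f'' h hf =>
      ⟨Groth.Agent.Helper3.DefGl.inj_of_autLift p' p'' f' f'' h hf
        (fun ξ'' => H A'' A f'' hf ξ''), h1 p' p'' f' f'' h hf⟩⟩,
      (Groth.Agent.S12731.result _ h0 hX).2.2, ?_⟩
    intro x₀ σ σ' _
    apply ArtFun.Art.hom_ext
    apply AlgHom.ext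
    intro c
    obtain ⟨l, rfl⟩ := hk c
    exact (σ.toAlgHom.commutes l).trans (σ'.toAlgHom.commutes l).symm

end Groth.Agent.S12309
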