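import Groth.Statements.S12320
import Groth.Agent.Lib.Helper3.SchlJ

set_option autoImplicit false
universe u v
open CategoryTheory
open SGA7

namespace Groth.Agent.S12320

/-- Suppose Λ is a Noetherian local ring, complete for its maximal ideal, whose residue field is k (so
that Λ → k is onto), and work with functors defined on the category of local Artinian Λ-algebras
having residue field k. Take such a functor F for which F(k) is a singleton, for which the
comparison map F(A₁ ×_A A₂) → F(A₁) ×_{F(A)} F(A₂) is surjective as soon as A₂ → A is surjective,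
and for which this map is bijective in the case A' ×_k k[ε]. Call an element a ∈ F(R) versal for
small prolongations of the base point when, given any object R₀ whose augmentation R₀ → k is a small
extension and any b ∈ F(R₀), some morphism R → R₀ sends a to b. Assume a ∈ F(R) has this versality
property, that π₁ : R₁ → R is a small extension together with a₁ ∈ F(R₁) whose image is a, and that
g : R' → R is a morphism together with a' ∈ F(R') whose image is a. Then a morphism f : R' → R₁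
satisfying f ≫ π₁ = g and sending a' to a₁ exists exactly when some morphism f : R' → R₁ satisfying
f ≫ π₁ = g exists at all. (The published statement concerns semi-homogeneous cofibred groupoids;
this row treats only the set-valued functor case.) -/
theorem result (Λ k : Type u) [CommRing Λ] [IsLocalRing Λ] [IsNoetherianRing Λ]
    [IsAdicComplete (IsLocalRing.maximalIdeal Λ) Λ] [Field k] [Algebra Λ k]
    (hk : Function.Surjective (algebraMap Λ k))
    (F : ArtFun.Art Λ k ⥤ Type v) (hF : ArtFun.H0 F ∧ ArtFun.S1 F ∧ ArtFun.Heps F)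
    {R R₁ R' : ArtFun.Art Λ k} (π₁ : R₁ ⟶ R) (hπ : ArtFun.Art.IsSmallExt π₁) (g : R' ⟶ R)
    (a : F.obj R) (a₁ : F.obj R₁) (a' : F.obj R') (h₁ : F.map π₁ a₁ = a) (h' : F.map g a' = a)
    (hvers : ∀ (R₀ : ArtFun.Art Λ k), ArtFun.Art.IsSmallExt (ArtFun.Art.toBase R₀) →
      ∀ b : F.obj R₀, ∃ φ : R ⟶ R₀, F.map φ a = b) :
    (∃ f : R' ⟶ R₁, f ≫ π₁ = g ∧ F.map f a' = a₁) ↔ (∃ f : R' ⟶ R₁, f ≫ π₁ = g) := by
  open Groth.Agent.Helper3.ArtFunLib in
  obtain ⟨h0, h1, h2⟩ := hF
  haveI : Module.Finite Λ k := Module.Finite.of_surjective (Algebra.linearMap Λ k) hk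
  constructor
  · rintro ⟨f, hf, _⟩
    exact ⟨f, hf⟩
  · rintro ⟨f₀, hf₀⟩
    let P := fibreProd π₁ π₁ hπ.1
    let p₁ : P ⟶ R₁ := fibreProdFst π₁ π₁ hπ.1
    let p₂ : P ⟶ R₁ := fibreProdSnd π₁ π₁ hπ.1
    have hP : ArtFun.Art.IsFibreProd p₁ p₂ π₁ π₁ := isFibreProd_fibreProd π₁ π₁ hπ.1
    let Q := fibreProd (ArtFun.Art.toBase R₁) (ArtFun.Art.toBase (ArtFun.Art.dual Λ k))
      (surjective_toBase _)
    let q₁ : Q ⟶ R₁ := fibreProdFst _ _ (surjective_toBase _)
    let q₂ : Q ⟶ ArtFun.Art.dual Λ k := fibreProdSnd _ _ (surjective_toBase _)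
    have hQ : ArtFun.Art.IsFibreProd q₁ q₂ (ArtFun.Art.toBase R₁)
        (ArtFun.Art.toBase (ArtFun.Art.dual Λ k)) := isFibreProd_fibreProd _ _ _
    obtain ⟨θ, δ, hθiso, hθ₁, hδ₁, hδ₂, hδθ⟩ := exists_theta hπ hP hQ
    -- the element over the fibre product with components `F f₀ a'` and `a₁`
    have hcompat : F.map π₁ (F.map f₀ a') = F.map π₁ a₁ := by
      rw [← map_comp_app, hf₀, h', h₁]
    obtain ⟨z₀, hz₀⟩ := h1 p₁ p₂ π₁ π₁ hP hπ.1 ⟨(F.map f₀ a', a₁), hcompat⟩
    have hz₁ : F.map p₁ z₀ = F.map f₀ a' := congrArg (fun t => t.1.1) hz₀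
    have hz₂ : F.map p₂ z₀ = a₁ := congrArg (fun t => t.1.2) hz₀
    -- the tangent vector
    have hsmall : ArtFun.Art.IsSmallExt (ArtFun.Art.toBase (ArtFun.Art.dual Λ k)) :=
      isSmallExt_toBase_dual
    obtain ⟨φ, hφ⟩ := hvers (ArtFun.Art.dual Λ k) hsmall (F.map (θ ≫ q₂) z₀)
    obtain ⟨w, hw₁, hw₂⟩ := Groth.Agent.Helper3.ArtFunLib.IsFibreProd.exists_lift hQ f₀ (g ≫ φ)
      (by rw [ArtFun.Art.eq_toBase (f₀ ≫ _), ArtFun.Art.eq_toBase ((g ≫ φ) ≫ _)])
    have hwz : F.map w a' = F.map θ z₀ := by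
      apply (h2 q₁ q₂ hQ).1
      apply ArtFun.FibProd.ext
      · change F.map q₁ (F.map w a') = F.map q₁ (F.map θ z₀)
        rw [← map_comp_app, hw₁, ← map_comp_app, hθ₁, hz₁]
      · change F.map q₂ (F.map w a') = F.map q₂ (F.map θ z₀)
        rw [← map_comp_app, hw₂, map_comp_app, h', hφ, map_comp_app]
    haveI := hθiso
    refine ⟨w ≫ inv θ ≫ p₂, ?_, ?_⟩
    · have e1 : inv θ ≫ p₁ = q₁ := by rw [IsIso.inv_comp_eq, hθ₁]
      rw [Category.assoc, Category.assoc, ← hP.w, ← Category.assoc (inv θ), e1, ← Category.assoc,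
        hw₁, hf₀]
    · rw [map_comp_app, map_comp_app, hwz, map_map_inv, hz₂]

end Groth.Agent.S12320
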