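import Groth.Statements.S12321
import Groth.Agent.Lib.Helper3.SchlL
import Groth.Agent.S12320

set_option autoImplicit false
universe u v
open CategoryTheory
open SGA7

namespace Groth.Agent.S12321

/-- Suppose Λ is a Noetherian local ring that is complete, and k is its residue field, so the map Λ → k
is surjective. We look at functors on the category of local Artinian Λ-algebras whose residue field
is k. Take such a functor F for which F(k) is a single point, the comparison map F(A₁ ×_A A₂) →
F(A₁) ×_{F(A)} F(A₂) is surjective whenever A₂ → A is surjective, and this map is bijective for A'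
×_k k[ε]. Call an element a ∈ F(R) versal for small prolongations of the base point when, for each
object R₀ whose augmentation R₀ → k is a small extension and each b ∈ F(R₀), some morphism R → R₀
sends a to b. Assume a ∈ F(R) has this property. Then one can find an object R', a morphism q : R' →
R and an element a' ∈ F(R') whose image is a, satisfying the following. First, q is surjective and
the maximal ideal annihilates its kernel. Second, q induces an isomorphism m_{R'}/(m_{R'}² + m_Λ R')
→ m_R/(m_R² + m_Λ R) between relative cotangent spaces (only injectivity is stated; surjectivity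
comes for free). Third, a' is versal for small prolongations of a: given any small extension π₁ : R₁
→ R and any a₁ ∈ F(R₁) with image a, there is f : R' → R₁ satisfying f ≫ π₁ = q and sending a' to
a₁. (The published statement concerns semi-homogeneous cofibred groupoids; this row treats the case
of set-valued functors.) -/
theorem result (Λ k : Type u) [CommRing Λ] [IsLocalRing Λ] [IsNoetherianRing Λ]
    [IsAdicComplete (IsLocalRing.maximalIdeal Λ) Λ] [Field k] [Algebra Λ k]
    (hk : Function.Surjective (algebraMap Λ k))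
    (F : ArtFun.Art Λ k ⥤ Type v) (hF : ArtFun.H0 F ∧ ArtFun.S1 F ∧ ArtFun.Heps F)
    (R : ArtFun.Art Λ k) (a : F.obj R)
    (hvers : ∀ (R₀ : ArtFun.Art Λ k), ArtFun.Art.IsSmallExt (ArtFun.Art.toBase R₀) →
      ∀ b : F.obj R₀, ∃ φ : R ⟶ R₀, F.map φ a = b) :
    ∃ (R' : ArtFun.Art Λ k) (q : R' ⟶ R) (a' : F.obj R'), F.map q a' = a ∧
      ArtFun.Art.IsSemismallExt q ∧
      (∀ x' : R', x' ∈ IsLocalRing.maximalIdeal (R' : Type u) →
        q x' ∈ (IsLocalRing.maximalIdeal (R : Type u)) ^ 2 ⊔ (IsLocalRing.maximalIdeal Λ).map (algebraMap Λ R) →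
        x' ∈ (IsLocalRing.maximalIdeal (R' : Type u)) ^ 2 ⊔ (IsLocalRing.maximalIdeal Λ).map (algebraMap Λ R')) ∧
      ∀ (R₁ : ArtFun.Art Λ k) (π₁ : R₁ ⟶ R), ArtFun.Art.IsSmallExt π₁ →
        ∀ a₁ : F.obj R₁, F.map π₁ a₁ = a → ∃ f : R' ⟶ R₁, f ≫ π₁ = q ∧ F.map f a' = a₁ := by
  open Groth.Agent.Helper3.ArtFunLib in
  obtain ⟨r, P, fd, π, hπ, hmin⟩ := exists_minimal_presentation hk R
  let s : Stage P F := ⟨R, π, hπ, a⟩
  obtain ⟨s', hs'⟩ := exists_step hF.2.1 s
  have hq : ∀ p : P.carrier, factorOf s'.pt s'.surj s.pt hs'.le (s'.pt.1 p) = π.1 p :=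
    fun p => factorOf_apply s'.pt s'.surj s.pt hs'.le p
  refine ⟨s'.obj, factorOf s'.pt s'.surj s.pt hs'.le, s'.elt, hs'.elt,
    ⟨factorOf_surjective s'.pt s'.surj s.pt hs'.le hπ, ?_⟩, ?_, ?_⟩
  · -- the kernel is killed by the maximal ideal
    rw [eq_bot_iff, Ideal.mul_le]
    intro m hm x hx
    obtain ⟨m', rfl⟩ := s'.surj m
    obtain ⟨x', rfl⟩ := s'.surj x
    have hm' : m' ∈ IsLocalRing.maximalIdeal P.carrier :=
      (homSet_mem_maximalIdeal_iff s'.pt m').1 hm
    have hx' : x' ∈ s.K := by
      change π.1 x' = 0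
      rw [← hq x']
      exact hx
    rw [Ideal.mem_bot, ← map_mul]
    exact hs'.mul_le (Ideal.mul_mem_mul hm' hx')
  · -- cotangent spaces
    intro x' hx' hqx
    obtain ⟨p, rfl⟩ := s'.surj x'
    have hp : p ∈ IsLocalRing.maximalIdeal P.carrier :=
      (homSet_mem_maximalIdeal_iff s'.pt p).1 hx'
    have hqx' : π.1 p ∈ IsLocalRing.maximalIdeal (R : Type u) ^ 2 ⊔
        (IsLocalRing.maximalIdeal Λ).map (algebraMap Λ R) := by
      rw [← hq p]; exact hqx
    obtain ⟨v, hv, w, hw, rfl⟩ := Submodule.mem_sup.1 (hmin p hp hqx')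
    rw [map_add]
    refine Ideal.add_mem _
      (le_sup_left (b := (IsLocalRing.maximalIdeal Λ).map (algebraMap Λ s'.obj)) ?_)
      (le_sup_right (a := IsLocalRing.maximalIdeal (s'.obj : Type u) ^ 2) ?_)
    · have h1 : Ideal.map (s'.pt.1 : P.carrier →+* s'.obj)
          (IsLocalRing.maximalIdeal P.carrier ^ 2) ≤
          IsLocalRing.maximalIdeal (s'.obj : Type u) ^ 2 := by
        rw [Ideal.map_pow]
        refine Ideal.pow_right_mono ?_ 2
        rw [Ideal.map_le_iff_le_comap]
        intro p hp
        exact homSet_mem_maximalIdeal s'.pt hp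
      exact h1 (Ideal.mem_map_of_mem _ hv)
    · have h2 : Ideal.map (s'.pt.1 : P.carrier →+* s'.obj)
          ((IsLocalRing.maximalIdeal Λ).map (algebraMap Λ P.carrier)) =
          (IsLocalRing.maximalIdeal Λ).map (algebraMap Λ s'.obj) := by
        rw [Ideal.map_map]
        congr 1
        exact s'.pt.1.comp_algebraMap
      rw [← h2]
      exact Ideal.mem_map_of_mem _ hw
  · -- versality
    intro R₁ π₁ hπ₁ a₁ ha₁
    apply (Groth.Agent.S12320.result Λ k hk F hF π₁ hπ₁
      (factorOf s'.pt s'.surj s.pt hs'.le) a a₁ s'.elt ha₁ hs'.elt hvers).2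
    obtain ⟨χ, hχ⟩ := fd.exists_lift π₁ hπ₁.1 π
    have hχ' : ∀ p, π₁ (χ.1 p) = π.1 p :=
      fun p => congrArg (fun t : ArtFun.HomSet P.carrier P.res R => t.1 p) hχ
    have hleK : RingHom.ker χ.1 ≤ s.K := by
      intro p hp
      change π.1 p = 0
      rw [← hχ' p, RingHom.mem_ker.1 hp, map_zero]
    have hmK : IsLocalRing.maximalIdeal P.carrier * s.K ≤ RingHom.ker χ.1 := by
      rw [Ideal.mul_le]
      intro m hm j hj
      rw [RingHom.mem_ker, map_mul]
      have h1 : χ.1 m * χ.1 j ∈ IsLocalRing.maximalIdeal (R₁ : Type u) *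
          RingHom.ker π₁.toAlgHom := by
        apply Ideal.mul_mem_mul (homSet_mem_maximalIdeal χ hm)
        rw [RingHom.mem_ker]
        change π₁ (χ.1 j) = 0
        rw [hχ' j]; exact hj
      rw [hπ₁.2.2.2] at h1
      exact h1
    have hker : s'.K ≤ RingHom.ker χ.1 := by
      by_contra hnot
      obtain ⟨p, hpK, hpχ⟩ := SetLike.not_le_iff_exists.1 hnot
      have hpJ : p ∈ s.K := hs'.le hpK
      have hχp : χ.1 p ∈ RingHom.ker π₁.toAlgHom := by
        rw [RingHom.mem_ker]
        change π₁ (χ.1 p) = 0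
        rw [hχ' p]; exact hpJ
      have hχp0 : χ.1 p ≠ 0 := fun h => hpχ (RingHom.mem_ker.2 h)
      obtain ⟨hsurj₁, hne, ⟨t, ht⟩, hmk⟩ := hπ₁
      -- `χ p` generates the kernel
      have hgen : ∀ y ∈ RingHom.ker π₁.toAlgHom, ∃ e : R₁, y = e * χ.1 p := by
        have hχp' := hχp
        rw [ht] at hχp'
        obtain ⟨c, hc⟩ := Submodule.mem_span_singleton.1 hχp'
        have hcu : IsUnit c := by
          by_contra hcn
          have hcm : c ∈ IsLocalRing.maximalIdeal (R₁ : Type u) :=
            (IsLocalRing.mem_maximalIdeal _).2 hcn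
          have h1 : c * t ∈ IsLocalRing.maximalIdeal (R₁ : Type u) *
              RingHom.ker π₁.toAlgHom := by
            apply Ideal.mul_mem_mul hcm
            rw [ht]; exact Submodule.mem_span_singleton_self t
          rw [hmk] at h1
          apply hχp0
          rw [← hc]
          exact h1
        obtain ⟨c', hc'⟩ := hcu.exists_left_inv
        intro y hy
        rw [ht] at hy
        obtain ⟨e, he⟩ := Submodule.mem_span_singleton.1 hy
        refine ⟨e * c', ?_⟩
        rw [← he, ← hc, smul_eq_mul, smul_eq_mul, mul_assoc, ← mul_assoc c', hc', one_mul]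
      have hχsurj : Function.Surjective χ.1 := by
        intro y
        obtain ⟨p', hp'⟩ := hπ (π₁ y)
        have hy : y - χ.1 p' ∈ RingHom.ker π₁.toAlgHom := by
          rw [RingHom.mem_ker, map_sub]
          change π₁ y - π₁ (χ.1 p') = 0
          rw [hχ' p', hp', sub_self]
        obtain ⟨e, he⟩ := hgen _ hy
        obtain ⟨l, hl⟩ := hk (R₁.res e)
        have hm : e - algebraMap Λ R₁ l ∈ IsLocalRing.maximalIdeal (R₁ : Type u) := by
          rw [ArtFun.Art.mem_maximalIdeal_iff, map_sub, R₁.res.commutes, hl, sub_self]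
        have h1 : (e - algebraMap Λ R₁ l) * χ.1 p ∈ IsLocalRing.maximalIdeal (R₁ : Type u) *
            RingHom.ker π₁.toAlgHom := Ideal.mul_mem_mul hm hχp
        rw [hmk, Ideal.mem_bot, sub_mul, sub_eq_zero] at h1
        refine ⟨p' + algebraMap Λ P.carrier l * p, ?_⟩
        rw [map_add, map_mul, χ.1.commutes, ← h1, ← he]
        ring
      apply hnot
      refine hs'.least R₁ χ hχsurj hleK a₁ ?_ hmK
      rw [factorOf_eq χ hχsurj s.pt hleK π₁ hχ]
      exact ha₁
    refine ⟨factorOf s'.pt s'.surj χ hker, ?_⟩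
    apply factor_unique_of_surjective s'.pt s'.surj
    rw [homSet_map_comp, map_factorOf, map_factorOf]
    exact hχ

end Groth.Agent.S12321
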