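import Groth.Statements.S12417
import Mathlib

set_option autoImplicit false
universe u
open CategoryTheory AlgebraicGeometry
open Props

namespace Groth.Agent.S12417

/-- Let X be a quasi-compact quasi-separated scheme and P a property of opens of X such that (a) P holds
for every affine open, and (b) whenever a quasi-compact open U has a finite affine open covering U =
V_1 ∪ … ∪ V_n with P holding for every intersection V_i ∩ V_j, P holds for U. Then P holds for every
quasi-compact open of X. -/
theorem result (X : Scheme.{u}) [CompactSpace X] [QuasiSeparatedSpace X]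
    (P : X.Opens → Prop) (ha : ∀ U : X.Opens, IsAffineOpen U → P U)
    (hb : ∀ (U : X.Opens) (n : ℕ) (V : Fin n → X.Opens), IsCompact (U : Set X) →
      (∀ i, IsAffineOpen (V i)) → ⨆ i, V i = U → (∀ i j, P (V i ⊓ V j)) → P U)
    (U : X.Opens) (hU : IsCompact (U : Set X)) : P U := by
  classical
  -- Step 1: compact opens inside an affine open
  have step1 : ∀ (V W : X.Opens), IsAffineOpen V → W ≤ V → IsCompact (W : Set X) → P W := by
    intro V W hV hWV hW
    choose g hg1 hg2 using fun x : W => hV.exists_basicOpen_le x (hWV x.2)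
    have hcov : (W : Set X) ⊆ ⋃ x : W, ((X.basicOpen (g x) : X.Opens) : Set X) := by
      intro x hx
      exact Set.mem_iUnion.mpr ⟨⟨x, hx⟩, hg2 ⟨x, hx⟩⟩
    obtain ⟨t, ht⟩ := hW.elim_finite_subcover (fun x : W => ((X.basicOpen (g x) : X.Opens) : Set X))
      (fun x => (X.basicOpen (g x)).isOpen) hcov
    let e := t.equivFin
    refine hb W t.card (fun i => X.basicOpen (g (e.symm i).1)) hW
      (fun i => hV.basicOpen _) ?_ ?_
    · apply le_antisymm
      · exact iSup_le fun i => hg1 _
      · intro x hx
        obtain ⟨y, hy⟩ := Set.mem_iUnion.mp (ht hx)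
        obtain ⟨hyt, hxy⟩ := Set.mem_iUnion.mp hy
        refine TopologicalSpace.Opens.mem_iSup.mpr ⟨e ⟨y, hyt⟩, ?_⟩
        simpa using hxy
    · intro i j
      have : X.basicOpen (g (e.symm i).1) ⊓ X.basicOpen (g (e.symm j).1) =
          X.basicOpen (g (e.symm i).1 * g (e.symm j).1) := (X.basicOpen_mul _ _).symm
      rw [this]
      exact ha _ (hV.basicOpen _)
  -- Step 2
  obtain ⟨s, hs, hUs⟩ := isCompact_iff_finite_and_eq_biUnion_affineOpens.mp hU
  have := hs.to_subtype
  have := Fintype.ofFinite s
  let e := Fintype.equivFin s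
  refine hb U (Fintype.card s) (fun i => ((e.symm i).1 : X.Opens)) hU
    (fun i => (e.symm i).1.2) ?_ ?_
  · rw [hUs]
    apply le_antisymm
    · refine iSup_le fun i => ?_
      exact le_iSup₂_of_le (e.symm i).1 (e.symm i).2 le_rfl
    · refine iSup₂_le fun i hi => ?_
      refine le_iSup_of_le (e ⟨i, hi⟩) ?_
      simp
  · intro i j
    refine step1 ((e.symm i).1 : X.Opens) _ (e.symm i).1.2 inf_le_left ?_
    exact QuasiSeparatedSpace.inter_isCompact _ _ ((e.symm i).1 : X.Opens).isOpen
      (e.symm i).1.2.isCompact ((e.symm j).1 : X.Opens).isOpen (e.symm j).1.2.isCompact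

end Groth.Agent.S12417
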