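import Groth.Statements.S12418
-- import your own Groth.Agent.* helpers here

set_option autoImplicit false
universe u
open CAlg

namespace Groth.Agent.S12418

/-- Let R be a Noetherian ring and b ∈ R; for x outside the ideal (b) put I_x = ((b) : x), the ideal of
r with r x ∈ (b). If s ∉ (b) and I_s is maximal among the I_x (x ∉ (b)), then I_s is prime. -/
theorem result {R : Type u} [CommRing R] [IsNoetherianRing R]
    (b s : R) (hs : s ∉ Ideal.span {b})
    (hmax : ∀ x : R, x ∉ Ideal.span {b} →
      Submodule.colon (Ideal.span {b}) (Ideal.span {s}) ≤ Submodule.colon (Ideal.span {b}) (Ideal.span {x}) →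
      Submodule.colon (Ideal.span {b}) (Ideal.span {x}) = Submodule.colon (Ideal.span {b}) (Ideal.span {s})) :
    (Submodule.colon (Ideal.span {b}) (Ideal.span ({s} : Set R))).IsPrime := by
  have key : ∀ (x r : R), r ∈ Submodule.colon (Ideal.span {b}) (Ideal.span ({x} : Set R)) ↔
      r * x ∈ Ideal.span {b} := by
    intro x r
    rw [Submodule.mem_colon]
    constructor
    · intro h
      exact h x (Ideal.subset_span rfl)
    · intro h t ht
      rw [SetLike.mem_coe, Ideal.mem_span_singleton'] at ht
      obtain ⟨a, rfl⟩ := ht
      rw [smul_eq_mul, ← mul_assoc, mul_comm r a, mul_assoc]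
      exact Ideal.mul_mem_left _ _ h
  rw [Ideal.isPrime_iff]
  constructor
  · intro htop
    have : (1 : R) ∈ Submodule.colon (Ideal.span {b}) (Ideal.span ({s} : Set R)) := by
      rw [htop]; trivial
    rw [key, one_mul] at this
    exact hs this
  · intro x y hxy
    by_contra hcon
    rw [not_or] at hcon
    obtain ⟨hx, hy⟩ := hcon
    rw [key] at hx hy hxy
    have hle : Submodule.colon (Ideal.span {b}) (Ideal.span ({s} : Set R)) ≤
        Submodule.colon (Ideal.span {b}) (Ideal.span ({x * s} : Set R)) := by
      intro r hr
      rw [key] at hr ⊢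
      rw [← mul_assoc, mul_comm r x, mul_assoc]
      exact Ideal.mul_mem_left _ _ hr
    have heq := hmax (x * s) hx hle
    have hy' : y ∈ Submodule.colon (Ideal.span {b}) (Ideal.span ({x * s} : Set R)) := by
      rw [key, ← mul_assoc, mul_comm y x]
      exact hxy
    rw [heq, key] at hy'
    exact hy hy'

end Groth.Agent.S12418
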