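import Groth.Statements.S12430
import Mathlib
import Groth.Agent.Lib.Lead.CV7

set_option autoImplicit false
universe u
open CategoryTheory CategoryTheory.Limits AlgebraicGeometry
open Curves

namespace Groth.Agent.S12430

/-- Let C be a curve over an algebraically closed field k (integral, proper over k, of dimension one,
all local rings regular) and E a locally free O_C-module of rank 2 which is normalized — H^0(C, E) ≠
0 while H^0(C, E ⊗ M) = 0 for every invertible O_C-module M of negative degree. Then for every
nonzero morphism s : O_C → E the cokernel of s is an invertible O_C-module (so E is an extension of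
an invertible module by O_C). -/
theorem result (k : Type u) [Field k] [IsAlgClosed k] (C : Scheme.{u}) [C.Over (Spec (CommRingCat.of k))]
    [IsIntegral C] [IsProper (C ↘ (Spec (CommRingCat.of k)))] (hdimC : topologicalKrullDim C = 1)
    (hregC : ∀ x : C, IsRegularLocalRing (C.presheaf.stalk x))
    (E : C.Modules) (hE : FlatMod.IsFinLocFreeOfRank 2 E)
    (hE0 : Nontrivial (Coh.HH C E 0))
    (hEneg : ∀ M : C.Modules, PicF.IsInvertible M → Curv2.deg k C M 1 < 0 → Subsingleton (Coh.HH C (CohB1.tensorMod E M) 0))
    (s : Coh.structureModule C ⟶ E) (hs : s ≠ 0) :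
    PicF.IsInvertible (cokernel s) := by
  classical
  have hX : ∀ x : C, ValuationRing (C.presheaf.stalk x) := fun x => by
    haveI := hregC x
    haveI : IsDomain (C.presheaf.stalk x) := inferInstance
    exact Groth.Agent.Helper1.VB5.valuationRing_of_regular _
      (Groth.Agent.Helper1.VB5.ringKrullDim_stalk_le hdimC.le x)
  exact Groth.Agent.Lead.CV.isInvertible_cokernel_of_normalized k C hdimC hX hE hEneg s hs

end Groth.Agent.S12430
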