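import Groth.Statements.S12452
import Mathlib
-- import your own Groth.Agent.* helpers here

set_option autoImplicit false
universe u
open CategoryTheory TopologicalSpace Opposite
open ShSp

namespace Groth.Agent.S12452

open CategoryTheory TopologicalSpace Opposite
namespace Aux

variable {X : TopCat.{u}} (F : X.Sheaf (Type u)) {BX : Set (Opens X)} (hBX : Opens.IsBasis BX)

include hBX in
/-- two sections agreeing on all basis elements inside `W` are equal -/
lemma eq_of_basis (W : Opens X) (s t : F.presheaf.obj (op W))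
    (h : ∀ (U : BX) (hU : (U : Opens X) ≤ W),
      F.presheaf.map (homOfLE hU).op s = F.presheaf.map (homOfLE hU).op t) : s = t := by
  refine TopCat.Sheaf.eq_of_locally_eq' F (fun U : {U : BX // (U : Opens X) ≤ W} => (U.1 : Opens X)) W
    (fun U => homOfLE U.2) ?_ s t (fun U => h U.1 U.2)
  intro x hx
  obtain ⟨U', hU', hxU', hU'W⟩ := Opens.isBasis_iff_nbhd.1 hBX hx
  exact Opens.mem_iSup.2 ⟨⟨⟨U', hU'⟩, hU'W⟩, hxU'⟩

include hBX in
/-- gluing a family of sections given on the basis elements inside `W` -/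
lemma exists_glue (W : Opens X)
    (sf : ∀ (U : BX), (U : Opens X) ≤ W → F.presheaf.obj (op (U : Opens X)))
    (hsf : ∀ (U U' : BX) (hU : (U : Opens X) ≤ W) (hU' : (U' : Opens X) ≤ W) (hle : (U' : Opens X) ≤ U),
      F.presheaf.map (homOfLE hle).op (sf U hU) = sf U' hU') :
    ∃! s : F.presheaf.obj (op W), ∀ (U : BX) (hU : (U : Opens X) ≤ W),
      F.presheaf.map (homOfLE hU).op s = sf U hU := by
  have hcover : W ≤ iSup (fun U : {U : BX // (U : Opens X) ≤ W} => (U.1 : Opens X)) := by
    intro x hx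
    obtain ⟨U', hU', hxU', hU'W⟩ := Opens.isBasis_iff_nbhd.1 hBX hx
    exact Opens.mem_iSup.2 ⟨⟨⟨U', hU'⟩, hU'W⟩, hxU'⟩
  have hcompat : TopCat.Presheaf.IsCompatible F.1
      (fun U : {U : BX // (U : Opens X) ≤ W} => (U.1 : Opens X)) (fun U => sf U.1 U.2) := by
    intro U₁ U₂
    apply eq_of_basis F hBX
    intro U'' hU''
    have h1 : (U'' : Opens X) ≤ U₁.1 := hU''.trans inf_le_left
    have h2 : (U'' : Opens X) ≤ U₂.1 := hU''.trans inf_le_right
    have e1 := hsf U₁.1 U'' U₁.2 (h1.trans U₁.2) h1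
    have e2 := hsf U₂.1 U'' U₂.2 (h2.trans U₂.2) h2
    rw [← Functor.map_comp_apply, ← Functor.map_comp_apply, ← op_comp, ← op_comp]
    exact e1.trans e2.symm
  obtain ⟨s, hs, huniq⟩ := TopCat.Sheaf.existsUnique_gluing' F
    (fun U : {U : BX // (U : Opens X) ≤ W} => (U.1 : Opens X)) W (fun U => homOfLE U.2) hcover
    (fun U => sf U.1 U.2) hcompat
  exact ⟨s, fun U hU => hs ⟨U, hU⟩, fun t ht => huniq t fun U => ht U.1 U.2⟩


theorem main {X Y : TopCat.{u}} (f : X ⟶ Y) (F : X.Sheaf (Type u)) (G : Y.Sheaf (Type u))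
    {BX : Set (Opens X)} (hBX : Opens.IsBasis BX) {BY : Set (Opens Y)} (hBY : Opens.IsBasis BY)
    (φ : ∀ (V : BY) (U : BX), (U : Opens X) ≤ (Opens.map f).obj V →
      (G.presheaf.obj (op (V : Opens Y)) → F.presheaf.obj (op (U : Opens X))))
    (hφ : ∀ (V V' : BY) (U U' : BX) (hUV : (U : Opens X) ≤ (Opens.map f).obj V)
      (hU'V' : (U' : Opens X) ≤ (Opens.map f).obj V') (hV : (V' : Opens Y) ≤ V) (hU : (U' : Opens X) ≤ U)
      (s : G.presheaf.obj (op (V : Opens Y))),
      F.presheaf.map (homOfLE hU).op (φ V U hUV s) = φ V' U' hU'V' (G.presheaf.map (homOfLE hV).op s)) :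
    ∃! ψ : G ⟶ (TopCat.Sheaf.pushforward (Type u) f).obj F,
      ∀ (V : BY) (U : BX) (hUV : (U : Opens X) ≤ (Opens.map f).obj V) (s : G.presheaf.obj (op (V : Opens Y))),
        F.presheaf.map (homOfLE hUV).op (ψ.1.app (op (V : Opens Y)) s) = φ V U hUV s := by
  have hGid : ∀ (V : Opens Y) (s : G.presheaf.obj (op V)),
      G.presheaf.map (homOfLE (le_refl V)).op s = s := by
    intro V s
    have : (homOfLE (le_refl V)).op = 𝟙 (op V) := rfl
    rw [this, G.presheaf.map_id]
    rfl
  have hglue : ∀ (V : BY) (s : G.presheaf.obj (op (V : Opens Y))),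
      ∃! t : F.presheaf.obj (op ((Opens.map f).obj V)), ∀ (U : BX) (hU : (U : Opens X) ≤ (Opens.map f).obj V),
        F.presheaf.map (homOfLE hU).op t = φ V U hU s := by
    intro V s
    apply exists_glue F hBX
    intro U U' hU hU' hle
    rw [hφ V V U U' hU hU' le_rfl hle s, hGid]
  choose gl hgl hgluniq using hglue
  let B : BY → Opens Y := Subtype.val
  have hB : Opens.IsBasis (Set.range B) := by
    have : Set.range B = BY := Subtype.range_coe
    rw [this]; exact hBY
  let α : (inducedFunctor B).op ⋙ G.presheaf ⟶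
      (inducedFunctor B).op ⋙ ((TopCat.Sheaf.pushforward (Type u) f).obj F).1 :=
    { app := fun i => ↾(fun s => gl (unop i) s)
      naturality := by
        intro i j g
        apply ConcreteCategory.hom_ext
        intro s
        change gl (unop j) (G.presheaf.map (g.unop.hom).op s) =
          F.presheaf.map ((Opens.map f).map g.unop.hom).op (gl (unop i) s)
        symm
        apply hgluniq
        intro U hU
        have hle : ((unop j : BY) : Opens Y) ≤ ((unop i : BY) : Opens Y) := g.unop.hom.le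
        have hU' : (U : Opens X) ≤ (Opens.map f).obj (unop i : BY) :=
          hU.trans ((Opens.map f).map g.unop.hom).le
        rw [← Functor.map_comp_apply, ← op_comp]
        have := hgl (unop i) s U hU'
        have e : homOfLE hU ≫ (Opens.map f).map g.unop.hom = homOfLE hU' := rfl
        rw [e, this]
        have h2 := hφ (unop i) (unop j) U U hU' hU hle le_rfl s
        have hFid : F.presheaf.map (homOfLE (le_refl (U : Opens X))).op (φ (unop i) U hU' s) =
            φ (unop i) U hU' s := by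
          have : (homOfLE (le_refl (U : Opens X))).op = 𝟙 (op (U : Opens X)) := rfl
          rw [this, F.presheaf.map_id]
          rfl
        rw [hFid] at h2
        rw [h2]
        rfl }
  let ψ0 : G.1 ⟶ ((TopCat.Sheaf.pushforward (Type u) f).obj F).1 :=
    TopCat.Sheaf.restrictHomEquivHom G.1 ((TopCat.Sheaf.pushforward (Type u) f).obj F) hB α
  have hψ0 : ∀ (V : BY) (s : G.presheaf.obj (op (V : Opens Y))), ψ0.app (op (V : Opens Y)) s = gl V s := by
    intro V s
    have := TopCat.Sheaf.extend_hom_app G.1 ((TopCat.Sheaf.pushforward (Type u) f).obj F) hB α V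
    change ψ0.app (op (B V)) s = gl V s
    rw [this]
    rfl
  refine ⟨⟨ψ0⟩, ?_, ?_⟩
  · intro V U hUV s
    change F.presheaf.map (homOfLE hUV).op (ψ0.app (op (V : Opens Y)) s) = φ V U hUV s
    rw [hψ0]
    exact hgl V s U hUV
  · intro ψ1 hψ1
    have : ψ1.1 = ψ0 := by
      apply TopCat.Sheaf.hom_ext G.1 ((TopCat.Sheaf.pushforward (Type u) f).obj F) hB
      intro V
      apply ConcreteCategory.hom_ext
      intro s
      change ψ1.1.app (op (V : Opens Y)) s = ψ0.app (op (V : Opens Y)) s
      rw [hψ0]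
      apply hgluniq
      intro U hU
      exact hψ1 V U hU s
    exact Sheaf.hom_ext this

end Aux

/-- For sheaves of sets, let f : X → Y be a continuous map, F a sheaf of sets on X, G a sheaf of sets on
Y, and B_X, B_Y bases for the topologies of X and Y. Suppose given, for every V in B_Y and U in B_X
with U ⊆ f⁻¹V, a map φ_V^U : G(V) → F(U), compatibly with restrictions. Then there is exactly one
morphism of sheaves ψ : G → f_*F (an f-map G → F) such that G(V) → F(f⁻¹V) → F(U) equals φ_V^U for
every such pair. -/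
theorem result {X Y : TopCat.{u}} (f : X ⟶ Y) (F : X.Sheaf (Type u)) (G : Y.Sheaf (Type u))
    {BX : Set (Opens X)} (hBX : Opens.IsBasis BX) {BY : Set (Opens Y)} (hBY : Opens.IsBasis BY)
    (φ : ∀ (V : BY) (U : BX), (U : Opens X) ≤ (Opens.map f).obj V →
      (G.presheaf.obj (op (V : Opens Y)) → F.presheaf.obj (op (U : Opens X))))
    (hφ : ∀ (V V' : BY) (U U' : BX) (hUV : (U : Opens X) ≤ (Opens.map f).obj V)
      (hU'V' : (U' : Opens X) ≤ (Opens.map f).obj V') (hV : (V' : Opens Y) ≤ V) (hU : (U' : Opens X) ≤ U)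
      (s : G.presheaf.obj (op (V : Opens Y))),
      F.presheaf.map (homOfLE hU).op (φ V U hUV s) = φ V' U' hU'V' (G.presheaf.map (homOfLE hV).op s)) :
    ∃! ψ : G ⟶ (TopCat.Sheaf.pushforward (Type u) f).obj F,
      ∀ (V : BY) (U : BX) (hUV : (U : Opens X) ≤ (Opens.map f).obj V) (s : G.presheaf.obj (op (V : Opens Y))),
        F.presheaf.map (homOfLE hUV).op (ψ.1.app (op (V : Opens Y)) s) = φ V U hUV s := by
  exact Aux.main f F G hBX hBY φ hφ

end Groth.Agent.S12452
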