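import Groth.Statements.S12459
import Groth.Agent.S12446
import Groth.Agent.S9126

set_option autoImplicit false
universe u
open CategoryTheory AlgebraicGeometry
open Props

namespace Groth.Agent.S12459

/-- For a locally Noetherian scheme S, the scheme S is universally catenary — every scheme X locally of
finite type over S has catenary underlying topological space — if and only if all local rings
O_{S,s} are universally catenary rings. (Schemes X over S are taken in the universe of S.) -/
theorem result (S : Scheme.{u}) [IsLocallyNoetherian S] :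
    (∀ (X : Scheme.{u}) (f : X ⟶ S), LocallyOfFiniteType f → PtTop.IsCatenarySpace X) ↔
      ∀ s : S, CAlg.IsUniversallyCatenary (S.presheaf.stalk s) := by
  constructor
  · intro h s
    obtain ⟨U, hU, hsU, -⟩ :=
      exists_isAffineOpen_mem_and_subset (X := S) (U := ⊤) (x := s) (by simp)
    haveI : IsNoetherianRing Γ(S, U) := IsLocallyNoetherian.component_noetherian ⟨U, hU⟩
    have hR : CAlg.IsUniversallyCatenary Γ(S, U) := by
      refine ⟨inferInstance, fun T _ _ hT => ?_⟩
      let φ : Γ(S, U) ⟶ CommRingCat.of T := CommRingCat.ofHom (algebraMap Γ(S, U) T)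
      haveI : LocallyOfFiniteType (Spec.map φ) := by
        rw [HasRingHomProperty.Spec_iff (P := @LocallyOfFiniteType)]
        exact RingHom.finiteType_algebraMap.mpr hT
      have h1 := h (Spec (CommRingCat.of T)) (Spec.map φ ≫ hU.fromSpec) inferInstance
      exact (Groth.Agent.Lib.Helper6.Caten.isCatenarySpace_primeSpectrum_iff T).mp h1
    have hloc := hU.isLocalization_stalk ⟨s, hsU⟩
    letI : Algebra Γ(S, U) (S.presheaf.stalk s) := S.presheaf.algebra_section_stalk ⟨s, hsU⟩
    haveI : IsLocalization.AtPrime (S.presheaf.stalk s) (hU.primeIdealOf ⟨s, hsU⟩).asIdeal := hloc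
    haveI : Algebra.EssFiniteType Γ(S, U) (S.presheaf.stalk s) :=
      Algebra.EssFiniteType.of_isLocalization _ (hU.primeIdealOf ⟨s, hsU⟩).asIdeal.primeCompl
    exact Groth.Agent.S9126.result Γ(S, U) (S.presheaf.stalk s) hR
  · intro hS X f hf
    rw [Groth.Agent.S12446.result X]
    intro x
    letI : Algebra (S.presheaf.stalk (f x)) (X.presheaf.stalk x) := (f.stalkMap x).hom.toAlgebra
    haveI : Algebra.EssFiniteType (S.presheaf.stalk (f x)) (X.presheaf.stalk x) :=
      LocallyOfFiniteType.stalkMap f x
    have hUC := Groth.Agent.S9126.result (S.presheaf.stalk (f x)) (X.presheaf.stalk x) (hS (f x))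
    exact hUC.2 (X.presheaf.stalk x) inferInstance

end Groth.Agent.S12459
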