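import Groth.Statements.S12461
import Groth.Agent.Lib.Helper6.QcGrot.ClosedAdj

set_option autoImplicit false
universe u
open CategoryTheory AlgebraicGeometry
open QCohSub

namespace Groth.Agent.S12461

/-- Let i : Z → X be a closed immersion of schemes. The functor i_* : QCoh(O_Z) → QCoh(O_X) has a right
adjoint i^! : QCoh(O_X) → QCoh(O_Z). Stated as: there is a functor L between the full subcategories
of quasi-coherent modules which agrees with i_* after the inclusion into all O_X-modules (this
determines L up to isomorphism, the inclusion being fully faithful) and which is a left adjoint. -/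
theorem result {Z X : Scheme.{u}} (i : Z ⟶ X) [IsClosedImmersion i] :
    ∃ L : QCohCat.QCoh Z ⥤ QCohCat.QCoh X,
      Nonempty (L ⋙ (QCohCat.isQCoh X).ι ≅ (QCohCat.isQCoh Z).ι ⋙ Coh.push i) ∧ L.IsLeftAdjoint := by
  exact ⟨Groth.Agent.Lib.Helper6.QcGrot.pushQ i,
    ⟨(QCohCat.isQCoh X).liftCompιIso _ (Groth.Agent.Lib.Helper6.QcGrot.isQCoh_push i)⟩,
    Groth.Agent.Lib.Helper6.QcGrot.pushQ_isLeftAdjoint i⟩

end Groth.Agent.S12461
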