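import Groth.Statements.S12462
import Groth.Agent.Lib.Helper6.SpecLim

set_option autoImplicit false
universe u
open CategoryTheory CategoryTheory.Limits
open SpecSp

namespace Groth.Agent.S12462

/-- A spectral space is a directed inverse limit of finite sober topological spaces. Precisely: for X
spectral there exist a nonempty directed preordered index set J, a functor from the opposite of J to
topological spaces whose values are finite sober (T0, every irreducible closed subset has a generic
point) spaces, and a limit cone of it whose vertex is isomorphic to X. -/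
theorem result (X : Type u) [TopologicalSpace X] [SpectralSpace X] :
    ∃ (J : Type u) (_ : Preorder J) (_ : Nonempty J) (_ : IsDirected J (· ≤ ·)) (F : Jᵒᵖ ⥤ TopCat.{u})
      (c : Cone F), Nonempty (IsLimit c) ∧
        (∀ j : Jᵒᵖ, Finite (F.obj j) ∧ T0Space (F.obj j) ∧ QuasiSober (F.obj j)) ∧
        Nonempty (c.pt ≅ TopCat.of X) := by
  classical
  refine ⟨Finset (Groth.Agent.Lib.Helper6.SpecLim.CO X), inferInstance, ⟨∅⟩, inferInstance,
    Groth.Agent.Lib.Helper6.SpecLim.F X, Groth.Agent.Lib.Helper6.SpecLim.cone X,
    ⟨Groth.Agent.Lib.Helper6.SpecLim.isLimitCone⟩, ?_, ⟨Iso.refl _⟩⟩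
  intro j
  refine ⟨Groth.Agent.Lib.Helper6.SpecLim.finite_Fobj j.unop,
    Groth.Agent.Lib.Helper6.SpecLim.t0_Fobj j.unop, ?_⟩
  haveI : Finite ((Groth.Agent.Lib.Helper6.SpecLim.F X).obj j) :=
    Groth.Agent.Lib.Helper6.SpecLim.finite_Fobj j.unop
  exact Groth.Agent.Lib.Helper6.SpecLim.quasiSober_of_finite _

end Groth.Agent.S12462
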