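import Groth.Statements.S12463
import Groth.Agent.Lib.Helper8.Wedge2

set_option autoImplicit false
universe u
open Variety

namespace Groth.Agent.S12463

/-- Let (A, m) be a strictly henselian reduced Nagata local ring of dimension one with δ-invariant equal
to the number of geometric branches minus one, and A' the integral closure of A in its total ring of
fractions. Then A is a wedge of discrete valuation rings: for every maximal ideal m' of A' the
localization A'_{m'} is a discrete valuation ring whose residue field is the image of A, and A
consists exactly of the elements of A' congruent to an element of A modulo every maximal ideal of A'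
(the displayed inclusion; the reverse inclusion is trivial). (The inequality δ ≥ branches − 1 of the
published statement holds for every reduced Nagata local ring of dimension one and is not restated.) -/
theorem result (A : Type u) [CommRing A] [HenselianLocalRing A]
    [IsSepClosed (IsLocalRing.ResidueField A)] [IsReduced A] (hN : CAlg.IsNagata A) (hdim : ringKrullDim A = 1)
    (heq : Curv2.deltaInv A + 1 = Brnch.numGeomBranches A) :
    (∀ m' : MaximalSpectrum ↥(integralClosure A (FractionRing A)),
        (∃ _ : IsDomain (Localization.AtPrime m'.asIdeal), IsDiscreteValuationRing (Localization.AtPrime m'.asIdeal)) ∧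
        Function.Surjective (⇑(IsLocalRing.residue (Localization.AtPrime m'.asIdeal)) ∘
          ⇑(algebraMap ↥(integralClosure A (FractionRing A)) (Localization.AtPrime m'.asIdeal)) ∘
          ⇑(algebraMap A ↥(integralClosure A (FractionRing A))))) ∧
    ∀ a' : ↥(integralClosure A (FractionRing A)),
      (∃ a : A, ∀ m' : MaximalSpectrum ↥(integralClosure A (FractionRing A)),
          a' - algebraMap A _ a ∈ m'.asIdeal) →
      a' ∈ (algebraMap A ↥(integralClosure A (FractionRing A))).range := by
  haveI hNoeth : IsNoetherianRing A := hN.1
  haveI hfin : Module.Finite A (integralClosure A (FractionRing A)) :=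
    Groth.Agent.Helper8.Nag.finite_integralClosure_fractionRing A hN.2
  rw [Groth.Agent.Helper8.Wedge.numGeomBranches_eq_card A] at heq
  obtain ⟨h1, h2⟩ := Groth.Agent.Helper8.Wedge.main A (integralClosure A (FractionRing A)) heq
  refine ⟨fun m' => ⟨?_, ?_⟩, h2⟩
  · haveI := m'.isMaximal
    exact Groth.Agent.Helper8.Wedge.isDiscreteValuationRing_atPrime A hdim m'.asIdeal
  · intro z
    haveI := m'.isMaximal
    obtain ⟨x, hx⟩ := Ideal.algebraMap_residueField_surjective m'.asIdeal z
    obtain ⟨a, ha⟩ := h1 m' x
    refine ⟨a, ?_⟩
    rw [← hx]
    show IsLocalRing.residue (Localization.AtPrime m'.asIdeal)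
        (algebraMap _ (Localization.AtPrime m'.asIdeal)
          (algebraMap A (integralClosure A (FractionRing A)) a)) =
      IsLocalRing.residue (Localization.AtPrime m'.asIdeal)
        (algebraMap _ (Localization.AtPrime m'.asIdeal) x)
    have key := (IsLocalization.AtPrime.to_map_mem_maximal_iff (Localization.AtPrime m'.asIdeal)
      m'.asIdeal _).mpr ha
    rw [map_sub] at key
    rw [eq_comm, ← sub_eq_zero, ← map_sub]
    exact (IsLocalRing.residue_eq_zero_iff _).mpr key

end Groth.Agent.S12463
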