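import Groth.Statements.S12498
import Mathlib
import Groth.Agent.Lib.Helper1.AutDef

set_option autoImplicit false
universe u
open Deform

namespace Groth.Agent.S12498

/-- Let k be an algebraically closed field, A a local Artinian k-algebra with residue field k, and t a
nonzero element of the maximal ideal m_A annihilated by m_A, so that A → A/tA is a small extension.
Let B be a flat A-algebra (a deformation over A of its closed fibre B_0 = B/m_A B), and σ an
A-algebra automorphism of B/tB inducing the identity on B_0. Fix an A-algebra automorphism τ of B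
inducing σ (so τ induces the identity on B_0). Then the A-algebra automorphisms η of B inducing σ
correspond bijectively to the k-derivations d of B_0 through the rule η = τ + t·d, meaning η(b) =
τ(b) + t b′ for all b ∈ B and all b′ ∈ B lifting d applied to the image of b in B_0: every such η
determines a unique d, and every d comes from some such η. (The published statement phrases the
conclusion as a free and transitive action of Der_k(B_0, B_0) on the nonempty set of lifts of σ; the
condition that σ induces the identity on B_0 is expressed here through the chosen lift τ.) -/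
theorem result
    {k : Type u} [Field k] [IsAlgClosed k]
    {A : Type u} [CommRing A] [Algebra k A] [IsLocalRing A] [IsArtinianRing A]
    (hres : ∀ a : A, ∃ c : k, a - algebraMap k A c ∈ IsLocalRing.maximalIdeal A)
    (t : A) (ht : t ∈ IsLocalRing.maximalIdeal A) (ht0 : t ≠ 0)
    (htm : ∀ a ∈ IsLocalRing.maximalIdeal A, a * t = 0)
    {B : Type u} [CommRing B] [Algebra A B] [Module.Flat A B] [Algebra k B] [IsScalarTower k A B]
    (σ : (B ⧸ Ideal.span {algebraMap A B t}) ≃ₐ[A] (B ⧸ Ideal.span {algebraMap A B t}))
    (τ : B ≃ₐ[A] B)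
    (hτ : ∀ b : B, Ideal.Quotient.mk (Ideal.span {algebraMap A B t}) (τ b) =
      σ (Ideal.Quotient.mk (Ideal.span {algebraMap A B t}) b))
    (hτ0 : ∀ b : B, τ b - b ∈ (IsLocalRing.maximalIdeal A).map (algebraMap A B)) :
    (∀ η : B ≃ₐ[A] B, (∀ b : B, Ideal.Quotient.mk (Ideal.span {algebraMap A B t}) (η b) =
        σ (Ideal.Quotient.mk (Ideal.span {algebraMap A B t}) b)) →
      ∃! d : Derivation k (B ⧸ (IsLocalRing.maximalIdeal A).map (algebraMap A B))
          (B ⧸ (IsLocalRing.maximalIdeal A).map (algebraMap A B)),
        ∀ b b' : B, Ideal.Quotient.mk ((IsLocalRing.maximalIdeal A).map (algebraMap A B)) b' =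
            d (Ideal.Quotient.mk ((IsLocalRing.maximalIdeal A).map (algebraMap A B)) b) →
          η b = τ b + algebraMap A B t * b') ∧
    (∀ d : Derivation k (B ⧸ (IsLocalRing.maximalIdeal A).map (algebraMap A B))
        (B ⧸ (IsLocalRing.maximalIdeal A).map (algebraMap A B)),
      ∃ η : B ≃ₐ[A] B, (∀ b : B, Ideal.Quotient.mk (Ideal.span {algebraMap A B t}) (η b) =
          σ (Ideal.Quotient.mk (Ideal.span {algebraMap A B t}) b)) ∧
        ∀ b b' : B, Ideal.Quotient.mk ((IsLocalRing.maximalIdeal A).map (algebraMap A B)) b' =
            d (Ideal.Quotient.mk ((IsLocalRing.maximalIdeal A).map (algebraMap A B)) b) →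
          η b = τ b + algebraMap A B t * b') := by
  constructor
  · intro η hη
    have hητ : ∀ b : B, ∃ b' : B, (η : B →ₐ[A] B) b = (τ : B →ₐ[A] B) b + algebraMap A B t * b' := by
      intro b
      have h0 : Ideal.Quotient.mk (Ideal.span {algebraMap A B t}) (η b - τ b) = 0 := by
        rw [map_sub, hη, hτ, sub_self]
      obtain ⟨c, hc⟩ := Ideal.mem_span_singleton'.mp (Ideal.Quotient.eq_zero_iff_mem.mp h0)
      refine ⟨c, ?_⟩
      show η b = τ b + _
      rw [mul_comm, hc]; ring
    exact Groth.Agent.Helper1.AutDef.part1 (k := k) t ht ht0 htm (η : B →ₐ[A] B) (τ : B →ₐ[A] B)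
      hτ0 hητ
  · intro d
    refine ⟨AlgEquiv.ofBijective (Groth.Agent.Helper1.AutDef.η₀ hres t ht htm τ hτ0 d)
      (Groth.Agent.Helper1.AutDef.η₀_bijective hres t ht htm τ hτ0 d), ?_, ?_⟩
    · intro b
      rw [AlgEquiv.coe_ofBijective, Groth.Agent.Helper1.AutDef.η₀_apply, map_add, hτ]
      have : Ideal.Quotient.mk (Ideal.span {algebraMap A B t})
          (Groth.Agent.Helper1.AutDef.E t d b) = 0 := by
        apply Ideal.Quotient.eq_zero_iff_mem.mpr
        exact Ideal.mul_mem_right _ _ (Ideal.mem_span_singleton_self _)
      rw [this, add_zero]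
    · intro b b' h
      rw [AlgEquiv.coe_ofBijective, Groth.Agent.Helper1.AutDef.η₀_apply,
        Groth.Agent.Helper1.AutDef.E_spec t htm d h]

end Groth.Agent.S12498
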