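import Groth.Statements.S12505
import Mathlib
import Mathlib
import Groth.Agent.Lib.Helper5.Misc.TensorLocal

set_option autoImplicit false
universe u
open CategoryTheory
open ModSite

open CategoryTheory CategoryTheory.Limits

namespace Groth.Agent.S12505

open CategoryTheory.MonoidalCategory in
/-- Let (C, J) be a small site and O a sheaf of commutative rings on it; for presheaves of O-modules M
and N, with u_M : M → aM and u_N : N → aN the unit maps of the sheafification adjunction (aM, aN
regarded as presheaves), the morphism a(u_M ⊗ u_N) from the sheafification of the presheaf tensor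
product M ⊗_p N to the sheafification of aM ⊗_p aN is an isomorphism. -/
theorem result {C : Type u} [SmallCategory C] {J : GrothendieckTopology C}
    (O : Sheaf J CommRingCat.{u})
    (M N : PresheafOfModules.{u} (O.obj ⋙ forget₂ CommRingCat.{u} RingCat.{u})) :
    IsIso ((ModSite.sheafify O).map
      (MonoidalCategoryStruct.tensorHom (C := PresheafOfModules.{u} (O.obj ⋙ forget₂ CommRingCat.{u} RingCat.{u}))
        ((PresheafOfModules.sheafificationAdjunction (𝟙 (ModSite.ringSh O).obj)).unit.app M)
        ((PresheafOfModules.sheafificationAdjunction (𝟙 (ModSite.ringSh O).obj)).unit.app N))) := by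
  have hM : J.W ((PresheafOfModules.toPresheaf (O.obj ⋙ forget₂ CommRingCat RingCat)).map
      ((PresheafOfModules.sheafificationAdjunction (𝟙 (ModSite.ringSh O).obj)).unit.app M)) :=
    J.W_toSheafify M.presheaf
  have hN : J.W ((PresheafOfModules.toPresheaf (O.obj ⋙ forget₂ CommRingCat RingCat)).map
      ((PresheafOfModules.sheafificationAdjunction (𝟙 (ModSite.ringSh O).obj)).unit.app N)) :=
    J.W_toSheafify N.presheaf
  have hW := Groth.Agent.Lib.Helper5.TensorLocal.W_tensorHom J (R := O.obj) N _ _ hM hN
  rw [J.W_iff] at hW
  rw [← isIso_iff_of_reflects_iso _ (SheafOfModules.toSheaf (ModSite.ringSh O))]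
  exact hW

end Groth.Agent.S12505
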