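import Groth.Statements.S12516
import Mathlib
import Groth.Prelude.Def_W4bk4goldsch23Ext
import Groth.Agent.Lib.Helper9.FFExt.Deg
import Groth.Agent.Lib.Helper9.FFExt.RatPlace
import Groth.Agent.Lib.Helper9.FFExt.Const
import Groth.Agent.Lib.Helper9.FFExt.Conorm
-- import your own Groth.Agent.* helpers here

set_option autoImplicit false
open FunFld

namespace Groth.Agent.S12516

open FunFld WithZero
open Groth.Agent.Lib.Helper4.FF Groth.Agent.Helper9.FFExt
namespace Aux

section Parity

variable {F K : Type*} [Field F] [Field K] [Algebra F K] (v : Valuation K ℤᵐ⁰)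

/-- If all nonzero elements of `F` have even valuation, `z² = u ∈ F` is a unit, `2` is a unit and
`z ∉ F`, then every nonzero `α + β z` has even valuation. -/
lemma even_val (hF : ∀ a : F, a ≠ 0 → ∃ n : ℤ, v (algebraMap F K a) = exp (2 * n))
    (z : K) (u : F) (hzu : z ^ 2 = algebraMap F K u) (hz1 : v z = 1) (h2 : v 2 = 1)
    (hzF : ∀ a : F, algebraMap F K a ≠ z) (α β : F)
    (hne : algebraMap F K α + algebraMap F K β * z ≠ 0) :
    ∃ n : ℤ, v (algebraMap F K α + algebraMap F K β * z) = exp (2 * n) := by
  by_cases hβ : β = 0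
  · subst hβ
    have hα : α ≠ 0 := by
      rintro rfl
      simp at hne
    simpa using hF α hα
  by_cases hα : α = 0
  · subst hα
    obtain ⟨n, hn⟩ := hF β hβ
    exact ⟨n, by rw [map_zero, zero_add, map_mul, hz1, mul_one, hn]⟩
  obtain ⟨n, hn⟩ := hF α hα
  obtain ⟨m, hm⟩ := hF β hβ
  have hβz : v (algebraMap F K β * z) = v (algebraMap F K β) := by rw [map_mul, hz1, mul_one]
  rcases lt_trichotomy (v (algebraMap F K α)) (v (algebraMap F K β)) with h | h | h
  · refine ⟨m, ?_⟩
    rw [Valuation.map_add_eq_of_lt_right v (by rw [hβz]; exact h), hβz, hm]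
  · -- equal valuations
    set γ : F := α / β with hγ
    have hγ0 : γ ≠ 0 := div_ne_zero hα hβ
    have hβ' : algebraMap F K β ≠ 0 := by simpa using hβ
    have hvγ : v (algebraMap F K γ) = 1 := by
      rw [hγ, map_div₀, map_div₀, h, div_self]
      rw [hm]; exact exp_ne_zero
    have hfac : algebraMap F K α + algebraMap F K β * z
        = algebraMap F K β * (algebraMap F K γ + z) := by
      rw [hγ, map_div₀]; field_simp
    rw [hfac, map_mul]
    have hle : v (algebraMap F K γ + z) ≤ 1 := by
      exact Valuation.map_add_le v hvγ.le hz1.le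
    rcases hle.lt_or_eq with hlt | heq1
    · -- `γ - z` is a unit
      have hminus : v (algebraMap F K γ - z) = 1 := by
        have h2γ : v (2 * algebraMap F K γ) = 1 := by rw [map_mul, h2, hvγ, mul_one]
        have : algebraMap F K γ - z = -(algebraMap F K γ + z) + 2 * algebraMap F K γ := by ring
        rw [this, Valuation.map_add_eq_of_lt_right v (by rw [Valuation.map_neg, h2γ]; exact hlt), h2γ]
      have hprod : (algebraMap F K γ + z) * (algebraMap F K γ - z)
          = algebraMap F K (γ ^ 2 - u) := by
        rw [map_sub, map_pow, ← hzu]; ring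
      have hne' : γ ^ 2 - u ≠ 0 := by
        intro h0
        rw [h0, map_zero] at hprod
        rcases mul_eq_zero.mp hprod with h1 | h1
        · exact hzF (-γ) (by rw [map_neg]; linear_combination (-1 : K) * h1)
        · exact hzF γ (by linear_combination h1)
      obtain ⟨l, hl⟩ := hF _ hne'
      have : v (algebraMap F K γ + z) = exp (2 * l) := by
        rw [← hl, ← hprod, map_mul, hminus, mul_one]
      refine ⟨m + l, ?_⟩
      rw [this, hm, ← exp_add]; ring_nf
    · exact ⟨m, by rw [heq1, mul_one, hm]⟩
  · refine ⟨n, ?_⟩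
    rw [Valuation.map_add_eq_of_lt_left v (by rw [hβz]; exact h), hn]

end Parity

variable {k K : Type*} [Field k] [Field K] [Algebra k K]
    [Algebra (RatFunc k) K] [IsScalarTower k (RatFunc k) K]

/-- a squarefree polynomial of positive degree is not a square in `k(x)` -/
lemma not_sq (f : Polynomial k) (hf : Squarefree f) (hd : 1 ≤ f.natDegree) (g : RatFunc k)
    (hg : g ^ 2 = algebraMap (Polynomial k) (RatFunc k) f) : False := by
  have hint : IsIntegral (Polynomial k) g := by
    refine ⟨Polynomial.X ^ 2 - Polynomial.C f, Polynomial.monic_X_pow_sub_C f (by norm_num), ?_⟩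
    simp [hg]
  obtain ⟨q, hq⟩ := IsIntegrallyClosed.isIntegral_iff.mp hint
  rw [← hq, ← map_pow] at hg
  have hqf : q ^ 2 = f := IsFractionRing.injective (Polynomial k) (RatFunc k) hg
  have hu : IsUnit q := hf q ⟨1, by rw [mul_one, ← hqf, sq]⟩
  have : f.natDegree = 0 := by
    rw [← hqf]
    exact Polynomial.natDegree_eq_zero_of_isUnit (hu.pow 2)
  omega

theorem main (h2 : ringChar k ≠ 2) (hdeg : Module.finrank (RatFunc k) K = 2) (y : K)
    (f : Polynomial k) (hf : Squarefree f)
    (hd : 1 ≤ f.natDegree)
    (heq : y ^ 2 = algebraMap (RatFunc k) K (algebraMap (Polynomial k) (RatFunc k) f))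
    (Pinf : FunFld.Place k (RatFunc k)) (hinf : Pinf.ord (RatFunc.X : RatFunc k) < 0) :
    (Odd f.natDegree → (∃! P : FunFld.Place k K, FunFld.IsOver P Pinf) ∧
      ∀ P : FunFld.Place k K, FunFld.IsOver P Pinf → FunFld.IsOverWith P Pinf 2 ∧ P.deg = 1) ∧
    (Even f.natDegree → (FunFld.conorm K (Finsupp.single Pinf 1)).deg = 2 ∧
      ∀ P : FunFld.Place k K, FunFld.IsOver P Pinf → FunFld.IsOverWith P Pinf 1) := by
  classical
  have hfin : FiniteDimensional (RatFunc k) K :=
    Module.finite_of_finrank_pos (by rw [hdeg]; norm_num)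
  have hF : IsFunctionField k (RatFunc k) := isFunctionField_ratFunc
  have hX0 : (RatFunc.X : RatFunc k) ≠ 0 := RatFunc.X_ne_zero
  have hX : 1 < Pinf.1 RatFunc.X := (Place.ord_neg_iff Pinf hX0).mp hinf
  have hf0 : f ≠ 0 := by
    rintro rfl
    simp at hd
  have hf0' := algebraMap_poly_ne_zero hf0
  have hordf : Pinf.ord (algebraMap (Polynomial k) (RatFunc k) f) = -(f.natDegree : ℤ) :=
    ord_poly_infty Pinf hX hf0
  -- the infinite place has degree one
  have hdegPinf : Pinf.deg = 1 := by
    have hxt : Transcendental k (RatFunc.X : RatFunc k) := RatFunc.transcendental_X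
    have h1 : Module.finrank (IntermediateField.adjoin k ({RatFunc.X} : Set (RatFunc k)))
        (RatFunc k) = 1 := by
      rw [RatFunc.adjoin_X]
      exact IntermediateField.finrank_top
    have hfd : FiniteDimensional (IntermediateField.adjoin k ({RatFunc.X} : Set (RatFunc k)))
        (RatFunc k) := Module.finite_of_finrank_pos (by rw [h1]; exact Nat.one_pos)
    obtain ⟨hSfin, hS⟩ := poles_deg (k := k) (K' := RatFunc k) hxt
    have hsum := hS hSfin.toFinset (fun Q => by simp)
    rw [h1] at hsum
    have hmem : Pinf ∈ hSfin.toFinset := by simpa using hX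
    have hnonneg : ∀ Q ∈ hSfin.toFinset, 0 ≤ (-Q.ord (RatFunc.X : RatFunc k)) * (Q.deg : ℤ) := by
      intro Q hQ
      have hQ' : 1 < Q.1 (RatFunc.X : RatFunc k) := by simpa using hQ
      have := (Place.ord_neg_iff Q hX0).mpr hQ'
      have h3 : (0 : ℤ) ≤ Q.deg := by positivity
      nlinarith
    have hle := Finset.single_le_sum hnonneg hmem
    rw [hsum, ord_X_infty Pinf hX] at hle
    have hpos := Place.deg_pos hF Pinf
    have : (Pinf.deg : ℤ) ≤ 1 := by simpa using hle
    omega
  -- basic facts for a place above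
  have hbasic : ∀ P : Place k K, IsOver P Pinf →
      (2 * P.ord y = ramIdx P Pinf * (-(f.natDegree : ℤ))) ∧ 0 < ramIdx P Pinf ∧ 0 < P.deg ∧
        ramIdx P Pinf * P.deg ≤ 2 := by
    intro P hP
    have he := isOver_isOverWith hP
    have h1 : P.ord (y ^ 2) = ramIdx P Pinf * (-(f.natDegree : ℤ)) := by
      rw [heq, ow_ord_eq he, hordf]
    rw [Place.ord_pow] at h1
    have h3 := ramIdx_mul_deg_le hF hP
    rw [hdeg, hdegPinf] at h3
    exact ⟨by exact_mod_cast h1, ow_pos he, deg_pos' hF P, by omega⟩
  refine ⟨fun hodd => ?_, fun heven => ?_⟩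
  · have hk : ∀ P : Place k K, IsOver P Pinf → IsOverWith P Pinf 2 ∧ P.deg = 1 := by
      intro P hP
      obtain ⟨h1, h2, h3, h4⟩ := hbasic P hP
      have he := isOver_isOverWith hP
      obtain ⟨m, hm⟩ := hodd
      have he2 : 2 ≤ ramIdx P Pinf := by
        rw [hm] at h1
        push_cast at h1
        by_contra hlt
        have : ramIdx P Pinf = 1 := by omega
        rw [this] at h1
        omega
      have he2' : ramIdx P Pinf = 2 := by
        by_contra hne
        have : 3 ≤ ramIdx P Pinf := by omega
        nlinarith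
      refine ⟨he2' ▸ he, ?_⟩
      rw [he2'] at h4
      omega
    refine ⟨?_, hk⟩
    obtain ⟨P, hP⟩ := exists_over (K' := K) hF Pinf
    refine ⟨P, hP, fun P' hP' => ?_⟩
    by_contra hne
    have h1 := ramIdx_mul_deg_add_le hF hP' hP hne
    rw [ramIdx_eq (hk P hP).1, ramIdx_eq (hk P' hP').1, (hk P hP).2, (hk P' hP').2, hdeg,
      hdegPinf] at h1
    omega
  · obtain ⟨m, hm⟩ := heven
    refine ⟨?_, fun P hP => ?_⟩
    · rw [deg_conorm hF, hdeg]
      unfold Divisor.deg
      rw [Finsupp.sum_single_index (by simp)]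
      simp [hdegPinf]
    · obtain ⟨h1, h2', h3, h4⟩ := hbasic P hP
      have he := isOver_isOverWith hP
      by_contra hne
      have he2 : ramIdx P Pinf = 2 := by
        have h5 : ramIdx P Pinf ≠ 1 := fun h => hne (h ▸ he)
        have h6 : ramIdx P Pinf ≤ 2 := by nlinarith
        omega
      rw [he2] at he
      obtain ⟨Xm, hXm⟩ : ∃ Xm : RatFunc k, Xm = RatFunc.X ^ m := ⟨_, rfl⟩
      have hXm0 : Xm ≠ 0 := hXm ▸ pow_ne_zero _ hX0
      have hXm0' : algebraMap (RatFunc k) K Xm ≠ 0 := by simpa using hXm0
      obtain ⟨u, hu⟩ : ∃ u : RatFunc k, u = algebraMap (Polynomial k) (RatFunc k) f / Xm ^ 2 :=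
        ⟨_, rfl⟩
      obtain ⟨z, hz⟩ : ∃ z : K, z = y / algebraMap (RatFunc k) K Xm := ⟨_, rfl⟩
      have hzu : z ^ 2 = algebraMap (RatFunc k) K u := by
        rw [hz, hu, div_pow, heq, map_div₀, map_pow]
      have hvX0 : Pinf.1 (RatFunc.X : RatFunc k) ≠ 0 := (zero_lt_one.trans hX).ne'
      have hvu : Pinf.1 u = 1 := by
        rw [hu, map_div₀, val_poly_infty Pinf hX hf0, hXm, map_pow, map_pow, ← pow_mul, hm,
          ← two_mul, mul_comm m 2]
        exact div_self (pow_ne_zero _ hvX0)
      have hz1 : P.1 z = 1 := by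
        have h7 : P.1 z ^ 2 = 1 := by
          rw [← map_pow, hzu, he u, hvu, one_pow]
        exact (pow_eq_one_iff_of_nonneg zero_le two_ne_zero).mp h7
      have h2K : P.1 (2 : K) = 1 := by
        have h8 : (2 : k) ≠ 0 := Ring.two_ne_zero h2
        have := Place.val_k P h8
        rwa [map_ofNat] at this
      have hzF : ∀ a : RatFunc k, algebraMap (RatFunc k) K a ≠ z := by
        intro a ha
        refine not_sq f hf hd (a * Xm) ?_
        apply (algebraMap (RatFunc k) K).injective
        rw [map_pow, map_mul, ha, ← heq, hz, div_mul_cancel₀ _ hXm0']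
      have hFe : ∀ a : RatFunc k, a ≠ 0 → ∃ n : ℤ, P.1 (algebraMap (RatFunc k) K a) = exp (2 * n) := by
        intro a ha
        rw [he a, Place.val_eq_exp_neg_ord Pinf ha]
        refine ⟨-Pinf.ord a, ?_⟩
        rw [← exp_nsmul]
        congr 1
      have hli : LinearIndependent (RatFunc k) ![(1 : K), z] := by
        rw [LinearIndependent.pair_iff]
        intro s t hst
        by_cases ht : t = 0
        · subst ht
          simp at hst
          exact ⟨hst, rfl⟩
        · exfalso
          refine hzF (-s / t) ?_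
          rw [Algebra.smul_def, Algebra.smul_def, mul_one] at hst
          have ht' : algebraMap (RatFunc k) K t ≠ 0 := by simpa using ht
          rw [map_div₀, map_neg, div_eq_iff ht']
          linear_combination (-1 : K) * hst
      have hspan := hli.span_eq_top_of_card_eq_finrank' (by simp [hdeg])
      have hrange : Set.range ![(1 : K), z] = {1, z} := by
        ext w
        simp [Set.mem_insert_iff, or_comm]
      rw [hrange] at hspan
      obtain ⟨t, ht⟩ := Place.exists_uniformizer P
      have ht0 : t ≠ 0 := by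
        rintro rfl
        rw [map_zero] at ht
        exact exp_ne_zero ht.symm
      have htm : t ∈ Submodule.span (RatFunc k) ({1, z} : Set K) := by rw [hspan]; trivial
      obtain ⟨α, β, hαβ⟩ := Submodule.mem_span_pair.mp htm
      rw [Algebra.smul_def, Algebra.smul_def, mul_one] at hαβ
      obtain ⟨n, hn⟩ := even_val P.1 hFe z u hzu hz1 h2K hzF α β (hαβ ▸ ht0)
      rw [hαβ, ht] at hn
      have := exp_injective hn
      omega

end Aux

/-- Let `char k ≠ 2`, `K` of degree `2` over `k(x)`, `y ∈ K` with `y² = f(x)` for a squarefree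
polynomial `f` of degree `≥ 1`, and `P∞` the place of `k(x)` at which `x` has a pole. If `deg f` is
odd there is a unique place of `K` above `P∞`; it has ramification index `2` and degree `1`. If `deg
f` is even, every place of `K` above `P∞` is unramified and the conorm of `P∞` has degree `2` (so it
is one place of degree `2` or the sum of two places of degree `1`). -/
theorem result (k K : Type*) [Field k] [Field K] (h2 : ringChar k ≠ 2) [Algebra k K]
    [Algebra (RatFunc k) K] [IsScalarTower k (RatFunc k) K]
    (hdeg : Module.finrank (RatFunc k) K = 2) (y : K) (f : Polynomial k) (hf : Squarefree f)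
    (hd : 1 ≤ f.natDegree)
    (heq : y ^ 2 = algebraMap (RatFunc k) K (algebraMap (Polynomial k) (RatFunc k) f))
    (Pinf : FunFld.Place k (RatFunc k)) (hinf : Pinf.ord (RatFunc.X : RatFunc k) < 0) :
    (Odd f.natDegree → (∃! P : FunFld.Place k K, FunFld.IsOver P Pinf) ∧
      ∀ P : FunFld.Place k K, FunFld.IsOver P Pinf → FunFld.IsOverWith P Pinf 2 ∧ P.deg = 1) ∧
    (Even f.natDegree → (FunFld.conorm K (Finsupp.single Pinf 1)).deg = 2 ∧
      ∀ P : FunFld.Place k K, FunFld.IsOver P Pinf → FunFld.IsOverWith P Pinf 1) := by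
  exact Aux.main h2 hdeg y f hf hd heq Pinf hinf

end Groth.Agent.S12516
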