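import Groth.Statements.S12520
import Mathlib
import Groth.Prelude.Def_W4bk4goldsch23Ext
import Groth.Agent.Lib.Helper9.FFExt.KerD
-- import your own Groth.Agent.* helpers here

set_option autoImplicit false
universe u v
open FunFld

namespace Groth.Agent.S12520

open FunFld
open Groth.Agent.Helper9.FFExt
namespace Aux

theorem main (k₀ k : Type u) (K₀ K : Type v) [Field k₀] [Field k] [Field K₀] [Field K]
    [Algebra k₀ k] [Algebra k₀ K₀] [Algebra k₀ K] [Algebra k K] [Algebra K₀ K]
    [IsScalarTower k₀ k K] [IsScalarTower k₀ K₀ K]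
    (p : ℕ) [Fact p.Prime] [CharP K p]
    (hK : FunFld.IsFunctionField k K) (hg : FunFld.IsGeometric k K)
    (hK₀ : FunFld.IsFunctionField k₀ K₀) (hg₀ : FunFld.IsGeometric k₀ K₀) :
    (Set.range (algebraMap K₀ K) ⊆ ↑(IntermediateField.adjoin k (Set.range fun y : K => y ^ p)) →
      KaehlerDifferential.map k₀ k K₀ K = 0) ∧
    (¬ Set.range (algebraMap K₀ K) ⊆ ↑(IntermediateField.adjoin k (Set.range fun y : K => y ^ p)) →
      Function.Injective (KaehlerDifferential.map k₀ k K₀ K)) := by
  constructor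
  · intro h
    apply LinearMap.ext
    intro ω
    have hω : ω ∈ Submodule.span K₀ (Set.range (KaehlerDifferential.D k₀ K₀)) := by
      rw [KaehlerDifferential.span_range_derivation]; trivial
    induction hω using Submodule.span_induction with
    | mem y hy =>
      obtain ⟨x₀, rfl⟩ := hy
      rw [KaehlerDifferential.map_D, LinearMap.zero_apply]
      exact D_eq_zero_of_mem_adjoin_pow p (h ⟨x₀, rfl⟩)
    | zero => rw [map_zero, map_zero]
    | add a b _ _ ha hb => rw [map_add, ha, hb, map_add]
    | smul c a _ ha => rw [map_smul, ha, map_smul]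
  · intro h
    rw [Set.not_subset] at h
    obtain ⟨_, ⟨x₀, rfl⟩, hx₀⟩ := h
    have hDx : KaehlerDifferential.D k K (algebraMap K₀ K x₀) ≠ 0 := fun h0 =>
      hx₀ (mem_adjoin_pow_of_D_eq_zero hK.1 hg p h0)
    have hDx₀ : KaehlerDifferential.D k₀ K₀ x₀ ≠ 0 := by
      intro h0
      apply hDx
      rw [← KaehlerDifferential.map_D k₀ k K₀ K, h0, map_zero]
    rw [injective_iff_map_eq_zero]
    intro ω hω
    obtain ⟨u, rfl⟩ := exists_eq_smul_D_of_ne_zero hK₀.1 hg₀ hDx₀ ω
    rw [map_smul, KaehlerDifferential.map_D, ← algebraMap_smul K u, smul_eq_zero] at hω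
    rcases hω with h1 | h1
    · rw [(algebraMap K₀ K).injective (h1.trans (map_zero _).symm), zero_smul]
    · exact absurd h1 hDx

end Aux

/-- For a geometric function field of one variable `K/k` of characteristic `p > 0` and a geometric
function field `K₀/k₀` with `K₀ ⊆ K` of finite index (and `k₀ ⊆ k` compatibly), the map `Ω_{K₀/k₀} →
Ω_{K/k}` induced by the inclusion vanishes when `K₀ ⊆ kK^p` and is injective otherwise. -/
theorem result (k₀ k : Type u) (K₀ K : Type v) [Field k₀] [Field k] [Field K₀] [Field K]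
    [Algebra k₀ k] [Algebra k₀ K₀] [Algebra k₀ K] [Algebra k K] [Algebra K₀ K]
    [IsScalarTower k₀ k K] [IsScalarTower k₀ K₀ K] [FiniteDimensional K₀ K]
    (p : ℕ) [Fact p.Prime] [CharP K p]
    (hK : FunFld.IsFunctionField k K) (hg : FunFld.IsGeometric k K)
    (hK₀ : FunFld.IsFunctionField k₀ K₀) (hg₀ : FunFld.IsGeometric k₀ K₀) :
    (Set.range (algebraMap K₀ K) ⊆ ↑(IntermediateField.adjoin k (Set.range fun y : K => y ^ p)) →
      KaehlerDifferential.map k₀ k K₀ K = 0) ∧
    (¬ Set.range (algebraMap K₀ K) ⊆ ↑(IntermediateField.adjoin k (Set.range fun y : K => y ^ p)) →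
      Function.Injective (KaehlerDifferential.map k₀ k K₀ K)) := by
  exact Aux.main k₀ k K₀ K p hK hg hK₀ hg₀

end Groth.Agent.S12520
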