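import Groth.Statements.S12526
import Mathlib
import Groth.Prelude.Def_W4bk4goldsch23FF
import Groth.Prelude.Def_W4bk4goldsch23Ext
import Groth.Agent.Lib.Helper9.FFExt.ConstExt15
-- import your own Groth.Agent.* helpers here

set_option autoImplicit false
universe u v
open FunFld

namespace Groth.Agent.S12526

open FunFld WithZero
open Groth.Agent.Lib.Helper4.FF Groth.Agent.Helper9.FFExt
namespace Aux

/-- lifts of a `k`-basis of the residue field -/
theorem exists_lifts {k K : Type*} [Field k] [Field K] [Algebra k K] (P : Place k K)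
    (hdeg : 0 < P.deg) :
    ∃ (m : ℕ) (lam : Fin m → K), (∀ j, P.1 (lam j) ≤ 1) ∧
      ∀ z : K, P.1 z ≤ 1 → ∃ α : Fin m → k, P.1 (z - ∑ j, α j • lam j) < 1 := by
  have hfin : Module.Finite k (IsLocalRing.ResidueField P.O) := Module.finite_of_finrank_pos hdeg
  let bF := Module.finBasis k (IsLocalRing.ResidueField P.O)
  have hl : ∀ j, ∃ z : P.O, Place.resₗ P z = bF j := fun j => Place.resₗ_surjective P _
  choose lam hlam using hl
  refine ⟨_, fun j => (lam j : K), fun j => (Place.mem_O_iff P).mp (lam j).2, ?_⟩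
  intro z hz
  let z' : P.O := ⟨z, (Place.mem_O_iff P).mpr hz⟩
  refine ⟨fun j => bF.repr (Place.resₗ P z') j, ?_⟩
  have h1 : Place.resₗ P (z' - ∑ j, bF.repr (Place.resₗ P z') j • lam j) = 0 := by
    rw [map_sub, map_sum]
    have : ∑ j, Place.resₗ P (bF.repr (Place.resₗ P z') j • lam j) =
        ∑ j, bF.repr (Place.resₗ P z') j • bF j :=
      Finset.sum_congr rfl fun j _ => by rw [map_smul, hlam]
    rw [this]
    exact sub_eq_zero.mpr (bF.sum_repr _).symm
  rw [Place.resₗ_eq_zero_iff] at h1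
  have h2 : ((z' - ∑ j, bF.repr (Place.resₗ P z') j • lam j : P.O) : K) =
      z - ∑ j, bF.repr (Place.resₗ P z') j • (lam j : K) := by
    change Place.inclₗ P (z' - ∑ j, bF.repr (Place.resₗ P z') j • lam j) = _
    rw [map_sub, map_sum]
    have : ∑ j, Place.inclₗ P (bF.repr (Place.resₗ P z') j • lam j) =
        ∑ j, bF.repr (Place.resₗ P z') j • (lam j : K) :=
      Finset.sum_congr rfl fun j _ => by rw [map_smul]; rfl
    rw [this]
    rfl
  rw [h2] at h1
  exact h1

/-- truncated expansions in `O_P` -/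
theorem exists_decomp {k K : Type*} [Field k] [Field K] [Algebra k K] (P : Place k K)
    {m : ℕ} (lam : Fin m → K)
    (hres : ∀ z : K, P.1 z ≤ 1 → ∃ α : Fin m → k, P.1 (z - ∑ j, α j • lam j) < 1)
    (π : K) (hπ : P.1 π = exp (-1 : ℤ)) (N : ℕ) (z : K) (hz : P.1 z ≤ 1) :
    ∃ v ∈ Submodule.span k (Set.range fun p : Fin N × Fin m => π ^ (p.1 : ℕ) * lam p.2),
      ∃ z' : K, P.1 z' ≤ 1 ∧ z = v + π ^ N * z' := by
  have hπ0 : π ≠ 0 := by
    rintro rfl
    rw [map_zero] at hπ
    exact absurd hπ.symm exp_ne_zero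
  induction N with
  | zero => exact ⟨0, Submodule.zero_mem _, z, hz, by simp⟩
  | succ N ih =>
    obtain ⟨v, hv, z', hz', hzv⟩ := ih
    obtain ⟨α, hα⟩ := hres z' hz'
    refine ⟨v + ∑ j, α j • (π ^ N * lam j), Submodule.add_mem _ ?_ ?_,
      (z' - ∑ j, α j • lam j) / π, ?_, ?_⟩
    · refine Submodule.span_mono ?_ hv
      rintro _ ⟨p, rfl⟩
      exact ⟨(p.1.castSucc, p.2), rfl⟩
    · refine Submodule.sum_mem _ fun j _ => Submodule.smul_mem _ _ (Submodule.subset_span ?_)
      exact ⟨(Fin.last N, j), by simp⟩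
    · rw [map_div₀, hπ]
      rw [div_le_one₀ exp_pos]
      exact lt_one_iff_le_exp_neg_one.mp hα
    · rw [hzv, pow_succ]
      have : π ^ N * π * ((z' - ∑ j, α j • lam j) / π) = π ^ N * (z' - ∑ j, α j • lam j) := by
        field_simp
      rw [this, mul_sub, Finset.mul_sum]
      simp_rw [mul_smul_comm]
      ring

theorem main (k k' : Type u) (K K' : Type v) [Field k] [Field k'] [Field K] [Field K']
    [Algebra k k'] [FiniteDimensional k k'] [Algebra k K] [Algebra K K'] [Algebra k' K'] [Algebra k K']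
    [IsScalarTower k k' K'] [IsScalarTower k K K']
    (h : Function.Bijective (Algebra.TensorProduct.productMap
      (IsScalarTower.toAlgHom k k' K') (IsScalarTower.toAlgHom k K K')))
    (hK : FunFld.IsFunctionField k K)
    (P : FunFld.Place k K) [Algebra P.O K'] [IsScalarTower P.O K K'] :
    (∃ V : Submodule k K', FiniteDimensional k V ∧ ∀ r ∈ integralClosure P.O K',
        ∃ s ∈ Algebra.adjoin P.O (Set.range (algebraMap k' K')), r - s ∈ V) ∧
    (∃ c ∈ integralClosure P.O K', c ≠ 0 ∧ ∀ r ∈ integralClosure P.O K',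
        c * r ∈ Algebra.adjoin P.O (Set.range (algebraMap k' K'))) := by
  classical
  have hfin := finite_of_bij h
  obtain ⟨Bi, hBi1, hBi2⟩ := exists_integral_basis (K' := K') hK.1 P
  let b := Module.finBasis k k'
  obtain ⟨B, hB⟩ : ∃ B, B = constBasis h b := ⟨_, rfl⟩
  obtain ⟨π, hπ⟩ := Place.exists_uniformizer P
  have hπ0 : π ≠ 0 := by
    rintro rfl
    rw [map_zero] at hπ
    exact absurd hπ.symm exp_ne_zero
  have hmemR : ∀ r : K', r ∈ integralClosure P.O K' ↔
      ∀ Q : Place k K', IsOver Q P → Q.1 r ≤ 1 := fun r => isIntegral_iff hK.1 P r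
  have hmemA : ∀ s : K', s ∈ Algebra.adjoin P.O (Set.range (algebraMap k' K')) ↔
      ∀ j, P.1 (B.repr s j) ≤ 1 := by
    intro s
    rw [← Subalgebra.mem_toSubring, adjoin_toSubring_eq (k' := k') P, hB,
      mem_OPk_iff h b P P.2.1]
  -- a bound for the denominators
  obtain ⟨M0, hM0⟩ := ((Finset.univ ×ˢ Finset.univ).image
    fun p : Fin (Module.finrank K K') × Fin (Module.finrank k k') =>
      log (P.1 (B.repr (Bi p.1) p.2))).exists_le
  obtain ⟨N, hNdef⟩ : ∃ N : ℕ, N = M0.toNat := ⟨_, rfl⟩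
  have hN : ∀ i j, P.1 (π ^ N * B.repr (Bi i) j) ≤ 1 := by
    intro i j
    have h1 : P.1 (B.repr (Bi i) j) ≤ exp (N : ℤ) := by
      apply le_exp_of_log_le
      have := hM0 _ (Finset.mem_image.mpr ⟨(i, j),
        Finset.mem_product.mpr ⟨Finset.mem_univ i, Finset.mem_univ j⟩, rfl⟩)
      rw [hNdef]
      exact this.trans (Int.self_le_toNat M0)
    rw [map_mul, map_pow, hπ, exp_neg_one_pow]
    calc exp (-(N : ℤ)) * P.1 (B.repr (Bi i) j) ≤ exp (-(N : ℤ)) * exp (N : ℤ) :=
          mul_le_mul' le_rfl h1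
      _ = 1 := by rw [← exp_add, neg_add_cancel, exp_zero]
  have hcond : ∀ r' : K', (∀ Q : Place k K', IsOver Q P → Q.1 r' ≤ 1) →
      ∀ j, P.1 (B.repr (algebraMap K K' (π ^ N) * r') j) ≤ 1 := by
    intro r' hr' j
    have hz := hBi2 r' hr'
    have h1 : B.repr r' j = ∑ i, Bi.repr r' i * B.repr (Bi i) j := by
      conv_lhs => rw [← Bi.sum_repr r']
      rw [map_sum, Finset.sum_apply']
      refine Finset.sum_congr rfl fun i _ => ?_
      rw [map_smul, Finsupp.smul_apply, smul_eq_mul]
    rw [← Algebra.smul_def, map_smul, Finsupp.smul_apply, smul_eq_mul, h1, Finset.mul_sum]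
    apply Valuation.map_sum_le
    intro i _
    have : π ^ N * (Bi.repr r' i * B.repr (Bi i) j) =
        Bi.repr r' i * (π ^ N * B.repr (Bi i) j) := by ring
    rw [this, map_mul]
    exact mul_le_one' (hz i) (hN i j)
  have hπN : ∀ (Q : Place k K'), IsOver Q P → Q.1 (algebraMap K K' (π ^ N)) ≤ 1 := by
    rintro Q ⟨e, he⟩
    rw [ow_le_one_iff he, map_pow, hπ]
    refine pow_le_one' ?_ _
    rw [← exp_zero, exp_le_exp]; omega
  constructor
  · obtain ⟨m, lam, hlam, hres⟩ := exists_lifts P (deg_pos_w hK.1 P)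
    refine ⟨Submodule.span k (Set.range fun q : (Fin N × Fin m) × Fin (Module.finrank K K') =>
      algebraMap K K' (π ^ (q.1.1 : ℕ) * lam q.1.2) * Bi q.2),
      FiniteDimensional.span_of_finite k (Set.finite_range _), ?_⟩
    intro r hr
    have hr' := (hmemR r).mp hr
    have hz := hBi2 r hr'
    have hdec := fun i => exists_decomp P lam hres π hπ N (Bi.repr r i) (hz i)
    choose v hv z' hz' hzv using hdec
    have hr'' : ∀ Q : Place k K', IsOver Q P → Q.1 (∑ i, z' i • Bi i) ≤ 1 := by
      intro Q hQ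
      apply Valuation.map_sum_le
      intro i _
      obtain ⟨e, he⟩ := hQ
      rw [Algebra.smul_def, map_mul]
      exact mul_le_one' ((ow_le_one_iff he _).mpr (hz' i)) (hBi1 i Q ⟨e, he⟩)
    refine ⟨algebraMap K K' (π ^ N) * ∑ i, z' i • Bi i, (hmemA _).mpr (hcond _ hr''), ?_⟩
    have hdiff : r - algebraMap K K' (π ^ N) * ∑ i, z' i • Bi i = ∑ i, v i • Bi i := by
      conv_lhs => rw [← Bi.sum_repr r]
      rw [Finset.mul_sum, ← Finset.sum_sub_distrib]
      refine Finset.sum_congr rfl fun i _ => ?_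
      conv_lhs => rw [hzv i]
      rw [add_smul, ← Algebra.smul_def, smul_smul]
      abel
    rw [hdiff]
    refine Submodule.sum_mem _ fun i _ => ?_
    have hgen : ∀ x ∈ Submodule.span k
        (Set.range fun p : Fin N × Fin m => π ^ (p.1 : ℕ) * lam p.2),
        x • Bi i ∈ Submodule.span k (Set.range
          fun q : (Fin N × Fin m) × Fin (Module.finrank K K') =>
            algebraMap K K' (π ^ (q.1.1 : ℕ) * lam q.1.2) * Bi q.2) := by
      intro x hx
      induction hx using Submodule.span_induction with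
      | mem x hx =>
        obtain ⟨p, rfl⟩ := hx
        refine Submodule.subset_span ⟨(p, i), ?_⟩
        rw [Algebra.smul_def]
      | zero => rw [zero_smul]; exact Submodule.zero_mem _
      | add x y _ _ hx hy => rw [add_smul]; exact Submodule.add_mem _ hx hy
      | smul c x _ hx => rw [smul_assoc]; exact Submodule.smul_mem _ c hx
    exact hgen _ (hv i)
  · refine ⟨algebraMap K K' (π ^ N), (hmemR _).mpr hπN, ?_, ?_⟩
    · rw [Ne, map_eq_zero]
      exact pow_ne_zero _ hπ0
    · intro r hr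
      exact (hmemA _).mpr (hcond r ((hmemR r).mp hr))

end Aux

/-- Let `K/k` be a geometric function field of one variable, `P` a place of `K`, `k'/k` finite and `K' =
k' ⊗_k K`; let `R` be the integral closure of `O_P` in `K'` and `R̃ = k' ⊗_k O_P = O_P[k']`. Then
`R/R̃` is finite-dimensional over `k`, and `R̃` contains a nonzero ideal of `R`. -/
theorem result (k k' : Type u) (K K' : Type v) [Field k] [Field k'] [Field K] [Field K']
    [Algebra k k'] [FiniteDimensional k k'] [Algebra k K] [Algebra K K'] [Algebra k' K'] [Algebra k K']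
    [IsScalarTower k k' K'] [IsScalarTower k K K']
    (h : Function.Bijective (Algebra.TensorProduct.productMap
      (IsScalarTower.toAlgHom k k' K') (IsScalarTower.toAlgHom k K K')))
    (hK : FunFld.IsFunctionField k K) (hg : FunFld.IsGeometric k K)
    (P : FunFld.Place k K) [Algebra P.O K'] [IsScalarTower P.O K K'] :
    (∃ V : Submodule k K', FiniteDimensional k V ∧ ∀ r ∈ integralClosure P.O K',
        ∃ s ∈ Algebra.adjoin P.O (Set.range (algebraMap k' K')), r - s ∈ V) ∧
    (∃ c ∈ integralClosure P.O K', c ≠ 0 ∧ ∀ r ∈ integralClosure P.O K',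
        c * r ∈ Algebra.adjoin P.O (Set.range (algebraMap k' K'))) := by
  exact Aux.main k k' K K' h hK P

end Groth.Agent.S12526
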