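import Groth.Statements.S12527
import Mathlib
import Groth.Prelude.Def_W4bk4goldsch23Ext
import Groth.Agent.Lib.Helper9.FFExt.GenusDrop5
-- import your own Groth.Agent.* helpers here

set_option autoImplicit false
universe u v
open scoped TensorProduct
open FunFld

namespace Groth.Agent.S12527

open scoped TensorProduct
open FunFld WithZero
open Groth.Agent.Lib.Helper4.FF Groth.Agent.Helper9.FFExt Groth.Agent.Helper9.GenusDrop
namespace Aux

theorem main (k : Type u) (K : Type v) [Field k] [Field K] [Algebra k K]
    (hK : FunFld.IsFunctionField k K) (hg : FunFld.IsGeometric k K) :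
    {P : FunFld.Place k K | ∃ (k' : Type u) (_ : Field k') (_ : Algebra k k'), FiniteDimensional k k' ∧
      integralClosure (P.O.toSubring.map (Algebra.TensorProduct.includeRight : K →ₐ[k] k' ⊗[k] K).toRingHom) (k' ⊗[k] K) ≠
        Algebra.adjoin (P.O.toSubring.map (Algebra.TensorProduct.includeRight : K →ₐ[k] k' ⊗[k] K).toRingHom)
          (Set.range (Algebra.TensorProduct.includeLeftRingHom : k' →+* k' ⊗[k] K))}.Finite := by
  apply (finite_sing hK hg).subset
  rintro P ⟨k', _, _, hfin, hne⟩
  haveI := hfin
  obtain ⟨K', _, _, _, _, _, _, h⟩ := exists_constExt k K hg k'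
  refine ⟨k', inferInstance, inferInstance, hfin, K', inferInstance, inferInstance, inferInstance,
    inferInstance, inferInstance, inferInstance, h, ?_⟩
  intro hns
  apply hne
  haveI : FiniteDimensional K K' := finite_of_bij h
  have h1 := (ns_iff_subring (k' := k') hK.1 P (fun Q c =>
    val_le_one_of_isAlgebraic Q ((Algebra.IsAlgebraic.isAlgebraic c).algebraMap))).mpr hns
  let e : k' ⊗[k] K ≃+* K' := (S11006aux.e h).toRingEquiv
  have he : ∀ t, e t = S11006aux.e h t := fun _ => rfl
  refine (integralClosure_eq_adjoin_iff e _ _ _ _ ?_ ?_).mpr h1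
  · rw [Subring.map_map]
    congr 1
    ext z
    change algebraMap K K' z = e ((1 : k') ⊗ₜ[k] z)
    rw [he, S11006aux.e_tmul, map_one, one_mul]
  · rw [← Set.range_comp]
    congr 1
    ext c
    change algebraMap k' K' c = e (c ⊗ₜ[k] (1 : K))
    rw [he, S11006aux.e_tmul, map_one, mul_one]

end Aux

/-- A geometric function field of one variable `K/k` has at most finitely many singular places, i.e.
places `P` for which, for some finite extension `k'/k`, the integral closure of `O_P` in `k' ⊗_k K`
is strictly larger than `k' ⊗_k O_P`. The existence of a purely inseparable finite `k'` making `k'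
⊗_k K` nonsingular is not stated. -/
theorem result (k : Type u) (K : Type v) [Field k] [Field K] [Algebra k K]
    (hK : FunFld.IsFunctionField k K) (hg : FunFld.IsGeometric k K) :
    {P : FunFld.Place k K | ∃ (k' : Type u) (_ : Field k') (_ : Algebra k k'), FiniteDimensional k k' ∧
      integralClosure (P.O.toSubring.map (Algebra.TensorProduct.includeRight : K →ₐ[k] k' ⊗[k] K).toRingHom) (k' ⊗[k] K) ≠
        Algebra.adjoin (P.O.toSubring.map (Algebra.TensorProduct.includeRight : K →ₐ[k] k' ⊗[k] K).toRingHom)
          (Set.range (Algebra.TensorProduct.includeLeftRingHom : k' →+* k' ⊗[k] K))}.Finite := by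
  exact Aux.main k K hK hg

end Groth.Agent.S12527
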