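import Groth.Statements.S12532
import Mathlib
import Groth.Agent.Lib.Helper4.FF.ProjMap9
import Groth.Agent.S11075

set_option autoImplicit false
open FunFld
open Groth.Agent.Lib.Helper4.FF

namespace Groth.Agent.S12532

/-- Over an algebraically closed field `k`, let `φ = (φ₀, …, φₙ)`, `n ≥ 1`, be a birational projective
map of the function field `K/k` and `P` a place with image point `a = φ(P)`. Then for some `N`,
every `z ∈ K` with `ord_Q z ≥ N` at all places `Q` over `a` belongs to the local ring `O_a` of `φ`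
at `P` (quotients of polynomials in the ratios `φᵢ/φⱼ` with denominator a unit at `P`). (The
published statement asserts that each nonzero ideal of `O_a` includes some nonzero ideal of the
integral closure `R_a`, with `R_a/I` finite-dimensional; this row states the inclusion the printed
proof establishes, from which those follow.) -/
theorem result (k K : Type*) [Field k] [IsAlgClosed k] [Field K] [Algebra k K]
    (hK : FunFld.IsFunctionField k K) {n : ℕ} (hn : 1 ≤ n)
    (φ : Fin (n + 1) → K) (hφ : LinearIndependent k φ)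
    (hbir : IntermediateField.adjoin k (Set.range fun i => φ i / φ 0) = ⊤) (P : FunFld.Place k K) :
    ∃ N : ℕ, ∀ z : K, (∀ Q : FunFld.Place k K, FunFld.SameImage φ P Q → Q.1 z ≤ WithZero.exp (-(N : ℤ))) →
      FunFld.InLocRing φ P z := by
  classical
  have hφ0 : ∀ i, φ i ≠ 0 := fun i => hφ.ne_zero i
  have hres : ∀ (R : Place k K) (z : K), R.1 z ≤ 1 → ∃ c : k, R.1 (z - algebraMap k K c) < 1 :=
    fun R z hz => Place.exists_const_sub_lt R (Place.deg_eq_one hK R) hz
  have hpos : ∀ (R : Place k K) (i : Fin (n + 1)), 0 < R.1 (φ i) := fun R i =>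
    zero_lt_iff.mpr ((Valuation.ne_zero_iff _).mpr (hφ0 i))
  obtain ⟨j, hleast⟩ := exists_least φ P
  have hj := hφ0 j
  set A : Subalgebra k K := ratioAlg φ j with hA
  obtain ⟨x, hxA, hpoles⟩ := exists_generic_ratio hK φ hφ0 j
  have htop : IntermediateField.adjoin k (Set.range fun i => φ i / φ j) = ⊤ := by
    rw [eq_top_iff, ← hbir, IntermediateField.adjoin_le_iff]
    rintro _ ⟨i, rfl⟩
    have e : φ i / φ 0 = (φ i / φ j) / (φ 0 / φ j) := by field_simp
    change φ i / φ 0 ∈ IntermediateField.adjoin k (Set.range fun i => φ i / φ j)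
    rw [e]
    exact div_mem (IntermediateField.subset_adjoin k _ ⟨i, rfl⟩)
      (IntermediateField.subset_adjoin k _ ⟨0, rfl⟩)
  have hfrac : ∀ b : K, ∃ u ∈ A, ∃ w ∈ A, w ≠ 0 ∧ b * w = u := by
    intro b
    have hb : b ∈ IntermediateField.adjoin k (Set.range fun i => φ i / φ j) := by
      rw [htop]; trivial
    obtain ⟨r, hr, s, hs, e⟩ := IntermediateField.mem_adjoin_iff_div.mp hb
    by_cases hs0 : s = 0
    · refine ⟨0, A.zero_mem, 1, A.one_mem, one_ne_zero, ?_⟩
      rw [e, hs0, div_zero, zero_mul]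
    · exact ⟨r, hr, s, hs, hs0, by rw [e]; field_simp⟩
  have hxt : Transcendental k x := by
    apply transcendental_of_notMem hK
    rintro ⟨c, rfl⟩
    have hAk : ∀ a ∈ A, a ∈ Set.range (algebraMap k K) := by
      intro a ha
      apply mem_range_of_forall_le_one hK
      intro Q
      by_contra h
      push Not at h
      exact absurd (hpoles a ha Q h) (not_lt.mpr (Place.val_k_le Q c))
    obtain ⟨⟨y, hyt, -⟩, -⟩ := hK
    obtain ⟨u, hu, w, hw, hw0, e⟩ := hfrac y
    obtain ⟨cu, rfl⟩ := hAk u hu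
    obtain ⟨cw, rfl⟩ := hAk w hw
    apply hyt
    have hy : y = algebraMap k K (cu / cw) := by
      rw [map_div₀, eq_div_iff hw0]
      exact e
    rw [hy]
    exact isAlgebraic_algebraMap _
  have hx0 : x ≠ 0 := by
    rintro rfl
    exact hxt isAlgebraic_zero
  obtain ⟨w₀, hw₀A, hw₀0, hcond⟩ := exists_conductor_elt hK A hxA hxt hfrac
  have hSfin : {Q : Place k K | SameImage φ P Q}.Finite :=
    (Groth.Agent.S11075.result k K hK hn φ hφ).2 P
  set N : ℕ := ∑ Q ∈ hSfin.toFinset, (Q.ord w₀).toNat with hN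
  refine ⟨N, fun z hz => ?_⟩
  rw [inLocRing_iff hj hleast]
  have hEpos : ∀ Q : Place k K, 1 < Q.1 x → 0 < (poleDiv x : Divisor k K) Q := by
    intro Q hQ
    rw [poleDiv_apply hK]
    have := (Place.ord_neg_iff Q hx0).mpr hQ
    exact lt_max_of_lt_left (by omega)
  have hApoles : ∀ a ∈ A, a ∈ polesIn (poleDiv x : Divisor k K) (poleDiv_nonneg x) := fun a ha =>
    mem_polesIn_of_poles hK (poleDiv_nonneg x) (fun Q hQ => hEpos Q (hpoles a ha Q hQ))
  set y := z / w₀ with hy
  have hsep : ∀ Q : Place k K, 1 < Q.1 y → Q.1 x ≤ 1 → ∃ f ∈ A, P.1 f = 1 ∧ Q.1 f < 1 := by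
    intro Q hQy hQx
    have hQA : ∀ a ∈ A, Q.1 a ≤ 1 := by
      intro a ha
      by_contra h
      push Not at h
      exact absurd (hpoles a ha Q h) (not_lt.mpr hQx)
    have hleastQ : ∀ i, Q.1 (φ i) ≤ Q.1 (φ j) := by
      intro i
      have := hQA _ (ratio_mem_ratioAlg φ j i)
      rw [map_div₀] at this
      rwa [div_le_one₀ (hpos Q j)] at this
    have hQS : ¬ SameImage φ P Q := by
      intro hS
      have h1 := hz Q hS
      have hQmem : Q ∈ hSfin.toFinset := by
        rw [Set.Finite.mem_toFinset]; exact hS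
      have h2 : (Q.ord w₀).toNat ≤ N :=
        Finset.single_le_sum (f := fun Q : Place k K => (Q.ord w₀).toNat)
          (fun _ _ => Nat.zero_le _) hQmem
      have h3 : WithZero.exp (-(N : ℤ)) ≤ Q.1 w₀ := by
        rw [Place.val_eq_exp_neg_ord Q hw₀0, WithZero.exp_le_exp]
        have := Int.self_le_toNat (Q.ord w₀)
        have : ((Q.ord w₀).toNat : ℤ) ≤ N := by exact_mod_cast h2
        omega
      have h4 : Q.1 y ≤ 1 := by
        rw [hy, map_div₀]
        exact div_le_one_of_le₀ (h1.trans h3) zero_le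
      exact absurd h4 (not_le.mpr hQy)
    have hno : ¬ ∀ i, ∃ c : k, P.1 (φ i / φ j - algebraMap k K c) < 1 ∧
        Q.1 (φ i / φ j - algebraMap k K c) < 1 := fun h =>
      hQS ⟨j, hj, hleast, hleastQ, h⟩
    push Not at hno
    obtain ⟨i, hi⟩ := hno
    obtain ⟨cP, hcP⟩ := hres P _ (val_ratio_le_one hleast i)
    obtain ⟨cQ, hcQ⟩ := hres Q _ (val_ratio_le_one hleastQ i)
    have hcne : cP ≠ cQ := by
      intro h
      rw [← h] at hcQ
      exact absurd hcQ (not_lt.mpr (hi cP hcP))
    refine ⟨φ i / φ j - algebraMap k K cQ,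
      Subalgebra.sub_mem _ (ratio_mem_ratioAlg φ j i) (Subalgebra.algebraMap_mem _ cQ), ?_, hcQ⟩
    have e : φ i / φ j - algebraMap k K cQ =
        algebraMap k K (cP - cQ) + (φ i / φ j - algebraMap k K cP) := by
      rw [map_sub]; ring
    rw [e, Valuation.map_add_eq_of_lt_left]
    · exact Place.val_k P (sub_ne_zero.mpr hcne)
    · rw [Place.val_k P (sub_ne_zero.mpr hcne)]
      exact hcP
  obtain ⟨w, hwA, hw1, m, hm⟩ := exists_unit_mul_mem_L hK P A hx0 hApoles y hsep
  refine ⟨w₀ * (y * w), hcond m _ hm, w, hwA, hw1, ?_⟩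
  rw [hy]
  field_simp

end Groth.Agent.S12532
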