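import Groth.Statements.S12535
import Mathlib
import Groth.Prelude.Def_W4bk4goldsch23Ext
import Groth.Agent.Lib.Helper9.FFExt.Deg
import Groth.Agent.Lib.Helper9.FFExt.RatPlace
import Groth.Agent.S11034
-- import your own Groth.Agent.* helpers here

set_option autoImplicit false
open FunFld

namespace Groth.Agent.S12535

open FunFld WithZero
open Groth.Agent.Lib.Helper4.FF Groth.Agent.Helper9.FFExt
namespace Aux

variable {k K : Type*} [Field k] [Field K] [Algebra k K]
    [Algebra (RatFunc k) K] [IsScalarTower k (RatFunc k) K]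

/-- a polynomial vanishing at a finite place has an irreducible factor vanishing there -/
lemma exists_irreducible_factor_lt_one (P₀ : Place k (RatFunc k)) (hX : P₀.1 RatFunc.X ≤ 1)
    (q : Polynomial k) :
    q ≠ 0 → P₀.1 (algebraMap (Polynomial k) (RatFunc k) q) < 1 →
      ∃ p : Polynomial k, Irreducible p ∧ p ∣ q ∧
        P₀.1 (algebraMap (Polynomial k) (RatFunc k) p) < 1 := by
  induction q using WfDvdMonoid.induction_on_irreducible with
  | zero => intro h; exact absurd rfl h
  | unit u hu =>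
    intro _ hlt
    obtain ⟨c, hc, rfl⟩ := Polynomial.isUnit_iff.mp hu
    have hc0 : c ≠ 0 := hc.ne_zero
    have hCc : algebraMap (Polynomial k) (RatFunc k) (Polynomial.C c) = algebraMap k (RatFunc k) c := by
      rw [RatFunc.algebraMap_C, RatFunc.algebraMap_eq_C]
    rw [hCc, Place.val_k P₀ hc0] at hlt
    exact absurd hlt (lt_irrefl _)
  | mul a i ha hi ih =>
    intro _ hlt
    rw [map_mul, map_mul] at hlt
    by_cases h1 : P₀.1 (algebraMap (Polynomial k) (RatFunc k) i) < 1
    · exact ⟨i, hi, dvd_mul_right i a, h1⟩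
    · have h2 : P₀.1 (algebraMap (Polynomial k) (RatFunc k) i) = 1 :=
        le_antisymm (val_poly_le_one P₀ hX i) (not_lt.mp h1)
      rw [h2, one_mul] at hlt
      obtain ⟨p, hp, hpa, hpv⟩ := ih ha hlt
      exact ⟨p, hp, hpa.mul_left i, hpv⟩

theorem main (hdeg : Module.finrank (RatFunc k) K = 2) (y : K) (f : Polynomial k) (hf : Squarefree f)
    (hd : 1 ≤ f.natDegree)
    (heq : y ^ 2 = algebraMap (RatFunc k) K (algebraMap (Polynomial k) (RatFunc k) f))
    (P : FunFld.Place k K) :
    (0 < P.ord y → P.ord y = 1) ∧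
    (0 < P.ord y ↔ ∃ P₀ : FunFld.Place k (RatFunc k), FunFld.IsOver P P₀ ∧
      0 ≤ P₀.ord (RatFunc.X : RatFunc k) ∧
      0 < P₀.ord (algebraMap (Polynomial k) (RatFunc k) f)) := by
  have hfin : FiniteDimensional (RatFunc k) K :=
    Module.finite_of_finrank_pos (by rw [hdeg]; norm_num)
  have hf0 : f ≠ 0 := by
    rintro rfl
    simp at hd
  have hf0' := algebraMap_poly_ne_zero hf0
  obtain ⟨P₀, e, he⟩ := exists_below' (K := RatFunc k) P
  have hepos : (0 : ℤ) < e := by exact_mod_cast ow_pos he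
  have hord : 2 * P.ord y = e * P₀.ord (algebraMap (Polynomial k) (RatFunc k) f) := by
    have := congrArg P.ord heq
    rw [Place.ord_pow, ow_ord_eq he] at this
    exact_mod_cast this
  have hforward : 0 < P.ord y → IsOver P P₀ ∧ 0 ≤ P₀.ord (RatFunc.X : RatFunc k) ∧
      0 < P₀.ord (algebraMap (Polynomial k) (RatFunc k) f) := by
    intro hy
    have h1 : 0 < P₀.ord (algebraMap (Polynomial k) (RatFunc k) f) := by
      by_contra hle
      push Not at hle
      nlinarith
    have h2 : P₀.1 (algebraMap (Polynomial k) (RatFunc k) f) < 1 :=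
      (Place.ord_pos_iff P₀ hf0').mp h1
    have hX := val_X_le_one_of_lt_one P₀ hf0 h2
    exact ⟨⟨e, he⟩, (Place.ord_nonneg_iff P₀ RatFunc.X_ne_zero).mpr hX, h1⟩
  refine ⟨fun hy => ?_, ⟨fun hy => ⟨P₀, hforward hy⟩, ?_⟩⟩
  · obtain ⟨hP, hX, h1⟩ := hforward hy
    have h2 : P₀.1 (algebraMap (Polynomial k) (RatFunc k) f) < 1 :=
      (Place.ord_pos_iff P₀ hf0').mp h1
    have hX' := (Place.ord_nonneg_iff P₀ RatFunc.X_ne_zero).mp hX
    obtain ⟨p, hp, hpf, hpv⟩ := exists_irreducible_factor_lt_one P₀ hX' f hf0 h2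
    exact (Groth.Agent.S11034.Aux.key hdeg y f hf heq p hp hpf P₀ hpv P hP).2.2
  · rintro ⟨P₁, hP₁, -, h1⟩
    have : P₁ = P₀ := isOver_unique hP₁ ⟨e, he⟩
    subst this
    nlinarith

end Aux

/-- Let `char k ≠ 2`, `K` of degree `2` over `k(x)`, and `y ∈ K` with `y² = f(x)`, `f` a squarefree
polynomial of degree `≥ 1`. Then a place `P` of `K` is a zero of `y` exactly when it lies over a
finite place of `k(x)` where `f` has a zero, and in that case `ord_P(y) = 1`: the divisor of zeros
of `y` is `Σ P_i`, one place over each irreducible factor of `f`, with multiplicity one. -/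
theorem result (k K : Type*) [Field k] [Field K] (h2 : ringChar k ≠ 2) [Algebra k K]
    [Algebra (RatFunc k) K] [IsScalarTower k (RatFunc k) K]
    (hdeg : Module.finrank (RatFunc k) K = 2) (y : K) (f : Polynomial k) (hf : Squarefree f)
    (hd : 1 ≤ f.natDegree)
    (heq : y ^ 2 = algebraMap (RatFunc k) K (algebraMap (Polynomial k) (RatFunc k) f)) (P : FunFld.Place k K) :
    (0 < P.ord y → P.ord y = 1) ∧
    (0 < P.ord y ↔ ∃ P₀ : FunFld.Place k (RatFunc k), FunFld.IsOver P P₀ ∧ 0 ≤ P₀.ord (RatFunc.X : RatFunc k) ∧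
      0 < P₀.ord (algebraMap (Polynomial k) (RatFunc k) f)) := by
  exact Aux.main hdeg y f hf hd heq P

end Groth.Agent.S12535
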