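import Groth.Statements.S12545
import Mathlib
import Groth.Agent.Lib.Helper9.MuLib
-- import your own Groth.Agent.* helpers here

set_option autoImplicit false
universe u
open TensorProduct LaurentPolynomial
open GIT

namespace Groth.Agent.S12545

namespace Aux
open TensorProduct LaurentPolynomial Groth.Agent.Helper9.MuLib

section
variable {k : Type u} [Field k] {A : Type u} [CommRing A] [Bialgebra k A]
  {ι : Type u} [Fintype ι] [HopfRep.Comod k A (MvPolynomial ι k)]
  [GLin.IsCoactAlg k A (MvPolynomial ι k)]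

lemma hasLimit_iff (lam : A →ₐc[k] k[T;T⁻¹]) (v : ι → k) :
    GLin.HasLimit k A lam (GLin.vecPt k ι v) ↔
      ∃ g : ι → Polynomial k, ∀ i, Polynomial.toLaurent (g i) = pc lam v i := by
  constructor
  · rintro ⟨h, hh⟩
    refine ⟨fun i => h (MvPolynomial.X i), fun i => ?_⟩
    have := congrArg (fun φ : MvPolynomial ι k →ₐ[k] k[T;T⁻¹] => φ (MvPolynomial.X i)) hh
    exact this
  · rintro ⟨g, hg⟩
    refine ⟨MvPolynomial.aeval g, ?_⟩
    apply MvPolynomial.algHom_ext
    intro j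
    rw [AlgHom.comp_apply, MvPolynomial.aeval_X]
    exact hg j

lemma isLimit_zero_iff (lam : A →ₐc[k] k[T;T⁻¹]) (v : ι → k) :
    GLin.IsLimit k A lam (GLin.vecPt k ι v) (GLin.vecPt k ι (fun _ => (0 : k))) ↔
      ∃ g : ι → Polynomial k, (∀ i, Polynomial.toLaurent (g i) = pc lam v i) ∧
        ∀ i, (g i).coeff 0 = 0 := by
  constructor
  · rintro ⟨h, hh, h0⟩
    refine ⟨fun i => h (MvPolynomial.X i), fun i => ?_, fun i => ?_⟩
    · have := congrArg (fun φ : MvPolynomial ι k →ₐ[k] k[T;T⁻¹] => φ (MvPolynomial.X i)) hh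
      exact this
    · have := congrArg (fun φ : MvPolynomial ι k →ₐ[k] k => φ (MvPolynomial.X i)) h0
      simp only [AlgHom.comp_apply, MvPolynomial.aeval_X] at this
      rw [Polynomial.coeff_zero_eq_aeval_zero]
      exact this
  · rintro ⟨g, hg, h0⟩
    refine ⟨MvPolynomial.aeval g, ?_, ?_⟩
    · apply MvPolynomial.algHom_ext
      intro j
      rw [AlgHom.comp_apply, MvPolynomial.aeval_X]
      exact hg j
    · apply MvPolynomial.algHom_ext
      intro j
      rw [AlgHom.comp_apply, MvPolynomial.aeval_X, MvPolynomial.aeval_X,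
        ← Polynomial.coeff_zero_eq_aeval_zero]
      exact h0 j

lemma coeff_zero_X_pow_mul (e : ℕ) (he : e ≠ 0) (g : Polynomial k) :
    (Polynomial.X ^ e * g).coeff 0 = 0 := by
  rw [Polynomial.mul_coeff_zero, Polynomial.coeff_X_pow, if_neg (Ne.symm he), zero_mul]

theorem main (lam : A →ₐc[k] k[T;T⁻¹]) (v : ι → k) (hv : v ≠ 0) :
    (¬ GLin.HasLimit k A lam (GLin.vecPt k ι v) ↔ ∃ m : ℤ, GLin.IsMu k A lam v m ∧ 0 < m) ∧
      ((GLin.HasLimit k A lam (GLin.vecPt k ι v) ∧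
          ¬ GLin.IsLimit k A lam (GLin.vecPt k ι v) (GLin.vecPt k ι (fun _ => (0 : k)))) ↔
        GLin.IsMu k A lam v 0) ∧
      (GLin.IsLimit k A lam (GLin.vecPt k ι v) (GLin.vecPt k ι (fun _ => (0 : k))) ↔
        ∃ m : ℤ, GLin.IsMu k A lam v m ∧ m < 0) := by
  obtain ⟨m₀, hm₀⟩ := exists_isMu lam v hv
  obtain ⟨g₀, hg₀, i₀, hi₀⟩ := (isMu_iff lam v m₀).mp hm₀
  -- if m₀ ≤ 0 the orbit has a limit, given by `X ^ (-m₀) * g₀`
  have hlim : m₀ ≤ 0 → ∀ i, Polynomial.toLaurent (Polynomial.X ^ (-m₀).toNat * g₀ i) = pc lam v i := by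
    intro hle i
    rw [← T_mul_toLaurent (-m₀) (by omega), hg₀ i, T_mul_cancel]
  refine ⟨⟨?_, ?_⟩, ⟨?_, ?_⟩, ⟨?_, ?_⟩⟩
  · intro hno
    refine ⟨m₀, hm₀, ?_⟩
    by_contra hle
    push Not at hle
    exact hno ((hasLimit_iff lam v).mpr ⟨_, hlim hle⟩)
  · rintro ⟨m, hm, hpos⟩ hhas
    obtain ⟨g, hg⟩ := (hasLimit_iff lam v).mp hhas
    obtain ⟨g', hg', i, hi⟩ := (isMu_iff lam v m).mp hm
    apply hi
    have h1 : Polynomial.toLaurent (g i) = T 0 * pc lam v i := by rw [T_zero, one_mul]; exact hg i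
    rw [eq_X_pow_mul (pc lam v i) 0 m hpos.le (g i) (g' i) h1 (hg' i)]
    exact coeff_zero_X_pow_mul _ (by omega) _
  · rintro ⟨hhas, hnot⟩
    obtain ⟨g, hg⟩ := (hasLimit_iff lam v).mp hhas
    rw [isMu_iff]
    refine ⟨g, fun i => by rw [T_zero, one_mul]; exact hg i, ?_⟩
    by_contra hcon
    push Not at hcon
    exact hnot ((isLimit_zero_iff lam v).mpr ⟨g, hg, hcon⟩)
  · intro hmu
    obtain ⟨g, hg, i, hi⟩ := (isMu_iff lam v 0).mp hmu
    have hg' : ∀ i, Polynomial.toLaurent (g i) = pc lam v i := by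
      intro i
      have := hg i
      rwa [T_zero, one_mul] at this
    refine ⟨(hasLimit_iff lam v).mpr ⟨g, hg'⟩, ?_⟩
    intro hlim0
    obtain ⟨g', hg'', h0⟩ := (isLimit_zero_iff lam v).mp hlim0
    apply hi
    have : g i = g' i := by
      apply Polynomial.toLaurent_injective
      rw [hg' i, hg'' i]
    rw [this]
    exact h0 i
  · intro hlim0
    obtain ⟨g, hg, h0⟩ := (isLimit_zero_iff lam v).mp hlim0
    refine ⟨m₀, hm₀, ?_⟩
    by_contra hge
    push Not at hge
    apply hi₀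
    have h1 : Polynomial.toLaurent (g i₀) = T 0 * pc lam v i₀ := by
      rw [T_zero, one_mul]; exact hg i₀
    rw [eq_X_pow_mul (pc lam v i₀) 0 m₀ hge (g i₀) (g₀ i₀) h1 (hg₀ i₀), Polynomial.mul_coeff_zero,
      h0 i₀, mul_zero]
  · rintro ⟨m, hm, hneg⟩
    obtain ⟨g, hg, _⟩ := (isMu_iff lam v m).mp hm
    rw [isLimit_zero_iff]
    refine ⟨fun i => Polynomial.X ^ (-m).toNat * g i, fun i => ?_, fun i => ?_⟩
    · rw [← T_mul_toLaurent (-m) (by omega), hg i, T_mul_cancel]
    · exact coeff_zero_X_pow_mul _ (by omega) _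

end
end Aux

/-- Let a commutative bialgebra A over a field k coact linearly on affine ι-space, let λ be a
one-parameter subgroup (a bialgebra map to the Laurent polynomial ring) and v ≠ 0 a vector; write
μ(v, λ) = m when t^m · (v moved by λ(t)) extends to the affine line with non-zero value at t = 0.
Then v moved by λ(t) has no limit as t → 0 exactly when μ(v, λ) > 0, has a limit different from the
origin exactly when μ(v, λ) = 0, and tends to the origin exactly when μ(v, λ) < 0. -/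
theorem result (k : Type u) [Field k] (A : Type u) [CommRing A] [Bialgebra k A]
    (ι : Type u) [Fintype ι] [HopfRep.Comod k A (MvPolynomial ι k)] [GLin.IsCoactAlg k A (MvPolynomial ι k)]
    (hlin : GLin.IsLinear k A ι) (lam : A →ₐc[k] k[T;T⁻¹]) (v : ι → k) (hv : v ≠ 0) :
    (¬ GLin.HasLimit k A lam (GLin.vecPt k ι v) ↔ ∃ m : ℤ, GLin.IsMu k A lam v m ∧ 0 < m) ∧
      ((GLin.HasLimit k A lam (GLin.vecPt k ι v) ∧
          ¬ GLin.IsLimit k A lam (GLin.vecPt k ι v) (GLin.vecPt k ι (fun _ => (0 : k)))) ↔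
        GLin.IsMu k A lam v 0) ∧
      (GLin.IsLimit k A lam (GLin.vecPt k ι v) (GLin.vecPt k ι (fun _ => (0 : k))) ↔
        ∃ m : ℤ, GLin.IsMu k A lam v m ∧ m < 0) := by
  exact Aux.main lam v hv

end Groth.Agent.S12545
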