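import Groth.Statements.S12550
import Mathlib.Tactic.Linarith
import Mathlib.LinearAlgebra.FiniteDimensional.Lemmas
import Mathlib.Data.Set.Card

set_option autoImplicit false
universe u
open GIT

namespace Groth.Agent.S12550

/-- Let V be a finite-dimensional vector space over a field K and x_0, …, x_m non-zero vectors, a
configuration of m + 1 points of the projective space P(V). If for every subspace L with 0 ≠ L ≠ V
the number of indices i with x_i ∈ L, multiplied by dim V, is less than dim L · (m + 1) (the
configuration is stable), then no two proper subspaces L', L'' with L' ∩ L'' = 0 contain between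
them all the x_i. -/
theorem result (K : Type u) [Field K]
    (V : Type u) [AddCommGroup V] [Module K V] [FiniteDimensional K V]
    (m : ℕ) (x : Fin (m + 1) → V) (hx : ∀ i, x i ≠ 0)
    (hst : ∀ L : Submodule K V, L ≠ ⊥ → L ≠ ⊤ →
      Set.ncard {i : Fin (m + 1) | x i ∈ L} * Module.finrank K V < Module.finrank K L * (m + 1)) :
    ¬ ∃ L' L'' : Submodule K V, L' ≠ ⊤ ∧ L'' ≠ ⊤ ∧ Disjoint L' L'' ∧ ∀ i, x i ∈ L' ∨ x i ∈ L'' := by
  rintro ⟨L', L'', h1, h2, hd, hcov⟩
  set A : Set (Fin (m + 1)) := {i | x i ∈ L'} with hA
  set B : Set (Fin (m + 1)) := {i | x i ∈ L''} with hB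
  have hAB : A ∪ B = Set.univ := by
    ext i
    simp only [Set.mem_union, Set.mem_univ, iff_true]
    exact hcov i
  have hcard : m + 1 ≤ A.ncard + B.ncard := by
    have h := Set.ncard_union_le A B
    rw [hAB, Set.ncard_univ, Nat.card_fin] at h
    exact h
  have hdim : Module.finrank K L' + Module.finrank K L'' ≤ Module.finrank K V :=
    Submodule.finrank_add_finrank_le_of_disjoint hd
  have hle' : Module.finrank K L' ≤ Module.finrank K V := Submodule.finrank_le L'
  have hle'' : Module.finrank K L'' ≤ Module.finrank K V := Submodule.finrank_le L''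
  by_cases hb1 : L' = ⊥
  · have hAe : A = ∅ := by
      ext i
      simp only [hA, Set.mem_ofPred_eq, Set.mem_empty_iff_false, iff_false, hb1,
        Submodule.mem_bot]
      exact hx i
    have hBu : B = Set.univ := by rw [← hAB, hAe, Set.empty_union]
    have hne : L'' ≠ ⊥ := by
      intro h
      have h0 : x 0 ∈ L'' := by
        have : (0 : Fin (m + 1)) ∈ B := by rw [hBu]; trivial
        exact this
      rw [h, Submodule.mem_bot] at h0
      exact hx 0 h0
    have := hst L'' hne h2
    rw [show {i : Fin (m + 1) | x i ∈ L''} = B from rfl, hBu, Set.ncard_univ, Nat.card_fin] at this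
    nlinarith
  by_cases hb2 : L'' = ⊥
  · have hBe : B = ∅ := by
      ext i
      simp only [hB, Set.mem_ofPred_eq, Set.mem_empty_iff_false, iff_false, hb2,
        Submodule.mem_bot]
      exact hx i
    have hAu : A = Set.univ := by rw [← hAB, hBe, Set.union_empty]
    have := hst L' hb1 h1
    rw [show {i : Fin (m + 1) | x i ∈ L'} = A from rfl, hAu, Set.ncard_univ, Nat.card_fin] at this
    nlinarith
  have e1 := hst L' hb1 h1
  have e2 := hst L'' hb2 h2
  rw [show {i : Fin (m + 1) | x i ∈ L'} = A from rfl] at e1
  rw [show {i : Fin (m + 1) | x i ∈ L''} = B from rfl] at e2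
  nlinarith

end Groth.Agent.S12550
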