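import Groth.Statements.S12553
import Mathlib
import Groth.Agent.Lib.Helper9.MuLib
import Groth.Agent.Lib.Helper9.GroupLikeBasis
-- import your own Groth.Agent.* helpers here

set_option autoImplicit false
universe u
open TensorProduct LaurentPolynomial
open GIT

namespace Groth.Agent.S12553

namespace Aux
open TensorProduct LaurentPolynomial Groth.Agent.Helper9 Groth.Agent.Helper9.MuLib

section Basis
variable {k : Type u} [Field k] {A : Type u} [CommRing A] [Bialgebra k A]
  {ι : Type u} [Fintype ι] [HopfRep.Comod k A (MvPolynomial ι k)]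
  [GLin.IsCoactAlg k A (MvPolynomial ι k)]
variable {G : Type u} (b : Module.Basis G k A)
variable (M : ι → ι → A)

/-- coefficients of the matrix entries on the basis -/
noncomputable def c (i j : ι) (g : G) : k := b.repr (M i j) g

variable (hM : ∀ i, HopfRep.Comod.coact (k := k) (A := A) (MvPolynomial.X i : MvPolynomial ι k) =
      ∑ j, (MvPolynomial.X j : MvPolynomial ι k) ⊗ₜ[k] M i j)
include hM

lemma wcomp_X (i : ι) (g : G) :
    wcomp b (MvPolynomial.X i : MvPolynomial ι k) g =
      ∑ j, c b M i j g • (MvPolynomial.X j : MvPolynomial ι k) := by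
  rw [wcomp_apply_eq_slice, hM, map_sum]
  refine Finset.sum_congr rfl (fun j _ => ?_)
  rw [slice_tmul]
  rfl

open Classical in
lemma c_mul (hb : ∀ g, IsGroupLikeElem k (b g)) (i j' : ι) (g g' : G) :
    ∑ j, c b M i j g * c b M j j' g' = if g = g' then c b M i j' g else 0 := by
  classical
  have h := wcomp_wcomp b hb (MvPolynomial.X i : MvPolynomial ι k) g
  have h2 : MvPolynomial.coeff (Finsupp.single j' 1)
      (wcomp b (wcomp b (MvPolynomial.X i : MvPolynomial ι k) g) g') =
      MvPolynomial.coeff (Finsupp.single j' 1)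
        (Finsupp.single g (wcomp b (MvPolynomial.X i : MvPolynomial ι k) g) g') := by rw [h]
  have hcoef : ∀ (a : ι → k), MvPolynomial.coeff (Finsupp.single j' 1)
      (∑ j, a j • (MvPolynomial.X j : MvPolynomial ι k)) = a j' := by
    intro a
    rw [MvPolynomial.coeff_sum]
    simp only [MvPolynomial.coeff_smul, MvPolynomial.coeff_X, smul_eq_mul]
    rw [Finset.sum_eq_single j']
    · simp
    · intro j _ hj
      rw [if_neg, mul_zero]
      intro h
      exact hj (Finsupp.single_left_injective one_ne_zero h)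
    · intro h; exact absurd (Finset.mem_univ _) h
  rw [wcomp_X b M hM i g, map_sum, Finsupp.finsetSum_apply] at h2
  simp only [map_smul, Finsupp.smul_apply] at h2
  have h3 : ∀ j, c b M i j g • (wcomp b (MvPolynomial.X j : MvPolynomial ι k) g') =
      ∑ j'', (c b M i j g * c b M j j'' g') • (MvPolynomial.X j'' : MvPolynomial ι k) := by
    intro j
    rw [wcomp_X b M hM j g', Finset.smul_sum]
    refine Finset.sum_congr rfl (fun j'' _ => ?_)
    rw [smul_smul]
  simp only [h3] at h2
  rw [Finset.sum_comm] at h2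
  simp only [← Finset.sum_smul] at h2
  rw [hcoef] at h2
  rw [h2, Finsupp.single_apply]
  split_ifs with hg
  · exact hcoef _
  · simp

end Basis

section Main
variable {k : Type u} [Field k] {A : Type u} [CommRing A] [Bialgebra k A]
  {ι : Type u} [Fintype ι] [HopfRep.Comod k A (MvPolynomial ι k)]
  [GLin.IsCoactAlg k A (MvPolynomial ι k)]
variable {N : ℕ} (χ : Fin N → A) (M : ι → ι → A) (d : ι → ι → Fin N → k)

/-- weight components of the vector `v` -/
def uN (v : ι → k) (n : Fin N) (i : ι) : k := ∑ j, d i j n * v j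

variable (hχ : ∀ n, IsGroupLikeElem k (χ n))
  (hM : ∀ i, HopfRep.Comod.coact (k := k) (A := A) (MvPolynomial.X i : MvPolynomial ι k) =
      ∑ j, (MvPolynomial.X j : MvPolynomial ι k) ⊗ₜ[k] M i j)
  (hd : ∀ i j, M i j = ∑ n, d i j n • χ n)
  (hdd : ∀ i j' n n', ∑ j, d i j n * d j j' n' = if n = n' then d i j' n else 0)

include hM hd in
lemma orbit_X (v : ι → k) (i : ι) :
    GLin.orbitHom k A (GLin.vecPt k ι v) (MvPolynomial.X i) = ∑ n, uN d v n i • χ n := by
  show Algebra.TensorProduct.lid k A
    (Algebra.TensorProduct.map (GLin.vecPt k ι v) (AlgHom.id k A)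
      (HopfRep.Comod.coact (k := k) (A := A) (MvPolynomial.X i : MvPolynomial ι k))) = _
  rw [hM, map_sum, map_sum]
  have h1 : ∀ j, Algebra.TensorProduct.lid k A
      (Algebra.TensorProduct.map (GLin.vecPt k ι v) (AlgHom.id k A)
        ((MvPolynomial.X j : MvPolynomial ι k) ⊗ₜ[k] M i j)) = ∑ n, (d i j n * v j) • χ n := by
    intro j
    rw [Algebra.TensorProduct.map_tmul, Algebra.TensorProduct.lid_tmul, AlgHom.id_apply,
      MvPolynomial.aeval_X, hd, Finset.smul_sum]
    refine Finset.sum_congr rfl (fun n _ => ?_)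
    rw [smul_smul, mul_comm]
  simp only [h1]
  rw [Finset.sum_comm]
  refine Finset.sum_congr rfl (fun n _ => ?_)
  rw [← Finset.sum_smul]
  rfl

include hχ hM hd in
lemma sum_uN (v : ι → k) (i : ι) : ∑ n, uN d v n i = v i := by
  have h1 := congrArg (Coalgebra.counit (R := k) (A := A)) (orbit_X χ M d hM hd v i)
  rw [OrbitLib.orbitHom_eq_coeff, counit_coeff] at h1
  have h2 : (GLin.vecPt k ι v).toLinearMap (MvPolynomial.X i) = v i := by
    show MvPolynomial.aeval v (MvPolynomial.X i) = v i
    rw [MvPolynomial.aeval_X]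
  rw [h2, map_sum] at h1
  rw [h1]
  refine Finset.sum_congr rfl (fun n _ => ?_)
  rw [map_smul, (hχ n).counit_eq_one, smul_eq_mul, mul_one]

include hdd in
lemma proj_uN (v : ι → k) (n₀ n : Fin N) (i : ι) :
    ∑ j, d i j n₀ * uN d v n j = if n₀ = n then uN d v n₀ i else 0 := by
  unfold uN
  simp only [Finset.mul_sum, ← mul_assoc]
  rw [Finset.sum_comm]
  simp only [← Finset.sum_mul, hdd]
  split_ifs with h
  · rfl
  · simp

include hM hd in
lemma pc_eq (lam : A →ₐc[k] k[T;T⁻¹]) (e : Fin N → ℤ) (he : ∀ n, lam (χ n) = T (e n))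
    (v : ι → k) (i : ι) :
    pc lam v i = ∑ n, LaurentPolynomial.C (uN d v n i) * T (e n) := by
  show lam (GLin.orbitHom k A (GLin.vecPt k ι v) (MvPolynomial.X i)) = _
  rw [orbit_X χ M d hM hd v i, map_sum]
  refine Finset.sum_congr rfl (fun n _ => ?_)
  rw [map_smul, he, Algebra.smul_def]
  rfl

include hM hd hdd in
theorem mu_of (lam : A →ₐc[k] k[T;T⁻¹]) (e : Fin N → ℤ) (he : ∀ n, lam (χ n) = T (e n))
    (v : ι → k) (m : ℤ)
    (h1 : ∀ n, uN d v n ≠ 0 → -e n ≤ m) (h2 : ∃ n, uN d v n ≠ 0 ∧ m = -e n) :
    GLin.IsMu k A lam v m := by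
  classical
  rw [isMu_iff]
  let I : Finset (Fin N) := Finset.univ.filter (fun n => uN d v n ≠ 0)
  have hpc : ∀ i, pc lam v i = ∑ n ∈ I, LaurentPolynomial.C (uN d v n i) * T (e n) := by
    intro i
    rw [pc_eq χ M d hM hd lam e he v i, Finset.sum_filter]
    refine Finset.sum_congr rfl (fun n _ => ?_)
    split_ifs with h
    · rfl
    · push Not at h
      rw [h]
      simp
  refine ⟨fun i => ∑ n ∈ I, Polynomial.C (uN d v n i) * Polynomial.X ^ (m + e n).toNat, ?_, ?_⟩
  · intro i
    rw [hpc i, map_sum, Finset.mul_sum]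
    refine Finset.sum_congr rfl (fun n hn => ?_)
    have hn' : uN d v n ≠ 0 := (Finset.mem_filter.mp hn).2
    have := h1 n hn'
    rw [map_mul, map_pow, Polynomial.toLaurent_C, Polynomial.toLaurent_X, T_pow, mul_one,
      Int.toNat_of_nonneg (by omega), T_add]
    ring
  · obtain ⟨n₀, hn₀, hm⟩ := h2
    by_contra hcon
    push Not at hcon
    apply hn₀
    let I' : Finset (Fin N) := I.filter (fun n => m + e n = 0)
    have hn₀I' : n₀ ∈ I' := by
      refine Finset.mem_filter.mpr ⟨Finset.mem_filter.mpr ⟨Finset.mem_univ _, hn₀⟩, ?_⟩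
      omega
    have hsum : ∀ j, ∑ n ∈ I', uN d v n j = 0 := by
      intro j
      have := hcon j
      rw [Polynomial.finsetSum_coeff] at this
      rw [Finset.sum_filter]
      refine Eq.trans (Finset.sum_congr rfl (fun n hn => ?_)) this
      have hn' : uN d v n ≠ 0 := (Finset.mem_filter.mp hn).2
      have hle := h1 n hn'
      rw [Polynomial.coeff_C_mul, Polynomial.coeff_X_pow]
      by_cases h0 : m + e n = 0
      · rw [if_pos h0, h0]
        simp
      · rw [if_neg h0, if_neg (by omega), mul_zero]
    funext i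
    have h3 := proj_uN d hdd v n₀
    have h4 : ∑ j, d i j n₀ * (∑ n ∈ I', uN d v n j) = uN d v n₀ i := by
      simp only [Finset.mul_sum]
      rw [Finset.sum_comm]
      simp only [h3]
      rw [Finset.sum_ite_eq I' n₀, if_pos hn₀I']
    rw [← h4]
    simp only [hsum, mul_zero, Finset.sum_const_zero]
    rfl

end Main

section Final
variable {k : Type u} [Field k] {A : Type u} [CommRing A] [HopfAlgebra k A]
  {ι : Type u} [Fintype ι] [HopfRep.Comod k A (MvPolynomial ι k)]
  [GLin.IsCoactAlg k A (MvPolynomial ι k)]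

theorem main (hdiag : HopfRep.IsDiagonalizable k A) (hlin : GLin.IsLinear k A ι) :
    ∃ (N : ℕ) (χ : Fin N → A), (∀ j, IsGroupLikeElem k (χ j)) ∧
      ∀ v : ι → k, v ≠ 0 → ∃ I : Finset (Fin N), I.Nonempty ∧
        ∀ (lam : A →ₐc[k] k[T;T⁻¹]) (e : Fin N → ℤ), (∀ j, lam (χ j) = LaurentPolynomial.T (e j)) →
          ∀ m : ℤ, GLin.IsMu k A lam v m ↔ ((∀ j ∈ I, -e j ≤ m) ∧ ∃ j ∈ I, m = -e j) := by
  classical
  have hD' : Submodule.span k {a : A | IsGroupLikeElem k a} = ⊤ := hdiag
  have hli : LinearIndependent k (fun g : {a : A // IsGroupLikeElem k a} => (g.1 : A)) :=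
    linearIndepOn_isGroupLikeElem (R := k) (A := A)
  have hspan : ⊤ ≤ Submodule.span k
      (Set.range (fun g : {a : A // IsGroupLikeElem k a} => (g.1 : A))) := by
    rw [Subtype.range_coe_subtype]
    exact hD'.ge
  let b : Module.Basis {a : A // IsGroupLikeElem k a} k A := Module.Basis.mk hli hspan
  have hb : ∀ g, IsGroupLikeElem k (b g) := fun g => by
    rw [Module.Basis.mk_apply hli hspan g]; exact g.2
  choose M hM using hlin
  let S : Finset {a : A // IsGroupLikeElem k a} :=
    Finset.univ.biUnion (fun i => Finset.univ.biUnion (fun j => (b.repr (M i j)).support))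
  let enum : Fin S.card ≃ S := S.equivFin.symm
  let χ : Fin S.card → A := fun n => b (enum n)
  let d : ι → ι → Fin S.card → k := fun i j n => c b M i j (enum n)
  have hχ : ∀ n, IsGroupLikeElem k (χ n) := fun n => hb _
  have hd : ∀ i j, M i j = ∑ n, d i j n • χ n := by
    intro i j
    have h1 : M i j = (b.repr (M i j)).sum (fun g a => a • b g) := by
      rw [← Finsupp.linearCombination_apply, b.linearCombination_repr]
    have hsub : (b.repr (M i j)).support ⊆ S := by
      intro g hg
      exact Finset.mem_biUnion.mpr ⟨i, Finset.mem_univ _, Finset.mem_biUnion.mpr ⟨j, Finset.mem_univ _, hg⟩⟩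
    rw [Finsupp.sum_of_support_subset _ hsub _ (by intros; simp)] at h1
    rw [h1, ← Finset.sum_coe_sort S, ← Equiv.sum_comp enum]
    rfl
  have hdd : ∀ i j' n n', ∑ j, d i j n * d j j' n' = if n = n' then d i j' n else 0 := by
    intro i j' n n'
    have h := c_mul b M hM hb i j' (enum n : {a : A // IsGroupLikeElem k a}) (enum n')
    show ∑ j, c b M i j (enum n) * c b M j j' (enum n') = _
    rw [h]
    by_cases hn : n = n'
    · rw [if_pos hn, if_pos (by rw [hn])]
    · rw [if_neg hn, if_neg]
      intro h'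
      exact hn (enum.injective (Subtype.ext h'))
  refine ⟨S.card, χ, hχ, ?_⟩
  intro v hv
  let I : Finset (Fin S.card) := Finset.univ.filter (fun n => uN d v n ≠ 0)
  have hmemI : ∀ n, n ∈ I ↔ uN d v n ≠ 0 := fun n => by
    simp only [I, Finset.mem_filter, Finset.mem_univ, true_and]
  have hI : I.Nonempty := by
    by_contra hne
    rw [Finset.not_nonempty_iff_eq_empty] at hne
    apply hv
    funext i
    rw [← sum_uN χ M d hχ hM hd v i]
    apply Finset.sum_eq_zero
    intro n _
    have : uN d v n = 0 := by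
      by_contra h
      have : n ∈ I := (hmemI n).mpr h
      rw [hne] at this
      exact absurd this (Finset.notMem_empty _)
    rw [this]
    rfl
  refine ⟨I, hI, ?_⟩
  intro lam e he m
  constructor
  · intro hmu
    obtain ⟨n₀, hn₀, hmax⟩ := Finset.exists_max_image I (fun n => -e n) hI
    have hmu' : GLin.IsMu k A lam v (-e n₀) :=
      mu_of χ M d hM hd hdd lam e he v (-e n₀) (fun n hn => hmax n ((hmemI n).mpr hn))
        ⟨n₀, (hmemI n₀).mp hn₀, rfl⟩
    have hmm := isMu_unique lam v m (-e n₀) hmu hmu'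
    rw [hmm]
    exact ⟨fun j hj => hmax j hj, n₀, hn₀, rfl⟩
  · rintro ⟨h1, n₀, hn₀, hm⟩
    exact mu_of χ M d hM hd hdd lam e he v m (fun n hn => h1 n ((hmemI n).mpr hn))
      ⟨n₀, (hmemI n₀).mp hn₀, hm⟩

end Final
end Aux

/-- Let k be a field and T = Spec A a diagonalizable affine group (A a commutative Hopf algebra spanned
by its group-like elements, e.g. a torus) acting linearly on affine ι-space. Then there are finitely
many characters χ_1, …, χ_N of T (group-like elements of A) such that every vector v ≠ 0 has a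
non-empty set I of indices for which, for every one-parameter subgroup λ of T with λ(χ_j) = t^(e_j),
the numerical function μ(v, λ) (the m for which t^m · (v moved by λ(t)) tends to a non-zero vector)
equals the maximum of −e_j over j ∈ I: μ is the maximum of finitely many linear functionals on
one-parameter subgroups. (The published proposition concerns a maximal torus of a reductive group
acting on a proper scheme with an ample linearised invertible sheaf; this row is the case of
projective space with the hyperplane bundle, for any diagonalizable group acting linearly, stated on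
the affine cone.) -/
theorem result (k : Type u) [Field k]
    (A : Type u) [CommRing A] [HopfAlgebra k A] (hdiag : HopfRep.IsDiagonalizable k A)
    (ι : Type u) [Fintype ι] [HopfRep.Comod k A (MvPolynomial ι k)] [GLin.IsCoactAlg k A (MvPolynomial ι k)]
    (hlin : GLin.IsLinear k A ι) :
    ∃ (N : ℕ) (χ : Fin N → A), (∀ j, IsGroupLikeElem k (χ j)) ∧
      ∀ v : ι → k, v ≠ 0 → ∃ I : Finset (Fin N), I.Nonempty ∧
        ∀ (lam : A →ₐc[k] k[T;T⁻¹]) (e : Fin N → ℤ), (∀ j, lam (χ j) = LaurentPolynomial.T (e j)) →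
          ∀ m : ℤ, GLin.IsMu k A lam v m ↔ ((∀ j ∈ I, -e j ≤ m) ∧ ∃ j ∈ I, m = -e j) := by
  exact Aux.main hdiag hlin

end Groth.Agent.S12553
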