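import Groth.Statements.S12570
import Mathlib
import Groth.Prelude.Def_W4bk4goldsch23Ext
import Groth.Prelude.Def_LocRes
import Groth.Agent.Lib.Helper9.FFExt.LocRes2
import Groth.Agent.Lib.Helper9.FFExt.IntCl2
-- import your own Groth.Agent.* helpers here

set_option autoImplicit false
universe u v w
open FunFld

namespace Groth.Agent.S12570

open FunFld WithZero
open Groth.Agent.Lib.Helper4.FF Groth.Agent.Helper9.FFExt
namespace Aux

/-- the derivative of a series of order one has order zero -/
theorem val_D_of_val_exp_neg_one {F : Type*} [Field F] (f : LaurentSeries F)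
    (hf : Valued.v f = exp (-1)) : Valued.v (LocRes.D F f) = 1 := by
  have h1 := (val_eq_exp_iff f 1).mp hf
  have : Valued.v (LocRes.D F f) = exp (-(0 : ℤ)) := by
    rw [val_eq_exp_iff]
    constructor
    · intro n hn
      rw [LocRes.D_coeff, h1.1 (n + 1) (by omega), smul_zero]
    · rw [LocRes.D_coeff]
      simpa using h1.2
  simpa using this

theorem main (k : Type u) (K K' : Type v) [Field k] [Field K] [Field K'] [Algebra k K] [Algebra K K'] [Algebra k K']
    [IsScalarTower k K K']
    (hK : FunFld.IsFunctionField k K) (hg : FunFld.IsGeometric k K)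
    (F F' : Type w) [Field F] [Algebra k F] [Field F'] [Algebra k F']
    (P : FunFld.Place k K) (Q : FunFld.Place k K') (e : ℕ) (he : FunFld.IsOverWith Q P e)
    (φ : K →ₐ[k] LaurentSeries F) (hφ : LocRes.IsExpansionAt P.1 φ)
    (ψ : K' →ₐ[k] LaurentSeries F') (hψ : LocRes.IsExpansionAt Q.1 ψ)
    (x : K) (hx : LocRes.vDiff φ 1 x ≠ 0) (hx' : LocRes.vDiff ψ 1 (algebraMap K K' x) ≠ 0) :
    (¬ (ringChar K ∣ e) → LocRes.diffExp φ ψ e x = (e : ℤ) - 1) ∧
    (ringChar K ∣ e → (e : ℤ) ≤ LocRes.diffExp φ ψ e x) := by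
  obtain ⟨t, ht⟩ := hφ.2.2
  have hvt : Valued.v (φ t) = exp (-1) := by rw [hφ.1, ht]
  have hDt : Valued.v (LocRes.D F (φ t)) = 1 := val_D_of_val_exp_neg_one _ hvt
  have hvd : LocRes.vDiff φ 1 t = 1 := by rw [vDiff_one, hDt]
  have hvd0 : LocRes.vDiff φ 1 t ≠ 0 := by rw [hvd]; exact one_ne_zero
  have hDt0 : KaehlerDifferential.D k K t ≠ 0 := D_ne_zero_of_vDiff φ hvd0
  obtain ⟨u, hu⟩ := exists_eq_smul_D_of_ne_zero hK.1 hg hDt0 (KaehlerDifferential.D k K x)
  have hrel : LocRes.D F' (ψ (algebraMap K K' x)) =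
      ψ (algebraMap K K' u) * LocRes.D F' (ψ (algebraMap K K' t)) :=
    D_exp_rel (ψ.comp (IsScalarTower.toAlgHom k K K')) hu
  have hψt0 : Valued.v (LocRes.D F' (ψ (algebraMap K K' t))) ≠ 0 := by
    rw [vDiff_one, hrel, map_mul] at hx'
    exact right_ne_zero_of_mul hx'
  have heq : LocRes.diffExp φ ψ e x = LocRes.diffExp φ ψ e t :=
    diffExp_rel P Q e he φ hφ.1 ψ hψ.1 hu hx hx'
  have hord0 : LocRes.ordDiff φ 1 t = 0 := by
    unfold LocRes.ordDiff; rw [hvd]; simp
  have hdt : LocRes.diffExp φ ψ e t = -log (Valued.v (LocRes.D F' (ψ (algebraMap K K' t)))) := by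
    unfold LocRes.diffExp
    rw [hord0, mul_zero, sub_zero]
    unfold LocRes.ordDiff
    rw [vDiff_one]
  rw [heq, hdt]
  -- the expansion of `t` above
  have hg1 : Valued.v (ψ (algebraMap K K' t)) = exp (-(e : ℤ)) := by
    rw [hψ.1, he t, ht, exp_neg_one_pow]
  have hg2 := (val_eq_exp_iff _ _).mp hg1
  have hcoeff : ∀ n : ℤ, n < (e : ℤ) - 1 →
      (LocRes.D F' (ψ (algebraMap K K' t))).coeff n = 0 := by
    intro n hn
    rw [LocRes.D_coeff, hg2.1 (n + 1) (by omega), smul_zero]
  have hcoeff1 : (LocRes.D F' (ψ (algebraMap K K' t))).coeff ((e : ℤ) - 1) =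
      (e : F') * (ψ (algebraMap K K' t)).coeff e := by
    rw [LocRes.D_coeff, sub_add_cancel, zsmul_eq_mul]
    simp
  have hchar : ringChar K = ringChar F' := by
    rw [← Algebra.ringChar_eq k K, ← Algebra.ringChar_eq k F']
  constructor
  · intro hnd
    have hne : (e : F') ≠ 0 := by
      intro h0
      apply hnd
      rw [hchar]
      exact (ringChar.spec F' e).mp h0
    have : Valued.v (LocRes.D F' (ψ (algebraMap K K' t))) = exp (-((e : ℤ) - 1)) := by
      rw [val_eq_exp_iff]
      exact ⟨hcoeff, by rw [hcoeff1]; exact mul_ne_zero hne hg2.2⟩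
    rw [this, log_exp]
    ring
  · intro hd
    have h0 : (e : F') = 0 := by
      rw [hchar] at hd
      exact (ringChar.spec F' e).mpr hd
    have hle : Valued.v (LocRes.D F' (ψ (algebraMap K K' t))) ≤ exp (-(e : ℤ)) := by
      rw [LaurentSeries.valuation_le_iff_coeff_lt_eq_zero]
      intro n hn
      rcases (show n ≤ (e : ℤ) - 1 by omega).lt_or_eq with h1 | h1
      · exact hcoeff n h1
      · rw [h1, hcoeff1, h0, zero_mul]
    obtain ⟨m, hm⟩ : ∃ m : ℤ, Valued.v (LocRes.D F' (ψ (algebraMap K K' t))) = exp m :=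
      ⟨_, (exp_log hψt0).symm⟩
    rw [hm, exp_le_exp] at hle
    rw [hm, log_exp]
    omega

end Aux

/-- For a place `Q` of a finite separable extension `K'` of a geometric function field of one variable
`K/k`, lying over `P` with ramification index `e`, both places having Laurent expansions over `k` in
local parameters (separable places), and `x` with `dx` of finite order above and below: the
different exponent `d(Q|P)`, computed on `dx`, is `e - 1` if `char K` does not divide `e`, and is `≥
e` otherwise. (The published statement allows any finite extension along which differentials of `K`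
pull back injectively; this row takes `K'` separable over `K`.) -/
theorem result (k : Type u) (K K' : Type v) [Field k] [Field K] [Field K'] [Algebra k K] [Algebra K K'] [Algebra k K']
    [IsScalarTower k K K'] [FiniteDimensional K K'] [Algebra.IsSeparable K K']
    (hK : FunFld.IsFunctionField k K) (hg : FunFld.IsGeometric k K)
    (F F' : Type w) [Field F] [Algebra k F] [Field F'] [Algebra k F']
    (P : FunFld.Place k K) (Q : FunFld.Place k K') (e : ℕ) (he : FunFld.IsOverWith Q P e)
    (φ : K →ₐ[k] LaurentSeries F) (hφ : LocRes.IsExpansionAt P.1 φ)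
    (ψ : K' →ₐ[k] LaurentSeries F') (hψ : LocRes.IsExpansionAt Q.1 ψ)
    (x : K) (hx : LocRes.vDiff φ 1 x ≠ 0) (hx' : LocRes.vDiff ψ 1 (algebraMap K K' x) ≠ 0) :
    (¬ (ringChar K ∣ e) → LocRes.diffExp φ ψ e x = (e : ℤ) - 1) ∧
    (ringChar K ∣ e → (e : ℤ) ≤ LocRes.diffExp φ ψ e x) := by
  exact Aux.main k K K' hK hg F F' P Q e he φ hφ ψ hψ x hx hx'

end Groth.Agent.S12570
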