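import Groth.Statements.S12576
import Mathlib
import Groth.Prelude.Def_W4bk4goldsch23FF
import Groth.Prelude.Def_W4bk4goldsch23Ext
import Groth.Prelude.Def_LocRes
import Groth.Agent.Lib.Helper9.Tate.ResWeil2
import Groth.Agent.Lib.Helper9.Tate.CoeffFinite
import Groth.Agent.Lib.Helper9.FFExt.Conorm
import Groth.Agent.Lib.Helper9.FFExt.Const
import Groth.Agent.S11010
-- import your own Groth.Agent.* helpers here

set_option autoImplicit false
universe u v w
open FunFld

namespace Groth.Agent.S12576

open FunFld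
namespace Aux
open Groth.Agent.Helper9.Tate Groth.Agent.Helper9.FFExt Groth.Agent.Lib.Helper4.FF WithZero

section Conv

variable {k k' K' : Type*} [Field k] [Field k'] [Field K'] [Algebra k k'] [Algebra k' K']
  [Algebra k K'] [IsScalarTower k k' K']

/-- a place over `k'` is a place over `k` -/
def downK (Q : Place k' K') : Place k K' :=
  ⟨Q.1, fun c => by
    rw [IsScalarTower.algebraMap_apply k k' K']
    exact Q.2.1 _, Q.2.2⟩

/-- a place over `k` is a place over an algebraic extension of the constants -/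
def upK [Algebra.IsAlgebraic k k'] (Q : Place k K') : Place k' K' :=
  ⟨Q.1, fun c => val_le_one_of_isAlgebraic Q
    ((Algebra.IsAlgebraic.isAlgebraic (R := k) c).algebraMap (A := K')), Q.2.2⟩

lemma downK_injective : Function.Injective (downK : Place k' K' → Place k K') := by
  intro Q₁ Q₂ h
  apply Subtype.ext
  have := congrArg Subtype.val h
  exact this

lemma downK_surjective [Algebra.IsAlgebraic k k'] :
    Function.Surjective (downK : Place k' K' → Place k K') := by
  intro Q
  exact ⟨upK Q, Subtype.ext rfl⟩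

lemma deg_downK (Q : Place k' K') :
    (downK (k := k) Q).deg = Module.finrank k k' * Q.deg :=
  @finrank_tower_general k k' (IsLocalRing.ResidueField Q.O) _ _ _ _
    (Place.algRes Q) (Place.algRes (downK (k := k) Q))
    (@IsScalarTower.of_algebraMap_eq k k' (IsLocalRing.ResidueField Q.O) _ _ _ _
      (Place.algRes Q) (Place.algRes (downK (k := k) Q)) fun c => by
        change IsLocalRing.residue _ _ = IsLocalRing.residue _ _
        congr 1
        apply Subtype.ext
        exact IsScalarTower.algebraMap_apply k k' K' c)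

end Conv

theorem deg_eq_finsum {k K : Type*} [Field k] [Field K] [Algebra k K] (D : Divisor k K) :
    D.deg = ∑ᶠ P, D P * (P.deg : ℤ) := by
  unfold FunFld.Divisor.deg Finsupp.sum
  rw [finsum_eq_sum_of_support_subset]
  intro P hP
  rw [Function.mem_support] at hP
  rw [Finset.mem_coe, Finsupp.mem_support_iff]
  intro h0
  apply hP
  rw [h0, zero_mul]

theorem main (k k' : Type u) (K K' : Type v) [Field k] [Field k'] [Field K] [Field K']
    [Algebra k k'] [Algebra k K] [Algebra K K'] [Algebra k' K'] [Algebra k K']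
    [IsScalarTower k k' K'] [IsScalarTower k K K'] [FiniteDimensional k k'] [FiniteDimensional K K']
    [Algebra.IsSeparable K K']
    (hK : FunFld.IsFunctionField k K) (hg : FunFld.IsGeometric k K) (hK' : FunFld.IsFunctionField k' K')
    (F : FunFld.Place k K → Type w) [∀ P, Field (F P)] [∀ P, Algebra k (F P)]
    (φ : ∀ P, K →ₐ[k] LaurentSeries (F P)) (hφ : ∀ P, LocRes.IsExpansionAt P.1 (φ P))
    (F' : FunFld.Place k' K' → Type w) [∀ Q, Field (F' Q)] [∀ Q, Algebra k' (F' Q)]
    (ψ : ∀ Q, K' →ₐ[k'] LaurentSeries (F' Q)) (hψ : ∀ Q, LocRes.IsExpansionAt Q.1 (ψ Q))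
    (below : FunFld.Place k' K' → FunFld.Place k K) (e : FunFld.Place k' K' → ℕ)
    (he : ∀ Q (z : K), Q.1 (algebraMap K K' z) = (below Q).1 z ^ e Q)
    (x : K) (hx : ∀ P, LocRes.vDiff (φ P) 1 x ≠ 0) (hx' : ∀ Q, LocRes.vDiff (ψ Q) 1 (algebraMap K K' x) ≠ 0) :
    (Function.support fun Q => LocRes.diffExp (φ (below Q)) (ψ Q) (e Q) x).Finite ∧
    (Module.finrank k k' : ℤ) * (2 * (FunFld.genus k' K' : ℤ) - 2) =
      (Module.finrank K K' : ℤ) * (2 * (FunFld.genus k K : ℤ) - 2) +
      (Module.finrank k k' : ℤ) * ∑ᶠ Q, LocRes.diffExp (φ (below Q)) (ψ Q) (e Q) x * (Q.deg : ℤ) := by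
  classical
  have hFfin : ∀ P, FiniteDimensional k (F P) := fun P => finiteDimensional_coeff hK P (φ P) (hφ P)
  have hF'fin : ∀ Q, FiniteDimensional k' (F' Q) := fun Q => finiteDimensional_coeff hK' Q (ψ Q) (hψ Q)
  have hg' : IsGeometric k' K' := Groth.Agent.S11010.result k k' K K' hK hg hK'
  have halg : Algebra.IsAlgebraic k k' := Algebra.IsAlgebraic.of_finite k k'
  obtain ⟨P₀⟩ := nonempty_place hK
  obtain ⟨Q₀⟩ := nonempty_place hK'
  have hdx : KaehlerDifferential.D k K x ≠ 0 := D_ne_zero_of_vDiff (φ P₀) (hx P₀)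
  have hdx' : KaehlerDifferential.D k' K' (algebraMap K K' x) ≠ 0 :=
    D_ne_zero_of_vDiff (ψ Q₀) (hx' Q₀)
  obtain ⟨C, hC, hCdiv⟩ := exists_divisor_resW hK hg hφ one_ne_zero hdx
  obtain ⟨C', hC', hC'div⟩ := exists_divisor_resW hK' hg' hψ one_ne_zero hdx'
  have hCdeg : C.deg = 2 * (genus k K : ℤ) - 2 :=
    deg_canonical hK ⟨_, resW_ne_zero hK hg hφ one_ne_zero hdx, hCdiv⟩
  have hC'deg : C'.deg = 2 * (genus k' K' : ℤ) - 2 :=
    deg_canonical hK' ⟨_, resW_ne_zero hK' hg' hψ one_ne_zero hdx', hC'div⟩
  -- the conorm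
  obtain ⟨N, hN⟩ : ∃ N : Divisor k K', N = conorm K' C := ⟨_, rfl⟩
  have hNdeg : N.deg = Module.finrank K K' * C.deg := by rw [hN]; exact deg_conorm hK C
  have hNapply : ∀ Q : Place k' K', N (downK Q) = e Q * C (below Q) := by
    intro Q
    rw [hN]
    exact conorm_apply C (Q := downK Q) (P := below Q) (e := e Q) (fun z => he Q z)
      (finite_over hK (below Q))
  have hd : ∀ Q, LocRes.diffExp (φ (below Q)) (ψ Q) (e Q) x = C' Q - N (downK Q) := by
    intro Q
    unfold LocRes.diffExp
    rw [hC', hNapply, hC]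
  -- finiteness
  have hfinN : (Function.support fun Q : Place k' K' => N (downK Q)).Finite := by
    have : (Function.support fun Q : Place k' K' => N (downK Q)) ⊆
        (downK (k := k)) ⁻¹' (N.support : Set (Place k K')) := by
      intro Q hQ
      rw [Function.mem_support] at hQ
      rw [Set.mem_preimage, Finset.mem_coe, Finsupp.mem_support_iff]
      exact hQ
    exact (N.support.finite_toSet.preimage (downK_injective.injOn)).subset this
  have hfinC' : (Function.support fun Q : Place k' K' => C' Q).Finite := by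
    refine C'.support.finite_toSet.subset ?_
    intro Q hQ
    rw [Function.mem_support] at hQ
    rw [Finset.mem_coe, Finsupp.mem_support_iff]
    exact hQ
  constructor
  · refine (hfinC'.union hfinN).subset ?_
    intro Q hQ
    rw [Function.mem_support, hd] at hQ
    by_contra hn
    rw [Set.mem_union, not_or, Function.mem_support, Function.mem_support, not_not, not_not] at hn
    apply hQ
    rw [hn.1, hn.2, sub_zero]
  · -- degrees as finite sums
    have h1 : C'.deg = ∑ᶠ Q : Place k' K', C' Q * (Q.deg : ℤ) := deg_eq_finsum C'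
    have h2 : N.deg = ∑ᶠ Q : Place k' K', N (downK Q) * ((downK (k := k) Q).deg : ℤ) := by
      rw [deg_eq_finsum N]
      exact (finsum_comp_equiv (Equiv.ofBijective (downK (k := k) (k' := k') (K' := K'))
        ⟨downK_injective, downK_surjective⟩)
        (f := fun Q₁ : Place k K' => N Q₁ * (Q₁.deg : ℤ))).symm
    have h3 : ∑ᶠ Q : Place k' K', N (downK Q) * ((downK (k := k) Q).deg : ℤ) =
        (Module.finrank k k' : ℤ) * ∑ᶠ Q : Place k' K', N (downK Q) * (Q.deg : ℤ) := by
      rw [mul_finsum]
      apply finsum_congr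
      intro Q
      rw [deg_downK]
      push_cast
      ring
    have hs1 : (Function.support fun Q : Place k' K' => C' Q * (Q.deg : ℤ)).Finite := by
      refine hfinC'.subset ?_
      intro Q hQ
      rw [Function.mem_support] at hQ ⊢
      intro h0
      apply hQ
      rw [h0, zero_mul]
    have hs2 : (Function.support fun Q : Place k' K' => N (downK Q) * (Q.deg : ℤ)).Finite := by
      refine hfinN.subset ?_
      intro Q hQ
      rw [Function.mem_support] at hQ ⊢
      intro h0
      apply hQ
      rw [h0, zero_mul]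
    have h4 : ∑ᶠ Q, LocRes.diffExp (φ (below Q)) (ψ Q) (e Q) x * (Q.deg : ℤ) =
        ∑ᶠ Q : Place k' K', C' Q * (Q.deg : ℤ) - ∑ᶠ Q : Place k' K', N (downK Q) * (Q.deg : ℤ) := by
      rw [← finsum_sub_distrib hs1 hs2]
      apply finsum_congr
      intro Q
      rw [hd]
      ring
    have hA : (Module.finrank k k' : ℤ) * ∑ᶠ Q : Place k' K', N (downK Q) * (Q.deg : ℤ) = N.deg := by
      rw [← h3, ← h2]
    rw [h4, ← h1, hC'deg]
    linear_combination hA + hNdeg + (Module.finrank K K' : ℤ) * hCdeg

end Aux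

/-- For a geometric function field of one variable `K/k` and a finite separable extension `K'` with
constant field `k'`, `[k':k] (2g_{K'} - 2) = [K':K] (2g_K - 2) + [k':k] deg 𝒟_{K'/K}`, the degree of
the different being `∑_Q d(Q|P) deg_{k'} Q`; stated, cleared of denominators, through Laurent
expansions at every place of `K` over `k` and of `K'` over `k'` (all places separable) with the
different exponents computed on `dx`. (The published statement allows any finite extension along
which differentials pull back injectively; this row takes `K'` separable over `K`.) -/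
theorem result (k k' : Type u) (K K' : Type v) [Field k] [Field k'] [Field K] [Field K']
    [Algebra k k'] [Algebra k K] [Algebra K K'] [Algebra k' K'] [Algebra k K']
    [IsScalarTower k k' K'] [IsScalarTower k K K'] [FiniteDimensional k k'] [FiniteDimensional K K']
    [Algebra.IsSeparable K K']
    (hK : FunFld.IsFunctionField k K) (hg : FunFld.IsGeometric k K) (hK' : FunFld.IsFunctionField k' K')
    (F : FunFld.Place k K → Type w) [∀ P, Field (F P)] [∀ P, Algebra k (F P)]
    (φ : ∀ P, K →ₐ[k] LaurentSeries (F P)) (hφ : ∀ P, LocRes.IsExpansionAt P.1 (φ P))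
    (F' : FunFld.Place k' K' → Type w) [∀ Q, Field (F' Q)] [∀ Q, Algebra k' (F' Q)]
    (ψ : ∀ Q, K' →ₐ[k'] LaurentSeries (F' Q)) (hψ : ∀ Q, LocRes.IsExpansionAt Q.1 (ψ Q))
    (below : FunFld.Place k' K' → FunFld.Place k K) (e : FunFld.Place k' K' → ℕ)
    (he : ∀ Q (z : K), Q.1 (algebraMap K K' z) = (below Q).1 z ^ e Q)
    (x : K) (hx : ∀ P, LocRes.vDiff (φ P) 1 x ≠ 0) (hx' : ∀ Q, LocRes.vDiff (ψ Q) 1 (algebraMap K K' x) ≠ 0) :
    (Function.support fun Q => LocRes.diffExp (φ (below Q)) (ψ Q) (e Q) x).Finite ∧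
    (Module.finrank k k' : ℤ) * (2 * (FunFld.genus k' K' : ℤ) - 2) =
      (Module.finrank K K' : ℤ) * (2 * (FunFld.genus k K : ℤ) - 2) +
      (Module.finrank k k' : ℤ) * ∑ᶠ Q, LocRes.diffExp (φ (below Q)) (ψ Q) (e Q) x * (Q.deg : ℤ) := by
  exact Aux.main k k' K K' hK hg hK' F φ hφ F' ψ hψ below e he x hx hx'

end Groth.Agent.S12576
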