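import Groth.Statements.S12579
import Mathlib
import Groth.Prelude.Def_W4bk4goldsch23FF
import Groth.Prelude.Def_LocRes
import Groth.Agent.Lib.Helper9.Tate.Adelic
import Groth.Agent.Lib.Helper4.FF.Zeros
-- import your own Groth.Agent.* helpers here

set_option autoImplicit false
universe u v w
open FunFld

namespace Groth.Agent.S12579

open FunFld
namespace Aux
open Module WithZero Groth.Agent.Lib.Helper4.FF Groth.Agent.Helper9.Tate

theorem exists_isProj {k V : Type*} [Field k] [AddCommGroup V] [Module k V] (p : Submodule k V) :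
    ∃ π : V →ₗ[k] V, LinearMap.IsProj p π := by
  obtain ⟨g, hg⟩ := LinearMap.exists_leftInverse_of_injective p.subtype
    (LinearMap.ker_eq_bot.mpr p.injective_subtype)
  refine ⟨p.subtype ∘ₗ g, ⟨fun x => ?_, fun x hx => ?_⟩⟩
  · exact (g x).2
  · have := LinearMap.congr_fun hg ⟨x, hx⟩
    simp only [LinearMap.comp_apply, LinearMap.id_apply, Submodule.subtype_apply] at this
    simp only [LinearMap.comp_apply, Submodule.subtype_apply]
    rw [this]

theorem finite_poles' {k K : Type*} [Field k] [Field K] [Algebra k K]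
    (hK : IsFunctionField k K) (x : K) : {P : Place k K | ¬ P.1 x ≤ 1}.Finite := by
  by_cases hx : x = 0
  · subst hx
    convert Set.finite_empty
    ext P
    simp
  · refine (finite_poles hK hx).subset ?_
    intro P hP
    exact not_le.mp hP

theorem main (k : Type u) (K : Type v) [Field k] [Field K] [Algebra k K] (hK : FunFld.IsFunctionField k K)
    (F : FunFld.Place k K → Type w) [∀ P, Field (F P)] [∀ P, Algebra k (F P)] [∀ P, FiniteDimensional k (F P)]
    (φ : ∀ P, K →ₐ[k] LaurentSeries (F P)) (hφ : ∀ P, LocRes.IsExpansionAt P.1 (φ P))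
    (u v : K) :
    (Function.support fun P => LocRes.locRes (φ P) u v).Finite ∧ ∑ᶠ P, LocRes.locRes (φ P) u v = 0 := by
  classical
  have hOV : ∀ P : Place k K, OV (φ P) = OPl P := by
    intro P
    ext x
    rw [mem_OV (hφ P), mem_OPl]
  choose π hπ using fun P : Place k K => exists_isProj (OPl P)
  have hπ' : ∀ P, LinearMap.IsProj (OV (φ P)) (π P) := by
    intro P
    rw [hOV]
    exact hπ P
  have hloc : ∀ P, LocRes.locRes (φ P) u v = tres (π P) (mulK k u) (mulK k v) :=
    fun P => (tres_eq_locRes (hφ P) (hπ' P) u v).symm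
  have hfin : ({P : Place k K | ¬ P.1 u ≤ 1} ∪ {P : Place k K | ¬ P.1 v ≤ 1}).Finite :=
    (finite_poles' hK u).union (finite_poles' hK v)
  obtain ⟨S, hS⟩ : ∃ S : Finset (Place k K), ∀ Q, Q ∉ S → Q.1 u ≤ 1 ∧ Q.1 v ≤ 1 := by
    refine ⟨hfin.toFinset, fun Q hQ => ?_⟩
    rw [Set.Finite.mem_toFinset, Set.mem_union, not_or] at hQ
    exact ⟨not_not.mp hQ.1, not_not.mp hQ.2⟩
  have hzero : ∀ Q, Q ∉ S → LocRes.locRes (φ Q) u v = 0 := by
    intro Q hQ
    rw [hloc]
    have h1 : ∀ {c y : K}, Q.1 c ≤ 1 → y ∈ OPl Q → c * y ∈ OPl Q := by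
      intro c y hc hy
      rw [mem_OPl, map_mul]
      exact mul_le_one' hc hy
    unfold tres
    apply trFP_eq_zero_of_pow_eq_zero (n := 2)
    rw [pow_two]
    ext x
    exact NP_sq_zero π hπ u v Q (hS Q hQ).1 (hS Q hQ).2 x
  have hsupp : (Function.support fun P => LocRes.locRes (φ P) u v) ⊆ S := by
    intro P hP
    by_contra h
    exact hP (hzero P h)
  refine ⟨S.finite_toSet.subset hsupp, ?_⟩
  rw [finsum_eq_sum_of_support_subset _ hsupp]
  rw [← sum_tres_eq_zero hK π hπ u v S hS]
  exact Finset.sum_congr rfl (fun P _ => hloc P)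

end Aux

/-- For a function field of one variable `K/k` and `u, v ∈ K`, the local residues `Res_P(u dv)` vanish
for almost all places `P` and `∑_P Res_P(u dv) = 0`; stated through Laurent expansions over `k` at
every place (so for function fields all of whose places are separable), the residue at `P` being the
trace to `k` of the coefficient of `X⁻¹`. -/
theorem result (k : Type u) (K : Type v) [Field k] [Field K] [Algebra k K] (hK : FunFld.IsFunctionField k K)
    (F : FunFld.Place k K → Type w) [∀ P, Field (F P)] [∀ P, Algebra k (F P)] [∀ P, FiniteDimensional k (F P)]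
    (φ : ∀ P, K →ₐ[k] LaurentSeries (F P)) (hφ : ∀ P, LocRes.IsExpansionAt P.1 (φ P))
    (u v : K) :
    (Function.support fun P => LocRes.locRes (φ P) u v).Finite ∧ ∑ᶠ P, LocRes.locRes (φ P) u v = 0 := by
  exact Aux.main k K hK F φ hφ u v

end Groth.Agent.S12579
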