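import Groth.Statements.S12621
import Mathlib
import Groth.Prelude.Def_LocRes
-- import your own Groth.Agent.* helpers here

set_option autoImplicit false
universe u v w
open LocRes

namespace Groth.Agent.S12621

open scoped PowerSeries
open LaurentSeries HahnSeries
namespace Aux

/-- torsion-free case -/
lemma ident_tf {A : Type*} [CommRing A] [IsAddTorsionFree A] (w : A⟦X⟧) (k m : ℕ) (hk : 1 ≤ k)
    (hm : 1 ≤ m) :
    PowerSeries.coeff (m * k - 1) (w ^ (k - 1) * PowerSeries.derivative A w) =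
      (m : A) * PowerSeries.coeff (m * k) (w ^ k) := by
  obtain ⟨n, rfl⟩ : ∃ n, k = n + 1 := ⟨k - 1, by omega⟩
  obtain ⟨N, hN⟩ : ∃ N, m * (n + 1) = N + 1 := ⟨m * (n + 1) - 1, by
    have : 1 ≤ m * (n + 1) := Nat.mul_pos hm (by omega)
    omega⟩
  simp only [Nat.add_sub_cancel, hN]
  have h1 := PowerSeries.coeff_derivative (w ^ (n + 1)) N
  rw [PowerSeries.derivative_pow] at h1
  simp only [Nat.add_sub_cancel] at h1
  have h2 : ((n + 1 : ℕ) : A) * PowerSeries.coeff N (w ^ n * PowerSeries.derivative A w) =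
      ((n + 1 : ℕ) : A) * ((m : A) * PowerSeries.coeff (N + 1) (w ^ (n + 1))) := by
    have e : ((n + 1 : ℕ) : A) * ((m : A) * PowerSeries.coeff (N + 1) (w ^ (n + 1))) =
        PowerSeries.coeff (N + 1) (w ^ (n + 1)) * ((N : A) + 1) := by
      have : ((N : A) + 1) = ((m * (n + 1) : ℕ) : A) := by rw [hN]; push_cast; ring
      rw [this]; push_cast; ring
    rw [e, ← h1, mul_assoc, ← PowerSeries.coeff_C_mul]
    congr 1
  have h3 : (n + 1) • PowerSeries.coeff N (w ^ n * PowerSeries.derivative A w) =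
      (n + 1) • ((m : A) * PowerSeries.coeff (N + 1) (w ^ (n + 1))) := by
    rw [nsmul_eq_mul, nsmul_eq_mul]; exact h2
  exact nsmul_right_injective (by omega : n + 1 ≠ 0) h3

lemma deriv_map {R S : Type*} [CommRing R] [CommRing S] (f : R →+* S) (p : R⟦X⟧) :
    PowerSeries.derivative S (PowerSeries.map f p) = PowerSeries.map f (PowerSeries.derivative R p) := by
  ext n
  rw [PowerSeries.coeff_derivative, PowerSeries.coeff_map, PowerSeries.coeff_map,
    PowerSeries.coeff_derivative, map_mul, map_add, map_natCast, map_one]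

/-- the universal identity over any commutative ring -/
lemma ident {A : Type*} [CommRing A] (w : A⟦X⟧) (k m : ℕ) (hk : 1 ≤ k) (hm : 1 ≤ m) :
    PowerSeries.coeff (m * k - 1) (w ^ (k - 1) * PowerSeries.derivative A w) =
      (m : A) * PowerSeries.coeff (m * k) (w ^ k) := by
  let W : (MvPolynomial ℕ ℤ)⟦X⟧ := PowerSeries.mk (fun i => MvPolynomial.X i)
  let ev : MvPolynomial ℕ ℤ →+* A :=
    MvPolynomial.eval₂Hom (Int.castRingHom A) (fun i => PowerSeries.coeff i w)
  have hW : PowerSeries.map ev W = w := by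
    ext n
    simp [W, ev]
  have h := congrArg ev (ident_tf W k m hk hm)
  have e1 : ev (PowerSeries.coeff (m * k) (W ^ k)) = PowerSeries.coeff (m * k) (w ^ k) := by
    rw [← PowerSeries.coeff_map, RingHom.map_pow (PowerSeries.map ev), hW]
  have e2 : ev (PowerSeries.coeff (m * k - 1) (W ^ (k - 1) * PowerSeries.derivative _ W)) =
      PowerSeries.coeff (m * k - 1) (w ^ (k - 1) * PowerSeries.derivative A w) := by
    rw [← PowerSeries.coeff_map, RingHom.map_mul (PowerSeries.map ev),
      RingHom.map_pow (PowerSeries.map ev), ← deriv_map, hW]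
  rw [RingHom.map_mul, map_natCast, e1, e2] at h
  exact h

section
variable {F : Type w} [Field F]

/-- residue of `h^(k-1) dh` vanishes, for `h = X^m * u`. -/
lemma res_pow_aux (m : ℤ) (u : F⟦X⟧) (k : ℕ) (hk : 1 ≤ k) :
    (((single m (1 : F) * (u : F⸨X⸩)) ^ (k - 1)) *
      LocRes.D F (single m (1 : F) * (u : F⸨X⸩))).coeff (-1) = 0 := by
  have hD : LocRes.D F (single m (1 : F) * (u : F⸨X⸩)) =
      single m 1 * ((PowerSeries.derivative F u : F⟦X⟧) : F⸨X⸩) + single (m - 1) (m • (1 : F)) * (u : F⸨X⸩) := by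
    rw [LocRes.D_apply, LocRes.derivative_single_mul, LocRes.derivative_coe]
  have hpow : (single m (1 : F) * (u : F⸨X⸩)) ^ (k - 1) =
      single ((k - 1 : ℕ) • m) 1 * ((u ^ (k - 1) : F⟦X⟧) : F⸨X⸩) := by
    rw [mul_pow, HahnSeries.single_pow, one_pow, PowerSeries.coe_pow]
  have hprod : ((single m (1 : F) * (u : F⸨X⸩)) ^ (k - 1)) *
      LocRes.D F (single m (1 : F) * (u : F⸨X⸩)) =
      single ((k : ℤ) * m) 1 * ((u ^ (k - 1) * PowerSeries.derivative F u : F⟦X⟧) : F⸨X⸩) +
        single ((k : ℤ) * m - 1) (m • (1 : F)) * ((u ^ k : F⟦X⟧) : F⸨X⸩) := by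
    rw [hD, hpow]
    have e1 : ((k - 1 : ℕ) • m) + m = (k : ℤ) * m := by
      rw [nsmul_eq_mul]; push_cast [Nat.cast_sub hk]; ring
    have e2 : ((k - 1 : ℕ) • m) + (m - 1) = (k : ℤ) * m - 1 := by
      rw [nsmul_eq_mul]; push_cast [Nat.cast_sub hk]; ring
    have hk' : u ^ k = u ^ (k - 1) * u := by
      rw [← pow_succ]; congr 1; omega
    rw [hk', PowerSeries.coe_mul, PowerSeries.coe_mul, ← e2, ← e1]
    have hs1 : (single ((k - 1) • m + m) (1 : F) : F⸨X⸩) = single ((k - 1) • m) 1 * single m 1 := by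
      rw [single_mul_single, one_mul]
    have hs2 : (single ((k - 1) • m + (m - 1)) (m • (1 : F)) : F⸨X⸩) =
        single ((k - 1) • m) 1 * single (m - 1) (m • (1 : F)) := by
      rw [single_mul_single, one_mul]
    rw [hs1, hs2]
    ring
  rw [hprod, HahnSeries.coeff_add, HahnSeries.coeff_single_mul, HahnSeries.coeff_single_mul,
    PowerSeries.coeff_coe, PowerSeries.coeff_coe, one_mul]
  rcases lt_trichotomy ((k : ℤ) * m) 0 with hneg | hzero | hpos
  · -- m < 0
    have h1 : ¬ (-1 - (k : ℤ) * m < 0) := by omega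
    have h2 : ¬ (-1 - ((k : ℤ) * m - 1) < 0) := by omega
    rw [if_neg h1, if_neg h2]
    have hm : m < 0 := by
      by_contra hcon
      push Not at hcon
      have : 0 ≤ (k : ℤ) * m := mul_nonneg (by positivity) hcon
      omega
    obtain ⟨m', rfl⟩ : ∃ m' : ℕ, m = -(m' : ℤ) := ⟨m.natAbs, by omega⟩
    have hm' : 1 ≤ m' := by omega
    have i1 : (-1 - (k : ℤ) * -(m' : ℤ)).natAbs = m' * k - 1 := by
      have : 1 ≤ m' * k := Nat.mul_pos hm' hk
      zify [this]
      rw [abs_of_nonneg (by nlinarith)]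
      ring
    have i2 : (-1 - ((k : ℤ) * -(m' : ℤ) - 1)).natAbs = m' * k := by
      zify
      rw [abs_of_nonneg (by nlinarith)]
      ring
    rw [i1, i2, ident u k m' hk hm']
    simp
  · have hm : m = 0 := by
      rcases mul_eq_zero.1 hzero with h | h
      · exfalso; have : (k : ℤ) ≠ 0 := by positivity
        exact this h
      · exact h
    subst hm
    simp
  · have h1 : (-1 - (k : ℤ) * m < 0) := by omega
    have h2 : (-1 - ((k : ℤ) * m - 1) < 0) := by omega
    rw [if_pos h1, if_pos h2]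
    simp

lemma res_pow (h : F⸨X⸩) (k : ℕ) (hk : 1 ≤ k) :
    ((h ^ (k - 1)) * LocRes.D F h).coeff (-1) = 0 := by
  have := res_pow_aux h.order (powerSeriesPart h) k hk
  rwa [single_order_mul_powerSeriesPart] at this

lemma res_zpow (g : F⸨X⸩) (n : ℤ) (hn : n ≠ 0) :
    ((g ^ (n - 1)) * LocRes.D F g).coeff (-1) = 0 := by
  rcases lt_or_gt_of_ne hn with hneg | hpos
  · -- n < 0
    by_cases hg : g = 0
    · subst hg
      rw [zero_zpow _ (by omega), zero_mul]; rfl
    obtain ⟨k, rfl⟩ : ∃ k : ℕ, n = -(k : ℤ) := ⟨n.natAbs, by omega⟩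
    have hk : 1 ≤ k := by omega
    have hinv := (LocRes.D F).leibniz_inv g
    have key : g ^ (-(k : ℤ) - 1) * LocRes.D F g = -((g⁻¹) ^ (k - 1) * LocRes.D F g⁻¹) := by
      rw [hinv, smul_eq_mul]
      have e1 : g ^ (-(k : ℤ) - 1) = (g⁻¹) ^ (k - 1) * (g⁻¹) ^ 2 := by
        rw [← _root_.pow_add, inv_pow, ← zpow_natCast, ← zpow_neg]
        congr 1
        push_cast [Nat.cast_sub hk]; ring
      rw [e1]; ring
    rw [key, HahnSeries.coeff_neg, res_pow g⁻¹ k hk, neg_zero]
  · obtain ⟨k, rfl⟩ : ∃ k : ℕ, n = (k : ℤ) := ⟨n.toNat, by omega⟩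
    have hk : 1 ≤ k := by omega
    have : g ^ ((k : ℤ) - 1) = g ^ (k - 1) := by
      rw [← zpow_natCast]; congr 1; push_cast [Nat.cast_sub hk]; ring
    rw [this]
    exact res_pow g k hk

end

theorem main21 {k : Type u} {K : Type v} {F : Type w} [CommRing k] [Field K] [Field F]
    [Algebra k K] [Algebra k F]
    (φ : K →ₐ[k] LaurentSeries F) (f : K) (n : ℤ) (hn : n ≠ 0) :
    LocRes.resExp φ (f ^ (n - 1)) f = 0 := by
  unfold LocRes.resExp
  rw [LocRes.res_apply, map_zpow₀]
  exact res_zpow (φ f) n hn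

theorem main22 {k : Type u} {K : Type v} {F : Type w} [CommRing k] [Field K] [Field F]
    [Algebra k K] [Algebra k F]
    (w : Valuation K (WithZero (Multiplicative ℤ))) (φ : K →ₐ[k] LaurentSeries F)
    (hφ : LocRes.IsExpansionAt w φ) (y x : K) (hy : w y ≤ 1) (hx : w x ≤ 1) :
    LocRes.resExp φ y x = 0 := by
  unfold LocRes.resExp
  rw [LocRes.res_apply]
  obtain ⟨Fy, hFy⟩ := (LaurentSeries.val_le_one_iff_eq_coe F (φ y)).1 (by rw [hφ.1]; exact hy)
  obtain ⟨Fx, hFx⟩ := (LaurentSeries.val_le_one_iff_eq_coe F (φ x)).1 (by rw [hφ.1]; exact hx)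
  rw [← hFy, ← hFx, LocRes.D_coe, ← PowerSeries.coe_mul, PowerSeries.coeff_coe, if_pos (by omega)]

end Aux

/-- For a `k`-algebra homomorphism `φ : K → F((X))` from a field into formal Laurent series over a
field, an element `f` of `K` and a nonzero integer `n`, the residue of `f^(n-1) df` read through `φ`
— the `X⁻¹`-coefficient of `φ(f)^(n-1) · (φ f)′` — vanishes, in every characteristic (also when the
characteristic divides `n`). (The published statement is for the intrinsic residue of a complete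
field with a perfect coefficient field; read through an expansion it is this identity of Laurent
series, and no property of `φ` is needed.) -/
theorem result {k : Type u} {K : Type v} {F : Type w} [CommRing k] [Field K] [Field F]
    [Algebra k K] [Algebra k F]
    (φ : K →ₐ[k] LaurentSeries F) (f : K) (n : ℤ) (hn : n ≠ 0) :
    LocRes.resExp φ (f ^ (n - 1)) f = 0 := by
  exact Aux.main21 φ f n hn

end Groth.Agent.S12621
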