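import Groth.Statements.S12580
import Mathlib
import Groth.Prelude.Def_LocRes
import Groth.Prelude.Def_W4bk4goldsch23FF
import Groth.Agent.S10970
import Groth.Agent.S12621
-- import your own Groth.Agent.* helpers here

set_option autoImplicit false
universe u v w
open FunFld

namespace Groth.Agent.S12580

namespace Aux

theorem main (k : Type u) (K : Type v) [Field k] [Field K] [Algebra k K] (hK : FunFld.IsFunctionField k K)
    (F : FunFld.Place k K → Type w) [∀ P, Field (F P)] [∀ P, Algebra k (F P)] [∀ P, FiniteDimensional k (F P)]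
    (φ : ∀ P, K →ₐ[k] LaurentSeries (F P)) (hφ : ∀ P, LocRes.IsExpansionAt P.1 (φ P)) :
    (∀ (P : FunFld.Place k K) (u v : K), P.1 u ≤ 1 → P.1 v ≤ 1 → LocRes.resExp (φ P) u v = 0) ∧
    ∀ (a : FunFld.Place k K → K), a ∈ FunFld.adele k K → ∀ v : K,
      {P : FunFld.Place k K | LocRes.resExp (φ P) (a P) v ≠ 0}.Finite := by
  have h1 : ∀ (P : FunFld.Place k K) (u v : K), P.1 u ≤ 1 → P.1 v ≤ 1 →
      LocRes.resExp (φ P) u v = 0 := fun P u v hu hv =>
    Groth.Agent.S12621.Aux.main22 P.1 (φ P) (hφ P) u v hu hv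
  refine ⟨h1, ?_⟩
  intro a ha v
  have hfin1 : {P : FunFld.Place k K | ¬ P.1 (a P) ≤ 1}.Finite := ha
  have hfin2 := Groth.Agent.S10970.result k K hK v
  refine (hfin1.union hfin2).subset ?_
  intro P hP
  by_contra hcon
  rw [Set.mem_union, not_or] at hcon
  obtain ⟨c1, c2⟩ := hcon
  have ha1 : P.1 (a P) ≤ 1 := by
    by_contra h; exact c1 h
  have hv1 : P.1 v ≤ 1 := by
    have : P.ord v = 0 := by
      by_contra h; exact c2 h
    unfold FunFld.Place.ord at this
    by_cases hv0 : v = 0
    · subst hv0; simp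
    have hne : P.1 v ≠ 0 := (Valuation.ne_zero_iff _).2 hv0
    have hlog : WithZero.log (P.1 v) = 0 := by omega
    have : P.1 v = WithZero.exp (WithZero.log (P.1 v)) := (WithZero.exp_log hne).symm
    rw [this, hlog, WithZero.exp_zero]
  exact hP (h1 P (a P) v ha1 hv1)

end Aux

/-- In a function field of one variable `K/k`, `Res_P(u dv) = 0` when `u, v ∈ O_P` (already before the
trace), and for a repartition `α` and `v ∈ K`, `Res_P(α_P dv) = 0` for almost all `P`; residues read
through Laurent expansions over `k` at every place. -/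
theorem result (k : Type u) (K : Type v) [Field k] [Field K] [Algebra k K] (hK : FunFld.IsFunctionField k K)
    (F : FunFld.Place k K → Type w) [∀ P, Field (F P)] [∀ P, Algebra k (F P)] [∀ P, FiniteDimensional k (F P)]
    (φ : ∀ P, K →ₐ[k] LaurentSeries (F P)) (hφ : ∀ P, LocRes.IsExpansionAt P.1 (φ P)) :
    (∀ (P : FunFld.Place k K) (u v : K), P.1 u ≤ 1 → P.1 v ≤ 1 → LocRes.resExp (φ P) u v = 0) ∧
    ∀ (a : FunFld.Place k K → K), a ∈ FunFld.adele k K → ∀ v : K,
      {P : FunFld.Place k K | LocRes.resExp (φ P) (a P) v ≠ 0}.Finite := by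
  exact Aux.main k K hK F φ hφ

end Groth.Agent.S12580
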