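import Groth.Statements.S12584
import Mathlib
import Groth.Prelude.Def_W4bk4goldsch23Ext
import Groth.Prelude.Def_LocRes
import Groth.Agent.Lib.Helper9.FFExt.HyperDiff
-- import your own Groth.Agent.* helpers here

set_option autoImplicit false
universe u v w
open FunFld

namespace Groth.Agent.S12584

namespace Aux

open FunFld WithZero Polynomial IntermediateField
open Groth.Agent.Lib.Helper4.FF Groth.Agent.Helper9.FFExt Groth.Agent.Helper9.Tate
open Groth.Agent.Helper9.AS2 Groth.Agent.Helper9.Hyper Groth.Agent.Helper9.HyperDiff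

theorem main (k : Type u) (K : Type v) [Field k] [Field K] [Algebra k K] [Algebra (RatFunc k) K] [IsScalarTower k (RatFunc k) K]
    (hK : FunFld.IsFunctionField k K) (hdeg : Module.finrank (RatFunc k) K = 2) (h2 : ringChar k ≠ 2)
    (y : K) (f : Polynomial k) (hf : Squarefree f) (hd : 1 ≤ f.natDegree)
    (heq : y ^ 2 = algebraMap (RatFunc k) K (algebraMap (Polynomial k) (RatFunc k) f))
    (F : FunFld.Place k K → Type w) [∀ P, Field (F P)] [∀ P, Algebra k (F P)] [∀ P, FiniteDimensional k (F P)]
    (φ : ∀ P, K →ₐ[k] LaurentSeries (F P)) (hφ : ∀ P, LocRes.IsExpansionAt P.1 (φ P)) :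
    (∀ i : ℕ, i < FunFld.genus k K → ∀ P,
      LocRes.vDiff (φ P) (algebraMap (RatFunc k) K RatFunc.X ^ i / y) (algebraMap (RatFunc k) K RatFunc.X) ≤ 1) ∧
    ∀ z : K, (∀ P, LocRes.vDiff (φ P) z (algebraMap (RatFunc k) K RatFunc.X) ≤ 1) →
      ∃ a : Polynomial k, a.degree < (FunFld.genus k K : WithBot ℕ) ∧
        z = algebraMap (RatFunc k) K (algebraMap (Polynomial k) (RatFunc k) a) / y := by
  classical
  have hperf : PerfectField k := perfect_of_expansions hdeg h2
    (fun P => ⟨F P, inferInstance, inferInstance, φ P, hφ P⟩)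
  have hreg : ∀ i : ℕ, i < genus k K → ∀ P,
      LocRes.vDiff (φ P) (algebraMap (RatFunc k) K RatFunc.X ^ i / y)
        (algebraMap (RatFunc k) K RatFunc.X) ≤ 1 := fun i hi P =>
    regular_monomial h2 hK hdeg y f hf hd heq P (φ P) (hφ P) i hi
  refine ⟨hreg, ?_⟩
  intro z hz
  have hgK : IsGeometric k K := isGeometric_of_perfect k K hK.2
  have h2E := two_ne_zero_ratFunc h2
  have hsep : Algebra.IsSeparable (RatFunc k) K := isSeparable_of_finrank_two h2E hdeg
  have hv : KaehlerDifferential.D k K (algebraMap (RatFunc k) K RatFunc.X) ≠ 0 :=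
    D_algebraMap_X_ne_zero
  have hfE0 : algebraMap k[X] (RatFunc k) f ≠ 0 := algebraMap_poly_ne_zero hf.ne_zero
  have hy0 : y ≠ 0 := by
    rintro rfl
    rw [zero_pow (by norm_num)] at heq
    exact (map_ne_zero_iff _ (algebraMap (RatFunc k) K).injective).mpr hfE0 heq.symm
  obtain ⟨b, hb⟩ : ∃ b : Fin (genus k K) → K, b = fun i : Fin (genus k K) => Ty (k := k) y (X ^ (i : ℕ)) := ⟨_, rfl⟩
  have hbi : ∀ i, b i = algebraMap (RatFunc k) K RatFunc.X ^ (i : ℕ) / y := by
    intro i
    rw [hb]
    change Ty (k := k) y (X ^ (i : ℕ)) = _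
    rw [Ty_apply, map_pow, RatFunc.algebraMap_X, map_pow]
  have hli : LinearIndependent k b := by
    have h0 : LinearIndependent k (fun n : ℕ => (X : k[X]) ^ n) := by
      have := (Polynomial.basisMonomials k).linearIndependent
      rw [Polynomial.coe_basisMonomials] at this
      convert this using 2 with n
      exact Polynomial.X_pow_eq_monomial n
    have h1 : LinearIndependent k (fun i : Fin (genus k K) => (X : k[X]) ^ (i : ℕ)) :=
      h0.comp (fun i : Fin (genus k K) => (i : ℕ)) Fin.val_injective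
    have h3 := h1.map' (Ty (k := k) y) (LinearMap.ker_eq_bot.mpr (Ty_injective y hy0))
    rw [hb]
    exact h3
  have hspan := regular_span hK hgK hφ hv b (fun i P => by rw [hbi]; exact hreg i i.2 P) hli
    (Fintype.card_fin _) z hz
  obtain ⟨c, hc⟩ := (Submodule.mem_span_range_iff_exists_fun k).mp hspan
  refine ⟨∑ i : Fin (genus k K), c i • (X : k[X]) ^ (i : ℕ), ?_, ?_⟩
  · rw [← Polynomial.mem_degreeLT]
    apply Submodule.sum_mem
    intro i _
    apply Submodule.smul_mem
    rw [Polynomial.mem_degreeLT]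
    exact (degree_X_pow_le _).trans_lt (by exact_mod_cast i.2)
  · rw [← hc, ← Ty_apply, map_sum]
    refine Finset.sum_congr rfl fun i _ => ?_
    rw [map_smul, hb]

end Aux

/-- For `char k ≠ 2` and `K` of degree `2` over `k(x)` with `y² = f(x)`, `f` squarefree of degree `≥ 1`,
the forms `x^i dx/y`, `0 ≤ i < g`, are a `k`-basis of the regular differential forms: each is
regular, and every regular `z dx` has `z = a(x)/y` with `deg a < g`; regularity read through Laurent
expansions over `k` at every place (all places separable). -/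
theorem result (k : Type u) (K : Type v) [Field k] [Field K] [Algebra k K] [Algebra (RatFunc k) K] [IsScalarTower k (RatFunc k) K]
    (hK : FunFld.IsFunctionField k K) (hdeg : Module.finrank (RatFunc k) K = 2) (h2 : ringChar k ≠ 2)
    (y : K) (f : Polynomial k) (hf : Squarefree f) (hd : 1 ≤ f.natDegree)
    (heq : y ^ 2 = algebraMap (RatFunc k) K (algebraMap (Polynomial k) (RatFunc k) f))
    (F : FunFld.Place k K → Type w) [∀ P, Field (F P)] [∀ P, Algebra k (F P)] [∀ P, FiniteDimensional k (F P)]
    (φ : ∀ P, K →ₐ[k] LaurentSeries (F P)) (hφ : ∀ P, LocRes.IsExpansionAt P.1 (φ P)) :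
    (∀ i : ℕ, i < FunFld.genus k K → ∀ P,
      LocRes.vDiff (φ P) (algebraMap (RatFunc k) K RatFunc.X ^ i / y) (algebraMap (RatFunc k) K RatFunc.X) ≤ 1) ∧
    ∀ z : K, (∀ P, LocRes.vDiff (φ P) z (algebraMap (RatFunc k) K RatFunc.X) ≤ 1) →
      ∃ a : Polynomial k, a.degree < (FunFld.genus k K : WithBot ℕ) ∧
        z = algebraMap (RatFunc k) K (algebraMap (Polynomial k) (RatFunc k) a) / y := by
  exact Aux.main k K hK hdeg h2 y f hf hd heq F φ hφ

end Groth.Agent.S12584
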