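import Groth.Statements.S12585
import Mathlib
import Groth.Agent.Lib.Helper9.FFExt.RiemannIneq
-- import your own Groth.Agent.* helpers here

set_option autoImplicit false
universe u v
open FunFld

namespace Groth.Agent.S12585

open FunFld
namespace Aux
open Groth.Agent.Helper9.FFExt Groth.Agent.Lib.Helper4.FF WithZero

theorem transcendental_of_finrank_pos {k : Type u} {K : Type v} [Field k] [Field K] [Algebra k K]
    (hK : FunFld.IsFunctionField k K) (x : K)
    (hx : 0 < Module.finrank (IntermediateField.adjoin k ({x} : Set K)) K) : Transcendental k x := by
  intro halg
  have hfd : FiniteDimensional (IntermediateField.adjoin k ({x} : Set K)) K :=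
    Module.finite_of_finrank_pos hx
  have h1 : Algebra.IsAlgebraic k (IntermediateField.adjoin k ({x} : Set K)) :=
    IntermediateField.isAlgebraic_adjoin_simple halg.isIntegral
  have h2 : Algebra.IsAlgebraic (IntermediateField.adjoin k ({x} : Set K)) K :=
    Algebra.IsAlgebraic.of_finite _ _
  have h3 : Algebra.IsAlgebraic k K := Algebra.IsAlgebraic.trans k (IntermediateField.adjoin k ({x} : Set K)) K
  obtain ⟨x₀, hx₀, -⟩ := hK.1
  exact hx₀ (h3.isAlgebraic x₀)

theorem main (k : Type u) (K : Type v) [Field k] [Field K] [Algebra k K]
    (hK : FunFld.IsFunctionField k K) (hg : 2 ≤ FunFld.genus k K)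
    (x x' : K) (hx : Module.finrank (IntermediateField.adjoin k ({x} : Set K)) K = 2)
    (hx' : Module.finrank (IntermediateField.adjoin k ({x'} : Set K)) K = 2) :
    IntermediateField.adjoin k ({x} : Set K) = IntermediateField.adjoin k ({x'} : Set K) := by
  have hxt := transcendental_of_finrank_pos hK x (by omega)
  have hx't := transcendental_of_finrank_pos hK x' (by omega)
  have hfd : FiniteDimensional (IntermediateField.adjoin k ({x} : Set K)) K :=
    Module.finite_of_finrank_pos (by omega)
  have hfd' : FiniteDimensional (IntermediateField.adjoin k ({x'} : Set K)) K :=
    Module.finite_of_finrank_pos (by omega)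
  by_cases hmem : x' ∈ IntermediateField.adjoin k ({x} : Set K)
  · symm
    apply IntermediateField.eq_of_le_of_finrank_eq'
    · rw [IntermediateField.adjoin_simple_le_iff]
      exact hmem
    · rw [hx, hx']
  · exfalso
    set F := IntermediateField.adjoin k ({x} : Set K) with hF
    have hprime : (Module.finrank F K).Prime := by rw [hx]; exact Nat.prime_two
    have hsimple := IntermediateField.isSimpleOrder_of_finrank_prime F K hprime
    have htop' : IntermediateField.adjoin F ({x'} : Set K) = ⊤ := by
      rcases eq_bot_or_eq_top (IntermediateField.adjoin F ({x'} : Set K)) with h | h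
      · exfalso
        have h1 : x' ∈ IntermediateField.adjoin F ({x'} : Set K) :=
          IntermediateField.mem_adjoin_simple_self F x'
        rw [h, IntermediateField.mem_bot] at h1
        obtain ⟨z, hz⟩ := h1
        apply hmem
        rw [← hz]
        exact z.2
      · exact h
    have htop : IntermediateField.adjoin k ({x, x'} : Set K) = ⊤ := by
      have := congrArg (IntermediateField.restrictScalars k) htop'
      rw [IntermediateField.restrictScalars_top, hF, IntermediateField.adjoin_adjoin_left] at this
      rw [← this]
      congr 1
    have h := riemann_inequality hK hxt hx't htop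
    rw [hx, hx'] at h
    norm_num at h
    omega

end Aux

/-- A function field of one variable `K/k` over a perfect field `k` with `char k ≠ 2` and genus `≥ 2`
has at most one rational subfield `k(x)` with `[K : k(x)] = 2`. (The published statement allows any
field of characteristic `≠ 2`; its argument needs the squarefree polynomial `f` with `y² = f(x)` to
be prime to its derivative, which holds when `f` is separable; this row takes `k` perfect.) -/
theorem result (k : Type u) (K : Type v) [Field k] [Field K] [Algebra k K] [PerfectField k]
    (hK : FunFld.IsFunctionField k K) (h2 : ringChar k ≠ 2) (hg : 2 ≤ FunFld.genus k K)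
    (x x' : K) (hx : Module.finrank (IntermediateField.adjoin k ({x} : Set K)) K = 2)
    (hx' : Module.finrank (IntermediateField.adjoin k ({x'} : Set K)) K = 2) :
    IntermediateField.adjoin k ({x} : Set K) = IntermediateField.adjoin k ({x'} : Set K) := by
  exact Aux.main k K hK hg x x' hx hx'

end Groth.Agent.S12585
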