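import Groth.Statements.S12587
import Mathlib
import Groth.Prelude.Def_W4bk4goldsch23Ext
import Groth.Prelude.Def_LocRes
import Groth.Agent.S11028
import Groth.Agent.Lib.Helper9.FFExt.AS2
-- import your own Groth.Agent.* helpers here

set_option autoImplicit false
universe u v w
open FunFld

namespace Groth.Agent.S12587

namespace Aux

open FunFld WithZero Polynomial IntermediateField
open Groth.Agent.Lib.Helper4.FF Groth.Agent.Helper9.FFExt Groth.Agent.Helper9.Tate
open Groth.Agent.Helper9.AS2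

section

variable {k : Type u} {K : Type v} [Field k] [Field K] [Algebra k K] [Algebra (RatFunc k) K]
  [IsScalarTower k (RatFunc k) K]

/-- `a ↦ a(x)/q(x)` as a `k`-linear map into `K` -/
noncomputable def T (q : k[X]) : k[X] →ₗ[k] K where
  toFun a := algebraMap (RatFunc k) K (algebraMap k[X] (RatFunc k) a / algebraMap k[X] (RatFunc k) q)
  map_add' a b := by rw [map_add, add_div, map_add]
  map_smul' c a := by
    rw [RingHom.id_apply, Algebra.smul_def c a, map_mul, mul_div_assoc, map_mul,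
      ← IsScalarTower.algebraMap_apply k k[X] (RatFunc k), ← IsScalarTower.algebraMap_apply k (RatFunc k) K,
      Algebra.smul_def]

theorem T_injective (q : k[X]) (hq0 : q ≠ 0) : Function.Injective (T (K := K) q) := by
  rw [← LinearMap.ker_eq_bot, LinearMap.ker_eq_bot']
  intro a ha
  change algebraMap (RatFunc k) K (algebraMap k[X] (RatFunc k) a / algebraMap k[X] (RatFunc k) q) = 0 at ha
  rw [map_eq_zero_iff _ (algebraMap (RatFunc k) K).injective, div_eq_zero_iff] at ha
  rcases ha with ha | ha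
  · exact (map_eq_zero_iff _ (IsFractionRing.injective k[X] (RatFunc k))).mp ha
  · exact absurd ha (algebraMap_poly_ne_zero hq0)


theorem genus_eq [PerfectField k] (h2 : ringChar k = 2) (hK : IsFunctionField k K)
    (hdeg : Module.finrank (RatFunc k) K = 2) (y : K)
    (hy : y ∉ Set.range (algebraMap (RatFunc k) K)) (f : RatFunc k)
    (heq : y ^ 2 + y = algebraMap (RatFunc k) K f)
    (hodd : ∀ p : Place k (RatFunc k), p.ord f < 0 → Odd (p.ord f))
    (q : k[X]) (hq0 : q ≠ 0)
    (hq : ∀ p : Place k (RatFunc k), p.1 RatFunc.X ≤ 1 →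
      p.ord (algebraMap k[X] (RatFunc k) q) = if p.ord f < 0 then (1 - p.ord f) / 2 else 0)
    (Pinf : Place k (RatFunc k)) (hdinf : Pinf.deg = 1) (hXinf : 1 < Pinf.1 RatFunc.X)
    (huniq : ∀ P : Place k (RatFunc k), 1 < P.1 RatFunc.X → P = Pinf) :
    (genus k K : ℤ) = -1 + q.natDegree + (if Pinf.ord f < 0 then (1 - Pinf.ord f) / 2 else 0) := by
  classical
  have hE : IsFunctionField k (RatFunc k) := isFunctionField_ratFunc
  have hdivf : ∀ P, div k f P = P.ord f := div_apply hE f
  have hdivq : ∀ P, div k (algebraMap k[X] (RatFunc k) q) P = P.ord (algebraMap k[X] (RatFunc k) q) :=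
    div_apply hE _
  have h28 := Groth.Agent.S11028.Aux.main k K h2 hK hdeg y hy f heq (by
    intro P hP
    rw [hdivf] at hP ⊢
    exact hodd P hP)
  obtain ⟨S, hS⟩ : ∃ S : Finset (Place k (RatFunc k)),
      S = (div k f).support.filter (fun P => div k f P < 0) := ⟨_, rfl⟩
  rw [← hS] at h28
  have hmemS : ∀ p, p ∈ S ↔ p.ord f < 0 := by
    intro p
    rw [hS, Finset.mem_filter, Finsupp.mem_support_iff, hdivf]
    constructor
    · exact fun h => h.2
    · exact fun h => ⟨h.ne, h⟩
  have hfinite : ∀ P : Place k (RatFunc k), P ≠ Pinf → P.1 RatFunc.X ≤ 1 := by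
    intro P hP
    by_contra h
    exact hP (huniq P (not_le.mp h))
  -- the finite part
  obtain ⟨Dq, hDq⟩ : ∃ D : Divisor k (RatFunc k), D = div k (algebraMap k[X] (RatFunc k) q) := ⟨_, rfl⟩
  rw [← hDq] at hdivq
  have hfin : ∑ P ∈ S.erase Pinf, (1 - div k f P) / 2 * (P.deg : ℤ) = q.natDegree := by
    have h1 : ∑ P ∈ S.erase Pinf, (1 - div k f P) / 2 * (P.deg : ℤ) =
        ∑ P ∈ S.erase Pinf, Dq P * (P.deg : ℤ) := by
      refine Finset.sum_congr rfl fun P hP => ?_
      rw [Finset.mem_erase] at hP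
      rw [hdivq, hq P (hfinite P hP.1), if_pos ((hmemS P).mp hP.2), hdivf]
    have h2' : ∑ P ∈ Dq.support.erase Pinf, Dq P * (P.deg : ℤ) =
        ∑ P ∈ S.erase Pinf, Dq P * (P.deg : ℤ) := by
      apply Finset.sum_subset
      · intro P hP
        rw [Finset.mem_erase, Finsupp.mem_support_iff] at hP
        rw [Finset.mem_erase]
        refine ⟨hP.1, (hmemS P).mpr ?_⟩
        by_contra hnn
        apply hP.2
        rw [hdivq, hq P (hfinite P hP.1), if_neg hnn]
      · intro P hP2 hP
        have : Dq P = 0 := by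
          by_contra h0
          apply hP
          rw [Finset.mem_erase]
          exact ⟨(Finset.mem_erase.mp hP2).1, Finsupp.mem_support_iff.mpr h0⟩
        rw [this, zero_mul]
    have h3 : Divisor.deg (Dq.erase Pinf) = ∑ P ∈ Dq.support.erase Pinf, Dq P * (P.deg : ℤ) := by
      unfold FunFld.Divisor.deg Finsupp.sum
      rw [Finsupp.support_erase]
      refine Finset.sum_congr rfl fun P hP => ?_
      rw [Finsupp.erase_ne (Finset.mem_erase.mp hP).1]
    have h4 : Dq.deg = 0 := by rw [hDq]; exact deg_div hE _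
    have h5 : Dq = Finsupp.single Pinf (Dq Pinf) + Dq.erase Pinf := (Finsupp.single_add_erase _ _).symm
    rw [h5, Divisor.deg_add, Divisor.deg_single, hdinf, hdivq, ord_poly_infty Pinf hXinf hq0] at h4
    rw [h1, ← h2', ← h3]
    push_cast at h4
    linarith
  by_cases hinf : Pinf.ord f < 0
  · rw [if_pos hinf]
    have hm : Pinf ∈ S := (hmemS Pinf).mpr hinf
    rw [← Finset.add_sum_erase S _ hm, hfin, hdivf, hdinf] at h28
    rw [h28]
    push_cast
    ring
  · rw [if_neg hinf]
    have hm : Pinf ∉ S := fun h => hinf ((hmemS Pinf).mp h)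
    rw [Finset.erase_eq_of_notMem hm] at hfin
    rw [hfin] at h28
    rw [h28]
    ring


theorem regular_monomial [PerfectField k] (h2 : ringChar k = 2) (hK : IsFunctionField k K)
    (hdeg : Module.finrank (RatFunc k) K = 2) (y : K)
    (hy : y ∉ Set.range (algebraMap (RatFunc k) K)) (f : RatFunc k)
    (heq : y ^ 2 + y = algebraMap (RatFunc k) K f)
    (hodd : ∀ p : Place k (RatFunc k), p.ord f < 0 → Odd (p.ord f))
    (q : k[X]) (hq0 : q ≠ 0)
    (hq : ∀ p : Place k (RatFunc k), p.1 RatFunc.X ≤ 1 →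
      p.ord (algebraMap k[X] (RatFunc k) q) = if p.ord f < 0 then (1 - p.ord f) / 2 else 0)
    {F' : Type w} [Field F'] [Algebra k F'] (Q : Place k K) (ψ : K →ₐ[k] LaurentSeries F')
    (hψ : LocRes.IsExpansionAt Q.1 ψ) (i : ℕ) (hi : (i : ℤ) + 1 ≤ genus k K) :
    LocRes.vDiff ψ (algebraMap (RatFunc k) K (RatFunc.X ^ i / algebraMap k[X] (RatFunc k) q))
      (algebraMap (RatFunc k) K RatFunc.X) ≤ 1 := by
  classical
  have hfin : FiniteDimensional (RatFunc k) K :=
    Module.finite_of_finrank_pos (by rw [hdeg]; norm_num)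
  have halg : Algebra.IsAlgebraic (RatFunc k) K := Algebra.IsAlgebraic.of_finite _ _
  have hgK : IsGeometric k K := isGeometric_of_perfect k K hK.2
  have h2E := two_eq_zero_ratFunc h2
  have hsep : Algebra.IsSeparable (RatFunc k) K := isSeparable_AS h2E hdeg y hy f heq
  obtain ⟨Pinf, hdinf, hXinf, huniq⟩ := exists_infty (k := k)
  have hgen := genus_eq h2 hK hdeg y hy f heq hodd q hq0 hq Pinf hdinf hXinf huniq
  obtain ⟨p, e, he⟩ := exists_below' (K := RatFunc k) Q
  obtain ⟨hee, hoD⟩ := as_ordDiff h2 hK hdeg y hy f heq hodd Q p e he ψ hψ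
  have hx' : LocRes.vDiff ψ 1 (algebraMap (RatFunc k) K RatFunc.X) ≠ 0 :=
    vDiff_ne_zero_gen (isFFw_of_isFunctionField hK) hgK hψ one_ne_zero D_algebraMap_X_ne_zero
  have hX0 : (RatFunc.X : RatFunc k) ≠ 0 := RatFunc.X_ne_zero
  have hq'0 := algebraMap_poly_ne_zero (k := k) hq0
  have hu0 : (RatFunc.X : RatFunc k) ^ i / algebraMap k[X] (RatFunc k) q ≠ 0 :=
    div_ne_zero (pow_ne_zero _ hX0) hq'0
  have hu0' : algebraMap (RatFunc k) K (RatFunc.X ^ i / algebraMap k[X] (RatFunc k) q) ≠ 0 :=
    (map_ne_zero_iff _ (algebraMap (RatFunc k) K).injective).mpr hu0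
  rw [vDiff_le_one_iff Q hψ hu0' hx', ow_ord_eq he, hoD, div_eq_mul_inv,
    Place.ord_mul p (pow_ne_zero _ hX0) (inv_ne_zero hq'0), Place.ord_inv, Place.ord_pow]
  obtain ⟨A, hA⟩ : ∃ A : ℤ, A = (i : ℤ) * p.ord (RatFunc.X : RatFunc k) := ⟨_, rfl⟩
  rw [← hA]
  by_cases hX : 1 < p.1 RatFunc.X
  · -- the infinite place
    have hp : p = Pinf := huniq p hX
    subst hp
    rw [if_pos hX, ord_poly_infty p hX hq0]
    rw [ord_X_infty p hX] at hA
    by_cases hpole : p.ord f < 0
    · rw [if_pos hpole] at hee hoD hgen ⊢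
      obtain ⟨m, hm⟩ := hodd p hpole
      subst hee
      have : (1 - p.ord f) / 2 = -m := by omega
      rw [this] at hgen
      push_cast
      omega
    · rw [if_neg hpole] at hee hoD hgen ⊢
      subst hee
      push_cast
      omega
  · rw [if_neg hX]
    push Not at hX
    have hA0 : 0 ≤ A := by
      rw [hA]
      exact mul_nonneg (Int.natCast_nonneg i) ((Place.ord_nonneg_iff p hX0).mpr hX)
    rw [hq p hX]
    by_cases hpole : p.ord f < 0
    · rw [if_pos hpole] at hee ⊢
      rw [if_pos hpole]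
      obtain ⟨m, hm⟩ := hodd p hpole
      subst hee
      have : (1 - p.ord f) / 2 = -m := by omega
      rw [this]
      push_cast
      omega
    · rw [if_neg hpole] at hee ⊢
      rw [if_neg hpole]
      subst hee
      push_cast
      omega

end

theorem main (k : Type u) (K : Type v) [Field k] [Field K] [Algebra k K] [Algebra (RatFunc k) K] [IsScalarTower k (RatFunc k) K]
    (hK : FunFld.IsFunctionField k K) (hdeg : Module.finrank (RatFunc k) K = 2) [PerfectField k] (h2 : ringChar k = 2)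
    (y : K) (hy : y ∉ Set.range (algebraMap (RatFunc k) K)) (f : RatFunc k)
    (heq : y ^ 2 + y = algebraMap (RatFunc k) K f)
    (hodd : ∀ p : FunFld.Place k (RatFunc k), 1 < p.1 f → Odd (p.ord f))
    (q : Polynomial k) (hq0 : q ≠ 0)
    (hq : ∀ p : FunFld.Place k (RatFunc k), p.1 RatFunc.X ≤ 1 →
      p.ord (algebraMap (Polynomial k) (RatFunc k) q) = if 1 < p.1 f then (1 - p.ord f) / 2 else 0)
    (F : FunFld.Place k K → Type w) [∀ P, Field (F P)] [∀ P, Algebra k (F P)] [∀ P, FiniteDimensional k (F P)]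
    (φ : ∀ P, K →ₐ[k] LaurentSeries (F P)) (hφ : ∀ P, LocRes.IsExpansionAt P.1 (φ P)) :
    (∀ i : ℕ, i < FunFld.genus k K → ∀ P,
      LocRes.vDiff (φ P) (algebraMap (RatFunc k) K (RatFunc.X ^ i / algebraMap (Polynomial k) (RatFunc k) q))
        (algebraMap (RatFunc k) K RatFunc.X) ≤ 1) ∧
    ∀ z : K, (∀ P, LocRes.vDiff (φ P) z (algebraMap (RatFunc k) K RatFunc.X) ≤ 1) →
      ∃ a : Polynomial k, a.degree < (FunFld.genus k K : WithBot ℕ) ∧
        z = algebraMap (RatFunc k) K (algebraMap (Polynomial k) (RatFunc k) a / algebraMap (Polynomial k) (RatFunc k) q) := by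
  classical
  have hf0 : f ≠ 0 := by
    rintro rfl
    rw [map_zero] at heq
    have : y * (y + 1) = 0 := by rw [← heq]; ring
    rcases mul_eq_zero.mp this with h | h
    · exact hy ⟨0, by rw [map_zero, h]⟩
    · exact hy ⟨-1, by rw [map_neg, map_one]; exact (eq_neg_of_add_eq_zero_left h).symm⟩
  have hodd' : ∀ p : Place k (RatFunc k), p.ord f < 0 → Odd (p.ord f) :=
    fun p hp => hodd p ((Place.ord_neg_iff p hf0).mp hp)
  have hq' : ∀ p : Place k (RatFunc k), p.1 RatFunc.X ≤ 1 →
      p.ord (algebraMap k[X] (RatFunc k) q) = if p.ord f < 0 then (1 - p.ord f) / 2 else 0 := by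
    intro p hp
    rw [hq p hp]
    simp only [Place.ord_neg_iff p hf0]
  have hreg : ∀ i : ℕ, i < genus k K → ∀ P,
      LocRes.vDiff (φ P) (algebraMap (RatFunc k) K (RatFunc.X ^ i / algebraMap k[X] (RatFunc k) q))
        (algebraMap (RatFunc k) K RatFunc.X) ≤ 1 := fun i hi P =>
    regular_monomial h2 hK hdeg y hy f heq hodd' q hq0 hq' P (φ P) (hφ P) i (by exact_mod_cast hi)
  refine ⟨hreg, ?_⟩
  intro z hz
  have hgK : IsGeometric k K := isGeometric_of_perfect k K hK.2
  have h2E := two_eq_zero_ratFunc h2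
  have hsep : Algebra.IsSeparable (RatFunc k) K := isSeparable_AS h2E hdeg y hy f heq
  have hv : KaehlerDifferential.D k K (algebraMap (RatFunc k) K RatFunc.X) ≠ 0 :=
    D_algebraMap_X_ne_zero
  obtain ⟨b, hb⟩ : ∃ b : Fin (genus k K) → K, b = fun i : Fin (genus k K) => T (K := K) q (X ^ (i : ℕ)) := ⟨_, rfl⟩
  have hbi : ∀ i, b i = algebraMap (RatFunc k) K
      (RatFunc.X ^ (i : ℕ) / algebraMap k[X] (RatFunc k) q) := by
    intro i
    rw [hb]
    change algebraMap _ _ (algebraMap k[X] (RatFunc k) (X ^ (i : ℕ)) / _) = _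
    rw [map_pow, RatFunc.algebraMap_X]
  have hli : LinearIndependent k b := by
    have h0 : LinearIndependent k (fun n : ℕ => (X : k[X]) ^ n) := by
      have := (Polynomial.basisMonomials k).linearIndependent
      rw [Polynomial.coe_basisMonomials] at this
      convert this using 2 with n
      exact Polynomial.X_pow_eq_monomial n
    have h1 : LinearIndependent k (fun i : Fin (genus k K) => (X : k[X]) ^ (i : ℕ)) :=
      h0.comp (fun i : Fin (genus k K) => (i : ℕ)) Fin.val_injective
    have h3 := h1.map' (T (K := K) q) (LinearMap.ker_eq_bot.mpr (T_injective q hq0))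
    rw [hb]
    exact h3
  have hspan := regular_span hK hgK hφ hv b (fun i P => by rw [hbi]; exact hreg i i.2 P) hli
    (Fintype.card_fin _) z hz
  obtain ⟨c, hc⟩ := (Submodule.mem_span_range_iff_exists_fun k).mp hspan
  refine ⟨∑ i : Fin (genus k K), c i • (X : k[X]) ^ (i : ℕ), ?_, ?_⟩
  · rw [← Polynomial.mem_degreeLT]
    apply Submodule.sum_mem
    intro i _
    apply Submodule.smul_mem
    rw [Polynomial.mem_degreeLT]
    exact (degree_X_pow_le _).trans_lt (by exact_mod_cast i.2)
  · rw [← hc]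
    change _ = T (K := K) q (∑ i : Fin (genus k K), c i • (X : k[X]) ^ (i : ℕ))
    rw [map_sum]
    refine Finset.sum_congr rfl fun i _ => ?_
    rw [map_smul, hb]

end Aux

/-- For `k` perfect of characteristic `2` and `K = k(x, y)` with `y² + y = f(x)`, all poles of `f` of
odd order `2d_i - 1` at `p_i`, and `q = ∏ p_i^{d_i}` over the finite poles, the forms `x^i dx/q(x)`,
`0 ≤ i < g`, are a `k`-basis of the regular differential forms; regularity read through Laurent
expansions over `k` at every place; `q` is pinned up to a constant by its orders at the finite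
places. -/
theorem result (k : Type u) (K : Type v) [Field k] [Field K] [Algebra k K] [Algebra (RatFunc k) K] [IsScalarTower k (RatFunc k) K]
    (hK : FunFld.IsFunctionField k K) (hdeg : Module.finrank (RatFunc k) K = 2) [PerfectField k] (h2 : ringChar k = 2)
    [Algebra.IsSeparable (RatFunc k) K]
    (y : K) (hy : y ∉ Set.range (algebraMap (RatFunc k) K)) (f : RatFunc k)
    (heq : y ^ 2 + y = algebraMap (RatFunc k) K f)
    (hodd : ∀ p : FunFld.Place k (RatFunc k), 1 < p.1 f → Odd (p.ord f))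
    (q : Polynomial k) (hq0 : q ≠ 0)
    (hq : ∀ p : FunFld.Place k (RatFunc k), p.1 RatFunc.X ≤ 1 →
      p.ord (algebraMap (Polynomial k) (RatFunc k) q) = if 1 < p.1 f then (1 - p.ord f) / 2 else 0)
    (F : FunFld.Place k K → Type w) [∀ P, Field (F P)] [∀ P, Algebra k (F P)] [∀ P, FiniteDimensional k (F P)]
    (φ : ∀ P, K →ₐ[k] LaurentSeries (F P)) (hφ : ∀ P, LocRes.IsExpansionAt P.1 (φ P)) :
    (∀ i : ℕ, i < FunFld.genus k K → ∀ P,
      LocRes.vDiff (φ P) (algebraMap (RatFunc k) K (RatFunc.X ^ i / algebraMap (Polynomial k) (RatFunc k) q))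
        (algebraMap (RatFunc k) K RatFunc.X) ≤ 1) ∧
    ∀ z : K, (∀ P, LocRes.vDiff (φ P) z (algebraMap (RatFunc k) K RatFunc.X) ≤ 1) →
      ∃ a : Polynomial k, a.degree < (FunFld.genus k K : WithBot ℕ) ∧
        z = algebraMap (RatFunc k) K (algebraMap (Polynomial k) (RatFunc k) a / algebraMap (Polynomial k) (RatFunc k) q) := by
  exact Aux.main k K hK hdeg h2 y hy f heq hodd q hq0 hq F φ hφ

end Groth.Agent.S12587
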