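import Groth.Statements.S12589
import Mathlib
import Groth.Prelude.Def_W4bk4goldsch23FF
import Groth.Prelude.Def_W4bk4goldsch23Ext
import Groth.Agent.Lib.Helper9.FFExt.ConstExt9
-- import your own Groth.Agent.* helpers here

set_option autoImplicit false
universe u v
open FunFld

namespace Groth.Agent.S12589

open FunFld
open Groth.Agent.Lib.Helper4.FF Groth.Agent.Helper9.FFExt
namespace Aux

theorem main (k k' : Type u) (K K' : Type v) [Field k] [Field k'] [Field K] [Field K']
    [Algebra k k'] [FiniteDimensional k k'] [Algebra k K] [Algebra K K'] [Algebra k' K'] [Algebra k K']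
    [IsScalarTower k k' K'] [IsScalarTower k K K']
    (h : Function.Bijective (Algebra.TensorProduct.productMap
      (IsScalarTower.toAlgHom k k' K') (IsScalarTower.toAlgHom k K K')))
    (hK : FunFld.IsFunctionField k K)
    (P : FunFld.Place k K) [Algebra P.O K'] [IsScalarTower P.O K K']
    (hns : (integralClosure P.O K').toSubring = (Algebra.adjoin P.O (Set.range (algebraMap k' K'))).toSubring)
    (Q : FunFld.Place k K') [P.1.HasExtension Q.1] (hk' : ∀ c : k', Q.1 (algebraMap k' K' c) ≤ 1) :
    Algebra.adjoin (IsLocalRing.ResidueField P.O)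
      (Set.range fun c : k' => IsLocalRing.residue Q.O ⟨algebraMap k' K' c, hk' c⟩) = ⊤ := by
  have hfin := finite_of_bij h
  have hkQ : ∀ (Q : Place k K') (c : k'), Q.1 (algebraMap k' K' c) ≤ 1 := fun Q c =>
    val_le_one_of_isAlgebraic Q ((Algebra.IsAlgebraic.isAlgebraic c).algebraMap)
  have hNS : NS k' K' P := (ns_iff_algebra hK.1 P hkQ).mp hns
  have hQ : IsOver Q P := isOver_of_forall' fun x hx =>
    ((Valuation.HasExtension.val_map_lt_one_iff P.1 Q.1 x).mpr hx).le
  rw [eq_top_iff]
  intro ξ _
  obtain ⟨y, rfl⟩ := IsLocalRing.residue_surjective ξ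
  obtain ⟨r, hr1, hr2⟩ := exists_semilocal_approx hK.1 hQ (y : K') ((Place.mem_O_iff Q).mp y.2)
  have hrO : r ∈ OPk k' K' P := hNS r hr1
  -- residues of elements of `O_P[k']` lie in the adjoin
  have hle : ∀ x ∈ OPk k' K' P, Q.1 x ≤ 1 := fun x hx => OPk_le P hkQ hx hQ
  have key : ∀ (x : K') (hx : x ∈ OPk k' K' P),
      IsLocalRing.residue Q.O ⟨x, (Place.mem_O_iff Q).mpr (hle x hx)⟩ ∈
        Algebra.adjoin (IsLocalRing.ResidueField P.O)
          (Set.range fun c : k' => IsLocalRing.residue Q.O ⟨algebraMap k' K' c, hk' c⟩) := by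
    intro x hx
    induction hx using Subring.closure_induction with
    | mem x hx =>
      rcases hx with ⟨z, hz, rfl⟩ | ⟨c, rfl⟩
      · have : IsLocalRing.residue Q.O ⟨algebraMap K K' z, (Place.mem_O_iff Q).mpr
            (hle _ (Subring.subset_closure (Or.inl ⟨z, hz, rfl⟩)))⟩ =
            algebraMap (IsLocalRing.ResidueField P.O) (IsLocalRing.ResidueField Q.O)
              (IsLocalRing.residue P.O ⟨z, (Place.mem_O_iff P).mpr hz⟩) := rfl
        rw [this]
        exact Subalgebra.algebraMap_mem _ _
      · exact Algebra.subset_adjoin ⟨c, rfl⟩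
    | zero => exact Subalgebra.zero_mem _
    | one => exact Subalgebra.one_mem _
    | add x y hx hy ihx ihy => exact Subalgebra.add_mem _ ihx ihy
    | neg x hx ihx => exact Subalgebra.neg_mem _ ihx
    | mul x y hx hy ihx ihy => exact Subalgebra.mul_mem _ ihx ihy
  have heq : IsLocalRing.residue Q.O y =
      IsLocalRing.residue Q.O ⟨r, (Place.mem_O_iff Q).mpr (hle r hrO)⟩ := by
    symm
    rw [← sub_eq_zero, ← map_sub, IsLocalRing.residue_eq_zero_iff,
      mem_maximalIdeal_iff (k := k) Q]
    exact hr2
  rw [heq]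
  exact key r hrO

end Aux

/-- If a place `P` of a geometric function field of one variable `K/k` is nonsingular with respect to
the finite extension `k'/k` (the integral closure of `O_P` in `K' = k' ⊗_k K` is `O_P[k']`) and `Q`
is a place of `K'` above `P`, then `F_Q = k' F_P`. -/
theorem result (k k' : Type u) (K K' : Type v) [Field k] [Field k'] [Field K] [Field K']
    [Algebra k k'] [FiniteDimensional k k'] [Algebra k K] [Algebra K K'] [Algebra k' K'] [Algebra k K']
    [IsScalarTower k k' K'] [IsScalarTower k K K']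
    (h : Function.Bijective (Algebra.TensorProduct.productMap
      (IsScalarTower.toAlgHom k k' K') (IsScalarTower.toAlgHom k K K')))
    (hK : FunFld.IsFunctionField k K) (hg : FunFld.IsGeometric k K)
    (P : FunFld.Place k K) [Algebra P.O K'] [IsScalarTower P.O K K']
    (hns : (integralClosure P.O K').toSubring = (Algebra.adjoin P.O (Set.range (algebraMap k' K'))).toSubring)
    (Q : FunFld.Place k K') [P.1.HasExtension Q.1] (hk' : ∀ c : k', Q.1 (algebraMap k' K' c) ≤ 1) :
    Algebra.adjoin (IsLocalRing.ResidueField P.O)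
      (Set.range fun c : k' => IsLocalRing.residue Q.O ⟨algebraMap k' K' c, hk' c⟩) = ⊤ := by
  exact Aux.main k k' K K' h hK P hns Q hk'

end Groth.Agent.S12589
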