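import Groth.Statements.S12593
import Mathlib
import Groth.Prelude.Def_W4bk4goldsch23Ext
import Groth.Agent.Lib.Helper9.FFExt.AlgCl1
-- import your own Groth.Agent.* helpers here

set_option autoImplicit false
universe u v
open FunFld

namespace Groth.Agent.S12593

open FunFld WithZero TensorProduct
open Groth.Agent.Lib.Helper4.FF Groth.Agent.Helper9.FFExt Groth.Agent.Helper9.GenusDrop Groth.Agent.Helper9.AlgCl
namespace Aux

theorem main (k kbar : Type u) (K Kbar : Type v) [Field k] [Field kbar] [Field K] [Field Kbar]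
    [Algebra k kbar] [IsAlgClosure k kbar] [Algebra k K] [Algebra K Kbar] [Algebra kbar Kbar] [Algebra k Kbar]
    [IsScalarTower k kbar Kbar] [IsScalarTower k K Kbar]
    (h : Function.Bijective (Algebra.TensorProduct.productMap
      (IsScalarTower.toAlgHom k kbar Kbar) (IsScalarTower.toAlgHom k K Kbar)))
    (hK : FunFld.IsFunctionField k K) (hg : FunFld.IsGeometric k K) (Q : FunFld.Place kbar Kbar) :
    ∃ k' : IntermediateField k kbar, FiniteDimensional k k' ∧
      (∃ z ∈ Algebra.adjoin K (Set.range fun c : k' => algebraMap kbar Kbar c), Q.1 z = WithZero.exp (-1)) ∧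
      ∀ Q' : FunFld.Place kbar Kbar,
        (∃ e : ℕ, ∀ z ∈ Algebra.adjoin K (Set.range fun c : k' => algebraMap kbar Kbar c), Q'.1 z = Q.1 z ^ e) → Q' = Q := by
  classical
  haveI : Algebra.IsAlgebraic k kbar := IsAlgClosure.isAlgebraic
  haveI : Algebra.IsAlgebraic K Kbar := isAlgebraic_of_surj h.2
  obtain ⟨P, e₀, he₀⟩ := exists_below' (K := K) (ofK' (k := k) Q)
  have hfin := finite_over_alg h hK hg P
  obtain ⟨z₀, hz₀⟩ := Q.2.2 (exp (-1))
  have hsep : ∀ Q' : Place k Kbar, ∃ y : Kbar, Q' ≠ ofK' (k := k) Q → Q'.1 y < 1 ∧ 1 < Q.1 y := by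
    intro Q'
    by_cases hne : Q' = ofK' (k := k) Q
    · exact ⟨0, fun h => absurd hne h⟩
    · obtain ⟨y, hy⟩ := exists_sep hne
      exact ⟨y, fun _ => hy⟩
  choose ysep hysep using hsep
  obtain ⟨E, hE, hY⟩ := exists_finite_level_finset h.2 (insert z₀ (hfin.toFinset.image ysep))
  refine ⟨E, hE, ⟨z₀, hY z₀ (Finset.mem_insert_self _ _), hz₀⟩, ?_⟩
  rintro Q' ⟨e, he⟩
  have hQ'P : IsOver (ofK' (k := k) Q') P := by
    refine ⟨e₀ * e, fun x => ?_⟩
    change Q'.1 (algebraMap K Kbar x) = _
    rw [he _ (Subalgebra.algebraMap_mem _ x), pow_mul, ← he₀ x]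
    rfl
  by_contra hne
  have hne' : ofK' (k := k) Q' ≠ ofK' (k := k) Q := fun hh =>
    hne ((placeEquiv (k := k) (k' := kbar) (K' := Kbar)).symm.injective hh)
  obtain ⟨h1, h2⟩ := hysep _ hne'
  have hy := hY (ysep (ofK' (k := k) Q')) (Finset.mem_insert_of_mem
    (Finset.mem_image_of_mem _ (hfin.mem_toFinset.mpr hQ'P)))
  have h3 := he _ hy
  change Q'.1 _ < 1 at h1
  rw [h3] at h1
  exact absurd h1 (not_lt.mpr (one_le_pow_of_one_le' h2.le e))

end Aux

/-- Every divisor of `K̄ = k̄ ⊗_k K`, for a geometric function field of one variable `K/k`, is defined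
over a finite extension `k'` of `k`; stated for a single place `Q` of `K̄/k̄`: for some finite `k' ⊆
k̄`, the field `K' = k'K ⊆ K̄` contains a local parameter at `Q` and `Q` is the only place of `K̄`
above its restriction to `K'` (so `Q` is the conorm of the point `Q ∩ K'`). -/
theorem result (k kbar : Type u) (K Kbar : Type v) [Field k] [Field kbar] [Field K] [Field Kbar]
    [Algebra k kbar] [IsAlgClosure k kbar] [Algebra k K] [Algebra K Kbar] [Algebra kbar Kbar] [Algebra k Kbar]
    [IsScalarTower k kbar Kbar] [IsScalarTower k K Kbar]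
    (h : Function.Bijective (Algebra.TensorProduct.productMap
      (IsScalarTower.toAlgHom k kbar Kbar) (IsScalarTower.toAlgHom k K Kbar)))
    (hK : FunFld.IsFunctionField k K) (hg : FunFld.IsGeometric k K) (Q : FunFld.Place kbar Kbar) :
    ∃ k' : IntermediateField k kbar, FiniteDimensional k k' ∧
      (∃ z ∈ Algebra.adjoin K (Set.range fun c : k' => algebraMap kbar Kbar c), Q.1 z = WithZero.exp (-1)) ∧
      ∀ Q' : FunFld.Place kbar Kbar,
        (∃ e : ℕ, ∀ z ∈ Algebra.adjoin K (Set.range fun c : k' => algebraMap kbar Kbar c), Q'.1 z = Q.1 z ^ e) → Q' = Q := by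
  exact Aux.main k kbar K Kbar h hK hg Q

end Groth.Agent.S12593
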