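import Groth.Statements.S12599
import Mathlib
import Groth.Agent.Lib.Helper9.FFExt.HasseLocal
-- import your own Groth.Agent.* helpers here

set_option autoImplicit false
open FunFld

namespace Groth.Agent.S12599

open FunFld
namespace Aux
open Groth.Agent.Helper9.FFExt Groth.Agent.Lib.Helper4.FF WithZero

theorem main
    (k K : Type*) [Field k] [IsAlgClosed k] [Field K] [Algebra k K]
    (hK : FunFld.IsFunctionField k K) {n : ℕ} (φ : Fin (n + 1) → K) (hφ : LinearIndependent k φ)
    (P : FunFld.Place k K) (hint : ∀ i, P.1 (φ i) ≤ 1) (t : K) (ht : P.1 t = WithZero.exp (-1))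
    (Ht : K →ₐ[k] PowerSeries K) (hHt : LocRes.IsHasseFamily t Ht) :
    LinearIndependent (IsLocalRing.ResidueField P.O)
      (fun i : Fin (n + 1) => fun j : ℕ => FunFld.evalP P (LocRes.hasseD Ht j (φ i))) := by
  have hg := isGeometric_of_isAlgClosed k K
  have hdeg := Place.deg_eq_one hK P
  obtain ⟨E⟩ := exists_hasseExp hK hg P hdeg t ht Ht hHt
  rw [Fintype.linearIndependent_iff]
  intro g hg0
  -- the coefficients come from `k`
  have hsurj : ∀ ξ : IsLocalRing.ResidueField P.O, ∃ c : k,
      algebraMap k (IsLocalRing.ResidueField P.O) c = ξ := by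
    intro ξ
    obtain ⟨z, rfl⟩ := IsLocalRing.residue_surjective ξ
    obtain ⟨c, hc⟩ := Place.exists_const_sub_lt P hdeg ((Place.mem_O_iff P).mp z.2)
    refine ⟨c, ?_⟩
    change IsLocalRing.residue P.O (algebraMap k P.O c) = _
    symm
    rw [← sub_eq_zero, ← map_sub]
    have h2 := (Place.resₗ_eq_zero_iff P (z - algebraMap k P.O c)).mpr hc
    exact h2
  choose c hc using hsurj
  have hinj : Function.Injective (algebraMap k (IsLocalRing.ResidueField P.O)) :=
    (algebraMap k (IsLocalRing.ResidueField P.O)).injective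
  -- the relation `∑ c_i φ_i = 0`
  have hrel : ∑ i, c (g i) • φ i = 0 := by
    have hz : P.1 (∑ i, c (g i) • φ i) ≤ 1 := by
      apply Valuation.map_sum_le
      intro i _
      rw [Algebra.smul_def, map_mul]
      exact mul_le_one' (Place.val_k_le P _) (hint i)
    apply (E.ε : K →+* LaurentSeries k).injective
    rw [map_zero]
    ext m
    rw [HahnSeries.coeff_zero]
    rcases lt_or_ge m 0 with hm | hm
    · exact E.coeff_eq_zero_of_lt hz hm
    · obtain ⟨j, rfl⟩ := Int.eq_ofNat_of_zero_le hm
      have h1 := congrFun hg0 j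
      simp only [Finset.sum_apply, Pi.smul_apply, Pi.zero_apply] at h1
      apply hinj
      rw [map_zero, ← h1, RingHom.coe_coe, map_sum, HahnSeries.coeff_sum, map_sum]
      refine Finset.sum_congr rfl fun i _ => ?_
      have hcoef : (E.ε (c (g i) • φ i)).coeff j = c (g i) * (E.ε (φ i)).coeff j := by
        rw [Algebra.smul_def, map_mul, AlgHom.commutes, LocRes.algebraMap_eq_C,
          HahnSeries.C_mul_eq_smul, HahnSeries.coeff_smul, smul_eq_mul]
      rw [E.evalP_eq (E.hasseD_le (hint i) j), E.coeff_zero_hasseD, hcoef, map_mul, hc, smul_eq_mul]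
  have := Fintype.linearIndependent_iff.mp hφ (fun i => c (g i)) hrel
  intro i
  rw [← hc (g i), this i, map_zero]

end Aux

/-- Over an algebraically closed constant field, for a place `P` with local parameter `t`, and a
linearly independent tuple `φ = (φ₀, …, φₙ)` of functions integral at `P`, the matrix of values at
`P` of the Hasse derivatives `D_t^(j)(φᵢ)`, `j = 0, 1, …`, has rank `n + 1`: its rows are linearly
independent over the residue field. -/
theorem result
    (k K : Type*) [Field k] [IsAlgClosed k] [Field K] [Algebra k K]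
    (hK : FunFld.IsFunctionField k K) {n : ℕ} (φ : Fin (n + 1) → K) (hφ : LinearIndependent k φ)
    (P : FunFld.Place k K) (hint : ∀ i, P.1 (φ i) ≤ 1) (t : K) (ht : P.1 t = WithZero.exp (-1))
    (Ht : K →ₐ[k] PowerSeries K) (hHt : LocRes.IsHasseFamily t Ht) :
    LinearIndependent (IsLocalRing.ResidueField P.O)
      (fun i : Fin (n + 1) => fun j : ℕ => FunFld.evalP P (LocRes.hasseD Ht j (φ i))) := by
  exact Aux.main k K hK φ hφ P hint t ht Ht hHt

end Groth.Agent.S12599
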