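import Groth.Statements.S12612
import Mathlib
import Groth.Agent.Lib.Lead.PlaneDiffOld
-- import your own Groth.Agent.* helpers here

set_option autoImplicit false
open FunFld

namespace Groth.Agent.S12612

namespace Aux
open Groth.Agent.Lead.PlaneDiffOld MvPolynomial

theorem main
    (k K : Type*) [Field k] [Field K] [Algebra k K]
    (f : MvPolynomial (Fin 3) k) (e : ℕ) (hf : f.IsHomogeneous e)
    (x y : K) (hfxy : MvPolynomial.aeval ![(1 : K), x, y] f = 0)
    (A : Matrix (Fin 3) (Fin 3) k) (hA : A.det ≠ 0)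
    (u : Fin 3 → K) (hu : ∀ i, ∑ j, algebraMap k K (A i j) * u j = ![(1 : K), x, y] i)
    (hu0 : u 0 ≠ 0)
    (hfy : MvPolynomial.aeval ![(1 : K), x, y] (MvPolynomial.pderiv 2 f) ≠ 0)
    (hfy' : MvPolynomial.aeval ![(1 : K), u 1 / u 0, u 2 / u 0]
      (MvPolynomial.pderiv 2
        (MvPolynomial.aeval (fun i : Fin 3 => ∑ j, MvPolynomial.C (A i j) * MvPolynomial.X j) f)) ≠ 0) :
    (MvPolynomial.aeval ![(1 : K), x, y] (MvPolynomial.pderiv 2 f))⁻¹ • KaehlerDifferential.D k K x =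
      (algebraMap k K A.det * (u 0)⁻¹ ^ ((e : ℤ) - 3) *
        (MvPolynomial.aeval ![(1 : K), u 1 / u 0, u 2 / u 0]
          (MvPolynomial.pderiv 2
            (MvPolynomial.aeval (fun i : Fin 3 => ∑ j, MvPolynomial.C (A i j) * MvPolynomial.X j) f)))⁻¹) •
        KaehlerDifferential.D k K (u 1 / u 0) := by
  obtain ⟨p, hp⟩ : ∃ p : Fin 3 → K, p = ![(1 : K), x, y] := ⟨_, rfl⟩
  obtain ⟨F, hF⟩ : ∃ F : Fin 3 → K, F = fun i => aeval p (pderiv i f) := ⟨_, rfl⟩
  obtain ⟨a, ha⟩ : ∃ a : Fin 3 → Fin 3 → K, a = fun i j => algebraMap k K (A i j) := ⟨_, rfl⟩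
  obtain ⟨g, hg⟩ : ∃ g : Fin 3 → MvPolynomial (Fin 3) k,
      g = fun i : Fin 3 => ∑ j, MvPolynomial.C (A i j) * MvPolynomial.X j := ⟨_, rfl⟩
  obtain ⟨p', hp'⟩ : ∃ p' : Fin 3 → K, p' = ![(1 : K), u 1 / u 0, u 2 / u 0] := ⟨_, rfl⟩
  rw [← hp, ← hg, ← hp']
  rw [← hp] at hfxy hu hfy
  rw [← hg, ← hp'] at hfy'
  have hp0 : p 0 = 1 := by rw [hp]; rfl
  have hp1 : p 1 = x := by rw [hp]; rfl
  have hp2 : p 2 = y := by rw [hp]; rfl
  -- `e ≥ 1`
  obtain ⟨e', rfl⟩ : ∃ e', e = e' + 1 := by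
    rcases e with _ | e'
    · exfalso
      apply hfy
      rw [← totalDegree_zero_iff_isHomogeneous, totalDegree_eq_zero_iff_eq_C] at hf
      rw [hf, pderiv_C, map_zero]
    · exact ⟨e', rfl⟩
  -- Euler
  have hE : ∑ i, F i * p i = 0 := by
    have h1 := congrArg (aeval p) hf.sum_X_mul_pderiv
    rw [map_sum, map_nsmul, hfxy, smul_zero] at h1
    rw [← h1]
    apply Finset.sum_congr rfl
    intro i _
    rw [map_mul, aeval_X, hF, mul_comm]
  -- the relation of differentials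
  have hR : ∑ i, F i • KaehlerDifferential.D k K (p i) = 0 := by
    have h1 := derivation_aeval (KaehlerDifferential.D k K) p f
    rw [hfxy, map_zero] at h1
    rw [h1, hF]
  -- differentials of the `p i`
  have hDp : ∀ i, KaehlerDifferential.D k K (p i) = ∑ j, a i j • KaehlerDifferential.D k K (u j) := by
    intro i
    rw [← hu i, map_sum]
    apply Finset.sum_congr rfl
    intro j _
    rw [Derivation.leibniz, Derivation.map_algebraMap, smul_zero, add_zero, ha]
  have hpu : ∀ i, p i = ∑ j, a i j * u j := by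
    intro i
    rw [← hu i, ha]
  -- the new point
  have hp'j : ∀ j, p' j = (u 0)⁻¹ * u j := by
    rw [hp']
    intro j
    fin_cases j
    · exact (inv_mul_cancel₀ hu0).symm
    · exact div_eq_inv_mul _ _
    · exact div_eq_inv_mul _ _
  have hgp' : ∀ i, aeval p' (g i) = (u 0)⁻¹ * p i := by
    intro i
    rw [hg, map_sum, hpu, Finset.mul_sum]
    apply Finset.sum_congr rfl
    intro j _
    rw [map_mul, aeval_C, aeval_X, hp'j, ha]
    ring
  -- the new partial derivative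
  have hF'2 : aeval p' (pderiv 2 (aeval g f)) =
      (u 0)⁻¹ ^ e' * (a 0 2 * F 0 + a 1 2 * F 1 + a 2 2 * F 2) := by
    have h1 := derivation_aeval (pderiv (2 : Fin 3) : Derivation k (MvPolynomial (Fin 3) k) _) g f
    rw [h1, map_sum, Fin.sum_univ_three]
    have h2 : ∀ i, pderiv (2 : Fin 3) (g i) = C (A i 2) := by
      intro i
      rw [hg, map_sum, Fin.sum_univ_three]
      simp only [Derivation.leibniz, pderiv_C, pderiv_X, smul_zero, add_zero]
      simp
    have h3 : ∀ i, aeval p' (aeval g (pderiv i f)) = (u 0)⁻¹ ^ e' * F i := by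
      intro i
      rw [comp_aeval_apply]
      have h4 : (fun j => aeval p' (g j)) = fun j => (u 0)⁻¹ * p j := funext hgp'
      rw [h4, aeval_smul_of_isHomogeneous (m := e') (by simpa using hf.pderiv (i := i)), hF]
    simp only [smul_eq_mul, map_mul, h2, h3, aeval_C, ha]
    ring
  -- the cross-product identity
  have hp0' : a 0 0 * u 0 + a 0 1 * u 1 + a 0 2 * u 2 = 1 := by
    rw [← hp0, hpu 0, Fin.sum_univ_three]
  have hZ : a 0 0 • KaehlerDifferential.D k K (u 0) + a 0 1 • KaehlerDifferential.D k K (u 1) +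
      a 0 2 • KaehlerDifferential.D k K (u 2) = 0 := by
    have := hDp 0
    rw [Fin.sum_univ_three, hp0, Derivation.map_one_eq_zero] at this
    exact this.symm
  have hE' : F 0 * (a 0 0 * u 0 + a 0 1 * u 1 + a 0 2 * u 2) +
      F 1 * (a 1 0 * u 0 + a 1 1 * u 1 + a 1 2 * u 2) +
      F 2 * (a 2 0 * u 0 + a 2 1 * u 1 + a 2 2 * u 2) = 0 := by
    rw [Fin.sum_univ_three, hpu 0, hpu 1, hpu 2, Fin.sum_univ_three, Fin.sum_univ_three,
      Fin.sum_univ_three] at hE
    exact hE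
  have hR' : F 0 • (a 0 0 • KaehlerDifferential.D k K (u 0) + a 0 1 • KaehlerDifferential.D k K (u 1) +
      a 0 2 • KaehlerDifferential.D k K (u 2)) +
      F 1 • (a 1 0 • KaehlerDifferential.D k K (u 0) + a 1 1 • KaehlerDifferential.D k K (u 1) +
      a 1 2 • KaehlerDifferential.D k K (u 2)) +
      F 2 • (a 2 0 • KaehlerDifferential.D k K (u 0) + a 2 1 • KaehlerDifferential.D k K (u 1) +
      a 2 2 • KaehlerDifferential.D k K (u 2)) = 0 := by
    rw [Fin.sum_univ_three, hDp 0, hDp 1, hDp 2, Fin.sum_univ_three, Fin.sum_univ_three,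
      Fin.sum_univ_three] at hR
    exact hR
  have hcore := cross_core (a 0 0) (a 0 1) (a 0 2) (a 1 0) (a 1 1) (a 1 2) (a 2 0) (a 2 1) (a 2 2)
    (u 0) (u 1) (u 2) (F 0) (F 1) (F 2) (KaehlerDifferential.D k K (u 0))
    (KaehlerDifferential.D k K (u 1)) (KaehlerDifferential.D k K (u 2)) hp0' hZ hE' hR'
  have hDx : KaehlerDifferential.D k K x = a 1 0 • KaehlerDifferential.D k K (u 0) +
      a 1 1 • KaehlerDifferential.D k K (u 1) + a 1 2 • KaehlerDifferential.D k K (u 2) := by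
    rw [← hp1, hDp 1, Fin.sum_univ_three]
  have hdet : algebraMap k K A.det = a 0 0 * a 1 1 * a 2 2 - a 0 0 * a 1 2 * a 2 1 -
      a 0 1 * a 1 0 * a 2 2 + a 0 1 * a 1 2 * a 2 0 + a 0 2 * a 1 0 * a 2 1 -
      a 0 2 * a 1 1 * a 2 0 := by
    rw [Matrix.det_fin_three, ha]
    simp only [map_sub, map_add, map_mul]
  rw [← hDx, ← hdet] at hcore
  have hF2 : F 2 = aeval p (pderiv 2 f) := by rw [hF]
  rw [← hF2]
  rw [hF'2] at hfy' ⊢
  obtain ⟨G2, hG2⟩ : ∃ G2 : K, G2 = a 0 2 * F 0 + a 1 2 * F 1 + a 2 2 * F 2 := ⟨_, rfl⟩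
  rw [← hG2] at hcore hfy' ⊢
  have hz : (u 0)⁻¹ ≠ 0 := inv_ne_zero hu0
  have hG20 : G2 ≠ 0 := right_ne_zero_of_mul hfy'
  have hF20 : F 2 ≠ 0 := by rw [hF2]; exact hfy
  have hDx2 : KaehlerDifferential.D k K x = (G2⁻¹ * (algebraMap k K A.det * F 2)) •
      (u 0 • KaehlerDifferential.D k K (u 1) - u 1 • KaehlerDifferential.D k K (u 0)) := by
    rw [mul_smul, ← hcore, smul_smul, inv_mul_cancel₀ hG20, one_smul]
  rw [hDx2, Derivation.leibniz_div, smul_smul, smul_smul]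
  congr 1
  have hzp : (u 0)⁻¹ ^ (((e' + 1 : ℕ) : ℤ) - 3) = (u 0)⁻¹ ^ e' / (u 0)⁻¹ ^ 2 := by
    have : (((e' + 1 : ℕ) : ℤ) - 3) = (e' : ℤ) - 2 := by push_cast; ring
    rw [this, zpow_sub₀ hz, zpow_natCast, zpow_ofNat]
  rw [hzp]
  field_simp

end Aux

/-- For a plane curve given by a homogeneous `f` of degree `e` with `f(1, x, y) = 0` and a change of
projective coordinates `X = AX'` (`A` invertible over `k`), with new affine coordinates `x' =
u₁/u₀`, `y' = u₂/u₀`, `z = 1/u₀ = X₀/X₀'` where `u = A⁻¹(1, x, y)ᵗ`, and `f'(X') = f(AX')`, the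
differentials satisfy `dx/f̂_y = det(A) z^(e-3) dx'/f̂'_{y'}`, where `f̂_y = (∂f/∂X₂)(1, x, y)` and
`f̂'_{y'} = (∂f'/∂X₂')(1, x', y')` are assumed nonzero. (Stated for any field `K` over `k`
containing such `x`, `y`; the published setting is a plane model of a function field over an
algebraically closed field, and the computation uses only the relation `f(1, x, y) = 0`.) -/
theorem result
    (k K : Type*) [Field k] [Field K] [Algebra k K]
    (f : MvPolynomial (Fin 3) k) (e : ℕ) (hf : f.IsHomogeneous e)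
    (x y : K) (hfxy : MvPolynomial.aeval ![(1 : K), x, y] f = 0)
    (A : Matrix (Fin 3) (Fin 3) k) (hA : A.det ≠ 0)
    (u : Fin 3 → K) (hu : ∀ i, ∑ j, algebraMap k K (A i j) * u j = ![(1 : K), x, y] i)
    (hu0 : u 0 ≠ 0)
    (hfy : MvPolynomial.aeval ![(1 : K), x, y] (MvPolynomial.pderiv 2 f) ≠ 0)
    (hfy' : MvPolynomial.aeval ![(1 : K), u 1 / u 0, u 2 / u 0]
      (MvPolynomial.pderiv 2
        (MvPolynomial.aeval (fun i : Fin 3 => ∑ j, MvPolynomial.C (A i j) * MvPolynomial.X j) f)) ≠ 0) :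
    (MvPolynomial.aeval ![(1 : K), x, y] (MvPolynomial.pderiv 2 f))⁻¹ • KaehlerDifferential.D k K x =
      (algebraMap k K A.det * (u 0)⁻¹ ^ ((e : ℤ) - 3) *
        (MvPolynomial.aeval ![(1 : K), u 1 / u 0, u 2 / u 0]
          (MvPolynomial.pderiv 2
            (MvPolynomial.aeval (fun i : Fin 3 => ∑ j, MvPolynomial.C (A i j) * MvPolynomial.X j) f)))⁻¹) •
        KaehlerDifferential.D k K (u 1 / u 0) := by
  exact Aux.main k K f e hf x y hfxy A hA u hu hu0 hfy hfy'

end Groth.Agent.S12612
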