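import Groth.Statements.S12616
import Mathlib
import Groth.Prelude.Def_W4bk4goldsch45p2
import Groth.Agent.Lib.Helper9.FFExt.MapDiv2
import Groth.Agent.S12612
-- import your own Groth.Agent.* helpers here

set_option autoImplicit false
open FunFld

namespace Groth.Agent.S12616

open FunFld
namespace Aux
open Groth.Agent.Helper9.FFExt Groth.Agent.Lib.Helper4.FF WithZero

theorem main
    (k K : Type*) [Field k] [IsAlgClosed k] [Field K] [Algebra k K]
    (hK : FunFld.IsFunctionField k K) (f : MvPolynomial (Fin 3) k) (e : ℕ) (hf : f.IsHomogeneous e)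
    (x y : K) (hfxy : MvPolynomial.aeval ![(1 : K), x, y] f = 0)
    (hdx : KaehlerDifferential.D k K x ≠ 0)
    (he : (FunFld.mapDiv k ![(1 : K), x, y]).deg = e)
    (A : Matrix (Fin 3) (Fin 3) k) (hA : A.det ≠ 0)
    (u : Fin 3 → K) (hu : ∀ i, ∑ j, algebraMap k K (A i j) * u j = ![(1 : K), x, y] i)
    (hu0 : u 0 ≠ 0)
    (hfy : (MvPolynomial.aeval ![(1 : K), x, y] (MvPolynomial.pderiv 2 f)) ≠ 0)
    (hfy' : (MvPolynomial.aeval ![(1 : K), u 1 / u 0, u 2 / u 0] (MvPolynomial.pderiv 2 (MvPolynomial.aeval (fun i : Fin 3 => ∑ j, MvPolynomial.C (A i j) * MvPolynomial.X j) f))) ≠ 0)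
    (Φ : FunFld.Place k K → (K →ₐ[k] LaurentSeries k))
    (hΦ : ∀ P : FunFld.Place k K, LocRes.IsExpansionAt P.1 (Φ P)) :
    ((FunFld.mapDiv k ![(1 : K), x, y]).deg - 3) • FunFld.mapDiv k ![(1 : K), x, y] -
        FunFld.divDiff Φ (MvPolynomial.aeval ![(1 : K), x, y] (MvPolynomial.pderiv 2 f))⁻¹ x =
      ((FunFld.mapDiv k ![(1 : K), u 1 / u 0, u 2 / u 0]).deg - 3) •
          FunFld.mapDiv k ![(1 : K), u 1 / u 0, u 2 / u 0] -
        FunFld.divDiff Φ (MvPolynomial.aeval ![(1 : K), u 1 / u 0, u 2 / u 0] (MvPolynomial.pderiv 2 (MvPolynomial.aeval (fun i : Fin 3 => ∑ j, MvPolynomial.C (A i j) * MvPolynomial.X j) f)))⁻¹ (u 1 / u 0) := by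
  have h12 := Groth.Agent.S12612.result k K f e hf x y hfxy A hA u hu hu0 hfy hfy'
  obtain ⟨F2, hF2⟩ : ∃ F2 : K, F2 = MvPolynomial.aeval ![(1 : K), x, y] (MvPolynomial.pderiv 2 f) :=
    ⟨_, rfl⟩
  obtain ⟨F2', hF2'⟩ : ∃ F2' : K, F2' = MvPolynomial.aeval ![(1 : K), u 1 / u 0, u 2 / u 0] (MvPolynomial.pderiv 2 (MvPolynomial.aeval (fun i : Fin 3 => ∑ j, MvPolynomial.C (A i j) * MvPolynomial.X j) f)) := ⟨_, rfl⟩
  rw [← hF2, ← hF2'] at h12 ⊢
  rw [← hF2] at hfy
  rw [← hF2'] at hfy'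
  obtain ⟨φ, hφ⟩ : ∃ φ : Fin 3 → K, φ = ![(1 : K), x, y] := ⟨_, rfl⟩
  obtain ⟨φ', hφ'⟩ : ∃ φ' : Fin 3 → K, φ' = ![(1 : K), u 1 / u 0, u 2 / u 0] := ⟨_, rfl⟩
  rw [← hφ, ← hφ']
  rw [← hφ] at he hu
  obtain ⟨z, hz⟩ : ∃ z : K, z = (u 0)⁻¹ := ⟨_, rfl⟩
  rw [← hz] at h12
  have hz0 : z ≠ 0 := by rw [hz]; exact inv_ne_zero hu0
  have hφ'i : ∀ i, φ' i = z * u i := by
    rw [hφ', hz]
    intro j
    fin_cases j
    · exact (inv_mul_cancel₀ hu0).symm
    · exact div_eq_inv_mul _ _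
    · exact div_eq_inv_mul _ _
  have hmd : ∀ P : Place k K, mapDiv k φ' P = mapDiv k φ P - P.ord z := fun P =>
    mapDiv_coord_change hK A hA φ φ' u hu z hz0 hφ'i 0 0 (by rw [hφ]; rfl) (by rw [hφ']; rfl) P
  have hmd' : mapDiv k φ' = mapDiv k φ - div k z := by
    ext P
    rw [Finsupp.sub_apply, hmd, div_apply hK]
  have hdeg : (mapDiv k φ').deg = (mapDiv k φ).deg := by
    rw [hmd', Divisor.deg_sub, deg_div hK, sub_zero]
  rw [hdeg, he]
  -- the differentials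
  obtain ⟨c, hc⟩ : ∃ c : K, c = algebraMap k K A.det * z ^ ((e : ℤ) - 3) := ⟨_, rfl⟩
  rw [← hc] at h12
  have hc0 : c ≠ 0 := by
    rw [hc]
    apply mul_ne_zero
    · rw [Ne, map_eq_zero]
      exact hA
    · exact zpow_ne_zero _ hz0
  have hF2i : F2⁻¹ ≠ 0 := inv_ne_zero hfy
  have hF2'i : F2'⁻¹ ≠ 0 := inv_ne_zero hfy'
  have hdx' : KaehlerDifferential.D k K (u 1 / u 0) ≠ 0 := by
    intro h0
    rw [h0, smul_zero] at h12
    rcases smul_eq_zero.mp h12 with h | h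
    · exact hF2i h
    · exact hdx h
  have hordc : ∀ P : Place k K, P.ord c = ((e : ℤ) - 3) * P.ord z := by
    intro P
    rw [hc, Place.ord_mul P (by rw [Ne, map_eq_zero]; exact hA) (zpow_ne_zero _ hz0), Place.ord_k,
      zero_add]
    unfold Place.ord
    rw [map_zpow₀, log_zpow, smul_eq_mul]
    ring
  ext P
  rw [Finsupp.sub_apply, Finsupp.sub_apply, Finsupp.smul_apply, Finsupp.smul_apply, smul_eq_mul,
    smul_eq_mul, divDiff_apply' hK hF2i hdx Φ hΦ, divDiff_apply' hK hF2'i hdx' Φ hΦ, hmd]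
  have h1 : LocRes.ordDiff (Φ P) F2⁻¹ x = LocRes.ordDiff (Φ P) (c * F2'⁻¹) (u 1 / u 0) := by
    unfold LocRes.ordDiff
    rw [vDiff_congr (Φ P) h12]
  rw [h1, ordDiff_mul P (Φ P) (hΦ P) hc0 (vDiff_ne_zero hK P (Φ P) (hΦ P) hF2'i hdx'), hordc]
  ring

end Aux

/-- Over an algebraically closed constant field, the adjoint divisor `Δ(φ) = (e - 3)[φ] - [dx/f̂_y]` of
an effective plane map `φ = (1 : x : y)` of degree `e`, with a homogeneous relation `f` of the same
degree `e` satisfying `f(1, x, y) = 0`, depends only on the equivalence class of `φ`: it is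
unchanged under a change of projective coordinates `X = AX'`, with `x' = u₁/u₀`, `y' = u₂/u₀`, `u =
A⁻¹(1, x, y)ᵗ`, `f'(X') = f(AX')`. Here `dx ≠ 0`, both `f̂_y` and `f̂'_{y'}` are nonzero, and
divisors of differentials are read through a family of Laurent expansions. (The published statement
takes `f` to be the minimal relation of `x` and `y` for a plane model `K = k(x, y)`, where the
degree of the map equals the degree of `f`; this row assumes only that `f` is homogeneous of degree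
equal to the degree of the map, which is all the change-of-coordinates computation uses — when the
two degrees differ the two sides differ by a multiple of the divisor of `u₀`.) -/
theorem result
    (k K : Type*) [Field k] [IsAlgClosed k] [Field K] [Algebra k K]
    (hK : FunFld.IsFunctionField k K) (f : MvPolynomial (Fin 3) k) (e : ℕ) (hf : f.IsHomogeneous e)
    (x y : K) (hfxy : MvPolynomial.aeval ![(1 : K), x, y] f = 0)
    (hdx : KaehlerDifferential.D k K x ≠ 0)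
    (he : (FunFld.mapDiv k ![(1 : K), x, y]).deg = e)
    (A : Matrix (Fin 3) (Fin 3) k) (hA : A.det ≠ 0)
    (u : Fin 3 → K) (hu : ∀ i, ∑ j, algebraMap k K (A i j) * u j = ![(1 : K), x, y] i)
    (hu0 : u 0 ≠ 0)
    (hfy : (MvPolynomial.aeval ![(1 : K), x, y] (MvPolynomial.pderiv 2 f)) ≠ 0)
    (hfy' : (MvPolynomial.aeval ![(1 : K), u 1 / u 0, u 2 / u 0] (MvPolynomial.pderiv 2 (MvPolynomial.aeval (fun i : Fin 3 => ∑ j, MvPolynomial.C (A i j) * MvPolynomial.X j) f))) ≠ 0)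
    (Φ : FunFld.Place k K → (K →ₐ[k] LaurentSeries k))
    (hΦ : ∀ P : FunFld.Place k K, LocRes.IsExpansionAt P.1 (Φ P)) :
    ((FunFld.mapDiv k ![(1 : K), x, y]).deg - 3) • FunFld.mapDiv k ![(1 : K), x, y] -
        FunFld.divDiff Φ (MvPolynomial.aeval ![(1 : K), x, y] (MvPolynomial.pderiv 2 f))⁻¹ x =
      ((FunFld.mapDiv k ![(1 : K), u 1 / u 0, u 2 / u 0]).deg - 3) •
          FunFld.mapDiv k ![(1 : K), u 1 / u 0, u 2 / u 0] -
        FunFld.divDiff Φ (MvPolynomial.aeval ![(1 : K), u 1 / u 0, u 2 / u 0] (MvPolynomial.pderiv 2 (MvPolynomial.aeval (fun i : Fin 3 => ∑ j, MvPolynomial.C (A i j) * MvPolynomial.X j) f)))⁻¹ (u 1 / u 0) := by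
  exact Aux.main k K hK f e hf x y hfxy hdx he A hA u hu hu0 hfy hfy' Φ hΦ

end Groth.Agent.S12616
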