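import Groth.Statements.S12617
import Mathlib
import Groth.Prelude.Def_W4bk4goldsch45p2
import Groth.Agent.Lib.Helper9.FFExt.LocalOrd8
-- import your own Groth.Agent.* helpers here

set_option autoImplicit false
open FunFld

namespace Groth.Agent.S12617

open FunFld
namespace Aux
open Groth.Agent.Helper9.FFExt WithZero
open Groth.Agent.Lib.Helper4.FF

/-- the subalgebra `k + m_P²` -/
def R2 {k K : Type*} [Field k] [Field K] [Algebra k K] (P : Place k K) : Subalgebra k K where
  carrier := {z | ∃ c : k, P.1 (z - algebraMap k K c) ≤ exp (-2 : ℤ)}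
  mul_mem' := by
    rintro z z' ⟨c, hc⟩ ⟨c', hc'⟩
    refine ⟨c * c', ?_⟩
    have hz' : P.1 z' ≤ 1 := by
      have : z' = (z' - algebraMap k K c') + algebraMap k K c' := by ring
      rw [this]
      refine (Valuation.map_add _ _ _).trans (max_le (hc'.trans ?_) (Place.val_k_le P c'))
      rw [← exp_zero, exp_le_exp]
      norm_num
    have : z * z' - algebraMap k K (c * c') =
        (z - algebraMap k K c) * z' + algebraMap k K c * (z' - algebraMap k K c') := by
      rw [map_mul]
      ring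
    rw [this]
    refine (Valuation.map_add _ _ _).trans (max_le ?_ ?_)
    · rw [map_mul]
      calc P.1 (z - algebraMap k K c) * P.1 z' ≤ exp (-2 : ℤ) * 1 := mul_le_mul' hc hz'
        _ = exp (-2 : ℤ) := mul_one _
    · rw [map_mul]
      calc P.1 (algebraMap k K c) * P.1 (z' - algebraMap k K c') ≤ 1 * exp (-2 : ℤ) :=
            mul_le_mul' (Place.val_k_le P c) hc'
        _ = exp (-2 : ℤ) := one_mul _
  add_mem' := by
    rintro z z' ⟨c, hc⟩ ⟨c', hc'⟩
    refine ⟨c + c', ?_⟩
    have : z + z' - algebraMap k K (c + c') =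
        (z - algebraMap k K c) + (z' - algebraMap k K c') := by
      rw [map_add]
      ring
    rw [this]
    exact (Valuation.map_add _ _ _).trans (max_le hc hc')
  algebraMap_mem' := by
    intro c
    refine ⟨c, ?_⟩
    rw [sub_self, map_zero]
    exact zero_le

theorem R2_inv {k K : Type*} [Field k] [Field K] [Algebra k K] (P : Place k K) {z : K}
    (hz : z ∈ R2 P) (h1 : P.1 z = 1) : z⁻¹ ∈ R2 P := by
  obtain ⟨c, hc⟩ := hz
  have hc0 : c ≠ 0 := by
    rintro rfl
    rw [map_zero, sub_zero, h1, ← exp_zero, exp_le_exp] at hc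
    norm_num at hc
  have hz0 : z ≠ 0 := by
    intro h
    rw [h, map_zero] at h1
    exact zero_ne_one h1
  have hcK : algebraMap k K c ≠ 0 := by
    intro h
    exact hc0 ((map_eq_zero_iff _ (algebraMap k K).injective).mp h)
  refine ⟨c⁻¹, ?_⟩
  have : z⁻¹ - algebraMap k K c⁻¹ = -(z - algebraMap k K c) / (z * algebraMap k K c) := by
    rw [map_inv₀]
    field_simp
    ring
  rw [this, map_div₀, Valuation.map_neg, map_mul, h1, Place.val_k P hc0, one_mul, div_one]
  exact hc

theorem main
    (k K : Type*) [Field k] [IsAlgClosed k] [Field K] [Algebra k K]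
    (hK : FunFld.IsFunctionField k K) (P : FunFld.Place k K) {n : ℕ} (hn : 0 < n) (φ : Fin (n + 1) → K)
    (heff : (1 : K) ∈ Submodule.span k (Set.range φ)) (hnorm : ∀ i, P.1 (φ i) ≤ 1) (hns : FunFld.IsNonsingularAt φ P)
    (t : K) (ht : P.1 t = WithZero.exp (-1))
    (Ht : K →ₐ[k] PowerSeries K) (hHt : LocRes.IsHasseFamily t Ht)
    (J' : Fin n → ℕ) (hJ' : FunFld.IsOrders (IsLocalRing.ResidueField P.O) (FunFld.hcolAt P Ht φ) J') :
    J' ⟨0, hn⟩ = 1 := by
  obtain ⟨E⟩ := exists_hasseExp hK (isGeometric_of_isAlgClosed k K) P (Place.deg_eq_one hK P) t ht Ht hHt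
  have hJ'k := (isOrders_hcolAt_iff E φ hnorm J').mp hJ'
  have hpos : 0 < J' ⟨0, hn⟩ :=
    Nat.pos_of_ne_zero ((mem_range_iff_isJump_acol E φ heff hJ'k _).mp ⟨_, rfl⟩).2
  by_contra hne
  have h2 : 2 ≤ J' ⟨0, hn⟩ := by omega
  have hmin : ∀ l, 2 ≤ J' l := fun l =>
    h2.trans (hJ'.1.monotone (Fin.mk_le_of_le_val (Nat.zero_le _)))
  -- the span lies in `k + m²`
  have hspan : ∀ f ∈ Submodule.span k (Set.range φ), f ∈ R2 P := by
    intro f hf
    have hfint : P.1 f ≤ 1 := by
      obtain ⟨x, rfl⟩ := (Submodule.mem_span_range_iff_exists_fun k).mp hf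
      apply Valuation.map_sum_le
      intro i _
      rw [Algebra.smul_def, map_mul]
      exact mul_le_one' (Place.val_k_le P (x i)) (hnorm i)
    obtain ⟨c, hc⟩ := Place.exists_const_sub_lt P (Place.deg_eq_one hK P) hfint
    refine ⟨c, ?_⟩
    by_cases h0 : f - algebraMap k K c = 0
    · rw [h0, map_zero]
      exact zero_le
    · have hmem : f - algebraMap k K c ∈ Submodule.span k (Set.range φ) := by
        apply Submodule.sub_mem _ hf
        rw [Algebra.algebraMap_eq_smul_one]
        exact Submodule.smul_mem _ _ heff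
      obtain ⟨j, hj⟩ : ∃ j : ℕ, P.1 (f - algebraMap k K c) = exp (-(j : ℤ)) := by
        have h3 := Place.val_eq_exp_neg_ord P h0
        have h4 : 0 < P.ord (f - algebraMap k K c) := (Place.ord_pos_iff P h0).mpr hc
        obtain ⟨j, hj⟩ := Int.eq_ofNat_of_zero_le h4.le
        exact ⟨j, by rw [h3, hj]⟩
      have hj1 : j ≠ 0 := by
        rintro rfl
        rw [hj] at hc
        simp at hc
      rcases (exists_val_iff E φ heff hnorm hJ'k j).mpr ⟨_, hmem, hj⟩ with h | ⟨l, hl⟩
      · exact absurd h hj1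
      · rw [hj, exp_le_exp]
        have := hmin l
        omega
  -- the local ring lies in `k + m²`
  obtain ⟨j, hj0, hjmax, u, hu, w, hw, hw1, hzw⟩ := hns t (by
    rw [ht, ← exp_zero, exp_le_exp]
    norm_num)
  have hφj1 : P.1 (φ j) = 1 := by
    apply le_antisymm (hnorm j)
    obtain ⟨x, hx⟩ := (Submodule.mem_span_range_iff_exists_fun k).mp heff
    by_contra hlt
    push Not at hlt
    have : P.1 (∑ i, x i • φ i) < 1 := by
      apply Valuation.map_sum_lt _ one_ne_zero
      intro i _
      rw [Algebra.smul_def, map_mul]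
      calc P.1 (algebraMap k K (x i)) * P.1 (φ i) ≤ 1 * P.1 (φ j) :=
            mul_le_mul' (Place.val_k_le P _) (hjmax i)
        _ = P.1 (φ j) := one_mul _
        _ < 1 := hlt
    rw [hx, map_one] at this
    exact lt_irrefl _ this
  have hφmem : ∀ i, φ i ∈ R2 P := fun i => hspan _ (Submodule.subset_span ⟨i, rfl⟩)
  have hle : Algebra.adjoin k (Set.range fun i => φ i / φ j) ≤ R2 P := by
    apply Algebra.adjoin_le
    rintro _ ⟨i, rfl⟩
    change φ i / φ j ∈ R2 P
    rw [div_eq_mul_inv]
    exact (R2 P).mul_mem (hφmem i) (R2_inv P (hφmem j) hφj1)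
  have hw0 : w ≠ 0 := by
    intro h
    rw [h, map_zero] at hw1
    exact zero_ne_one hw1
  have htmem : t ∈ R2 P := by
    have : t = u * w⁻¹ := by
      rw [← hzw, mul_assoc, mul_inv_cancel₀ hw0, mul_one]
    rw [this]
    exact (R2 P).mul_mem (hle hu) (R2_inv P (hle hw) hw1)
  obtain ⟨c, hc⟩ := htmem
  by_cases hc0 : c = 0
  · rw [hc0, map_zero, sub_zero, ht, exp_le_exp] at hc
    norm_num at hc
  · have h1 : P.1 (t - algebraMap k K c) = 1 := by
      rw [sub_eq_add_neg, add_comm]
      have h2 : P.1 (-algebraMap k K c) = 1 := by rw [Valuation.map_neg, Place.val_k P hc0]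
      refine Eq.trans (Valuation.map_add_eq_of_lt_left _ ?_) h2
      rw [h2, ht, ← exp_zero, exp_lt_exp]
      norm_num
    rw [h1, ← exp_zero, exp_le_exp] at hc
    norm_num at hc

end Aux

/-- Over an algebraically closed constant field, if the effective projective map `φ = (φ₀, …, φₙ)`, `n ≥
1`, normalized at `P`, is nonsingular at `P`, then its first order at `P` is `1`. -/
theorem result
    (k K : Type*) [Field k] [IsAlgClosed k] [Field K] [Algebra k K]
    (hK : FunFld.IsFunctionField k K) (P : FunFld.Place k K) {n : ℕ} (hn : 0 < n) (φ : Fin (n + 1) → K)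
    (hφ : LinearIndependent k φ)
    (heff : (1 : K) ∈ Submodule.span k (Set.range φ)) (hnorm : ∀ i, P.1 (φ i) ≤ 1) (hns : FunFld.IsNonsingularAt φ P)
    (t : K) (ht : P.1 t = WithZero.exp (-1))
    (Ht : K →ₐ[k] PowerSeries K) (hHt : LocRes.IsHasseFamily t Ht)
    (J' : Fin n → ℕ) (hJ' : FunFld.IsOrders (IsLocalRing.ResidueField P.O) (FunFld.hcolAt P Ht φ) J') :
    J' ⟨0, hn⟩ = 1 := by
  exact Aux.main k K hK P hn φ heff hnorm hns t ht Ht hHt J' hJ'

end Groth.Agent.S12617
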