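import Groth.Statements.S12620
import Mathlib
import Groth.Prelude.Def_LocRes
-- import your own Groth.Agent.* helpers here

set_option autoImplicit false
universe u v w
open LocRes

namespace Groth.Agent.S12620

open scoped PowerSeries
open LaurentSeries HahnSeries
namespace Aux

section
variable {F : Type w} [Field F]

lemma val_unit (u : F⟦X⟧) (hu : PowerSeries.constantCoeff u ≠ 0) :
    Valued.v ((u : F⟦X⟧) : F⸨X⸩) = 1 := by
  have h1 : Valued.v ((u : F⟦X⟧) : F⸨X⸩) ≤ 1 := (LaurentSeries.val_le_one_iff_eq_coe F _).2 ⟨u, rfl⟩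
  have h2 : Valued.v ((u⁻¹ : F⟦X⟧) : F⸨X⸩) ≤ 1 := (LaurentSeries.val_le_one_iff_eq_coe F _).2 ⟨u⁻¹, rfl⟩
  have h3 : Valued.v ((u : F⟦X⟧) : F⸨X⸩) * Valued.v ((u⁻¹ : F⟦X⟧) : F⸨X⸩) = 1 := by
    rw [← map_mul, ← PowerSeries.coe_mul, PowerSeries.mul_inv_cancel u hu, PowerSeries.coe_one, map_one]
  by_contra hne
  have hlt : Valued.v ((u : F⟦X⟧) : F⸨X⸩) < 1 := lt_of_le_of_ne h1 hne
  have : Valued.v ((u : F⟦X⟧) : F⸨X⸩) * Valued.v ((u⁻¹ : F⟦X⟧) : F⸨X⸩) < 1 :=
    mul_lt_one_of_lt_of_le hlt h2
  rw [h3] at this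
  exact lt_irrefl _ this

lemma logres (g : F⸨X⸩) (hg : g ≠ 0) :
    (g⁻¹ * LocRes.D F g).coeff (-1) = ((g.order : ℤ) : F) ∧
      Valued.v g = WithZero.exp (-g.order) := by
  set m := g.order with hm
  set u := powerSeriesPart g with hu
  have hgu : single m (1 : F) * (u : F⸨X⸩) = g := single_order_mul_powerSeriesPart g
  have hu0 : PowerSeries.constantCoeff u ≠ 0 := by
    rw [← PowerSeries.coeff_zero_eq_constantCoeff_apply, hu, powerSeriesPart_coeff]
    simpa using (HahnSeries.coeff_order_eq_zero (x := g)).not.2 hg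
  constructor
  · have hD : LocRes.D F g =
        single m 1 * ((PowerSeries.derivative F u : F⟦X⟧) : F⸨X⸩) + single (m - 1) (m • (1 : F)) * (u : F⸨X⸩) := by
      rw [← hgu, LocRes.D_apply, LocRes.derivative_single_mul, LocRes.derivative_coe]
    set c : F⸨X⸩ := single (-1) (m • (1 : F)) + ((u⁻¹ * PowerSeries.derivative F u : F⟦X⟧) : F⸨X⸩) with hc
    have hgc : g * c = LocRes.D F g := by
      rw [hD, hc, mul_add]
      have e1 : g * single (-1) (m • (1 : F)) = single (m - 1) (m • (1 : F)) * (u : F⸨X⸩) := by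
        rw [← hgu]
        have : (single (m - 1) (m • (1 : F)) : F⸨X⸩) = single m 1 * single (-1) (m • (1 : F)) := by
          rw [single_mul_single, one_mul]; congr 1
        rw [this]; ring
      have e2 : g * ((u⁻¹ * PowerSeries.derivative F u : F⟦X⟧) : F⸨X⸩) =
          single m 1 * ((PowerSeries.derivative F u : F⟦X⟧) : F⸨X⸩) := by
        rw [← hgu, mul_assoc, ← PowerSeries.coe_mul, ← mul_assoc, PowerSeries.mul_inv_cancel u hu0, one_mul]
      rw [e1, e2, add_comm]
    have : g⁻¹ * LocRes.D F g = c := by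
      rw [← hgc, ← mul_assoc, inv_mul_cancel₀ hg, one_mul]
    rw [this, hc, HahnSeries.coeff_add, HahnSeries.coeff_single_same, PowerSeries.coeff_coe,
      if_pos (by omega), add_zero]
    simp
  · rw [← hgu, map_mul, LaurentSeries.valuation_single_zpow, val_unit u hu0, mul_one]

end

theorem main20 {k : Type u} {K : Type v} {F : Type w} [CommRing k] [Field K] [Field F]
    [Algebra k K] [Algebra k F]
    (w : Valuation K (WithZero (Multiplicative ℤ))) (φ : K →ₐ[k] LaurentSeries F)
    (hφ : LocRes.IsExpansionAt w φ) (f : K) (hf : f ≠ 0) :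
    LocRes.resExp φ f⁻¹ f = ((-WithZero.log (w f) : ℤ) : F) := by
  unfold LocRes.resExp
  rw [LocRes.res_apply, map_inv₀]
  have hg : φ f ≠ 0 := by
    intro h
    exact hf ((map_eq_zero φ).1 h)
  obtain ⟨h1, h2⟩ := logres (φ f) hg
  rw [h1, ← hφ.1 f, h2, WithZero.log_exp, neg_neg]

end Aux

/-- Let `K` be a field with a valuation `w` into `ℤ ∪ {0}` and `φ : K → F((X))` a `k`-algebra expansion
at `w` in a local parameter (valuation-compatible, valuation ring onto the coefficient field `F`,
`w` normalised). Then for every nonzero `f` the residue of the logarithmic differential `f⁻¹ df`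
read through `φ` — the `X⁻¹`-coefficient of `φ(f)⁻¹ · (φ f)′` — is the order of `f` at `w` (the
integer `n` with `w f = exp (-n)`), viewed in `F`. (The published statement is for a complete field
with a perfect coefficient field and its intrinsic residue; read through an expansion neither
completeness nor perfectness plays a role.) -/
theorem result {k : Type u} {K : Type v} {F : Type w} [CommRing k] [Field K] [Field F]
    [Algebra k K] [Algebra k F]
    (w : Valuation K (WithZero (Multiplicative ℤ))) (φ : K →ₐ[k] LaurentSeries F)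
    (hφ : LocRes.IsExpansionAt w φ) (f : K) (hf : f ≠ 0) :
    LocRes.resExp φ f⁻¹ f = ((-WithZero.log (w f) : ℤ) : F) := by
  exact Aux.main20 w φ hφ f hf

end Groth.Agent.S12620
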