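import Groth.Statements.S12626
import Mathlib

set_option autoImplicit false
universe u v
open CAlg

namespace Groth.Agent.S12626

section
open W4bk4bump814p2

section Witt
variable (p : ℕ) [hp : Fact p.Prime]

/-- the polynomial ring in two variables over ℤ -/
abbrev P := MvPolynomial (Fin 2) ℤ

/-- the Witt sum of the two Teichmüller lifts -/
noncomputable def cW : WittVector p P :=
  WittVector.teichmuller p (MvPolynomial.X 0) + WittVector.teichmuller p (MvPolynomial.X 1)

/-- the components of the sum -/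
noncomputable def Sk (k : ℕ) : P := (cW p).coeff k

lemma Sk_zero : Sk p 0 = MvPolynomial.X 0 + MvPolynomial.X 1 := by
  simp [Sk, cW, WittVector.add_coeff_zero, WittVector.teichmuller_coeff_zero]

lemma ghost_identity (n : ℕ) :
    ∑ k ∈ Finset.range (n + 1), (p : P) ^ k * (Sk p k) ^ (p ^ (n - k)) =
      (MvPolynomial.X 0 : P) ^ (p ^ n) + (MvPolynomial.X 1 : P) ^ (p ^ n) := by
  have h1 : WittVector.ghostComponent n (cW p) =
      (MvPolynomial.X 0 : P) ^ (p ^ n) + (MvPolynomial.X 1 : P) ^ (p ^ n) := by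
    rw [cW, map_add, WittVector.ghostComponent_teichmuller, WittVector.ghostComponent_teichmuller]
  rw [← h1, WittVector.ghostComponent_apply, wittPolynomial_eq_sum_C_mul_X_pow, map_sum]
  apply Finset.sum_congr rfl
  intro k _
  simp [Sk]


lemma nsmul_cancel (m : ℕ) (hm : m ≠ 0) (a b : Ω[P⁄ℤ]) (h : m • a = m • b) : a = b := by
  apply (KaehlerDifferential.mvPolynomialEquiv ℤ (Fin 2)).injective
  have h2 := congrArg (KaehlerDifferential.mvPolynomialEquiv ℤ (Fin 2)) h
  rw [map_nsmul, map_nsmul] at h2
  ext i : 1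
  have h3 := DFunLike.congr_fun h2 i
  rw [Finsupp.smul_apply, Finsupp.smul_apply, nsmul_eq_mul, nsmul_eq_mul] at h3
  exact mul_left_cancel₀ (Nat.cast_ne_zero.mpr hm) h3

lemma diff_identity (n : ℕ) :
    ∑ k ∈ Finset.range (n + 1),
        (Sk p k) ^ (p ^ (n - k) - 1) • KaehlerDifferential.D ℤ P (Sk p k) =
      (MvPolynomial.X 0 : P) ^ (p ^ n - 1) • KaehlerDifferential.D ℤ P (MvPolynomial.X 0) +
      (MvPolynomial.X 1 : P) ^ (p ^ n - 1) • KaehlerDifferential.D ℤ P (MvPolynomial.X 1) := by
  have h := congrArg (KaehlerDifferential.D ℤ P) (ghost_identity p n)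
  rw [map_sum, map_add, Derivation.leibniz_pow, Derivation.leibniz_pow] at h
  apply nsmul_cancel (p ^ n) (pow_ne_zero _ hp.out.ne_zero)
  rw [smul_add, Finset.smul_sum, ← h]
  apply Finset.sum_congr rfl
  intro k hk
  have hk' : k ≤ n := Nat.lt_succ_iff.mp (Finset.mem_range.mp hk)
  rw [Derivation.leibniz, Derivation.leibniz_pow, ← Nat.cast_pow, Derivation.map_natCast, smul_zero,
    add_zero, Nat.cast_smul_eq_nsmul, ← mul_smul, ← pow_add, Nat.add_sub_cancel' hk']

end Witt


section Spec
variable (K : Type u) (A : Type v) [Field K] [CommRing A] [Algebra K A] (p : ℕ) [Fact p.Prime]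

/-- evaluation of the universal polynomials -/
noncomputable def ev (x y : A) : P →ₐ[ℤ] A := MvPolynomial.aeval ![x, y]

noncomputable def sk (x y : A) (k : ℕ) : A := ev A x y (Sk p k)

lemma sk_zero (x y : A) : sk A p x y 0 = x + y := by
  simp [sk, ev, Sk_zero]

lemma delta_identity (n : ℕ) (x y : A) :
    ∑ k ∈ Finset.range (n + 1), delta K A p (n - k) (sk A p x y k) =
      delta K A p n x + delta K A p n y := by
  letI : Algebra P A := (ev A x y).toRingHom.toAlgebra
  haveI : IsScalarTower ℤ P A := IsScalarTower.of_algebraMap_eq' (by ext; simp)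
  have hev : ∀ f : P, algebraMap P A f = ev A x y f := fun f => rfl
  have hsm : ∀ (f : P) (ω : Ω[A⁄K]), f • ω = (ev A x y f) • ω :=
    fun f ω => (algebraMap_smul A f ω).symm
  have hx : ev A x y (MvPolynomial.X 0) = x := by simp [ev]
  have hy : ev A x y (MvPolynomial.X 1) = y := by simp [ev]
  have h := congrArg (KaehlerDifferential.map ℤ K P A) (diff_identity p n)
  rw [map_sum, map_add, map_smul, map_smul, KaehlerDifferential.map_D, KaehlerDifferential.map_D,
    hev, hev, hsm, hsm, map_pow, map_pow, hx, hy] at h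
  rw [delta, delta, ← h]
  apply Finset.sum_congr rfl
  intro k _
  rw [map_smul, KaehlerDifferential.map_D, hev, hsm, map_pow]
  rfl

end Spec


section Main
variable (K : Type u) (A : Type v) [Field K] [CommRing A] [Algebra K A] (p : ℕ) [hp : Fact p.Prime]
  [CharP K p]

/-- the additive group generated by the `δ_j`, `j < i` -/
noncomputable def G (i : ℕ) : AddSubgroup (Ω[A⁄K]) :=
  AddSubgroup.closure (⋃ j ∈ Finset.range i, Set.range (delta K A p j))

lemma delta_mem_G {i j : ℕ} (hj : j < i) (x : A) : delta K A p j x ∈ G K A p i :=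
  AddSubgroup.subset_closure (Set.mem_biUnion (Finset.mem_range.mpr hj) ⟨x, rfl⟩)

lemma G_mono {i j : ℕ} (h : i ≤ j) : G K A p i ≤ G K A p j := by
  apply AddSubgroup.closure_mono
  intro ω hω
  simp only [Set.mem_iUnion, Finset.mem_range, Set.mem_range] at hω ⊢
  obtain ⟨k, hk, x, rfl⟩ := hω
  exact ⟨k, lt_of_lt_of_le hk h, x, rfl⟩

lemma defect_mem_G (i : ℕ) (x y : A) :
    delta K A p i (x + y) - delta K A p i x - delta K A p i y ∈ G K A p i := by
  have h := delta_identity K A p i x y
  rw [Finset.sum_range_succ', Nat.sub_zero, sk_zero] at h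
  have h2 : delta K A p i (x + y) - delta K A p i x - delta K A p i y =
      -(∑ k ∈ Finset.range i, delta K A p (i - (k + 1)) (sk A p x y (k + 1))) := by
    have h3 : delta K A p i (x + y) = delta K A p i x + delta K A p i y -
        ∑ k ∈ Finset.range i, delta K A p (i - (k + 1)) (sk A p x y (k + 1)) :=
      eq_sub_of_add_eq' h
    rw [h3]; abel
  rw [h2]
  apply neg_mem
  apply sum_mem
  intro k hk
  apply delta_mem_G
  have := Finset.mem_range.mp hk
  omega

omit hp in
lemma p_smul_zero (ω : Ω[A⁄K]) : p • ω = 0 := by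
  have h0 : (p : A) = 0 := by
    rw [← map_natCast (algebraMap K A), CharP.cast_eq_zero, map_zero]
  rw [← Nat.cast_smul_eq_nsmul A, h0, zero_smul]

omit hp [CharP K p] in
lemma delta_zero (i : ℕ) : delta K A p i 0 = 0 := by simp [delta]

theorem sigma_eq (i : ℕ) : sigma K A p i = (G K A p i : Set (Ω[A⁄K])) := by
  induction i with
  | zero =>
    simp [G]
  | succ i ih =>
    rw [sigma_succ, ih]
    apply Set.Subset.antisymm
    · rintro ω ⟨x, hx⟩
      have : ω = (ω - delta K A p i x) + delta K A p i x := by abel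
      rw [this]
      exact add_mem (G_mono K A p (Nat.le_succ i) hx) (delta_mem_G K A p (Nat.lt_succ_self i) x)
    · let T : AddSubmonoid (Ω[A⁄K]) :=
        { carrier := {ω | ∃ x, ω - delta K A p i x ∈ G K A p i}
          zero_mem' := ⟨0, by rw [delta_zero, sub_zero]; exact zero_mem _⟩
          add_mem' := by
            rintro ω₁ ω₂ ⟨x₁, h₁⟩ ⟨x₂, h₂⟩
            refine ⟨x₁ + x₂, ?_⟩
            have : ω₁ + ω₂ - delta K A p i (x₁ + x₂) =
                (ω₁ - delta K A p i x₁) + (ω₂ - delta K A p i x₂) -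
                (delta K A p i (x₁ + x₂) - delta K A p i x₁ - delta K A p i x₂) := by abel
            rw [this]
            exact sub_mem (add_mem h₁ h₂) (defect_mem_G K A p i x₁ x₂) }
      let T' : AddSubgroup (Ω[A⁄K]) :=
        { T with
          neg_mem' := by
            intro a ha
            have h1 : -a = (p - 1) • a := by
              have h2 : (p - 1) • a + a = 0 := by
                rw [← succ_nsmul, Nat.sub_add_cancel hp.out.one_le, p_smul_zero]
              exact (eq_neg_of_add_eq_zero_left h2).symm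
            rw [h1]
            exact T.nsmul_mem ha _ }
      have hle : G K A p (i + 1) ≤ T' := by
        unfold G
        rw [AddSubgroup.closure_le]
        intro ω hω
        simp only [Set.mem_iUnion, Finset.mem_range, Set.mem_range] at hω
        obtain ⟨j, hj, x, rfl⟩ := hω
        rcases Nat.lt_succ_iff_lt_or_eq.mp hj with hj' | rfl
        · exact ⟨0, by rw [delta_zero, sub_zero]; exact delta_mem_G K A p hj' x⟩
        · exact ⟨x, by rw [sub_self]; exact zero_mem _⟩
      intro ω hω
      exact hle hω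

end Main


section Mains
variable (K : Type u) (A : Type v) [Field K] [PerfectField K] (p : ℕ) [hp : Fact p.Prime] [CharP K p]
  [CommRing A] [Algebra K A]

theorem main25 (i : ℕ) :
    W4bk4bump814p2.sigma K A p i =
      (AddSubgroup.closure (⋃ j ∈ Finset.range i, Set.range (W4bk4bump814p2.delta K A p j)) :
        Set (Ω[A⁄K])) := sigma_eq K A p i

theorem main23 (i : ℕ) (x y : A) :
    W4bk4bump814p2.delta K A p i (x + y) - W4bk4bump814p2.delta K A p i x - W4bk4bump814p2.delta K A p i y ∈
      W4bk4bump814p2.sigma K A p i := by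
  rw [sigma_eq]
  exact defect_mem_G K A p i x y

omit [PerfectField K] in
lemma smul_delta {i j : ℕ} (hj : j < i) (x y : A) :
    (x ^ (p ^ i)) • delta K A p j y = delta K A p j (x ^ (p ^ (i - j)) * y) := by
  have hD : KaehlerDifferential.D K A (x ^ (p ^ (i - j))) = 0 := by
    rw [Derivation.leibniz_pow]
    obtain ⟨m, hm⟩ : p ∣ p ^ (i - j) := dvd_pow_self p (by omega)
    rw [hm, mul_smul, p_smul_zero]
  have hpos : 1 ≤ p ^ j := Nat.one_le_pow _ _ hp.out.pos
  rw [delta, delta, Derivation.leibniz, hD, smul_zero, add_zero, ← mul_smul, ← mul_smul]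
  congr 1
  have e1 : x ^ p ^ i = (x ^ p ^ (i - j)) ^ (p ^ j - 1) * x ^ p ^ (i - j) := by
    rw [← pow_succ, Nat.sub_add_cancel hpos, ← pow_mul, ← pow_add, Nat.sub_add_cancel hj.le]
  rw [e1, mul_pow]
  ring

theorem main26 (i : ℕ) (x : A)
    (ω : Ω[A⁄K]) (hω : ω ∈ W4bk4bump814p2.sigma K A p i) :
    (x ^ (p ^ i)) • ω ∈ W4bk4bump814p2.sigma K A p i := by
  rw [sigma_eq] at hω ⊢
  revert ω
  suffices key : ∀ ω ∈ G K A p i, (x ^ (p ^ i)) • ω ∈ G K A p i from fun ω hω => key ω hω
  intro ω hω'
  unfold G at hω'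
  induction hω' using AddSubgroup.closure_induction with
  | mem ω hω =>
    simp only [Set.mem_iUnion, Finset.mem_range, Set.mem_range] at hω
    obtain ⟨j, hj, y, rfl⟩ := hω
    rw [smul_delta K A p hj]
    exact delta_mem_G K A p hj _
  | zero => rw [smul_zero]; exact zero_mem _
  | add a b _ _ ha hb => rw [smul_add]; exact add_mem ha hb
  | neg a _ ha => rw [smul_neg]; exact neg_mem ha

omit [PerfectField K] hp [CharP K p] in
lemma smulK_delta (j : ℕ) (hpos : 1 ≤ p ^ j) (b : K) (x : A) :
    delta K A p j (b • x) = (b ^ (p ^ j)) • delta K A p j x := by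
  rw [delta, delta, Derivation.map_smul, smul_pow, smul_assoc, smul_comm (x ^ (p ^ j - 1)) b,
    ← smul_assoc, smul_eq_mul, ← pow_succ, Nat.sub_add_cancel hpos]

theorem main24 (i : ℕ) :
    ∃ S : Submodule K (Ω[A⁄K]), (S : Set (Ω[A⁄K])) = W4bk4bump814p2.sigma K A p i := by
  haveI : ExpChar K p := ExpChar.prime hp.out
  haveI : PerfectRing K p := PerfectField.toPerfectRing p
  refine ⟨{ carrier := G K A p i
            add_mem' := fun ha hb => add_mem ha hb
            zero_mem' := zero_mem _
            smul_mem' := ?_ }, (sigma_eq K A p i).symm⟩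
  intro c
  suffices key : ∀ ω ∈ G K A p i, c • ω ∈ G K A p i from fun {ω} hω => key ω hω
  intro ω hω'
  unfold G at hω'
  induction hω' using AddSubgroup.closure_induction with
  | mem ω hω =>
    simp only [Set.mem_iUnion, Finset.mem_range, Set.mem_range] at hω
    obtain ⟨j, hj, y, rfl⟩ := hω
    obtain ⟨b, hb⟩ := (iterateFrobeniusEquiv K p j).surjective c
    rw [coe_iterateFrobeniusEquiv, iterateFrobenius_def] at hb
    rw [← hb, ← smulK_delta K A p j (Nat.one_le_pow _ _ hp.out.pos)]
    exact delta_mem_G K A p hj _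
  | zero => rw [smul_zero]; exact zero_mem _
  | add a b _ _ ha hb => rw [smul_add]; exact add_mem ha hb
  | neg a _ ha => rw [smul_neg]; exact neg_mem ha

end Mains


end


/-- For a perfect field `K` of characteristic `p > 0` and a commutative `K`-algebra `A`, put `δ_i(x) =
x^(p^i - 1) dx` in `Ω_{A/K}` and let the subsets `Σ^i ⊆ Ω_{A/K}` be given by `Σ^0 = {0}` and
`Σ^(i+1) = {δ_i(x) + σ | x ∈ A, σ ∈ Σ^i}`; then `Σ^i` is stable under multiplication by `p^i`-th
powers of elements of `A`: for `x ∈ A` and `ω ∈ Σ^i`, `x^(p^i) ω ∈ Σ^i`. This stability is what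
turns the rule `x · [ω] = [x^(p^i) ω]` into an `A`-module structure on the quotient `Ω_{A/K} / Σ^i`
(the row states the stability; that `x ↦ [δ_i(x)]` is then a derivation is a direct computation and
is not restated). -/
theorem result (K : Type u) (A : Type v) [Field K] [PerfectField K] (p : ℕ) [Fact p.Prime] [CharP K p]
    [CommRing A] [Algebra K A] (i : ℕ) (x : A)
    (ω : Ω[A⁄K]) (hω : ω ∈ W4bk4bump814p2.sigma K A p i) :
    (x ^ (p ^ i)) • ω ∈ W4bk4bump814p2.sigma K A p i := by
  classical
  exact main26 K A p i x ω hω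

end Groth.Agent.S12626
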