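import Groth.Statements.S12631
import Mathlib
import Groth.Prelude.Def_W4bk4goldsch23FF
import Groth.Prelude.Def_LocRes
import Groth.Agent.Lib.Helper9.Tate.ResWeil2
import Groth.Agent.Lib.Helper4.FF.Riemann
-- import your own Groth.Agent.* helpers here

set_option autoImplicit false
universe u v w
open FunFld

namespace Groth.Agent.S12631

open FunFld
namespace Aux
open Groth.Agent.Helper9.Tate Groth.Agent.Helper9.FFExt Groth.Agent.Lib.Helper4.FF WithZero

theorem main (k : Type u) (K : Type v) [Field k] [Field K] [Algebra k K]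
    (hK : FunFld.IsFunctionField k K) (hg : FunFld.IsGeometric k K) (h1 : FunFld.genus k K = 1)
    (F : FunFld.Place k K → Type w) [∀ P, Field (F P)] [∀ P, Algebra k (F P)] [∀ P, FiniteDimensional k (F P)]
    (φ : ∀ P, K →ₐ[k] LaurentSeries (F P)) (hφ : ∀ P, LocRes.IsExpansionAt P.1 (φ P))
    (v : K) (hv : KaehlerDifferential.D k K v ≠ 0) :
    (∃ u : K, u ≠ 0 ∧ ∀ P, LocRes.vDiff (φ P) u v = 1) ∧
      ∀ u u' : K, u ≠ 0 → (∀ P, LocRes.vDiff (φ P) u v = 1) → (∀ P, LocRes.vDiff (φ P) u' v = 1) →
        ∃ c : k, u' = c • u := by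
  obtain ⟨C, hC, hdiv⟩ := exists_divisor_resW hK hg hφ one_ne_zero hv
  have hcan := isCanonical_divisor hK hg hφ hv C hC
  have hell : ell C = 1 := by rw [ell_canonical hK hcan, h1]
  have hdeg : C.deg = 0 := by rw [deg_canonical hK hcan, h1]; norm_num
  constructor
  · obtain ⟨z, hz, hz0⟩ := exists_ne_zero_of_ell_pos (D := C) (by rw [hell]; exact one_pos)
    have hnn : 0 ≤ C + div k z := by
      intro P
      have := hz P
      rw [Place.val_eq_exp_neg_ord P hz0, exp_le_exp] at this
      rw [Finsupp.add_apply, div_apply hK]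
      change (0 : ℤ) ≤ _
      omega
    have h0 : C + div k z = 0 := Divisor.eq_zero_of_nonneg_of_deg_le hK hnn (by
      rw [Divisor.deg_add, hdeg, deg_div hK, add_zero])
    refine ⟨z, hz0, fun P => ?_⟩
    have h2 := DFunLike.congr_fun h0 P
    rw [Finsupp.add_apply, div_apply hK, Finsupp.coe_zero, Pi.zero_apply] at h2
    rw [vDiff_eq_mul_exp hK hg hφ hv, ← hC, Place.val_eq_exp_neg_ord P hz0, ← exp_add, ← exp_zero]
    congr 1
    omega
  · intro u u' hu hu1 hu'1
    have hval : ∀ P : Place k K, P.1 u' = P.1 u := by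
      intro P
      have e1 := hu1 P
      have e2 := hu'1 P
      rw [vDiff_eq_mul_exp hK hg hφ hv] at e1 e2
      have h0 : (exp (-LocRes.ordDiff (φ P) 1 v) : WithZero (Multiplicative ℤ)) ≠ 0 := exp_ne_zero
      exact mul_right_cancel₀ h0 (e2.trans e1.symm)
    have hmem : u' / u ∈ L (0 : Divisor k K) := by
      intro P
      rw [map_div₀, hval P, div_self ((Valuation.ne_zero_iff _).mpr hu)]
      simp
    rw [L_zero hK, Submodule.mem_one] at hmem
    obtain ⟨c, hc⟩ := hmem
    refine ⟨c, ?_⟩
    rw [Algebra.smul_def, hc, div_mul_cancel₀ _ hu]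

end Aux

/-- Let `K/k` be a geometric function field of one variable of genus one all of whose places carry a
Laurent expansion over `k` in a local parameter (so every place is separable), and `v ∈ K` with `dv
≠ 0`. Then there is a nonzero `u ∈ K` whose differential `u dv` has divisor zero — the order of
`φ_P(u) · (φ_P v)′` is `0` at every place `P` — and such a `u` is unique up to a factor from `k`.
(The published statement concerns elliptic curves over algebraically closed fields; this row is the
form for any constant field under the stated separability of all places.) -/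
theorem result (k : Type u) (K : Type v) [Field k] [Field K] [Algebra k K]
    (hK : FunFld.IsFunctionField k K) (hg : FunFld.IsGeometric k K) (h1 : FunFld.genus k K = 1)
    (F : FunFld.Place k K → Type w) [∀ P, Field (F P)] [∀ P, Algebra k (F P)] [∀ P, FiniteDimensional k (F P)]
    (φ : ∀ P, K →ₐ[k] LaurentSeries (F P)) (hφ : ∀ P, LocRes.IsExpansionAt P.1 (φ P))
    (v : K) (hv : KaehlerDifferential.D k K v ≠ 0) :
    (∃ u : K, u ≠ 0 ∧ ∀ P, LocRes.vDiff (φ P) u v = 1) ∧
      ∀ u u' : K, u ≠ 0 → (∀ P, LocRes.vDiff (φ P) u v = 1) → (∀ P, LocRes.vDiff (φ P) u' v = 1) →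
        ∃ c : k, u' = c • u := by
  exact Aux.main k K hK hg h1 F φ hφ v hv

end Groth.Agent.S12631
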