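import Groth.Statements.S12709
import Groth.Agent.Lib.Helper3.ArtFunD

set_option autoImplicit false
universe u v
open CategoryTheory
open ArtFun ArtFun.Art

namespace Groth.Agent.S12709

/-- Given a morphism f : A → B in the category of Artinian local Λ-algebras with residue field k, three
conditions coincide: (1) surjectivity of f; (2) f induces an onto map from the cotangent space of A
to the cotangent space of B, which in ideal-theoretic form says f(m_A)B + m_B² = m_B; (3) the
induced map on cotangent spaces relative to Λ is surjective, written as m_Λ B + f(m_A)B + m_B² = m_B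
with m_Λ the kernel of Λ → k. -/
theorem result {Λ : Type u} {k : Type u} [CommRing Λ] [Field k] [Algebra Λ k]
    [IsNoetherianRing Λ] [Module.Finite Λ k]
    {A B : ArtFun.Art Λ k} (f : A ⟶ B) :
    List.TFAE [Function.Surjective f,
      Ideal.map f.toAlgHom (IsLocalRing.maximalIdeal A) ⊔ IsLocalRing.maximalIdeal B ^ 2 = IsLocalRing.maximalIdeal B,
      Ideal.map (algebraMap Λ B) (RingHom.ker (algebraMap Λ k)) ⊔ Ideal.map f.toAlgHom (IsLocalRing.maximalIdeal A) ⊔
        IsLocalRing.maximalIdeal B ^ 2 = IsLocalRing.maximalIdeal B] := by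
  have hsup := Groth.Agent.Helper3.ArtFunLib.sup_map_ker_eq (Λ := Λ) (k := k) A.res A.res_surjective
    f.toAlgHom (IsLocalRing.maximalIdeal B ^ 2)
  tfae_have 1 → 2 := by
    intro hf
    rw [Groth.Agent.Helper3.ArtFunLib.Art.map_maximalIdeal_eq_of_surjective f hf]
    exact sup_eq_left.2 (Ideal.pow_le_self two_ne_zero)
  tfae_have 2 → 3 := by
    intro h
    rw [hsup]; exact h
  tfae_have 3 → 1 := by
    intro h
    rw [hsup] at h
    exact Groth.Agent.Helper3.ArtFunLib.Art.surjective_of_map_sup_sq f h
  tfae_finish

end Groth.Agent.S12709
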