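import Groth.Statements.S12713
import Groth.Agent.Lib.Helper3.ArtFunF

set_option autoImplicit false
universe u v
open CategoryTheory
open ArtFun ArtFun.Art

namespace Groth.Agent.S12713

/-- A small extension f : B → A in the category of Artinian local Λ-algebras with residue field k is not
an essential surjection (some morphism g : C → B is non-surjective although the composite C → A is
surjective) if and only if f has a section A → B in the category. -/
theorem result {Λ : Type u} {k : Type u} [CommRing Λ] [Field k] [Algebra Λ k]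
    [IsNoetherianRing Λ] [Module.Finite Λ k]
    {A B : ArtFun.Art Λ k} (f : B ⟶ A) (hf : ArtFun.Art.IsSmallExt f) :
    (∃ (C : ArtFun.Art Λ k) (g : C ⟶ B), Function.Surjective (g ≫ f) ∧ ¬ Function.Surjective g) ↔
      ∃ s : A ⟶ B, s ≫ f = 𝟙 A := by
  constructor
  · rintro ⟨C, g, hgf, hg⟩
    have hE : ¬ (∀ (C : ArtFun.Art Λ k) (g : C ⟶ B), Function.Surjective (g ≫ f) →
        Function.Surjective g) := fun h => hg (h C g hgf)
    rw [Groth.Agent.Helper3.ArtFunLib.essential_iff_deriv f hf.1] at hE
    push Not at hE
    obtain ⟨δ, hδ, x₀, hx₀, hne⟩ := hE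
    exact Groth.Agent.Helper3.ArtFunLib.exists_section_of_small f hf hδ hx₀ hne
  · rintro ⟨s, hs⟩
    refine ⟨A, s, ?_, ?_⟩
    · rw [hs]; exact fun a => ⟨a, rfl⟩
    · intro hsurj
      apply hf.2.1
      rw [eq_bot_iff]
      intro b hb
      obtain ⟨a, rfl⟩ := hsurj b
      have h1 : f (s a) = 0 := hb
      have h2 : (s ≫ f) a = a := by rw [hs]; rfl
      have h3 : a = 0 := by rw [← h2]; exact h1
      rw [h3, map_zero]
      exact Ideal.zero_mem _

end Groth.Agent.S12713
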