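import Groth.Statements.S12714
import Groth.Agent.Lib.Helper3.ArtFunD

set_option autoImplicit false
universe u v
open CategoryTheory
open ArtFun ArtFun.CRing

namespace Groth.Agent.S12714

/-- For a morphism f : R → S of complete local Noetherian Λ-algebras with residue field k (compatible
with the augmentations to k), the following are equivalent: (1) f is surjective; (2) m_R/m_R² →
m_S/m_S² is surjective, written as f(m_R)S + m_S² = m_S; (3) the map of cotangent spaces relative to
Λ is surjective, written as m_Λ S + f(m_R)S + m_S² = m_S with m_Λ the kernel of Λ → k. -/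
theorem result {Λ : Type u} {k : Type u} [CommRing Λ] [Field k] [Algebra Λ k]
    [IsNoetherianRing Λ] [Module.Finite Λ k]
    (R S : ArtFun.CRing Λ k) (f : R.carrier →ₐ[Λ] S.carrier) (hf : S.res.comp f = R.res) :
    List.TFAE [Function.Surjective f,
      Ideal.map f (IsLocalRing.maximalIdeal R.carrier) ⊔ IsLocalRing.maximalIdeal S.carrier ^ 2 =
        IsLocalRing.maximalIdeal S.carrier,
      Ideal.map (algebraMap Λ S.carrier) (RingHom.ker (algebraMap Λ k)) ⊔
        Ideal.map f (IsLocalRing.maximalIdeal R.carrier) ⊔ IsLocalRing.maximalIdeal S.carrier ^ 2 =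
        IsLocalRing.maximalIdeal S.carrier] := by
  have hsup := Groth.Agent.Helper3.ArtFunLib.sup_map_ker_eq (Λ := Λ) (k := k) R.res R.res_surjective
    f (IsLocalRing.maximalIdeal S.carrier ^ 2)
  have hf' : (S.res : S.carrier →+* k).comp (f : R.carrier →+* S.carrier) = (R.res : R.carrier →+* k) := by
    ext x
    exact congrArg (fun g : R.carrier →ₐ[Λ] k => g x) hf
  tfae_have 1 → 2 := by
    intro hsurj
    have := Groth.Agent.Helper3.ArtFunLib.ring_map_maximalIdeal_eq_of_surjective
      (R.res : R.carrier →+* k) (S.res : S.carrier →+* k) (f : R.carrier →+* S.carrier) hf'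
      R.res_surjective S.res_surjective hsurj
    change Ideal.map (f : R.carrier →+* S.carrier) _ ⊔ _ = _
    rw [this]
    exact sup_eq_left.2 (Ideal.pow_le_self two_ne_zero)
  tfae_have 2 → 3 := by
    intro h
    rw [hsup]; exact h
  tfae_have 3 → 1 := by
    intro h
    rw [hsup] at h
    have : IsPrecomplete (IsLocalRing.maximalIdeal R.carrier) R.carrier :=
      R.isAdicComplete.toIsPrecomplete
    have : IsHausdorff (IsLocalRing.maximalIdeal S.carrier) S.carrier :=
      S.isAdicComplete.toIsHausdorff
    exact Groth.Agent.Helper3.ArtFunLib.ring_surjective_of_map_sup_sq (f : R.carrier →+* S.carrier)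
      (Groth.Agent.Helper3.ArtFunLib.ring_exists_sub_mem
        (R.res : R.carrier →+* k) (S.res : S.carrier →+* k) (f : R.carrier →+* S.carrier) hf'
        R.res_surjective S.res_surjective) h
  tfae_finish

end Groth.Agent.S12714
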