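import Groth.Statements.S12716
import Groth.Agent.Lib.Helper3.ArtFunD

set_option autoImplicit false
universe u v
open CategoryTheory
open ArtFun

namespace Groth.Agent.S12716

/-- Let f : R → S be a morphism of complete local Noetherian Λ-algebras with residue field k (Λ
Noetherian, Λ → k finite). If the restriction map Der_Λ(S, k) → Der_Λ(R, k) is injective — two
Λ-derivations S → k that agree after composing with f are equal — then f is surjective. -/
theorem result {Λ : Type u} {k : Type u} [CommRing Λ] [Field k] [Algebra Λ k]
    [IsNoetherianRing Λ] [Module.Finite Λ k]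
    (R : ArtFun.CRing Λ k)
    (S : Type u) [CommRing S] [Algebra Λ S] [IsLocalRing S] [IsNoetherianRing S]
    [IsAdicComplete (IsLocalRing.maximalIdeal S) S] [Algebra S k] [IsScalarTower Λ S k]
    (hres : Function.Surjective (algebraMap S k))
    (f : R.carrier →ₐ[Λ] S) (hf : (IsScalarTower.toAlgHom Λ S k).comp f = R.res)
    (hinj : ∀ D₁ D₂ : Derivation Λ S k, (∀ r : R.carrier, D₁ (f r) = D₂ (f r)) → D₁ = D₂) :
    Function.Surjective f := by
  by_contra hns
  have hf' : (algebraMap S k).comp (f : R.carrier →+* S) = (R.res : R.carrier →+* k) := by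
    ext x
    exact congrArg (fun g : R.carrier →ₐ[Λ] k => g x) hf
  have : IsPrecomplete (IsLocalRing.maximalIdeal R.carrier) R.carrier :=
    R.isAdicComplete.toIsPrecomplete
  obtain ⟨δ, hadd, hleib, hδf, z, hz⟩ :=
    Groth.Agent.Helper3.ArtFunLib.ring_exists_deriv_of_not_surjective
      (R.res : R.carrier →+* k) (algebraMap S k) (f : R.carrier →+* S) hf'
      R.res_surjective hres hns
  have hΛ : ∀ l : Λ, δ (algebraMap Λ S l) = 0 := fun l => by
    have : algebraMap Λ S l = f (algebraMap Λ R.carrier l) := (f.commutes l).symm
    rw [this]; exact hδf _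
  let Dl : S →ₗ[Λ] k :=
    { toFun := δ
      map_add' := hadd
      map_smul' := fun l y => by
        rw [Algebra.smul_def, hleib, hΛ, mul_zero, add_zero, RingHom.id_apply,
          ← IsScalarTower.algebraMap_apply, Algebra.smul_def] }
  let D : Derivation Λ S k := Derivation.mk' Dl (fun a b => by
    change δ (a * b) = a • δ b + b • δ a
    rw [hleib, Algebra.smul_def, Algebra.smul_def])
  have hD : D = 0 := hinj D 0 (fun r => by
    change δ (f r) = 0
    exact hδf r)
  apply hz
  have := congrArg (fun E : Derivation Λ S k => E z) hD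
  exact this

end Groth.Agent.S12716
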