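import Groth.Statements.S12735
import Groth.Agent.Lib.Helper3.ArtFunD

set_option autoImplicit false
universe u v
open CategoryTheory
open ArtFun

namespace Groth.Agent.S12735

/-- Let U be a prorepresentable functor on Artinian local Λ-algebras with residue field k and φ : U → U
an endomorphism of functors which is bijective on the tangent space U(k[ε]). Then φ is an
isomorphism: every component is bijective. -/
theorem result {Λ : Type u} {k : Type u} [CommRing Λ] [Field k] [Algebra Λ k]
    [IsNoetherianRing Λ] [Module.Finite Λ k]
    {U : ArtFun.Art Λ k ⥤ Type v} (hU : ArtFun.IsProrepresentable U)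
    (φ : U ⟶ U) (hd : Function.Bijective (ArtFun.TangentSpace.map φ)) (A : ArtFun.Art Λ k) :
    Function.Bijective (φ.app A) := by
  obtain ⟨P⟩ := hU
  let e : ∀ A : ArtFun.Art Λ k, ArtFun.HomSet P.ring.carrier P.ring.res A ≃ U.obj A :=
    fun A => Equiv.ofBijective (P.family.app A) (P.universal A)
  have he : ∀ A a, e A a = P.family.app A a := fun _ _ => rfl
  let ψ : ∀ A : ArtFun.Art Λ k, ArtFun.HomSet P.ring.carrier P.ring.res A →
      ArtFun.HomSet P.ring.carrier P.ring.res A := fun A a => (e A).symm (φ.app A (e A a))
  have hnat : ∀ {A B : ArtFun.Art Λ k} (f : A ⟶ B) (a : ArtFun.HomSet P.ring.carrier P.ring.res A),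
      ψ B (ArtFun.HomSet.map f a) = ArtFun.HomSet.map f (ψ A a) := by
    intro A B f a
    apply (e B).injective
    change e B ((e B).symm _) = _
    rw [Equiv.apply_symm_apply, he, he, P.family.natural, P.family.natural]
    change _ = U.map f (e A ((e A).symm _))
    rw [Equiv.apply_symm_apply]
    exact NatTrans.naturality_apply φ f _
  have hinj : Function.Injective (ψ (ArtFun.Art.dual Λ k)) := by
    intro a b hab
    have h1 := (e _).symm.injective hab
    exact (e _).injective (hd.1 h1)
  have hb := Groth.Agent.Helper3.ArtFunLib.hR_endo_bijective P.ring ψ hnat hinj A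
  have hφ : φ.app A = (e A) ∘ (ψ A) ∘ (e A).symm := by
    funext x
    change _ = e A ((e A).symm (φ.app A (e A ((e A).symm x))))
    rw [Equiv.apply_symm_apply, Equiv.apply_symm_apply]
  rw [hφ]
  exact (e A).bijective.comp (hb.comp (e A).symm.bijective)

end Groth.Agent.S12735
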