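import Groth.Statements.S12741
import Mathlib
import Groth.Prelude.Def_ArtFun2
import Groth.Agent.Lib.Helper9.CRingCompl
-- import your own Groth.Agent.* helpers here

set_option autoImplicit false
universe u v
open CategoryTheory
open ArtFun ArtFun.CRing

namespace Groth.Agent.S12741

open CategoryTheory IsLocalRing TensorProduct
namespace Aux

variable {Λ : Type u} {k : Type u} [CommRing Λ] [Field k] [Algebra Λ k]
  [IsNoetherianRing Λ] [Module.Finite Λ k]

section
variable (R S : ArtFun.CRing Λ k)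

/-- the augmentation of the tensor product -/
noncomputable def rho : R.carrier ⊗[Λ] S.carrier →ₐ[Λ] k :=
  (Algebra.TensorProduct.lmul' Λ).comp (Algebra.TensorProduct.map R.res S.res)

lemma rho_tmul (r : R.carrier) (s : S.carrier) : rho R S (r ⊗ₜ s) = R.res r * S.res s := by
  simp [rho]

lemma rho_surjective : Function.Surjective (rho R S) := fun c => by
  obtain ⟨r, rfl⟩ := R.res_surjective c
  exact ⟨r ⊗ₜ 1, by rw [rho_tmul, map_one, mul_one]⟩

lemma h1 : (RingHom.ker (Algebra.TensorProduct.map R.res S.res)).FG := by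
  rw [Algebra.TensorProduct.map_ker _ _ R.res_surjective S.res_surjective]
  exact Submodule.FG.sup
    (Ideal.FG.map (IsNoetherian.noetherian _) _) (Ideal.FG.map (IsNoetherian.noetherian _) _)

omit [IsNoetherianRing Λ] in
lemma h2 : (RingHom.ker (Algebra.TensorProduct.lmul' Λ (S := k))).FG := by
  haveI : IsNoetherianRing (k ⊗[Λ] k) := IsNoetherianRing.of_finite k (k ⊗[Λ] k)
  exact IsNoetherian.noetherian _

lemma h3 : (RingHom.ker ((Algebra.TensorProduct.lmul' Λ (S := k)).toRingHom.comp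
    (Algebra.TensorProduct.map R.res S.res).toRingHom)).FG :=
  Ideal.fg_ker_comp _ _ (h1 R S) (h2 (Λ := Λ) (k := k))
    (Algebra.TensorProduct.map_surjective _ _ R.res_surjective S.res_surjective)

lemma rho_ker_fg : (RingHom.ker (rho R S)).FG := h3 R S

end

theorem main (R S : ArtFun.CRing Λ k) :
    ∃ (P : ArtFun.CRing Λ k) (i₁ : R.carrier →ₐ[Λ] P.carrier) (i₂ : S.carrier →ₐ[Λ] P.carrier),
      P.res.comp i₁ = R.res ∧ P.res.comp i₂ = S.res ∧
      ∀ (T : ArtFun.CRing Λ k) (g₁ : R.carrier →ₐ[Λ] T.carrier) (g₂ : S.carrier →ₐ[Λ] T.carrier),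
        T.res.comp g₁ = R.res → T.res.comp g₂ = S.res →
          ∃! h : P.carrier →ₐ[Λ] T.carrier, T.res.comp h = P.res ∧ h.comp i₁ = g₁ ∧ h.comp i₂ = g₂ := by
  obtain ⟨P, j, hj, hUP⟩ := H9CRingCompl.exists_hat (rho R S) (rho_surjective R S) (rho_ker_fg R S)
  refine ⟨P, j.comp Algebra.TensorProduct.includeLeft,
    j.comp (Algebra.TensorProduct.includeRight), ?_, ?_, ?_⟩
  · ext r
    have : P.res (j (r ⊗ₜ 1)) = rho R S (r ⊗ₜ 1) := congrArg (fun f => f (r ⊗ₜ 1)) hj
    change P.res (j (r ⊗ₜ 1)) = _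
    rw [this, rho_tmul, map_one, mul_one]
  · ext s
    have : P.res (j (1 ⊗ₜ s)) = rho R S (1 ⊗ₜ s) := congrArg (fun f => f (1 ⊗ₜ s)) hj
    change P.res (j (1 ⊗ₜ s)) = _
    rw [this, rho_tmul, map_one, one_mul]
  · intro T g₁ g₂ hg₁ hg₂
    let g : R.carrier ⊗[Λ] S.carrier →ₐ[Λ] T.carrier := Algebra.TensorProduct.productMap g₁ g₂
    have hg : T.res.comp g = rho R S := by
      apply Algebra.TensorProduct.ext'
      intro r s
      change T.res (Algebra.TensorProduct.productMap g₁ g₂ (r ⊗ₜ s)) = rho R S (r ⊗ₜ s)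
      rw [Algebra.TensorProduct.productMap_apply_tmul, map_mul, rho_tmul]
      congr 1
      · exact congrArg (fun f => f r) hg₁
      · exact congrArg (fun f => f s) hg₂
    obtain ⟨⟨h, hres, hcomp⟩, huniq⟩ := hUP T g hg
    refine ⟨h, ⟨hres, ?_, ?_⟩, ?_⟩
    · ext r
      have : h (j (r ⊗ₜ 1)) = g (r ⊗ₜ 1) := congrArg (fun f => f (r ⊗ₜ 1)) hcomp
      change h (j (r ⊗ₜ 1)) = _
      rw [this]
      change Algebra.TensorProduct.productMap g₁ g₂ (r ⊗ₜ 1) = _
      rw [Algebra.TensorProduct.productMap_apply_tmul, map_one, mul_one]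
    · ext s
      have : h (j (1 ⊗ₜ s)) = g (1 ⊗ₜ s) := congrArg (fun f => f (1 ⊗ₜ s)) hcomp
      change h (j (1 ⊗ₜ s)) = _
      rw [this]
      change Algebra.TensorProduct.productMap g₁ g₂ (1 ⊗ₜ s) = _
      rw [Algebra.TensorProduct.productMap_apply_tmul, map_one, one_mul]
    · rintro h' ⟨-, h1, h2⟩
      apply huniq h' h _ hcomp
      apply Algebra.TensorProduct.ext'
      intro r s
      have e1 : h' (j (r ⊗ₜ 1)) = g₁ r := congrArg (fun f => f r) h1
      have e2 : h' (j (1 ⊗ₜ s)) = g₂ s := congrArg (fun f => f s) h2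
      change h' (j (r ⊗ₜ s)) = Algebra.TensorProduct.productMap g₁ g₂ (r ⊗ₜ s)
      rw [Algebra.TensorProduct.productMap_apply_tmul, ← e1, ← e2, ← map_mul, ← map_mul,
        Algebra.TensorProduct.tmul_mul_tmul, mul_one, one_mul]

end Aux

/-- The category of complete local Noetherian Λ-algebras with residue field k (Λ Noetherian, Λ → k
finite; morphisms the Λ-algebra maps compatible with the augmentations) admits coproducts of pairs:
for objects R and S there is an object P with morphisms from R and S through which every pair of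
morphisms R → T ← S factors by a unique morphism P → T. -/
theorem result {Λ : Type u} {k : Type u} [CommRing Λ] [Field k] [Algebra Λ k]
    [IsNoetherianRing Λ] [Module.Finite Λ k]
    (R S : ArtFun.CRing Λ k) :
    ∃ (P : ArtFun.CRing Λ k) (i₁ : R.carrier →ₐ[Λ] P.carrier) (i₂ : S.carrier →ₐ[Λ] P.carrier),
      P.res.comp i₁ = R.res ∧ P.res.comp i₂ = S.res ∧
      ∀ (T : ArtFun.CRing Λ k) (g₁ : R.carrier →ₐ[Λ] T.carrier) (g₂ : S.carrier →ₐ[Λ] T.carrier),
        T.res.comp g₁ = R.res → T.res.comp g₂ = S.res →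
          ∃! h : P.carrier →ₐ[Λ] T.carrier, T.res.comp h = P.res ∧ h.comp i₁ = g₁ ∧ h.comp i₂ = g₂ := by
  exact Aux.main R S

end Groth.Agent.S12741
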