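import Groth.Statements.S12740
import Mathlib
import Groth.Prelude.Def_ArtFun2
import Groth.Agent.S12741
import Groth.Agent.Lib.Helper3.SchlB
-- import your own Groth.Agent.* helpers here

set_option autoImplicit false
universe u v
open CategoryTheory
open ArtFun ArtFun.CRing

namespace Groth.Agent.S12740

open CategoryTheory IsLocalRing
namespace Aux

open Groth.Agent.Helper3.ArtFunLib

variable {Λ : Type u} {k : Type u} [CommRing Λ] [Field k] [Algebra Λ k]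
  [IsNoetherianRing Λ] [Module.Finite Λ k]

theorem main (R S₁ S₂ : ArtFun.CRing Λ k)
    (f₁ : R.carrier →ₐ[Λ] S₁.carrier) (hf₁ : S₁.res.comp f₁ = R.res)
    (f₂ : R.carrier →ₐ[Λ] S₂.carrier) (hf₂ : S₂.res.comp f₂ = R.res) :
    ∃ (P : ArtFun.CRing Λ k) (i₁ : S₁.carrier →ₐ[Λ] P.carrier) (i₂ : S₂.carrier →ₐ[Λ] P.carrier),
      P.res.comp i₁ = S₁.res ∧ P.res.comp i₂ = S₂.res ∧ i₁.comp f₁ = i₂.comp f₂ ∧
      ∀ (T : ArtFun.CRing Λ k) (g₁ : S₁.carrier →ₐ[Λ] T.carrier) (g₂ : S₂.carrier →ₐ[Λ] T.carrier),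
        T.res.comp g₁ = S₁.res → T.res.comp g₂ = S₂.res → g₁.comp f₁ = g₂.comp f₂ →
          ∃! h : P.carrier →ₐ[Λ] T.carrier, T.res.comp h = P.res ∧ h.comp i₁ = g₁ ∧ h.comp i₂ = g₂ := by
  obtain ⟨C, c₁, c₂, hc₁, hc₂, hUP⟩ := Groth.Agent.S12741.result S₁ S₂
  let J : Ideal C.carrier := Ideal.span (Set.range fun r : R.carrier => c₁ (f₁ r) - c₂ (f₂ r))
  have hJ : J ≤ maximalIdeal C.carrier := by
    rw [Ideal.span_le]
    rintro _ ⟨r, rfl⟩
    change _ ∈ maximalIdeal C.carrier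
    rw [H9CRingCompl.cring_mem_max, map_sub, sub_eq_zero]
    have e1 : C.res (c₁ (f₁ r)) = S₁.res (f₁ r) := congrArg (fun f => f (f₁ r)) hc₁
    have e2 : C.res (c₂ (f₂ r)) = S₂.res (f₂ r) := congrArg (fun f => f (f₂ r)) hc₂
    have e3 : S₁.res (f₁ r) = R.res r := congrArg (fun f => f r) hf₁
    have e4 : S₂.res (f₂ r) = R.res r := congrArg (fun f => f r) hf₂
    rw [e1, e2, e3, e4]
  let q := quotCRingHom C J hJ
  have hq : (quotCRing C J hJ).res.comp q = C.res := quotCRingHom_res C J hJ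
  refine ⟨quotCRing C J hJ, q.comp c₁, q.comp c₂, ?_, ?_, ?_, ?_⟩
  · rw [← AlgHom.comp_assoc, hq, hc₁]
  · rw [← AlgHom.comp_assoc, hq, hc₂]
  · ext r
    change Ideal.Quotient.mk J (c₁ (f₁ r)) = Ideal.Quotient.mk J (c₂ (f₂ r))
    rw [Ideal.Quotient.eq]
    exact Ideal.subset_span ⟨r, rfl⟩
  · intro T g₁ g₂ hg₁ hg₂ hg
    obtain ⟨h₀, ⟨hres₀, h₀1, h₀2⟩, huniq⟩ := hUP T g₁ g₂ hg₁ hg₂
    have hkill : ∀ a ∈ J, h₀ a = 0 := by
      intro a ha
      have : J ≤ RingHom.ker (h₀ : C.carrier →+* T.carrier) := by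
        rw [Ideal.span_le]
        rintro _ ⟨r, rfl⟩
        change h₀ (c₁ (f₁ r) - c₂ (f₂ r)) = 0
        have e1 : h₀ (c₁ (f₁ r)) = g₁ (f₁ r) := congrArg (fun f => f (f₁ r)) h₀1
        have e2 : h₀ (c₂ (f₂ r)) = g₂ (f₂ r) := congrArg (fun f => f (f₂ r)) h₀2
        have e3 : g₁ (f₁ r) = g₂ (f₂ r) := congrArg (fun f => f r) hg
        rw [map_sub, e1, e2, e3, sub_self]
      exact this ha
    let h : (quotCRing C J hJ).carrier →ₐ[Λ] T.carrier := Ideal.Quotient.liftₐ J h₀ hkill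
    have hhq : h.comp q = h₀ := AlgHom.ext fun _ => rfl
    have hqsurj : Function.Surjective q := quotCRingHom_surjective C J hJ
    refine ⟨h, ⟨?_, ?_, ?_⟩, ?_⟩
    · ext x
      obtain ⟨c, rfl⟩ := hqsurj x
      change T.res (h₀ c) = C.res c
      exact congrArg (fun f => f c) hres₀
    · rw [← AlgHom.comp_assoc, hhq, h₀1]
    · rw [← AlgHom.comp_assoc, hhq, h₀2]
    · rintro h' ⟨hr', h1', h2'⟩
      have : h'.comp q = h₀ := by
        apply huniq
        refine ⟨?_, ?_, ?_⟩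
        · rw [← AlgHom.comp_assoc, hr', hq]
        · rw [AlgHom.comp_assoc, h1']
        · rw [AlgHom.comp_assoc, h2']
      ext x
      obtain ⟨c, rfl⟩ := hqsurj x
      change (h'.comp q) c = h₀ c
      rw [this]

end Aux

/-- The category of complete local Noetherian Λ-algebras with residue field k (Λ Noetherian, Λ → k
finite; morphisms the Λ-algebra maps compatible with the augmentations) admits pushouts: for R → S₁
and R → S₂ there is an object P with morphisms from S₁ and S₂ agreeing on R, through which every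
compatible pair S₁ → T ← S₂ agreeing on R factors by a unique morphism P → T. -/
theorem result {Λ : Type u} {k : Type u} [CommRing Λ] [Field k] [Algebra Λ k]
    [IsNoetherianRing Λ] [Module.Finite Λ k]
    (R S₁ S₂ : ArtFun.CRing Λ k)
    (f₁ : R.carrier →ₐ[Λ] S₁.carrier) (hf₁ : S₁.res.comp f₁ = R.res)
    (f₂ : R.carrier →ₐ[Λ] S₂.carrier) (hf₂ : S₂.res.comp f₂ = R.res) :
    ∃ (P : ArtFun.CRing Λ k) (i₁ : S₁.carrier →ₐ[Λ] P.carrier) (i₂ : S₂.carrier →ₐ[Λ] P.carrier),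
      P.res.comp i₁ = S₁.res ∧ P.res.comp i₂ = S₂.res ∧ i₁.comp f₁ = i₂.comp f₂ ∧
      ∀ (T : ArtFun.CRing Λ k) (g₁ : S₁.carrier →ₐ[Λ] T.carrier) (g₂ : S₂.carrier →ₐ[Λ] T.carrier),
        T.res.comp g₁ = S₁.res → T.res.comp g₂ = S₂.res → g₁.comp f₁ = g₂.comp f₂ →
          ∃! h : P.carrier →ₐ[Λ] T.carrier, T.res.comp h = P.res ∧ h.comp i₁ = g₁ ∧ h.comp i₂ = g₂ := by
  exact Aux.main R S₁ S₂ f₁ hf₁ f₂ hf₂

end Groth.Agent.S12740
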