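import Groth.Statements.S12744
import Groth.Agent.Lib.Helper3.ArtFunH

set_option autoImplicit false
universe u v
open CategoryTheory
open ArtFun

namespace Groth.Agent.S12744

/-- For functors, if η : F → G is a smooth morphism of functors on Artinian local Λ-algebras with
residue field k and F(k) → G(k) is surjective, then for every complete local Noetherian R with
residue field k the induced map on formal elements over R (compatible systems of elements over the
truncations R/m^(n+1)) is surjective. -/
theorem result {Λ : Type u} {k : Type u} [CommRing Λ] [Field k] [Algebra Λ k]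
    [IsNoetherianRing Λ] [Module.Finite Λ k]
    {F G : ArtFun.Art Λ k ⥤ Type v} (η : F ⟶ G) (hη : ArtFun.IsSmooth η)
    (h0 : Function.Surjective (η.app (ArtFun.Art.base Λ k))) (R : ArtFun.CRing Λ k) :
    Function.Surjective (fun u : ArtFun.FormalElt F R => u.map η) := by
  intro v
  have hsurjA := fun A => Groth.Agent.Helper3.ArtFunLib.surjective_app_of_isSmooth η hη h0 A
  obtain ⟨u0, hu0⟩ := hsurjA (R.trunc 0) (v.elt 0)
  have hstep : ∀ n (a : {a : F.obj (R.trunc n) // η.app _ a = v.elt n}),
      ∃ z : F.obj (R.trunc (n + 1)),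
        F.map (R.truncMap n) z = a.1 ∧ η.app _ z = v.elt (n + 1) := fun n a => by
    obtain ⟨z, hz⟩ := hη (R.truncMap n) (Groth.Agent.Helper3.ArtFunLib.truncMap_surjective R n)
      ⟨(a.1, v.elt (n + 1)), by rw [a.2, v.compat]⟩
    exact ⟨z, congrArg (fun t => t.1.1) hz, congrArg (fun t => t.1.2) hz⟩
  let step : ∀ n, {a : F.obj (R.trunc n) // η.app _ a = v.elt n} →
      {a : F.obj (R.trunc (n + 1)) // η.app _ a = v.elt (n + 1)} :=
    fun n a => ⟨Classical.choose (hstep n a), (Classical.choose_spec (hstep n a)).2⟩
  let seq : ∀ n, {a : F.obj (R.trunc n) // η.app _ a = v.elt n} :=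
    fun n => Nat.rec ⟨u0, hu0⟩ step n
  have hseq : ∀ n, F.map (R.truncMap n) (seq (n + 1)).1 = (seq n).1 := fun n =>
    (Classical.choose_spec (hstep n (seq n))).1
  refine ⟨⟨fun n => (seq n).1, hseq⟩, ?_⟩
  apply ArtFun.FormalElt.ext'
  intro n
  exact (seq n).2

end Groth.Agent.S12744
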