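import Groth.Statements.S12747
import Groth.Agent.Lib.Helper3.ArtFunD

set_option autoImplicit false
universe u v
open CategoryTheory
open ArtFun

namespace Groth.Agent.S12747

/-- For functors, let H₁ → G, H₂ → G and q : G → F be morphisms of functors on Artinian local Λ-algebras
with residue field k where F and G are deformation functors (value at k a point, condition (RS)) and
q is injective on tangent spaces. Then the induced morphism H₁ ×_G H₂ → H₁ ×_F H₂ is smooth. (The
published statement also assumes that infinitesimal automorphisms of G map onto those of F; for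
functors that condition is empty.) -/
theorem result {Λ : Type u} {k : Type u} [CommRing Λ] [Field k] [Algebra Λ k]
    [IsNoetherianRing Λ] [Module.Finite Λ k]
    {F G H₁ H₂ : ArtFun.Art Λ k ⥤ Type v} (p₁ : H₁ ⟶ G) (p₂ : H₂ ⟶ G) (q : G ⟶ F)
    (hF0 : ArtFun.H0 F) (hF : (∀ ⦃B A A' A'' : ArtFun.Art Λ k⦄ (p' : B ⟶ A') (p'' : B ⟶ A'') (f' : A' ⟶ A) (f'' : A'' ⟶ A)
        (h : ArtFun.Art.IsFibreProd p' p'' f' f''), Function.Surjective f'' → Function.Bijective (ArtFun.cmp F h)))
    (hG0 : ArtFun.H0 G) (hG : (∀ ⦃B A A' A'' : ArtFun.Art Λ k⦄ (p' : B ⟶ A') (p'' : B ⟶ A'') (f' : A' ⟶ A) (f'' : A'' ⟶ A)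
        (h : ArtFun.Art.IsFibreProd p' p'' f' f''), Function.Surjective f'' → Function.Bijective (ArtFun.cmp G h)))
    (hq : Function.Injective (ArtFun.TangentSpace.map q)) :
    ArtFun.IsSmooth (CategoryTheory.Limits.pullback.map p₁ p₂ (p₁ ≫ q) (p₂ ≫ q) (𝟙 H₁) (𝟙 H₂) q
      (CategoryTheory.Category.id_comp _).symm (CategoryTheory.Category.id_comp _).symm) := by
  have hinj : ∀ A, Function.Injective (q.app A) := fun A =>
    Groth.Agent.Helper3.ArtFunLib.injective_app_of_tangent_injective hG0 hG hF q hq A
  have : ∀ A, Mono (q.app A) := fun A => (mono_iff_injective (q.app A)).2 (hinj A)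
  have : Mono q := NatTrans.mono_of_mono_app q
  set m := CategoryTheory.Limits.pullback.map p₁ p₂ (p₁ ≫ q) (p₂ ≫ q) (𝟙 H₁) (𝟙 H₂) q
      (CategoryTheory.Category.id_comp _).symm (CategoryTheory.Category.id_comp _).symm with hm
  let n : Limits.pullback (p₁ ≫ q) (p₂ ≫ q) ⟶ Limits.pullback p₁ p₂ :=
    Limits.pullback.lift (Limits.pullback.fst _ _) (Limits.pullback.snd _ _) (by
      rw [← cancel_mono q, Category.assoc, Category.assoc]
      exact Limits.pullback.condition)
  have hmn : m ≫ n = 𝟙 _ := by
    apply Limits.pullback.hom_ext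
    · simp only [m, n, Category.assoc, Limits.pullback.lift_fst, Limits.pullback.map,
        Category.comp_id, Category.id_comp]
    · simp only [m, n, Category.assoc, Limits.pullback.lift_snd, Limits.pullback.map,
        Category.comp_id, Category.id_comp]
  have hnm : n ≫ m = 𝟙 _ := by
    apply Limits.pullback.hom_ext
    · simp only [m, n, Category.assoc, Limits.pullback.lift_fst, Limits.pullback.map,
        Category.comp_id, Category.id_comp]
    · simp only [m, n, Category.assoc, Limits.pullback.lift_snd, Limits.pullback.map,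
        Category.comp_id, Category.id_comp]
  intro B A μ hμ x
  refine ⟨n.app B x.1.2, ?_⟩
  have h1 : m.app B (n.app B x.1.2) = x.1.2 := by
    have := congrArg (fun t => t.app B x.1.2) hnm
    simpa using this
  apply Subtype.ext
  apply Prod.ext
  · change (Limits.pullback p₁ p₂).map μ (n.app B x.1.2) = x.1.1
    have h2 : n.app A (m.app A x.1.1) = x.1.1 := by
      have := congrArg (fun t => t.app A x.1.1) hmn
      simpa using this
    rw [← h2, x.2]
    exact (NatTrans.naturality_apply n μ x.1.2).symm
  · exact h1

end Groth.Agent.S12747
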