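import Groth.Statements.S12748
import Groth.Agent.Lib.Helper3.SchlN

set_option autoImplicit false
universe u v
open CategoryTheory
open ArtFun ArtFun.CRing

namespace Groth.Agent.S12748

/-- Let R' → R be a morphism of complete local Noetherian Λ-algebras with residue field k with an
R'-algebra retraction ρ : R → R', so that R = R' ⊕ I for the ideal I = ker ρ; let x₁, …, x_r ∈ I map
to a basis of I/m_R I and let φ : R'[[X₁, …, X_r]] → R be an R'-algebra map sending X_i to x_i. If
for all large n the induced map R'[[X]]/m^n → R/m_R^n has a left inverse — a Λ-algebra map g_n : R →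
R'[[X]]/m^n with g_n ∘ φ equal to the quotient map — then φ is an isomorphism. -/
theorem result {Λ : Type u} {k : Type u} [CommRing Λ] [Field k] [Algebra Λ k]
    [IsNoetherianRing Λ] [Module.Finite Λ k]
    (R' R : ArtFun.CRing Λ k) [Algebra R'.carrier R.carrier] [IsScalarTower Λ R'.carrier R.carrier]
    (hc : R.res.comp (IsScalarTower.toAlgHom Λ R'.carrier R.carrier) = R'.res)
    (ρ : R.carrier →ₐ[R'.carrier] R'.carrier)
    (r : ℕ) (x : Fin r → R.carrier) (hxI : ∀ i, ρ (x i) = 0)
    (hspan : Ideal.span (Set.range x) ⊔ IsLocalRing.maximalIdeal R.carrier * RingHom.ker ρ = RingHom.ker ρ)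
    (hli : ∀ c : Fin r → R.carrier, (∑ i, c i * x i) ∈ IsLocalRing.maximalIdeal R.carrier * RingHom.ker ρ →
      ∀ i, c i ∈ IsLocalRing.maximalIdeal R.carrier)
    (φ : MvPowerSeries (Fin r) R'.carrier →ₐ[R'.carrier] R.carrier) (hφ : ∀ i, φ (MvPowerSeries.X i) = x i)
    (hinv : ∃ N : ℕ, ∀ n, N ≤ n →
      ∃ g : R.carrier →ₐ[Λ] (MvPowerSeries (Fin r) R'.carrier ⧸
          IsLocalRing.maximalIdeal (MvPowerSeries (Fin r) R'.carrier) ^ n),
        ∀ s, g (φ s) = Ideal.Quotient.mk _ s) :
    Function.Bijective φ := by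
  open Groth.Agent.Helper3.ArtFunLib in
  classical
  constructor
  · -- injective
    rw [injective_iff_map_eq_zero]
    intro s hs
    obtain ⟨N, hN⟩ := hinv
    have hmem : ∀ n, s ∈ IsLocalRing.maximalIdeal (MvPowerSeries (Fin r) R'.carrier) ^ n := by
      intro n
      obtain ⟨g, hg⟩ := hN (max n N) (le_max_right _ _)
      have h1 := hg s
      rw [hs, map_zero] at h1
      have h2 : s ∈ IsLocalRing.maximalIdeal (MvPowerSeries (Fin r) R'.carrier) ^ (max n N) :=
        Ideal.Quotient.eq_zero_iff_mem.1 h1.symm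
      exact Ideal.pow_le_pow_right (le_max_left _ _) h2
    have h3 : s ∈ (⨅ n, IsLocalRing.maximalIdeal (MvPowerSeries (Fin r) R'.carrier) ^ n :
        Ideal (MvPowerSeries (Fin r) R'.carrier)) := (Ideal.mem_iInf).2 hmem
    rw [Ideal.iInf_pow_eq_bot_of_isLocalRing _ (IsLocalRing.maximalIdeal.isMaximal _).ne_top] at h3
    exact h3
  · -- surjective
    have hker : Ideal.span (Set.range x) = RingHom.ker ρ := by
      apply le_antisymm
      · rw [Ideal.span_le]
        rintro _ ⟨i, rfl⟩
        exact hxI i
      · apply Submodule.le_of_le_smul_of_le_jacobson_bot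
          (I := IsLocalRing.maximalIdeal R.carrier) (IsNoetherian.noetherian _)
        · rw [IsLocalRing.jacobson_eq_maximalIdeal ⊥ bot_ne_top]
        · rw [smul_eq_mul, hspan]
    have hmap : Ideal.map (φ : MvPowerSeries (Fin r) R'.carrier →+* R.carrier)
        (varsIdeal (Fin r) R'.carrier) = RingHom.ker ρ := by
      unfold varsIdeal
      rw [Ideal.map_span, ← hker]
      congr 1
      ext y
      constructor
      · rintro ⟨_, ⟨i, rfl⟩, rfl⟩
        exact ⟨i, (hφ i).symm⟩
      · rintro ⟨i, rfl⟩
        exact ⟨_, ⟨i, rfl⟩, hφ i⟩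
    haveI : IsPrecomplete (varsIdeal (Fin r) R'.carrier) (MvPowerSeries (Fin r) R'.carrier) :=
      (isAdicComplete_ps (Λ := R'.carrier) (Fin r)).toIsPrecomplete
    have hne : RingHom.ker ρ ≠ ⊤ := by
      intro h
      have h1 : (1 : R.carrier) ∈ RingHom.ker ρ := by rw [h]; exact Submodule.mem_top
      rw [RingHom.mem_ker, map_one] at h1
      exact one_ne_zero h1
    haveI : IsHausdorff (Ideal.map (φ : MvPowerSeries (Fin r) R'.carrier →+* R.carrier)
        (varsIdeal (Fin r) R'.carrier)) R.carrier := by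
      rw [hmap]
      exact IsHausdorff.of_isLocalRing _ _ hne
    have hsurj := surjective_of_mk_map_comp_surjective
      (I := varsIdeal (Fin r) R'.carrier)
      (φ : MvPowerSeries (Fin r) R'.carrier →+* R.carrier) (by
        intro q
        obtain ⟨y, rfl⟩ := Ideal.Quotient.mk_surjective q
        refine ⟨algebraMap R'.carrier (MvPowerSeries (Fin r) R'.carrier) (ρ y), ?_⟩
        rw [RingHom.comp_apply]
        symm
        rw [Ideal.Quotient.eq, hmap, RingHom.mem_ker, map_sub]
        have h1 : (φ : MvPowerSeries (Fin r) R'.carrier →+* R.carrier)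
            (algebraMap R'.carrier (MvPowerSeries (Fin r) R'.carrier) (ρ y)) =
            algebraMap R'.carrier R.carrier (ρ y) := φ.commutes (ρ y)
        rw [h1, ρ.commutes]
        exact sub_self _)
    exact hsurj

end Groth.Agent.S12748
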