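import Groth.Statements.S12749
import Groth.Agent.Lib.Helper3.SchlI

set_option autoImplicit false
universe u v
open CategoryTheory
open ArtFun

namespace Groth.Agent.S12749

/-- For functors, suppose k admits no nonzero Λ-derivation into itself (that is, k is separable over the
image of Λ in k). Let F be a functor on Artinian local Λ-algebras with residue field k with F(k) a
point which satisfies (S2), and let ξ be a minimal versal family of F over a complete local
Noetherian R with residue field k: ξ is versal, and every morphism of such coefficient rings R' → R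
along which some formal element of F over R' pushes forward to the formal element of ξ is
surjective. Then ξ is a hull of F: it is moreover bijective on tangent spaces. (The published
statement, for arbitrary k, concludes that the tangent map of the minimal versal family is bijective
on orbits under the Λ-derivations of k; when k has no nonzero Λ-derivation into itself the orbits
are points and this is plain bijectivity, which is the case stated here.) -/
theorem result {Λ : Type u} {k : Type u} [CommRing Λ] [Field k] [Algebra Λ k]
    [IsNoetherianRing Λ] [Module.Finite Λ k]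
    (hk : Subsingleton (Derivation Λ k k))
    {F : ArtFun.Art Λ k ⥤ Type v} (h0 : ArtFun.H0 F) (h2 : ArtFun.Heps F)
    {R : ArtFun.CRing Λ k} (ξ : ArtFun.Family R.carrier R.res F) (hξ : ξ.IsMinimalVersal) :
    ArtFun.IsMiniversal ξ := by
  open Groth.Agent.Helper3.ArtFunLib in
  obtain ⟨hv, hmin⟩ := hξ
  obtain ⟨J, hJ, hm⟩ := exists_miniversal_quotient h0 h2 R ξ hv
    (fun D _ hD => exists_mem_maximalIdeal_dsnd_ne_zero R hk D hD)
  obtain ⟨g, hg, hgη⟩ := formalElt_induced h0 (quotCRing R J hJ) (quoFam ξ J hJ) hm.1 R
    ξ.toFormalElt
  rw [along_toFormalElt] at hgη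
  have hgs : Function.Surjective g := hmin (quotCRing R J hJ) _ g hg hgη
  have hcomp : Function.Surjective
      ((g : (quotCRing R J hJ).carrier →+* R.carrier).comp
        (quotCRingHom R J hJ : R.carrier →+* (quotCRing R J hJ).carrier)) :=
    hgs.comp (quotCRingHom_surjective R J hJ)
  have hinj := ringHom_injective_of_surjective_endo _ hcomp
  have hJbot : J = ⊥ := by
    rw [eq_bot_iff]
    intro x hx
    rw [Ideal.mem_bot]
    apply hinj
    rw [map_zero]
    change g (Ideal.Quotient.mk J x) = 0
    rw [(Ideal.Quotient.eq_zero_iff_mem (I := J)).2 hx]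
    exact map_zero g
  refine ⟨hv, ?_, surjective_app_of_isVersal h0 ξ hv _⟩
  intro D₁ D₂ h
  obtain ⟨a₁, ha₁⟩ := exists_toP_eq (hJ := hJ) D₁ (by rw [hJbot]; exact bot_le)
  obtain ⟨a₂, ha₂⟩ := exists_toP_eq (hJ := hJ) D₂ (by rw [hJbot]; exact bot_le)
  have h' : (quoFam ξ J hJ).app _ a₁ = (quoFam ξ J hJ).app _ a₂ := by
    rw [quoFam_app, quoFam_app, ha₁, ha₂]
    exact h
  rw [← ha₁, ← ha₂, hm.2.1 h']

end Groth.Agent.S12749
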