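import Groth.Statements.S12750
import Groth.Agent.Lib.Helper3.ArtFunG

set_option autoImplicit false
universe u v
open CategoryTheory
open ArtFun ArtFun.Art

namespace Groth.Agent.S12750

/-- (1) ⇔ (3): let f : B → A be a morphism in the category of Artinian local Λ-algebras with residue
field k, and let q_B : B → B', q_A : A → A' be the quotients by m_Λ B + m_B² and m_Λ A + m_A² (m_Λ
the kernel of Λ → k), realised as surjective morphisms with these kernels, with f' : B' → A' the
induced morphism. Then f is an essential surjection — surjective, and every morphism g into B whose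
composite with f is surjective is itself surjective — if and only if f' is. (The intermediate
equivalence with the map B/m_B² → A/m_A² is the special case Λ-structure trivialised and follows by
applying this one twice.) -/
theorem result {Λ : Type u} {k : Type u} [CommRing Λ] [Field k] [Algebra Λ k]
    [IsNoetherianRing Λ] [Module.Finite Λ k]
    {A B A' B' : ArtFun.Art Λ k} (f : B ⟶ A)
    (qB : B ⟶ B') (hqB : Function.Surjective qB)
    (hkB : RingHom.ker qB.toAlgHom = Ideal.map (algebraMap Λ B) (RingHom.ker (algebraMap Λ k)) ⊔ IsLocalRing.maximalIdeal B ^ 2)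
    (qA : A ⟶ A') (hqA : Function.Surjective qA)
    (hkA : RingHom.ker qA.toAlgHom = Ideal.map (algebraMap Λ A) (RingHom.ker (algebraMap Λ k)) ⊔ IsLocalRing.maximalIdeal A ^ 2)
    (f' : B' ⟶ A') (hf' : qB ≫ f' = f ≫ qA) :
    (Function.Surjective f ∧ ∀ (C : ArtFun.Art Λ k) (g : C ⟶ B), Function.Surjective (g ≫ f) → Function.Surjective g) ↔ (Function.Surjective f' ∧ ∀ (C : ArtFun.Art Λ k) (g : C ⟶ B'), Function.Surjective (g ≫ f') → Function.Surjective g) := by
  have hqq : ∀ b : B, f' (qB b) = qA (f b) := fun b => by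
    change (qB ≫ f') b = (f ≫ qA) b
    rw [hf']
  have hkA : ∀ a : A, qA a = 0 ↔ a ∈ Groth.Agent.Helper3.ArtFunLib.relIdeal A := fun a => by
    change a ∈ RingHom.ker qA.toAlgHom ↔ _
    rw [hkA]; rfl
  have hkB : ∀ b : B, qB b = 0 ↔ b ∈ Groth.Agent.Helper3.ArtFunLib.relIdeal B := fun b => by
    change b ∈ RingHom.ker qB.toAlgHom ↔ _
    rw [hkB]; rfl
  constructor
  · rintro ⟨hf, hE⟩
    have hfs' : Function.Surjective f' := by
      intro a'
      obtain ⟨a, rfl⟩ := hqA a'
      obtain ⟨b, rfl⟩ := hf a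
      exact ⟨qB b, hqq b⟩
    refine ⟨hfs', ?_⟩
    rw [Groth.Agent.Helper3.ArtFunLib.essential_iff_deriv f' hfs']
    intro δ' hδ' x' hx'
    obtain ⟨x, rfl⟩ := hqB x'
    have hδ : Groth.Agent.Helper3.ArtFunLib.IsDeriv B (fun b => δ' (qB b)) :=
      ⟨fun x y => by simp only [map_add]; exact hδ'.add _ _,
       fun x y => by
        simp only [map_mul]
        rw [hδ'.leib, ArtFun.Art.res_app, ArtFun.Art.res_app],
       fun l => by
        have : qB (algebraMap Λ B l) = algebraMap Λ B' l := qB.toAlgHom.commutes l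
        simp only [this]
        exact hδ'.alg l⟩
    rw [hqq, hkA, ← Groth.Agent.Helper3.ArtFunLib.map_relIdeal f hf] at hx'
    obtain ⟨y, hy, hfy⟩ := (Ideal.mem_map_iff_of_surjective f.toAlgHom hf).1 hx'
    have h1 := (Groth.Agent.Helper3.ArtFunLib.essential_iff_deriv f hf).1 hE _ hδ (x - y)
      (by rw [map_sub, sub_eq_zero]; exact hfy.symm)
    have h2 : qB y = 0 := (hkB y).2 hy
    simp only [map_sub, h2, sub_zero] at h1
    exact h1
  · rintro ⟨hfs', hE'⟩
    have hf : Function.Surjective f := by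
      apply Groth.Agent.Helper3.ArtFunLib.Art.surjective_of_map_sup_sq f
      have hle : Ideal.map f.toAlgHom (IsLocalRing.maximalIdeal B) ≤ IsLocalRing.maximalIdeal A := by
        rw [Ideal.map_le_iff_le_comap]
        intro c hc
        rw [Ideal.mem_comap, ArtFun.Art.mem_maximalIdeal_iff]
        rw [ArtFun.Art.mem_maximalIdeal_iff] at hc
        rw [← hc]; exact ArtFun.Art.res_app f c
      apply le_antisymm (sup_le hle (Ideal.pow_le_self two_ne_zero))
      intro a ha
      obtain ⟨b', hb'⟩ := hfs' (qA a)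
      obtain ⟨b, rfl⟩ := hqB b'
      rw [hqq] at hb'
      have hbm : b ∈ IsLocalRing.maximalIdeal B := by
        rw [ArtFun.Art.mem_maximalIdeal_iff, ← ArtFun.Art.res_app f, ← ArtFun.Art.res_app qA, hb',
          ArtFun.Art.res_app, ← ArtFun.Art.mem_maximalIdeal_iff]
        exact ha
      have h1 : a - f b ∈ Groth.Agent.Helper3.ArtFunLib.relIdeal A := by
        rw [← hkA, map_sub, hb', sub_self]
      have hker := Groth.Agent.Helper3.ArtFunLib.map_ker_le_map_maximalIdeal (Λ := Λ) (k := k)
        B.res B.res_surjective f.toAlgHom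
      have h4 : a - f b ∈ Ideal.map f.toAlgHom (IsLocalRing.maximalIdeal B) ⊔
          IsLocalRing.maximalIdeal A ^ 2 := sup_le_sup_right hker _ h1
      have h5 : f b ∈ Ideal.map f.toAlgHom (IsLocalRing.maximalIdeal B) ⊔
          IsLocalRing.maximalIdeal A ^ 2 :=
        le_sup_left (b := IsLocalRing.maximalIdeal A ^ 2) (Ideal.mem_map_of_mem _ hbm)
      have := Ideal.add_mem _ h5 h4
      rwa [add_sub_cancel] at this
    refine ⟨hf, ?_⟩
    intro C g hgf
    have hgq : Function.Surjective ((g ≫ qB) ≫ f') := by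
      rw [Category.assoc, hf', ← Category.assoc]
      exact hqA.comp hgf
    have hgqB : Function.Surjective (g ≫ qB) := hE' C (g ≫ qB) hgq
    apply Groth.Agent.Helper3.ArtFunLib.Art.surjective_of_map_sup_sq g
    have hgle : Ideal.map g.toAlgHom (IsLocalRing.maximalIdeal C) ≤ IsLocalRing.maximalIdeal B := by
      rw [Ideal.map_le_iff_le_comap]
      intro c hc
      rw [Ideal.mem_comap, ArtFun.Art.mem_maximalIdeal_iff]
      rw [ArtFun.Art.mem_maximalIdeal_iff] at hc
      rw [← hc]; exact ArtFun.Art.res_app g c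
    apply le_antisymm (sup_le hgle (Ideal.pow_le_self two_ne_zero))
    intro b hb
    obtain ⟨c, hc⟩ := hgqB (qB b)
    have hc' : qB (g c) = qB b := hc
    have hcm : c ∈ IsLocalRing.maximalIdeal C := by
      rw [ArtFun.Art.mem_maximalIdeal_iff, ← ArtFun.Art.res_app g, ← ArtFun.Art.res_app qB, hc',
        ArtFun.Art.res_app, ← ArtFun.Art.mem_maximalIdeal_iff]
      exact hb
    have h1 : b - g c ∈ Groth.Agent.Helper3.ArtFunLib.relIdeal B := by
      rw [← hkB, map_sub, hc', sub_self]
    have hker := Groth.Agent.Helper3.ArtFunLib.map_ker_le_map_maximalIdeal (Λ := Λ) (k := k)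
      C.res C.res_surjective g.toAlgHom
    have h4 : b - g c ∈ Ideal.map g.toAlgHom (IsLocalRing.maximalIdeal C) ⊔
        IsLocalRing.maximalIdeal B ^ 2 := sup_le_sup_right hker _ h1
    have h5 : g c ∈ Ideal.map g.toAlgHom (IsLocalRing.maximalIdeal C) ⊔
        IsLocalRing.maximalIdeal B ^ 2 :=
      le_sup_left (b := IsLocalRing.maximalIdeal B ^ 2) (Ideal.mem_map_of_mem _ hcm)
    have := Ideal.add_mem _ h5 h4
    rwa [add_sub_cancel] at this

end Groth.Agent.S12750
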