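import Groth.Statements.S12751
import Groth.Agent.Lib.Helper3.ArtFunF

set_option autoImplicit false
universe u v
open CategoryTheory
open scoped TensorProduct
open ArtFun ArtFun.Art

namespace Groth.Agent.S12751

/-- A morphism f : B → A in the category of Artinian local Λ-algebras with residue field k is surjective
if and only if Ω_{B/Λ} ⊗_B k → Ω_{A/Λ} ⊗_A k is surjective; by right exactness of the sequence
Ω_{B/Λ} ⊗_B A → Ω_{A/Λ} → Ω_{A/B} → 0 this surjectivity is the vanishing of Ω_{A/B} ⊗_A k, which is
how it is written here (A a B-algebra through f, k an A-module through the augmentation). -/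
theorem result {Λ : Type u} {k : Type u} [CommRing Λ] [Field k] [Algebra Λ k]
    [IsNoetherianRing Λ] [Module.Finite Λ k]
    {A B : ArtFun.Art Λ k} (f : B ⟶ A) :
    letI : Algebra B A := f.toAlgHom.toRingHom.toAlgebra
    letI : Algebra A k := A.res.toRingHom.toAlgebra
    Function.Surjective f ↔ Subsingleton (k ⊗[A] Ω[A⁄B]) := by
  let _ : Algebra B A := f.toAlgHom.toRingHom.toAlgebra
  let _ : Algebra A k := A.res.toRingHom.toAlgebra
  constructor
  · intro hf
    have : Subsingleton (Ω[A⁄B]) := KaehlerDifferential.subsingleton_of_surjective B A hf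
    infer_instance
  · intro hsub
    by_contra hns
    have hf' : (A.res : A →+* k).comp (f.toAlgHom : B →+* A) = (B.res : B →+* k) := by
      ext x
      exact ArtFun.Art.res_app f x
    have := Groth.Agent.Helper3.ArtFunLib.Art.isPrecomplete B
    have := Groth.Agent.Helper3.ArtFunLib.Art.isHausdorff A
    obtain ⟨δ, hadd, hleib, hδf, z, hz⟩ :=
      Groth.Agent.Helper3.ArtFunLib.ring_exists_deriv_of_not_surjective
        (B.res : B →+* k) (A.res : A →+* k) (f.toAlgHom : B →+* A) hf'
        B.res_surjective A.res_surjective hns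
    let _ : Algebra B k := ((algebraMap A k).comp (algebraMap B A)).toAlgebra
    have : IsScalarTower B A k := IsScalarTower.of_algebraMap_eq (fun _ => rfl)
    have hδf' : ∀ b : B, δ (f b) = 0 := fun b => hδf b
    let Dl : A →ₗ[B] k :=
      { toFun := δ
        map_add' := hadd
        map_smul' := fun b a => by
          have h1 : b • a = f b * a := rfl
          rw [h1, hleib, hδf', mul_zero, add_zero]
          rfl }
    let D : Derivation B A k := Derivation.mk' Dl (fun a b => by
      change δ (a * b) = a • δ b + b • δ a
      rw [hleib]; rfl)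
    let l : Ω[A⁄B] →ₗ[A] k := D.liftKaehlerDifferential
    let φ : TensorProduct A k (Ω[A⁄B]) →ₗ[A] k := (LinearMap.mul' A k).comp (l.lTensor k)
    have h1 : φ ((1 : k) ⊗ₜ[A] (KaehlerDifferential.D B A z)) = δ z := by
      change LinearMap.mul' A k (l.lTensor k ((1 : k) ⊗ₜ[A] (KaehlerDifferential.D B A z))) = δ z
      rw [LinearMap.lTensor_tmul, LinearMap.mul'_apply, one_mul]
      exact Derivation.liftKaehlerDifferential_comp_D D z
    have h2 : ((1 : k) ⊗ₜ[A] (KaehlerDifferential.D B A z) : TensorProduct A k (Ω[A⁄B])) = 0 :=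
      Subsingleton.elim _ _
    rw [h2, map_zero] at h1
    exact hz h1.symm

end Groth.Agent.S12751
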