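import Groth.Statements.S12752
import Groth.Agent.Lib.Helper3.ArtFunF
import Groth.Agent.S12751

set_option autoImplicit false
universe u v
open CategoryTheory
open scoped TensorProduct
open ArtFun ArtFun.Art

namespace Groth.Agent.S12752

/-- (a) ⇔ (c): a morphism f : B → A in the category of Artinian local Λ-algebras with residue field k is
an essential surjection (surjective, and any morphism g into B with g followed by f surjective is
surjective) if and only if the map Ω_{B/Λ} ⊗_B k → Ω_{A/Λ} ⊗_A k is an isomorphism of k-vector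
spaces. These spaces are finite-dimensional, so the isomorphism condition is written as: the map is
surjective (that is, Ω_{A/B} ⊗_A k = 0) and the two spaces have equal dimension. -/
theorem result {Λ : Type u} {k : Type u} [CommRing Λ] [Field k] [Algebra Λ k]
    [IsNoetherianRing Λ] [Module.Finite Λ k]
    {A B : ArtFun.Art Λ k} (f : B ⟶ A) :
    letI : Algebra B A := f.toAlgHom.toRingHom.toAlgebra
    letI : Algebra A k := A.res.toRingHom.toAlgebra
    letI : Algebra B k := B.res.toRingHom.toAlgebra
    (Function.Surjective f ∧ ∀ (C : ArtFun.Art Λ k) (g : C ⟶ B), Function.Surjective (g ≫ f) → Function.Surjective g) ↔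
      (Subsingleton (k ⊗[A] Ω[A⁄B]) ∧
        Module.finrank k (k ⊗[B] Ω[B⁄Λ]) = Module.finrank k (k ⊗[A] Ω[A⁄Λ])) := by
  let _ : Algebra B A := f.toAlgHom.toRingHom.toAlgebra
  let _ : Algebra A k := A.res.toRingHom.toAlgebra
  let _ : Algebra B k := B.res.toRingHom.toAlgebra
  have : IsScalarTower Λ A k := IsScalarTower.of_algebraMap_eq (fun l => (A.res.commutes l).symm)
  have : IsScalarTower Λ B k := IsScalarTower.of_algebraMap_eq (fun l => (B.res.commutes l).symm)
  have h51 := Groth.Agent.S12751.result f
  have : IsAdicComplete (IsLocalRing.maximalIdeal B) B :=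
    { toIsHausdorff := Groth.Agent.Helper3.ArtFunLib.Art.isHausdorff B
      toIsPrecomplete := Groth.Agent.Helper3.ArtFunLib.Art.isPrecomplete B }
  have hfinB : Module.Finite k (Derivation Λ B k) :=
    Groth.Agent.Helper3.ArtFunLib.finite_derivation B B.res_surjective
  have hc : ∀ s : B, algebraMap A k (f.toAlgHom s) = algebraMap B k s := fun s =>
    ArtFun.Art.res_app f s
  constructor
  · rintro ⟨hf, hE⟩
    refine ⟨h51.1 hf, ?_⟩
    rw [Groth.Agent.Helper3.ArtFunLib.finrank_kaehler_eq B,
      Groth.Agent.Helper3.ArtFunLib.finrank_kaehler_eq A,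
      Groth.Agent.Helper3.ArtFunLib.finrank_der_eq_iff f.toAlgHom hc hf]
    intro D s hs
    exact (Groth.Agent.Helper3.ArtFunLib.essential_iff_deriv f hf).1 hE D
      ⟨map_add D, fun x y => by rw [Derivation.leibniz]; rfl, D.map_algebraMap⟩ s hs
  · rintro ⟨hsub, hrank⟩
    have hf := h51.2 hsub
    refine ⟨hf, ?_⟩
    rw [Groth.Agent.Helper3.ArtFunLib.finrank_kaehler_eq B,
      Groth.Agent.Helper3.ArtFunLib.finrank_kaehler_eq A,
      Groth.Agent.Helper3.ArtFunLib.finrank_der_eq_iff f.toAlgHom hc hf] at hrank
    rw [Groth.Agent.Helper3.ArtFunLib.essential_iff_deriv f hf]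
    intro δ hδ x hx
    let Dl : B →ₗ[Λ] k :=
      { toFun := δ
        map_add' := hδ.add
        map_smul' := fun l y => by
          rw [Algebra.smul_def, hδ.leib, hδ.alg, mul_zero, add_zero, RingHom.id_apply,
            AlgHom.commutes, Algebra.smul_def] }
    let D : Derivation Λ B k := Derivation.mk' Dl (fun a b => by
      change δ (a * b) = a • δ b + b • δ a
      rw [hδ.leib]; rfl)
    exact hrank D x hx

end Groth.Agent.S12752
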