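import Groth.Statements.S12753
import Groth.Agent.Lib.Helper3.ArtFunG

set_option autoImplicit false
universe u v
open CategoryTheory
open ArtFun ArtFun.Art

namespace Groth.Agent.S12753

/-- Suppose k is separable over the image of Λ → k. A morphism f : B → A in the category of Artinian
local Λ-algebras with residue field k is an essential surjection (surjective, and any morphism g
into B with g followed by f surjective is surjective) if and only if the map of cotangent spaces
relative to Λ, m_B/(m_Λ B + m_B²) → m_A/(m_Λ A + m_A²), is an isomorphism; surjectivity and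
injectivity are written out in terms of ideals, m_Λ being the kernel of Λ → k. -/
theorem result {Λ : Type u} {k : Type u} [CommRing Λ] [Field k] [Algebra Λ k]
    [IsNoetherianRing Λ] [Module.Finite Λ k]
    [Algebra.IsSeparable (↥(algebraMap Λ k).range) k]
    {A B : ArtFun.Art Λ k} (f : B ⟶ A) :
    (Function.Surjective f ∧ ∀ (C : ArtFun.Art Λ k) (g : C ⟶ B), Function.Surjective (g ≫ f) → Function.Surjective g) ↔
      (Ideal.map (algebraMap Λ A) (RingHom.ker (algebraMap Λ k)) ⊔ Ideal.map f.toAlgHom (IsLocalRing.maximalIdeal B) ⊔ IsLocalRing.maximalIdeal A ^ 2 =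
          IsLocalRing.maximalIdeal A ∧
        ∀ b ∈ IsLocalRing.maximalIdeal B, f b ∈ Ideal.map (algebraMap Λ A) (RingHom.ker (algebraMap Λ k)) ⊔ IsLocalRing.maximalIdeal A ^ 2 →
          b ∈ Ideal.map (algebraMap Λ B) (RingHom.ker (algebraMap Λ k)) ⊔ IsLocalRing.maximalIdeal B ^ 2) := by
  have hsupA := Groth.Agent.Helper3.ArtFunLib.sup_map_ker_eq (Λ := Λ) (k := k) B.res B.res_surjective
    f.toAlgHom (IsLocalRing.maximalIdeal A ^ 2)
  constructor
  · rintro ⟨hf, hE⟩
    refine ⟨?_, ?_⟩
    · rw [hsupA, Groth.Agent.Helper3.ArtFunLib.Art.map_maximalIdeal_eq_of_surjective f hf]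
      exact sup_eq_left.2 (Ideal.pow_le_self two_ne_zero)
    · intro b hb hfb
      exact Groth.Agent.Helper3.ArtFunLib.relCotangent_injective_of_essential f hf
        ((Groth.Agent.Helper3.ArtFunLib.essential_iff_deriv f hf).1 hE) b hb hfb
  · rintro ⟨h1, h2⟩
    rw [hsupA] at h1
    have hf : Function.Surjective f := Groth.Agent.Helper3.ArtFunLib.Art.surjective_of_map_sup_sq f h1
    refine ⟨hf, ?_⟩
    intro C g hgf
    apply Groth.Agent.Helper3.ArtFunLib.Art.surjective_of_map_sup_sq g
    have hgle : Ideal.map g.toAlgHom (IsLocalRing.maximalIdeal C) ≤ IsLocalRing.maximalIdeal B := by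
      rw [Ideal.map_le_iff_le_comap]
      intro c hc
      rw [Ideal.mem_comap, ArtFun.Art.mem_maximalIdeal_iff]
      rw [ArtFun.Art.mem_maximalIdeal_iff] at hc
      rw [← hc]; exact ArtFun.Art.res_app g c
    apply le_antisymm (sup_le hgle (Ideal.pow_le_self two_ne_zero))
    intro b hb
    have hfb : f b ∈ IsLocalRing.maximalIdeal A := by
      rw [ArtFun.Art.mem_maximalIdeal_iff, ArtFun.Art.res_app, ← ArtFun.Art.mem_maximalIdeal_iff]
      exact hb
    rw [← Groth.Agent.Helper3.ArtFunLib.Art.map_maximalIdeal_eq_of_surjective (g ≫ f) hgf] at hfb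
    have hmm : Ideal.map (g ≫ f).toAlgHom (IsLocalRing.maximalIdeal C) =
        Ideal.map f.toAlgHom (Ideal.map g.toAlgHom (IsLocalRing.maximalIdeal C)) := by
      change Ideal.map ((f.toAlgHom : B →+* A).comp (g.toAlgHom : C →+* B)) _ =
        Ideal.map (f.toAlgHom : B →+* A) (Ideal.map (g.toAlgHom : C →+* B) _)
      rw [Ideal.map_map]
    rw [hmm] at hfb
    obtain ⟨b', hb', hfb'⟩ := (Ideal.mem_map_iff_of_surjective f.toAlgHom hf).1 hfb
    have hsub : b - b' ∈ IsLocalRing.maximalIdeal B :=
      (IsLocalRing.maximalIdeal B).sub_mem hb (hgle hb')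
    have h0 : f (b - b') = 0 := by rw [map_sub, sub_eq_zero]; exact hfb'.symm
    have h3 := h2 (b - b') hsub (by rw [h0]; exact Ideal.zero_mem _)
    have hker := Groth.Agent.Helper3.ArtFunLib.map_ker_le_map_maximalIdeal (Λ := Λ) (k := k)
      C.res C.res_surjective g.toAlgHom
    have h4 : b - b' ∈ Ideal.map g.toAlgHom (IsLocalRing.maximalIdeal C) ⊔
        IsLocalRing.maximalIdeal B ^ 2 := sup_le_sup_right hker _ h3
    have h5 : b' ∈ Ideal.map g.toAlgHom (IsLocalRing.maximalIdeal C) ⊔
        IsLocalRing.maximalIdeal B ^ 2 := le_sup_left (b := IsLocalRing.maximalIdeal B ^ 2) hb'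
    have := Ideal.add_mem _ h5 h4
    rwa [add_sub_cancel] at this

end Groth.Agent.S12753
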