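import Groth.Statements.S12754
import Mathlib

set_option autoImplicit false
universe u
open CategoryTheory
open ArtFun

namespace Groth.Agent.S12754

section
open CategoryTheory
variable (K : Type u) [Field K] (L : FGModuleCat.{u} K ⥤ ModuleCat.{u} K) [L.Additive] [Functor.Linear K L]

/-- the morphism `K → V` sending `1` to `v` -/
noncomputable def fv (V : FGModuleCat.{u} K) (v : V) : FGModuleCat.of K K ⟶ V :=
  ConcreteCategory.ofHom (C := FGModuleCat.{u} K) (LinearMap.toSpanSingleton K V v)

theorem fv_add (V : FGModuleCat.{u} K) (v w : V) : fv K V (v + w) = fv K V v + fv K V w := by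
  apply FGModuleCat.hom_ext
  apply LinearMap.ext
  intro c
  show c • (v + w) = c • v + c • w
  rw [smul_add]

theorem fv_smul (V : FGModuleCat.{u} K) (a : K) (v : V) : fv K V (a • v) = a • fv K V v := by
  apply FGModuleCat.hom_ext
  apply LinearMap.ext
  intro c
  show c • (a • v) = a • (c • v)
  rw [smul_comm]

theorem fv_comp (V W : FGModuleCat.{u} K) (g : V ⟶ W) (v : V) :
    fv K V v ≫ g = fv K W (g.hom.hom v) := by
  apply FGModuleCat.hom_ext
  apply LinearMap.ext
  intro c
  show g.hom.hom (c • v) = c • g.hom.hom v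
  rw [map_smul]

/-- the comparison map -/
noncomputable def Phi (V : FGModuleCat.{u} K) :
    TensorProduct K (L.obj (FGModuleCat.of K K)) V →ₗ[K] L.obj V :=
  TensorProduct.lift (LinearMap.mk₂ K (fun x v => (L.map (fv K V v)).hom x)
    (fun x y v => by rw [map_add])
    (fun c x v => by rw [map_smul])
    (fun x v w => by rw [fv_add, Functor.map_add]; rfl)
    (fun c x v => by rw [fv_smul, Functor.map_smul]; rfl))

theorem Phi_tmul (V : FGModuleCat.{u} K) (x : L.obj (FGModuleCat.of K K)) (v : V) :
    Phi K L V (x ⊗ₜ v) = (L.map (fv K V v)).hom x := rfl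


theorem sum_hom_apply {V W : FGModuleCat.{u} K} {ι : Type} (s : Finset ι) (f : ι → (V ⟶ W)) (v : V) :
    (∑ i ∈ s, f i).hom.hom v = ∑ i ∈ s, (f i).hom.hom v := by
  classical
  induction s using Finset.induction_on with
  | empty => simp
  | insert a s ha ih =>
    rw [Finset.sum_insert ha, Finset.sum_insert ha, ← ih]
    rfl

/-- coordinate morphisms -/
noncomputable def pi (V : FGModuleCat.{u} K) (i : Fin (Module.finrank K V)) :
    V ⟶ FGModuleCat.of K K :=
  ConcreteCategory.ofHom (C := FGModuleCat.{u} K) ((Module.finBasis K V).coord i)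

theorem sum_pi_fv (V : FGModuleCat.{u} K) :
    ∑ i, (pi K V i ≫ fv K V ((Module.finBasis K V) i)) = 𝟙 V := by
  apply FGModuleCat.hom_ext
  apply LinearMap.ext
  intro v
  rw [sum_hom_apply]
  show ∑ i, ((Module.finBasis K V).coord i v) • (Module.finBasis K V) i = v
  simp only [Module.Basis.coord_apply]
  exact (Module.finBasis K V).sum_repr v

theorem fv_pi (V : FGModuleCat.{u} K) (v : V) (i : Fin (Module.finrank K V)) :
    fv K V v ≫ pi K V i = ((Module.finBasis K V).coord i v) • 𝟙 (FGModuleCat.of K K) := by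
  apply FGModuleCat.hom_ext
  apply LinearMap.ext
  intro c
  show (Module.finBasis K V).coord i (c • v) = ((Module.finBasis K V).coord i v) • c
  rw [map_smul, smul_eq_mul, smul_eq_mul, mul_comm]

/-- the inverse comparison map -/
noncomputable def Psi (V : FGModuleCat.{u} K) :
    L.obj V →ₗ[K] TensorProduct K (L.obj (FGModuleCat.of K K)) V :=
  ∑ i, ((TensorProduct.mk K (L.obj (FGModuleCat.of K K)) V).flip ((Module.finBasis K V) i)) ∘ₗ
    (L.map (pi K V i)).hom

theorem Psi_apply (V : FGModuleCat.{u} K) (y : L.obj V) :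
    Psi K L V y = ∑ i, ((L.map (pi K V i)).hom y) ⊗ₜ[K] ((Module.finBasis K V) i) := by
  simp [Psi]

theorem Phi_Psi (V : FGModuleCat.{u} K) (y : L.obj V) : Phi K L V (Psi K L V y) = y := by
  rw [Psi_apply, map_sum]
  simp only [Phi_tmul]
  have h1 : ∀ i, (L.map (fv K V ((Module.finBasis K V) i))).hom ((L.map (pi K V i)).hom y)
      = (L.map (pi K V i ≫ fv K V ((Module.finBasis K V) i))).hom y := by
    intro i
    rw [Functor.map_comp]
    rfl
  simp only [h1]
  have h2 : ∑ i, (L.map (pi K V i ≫ fv K V ((Module.finBasis K V) i))).hom y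
      = (L.map (∑ i, (pi K V i ≫ fv K V ((Module.finBasis K V) i)))).hom y := by
    rw [Functor.map_sum, ModuleCat.hom_sum, LinearMap.sum_apply]
  rw [h2, sum_pi_fv, CategoryTheory.Functor.map_id]
  rfl


theorem Psi_Phi (V : FGModuleCat.{u} K) (t : TensorProduct K (L.obj (FGModuleCat.of K K)) V) :
    Psi K L V (Phi K L V t) = t := by
  induction t using TensorProduct.induction_on with
  | zero => simp
  | tmul x v =>
    rw [Phi_tmul, Psi_apply]
    have h1 : ∀ i, (L.map (pi K V i)).hom ((L.map (fv K V v)).hom x)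
        = ((Module.finBasis K V).coord i v) • x := by
      intro i
      have : (L.map (pi K V i)).hom ((L.map (fv K V v)).hom x)
          = (L.map (fv K V v ≫ pi K V i)).hom x := by
        rw [Functor.map_comp]; rfl
      rw [this, fv_pi, Functor.map_smul, CategoryTheory.Functor.map_id]
      rfl
    simp only [h1]
    simp only [TensorProduct.smul_tmul, ← TensorProduct.tmul_sum]
    congr 1
    simp only [Module.Basis.coord_apply]
    exact (Module.finBasis K V).sum_repr v
  | add t1 t2 h1 h2 => rw [map_add, map_add, h1, h2]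

/-- the equivalence -/
noncomputable def equivV (V : FGModuleCat.{u} K) :
    TensorProduct K (L.obj (FGModuleCat.of K K)) V ≃ₗ[K] L.obj V :=
  LinearEquiv.ofLinearMap (Phi K L V) (Psi K L V)
    (LinearMap.ext (Phi_Psi K L V)) (LinearMap.ext (Psi_Phi K L V))

theorem main (K : Type u) [Field K]
    (L : FGModuleCat.{u} K ⥤ ModuleCat.{u} K) [L.Additive] [Functor.Linear K L] :
    Nonempty (L ≅ (ModuleCat.isFG.{u} K).ι ⋙ MonoidalCategory.tensorLeft (L.obj (FGModuleCat.of K K))) := by
  refine ⟨(NatIso.ofComponents (fun V => (equivV K L V).toModuleIso) ?_).symm⟩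
  intro V W g
  apply ModuleCat.hom_ext
  apply TensorProduct.ext'
  intro x v
  show Phi K L W (x ⊗ₜ[K] (g.hom.hom v)) = (L.map g).hom (Phi K L V (x ⊗ₜ[K] v))
  rw [Phi_tmul, Phi_tmul, ← fv_comp, Functor.map_comp]
  rfl


end


/-- A K-linear functor L from finite-dimensional K-vector spaces to K-vector spaces (K a field) is
isomorphic to the functor V ↦ L(K) ⊗_K V. (Existence of an isomorphism of functors, which is how the
published statement reads; the natural choice sends x ⊗ v to L(f_v)(x) with f_v : K → V, 1 ↦ v.) -/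
theorem result (K : Type u) [Field K]
    (L : FGModuleCat.{u} K ⥤ ModuleCat.{u} K) [L.Additive] [Functor.Linear K L] :
    Nonempty (L ≅ (ModuleCat.isFG.{u} K).ι ⋙ MonoidalCategory.tensorLeft (L.obj (FGModuleCat.of K K))) := by
  classical
  exact main K L

end Groth.Agent.S12754
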