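import Groth.Statements.S12762
import Groth.Agent.Lib.Helper2.AlgSt.FaithfulCrit


set_option autoImplicit false
open CategoryTheory AlgebraicGeometry
universe u
open AlgSt

namespace Groth.Agent.S12762

/-- (2) ⇔ (3): a 1-morphism `f : 𝒳 ⟶ 𝒴` of algebraic stacks over `S` is faithful (equivalently, faithful
on every fibre category) if and only if it is representable by algebraic spaces. -/
theorem result {S : Scheme.{u}} {𝒳 𝒴 : AlgSt.Cat S}
    (h𝒳 : AlgSt.IsAlgStack Scheme.fppfPrecoverage 𝒳) (h𝒴 : AlgSt.IsAlgStack Scheme.fppfPrecoverage 𝒴) (f : 𝒳 ⥤ᵇ 𝒴) :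
    f.toFunctor.Faithful ↔ AlgSt.RepByAlgSp1 f := by
  exact (Groth.Agent.Helper2.AlgStLib.FaithfulCrit.repByAlgSp1_iff_faithful h𝒳 h𝒴 f).symm

end Groth.Agent.S12762
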