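import Groth.Statements.S12764
import Mathlib
import Groth.Agent.Lib.Helper2.AlgSt.FpAlg

set_option autoImplicit false
open CategoryTheory AlgebraicGeometry
universe u
open AlgSt

namespace Groth.Agent.S12764

/-- For algebraic stacks `𝒳`, `𝒴` over `S`, the product `𝒳 ×_{(Sch/S)} 𝒴` (the 2-fibre product of the
two structure functors over the base category) is an algebraic stack over `S`. -/
theorem result {S : Scheme.{u}} {𝒳 𝒴 : AlgSt.Cat S}
    (h𝒳 : AlgSt.IsAlgStack Scheme.fppfPrecoverage 𝒳) (h𝒴 : AlgSt.IsAlgStack Scheme.fppfPrecoverage 𝒴) :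
    AlgSt.IsAlgStack Scheme.fppfPrecoverage (FibCat.fp (FibCat.toSelf 𝒳) (FibCat.toSelf 𝒴)) := by
  refine ⟨Groth.Agent.S12792.result _ _ _ h𝒳.isStack h𝒴.isStack
    (Groth.Agent.Helper2.AlgStLib.isPrestack_selfOver _), ?_, ?_⟩
  · exact Groth.Agent.Helper2.AlgStLib.repByAlgSp1_diag_fp h𝒳.isStack.1 h𝒴.isStack.1
      Groth.Agent.Helper2.FibCatLib.DiagRepBack.isFibGrpd_selfOver _ _ h𝒳.diag h𝒴.diag
      Groth.Agent.Helper2.AlgStLib.repByAlgSp1_diag_toSelf_selfOver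
  · exact Groth.Agent.Helper2.AlgStLib.hasAtlas_smooth_fp h𝒳.isStack.1 h𝒴.isStack.1
      Groth.Agent.Helper2.FibCatLib.DiagRepBack.isFibGrpd_selfOver
      Groth.Agent.Helper2.AlgStLib.repByAlgSp1_diag_toSelf_selfOver _ _ h𝒳.atlas h𝒴.atlas

end Groth.Agent.S12764
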