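import Groth.Statements.S12767
import Mathlib
import Groth.Agent.Lib.Helper2.AlgSt.Space
import Groth.Agent.Lib.Helper2.AlgSt.Setoid
import Groth.Agent.Lib.Helper2.Stk.RepStack

set_option autoImplicit false
open CategoryTheory AlgebraicGeometry
universe u
open AlgSt

namespace Groth.Agent.S12767

/-- Take categories `𝒳` and `𝒴` fibred in groupoids over `(Sch/S)` and a 1-morphism `j : 𝒳 ⟶ 𝒴` between
them which is representable by algebraic spaces. If `𝒴` is a stack in groupoids (fppf topology),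
then so is `𝒳`. -/
theorem result {S : Scheme.{u}} {𝒳 𝒴 : AlgSt.Cat S}
    (h𝒳 : FibCat.IsFibGrpd 𝒳.p) (h𝒴 : Stk.IsStack (QuotSh.J Scheme.fppfPrecoverage S) 𝒴)
    (j : 𝒳 ⥤ᵇ 𝒴) (hj : AlgSt.RepByAlgSp1 j) :
    Stk.IsStack (QuotSh.J Scheme.fppfPrecoverage S) 𝒳 := by
  have hfaith : j.toFunctor.Faithful :=
    Groth.Agent.Helper2.AlgStLib.faithful_of_repByAlgSp1 h𝒳 h𝒴.1 j hj
  refine ⟨h𝒳, fun U R hR => ?_⟩
  apply Groth.Agent.Helper2.StkLib.restr_isEquivalence_of_fibres (Stk.sieveIncl R) j h𝒳 h𝒴.1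
    (h𝒴.2 R hR)
  intro y
  obtain ⟨F, e, he⟩ := hj U y
  have hst : Stk.IsStack (QuotSh.J Scheme.fppfPrecoverage S) (FibCat.fp y j) :=
    (Groth.Agent.Helper2.StkLib.isStack_iff_of_isEquivOver _ e he).1
      (Groth.Agent.Helper2.AlgStLib.isStack_ofSp F.obj)
  exact hst.2 R hR

end Groth.Agent.S12767
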