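import Groth.Statements.S12768
import Mathlib
import Groth.Agent.Lib.Helper2.AlgSt.Atlas
import Groth.Agent.S12765
import Groth.Agent.S12767

set_option autoImplicit false
open CategoryTheory AlgebraicGeometry
universe u
open AlgSt

namespace Groth.Agent.S12768

/-- Take categories `𝒳` and `𝒴` fibred in groupoids over `(Sch/S)` and a 1-morphism `j : 𝒳 ⟶ 𝒴` between
them which is representable by algebraic spaces. If `𝒴` is an algebraic stack over `S`, then so is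
`𝒳`. -/
theorem result {S : Scheme.{u}} {𝒳 𝒴 : AlgSt.Cat S}
    (h𝒳 : FibCat.IsFibGrpd 𝒳.p) (h𝒴 : AlgSt.IsAlgStack Scheme.fppfPrecoverage 𝒴)
    (j : 𝒳 ⥤ᵇ 𝒴) (hj : AlgSt.RepByAlgSp1 j) :
    AlgSt.IsAlgStack Scheme.fppfPrecoverage 𝒳 := by
  have hf𝒴 : FibCat.IsFibGrpd 𝒴.p := h𝒴.isStack.1
  refine ⟨Groth.Agent.S12767.result h𝒳 h𝒴.isStack j hj, ?_, ?_⟩
  · rw [Groth.Agent.S12765.result h𝒳]
    intro U x
    have h1 := (Groth.Agent.S12765.result hf𝒴).1 h𝒴.diag U (BasedFunctor.comp x j)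
    exact Groth.Agent.Helper2.AlgStLib.repByAlgSp1_of_comp_of_repByAlgSp1 h𝒳 hf𝒴 j hj x h1
  · exact Groth.Agent.Helper2.AlgStLib.hasAtlas_smooth_of_repByAlgSp1 h𝒳 hf𝒴 j hj h𝒴.atlas

end Groth.Agent.S12768
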