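import Groth.Statements.S12773
import Mathlib
import Groth.Agent.Lib.Helper2.AlgSt.Atlas
import Groth.Agent.Lib.Helper2.FibCat.OverFun
import Groth.Agent.Lib.Helper2.EquivOver

set_option autoImplicit false
open CategoryTheory AlgebraicGeometry
universe u
open AlgSt

namespace Groth.Agent.S12773

/-- Let `f : 𝒳 ⟶ 𝒴` be a 1-morphism of algebraic stacks over `S`, `V` a scheme over `S` and `y : (Sch/V)
⟶ 𝒴` surjective and smooth. Then there are a scheme `U` over `S`, a morphism `a : U ⟶ V` and a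
surjective smooth `x : (Sch/U) ⟶ 𝒳` such that the square 2-commutes: `f ∘ x ≅ y ∘ a`. -/
theorem result {S : Scheme.{u}} {𝒳 𝒴 : AlgSt.Cat S}
    (h𝒳 : AlgSt.IsAlgStack Scheme.fppfPrecoverage 𝒳) (h𝒴 : AlgSt.IsAlgStack Scheme.fppfPrecoverage 𝒴)
    (f : 𝒳 ⥤ᵇ 𝒴) (V : Over S) (y : FibCat.overCat V ⥤ᵇ 𝒴)
    (hy : AlgSt.RepByAlgSpWith (AlgSp.LocP @Smooth) y) (hy' : AlgSt.RepByAlgSpWith AlgSp.IsSurjectiveMor y) :
    ∃ (U : Over S) (a : U ⟶ V) (x : FibCat.overCat U ⥤ᵇ 𝒳),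
      AlgSt.RepByAlgSpWith (AlgSp.LocP @Smooth) x ∧ AlgSt.RepByAlgSpWith AlgSp.IsSurjectiveMor x ∧
        Nonempty (BasedFunctor.comp x f ≅ BasedFunctor.comp (AlgSt.overMap a) y) := by
  have hf𝒳 : FibCat.IsFibGrpd 𝒳.p := h𝒳.isStack.1
  obtain ⟨W, w, hw1, hw2⟩ := h𝒳.atlas
  let wf : FibCat.overCat W ⥤ᵇ 𝒴 := BasedFunctor.comp w f
  obtain ⟨F, eF, heF, -⟩ := hy W wf
  let pr₁ : FibCat.fp wf y ⥤ᵇ FibCat.overCat W := FibCat.fpFst wf y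
  have hpr1 : AlgSt.RepByAlgSpWith (AlgSp.LocP @Smooth) pr₁ :=
    Groth.Agent.Helper2.AlgStLib.repByAlgSpWith_fpFst _ y wf hy
  have hpr2 : AlgSt.RepByAlgSpWith AlgSp.IsSurjectiveMor pr₁ :=
    Groth.Agent.Helper2.AlgStLib.repByAlgSpWith_fpFst _ y wf hy'
  let g₁ : AlgSt.ofSp F.obj ⥤ᵇ FibCat.overCat W := BasedFunctor.comp eF pr₁
  have hg₁ : ∀ P : MorphismProperty (AlgSp.Sp S), AlgSt.RepByAlgSpWith P pr₁ →
      AlgSt.RepByAlgSpWith P g₁ := fun P h =>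
    (Groth.Agent.Helper2.AlgStLib.repByAlgSpWith_of_square P pr₁ g₁ eF
      (BasedFunctor.id (FibCat.overCat W)) heF
      Groth.Agent.Helper2.FibCatLib.ReprInv.isEquivOver_id (Iso.refl _)).1 h
  obtain ⟨U, x₀, hx1, hx2⟩ := (Groth.Agent.Helper2.AlgStLib.hasAtlas_ofSp F).2
  have h1 := Groth.Agent.Helper2.AlgStLib.smooth_surjective_comp
    (Groth.Agent.Helper2.FibCatLib.isFibGrpd_overCat U) (Stk.isFibGrpd_ofPsh F.obj.obj) x₀ g₁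
    ⟨hx1, hx2⟩ ⟨hg₁ _ hpr1, hg₁ _ hpr2⟩
  have h2 := Groth.Agent.Helper2.AlgStLib.smooth_surjective_comp
    (Groth.Agent.Helper2.FibCatLib.isFibGrpd_overCat U)
    (Groth.Agent.Helper2.FibCatLib.isFibGrpd_overCat W) (BasedFunctor.comp x₀ g₁) w h1
    ⟨hw1, hw2⟩
  let Φ : FibCat.overCat U ⥤ᵇ FibCat.overCat V :=
    BasedFunctor.comp (BasedFunctor.comp x₀ eF) (FibCat.fpSnd wf y)
  obtain ⟨θ⟩ := Groth.Agent.Helper2.FibCatLib.OverFun.nonempty_iso_overMapBased Φ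
  refine ⟨U, Groth.Agent.Helper2.FibCatLib.OverFun.classify Φ,
    BasedFunctor.comp (BasedFunctor.comp x₀ g₁) w, h2.1, h2.2, ⟨?_⟩⟩
  exact Groth.Agent.Helper2.whiskerLeftIso (BasedFunctor.comp x₀ eF) (FibCat.fpIso wf y) ≪≫
    (Groth.Agent.Helper2.postF _ y).mapIso θ

end Groth.Agent.S12773
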