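import Groth.Statements.S12797
import Mathlib
import Groth.Agent.Lib.Helper2.Stk.OfPshSheaf
import Groth.Agent.Lib.Helper2.Stk.OverYoneda

set_option autoImplicit false
open CategoryTheory
universe w v u
open Stk

namespace Groth.Agent.S12797

/-- For an object `U` of `C`, the slice category `C/U` with its forgetful functor to `C` is a stack in
groupoids for the topology `J` if and only if the representable presheaf `h_U` is a sheaf for `J`. -/
theorem result {C : Type u} [Category.{v} C] (J : GrothendieckTopology C) (U : C) :
    Stk.IsStack J (FibCat.overCat U) ↔ Presieve.IsSheaf J (yoneda.obj U) := by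
  rw [Groth.Agent.Helper2.StkLib.isStack_iff_of_isEquivOver J
    (Groth.Agent.Helper2.StkLib.overToYoneda U)
    (Groth.Agent.Helper2.StkLib.overToYoneda_isEquivOver U)]
  constructor
  · intro h V R hR
    exact (Groth.Agent.Helper2.StkLib.isStackFor_ofPsh_iff (yoneda.obj U) R).1 (h.2 R hR)
  · intro h
    refine ⟨Stk.isFibGrpd_ofPsh (yoneda.obj U), ?_⟩
    intro V R hR
    exact (Groth.Agent.Helper2.StkLib.isStackFor_ofPsh_iff (yoneda.obj U) R).2 (h R hR)

end Groth.Agent.S12797
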