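import Groth.Statements.S12798
import Mathlib
import Groth.Agent.Lib.Helper2.Stk.LocAut

set_option autoImplicit false
open CategoryTheory
universe w v u
open Stk

namespace Groth.Agent.S12798

/-- Let `𝒮₁`, `𝒮₂`, `𝒯₁` be stacks in groupoids over `C` for the topology `J`, and `F : 𝒮₂ ⟶ 𝒮₁`, `G :
𝒯₁ ⟶ 𝒮₁` functors over `C` such that every object of `𝒮₁` is locally in the essential image of `F`.
If the first projection `𝒮₂ ×_{𝒮₁} 𝒯₁ ⟶ 𝒮₂` of the 2-fibre product over `C` is faithful, then `G` is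
faithful. (The published statement is for any 2-cartesian square of stacks in groupoids; this row is
the case of the explicit 2-fibre product, to which the general case reduces because faithfulness is
invariant under equivalence.) -/
theorem result {C : Type u} [Category.{v} C] (J : GrothendieckTopology C) {𝒮₁ 𝒮₂ 𝒯₁ : BasedCategory.{v, max u v} C}
    (h₁ : Stk.IsStack J 𝒮₁) (h₂ : Stk.IsStack J 𝒮₂) (h₃ : Stk.IsStack J 𝒯₁) (F : 𝒮₂ ⥤ᵇ 𝒮₁) (G : 𝒯₁ ⥤ᵇ 𝒮₁)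
    (hF : ∀ y : 𝒮₁.obj, ∃ R ∈ J (𝒮₁.p.obj y), ∀ ⦃V : C⦄ (f : V ⟶ 𝒮₁.p.obj y), R f →
      ∃ (x : 𝒮₂.obj) (φ : F.obj x ⟶ y), 𝒮₁.p.IsHomLift f φ)
    (hG' : (FibCat.fpFst F G).toFunctor.Faithful) : G.toFunctor.Faithful := by
  apply Groth.Agent.Helper2.StkLib.faithful_of_fiber h₃.1 h₁.1 G
  intro U a b m m' hm hm' hmm
  have ha : 𝒯₁.p.obj a = U := IsHomLift.domain_eq 𝒯₁.p (𝟙 U) m
  have e : 𝒮₁.p.obj (G.obj a) = U := (G.w_obj a).trans ha
  subst e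
  obtain ⟨R, hR, hRloc⟩ := hF (G.obj a)
  have hfaith := (h₃.2 R hR).faithful
  apply Groth.Agent.Helper2.StkLib.eq_of_locally_eq R h₃.1 hfaith m m' hm hm'
  intro V f hf
  obtain ⟨x, φ, hφ⟩ := hRloc f hf
  obtain ⟨Z, ψ, hψ, hZ⟩ := Groth.Agent.Helper2.StkLib.exists_fpObj_of_lift F G h₃.1 h₁.1 f a ha x φ hφ
  refine ⟨Z.obj.snd, ψ, hψ, ?_⟩
  obtain ⟨n, hn1, hn2⟩ := Groth.Agent.Helper2.StkLib.exists_aut_of_pair h₃.1 f ψ hψ m m' hm hm'
  have hGn : G.map n = 𝟙 _ := by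
    have k1 : 𝒮₁.p.IsHomLift (𝟙 V) (G.map n) := BasedFunctor.preserves_isHomLift G _ _
    have k2 : 𝒮₁.p.IsHomLift (𝟙 V) (𝟙 (G.obj Z.obj.snd)) := by
      have : 𝒮₁.p.obj (G.obj Z.obj.snd) = V :=
        IsHomLift.domain_eq 𝒮₁.p (𝟙 V) (G.map n)
      subst this
      infer_instance
    apply Groth.Agent.Helper2.IsFibGrpd.ext_of_comp 𝒮₁.p h₁.1 (𝟙 V) (G.map (ψ ≫ m'))
    rw [← CategoryTheory.Functor.map_comp, hn2, Category.id_comp,
      CategoryTheory.Functor.map_comp, CategoryTheory.Functor.map_comp, hmm]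
  let E₁ : Z ⟶ Z := Groth.Agent.Helper2.StkLib.fpMkHom F G (𝟙 _) n (by
    rw [CategoryTheory.Functor.map_id, Category.id_comp, hGn, Category.comp_id])
  have hE : (FibCat.fpFst F G).toFunctor.map E₁ = (FibCat.fpFst F G).toFunctor.map (𝟙 Z) := rfl
  have hE1 : E₁ = 𝟙 Z := hG'.map_injective hE
  have hn : n = 𝟙 _ := congrArg (fun e : Z ⟶ Z => e.hom.snd) hE1
  rw [← hn2, hn, Category.id_comp]

end Groth.Agent.S12798
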