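import Groth.Statements.S12799
import Mathlib
import Groth.Agent.Lib.Helper2.Stk.LocAut

set_option autoImplicit false
open CategoryTheory
universe w v u
open Stk

namespace Groth.Agent.S12799

/-- Let `𝒮₁`, `𝒮₂`, `𝒯₁` be stacks in groupoids over `C` for the topology `J`, `F : 𝒮₂ ⟶ 𝒮₁` a functor
over `C` whose underlying functor is fully faithful and such that every object of `𝒮₁` is locally in
the essential image of `F`, and `G : 𝒯₁ ⟶ 𝒮₁` a functor over `C`. If the 2-fibre product `𝒮₂ ×_{𝒮₁}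
𝒯₁` over `C` is fibred in setoids, then `𝒯₁` is fibred in setoids, hence a stack in setoids. (The
published statement is for any 2-cartesian square of stacks in groupoids; this row is the case of
the explicit 2-fibre product, to which the general case reduces because being fibred in setoids is
invariant under equivalence over `C`.) -/
theorem result {C : Type u} [Category.{v} C] (J : GrothendieckTopology C) {𝒮₁ 𝒮₂ 𝒯₁ : BasedCategory.{v, max u v} C}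
    (h₁ : Stk.IsStack J 𝒮₁) (h₂ : Stk.IsStack J 𝒮₂) (h₃ : Stk.IsStack J 𝒯₁) (F : 𝒮₂ ⥤ᵇ 𝒮₁) [F.toFunctor.Full] [F.toFunctor.Faithful]
    (hF : ∀ y : 𝒮₁.obj, ∃ R ∈ J (𝒮₁.p.obj y), ∀ ⦃V : C⦄ (f : V ⟶ 𝒮₁.p.obj y), R f →
      ∃ (x : 𝒮₂.obj) (φ : F.obj x ⟶ y), 𝒮₁.p.IsHomLift f φ)
    (G : 𝒯₁ ⥤ᵇ 𝒮₁) (h : FibCat.IsFibSetoid (FibCat.fp F G).p) : FibCat.IsFibSetoid 𝒯₁.p := by
  have key : ∀ (U : C) (a b : 𝒯₁.obj) (m m' : a ⟶ b), 𝒯₁.p.IsHomLift (𝟙 U) m →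
      𝒯₁.p.IsHomLift (𝟙 U) m' → m = m' := by
    intro U a b m m' hm hm'
    have ha : 𝒯₁.p.obj a = U := IsHomLift.domain_eq 𝒯₁.p (𝟙 U) m
    have e : 𝒮₁.p.obj (G.obj a) = U := (G.w_obj a).trans ha
    subst e
    obtain ⟨R, hR, hRloc⟩ := hF (G.obj a)
    have hfaith := (h₃.2 R hR).faithful
    apply Groth.Agent.Helper2.StkLib.eq_of_locally_eq R h₃.1 hfaith m m' hm hm'
    intro V f hf
    obtain ⟨x, φ, hφ⟩ := hRloc f hf
    obtain ⟨Z, ψ, hψ, hZ⟩ :=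
      Groth.Agent.Helper2.StkLib.exists_fpObj_of_lift F G h₃.1 h₁.1 f a ha x φ hφ
    refine ⟨Z.obj.snd, ψ, hψ, ?_⟩
    obtain ⟨n, hn1, hn2⟩ := Groth.Agent.Helper2.StkLib.exists_aut_of_pair h₃.1 f ψ hψ m m' hm hm'
    have hθ : 𝒮₁.p.IsHomLift (𝟙 V) Z.obj.iso.hom := by
      have := Z.property
      rw [← hZ]; exact this
    have hθ' : 𝒮₁.p.IsHomLift (𝟙 V) Z.obj.iso.inv := IsHomLift.lift_id_inv _ _ _
    have hGn : 𝒮₁.p.IsHomLift (𝟙 V) (G.map n) := BasedFunctor.preserves_isHomLift G _ _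
    have hτ : 𝒮₁.p.IsHomLift (𝟙 V) (Z.obj.iso.hom ≫ G.map n ≫ Z.obj.iso.inv) := by
      have : 𝒮₁.p.IsHomLift (𝟙 V ≫ 𝟙 V ≫ 𝟙 V) (Z.obj.iso.hom ≫ G.map n ≫ Z.obj.iso.inv) :=
        inferInstance
      simpa using this
    let k : Z.obj.fst ⟶ Z.obj.fst := F.toFunctor.preimage (Z.obj.iso.hom ≫ G.map n ≫ Z.obj.iso.inv)
    have hk : F.map k = Z.obj.iso.hom ≫ G.map n ≫ Z.obj.iso.inv := F.toFunctor.map_preimage _
    have hk1 : 𝒮₂.p.IsHomLift (𝟙 V) k := by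
      have : 𝒮₁.p.IsHomLift (𝟙 V) (F.map k) := by rw [hk]; exact hτ
      exact BasedFunctor.isHomLift_map F (𝟙 V) k
    let E₁ : Z ⟶ Z := Groth.Agent.Helper2.StkLib.fpMkHom F G k n (by
      rw [hk]; simp)
    have hE1 : (FibCat.fp F G).p.IsHomLift (𝟙 V) E₁ :=
      Groth.Agent.Helper2.StkLib.fp_isHomLift_of_fst F G (𝟙 V) E₁ hk1
    have hE2 : (FibCat.fp F G).p.IsHomLift (𝟙 V) (𝟙 Z) := by
      apply Groth.Agent.Helper2.StkLib.fp_isHomLift_of_fst F G (𝟙 V) (𝟙 Z)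
      change 𝒮₂.p.IsHomLift (𝟙 V) (𝟙 Z.obj.fst)
      rw [← hZ]; infer_instance
    have hE : E₁ = 𝟙 Z := Groth.Agent.Helper2.eq_of_isThin_fiber (FibCat.fp F G).p (h.2 V) _ _
    have hn : n = 𝟙 _ := congrArg (fun e : Z ⟶ Z => e.hom.snd) hE
    rw [← hn2, hn, Category.id_comp]
  exact ⟨h₃.1, fun U A B => ⟨fun m m' => Subtype.ext (key U A.1 B.1 m.1 m'.1 m.2 m'.2)⟩⟩

end Groth.Agent.S12799
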