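import Groth.Statements.S12800
import Mathlib
import Groth.Agent.Lib.Helper2.FibProd
import Groth.Agent.Lib.Helper2.FibGrpd

set_option autoImplicit false
open CategoryTheory
universe v u
open FibCat

namespace Groth.Agent.S12800

/-- For categories `𝒮`, `𝒯` fibred in groupoids over `C`, a category `ℛ` fibred in setoids over `C`, a
functor `f : 𝒯 ⟶ 𝒮` over `C` with faithful underlying functor and a functor `g : ℛ ⟶ 𝒮` over `C`,
the 2-fibre product `𝒯 ×_𝒮 ℛ` over `C` is fibred in setoids. (The published statement takes stacks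
in groupoids over a site and concludes a stack in setoids; the stack property of the 2-fibre product
is the separate result on 2-fibre products of stacks in groupoids, and the setoid property stated
here needs no topology.) -/
theorem result {C : Type u} [Category.{v} C] {𝒮 𝒯 ℛ : BasedCategory.{v, max u v} C}
    (h𝒮 : FibCat.IsFibGrpd 𝒮.p) (h𝒯 : FibCat.IsFibGrpd 𝒯.p) (hℛ : FibCat.IsFibSetoid ℛ.p) (f : 𝒯 ⥤ᵇ 𝒮) [f.toFunctor.Faithful] (g : ℛ ⥤ᵇ 𝒮) :
    FibCat.IsFibSetoid (FibCat.fp f g).p := by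
  refine ⟨Groth.Agent.Helper2.isFibGrpd_fp f g h𝒯 hℛ.1 h𝒮, fun U A B => ⟨fun m m' => ?_⟩⟩
  apply Subtype.ext
  have hm : (FibCat.fp f g).p.IsHomLift (𝟙 U) m.1 := m.2
  have hm' : (FibCat.fp f g).p.IsHomLift (𝟙 U) m'.1 := m'.2
  have hs : ℛ.p.IsHomLift (𝟙 U) m.1.hom.snd :=
    BasedFunctor.preserves_isHomLift (FibCat.fpSnd f g) (𝟙 U) m.1
  have hs' : ℛ.p.IsHomLift (𝟙 U) m'.1.hom.snd :=
    BasedFunctor.preserves_isHomLift (FibCat.fpSnd f g) (𝟙 U) m'.1
  have e2 : m.1.hom.snd = m'.1.hom.snd :=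
    Groth.Agent.Helper2.eq_of_isThin_fiber ℛ.p (hℛ.2 U) _ _
  have e1 : m.1.hom.fst = m'.1.hom.fst := by
    apply f.toFunctor.map_injective
    have w := m.1.hom.w
    have w' := m'.1.hom.w
    rw [e2] at w
    exact (cancel_mono _).1 (w.trans w'.symm)
  apply ObjectProperty.hom_ext
  exact CategoryTheory.Limits.CategoricalPullback.hom_ext e1 e2

end Groth.Agent.S12800
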