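import Groth.Statements.S12806
import Mathlib
import Groth.Agent.Lib.Helper2.FibCat.DiagRepBack

set_option autoImplicit false
open CategoryTheory
universe v u
open FibCat

namespace Groth.Agent.S12806

/-- Let `𝒮` be fibred in groupoids over `C`, `U` an object of `C` and `x, y : C/U ⟶ 𝒮` two functors over
`C` (objects over `U` in 2-Yoneda form), with `e` the 2-isomorphism identifying their composites
with the structure functor. Then the 2-fibre product over `C` of `(x, y) : C/U ⟶ 𝒮 ×_C 𝒮` with the
diagonal `𝒮 ⟶ 𝒮 ×_C 𝒮` is fibred in setoids over `C/U` through its first projection. (The published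
statement is for a fibred category with `x`, `y` the functors given by chosen pullbacks; this row is
the case of a category fibred in groupoids, where every functor over `C` out of `C/U` is of that
kind.) -/
theorem result {C : Type u} [Category.{v} C] {𝒮 : BasedCategory.{v, max u v} C} (h𝒮 : FibCat.IsFibGrpd 𝒮.p)
    (U : C) (x y : FibCat.overCat U ⥤ᵇ 𝒮)
    (e : BasedFunctor.comp x (FibCat.toSelf 𝒮) ≅ BasedFunctor.comp y (FibCat.toSelf 𝒮)) :
    FibCat.IsFibSetoid (FibCat.fpFst (FibCat.fpLift x y e) (FibCat.diag (FibCat.toSelf 𝒮))).toFunctor := by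
  refine ⟨Groth.Agent.Helper2.isFibGrpd_fpFst _ _ h𝒮
    (Groth.Agent.Helper2.FibCatLib.DiagRepBack.isFibGrpd_SS h𝒮), fun W A B => ⟨fun m m' => ?_⟩⟩
  apply Subtype.ext
  apply Groth.Agent.Helper2.FibCatLib.DiagDict.hom_ext_fst
  have hm := m.2
  have hm' := m'.2
  have h1 := IsHomLift.fac' (FibCat.fpFst (FibCat.fpLift x y e) (FibCat.diag (FibCat.toSelf 𝒮))).toFunctor
    (𝟙 W) m.1
  have h2 := IsHomLift.fac' (FibCat.fpFst (FibCat.fpLift x y e) (FibCat.diag (FibCat.toSelf 𝒮))).toFunctor
    (𝟙 W) m'.1
  exact h1.trans h2.symm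

end Groth.Agent.S12806
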