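import Groth.Statements.S12807
import Mathlib
import Groth.Agent.Lib.Helper2.FibCat.FibSetComp

set_option autoImplicit false
open CategoryTheory CategoryTheory.Limits
universe v₃ u₃ v₂ u₂ v u
open FibCat

namespace Groth.Agent.S12807

/-- Let `u : C ⥤ D` be a functor and `𝒮` a category over `D` whose structure functor is a fibred
category. Then the 2-fibre product `C ×_D 𝒮` of `u` and the structure functor (triples `(U, y, u U ≅
p y)`), with its first projection, is a fibred category over `C`. (The published statement uses the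
strict fibre product, pairs with `u U = p y`; for `𝒮` fibred over `D` it is equivalent over `C` to
the 2-fibre product used here.) -/
theorem result {C : Type u} [Category.{v} C] {D : Type u₂} [Category.{v₂} D] (u : C ⥤ D)
    (𝒮 : BasedCategory.{v₃, u₃} D) [𝒮.p.IsFibered] :
    (CategoricalPullback.π₁ u 𝒮.p).IsFibered := by
  apply Functor.IsFibered.of_exists_isStronglyCartesian
  intro a V f
  let k : u.obj V ⟶ 𝒮.p.obj a.snd := u.map f ≫ a.iso.hom
  obtain ⟨y', ψ, hψ⟩ := Functor.IsPreFibered.exists_isCartesian' (p := 𝒮.p) (a := a.snd) k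
  have hsc : 𝒮.p.IsStronglyCartesian k ψ := inferInstance
  have hy' : 𝒮.p.obj y' = u.obj V := IsHomLift.domain_eq 𝒮.p k ψ
  let b : CategoricalPullback u 𝒮.p := ⟨V, y', eqToIso hy'.symm⟩
  have hw : u.map f ≫ a.iso.hom = (eqToIso hy'.symm).hom ≫ 𝒮.p.map ψ := by
    rw [IsHomLift.fac' 𝒮.p k ψ]
    simp [k]
  let φ : b ⟶ a := ⟨f, ψ, hw⟩
  have hφ : (CategoricalPullback.π₁ u 𝒮.p).IsHomLift f φ :=
    inferInstanceAs ((CategoricalPullback.π₁ u 𝒮.p).IsHomLift
      ((CategoricalPullback.π₁ u 𝒮.p).map φ) φ)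
  refine ⟨b, φ, Groth.Agent.Helper2.FibCatLib.FibSet.isStronglyCartesian_of_sc _ f φ hφ ?_⟩
  intro c θ g₀ hg
  let g : c.fst ⟶ V := g₀
  have hgg : g₀ = g := rfl
  have hg' : g ≫ f = θ.fst := hg
  let f₁ : V ⟶ a.fst := f
  have hθ : 𝒮.p.map θ.snd = (c.iso.inv ≫ u.map g) ≫ k := by
    have := θ.w
    rw [← hg'] at this
    rw [Category.assoc, Iso.eq_inv_comp, ← this]
    exact (congrArg (fun t => t ≫ a.iso.hom) (u.map_comp g f₁)).trans (Category.assoc _ _ _)
  obtain ⟨χ₂, ⟨h1, h2⟩, h3⟩ := Functor.IsStronglyCartesian.universal_property 𝒮.p k ψ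
    (c.iso.inv ≫ u.map g) (𝒮.p.map θ.snd) hθ θ.snd
  have h1' : 𝒮.p.IsHomLift (c.iso.inv ≫ u.map g) χ₂ := h1
  have hχw : u.map g ≫ (eqToIso hy'.symm).hom = c.iso.hom ≫ 𝒮.p.map χ₂ := by
    rw [IsHomLift.fac' 𝒮.p (c.iso.inv ≫ u.map g) χ₂]
    simp
  let χ : c ⟶ b := ⟨g, χ₂, hχw⟩
  refine ⟨χ, ⟨hgg.symm, ?_⟩, ?_⟩
  · apply CategoricalPullback.hom_ext
    · exact hg'
    · exact h2
  · rintro χ' ⟨e1, e2⟩
    have e1' : χ'.fst = g := e1
    apply CategoricalPullback.hom_ext
    · exact e1'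
    · apply h3
      refine ⟨?_, congrArg (fun t => t.snd) e2⟩
      refine IsHomLift.of_fac' 𝒮.p _ χ'.snd rfl hy' ?_
      have := χ'.w
      rw [e1'] at this
      rw [eqToHom_refl, Category.id_comp, Category.assoc, Iso.eq_inv_comp, ← this]
      simp [b]

end Groth.Agent.S12807
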