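import Groth.Statements.S12811
import Mathlib
import Groth.Agent.Lib.Helper2.Stk.FpStack

set_option autoImplicit false
open CategoryTheory
universe v u
open Stk

namespace Groth.Agent.S12811

/-- For stacks in setoids `𝒳`, `𝒴`, `𝒮` over `C` for the topology `J` (stacks in groupoids that are
fibred in setoids) and functors `F : 𝒳 ⟶ 𝒮`, `G : 𝒴 ⟶ 𝒮` over `C`, the 2-fibre product `𝒳 ×_𝒮 𝒴`
over `C` is again a stack in setoids for `J`. -/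
theorem result {C : Type u} [Category.{v} C] (J : GrothendieckTopology C) {𝒳 𝒴 𝒮 : BasedCategory.{v, max u v} C}
    (F : 𝒳 ⥤ᵇ 𝒮) (G : 𝒴 ⥤ᵇ 𝒮) (h𝒳 : Stk.IsStack J 𝒳 ∧ FibCat.IsFibSetoid 𝒳.p) (h𝒴 : Stk.IsStack J 𝒴 ∧ FibCat.IsFibSetoid 𝒴.p)
    (h𝒮 : Stk.IsStack J 𝒮 ∧ FibCat.IsFibSetoid 𝒮.p) :
    Stk.IsStack J (FibCat.fp F G) ∧ FibCat.IsFibSetoid (FibCat.fp F G).p := by
  have hpre : Stk.IsPrestack J 𝒮 :=
    ⟨h𝒮.1.1, fun U R hR => ⟨(h𝒮.1.2 R hR).full, (h𝒮.1.2 R hR).faithful⟩⟩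
  have h𝒫 : FibCat.IsFibGrpd (FibCat.fp F G).p :=
    Groth.Agent.Helper2.isFibGrpd_fp F G h𝒳.1.1 h𝒴.1.1 h𝒮.1.1
  refine ⟨⟨h𝒫, ?_⟩, ⟨h𝒫, fun U A B => ⟨fun m m' => ?_⟩⟩⟩
  · intro U R hR
    obtain ⟨hfull, hfaith⟩ := hpre.2 R hR
    exact Groth.Agent.Helper2.StkLib.restr_fp_isEquivalence F G (Stk.sieveIncl R) h𝒫 h𝒮.1.1
      (h𝒳.1.2 R hR) (h𝒴.1.2 R hR) hfull hfaith
  · apply Subtype.ext
    have hm : (FibCat.fp F G).p.IsHomLift (𝟙 U) m.1 := m.2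
    have hm' : (FibCat.fp F G).p.IsHomLift (𝟙 U) m'.1 := m'.2
    have hs : 𝒴.p.IsHomLift (𝟙 U) m.1.hom.snd :=
      BasedFunctor.preserves_isHomLift (FibCat.fpSnd F G) (𝟙 U) m.1
    have hs' : 𝒴.p.IsHomLift (𝟙 U) m'.1.hom.snd :=
      BasedFunctor.preserves_isHomLift (FibCat.fpSnd F G) (𝟙 U) m'.1
    have hf : 𝒳.p.IsHomLift (𝟙 U) m.1.hom.fst :=
      BasedFunctor.preserves_isHomLift (FibCat.fpFst F G) (𝟙 U) m.1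
    have hf' : 𝒳.p.IsHomLift (𝟙 U) m'.1.hom.fst :=
      BasedFunctor.preserves_isHomLift (FibCat.fpFst F G) (𝟙 U) m'.1
    have e2 : m.1.hom.snd = m'.1.hom.snd :=
      Groth.Agent.Helper2.eq_of_isThin_fiber 𝒴.p (h𝒴.2.2 U) _ _
    have e1 : m.1.hom.fst = m'.1.hom.fst :=
      Groth.Agent.Helper2.eq_of_isThin_fiber 𝒳.p (h𝒳.2.2 U) _ _
    apply ObjectProperty.hom_ext
    exact CategoryTheory.Limits.CategoricalPullback.hom_ext e1 e2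

end Groth.Agent.S12811
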