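import Groth.Statements.S12816
import Mathlib
import Groth.Agent.Lib.Helper2.Stk.Post
import Groth.Agent.Lib.Helper2.Stk.Yon

set_option autoImplicit false
open CategoryTheory
universe v u
open Stk

namespace Groth.Agent.S12816

/-- Let `𝒳`, `𝒴` be fibred in groupoids over `C` and `F : 𝒳 ⟶ 𝒴` a functor over `C`. Then the underlying
functor of `F` is fully faithful if and only if, for every object `U` of `C`, postcomposition with
`F` is a fully faithful functor from the category of functors `C/U ⟶ 𝒳` over `C` to that of functors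
`C/U ⟶ 𝒴` over `C`; under the 2-Yoneda lemma the latter says that `F` induces bijections between
morphisms of pullbacks `x|_V ⟶ y|_V` and `F(x)|_V ⟶ F(y)|_V` for all objects `x, y` over `U` and all
`V ⟶ U`, that is, isomorphisms of the presheaves of morphisms. (The published statement is for
stacks over a site, not necessarily in groupoids; the stack property plays no role and is not
assumed here, and this row treats categories fibred in groupoids.) -/
theorem result {C : Type u} [Category.{v} C] {𝒳 𝒴 : BasedCategory.{v, max u v} C}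
    (h𝒳 : FibCat.IsFibGrpd 𝒳.p) (h𝒴 : FibCat.IsFibGrpd 𝒴.p) (F : 𝒳 ⟶ 𝒴) :
    (F.toFunctor.Full ∧ F.toFunctor.Faithful) ↔
      ∀ U : C, (Bicategory.postcomp (FibCat.overCat U) F).Full ∧ (Bicategory.postcomp (FibCat.overCat U) F).Faithful := by
  constructor
  · rintro ⟨hfull, hfaith⟩ U
    exact ⟨Groth.Agent.Helper2.StkLib.postF_full (FibCat.overCat U) F,
      Groth.Agent.Helper2.StkLib.postF_faithful (FibCat.overCat U) F⟩
  · intro hU
    have key : ∀ U : C, (Groth.Agent.Helper2.postF (FibCat.overCat U) F).Full ∧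
        (Groth.Agent.Helper2.postF (FibCat.overCat U) F).Faithful := hU
    refine ⟨?_, ?_⟩
    · apply Groth.Agent.Helper2.StkLib.full_of_fiber h𝒳 h𝒴 F
      intro U a b ha hb τ hτ
      obtain ⟨hfull, -⟩ := key U
      obtain ⟨Ga, ea, hea⟩ := Groth.Agent.Helper2.StkLib.exists_functor_of_obj h𝒳 a ha
      obtain ⟨Gb, eb, heb⟩ := Groth.Agent.Helper2.StkLib.exists_functor_of_obj h𝒳 b hb
      have heb' : 𝒳.p.IsHomLift (𝟙 U) eb.inv := IsHomLift.lift_id_inv _ _ _
      have hea' : 𝒳.p.IsHomLift (𝟙 U) ea.inv := IsHomLift.lift_id_inv _ _ _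
      have h1 : 𝒴.p.IsHomLift (𝟙 U) (F.map ea.hom) := BasedFunctor.preserves_isHomLift F _ _
      have h2 : 𝒴.p.IsHomLift (𝟙 U) (F.map eb.inv) := BasedFunctor.preserves_isHomLift F _ _
      have h3 : 𝒴.p.IsHomLift (𝟙 U) (F.map ea.hom ≫ τ ≫ F.map eb.inv) := by
        have : 𝒴.p.IsHomLift (𝟙 U ≫ 𝟙 U ≫ 𝟙 U) (F.map ea.hom ≫ τ ≫ F.map eb.inv) := inferInstance
        simpa using this
      obtain ⟨ν, hν⟩ := Groth.Agent.Helper2.StkLib.exists_nat_of_app_id h𝒴
        (G := BasedFunctor.comp Ga F) (H := BasedFunctor.comp Gb F)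
        (F.map ea.hom ≫ τ ≫ F.map eb.inv) h3
      obtain ⟨μ, hμ⟩ := hfull.map_surjective ν
      refine ⟨ea.inv ≫ μ.toNatTrans.app (Over.mk (𝟙 U)) ≫ eb.hom, ?_⟩
      have h4 : F.map (μ.toNatTrans.app (Over.mk (𝟙 U))) = F.map ea.hom ≫ τ ≫ F.map eb.inv := by
        have h9 := congrArg (fun γ : BasedFunctor.comp Ga F ⟶ BasedFunctor.comp Gb F =>
          γ.toNatTrans.app (Over.mk (𝟙 U))) hμ
        exact h9.trans hν
      have ha' : F.map ea.inv ≫ F.map ea.hom = 𝟙 _ := by
        rw [← CategoryTheory.Functor.map_comp, Iso.inv_hom_id, CategoryTheory.Functor.map_id]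
      have hb' : F.map eb.inv ≫ F.map eb.hom = 𝟙 _ := by
        rw [← CategoryTheory.Functor.map_comp, Iso.inv_hom_id, CategoryTheory.Functor.map_id]
      rw [CategoryTheory.Functor.map_comp, CategoryTheory.Functor.map_comp, h4]
      simp only [Category.assoc, hb', Category.comp_id]
      rw [← Category.assoc, ha', Category.id_comp]
    · apply Groth.Agent.Helper2.StkLib.faithful_of_fiber h𝒳 h𝒴 F
      intro U a b m m' hm hm' hmm
      obtain ⟨-, hfaith⟩ := key U
      have ha : 𝒳.p.obj a = U := IsHomLift.domain_eq 𝒳.p (𝟙 U) m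
      have hb : 𝒳.p.obj b = U := IsHomLift.codomain_eq 𝒳.p (𝟙 U) m
      obtain ⟨Ga, ea, hea⟩ := Groth.Agent.Helper2.StkLib.exists_functor_of_obj h𝒳 a ha
      obtain ⟨Gb, eb, heb⟩ := Groth.Agent.Helper2.StkLib.exists_functor_of_obj h𝒳 b hb
      have heb' : 𝒳.p.IsHomLift (𝟙 U) eb.inv := IsHomLift.lift_id_inv _ _ _
      have h3 : 𝒳.p.IsHomLift (𝟙 U) (ea.hom ≫ m ≫ eb.inv) := by
        have : 𝒳.p.IsHomLift (𝟙 U ≫ 𝟙 U ≫ 𝟙 U) (ea.hom ≫ m ≫ eb.inv) := inferInstance
        simpa using this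
      have h3' : 𝒳.p.IsHomLift (𝟙 U) (ea.hom ≫ m' ≫ eb.inv) := by
        have : 𝒳.p.IsHomLift (𝟙 U ≫ 𝟙 U ≫ 𝟙 U) (ea.hom ≫ m' ≫ eb.inv) := inferInstance
        simpa using this
      obtain ⟨μ, hμ⟩ := Groth.Agent.Helper2.StkLib.exists_nat_of_app_id h𝒳 (G := Ga) (H := Gb)
        (ea.hom ≫ m ≫ eb.inv) h3
      obtain ⟨μ', hμ'⟩ := Groth.Agent.Helper2.StkLib.exists_nat_of_app_id h𝒳 (G := Ga) (H := Gb)
        (ea.hom ≫ m' ≫ eb.inv) h3'
      have h5 : (Groth.Agent.Helper2.postF (FibCat.overCat U) F).map μ =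
          (Groth.Agent.Helper2.postF (FibCat.overCat U) F).map μ' := by
        apply Groth.Agent.Helper2.StkLib.nat_ext_of_app_id h𝒴
        change F.map (μ.toNatTrans.app (Over.mk (𝟙 U))) = F.map (μ'.toNatTrans.app (Over.mk (𝟙 U)))
        rw [hμ, hμ', CategoryTheory.Functor.map_comp, CategoryTheory.Functor.map_comp,
          CategoryTheory.Functor.map_comp, CategoryTheory.Functor.map_comp, hmm]
      have h6 : μ = μ' := hfaith.map_injective h5
      have h7 : ea.hom ≫ m ≫ eb.inv = ea.hom ≫ m' ≫ eb.inv := by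
        rw [← hμ, ← hμ', h6]
      have h8 := (cancel_epi ea.hom).1 h7
      exact (cancel_mono eb.inv).1 h8

end Groth.Agent.S12816
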