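import Groth.Statements.S12839
import Mathlib

set_option autoImplicit false
universe u
open CategoryTheory AlgebraicGeometry
open AlgSt

namespace Groth.Agent.S12839

section
open CategoryTheory AlgebraicGeometry
open Limits MonoidalCategory CartesianMonoidalCategory MonObj GrpObj

theorem main (S : Scheme.{u}) (G : Over S) [GrpObj G] (X : Over S)
    (aX : AlgGrp.Action G X) (A : AlgSt.QuotObj Scheme.fppfPrecoverage G aX) :
    ∃ (R : Presieve A.base.left) (_ : R ∈ Scheme.fppfPrecoverage A.base.left),
      ∀ ⦃T' : Scheme.{u}⦄ (f : T' ⟶ A.base.left), R f →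
        ∃ (x : Over.mk (f ≫ A.base.hom) ⟶ X)
          (h : (AlgSt.quotMap Scheme.fppfPrecoverage G aX).obj ((AlgSt.ofOverCat X).obj (Over.mk x)) ⟶ A),
          h.base = Over.homMk f rfl := by
  obtain ⟨R, hR, hsec⟩ := A.loc
  refine ⟨R, hR, ?_⟩
  intro T' f hf
  obtain ⟨s, hs⟩ := hsec f hf
  have hs' : s ≫ A.π.left = f := hs
  have hw : s ≫ A.P.hom = f ≫ A.base.hom := by
    rw [← Over.w A.π, ← Category.assoc, hs']
  let T'' : Over S := Over.mk (f ≫ A.base.hom)
  let σ : T'' ⟶ A.P := Over.homMk s hw
  have hσπ : σ ≫ A.π = Over.homMk f rfl := by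
    ext
    exact hs'
  refine ⟨σ ≫ A.φ, ?_, ?_⟩
  · refine
      { base := Over.homMk f rfl
        top := (G ◁ σ) ≫ A.act.act
        eqv := ?_
        cart := ?_
        wφ := ?_ }
    · exact ((AlgSt.quotMap Scheme.fppfPrecoverage G A.act).obj
        ((AlgSt.ofOverCat A.P).obj (Over.mk σ))).eqv
    · have h1 := AlgSt.isPullback_whiskerLeft (G := G) σ
      have h2 := h1.paste_horiz A.cart
      rw [hσπ] at h2
      exact h2
    · change ((G ◁ σ) ≫ A.act.act) ≫ A.φ = (G ◁ (σ ≫ A.φ)) ≫ aX.act
      rw [Category.assoc, A.eqv, MonoidalCategory.whiskerLeft_comp, Category.assoc]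
  · rfl


end


/-- Let `G` be a group scheme over `S` acting on an `S`-scheme `X` and let `A` be an object of the
quotient category `[X/G]` over the `S`-scheme `T` — a `G`-torsor `P ⟶ T` for the fppf topology which
is a scheme, with an equivariant `P ⟶ X`. Then there is an fppf covering family of `T` such that for
every member `f : T' ⟶ T` there are a `T'`-point `x` of `X` and a morphism of `[X/G]` lying over `f`
from the image of `x` under the canonical functor `X ⟶ [X/G]` (the trivial torsor `G ×_S T'` with
`(h, t) ↦ h · x(t)`) to `A`: every object is, fppf-locally on its base, isomorphic to a trivial one. -/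
theorem result (S : Scheme.{u}) (G : Over S) [GrpObj G] (X : Over S)
    (aX : AlgGrp.Action G X) (A : AlgSt.QuotObj Scheme.fppfPrecoverage G aX) :
    ∃ (R : Presieve A.base.left) (_ : R ∈ Scheme.fppfPrecoverage A.base.left),
      ∀ ⦃T' : Scheme.{u}⦄ (f : T' ⟶ A.base.left), R f →
        ∃ (x : Over.mk (f ≫ A.base.hom) ⟶ X)
          (h : (AlgSt.quotMap Scheme.fppfPrecoverage G aX).obj ((AlgSt.ofOverCat X).obj (Over.mk x)) ⟶ A),
          h.base = Over.homMk f rfl := by
  classical
  exact main S G X aX A

end Groth.Agent.S12839
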