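import Groth.Statements.S12850
import Mathlib
import Groth.Agent.Lib.Helper2.AlgSt.CompCover
import Groth.Agent.Lib.Helper2.AlgSp.LocP

set_option autoImplicit false
open CategoryTheory AlgebraicGeometry
universe u
open AlgSt

namespace Groth.Agent.S12850

/-- Let `P` be a property of morphisms of algebraic spaces over `S` which is stable under base change,
fppf local on the base and local on the source in the etale topology; let `x : 𝒳 ⟶ 𝒴` and `y : 𝒴 ⟶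
𝒵` be 1-morphisms of algebraic stacks over `S` representable by algebraic spaces with `x` surjective
and etale. If `y ∘ x` has `P` then `y` has `P`. (Stability under base change is asked for every
pullback square of fppf sheaves whose four corners are algebraic spaces.) -/
theorem result {S : Scheme.{u}} {𝒳 𝒴 𝒵 : AlgSt.Cat S}
    (h𝒳 : AlgSt.IsAlgStack Scheme.fppfPrecoverage 𝒳) (h𝒴 : AlgSt.IsAlgStack Scheme.fppfPrecoverage 𝒴) (h𝒵 : AlgSt.IsAlgStack Scheme.fppfPrecoverage 𝒵)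
    (P : MorphismProperty (AlgSp.Sp S))
    (hPb : ∀ ⦃X₁ Y₁ X₂ Y₂ : AlgSp.Sp S⦄, AlgSp.IsAlgSpace X₁ → AlgSp.IsAlgSpace Y₁ → AlgSp.IsAlgSpace X₂ →
      AlgSp.IsAlgSpace Y₂ → ∀ (a : X₁ ⟶ Y₁) (b : Y₂ ⟶ Y₁) (a' : X₂ ⟶ Y₂) (b' : X₂ ⟶ X₁),
      IsPullback b' a' a b → P a → P a')
    (hP : AlgSp.IsLocalOnBase AlgSp.IsFppfCover P) (hP' : AlgSp.IsLocalOnSource AlgSp.IsEtCover P)
    (x : 𝒳 ⥤ᵇ 𝒴) (y : 𝒴 ⥤ᵇ 𝒵) (hy : AlgSt.RepByAlgSp1 y)
    (hx₁ : AlgSt.RepByAlgSpWith AlgSp.IsEtaleMor x) (hx₂ : AlgSt.RepByAlgSpWith AlgSp.IsSurjectiveMor x)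
    (h : AlgSt.RepByAlgSpWith P (BasedFunctor.comp x y)) : AlgSt.RepByAlgSpWith P y := by
  have hx₁' : AlgSt.RepByAlgSpWith (AlgSp.LocP @Etale) x :=
    Groth.Agent.Helper2.AlgStLib.repByAlgSpWith_mono' x
      (fun F T m hm => (Groth.Agent.Helper2.AlgSpBasic.isEtaleMor_iff_locP_etale F.property
        (AlgSp.IsAlgSpace.yon_obj T) m).1 hm) hx₁
  have hx : AlgSt.RepByAlgSpWith (AlgSp.LocP @Etale ⊓ AlgSp.IsSurjectiveMor) x :=
    (Groth.Agent.Helper2.AlgStLib.repByAlgSpWith_inf_iff _ _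
      (Groth.Agent.Helper2.AlgStLib.respectsIsoSp_of_stableBC
        Groth.Agent.Helper2.AlgStLib.stableBC_isSurjectiveMor) x).2 ⟨hx₁', hx₂⟩
  refine Groth.Agent.Helper2.AlgStLib.repByAlgSpWith_of_comp_cover h𝒳.isStack.1 h𝒴.isStack.1 P hPb
    (AlgSp.LocP @Etale ⊓ AlgSp.IsSurjectiveMor)
    (Groth.Agent.Helper2.AlgStLib.stableBC_inf (Groth.Agent.Helper2.AlgStLib.stableBC_locP @Etale)
      Groth.Agent.Helper2.AlgStLib.stableBC_isSurjectiveMor)
    (Groth.Agent.Helper2.AlgStLib.atlasLocal_inf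
      (Groth.Agent.Helper2.AlgStLib.atlasLocal_of_fppf
        (Groth.Agent.Helper2.AlgStLib.isLocalOnBase_fppf_of_fpqc
          (Groth.Agent.Helper2.AlgSpBasic.isLocalOnBase_fpqc_locP @Etale)))
      (Groth.Agent.Helper2.AlgStLib.atlasLocal_of_fppf
        Groth.Agent.Helper2.AlgStLib.isLocalOnBase_fppf_isSurjectiveMor))
    ?_ x y hy hx h
  intro X Y Z hX hY hZ a b ha hab
  exact (hP' (fun _ : PUnit.{u + 1} => X) (fun _ => a) hY (fun _ => hX)
    ⟨fun _ => Groth.Agent.Helper2.AlgSpBasic.isEtaleMor_of_locP_etale hX hY a ha.1,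
      fun p => ⟨PUnit.unit, ha.2 p⟩⟩ b hZ).2 (fun _ => hab)

end Groth.Agent.S12850
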