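import Groth.Statements.S12859
import Mathlib
import Groth.Agent.Lib.Helper2.AlgSt.Substack.OpenChar

open Groth.Agent.Helper2.AlgStLib.Substack

set_option autoImplicit false
open CategoryTheory AlgebraicGeometry
universe u
open AlgSt

namespace Groth.Agent.S12859

/-- Let `𝒳` be an algebraic stack over `S`. The rule sending an open substack `𝒰 ⊂ 𝒳` (a predicate on
objects closed under isomorphisms whose full subcategory is an algebraic stack with open-immersion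
inclusion) to `|𝒰| ⊂ |𝒳|` is a bijection from open substacks onto open subsets of `|𝒳|`, and `𝒰 ⊂
𝒰'` holds exactly when `|𝒰| ⊂ |𝒰'|`. -/
theorem result {S : Scheme.{u}} {𝒳 : AlgSt.Cat S}
    (h𝒳 : AlgSt.IsAlgStack Scheme.fppfPrecoverage 𝒳) :
    Set.BijOn (fun Q : 𝒳.obj → Prop => Set.range (AlgSt.Points.map (AlgSt.subIncl 𝒳 Q)))
        {Q | AlgSt.IsOpenSubstack 𝒳 Q Scheme.fppfPrecoverage} {T | IsOpen T} ∧
      ∀ (Q Q' : 𝒳.obj → Prop), AlgSt.IsOpenSubstack 𝒳 Q Scheme.fppfPrecoverage → AlgSt.IsOpenSubstack 𝒳 Q' Scheme.fppfPrecoverage →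
        ((∀ y, Q y → Q' y) ↔ Set.range (AlgSt.Points.map (AlgSt.subIncl 𝒳 Q)) ⊆ Set.range (AlgSt.Points.map (AlgSt.subIncl 𝒳 Q'))) := by
  refine ⟨⟨?_, ?_, ?_⟩, ?_⟩
  · intro Q hQ
    exact isOpen_range_of_isOpenImm hQ.2.1 h𝒳 (AlgSt.subIncl 𝒳 Q) hQ.2.2
  · intro Q hQ Q' hQ' h
    change Set.range (AlgSt.Points.map (AlgSt.subIncl 𝒳 Q)) =
      Set.range (AlgSt.Points.map (AlgSt.subIncl 𝒳 Q')) at h
    funext y
    apply propext
    rw [isOpenSubstack_iff_ptsIn h𝒳 Q hQ y, isOpenSubstack_iff_ptsIn h𝒳 Q' hQ' y, h]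
  · intro T hT
    exact ⟨PtsIn T, isOpenSubstack_ptsIn h𝒳 T hT, range_map_subIncl_ptsIn T⟩
  · intro Q Q' hQ hQ'
    constructor
    · rintro h _ ⟨w, rfl⟩
      obtain ⟨p, rfl⟩ := AlgSt.Points.mk_surjective w
      refine ⟨AlgSt.Points.mk ⟨p.K, p.str, ⟨p.obj.obj, h _ p.obj.property⟩, p.lies⟩, ?_⟩
      rw [AlgSt.Points.map_mk, AlgSt.Points.map_mk]
      rfl
    · intro h y hy
      rw [isOpenSubstack_iff_ptsIn h𝒳 Q' hQ' y]
      exact ptsIn_mono h y ((isOpenSubstack_iff_ptsIn h𝒳 Q hQ y).1 hy)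

end Groth.Agent.S12859
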