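import Groth.Statements.S12860
import Mathlib
import Groth.Agent.Lib.Helper2.AlgSt.Substack.Image

open Groth.Agent.Helper2 Groth.Agent.Helper2.AlgStLib Groth.Agent.Helper2.AlgStLib.Substack Groth.Agent.Helper2.AlgStLib.LocQ Groth.Agent.Helper2.AlgSpBasic Groth.Agent.Helper2.EtaleLocal Groth.Agent.Helper2.AlgStLib.Pts

set_option autoImplicit false
open CategoryTheory AlgebraicGeometry
universe u
open AlgSt

namespace Groth.Agent.S12860

/-- Let `𝒳` be an algebraic stack over `S`, `U` an algebraic space with a surjective smooth `u : U ⟶ 𝒳`,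
and `j : V ⟶ U` an open immersion of algebraic spaces. Then there are an algebraic stack `𝒴`, an
open immersion `i : 𝒴 ⟶ 𝒳` and a surjective smooth `g : V ⟶ 𝒴` such that `i ∘ g` is 2-isomorphic to
`u ∘ j` (the compatibility is part of the published proof, which constructs `𝒴` as the image of
`V`). -/
theorem result {S : Scheme.{u}} {𝒳 : AlgSt.Cat S}
    (h𝒳 : AlgSt.IsAlgStack Scheme.fppfPrecoverage 𝒳) (U : AlgSp.Space S) (u : AlgSt.ofSp U.obj ⥤ᵇ 𝒳)
    (hu₁ : AlgSt.RepByAlgSpWith (AlgSp.LocP @Smooth) u) (hu₂ : AlgSt.RepByAlgSpWith AlgSp.IsSurjectiveMor u)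
    (V : AlgSp.Space S) (j : V ⟶ U) (hj : AlgSp.RepWith @IsOpenImmersion j.hom) :
    ∃ (𝒴 : AlgSt.Cat S) (i : 𝒴 ⥤ᵇ 𝒳) (g : AlgSt.ofSp V.obj ⥤ᵇ 𝒴),
      AlgSt.IsAlgStack Scheme.fppfPrecoverage 𝒴 ∧ AlgSt.IsOpenImm i ∧
        AlgSt.RepByAlgSpWith (AlgSp.LocP @Smooth) g ∧ AlgSt.RepByAlgSpWith AlgSp.IsSurjectiveMor g ∧
          Nonempty (BasedFunctor.comp g i ≅ BasedFunctor.comp (AlgSt.ofSpMap j.hom) u) := by
  have hV := isAlgStack_ofSp V
  have hUst := isAlgStack_ofSp U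
  have hjsm : AlgSp.LocP @Smooth j.hom :=
    locP_of_repWith @Smooth V.property.diag j.hom (repWith_mono
      (fun _ _ g hg => by haveI : IsOpenImmersion g := hg; infer_instance) hj)
  have hj' : Sm (AlgSt.ofSpMap j.hom) :=
    repByAlgSpWith_ofSpMap_of_prop (AlgSp.LocP @Smooth) (stableBC_locP @Smooth) V.property
      U.property j.hom hjsm
  have hH : Sm (BasedFunctor.comp (AlgSt.ofSpMap j.hom) u) :=
    sm_comp hV.isStack.1 hUst.isStack.1 _ _ hj' hu₁
  obtain ⟨hobj, hsub, hsm, hsj⟩ := exists_image_of_smooth hV h𝒳 _ hH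
  exact ⟨_, AlgSt.subIncl 𝒳 _, corestrict _ _ hobj, hsub.2.1, hsub.2.2, hsm, hsj, ⟨Iso.refl _⟩⟩

end Groth.Agent.S12860
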