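import Groth.Statements.S12863
import Mathlib
import Groth.Agent.Lib.Helper2.AlgSt.OpenCover.Cover
import Groth.Agent.Lib.Helper2.AlgSt.OpenCover.GlueSpace


set_option autoImplicit false
open CategoryTheory AlgebraicGeometry
universe u w
open AlgSt

namespace Groth.Agent.S12863

/-- Let `𝒳` be an algebraic stack over `S` and `𝒳_i ⊂ 𝒳` a family of open substacks with `𝒳 = ⋃ 𝒳_i`
(their points exhaust `|𝒳|`). When each `𝒳_i` is an algebraic space, so is `𝒳` itself. -/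
theorem result {S : Scheme.{u}} {𝒳 : AlgSt.Cat S}
    (h𝒳 : AlgSt.IsAlgStack Scheme.fppfPrecoverage 𝒳) {ι : Type w} (Q : ι → 𝒳.obj → Prop)
    (hQ : ∀ i, AlgSt.IsOpenSubstack 𝒳 (Q i) Scheme.fppfPrecoverage)
    (hcov : ⋃ i, Set.range (AlgSt.Points.map (AlgSt.subIncl 𝒳 (Q i))) = Set.univ)
    (hsp : ∀ i, AlgSt.RepByAlgSp (AlgSt.fullSub 𝒳 (Q i))) : AlgSt.RepByAlgSp 𝒳 := by
  choose Fsp ei hei using hsp
  obtain ⟨F, e, he, κ, idx, j, hjopen, hjlift⟩ :=
    Groth.Agent.Helper2.AlgStLib.OpenCover.exists_open_cover_data h𝒳 Q hQ hcov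
      (fun i => (Fsp i).obj) ei hei
  have hF : AlgSp.IsAlgSpace F :=
    Groth.Agent.Helper2.AlgStLib.OpenCover.isAlgSpace_of_local_lifts F
      (fun k => (Fsp (idx k)).obj) j (fun k => (Fsp (idx k)).property) hjopen hjlift
  exact ⟨⟨F, hF⟩, e, he⟩

end Groth.Agent.S12863
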