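import Groth.Statements.S12864
import Mathlib
import Groth.Agent.Lib.Helper2.AlgSt.OpenCover.Cover
import Groth.Agent.Lib.Helper2.AlgSp.ZarRep


set_option autoImplicit false
open CategoryTheory AlgebraicGeometry
universe u w
open AlgSt

namespace Groth.Agent.S12864

/-- Let `𝒳` be an algebraic stack over `S` and `𝒳_i ⊂ 𝒳` a family of open substacks with `𝒳 = ⋃ 𝒳_i`
(their points exhaust `|𝒳|`). If every `𝒳_i` is a scheme (equivalent over `(Sch/S)` to some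
`(Sch/U)`), then `𝒳` is a scheme. -/
theorem result {S : Scheme.{u}} {𝒳 : AlgSt.Cat S}
    (h𝒳 : AlgSt.IsAlgStack Scheme.fppfPrecoverage 𝒳) {ι : Type w} (Q : ι → 𝒳.obj → Prop)
    (hQ : ∀ i, AlgSt.IsOpenSubstack 𝒳 (Q i) Scheme.fppfPrecoverage)
    (hcov : ⋃ i, Set.range (AlgSt.Points.map (AlgSt.subIncl 𝒳 (Q i))) = Set.univ)
    (hsch : ∀ i, FibCat.IsRepresentable (AlgSt.fullSub 𝒳 (Q i))) : FibCat.IsRepresentable 𝒳 := by
  choose U Φ hΦ using hsch
  choose Ψ hΨ _hΨ1 _hΨ2 using fun i =>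
    Groth.Agent.Helper2.FibCatLib.isEquivOver_inverse (hΦ i)
  have hei : ∀ i, FibCat.IsEquivOver (BasedFunctor.comp (AlgSt.toOverCat (U i)) (Ψ i)) := fun i =>
    Groth.Agent.Helper2.FibCatLib.ReprInv.isEquivOver_comp
      (Groth.Agent.Helper2.AlgStLib.toOverCat_isEquivOver (U i)) (hΨ i)
  obtain ⟨F, e, he, κ, idx, j, hjopen, hjlift⟩ :=
    Groth.Agent.Helper2.AlgStLib.OpenCover.exists_open_cover_data h𝒳 Q hQ hcov
      (fun i => (AlgSp.yon S).obj (U i))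
      (fun i => BasedFunctor.comp (AlgSt.toOverCat (U i)) (Ψ i)) hei
  obtain ⟨W, ⟨φ⟩⟩ := Groth.Agent.Helper2.ZarRep.exists_iso_yon_of_open_cover j hjopen (by
    intro T ξ z
    obtain ⟨k, W', g, σ, hg, hz, hσ⟩ := hjlift T ξ z
    obtain ⟨ξ', rfl⟩ := (AlgSp.yon S).map_surjective σ
    exact ⟨k, W', g, ξ', hg, hz, hσ.symm⟩)
  obtain ⟨e', he', -, -⟩ := Groth.Agent.Helper2.FibCatLib.isEquivOver_inverse he
  haveI : IsIso φ.inv.hom := (inferInstance : IsIso ((ObjectProperty.ι _).map φ.inv))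
  have h1 : FibCat.IsEquivOver (AlgSt.ofSpMap φ.inv) :=
    Groth.Agent.Helper2.StkLib.isEquivOver_ofPshMap_of_isIso φ.inv.hom
  exact ⟨W, BasedFunctor.comp e' (BasedFunctor.comp (AlgSt.ofSpMap φ.inv) (AlgSt.toOverCat W)),
    Groth.Agent.Helper2.FibCatLib.ReprInv.isEquivOver_comp he'
      (Groth.Agent.Helper2.FibCatLib.ReprInv.isEquivOver_comp h1
        (Groth.Agent.Helper2.AlgStLib.toOverCat_isEquivOver W))⟩

end Groth.Agent.S12864
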