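import Groth.Statements.S6156
import Mathlib
import Groth.Agent.Lib.Helper5.Misc.ShriekProjNat

set_option autoImplicit false
universe u
open CategoryTheory
open ModSite

open CategoryTheory CategoryTheory.Limits Opposite MonoidalCategory
open Groth.Agent.Lib.Helper5.TensorSheaf Groth.Agent.Lib.Helper5

namespace Groth.Agent.S6156

/-- The projection formula as a natural isomorphism in the first variable. -/
noncomputable def projNatIso {C : Type u} [SmallCategory C] {J : GrothendieckTopology C}
    (O : Sheaf J CommRingCat.{u}) (X : C) (M : ModSite.Mod O) :
    (ModSite.tensorBi (O.over X)).flip.obj ((ModSite.restr O X).obj M) ⋙ ModSite.extZero O X ≅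
      ModSite.extZero O X ⋙ (ModSite.tensorBi O).flip.obj M :=
  NatIso.ofComponents (fun G => ShriekSheaf.projIso G M) (by
    intro G G' α
    exact ShriekSheaf.projIso_naturality_left α M)

end Groth.Agent.S6156

namespace Groth.Agent.S6156

/-- Ringed topos of sheaves on a small site with commutative structure sheaf O, localised at an object
X: j_X^* Hom_O(M, N) is isomorphic to Hom_{O|X}(j_X^* M, j_X^* N). Existence of an isomorphism only
(the source's Phi_X is canonical); the binders providing the internal hom functors always hold. -/
theorem result {C : Type u} [SmallCategory C] {J : GrothendieckTopology C} (O : Sheaf J CommRingCat.{u})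
    (X : C) (M N : ModSite.Mod O) [ModSite.HasSheafHom M] [ModSite.HasSheafHom ((ModSite.restr O X).obj M)] :
    Nonempty ((ModSite.restr O X).obj ((ModSite.sheafHom M).obj N) ≅
      (ModSite.sheafHom ((ModSite.restr O X).obj M)).obj ((ModSite.restr O X).obj N)) := by
  let adj1 := (ModSite.extZeroAdj O X).comp (ModSite.sheafHomAdj M)
  let adj2 := (ModSite.sheafHomAdj ((ModSite.restr O X).obj M)).comp (ModSite.extZeroAdj O X)
  let e := conjugateIsoEquiv adj1 adj2 (projNatIso O X M)
  exact ⟨e.app N⟩

end Groth.Agent.S6156
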