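import Groth.Statements.S12894
import Mathlib
import Groth.Statements.S12894
import Groth.Agent.S0674
import Groth.Agent.Lib.Helper9.FE.SepField
import Groth.Agent.Lib.Helper9.FE.SepFieldConn
import Groth.Agent.Lib.Helper9.FE.ShAbBridge
-- import your own Groth.Agent.* helpers here

set_option autoImplicit false
universe u
open CategoryTheory CategoryTheory.Limits AlgebraicGeometry
open CohProp

namespace Groth.Agent.S12894

open CategoryTheory CategoryTheory.Limits AlgebraicGeometry Opposite
namespace Aux
set_option linter.style.haveILetI false
set_option linter.unusedSectionVars false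
set_option backward.isDefEq.respectTransparency false

open IsLocalRing in
/-- a strict henselization of a local ring of the spectrum of a field is (bijective to) a
separably closed field -/
theorem exists_sepClosed_bijective (k : Type u) [Field k] (s : ↥(Spec (CommRingCat.of k)))
    (RS : Type u) [CommRing RS] [IsLocalRing RS]
    [Algebra ((Spec (CommRingCat.of k)).presheaf.stalk s) RS]
    [IsLocalHom (algebraMap ((Spec (CommRingCat.of k)).presheaf.stalk s) RS)]
    [hS : Hensel.IsStrictHenselization ((Spec (CommRingCat.of k)).presheaf.stalk s) RS] :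
    ∃ (L : Type u) (_ : Field L) (_ : IsSepClosed L) (θ : L →+* RS), Function.Bijective θ := by
  let s' : PrimeSpectrum k := s
  let ρ : k →+* ((Spec (CommRingCat.of k)).presheaf.stalk s) := (StructureSheaf.toStalk k s').hom
  have hρ : Function.Bijective ρ := H9FE.SepField.toStalk_bijective k s'
  have hK := H9FE.SepField.maximalIdeal_eq_bot_of_surjective ρ hρ.2
  have hm : maximalIdeal RS = ⊥ := by
    rw [← Groth.Agent.Helper7.SHens.map_maximalIdeal_of_isStrictHenselization
      ((Spec (CommRingCat.of k)).presheaf.stalk s) RS, hK, Ideal.map_bot]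
  haveI := hS.isSepClosure
  haveI : IsSepClosed (ResidueField RS) :=
    IsSepClosure.sep_closed (ResidueField ((Spec (CommRingCat.of k)).presheaf.stalk s))
  have hbij : Function.Bijective (residue RS) := by
    refine ⟨?_, residue_surjective⟩
    rw [injective_iff_map_eq_zero]
    intro a ha
    have : a ∈ maximalIdeal RS := (residue_eq_zero_iff a).1 ha
    rw [hm] at this
    exact this
  let e : RS ≃+* ResidueField RS := RingEquiv.ofBijective (residue RS) hbij
  exact ⟨ResidueField RS, inferInstance, inferInstance, e.symm.toRingHom, e.symm.bijective⟩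

/-- base change for direct images of abelian sheaves along any morphism to the spectrum of a
field -/
theorem mainAb {k : Type u} [Field k]
    {X Y T : Scheme.{u}} (f : X ⟶ Spec (CommRingCat.of k)) (g : T ⟶ Spec (CommRingCat.of k))
    [QuasiCompact g] [QuasiSeparated g] (h : Y ⟶ X) (e : Y ⟶ T) (hc : IsPullback e h g f)
    (F : EtCoh.Ab T) :
    IsIso (EtCoh.baseChange0 g f h e hc.w F) := by
  haveI : Flat f := inferInstance
  refine Groth.Agent.S0674.result f ?_ g h e hc F
  intro x RS _ _ _ _ _ RX _ _ _ _ _ ψ _ _ Ω _ _ η
  obtain ⟨L, _, _, θ, hθ⟩ := exists_sepClosed_bijective k (f.base x) RS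
  exact H9FE.SepFieldConn.conn_of_spec RS RX θ hθ ψ Ω η

theorem main (k : Type u) [Field k] (X : Scheme.{u})
    (f : X ⟶ Spec (CommRingCat.of k)) [QuasiCompact f] [QuasiSeparated f] (F : EtDesc.Sh X) :
    CohProp.IsCohPropSet (𝟙 (Spec (CommRingCat.of k))) f F := by
  intro S' Y' X' p g q' h f' _ sq
  exact H9FE.ShAbBridge.main f g f' h sq.w (fun A => mainAb g f f' h sq A) F

end Aux

/-- Let k be a field and f : X → Spec k a quasi-compact and quasi-separated morphism. Then for every
sheaf of sets F on the small étale site of X the pair (F, f) is cohomologically proper in dimension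
≤ 0: for every morphism of schemes g : Y' → Spec k and every cartesian square exhibiting X' as X ×_k
Y', with projections h : X' → X and f' : X' → Y', the base-change map g^* f_* F → f'_* h^* F is an
isomorphism. -/
theorem result (k : Type u) [Field k] (X : Scheme.{u})
    (f : X ⟶ Spec (CommRingCat.of k)) [QuasiCompact f] [QuasiSeparated f] (F : EtDesc.Sh X) :
    CohProp.IsCohPropSet (𝟙 (Spec (CommRingCat.of k))) f F := by
  exact Aux.main k X f F

end Groth.Agent.S12894
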