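import Groth.Statements.S12912
import Mathlib
import Groth.Agent.Lib.Helper1.PullH0
import Groth.Agent.Lib.Helper1.CurveLin4
import Groth.Agent.Lib.Helper1.PullGen2
import Groth.Agent.Lib.Helper4.PnX1

set_option autoImplicit false
universe u
open CategoryTheory CategoryTheory.Limits AlgebraicGeometry
open Curves

namespace Groth.Agent.S12912

/-- Let k be an algebraically closed field and X a curve over k (integral, proper over k, of dimension
one) with a closed immersion i : X → P^r_k over k whose image lies in no hyperplane: every nonzero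
global section of O(1) on P^r_k pulls back to a nonzero global section of i^* O(1). Then deg i^*
O(1) ≥ r. -/
theorem result (k : Type u) [Field k] [IsAlgClosed k] (r : ℕ)
    (X : Scheme.{u}) [X.Over (Spec (CommRingCat.of k))] [IsIntegral X] [IsProper (X ↘ (Spec (CommRingCat.of k)))]
    (hdim : topologicalKrullDim X = 1)
    (i : X ⟶ CohB1.ProjSpace r k) [IsClosedImmersion i]
    (hi : i ≫ CohB1.ProjSpace.toSpec r k = (X ↘ (Spec (CommRingCat.of k))))
    (hplane : ∀ s : LinSer.Sect (CohB1.ProjSpace r k) (Twist.twistProjSpace r k 1), s ≠ 0 →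
      OmegaSh.pullSect i (Twist.twistProjSpace r k 1) ⊤ s ≠ 0) :
    (r : ℤ) ≤ Curv2.deg k X ((Scheme.Modules.pullback i).obj (Twist.twistProjSpace r k 1)) 1 := by
  haveI := Groth.Agent.Helper1.Euler.isNoetherian_of_proper k X
  have hL : PicF.IsInvertible ((Scheme.Modules.pullback i).obj (Twist.twistProjSpace r k 1)) :=
    Groth.Agent.Helper1.PullGen.isInvertible_pullback i
      (Groth.Agent.Lib.Helper4.ClBridge2.isInvertible_twist r k 1)
  have h0 := Groth.Agent.Helper1.CurveLin.finrank_HH_zero_eq_one_of_isAlgClosed k X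
  have hinj := Groth.Agent.Helper1.PullH0.pullH0_injective (A := k) i hi
    (Twist.twistProjSpace r k 1) (fun s hs => hplane s hs)
  have hLc : Coh.IsCoh ((Scheme.Modules.pullback i).obj (Twist.twistProjSpace r k 1)) :=
    Groth.Agent.Helper1.InvQc.isCoh_of_isInvertible _ hL
  haveI : Module.Finite k
      (Coh.HH X ((Scheme.Modules.pullback i).obj (Twist.twistProjSpace r k 1)) 0) :=
    Groth.Agent.Lib.Helper4.T2Main1.t2 k X _ hLc 0
  have hle := LinearMap.finrank_le_finrank_of_injective hinj
  have hP := Groth.Agent.Lib.Helper4.PnX1.fr_H0 k r 1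
  rw [show ((1 : ℕ) : ℤ) = 1 from rfl] at hP
  rw [hP] at hle
  have hch : (1 + r).choose r = r + 1 := by
    rw [add_comm, Nat.choose_symm_add, Nat.choose_one_right]
  rw [hch] at hle
  have hs : Nontrivial
      (Coh.HH X ((Scheme.Modules.pullback i).obj (Twist.twistProjSpace r k 1)) 0) := by
    apply Module.nontrivial_of_finrank_pos (R := k)
    omega
  obtain ⟨h1, -⟩ := Groth.Agent.Helper1.CurveLin.main k X hdim h0 _ hL hs
  have : ((r + 1 : ℕ) : ℤ) ≤ (Module.finrank k
      (Coh.HH X ((Scheme.Modules.pullback i).obj (Twist.twistProjSpace r k 1)) 0) : ℤ) := by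
    exact_mod_cast hle
  push_cast at this
  linarith

end Groth.Agent.S12912
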