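import Groth.Statements.S12916
import Mathlib

set_option autoImplicit false
universe u
open CAlgX

namespace Groth.Agent.S12916

section aux

/-- a finite module over a Noetherian ring all of whose supporting primes are maximal has finite
length -/
theorem isFiniteLength_of_forall_isMaximal {R : Type u} [CommRing R] [IsNoetherianRing R]
    {N : Type u} [AddCommGroup N] [Module R N] (hfin : Module.Finite R N)
    (h : ∀ p : Ideal R, p.IsPrime → Module.annihilator R N ≤ p → p.IsMaximal) :
    IsFiniteLength R N := by
  induction hfin using IsNoetherianRing.induction_on_isQuotientEquivQuotientPrime R with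
  | subsingleton N => exact .of_subsingleton
  | quotient N p f =>
    have hann : Module.annihilator R N = p.1 := by
      rw [f.annihilator_eq, Ideal.annihilator_quotient]
    have hmax : p.1.IsMaximal := h p.1 p.2 hann.le
    have : IsSimpleModule R (R ⧸ p.1) := isSimpleModule_iff_quot_maximal.mpr ⟨p.1, hmax, ⟨LinearEquiv.refl _ _⟩⟩
    have : IsSimpleModule R N := IsSimpleModule.congr f
    rw [isFiniteLength_iff_isNoetherian_isArtinian]
    exact ⟨inferInstance, inferInstance⟩
  | exact N₁ N₂ N₃ f g hf hg hfg h₁ h₃ =>
    have H1 : IsFiniteLength R N₁ := h₁ (fun p hp hle => h p hp (le_trans (by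
      intro r hr
      rw [Module.mem_annihilator] at hr ⊢
      intro x
      apply hf
      rw [map_smul, hr, map_zero]) hle))
    have H3 : IsFiniteLength R N₃ := h₃ (fun p hp hle => h p hp (le_trans (by
      intro r hr
      rw [Module.mem_annihilator] at hr ⊢
      intro x
      obtain ⟨y, rfl⟩ := hg x
      rw [← map_smul, hr, map_zero]) hle))
    rw [isFiniteLength_iff_isNoetherian_isArtinian] at H1 H3 ⊢
    have := H1.2
    have := H3.2
    exact ⟨inferInstance, isArtinian_of_range_eq_ker f g hfg.linearMap_ker_eq.symm⟩


end aux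

/-- Let k be an infinite field, S = k[x_0, …, x_r], M a finitely generated S-module and d a natural
number. Then some nonzero homogeneous polynomial f of degree d is quasi-regular on M: the submodule
(0 :_M f) of elements of M annihilated by f has finite length. (The published statement assumes M
graded; this row assumes only that M is finitely generated.) -/
theorem result (k : Type u) [Field k] [Infinite k] (r d : ℕ)
    (M : Type u) [AddCommGroup M] [Module (MvPolynomial (Fin (r + 1)) k) M] [Module.Finite (MvPolynomial (Fin (r + 1)) k) M] :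
    ∃ f : MvPolynomial (Fin (r + 1)) k, f.IsHomogeneous d ∧ f ≠ 0 ∧
      IsFiniteLength (MvPolynomial (Fin (r + 1)) k) ↥(Submodule.torsionBy (MvPolynomial (Fin (r + 1)) k) M f) := by
  classical
  set S := MvPolynomial (Fin (r + 1)) k with hS
  have hAssfin : (associatedPrimes S M).Finite := associatedPrimes.finite S M
  let V : Submodule k S := MvPolynomial.homogeneousSubmodule (Fin (r + 1)) k d
  -- non-maximal associated primes
  let T : Finset (Ideal S) := hAssfin.toFinset.filter (fun P => ¬ P.IsMaximal)
  let W : Ideal S → Submodule k V := fun P => Submodule.comap V.subtype (P.restrictScalars k)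
  have hW : ∀ P ∈ T, W P ≠ ⊤ := by
    intro P hP htop
    rw [Finset.mem_filter, Set.Finite.mem_toFinset] at hP
    obtain ⟨hPass, hPmax⟩ := hP
    have hPprime : P.IsPrime := hPass.isPrime
    have hall : ∀ g : S, g.IsHomogeneous d → g ∈ P := by
      intro g hg
      have : (⟨g, hg⟩ : V) ∈ W P := htop ▸ Submodule.mem_top
      exact this
    apply hPmax
    -- all X i in P
    have hX : ∀ i, (MvPolynomial.X i : S) ∈ P := by
      intro i
      rcases Nat.eq_zero_or_pos d with hd | hd
      · exfalso
        apply hPprime.ne_top
        rw [Ideal.eq_top_iff_one]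
        exact hall 1 (hd ▸ MvPolynomial.isHomogeneous_one _ _)
      · exact hPprime.mem_of_pow_mem d (hall _ (MvPolynomial.isHomogeneous_X_pow i d))
    have hker : RingHom.ker (MvPolynomial.eval (0 : Fin (r + 1) → k)) ≤ P := by
      intro g hg
      have h1 : g ∈ Ideal.span (MvPolynomial.X '' (Set.univ : Set (Fin (r + 1)))) := by
        rw [MvPolynomial.mem_ideal_span_X_image]
        intro m hm
        by_contra hno
        push Not at hno
        have hm0 : m = 0 := by
          ext i
          simpa using hno i (Set.mem_univ i)
        rw [RingHom.mem_ker, MvPolynomial.eval_zero, MvPolynomial.constantCoeff_eq] at hg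
        rw [MvPolynomial.mem_support_iff, hm0] at hm
        exact hm hg
      refine (Ideal.span_le.mpr ?_) h1
      rintro _ ⟨i, -, rfl⟩
      exact hX i
    have hmax : (RingHom.ker (MvPolynomial.eval (0 : Fin (r + 1) → k))).IsMaximal :=
      RingHom.ker_isMaximal_of_surjective _ (fun a => ⟨MvPolynomial.C a, by simp⟩)
    rw [← hmax.eq_of_le hPprime.ne_top hker]
    exact hmax
  -- V is nontrivial
  have hXd : (MvPolynomial.X 0 ^ d : S) ∈ V := MvPolynomial.isHomogeneous_X_pow 0 d
  have hXd0 : (MvPolynomial.X 0 ^ d : S) ≠ 0 := pow_ne_zero _ (MvPolynomial.X_ne_zero 0)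
  have hbot : (⊥ : Submodule k V) ≠ ⊤ := by
    intro h
    have : (⟨_, hXd⟩ : V) ∈ (⊥ : Submodule k V) := h ▸ Submodule.mem_top
    rw [Submodule.mem_bot] at this
    exact hXd0 (congrArg Subtype.val this)
  let s : Finset (Submodule k V) := insert ⊥ (T.image W)
  have hs : (⊤ : Submodule k V) ∉ s := by
    intro h
    rcases Finset.mem_insert.mp h with h | h
    · exact hbot h.symm
    · obtain ⟨P, hP, hPW⟩ := Finset.mem_image.mp h
      exact hW P hP hPW
  have hne := Subspace.biUnion_ne_univ_of_top_notMem hs
  obtain ⟨f, hf⟩ := (Set.ne_univ_iff_exists_notMem _).mp hne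
  simp only [Set.mem_iUnion, not_exists] at hf
  have hf0 : f ≠ 0 := fun h0 => hf ⊥ (Finset.mem_insert_self _ _) (h0 ▸ Submodule.zero_mem _)
  have hfT : ∀ P ∈ T, f.1 ∉ P := by
    intro P hP hfP
    exact hf (W P) (Finset.mem_insert_of_mem (Finset.mem_image_of_mem _ hP)) hfP
  refine ⟨f.1, f.2, fun h => hf0 (Subtype.ext h), ?_⟩
  set N := Submodule.torsionBy S M f.1 with hN
  have hNfin : Module.Finite S N := inferInstance
  apply isFiniteLength_of_forall_isMaximal hNfin
  intro Q hQ hle
  obtain ⟨q, hq, hqQ⟩ := Ideal.exists_minimalPrimes_le hle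
  have hqass : q ∈ associatedPrimes S N :=
    Module.associatedPrimes.minimalPrimes_annihilator_subset_associatedPrimes S N hq
  have hqM : q ∈ associatedPrimes S M :=
    associatedPrimes.subset_of_injective N.injective_subtype hqass
  have hfq : f.1 ∈ q := by
    apply hq.1.2
    rw [Module.mem_annihilator]
    intro x
    exact Subtype.ext (by simpa using x.2)
  have hqmax : q.IsMaximal := by
    by_contra hnm
    exact hfT q (by simp [T, hqM, hnm]) hfq
  rw [← hqmax.eq_of_le hQ.ne_top hqQ]
  exact hqmax

end Groth.Agent.S12916
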