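import Groth.Statements.S12921
import Mathlib
import Groth.Agent.Lib.Helper4.Reynolds

set_option autoImplicit false
universe u v w
open HopfRep

namespace Groth.Agent.S12921

/-- Let `k` be a commutative ring, `A` a commutative Hopf algebra over `k`, flat as a `k`-module, `B` a
commutative `k`-algebra with a coaction of `A` that is an algebra map and admits a total integral (a
comodule map `α : A → B` with `α 1 = 1`), and `C = B^A` the subring of invariants. Then for every
ideal `c` of `C` one has `cB ∩ C = c`. (The published statement assumes only that taking invariants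
is exact on `(B, A)`-modules; a total integral, assumed here, gives that exactness.) -/
theorem result
    (k : Type u) [CommRing k] (A : Type v) [CommRing A] [HopfAlgebra k A] [Module.Flat k A]
    (B : Type w) [CommRing B] [Algebra k B] [HopfRep.Comod k A B] [GLin.IsCoactAlg k A B]
    (htame : ∃ α : A →ₗ[k] B, Hoch.IsComodHom A α ∧ α 1 = 1)
    (c : Ideal (GLin.invariants k A B)) :
    (c.map (algebraMap (GLin.invariants k A B) B)).comap (algebraMap (GLin.invariants k A B) B) = c := by
  obtain ⟨α, hα, hα1⟩ := htame
  haveI := Groth.Agent.Helper4.Conv.isHopfMod_self (k := k) (A := A) (B := B)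
  have hE : ∀ b : B, TameAct.reynolds k A B B α b ∈ GLin.invariants k A B := fun b =>
    Groth.Agent.Helper4.Conv.reynolds_mem_fixedPts B α hα b
  apply le_antisymm ?_ Ideal.le_comap_map
  intro x hx
  rw [Ideal.mem_comap] at hx
  have key : ∀ y ∈ c.map (algebraMap (GLin.invariants k A B) B), ∀ b' : B,
      ∃ z ∈ c, (z : B) = TameAct.reynolds k A B B α (b' * y) := by
    intro y hy
    refine Submodule.span_induction ?_ ?_ ?_ ?_ hy
    · rintro _ ⟨c₀, hc₀, rfl⟩ b'
      refine ⟨c₀ * ⟨TameAct.reynolds k A B B α b', hE b'⟩, c.mul_mem_right _ hc₀, ?_⟩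
      have h := Groth.Agent.Helper4.Conv.reynolds_smul_of_invariant B α (c₀ : B) c₀.2 b'
      rw [smul_eq_mul] at h
      change (c₀ : B) * TameAct.reynolds k A B B α b' = TameAct.reynolds k A B B α (b' * (c₀ : B))
      rw [mul_comm b', h, smul_eq_mul]
    · intro b'
      exact ⟨0, c.zero_mem, by simp⟩
    · intro y y' _ _ hy hy' b'
      obtain ⟨z, hz, e⟩ := hy b'
      obtain ⟨z', hz', e'⟩ := hy' b'
      exact ⟨z + z', c.add_mem hz hz', by simp [mul_add, e, e']⟩
    · intro b y _ hy b'
      obtain ⟨z, hz, e⟩ := hy (b' * b)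
      exact ⟨z, hz, by rw [e, smul_eq_mul, mul_assoc]⟩
  obtain ⟨z, hz, e⟩ := key _ hx 1
  rw [one_mul] at e
  change (z : B) = TameAct.reynolds k A B B α (x : B) at e
  rw [Groth.Agent.Helper4.Conv.reynolds_eq_self B α hα1 _ x.2] at e
  have : z = x := Subtype.ext e
  rwa [← this]

end Groth.Agent.S12921
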