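import Groth.Statements.S12923
import Mathlib
import Groth.Agent.Lib.Helper4.Reynolds

set_option autoImplicit false
universe u v w
open HopfRep

namespace Groth.Agent.S12923

/-- Let `k` be a commutative ring, `A` a commutative Hopf algebra over `k`, flat as a `k`-module, `B` a
commutative `k`-algebra with a coaction of `A` that is an algebra map and admits a total integral (a
comodule map `α : A → B` with `α 1 = 1`), `C = B^A`, and `b` an ideal of `B` which is a subcomodule
(a closed subscheme of `Spec B` stable under the action). Then the image of `V(b)` under `Spec B →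
Spec C` is the closed set `V(b ∩ C)`. (The published statement assumes only that taking invariants
is exact on `(B, A)`-modules; a total integral, assumed here, gives that exactness.) -/
theorem result
    (k : Type u) [CommRing k] (A : Type v) [CommRing A] [HopfAlgebra k A] [Module.Flat k A]
    (B : Type w) [CommRing B] [Algebra k B] [HopfRep.Comod k A B] [GLin.IsCoactAlg k A B]
    (htame : ∃ α : A →ₗ[k] B, Hoch.IsComodHom A α ∧ α 1 = 1)
    (b : Ideal B) (hb : HopfRep.IsSubcomod (k := k) (A := A) (b.restrictScalars k)) :
    PrimeSpectrum.comap (algebraMap (GLin.invariants k A B) B) '' PrimeSpectrum.zeroLocus (b : Set B) =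
      PrimeSpectrum.zeroLocus ((b.comap (algebraMap (GLin.invariants k A B) B) : Ideal (GLin.invariants k A B)) : Set (GLin.invariants k A B)) := by
  obtain ⟨α, hα, hα1⟩ := htame
  haveI := Groth.Agent.Helper4.Conv.isHopfMod_self (k := k) (A := A) (B := B)
  have hE : ∀ b' : B, TameAct.reynolds k A B B α b' ∈ GLin.invariants k A B := fun b' =>
    Groth.Agent.Helper4.Conv.reynolds_mem_fixedPts B α hα b'
  apply Set.Subset.antisymm
  · rintro _ ⟨q, hq, rfl⟩
    rw [PrimeSpectrum.mem_zeroLocus] at hq ⊢
    intro x hx
    exact hq hx
  · intro p hp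
    rw [PrimeSpectrum.mem_zeroLocus] at hp
    have hle : (b ⊔ p.asIdeal.map (algebraMap (GLin.invariants k A B) B)).comap
        (algebraMap (GLin.invariants k A B) B) ≤ p.asIdeal := by
      intro x hx
      rw [Ideal.mem_comap] at hx
      obtain ⟨y, hy, w, hw, hyw⟩ := Submodule.mem_sup.mp hx
      have e1 : TameAct.reynolds k A B B α (x : B) = x :=
        Groth.Agent.Helper4.Conv.reynolds_eq_self B α hα1 _ x.2
      have e2 : TameAct.reynolds k A B B α y ∈ b :=
        Groth.Agent.Helper4.Conv.reynolds_mem_of_isSubcomod B α b hb y hy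
      obtain ⟨z, hz, e3⟩ := Groth.Agent.Helper4.Conv.reynolds_mem_of_mem_map α hα p.asIdeal w hw
      have e4 : (⟨TameAct.reynolds k A B B α y, hE y⟩ : GLin.invariants k A B) ∈ p.asIdeal :=
        hp (show (⟨TameAct.reynolds k A B B α y, hE y⟩ : GLin.invariants k A B) ∈
          b.comap (algebraMap (GLin.invariants k A B) B) from e2)
      have : x = ⟨TameAct.reynolds k A B B α y, hE y⟩ + z := by
        apply Subtype.ext
        change (x : B) = TameAct.reynolds k A B B α y + (z : B)
        rw [e3, ← map_add, hyw]
        exact e1.symm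
      rw [this]
      exact p.asIdeal.add_mem e4 hz
    obtain ⟨Q, hQ, hQp, hQle⟩ := Ideal.exists_ideal_comap_le_prime p.asIdeal _ hle
    refine ⟨⟨Q, hQp⟩, ?_, ?_⟩
    · rw [PrimeSpectrum.mem_zeroLocus]
      have : b ≤ Q := le_trans le_sup_left hQ
      exact this
    · apply PrimeSpectrum.ext
      apply le_antisymm hQle
      rw [← Ideal.map_le_iff_le_comap]
      exact le_trans le_sup_right hQ

end Groth.Agent.S12923
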