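import Groth.Statements.S12924
import Mathlib
import Groth.Agent.Lib.Helper4.Reynolds
import Groth.Agent.Lib.Helper3.CatQuot2

set_option autoImplicit false
universe u
open CategoryTheory AlgebraicGeometry
open HopfRep

namespace Groth.Agent.S12924

/-- Let `k` be a commutative ring, `A` a commutative Hopf algebra over `k`, flat as a `k`-module, `B` a
commutative `k`-algebra with a coaction `ρ : B → B ⊗ A` that is an algebra map and admits a total
integral (a comodule map `α : A → B` with `α 1 = 1`), and `C = B^A`. Then `Spec B → Spec C` is a
categorical quotient of the action in the category of schemes: for every scheme `Z` and every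
morphism `ψ : Spec B → Z` which is invariant, i.e. has the same composite with `Spec (B ⊗ A) → Spec
B` induced by `ρ` and by `b ↦ b ⊗ 1`, there is exactly one morphism `Spec C → Z` through which `ψ`
factors. (The published statement assumes only that taking invariants is exact on `(B, A)`-modules;
a total integral, assumed here, gives that exactness.) -/
theorem result
    (k : Type u) [CommRing k] (A : Type u) [CommRing A] [HopfAlgebra k A] [Module.Flat k A]
    (B : Type u) [CommRing B] [Algebra k B] [HopfRep.Comod k A B] [GLin.IsCoactAlg k A B]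
    (htame : ∃ α : A →ₗ[k] B, Hoch.IsComodHom A α ∧ α 1 = 1)
    (Z : Scheme.{u}) (ψ : Spec (CommRingCat.of B) ⟶ Z)
    (hψ : Spec.map (CommRingCat.ofHom (GLin.coactAlgHom k A B).toRingHom) ≫ ψ =
      Spec.map (CommRingCat.ofHom
        (Algebra.TensorProduct.includeLeftRingHom : B →+* TensorProduct k B A)) ≫ ψ) :
    ∃! χ : Spec (CommRingCat.of (GLin.invariants k A B)) ⟶ Z,
      Spec.map (CommRingCat.ofHom (algebraMap (GLin.invariants k A B) B)) ≫ χ = ψ := by
  obtain ⟨α, hα, hα1⟩ := htame
  haveI := Groth.Agent.Helper4.Conv.isHopfMod_self (k := k) (A := A) (B := B)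
  -- the `B`-linear map computing the Reynolds operator
  obtain ⟨Llin, hLlin⟩ : ∃ Llin : TensorProduct k B A →ₗ[k] B, Llin = TensorProduct.lift
      ((Algebra.lsmul k k B : B →ₐ[k] Module.End k B).toLinearMap ∘ₗ α ∘ₗ
        (HopfAlgebraStruct.antipode (R := k) (A := A))).flip := ⟨_, rfl⟩
  have hrey : ∀ b : B, TameAct.reynolds k A B B α b =
      Llin (HopfRep.Comod.coact (k := k) (A := A) b) := by
    intro b; rw [hLlin]; rfl
  have hLtmul : ∀ (b : B) (a : A), Llin (TensorProduct.tmul k b a) =
      α (HopfAlgebraStruct.antipode (R := k) a) * b := by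
    intro b a
    rw [hLlin]
    simp
  have hL : ∀ (b : B) (y : TensorProduct k B A),
      Llin ((Algebra.TensorProduct.includeLeftRingHom : B →+* TensorProduct k B A) b * y) =
        b * Llin y := by
    intro b y
    induction y using TensorProduct.induction_on with
    | zero => simp
    | tmul b' a =>
      rw [Algebra.TensorProduct.includeLeftRingHom_apply, Algebra.TensorProduct.tmul_mul_tmul,
        one_mul, hLtmul, hLtmul]
      ring
    | add y y' hy hy' => rw [mul_add, map_add, map_add, hy, hy', mul_add]
  have hmem : ∀ b : B, TameAct.reynolds k A B B α b ∈ GLin.invariants k A B := fun b =>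
    Groth.Agent.Helper4.Conv.reynolds_mem_fixedPts B α hα b
  -- the retraction
  let E : B →ₗ[GLin.invariants k A B] GLin.invariants k A B :=
    { toFun := fun b => ⟨TameAct.reynolds k A B B α b, hmem b⟩
      map_add' := fun x y => Subtype.ext (map_add _ x y)
      map_smul' := fun c b => Subtype.ext (by
        have h := Groth.Agent.Helper4.Conv.reynolds_smul_of_invariant B α (c : B) c.2 b
        exact h) }
  have hE : E 1 = 1 := by
    apply Subtype.ext
    exact Groth.Agent.Helper4.Conv.reynolds_eq_self B α hα1 1 (GLin.invariants k A B).one_mem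
  refine Groth.Agent.Helper3.CatQuot.catQuot (GLin.coactAlgHom k A B).toRingHom
    (Algebra.TensorProduct.includeLeftRingHom : B →+* TensorProduct k B A) ?_ E hE
    Llin.toAddMonoidHom hL ?_ ψ hψ
  · intro b
    constructor
    · intro hb
      exact ⟨⟨b, hb⟩, rfl⟩
    · rintro ⟨c, rfl⟩
      exact c.2
  · intro b
    exact hrey b

end Groth.Agent.S12924
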