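import Groth.Statements.S12926
import Mathlib

set_option autoImplicit false
universe u v
open HopfRep

namespace Groth.Agent.S12926

/-- Let `k` be a commutative ring and `A` a commutative bialgebra over `k`, flat as a `k`-module. If the
submodule `k · 1` of the regular comodule `A` has a complement `H` which is a subcomodule — the case
used when `A` is cosemisimple, i.e. every subcomodule of every comodule is a direct summand as a
comodule — then the trivial action of `Spec A` on `Spec k` is tame: there is a comodule map `α : A →
k`, for the regular coaction on `A` and the trivial coaction `r ↦ r ⊗ 1` on `k`, with `α 1 = 1`. -/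
theorem result
    (k : Type u) [CommRing k] (A : Type v) [CommRing A] [Bialgebra k A] [Module.Flat k A]
    (H : Submodule k A) (hH : HopfRep.IsSubcomod (k := k) (A := A) H)
    (hc : IsCompl (Submodule.span k {(1 : A)}) H) :
    ∃ α : A →ₗ[k] k, @Hoch.IsComodHom k _ A _ _ _ A _ _ _ k _ _ (HopfRep.Comod.trivial k A k) α ∧ α 1 = 1 := by
  classical
  set α : A →ₗ[k] k := (Coalgebra.counit (R := k) (A := A)) ∘ₗ
    (Submodule.span k {(1 : A)}).projection H hc with hα
  have hαH : ∀ h ∈ H, α h = 0 := by
    intro h hh
    simp [hα, Submodule.projection_apply_of_mem_right hc hh]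
  have hα11 : α 1 = 1 := by
    have hm : (1 : A) ∈ Submodule.span k {(1 : A)} := Submodule.subset_span rfl
    simp only [hα, LinearMap.comp_apply, Submodule.projection_apply_of_mem_left hc hm,
      Bialgebra.counit_one]
  refine ⟨α, ?_, hα11⟩
  unfold Hoch.IsComodHom
  ext a
  have hsup : a ∈ Submodule.span k {(1 : A)} ⊔ H := by rw [hc.sup_eq_top]; trivial
  obtain ⟨x, hx, h, hh, rfl⟩ := Submodule.mem_sup.mp hsup
  obtain ⟨c, rfl⟩ := Submodule.mem_span_singleton.mp hx
  simp only [LinearMap.comp_apply, map_add]
  congr 1
  · change (α (c • (1 : A))) ⊗ₜ[k] (1 : A) = α.rTensor A (Coalgebra.comul (R := k) (c • (1 : A)))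
    simp only [map_smul, Bialgebra.comul_one, Algebra.TensorProduct.one_def, LinearMap.rTensor_tmul,
      hα11, TensorProduct.smul_tmul']
  · change (α h) ⊗ₜ[k] (1 : A) = α.rTensor A (Coalgebra.comul (R := k) h)
    rw [hαH h hh, TensorProduct.zero_tmul]
    obtain ⟨t, ht⟩ := hH h hh
    change _ = Coalgebra.comul (R := k) h at ht
    rw [← ht, ← LinearMap.comp_apply, ← LinearMap.rTensor_comp]
    have : α ∘ₗ H.subtype = 0 := by
      ext y
      exact hαH y y.2
    rw [this]
    simp

end Groth.Agent.S12926
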