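import Groth.Statements.S12929
import Mathlib
import Groth.Agent.Lib.Helper4.HochLib

set_option autoImplicit false
universe u v w w'
open HopfRep

namespace Groth.Agent.S12929

/-- Let `k` be a commutative ring, `A` a commutative Hopf algebra over `k`, `M` a right `A`-comodule and
`N` a `k`-module; give `N ⊗ A` the coaction `id ⊗ Δ`. Then for every `k`-linear map `h : M → N` the
composite `(h ⊗ id_A) ∘ ρ_M : M → N ⊗ A` is a comodule map, and every comodule map `f : M → N ⊗ A`
is of this form for exactly one `h` (which is `(id_N ⊗ ε) ∘ f`): comodule maps `M → N ⊗ A`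
correspond bijectively to linear maps `M → N`. -/
theorem result
    (k : Type u) [CommRing k] (A : Type v) [CommRing A] [HopfAlgebra k A]
    (M : Type w) [AddCommGroup M] [Module k M] [HopfRep.Comod k A M]
    (N : Type w') [AddCommGroup N] [Module k N] :
    (∀ h : M →ₗ[k] N, Hoch.IsComodHom A
        ((Hoch.Ind.equiv k A N).toLinearMap ∘ₗ h.rTensor A ∘ₗ HopfRep.Comod.coact (k := k) (A := A))) ∧
      ∀ f : M →ₗ[k] Hoch.Ind k A N, Hoch.IsComodHom A f →
        ∃! h : M →ₗ[k] N,
          f = (Hoch.Ind.equiv k A N).toLinearMap ∘ₗ h.rTensor A ∘ₗ HopfRep.Comod.coact (k := k) (A := A) := by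
  constructor
  · intro h
    unfold Hoch.IsComodHom
    have e1 := Groth.Agent.Helper4.HochLib.coactAux_natural (k := k) (A := A) h
    have e2 := Groth.Agent.Helper4.HochLib.coassoc' (k := k) (A := A) (M := M)
    change Hoch.Ind.coactAux k A N ∘ₗ (h.rTensor A ∘ₗ HopfRep.Comod.coact (k := k) (A := A)) =
      (h.rTensor A ∘ₗ HopfRep.Comod.coact (k := k) (A := A)).rTensor A ∘ₗ HopfRep.Comod.coact (k := k) (A := A)
    rw [← LinearMap.comp_assoc, e1, LinearMap.comp_assoc, ← e2, LinearMap.rTensor_comp, LinearMap.comp_assoc]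
  · intro f hf
    refine ⟨Hoch.Ind.counit k A N ∘ₗ f, ?_, ?_⟩
    · unfold Hoch.IsComodHom at hf
      have e3 := Groth.Agent.Helper4.HochLib.counit_rTensor_coactAux (k := k) (A := A) (N := N)
      change f = (Hoch.Ind.counit k A N ∘ₗ f).rTensor A ∘ₗ HopfRep.Comod.coact (k := k) (A := A)
      rw [LinearMap.rTensor_comp, LinearMap.comp_assoc, ← hf]
      change f = (((TensorProduct.rid k N).toLinearMap ∘ₗ (Coalgebra.counit (R := k) (A := A)).lTensor N).rTensor A ∘ₗ
        Hoch.Ind.coactAux k A N) ∘ₗ f
      rw [e3]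
      rfl
    · intro h' hh'
      have e4 := Groth.Agent.Helper4.HochLib.counit_coact (k := k) (A := A) (M := M)
      rw [hh']
      change h' = ((TensorProduct.rid k N).toLinearMap ∘ₗ (Coalgebra.counit (R := k) (A := A)).lTensor N) ∘ₗ
        (h'.rTensor A ∘ₗ HopfRep.Comod.coact (k := k) (A := A))
      ext m
      have := LinearMap.congr_fun e4 m
      simp only [LinearMap.comp_apply, LinearEquiv.coe_coe, LinearMap.id_apply] at this ⊢
      conv_lhs => rw [← this]
      generalize HopfRep.Comod.coact (k := k) (A := A) m = t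
      induction t using TensorProduct.induction_on with
      | zero => simp
      | tmul x y => simp
      | add x y hx hy => simp only [map_add, hx, hy]

end Groth.Agent.S12929
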