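import Groth.Statements.S1293
-- import your own Groth.Agent.* helpers here
import Groth.Agent.Lib.Helper7.ProjFlat.Main

set_option autoImplicit false
universe u
open FlatMor

namespace Groth.Agent.S1293

open TensorProduct in
/-- Let B be a finitely presented A-algebra, T ⊆ B a multiplicative subset and N a finitely presented
T⁻¹B-module which admits a pure spreadout (FlatCA.HasPureSpreadout). Then (1) every x ∈ N has a
content ideal, i.e. a smallest ideal I of A with x ∈ IN; and (2) every A-linear map u from N to a
flat A-module M such that u ⊗ A/𝔪 is injective for every maximal ideal 𝔪 of A is universally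
injective over A. -/
theorem result {A B : Type u} [CommRing A] [CommRing B] [Algebra A B] [Algebra.FinitePresentation A B]
    (T : Submonoid B) (N : Type u) [AddCommGroup N] [Module (Localization T) N] [Module A N] [IsScalarTower A (Localization T) N]
    [Module.FinitePresentation (Localization T) N] (h : FlatCA.HasPureSpreadout A B T N) :
    (∀ x : N, ∃ I : Ideal A, x ∈ I • (⊤ : Submodule A N) ∧ ∀ J : Ideal A, x ∈ J • (⊤ : Submodule A N) → I ≤ J) ∧
    ∀ (M : Type u) [AddCommGroup M] [Module A M] [Module.Flat A M] (u : N →ₗ[A] M),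
      (∀ (m : Ideal A) [m.IsMaximal], Function.Injective (u.lTensor (A ⧸ m))) → FlatCA.UnivInj A u := by
  classical
  obtain ⟨C, _, _, _, _, _, _, _, _, _, _, N', _, _, _, _, g, hopen, hfp, hbc, hproj, hui⟩ := h
  haveI := hproj
  let gA : N' →ₗ[A] N := g.restrictScalars A
  have huiA : ∀ (Q : Type u) [AddCommGroup Q] [Module A Q], Function.Injective (gA.lTensor Q) :=
    fun Q _ _ => hui Q
  -- every element of `N` is a unit multiple of an element of `N'`
  have hsm : ∀ (b : B) (n' : N'), algebraMap B (Localization T) b • g n' =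
      g (algebraMap B C b • n') := by
    intro b n'
    rw [map_smul, IsScalarTower.algebraMap_apply B C (Localization T), algebraMap_smul]
  have hrep : ∀ n : N, ∃ (t : T) (n' : N'), algebraMap B (Localization T) t • n = g n' := by
    intro n
    refine hbc.inductionOn n
      (fun n => ∃ (t : T) (n' : N'), algebraMap B (Localization T) t • n = g n') ?_ ?_ ?_ ?_
    · exact ⟨1, 0, by simp⟩
    · intro m
      exact ⟨1, m, by simp⟩
    · rintro s n ⟨t, n', hn⟩
      obtain ⟨⟨b, t₁⟩, hb⟩ := IsLocalization.surj T s
      refine ⟨t₁ * t, algebraMap B C b • n', ?_⟩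
      have h1 : algebraMap B (Localization T) ((t₁ * t : T) : B) • (s • n) =
          (s * algebraMap B (Localization T) t₁) • (algebraMap B (Localization T) t • n) := by
        rw [Submonoid.coe_mul, map_mul, smul_smul, smul_smul]
        congr 1
        ring
      rw [h1, hb, hn, hsm]
    · rintro n₁ n₂ ⟨t₁, n'₁, h₁⟩ ⟨t₂, n'₂, h₂⟩
      refine ⟨t₁ * t₂, algebraMap B C t₂ • n'₁ + algebraMap B C t₁ • n'₂, ?_⟩
      have e1 : (algebraMap B (Localization T) t₁ * algebraMap B (Localization T) t₂) • n₁ =
          g (algebraMap B C t₂ • n'₁) := by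
        rw [mul_comm, mul_smul, h₁, hsm]
      have e2 : (algebraMap B (Localization T) t₁ * algebraMap B (Localization T) t₂) • n₂ =
          g (algebraMap B C t₁ • n'₂) := by
        rw [mul_smul, h₂, hsm]
      rw [Submonoid.coe_mul, map_mul, smul_add, map_add, e1, e2]
  refine ⟨?_, ?_⟩
  · -- content ideals
    intro x
    obtain ⟨t, n', hn⟩ := hrep x
    obtain ⟨I, hI1, hI2⟩ := Groth.Agent.Helper7.ProjFlat.exists_content gA huiA n'
    obtain ⟨l, hl⟩ := IsLocalization.map_units (Localization T) t
    refine ⟨I, ?_, ?_⟩
    · have hx : x = (DistribSMul.toLinearMap A N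
          ((l⁻¹ : (Localization T)ˣ) : Localization T)) (gA n') := by
        show x = ((l⁻¹ : (Localization T)ˣ) : Localization T) • g n'
        rw [← hn, ← hl, smul_smul, Units.inv_mul, one_smul]
      rw [hx]
      exact Groth.Agent.Helper7.ProjFlat.map_mem_smul_top _ I _ hI1
    · intro J hJ
      apply hI2 J
      have hg : gA n' = (DistribSMul.toLinearMap A N (l : Localization T)) x := by
        show g n' = (l : Localization T) • x
        rw [hl, hn]
      rw [hg]
      exact Groth.Agent.Helper7.ProjFlat.map_mem_smul_top _ J _ hJ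
  · -- universal injectivity
    intro M _ _ _ u hmax Q _ _
    let lam : Localization T → (N →ₗ[A] N) := fun l => DistribSMul.toLinearMap A N l
    let mulC : C → (N' →ₗ[A] N') := fun c => DistribSMul.toLinearMap A N' c
    have hcomm : ∀ b : B, lam (algebraMap B (Localization T) b) ∘ₗ gA =
        gA ∘ₗ mulC (algebraMap B C b) := by
      intro b
      ext n'
      exact hsm b n'
    have hrepT : ∀ x : Q ⊗[A] N, ∃ (t : T) (y : Q ⊗[A] N'),
        (lam (algebraMap B (Localization T) t)).lTensor Q x = gA.lTensor Q y := by
      intro x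
      induction x using TensorProduct.induction_on with
      | zero => exact ⟨1, 0, by simp⟩
      | tmul q n =>
        obtain ⟨t, n', hn⟩ := hrep n
        refine ⟨t, q ⊗ₜ n', ?_⟩
        rw [LinearMap.lTensor_tmul, LinearMap.lTensor_tmul]
        show q ⊗ₜ[A] (algebraMap B (Localization T) t • n) = q ⊗ₜ[A] g n'
        rw [hn]
      | add x₁ x₂ h₁ h₂ =>
        obtain ⟨t₁, y₁, e₁⟩ := h₁
        obtain ⟨t₂, y₂, e₂⟩ := h₂
        refine ⟨t₁ * t₂, (mulC (algebraMap B C t₂)).lTensor Q y₁ +
          (mulC (algebraMap B C t₁)).lTensor Q y₂, ?_⟩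
        have hl12 : lam (algebraMap B (Localization T) ((t₁ * t₂ : T) : B)) =
            lam (algebraMap B (Localization T) t₂) ∘ₗ lam (algebraMap B (Localization T) t₁) := by
          ext n
          show algebraMap B (Localization T) ((t₁ * t₂ : T) : B) • n =
            algebraMap B (Localization T) t₂ • (algebraMap B (Localization T) t₁ • n)
          rw [Submonoid.coe_mul, map_mul, mul_comm, mul_smul]
        have hl21 : lam (algebraMap B (Localization T) ((t₁ * t₂ : T) : B)) =
            lam (algebraMap B (Localization T) t₁) ∘ₗ lam (algebraMap B (Localization T) t₂) := by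
          ext n
          show algebraMap B (Localization T) ((t₁ * t₂ : T) : B) • n =
            algebraMap B (Localization T) t₁ • (algebraMap B (Localization T) t₂ • n)
          rw [Submonoid.coe_mul, map_mul, mul_smul]
        rw [map_add, map_add]
        congr 1
        · rw [hl12, LinearMap.lTensor_comp, LinearMap.comp_apply, e₁, ← LinearMap.comp_apply,
            ← LinearMap.lTensor_comp, hcomm, LinearMap.lTensor_comp, LinearMap.comp_apply]
        · rw [hl21, LinearMap.lTensor_comp, LinearMap.comp_apply, e₂, ← LinearMap.comp_apply,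
            ← LinearMap.lTensor_comp, hcomm, LinearMap.lTensor_comp, LinearMap.comp_apply]
    rw [injective_iff_map_eq_zero]
    intro x hx
    obtain ⟨t, y, hy⟩ := hrepT x
    obtain ⟨l, hl⟩ := IsLocalization.map_units (Localization T) t
    have hinv : lam ((l⁻¹ : (Localization T)ˣ) : Localization T) ∘ₗ
        lam (algebraMap B (Localization T) t) = LinearMap.id := by
      ext n
      show ((l⁻¹ : (Localization T)ˣ) : Localization T) • (algebraMap B (Localization T) t • n) = n
      rw [← hl, smul_smul, Units.inv_mul, one_smul]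
    have hinv' : lam (algebraMap B (Localization T) t) ∘ₗ
        lam ((l⁻¹ : (Localization T)ˣ) : Localization T) = LinearMap.id := by
      ext n
      show algebraMap B (Localization T) t • (((l⁻¹ : (Localization T)ˣ) : Localization T) • n) = n
      rw [← hl, smul_smul, Units.mul_inv, one_smul]
    let ut : N' →ₗ[A] M := u ∘ₗ lam ((l⁻¹ : (Localization T)ˣ) : Localization T) ∘ₗ gA
    have hinjInv : ∀ (Q₁ : Type u) [AddCommGroup Q₁] [Module A Q₁], Function.Injective
        ((lam ((l⁻¹ : (Localization T)ˣ) : Localization T)).lTensor Q₁) := by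
      intro Q₁ _ _ a b hab
      have h1 := congrArg ((lam (algebraMap B (Localization T) t)).lTensor Q₁) hab
      rwa [← LinearMap.comp_apply, ← LinearMap.comp_apply, ← LinearMap.lTensor_comp, hinv',
        LinearMap.lTensor_id, LinearMap.id_apply, LinearMap.id_apply] at h1
    have hut : ∀ (m : Ideal A) [m.IsMaximal], Function.Injective (ut.lTensor (A ⧸ m)) := by
      intro m _
      have h1 : ut.lTensor (A ⧸ m) = (u.lTensor (A ⧸ m)) ∘ₗ
          ((lam ((l⁻¹ : (Localization T)ˣ) : Localization T)).lTensor (A ⧸ m)) ∘ₗ
            (gA.lTensor (A ⧸ m)) := by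
        rw [← LinearMap.lTensor_comp, ← LinearMap.lTensor_comp]
      rw [h1, LinearMap.coe_comp, LinearMap.coe_comp]
      exact (hmax m).comp ((hinjInv (A ⧸ m)).comp (huiA (A ⧸ m)))
    have hy0 : ut.lTensor Q y = 0 := by
      show (u ∘ₗ lam ((l⁻¹ : (Localization T)ˣ) : Localization T) ∘ₗ gA).lTensor Q y = 0
      rw [LinearMap.lTensor_comp, LinearMap.lTensor_comp, LinearMap.comp_apply,
        LinearMap.comp_apply, ← hy, ← LinearMap.comp_apply
          ((lam ((l⁻¹ : (Localization T)ˣ) : Localization T)).lTensor Q),
        ← LinearMap.lTensor_comp, hinv, LinearMap.lTensor_id, LinearMap.id_apply, hx]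
    have hy1 : y = 0 :=
      Groth.Agent.Helper7.ProjFlat.lTensor_injective_of_projective ut hut Q
        (by rw [hy0, map_zero])
    have h2 : (lam (algebraMap B (Localization T) t)).lTensor Q x = 0 := by
      rw [hy, hy1, map_zero]
    have h3 := congrArg ((lam ((l⁻¹ : (Localization T)ˣ) : Localization T)).lTensor Q) h2
    rwa [← LinearMap.comp_apply, ← LinearMap.lTensor_comp, hinv, LinearMap.lTensor_id,
      LinearMap.id_apply, map_zero] at h3

end Groth.Agent.S1293
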