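import Groth.Statements.S12931
import Mathlib

set_option autoImplicit false
universe u v w
open HopfRep

namespace Groth.Agent.S12931

/-- Let `R` be a commutative ring, `Γ` a finite set and `T` a commutative `R`-algebra which is
connected: nonzero, with no idempotents other than `0` and `1`. Then `γ ↦ (evaluation at γ : (Γ → R)
→ R → T)` is a bijection from `Γ` onto the `R`-algebra maps `(Γ → R) → T`: every such map sends
exactly one of the indicator functions to `1` and the others to `0`. (Only the bijection of sets is
stated; when `Γ` is a group, the compatibility with the group structures on both sides is not.) -/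
theorem result
    (R : Type u) [CommRing R] (Γ : Type v) [Finite Γ]
    (T : Type w) [CommRing T] [Algebra R T] [Nontrivial T]
    (hT : ∀ e : T, IsIdempotentElem e → e = 0 ∨ e = 1) :
    Function.Bijective (fun γ : Γ => (Algebra.ofId R T).comp (Pi.evalAlgHom R (fun _ : Γ => R) γ)) := by
  classical
  cases nonempty_fintype Γ
  constructor
  · intro γ γ' h
    by_contra hne
    have h1 := congrArg (fun φ => φ (Pi.single γ (1 : R))) h
    simp only [AlgHom.comp_apply, Pi.evalAlgHom_apply, Pi.single_eq_same,
      Pi.single_eq_of_ne' hne, map_one, map_zero] at h1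
    exact one_ne_zero h1
  · intro φ
    -- the idempotents
    have hid : ∀ γ, IsIdempotentElem (φ (Pi.single γ (1 : R))) := by
      intro γ
      have : IsIdempotentElem (Pi.single γ (1 : R) : Γ → R) := by
        unfold IsIdempotentElem
        rw [← Pi.single_mul, one_mul]
      exact this.map φ
    have hsum : ∑ γ, φ (Pi.single γ (1 : R)) = 1 := by
      rw [← map_sum, Finset.univ_sum_single]
      exact map_one φ
    have hex : ∃ γ₀, φ (Pi.single γ₀ (1 : R)) = 1 := by
      by_contra hno
      push Not at hno
      have : ∀ γ, φ (Pi.single γ (1 : R)) = 0 := fun γ =>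
        (hT _ (hid γ)).resolve_right (hno γ)
      rw [Finset.sum_congr rfl (fun γ _ => this γ), Finset.sum_const_zero] at hsum
      exact zero_ne_one hsum
    obtain ⟨γ₀, hγ₀⟩ := hex
    have hother : ∀ γ, γ ≠ γ₀ → φ (Pi.single γ (1 : R)) = 0 := by
      intro γ hγ
      have h0 : (Pi.single γ (1 : R) : Γ → R) * Pi.single γ₀ (1 : R) = 0 := by
        ext δ
        simp only [Pi.mul_apply, Pi.zero_apply]
        by_cases hδ : δ = γ
        · subst hδ
          rw [Pi.single_eq_of_ne hγ, mul_zero]
        · rw [Pi.single_eq_of_ne hδ, zero_mul]
      have := congrArg φ h0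
      rw [map_mul, hγ₀, mul_one, map_zero] at this
      exact this
    refine ⟨γ₀, ?_⟩
    apply AlgHom.ext
    intro a
    have ha : a = ∑ γ, a γ • (Pi.single γ (1 : R) : Γ → R) := by
      ext δ
      simp [Finset.sum_apply, Pi.single_apply]
    simp only [AlgHom.comp_apply, Pi.evalAlgHom_apply, Algebra.ofId_apply]
    conv_rhs => rw [ha, map_sum]
    rw [Finset.sum_eq_single γ₀]
    · rw [map_smul, hγ₀, Algebra.algebraMap_eq_smul_one]
    · intro γ _ hγ
      rw [map_smul, hother γ hγ, smul_zero]
    · intro h; exact absurd (Finset.mem_univ _) h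

end Groth.Agent.S12931
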