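import Groth.Statements.S12932
import Mathlib

set_option autoImplicit false
universe u v
open scoped BigOperators
open InvTh

namespace Groth.Agent.S12932

section aux

variable {B : Type u} [CommRing B] {Γ : Type v} [Group Γ] [Fintype Γ] [MulSemiringAction Γ B]

/-- The character `b ↦ γ • b mod P`. -/
noncomputable def χ (P : Ideal B) (γ : Γ) : B →* (B ⧸ P) :=
  ((Ideal.Quotient.mk P).comp (MulSemiringAction.toRingHom Γ B γ) : B →+* B ⧸ P)

@[simp] lemma χ_apply (P : Ideal B) (γ : Γ) (b : B) : χ P γ b = Ideal.Quotient.mk P (γ • b) := rfl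

lemma χ_eq_iff (P : Ideal B) (γ γ₀ : Γ) : χ P γ = χ P γ₀ ↔ γ * γ₀⁻¹ ∈ P.inertia Γ := by
  rw [AddSubgroup.mem_inertia]
  constructor
  · intro h x
    have := DFunLike.congr_fun h (γ₀⁻¹ • x)
    simp only [χ_apply, smul_inv_smul] at this
    rw [mul_smul]
    exact Ideal.Quotient.eq.mp this
  · intro h
    ext x
    have := h (γ₀ • x)
    rw [mul_smul, inv_smul_smul] at this
    exact Ideal.Quotient.eq.mpr this

open Classical in
lemma card_fiber (P : Ideal B) (γ₀ : Γ) :
    (Finset.univ.filter (fun γ : Γ => χ P γ = χ P γ₀)).card = Nat.card (P.inertia Γ) := by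
  rw [Nat.card_eq_fintype_card, ← Fintype.card_subtype]
  apply Fintype.card_congr
  refine ⟨fun γ => ⟨γ.1 * γ₀⁻¹, (χ_eq_iff P γ.1 γ₀).mp γ.2⟩,
    fun i => ⟨i.1 * γ₀, (χ_eq_iff P _ γ₀).mpr (by simpa using i.2)⟩, ?_, ?_⟩
  · intro γ; simp
  · intro i; simp

open Classical in
lemma key (P : Ideal B) (b : B) :
    Ideal.Quotient.mk P (∑ γ : Γ, γ • b) =
      ∑ ψ ∈ Finset.univ.image (χ (Γ := Γ) P),
        (Finset.univ.filter (fun γ : Γ => χ P γ = ψ)).card • ψ b := by
  rw [map_sum]
  exact Finset.sum_comp (fun ψ : B →* (B ⧸ P) => ψ b) (χ P)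


end aux

/-- Let `B` be a commutative ring with an action of a finite group `Γ` by ring automorphisms, and call a
prime ideal `P` of `B` tame when the order of its inertia group `{γ | γ • x - x ∈ P for all x}` is
not divisible by the characteristic of `B/P` (its ramification group is trivial). Then every prime
of `B` is tame if and only if the trace `b ↦ Σ_γ γ • b`, which takes values in the invariant ring
`B^Γ` and is `B^Γ`-linear, is onto `B^Γ` — equivalently, some element of `B` has trace `1`. -/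
theorem result
    (B : Type u) [CommRing B] (Γ : Type v) [Group Γ] [Fintype Γ] [MulSemiringAction Γ B] :
    (∃ b : B, ∑ γ : Γ, γ • b = 1) ↔
      ∀ P : Ideal B, P.IsPrime → ((Nat.card (P.inertia Γ) : ℕ) : B ⧸ P) ≠ 0 := by
  classical
  constructor
  · rintro ⟨b, hb⟩ P hP h0
    have h := key (Γ := Γ) P b
    rw [hb, map_one] at h
    have : (1 : B ⧸ P) = 0 := by
      rw [h]
      apply Finset.sum_eq_zero
      intro ψ hψ
      obtain ⟨γ₀, -, rfl⟩ := Finset.mem_image.mp hψ
      rw [card_fiber, nsmul_eq_mul, h0, zero_mul]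
    have hnt : Nontrivial (B ⧸ P) := Ideal.Quotient.nontrivial_iff.mpr hP.ne_top
    exact one_ne_zero this
  · intro h
    by_contra hno
    let A := FixedPoints.subring B Γ
    have hinv : Algebra.IsInvariant A B Γ := ⟨fun b hb => ⟨⟨b, hb⟩, rfl⟩⟩
    have hint : Algebra.IsIntegral A B := Algebra.IsInvariant.isIntegral A B Γ
    let 𝔞 : Ideal A :=
      { carrier := {a | ∃ b : B, ∑ γ : Γ, γ • b = a.1}
        zero_mem' := ⟨0, by simp⟩
        add_mem' := by
          rintro a a' ⟨b, hb⟩ ⟨b', hb'⟩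
          exact ⟨b + b', by simp [smul_add, Finset.sum_add_distrib, hb, hb']⟩
        smul_mem' := by
          rintro c a ⟨b, hb⟩
          refine ⟨c.1 * b, ?_⟩
          have hc : ∀ γ : Γ, γ • c.1 = c.1 := c.2
          simp only [smul_mul', hc, ← Finset.mul_sum, hb]
          rfl }
    have h𝔞 : 𝔞 ≠ ⊤ := by
      intro htop
      have h1 : (1 : A) ∈ 𝔞 := htop ▸ Submodule.mem_top
      obtain ⟨b, hb⟩ := h1
      exact hno ⟨b, hb⟩
    obtain ⟨𝔪, h𝔪, hle⟩ := Ideal.exists_le_maximal 𝔞 h𝔞
    obtain ⟨Q, hQmax, hQ⟩ := Ideal.exists_ideal_over_maximal_of_isIntegral (S := B) 𝔪 (by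
      have : RingHom.ker (algebraMap A B) = ⊥ :=
        (RingHom.injective_iff_ker_eq_bot _).mp Subtype.val_injective
      rw [this]; exact bot_le)
    have hQprime : Q.IsPrime := hQmax.isPrime
    have htr : ∀ b : B, ∑ γ : Γ, γ • b ∈ Q := by
      intro b
      have hinvb : ∀ g : Γ, g • (∑ γ : Γ, γ • b) = ∑ γ : Γ, γ • b := by
        intro g
        rw [Finset.smul_sum]
        exact Fintype.sum_equiv (Equiv.mulLeft g) _ _ (fun γ => by simp [mul_smul])
      have hmem : (⟨∑ γ : Γ, γ • b, hinvb⟩ : A) ∈ 𝔞 := ⟨b, rfl⟩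
      have := hle hmem
      rw [← hQ] at this
      exact this
    -- Dedekind
    have hsum : ∑ ψ ∈ Finset.univ.image (χ (Γ := Γ) Q),
        (((Finset.univ.filter (fun γ : Γ => χ Q γ = ψ)).card : ℕ) : B ⧸ Q) • (ψ : B → B ⧸ Q) = 0 := by
      funext b
      have := key (Γ := Γ) Q b
      rw [Ideal.Quotient.eq_zero_iff_mem.mpr (htr b)] at this
      simp only [Finset.sum_apply, Pi.smul_apply, smul_eq_mul, Pi.zero_apply]
      rw [this]
      simp [nsmul_eq_mul]
    have hli := linearIndependent_iff'.mp (linearIndependent_monoidHom B (B ⧸ Q)) _ _ hsum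
      (χ Q (1 : Γ)) (Finset.mem_image_of_mem _ (Finset.mem_univ _))
    rw [card_fiber] at hli
    exact h Q hQprime hli

end Groth.Agent.S12932
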