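import Groth.Statements.S12934
import Mathlib

set_option autoImplicit false
universe u v
open InvTh

namespace Groth.Agent.S12934

namespace H12934
open IsLocalRing

section
variable {B : Type*} [CommRing B] [IsLocalRing B] {Γ : Type*} [Group Γ] [MulSemiringAction Γ B]
  (hin : ∀ (γ : Γ) (b : B), γ • b - b ∈ maximalIdeal B)
  (hst : ∀ (γ : Γ) (b : B), ∃ u : B, γ • b = b * u)

/-- the character value -/
noncomputable def chi (γ : Γ) (b : B) : ResidueField B := residue B (hst γ b).choose

lemma chi_spec (γ : Γ) (b : B) : γ • b = b * (hst γ b).choose := (hst γ b).choose_spec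

lemma chi_eq {γ : Γ} {b : B} (hb : b ≠ 0) {u : B} (hu : γ • b = b * u) :
    residue B u = chi hst γ b := by
  by_contra hne
  have h1 : b * (u - (hst γ b).choose) = 0 := by
    rw [mul_sub, ← hu, ← chi_spec hst γ b, sub_self]
  have h2 : IsUnit (u - (hst γ b).choose) := by
    rw [← IsLocalRing.notMem_maximalIdeal, ← residue_eq_zero_iff, map_sub, sub_eq_zero]
    exact hne
  exact hb (h2.mul_left_eq_zero.mp h1)

include hin in
lemma residue_smul (γ : Γ) (u : B) : residue B (γ • u) = residue B u := by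
  rw [← sub_eq_zero, ← map_sub, residue_eq_zero_iff]
  exact hin γ u

include hin in
lemma chi_mul (γ δ : Γ) {b : B} (hb : b ≠ 0) :
    chi hst (γ * δ) b = chi hst γ b * chi hst δ b := by
  have h1 : (γ * δ) • b = b * ((hst γ b).choose * γ • (hst δ b).choose) := by
    rw [mul_smul]
    conv_lhs => rw [chi_spec hst δ b, smul_mul', chi_spec hst γ b]
    ring
  rw [← chi_eq hst hb h1, map_mul, residue_smul hin]
  rfl

lemma chi_one {b : B} (hb : b ≠ 0) : chi hst (1 : Γ) b = 1 := by
  have h1 : (1 : Γ) • b = b * 1 := by rw [one_smul, mul_one]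
  rw [← chi_eq hst hb h1, map_one]

include hin in
lemma chi_pow (γ : Γ) {b : B} (hb : b ≠ 0) (n : ℕ) : chi hst (γ ^ n) b = chi hst γ b ^ n := by
  induction n with
  | zero => rw [pow_zero, pow_zero, chi_one hst hb]
  | succ n ih => rw [pow_succ, pow_succ, chi_mul hin hst _ _ hb, ih]

include hin in
lemma chi_inv (γ : Γ) {b : B} (hb : b ≠ 0) : chi hst γ b * chi hst γ⁻¹ b = 1 := by
  rw [← chi_mul hin hst _ _ hb, mul_inv_cancel, chi_one hst hb]

/-- membership in `S` in terms of characters -/
lemma mem_S_iff (γ : Γ) :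
    (∀ b : B, ∃ x ∈ maximalIdeal B, γ • b = b + b * x) ↔ ∀ b : B, b ≠ 0 → chi hst γ b = 1 := by
  constructor
  · intro h b hb
    obtain ⟨x, hx, hbx⟩ := h b
    have h1 : γ • b = b * (1 + x) := by rw [hbx]; ring
    rw [← chi_eq hst hb h1, map_add, map_one, (residue_eq_zero_iff x).mpr hx, add_zero]
  · intro h b
    by_cases hb : b = 0
    · exact ⟨0, Ideal.zero_mem _, by rw [hb, smul_zero]; ring⟩
    · refine ⟨(hst γ b).choose - 1, ?_, ?_⟩
      · rw [← residue_eq_zero_iff, map_sub, map_one, sub_eq_zero]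
        exact h b hb
      · have := chi_spec hst γ b
        calc γ • b = b * (hst γ b).choose := this
          _ = b + b * ((hst γ b).choose - 1) := by ring

/-- `S` as a subgroup -/
def SS : Subgroup Γ where
  carrier := {γ | ∀ b : B, b ≠ 0 → chi hst γ b = 1}
  one_mem' := fun b hb => chi_one hst hb
  mul_mem' := by
    intro γ δ hγ hδ b hb
    rw [chi_mul hin hst _ _ hb, hγ b hb, hδ b hb, mul_one]
  inv_mem' := by
    intro γ hγ b hb
    have := chi_inv hin hst γ hb
    rw [hγ b hb, one_mul] at this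
    exact this

lemma mem_SS (γ : Γ) : γ ∈ SS hin hst ↔ ∀ b : B, b ≠ 0 → chi hst γ b = 1 := Iff.rfl

lemma key [FaithfulSMul Γ B] (γ : Γ) (hγ : γ ∈ SS hin hst) (q : ℕ) (hq : γ ^ q = 1)
    (hqk : (q : ResidueField B) ≠ 0) : γ = 1 := by
  have hqu : IsUnit (q : B) := by
    rw [← IsLocalRing.notMem_maximalIdeal, ← residue_eq_zero_iff, map_natCast]
    exact hqk
  apply eq_of_smul_eq_smul (α := B)
  intro b
  rw [one_smul]
  set s : B := ∑ i ∈ Finset.range q, γ ^ i • b with hs
  have h1 : γ • s = s := by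
    rw [hs, Finset.smul_sum]
    simp_rw [← mul_smul, ← pow_succ']
    have e1 := Finset.sum_range_succ' (fun i => γ ^ i • b) q
    have e2 := Finset.sum_range_succ (fun i => γ ^ i • b) q
    rw [e1] at e2
    simp only [pow_zero, one_smul, hq] at e2
    exact add_right_cancel e2
  have h1' : ∀ i : ℕ, γ ^ i • s = s := by
    intro i
    induction i with
    | zero => rw [pow_zero, one_smul]
    | succ i ih => rw [pow_succ', mul_smul, ih, h1]
  set d : B := (q : B) * b - s with hd
  have h2 : ∑ i ∈ Finset.range q, γ ^ i • d = 0 := by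
    simp_rw [hd, smul_sub, smul_mul', h1']
    rw [Finset.sum_sub_distrib]
    have : ∀ i : ℕ, γ ^ i • (q : B) = (q : B) := fun i =>
      map_natCast (MulSemiringAction.toRingHom Γ B (γ ^ i)) q
    simp_rw [this]
    rw [← Finset.mul_sum, ← hs, Finset.sum_const, Finset.card_range, nsmul_eq_mul, sub_self]
  have h3 : ∀ i : ℕ, ∃ x ∈ maximalIdeal B, γ ^ i • d = d + d * x := fun i =>
    (mem_S_iff hst (γ ^ i)).mpr ((SS hin hst).pow_mem hγ i) d
  choose x hx1 hx2 using h3
  have h4 : d * ((q : B) + ∑ i ∈ Finset.range q, x i) = 0 := by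
    rw [← h2]
    simp_rw [hx2]
    rw [Finset.sum_add_distrib, Finset.sum_const, Finset.card_range, nsmul_eq_mul, ← Finset.mul_sum]
    ring
  have h5 : IsUnit ((q : B) + ∑ i ∈ Finset.range q, x i) := by
    rw [← IsLocalRing.notMem_maximalIdeal, ← residue_eq_zero_iff, map_add, map_natCast,
      (residue_eq_zero_iff _).mpr (Ideal.sum_mem _ (fun i _ => hx1 i)), add_zero]
    exact hqk
  have hd0 : d = 0 := h5.mul_left_eq_zero.mp h4
  have h6 : (q : B) * b = s := sub_eq_zero.mp hd0
  have h7 : (q : B) * (γ • b) = (q : B) * b := by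
    have : γ • ((q : B) * b) = γ • s := by rw [h6]
    rw [smul_mul', h1, ← h6] at this
    rwa [show γ • (q : B) = (q : B) from map_natCast (MulSemiringAction.toRingHom Γ B γ) q] at this
  exact hqu.mul_left_cancel h7

end
end H12934

namespace H12934
open IsLocalRing

theorem main (B : Type*) [CommRing B] [IsLocalRing B]
    (Γ : Type*) [Group Γ] [Finite Γ] [MulSemiringAction Γ B] [FaithfulSMul Γ B]
    (hin : ∀ (γ : Γ) (b : B), γ • b - b ∈ IsLocalRing.maximalIdeal B)
    (hst : ∀ (γ : Γ) (b : B), ∃ u : B, γ • b = b * u)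
    (S : Set Γ)
    (hS : ∀ γ : Γ, γ ∈ S ↔ ∀ b : B, ∃ x ∈ IsLocalRing.maximalIdeal B, γ • b = b + b * x) :
    (ringChar (IsLocalRing.ResidueField B) = 0 → S = {1}) ∧
      (∀ (p : ℕ) [Fact p.Prime], ringChar (IsLocalRing.ResidueField B) = p →
        ∃ Q : Sylow p Γ, (Q : Set Γ) = S) ∧
      (∀ γ δ : Γ, γ * δ * γ⁻¹ * δ⁻¹ ∈ S) ∧
      (∀ (γ : Γ) (n : ℕ), 0 < n → γ ^ n ∈ S → (∀ i : ℕ, 0 < i → i < n → γ ^ i ∉ S) →
        ∃ ζ : IsLocalRing.ResidueField B, IsPrimitiveRoot ζ n) := by
  have hSS : ∀ γ : Γ, γ ∈ S ↔ γ ∈ SS hin hst := fun γ =>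
    (hS γ).trans (mem_S_iff hst γ)
  refine ⟨?_, ?_, ?_, ?_⟩
  · -- char 0
    intro h0
    ext γ
    rw [Set.mem_singleton_iff]
    constructor
    · intro hγ
      apply key hin hst γ ((hSS γ).mp hγ) (orderOf γ) (pow_orderOf_eq_one γ)
      intro hz
      rw [ringChar.spec, h0, zero_dvd_iff] at hz
      exact (orderOf_pos γ).ne' hz
    · rintro rfl
      exact (hSS 1).mpr (SS hin hst).one_mem
  · -- char p
    intro p hp hchar
    have hcp : CharP (ResidueField B) p := by
      rw [← hchar]; exact ringChar.charP _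
    have hpg : IsPGroup p (SS hin hst) := by
      intro g
      obtain ⟨e, m, hm, ho⟩ := Nat.exists_eq_pow_mul_and_not_dvd (orderOf_pos (g : Γ)).ne' p
        hp.out.ne_one
      refine ⟨e, ?_⟩
      apply Subtype.ext
      rw [Subgroup.coe_pow, Subgroup.coe_one]
      apply key hin hst _ ((SS hin hst).pow_mem g.2 _) m
      · rw [← pow_mul, ← ho, pow_orderOf_eq_one]
      · intro hz
        rw [CharP.cast_eq_zero_iff (ResidueField B) p] at hz
        exact hm hz
    obtain ⟨Q, hQ⟩ := hpg.exists_le_sylow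
    have hstar : ∀ γ : Γ, γ ^ p ∈ SS hin hst → γ ∈ SS hin hst := by
      intro γ hγ b hb
      have h1 := hγ b hb
      rw [chi_pow hin hst γ hb] at h1
      have h2 : frobenius (ResidueField B) p (chi hst γ b) = frobenius (ResidueField B) p 1 := by
        rw [frobenius_def, frobenius_def, h1, one_pow]
      exact frobenius_inj (ResidueField B) p h2
    have hstar' : ∀ (n : ℕ) (γ : Γ), γ ^ (p ^ n) ∈ SS hin hst → γ ∈ SS hin hst := by
      intro n
      induction n with
      | zero => intro γ h; simpa using h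
      | succ n ih =>
        intro γ h
        apply ih
        apply hstar
        rw [← pow_mul, ← pow_succ]
        exact h
    refine ⟨Q, ?_⟩
    ext γ
    rw [hSS]
    constructor
    · intro hγ
      obtain ⟨n, hn⟩ := Q.isPGroup' ⟨γ, hγ⟩
      apply hstar' n
      have : γ ^ p ^ n = 1 := by
        have := congrArg Subtype.val hn
        simpa using this
      rw [this]
      exact (SS hin hst).one_mem
    · intro hγ
      exact hQ hγ
  · -- commutators
    intro γ δ
    rw [hSS]
    intro b hb
    rw [chi_mul hin hst _ _ hb, chi_mul hin hst _ _ hb, chi_mul hin hst _ _ hb]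
    have h1 := chi_inv hin hst γ hb
    have h2 := chi_inv hin hst δ hb
    calc chi hst γ b * chi hst δ b * chi hst γ⁻¹ b * chi hst δ⁻¹ b
        = (chi hst γ b * chi hst γ⁻¹ b) * (chi hst δ b * chi hst δ⁻¹ b) := by ring
      _ = 1 := by rw [h1, h2, mul_one]
  · -- primitive roots
    intro γ n hn hγn hmin
    have : NeZero n := ⟨hn.ne'⟩
    obtain ⟨ξ, hξ⟩ := IsCyclic.exists_generator (α := rootsOfUnity n (ResidueField B))
    set m := orderOf ξ with hm
    have hmpos : 0 < m := orderOf_pos ξ
    have hmn : m ∣ n := by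
      apply orderOf_dvd_of_pow_eq_one
      apply Subtype.ext
      have := ξ.2
      rw [mem_rootsOfUnity] at this
      simpa using this
    have hall : ∀ b : B, b ≠ 0 → chi hst γ b ^ m = 1 := by
      intro b hb
      have hunit : IsUnit (chi hst γ b) :=
        IsUnit.of_mul_eq_one _ (chi_inv hin hst γ hb)
      obtain ⟨z, hz⟩ := hunit
      have hzn : z ∈ rootsOfUnity n (ResidueField B) := by
        rw [mem_rootsOfUnity']
        rw [hz, ← chi_pow hin hst γ hb]
        exact (hSS _).mp hγn b hb
      obtain ⟨k, hk⟩ := hξ ⟨z, hzn⟩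
      have h1 : (⟨z, hzn⟩ : rootsOfUnity n (ResidueField B)) ^ m = 1 := by
        rw [← hk, ← zpow_natCast, ← zpow_mul, mul_comm, zpow_mul, zpow_natCast, pow_orderOf_eq_one,
          one_zpow]
      have h2 : z ^ m = 1 := by
        have := congrArg Subtype.val h1
        simpa using this
      rw [← hz, ← Units.val_pow_eq_pow_val, h2, Units.val_one]
    have hγm : γ ^ m ∈ S := by
      rw [hSS]
      intro b hb
      rw [chi_pow hin hst γ hb]
      exact hall b hb
    have hmeq : m = n := by
      by_contra hne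
      have hlt : m < n := lt_of_le_of_ne (Nat.le_of_dvd hn hmn) hne
      exact hmin m hmpos hlt hγm
    refine ⟨((ξ : (ResidueField B)ˣ) : ResidueField B), ?_⟩
    rw [IsPrimitiveRoot.coe_units_iff, IsPrimitiveRoot.coe_submonoidClass_iff]
    have := IsPrimitiveRoot.orderOf ξ
    rw [← hm, hmeq] at this
    exact this

end H12934

/-- Let `B` be a local commutative ring with maximal ideal `m` and residue field `k`, and `Γ` a finite
group acting faithfully on `B` by ring automorphisms, such that every element of `Γ` acts trivially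
modulo `m` (the whole group is inertia) and maps each principal ideal of `B` into itself (every
ideal is stable). Let `S ⊆ Γ` be the set of `γ` with `γ b ∈ b + b m` for all `b`. Then: if `k` has
characteristic `0`, `S = {1}`; if `k` has characteristic `p > 0`, `S` is (the underlying set of) a
Sylow `p`-subgroup; every commutator of `Γ` lies in `S`, so `Γ/S` is abelian; and whenever the class
of `γ` in `Γ/S` has order `n` (`γ^n ∈ S`, no smaller positive power in `S`), `k` contains a
primitive `n`-th root of unity. (The published statement also bounds the number of generators of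
`Γ/S` by the number of generators of the monoid of principal ideals; that clause is not included.) -/
theorem result
    (B : Type u) [CommRing B] [IsLocalRing B]
    (Γ : Type v) [Group Γ] [Finite Γ] [MulSemiringAction Γ B] [FaithfulSMul Γ B]
    (hin : ∀ (γ : Γ) (b : B), γ • b - b ∈ IsLocalRing.maximalIdeal B)
    (hst : ∀ (γ : Γ) (b : B), ∃ u : B, γ • b = b * u)
    (S : Set Γ)
    (hS : ∀ γ : Γ, γ ∈ S ↔ ∀ b : B, ∃ x ∈ IsLocalRing.maximalIdeal B, γ • b = b + b * x) :
    (ringChar (IsLocalRing.ResidueField B) = 0 → S = {1}) ∧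
      (∀ (p : ℕ) [Fact p.Prime], ringChar (IsLocalRing.ResidueField B) = p →
        ∃ Q : Sylow p Γ, (Q : Set Γ) = S) ∧
      (∀ γ δ : Γ, γ * δ * γ⁻¹ * δ⁻¹ ∈ S) ∧
      (∀ (γ : Γ) (n : ℕ), 0 < n → γ ^ n ∈ S → (∀ i : ℕ, 0 < i → i < n → γ ^ i ∉ S) →
        ∃ ζ : IsLocalRing.ResidueField B, IsPrimitiveRoot ζ n) := by
  exact H12934.main B Γ hin hst S hS

end Groth.Agent.S12934
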