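import Groth.Statements.S12935
import Mathlib

set_option autoImplicit false
universe u v
open InvTh

namespace Groth.Agent.S12935

namespace H12935

open scoped Pointwise

variable {B : Type*} [CommRing B] {Γ : Type*} [Group Γ] [MulSemiringAction Γ B]
variable (Ω : Subgroup Γ)

instance smulComm : SMulCommClass Ω (FixedPoints.subring B Ω) B where
  smul_comm ω a b := by
    show ω • (a.1 * b) = a.1 * ω • b
    rw [smul_mul', a.2 ω]

instance isInv : Algebra.IsInvariant (FixedPoints.subring B Ω) B Ω where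
  isInvariant b hb := ⟨⟨b, hb⟩, rfl⟩

lemma mem_under_iff (P : Ideal B) (a : FixedPoints.subring B Ω) :
    a ∈ P.under (FixedPoints.subring B Ω) ↔ a.1 ∈ P := Iff.rfl

lemma part1 [Finite Γ] (P : Ideal B) [P.IsPrime] (γ : Γ)
    (h : ∀ x : B, (∀ ω ∈ Ω, ω • x = x) → (x ∈ P ↔ γ • x ∈ P)) :
    ∃ ω ∈ Ω, ∀ x : B, x ∈ P ↔ (γ * ω) • x ∈ P := by
  have hQ : (γ⁻¹ • P).IsPrime := Ideal.IsPrime.smul _
  have hu : P.under (FixedPoints.subring B Ω) = (γ⁻¹ • P).under (FixedPoints.subring B Ω) := by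
    ext a
    rw [mem_under_iff, mem_under_iff, Ideal.mem_inv_pointwise_smul_iff]
    exact h a.1 (fun ω hω => a.2 ⟨ω, hω⟩)
  obtain ⟨ω, hω⟩ := Algebra.IsInvariant.exists_smul_of_under_eq (FixedPoints.subring B Ω) B Ω
    P (γ⁻¹ • P) hu
  refine ⟨ω.1, ω.2, fun x => ?_⟩
  rw [mul_smul, ← Ideal.mem_inv_pointwise_smul_iff, hω]
  exact (Ideal.smul_mem_pointwise_smul_iff (a := ω) (S := P) (x := x)).symm

end H12935

namespace H12935
open scoped Pointwise

variable {B : Type*} [CommRing B] {Γ : Type*} [Group Γ] [MulSemiringAction Γ B]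
variable (Ω : Subgroup Γ)

lemma part2 [Finite Γ] (P : Ideal B) [P.IsPrime] (γ : Γ)
    (h : ∀ x : B, (∀ ω ∈ Ω, ω • x = x) → γ • x - x ∈ P) :
    ∃ ω ∈ Ω, ∀ x : B, (γ * ω) • x - x ∈ P := by
  have h1 : ∀ x : B, (∀ ω ∈ Ω, ω • x = x) → (x ∈ P ↔ γ • x ∈ P) := by
    intro x hx
    have := h x hx
    constructor
    · intro hxP
      have h2 := P.add_mem this hxP
      simpa using h2
    · intro hxP
      have h2 := P.sub_mem hxP this
      simpa using h2
  obtain ⟨ω₀, hω₀, hstab⟩ := part1 Ω P γ h1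
  set γ' := γ * ω₀ with hγ'
  -- γ' stabilizes P
  have hγ'P : γ' • P = P := by
    ext x
    rw [← inv_inv γ', Ideal.mem_inv_pointwise_smul_iff]
    have := hstab (γ'⁻¹ • x)
    rw [smul_inv_smul] at this
    exact this
  set A := FixedPoints.subring B Ω with hA
  set p : Ideal A := P.under A with hp
  have : P.LiesOver p := ⟨rfl⟩
  -- the ring equiv of B/P induced by γ'
  let e : (B ⧸ P) ≃+* (B ⧸ P) :=
    Ideal.quotientEquiv P P (MulSemiringAction.toRingEquiv Γ B γ') hγ'P.symm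
  have he : ∀ b : B, e (Ideal.Quotient.mk P b) = Ideal.Quotient.mk P (γ' • b) := fun b => rfl
  let f : (B ⧸ P) ≃ₐ[A ⧸ p] (B ⧸ P) := AlgEquiv.ofRingEquiv (f := e) (by
    intro a
    obtain ⟨a, rfl⟩ := Ideal.Quotient.mk_surjective a
    show e (Ideal.Quotient.mk P a.1) = Ideal.Quotient.mk P a.1
    rw [he, Ideal.Quotient.eq]
    have : γ' • a.1 = γ • a.1 := by
      rw [hγ', mul_smul]
      congr 1
      exact a.2 ⟨ω₀, hω₀⟩
    rw [this]
    exact h a.1 (fun ω hω => a.2 ⟨ω, hω⟩))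
  obtain ⟨ω, hω⟩ := Ideal.Quotient.stabilizerHom_surjective Ω p P f
  refine ⟨ω₀ * (ω.1.1)⁻¹, Ω.mul_mem hω₀ (Ω.inv_mem ω.1.2), fun x => ?_⟩
  have key := congrArg (fun g => g (Ideal.Quotient.mk P ((ω.1.1)⁻¹ • x))) hω
  simp only [Ideal.Quotient.stabilizerHom_apply] at key
  have h3 : f (Ideal.Quotient.mk P ((ω.1.1)⁻¹ • x)) = Ideal.Quotient.mk P (γ' • (ω.1.1)⁻¹ • x) := rfl
  rw [h3] at key
  have h4 : (ω • ((ω.1.1)⁻¹ • x) : B) = x := by
    show ω.1.1 • ((ω.1.1)⁻¹ • x) = x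
    rw [smul_inv_smul]
  rw [h4] at key
  rw [← mul_assoc, mul_smul, ← Ideal.Quotient.eq]
  exact key.symm

end H12935

namespace H12935
theorem main (B : Type*) [CommRing B] (Γ : Type*) [Group Γ] [Finite Γ] [MulSemiringAction Γ B]
    (Ω : Subgroup Γ) [Ω.Normal] (P : Ideal B) [P.IsPrime] (γ : Γ) :
    ((∀ x : B, (∀ ω ∈ Ω, ω • x = x) → (x ∈ P ↔ γ • x ∈ P)) ↔
        ∃ ω ∈ Ω, ∀ x : B, x ∈ P ↔ (γ * ω) • x ∈ P) ∧
      ((∀ x : B, (∀ ω ∈ Ω, ω • x = x) → γ • x - x ∈ P) ↔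
        ∃ ω ∈ Ω, ∀ x : B, (γ * ω) • x - x ∈ P) := by
  refine ⟨⟨part1 Ω P γ, ?_⟩, ⟨part2 Ω P γ, ?_⟩⟩
  · rintro ⟨ω, hω, h⟩ x hx
    have := h x
    rwa [mul_smul, hx ω hω] at this
  · rintro ⟨ω, hω, h⟩ x hx
    have := h x
    rwa [mul_smul, hx ω hω] at this
end H12935

/-- Let `B` be a commutative ring with an action of a finite group `Γ` by ring automorphisms, `Ω` a
normal subgroup of `Γ`, `B^Ω` the subring of `Ω`-invariants (stable under `Γ`, with the induced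
action of `Γ/Ω`), and `P` a prime ideal of `B`. Then (decomposition groups) an element `γ` maps `P ∩
B^Ω` onto itself if and only if `γω` maps `P` onto itself for some `ω ∈ Ω`; and (inertia groups) `γ`
fixes `B^Ω` modulo `P ∩ B^Ω` if and only if `γω` fixes `B` modulo `P` for some `ω ∈ Ω`. In other
words the decomposition and inertia groups of `P ∩ B^Ω` under `Γ/Ω` are the images of those of `P`.
(The published statement also asserts the same for the ramification groups, the Sylow subgroups of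
the inertia groups at the residue characteristic; that clause is not included here.) -/
theorem result
    (B : Type u) [CommRing B] (Γ : Type v) [Group Γ] [Finite Γ] [MulSemiringAction Γ B]
    (Ω : Subgroup Γ) [Ω.Normal] (P : Ideal B) [P.IsPrime] (γ : Γ) :
    ((∀ x : B, (∀ ω ∈ Ω, ω • x = x) → (x ∈ P ↔ γ • x ∈ P)) ↔
        ∃ ω ∈ Ω, ∀ x : B, x ∈ P ↔ (γ * ω) • x ∈ P) ∧
      ((∀ x : B, (∀ ω ∈ Ω, ω • x = x) → γ • x - x ∈ P) ↔
        ∃ ω ∈ Ω, ∀ x : B, (γ * ω) • x - x ∈ P) := by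
  exact H12935.main B Γ Ω P γ

end Groth.Agent.S12935
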