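import Groth.Statements.S12936
import Mathlib

set_option autoImplicit false
universe u v
open InvTh

namespace Groth.Agent.S12936

namespace H12936

variable {B : Type*} [CommRing B] {Γ : Type*} [Group Γ] [MulSemiringAction Γ B]

/-- decomposition group as a predicate subgroup -/
def dec (P : Ideal B) : Subgroup Γ where
  carrier := {γ | ∀ y : B, y ∈ P ↔ γ • y ∈ P}
  one_mem' := by intro y; simp
  mul_mem' := by
    intro a b ha hb y
    rw [mul_smul]
    exact (hb y).trans (ha _)
  inv_mem' := by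
    intro a ha y
    have := ha (a⁻¹ • y)
    rw [smul_inv_smul] at this
    exact this.symm

lemma mem_dec {P : Ideal B} {γ : Γ} : γ ∈ dec (Γ := Γ) P ↔ ∀ y : B, y ∈ P ↔ γ • y ∈ P := Iff.rfl

lemma exists_b (P : Ideal B) [P.IsMaximal] (γ : Γ) (hγ : γ ∉ dec (Γ := Γ) P) :
    ∃ b : B, b - 1 ∈ P ∧ γ • b ∈ P := by
  classical
  set Q : Ideal B := P.comap (MulSemiringAction.toRingHom Γ B γ) with hQ
  have hQmax : Q.IsMaximal := by
    apply Ideal.comap_isMaximal_of_surjective
    intro y
    exact ⟨γ⁻¹ • y, by simp⟩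
  have hne : P ≠ Q := by
    intro h
    apply hγ
    intro y
    have h1 : y ∈ P ↔ y ∈ Q := by rw [← h]
    exact h1.trans Iff.rfl
  have hsup : P ⊔ Q = ⊤ := Ideal.IsMaximal.coprime_of_ne ‹_› hQmax hne
  have h1 : (1 : B) ∈ P ⊔ Q := by rw [hsup]; trivial
  obtain ⟨a, ha, b, hb, hab⟩ := Submodule.mem_sup.mp h1
  refine ⟨b, ?_, hb⟩
  have : b - 1 = -a := by rw [← hab]; ring
  rw [this]
  exact P.neg_mem ha

lemma prod_sub_one_mem {ι : Type*} (P : Ideal B) (s : Finset ι) (f : ι → B)
    (h : ∀ i ∈ s, f i - 1 ∈ P) : (∏ i ∈ s, f i) - 1 ∈ P := by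
  classical
  induction s using Finset.induction_on with
  | empty => simp
  | insert a s ha ih =>
    rw [Finset.prod_insert ha]
    have h1 := h a (Finset.mem_insert_self _ _)
    have h2 := ih (fun i hi => h i (Finset.mem_insert_of_mem hi))
    have : f a * ∏ i ∈ s, f i - 1 = f a * (∏ i ∈ s, f i - 1) + (f a - 1) := by ring
    rw [this]
    exact P.add_mem (P.mul_mem_left _ h2) h1

theorem main [Finite Γ] (P : Ideal B) [P.IsMaximal] (x : B)
    (hx : ∀ γ : Γ, (∀ y : B, y ∈ P ↔ γ • y ∈ P) → γ • x = x) :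
    ∃ c : B, (∀ γ : Γ, γ • c = c) ∧ x - c ∈ P := by
  classical
  cases nonempty_fintype Γ
  set D : Subgroup Γ := dec (Γ := Γ) P with hD
  -- choose b
  have hb : ∀ γ : Γ, ∃ b : B, b - 1 ∈ P ∧ (γ ∉ D → γ • b ∈ P) := by
    intro γ
    by_cases hγ : γ ∈ D
    · exact ⟨1, by simp, fun h => absurd hγ h⟩
    · obtain ⟨b, hb1, hb2⟩ := exists_b P γ hγ
      exact ⟨b, hb1, fun _ => hb2⟩
  choose b hb1 hb2 using hb
  set e : B := ∏ γ : Γ, b γ with he
  have he1 : e - 1 ∈ P := prod_sub_one_mem P _ _ (fun i _ => hb1 i)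
  have he2 : ∀ γ : Γ, γ ∉ D → γ • e ∈ P := by
    intro γ hγ
    have hdvd : b γ ∣ e := Finset.dvd_prod_of_mem _ (Finset.mem_univ γ)
    obtain ⟨t, ht⟩ := hdvd
    rw [ht, smul_mul']
    exact P.mul_mem_right _ (hb2 γ hγ)
  set e' : B := ∏ δ : Γ, (if δ ∈ D then δ • e else 1) with he'
  have he'1 : e' - 1 ∈ P := by
    apply prod_sub_one_mem
    intro δ _
    split_ifs with hδ
    · have : δ • e - 1 = δ • (e - 1) := by rw [smul_sub, smul_one]
      rw [this]
      exact (hδ _).mp he1
    · simp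
  have he'2 : ∀ γ : Γ, γ ∉ D → γ • e' ∈ P := by
    intro γ hγ
    have hdvd : e ∣ e' := by
      have := Finset.dvd_prod_of_mem (fun δ : Γ => if δ ∈ D then δ • e else 1)
        (Finset.mem_univ (1 : Γ))
      simpa [D.one_mem] using this
    obtain ⟨t, ht⟩ := hdvd
    rw [ht, smul_mul']
    exact P.mul_mem_right _ (he2 γ hγ)
  have he'3 : ∀ δ : Γ, δ ∈ D → δ • e' = e' := by
    intro δ hδ
    rw [he', Finset.smul_prod']
    refine Fintype.prod_equiv (Equiv.mulLeft δ) _ _ ?_
    intro g
    simp only [Equiv.coe_mulLeft]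
    have hiff : δ * g ∈ D ↔ g ∈ D := by
      constructor
      · intro h
        have := D.mul_mem (D.inv_mem hδ) h
        simpa using this
      · intro h
        exact D.mul_mem hδ h
    by_cases hg : g ∈ D
    · simp [hg, hiff.mpr hg, mul_smul]
    · simp [hg, hiff, smul_one]
  set y : B := x * e' with hy
  have hy1 : ∀ δ : Γ, δ ∈ D → δ • y = y := by
    intro δ hδ
    rw [hy, smul_mul', he'3 δ hδ, hx δ hδ]
  have hy2 : y - x ∈ P := by
    have : y - x = x * (e' - 1) := by rw [hy]; ring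
    rw [this]
    exact P.mul_mem_left _ he'1
  have hy3 : ∀ γ : Γ, γ ∉ D → γ • y ∈ P := by
    intro γ hγ
    rw [hy, smul_mul']
    exact P.mul_mem_left _ (he'2 γ hγ)
  set S : Finset B := Finset.univ.image (fun γ : Γ => γ • y) with hS
  refine ⟨∑ z ∈ S, z, ?_, ?_⟩
  · intro γ
    rw [Finset.smul_sum]
    have : ∑ z ∈ S, γ • z = ∑ z ∈ S.image (fun z => γ • z), z :=
      (Finset.sum_image (s := S) (f := fun z => z) (g := fun z => γ • z)
        (fun a _ b _ hab => MulAction.injective γ hab)).symm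
    rw [this]
    congr 1
    ext z
    simp only [hS, Finset.mem_image, Finset.mem_univ, true_and]
    constructor
    · rintro ⟨_, ⟨g, rfl⟩, rfl⟩
      exact ⟨γ * g, by rw [mul_smul]⟩
    · rintro ⟨g, rfl⟩
      exact ⟨γ⁻¹ • g • y, ⟨γ⁻¹ * g, by rw [mul_smul]⟩, by simp⟩
  · have hyS : y ∈ S := by
      simp only [hS, Finset.mem_image, Finset.mem_univ, true_and]
      exact ⟨1, one_smul _ _⟩
    rw [← Finset.add_sum_erase S _ hyS]
    have : x - (y + ∑ z ∈ S.erase y, z) = -(y - x) - ∑ z ∈ S.erase y, z := by ring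
    rw [this]
    apply P.sub_mem (P.neg_mem hy2)
    apply P.sum_mem
    intro z hz
    rw [Finset.mem_erase] at hz
    obtain ⟨hzy, hzS⟩ := hz
    simp only [hS, Finset.mem_image, Finset.mem_univ, true_and] at hzS
    obtain ⟨g, rfl⟩ := hzS
    apply hy3
    intro hg
    exact hzy (hy1 g hg)

end H12936

/-- Let `B` be a commutative ring with an action of a finite group `Γ` by ring automorphisms and `P` a
maximal ideal of `B`, with decomposition group `D_P = {γ | γP = P}` and decomposition ring `D =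
B^{D_P}`. Then `D = B^Γ + (P ∩ D)`: every element of `B` fixed by `D_P` is congruent modulo `P` to a
`Γ`-invariant element. Hence the residue field of `D` at `P ∩ D` is that of `B^Γ` at `P ∩ B^Γ`; for
an arbitrary prime `P` the same equality of residue fields follows by localising at `P ∩ B^Γ`. (The
published statement prints this residue field as `k(P)`; the proof establishes the equality with the
residue field of `B^Γ` stated here.) -/
theorem result
    (B : Type u) [CommRing B] (Γ : Type v) [Group Γ] [Finite Γ] [MulSemiringAction Γ B]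
    (P : Ideal B) [P.IsMaximal] (x : B)
    (hx : ∀ γ : Γ, (∀ y : B, y ∈ P ↔ γ • y ∈ P) → γ • x = x) :
    ∃ c : B, (∀ γ : Γ, γ • c = c) ∧ x - c ∈ P := by
  exact H12936.main P x hx

end Groth.Agent.S12936
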