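import Groth.Statements.S12937
import Mathlib
import Groth.Agent.S12935
import Groth.Agent.S12936

set_option autoImplicit false
universe u v
open InvTh

namespace Groth.Agent.S12937

namespace H12937
open Polynomial

/-- In a normal extension with trivial automorphism group, separable elements lie in the base. -/
lemma mem_range_of_separable {F L : Type*} [Field F] [Field L] [Algebra F L] [Normal F L]
    (haut : ∀ (σ : L ≃ₐ[F] L) (z : L), σ z = z) (z : L) (hz : IsSeparable F z) :
    z ∈ (algebraMap F L).range := by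
  have hint : IsIntegral F z := (Normal.isIntegral (F := F) (K := L) inferInstance z)
  set m := minpoly F z with hm
  have hsplit : (m.map (algebraMap F L)).Splits := Normal.splits inferInstance z
  have hsep : (m.map (algebraMap F L)).Separable := (show (minpoly F z).Separable from hz).map
  have hroots : ∀ w ∈ (m.map (algebraMap F L)).roots, w = z := by
    intro w hw
    rw [mem_roots (Polynomial.map_ne_zero (minpoly.ne_zero hint)), IsRoot.def, eval_map,
      ← aeval_def] at hw
    obtain ⟨σ, hσ⟩ := minpoly.exists_algEquiv_of_root' hint.isAlgebraic hw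
    rw [← hσ, haut]
  have hnodup := nodup_roots hsep
  have hle : (m.map (algebraMap F L)).roots ≤ {z} := by
    rw [Multiset.le_iff_subset hnodup]
    intro w hw
    rw [Multiset.mem_singleton]
    exact hroots w hw
  have hcard : (m.map (algebraMap F L)).roots.card ≤ 1 := by
    have := Multiset.card_le_card hle
    simpa using this
  have hdeg : m.natDegree ≤ 1 := by
    rw [← natDegree_map (algebraMap F L), hsplit.natDegree_eq_card_roots]
    exact hcard
  have hdeg1 : m.degree = 1 := by
    have hpos : 0 < m.natDegree := minpoly.natDegree_pos hint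
    rw [degree_eq_natDegree (minpoly.ne_zero hint)]
    have : m.natDegree = 1 := le_antisymm hdeg hpos
    rw [this]; rfl
  exact minpoly.mem_range_of_degree_eq_one F z hdeg1

end H12937

namespace H12937
open Polynomial

section LemmaG
variable {B : Type*} [CommRing B] {G : Type*} [Group G] [MulSemiringAction G B]
  (P : Ideal B) (hst : ∀ (g : G) (b : B), b ∈ P → g • b ∈ P)

/-- induced endomorphism of `B ⧸ P` -/
def bar (g : G) : B ⧸ P →+* B ⧸ P :=
  Ideal.quotientMap P (MulSemiringAction.toRingHom G B g)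
    (show P ≤ Ideal.comap (MulSemiringAction.toRingHom G B g) P from fun b hb => hst g b hb)

lemma bar_mk (g : G) (b : B) :
    bar P hst g (Ideal.Quotient.mk P b) = Ideal.Quotient.mk P (g • b) := by
  rfl

lemma bar_mul (g h : G) (z : B ⧸ P) : bar P hst (g * h) z = bar P hst g (bar P hst h z) := by
  obtain ⟨b, rfl⟩ := Ideal.Quotient.mk_surjective z
  rw [bar_mk, bar_mk, bar_mk, mul_smul]

lemma bar_one (z : B ⧸ P) : bar P hst 1 z = z := by
  obtain ⟨b, rfl⟩ := Ideal.Quotient.mk_surjective z
  rw [bar_mk, one_smul]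

lemma bar_injective_of_inertia (hin : ∀ g : G, (∀ b, g • b - b ∈ P) → g = 1) (g h : G)
    (hgh : ∀ z, bar P hst g z = bar P hst h z) : g = h := by
  have : h⁻¹ * g = 1 := by
    apply hin
    intro b
    rw [← Ideal.Quotient.eq, ← bar_mk P hst, bar_mul, hgh, ← bar_mul, inv_mul_cancel, bar_one]
  calc g = h * (h⁻¹ * g) := by group
    _ = h := by rw [this, mul_one]

variable [Fintype G] [P.IsMaximal]

lemma exists_trace_ne_zero (hin : ∀ g : G, (∀ b, g • b - b ∈ P) → g = 1) :
    ∃ w : B ⧸ P, ∑ g : G, bar P hst g w ≠ 0 := by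
  let _ := Ideal.Quotient.field P
  by_contra hcon
  push Not at hcon
  let φ : G → ((B ⧸ P) →* (B ⧸ P)) := fun g => (bar P hst g).toMonoidHom
  have hφ : Function.Injective φ := by
    intro g h hgh
    apply bar_injective_of_inertia P hst hin
    intro z
    exact DFunLike.congr_fun hgh z
  have hli := (linearIndependent_monoidHom (B ⧸ P) (B ⧸ P)).comp φ hφ
  have h0 : ∑ g : G, (1 : B ⧸ P) • ((fun f : (B ⧸ P) →* (B ⧸ P) => (f : B ⧸ P → B ⧸ P)) ∘ φ) g = 0 := by
    funext w
    simp only [Function.comp_apply, one_smul, Finset.sum_apply, Pi.zero_apply]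
    exact hcon w
  have := Fintype.linearIndependent_iff.mp hli (fun _ => 1) h0 1
  exact one_ne_zero this

lemma exists_lift_fixed (hin : ∀ g : G, (∀ b, g • b - b ∈ P) → g = 1) (a : B ⧸ P)
    (ha : ∀ g, bar P hst g a = a) :
    ∃ c : B, (∀ g : G, g • c = c) ∧ Ideal.Quotient.mk P c = a := by
  let _ := Ideal.Quotient.field P
  obtain ⟨w, hw⟩ := exists_trace_ne_zero P hst hin
  set t := ∑ g : G, bar P hst g w with ht
  have htfix : ∀ h : G, bar P hst h t = t := by
    intro h
    rw [ht, map_sum]
    simp_rw [← bar_mul]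
    exact Fintype.sum_equiv (Equiv.mulLeft h) _ _ (fun g => rfl)
  obtain ⟨u, hu⟩ := Ideal.Quotient.mk_surjective (w * (a / t))
  refine ⟨∑ g : G, g • u, ?_, ?_⟩
  · intro h
    rw [Finset.smul_sum]
    simp_rw [← mul_smul]
    exact Fintype.sum_equiv (Equiv.mulLeft h) _ _ (fun g => rfl)
  · rw [map_sum]
    simp_rw [← bar_mk P hst, hu, map_mul]
    have hfix : ∀ g, bar P hst g (a / t) = a / t := by
      intro g
      rw [map_div₀, ha, htfix]
    simp_rw [hfix, ← Finset.sum_mul]
    rw [← ht]
    field_simp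

include hst in
theorem lemmaG (hin : ∀ g : G, (∀ b, g • b - b ∈ P) → g = 1) (y : B) :
    ∃ g : B[X], (∀ (i : ℕ) (σ : G), σ • g.coeff i = g.coeff i) ∧
      (g.map (Ideal.Quotient.mk P)).Separable ∧ aeval y g ∈ P := by
  classical
  let _ := Ideal.Quotient.field P
  set yb : B ⧸ P := Ideal.Quotient.mk P y with hyb
  set O : Finset (B ⧸ P) := Finset.univ.image (fun σ : G => bar P hst σ yb) with hO
  set h : (B ⧸ P)[X] := ∏ z ∈ O, (X - C z) with hh
  have hsep : h.Separable := by
    rw [hh, separable_prod_X_sub_C_iff']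
    intro a _ b _ hab
    exact hab
  have hroot : h.eval yb = 0 := by
    rw [hh, eval_prod]
    apply Finset.prod_eq_zero (i := yb)
    · rw [hO, Finset.mem_image]
      exact ⟨1, Finset.mem_univ _, bar_one P hst yb⟩
    · simp
  have hinj : ∀ τ : G, Function.Injective (bar P hst τ) := fun τ => (bar P hst τ).injective
  have himage : ∀ τ : G, O.image (bar P hst τ) = O := by
    intro τ
    ext z
    simp only [hO, Finset.mem_image, Finset.mem_univ, true_and]
    constructor
    · rintro ⟨_, ⟨σ, rfl⟩, rfl⟩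
      exact ⟨τ * σ, bar_mul P hst τ σ yb⟩
    · rintro ⟨σ, rfl⟩
      refine ⟨bar P hst (τ⁻¹ * σ) yb, ⟨_, rfl⟩, ?_⟩
      rw [← bar_mul, mul_inv_cancel_left]
  have hmap : ∀ τ : G, h.map (bar P hst τ) = h := by
    intro τ
    rw [hh, Polynomial.map_prod]
    simp only [Polynomial.map_sub, Polynomial.map_X, Polynomial.map_C]
    conv_rhs => rw [← himage τ]
    exact (Finset.prod_image (s := O) (g := bar P hst τ) (f := fun z => (X - C z : (B ⧸ P)[X]))
      (fun a _ b _ hab => hinj τ hab)).symm
  have hcoeff : ∀ (i : ℕ) (τ : G), bar P hst τ (h.coeff i) = h.coeff i := by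
    intro i τ
    conv_rhs => rw [← hmap τ]
    rw [coeff_map]
  have hlift : ∀ i : ℕ, ∃ c : B, (∀ g : G, g • c = c) ∧ Ideal.Quotient.mk P c = h.coeff i :=
    fun i => exists_lift_fixed P hst hin (h.coeff i) (hcoeff i)
  choose c hc1 hc2 using hlift
  set g : B[X] := ∑ i ∈ Finset.range (h.natDegree + 1), monomial i (c i) with hg
  have hgmap : g.map (Ideal.Quotient.mk P) = h := by
    rw [hg, Polynomial.map_sum]
    simp only [map_monomial, hc2]
    exact (as_sum_range h).symm
  refine ⟨g, ?_, ?_, ?_⟩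
  · intro i σ
    rw [hg, finsetSum_coeff]
    simp only [coeff_monomial]
    rw [Finset.smul_sum]
    apply Finset.sum_congr rfl
    intro j _
    split_ifs
    · exact hc1 j σ
    · exact smul_zero σ
  · rw [hgmap]; exact hsep
  · rw [← Ideal.Quotient.eq_zero_iff_mem, aeval_def, hom_eval₂, ← eval_map]
    simp only [RingHom.comp_id, Algebra.algebraMap_self]
    rw [hgmap]
    exact hroot

end LemmaG

end H12937

namespace H12937
open Polynomial
open Groth.Agent.S12935 Groth.Agent.S12936

variable {B : Type*} [CommRing B] {Γ : Type*} [Group Γ] [Finite Γ] [MulSemiringAction Γ B]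
  (P : Ideal B) [P.IsMaximal]

/-- the inertia group inside the decomposition group -/
abbrev HH : Subgroup (H12936.dec (Γ := Γ) P) := (P.inertia Γ).subgroupOf (H12936.dec (Γ := Γ) P)

lemma inertia_le_dec : P.inertia Γ ≤ H12936.dec (Γ := Γ) P := by
  intro γ hγ y
  have h1 : γ • y - y ∈ P := hγ y
  constructor
  · intro hy
    have := P.add_mem h1 hy
    simpa using this
  · intro hy
    have := P.sub_mem hy h1
    simpa using this

instance HH_normal : (HH (Γ := Γ) P).Normal := by
  refine (Subgroup.normal_subgroupOf_iff (inertia_le_dec P)).mpr fun g s hg hs x => ?_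
  -- g ∈ inertia, s ∈ dec : s * g * s⁻¹ ∈ inertia
  have h1 : g • (s⁻¹ • x) - s⁻¹ • x ∈ P := hg (s⁻¹ • x)
  have h2 : s • (g • (s⁻¹ • x) - s⁻¹ • x) ∈ P := (hs _).mp h1
  rw [smul_sub, smul_inv_smul] at h2
  show (s * g * s⁻¹) • x - x ∈ P
  rw [mul_smul, mul_smul]
  exact h2



end H12937

namespace H12937
open Polynomial
open Groth.Agent.S12935 Groth.Agent.S12936

variable {B : Type*} [CommRing B] {Γ : Type*} [Group Γ] [Finite Γ] [MulSemiringAction Γ B]
  (P : Ideal B) [P.IsMaximal]

theorem forward_aux (y : B) (hy : ∀ γ : Γ, γ ∈ P.inertia Γ → γ • y = y) :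
    ∃ g : B[X], (∀ (i : ℕ) (γ : Γ), γ ∈ H12936.dec (Γ := Γ) P → γ • g.coeff i = g.coeff i) ∧
        (g.map (Ideal.Quotient.mk P)).Separable ∧ aeval y g ∈ P := by
  classical
  set D := H12936.dec (Γ := Γ) P with hD
  set H := HH (Γ := Γ) P with hH
  set B' := FixedPoints.subring B H with hB'
  set P' : Ideal B' := P.comap B'.subtype with hP'
  have hint : Algebra.IsIntegral B' B := Algebra.IsInvariant.isIntegral B' B H
  have hP'max : P'.IsMaximal := Ideal.isMaximal_comap_of_isIntegral_of_isMaximal (R := B') P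
  cases nonempty_fintype (D ⧸ H)
  have hst : ∀ (g : D ⧸ H) (b : B'), b ∈ P' → g • b ∈ P' := by
    intro g
    induction g using QuotientGroup.induction_on with
    | H δ =>
      intro b hb
      show δ.1 • b.1 ∈ P
      exact (δ.2 b.1).mp hb
  have hin : ∀ g : D ⧸ H, (∀ b : B', g • b - b ∈ P') → g = 1 := by
    intro g
    induction g using QuotientGroup.induction_on with
    | H δ =>
      intro h
      rw [QuotientGroup.eq_one_iff]
      obtain ⟨ω, hω, hall⟩ := H12935.part2 H P δ (fun x hx => h ⟨x, fun t => hx t.1 t.2⟩)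
      have h1 : δ * ω ∈ H := by
        show ((δ * ω : D) : Γ) ∈ P.inertia Γ
        intro b
        exact hall b
      have := H.mul_mem h1 (H.inv_mem hω)
      simpa using this
  obtain ⟨g', hg'1, hg'2, hg'3⟩ := lemmaG P' hst hin (⟨y, fun t => hy t.1.1 t.2⟩ : B')
  refine ⟨g'.map B'.subtype, ?_, ?_, ?_⟩
  · intro i γ hγ
    rw [coeff_map]
    have := hg'1 i (QuotientGroup.mk (⟨γ, hγ⟩ : D))
    exact congrArg Subtype.val this
  · have : (g'.map B'.subtype).map (Ideal.Quotient.mk P) =
        (g'.map (Ideal.Quotient.mk P')).map (Ideal.quotientMap P B'.subtype le_rfl) := by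
      rw [Polynomial.map_map, Polynomial.map_map]
      rfl
    rw [this]
    exact hg'2.map
  · have h1 : aeval y (g'.map B'.subtype) = B'.subtype (aeval (⟨y, fun t => hy t.1.1 t.2⟩ : B') g') := by
      rw [aeval_def, eval₂_map, aeval_def, hom_eval₂]
      rfl
    rw [h1]
    exact hg'3

end H12937

namespace H12937
open Polynomial
open Groth.Agent.S12935 Groth.Agent.S12936

variable {B : Type*} [CommRing B] {Γ : Type*} [Group Γ] [Finite Γ] [MulSemiringAction Γ B]
  (P : Ideal B) [P.IsMaximal]

lemma mk_aeval (x : B) (g : B[X]) :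
    Ideal.Quotient.mk P (aeval x g) = (g.map (Ideal.Quotient.mk P)).eval (Ideal.Quotient.mk P x) := by
  rw [aeval_def, hom_eval₂, eval_map]
  simp only [RingHom.comp_id, Algebra.algebraMap_self]

theorem forward (x y : B) (hy : ∀ γ : Γ, γ ∈ P.inertia Γ → γ • y = y) (hxy : x - y ∈ P) :
    ∃ g : B[X], (∀ (i : ℕ) (γ : Γ), γ • g.coeff i = g.coeff i) ∧
        (g.map (Ideal.Quotient.mk P)).Separable ∧ aeval x g ∈ P := by
  classical
  obtain ⟨g₁, h1, h2, h3⟩ := forward_aux P y hy
  have hl : ∀ i, ∃ c : B, (∀ γ : Γ, γ • c = c) ∧ g₁.coeff i - c ∈ P := fun i =>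
    H12936.main P (g₁.coeff i) (fun γ hγ => h1 i γ hγ)
  choose c hc1 hc2 using hl
  set g : B[X] := ∑ i ∈ Finset.range (g₁.natDegree + 1), monomial i (c i) with hg
  have hcoeff : ∀ i, g.coeff i = if i ∈ Finset.range (g₁.natDegree + 1) then c i else 0 := by
    intro i
    rw [hg, finsetSum_coeff]
    simp only [coeff_monomial]
    rw [Finset.sum_ite_eq']
  have hmap : g.map (Ideal.Quotient.mk P) = g₁.map (Ideal.Quotient.mk P) := by
    ext i
    rw [coeff_map, coeff_map, hcoeff]
    split_ifs with hi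
    · exact ((Ideal.Quotient.eq).mpr (hc2 i)).symm
    · rw [Finset.mem_range, not_lt] at hi
      rw [coeff_eq_zero_of_natDegree_lt (by omega)]
  refine ⟨g, ?_, by rw [hmap]; exact h2, ?_⟩
  · intro i γ
    rw [hcoeff]
    split_ifs
    · exact hc1 i γ
    · exact smul_zero γ
  · rw [← Ideal.Quotient.eq_zero_iff_mem, mk_aeval, hmap, (Ideal.Quotient.eq).mpr hxy, ← mk_aeval,
      Ideal.Quotient.eq_zero_iff_mem]
    exact h3

end H12937

namespace H12937
open Polynomial
open Groth.Agent.S12935 Groth.Agent.S12936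

variable {B : Type*} [CommRing B] {Γ : Type*} [Group Γ] [Finite Γ] [MulSemiringAction Γ B]
  (P : Ideal B) [P.IsMaximal]

attribute [local instance] Ideal.Quotient.field in
theorem backward (x : B) (g : B[X]) (hg1 : ∀ (i : ℕ) (γ : Γ), γ • g.coeff i = g.coeff i)
    (hg2 : (g.map (Ideal.Quotient.mk P)).Separable) (hg3 : aeval x g ∈ P) :
    ∃ y : B, (∀ γ : Γ, γ ∈ P.inertia Γ → γ • y = y) ∧ x - y ∈ P := by
  classical
  set T := P.inertia Γ with hT
  set A' := FixedPoints.subring B T with hA'
  set P' : Ideal A' := P.comap A'.subtype with hP'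
  have hlo : P.LiesOver P' := ⟨rfl⟩
  have hint : Algebra.IsIntegral A' B := Algebra.IsInvariant.isIntegral A' B T
  have hP'max : P'.IsMaximal := Ideal.isMaximal_comap_of_isIntegral_of_isMaximal (R := A') P
  have hnormal : Normal (A' ⧸ P') (B ⧸ P) := Ideal.Quotient.normal T P' P
  have haut : ∀ (σ : (B ⧸ P) ≃ₐ[A' ⧸ P'] (B ⧸ P)) (z : B ⧸ P), σ z = z := by
    intro σ z
    obtain ⟨t, rfl⟩ := Ideal.Quotient.stabilizerHom_surjective T P' P σ
    obtain ⟨b, rfl⟩ := Ideal.Quotient.mk_surjective z
    rw [Ideal.Quotient.stabilizerHom_apply, Ideal.Quotient.eq]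
    exact t.1.2 b
  -- the polynomial over A'
  have hcoeffs : (↑g.coeffs : Set B) ⊆ A' := by
    intro c hc
    obtain ⟨n, -, rfl⟩ := (mem_coeffs_iff).mp hc
    intro t
    exact hg1 n t.1
  set g₀ : A'[X] := g.toSubring A' hcoeffs with hg₀
  have hg₀map : g₀.map A'.subtype = g := map_toSubring g A' hcoeffs
  set gb : (A' ⧸ P')[X] := g₀.map (Ideal.Quotient.mk P') with hgb
  have hgbmap : gb.map (algebraMap (A' ⧸ P') (B ⧸ P)) = g.map (Ideal.Quotient.mk P) := by
    rw [hgb, Polynomial.map_map]
    conv_rhs => rw [← hg₀map, Polynomial.map_map]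
    rfl
  have hgbsep : gb.Separable := by
    rw [← Polynomial.separable_map (algebraMap (A' ⧸ P') (B ⧸ P)), hgbmap]
    exact hg2
  have hroot : aeval (Ideal.Quotient.mk P x) gb = 0 := by
    rw [aeval_def, ← eval_map, hgbmap, ← mk_aeval, Ideal.Quotient.eq_zero_iff_mem]
    exact hg3
  have hsepx : IsSeparable (A' ⧸ P') (Ideal.Quotient.mk P x) :=
    hgbsep.of_dvd (minpoly.dvd _ _ hroot)
  obtain ⟨a', ha'⟩ := mem_range_of_separable haut _ hsepx
  obtain ⟨y', rfl⟩ := Ideal.Quotient.mk_surjective a'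
  refine ⟨y'.1, fun γ hγ => y'.2 ⟨γ, hγ⟩, ?_⟩
  rw [← Ideal.Quotient.eq]
  exact ha'.symm

end H12937

namespace H12937
theorem main (B : Type*) [CommRing B] (Γ : Type*) [Group Γ] [Finite Γ] [MulSemiringAction Γ B]
    (P : Ideal B) [P.IsMaximal] (x : B) :
    (∃ y : B, (∀ γ : Γ, γ ∈ P.inertia Γ → γ • y = y) ∧ x - y ∈ P) ↔
      ∃ g : Polynomial B, (∀ (i : ℕ) (γ : Γ), γ • g.coeff i = g.coeff i) ∧
        (g.map (Ideal.Quotient.mk P)).Separable ∧ Polynomial.aeval x g ∈ P := by
  constructor
  · rintro ⟨y, hy, hxy⟩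
    exact forward P x y hy hxy
  · rintro ⟨g, h1, h2, h3⟩
    exact backward P x g h1 h2 h3
end H12937

/-- Let `B` be a commutative ring with an action of a finite group `Γ` by ring automorphisms, `P` a
maximal ideal of `B`, `T = {γ | γ x - x ∈ P for all x}` its inertia group, `B^T` the inertia ring
and `B^Γ` the ring of invariants, so that `k(P ∩ B^Γ) ⊆ k(P ∩ B^T) ⊆ k(P) = B/P`. Then `k(P ∩ B^T)`
is the largest separable extension of `k(P ∩ B^Γ)` inside `k(P)`: an element `x` of `B` is congruent
modulo `P` to a `T`-invariant element if and only if `x mod P` is a root of some polynomial with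
`Γ`-invariant coefficients whose reduction modulo `P` is separable. (The published statement is for
every prime ideal `P`, as an equality of residue fields; this row takes `P` maximal, the case to
which the published proof reduces by localising at `P ∩ B^Γ`.) -/
theorem result
    (B : Type u) [CommRing B] (Γ : Type v) [Group Γ] [Finite Γ] [MulSemiringAction Γ B]
    (P : Ideal B) [P.IsMaximal] (x : B) :
    (∃ y : B, (∀ γ : Γ, γ ∈ P.inertia Γ → γ • y = y) ∧ x - y ∈ P) ↔
      ∃ g : Polynomial B, (∀ (i : ℕ) (γ : Γ), γ • g.coeff i = g.coeff i) ∧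
        (g.map (Ideal.Quotient.mk P)).Separable ∧ Polynomial.aeval x g ∈ P := by
  exact H12937.main B Γ P x

end Groth.Agent.S12937
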