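import Groth.Statements.S12957
import Mathlib
import Groth.Agent.Lib.Helper2.AlgSt.DiagStack

set_option autoImplicit false
universe u
open CategoryTheory AlgebraicGeometry
open AlgSt

namespace Groth.Agent.S12957

/-- If the composite of f : 𝒳 → 𝒴 and g : 𝒴 → 𝒵 (morphisms of algebraic stacks) is quasi-DM, then f is
quasi-DM. -/
theorem result
    (S : Scheme.{u}) (𝒳 : AlgSt.Cat S) (𝒴 : AlgSt.Cat S) (𝒵 : AlgSt.Cat S)
    (h𝒳 : AlgSt.IsAlgStack Scheme.fppfPrecoverage 𝒳)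
    (h𝒴 : AlgSt.IsAlgStack Scheme.fppfPrecoverage 𝒴)
    (h𝒵 : AlgSt.IsAlgStack Scheme.fppfPrecoverage 𝒵)
    (f : 𝒳 ⥤ᵇ 𝒴) (g : 𝒴 ⥤ᵇ 𝒵) :
    AlgSt.IsQuasiDMMor (BasedFunctor.comp f g) → AlgSt.IsQuasiDMMor f := by
  intro h
  have hg : AlgSt.RepByAlgSpWith ⊤ (FibCat.diag g) :=
    (Groth.Agent.Helper2.AlgStLib.repByAlgSp1_iff_top _).1
      (Groth.Agent.Helper2.AlgStLib.repByAlgSp1_diag_of_diag g h𝒴.diag h𝒵.diag)
  exact Groth.Agent.Helper2.AlgStLib.repByAlgSpWith_diag_of_comp _ ⊤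
    (Groth.Agent.Helper2.AlgStLib.stableBC_locP _)
    (Groth.Agent.Helper2.AlgStLib.cancelSp_lqf ⊤) f g h hg

end Groth.Agent.S12957
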