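import Groth.Statements.S12976
import Groth.Agent.Lib.Helper2.AlgSt.FaithfulCrit


set_option autoImplicit false
universe u
open CategoryTheory AlgebraicGeometry
open AlgSt

namespace Groth.Agent.S12976

/-- A morphism f between algebraic stacks is representable by algebraic spaces exactly when its second
diagonal 𝒳 → 𝒳 ×_{𝒳 ×_𝒴 𝒳} 𝒳 is an isomorphism, that is an equivalence over the base. -/
theorem result
    (S : Scheme.{u}) (𝒳 : AlgSt.Cat S) (𝒴 : AlgSt.Cat S)
    (h𝒳 : AlgSt.IsAlgStack Scheme.fppfPrecoverage 𝒳)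
    (h𝒴 : AlgSt.IsAlgStack Scheme.fppfPrecoverage 𝒴)
    (f : 𝒳 ⥤ᵇ 𝒴) :
    AlgSt.RepByAlgSp1 f ↔ FibCat.IsEquivOver (FibCat.diag (FibCat.diag f)) := by
  constructor
  · intro hf
    have := (Groth.Agent.Helper2.AlgStLib.FaithfulCrit.repByAlgSp1_iff_faithful h𝒳 h𝒴 f).1 hf
    exact Groth.Agent.Helper2.AlgStLib.FaithfulCrit.isEquivOver_diag_diag_of_faithful f
  · intro hD
    exact (Groth.Agent.Helper2.AlgStLib.FaithfulCrit.repByAlgSp1_iff_faithful h𝒳 h𝒴 f).2
      ((Groth.Agent.Helper2.AlgStLib.FaithfulCrit.triv_iff_faithful f h𝒳.isStack.1 h𝒴.isStack.1).1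
        (Groth.Agent.Helper2.AlgStLib.FaithfulCrit.triv_of_isEquivOver_diag_diag f hD))

end Groth.Agent.S12976
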