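import Groth.Statements.S12977
import Groth.Agent.Lib.Helper2.AlgSt.FaithfulCrit


set_option autoImplicit false
universe u
open CategoryTheory AlgebraicGeometry
open AlgSt

namespace Groth.Agent.S12977

/-- A morphism f between algebraic stacks is representable by algebraic spaces exactly when, for each
object x of 𝒳, an automorphism of x lying over the identity of the base and sent by f to the
identity is itself the identity (the kernel of Isom(x, x) → Isom(f x, f x) is trivial). -/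
theorem result
    (S : Scheme.{u}) (𝒳 : AlgSt.Cat S) (𝒴 : AlgSt.Cat S)
    (h𝒳 : AlgSt.IsAlgStack Scheme.fppfPrecoverage 𝒳)
    (h𝒴 : AlgSt.IsAlgStack Scheme.fppfPrecoverage 𝒴)
    (f : 𝒳 ⥤ᵇ 𝒴) :
    AlgSt.RepByAlgSp1 f ↔
      ∀ (a : 𝒳.obj) (φ : a ⟶ a), 𝒳.p.map φ = 𝟙 (𝒳.p.obj a) → f.map φ = 𝟙 (f.obj a) → φ = 𝟙 a := by
  exact (Groth.Agent.Helper2.AlgStLib.FaithfulCrit.repByAlgSp1_iff_faithful h𝒳 h𝒴 f).trans
    (Groth.Agent.Helper2.AlgStLib.FaithfulCrit.kerTriv_iff_faithful f h𝒳.isStack.1 h𝒴.isStack.1).symm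

end Groth.Agent.S12977
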