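import Groth.Statements.S13016
import Mathlib
import Groth.Agent.Lib.Helper2.AlgSt.AffRep
import Groth.Agent.Lib.Helper2.AlgSt.Graph
import Groth.Agent.Lib.Helper2.AlgSt.LocQ.Basic

open Groth.Agent.Helper2 Groth.Agent.Helper2.AlgStLib Groth.Agent.Helper2.AlgStLib.LocQ

set_option autoImplicit false
universe u
open CategoryTheory AlgebraicGeometry
open AlgSt

namespace Groth.Agent.S13016

/-- In a 2-commutative triangle of algebraic stacks f : 𝒳 → 𝒴, a : 𝒳 → 𝒵, b : 𝒴 → 𝒵 with b ∘ f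
2-isomorphic to a, if a is affine and the diagonal of b is affine then f is affine. -/
theorem result
    (S : Scheme.{u}) (𝒳 : AlgSt.Cat S) (𝒴 : AlgSt.Cat S) (𝒵 : AlgSt.Cat S)
    (h𝒳 : AlgSt.IsAlgStack Scheme.fppfPrecoverage 𝒳)
    (h𝒴 : AlgSt.IsAlgStack Scheme.fppfPrecoverage 𝒴)
    (h𝒵 : AlgSt.IsAlgStack Scheme.fppfPrecoverage 𝒵)
    (f : 𝒳 ⥤ᵇ 𝒴) (a : 𝒳 ⥤ᵇ 𝒵) (b : 𝒴 ⥤ᵇ 𝒵) (e : BasedFunctor.comp f b ≅ a) :
    AlgSt.RepByAlgSpWith AlgSp.IsAffineMor a → AlgSt.RepByAlgSpWith AlgSp.IsAffineMor (FibCat.diag b) → AlgSt.RepByAlgSpWith AlgSp.IsAffineMor f := by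
  intro ha hΔ
  let e' : BasedFunctor.comp (BasedFunctor.id 𝒳) a ≅ BasedFunctor.comp f b := e.symm
  have hΓ := repByAlgSpWith_graph AlgSp.IsAffineMor a b f e' hΔ
  have hsnd : AlgSt.RepByAlgSpWith AlgSp.IsAffineMor (FibCat.fpSnd a b) :=
    LocQ.repByAlgSpWith_fpSnd _ a b ha
  have hfp : FibCat.IsFibGrpd (FibCat.fp a b).p :=
    isFibGrpd_fp a b h𝒳.isStack.1 h𝒴.isStack.1 h𝒵.isStack.1
  exact repByAlgSpWith_isAffineMor_comp h𝒳.isStack.1 hfp _ _ hΓ hsnd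

end Groth.Agent.S13016
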