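import Groth.Statements.S13018
import Mathlib
import Groth.Agent.Lib.Helper2.AlgSt.Substack.ImmNoeth
import Groth.Agent.Lib.Helper2.AlgSt.ImmFacts

open Groth.Agent.Helper2 Groth.Agent.Helper2.AlgStLib Groth.Agent.Helper2.AlgStLib.Pts
open Groth.Agent.Helper2.AlgStLib.LocQ Groth.Agent.Helper2.AlgStLib.Substack

set_option autoImplicit false
universe u
open CategoryTheory AlgebraicGeometry
open AlgSt

namespace Groth.Agent.S13018

/-- If j : 𝒳 → 𝒴 is an immersion of algebraic stacks and 𝒴 is Noetherian (quasi-compact, quasi-separated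
and locally Noetherian) then so is 𝒳. (The published statement uses quasi-separatedness over the
integers; this row uses quasi-separatedness over the base scheme in hypothesis and conclusion.) -/
theorem result
    (S : Scheme.{u}) (𝒳 : AlgSt.Cat S) (𝒴 : AlgSt.Cat S)
    (h𝒳 : AlgSt.IsAlgStack Scheme.fppfPrecoverage 𝒳)
    (h𝒴 : AlgSt.IsAlgStack Scheme.fppfPrecoverage 𝒴)
    (j : 𝒳 ⥤ᵇ 𝒴) (hj : AlgSt.IsImm j) :
    AlgSt.IsQuasiCompact 𝒴 → AlgSt.IsQuasiSeparatedOver 𝒴 → AlgSt.SmoothLocally (fun T ↦ IsLocallyNoetherian T) 𝒴 →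
      AlgSt.IsQuasiCompact 𝒳 ∧ AlgSt.IsQuasiSeparatedOver 𝒳 ∧ AlgSt.SmoothLocally (fun T ↦ IsLocallyNoetherian T) 𝒳 := by
  intro hqc hqs hN
  have hjq := isQuasiCompactMor_of_isImm_of_locallyNoetherian h𝒳 h𝒴 j hj hN
  exact ⟨isQuasiCompact_of_isQuasiCompactMor _ h𝒴 hqc j hjq,
    isQuasiSeparatedOver_of_isMono h𝒳.isStack.1 h𝒴.isStack.1 j (isMono_of_isImm j hj) hqs,
    smoothLocally_isLocallyNoetherian_of_locQ_lft h𝒳 h𝒴 j (locQ_lft_of_isImm h𝒳 h𝒴 j hj) hN⟩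

end Groth.Agent.S13018
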