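import Groth.Statements.S13020
import Mathlib
import Groth.Agent.Lib.Helper2.AlgSt.Pts.Noeth

open Groth.Agent.Helper2 Groth.Agent.Helper2.AlgStLib Groth.Agent.Helper2.AlgStLib.Pts

set_option autoImplicit false
universe u
open CategoryTheory AlgebraicGeometry
open AlgSt

namespace Groth.Agent.S13020

/-- If 𝒳 is a quasi-compact locally Noetherian algebraic stack then its space of points is a Noetherian
topological space. -/
theorem result
    (S : Scheme.{u}) (𝒳 : AlgSt.Cat S)
    (h𝒳 : AlgSt.IsAlgStack Scheme.fppfPrecoverage 𝒳) :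
    AlgSt.IsQuasiCompact 𝒳 → AlgSt.SmoothLocally (fun T ↦ IsLocallyNoetherian T) 𝒳 → TopologicalSpace.NoetherianSpace (AlgSt.Points 𝒳) := by
  intro hqc hN
  obtain ⟨U, x, hU, hx1, hx2⟩ := hqc
  haveI : IsAffine U.left := hU
  haveI : IsLocallyNoetherian U.left := hN U x hx1
  haveI : IsNoetherianRing Γ(U.left, ⊤) :=
    IsLocallyNoetherian.component_noetherian ⟨⊤, isAffineOpen_top U.left⟩
  haveI : TopologicalSpace.NoetherianSpace ↥U.left := noetherianSpace_of_isAffine
  exact TopologicalSpace.noetherianSpace_of_surjective (AlgSt.Points.ofChart x)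
    (continuous_ofChart h𝒳 x) (surjective_ofChart h𝒳.isStack.1 x hx2)

end Groth.Agent.S13020
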