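import Groth.Statements.S13021
import Mathlib
import Groth.Agent.Lib.Helper2.AlgSt.Pts.Noeth

open Groth.Agent.Helper2 Groth.Agent.Helper2.AlgStLib Groth.Agent.Helper2.AlgStLib.Pts

set_option autoImplicit false
universe u
open CategoryTheory AlgebraicGeometry
open AlgSt

namespace Groth.Agent.S13021

/-- The space of points of a locally Noetherian algebraic stack is quasi-sober: every irreducible closed
subset has a generic point. -/
theorem result
    (S : Scheme.{u}) (𝒳 : AlgSt.Cat S)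
    (h𝒳 : AlgSt.IsAlgStack Scheme.fppfPrecoverage 𝒳) :
    AlgSt.SmoothLocally (fun T ↦ IsLocallyNoetherian T) 𝒳 → QuasiSober (AlgSt.Points 𝒳) := by
  intro hN
  have h := exists_isOpen_noetherianSpace_nhd h𝒳 hN
  let 𝒮 : Set (Set (AlgSt.Points 𝒳)) := {W | IsOpen W ∧ QuasiSober ↥W}
  have h1 : ∀ s : 𝒮, IsOpen (s : Set (AlgSt.Points 𝒳)) := fun s => s.2.1
  have h2 : ∀ s : 𝒮, QuasiSober s := fun s => s.2.2
  refine @quasiSober_of_open_cover _ _ 𝒮 h1 h2 ?_
  rw [Set.top_eq_univ, Set.eq_univ_iff_forall]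
  intro x
  obtain ⟨W, hW, hxW, -, hs⟩ := h x
  exact ⟨W, ⟨hW, hs⟩, hxW⟩

end Groth.Agent.S13021
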