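import Groth.Statements.S13022
import Mathlib
import Groth.Agent.Lib.Helper2.AlgSt.LocQ.FppfLift

open Groth.Agent.Helper2 Groth.Agent.Helper2.FibCatLib Groth.Agent.Helper2.StkLib
open Groth.Agent.Helper2.AlgSpBasic Groth.Agent.Helper2.EtaleLocal
open Groth.Agent.Helper2.AlgStLib Groth.Agent.Helper2.AlgStLib.Pts Groth.Agent.Helper2.AlgStLib.LocQ

set_option autoImplicit false
universe u
open CategoryTheory AlgebraicGeometry
open AlgSt

namespace Groth.Agent.S13022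

/-- Let f_j : 𝒳_j → 𝒳 be a family of flat, locally finitely presented morphisms of algebraic stacks
which is jointly surjective on points. Then, given any scheme U and any object x of 𝒳 lying over U,
one can find an fppf covering {U_i → U}, indices j(i) and objects x_i of 𝒳_{j(i)} over U_i with
f_{j(i)}(x_i) ≅ x|_{U_i}. -/
theorem result
    (S : Scheme.{u}) (𝒳 : AlgSt.Cat S)
    (h𝒳 : AlgSt.IsAlgStack Scheme.fppfPrecoverage 𝒳)
    (J : Type u) (𝒳' : J → AlgSt.Cat S) (h𝒳' : ∀ j, AlgSt.IsAlgStack Scheme.fppfPrecoverage (𝒳' j))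
    (f : ∀ j, 𝒳' j ⥤ᵇ 𝒳)
    (hf₁ : ∀ j, AlgSt.LocQ (AlgSp.LocP @Flat) (f j)) (hf₂ : ∀ j, AlgSt.LocQ (AlgSp.LocP @LocallyOfFinitePresentation) (f j))
    (hf₃ : ∀ p : AlgSt.Points 𝒳, ∃ j, p ∈ Set.range (AlgSt.Points.map (f j)))
    (U : Over S) (x : FibCat.overCat U ⥤ᵇ 𝒳) :
    ∃ (ι : Type u) (V : ι → Over S) (g : ∀ i, V i ⟶ U) (c : ι → J),
      (Presieve.ofArrows (fun i ↦ (V i).left) fun i ↦ (g i).left) ∈ Scheme.fppfPrecoverage U.left ∧
      ∀ i, ∃ x' : FibCat.overCat (V i) ⥤ᵇ 𝒳' (c i),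
        Nonempty (BasedFunctor.comp x' (f (c i)) ≅ BasedFunctor.comp (AlgSt.overMap (g i)) x) := by
  have key : ∀ j, ∃ (T : Over S) (c : FibCat.overCat T ⥤ᵇ FibCat.fp (f j) x) (k : T ⟶ U),
      Nonempty (BasedFunctor.comp c (FibCat.fpSnd (f j) x) ≅ AlgSt.overMap k) ∧ Sm c ∧ Sj c ∧
        Flat k.left ∧ LocallyOfFinitePresentation k.left := fun j =>
    exists_chart_bc_of_locQ_inf @Flat @LocallyOfFinitePresentation
      (fun _ _ g (hg : Smooth g) => (inferInstance : Flat g))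
      (fun _ _ g (hg : Smooth g) => (inferInstance : LocallyOfFinitePresentation g))
      isSmoothLocalST_locP_flat isSmoothLocalST_locP_lfp (h𝒳' j) h𝒳 (f j) (hf₁ j) (hf₂ j) x
  choose T c k hθ hc1 hc2 hk1 hk2 using key
  refine ⟨J, T, k, id, ?_, fun j => ⟨BasedFunctor.comp (c j) (FibCat.fpFst (f j) x), ?_⟩⟩
  · rw [Scheme.fppfPrecoverage, Scheme.ofArrows_mem_precoverage_iff]
    refine ⟨fun u => ?_, fun j => ⟨hk1 j, hk2 j⟩⟩
    obtain ⟨j, hj⟩ := hf₃ (AlgSt.Points.ofChart x u)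
    obtain ⟨θ⟩ := hθ j
    have h𝒬 : AlgSt.IsAlgStack Scheme.fppfPrecoverage (FibCat.fp (f j) x) :=
      isAlgStack_fp _ (h𝒳' j) (isAlgStack_overCat U) h𝒳 (f j) x
    obtain ⟨t, ht⟩ := exists_point_of_chart_fp (h𝒳' j).isStack.1 h𝒳.isStack.1 (f j) x (c j) (k j) θ
      (hc2 j) h𝒬.isStack.1 u hj
    exact ⟨j, t, ht⟩
  · obtain ⟨θ⟩ := hθ j
    exact ⟨whiskerLeftIso (c j) (FibCat.fpIso (f j) x) ≪≫ (postF _ x).mapIso θ⟩

end Groth.Agent.S13022
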