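import Groth.Statements.S13035
import Mathlib
import Groth.Agent.Lib.Helper2.AlgSt.LocQ.FppfLift
import Groth.Agent.Lib.Helper2.ValRingLift

open Groth.Agent.Helper2 Groth.Agent.Helper2.FibCatLib Groth.Agent.Helper2.StkLib
open Groth.Agent.Helper2.AlgSpBasic Groth.Agent.Helper2.EtaleLocal
open Groth.Agent.Helper2.AlgStLib Groth.Agent.Helper2.AlgStLib.Pts Groth.Agent.Helper2.AlgStLib.LocQ

set_option autoImplicit false
universe u
open CategoryTheory AlgebraicGeometry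
open AlgSt

namespace Groth.Agent.S13035

/-- Let f : 𝒳 → 𝒴 be a flat morphism of algebraic stacks and Spec A → 𝒴 a morphism with A a valuation
ring whose closed point maps into the image of |𝒳| → |𝒴|. Then there are an extension of valuation
rings A → A' (an injective local homomorphism of valuation rings) and a morphism Spec A' → 𝒳 making
the square with Spec A' → Spec A → 𝒴 2-commute. -/
theorem result
    (S : Scheme.{u}) (𝒳 : AlgSt.Cat S) (𝒴 : AlgSt.Cat S)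
    (h𝒳 : AlgSt.IsAlgStack Scheme.fppfPrecoverage 𝒳)
    (h𝒴 : AlgSt.IsAlgStack Scheme.fppfPrecoverage 𝒴)
    (f : 𝒳 ⥤ᵇ 𝒴)
    (hf : AlgSt.LocQ (AlgSp.LocP @Flat) f)
    (A : Type u) [CommRing A] [IsDomain A] [ValuationRing A] (sA : Spec (CommRingCat.of A) ⟶ S)
    (a : FibCat.overCat (Over.mk sA) ⥤ᵇ 𝒴)
    (ha : AlgSt.Points.ofChart a (IsLocalRing.closedPoint A) ∈ Set.range (AlgSt.Points.map f)) :
    ∃ (A' : Type u) (_ : CommRing A') (_ : IsDomain A') (_ : ValuationRing A') (φ : A →+* A'),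
      Function.Injective φ ∧ IsLocalHom φ ∧
      ∃ x : FibCat.overCat (Over.mk (Spec.map (CommRingCat.ofHom φ) ≫ sA)) ⥤ᵇ 𝒳,
        Nonempty (BasedFunctor.comp x f ≅
          BasedFunctor.comp (AlgSt.overMap (Over.homMk (Spec.map (CommRingCat.ofHom φ)) rfl :
            Over.mk (Spec.map (CommRingCat.ofHom φ) ≫ sA) ⟶ Over.mk sA)) a) := by
  obtain ⟨T, c, k, ⟨θ⟩, hc1, hc2, hk⟩ := exists_chart_bc_of_locQ @Flat
    (fun _ _ g (hg : Smooth g) => (inferInstance : Flat g)) isSmoothLocalST_locP_flat h𝒳 h𝒴 f hf a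
  have h𝒬 : AlgSt.IsAlgStack Scheme.fppfPrecoverage (FibCat.fp f a) :=
    isAlgStack_fp _ h𝒳 (isAlgStack_overCat _) h𝒴 f a
  obtain ⟨t, ht⟩ := exists_point_of_chart_fp h𝒳.isStack.1 h𝒴.isStack.1 f a c k θ hc2
    h𝒬.isStack.1 (IsLocalRing.closedPoint A) ha
  haveI : Flat k.left := hk
  obtain ⟨A', i1, i2, i3, φ, ψ, hinj, hloc, hψ⟩ :=
    Groth.Agent.Helper2.ValRingLift.exists_valuationRing_lift (A := A) k.left t ht
  refine ⟨A', i1, i2, i3, φ, hinj, hloc, ?_⟩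
  have hw : ψ ≫ T.hom = Spec.map (CommRingCat.ofHom φ) ≫ sA := by
    rw [← Over.w k, ← Category.assoc, hψ]
    rfl
  let ψ' : Over.mk (Spec.map (CommRingCat.ofHom φ) ≫ sA) ⟶ T := Over.homMk ψ hw
  have hψk : ψ' ≫ k = (Over.homMk (Spec.map (CommRingCat.ofHom φ)) rfl :
      Over.mk (Spec.map (CommRingCat.ofHom φ) ≫ sA) ⟶ Over.mk sA) := by
    ext
    exact hψ
  refine ⟨BasedFunctor.comp (AlgSt.overMap ψ') (BasedFunctor.comp c (FibCat.fpFst f a)), ⟨?_⟩⟩
  exact whiskerLeftIso (AlgSt.overMap ψ')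
      (whiskerLeftIso c (FibCat.fpIso f a) ≪≫ (postF _ a).mapIso θ) ≪≫
    (postF _ a).mapIso (LocQ.overMapCompIso ψ' k) ≪≫ eqToIso (by rw [hψk]; rfl)

end Groth.Agent.S13035
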