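import Groth.Statements.S13036
import Mathlib
import Groth.Agent.Lib.Helper2.AlgSt.LocQ.FppfLift
import Groth.Agent.Lib.Helper2.AlgSt.Pts.Spectral
import Groth.Agent.Lib.Helper2.ValRingClosure

open Groth.Agent.Helper2 Groth.Agent.Helper2.FibCatLib Groth.Agent.Helper2.StkLib
open Groth.Agent.Helper2.AlgSpBasic Groth.Agent.Helper2.EtaleLocal
open Groth.Agent.Helper2.AlgStLib Groth.Agent.Helper2.AlgStLib.Pts Groth.Agent.Helper2.AlgStLib.LocQ

set_option autoImplicit false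
universe u
open CategoryTheory AlgebraicGeometry
open AlgSt

namespace Groth.Agent.S13036

/-- Let f : 𝒳 → 𝒴 be a quasi-compact morphism of algebraic stacks and y a point of |𝒴| in the closure of
the image of |f|. Then there are a valuation ring A with fraction field K and a 2-commutative square
Spec K → 𝒳, Spec A → 𝒴 (over Spec K → Spec A and f) such that the closed point of Spec A maps to y. -/
theorem result
    (S : Scheme.{u}) (𝒳 : AlgSt.Cat S) (𝒴 : AlgSt.Cat S)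
    (h𝒳 : AlgSt.IsAlgStack Scheme.fppfPrecoverage 𝒳)
    (h𝒴 : AlgSt.IsAlgStack Scheme.fppfPrecoverage 𝒴)
    (f : 𝒳 ⥤ᵇ 𝒴)
    (hf : AlgSt.IsQuasiCompactMor Scheme.fppfPrecoverage f)
    (y : AlgSt.Points 𝒴) (hy : y ∈ closure (Set.range (AlgSt.Points.map f))) :
    ∃ (A : Type u) (_ : CommRing A) (_ : IsDomain A) (_ : ValuationRing A) (sA : Spec (CommRingCat.of A) ⟶ S)
      (a : FibCat.overCat (Over.mk sA) ⥤ᵇ 𝒴)
      (x : FibCat.overCat (Over.mk (Spec.map (CommRingCat.ofHom (algebraMap A (FractionRing A))) ≫ sA)) ⥤ᵇ 𝒳),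
      Nonempty (BasedFunctor.comp x f ≅
        BasedFunctor.comp (AlgSt.overMap (Over.homMk (Spec.map (CommRingCat.ofHom (algebraMap A (FractionRing A)))) rfl :
          Over.mk (Spec.map (CommRingCat.ofHom (algebraMap A (FractionRing A))) ≫ sA) ⟶ Over.mk sA)) a) ∧
      AlgSt.Points.ofChart a (IsLocalRing.closedPoint A) = y := by
  obtain ⟨V₀, v₀, hv1, hv2⟩ := h𝒴.atlas
  obtain ⟨t₀, rfl⟩ := surjective_ofChart h𝒴.isStack.1 v₀ hv2 y
  obtain ⟨_, ⟨V', hV', rfl⟩, ht₀V', -⟩ :=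
    (V₀.left.isBasis_affineOpens).exists_subset_of_mem_open (Set.mem_univ t₀) isOpen_univ
  let V'' : V₀.left.Opens := V'
  have hV'' : IsAffineOpen V'' := hV'
  let V : Over S := Over.mk (V''.ι ≫ V₀.hom)
  let j : V ⟶ V₀ := Over.homMk V''.ι rfl
  haveI hVa : IsAffine V.left := hV''
  haveI : Smooth j.left := (inferInstance : Smooth V''.ι)
  let v : FibCat.overCat V ⥤ᵇ 𝒴 := BasedFunctor.comp (AlgSt.overMap j) v₀
  have hv : Sm v := sm_comp (isFibGrpd_overCat V) (isFibGrpd_overCat V₀) _ _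
    (repByAlgSpWith_smooth_overMap j) hv1
  let t : ↥V.left := ⟨t₀, ht₀V'⟩
  have hvt : AlgSt.Points.ofChart v t = AlgSt.Points.ofChart v₀ t₀ := ofChart_overMap j v₀ t
  have hVq : AlgSt.IsQuasiCompact (FibCat.overCat V) := isQuasiCompact_overCat V hVa
  have h𝒬 : AlgSt.IsAlgStack Scheme.fppfPrecoverage (FibCat.fp v f) :=
    isAlgStack_fp _ (isAlgStack_overCat V) h𝒳 h𝒴 v f
  obtain ⟨W, c, hW, hc1, hc2⟩ := hf (FibCat.overCat V) (isAlgStack_overCat V) hVq v
  haveI : IsAffine W.left := hW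
  obtain ⟨θ⟩ := nonempty_iso_overMap_classify (BasedFunctor.comp c (FibCat.fpFst v f))
  let k : W ⟶ V := OverFun.classify (BasedFunctor.comp c (FibCat.fpFst v f))
  have hcl : t ∈ closure (Set.range k.left) := by
    rw [mem_closure_iff]
    intro N hN htN
    have hopen : IsOpen (AlgSt.Points.ofChart v '' N) :=
      isOpenMap_ofChart h𝒴.isStack.1 v (repByAlgSpWith_flat_of_smooth hv)
        (repByAlgSpWith_lfp_of_smooth hv) N hN
    have hyN : AlgSt.Points.ofChart v₀ t₀ ∈ AlgSt.Points.ofChart v '' N := ⟨t, htN, hvt⟩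
    obtain ⟨_, ⟨n, hnN, hn⟩, ⟨p, rfl⟩⟩ := mem_closure_iff.1 hy _ hopen hyN
    obtain ⟨ω, hω1, -⟩ := exists_points_fp_of_map_eq h𝒳.isStack.1 h𝒴.isStack.1
      (isFibGrpd_overCat V) f v (ptEquiv V n) p (by rw [← ofChart_eq_map_ptEquiv]; exact hn)
    obtain ⟨w, rfl⟩ := surjective_ofChart h𝒬.isStack.1 c hc2 ω
    have hkw : k.left w = n := (ptEquiv V).injective (by
      rw [← hω1, map_ofChart, ofChart_congr θ, ofChart_eq_map_ptEquiv, map_overMap_ptEquiv])
    exact ⟨k.left w, by rw [hkw]; exact hnN, ⟨w, rfl⟩⟩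
  obtain ⟨A, i1, i2, i3, a, x, hxa, hcp⟩ :=
    Groth.Agent.Helper2.ValRingLift.exists_valuationRing_of_mem_closure_range k.left t hcl
  let sA : Spec (CommRingCat.of A) ⟶ S := a ≫ V.hom
  let a' : Over.mk sA ⟶ V := Over.homMk a rfl
  have hxw : x ≫ W.hom = Spec.map (CommRingCat.ofHom (algebraMap A (FractionRing A))) ≫ sA := by
    rw [← Over.w k, ← Category.assoc, hxa, Category.assoc]
  let x' : Over.mk (Spec.map (CommRingCat.ofHom (algebraMap A (FractionRing A))) ≫ sA) ⟶ W :=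
    Over.homMk x hxw
  let m : Over.mk (Spec.map (CommRingCat.ofHom (algebraMap A (FractionRing A))) ≫ sA) ⟶
      Over.mk sA := Over.homMk (Spec.map (CommRingCat.ofHom (algebraMap A (FractionRing A)))) rfl
  have hxk : x' ≫ k = m ≫ a' := by
    ext
    exact hxa
  refine ⟨A, i1, i2, i3, sA, BasedFunctor.comp (AlgSt.overMap a') v,
    BasedFunctor.comp (AlgSt.overMap x') (BasedFunctor.comp c (FibCat.fpSnd v f)), ⟨?_⟩, ?_⟩
  · exact whiskerLeftIso (AlgSt.overMap x')
        (whiskerLeftIso c (FibCat.fpIso v f).symm ≪≫ (postF _ v).mapIso θ) ≪≫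
      (postF _ v).mapIso (LocQ.overMapCompIso x' k ≪≫ eqToIso (by rw [hxk]) ≪≫
        (LocQ.overMapCompIso m a').symm)
  · rw [ofChart_overMap a' v, ← hvt]
    exact congrArg _ hcp

end Groth.Agent.S13036
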