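import Groth.Statements.S13041
import Mathlib
import Mathlib

set_option autoImplicit false
universe u
open MaxMod

open TensorProduct

namespace Groth.Agent.S13041

/-- Let R be a domain with fraction field K, let A → B be a homomorphism of commutative R-algebras that
are flat over R, with B module-finite over A, such that the induced map K ⊗_R A → K ⊗_R B is
bijective. If the A-linear map Hom_A(B, A) → A evaluating at 1 is surjective, then A → B is
bijective. (The published statement concerns a finite morphism of flat schemes over a discrete
valuation ring, with locally free relative dualizing sheaves, that is an isomorphism over a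
schematically dense open and whose trace map on dualizing sheaves is surjective; this row is the
statement about rings to which the printed proof reduces it and which that proof establishes, and
the argument uses only that R is a domain.) -/
theorem result
    (R K A B : Type u) [CommRing R] [IsDomain R] [Field K] [Algebra R K] [IsFractionRing R K]
    [CommRing A] [CommRing B] [Algebra R A] [Algebra R B] [Algebra A B] [IsScalarTower R A B]
    [Module.Flat R A] [Module.Flat R B] [Module.Finite A B]
    (hK : Function.Bijective
      (Algebra.TensorProduct.map (AlgHom.id R K) (IsScalarTower.toAlgHom R A B)))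
    (htr : Function.Surjective (fun u : B →ₗ[A] A => u 1)) :
    Function.Bijective (algebraMap A B) := by
  obtain ⟨u, hu⟩ := htr 1
  simp only at hu
  have hua : ∀ a : A, u (algebraMap A B a) = a := by
    intro a
    rw [Algebra.algebraMap_eq_smul_one, map_smul, hu, smul_eq_mul, mul_one]
  refine ⟨fun a a' h => by rw [← hua a, ← hua a', h], ?_⟩
  -- B → K ⊗ B injective
  have hinjB : Function.Injective (fun b : B => (1 : K) ⊗ₜ[R] b) := by
    have h1 : Function.Injective (Algebra.linearMap R K) := IsFractionRing.injective R K
    have h2 := Module.Flat.rTensor_preserves_injective_linearMap (M := B) (Algebra.linearMap R K) h1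
    intro b b' hbb'
    have : (Algebra.linearMap R K).rTensor B ((1 : R) ⊗ₜ[R] b) =
        (Algebra.linearMap R K).rTensor B ((1 : R) ⊗ₜ[R] b') := by
      simpa using hbb'
    have h3 := h2 this
    have := congrArg (TensorProduct.lid R B) h3
    simpa using this
  let uR : B →ₗ[R] A := u.restrictScalars R
  let ψ : K ⊗[R] B →ₗ[R] K ⊗[R] A := LinearMap.lTensor K uR
  let φ := Algebra.TensorProduct.map (AlgHom.id R K) (IsScalarTower.toAlgHom R A B)
  have hψφ : ∀ x : K ⊗[R] A, ψ (φ x) = x := by
    intro x
    induction x using TensorProduct.induction_on with
    | zero => simp
    | add x y hx hy => simp only [map_add, hx, hy]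
    | tmul c a => simp [φ, ψ, uR, hua]
  have hφψ : ∀ y : K ⊗[R] B, φ (ψ y) = y := by
    intro y
    obtain ⟨x, rfl⟩ := hK.2 y
    rw [hψφ]
  intro b
  refine ⟨u b, ?_⟩
  apply hinjB
  have := hφψ ((1 : K) ⊗ₜ[R] b)
  simpa [φ, ψ, uR] using this

end Groth.Agent.S13041
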