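import Groth.Statements.S13042
import Mathlib

set_option autoImplicit false
universe u
open MaxMod

namespace Groth.Agent.S13042

section

open MvPolynomial

variable (p : ℕ) [Fact p.Prime] (R : Type u) [CommRing R] [IsLocalRing R] [CharP R p]
  (lam f : R)

noncomputable abbrev P := MvPolynomial (Fin 2) R
noncomputable abbrev I1 : Ideal (P R) := Ideal.span {(X 0 ^ p - C f : MvPolynomial (Fin 2) R), X 1 ^ p - C f}
noncomputable abbrev I2 : Ideal (P R) := Ideal.span {(X 0 ^ p : MvPolynomial (Fin 2) R), X 1 ^ p - C f}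

theorem one_add_unit {x : R} (hx : x ∈ IsLocalRing.maximalIdeal R) : IsUnit (1 + x) := by
  by_contra h
  have h1 : 1 + x ∈ IsLocalRing.maximalIdeal R := (IsLocalRing.mem_maximalIdeal _).mpr h
  have h3 : (1 : R) ∈ IsLocalRing.maximalIdeal R := by
    have := Ideal.sub_mem _ h1 hx
    simpa using this
  exact (IsLocalRing.maximalIdeal.isMaximal R).ne_top ((Ideal.eq_top_iff_one _).mpr h3)

theorem mem1a : (X 0 ^ p - C f : P R) ∈ I1 p R f := Ideal.subset_span (by simp)
theorem mem1b : (X 1 ^ p - C f : P R) ∈ I1 p R f := Ideal.subset_span (by simp)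
theorem mem2a : (X 0 ^ p : P R) ∈ I2 p R f := Ideal.subset_span (by simp)
theorem mem2b : (X 1 ^ p - C f : P R) ∈ I2 p R f := Ideal.subset_span (by simp)

/-- forward generator images (upstairs) -/
noncomputable def g1 : Fin 2 → P R := ![X 0 + X 1 + C lam * X 0 * X 1, X 1]

/-- the forward map upstairs -/
noncomputable def phi0 : P R →ₐ[R] (P R ⧸ I2 p R f) :=
  aeval (fun i => Ideal.Quotient.mk (I2 p R f) (g1 R lam i))

theorem phi0_eq (q : P R) :
    phi0 p R lam f q = Ideal.Quotient.mk (I2 p R f) (aeval (g1 R lam) q) := by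
  unfold phi0
  induction q using MvPolynomial.induction_on with
  | C a => simp; rfl
  | add q r hq hr => rw [map_add, map_add, map_add, hq, hr]
  | mul_X q i hq => rw [map_mul, map_mul, map_mul, hq, aeval_X, aeval_X]

theorem phi0_kills : ∀ q ∈ I1 p R f, phi0 p R lam f q = 0 := by
  intro q hq
  have hle : I1 p R f ≤ RingHom.ker (phi0 p R lam f).toRingHom := by
    rw [Ideal.span_le]
    intro q hq
    simp only [Set.mem_insert_iff, Set.mem_singleton_iff] at hq
    rw [SetLike.mem_coe, RingHom.mem_ker]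
    change phi0 p R lam f q = 0
    rw [phi0_eq, Ideal.Quotient.eq_zero_iff_mem]
    rcases hq with rfl | rfl
    · have : aeval (g1 R lam) (X 0 ^ p - C f : P R)
          = X 0 ^ p * (1 + C lam ^ p * X 1 ^ p) + (X 1 ^ p - C f) := by
        simp only [map_sub, map_pow, aeval_X, aeval_C, g1, Matrix.cons_val_zero]
        rw [add_pow_char, add_pow_char, mul_pow, mul_pow]
        simp only [algebraMap_eq]
        ring
      rw [this]
      exact Ideal.add_mem _ (Ideal.mul_mem_right _ _ (mem2a p R f)) (mem2b p R f)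
    · have : aeval (g1 R lam) (X 1 ^ p - C f : P R) = X 1 ^ p - C f := by
        simp [g1]
      rw [this]
      exact mem2b p R f
  exact hle hq

/-- the forward map -/
noncomputable def phi : (P R ⧸ I1 p R f) →ₐ[R] (P R ⧸ I2 p R f) :=
  Ideal.Quotient.liftₐ (I1 p R f) (phi0 p R lam f) (phi0_kills p R lam f)

theorem phi_mk (q : P R) : phi p R lam f (Ideal.Quotient.mk _ q)
    = Ideal.Quotient.mk (I2 p R f) (aeval (g1 R lam) q) := by
  change phi0 p R lam f q = _
  exact phi0_eq p R lam f q

variable (c : R) (hc : c * (1 + lam ^ p * f) = 1)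

/-- the inverse of `1 + λ W` (upstairs) -/
noncomputable def v : P R := C c * (1 + C lam * X 1) ^ (p - 1)

include hc in
theorem v_spec : (1 + C lam * X 1) * v p R lam c - 1 = C (c * lam ^ p) * (X 1 ^ p - C f) := by
  have hp : p - 1 + 1 = p := Nat.sub_add_cancel (Fact.out : p.Prime).one_le
  have h1 : (1 + C lam * X 1 : P R) * v p R lam c = C c * (1 + C lam * X 1) ^ p := by
    unfold v
    rw [mul_left_comm, ← pow_succ', hp]
  rw [h1, add_pow_char, one_pow, mul_pow]
  have h2 : (C c : P R) * C (1 + lam ^ p * f) = 1 := by rw [← C_mul, hc, C_1]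
  have h3 : (C (1 + lam ^ p * f) : P R) = 1 + C lam ^ p * C f := by
    simp
  rw [h3] at h2
  rw [C_mul, C_pow]
  linear_combination h2

/-- backward generator images -/
noncomputable def g2 : Fin 2 → P R := ![(X 0 - X 1) * v p R lam c, X 1]

noncomputable def psi0 : P R →ₐ[R] (P R ⧸ I1 p R f) :=
  aeval (fun i => Ideal.Quotient.mk (I1 p R f) (g2 p R lam c i))

theorem psi0_eq (q : P R) :
    psi0 p R lam f c q = Ideal.Quotient.mk (I1 p R f) (aeval (g2 p R lam c) q) := by
  unfold psi0
  induction q using MvPolynomial.induction_on with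
  | C a => simp; rfl
  | add q r hq hr => rw [map_add, map_add, map_add, hq, hr]
  | mul_X q i hq => rw [map_mul, map_mul, map_mul, hq, aeval_X, aeval_X]

theorem psi0_kills : ∀ q ∈ I2 p R f, psi0 p R lam f c q = 0 := by
  intro q hq
  have hle : I2 p R f ≤ RingHom.ker (psi0 p R lam f c).toRingHom := by
    rw [Ideal.span_le]
    intro q hq
    simp only [Set.mem_insert_iff, Set.mem_singleton_iff] at hq
    rw [SetLike.mem_coe, RingHom.mem_ker]
    change psi0 p R lam f c q = 0
    rw [psi0_eq, Ideal.Quotient.eq_zero_iff_mem]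
    rcases hq with rfl | rfl
    · have : aeval (g2 p R lam c) (X 0 ^ p : P R)
          = ((X 0 ^ p - C f) - (X 1 ^ p - C f)) * (v p R lam c) ^ p := by
        simp only [map_pow, aeval_X, g2, Matrix.cons_val_zero]
        rw [mul_pow, sub_pow_char]
        ring
      rw [this]
      exact Ideal.mul_mem_right _ _ (Ideal.sub_mem _ (mem1a p R f) (mem1b p R f))
    · have : aeval (g2 p R lam c) (X 1 ^ p - C f : P R) = X 1 ^ p - C f := by
        simp [g2]
      rw [this]
      exact mem1b p R f
  exact hle hq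

noncomputable def psi : (P R ⧸ I2 p R f) →ₐ[R] (P R ⧸ I1 p R f) :=
  Ideal.Quotient.liftₐ (I2 p R f) (psi0 p R lam f c) (psi0_kills p R lam f c)

theorem psi_mk (q : P R) : psi p R lam f c (Ideal.Quotient.mk _ q)
    = Ideal.Quotient.mk (I1 p R f) (aeval (g2 p R lam c) q) := by
  change psi0 p R lam f c q = _
  exact psi0_eq p R lam f c q

theorem aeval_g1_v : aeval (g1 R lam) (v p R lam c) = v p R lam c := by
  unfold v
  simp [g1]

theorem aeval_g2_v : aeval (g2 p R lam c) (v p R lam c) = v p R lam c := by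
  unfold v
  simp [g2]

include hc in
theorem psi_phi : (psi p R lam f c).comp (phi p R lam f) = AlgHom.id R _ := by
  apply Ideal.Quotient.algHom_ext
  apply MvPolynomial.algHom_ext
  · intro i
    simp only [AlgHom.comp_apply, AlgHom.id_apply, Ideal.Quotient.mkₐ_eq_mk]
    rw [phi_mk, aeval_X, psi_mk]
    fin_cases i
    · have h : aeval (g2 p R lam c) (g1 R lam 0)
          = (X 0 - X 1) * v p R lam c + X 1 + C lam * ((X 0 - X 1) * v p R lam c) * X 1 := by
        simp [g1, g2]
      change Ideal.Quotient.mk (I1 p R f) (aeval (g2 p R lam c) (g1 R lam 0)) = _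
      rw [h, Ideal.Quotient.eq]
      have := v_spec p R lam f c hc
      have e : (X 0 - X 1) * v p R lam c + X 1 + C lam * ((X 0 - X 1) * v p R lam c) * X 1 - X 0
          = (X 0 - X 1) * ((1 + C lam * X 1) * v p R lam c - 1) := by
        ring
      have hgoal : (X 0 - X 1) * v p R lam c + X 1 + C lam * ((X 0 - X 1) * v p R lam c) * X 1 - X 0
          ∈ I1 p R f := by
        rw [e, this]
        exact Ideal.mul_mem_left _ _ (Ideal.mul_mem_left _ _ (mem1b p R f))
      exact hgoal
    · simp [g1, g2]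

include hc in
theorem phi_psi : (phi p R lam f).comp (psi p R lam f c) = AlgHom.id R _ := by
  apply Ideal.Quotient.algHom_ext
  apply MvPolynomial.algHom_ext
  · intro i
    simp only [AlgHom.comp_apply, AlgHom.id_apply, Ideal.Quotient.mkₐ_eq_mk]
    rw [psi_mk, aeval_X, phi_mk]
    fin_cases i
    · have h : aeval (g1 R lam) (g2 p R lam c 0)
          = (X 0 + X 1 + C lam * X 0 * X 1 - X 1) * v p R lam c := by
        have : g2 p R lam c 0 = (X 0 - X 1) * v p R lam c := rfl
        rw [this, map_mul, aeval_g1_v]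
        simp [g1]
      change Ideal.Quotient.mk (I2 p R f) (aeval (g1 R lam) (g2 p R lam c 0)) = _
      rw [h, Ideal.Quotient.eq]
      have := v_spec p R lam f c hc
      have e : (X 0 + X 1 + C lam * X 0 * X 1 - X 1) * v p R lam c - X 0
          = X 0 * ((1 + C lam * X 1) * v p R lam c - 1) := by ring
      have hgoal : (X 0 + X 1 + C lam * X 0 * X 1 - X 1) * v p R lam c - X 0 ∈ I2 p R f := by
        rw [e, this]
        exact Ideal.mul_mem_left _ _ (Ideal.mul_mem_left _ _ (mem2b p R f))
      exact hgoal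
    · simp [g1, g2]

theorem main
    (p : ℕ) [Fact p.Prime] (R : Type u) [CommRing R] [IsLocalRing R] [CharP R p]
    (lam f : R) (hlam : lam ∈ IsLocalRing.maximalIdeal R) :
    ∃ e : (MvPolynomial (Fin 2) R ⧸ Ideal.span {(X 0 ^ p - C f : MvPolynomial (Fin 2) R), X 1 ^ p - C f}) ≃ₐ[R]
        (MvPolynomial (Fin 2) R ⧸ Ideal.span {(X 0 ^ p : MvPolynomial (Fin 2) R), X 1 ^ p - C f}),
      e (Ideal.Quotient.mk _ (X 0)) = Ideal.Quotient.mk _ (X 0 + X 1 + C lam * X 0 * X 1) ∧
      e (Ideal.Quotient.mk _ (X 1)) = Ideal.Quotient.mk _ (X 1) := by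
  have hmem : lam ^ p * f ∈ IsLocalRing.maximalIdeal R := by
    have hp : p = (p - 1) + 1 := (Nat.sub_add_cancel (Fact.out : p.Prime).one_le).symm
    rw [hp, pow_succ, mul_assoc]
    exact Ideal.mul_mem_left _ _ (Ideal.mul_mem_right _ _ hlam)
  obtain ⟨u, hu⟩ := one_add_unit R hmem
  have hc : ((u⁻¹ : Rˣ) : R) * (1 + lam ^ p * f) = 1 := by
    rw [← hu]; simp
  let e : (P R ⧸ I1 p R f) ≃ₐ[R] (P R ⧸ I2 p R f) :=
    AlgEquiv.ofAlgHom (phi p R lam f) (psi p R lam f _) (phi_psi p R lam f _ hc) (psi_phi p R lam f _ hc)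
  have he : ∀ z, e z = phi p R lam f z := fun z => rfl
  refine ⟨e, ?_, ?_⟩
  · rw [he, phi_mk, aeval_X]
    rfl
  · rw [he, phi_mk, aeval_X]
    rfl


end


open MvPolynomial in
/-- Let p be a prime, R a local ring of characteristic p, λ an element of the maximal ideal of R and f ∈
R. Then there is an isomorphism of R-algebras R[W₁, W₂]/(W₁^p − f, W₂^p − f) ≅ R[x, W]/(x^p, W^p −
f) with W₁ ↦ x + W + λ·x·W and W₂ ↦ W; that is, Spec R[W]/(W^p − f) with the action w ↦ x + w + λxw
is a torsor under the group scheme Spec R[x]/(x^p) with law x₁ ∘ x₂ = x₁ + x₂ + λx₁x₂. (The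
published statement is over a complete discrete valuation ring of characteristic p with λ a nonzero
nonunit, and also asserts that for f in the fraction field with negative valuation v(f) > −p·v(λ)
the torsor W^p = f extends to a torsor over R, using the coordinate 1/W; that second case fails: for
p = 2, λ = π a uniformizer and f = 1/π, every model is Spec R[π^a t] with t² = π, and none of these
is a torsor since the coaction sends t to t − π(1 + t)x. Only the case f ∈ R is stated, and the
argument there uses only that R is local of characteristic p.) -/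
theorem result
    (p : ℕ) [Fact p.Prime] (R : Type u) [CommRing R] [IsLocalRing R] [CharP R p]
    (lam f : R) (hlam : lam ∈ IsLocalRing.maximalIdeal R) :
    ∃ e : (MvPolynomial (Fin 2) R ⧸ Ideal.span {(X 0 ^ p - C f : MvPolynomial (Fin 2) R), X 1 ^ p - C f}) ≃ₐ[R]
        (MvPolynomial (Fin 2) R ⧸ Ideal.span {(X 0 ^ p : MvPolynomial (Fin 2) R), X 1 ^ p - C f}),
      e (Ideal.Quotient.mk _ (X 0)) = Ideal.Quotient.mk _ (X 0 + X 1 + C lam * X 0 * X 1) ∧
      e (Ideal.Quotient.mk _ (X 1)) = Ideal.Quotient.mk _ (X 1) := by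
  classical
  exact main p R lam f hlam

end Groth.Agent.S13042
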