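import Groth.Statements.S1305
import Mathlib
import Groth.Prelude.Def_MoreMor
import Groth.Agent.Lib.Helper9.ThickAff
import Groth.Agent.S1302
-- import your own Groth.Agent.* helpers here

set_option autoImplicit false
universe u
open FlatMor

namespace Groth.Agent.S1305

open AlgebraicGeometry CategoryTheory
namespace Aux

lemma ringHom_isIntegral_of_comp {R A B : Type*} [CommRing R] [CommRing A] [CommRing B]
    (ψ : R →+* A) (χ : A →+* B) (h : (χ.comp ψ).IsIntegral)
    (hnil : ∀ a : A, χ a = 0 → IsNilpotent a) : ψ.IsIntegral := by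
  intro x'
  obtain ⟨p, hp, hp0⟩ := h (χ x')
  have h1 : χ (Polynomial.eval₂ ψ x' p) = 0 := by
    rw [Polynomial.hom_eval₂]
    exact hp0
  obtain ⟨m, hm⟩ := hnil _ h1
  exact ⟨p ^ m, hp.pow m, by rw [Polynomial.eval₂_pow, hm]⟩

theorem main {X X' S S' : Scheme.{u}} (iX : X ⟶ X') (iS : S ⟶ S') (f : X ⟶ S) (f' : X' ⟶ S')
    (hX : MoreMor.IsThickening iX) (hS : MoreMor.IsThickening iS) (w : iX ≫ f' = f ≫ iS) :
    IsIntegralHom f ↔ IsIntegralHom f' := by
  have := hX.1
  have := hS.1
  have hXs : Function.Surjective iX := hX.2.surj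
  constructor
  · intro hf
    have haff : IsAffineHom f' := (Groth.Agent.S1302.result iX iS f f' hX hS w).1 inferInstance
    have hint : IsIntegralHom (iX ≫ f') := by
      rw [w]
      infer_instance
    refine ⟨fun V' hV' => ?_⟩
    have h1 := (iX ≫ f').isIntegral_app V' hV'
    rw [Scheme.Hom.comp_app] at h1
    refine ringHom_isIntegral_of_comp (f'.app V').hom (iX.app (f' ⁻¹ᵁ V')).hom h1 ?_
    intro a ha
    exact H9ThickAff.isNilpotent_of_app_eq_zero iX hXs (hV'.preimage f').isCompact a ha
  · intro hf'
    have : IsIntegralHom (f ≫ iS) := by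
      rw [← w]
      infer_instance
    exact IsIntegralHom.of_comp f iS

end Aux

open AlgebraicGeometry CategoryTheory Limits in
/-- For a morphism of thickenings, that is a commutative square whose horizontal maps are thickenings
(closed immersions that are surjective on points), the morphism between the thin schemes is integral
if and only if the morphism between the thick ones is. -/
theorem result {X X' S S' : Scheme.{u}} (iX : X ⟶ X') (iS : S ⟶ S') (f : X ⟶ S) (f' : X' ⟶ S')
    (hX : MoreMor.IsThickening iX) (hS : MoreMor.IsThickening iS) (w : iX ≫ f' = f ≫ iS) :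
    IsIntegralHom f ↔ IsIntegralHom f' := by
  exact Aux.main iX iS f f' hX hS w

end Groth.Agent.S1305
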