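import Groth.Statements.S13053
import Mathlib
import Groth.Agent.Lib.Lead.ZetaPn5

set_option autoImplicit false
universe u
open CategoryTheory AlgebraicGeometry
open Zeta

namespace Groth.Agent.S13053

/-- For a finite field k with q elements, Z(P^n_k, t) = 1 / ((1 − t)(1 − qt) ⋯ (1 − q^n t)); stated as
Z(P^n_k, t) · ∏_{i = 0}^{n} (1 − q^i t) = 1 in ℚ⟦t⟧. -/
theorem result (k : Type u) [Field k] [Finite k] (n : ℕ) :
    Zeta.zetaFun (CohB1.ProjSpace.toSpec n k) *
        ∏ i ∈ Finset.range (n + 1), (1 - PowerSeries.C ((Nat.card k : ℚ) ^ i) * PowerSeries.X) = 1 := by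
  classical
  have h := Groth.Agent.Lead.ZetaPn.zeta_projSpace (n := n) k
  rw [← Groth.Agent.Lead.ZetaPn.toSpec_eq] at h
  exact h

end Groth.Agent.S13053
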