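import Groth.Statements.S13060
import Mathlib
import Mathlib

set_option autoImplicit false
universe u v w x
open TensorProduct
open Zeta

open TensorProduct

namespace Groth.Agent.S13060

/-- Let k be a field, V and W vector spaces over k and G a group acting on V by k-linear automorphisms;
for the induced action on V ⊗_k W (trivial on W) one has (V ⊗_k W)^G = V^G ⊗_k W, i.e. the
invariants of V ⊗ W are the image of V^G ⊗ W → V ⊗ W. -/
theorem result {k : Type u} [Field k] {G : Type v} [Group G]
    {V : Type w} {W : Type x} [AddCommGroup V] [Module k V] [AddCommGroup W] [Module k W]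
    (ρ : Representation k G V) :
    (ρ.tprod (Representation.trivial k G W)).invariants =
      LinearMap.range (TensorProduct.map ρ.invariants.subtype (LinearMap.id : W →ₗ[k] W)) := by
  classical
  let b := Module.Free.chooseBasis k W
  let e := TensorProduct.equivFinsuppOfBasisRight (M := V) b
  have hkey : ∀ (g : G) (y : V ⊗[k] W) (i : Module.Free.ChooseBasisIndex k W),
      e ((ρ.tprod (Representation.trivial k G W)) g y) i = ρ g (e y i) := by
    intro g y i
    induction y using TensorProduct.induction_on with
    | zero => simp
    | add y z hy hz => simp only [map_add, Finsupp.add_apply, hy, hz]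
    | tmul v w' =>
      simp [e]
  apply le_antisymm
  · intro y hy
    rw [Representation.mem_invariants] at hy
    have hi : ∀ i, e y i ∈ ρ.invariants := by
      intro i g
      have := hkey g y i
      rw [hy g] at this
      exact this.symm
    have hy' : y = e.symm (e y) := (e.symm_apply_apply y).symm
    rw [hy', TensorProduct.equivFinsuppOfBasisRight_symm_apply]
    refine Submodule.sum_mem _ (fun i _ => ?_)
    exact ⟨(⟨e y i, hi i⟩ : ρ.invariants) ⊗ₜ b i, by simp⟩
  · rintro _ ⟨y, rfl⟩
    induction y using TensorProduct.induction_on with
    | zero => simp
    | add y z hy hz => rw [map_add]; exact Submodule.add_mem _ hy hz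
    | tmul v w' =>
      intro g
      simp [v.2 g]

end Groth.Agent.S13060
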