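import Groth.Statements.S13061
import Mathlib
import Mathlib
import Groth.Agent.Lib.Helper5.Misc.ChooseLucas

set_option autoImplicit false
universe u v w
open Zeta

open Helper5.S13061

namespace Groth.Agent.S13061

/-- Let A be a commutative algebra over a field k, G a finite group acting on A by k-algebra
automorphisms and I ⊆ A an ideal preserved by G. If p^n is the largest power of p = char(k) dividing
|G| (with p^n = 1 when char(k) = 0), then for every G-invariant b ∈ A/I the power b^{p^n} lies in
the image of A^G → (A/I)^G. (The published statement takes A finitely generated over k, which the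
proof does not use.) -/
theorem result {k : Type u} [Field k]
    {A : Type v} [CommRing A] [Algebra k A] {G : Type w} [Group G] [Finite G]
    [MulSemiringAction G A] [SMulCommClass G k A] (I : Ideal A)
    (hI : ∀ (g : G) (a : A), a ∈ I → g • a ∈ I) (u : A) (hu : ∀ g : G, g • u - u ∈ I) :
    ∃ a : A, (∀ g : G, g • a = a) ∧
      Ideal.Quotient.mk I a =
        Ideal.Quotient.mk I u ^ (ringChar k ^ (Nat.card G).factorization (ringChar k)) := by
  classical
  haveI : Fintype G := Fintype.ofFinite G
  set p := ringChar k with hp
  set N := Nat.card G with hN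
  set v := N.factorization p with hv
  set q := p ^ v with hq
  have hNpos : 0 < N := Nat.card_pos
  have hNcard : N = Fintype.card G := Nat.card_eq_fintype_card
  -- the binomial coefficient is nonzero in k
  have hc : ((Nat.choose N q : ℕ) : k) ≠ 0 := by
    rw [Ne, CharP.cast_eq_zero_iff k p]
    rcases CharP.char_is_prime_or_zero k p with hpp | hp0
    · haveI : Fact p.Prime := ⟨hpp⟩
      obtain ⟨m, hm⟩ : q ∣ N := Nat.ordProj_dvd N p
      have hmp : ¬ p ∣ m := by
        intro hdvd
        obtain ⟨m', rfl⟩ := hdvd
        have : p ^ (v + 1) ∣ N := ⟨m', by rw [hm, hq]; ring⟩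
        exact Nat.pow_succ_factorization_not_dvd hNpos.ne' hpp this
      rw [hm]
      exact choose_pow_mul_not_dvd p _ m hmp
    · have hq1 : q = 1 := by
        have hv0 : v = 0 := by rw [hv, hp0]; simp
        rw [hq, hv0, pow_zero]
      rw [hq1, Nat.choose_one_right, hp0, zero_dvd_iff]
      exact hNpos.ne'
  let a0 : A := ∑ S ∈ (Finset.univ : Finset G).powersetCard q, ∏ g ∈ S, g • u
  have hinv0 : ∀ h : G, h • a0 = a0 := by
    intro h
    simp only [a0, Finset.smul_sum, Finset.smul_prod', smul_smul]
    refine Finset.sum_nbij' (fun S => S.map (mulLeftEmbedding h)) (fun S => S.map (mulLeftEmbedding h⁻¹))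
      ?_ ?_ ?_ ?_ ?_
    · intro S hS
      rw [Finset.mem_powersetCard] at hS ⊢
      exact ⟨Finset.subset_univ _, by rw [Finset.card_map]; exact hS.2⟩
    · intro S hS
      rw [Finset.mem_powersetCard] at hS ⊢
      exact ⟨Finset.subset_univ _, by rw [Finset.card_map]; exact hS.2⟩
    · intro S _
      ext g
      simp
    · intro S _
      ext g
      simp
    · intro S _
      rw [Finset.prod_map]
      rfl
  have hmod0 : Ideal.Quotient.mk I a0 = (Nat.choose N q : ℕ) • (Ideal.Quotient.mk I u) ^ q := by
    simp only [a0, map_sum, map_prod]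
    have : ∀ S ∈ (Finset.univ : Finset G).powersetCard q,
        ∏ g ∈ S, Ideal.Quotient.mk I (g • u) = (Ideal.Quotient.mk I u) ^ q := by
      intro S hS
      rw [Finset.mem_powersetCard] at hS
      rw [← hS.2, ← Finset.prod_const]
      refine Finset.prod_congr rfl (fun g _ => ?_)
      rw [Ideal.Quotient.eq]
      exact hu g
    rw [Finset.sum_congr rfl this, Finset.sum_const, Finset.card_powersetCard, Finset.card_univ,
      ← hNcard]
  refine ⟨((Nat.choose N q : ℕ) : k)⁻¹ • a0, ?_, ?_⟩
  · intro g
    rw [smul_comm, hinv0]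
  · have : Ideal.Quotient.mk I (((Nat.choose N q : ℕ) : k)⁻¹ • a0) =
        ((Nat.choose N q : ℕ) : k)⁻¹ • Ideal.Quotient.mk I a0 := by
      rw [Algebra.smul_def, Algebra.smul_def, map_mul]
      rfl
    rw [this, hmod0, ← Nat.cast_smul_eq_nsmul k, smul_smul, inv_mul_cancel₀ hc, one_smul]

end Groth.Agent.S13061
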