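import Groth.Statements.S13065
import Mathlib

set_option autoImplicit false
universe u
open Zeta

namespace Groth.Agent.S13065

section
open MvPolynomial Finset

open Classical in
theorem sum_pow_all (K : Type u) [Field K] [Fintype K] (i : ℕ) :
    ∑ x : K, x ^ i = if 0 < i ∧ (Fintype.card K - 1) ∣ i then -1 else 0 := by
  by_cases hi : i = 0
  · subst hi
    simp [FiniteField.cast_card_eq_zero]
  · have hpos : 0 < i := Nat.pos_of_ne_zero hi
    let φ : Kˣ ↪ K := ⟨fun x ↦ x, Units.val_injective⟩
    have hmap : univ.map φ = univ \ {0} := by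
      ext x
      simp only [mem_map, mem_univ, Function.Embedding.coeFn_mk, true_and, mem_sdiff,
        mem_singleton, φ]
      constructor
      · rintro ⟨u, rfl⟩
        exact u.ne_zero
      · intro h
        exact ⟨Units.mk0 x h, rfl⟩
    have h1 : ∑ x : K, x ^ i = ∑ x : Kˣ, (x ^ i : K) := by
      calc ∑ x : K, x ^ i = ∑ x ∈ univ \ {(0 : K)}, x ^ i := by
            rw [← sum_sdiff ({0} : Finset K).subset_univ, sum_singleton, zero_pow hi, add_zero]
        _ = ∑ x : Kˣ, (x ^ i : K) := by simp [φ, ← hmap, univ.sum_map φ]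
    rw [h1, FiniteField.sum_pow_units K i]
    simp [hpos]

open Classical in
theorem sum_eval (K : Type u) [Field K] [Fintype K] (N : ℕ)
    (g : MvPolynomial (Fin N) K) (hg : g.IsHomogeneous (N * (Fintype.card K - 1))) :
    ∑ a : Fin N → K, eval a g =
      coeff (Finsupp.equivFunOnFinite.symm fun _ : Fin N => Fintype.card K - 1) g * (-1) ^ N := by
  have hq : 1 < Fintype.card K := Fintype.one_lt_card
  have hq1 : 0 < Fintype.card K - 1 := by omega
  have h1 : ∀ a : Fin N → K, eval a g = ∑ d ∈ g.support, coeff d g * ∏ i, a i ^ d i :=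
    fun a => eval_eq' a g
  simp_rw [h1]
  rw [Finset.sum_comm]
  have h2 : ∀ d : Fin N →₀ ℕ, ∑ a : Fin N → K, coeff d g * ∏ i, a i ^ d i
      = coeff d g * ∏ i, ∑ x : K, x ^ d i := by
    intro d
    rw [← Finset.mul_sum, Finset.prod_univ_sum, Fintype.piFinset_univ]
  simp_rw [h2]
  obtain ⟨m₀, hm₀⟩ : ∃ m₀ : Fin N →₀ ℕ,
    m₀ = Finsupp.equivFunOnFinite.symm fun _ : Fin N => Fintype.card K - 1 := ⟨_, rfl⟩
  have hm₀i : ∀ i, m₀ i = Fintype.card K - 1 := by
    intro i; rw [hm₀]; rfl
  rw [← hm₀]
  rw [Finset.sum_eq_single m₀]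
  · congr 1
    rw [Finset.prod_congr rfl (fun i _ => by rw [sum_pow_all K (m₀ i), hm₀i i, if_pos ⟨hq1, dvd_rfl⟩])]
    simp
  · intro d hd hne
    have hdeg : N * (Fintype.card K - 1) = ∑ i, d i := by
      rw [hg.degree_eq_sum_deg_support hd]
      exact (Finsupp.degree_eq_sum d)
    by_cases hall : ∀ i, 0 < d i ∧ (Fintype.card K - 1) ∣ d i
    · exfalso
      apply hne
      have hge : ∀ i, Fintype.card K - 1 ≤ d i := fun i => Nat.le_of_dvd (hall i).1 (hall i).2
      have hsum : ∑ i : Fin N, (Fintype.card K - 1) = ∑ i, d i := by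
        rw [← hdeg]; simp
      have := (Finset.sum_eq_sum_iff_of_le (fun i _ => hge i)).1 hsum
      ext i
      rw [hm₀i i]
      exact (this i (Finset.mem_univ i)).symm
    · have : ∃ i, ¬ (0 < d i ∧ (Fintype.card K - 1) ∣ d i) := by
        by_contra hcon
        exact hall (fun i => by_contra fun h => hcon ⟨i, h⟩)
      obtain ⟨i, hi⟩ := this
      rw [Finset.prod_eq_zero (Finset.mem_univ i), mul_zero]
      rw [sum_pow_all K (d i), if_neg hi]
  · intro hnot
    rw [MvPolynomial.notMem_support_iff.1 hnot, zero_mul]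

open Classical in
theorem main {k : Type u} [Field k] [Finite k] (p : ℕ)
    [CharP k p] (n : ℕ) (hn : 2 ≤ n) (f : MvPolynomial (Fin (n + 1)) k)
    (hf : f.IsHomogeneous (n + 1)) :
    p ∣ Nat.card {a : Fin (n + 1) → k // MvPolynomial.eval a f = 0} ↔
      MvPolynomial.coeff (Finsupp.equivFunOnFinite.symm fun _ : Fin (n + 1) => Nat.card k - 1)
        (f ^ (Nat.card k - 1)) = 0 := by
  have : Fintype k := Fintype.ofFinite k
  rw [Nat.card_eq_fintype_card (α := k)]
  have hq : 1 < Fintype.card k := Fintype.one_lt_card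
  have hq1 : Fintype.card k - 1 ≠ 0 := by omega
  have hg := sum_eval k (n + 1) (f ^ (Fintype.card k - 1)) (hf.pow _)
  rw [← CharP.cast_eq_zero_iff k p]
  have hN : ((Nat.card {a : Fin (n + 1) → k // MvPolynomial.eval a f = 0} : ℕ) : k)
      = ∑ a : Fin (n+1) → k, (1 - (eval a f) ^ (Fintype.card k - 1)) := by
    rw [Nat.card_eq_fintype_card, Fintype.card_subtype, Finset.natCast_card_filter]
    apply Finset.sum_congr rfl
    intro a _
    by_cases h : eval a f = 0
    · rw [if_pos h, h, zero_pow hq1, sub_zero]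
    · rw [if_neg h, FiniteField.pow_card_sub_one_eq_one _ h, sub_self]
  rw [hN, Finset.sum_sub_distrib]
  simp_rw [← map_pow]
  rw [hg]
  simp only [Finset.sum_const, Finset.card_univ, Fintype.card_pi_const, nsmul_eq_mul, mul_one,
    Nat.cast_pow, FiniteField.cast_card_eq_zero]
  rw [zero_pow (by omega), zero_sub, neg_eq_zero, mul_eq_zero]
  constructor
  · rintro (h | h)
    · exact h
    · exact absurd h (pow_ne_zero _ (by simp))
  · intro h; exact Or.inl h


end


/-- Let k be a finite field with q elements and characteristic p, n ≥ 2, and f ∈ k[x_0, …, x_n]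
homogeneous of degree n + 1, defining the hypersurface Z ⊂ P^n_k. Then #Z(F_q) ≢ 1 (mod p) if and
only if the coefficient of (x_0 ⋯ x_n)^{q−1} in f^{q−1} is nonzero. Stated through the affine count:
#Z(F_q) ≡ 1 (mod p) exactly when p divides the number of zeros of f in k^{n+1} (as (q − 1) #Z(F_q) +
1 is that number). -/
theorem result {k : Type u} [Field k] [Finite k] (p : ℕ)
    [CharP k p] (n : ℕ) (hn : 2 ≤ n) (f : MvPolynomial (Fin (n + 1)) k)
    (hf : f.IsHomogeneous (n + 1)) :
    p ∣ Nat.card {a : Fin (n + 1) → k // MvPolynomial.eval a f = 0} ↔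
      MvPolynomial.coeff (Finsupp.equivFunOnFinite.symm fun _ : Fin (n + 1) => Nat.card k - 1)
        (f ^ (Nat.card k - 1)) = 0 := by
  classical
  exact main p n hn f hf

end Groth.Agent.S13065
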