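import Groth.Statements.S13066
import Mathlib

set_option autoImplicit false
universe u
open Zeta

namespace S13066aux
open MvPolynomial

variable {k : Type u} [Field k] (p : ℕ) [hp : Fact p.Prime] [CharP k p] {n : ℕ}

/-- the constant exponent vector -/
noncomputable abbrev cst (n c : ℕ) : Fin (n + 1) →₀ ℕ := Finsupp.equivFunOnFinite.symm fun _ => c

theorem cst_apply (n c : ℕ) (j : Fin (n + 1)) : cst n c j = c := rfl

theorem key (G g : MvPolynomial (Fin (n + 1)) k) (hg : g.IsHomogeneous ((n + 1) * (p - 1)))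
    (P : ℕ) :
    coeff (cst n (p * P + (p - 1))) (G ^ p * g) =
      (coeff (cst n P) G) ^ p * coeff (cst n (p - 1)) g := by
  classical
  have hp1 : 1 ≤ p := hp.out.one_le
  have hp0 : p ≠ 0 := hp.out.ne_zero
  have hGp : G ^ p = map (frobenius k p) (expand p G) := (map_frobenius_expand p).symm
  rw [coeff_mul]
  rw [Finset.sum_eq_single (p • cst n P, cst n (p - 1))]
  · rw [hGp, coeff_map, coeff_expand_smul p hp0, frobenius_def]
  · rintro ⟨a, b⟩ hab hne
    replace hab : a + b = cst n (p * P + (p - 1)) := Finset.HasAntidiagonal.mem_antidiagonal.mp hab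
    by_contra hcon
    have ha : coeff a (G ^ p) ≠ 0 := left_ne_zero_of_mul hcon
    have hb : coeff b g ≠ 0 := right_ne_zero_of_mul hcon
    have hdvd : ∀ j, p ∣ a j := by
      intro j
      by_contra hj
      apply ha
      rw [hGp, coeff_map, coeff_expand_of_not_dvd _ hj, map_zero]
    have hsum : ∀ j, a j + b j = p * P + (p - 1) := by
      intro j
      have := DFunLike.congr_fun hab j
      simpa using this
    have hbge : ∀ j, p - 1 ≤ b j := by
      intro j
      obtain ⟨c, hc⟩ := hdvd j
      have h1 := hsum j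
      rw [hc] at h1
      by_contra hlt
      push Not at hlt
      -- p * c + b j = p * P + (p - 1), b j < p - 1
      have h2 : (p * c + b j) % p = (p * P + (p - 1)) % p := by rw [h1]
      rw [Nat.mul_add_mod, Nat.mul_add_mod, Nat.mod_eq_of_lt (by omega : b j < p),
        Nat.mod_eq_of_lt (by omega : p - 1 < p)] at h2
      omega
    have hbdeg : ∑ j, b j = (n + 1) * (p - 1) := by
      have := hg hb
      rw [← Finsupp.degree_eq_sum, Finsupp.degree_eq_weight_one]
      exact this
    have hbeq : ∀ j, b j = p - 1 := by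
      have h1 : ∑ _j : Fin (n + 1), (p - 1) = ∑ j, b j := by
        rw [hbdeg, Finset.sum_const, Finset.card_univ, Fintype.card_fin, smul_eq_mul]
      have := (Finset.sum_eq_sum_iff_of_le (fun j _ => hbge j)).1 h1
      intro j
      exact (this j (Finset.mem_univ j)).symm
    apply hne
    have hb' : b = cst n (p - 1) := by
      ext j
      rw [hbeq j, cst_apply]
    have ha' : a = p • cst n P := by
      ext j
      have := hsum j
      rw [hbeq j] at this
      simp only [Finsupp.smul_apply, cst_apply, smul_eq_mul]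
      omega
    rw [ha', hb']
  · intro hnot
    exfalso
    apply hnot
    refine Finset.HasAntidiagonal.mem_antidiagonal.mpr ?_
    ext j
    simp


theorem coeff_pow_succ (f : MvPolynomial (Fin (n + 1)) k) (hf : f.IsHomogeneous (n + 1)) (e : ℕ) :
    coeff (cst n (p ^ (e + 1) - 1)) (f ^ (p ^ (e + 1) - 1)) =
      (coeff (cst n (p ^ e - 1)) (f ^ (p ^ e - 1))) ^ p * coeff (cst n (p - 1)) (f ^ (p - 1)) := by
  have hp1 : 1 ≤ p := hp.out.one_le
  have hpe : 1 ≤ p ^ e := Nat.one_le_pow _ _ hp.out.pos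
  have h1 : p ^ (e + 1) - 1 = p * (p ^ e - 1) + (p - 1) := by
    rw [pow_succ, Nat.mul_sub, mul_comm p (p ^ e)]
    have : p ≤ p ^ e * p := by nlinarith
    omega
  have h2 : f ^ (p ^ (e + 1) - 1) = (f ^ (p ^ e - 1)) ^ p * f ^ (p - 1) := by
    rw [h1, pow_add, pow_mul']
  rw [h2, h1]
  exact key p _ _ (hf.pow (p - 1)) _

theorem coeff_ne_zero_iff (f : MvPolynomial (Fin (n + 1)) k) (hf : f.IsHomogeneous (n + 1))
    (e : ℕ) (he : 1 ≤ e) :
    coeff (cst n (p ^ e - 1)) (f ^ (p ^ e - 1)) ≠ 0 ↔ coeff (cst n (p - 1)) (f ^ (p - 1)) ≠ 0 := by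
  induction e, he using Nat.le_induction with
  | base => rw [pow_one]
  | succ e he ih =>
    rw [coeff_pow_succ p f hf e, mul_ne_zero_iff, pow_ne_zero_iff hp.out.ne_zero, ih]
    exact ⟨fun h => h.2, fun h => ⟨h, h⟩⟩

end S13066aux

open S13066aux

namespace Groth.Agent.S13066

/-- Let k be a finite field with q elements and characteristic p, n ≥ 2, and f ∈ k[x_0, …, x_n]
homogeneous of degree n + 1. Then the coefficient of (x_0 ⋯ x_n)^{q−1} in f^{q−1} is nonzero if and
only if the coefficient of (x_0 ⋯ x_n)^{p−1} in f^{p−1} is nonzero. -/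
theorem result {k : Type u} [Field k] [Finite k]
    (p : ℕ) [CharP k p] (n : ℕ) (hn : 2 ≤ n) (f : MvPolynomial (Fin (n + 1)) k)
    (hf : f.IsHomogeneous (n + 1)) :
    MvPolynomial.coeff (Finsupp.equivFunOnFinite.symm fun _ : Fin (n + 1) => Nat.card k - 1)
        (f ^ (Nat.card k - 1)) ≠ 0 ↔
      MvPolynomial.coeff (Finsupp.equivFunOnFinite.symm fun _ : Fin (n + 1) => p - 1)
        (f ^ (p - 1)) ≠ 0 := by
  have : Fintype k := Fintype.ofFinite k
  obtain ⟨e, hpp, he⟩ := FiniteField.card k p
  have : Fact p.Prime := ⟨hpp⟩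
  rw [Nat.card_eq_fintype_card, he]
  exact coeff_ne_zero_iff p f hf e e.2

end Groth.Agent.S13066
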