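import Groth.Statements.S1307

set_option autoImplicit false
universe u
open FlatMor

namespace Groth.Agent.S1307

open AlgebraicGeometry CategoryTheory Limits in
/-- For a morphism of thickenings, that is a commutative square whose horizontal maps are thickenings
(closed immersions that are surjective on points), the morphism between the thin schemes is
universally injective if and only if the morphism between the thick ones is. -/
theorem result {X X' S S' : Scheme.{u}} (iX : X ⟶ X') (iS : S ⟶ S') (f : X ⟶ S) (f' : X' ⟶ S')
    (hX : MoreMor.IsThickening iX) (hS : MoreMor.IsThickening iS) (w : iX ≫ f' = f ≫ iS) :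
    UniversallyInjective f ↔ UniversallyInjective f' := by
  obtain ⟨hXc, hXs⟩ := hX
  obtain ⟨hSc, hSs⟩ := hS
  have lift : ∀ (K : Type u) [Field K] (g : Spec (.of K) ⟶ X'),
      ∃ h : Spec (.of K) ⟶ X, h ≫ iX = g := by
    intro K _ g
    have h1 : IsClosedImmersion (pullback.snd iX g) := inferInstance
    have h2 : Surjective (pullback.snd iX g) := inferInstance
    have h3 : IsIso (pullback.snd iX g) := isIso_of_isClosedImmersion_of_surjective _
    refine ⟨inv (pullback.snd iX g) ≫ pullback.fst iX g, ?_⟩
    rw [Category.assoc, pullback.condition, IsIso.inv_hom_id_assoc]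
  have e1 : UniversallyInjective f ↔ ∀ (K : Type u) [Field K],
      Function.Injective (fun g : Spec (.of K) ⟶ X ↦ g ≫ f) :=
    (tfae_universallyInjective f).out 0 1
  have e2 : UniversallyInjective f' ↔ ∀ (K : Type u) [Field K],
      Function.Injective (fun g : Spec (.of K) ⟶ X' ↦ g ≫ f') :=
    (tfae_universallyInjective f').out 0 1
  rw [e1, e2]
  constructor
  · intro hf K _ g₁ g₂ hg
    obtain ⟨h₁, rfl⟩ := lift K g₁
    obtain ⟨h₂, rfl⟩ := lift K g₂
    have hg' : (h₁ ≫ iX) ≫ f' = (h₂ ≫ iX) ≫ f' := hg
    rw [Category.assoc, Category.assoc, w, ← Category.assoc, ← Category.assoc,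
      cancel_mono] at hg'
    have := hf K hg'
    rw [this]
  · intro hf' K _ g₁ g₂ hg
    have hg' : g₁ ≫ f = g₂ ≫ f := hg
    have h2 : (g₁ ≫ iX) ≫ f' = (g₂ ≫ iX) ≫ f' := by
      rw [Category.assoc, Category.assoc, w, ← Category.assoc, ← Category.assoc, hg']
    have := hf' K h2
    exact (cancel_mono iX).mp this

end Groth.Agent.S1307
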