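import Groth.Statements.S1308
import Groth.Agent.Lib.Helper6.Thick

set_option autoImplicit false
universe u
open FlatMor

namespace Groth.Agent.S1308

open AlgebraicGeometry CategoryTheory Limits in
/-- For a morphism of thickenings, that is a commutative square whose horizontal maps are thickenings
(closed immersions that are surjective on points), the morphism between the thin schemes is
universally open if and only if the morphism between the thick ones is. -/
theorem result {X X' S S' : Scheme.{u}} (iX : X ⟶ X') (iS : S ⟶ S') (f : X ⟶ S) (f' : X' ⟶ S')
    (hX : MoreMor.IsThickening iX) (hS : MoreMor.IsThickening iS) (w : iX ≫ f' = f ≫ iS) :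
    UniversallyOpen f ↔ UniversallyOpen f' := by
  obtain ⟨hXc, hXs⟩ := hX
  obtain ⟨hSc, hSs⟩ := hS
  refine Groth.Agent.Helper6.Thick.square_iff @UniversallyOpen ?_ ?_ iX iS f f' hXc hXs hSc hSs w
  · intro A B i h1 h2
    exact Groth.Agent.Helper6.Thick.universallyOpen_of_thick i h1 h2
  · intro A B C i g h1 h2 h
    exact Groth.Agent.Helper6.Thick.universallyOpen_of_comp_surjective i g h h2

end Groth.Agent.S1308
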