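import Groth.Statements.S13096
import Mathlib

set_option autoImplicit false
universe u v
open CAlg

namespace S13096aux

/-- a surjective endomorphism of a Noetherian ring is injective -/
theorem injective_of_surjective_endo {B : Type*} [CommRing B] [IsNoetherianRing B]
    (φ : B →+* B) (hφ : Function.Surjective φ) : Function.Injective φ := by
  -- kernels of iterates
  let K : ℕ →o Ideal B :=
    { toFun := fun n => RingHom.ker (φ ^ n)
      monotone' := by
        intro m n hmn x hx
        rw [RingHom.mem_ker] at hx ⊢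
        obtain ⟨c, rfl⟩ := Nat.exists_eq_add_of_le hmn
        rw [add_comm, pow_add, RingHom.mul_def, RingHom.comp_apply, hx, map_zero] }
  obtain ⟨n, hn⟩ := monotone_stabilizes_iff_noetherian.2 (inferInstance : IsNoetherian B B) K
  rw [injective_iff_map_eq_zero]
  intro a ha
  have hsurj : Function.Surjective (φ ^ n) := by
    rw [RingHom.coe_pow]
    exact hφ.iterate n
  obtain ⟨b, rfl⟩ := hsurj a
  have h1 : b ∈ K (n + 1) := by
    show b ∈ RingHom.ker (φ ^ (n + 1))
    rw [RingHom.mem_ker, pow_succ', RingHom.mul_def, RingHom.comp_apply]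
    exact ha
  rw [← hn (n + 1) (Nat.le_succ n)] at h1
  exact h1

end S13096aux

open S13096aux

namespace Groth.Agent.S13096

/-- Let R be a commutative ring and R' a commutative R-algebra of finite presentation. Then every
surjective R-algebra endomorphism α : R' → R' is bijective (an automorphism). -/
theorem result (R : Type u) [CommRing R]
    (R' : Type v) [CommRing R'] [Algebra R R'] [Algebra.FinitePresentation R R']
    (α : R' →ₐ[R] R') (hα : Function.Surjective α) : Function.Bijective α := by
  refine ⟨?_, hα⟩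
  rw [injective_iff_map_eq_zero]
  intro a ha
  -- generators
  obtain ⟨n, f, hf⟩ := Algebra.FiniteType.iff_quotient_mvPolynomial''.1
    (inferInstance : Algebra.FiniteType R R')
  set x : Fin n → R' := fun i => f (MvPolynomial.X i) with hx
  have hfx : ∀ q, f q = MvPolynomial.aeval x q := by
    intro q
    have : f = MvPolynomial.aeval x := by
      apply MvPolynomial.algHom_ext
      intro i
      rw [MvPolynomial.aeval_X]
    rw [this]
  choose g hg using fun i => hf (α (x i))
  choose y hy using fun i => hα (x i)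
  choose h hh using fun i => hf (y i)
  obtain ⟨p, hp⟩ := hf a
  -- finite set of coefficients
  classical
  let coeffs : MvPolynomial (Fin n) R → Finset R' := fun q =>
    q.support.image fun μ => algebraMap R R' (q.coeff μ)
  let S : Finset R' := Finset.univ.image x ∪ (Finset.univ.biUnion fun i => coeffs (g i)) ∪
    (Finset.univ.biUnion fun i => coeffs (h i)) ∪ coeffs p
  let A₀ : Subalgebra ℤ R' := Algebra.adjoin ℤ (S : Set R')
  have hxS : ∀ i, x i ∈ A₀ := fun i => Algebra.subset_adjoin (by
    simp only [S, Finset.coe_union, Set.mem_union, Finset.mem_coe]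
    left; left; left
    exact Finset.mem_image_of_mem _ (Finset.mem_univ i))
  have hmem : ∀ q : MvPolynomial (Fin n) R, (↑(coeffs q) : Set R') ⊆ (S : Set R') →
      MvPolynomial.aeval x q ∈ A₀ := by
    intro q hq
    rw [MvPolynomial.aeval_def, MvPolynomial.eval₂_eq']
    refine Subalgebra.sum_mem _ fun μ hμ => Subalgebra.mul_mem _ ?_ ?_
    · exact Algebra.subset_adjoin (hq (Finset.mem_coe.2 (Finset.mem_image_of_mem _ hμ)))
    · exact Subalgebra.prod_mem _ fun i _ => Subalgebra.pow_mem _ (hxS i) _
  have hgS : ∀ i, (↑(coeffs (g i)) : Set R') ⊆ (S : Set R') := by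
    intro i z hz
    simp only [S, Finset.coe_union, Set.mem_union, Finset.mem_coe]
    left; left; right
    exact Finset.mem_biUnion.2 ⟨i, Finset.mem_univ i, hz⟩
  have hhS : ∀ i, (↑(coeffs (h i)) : Set R') ⊆ (S : Set R') := by
    intro i z hz
    simp only [S, Finset.coe_union, Set.mem_union, Finset.mem_coe]
    left; right
    exact Finset.mem_biUnion.2 ⟨i, Finset.mem_univ i, hz⟩
  have hpS : (↑(coeffs p) : Set R') ⊆ (S : Set R') := by
    intro z hz
    simp only [S, Finset.coe_union, Set.mem_union, Finset.mem_coe]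
    right
    exact hz
  -- α maps A₀ into A₀
  have hαS : ∀ z ∈ (S : Set R'), α z ∈ A₀ := by
    intro z hz
    simp only [S, Finset.coe_union, Set.mem_union, Finset.mem_coe] at hz
    have hcoef : ∀ q : MvPolynomial (Fin n) R, (↑(coeffs q) : Set R') ⊆ (S : Set R') →
        z ∈ coeffs q → α z ∈ A₀ := by
      intro q hq hz
      obtain ⟨μ, _, rfl⟩ := Finset.mem_image.1 hz
      rw [AlgHom.commutes]
      exact Algebra.subset_adjoin (hq (Finset.mem_coe.2 hz))
    rcases hz with ((hz | hz) | hz) | hz
    · obtain ⟨i, _, rfl⟩ := Finset.mem_image.1 hz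
      rw [← hg i, hfx]
      exact hmem _ (hgS i)
    · obtain ⟨i, _, hz⟩ := Finset.mem_biUnion.1 hz
      exact hcoef _ (hgS i) hz
    · obtain ⟨i, _, hz⟩ := Finset.mem_biUnion.1 hz
      exact hcoef _ (hhS i) hz
    · exact hcoef _ hpS hz
  have hαA : ∀ z ∈ A₀, α z ∈ A₀ := by
    intro z hz
    induction hz using Algebra.adjoin_induction with
    | mem z hz => exact hαS z hz
    | algebraMap r =>
      rw [eq_intCast (algebraMap ℤ R') r, map_intCast]
      exact Subalgebra.intCast_mem _ r
    | add z w _ _ hz hw => rw [map_add]; exact Subalgebra.add_mem _ hz hw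
    | mul z w _ _ hz hw => rw [map_mul]; exact Subalgebra.mul_mem _ hz hw
  have hsurjA : ∀ z ∈ A₀, ∃ w ∈ A₀, α w = z := by
    intro z hz
    induction hz using Algebra.adjoin_induction with
    | mem z hz =>
      have hcoef : ∀ q : MvPolynomial (Fin n) R, (↑(coeffs q) : Set R') ⊆ (S : Set R') →
          z ∈ coeffs q → ∃ w ∈ A₀, α w = z := by
        intro q hq hz
        refine ⟨z, Algebra.subset_adjoin (hq (Finset.mem_coe.2 hz)), ?_⟩
        obtain ⟨μ, _, rfl⟩ := Finset.mem_image.1 hz
        rw [AlgHom.commutes]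
      simp only [S, Finset.coe_union, Set.mem_union, Finset.mem_coe] at hz
      rcases hz with ((hz | hz) | hz) | hz
      · obtain ⟨i, _, rfl⟩ := Finset.mem_image.1 hz
        refine ⟨y i, ?_, hy i⟩
        rw [← hh i, hfx]
        exact hmem _ (hhS i)
      · obtain ⟨i, _, hz⟩ := Finset.mem_biUnion.1 hz
        exact hcoef _ (hgS i) hz
      · obtain ⟨i, _, hz⟩ := Finset.mem_biUnion.1 hz
        exact hcoef _ (hhS i) hz
      · exact hcoef _ hpS hz
    | algebraMap r =>
      refine ⟨algebraMap ℤ R' r, Subalgebra.algebraMap_mem _ r, ?_⟩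
      rw [eq_intCast (algebraMap ℤ R') r, map_intCast]
    | add z w _ _ hz hw =>
      obtain ⟨z', hz', rfl⟩ := hz
      obtain ⟨w', hw', rfl⟩ := hw
      exact ⟨z' + w', Subalgebra.add_mem _ hz' hw', map_add _ _ _⟩
    | mul z w _ _ hz hw =>
      obtain ⟨z', hz', rfl⟩ := hz
      obtain ⟨w', hw', rfl⟩ := hw
      exact ⟨z' * w', Subalgebra.mul_mem _ hz' hw', map_mul _ _ _⟩
  let φ₀ : ↥A₀ →+* ↥A₀ := (α : R' →+* R').restrict A₀ A₀ hαA
  have hφ₀ : Function.Surjective φ₀ := by
    rintro ⟨z, hz⟩
    obtain ⟨w, hw, rfl⟩ := hsurjA z hz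
    exact ⟨⟨w, hw⟩, rfl⟩
  have : Algebra.FiniteType ℤ ↥A₀ :=
    (Subalgebra.fg_iff_finiteType A₀).1 (Subalgebra.fg_adjoin_finset S)
  have : IsNoetherianRing ↥A₀ := Algebra.FiniteType.isNoetherianRing ℤ ↥A₀
  have hinj := injective_of_surjective_endo φ₀ hφ₀
  have haA : a ∈ A₀ := by
    rw [← hp, hfx]
    exact hmem p hpS
  have h0 : φ₀ ⟨a, haA⟩ = 0 := Subtype.ext ha
  have := (injective_iff_map_eq_zero φ₀).1 hinj _ h0
  exact congrArg Subtype.val this

end Groth.Agent.S13096
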