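import Groth.Statements.S13098
import Mathlib

set_option autoImplicit false
universe u v
open Lie3Mod

namespace Groth.Agent.S13098

/-- Let R be a commutative ring, M an R-module with a basis x = bs 0, y = bs 1, z = bs 2 indexed by Fin
3, and B an R-bilinear alternating map on M (B m m = 0) with B x y = a x + b y + c z, B x z = d x +
e y + f z and B y z = g x + h y + i z. Then B satisfies the Jacobi identity for all triples if and
only if the three Jacobi polynomials vanish: ah + di − fg − bg = 0, ie + bd − fh − ae = 0 and hc +
dc − af − bi = 0. (This is the statement that Lie brackets on a based free module of rank 3 are the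
points of the closed subscheme of affine 9-space defined by these three equations.) -/
theorem result (R : Type u) [CommRing R] (M : Type v) [AddCommGroup M] [Module R M]
    (bs : Module.Basis (Fin 3) R M) (B : M →ₗ[R] M →ₗ[R] M) (halt : ∀ m : M, B m m = 0)
    (a b c d e f g h i : R)
    (hxy : B (bs 0) (bs 1) = a • bs 0 + b • bs 1 + c • bs 2)
    (hxz : B (bs 0) (bs 2) = d • bs 0 + e • bs 1 + f • bs 2)
    (hyz : B (bs 1) (bs 2) = g • bs 0 + h • bs 1 + i • bs 2) :
    (∀ u v w : M, B u (B v w) + B v (B w u) + B w (B u v) = 0) ↔
      (a * h + d * i - f * g - b * g = 0 ∧ i * e + b * d - f * h - a * e = 0 ∧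
        h * c + d * c - a * f - b * i = 0) := by
  have hanti : ∀ u v : M, B u v = - B v u := by
    intro u v
    have h1 := halt (u + v)
    simp only [map_add, LinearMap.add_apply, halt, zero_add, add_zero] at h1
    exact eq_neg_of_add_eq_zero_right h1
  have hyx : B (bs 1) (bs 0) = -(a • bs 0 + b • bs 1 + c • bs 2) := by rw [hanti, hxy]
  have hzx : B (bs 2) (bs 0) = -(d • bs 0 + e • bs 1 + f • bs 2) := by rw [hanti, hxz]
  have hzy : B (bs 2) (bs 1) = -(g • bs 0 + h • bs 1 + i • bs 2) := by rw [hanti, hyz]
  have hxx := halt (bs 0)
  have hyy := halt (bs 1)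
  have hzz := halt (bs 2)
  -- the value of the Jacobiator on the basis triple
  have hJ0 : B (bs 0) (B (bs 1) (bs 2)) + B (bs 1) (B (bs 2) (bs 0)) + B (bs 2) (B (bs 0) (bs 1)) =
      (a * h + d * i - f * g - b * g) • bs 0 + (i * e + b * d - f * h - a * e) • bs 1 +
        (h * c + d * c - a * f - b * i) • bs 2 := by
    rw [hyz, hzx, hxy]
    simp only [map_add, map_smul, map_neg, hxx, hyy, hzz, hxy, hxz, hyz, hyx, hzx, hzy, smul_zero]
    module
  constructor
  · intro hJ
    have h0 := hJ (bs 0) (bs 1) (bs 2)
    rw [hJ0] at h0
    have hli := Fintype.linearIndependent_iff.mp bs.linearIndependent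
      ![a * h + d * i - f * g - b * g, i * e + b * d - f * h - a * e, h * c + d * c - a * f - b * i]
      (by rw [Fin.sum_univ_three]; simpa using h0)
    exact ⟨hli 0, hli 1, hli 2⟩
  · rintro ⟨h1, h2, h3⟩
    rw [h1, h2, h3] at hJ0
    simp only [zero_smul, add_zero] at hJ0
    -- antisymmetry/cyclicity of the Jacobiator
    have hcyc : ∀ u v w : M, B u (B v w) + B v (B w u) + B w (B u v) =
        B v (B w u) + B w (B u v) + B u (B v w) := by
      intro u v w; abel
    have hswap : ∀ u v w : M, B v (B u w) + B u (B w v) + B w (B v u) =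
        -(B u (B v w) + B v (B w u) + B w (B u v)) := by
      intro u v w
      rw [hanti u w, hanti w v, hanti v u]
      simp only [map_neg]
      abel
    have hrep : ∀ u w : M, B u (B u w) + B u (B w u) + B w (B u u) = 0 := by
      intro u w
      rw [halt, map_zero, hanti w u, map_neg]
      abel
    have hbasis : ∀ i' j' k' : Fin 3, B (bs i') (B (bs j') (bs k')) + B (bs j') (B (bs k') (bs i')) +
        B (bs k') (B (bs i') (bs j')) = 0 := by
      have h012 := hJ0
      have h120 : B (bs 1) (B (bs 2) (bs 0)) + B (bs 2) (B (bs 0) (bs 1)) +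
          B (bs 0) (B (bs 1) (bs 2)) = 0 := by rw [← hcyc]; exact h012
      have h201 : B (bs 2) (B (bs 0) (bs 1)) + B (bs 0) (B (bs 1) (bs 2)) +
          B (bs 1) (B (bs 2) (bs 0)) = 0 := by rw [← hcyc]; exact h120
      have h102 : B (bs 1) (B (bs 0) (bs 2)) + B (bs 0) (B (bs 2) (bs 1)) +
          B (bs 2) (B (bs 1) (bs 0)) = 0 := by rw [hswap, h012, neg_zero]
      have h021 : B (bs 0) (B (bs 2) (bs 1)) + B (bs 2) (B (bs 1) (bs 0)) +
          B (bs 1) (B (bs 0) (bs 2)) = 0 := by rw [← hcyc]; exact h102
      have h210 : B (bs 2) (B (bs 1) (bs 0)) + B (bs 1) (B (bs 0) (bs 2)) +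
          B (bs 0) (B (bs 2) (bs 1)) = 0 := by rw [← hcyc]; exact h021
      have hrep1 : ∀ u w : M, B u (B w u) + B w (B u u) + B u (B u w) = 0 := by
        intro u w; rw [← hcyc]; exact hrep u w
      have hrep2 : ∀ u w : M, B w (B u u) + B u (B u w) + B u (B w u) = 0 := by
        intro u w; rw [← hcyc]; exact hrep1 u w
      intro i' j' k'
      fin_cases i' <;> fin_cases j' <;> fin_cases k' <;>
        first
        | exact hrep _ _
        | exact hrep1 _ _
        | exact hrep2 _ _
        | exact h012 | exact h120 | exact h201 | exact h102 | exact h021 | exact h210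
    have step1 : ∀ (j' k' : Fin 3) (u : M), B u (B (bs j') (bs k')) + B (bs j') (B (bs k') u) +
        B (bs k') (B u (bs j')) = 0 := by
      intro j' k' u
      have hL : (B.flip (B (bs j') (bs k')) + (B (bs j')).comp (B (bs k')) +
          (B (bs k')).comp (B.flip (bs j'))) = 0 := by
        apply bs.ext
        intro i'
        simp only [LinearMap.add_apply, LinearMap.flip_apply, LinearMap.comp_apply,
          LinearMap.zero_apply]
        exact hbasis i' j' k'
      have := LinearMap.congr_fun hL u
      simpa only [LinearMap.add_apply, LinearMap.flip_apply, LinearMap.comp_apply,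
          LinearMap.zero_apply] using this
    have step2 : ∀ (k' : Fin 3) (u v : M), B u (B v (bs k')) + B v (B (bs k') u) +
        B (bs k') (B u v) = 0 := by
      intro k' u v
      have hL : ((B u).comp (B.flip (bs k')) + B.flip (B (bs k') u) +
          (B (bs k')).comp (B u)) = 0 := by
        apply bs.ext
        intro j'
        simp only [LinearMap.add_apply, LinearMap.flip_apply, LinearMap.comp_apply,
          LinearMap.zero_apply]
        exact step1 j' k' u
      have := LinearMap.congr_fun hL v
      simpa only [LinearMap.add_apply, LinearMap.flip_apply, LinearMap.comp_apply,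
          LinearMap.zero_apply] using this
    intro u v w
    have hL : ((B u).comp (B v) + (B v).comp (B.flip u) + B.flip (B u v)) = 0 := by
      apply bs.ext
      intro k'
      simp only [LinearMap.add_apply, LinearMap.flip_apply, LinearMap.comp_apply,
        LinearMap.zero_apply]
      exact step2 k' u v
    have := LinearMap.congr_fun hL w
    simpa only [LinearMap.add_apply, LinearMap.flip_apply, LinearMap.comp_apply,
        LinearMap.zero_apply] using this

end Groth.Agent.S13098
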