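import Groth.Statements.S13099
import Mathlib

set_option autoImplicit false
universe u
open GrpSch

namespace Groth.Agent.S13099

section
open Polynomial

noncomputable def mon (i j : ℕ) : Fin 2 →₀ ℕ := Finsupp.single 0 i + Finsupp.single 1 j

theorem mon_zero (i j : ℕ) : mon i j 0 = i := by simp [mon]
theorem mon_one (i j : ℕ) : mon i j 1 = j := by simp [mon]

theorem mon_inj {i j k l : ℕ} : mon i j = mon k l ↔ i = k ∧ j = l := by
  constructor
  · intro h
    have h0 := congrArg (fun m => m 0) h
    have h1 := congrArg (fun m => m 1) h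
    simp only [mon_zero, mon_one] at h0 h1
    exact ⟨h0, h1⟩
  · rintro ⟨rfl, rfl⟩; rfl

theorem eq_mon (m : Fin 2 →₀ ℕ) : m = mon (m 0) (m 1) := by
  ext a
  fin_cases a
  · simp [mon]
  · simp [mon]

section
variable {A : Type u} [CommRing A]

theorem YZ (k l : ℕ) : (MvPolynomial.X 0 ^ k * MvPolynomial.X 1 ^ l : MvPolynomial (Fin 2) A) =
    MvPolynomial.monomial (mon k l) 1 := by
  rw [MvPolynomial.X_pow_eq_monomial, MvPolynomial.X_pow_eq_monomial, MvPolynomial.monomial_mul,
    one_mul]
  rfl

theorem coeff_add_pow (n i j : ℕ) :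
    MvPolynomial.coeff (mon i j) ((MvPolynomial.X 0 + MvPolynomial.X 1 : MvPolynomial (Fin 2) A) ^ n) =
      if i + j = n then ((n.choose i : ℕ) : A) else 0 := by
  rw [add_pow, MvPolynomial.coeff_sum]
  have : ∀ k ∈ Finset.range (n + 1), MvPolynomial.coeff (mon i j)
      ((MvPolynomial.X 0 : MvPolynomial (Fin 2) A) ^ k * MvPolynomial.X 1 ^ (n - k) * ((n.choose k : ℕ) : MvPolynomial (Fin 2) A)) =
      if k = i ∧ n - k = j then ((n.choose k : ℕ) : A) else 0 := by
    intro k _
    rw [YZ, ← MvPolynomial.C_eq_coe_nat, mul_comm,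
      MvPolynomial.C_mul_monomial, mul_one, MvPolynomial.coeff_monomial]
    simp only [mon_inj]
  rw [Finset.sum_congr rfl this]
  split_ifs with h
  · rw [Finset.sum_eq_single i]
    · rw [if_pos ⟨rfl, by omega⟩]
    · intro k _ hk
      rw [if_neg (fun h' => hk h'.1)]
    · intro hi
      exfalso
      apply hi
      rw [Finset.mem_range]; omega
  · refine Finset.sum_eq_zero fun k hk => ?_
    rw [if_neg]
    rintro ⟨rfl, h2⟩
    apply h
    rw [Finset.mem_range] at hk
    omega


theorem coeff_aeval_add (q : A[X]) (i j : ℕ) :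
    MvPolynomial.coeff (mon i j)
      (Polynomial.aeval (MvPolynomial.X 0 + MvPolynomial.X 1 : MvPolynomial (Fin 2) A) q) =
      q.coeff (i + j) * (((i + j).choose i : ℕ) : A) := by
  rw [Polynomial.aeval_eq_sum_range, MvPolynomial.coeff_sum]
  simp only [MvPolynomial.coeff_smul, coeff_add_pow, smul_eq_mul]
  rw [Finset.sum_eq_single (i + j)]
  · rw [if_pos rfl]
  · intro n _ hn
    rw [if_neg (Ne.symm hn), mul_zero]
  · intro h
    rw [Finset.mem_range, not_lt] at h
    rw [Polynomial.coeff_eq_zero_of_natDegree_lt (by omega), zero_mul]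

theorem coeff_aeval_X0 (q : A[X]) (i j : ℕ) :
    MvPolynomial.coeff (mon i j)
      (Polynomial.aeval (MvPolynomial.X 0 : MvPolynomial (Fin 2) A) q) =
      if j = 0 then q.coeff i else 0 := by
  rw [Polynomial.aeval_eq_sum_range, MvPolynomial.coeff_sum]
  have : ∀ n ∈ Finset.range (q.natDegree + 1), MvPolynomial.coeff (mon i j)
      (q.coeff n • (MvPolynomial.X 0 : MvPolynomial (Fin 2) A) ^ n) =
      if n = i ∧ 0 = j then q.coeff n else 0 := by
    intro n _
    have e : (MvPolynomial.X 0 : MvPolynomial (Fin 2) A) ^ n =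
        MvPolynomial.X 0 ^ n * MvPolynomial.X 1 ^ 0 := by rw [pow_zero, mul_one]
    rw [e, YZ, MvPolynomial.coeff_smul, MvPolynomial.coeff_monomial, smul_eq_mul]
    simp only [mon_inj]
    split_ifs <;> simp
  rw [Finset.sum_congr rfl this]
  by_cases hj : j = 0
  · subst hj
    rw [if_pos rfl]
    by_cases hi : i ∈ Finset.range (q.natDegree + 1)
    · rw [Finset.sum_eq_single i]
      · rw [if_pos ⟨rfl, rfl⟩]
      · intro n _ hn
        rw [if_neg (fun h' => hn h'.1)]
      · intro h; exact absurd hi h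
    · rw [Finset.mem_range, not_lt] at hi
      rw [Polynomial.coeff_eq_zero_of_natDegree_lt (by omega)]
      refine Finset.sum_eq_zero fun n hn => ?_
      rw [if_neg]
      rintro ⟨rfl, -⟩
      rw [Finset.mem_range] at hn
      omega
  · rw [if_neg hj]
    refine Finset.sum_eq_zero fun n _ => ?_
    rw [if_neg]
    rintro ⟨-, h⟩
    exact hj h.symm

theorem coeff_aeval_X1 (q : A[X]) (i j : ℕ) :
    MvPolynomial.coeff (mon i j)
      (Polynomial.aeval (MvPolynomial.X 1 : MvPolynomial (Fin 2) A) q) =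
      if i = 0 then q.coeff j else 0 := by
  rw [Polynomial.aeval_eq_sum_range, MvPolynomial.coeff_sum]
  have : ∀ n ∈ Finset.range (q.natDegree + 1), MvPolynomial.coeff (mon i j)
      (q.coeff n • (MvPolynomial.X 1 : MvPolynomial (Fin 2) A) ^ n) =
      if 0 = i ∧ n = j then q.coeff n else 0 := by
    intro n _
    have e : (MvPolynomial.X 1 : MvPolynomial (Fin 2) A) ^ n =
        MvPolynomial.X 0 ^ 0 * MvPolynomial.X 1 ^ n := by rw [pow_zero, one_mul]
    rw [e, YZ, MvPolynomial.coeff_smul, MvPolynomial.coeff_monomial, smul_eq_mul]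
    simp only [mon_inj]
    split_ifs <;> simp
  rw [Finset.sum_congr rfl this]
  by_cases hi : i = 0
  · subst hi
    rw [if_pos rfl]
    by_cases hj : j ∈ Finset.range (q.natDegree + 1)
    · rw [Finset.sum_eq_single j]
      · rw [if_pos ⟨rfl, rfl⟩]
      · intro n _ hn
        rw [if_neg (fun h' => hn h'.2)]
      · intro h; exact absurd hj h
    · rw [Finset.mem_range, not_lt] at hj
      rw [Polynomial.coeff_eq_zero_of_natDegree_lt (by omega)]
      refine Finset.sum_eq_zero fun n hn => ?_
      rw [if_neg]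
      rintro ⟨-, rfl⟩
      rw [Finset.mem_range] at hn
      omega
  · rw [if_neg hi]
    refine Finset.sum_eq_zero fun n _ => ?_
    rw [if_neg]
    rintro ⟨h, -⟩
    exact hi h.symm


theorem mem_I (N : ℕ) (f : MvPolynomial (Fin 2) A) :
    f ∈ Ideal.span ({MvPolynomial.X 0 ^ N, MvPolynomial.X 1 ^ N} : Set (MvPolynomial (Fin 2) A)) ↔
      ∀ m ∈ f.support, N ≤ m 0 ∨ N ≤ m 1 := by
  have e : ({MvPolynomial.X 0 ^ N, MvPolynomial.X 1 ^ N} : Set (MvPolynomial (Fin 2) A)) =
      (fun s => MvPolynomial.monomial s (1 : A)) '' {Finsupp.single 0 N, Finsupp.single 1 N} := by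
    rw [Set.image_pair, MvPolynomial.X_pow_eq_monomial, MvPolynomial.X_pow_eq_monomial]
  rw [e, MvPolynomial.mem_ideal_span_monomial_image]
  refine forall₂_congr fun m _ => ?_
  simp [Finsupp.single_le_iff]

theorem isUnit_natCast_of_coprime (p : ℕ) [Fact p.Prime] [CharP A p] (m : ℕ)
    (h : Nat.Coprime m p) : IsUnit ((m : ℕ) : A) := by
  have h1 : IsUnit ((m : ℕ) : ZMod p) := (ZMod.unitOfCoprime m h).isUnit
  have h2 := h1.map (ZMod.castHom (dvd_refl p) A)
  simpa using h2

theorem exists_choose_coprime (p : ℕ) (hp : p.Prime) (n : ℕ) (h2 : 2 ≤ n) (hn : n < p ^ 2)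
    (hnp : n ≠ p) : ∃ i, 0 < i ∧ i < n ∧ Nat.Coprime (n.choose i) p := by
  haveI : Fact p.Prime := ⟨hp⟩
  by_cases hdvd : p ∣ n
  · obtain ⟨m', rfl⟩ := hdvd
    have hp0 : 0 < p := hp.pos
    have hm1 : m' ≠ 1 := by
      intro h; apply hnp; rw [h, mul_one]
    have hm0 : 0 < m' := by
      rcases Nat.eq_zero_or_pos m' with h | h
      · rw [h] at h2; omega
      · exact h
    have hmp : m' < p := by
      rw [pow_two] at hn
      exact lt_of_mul_lt_mul_left hn (Nat.zero_le _)
    refine ⟨p, hp0, ?_, ?_⟩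
    · have : 2 ≤ m' := by omega
      nlinarith
    · have hL := @Choose.choose_modEq_choose_mod_mul_choose_div_nat (p * m') p p _
      rw [Nat.mul_mod_right, Nat.mod_self, Nat.choose_zero_right, one_mul,
        Nat.mul_div_cancel_left _ hp0, Nat.div_self hp0, Nat.choose_one_right] at hL
      rw [Nat.coprime_comm, Nat.Prime.coprime_iff_not_dvd hp]
      intro hd
      have : p ∣ m' := (Nat.modEq_zero_iff_dvd.mp ((hL.symm.trans (Nat.modEq_zero_iff_dvd.mpr hd))))
      exact absurd (Nat.le_of_dvd hm0 this) (by omega)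
  · refine ⟨1, by omega, by omega, ?_⟩
    rw [Nat.choose_one_right, Nat.coprime_comm, Nat.Prime.coprime_iff_not_dvd hp]
    exact hdvd


theorem part1 (p : ℕ) [hp : Fact p.Prime] [CharP A p] (q : A[X]) (hq : q.natDegree < p ^ 2) :
    (Polynomial.aeval (MvPolynomial.X 0 + MvPolynomial.X 1 : MvPolynomial (Fin 2) A) q -
          Polynomial.aeval (MvPolynomial.X 0 : MvPolynomial (Fin 2) A) q -
          Polynomial.aeval (MvPolynomial.X 1 : MvPolynomial (Fin 2) A) q ∈
        Ideal.span ({MvPolynomial.X 0 ^ p ^ 2, MvPolynomial.X 1 ^ p ^ 2} :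
          Set (MvPolynomial (Fin 2) A)) ↔
      ∃ a₁ ap : A, q = Polynomial.C a₁ * X + Polynomial.C ap * X ^ p) := by
  have hp2 : 2 ≤ p := hp.out.two_le
  have hpN : p < p ^ 2 := by nlinarith
  constructor
  · intro hD
    rw [mem_I] at hD
    have hcoef : ∀ i j, i < p ^ 2 → j < p ^ 2 →
        q.coeff (i + j) * (((i + j).choose i : ℕ) : A) - (if j = 0 then q.coeff i else 0) -
          (if i = 0 then q.coeff j else 0) = 0 := by
      intro i j hi hj
      by_contra hne
      have hmem : mon i j ∈ (Polynomial.aeval (MvPolynomial.X 0 + MvPolynomial.X 1 :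
          MvPolynomial (Fin 2) A) q -
          Polynomial.aeval (MvPolynomial.X 0 : MvPolynomial (Fin 2) A) q -
          Polynomial.aeval (MvPolynomial.X 1 : MvPolynomial (Fin 2) A) q).support := by
        rw [MvPolynomial.mem_support_iff, MvPolynomial.coeff_sub, MvPolynomial.coeff_sub,
          coeff_aeval_add, coeff_aeval_X0, coeff_aeval_X1]
        exact hne
      have := hD _ hmem
      rw [mon_zero, mon_one] at this
      omega
    have h0 : q.coeff 0 = 0 := by
      have := hcoef 0 0 (by positivity) (by positivity)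
      simp at this
      exact this
    have hn : ∀ n, n ≠ 1 → n ≠ p → q.coeff n = 0 := by
      intro n hn1 hnp
      rcases Nat.lt_or_ge n (p ^ 2) with hlt | hge
      · rcases Nat.lt_or_ge n 2 with h2 | h2
        · have : n = 0 := by omega
          rw [this]; exact h0
        · obtain ⟨i, hi0, hin, hcop⟩ := exists_choose_coprime p hp.out n h2 hlt hnp
          have := hcoef i (n - i) (by omega) (by omega)
          rw [if_neg (by omega), if_neg (by omega), sub_zero, sub_zero,
            show i + (n - i) = n by omega] at this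
          exact (isUnit_natCast_of_coprime p _ hcop).mul_left_eq_zero.mp this
      · exact Polynomial.coeff_eq_zero_of_natDegree_lt (by omega)
    refine ⟨q.coeff 1, q.coeff p, ?_⟩
    ext n
    simp only [Polynomial.coeff_add, Polynomial.coeff_C_mul, Polynomial.coeff_X,
      Polynomial.coeff_X_pow]
    by_cases h1 : n = 1
    · subst h1
      rw [if_pos rfl, if_neg (by omega)]
      simp
    · by_cases hpn : n = p
      · subst hpn
        rw [if_neg (fun h => h1 h.symm), if_pos rfl]
        simp
      · rw [if_neg (fun h => h1 h.symm), if_neg hpn, hn n h1 hpn]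
        simp
  · rintro ⟨a₁, ap, rfl⟩
    have : Polynomial.aeval (MvPolynomial.X 0 + MvPolynomial.X 1 : MvPolynomial (Fin 2) A)
          (Polynomial.C a₁ * X + Polynomial.C ap * X ^ p) -
        Polynomial.aeval (MvPolynomial.X 0 : MvPolynomial (Fin 2) A)
          (Polynomial.C a₁ * X + Polynomial.C ap * X ^ p) -
        Polynomial.aeval (MvPolynomial.X 1 : MvPolynomial (Fin 2) A)
          (Polynomial.C a₁ * X + Polynomial.C ap * X ^ p) = 0 := by
      simp only [map_add, map_mul, Polynomial.aeval_C, Polynomial.aeval_X, map_pow]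
      rw [add_pow_char]
      ring
    rw [this]
    exact zero_mem _


theorem part2_aux (p : ℕ) [hp : Fact p.Prime] [CharP A p] (a₁ ap : A)
    (I : Ideal A[X]) (hI : I = Ideal.span ({X ^ p ^ 2} : Set A[X]))
    (φ : (A[X] ⧸ I) →ₐ[A] (A[X] ⧸ I))
    (hφ : φ (Ideal.Quotient.mk I X) =
      Ideal.Quotient.mk I (Polynomial.C a₁ * X + Polynomial.C ap * X ^ p)) :
    Function.Bijective φ ↔ IsUnit a₁ := by
  have hp2 : 2 ≤ p := hp.out.two_le
  obtain ⟨r, hrdef⟩ : ∃ r : A[X], r = Polynomial.C a₁ * X + Polynomial.C ap * X ^ p := ⟨_, rfl⟩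
  rw [← hrdef] at hφ
  have hmk : ∀ g : A[X], Ideal.Quotient.mk I g = Polynomial.aeval (Ideal.Quotient.mk I X) g := by
    intro g
    have := Polynomial.aeval_algHom_apply (Ideal.Quotient.mkₐ A I) (X : A[X]) g
    rw [Polynomial.aeval_X_left_apply] at this
    exact this.symm
  have hcomp : ∀ g : A[X], φ (Ideal.Quotient.mk I g) = Ideal.Quotient.mk I (g.comp r) := by
    intro g
    rw [hmk g, ← Polynomial.aeval_algHom_apply, hφ]
    have := Polynomial.aeval_algHom_apply (Ideal.Quotient.mkₐ A I) r g
    rw [Ideal.Quotient.mkₐ_eq_mk] at this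
    rw [this, Polynomial.comp_eq_aeval]
  have hXN : Ideal.Quotient.mk I (X ^ p ^ 2) = 0 := by
    rw [Ideal.Quotient.eq_zero_iff_mem, hI]
    exact Ideal.subset_span rfl
  constructor
  · intro hbij
    obtain ⟨w, hw⟩ := hbij.2 (Ideal.Quotient.mk I X)
    obtain ⟨g, rfl⟩ := Ideal.Quotient.mk_surjective w
    rw [hcomp, Ideal.Quotient.eq, hI, Ideal.mem_span_singleton] at hw
    obtain ⟨h, hh⟩ := hw
    have hd := congrArg (fun f => (Polynomial.derivative f).eval 0) hh
    simp only [Polynomial.derivative_sub, Polynomial.derivative_comp, Polynomial.derivative_X,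
      Polynomial.derivative_mul, Polynomial.derivative_X_pow, Polynomial.eval_sub,
      Polynomial.eval_mul, Polynomial.eval_comp, Polynomial.eval_one, Polynomial.eval_add,
      Polynomial.eval_pow, Polynomial.eval_X, Polynomial.eval_C] at hd
    have hN1 : p ^ 2 - 1 ≠ 0 := by
      have : 4 ≤ p ^ 2 := by nlinarith
      omega
    have hN : p ^ 2 ≠ 0 := by positivity
    rw [zero_pow hN1, zero_pow hN] at hd
    have hr0 : r.eval 0 = 0 := by
      rw [hrdef]
      simp [show p ≠ 0 by omega]
    have hr1 : (Polynomial.derivative r).eval 0 = a₁ := by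
      rw [hrdef]
      simp only [Polynomial.derivative_add, Polynomial.derivative_mul, Polynomial.derivative_C,
        Polynomial.derivative_X, Polynomial.derivative_X_pow, Polynomial.eval_add,
        Polynomial.eval_mul, Polynomial.eval_C, Polynomial.eval_X, Polynomial.eval_pow,
        Polynomial.eval_one, Polynomial.eval_zero, Polynomial.eval_natCast]
      rw [zero_pow (show p - 1 ≠ 0 by omega)]
      ring
    rw [hr0, hr1] at hd
    simp only [mul_zero, zero_mul, add_zero] at hd
    exact IsUnit.of_mul_eq_one (Polynomial.eval 0 (Polynomial.derivative g)) (by linear_combination hd)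
  · rintro ⟨u, rfl⟩
    obtain ⟨b, hb⟩ : ∃ b : A, (u : A) * b = 1 := ⟨((u⁻¹ : Aˣ) : A), by simp⟩
    have hrp : r ^ p = Polynomial.C ((u : A) ^ p) * X ^ p + Polynomial.C (ap ^ p) * X ^ p ^ 2 := by
      rw [hrdef, add_pow_char, mul_pow, mul_pow, ← Polynomial.C_pow, ← Polynomial.C_pow, ← pow_mul,
        pow_two]
    have hsurj : Function.Surjective φ := by
      have hw : φ (Ideal.Quotient.mk I (Polynomial.C b * X - Polynomial.C (b * ap * b ^ p) * X ^ p)) =
          Ideal.Quotient.mk I X := by
        rw [hcomp]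
        have e : (Polynomial.C b * X - Polynomial.C (b * ap * b ^ p) * X ^ p).comp r =
            X - Polynomial.C (b * ap * b ^ p * ap ^ p) * X ^ p ^ 2 := by
          simp only [Polynomial.sub_comp, Polynomial.mul_comp, Polynomial.C_comp, Polynomial.X_comp,
            Polynomial.pow_comp]
          rw [hrp, hrdef]
          have hbp : b ^ p * (u : A) ^ p = 1 := by rw [← mul_pow, mul_comm, hb, one_pow]
          have e1 : Polynomial.C b * (Polynomial.C (u : A) * X + Polynomial.C ap * X ^ p) =
              X + Polynomial.C (b * ap) * X ^ p := by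
            rw [mul_add, ← mul_assoc, ← mul_assoc, ← Polynomial.C_mul, ← Polynomial.C_mul,
              mul_comm b (u : A), hb, Polynomial.C_1, one_mul]
          have e2 : Polynomial.C (b * ap * b ^ p) *
              (Polynomial.C ((u : A) ^ p) * X ^ p + Polynomial.C (ap ^ p) * X ^ p ^ 2) =
              Polynomial.C (b * ap) * X ^ p +
                Polynomial.C (b * ap * b ^ p * ap ^ p) * X ^ p ^ 2 := by
            rw [mul_add, ← mul_assoc, ← mul_assoc, ← Polynomial.C_mul, ← Polynomial.C_mul,
              mul_assoc (b * ap), hbp, mul_one]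
          rw [e1, e2]
          ring
        rw [e, map_sub, map_mul, hXN, mul_zero, sub_zero]
      intro z
      obtain ⟨g, rfl⟩ := Ideal.Quotient.mk_surjective z
      refine ⟨Polynomial.aeval (Ideal.Quotient.mk I
        (Polynomial.C b * X - Polynomial.C (b * ap * b ^ p) * X ^ p)) g, ?_⟩
      rw [← Polynomial.aeval_algHom_apply, hw, ← hmk]
    haveI : Module.Finite A (A[X] ⧸ I) := by
      rw [hI]
      exact (Polynomial.monic_X_pow (p ^ 2)).finite_quotient
    exact ⟨OrzechProperty.injective_of_surjective_endomorphism φ.toLinearMap hsurj, hsurj⟩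


theorem part2 (p : ℕ) [hp : Fact p.Prime] [CharP A p] (a₁ ap : A)
    (φ : (A[X] ⧸ Ideal.span ({X ^ p ^ 2} : Set A[X])) →ₐ[A]
      (A[X] ⧸ Ideal.span ({X ^ p ^ 2} : Set A[X])))
    (hφ : φ (Ideal.Quotient.mk (Ideal.span ({X ^ p ^ 2} : Set A[X])) X) =
      Ideal.Quotient.mk (Ideal.span ({X ^ p ^ 2} : Set A[X]))
        (Polynomial.C a₁ * X + Polynomial.C ap * X ^ p)) :
    Function.Bijective φ ↔ IsUnit a₁ :=
  part2_aux p a₁ ap _ rfl φ hφ

end

theorem main (p : ℕ) [Fact p.Prime] (A : Type u) [CommRing A] [CharP A p] :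
    (∀ q : A[X], q.natDegree < p ^ 2 →
      (Polynomial.aeval (MvPolynomial.X 0 + MvPolynomial.X 1 : MvPolynomial (Fin 2) A) q -
            Polynomial.aeval (MvPolynomial.X 0 : MvPolynomial (Fin 2) A) q -
            Polynomial.aeval (MvPolynomial.X 1 : MvPolynomial (Fin 2) A) q ∈
          Ideal.span ({MvPolynomial.X 0 ^ p ^ 2, MvPolynomial.X 1 ^ p ^ 2} : Set (MvPolynomial (Fin 2) A)) ↔
        ∃ a₁ ap : A, q = Polynomial.C a₁ * X + Polynomial.C ap * X ^ p)) ∧
    (∀ (a₁ ap : A) (φ : (A[X] ⧸ Ideal.span ({X ^ p ^ 2} : Set A[X])) →ₐ[A] (A[X] ⧸ Ideal.span ({X ^ p ^ 2} : Set A[X]))),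
      φ (Ideal.Quotient.mk (Ideal.span ({X ^ p ^ 2} : Set A[X])) X) =
          Ideal.Quotient.mk (Ideal.span ({X ^ p ^ 2} : Set A[X])) (Polynomial.C a₁ * X + Polynomial.C ap * X ^ p) →
        (Function.Bijective φ ↔ IsUnit a₁)) :=
  ⟨fun q hq => part1 p q hq, fun a₁ ap φ hφ => part2 p a₁ ap φ hφ⟩


end


open Polynomial in
/-- Let p be a prime and A a commutative ring of characteristic p, and consider the infinitesimal group
scheme Spec A[X]/(X^{p²}) with the additive group law. In coordinates: (1) a polynomial q ∈ A[X] of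
degree less than p² satisfies q(Y + Z) − q(Y) − q(Z) ∈ (Y^{p²}, Z^{p²}) in A[Y, Z] (that is, X ↦ q
respects the comultiplication) if and only if q = a₁ X + a_p X^p for some a₁, a_p ∈ A; (2) an
A-algebra endomorphism of A[X]/(X^{p²}) that sends the class of X to the class of a₁ X + a_p X^p is
bijective if and only if a₁ is a unit of A. (The printed statement is that the automorphism group
scheme of this group scheme is the semidirect product of the additive group by the multiplicative
group, v acting on u by v^{p−1}u; this row records the two computations it consists of, in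
coordinates.) -/
theorem result (p : ℕ) [Fact p.Prime] (A : Type u) [CommRing A] [CharP A p] :
    (∀ q : A[X], q.natDegree < p ^ 2 →
      (Polynomial.aeval (MvPolynomial.X 0 + MvPolynomial.X 1 : MvPolynomial (Fin 2) A) q -
            Polynomial.aeval (MvPolynomial.X 0 : MvPolynomial (Fin 2) A) q -
            Polynomial.aeval (MvPolynomial.X 1 : MvPolynomial (Fin 2) A) q ∈
          Ideal.span ({MvPolynomial.X 0 ^ p ^ 2, MvPolynomial.X 1 ^ p ^ 2} : Set (MvPolynomial (Fin 2) A)) ↔
        ∃ a₁ ap : A, q = Polynomial.C a₁ * X + Polynomial.C ap * X ^ p)) ∧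
    (∀ (a₁ ap : A) (φ : (A[X] ⧸ Ideal.span ({X ^ p ^ 2} : Set A[X])) →ₐ[A] (A[X] ⧸ Ideal.span ({X ^ p ^ 2} : Set A[X]))),
      φ (Ideal.Quotient.mk (Ideal.span ({X ^ p ^ 2} : Set A[X])) X) =
          Ideal.Quotient.mk (Ideal.span ({X ^ p ^ 2} : Set A[X])) (Polynomial.C a₁ * X + Polynomial.C ap * X ^ p) →
        (Function.Bijective φ ↔ IsUnit a₁)) := by
  classical
  exact main p A

end Groth.Agent.S13099
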