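import Groth.Statements.S13100
import Mathlib
import Groth.Agent.Lib.Helper5.Misc.PSqrt

set_option autoImplicit false
universe u
open GrpSch



namespace Groth.Agent.S13100

/-- Let k be an algebraically closed field of characteristic different from 2 and K = k((t)) the field
of Laurent series over k. Then a non-zero Laurent series f is a square in K if and only if its order
in t is even; consequently the group Kˣ/Kˣ² of non-zero elements modulo squares has exactly two
elements, represented by 1 and t. -/
theorem result (k : Type u) [Field k] [IsAlgClosed k] (h2 : (2 : k) ≠ 0)
    (f : LaurentSeries k) (hf : f ≠ 0) : IsSquare f ↔ Even f.order := by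
  exact Groth.Agent.Helper5.PSqrt.main k h2 f hf

end Groth.Agent.S13100
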