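import Groth.Statements.S13101
import Mathlib

set_option autoImplicit false
universe u v
open GrpSch

namespace Groth.Agent.S13101

section
open scoped BigOperators

variable {A : Type u} [CommRing A] {L : Type v} [LieRing L] [LieAlgebra A L]

theorem expand (bs : Module.Basis (Fin 3) A L) (w : L) :
    w = bs.repr w 0 • bs 0 + bs.repr w 1 • bs 1 + bs.repr w 2 • bs 2 := by
  conv_lhs => rw [← bs.sum_repr w]
  rw [Fin.sum_univ_three]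

theorem coords (bs : Module.Basis (Fin 3) A L) (p q r p' q' r' : A)
    (h : p • bs 0 + q • bs 1 + r • bs 2 = p' • bs 0 + q' • bs 1 + r' • bs 2) :
    p = p' ∧ q = q' ∧ r = r' := by
  have h0 := congrArg (fun w => bs.repr w 0) h
  have h1 := congrArg (fun w => bs.repr w 1) h
  have h2 := congrArg (fun w => bs.repr w 2) h
  simp [Finsupp.single_apply] at h0 h1 h2
  exact ⟨h0, h1, h2⟩

theorem bracket (bs : Module.Basis (Fin 3) A L)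
    (hxy : ⁅bs 0, bs 1⁆ = bs 1) (hxz : ⁅bs 0, bs 2⁆ = bs 1 + bs 2) (hyz : ⁅bs 1, bs 2⁆ = 0)
    (u1 u2 u3 v1 v2 v3 : A) :
    ⁅u1 • bs 0 + u2 • bs 1 + u3 • bs 2, v1 • bs 0 + v2 • bs 1 + v3 • bs 2⁆ =
      (0 : A) • bs 0 + (u1 * v2 - u2 * v1 + u1 * v3 - u3 * v1) • bs 1 + (u1 * v3 - u3 * v1) • bs 2 := by
  have hyx : ⁅bs 1, bs 0⁆ = - bs 1 := by rw [← lie_skew, hxy]
  have hzx : ⁅bs 2, bs 0⁆ = - (bs 1 + bs 2) := by rw [← lie_skew, hxz]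
  have hzy : ⁅bs 2, bs 1⁆ = 0 := by rw [← lie_skew, hyz, neg_zero]
  simp only [lie_add, add_lie, lie_smul, smul_lie, lie_self, hxy, hxz, hyz, hyx, hzx, hzy]
  module

theorem x_coord_zero (bs : Module.Basis (Fin 3) A L)
    (hxy : ⁅bs 0, bs 1⁆ = bs 1) (hxz : ⁅bs 0, bs 2⁆ = bs 1 + bs 2) (hyz : ⁅bs 1, bs 2⁆ = 0)
    (φ : L ≃ₗ⁅A⁆ L) : bs.repr (φ (bs 1)) 0 = 0 ∧ bs.repr (φ (bs 2)) 0 = 0 := by
  have E1 : φ (bs 1) = ⁅φ (bs 0), φ (bs 1)⁆ := by rw [← LieEquiv.map_lie, hxy]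
  have E2 : φ (bs 1) + φ (bs 2) = ⁅φ (bs 0), φ (bs 2)⁆ := by rw [← LieEquiv.map_lie, hxz, map_add]
  have hX := expand bs (φ (bs 0))
  have hY := expand bs (φ (bs 1))
  have hZ := expand bs (φ (bs 2))
  obtain ⟨a1, ha1⟩ : ∃ a, a = bs.repr (φ (bs 0)) 0 := ⟨_, rfl⟩
  obtain ⟨a2, ha2⟩ : ∃ a, a = bs.repr (φ (bs 0)) 1 := ⟨_, rfl⟩
  obtain ⟨a3, ha3⟩ : ∃ a, a = bs.repr (φ (bs 0)) 2 := ⟨_, rfl⟩
  obtain ⟨b1, hb1⟩ : ∃ a, a = bs.repr (φ (bs 1)) 0 := ⟨_, rfl⟩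
  obtain ⟨b2, hb2⟩ : ∃ a, a = bs.repr (φ (bs 1)) 1 := ⟨_, rfl⟩
  obtain ⟨b3, hb3⟩ : ∃ a, a = bs.repr (φ (bs 1)) 2 := ⟨_, rfl⟩
  obtain ⟨c1, hc1⟩ : ∃ a, a = bs.repr (φ (bs 2)) 0 := ⟨_, rfl⟩
  obtain ⟨c2, hc2⟩ : ∃ a, a = bs.repr (φ (bs 2)) 1 := ⟨_, rfl⟩
  obtain ⟨c3, hc3⟩ : ∃ a, a = bs.repr (φ (bs 2)) 2 := ⟨_, rfl⟩
  rw [← ha1, ← ha2, ← ha3] at hX
  rw [← hb1, ← hb2, ← hb3] at hY
  rw [← hc1, ← hc2, ← hc3] at hZ
  rw [← hb1, ← hc1]
  have E1' := E1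
  rw [hX, hY, bracket bs hxy hxz hyz] at E1'
  have k1 := (coords bs _ _ _ _ _ _ E1').1
  have E2' := E2
  rw [hX, hY, hZ, bracket bs hxy hxz hyz] at E2'
  have E2'' : (b1 + c1) • bs 0 + (b2 + c2) • bs 1 + (b3 + c3) • bs 2 =
      (0 : A) • bs 0 + (a1 * c2 - a2 * c1 + a1 * c3 - a3 * c1) • bs 1 + (a1 * c3 - a3 * c1) • bs 2 := by
    rw [← E2']; module
  have k2 := (coords bs _ _ _ _ _ _ E2'').1
  refine ⟨k1, ?_⟩
  rw [k1, zero_add] at k2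
  exact k2

theorem main (A : Type u) [CommRing A] (h2 : IsUnit (2 : A))
    (L : Type v) [LieRing L] [LieAlgebra A L] (bs : Module.Basis (Fin 3) A L)
    (hxy : ⁅bs 0, bs 1⁆ = bs 1) (hxz : ⁅bs 0, bs 2⁆ = bs 1 + bs 2) (hyz : ⁅bs 1, bs 2⁆ = 0)
    (φ : L ≃ₗ⁅A⁆ L) :
    ∃ b c h i : A, IsUnit i ∧ φ (bs 0) = bs 0 + b • bs 1 + c • bs 2 ∧ φ (bs 1) = i • bs 1 ∧
      φ (bs 2) = h • bs 1 + i • bs 2 := by
  obtain ⟨hb1z, hc1z⟩ := x_coord_zero bs hxy hxz hyz φ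
  obtain ⟨hb1z', hc1z'⟩ := x_coord_zero bs hxy hxz hyz φ.symm
  have E1 : φ (bs 1) = ⁅φ (bs 0), φ (bs 1)⁆ := by rw [← LieEquiv.map_lie, hxy]
  have E2 : φ (bs 1) + φ (bs 2) = ⁅φ (bs 0), φ (bs 2)⁆ := by rw [← LieEquiv.map_lie, hxz, map_add]
  have hX := expand bs (φ (bs 0))
  have hY := expand bs (φ (bs 1))
  have hZ := expand bs (φ (bs 2))
  have hY' := expand bs (φ.symm (bs 1))
  have hZ' := expand bs (φ.symm (bs 2))
  obtain ⟨a1, ha1⟩ : ∃ a, a = bs.repr (φ (bs 0)) 0 := ⟨_, rfl⟩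
  obtain ⟨a2, ha2⟩ : ∃ a, a = bs.repr (φ (bs 0)) 1 := ⟨_, rfl⟩
  obtain ⟨a3, ha3⟩ : ∃ a, a = bs.repr (φ (bs 0)) 2 := ⟨_, rfl⟩
  obtain ⟨b2, hb2⟩ : ∃ a, a = bs.repr (φ (bs 1)) 1 := ⟨_, rfl⟩
  obtain ⟨b3, hb3⟩ : ∃ a, a = bs.repr (φ (bs 1)) 2 := ⟨_, rfl⟩
  obtain ⟨c2, hc2⟩ : ∃ a, a = bs.repr (φ (bs 2)) 1 := ⟨_, rfl⟩
  obtain ⟨c3, hc3⟩ : ∃ a, a = bs.repr (φ (bs 2)) 2 := ⟨_, rfl⟩
  obtain ⟨b2', hb2'⟩ : ∃ a, a = bs.repr (φ.symm (bs 1)) 1 := ⟨_, rfl⟩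
  obtain ⟨b3', hb3'⟩ : ∃ a, a = bs.repr (φ.symm (bs 1)) 2 := ⟨_, rfl⟩
  obtain ⟨c2', hc2'⟩ : ∃ a, a = bs.repr (φ.symm (bs 2)) 1 := ⟨_, rfl⟩
  obtain ⟨c3', hc3'⟩ : ∃ a, a = bs.repr (φ.symm (bs 2)) 2 := ⟨_, rfl⟩
  rw [← ha1, ← ha2, ← ha3] at hX
  rw [hb1z, ← hb2, ← hb3] at hY
  rw [hc1z, ← hc2, ← hc3] at hZ
  rw [hb1z', ← hb2', ← hb3'] at hY'
  rw [hc1z', ← hc2', ← hc3'] at hZ'
  -- bracket equations
  have E1' := E1
  rw [hX, hY, bracket bs hxy hxz hyz] at E1'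
  obtain ⟨-, F2, F1⟩ := coords bs _ _ _ _ _ _ E1'
  have E2' := E2
  rw [hX, hY, hZ, bracket bs hxy hxz hyz] at E2'
  have E2'' : (0 : A) • bs 0 + (b2 + c2) • bs 1 + (b3 + c3) • bs 2 =
      (0 : A) • bs 0 + (a1 * c2 - a2 * 0 + a1 * c3 - a3 * 0) • bs 1 + (a1 * c3 - a3 * 0) • bs 2 := by
    rw [← E2']; module
  obtain ⟨-, F4, F3⟩ := coords bs _ _ _ _ _ _ E2''
  -- inverse equations
  have I1 : φ (φ.symm (bs 1)) = bs 1 := φ.apply_symm_apply _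
  have I2 : φ (φ.symm (bs 2)) = bs 2 := φ.apply_symm_apply _
  rw [hY', map_add, map_add, map_smul, map_smul, map_smul] at I1
  rw [hZ', map_add, map_add, map_smul, map_smul, map_smul] at I2
  rw [hY, hZ] at I1 I2
  have I1' : (0 : A) • bs 0 + (b2' * b2 + b3' * c2) • bs 1 + (b2' * b3 + b3' * c3) • bs 2 =
      (0 : A) • bs 0 + (1 : A) • bs 1 + (0 : A) • bs 2 := by
    have : (0 : A) • bs 0 + (1 : A) • bs 1 + (0 : A) • bs 2 = bs 1 := by module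
    rw [this]
    refine Eq.trans ?_ I1
    module
  have I2' : (0 : A) • bs 0 + (c2' * b2 + c3' * c2) • bs 1 + (c2' * b3 + c3' * c3) • bs 2 =
      (0 : A) • bs 0 + (0 : A) • bs 1 + (1 : A) • bs 2 := by
    have : (0 : A) • bs 0 + (0 : A) • bs 1 + (1 : A) • bs 2 = bs 2 := by module
    rw [this]
    refine Eq.trans ?_ I2
    module
  obtain ⟨-, G1, G2⟩ := coords bs _ _ _ _ _ _ I1'
  obtain ⟨-, G3, G4⟩ := coords bs _ _ _ _ _ _ I2'
  -- algebra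
  have hδ : (b2 * c3 - b3 * c2) * (b2' * c3' - b3' * c2') = 1 := by
    linear_combination (c2' * b3 + c3' * c3) * G1 + G4 - (c2' * b2 + c3' * c2) * G2
  obtain ⟨δ', hδ'⟩ : ∃ d, d = b2' * c3' - b3' * c2' := ⟨_, rfl⟩
  rw [← hδ'] at hδ
  simp only [mul_zero, sub_zero] at F1 F2 F3 F4
  obtain ⟨e, he⟩ : ∃ e, e = a1 - 1 := ⟨_, rfl⟩
  have h_eb3 : e * b3 = 0 := by rw [he]; linear_combination -F1
  have h_eb2 : e * b2 = -b3 := by rw [he]; linear_combination -F2 + F1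
  have h_ec3 : e * c3 = b3 := by rw [he]; linear_combination -F3
  have h_ec2 : e * c2 = b2 - b3 - c3 := by rw [he]; linear_combination -F4 + F3
  have h_edelta : e * (b2 * c3 - b3 * c2) = -(b3 * c3) := by
    linear_combination c3 * h_eb2 - c2 * h_eb3
  have h_e2delta : e ^ 2 * (b2 * c3 - b3 * c2) = 0 := by
    linear_combination e * h_edelta - c3 * h_eb3
  have h_e2 : e ^ 2 = 0 := by
    linear_combination δ' * h_e2delta - e ^ 2 * hδ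
  have h_b3sq : b3 ^ 2 = 0 := by
    linear_combination c3 ^ 2 * h_e2 - (e * c3 + b3) * h_ec3
  have h_edelta2 : e * (b2 * c3 - b3 * c2) = b3 ^ 2 + b3 * c3 := by
    linear_combination b2 * h_ec3 - b3 * h_ec2
  have h_2b3c3 : 2 * (b3 * c3) = 2 * 0 := by
    linear_combination h_edelta - h_edelta2 - h_b3sq
  have h_b3c3 : b3 * c3 = 0 := (IsUnit.mul_right_inj h2).mp h_2b3c3
  have h_e : e = 0 := by
    linear_combination δ' * h_edelta - δ' * h_b3c3 - e * hδ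
  have h_a1 : a1 = 1 := by linear_combination h_e - he
  have h_b3 : b3 = 0 := by linear_combination -h_ec3 + c3 * h_e
  have h_b2c3 : b2 = c3 := by linear_combination -h_ec2 + c2 * h_e + h_b3
  have h_unit : c3 * (c3 * δ') = 1 := by
    linear_combination hδ - δ' * c3 * h_b2c3 + δ' * c2 * h_b3
  refine ⟨a2, a3, c2, c3, IsUnit.of_mul_eq_one _ h_unit, ?_, ?_, ?_⟩
  · rw [hX, h_a1, one_smul]
  · rw [hY, h_b3, h_b2c3]; module
  · rw [hZ]; module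


end


/-- Let A be a commutative ring in which 2 is a unit, and L a Lie algebra over A, free as a module with
basis x = bs 0, y = bs 1, z = bs 2 and brackets [x,y] = y, [x,z] = y + z, [y,z] = 0. Then for every
Lie algebra automorphism φ of L over A there are b, c, h ∈ A and a unit i of A with φ(x) = x + b y +
c z, φ(y) = i y and φ(z) = h y + i z. Only the form of an automorphism is stated, not that every map
of this form is one. (The published statement identifies the automorphism group scheme with a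
semidirect product of two additive groups by the product of the multiplicative and additive group,
for algebras over a field of Laurent series of characteristic not 2, and deduces the vanishing of
its first cohomology; this row records the determination of the automorphisms, over any base ring
with 2 invertible; the cohomological consequence is not restated.) -/
theorem result (A : Type u) [CommRing A] (h2 : IsUnit (2 : A))
    (L : Type v) [LieRing L] [LieAlgebra A L] (bs : Module.Basis (Fin 3) A L)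
    (hxy : ⁅bs 0, bs 1⁆ = bs 1) (hxz : ⁅bs 0, bs 2⁆ = bs 1 + bs 2) (hyz : ⁅bs 1, bs 2⁆ = 0)
    (φ : L ≃ₗ⁅A⁆ L) :
    ∃ b c h i : A, IsUnit i ∧ φ (bs 0) = bs 0 + b • bs 1 + c • bs 2 ∧ φ (bs 1) = i • bs 1 ∧
      φ (bs 2) = h • bs 1 + i • bs 2 := by
  classical
  exact main A h2 L bs hxy hxz hyz φ

end Groth.Agent.S13101
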