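import Groth.Statements.S13102
import Mathlib

set_option autoImplicit false
universe u v w
open GrpSch

namespace Groth.Agent.S13102

section
open scoped BigOperators

variable {A : Type v} [CommRing A] {L : Type w} [LieRing L] [LieAlgebra A L]

theorem expand (bs : Module.Basis (Fin 3) A L) (w : L) :
    w = bs.repr w 0 • bs 0 + bs.repr w 1 • bs 1 + bs.repr w 2 • bs 2 := by
  conv_lhs => rw [← bs.sum_repr w]
  rw [Fin.sum_univ_three]

theorem coords (bs : Module.Basis (Fin 3) A L) (p q r p' q' r' : A)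
    (h : p • bs 0 + q • bs 1 + r • bs 2 = p' • bs 0 + q' • bs 1 + r' • bs 2) :
    p = p' ∧ q = q' ∧ r = r' := by
  have h0 := congrArg (fun w => bs.repr w 0) h
  have h1 := congrArg (fun w => bs.repr w 1) h
  have h2 := congrArg (fun w => bs.repr w 2) h
  simp [Finsupp.single_apply] at h0 h1 h2
  exact ⟨h0, h1, h2⟩

theorem bracket (α' : A) (bs : Module.Basis (Fin 3) A L)
    (hxy : ⁅bs 0, bs 1⁆ = bs 1) (hxz : ⁅bs 0, bs 2⁆ = α' • bs 2) (hyz : ⁅bs 1, bs 2⁆ = 0)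
    (u1 u2 u3 v1 v2 v3 : A) :
    ⁅u1 • bs 0 + u2 • bs 1 + u3 • bs 2, v1 • bs 0 + v2 • bs 1 + v3 • bs 2⁆ =
      (0 : A) • bs 0 + (u1 * v2 - u2 * v1) • bs 1 + (α' * (u1 * v3 - u3 * v1)) • bs 2 := by
  have hyx : ⁅bs 1, bs 0⁆ = - bs 1 := by rw [← lie_skew, hxy]
  have hzx : ⁅bs 2, bs 0⁆ = - (α' • bs 2) := by rw [← lie_skew, hxz]
  have hzy : ⁅bs 2, bs 1⁆ = 0 := by rw [← lie_skew, hyz, neg_zero]
  simp only [lie_add, add_lie, lie_smul, smul_lie, lie_self, hxy, hxz, hyz, hyx, hzx, hzy]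
  module

theorem data (α' : A) (bs : Module.Basis (Fin 3) A L)
    (hxy : ⁅bs 0, bs 1⁆ = bs 1) (hxz : ⁅bs 0, bs 2⁆ = α' • bs 2) (hyz : ⁅bs 1, bs 2⁆ = 0)
    (φ : L ≃ₗ⁅A⁆ L) :
    ∃ a1 a2 a3 b1 b2 b3 c1 c2 c3 : A,
      φ (bs 0) = a1 • bs 0 + a2 • bs 1 + a3 • bs 2 ∧
      φ (bs 1) = b1 • bs 0 + b2 • bs 1 + b3 • bs 2 ∧
      φ (bs 2) = c1 • bs 0 + c2 • bs 1 + c3 • bs 2 ∧
      b1 = 0 ∧ b2 = a1 * b2 - a2 * b1 ∧ b3 = α' * (a1 * b3 - a3 * b1) ∧
      α' * c1 = 0 ∧ α' * c2 = a1 * c2 - a2 * c1 ∧ α' * c3 = α' * (a1 * c3 - a3 * c1) ∧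
      (α' = 0 → c1 = 0 ∧ c2 = 0) := by
  have hX := expand bs (φ (bs 0))
  have hY := expand bs (φ (bs 1))
  have hZ := expand bs (φ (bs 2))
  obtain ⟨a1, ha1⟩ : ∃ a, a = bs.repr (φ (bs 0)) 0 := ⟨_, rfl⟩
  obtain ⟨a2, ha2⟩ : ∃ a, a = bs.repr (φ (bs 0)) 1 := ⟨_, rfl⟩
  obtain ⟨a3, ha3⟩ : ∃ a, a = bs.repr (φ (bs 0)) 2 := ⟨_, rfl⟩
  obtain ⟨b1, hb1⟩ : ∃ a, a = bs.repr (φ (bs 1)) 0 := ⟨_, rfl⟩
  obtain ⟨b2, hb2⟩ : ∃ a, a = bs.repr (φ (bs 1)) 1 := ⟨_, rfl⟩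
  obtain ⟨b3, hb3⟩ : ∃ a, a = bs.repr (φ (bs 1)) 2 := ⟨_, rfl⟩
  obtain ⟨c1, hc1⟩ : ∃ a, a = bs.repr (φ (bs 2)) 0 := ⟨_, rfl⟩
  obtain ⟨c2, hc2⟩ : ∃ a, a = bs.repr (φ (bs 2)) 1 := ⟨_, rfl⟩
  obtain ⟨c3, hc3⟩ : ∃ a, a = bs.repr (φ (bs 2)) 2 := ⟨_, rfl⟩
  rw [← ha1, ← ha2, ← ha3] at hX
  rw [← hb1, ← hb2, ← hb3] at hY
  rw [← hc1, ← hc2, ← hc3] at hZ
  have E1 : φ (bs 1) = ⁅φ (bs 0), φ (bs 1)⁆ := by rw [← LieEquiv.map_lie, hxy]
  have E2 : α' • φ (bs 2) = ⁅φ (bs 0), φ (bs 2)⁆ := by rw [← LieEquiv.map_lie, hxz, map_smul]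
  rw [hX, hY, bracket α' bs hxy hxz hyz] at E1
  obtain ⟨k1, k2, k3⟩ := coords bs _ _ _ _ _ _ E1
  rw [hX, hZ, bracket α' bs hxy hxz hyz] at E2
  have E2' : (α' * c1) • bs 0 + (α' * c2) • bs 1 + (α' * c3) • bs 2 =
      (0 : A) • bs 0 + (a1 * c2 - a2 * c1) • bs 1 + (α' * (a1 * c3 - a3 * c1)) • bs 2 := by
    rw [← E2]; module
  obtain ⟨k4, k5, k6⟩ := coords bs _ _ _ _ _ _ E2'
  refine ⟨a1, a2, a3, b1, b2, b3, c1, c2, c3, hX, hY, hZ, k1, k2, k3, k4, k5, k6, ?_⟩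
  intro h0
  -- centrality of bs 2
  have hyx : ⁅bs 1, bs 0⁆ = - bs 1 := by rw [← lie_skew, hxy]
  have hzx : ⁅bs 2, bs 0⁆ = - (α' • bs 2) := by rw [← lie_skew, hxz]
  have hzy : ⁅bs 2, bs 1⁆ = 0 := by rw [← lie_skew, hyz, neg_zero]
  have hcent : ∀ w : L, ⁅bs 2, w⁆ = 0 := by
    intro w
    rw [expand bs w, lie_add, lie_add, lie_smul, lie_smul, lie_smul, lie_self, hzx, hzy, h0]
    simp
  have C1 : ⁅φ (bs 2), bs 0⁆ = 0 := by
    have := congrArg φ (hcent (φ.symm (bs 0)))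
    rw [LieEquiv.map_lie, φ.apply_symm_apply] at this
    exact this.trans (map_zero φ)
  have C2 : ⁅φ (bs 2), bs 1⁆ = 0 := by
    have := congrArg φ (hcent (φ.symm (bs 1)))
    rw [LieEquiv.map_lie, φ.apply_symm_apply] at this
    exact this.trans (map_zero φ)
  rw [hZ, add_lie, add_lie, smul_lie, smul_lie, smul_lie, lie_self, hyx, hzx] at C1
  rw [hZ, add_lie, add_lie, smul_lie, smul_lie, smul_lie, lie_self, hxy, hzy] at C2
  have C1' : (0 : A) • bs 0 + (0 - c2 * 1) • bs 1 + (0 - c3 * α') • bs 2 =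
      (0 : A) • bs 0 + (0 : A) • bs 1 + (0 : A) • bs 2 := by
    have : (0 : A) • bs 0 + (0 : A) • bs 1 + (0 : A) • bs 2 = 0 := by module
    rw [this]
    refine Eq.trans ?_ C1
    module
  have C2' : (0 : A) • bs 0 + (c1 * 1 - 0) • bs 1 + (0 : A) • bs 2 =
      (0 : A) • bs 0 + (0 : A) • bs 1 + (0 : A) • bs 2 := by
    have : (0 : A) • bs 0 + (0 : A) • bs 1 + (0 : A) • bs 2 = 0 := by module
    rw [this]
    refine Eq.trans ?_ C2
    module
  obtain ⟨-, m1, -⟩ := coords bs _ _ _ _ _ _ C1'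
  obtain ⟨-, m2, -⟩ := coords bs _ _ _ _ _ _ C2'
  constructor
  · linear_combination m2
  · linear_combination -m1

theorem inv_rel (bs : Module.Basis (Fin 3) A L) (φ : L ≃ₗ⁅A⁆ L)
    (b2 b3 c2 c3 b2' b3' c2' c3' : A)
    (hY : φ (bs 1) = b2 • bs 1 + b3 • bs 2) (hZ : φ (bs 2) = c2 • bs 1 + c3 • bs 2)
    (hY' : φ.symm (bs 1) = b2' • bs 1 + b3' • bs 2)
    (hZ' : φ.symm (bs 2) = c2' • bs 1 + c3' • bs 2) :
    (b2 * c3 - b3 * c2) * (b2' * c3' - b3' * c2') = 1 := by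
  have I1 : φ (φ.symm (bs 1)) = bs 1 := φ.apply_symm_apply _
  have I2 : φ (φ.symm (bs 2)) = bs 2 := φ.apply_symm_apply _
  rw [hY', map_add, map_smul, map_smul, hY, hZ] at I1
  rw [hZ', map_add, map_smul, map_smul, hY, hZ] at I2
  have I1' : (0 : A) • bs 0 + (b2' * b2 + b3' * c2) • bs 1 + (b2' * b3 + b3' * c3) • bs 2 =
      (0 : A) • bs 0 + (1 : A) • bs 1 + (0 : A) • bs 2 := by
    have : (0 : A) • bs 0 + (1 : A) • bs 1 + (0 : A) • bs 2 = bs 1 := by module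
    rw [this]
    refine Eq.trans ?_ I1
    module
  have I2' : (0 : A) • bs 0 + (c2' * b2 + c3' * c2) • bs 1 + (c2' * b3 + c3' * c3) • bs 2 =
      (0 : A) • bs 0 + (0 : A) • bs 1 + (1 : A) • bs 2 := by
    have : (0 : A) • bs 0 + (0 : A) • bs 1 + (1 : A) • bs 2 = bs 2 := by module
    rw [this]
    refine Eq.trans ?_ I2
    module
  obtain ⟨-, G1, G2⟩ := coords bs _ _ _ _ _ _ I1'
  obtain ⟨-, G3, G4⟩ := coords bs _ _ _ _ _ _ I2'
  linear_combination (c2' * b3 + c3' * c3) * G1 + G4 - (c2' * b2 + c3' * c2) * G2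

theorem main (K : Type u) [Field K] (α : K) (A : Type v) [CommRing A] [Algebra K A]
    (L : Type w) [LieRing L] [LieAlgebra A L] (bs : Module.Basis (Fin 3) A L)
    (hxy : ⁅bs 0, bs 1⁆ = bs 1) (hxz : ⁅bs 0, bs 2⁆ = algebraMap K A α • bs 2) (hyz : ⁅bs 1, bs 2⁆ = 0)
    (φ : L ≃ₗ⁅A⁆ L) :
    (α ^ 2 ≠ 1 → ∃ b c e i : A, IsUnit e ∧ IsUnit i ∧ φ (bs 0) = bs 0 + b • bs 1 + c • bs 2 ∧
        φ (bs 1) = e • bs 1 ∧ φ (bs 2) = i • bs 2) ∧
    (α = 1 → ∃ b c e f h i : A, IsUnit (e * i - f * h) ∧ φ (bs 0) = bs 0 + b • bs 1 + c • bs 2 ∧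
        φ (bs 1) = e • bs 1 + f • bs 2 ∧ φ (bs 2) = h • bs 1 + i • bs 2) := by
  obtain ⟨α', hα'⟩ : ∃ a, a = algebraMap K A α := ⟨_, rfl⟩
  rw [← hα'] at hxz
  obtain ⟨a1, a2, a3, b1, b2, b3, c1, c2, c3, hX, hY, hZ, k1, k2, k3, k4, k5, k6, k7⟩ :=
    data α' bs hxy hxz hyz φ
  obtain ⟨a1', a2', a3', b1', b2', b3', c1', c2', c3', hX', hY', hZ', k1', k2', k3', k4', k5', k6', k7'⟩ :=
    data α' bs hxy hxz hyz φ.symm
  subst k1 k1'
  simp only [mul_zero, sub_zero] at k2 k3 k2' k3'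
  refine ⟨?_, ?_⟩
  · intro hα2
    by_cases hα0 : α = 0
    · have h0 : α' = 0 := by rw [hα', hα0, map_zero]
      obtain ⟨hc1, hc2⟩ := k7 h0
      obtain ⟨hc1', hc2'⟩ := k7' h0
      subst hc1 hc2 hc1' hc2'
      have hb3 : b3 = 0 := by rw [k3, h0, zero_mul]
      have hb3' : b3' = 0 := by rw [k3', h0, zero_mul]
      subst hb3 hb3'
      have hY1 : φ (bs 1) = b2 • bs 1 + (0 : A) • bs 2 := by rw [hY]; module
      have hZ1 : φ (bs 2) = (0 : A) • bs 1 + c3 • bs 2 := by rw [hZ]; module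
      have hY1' : φ.symm (bs 1) = b2' • bs 1 + (0 : A) • bs 2 := by rw [hY']; module
      have hZ1' : φ.symm (bs 2) = (0 : A) • bs 1 + c3' • bs 2 := by rw [hZ']; module
      have hδ := inv_rel bs φ _ _ _ _ _ _ _ _ hY1 hZ1 hY1' hZ1'
      have hu2 : b2 * (c3 * (b2' * c3')) = 1 := by linear_combination hδ
      have hu3 : c3 * (b2 * (b2' * c3')) = 1 := by linear_combination hδ
      have ha1 : a1 = 1 := by
        linear_combination (-(c3 * (b2' * c3'))) * k2 - (a1 - 1) * hu2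
      refine ⟨a2, a3, b2, c3, IsUnit.of_mul_eq_one _ hu2, IsUnit.of_mul_eq_one _ hu3, ?_, ?_, ?_⟩
      · rw [hX, ha1, one_smul]
      · rw [hY]; module
      · rw [hZ]; module
    · have hu : IsUnit α' := by
        rw [hα']; exact (IsUnit.mk0 α hα0).map (algebraMap K A)
      have hc1 : c1 = 0 := (IsUnit.mul_right_eq_zero hu).mp k4
      have hc1' : c1' = 0 := (IsUnit.mul_right_eq_zero hu).mp k4'
      subst hc1 hc1'
      simp only [mul_zero, sub_zero] at k5 k6 k5' k6'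
      have hY1 : φ (bs 1) = b2 • bs 1 + b3 • bs 2 := by rw [hY]; module
      have hZ1 : φ (bs 2) = c2 • bs 1 + c3 • bs 2 := by rw [hZ]; module
      have hY1' : φ.symm (bs 1) = b2' • bs 1 + b3' • bs 2 := by rw [hY']; module
      have hZ1' : φ.symm (bs 2) = c2' • bs 1 + c3' • bs 2 := by rw [hZ']; module
      have hδ := inv_rel bs φ _ _ _ _ _ _ _ _ hY1 hZ1 hY1' hZ1'
      obtain ⟨δ', hδ'⟩ : ∃ d, d = b2' * c3' - b3' * c2' := ⟨_, rfl⟩
      rw [← hδ'] at hδ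
      have hsq : IsUnit (α' ^ 2 - 1) := by
        have h1 : α ^ 2 - 1 ≠ 0 := sub_ne_zero.mpr hα2
        have := (IsUnit.mk0 _ h1).map (algebraMap K A)
        rw [map_sub, map_pow, map_one, ← hα'] at this
        exact this
      have hm1 : IsUnit (α' - 1) := by
        have h1 : α - 1 ≠ 0 := by
          intro h
          apply hα2
          have : α = 1 := by linear_combination h
          rw [this, one_pow]
        have := (IsUnit.mk0 _ h1).map (algebraMap K A)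
        rw [map_sub, map_one, ← hα'] at this
        exact this
      obtain ⟨e, he⟩ : ∃ e, e = a1 - 1 := ⟨_, rfl⟩
      have h1 : e * b2 = 0 := by rw [he]; linear_combination -k2
      have h2 : e * c3 = 0 := by
        have : α' * (e * c3) = 0 := by rw [he]; linear_combination -k6
        exact (IsUnit.mul_right_eq_zero hu).mp this
      have h3 : α' * (e * b3) = (1 - α') * b3 := by rw [he]; linear_combination -k3
      have h4 : e * c2 = (α' - 1) * c2 := by rw [he]; linear_combination -k5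
      have h5 : (α' ^ 2 - 1) * (b3 * c2) = 0 := by
        linear_combination c2 * h3 - α' * b3 * h4
      have hb3c2 : b3 * c2 = 0 := (IsUnit.mul_right_eq_zero hsq).mp h5
      have hu2 : b2 * (c3 * δ') = 1 := by linear_combination hδ + δ' * hb3c2
      have hu3 : c3 * (b2 * δ') = 1 := by linear_combination hδ + δ' * hb3c2
      have h_e : e = 0 := by linear_combination (c3 * δ') * h1 - e * hu2
      have hb3 : b3 = 0 := by
        have : (α' - 1) * b3 = 0 := by linear_combination h3 - α' * b3 * h_e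
        exact (IsUnit.mul_right_eq_zero hm1).mp this
      have hc2 : c2 = 0 := by
        have : (α' - 1) * c2 = 0 := by linear_combination -h4 + c2 * h_e
        exact (IsUnit.mul_right_eq_zero hm1).mp this
      have ha1 : a1 = 1 := by linear_combination h_e - he
      refine ⟨a2, a3, b2, c3, IsUnit.of_mul_eq_one _ hu2, IsUnit.of_mul_eq_one _ hu3, ?_, ?_, ?_⟩
      · rw [hX, ha1, one_smul]
      · rw [hY, hb3]; module
      · rw [hZ, hc2]; module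
  · intro hα1
    have h1' : α' = 1 := by rw [hα', hα1, map_one]
    have hc1 : c1 = 0 := by rw [h1', one_mul] at k4; exact k4
    have hc1' : c1' = 0 := by rw [h1', one_mul] at k4'; exact k4'
    subst hc1 hc1'
    simp only [mul_zero, sub_zero] at k5 k6 k5' k6'
    rw [h1', one_mul] at k3 k5 k6
    have hY1 : φ (bs 1) = b2 • bs 1 + b3 • bs 2 := by rw [hY]; module
    have hZ1 : φ (bs 2) = c2 • bs 1 + c3 • bs 2 := by rw [hZ]; module
    have hY1' : φ.symm (bs 1) = b2' • bs 1 + b3' • bs 2 := by rw [hY']; module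
    have hZ1' : φ.symm (bs 2) = c2' • bs 1 + c3' • bs 2 := by rw [hZ']; module
    have hδ := inv_rel bs φ _ _ _ _ _ _ _ _ hY1 hZ1 hY1' hZ1'
    obtain ⟨δ', hδ'⟩ : ∃ d, d = b2' * c3' - b3' * c2' := ⟨_, rfl⟩
    rw [← hδ'] at hδ
    have ha1 : a1 = 1 := by
      linear_combination (-(c3 * δ')) * k2 + (c2 * δ') * k3 - (a1 - 1) * hδ
    refine ⟨a2, a3, b2, b3, c2, c3, IsUnit.of_mul_eq_one _ hδ, ?_, hY1, hZ1⟩
    rw [hX, ha1, one_smul]


end


/-- Let K be a field, α ∈ K, A a commutative K-algebra and L a Lie algebra over A which is free as an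
A-module with basis x = bs 0, y = bs 1, z = bs 2 and brackets [x,y] = y, [x,z] = α z, [y,z] = 0. If
α² ≠ 1 then every Lie algebra automorphism φ of L over A satisfies φ(x) = x + b y + c z, φ(y) = e y,
φ(z) = i z for some b, c ∈ A and units e, i of A. If α = 1 then every such φ satisfies φ(x) = x + b
y + c z, φ(y) = e y + f z, φ(z) = h y + i z with e i − f h a unit of A. (The printed statement
identifies the automorphism group schemes with the corresponding semidirect products, treats also α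
= −1 in characteristic not 2, and computes first cohomology over a field of Laurent series; those
clauses are not restated here.) -/
theorem result (K : Type u) [Field K] (α : K) (A : Type v) [CommRing A] [Algebra K A]
    (L : Type w) [LieRing L] [LieAlgebra A L] (bs : Module.Basis (Fin 3) A L)
    (hxy : ⁅bs 0, bs 1⁆ = bs 1) (hxz : ⁅bs 0, bs 2⁆ = algebraMap K A α • bs 2) (hyz : ⁅bs 1, bs 2⁆ = 0)
    (φ : L ≃ₗ⁅A⁆ L) :
    (α ^ 2 ≠ 1 → ∃ b c e i : A, IsUnit e ∧ IsUnit i ∧ φ (bs 0) = bs 0 + b • bs 1 + c • bs 2 ∧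
        φ (bs 1) = e • bs 1 ∧ φ (bs 2) = i • bs 2) ∧
    (α = 1 → ∃ b c e f h i : A, IsUnit (e * i - f * h) ∧ φ (bs 0) = bs 0 + b • bs 1 + c • bs 2 ∧
        φ (bs 1) = e • bs 1 + f • bs 2 ∧ φ (bs 2) = h • bs 1 + i • bs 2) := by
  classical
  exact main K α A L bs hxy hxz hyz φ

end Groth.Agent.S13102
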