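import Groth.Statements.S13104
import Mathlib

set_option autoImplicit false
universe u
open GrpSch

namespace Groth.Agent.S13104

section
open CategoryTheory AlgebraicGeometry

variable (B : Type u) [CommRing B]

theorem psi_eq (ψ : DualNumber B →+* DualNumber (DualNumber B))
    (hψB : ∀ b : B, ψ (algebraMap B (DualNumber B) b) = algebraMap B (DualNumber (DualNumber B)) b)
    (hψ : ψ DualNumber.eps = algebraMap (DualNumber B) (DualNumber (DualNumber B)) DualNumber.eps * DualNumber.eps)
    (x : DualNumber B) :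
    ψ x = TrivSqZeroExt.inl (TrivSqZeroExt.inl x.fst) + TrivSqZeroExt.inr (TrivSqZeroExt.inr x.snd) := by
  have hx : x = algebraMap B (DualNumber B) x.fst + algebraMap B (DualNumber B) x.snd * DualNumber.eps := by
    refine TrivSqZeroExt.ext ?_ ?_
    · simp only [DualNumber.eps, TrivSqZeroExt.algebraMap_eq_inl, TrivSqZeroExt.fst_add, TrivSqZeroExt.fst_mul, TrivSqZeroExt.fst_inl, TrivSqZeroExt.fst_inr, mul_zero, add_zero]
    · simp only [DualNumber.eps, TrivSqZeroExt.algebraMap_eq_inl, TrivSqZeroExt.snd_add, TrivSqZeroExt.snd_mul, TrivSqZeroExt.snd_inl, TrivSqZeroExt.fst_inl, TrivSqZeroExt.snd_inr, TrivSqZeroExt.fst_inr]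
      simp
  conv_lhs => rw [hx]
  rw [map_add, map_mul, hψB, hψB, hψ]
  refine TrivSqZeroExt.ext ?_ ?_
  · simp only [DualNumber.eps, TrivSqZeroExt.algebraMap_eq_inl', TrivSqZeroExt.fst_add, TrivSqZeroExt.fst_mul, TrivSqZeroExt.fst_inl, TrivSqZeroExt.fst_inr, mul_zero, add_zero, Algebra.algebraMap_self, RingHom.id_apply]
  · simp only [DualNumber.eps, TrivSqZeroExt.algebraMap_eq_inl, TrivSqZeroExt.algebraMap_eq_inl', TrivSqZeroExt.snd_add, TrivSqZeroExt.snd_mul, TrivSqZeroExt.snd_inl, TrivSqZeroExt.fst_inl, TrivSqZeroExt.snd_inr, TrivSqZeroExt.fst_inr, TrivSqZeroExt.fst_mul]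
    refine TrivSqZeroExt.ext ?_ ?_
    · simp
    · simp

/-- elements with zero first coordinate square to zero -/
theorem sq_zero_of_fst {R : Type*} [CommRing R] (t : DualNumber R) (h : t.fst = 0) : t * t = 0 := by
  refine TrivSqZeroExt.ext ?_ ?_
  · simp [h]
  · simp [h]

theorem mem_prime_iff_R (q : Ideal (DualNumber B)) [q.IsPrime] (x : DualNumber B) :
    x ∈ q ↔ (TrivSqZeroExt.inl x.fst : DualNumber B) ∈ q := by
  have hd : (x - TrivSqZeroExt.inl x.fst) ∈ q := by
    have h0 : (x - TrivSqZeroExt.inl x.fst) * (x - TrivSqZeroExt.inl x.fst) = 0 :=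
      sq_zero_of_fst _ (by simp)
    have : (x - TrivSqZeroExt.inl x.fst) * (x - TrivSqZeroExt.inl x.fst) ∈ q := by
      rw [h0]; exact q.zero_mem
    rcases Ideal.IsPrime.mem_or_mem ‹_› this with h | h <;> exact h
  constructor
  · intro hx
    have := q.sub_mem hx hd
    simpa using this
  · intro hx
    have := q.add_mem hx hd
    simpa using this

theorem mem_prime_iff_S (q : Ideal (DualNumber (DualNumber B))) [q.IsPrime] (t : DualNumber (DualNumber B)) :
    t ∈ q ↔ (TrivSqZeroExt.inl (TrivSqZeroExt.inl t.fst.fst) : DualNumber (DualNumber B)) ∈ q := by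
  have hd : (t - TrivSqZeroExt.inl (TrivSqZeroExt.inl t.fst.fst)) ∈ q := by
    set d := t - TrivSqZeroExt.inl (TrivSqZeroExt.inl t.fst.fst) with hd
    have h1 : d.fst * d.fst = 0 := sq_zero_of_fst _ (by simp [hd])
    have h0 : (d * d) * (d * d) = 0 := sq_zero_of_fst _ (by simp [h1])
    have : (d * d) * (d * d) ∈ q := by
      rw [h0]; exact q.zero_mem
    rcases Ideal.IsPrime.mem_or_mem ‹_› this with h | h <;>
      rcases Ideal.IsPrime.mem_or_mem ‹_› h with h | h <;> exact h
  constructor
  · intro hx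
    have := q.sub_mem hx hd
    simpa using this
  · intro hx
    have := q.add_mem hx hd
    simpa using this

theorem key (ψ : DualNumber B →+* DualNumber (DualNumber B))
    (hψ : ∀ x, ψ x = TrivSqZeroExt.inl (TrivSqZeroExt.inl x.fst) + TrivSqZeroExt.inr (TrivSqZeroExt.inr x.snd))
    (t : DualNumber (DualNumber B)) (x : DualNumber B) (h : t * ψ x = 0) :
    (TrivSqZeroExt.inl (t.fst.fst * t.fst.fst) : DualNumber B) * x = 0 := by
  rw [hψ] at h
  have h1 := congrArg (fun z => z.fst.fst) h
  have h2 := congrArg (fun z => z.snd.snd) h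
  simp at h1 h2
  refine TrivSqZeroExt.ext ?_ ?_
  · simp
    linear_combination (TrivSqZeroExt.fst (TrivSqZeroExt.fst t)) * h1
  · simp
    linear_combination (TrivSqZeroExt.fst (TrivSqZeroExt.fst t)) * h2
      - (TrivSqZeroExt.snd (TrivSqZeroExt.snd t)) * h1


theorem locInj (ψ' : CommRingCat.of (DualNumber B) ⟶ CommRingCat.of (DualNumber (DualNumber B)))
    (hψ : ∀ x, ψ'.hom x = TrivSqZeroExt.inl (TrivSqZeroExt.inl x.fst) + TrivSqZeroExt.inr (TrivSqZeroExt.inr x.snd))
    (q' : Ideal (DualNumber (DualNumber B))) [q'.IsPrime] :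
    Function.Injective (Localization.localRingHom (q'.comap ψ'.hom) q' ψ'.hom rfl) := by
  rw [injective_iff_map_eq_zero]
  intro z hz
  obtain ⟨x, s, rfl⟩ := IsLocalization.exists_mk'_eq (q'.comap ψ'.hom).primeCompl z
  rw [Localization.localRingHom_mk', IsLocalization.mk'_eq_zero_iff] at hz
  obtain ⟨⟨t, ht⟩, hz⟩ := hz
  rw [IsLocalization.mk'_eq_zero_iff]
  have hk := key B ψ'.hom hψ t x hz
  refine ⟨⟨TrivSqZeroExt.inl (t.fst.fst * t.fst.fst), ?_⟩, hk⟩
  show _ ∉ q'.comap ψ'.hom
  rw [Ideal.mem_comap, hψ]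
  intro hmem
  apply ht
  show t ∈ q'
  rw [mem_prime_iff_S]
  rw [TrivSqZeroExt.fst_inl, TrivSqZeroExt.snd_inl, TrivSqZeroExt.inr_zero, TrivSqZeroExt.inr_zero, add_zero, TrivSqZeroExt.inl_mul, TrivSqZeroExt.inl_mul] at hmem
  rcases Ideal.IsPrime.mem_or_mem ‹_› hmem with h | h <;> exact h

theorem comap_surj (ψ' : CommRingCat.of (DualNumber B) ⟶ CommRingCat.of (DualNumber (DualNumber B)))
    (hψ : ∀ x, ψ'.hom x = TrivSqZeroExt.inl (TrivSqZeroExt.inl x.fst) + TrivSqZeroExt.inr (TrivSqZeroExt.inr x.snd)) :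
    Function.Surjective (PrimeSpectrum.comap ψ'.hom) := by
  intro q
  let π' : DualNumber (DualNumber B) →+* B :=
    (TrivSqZeroExt.fstHom B B B).toRingHom.comp (TrivSqZeroExt.fstHom (DualNumber B) (DualNumber B) (DualNumber B)).toRingHom
  let p : PrimeSpectrum B := PrimeSpectrum.comap (TrivSqZeroExt.inlHom B B) q
  refine ⟨PrimeSpectrum.comap π' p, ?_⟩
  ext x
  simp only [PrimeSpectrum.comap_asIdeal, Ideal.mem_comap, p]
  rw [mem_prime_iff_R B q.asIdeal x]
  simp [π', hψ]


set_option backward.isDefEq.respectTransparency.types false in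
theorem epi_Spec (ψ' : CommRingCat.of (DualNumber B) ⟶ CommRingCat.of (DualNumber (DualNumber B)))
    (hψ : ∀ x, ψ'.hom x = TrivSqZeroExt.inl (TrivSqZeroExt.inl x.fst) + TrivSqZeroExt.inr (TrivSqZeroExt.inr x.snd)) :
    Epi (Spec.map ψ') := by
  apply CategoryTheory.Functor.epi_of_epi_map (Scheme.forgetToLocallyRingedSpace)
  apply CategoryTheory.Functor.epi_of_epi_map (LocallyRingedSpace.forgetToSheafedSpace)
  apply SheafedSpace.epi_of_base_surjective_of_stalk_mono _ (comap_surj B ψ' hψ)
  intro x0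
  obtain ⟨x, rfl⟩ : ∃ x : PrimeSpectrum (DualNumber (DualNumber B)), x = x0 := ⟨x0, rfl⟩
  show Mono ((Spec.map ψ').stalkMap x)
  rw [← Scheme.localRingHom_comp_stalkIso]
  have key3 : ∀ {A1 A2 A3 A4 : CommRingCat.{u}} (a : A1 ⟶ A2) (b : A2 ⟶ A3) (c : A3 ⟶ A4),
      Mono a → Mono b → Mono c → Mono (a ≫ b ≫ c) := by
    intros; infer_instance
  apply key3
  · infer_instance
  · apply ConcreteCategory.mono_of_injective
    exact locInj B ψ' hψ x.asIdeal
  · infer_instance

theorem main (B : Type u) [CommRing B]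
    (ψ : DualNumber B →+* DualNumber (DualNumber B))
    (hψB : ∀ b : B, ψ (algebraMap B (DualNumber B) b) = algebraMap B (DualNumber (DualNumber B)) b)
    (hψ : ψ DualNumber.eps = algebraMap (DualNumber B) (DualNumber (DualNumber B)) DualNumber.eps * DualNumber.eps)
    (G : Scheme.{u}) :
    Function.Injective (fun u : Spec (CommRingCat.of (DualNumber B)) ⟶ G =>
      Spec.map (CommRingCat.ofHom (R := DualNumber B) (S := DualNumber (DualNumber B)) ψ) ≫ u) := by
  have := epi_Spec B (CommRingCat.ofHom (R := DualNumber B) (S := DualNumber (DualNumber B)) ψ)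
    (fun x => psi_eq B ψ hψB hψ x)
  intro u v huv
  exact (cancel_epi _).mp huv


end


open CategoryTheory AlgebraicGeometry in
/-- Let B be a commutative ring, B[ε] the ring of dual numbers (ε² = 0) and B[α, β]/(α², β²) the double
dual numbers, realised as dual numbers over the dual numbers with α the inner and β the outer
generator, and let ψ : B[ε] → B[α, β]/(α², β²) be the B-algebra homomorphism with ψ(ε) = αβ. Then
for every scheme G the map u ↦ Spec(ψ) ≫ u from morphisms Spec B[ε] → G to morphisms Spec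
B[α,β]/(α²,β²) → G is injective. (The printed statement is its consequence for a group scheme G: the
map Lie(G)(B) → G(B[α,β]/(α²,β²)), x ↦ exp(αβ x), is injective; the injectivity on all B[ε]-points
stated here is what the printed argument establishes.) -/
theorem result (B : Type u) [CommRing B]
    (ψ : DualNumber B →+* DualNumber (DualNumber B))
    (hψB : ∀ b : B, ψ (algebraMap B (DualNumber B) b) = algebraMap B (DualNumber (DualNumber B)) b)
    (hψ : ψ DualNumber.eps = algebraMap (DualNumber B) (DualNumber (DualNumber B)) DualNumber.eps * DualNumber.eps)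
    (G : Scheme.{u}) :
    Function.Injective (fun u : Spec (CommRingCat.of (DualNumber B)) ⟶ G =>
      Spec.map (CommRingCat.ofHom (R := DualNumber B) (S := DualNumber (DualNumber B)) ψ) ≫ u) := by
  classical
  exact main B ψ hψB hψ G

end Groth.Agent.S13104
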