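import Groth.Statements.S13106
import Mathlib

set_option autoImplicit false
universe u
open GrpSch

namespace Groth.Agent.S13106

section

open CategoryTheory AlgebraicGeometry Limits

/-- A closed immersion through which a schematically dense open factors is an isomorphism. -/
theorem isIso_of_schematicallyDense {E Y : Scheme.{u}} (i : E ⟶ Y) [IsClosedImmersion i]
    (U : Y.Opens) (hU : CInt.IsSchematicallyDense U) (j : (U : Scheme.{u}) ⟶ E)
    (hj : j ≫ i = U.ι) : IsIso i := by
  rw [IsClosedImmersion.isIso_iff_ker_eq_bot]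
  apply Scheme.IdealSheafData.ext
  funext V
  rw [Scheme.Hom.ker_apply]
  change _ = (⊥ : Ideal _)
  rw [← RingHom.injective_iff_ker_eq_bot]
  intro a b hab
  have h1 : (j ≫ i).app V.1 a = (j ≫ i).app V.1 b := by
    rw [Scheme.Hom.comp_app]
    change (j.app _) ((i.app V.1) a) = (j.app _) ((i.app V.1) b)
    have : (i.app V.1) a = (i.app V.1) b := hab
    rw [this]
  rw [Scheme.Hom.congr_app hj V.1] at h1
  have h2 : (U.ι.app V.1) a = (U.ι.app V.1) b := by
    have hinj : Function.Injective ((U : Scheme.{u}).presheaf.map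
        (eqToHom (show (j ≫ i) ⁻¹ᵁ V.1 = U.ι ⁻¹ᵁ V.1 by rw [hj])).op) := by
      rw [← ConcreteCategory.mono_iff_injective_of_preservesPullback]
      infer_instance
    exact hinj h1
  rw [Scheme.Opens.ι_app] at h2
  have heq : U.ι ''ᵁ U.ι ⁻¹ᵁ V.1 = V.1 ⊓ U := by
    ext x
    simp only [TopologicalSpace.Opens.coe_inf, Set.mem_inter_iff, SetLike.mem_coe]
    constructor
    · rintro ⟨y, hy, rfl⟩
      exact ⟨hy, y.2⟩
    · rintro ⟨hx1, hx2⟩
      exact ⟨⟨x, hx2⟩, hx1, rfl⟩
  have hfac : Y.presheaf.map (homOfLE (x := U.ι ''ᵁ U.ι ⁻¹ᵁ V.1)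
      (Set.image_preimage_subset _ _)).op =
      Y.presheaf.map (homOfLE (inf_le_left : V.1 ⊓ U ≤ V.1)).op ≫
        Y.presheaf.map (eqToHom heq).op := by
    rw [← Functor.map_comp]
    rfl
  rw [hfac] at h2
  have hinj2 : Function.Injective (Y.presheaf.map (eqToHom heq).op) := by
    rw [← ConcreteCategory.mono_iff_injective_of_preservesPullback]
    infer_instance
  exact hU V.1 (hinj2 h2)

theorem main {X Y Z T : Scheme.{u}} (f : X ⟶ Y)
    (U : Y.Opens) (hU : CInt.IsSchematicallyDense U) [IsIso (f ∣_ U)]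
    (z : Z ⟶ T) [IsSeparated z] (v₁ v₂ : Y ⟶ Z) (hz : v₁ ≫ z = v₂ ≫ z) (h : f ≫ v₁ = f ≫ v₂) :
    v₁ = v₂ := by
  have hUeq : U.ι ≫ v₁ = U.ι ≫ v₂ := by
    rw [← cancel_epi (f ∣_ U), ← Category.assoc, ← Category.assoc, morphismRestrict_ι,
      Category.assoc, Category.assoc, h]
  let X' : Over T := Over.mk (v₁ ≫ z)
  let Y' : Over T := Over.mk z
  let U' : Over T := Over.mk (U.ι ≫ v₁ ≫ z)
  let f' : X' ⟶ Y' := Over.homMk v₁
  let g' : X' ⟶ Y' := Over.homMk v₂ hz.symm
  let ι' : U' ⟶ X' := Over.homMk U.ι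
  have : IsSeparated Y'.hom := ‹_›
  have hlift : ι' ≫ f' = ι' ≫ g' := by ext1; exact hUeq
  have : IsIso (equalizer.ι f' g').left :=
    isIso_of_schematicallyDense (equalizer.ι f' g').left U hU (equalizer.lift ι' hlift).left
      (by rw [← Over.comp_left, equalizer.lift_ι]; rfl)
  rw [← cancel_epi (equalizer.ι f' g').left]
  exact congr($(equalizer.condition f' g').left)


end


open CategoryTheory AlgebraicGeometry in
/-- Let f : X → Y be a morphism of schemes and U ⊆ Y a schematically dense open subscheme (for every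
open V of Y, restriction of functions from V to V ∩ U is injective) such that the restriction f⁻¹(U)
→ U of f is an isomorphism. Then two morphisms from Y to a scheme separated over a base T that agree
after composing with f and have the same composite to T are equal: if Z → T is separated and v₁, v₂
: Y → Z satisfy v₁ ≫ (Z → T) = v₂ ≫ (Z → T) and f ≫ v₁ = f ≫ v₂, then v₁ = v₂. (The published
statement is the case of a morphism between two prolongations over A[[t]] of a finite group scheme
over A((t)), where U is the generic fibre, schematically dense by flatness; uniqueness of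
prolongation maps follows.) -/
theorem result {X Y Z T : Scheme.{u}} (f : X ⟶ Y)
    (U : Y.Opens) (hU : CInt.IsSchematicallyDense U) [IsIso (f ∣_ U)]
    (z : Z ⟶ T) [IsSeparated z] (v₁ v₂ : Y ⟶ Z) (hz : v₁ ≫ z = v₂ ≫ z) (h : f ≫ v₁ = f ≫ v₂) :
    v₁ = v₂ := by
  classical
  exact main f U hU z v₁ v₂ hz h

end Groth.Agent.S13106
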