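import Groth.Statements.S13107
import Mathlib
import Groth.Agent.S13102

set_option autoImplicit false
universe u v w
open GrpSch

namespace Groth.Agent.S13107

section
open scoped BigOperators

open Groth.Agent.S13102 (expand coords)

theorem bracketF {A : Type u} [CommRing A] {F : Type v} [LieRing F] [LieAlgebra A F]
    (T : A) (bs : Module.Basis (Fin 3) A F)
    (hxy : ⁅bs 0, bs 1⁆ = bs 2) (hxz : ⁅bs 0, bs 2⁆ = T • bs 1) (hyz : ⁅bs 1, bs 2⁆ = 0)
    (u1 u2 u3 v1 v2 v3 : A) :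
    ⁅u1 • bs 0 + u2 • bs 1 + u3 • bs 2, v1 • bs 0 + v2 • bs 1 + v3 • bs 2⁆ =
      (0 : A) • bs 0 + (T * (u1 * v3 - u3 * v1)) • bs 1 + (u1 * v2 - u2 * v1) • bs 2 := by
  have hyx : ⁅bs 1, bs 0⁆ = - bs 2 := by rw [← lie_skew, hxy]
  have hzx : ⁅bs 2, bs 0⁆ = - (T • bs 1) := by rw [← lie_skew, hxz]
  have hzy : ⁅bs 2, bs 1⁆ = 0 := by rw [← lie_skew, hyz, neg_zero]
  simp only [lie_add, add_lie, lie_smul, smul_lie, lie_self, hxy, hxz, hyz, hyx, hzx, hzy]
  module

theorem main (k : Type u) [Field k]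
    (F : Type v) [LieRing F] [LieAlgebra (LaurentSeries k) F] (bF : Module.Basis (Fin 3) (LaurentSeries k) F)
    (hF01 : ⁅bF 0, bF 1⁆ = bF 2) (hF02 : ⁅bF 0, bF 2⁆ = (HahnSeries.single 1 (1 : k) : LaurentSeries k) • bF 1)
    (hF12 : ⁅bF 1, bF 2⁆ = 0)
    (L : Type w) [LieRing L] [LieAlgebra (LaurentSeries k) L] (bL : Module.Basis (Fin 3) (LaurentSeries k) L)
    (hL01 : ⁅bL 0, bL 1⁆ = bL 1) (hL02 : ⁅bL 0, bL 2⁆ = -bL 2) (hL12 : ⁅bL 1, bL 2⁆ = 0) :
    IsEmpty (L ≃ₗ⁅LaurentSeries k⁆ F) := by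
  constructor
  intro φ
  obtain ⟨T, hT⟩ : ∃ T : LaurentSeries k, T = HahnSeries.single 1 (1 : k) := ⟨_, rfl⟩
  rw [← hT] at hF02
  have hX := expand bF (φ (bL 0))
  have hY := expand bF (φ (bL 1))
  obtain ⟨a1, ha1⟩ : ∃ a, a = bF.repr (φ (bL 0)) 0 := ⟨_, rfl⟩
  obtain ⟨a2, ha2⟩ : ∃ a, a = bF.repr (φ (bL 0)) 1 := ⟨_, rfl⟩
  obtain ⟨a3, ha3⟩ : ∃ a, a = bF.repr (φ (bL 0)) 2 := ⟨_, rfl⟩
  obtain ⟨b1, hb1⟩ : ∃ a, a = bF.repr (φ (bL 1)) 0 := ⟨_, rfl⟩
  obtain ⟨b2, hb2⟩ : ∃ a, a = bF.repr (φ (bL 1)) 1 := ⟨_, rfl⟩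
  obtain ⟨b3, hb3⟩ : ∃ a, a = bF.repr (φ (bL 1)) 2 := ⟨_, rfl⟩
  rw [← ha1, ← ha2, ← ha3] at hX
  rw [← hb1, ← hb2, ← hb3] at hY
  have E1 : φ (bL 1) = ⁅φ (bL 0), φ (bL 1)⁆ := by rw [← LieEquiv.map_lie, hL01]
  have hne : φ (bL 1) ≠ 0 := by
    intro h0
    have : bL 1 = 0 := by
      have := congrArg φ.symm h0
      rwa [φ.symm_apply_apply, map_zero] at this
    exact bL.ne_zero 1 this
  rw [hX, hY, bracketF T bF hF01 hF02 hF12] at E1
  obtain ⟨k1, k2, k3⟩ := coords bF _ _ _ _ _ _ E1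
  subst k1
  simp only [mul_zero, sub_zero] at k2 k3
  -- b2 = T a1 b3, b3 = a1 b2
  have hb : b2 ≠ 0 ∨ b3 ≠ 0 := by
    by_contra hcon
    simp only [not_or, not_not] at hcon
    apply hne
    rw [hY, hcon.1, hcon.2]
    simp
  have key : T * a1 * a1 = 1 := by
    rcases hb with h | h
    · have : b2 * (T * a1 * a1 - 1) = 0 := by linear_combination -k2 - T * a1 * k3
      rcases mul_eq_zero.mp this with h' | h'
      · exact absurd h' h
      · linear_combination h'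
    · have : b3 * (T * a1 * a1 - 1) = 0 := by linear_combination -k3 - a1 * k2
      rcases mul_eq_zero.mp this with h' | h'
      · exact absurd h' h
      · linear_combination h'
  have ha0 : a1 ≠ 0 := by
    intro h
    rw [h, mul_zero] at key
    exact zero_ne_one key
  have hT0 : T ≠ 0 := by
    rw [hT]
    exact HahnSeries.single_ne_zero one_ne_zero
  have hord := congrArg HahnSeries.order key
  rw [HahnSeries.order_mul (mul_ne_zero hT0 ha0) ha0, HahnSeries.order_mul hT0 ha0,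
    HahnSeries.order_one, hT, HahnSeries.order_single one_ne_zero] at hord
  omega


end


/-- Let k be a field, K = k((t)) the field of Laurent series over k, F a Lie algebra over K with a basis
x' = bF 0, y' = bF 1, z' = bF 2 and brackets [x',y'] = z', [x',z'] = t y', [y',z'] = 0, and L a Lie
algebra over K with a basis x = bL 0, y = bL 1, z = bL 2 and brackets [x,y] = y, [x,z] = −z, [y,z] =
0. Then there is no K-linear isomorphism of Lie algebras between L and F: F is a non-trivial form of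
L over K. (The published result is the classification of three-dimensional Lie algebras over k((t))
for k algebraically closed of characteristic not 2, with F its only non-split entry; this row states
the non-isomorphism of F and L over k((t)) for every field k.) -/
theorem result (k : Type u) [Field k]
    (F : Type v) [LieRing F] [LieAlgebra (LaurentSeries k) F] (bF : Module.Basis (Fin 3) (LaurentSeries k) F)
    (hF01 : ⁅bF 0, bF 1⁆ = bF 2) (hF02 : ⁅bF 0, bF 2⁆ = (HahnSeries.single 1 (1 : k) : LaurentSeries k) • bF 1)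
    (hF12 : ⁅bF 1, bF 2⁆ = 0)
    (L : Type w) [LieRing L] [LieAlgebra (LaurentSeries k) L] (bL : Module.Basis (Fin 3) (LaurentSeries k) L)
    (hL01 : ⁅bL 0, bL 1⁆ = bL 1) (hL02 : ⁅bL 0, bL 2⁆ = -bL 2) (hL12 : ⁅bL 1, bL 2⁆ = 0) :
    IsEmpty (L ≃ₗ⁅LaurentSeries k⁆ F) := by
  classical
  exact main k F bF hF01 hF02 hF12 L bL hL01 hL02 hL12

end Groth.Agent.S13107
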