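import Groth.Statements.S13108
import Mathlib
import Groth.Agent.S13102

set_option autoImplicit false
universe u v w
open GrpSch

namespace Groth.Agent.S13108

section
open scoped BigOperators

open Groth.Agent.S13102 (expand coords bracket)

variable {A : Type u} [CommRing A] {L : Type v} [LieRing L] [LieAlgebra A L]
  {L' : Type w} [LieRing L'] [LieAlgebra A L']

/-- coordinate data of an isomorphism between two algebras of the family -/
theorem data2 (α α' : A) (hα : IsUnit α) (bs : Module.Basis (Fin 3) A L)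
    (hxy : ⁅bs 0, bs 1⁆ = bs 1) (hxz : ⁅bs 0, bs 2⁆ = α • bs 2) (_hyz : ⁅bs 1, bs 2⁆ = 0)
    (bs' : Module.Basis (Fin 3) A L')
    (hxy' : ⁅bs' 0, bs' 1⁆ = bs' 1) (hxz' : ⁅bs' 0, bs' 2⁆ = α' • bs' 2) (hyz' : ⁅bs' 1, bs' 2⁆ = 0)
    (φ : L ≃ₗ⁅A⁆ L') :
    ∃ a1 a2 a3 b2 b3 c2 c3 : A,
      φ (bs 0) = a1 • bs' 0 + a2 • bs' 1 + a3 • bs' 2 ∧
      φ (bs 1) = b2 • bs' 1 + b3 • bs' 2 ∧
      φ (bs 2) = c2 • bs' 1 + c3 • bs' 2 ∧
      b2 = a1 * b2 ∧ b3 = α' * (a1 * b3) ∧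
      α * c2 = a1 * c2 ∧ α * c3 = α' * (a1 * c3) := by
  have hX := expand bs' (φ (bs 0))
  have hY := expand bs' (φ (bs 1))
  have hZ := expand bs' (φ (bs 2))
  obtain ⟨a1, ha1⟩ : ∃ a, a = bs'.repr (φ (bs 0)) 0 := ⟨_, rfl⟩
  obtain ⟨a2, ha2⟩ : ∃ a, a = bs'.repr (φ (bs 0)) 1 := ⟨_, rfl⟩
  obtain ⟨a3, ha3⟩ : ∃ a, a = bs'.repr (φ (bs 0)) 2 := ⟨_, rfl⟩
  obtain ⟨b1, hb1⟩ : ∃ a, a = bs'.repr (φ (bs 1)) 0 := ⟨_, rfl⟩
  obtain ⟨b2, hb2⟩ : ∃ a, a = bs'.repr (φ (bs 1)) 1 := ⟨_, rfl⟩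
  obtain ⟨b3, hb3⟩ : ∃ a, a = bs'.repr (φ (bs 1)) 2 := ⟨_, rfl⟩
  obtain ⟨c1, hc1⟩ : ∃ a, a = bs'.repr (φ (bs 2)) 0 := ⟨_, rfl⟩
  obtain ⟨c2, hc2⟩ : ∃ a, a = bs'.repr (φ (bs 2)) 1 := ⟨_, rfl⟩
  obtain ⟨c3, hc3⟩ : ∃ a, a = bs'.repr (φ (bs 2)) 2 := ⟨_, rfl⟩
  rw [← ha1, ← ha2, ← ha3] at hX
  rw [← hb1, ← hb2, ← hb3] at hY
  rw [← hc1, ← hc2, ← hc3] at hZ
  have E1 : φ (bs 1) = ⁅φ (bs 0), φ (bs 1)⁆ := by rw [← LieEquiv.map_lie, hxy]
  have E2 : α • φ (bs 2) = ⁅φ (bs 0), φ (bs 2)⁆ := by rw [← LieEquiv.map_lie, hxz, map_smul]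
  rw [hX, hY, bracket α' bs' hxy' hxz' hyz'] at E1
  obtain ⟨k1, k2, k3⟩ := coords bs' _ _ _ _ _ _ E1
  rw [hX, hZ, bracket α' bs' hxy' hxz' hyz'] at E2
  have E2' : (α * c1) • bs' 0 + (α * c2) • bs' 1 + (α * c3) • bs' 2 =
      (0 : A) • bs' 0 + (a1 * c2 - a2 * c1) • bs' 1 + (α' * (a1 * c3 - a3 * c1)) • bs' 2 := by
    rw [← E2]; module
  obtain ⟨k4, k5, k6⟩ := coords bs' _ _ _ _ _ _ E2'
  have hc10 : c1 = 0 := (IsUnit.mul_right_eq_zero hα).mp k4
  subst k1 hc10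
  simp only [mul_zero, sub_zero] at k2 k3 k5 k6
  refine ⟨a1, a2, a3, b2, b3, c2, c3, hX, ?_, ?_, k2, k3, k5, k6⟩
  · rw [hY]; module
  · rw [hZ]; module

theorem inv_rel2 (bs : Module.Basis (Fin 3) A L) (bs' : Module.Basis (Fin 3) A L')
    (φ : L ≃ₗ⁅A⁆ L')
    (b2 b3 c2 c3 b2' b3' c2' c3' : A)
    (hY : φ (bs 1) = b2 • bs' 1 + b3 • bs' 2) (hZ : φ (bs 2) = c2 • bs' 1 + c3 • bs' 2)
    (hY' : φ.symm (bs' 1) = b2' • bs 1 + b3' • bs 2)
    (hZ' : φ.symm (bs' 2) = c2' • bs 1 + c3' • bs 2) :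
    (b2 * c3 - b3 * c2) * (b2' * c3' - b3' * c2') = 1 := by
  have I1 : φ (φ.symm (bs' 1)) = bs' 1 := φ.apply_symm_apply _
  have I2 : φ (φ.symm (bs' 2)) = bs' 2 := φ.apply_symm_apply _
  rw [hY', map_add, map_smul, map_smul, hY, hZ] at I1
  rw [hZ', map_add, map_smul, map_smul, hY, hZ] at I2
  have I1' : (0 : A) • bs' 0 + (b2' * b2 + b3' * c2) • bs' 1 + (b2' * b3 + b3' * c3) • bs' 2 =
      (0 : A) • bs' 0 + (1 : A) • bs' 1 + (0 : A) • bs' 2 := by
    have : (0 : A) • bs' 0 + (1 : A) • bs' 1 + (0 : A) • bs' 2 = bs' 1 := by module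
    rw [this]
    refine Eq.trans ?_ I1
    module
  have I2' : (0 : A) • bs' 0 + (c2' * b2 + c3' * c2) • bs' 1 + (c2' * b3 + c3' * c3) • bs' 2 =
      (0 : A) • bs' 0 + (0 : A) • bs' 1 + (1 : A) • bs' 2 := by
    have : (0 : A) • bs' 0 + (0 : A) • bs' 1 + (1 : A) • bs' 2 = bs' 2 := by module
    rw [this]
    refine Eq.trans ?_ I2
    module
  obtain ⟨-, G1, G2⟩ := coords bs' _ _ _ _ _ _ I1'
  obtain ⟨-, G3, G4⟩ := coords bs' _ _ _ _ _ _ I2'
  linear_combination (c2' * b3 + c3' * c3) * G1 + G4 - (c2' * b2 + c3' * c2) * G2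

/-- building an isomorphism from values on the bases -/
theorem mk_equiv (α α' : A) (bs : Module.Basis (Fin 3) A L)
    (hxy : ⁅bs 0, bs 1⁆ = bs 1) (hxz : ⁅bs 0, bs 2⁆ = α • bs 2) (hyz : ⁅bs 1, bs 2⁆ = 0)
    (bs' : Module.Basis (Fin 3) A L')
    (v : Fin 3 → L') (v' : Fin 3 → L)
    (hgf : ∀ i, bs'.constr A v' (v i) = bs i) (hfg : ∀ i, bs.constr A v (v' i) = bs' i)
    (hbr : ∀ u1 u2 u3 w1 w2 w3 : A,
      ⁅u1 • v 0 + u2 • v 1 + u3 • v 2, w1 • v 0 + w2 • v 1 + w3 • v 2⁆ =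
        (u1 * w2 - u2 * w1) • v 1 + (α * (u1 * w3 - u3 * w1)) • v 2) :
    Nonempty (L ≃ₗ⁅A⁆ L') := by
  let f : L →ₗ[A] L' := bs.constr A v
  let g : L' →ₗ[A] L := bs'.constr A v'
  have hf : ∀ p q r : A, f (p • bs 0 + q • bs 1 + r • bs 2) = p • v 0 + q • v 1 + r • v 2 := by
    intro p q r
    simp only [f, map_add, map_smul, Module.Basis.constr_basis]
  have hgf' : g ∘ₗ f = LinearMap.id := by
    apply bs.ext
    intro i
    simp only [f, g, LinearMap.comp_apply, Module.Basis.constr_basis, LinearMap.id_apply]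
    exact hgf i
  have hfg' : f ∘ₗ g = LinearMap.id := by
    apply bs'.ext
    intro i
    simp only [f, g, LinearMap.comp_apply, Module.Basis.constr_basis, LinearMap.id_apply]
    exact hfg i
  refine ⟨{ f with
    map_lie' := ?_
    invFun := g
    left_inv := fun x => LinearMap.congr_fun hgf' x
    right_inv := fun x => LinearMap.congr_fun hfg' x }⟩
  intro u w
  show f ⁅u, w⁆ = ⁅f u, f w⁆
  rw [expand bs u, expand bs w, bracket α bs hxy hxz hyz, hf, hf, hf, hbr]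
  module

theorem main (k : Type u) [Field k] (t t' : k) (ht : t ≠ 0) (ht' : t' ≠ 0)
    (L : Type v) [LieRing L] [LieAlgebra k L] (b : Module.Basis (Fin 3) k L)
    (h01 : ⁅b 0, b 1⁆ = b 1) (h02 : ⁅b 0, b 2⁆ = t • b 2) (h12 : ⁅b 1, b 2⁆ = 0)
    (L' : Type w) [LieRing L'] [LieAlgebra k L'] (b' : Module.Basis (Fin 3) k L')
    (h01' : ⁅b' 0, b' 1⁆ = b' 1) (h02' : ⁅b' 0, b' 2⁆ = t' • b' 2) (h12' : ⁅b' 1, b' 2⁆ = 0) :
    Nonempty (L ≃ₗ⁅k⁆ L') ↔ (t' = t ∨ t' = t⁻¹) := by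
  constructor
  · rintro ⟨φ⟩
    obtain ⟨a1, a2, a3, b2, b3, c2, c3, hX, hY, hZ, k2, k3, k5, k6⟩ :=
      data2 t t' (IsUnit.mk0 t ht) b h01 h02 h12 b' h01' h02' h12' φ
    obtain ⟨a1', a2', a3', b2', b3', c2', c3', hX', hY', hZ', -, -, -, -⟩ :=
      data2 t' t (IsUnit.mk0 t' ht') b' h01' h02' h12' b h01 h02 h12 φ.symm
    have hδ := inv_rel2 b b' φ _ _ _ _ _ _ _ _ hY hZ hY' hZ'
    have hδ0 : b2 * c3 - b3 * c2 ≠ 0 := by
      intro h0
      rw [h0, zero_mul] at hδ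
      exact zero_ne_one hδ
    by_cases hb2 : b2 = 0
    · -- then b3 ≠ 0 and c2 ≠ 0
      have hb3 : b3 ≠ 0 := by
        intro h; apply hδ0; rw [hb2, h]; ring
      have hc2 : c2 ≠ 0 := by
        intro h; apply hδ0; rw [hb2, h]; ring
      right
      have e1 : t' * a1 = 1 := by
        have : b3 * (t' * a1 - 1) = 0 := by linear_combination -k3
        rcases mul_eq_zero.mp this with h | h
        · exact absurd h hb3
        · linear_combination h
      have e2 : t = a1 := by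
        have : c2 * (t - a1) = 0 := by linear_combination k5
        rcases mul_eq_zero.mp this with h | h
        · exact absurd h hc2
        · linear_combination h
      rw [← e2] at e1
      exact eq_inv_of_mul_eq_one_left e1
    · left
      have e1 : a1 = 1 := by
        have : b2 * (a1 - 1) = 0 := by linear_combination -k2
        rcases mul_eq_zero.mp this with h | h
        · exact absurd h hb2
        · linear_combination h
      by_cases hc3 : c3 = 0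
      · have hb3 : b3 ≠ 0 := by
          intro h'; apply hδ0; rw [hc3, h']; ring
        have hc2 : c2 ≠ 0 := by
          intro h'; apply hδ0; rw [hc3, h']; ring
        have e2 : t' * a1 = 1 := by
          have : b3 * (t' * a1 - 1) = 0 := by linear_combination -k3
          rcases mul_eq_zero.mp this with h | h
          · exact absurd h hb3
          · linear_combination h
        have e3 : t = a1 := by
          have : c2 * (t - a1) = 0 := by linear_combination k5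
          rcases mul_eq_zero.mp this with h | h
          · exact absurd h hc2
          · linear_combination h
        rw [e1, mul_one] at e2
        rw [e2, e3, e1]
      · have : c3 * (t - t' * a1) = 0 := by linear_combination k6
        rcases mul_eq_zero.mp this with h | h
        · exact absurd h hc3
        · rw [e1, mul_one] at h
          linear_combination -h
  · rintro (h | h)
    · subst h
      refine mk_equiv t' t' b h01 h02 h12 b' (fun i => b' i) (fun i => b i) ?_ ?_ ?_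
      · intro i; simp
      · intro i; simp
      · intro u1 u2 u3 w1 w2 w3
        rw [bracket t' b' h01' h02' h12']
        module
    · have htt : t' * t = 1 := by rw [h]; exact inv_mul_cancel₀ ht
      refine mk_equiv t t' b h01 h02 h12 b' ![t • b' 0, b' 2, b' 1] ![t' • b 0, b 2, b 1] ?_ ?_ ?_
      · intro i
        fin_cases i
        · simp [smul_smul, mul_comm t t', htt]
        · simp
        · simp
      · intro i
        fin_cases i
        · simp [smul_smul, htt]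
        · simp
        · simp
      · intro u1 u2 u3 w1 w2 w3
        simp only [Matrix.cons_val_zero, Matrix.cons_val_one, Matrix.cons_val_two, Matrix.head_cons,
          Matrix.tail_cons]
        have e : u1 • t • b' 0 + u2 • b' 2 + u3 • b' 1 = (u1 * t) • b' 0 + u3 • b' 1 + u2 • b' 2 := by
          module
        have e' : w1 • t • b' 0 + w2 • b' 2 + w3 • b' 1 = (w1 * t) • b' 0 + w3 • b' 1 + w2 • b' 2 := by
          module
        rw [e, e', bracket t' b' h01' h02' h12']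
        have : t' * (u1 * t * w2 - u2 * (w1 * t)) = u1 * w2 - u2 * w1 := by
          linear_combination (u1 * w2 - u2 * w1) * htt
        rw [this]
        module


end


/-- Let k be a field and t, t' ∈ k both non-zero; let L be a Lie algebra over k with a basis x = b 0, y
= b 1, z = b 2 and brackets [x,y] = y, [x,z] = t z, [y,z] = 0, and L' a Lie algebra over k with a
basis x' = b' 0, y' = b' 1, z' = b' 2 and brackets [x',y'] = y', [x',z'] = t' z', [y',z'] = 0. Then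
L and L' are isomorphic Lie algebras over k if and only if t' = t or t' = t⁻¹. -/
theorem result (k : Type u) [Field k] (t t' : k) (ht : t ≠ 0) (ht' : t' ≠ 0)
    (L : Type v) [LieRing L] [LieAlgebra k L] (b : Module.Basis (Fin 3) k L)
    (h01 : ⁅b 0, b 1⁆ = b 1) (h02 : ⁅b 0, b 2⁆ = t • b 2) (h12 : ⁅b 1, b 2⁆ = 0)
    (L' : Type w) [LieRing L'] [LieAlgebra k L'] (b' : Module.Basis (Fin 3) k L')
    (h01' : ⁅b' 0, b' 1⁆ = b' 1) (h02' : ⁅b' 0, b' 2⁆ = t' • b' 2) (h12' : ⁅b' 1, b' 2⁆ = 0) :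
    Nonempty (L ≃ₗ⁅k⁆ L') ↔ (t' = t ∨ t' = t⁻¹) := by
  classical
  exact main k t t' ht ht' L b h01 h02 h12 L' b' h01' h02' h12'

end Groth.Agent.S13108
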