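import Groth.Statements.S13114
import Mathlib
import Groth.Agent.Lib.Helper5.Misc.NormLocal

set_option autoImplicit false
universe u
open HilbChow



namespace Groth.Agent.S13114

/-- Let k be an algebraically closed field, A a commutative local k-algebra of finite dimension n over k
and u a unit of A. Then the determinant of multiplication by u on the k-vector space A, mapped to
the residue field of A, equals the n-th power of the residue class of u. -/
theorem result
    (k A : Type u) [Field k] [IsAlgClosed k] [CommRing A] [Algebra k A] [IsLocalRing A]
    [Module.Finite k A] (u : Aˣ) :
    algebraMap k (IsLocalRing.ResidueField A) (Algebra.norm k (u : A)) =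
      IsLocalRing.residue A (u : A) ^ Module.finrank k A := by
  exact Groth.Agent.Helper5.NormLocal.main k A (u : A)

end Groth.Agent.S13114
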