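import Groth.Statements.S13117
import Mathlib

set_option autoImplicit false
universe u
open HilbChow

namespace Groth.Agent.S13117

section


open Module

theorem det_blockDiagonal'' {η : Type*} [Fintype η] [DecidableEq η] {κ : η → Type*}
    [∀ i, Fintype (κ i)] [∀ i, DecidableEq (κ i)] {R : Type*} [CommRing R]
    (d : ∀ i, Matrix (κ i) (κ i) R) :
    (Matrix.blockDiagonal' d).det = ∏ i, (d i).det := by
  classical
  letI : LinearOrder η := LinearOrder.lift' (Fintype.equivFin η) (Fintype.equivFin η).injective
  rw [(Matrix.blockTriangular_blockDiagonal' d).det_fintype]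
  refine Finset.prod_congr rfl fun a _ => ?_
  let e : κ a ≃ {x : Σ i, κ i // x.1 = a} :=
    { toFun := fun y => ⟨⟨a, y⟩, rfl⟩
      invFun := fun x => cast (congrArg κ x.2) x.1.2
      left_inv := fun y => rfl
      right_inv := by
        rintro ⟨⟨i, y⟩, h⟩
        dsimp at h
        subst h
        rfl }
  rw [← Matrix.det_submatrix_equiv_self e]
  congr 1
  ext y z
  simp [Matrix.toSquareBlock_def, e, Matrix.blockDiagonal'_apply_eq]

/-- norm on a dependent Pi type -/
theorem norm_pi {k : Type*} [Field k] {η : Type*} [Fintype η] [DecidableEq η] (B : η → Type*)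
    [∀ i, CommRing (B i)] [∀ i, Algebra k (B i)] [∀ i, Module.Finite k (B i)]
    (x : ∀ i, B i) : Algebra.norm k x = ∏ i, Algebra.norm k (x i) := by
  classical
  let b : ∀ i, Basis (Free.ChooseBasisIndex k (B i)) k (B i) := fun i => Free.chooseBasis k (B i)
  rw [Algebra.norm_eq_matrix_det (Pi.basis b)]
  have : Algebra.leftMulMatrix (Pi.basis b) x =
      Matrix.blockDiagonal' (fun i => Algebra.leftMulMatrix (b i) (x i)) := by
    ext ⟨i, a⟩ ⟨j, c⟩
    simp only [Algebra.leftMulMatrix_eq_repr_mul, Matrix.blockDiagonal'_apply, Pi.basis_repr,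
      Pi.basis_apply]
    by_cases h : i = j
    · subst h; simp
    · simp [h, Pi.single_eq_of_ne h]
  rw [this, det_blockDiagonal'']
  refine Finset.prod_congr rfl fun i _ => ?_
  rw [Algebra.norm_eq_matrix_det (b i)]

theorem norm_local (k : Type u) [Field k] (B : Type u) [CommRing B] [Algebra k B]
    [Module.Finite k B] (c : k) (n : B) (hn : IsNilpotent n) :
    Algebra.norm k (algebraMap k B c + n) = c ^ finrank k B := by
  rw [Algebra.norm_apply]
  have hnil : IsNilpotent (-(Algebra.lmul k B n)) := (hn.map (Algebra.lmul k B)).neg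
  have h1 := LinearMap.eval_charpoly (-(Algebra.lmul k B n)) c
  rw [IsNilpotent.charpoly_eq_X_pow_finrank hnil] at h1
  simp only [Polynomial.eval_pow, Polynomial.eval_X, sub_neg_eq_add] at h1
  rw [h1]
  congr 1
  ext y
  simp [Algebra.smul_def]


theorem step3 (k A : Type u) [Field k] [CommRing A] [Algebra k A] [Module.Finite k A]
    (φ : A →ₐ[k] k) (f : A) [Module.Finite k (Localization.AtPrime (Ideal.comap φ ⊥))] :
    Algebra.norm k (algebraMap A (Localization.AtPrime (Ideal.comap φ ⊥)) f) =
      φ f ^ Module.finrank k (Localization.AtPrime (Ideal.comap φ ⊥)) := by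
  haveI : IsArtinianRing A := IsArtinianRing.of_finite k A
  obtain ⟨n, hn⟩ : ∃ n : Localization.AtPrime (Ideal.comap φ ⊥),
      n = algebraMap A _ (f - algebraMap k A (φ f)) := ⟨_, rfl⟩
  have hmem : f - algebraMap k A (φ f) ∈ Ideal.comap φ ⊥ := by
    rw [Ideal.mem_comap, Ideal.mem_bot, map_sub, AlgHom.commutes]
    simp
  have hnmax : n ∈ IsLocalRing.maximalIdeal (Localization.AtPrime (Ideal.comap φ ⊥)) := by
    rw [hn, IsLocalization.AtPrime.to_map_mem_maximal_iff _ (Ideal.comap φ ⊥)]
    exact hmem
  haveI : IsArtinianRing (Localization.AtPrime (Ideal.comap φ ⊥)) := inferInstance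
  have hnil : IsNilpotent n := by
    have h1 := IsArtinianRing.isNilpotent_jacobson_bot (R := Localization.AtPrime (Ideal.comap φ ⊥))
    rw [IsLocalRing.jacobson_eq_maximalIdeal ⊥ bot_ne_top] at h1
    obtain ⟨N, hN⟩ := h1
    refine ⟨N, ?_⟩
    have : n ^ N ∈ IsLocalRing.maximalIdeal (Localization.AtPrime (Ideal.comap φ ⊥)) ^ N :=
      Ideal.pow_mem_pow hnmax N
    rw [hN] at this
    exact this
  have e : algebraMap A (Localization.AtPrime (Ideal.comap φ ⊥)) f =
      algebraMap k _ (φ f) + n := by
    rw [hn, map_sub, IsScalarTower.algebraMap_apply k A (Localization.AtPrime (Ideal.comap φ ⊥))]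
    ring
  rw [e, norm_local k _ (φ f) n hnil]

theorem main (k A : Type u) [Field k] [IsAlgClosed k] [CommRing A] [Algebra k A]
    [Module.Finite k A] (f : A) :
    Algebra.norm k f =
      ∏ᶠ φ : A →ₐ[k] k, φ f ^ Module.finrank k (Localization.AtPrime (Ideal.comap φ ⊥)) := by
  classical
  haveI : IsArtinianRing A := IsArtinianRing.of_finite k A
  haveI : Finite (MaximalSpectrum A) := inferInstance
  letI : Fintype (MaximalSpectrum A) := Fintype.ofFinite _
  have hfin : ∀ I : MaximalSpectrum A, Module.Finite k (Localization.AtPrime I.asIdeal) := fun I =>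
    Module.Finite.of_surjective (Algebra.algHom k A (Localization.AtPrime I.asIdeal)).toLinearMap
      (IsArtinianRing.localization_surjective I.asIdeal.primeCompl _)
  have h1 : Algebra.norm k f = ∏ I : MaximalSpectrum A,
      Algebra.norm k (algebraMap A (Localization.AtPrime I.asIdeal) f) := by
    rw [← Algebra.norm_eq_of_algEquiv
      ((MaximalSpectrum.toPiLocalizationEquiv A).restrictScalars k) f]
    rw [norm_pi]
    rfl
  rw [h1]
  -- the map E
  have hmax : ∀ φ : A →ₐ[k] k, (Ideal.comap φ (⊥ : Ideal k)).IsMaximal := by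
    intro φ
    have hs : Function.Surjective φ.toRingHom := by
      intro c
      exact ⟨algebraMap k A c, by simp⟩
    have := RingHom.ker_isMaximal_of_surjective φ.toRingHom hs
    rwa [RingHom.ker_eq_comap_bot] at this
  have hbij : Function.Bijective
      (fun φ : A →ₐ[k] k => (⟨Ideal.comap φ ⊥, hmax φ⟩ : MaximalSpectrum A)) := by
    constructor
    · intro φ ψ h
      have h' : Ideal.comap φ (⊥ : Ideal k) = Ideal.comap ψ ⊥ :=
        congrArg MaximalSpectrum.asIdeal h
      refine AlgHom.ext fun a => ?_
      have hmem : a - algebraMap k A (φ a) ∈ Ideal.comap φ (⊥ : Ideal k) := by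
        rw [Ideal.mem_comap, Ideal.mem_bot, map_sub, AlgHom.commutes]
        simp
      rw [h', Ideal.mem_comap, Ideal.mem_bot, map_sub, AlgHom.commutes] at hmem
      simp only [Algebra.algebraMap_self, RingHom.id_apply] at hmem
      exact (sub_eq_zero.mp hmem).symm
    · intro I
      haveI := I.isMaximal
      letI : Field (A ⧸ I.asIdeal) := Ideal.Quotient.field I.asIdeal
      have hb : Function.Bijective (algebraMap k (A ⧸ I.asIdeal)) :=
        IsAlgClosed.algebraMap_bijective_of_isIntegral
      obtain ⟨ψ, hψ⟩ : ∃ ψ : k ≃ₐ[k] (A ⧸ I.asIdeal), ψ = AlgEquiv.ofBijective (Algebra.ofId k _) hb :=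
        ⟨_, rfl⟩
      refine ⟨(ψ.symm : (A ⧸ I.asIdeal) →ₐ[k] k).comp (Ideal.Quotient.mkₐ k I.asIdeal), ?_⟩
      apply MaximalSpectrum.ext
      ext a
      simp only [Ideal.mem_comap, Ideal.mem_bot, AlgHom.coe_comp, Function.comp_apply,
        Ideal.Quotient.mkₐ_eq_mk]
      rw [← Ideal.Quotient.eq_zero_iff_mem (I := I.asIdeal) (a := a)]
      exact EmbeddingLike.map_eq_zero_iff (f := ψ.symm)
  rw [← finprod_eq_prod_of_fintype]
  symm
  refine finprod_eq_of_bijective _ hbij (fun φ => ?_)
  haveI := hfin ⟨Ideal.comap φ ⊥, hmax φ⟩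
  exact (step3 k A φ f).symm


end


/-- Let k be an algebraically closed field, A a finite-dimensional commutative k-algebra (the coordinate
ring of a zero-dimensional subscheme Z of length dim_k A) and f ∈ A. Then the determinant of
multiplication by f on A is the product over the points x of Z — the k-algebra homomorphisms A → k —
of the value f(x) raised to the length of the local ring of Z at x, that length being the
k-dimension of the localisation of A at the corresponding maximal ideal. This is the formula by
which the Hilbert-to-Chow morphism for zero-cycles sends Z to its fundamental cycle Σ ℓ(O_{Z,x})[x]. -/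
theorem result
    (k A : Type u) [Field k] [IsAlgClosed k] [CommRing A] [Algebra k A] [Module.Finite k A] (f : A) :
    Algebra.norm k f =
      ∏ᶠ φ : A →ₐ[k] k, φ f ^ Module.finrank k (Localization.AtPrime (Ideal.comap φ ⊥)) := by
  classical
  exact main k A f

end Groth.Agent.S13117
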