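import Groth.Statements.S13120
import Mathlib
import Groth.Agent.Lib.Helper5.Misc.KumFam

set_option autoImplicit false
universe u
open KumFam

open MvPolynomial Groth.Agent.Helper5.KumFam

namespace Groth.Agent.S13120

open MvPolynomial in
/-- Let R be a commutative ring of characteristic 2 and l0, l2, l4, s0, s2, s4, τ ∈ R with τ a unit.
Inside R[u, v] (u = X 0, v = X 1) let A = R[u², u³, v², v³] be the coordinate ring of the product of
two cuspidal curves, and let D be the R-derivation of R[u, v] with D(u) = v²(l0 u⁴ + τ u³ + l2 u² +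
l4) and D(v) = u²(s0 v⁴ + τ v³ + s2 v² + s4); D is u²v² times the rational vector field (l0 u² + τ u
+ l2 + l4 u⁻²) ∂_u + (s0 v² + τ v + s2 + s4 v⁻²) ∂_v, which maps A into itself, and u²v² is a
non-zero-divisor, so the kernel of that vector field on A is the set of a ∈ A with D(a) = 0. Then
for a ∈ A: D(a) = 0 if and only if a ∈ R[u², v², g], where g = (s0 v⁴ + s2 v² + s4) u³ + (l0 u⁴ + l2
u² + l4) v³ + τ u³ v³. (The published statement identifies this kernel with the ring of invariants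
of the corresponding action of the group scheme of square roots of unity; this row states the kernel
computation that is actually carried out.) -/
theorem result (R : Type u) [CommRing R] [CharP R 2]
    (l0 l2 l4 s0 s2 s4 τ : R) (hτ : IsUnit τ) (a : MvPolynomial (Fin 2) R)
    (ha : a ∈ Algebra.adjoin R
      ({X 0 ^ 2, X 0 ^ 3, X 1 ^ 2, X 1 ^ 3} : Set (MvPolynomial (Fin 2) R))) :
    MvPolynomial.mkDerivation R
        (![X 1 ^ 2 * (C l0 * X 0 ^ 4 + C τ * X 0 ^ 3 + C l2 * X 0 ^ 2 + C l4),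
          X 0 ^ 2 * (C s0 * X 1 ^ 4 + C τ * X 1 ^ 3 + C s2 * X 1 ^ 2 + C s4)] :
          Fin 2 → MvPolynomial (Fin 2) R) a = 0 ↔
      a ∈ Algebra.adjoin R
        ({X 0 ^ 2, X 1 ^ 2,
          (C s0 * X 1 ^ 4 + C s2 * X 1 ^ 2 + C s4) * X 0 ^ 3 +
            (C l0 * X 0 ^ 4 + C l2 * X 0 ^ 2 + C l4) * X 1 ^ 3 +
            C τ * X 0 ^ 3 * X 1 ^ 3} : Set (MvPolynomial (Fin 2) R)) := by
  set P : MvPolynomial (Fin 2) R := C l0 * X 0 ^ 4 + C l2 * X 0 ^ 2 + C l4 with hP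
  set Q : MvPolynomial (Fin 2) R := C s0 * X 1 ^ 4 + C s2 * X 1 ^ 2 + C s4 with hQ
  have hX0 := X_sq_mem_S2 (R := R) 0
  have hX1 := X_sq_mem_S2 (R := R) 1
  have hPm : P ∈ S2 R := by
    have e : (X 0 ^ 4 : MvPolynomial (Fin 2) R) = X 0 ^ 2 * X 0 ^ 2 := by ring
    rw [hP, e]
    exact add_mem (add_mem (mul_mem (C_mem_S2 _) (mul_mem hX0 hX0)) (mul_mem (C_mem_S2 _) hX0))
      (C_mem_S2 _)
  have hQm : Q ∈ S2 R := by
    have e : (X 1 ^ 4 : MvPolynomial (Fin 2) R) = X 1 ^ 2 * X 1 ^ 2 := by ring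
    rw [hQ, e]
    exact add_mem (add_mem (mul_mem (C_mem_S2 _) (mul_mem hX1 hX1)) (mul_mem (C_mem_S2 _) hX1))
      (C_mem_S2 _)
  obtain ⟨t, rfl⟩ := hτ
  set D := MvPolynomial.mkDerivation R
        (![X 1 ^ 2 * (C l0 * X 0 ^ 4 + C (t : R) * X 0 ^ 3 + C l2 * X 0 ^ 2 + C l4),
          X 0 ^ 2 * (C s0 * X 1 ^ 4 + C (t : R) * X 1 ^ 3 + C s2 * X 1 ^ 2 + C s4)] :
          Fin 2 → MvPolynomial (Fin 2) R) with hD
  set ξ : MvPolynomial (Fin 2) R := X 0 ^ 2 * X 0 with hξ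
  set η : MvPolynomial (Fin 2) R := X 1 ^ 2 * X 1 with hη
  have hDξ : D ξ = (X 0 ^ 2 * X 1 ^ 2) * (P + C (t : R) * ξ) := by
    rw [hξ, Derivation.leibniz, D_S2 D hX0, smul_zero, add_zero, hD, mkDerivation_X, hP, smul_eq_mul]
    simp only [Matrix.cons_val_zero]
    ring
  have hDη : D η = (X 0 ^ 2 * X 1 ^ 2) * (Q + C (t : R) * η) := by
    rw [hη, Derivation.leibniz, D_S2 D hX1, smul_zero, add_zero, hD, mkDerivation_X, hQ, smul_eq_mul]
    simp only [Matrix.cons_val_one, Matrix.cons_val_zero]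
    ring
  have hξ2 : ξ ^ 2 ∈ S2 R := by
    have : ξ ^ 2 = X 0 ^ 2 * X 0 ^ 2 * X 0 ^ 2 := by rw [hξ]; ring
    rw [this]; exact mul_mem (mul_mem hX0 hX0) hX0
  have hη2 : η ^ 2 ∈ S2 R := by
    have : η ^ 2 = X 1 ^ 2 * X 1 ^ 2 * X 1 ^ 2 := by rw [hη]; ring
    rw [this]; exact mul_mem (mul_mem hX1 hX1) hX1
  have hgen : (C s0 * X 1 ^ 4 + C s2 * X 1 ^ 2 + C s4) * X 0 ^ 3 +
            (C l0 * X 0 ^ 4 + C l2 * X 0 ^ 2 + C l4) * X 1 ^ 3 +
            C (t : R) * X 0 ^ 3 * X 1 ^ 3 = Q * ξ + P * η + C (t : R) * (ξ * η) := by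
    rw [hξ, hη, hP, hQ]; ring
  rw [hgen]
  constructor
  · intro h
    have hT : InT ξ η a := by
      refine InT.adjoin hξ2 hη2 _ ?_ a ha
      intro z hz
      simp only [Set.mem_insert_iff, Set.mem_singleton_iff] at hz
      rcases hz with rfl | rfl | rfl | rfl
      · exact InT.of_S2 hX0
      · exact ⟨0, zero_mem _, 1, one_mem _, 0, zero_mem _, 0, zero_mem _, by rw [hξ]; ring⟩
      · exact InT.of_S2 hX1
      · exact ⟨0, zero_mem _, 0, zero_mem _, 1, one_mem _, 0, zero_mem _, by rw [hη]; ring⟩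
    obtain ⟨A, hA, B, hB, C', hC, E, hE, rfl⟩ := hT
    exact ker_deriv_mem (α := X 0 ^ 2) (β := X 1 ^ 2) (w := X 0 ^ 2 * X 1 ^ 2) hX0 hX1 hPm hQm
      (fun z hz => mul_X_pow_cancel 0 2 hz) (fun z hz => mul_X_pow_cancel 1 2 hz)
      (fun z hz => by
        have : z * X 0 ^ 2 * X 1 ^ 2 = 0 := by rw [← hz]; ring
        exact mul_X_pow_cancel 0 2 (mul_X_pow_cancel 1 2 this))
      rfl rfl hDξ hDη hA hB hC hE h
      _ (Set.mem_insert _ _) (Set.mem_insert_of_mem _ (Set.mem_insert _ _))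
      (Set.mem_insert_of_mem _ (Set.mem_insert_of_mem _ rfl))
  · refine D_adjoin D _ ?_ a
    intro z hz
    simp only [Set.mem_insert_iff, Set.mem_singleton_iff] at hz
    rcases hz with rfl | rfl | rfl
    · exact D_S2 D hX0
    · exact D_S2 D hX1
    · exact D_gen hPm hQm hDξ hDη

end Groth.Agent.S13120
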