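import Groth.Statements.S13121
import Mathlib
import Groth.Agent.Lib.Helper5.Misc.KumFam

set_option autoImplicit false
universe u
open KumFam

open MvPolynomial Groth.Agent.Helper5.KumFam

namespace Groth.Agent.S13121

open MvPolynomial in
/-- Let R be a commutative ring of characteristic 2 and l0, l2, l4, s0, s2, s4, τ ∈ R with τ a unit. In
R[u, v] (u = X 0, v = X 1) put g = (s0 v⁴ + s2 v² + s4) u³ + (l0 u⁴ + l2 u² + l4) v³ + τ u³ v³. Then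
the kernel of the R-algebra homomorphism R[a, b, c] → R[u, v] (a = X 0, b = X 1, c = X 2) with a ↦
u², b ↦ v², c ↦ g is the ideal generated by c² + s0² a³ b⁴ + s2² a³ b² + s4² a³ + l0² a⁴ b³ + l2² a²
b³ + l4² b³ + τ² a³ b³; its image is the subalgebra R[u², v², g], which is therefore presented by
this one equation. -/
theorem result (R : Type u) [CommRing R] [CharP R 2]
    (l0 l2 l4 s0 s2 s4 τ : R) (hτ : IsUnit τ) :
    RingHom.ker (MvPolynomial.aeval (R := R) (S₁ := MvPolynomial (Fin 2) R)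
        ![X 0 ^ 2, X 1 ^ 2,
          (C s0 * X 1 ^ 4 + C s2 * X 1 ^ 2 + C s4) * X 0 ^ 3 +
            (C l0 * X 0 ^ 4 + C l2 * X 0 ^ 2 + C l4) * X 1 ^ 3 +
            C τ * X 0 ^ 3 * X 1 ^ 3]) =
      Ideal.span {(X 2 ^ 2 + C (s0 ^ 2) * X 0 ^ 3 * X 1 ^ 4 + C (s2 ^ 2) * X 0 ^ 3 * X 1 ^ 2 +
        C (s4 ^ 2) * X 0 ^ 3 + C (l0 ^ 2) * X 0 ^ 4 * X 1 ^ 3 + C (l2 ^ 2) * X 0 ^ 2 * X 1 ^ 3 +
        C (l4 ^ 2) * X 1 ^ 3 + C (τ ^ 2) * X 0 ^ 3 * X 1 ^ 3 : MvPolynomial (Fin 3) R)} := by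
  set g₁₀ : MvPolynomial (Fin 2) R := (C s0 * X 1 ^ 4 + C s2 * X 1 ^ 2 + C s4) * X 0 ^ 3 with hg₁₀
  set g₀₁ : MvPolynomial (Fin 2) R := (C l0 * X 0 ^ 4 + C l2 * X 0 ^ 2 + C l4) * X 1 ^ 3 with hg₀₁
  set ν : Fin 2 →₀ ℕ := Finsupp.single 0 3 + Finsupp.single 1 3 with hν
  have hmon : (monomial ν τ : MvPolynomial (Fin 2) R) = C τ * X 0 ^ 3 * X 1 ^ 3 := by
    rw [hν, monomial_add_single, C_mul_X_pow_eq_monomial]
  set q₀ : MvPolynomial (Fin 2) R := C (s0 ^ 2) * X 0 ^ 3 * X 1 ^ 4 + C (s2 ^ 2) * X 0 ^ 3 * X 1 ^ 2 +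
    C (s4 ^ 2) * X 0 ^ 3 + C (l0 ^ 2) * X 0 ^ 4 * X 1 ^ 3 + C (l2 ^ 2) * X 0 ^ 2 * X 1 ^ 3 +
    C (l4 ^ 2) * X 1 ^ 3 + C (τ ^ 2) * X 0 ^ 3 * X 1 ^ 3 with hq₀
  have h10 : HasPar 1 0 g₁₀ := by
    have hA : HasPar 0 0 (C s0 * X 1 ^ 4 + C s2 * X 1 ^ 2 + C s4 : MvPolynomial (Fin 2) R) :=
      HasPar.add (HasPar.add
        (HasPar.congr (HasPar.mul (HasPar.C s0) (HasPar.pow HasPar.X1 4)) (by decide) (by decide))
        (HasPar.congr (HasPar.mul (HasPar.C s2) (HasPar.pow HasPar.X1 2)) (by decide) (by decide)))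
        (HasPar.C s4)
    exact HasPar.congr (HasPar.mul hA (HasPar.pow HasPar.X0 3)) (by decide) (by decide)
  have h01 : HasPar 0 1 g₀₁ := by
    have hB : HasPar 0 0 (C l0 * X 0 ^ 4 + C l2 * X 0 ^ 2 + C l4 : MvPolynomial (Fin 2) R) :=
      HasPar.add (HasPar.add
        (HasPar.congr (HasPar.mul (HasPar.C l0) (HasPar.pow HasPar.X0 4)) (by decide) (by decide))
        (HasPar.congr (HasPar.mul (HasPar.C l2) (HasPar.pow HasPar.X0 2)) (by decide) (by decide)))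
        (HasPar.C l4)
    exact HasPar.congr (HasPar.mul hB (HasPar.pow HasPar.X1 3)) (by decide) (by decide)
  have hsq : ∀ x y : MvPolynomial (Fin 2) R, (x + y) ^ 2 = x ^ 2 + y ^ 2 :=
    fun x y => CharTwo.add_sq x y
  have hrel : (g₁₀ + g₀₁ + monomial ν τ) ^ 2 + expand 2 q₀ = 0 := by
    have key : (g₁₀ + g₀₁ + monomial ν τ) ^ 2 = expand 2 q₀ := by
      rw [hmon, hg₁₀, hg₀₁, hq₀]
      simp only [hsq, mul_pow, map_add, map_mul, map_pow, expand_C, expand_X]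
      ring
    rw [key]
    exact CharTwo.add_self_eq_zero _
  have hker := ker_eq_span (g₁₀ + g₀₁ + monomial ν τ) q₀ hrel
    (indep g₁₀ g₀₁ h10 h01 ν (by simp [hν]; decide) (by simp [hν]; decide) τ hτ)
  have e1 : (phi (g₁₀ + g₀₁ + monomial ν τ)) = MvPolynomial.aeval (R := R) (S₁ := MvPolynomial (Fin 2) R)
        ![X 0 ^ 2, X 1 ^ 2,
          (C s0 * X 1 ^ 4 + C s2 * X 1 ^ 2 + C s4) * X 0 ^ 3 +
            (C l0 * X 0 ^ 4 + C l2 * X 0 ^ 2 + C l4) * X 1 ^ 3 +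
            C τ * X 0 ^ 3 * X 1 ^ 3] := by
    rw [phi, hmon]
  have e2 : (X 2 ^ 2 + rename Fin.castSucc q₀ : MvPolynomial (Fin 3) R) =
      X 2 ^ 2 + C (s0 ^ 2) * X 0 ^ 3 * X 1 ^ 4 + C (s2 ^ 2) * X 0 ^ 3 * X 1 ^ 2 +
        C (s4 ^ 2) * X 0 ^ 3 + C (l0 ^ 2) * X 0 ^ 4 * X 1 ^ 3 + C (l2 ^ 2) * X 0 ^ 2 * X 1 ^ 3 +
        C (l4 ^ 2) * X 1 ^ 3 + C (τ ^ 2) * X 0 ^ 3 * X 1 ^ 3 := by
    rw [hq₀]
    simp only [map_add, map_mul, map_pow, rename_C, rename_X]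
    have c0 : (Fin.castSucc (0 : Fin 2) : Fin 3) = 0 := rfl
    have c1 : (Fin.castSucc (1 : Fin 2) : Fin 3) = 1 := rfl
    rw [c0, c1]
    ring
  rw [e1, e2] at hker
  exact hker

end Groth.Agent.S13121
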