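import Groth.Statements.S13122
import Mathlib
import Groth.Agent.Lib.Helper5.Misc.KumFam

set_option autoImplicit false
universe u
open KumFam

open MvPolynomial Groth.Agent.Helper5.KumFam

namespace Groth.Agent.S13122

open MvPolynomial in
/-- Let R be a commutative ring of characteristic 2 and l0, l2, l4, s0, s2, s4, τ ∈ R with τ a unit. On
R[x, y] (x = X 0, y = X 1; the coordinates u⁻¹, v⁻¹ of the smooth chart of the product of two
cuspidal curves) let D be the R-derivation with D(x) = l4 x⁴ + l2 x² + τ x + l0 and D(y) = s4 y⁴ +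
s2 y² + τ y + s0, and put h = (s4 y⁴ + s2 y² + s0) x + (l4 x⁴ + l2 x² + l0) y + τ x y. Then: (1) for
p ∈ R[x, y], D(p) = 0 if and only if p lies in the image of the R-algebra homomorphism R[a, b, c] →
R[x, y] (a = X 0, b = X 1, c = X 2) with a ↦ x², b ↦ y², c ↦ h; (2) the kernel of that homomorphism
is the ideal generated by c² + τ² a b + (s4² b⁴ + s2² b² + s0²) a + (l4² a⁴ + l2² a² + l0²) b. (The
published statement asserts that the ring of invariants of the action of the group scheme of square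
roots of unity given by this vector field is R[a, b, c] modulo this equation, by the same
computation as on the other chart; this row pins the generator h and states the kernel computation.) -/
theorem result (R : Type u) [CommRing R]
    [CharP R 2] (l0 l2 l4 s0 s2 s4 τ : R) (hτ : IsUnit τ) :
    (∀ p : MvPolynomial (Fin 2) R,
      MvPolynomial.mkDerivation R
          (![C l4 * X 0 ^ 4 + C l2 * X 0 ^ 2 + C τ * X 0 + C l0,
            C s4 * X 1 ^ 4 + C s2 * X 1 ^ 2 + C τ * X 1 + C s0] :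
            Fin 2 → MvPolynomial (Fin 2) R) p = 0 ↔
        p ∈ (MvPolynomial.aeval (R := R) (S₁ := MvPolynomial (Fin 2) R)
          ![X 0 ^ 2, X 1 ^ 2,
            (C s4 * X 1 ^ 4 + C s2 * X 1 ^ 2 + C s0) * X 0 +
              (C l4 * X 0 ^ 4 + C l2 * X 0 ^ 2 + C l0) * X 1 + C τ * X 0 * X 1]).range) ∧
    RingHom.ker (MvPolynomial.aeval (R := R) (S₁ := MvPolynomial (Fin 2) R)
        ![X 0 ^ 2, X 1 ^ 2,
          (C s4 * X 1 ^ 4 + C s2 * X 1 ^ 2 + C s0) * X 0 +
            (C l4 * X 0 ^ 4 + C l2 * X 0 ^ 2 + C l0) * X 1 + C τ * X 0 * X 1]) =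
      Ideal.span {(X 2 ^ 2 + C (τ ^ 2) * X 0 * X 1 +
        (C (s4 ^ 2) * X 1 ^ 4 + C (s2 ^ 2) * X 1 ^ 2 + C (s0 ^ 2)) * X 0 +
        (C (l4 ^ 2) * X 0 ^ 4 + C (l2 ^ 2) * X 0 ^ 2 + C (l0 ^ 2)) * X 1 : MvPolynomial (Fin 3) R)} := by
  set P : MvPolynomial (Fin 2) R := C l4 * X 0 ^ 4 + C l2 * X 0 ^ 2 + C l0 with hP
  set Q : MvPolynomial (Fin 2) R := C s4 * X 1 ^ 4 + C s2 * X 1 ^ 2 + C s0 with hQ
  have hX0 := X_sq_mem_S2 (R := R) 0
  have hX1 := X_sq_mem_S2 (R := R) 1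
  have hPm : P ∈ S2 R := by
    have e : (X 0 ^ 4 : MvPolynomial (Fin 2) R) = X 0 ^ 2 * X 0 ^ 2 := by ring
    rw [hP, e]
    exact add_mem (add_mem (mul_mem (C_mem_S2 _) (mul_mem hX0 hX0)) (mul_mem (C_mem_S2 _) hX0))
      (C_mem_S2 _)
  have hQm : Q ∈ S2 R := by
    have e : (X 1 ^ 4 : MvPolynomial (Fin 2) R) = X 1 ^ 2 * X 1 ^ 2 := by ring
    rw [hQ, e]
    exact add_mem (add_mem (mul_mem (C_mem_S2 _) (mul_mem hX1 hX1)) (mul_mem (C_mem_S2 _) hX1))
      (C_mem_S2 _)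
  set g₁₀ : MvPolynomial (Fin 2) R := Q * X 0 with hg₁₀
  set g₀₁ : MvPolynomial (Fin 2) R := P * X 1 with hg₀₁
  set ν : Fin 2 →₀ ℕ := Finsupp.single 0 1 + Finsupp.single 1 1 with hν
  have hmon : (monomial ν τ : MvPolynomial (Fin 2) R) = C τ * X 0 * X 1 := by
    rw [hν, monomial_add_single, ← C_mul_X_pow_eq_monomial, pow_one, pow_one]
  refine ⟨?_, ?_⟩
  · intro p
    obtain ⟨t, rfl⟩ := hτ
    set D := MvPolynomial.mkDerivation R
          (![C l4 * X 0 ^ 4 + C l2 * X 0 ^ 2 + C (t : R) * X 0 + C l0,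
            C s4 * X 1 ^ 4 + C s2 * X 1 ^ 2 + C (t : R) * X 1 + C s0] :
            Fin 2 → MvPolynomial (Fin 2) R) with hD
    have hDξ : D (X 0) = 1 * (P + C (t : R) * X 0) := by
      rw [hD, mkDerivation_X, hP]
      simp only [Matrix.cons_val_zero]
      ring
    have hDη : D (X 1) = 1 * (Q + C (t : R) * X 1) := by
      rw [hD, mkDerivation_X, hQ]
      simp only [Matrix.cons_val_one, Matrix.cons_val_zero]
      ring
    rw [← Algebra.adjoin_range_eq_range_aeval]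
    have hgen : Q * X 0 + P * X 1 + C (t : R) * (X 0 * X 1) ∈ Set.range
        (![X 0 ^ 2, X 1 ^ 2, Q * X 0 + P * X 1 + C (t : R) * X 0 * X 1] :
          Fin 3 → MvPolynomial (Fin 2) R) := ⟨2, by simp only [Matrix.cons_val_two, Matrix.tail_cons, Matrix.head_cons]; ring⟩
    constructor
    · intro h
      obtain ⟨A, hA, B, hB, C', hC, E, hE, rfl⟩ := decomp p
      exact ker_deriv_mem (α := 1) (β := 1) (w := 1) (one_mem _) (one_mem _) hPm hQm
        (fun z hz => by rwa [mul_one] at hz) (fun z hz => by rwa [mul_one] at hz)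
        (fun z hz => by rwa [one_mul] at hz) (one_mul _).symm (one_mul _).symm hDξ hDη hA hB hC hE h
        _ ⟨0, rfl⟩ ⟨1, rfl⟩ hgen
    · refine D_adjoin D _ ?_ p
      rintro z ⟨i, rfl⟩
      fin_cases i
      · exact D_S2 D hX0
      · exact D_S2 D hX1
      · have := D_gen hPm hQm hDξ hDη
        convert this using 2
        simp only [Fin.reduceFinMk, Matrix.cons_val_two, Matrix.tail_cons, Matrix.head_cons]
        ring
  · set q₀ : MvPolynomial (Fin 2) R := C (τ ^ 2) * X 0 * X 1 +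
        (C (s4 ^ 2) * X 1 ^ 4 + C (s2 ^ 2) * X 1 ^ 2 + C (s0 ^ 2)) * X 0 +
        (C (l4 ^ 2) * X 0 ^ 4 + C (l2 ^ 2) * X 0 ^ 2 + C (l0 ^ 2)) * X 1 with hq₀
    have h10 : HasPar 1 0 g₁₀ :=
      HasPar.congr (HasPar.mul (HasPar.of_mem_S2 hQm) HasPar.X0) (by decide) (by decide)
    have h01 : HasPar 0 1 g₀₁ :=
      HasPar.congr (HasPar.mul (HasPar.of_mem_S2 hPm) HasPar.X1) (by decide) (by decide)
    have hsq : ∀ x y : MvPolynomial (Fin 2) R, (x + y) ^ 2 = x ^ 2 + y ^ 2 :=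
      fun x y => CharTwo.add_sq x y
    have hrel : (g₁₀ + g₀₁ + monomial ν τ) ^ 2 + expand 2 q₀ = 0 := by
      have key : (g₁₀ + g₀₁ + monomial ν τ) ^ 2 = expand 2 q₀ := by
        rw [hmon, hg₁₀, hg₀₁, hq₀, hP, hQ]
        simp only [hsq, mul_pow, map_add, map_mul, map_pow, expand_C, expand_X]
        ring
      rw [key]
      exact CharTwo.add_self_eq_zero _
    have hker := ker_eq_span (g₁₀ + g₀₁ + monomial ν τ) q₀ hrel
      (indep g₁₀ g₀₁ h10 h01 ν (by simp [hν]) (by simp [hν]) τ hτ)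
    have e1 : (phi (g₁₀ + g₀₁ + monomial ν τ)) =
        MvPolynomial.aeval (R := R) (S₁ := MvPolynomial (Fin 2) R)
          ![X 0 ^ 2, X 1 ^ 2, Q * X 0 + P * X 1 + C τ * X 0 * X 1] := by
      rw [phi, hmon]
    have e2 : (X 2 ^ 2 + rename Fin.castSucc q₀ : MvPolynomial (Fin 3) R) =
        X 2 ^ 2 + C (τ ^ 2) * X 0 * X 1 +
        (C (s4 ^ 2) * X 1 ^ 4 + C (s2 ^ 2) * X 1 ^ 2 + C (s0 ^ 2)) * X 0 +
        (C (l4 ^ 2) * X 0 ^ 4 + C (l2 ^ 2) * X 0 ^ 2 + C (l0 ^ 2)) * X 1 := by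
      rw [hq₀]
      simp only [map_add, map_mul, map_pow, rename_C, rename_X]
      have c0 : (Fin.castSucc (0 : Fin 2) : Fin 3) = 0 := rfl
      have c1 : (Fin.castSucc (1 : Fin 2) : Fin 3) = 1 := rfl
      rw [c0, c1]
      ring
    rw [e1, e2] at hker
    exact hker

end Groth.Agent.S13122
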