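import Groth.Statements.S13124
import Mathlib
-- import your own Groth.Agent.* helpers here

set_option autoImplicit false
universe u v w
open KumFam

namespace Groth.Agent.S13124

namespace Aux
open TensorProduct

section
variable {k : Type u} [CommRing k] {A : Type v} [CommRing A] [Bialgebra k A] [Module.Flat k A]
  {R : Type w} [CommRing R] [Algebra k R] [IsDomain R]

omit [IsDomain R] [Module.Flat k A] in
lemma mulLeft_rTensor (b : R) (y : R ⊗[k] A) :
    (LinearMap.mulLeft k b).rTensor A y = (b ⊗ₜ[k] (1 : A)) * y := by
  induction y using TensorProduct.induction_on with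
  | zero => simp
  | tmul r a => simp [Algebra.TensorProduct.tmul_mul_tmul]
  | add x y hx hy => rw [map_add, mul_add, hx, hy]

lemma eq_zero_of_mul (b : R) (hb : b ≠ 0) (y : R ⊗[k] A)
    (h : (b ⊗ₜ[k] (1 : A)) * y = 0) : y = 0 := by
  have hinj : Function.Injective (LinearMap.mulLeft k b) := by
    intro r s hrs
    exact mul_left_cancel₀ hb hrs
  have := Module.Flat.rTensor_preserves_injective_linearMap (M := A) _ hinj
  apply this
  rw [mulLeft_rTensor, h, map_zero]

variable [IsIntegrallyClosed R] [HopfRep.Comod k A R] [GLin.IsCoactAlg k A R]

theorem main : IsIntegrallyClosed (GLin.invariants k A R) := by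
  rw [isIntegrallyClosed_iff (FractionRing (GLin.invariants k A R))]
  intro x hx
  obtain ⟨a, b, hb, hab⟩ := IsFractionRing.div_surjective (A := GLin.invariants k A R) x
  have hinj : Function.Injective ((algebraMap R (FractionRing R)).comp
      (GLin.invariants k A R).val.toRingHom) :=
    (IsFractionRing.injective R (FractionRing R)).comp Subtype.val_injective
  let φ : FractionRing (GLin.invariants k A R) →+* FractionRing R := IsFractionRing.lift hinj
  have hφ : ∀ s : GLin.invariants k A R,
      φ (algebraMap _ _ s) = algebraMap R (FractionRing R) (s : R) :=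
    fun s => IsFractionRing.lift_algebraMap hinj s
  have hint : IsIntegral R (φ x) := by
    refine IsIntegral.map_of_comp_eq (GLin.invariants k A R).val.toRingHom φ ?_ hx
    ext s
    exact (hφ s).symm
  obtain ⟨z, hz⟩ := (isIntegrallyClosed_iff (FractionRing R)).mp inferInstance hint
  have hbne : algebraMap (GLin.invariants k A R) (FractionRing (GLin.invariants k A R)) b ≠ 0 :=
    IsFractionRing.to_map_ne_zero_of_mem_nonZeroDivisors hb
  have hxb : x * algebraMap _ _ b = algebraMap _ _ a := by
    rw [← hab, div_mul_cancel₀ _ hbne]
  have hzb : z * (b : R) = (a : R) := by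
    apply IsFractionRing.injective R (FractionRing R)
    rw [map_mul, hz, ← hφ b, ← hφ a, ← map_mul, hxb]
  have hb0 : (b : R) ≠ 0 := by
    intro h
    apply hbne
    have : b = 0 := Subtype.ext h
    rw [this, map_zero]
  have hzinv : z ∈ GLin.invariants k A R := by
    show HopfRep.Comod.coact (k := k) (A := A) z = z ⊗ₜ[k] (1 : A)
    rw [← sub_eq_zero]
    apply eq_zero_of_mul (b : R) hb0
    have ha : HopfRep.Comod.coact (k := k) (A := A) (a : R) = (a : R) ⊗ₜ[k] (1 : A) := a.2
    have hbi : HopfRep.Comod.coact (k := k) (A := A) (b : R) = (b : R) ⊗ₜ[k] (1 : A) := b.2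
    have h1 : HopfRep.Comod.coact (k := k) (A := A) (z * (b : R)) =
        HopfRep.Comod.coact (k := k) (A := A) z * ((b : R) ⊗ₜ[k] (1 : A)) := by
      rw [GLin.IsCoactAlg.coact_mul, hbi]
    rw [hzb, ha, ← hzb] at h1
    rw [mul_sub, mul_comm, ← h1, Algebra.TensorProduct.tmul_mul_tmul, mul_one, mul_comm (b : R) z,
      sub_self]
  refine ⟨⟨z, hzinv⟩, ?_⟩
  have h2 : (⟨z, hzinv⟩ : GLin.invariants k A R) * b = a := Subtype.ext hzb
  have h3 : algebraMap _ (FractionRing (GLin.invariants k A R)) (⟨z, hzinv⟩ : GLin.invariants k A R) *
      algebraMap _ _ b = x * algebraMap _ _ b := by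
    rw [← map_mul, h2, hxb]
  exact mul_right_cancel₀ hbne h3

end
end Aux

/-- Let k be a commutative ring, A a commutative k-bialgebra that is flat over k, and R a commutative
k-algebra which is an integrally closed domain, with a coaction R → R ⊗ A that is an algebra
homomorphism. Then the ring of invariants (the elements f with coaction f ⊗ 1) is an integrally
closed domain. (The published statement is for a finite group scheme acting on a normal scheme whose
quotient is, locally, the spectrum of the ring of invariants; this row is the affine integral case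
and allows any commutative bialgebra flat over k, flatness being automatic over a field.) -/
theorem result (k : Type u) [CommRing k]
    (A : Type v) [CommRing A] [Bialgebra k A] [Module.Flat k A]
    (R : Type w) [CommRing R] [Algebra k R] [IsDomain R] [IsIntegrallyClosed R]
    [HopfRep.Comod k A R] [GLin.IsCoactAlg k A R] :
    IsIntegrallyClosed (GLin.invariants k A R) := by
  exact Aux.main

end Groth.Agent.S13124
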