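import Groth.Statements.S13125
import Mathlib

set_option autoImplicit false
universe u v
open KumFam

namespace Groth.Agent.S13125

/-- Let A be a commutative ring graded by an additive monoid ι (an abelian group in the published
statement) through additive subgroups 𝒜 i, and I an ideal of A. Then I is a homogeneous ideal if and
only if A/I carries a structure of ι-graded ring ℬ for which the quotient map sends 𝒜 i into ℬ i for
all i. -/
theorem result (ι : Type u) [DecidableEq ι] [AddMonoid ι]
    (A : Type v) [CommRing A] (𝒜 : ι → AddSubgroup A) [GradedRing 𝒜] (I : Ideal A) :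
    I.IsHomogeneous 𝒜 ↔
      ∃ ℬ : ι → AddSubgroup (A ⧸ I), Nonempty (GradedRing ℬ) ∧
        ∀ i : ι, (𝒜 i).map (Ideal.Quotient.mk I : A →+ A ⧸ I) ≤ ℬ i := by
  classical
  constructor
  · intro hI
    let ℬ : ι → AddSubgroup (A ⧸ I) := fun i => (𝒜 i).map (Ideal.Quotient.mk I : A →+ A ⧸ I)
    refine ⟨ℬ, ⟨?_⟩, fun i => le_rfl⟩
    let f : ∀ i, (𝒜 i) →+ (ℬ i) := fun i =>
      (((Ideal.Quotient.mk I : A →+ A ⧸ I).comp (𝒜 i).subtype).codRestrict (ℬ i)
        (fun x => ⟨x, x.2, rfl⟩))
    have hf : ∀ i (x : 𝒜 i), ((f i x : ℬ i) : A ⧸ I) = Ideal.Quotient.mk I (x : A) := fun i x => rfl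
    let φ : A →+ DirectSum ι (fun i => ℬ i) :=
      (DirectSum.map f).comp (DirectSum.decomposeAddEquiv 𝒜).toAddMonoidHom
    have hφ : ∀ a, φ a = DirectSum.map f (DirectSum.decompose 𝒜 a) := fun a => rfl
    have hφI : ∀ a ∈ I, φ a = 0 := by
      intro a ha
      rw [hφ]
      apply DFinsupp.ext
      intro i
      rw [DirectSum.map_apply]
      apply Subtype.ext
      rw [hf]
      exact Ideal.Quotient.eq_zero_iff_mem.mpr (hI i ha)
    have hφhom : ∀ (i : ι) (a : A) (ha : a ∈ 𝒜 i),
        φ a = DirectSum.of (fun i => ℬ i) i ⟨Ideal.Quotient.mk I a, ⟨a, ha, rfl⟩⟩ := by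
      intro i a ha
      rw [hφ, DirectSum.decompose_of_mem 𝒜 ha, DirectSum.map_of]
      rfl
    have hcoe : ∀ a : A, DirectSum.coeAddMonoidHom ℬ (φ a) = Ideal.Quotient.mk I a := by
      intro a
      induction a using DirectSum.Decomposition.inductionOn 𝒜 with
      | zero => simp
      | homogeneous m =>
        rw [hφhom _ _ m.2, DirectSum.coeAddMonoidHom_of]
      | add m m' hm hm' => rw [map_add, map_add, hm, hm', map_add]
    let ψ : A ⧸ I → DirectSum ι (fun i => ℬ i) :=
      fun x => φ (Classical.choose (Ideal.Quotient.mk_surjective x))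
    have hψ : ∀ a : A, ψ (Ideal.Quotient.mk I a) = φ a := by
      intro a
      have h1 := Classical.choose_spec (Ideal.Quotient.mk_surjective (Ideal.Quotient.mk I a))
      have h2 : Classical.choose (Ideal.Quotient.mk_surjective (Ideal.Quotient.mk I a)) - a ∈ I :=
        Ideal.Quotient.eq.mp h1
      have h3 := hφI _ h2
      rw [map_sub, sub_eq_zero] at h3
      exact h3
    exact
      { one_mem := ⟨1, SetLike.GradedOne.one_mem, map_one (Ideal.Quotient.mk I)⟩
        mul_mem := by
          rintro i j _ _ ⟨a, ha, rfl⟩ ⟨b, hb, rfl⟩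
          exact ⟨a * b, SetLike.GradedMul.mul_mem ha hb, map_mul (Ideal.Quotient.mk I) a b⟩
        decompose' := ψ
        left_inv := by
          intro x
          obtain ⟨a, rfl⟩ := Ideal.Quotient.mk_surjective x
          rw [hψ, hcoe]
        right_inv := by
          intro y
          induction y using DirectSum.induction_on with
          | zero =>
            rw [map_zero]
            have := hψ 0
            rw [map_zero, map_zero] at this
            exact this
          | of i y =>
            obtain ⟨_, a, ha, rfl⟩ := y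
            rw [DirectSum.coeAddMonoidHom_of]
            show ψ (Ideal.Quotient.mk I a) = _
            rw [hψ, hφhom i a ha]
            rfl
          | add x y hx hy =>
            obtain ⟨a, ha⟩ := Ideal.Quotient.mk_surjective (DirectSum.coeAddMonoidHom ℬ x)
            obtain ⟨b, hb⟩ := Ideal.Quotient.mk_surjective (DirectSum.coeAddMonoidHom ℬ y)
            have hxa : ψ (Ideal.Quotient.mk I a) = x := by rw [ha]; exact hx
            have hyb : ψ (Ideal.Quotient.mk I b) = y := by rw [hb]; exact hy
            rw [map_add, ← ha, ← hb, ← map_add, hψ, map_add, ← hψ a, ← hψ b, hxa, hyb] }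
  · rintro ⟨ℬ, ⟨hℬ⟩, hle⟩
    have key : ∀ (i : ι) (r : A), ((DirectSum.decompose ℬ (Ideal.Quotient.mk I r) i : ℬ i) : A ⧸ I) =
        Ideal.Quotient.mk I ((DirectSum.decompose 𝒜 r i : 𝒜 i) : A) := by
      intro i r
      induction r using DirectSum.Decomposition.inductionOn 𝒜 with
      | zero => simp
      | @homogeneous j m =>
        have hm : Ideal.Quotient.mk I (m : A) ∈ ℬ j := hle j ⟨m, m.2, rfl⟩
        by_cases hij : j = i
        · subst hij
          rw [DirectSum.decompose_of_mem_same ℬ hm, DirectSum.decompose_of_mem_same 𝒜 m.2]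
        · rw [DirectSum.decompose_of_mem_ne ℬ hm hij, DirectSum.decompose_of_mem_ne 𝒜 m.2 hij,
            map_zero]
      | add m m' hm hm' =>
        rw [map_add, DirectSum.decompose_add, DirectSum.decompose_add, DirectSum.add_apply,
          DirectSum.add_apply, AddSubgroup.coe_add, AddSubgroup.coe_add, hm, hm', map_add]
    intro i r hr
    have h0 : Ideal.Quotient.mk I r = 0 := Ideal.Quotient.eq_zero_iff_mem.mpr hr
    have := key i r
    rw [h0, DirectSum.decompose_zero] at this
    apply Ideal.Quotient.eq_zero_iff_mem.mp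
    rw [← this]
    rfl

end Groth.Agent.S13125
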