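import Groth.Statements.S13126
import Mathlib

set_option autoImplicit false
universe u
open KumFam

namespace Groth.Agent.S13126

open Polynomial in
/-- Let R be a commutative ring, n a natural number which is a unit in R, and ζ ∈ R with ζ^n = 1 and 1 −
ζ^i a unit for 0 < i < n (a primitive n-th root of unity in the fibrewise sense: the powers ζ^0, …,
ζ^(n−1) are roots of X^n − 1 with pairwise unit differences; over an integral domain in which n is a
unit this is the same as ζ having multiplicative order n). Then the R-algebra homomorphism R[X] →
(Fin n → R) sending a polynomial to its values at ζ^0, …, ζ^(n−1) is surjective and its kernel is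
the ideal generated by X^n − 1; hence R[X]/(X^n − 1) ≅ R^n as R-algebras, i.e. the scheme of n-th
roots of unity over Spec R is the disjoint union of n copies of Spec R. (The published statement
asks that R contain a primitive n-th root of unity without defining the term; its Chinese-remainder
argument uses that the ideals (X − ζ^i), i < n, are pairwise comaximal, which is the unit-difference
condition taken as the hypothesis here, whereas under the reading 'ζ has multiplicative order n'
alone the surjectivity fails over a product of two fields. The published statement also asserts that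
the isomorphism respects the group-scheme structures of the n-th roots of unity and of the constant
group ℤ/n; this row does not state that.) -/
theorem result (R : Type u) [CommRing R]
    (n : ℕ) (hn : IsUnit (n : R)) (ζ : R) (hζ : ζ ^ n = 1)
    (hprim : ∀ i : ℕ, 0 < i → i < n → IsUnit (1 - ζ ^ i)) :
    Function.Surjective (AlgHom.pi (fun i : Fin n => Polynomial.aeval (R := R) (ζ ^ (i : ℕ)))) ∧
      RingHom.ker (AlgHom.pi (fun i : Fin n => Polynomial.aeval (R := R) (ζ ^ (i : ℕ)))) =
        Ideal.span {(X ^ n - 1 : R[X])} := by
  classical
  rcases Nat.eq_zero_or_pos n with rfl | hnpos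
  · haveI : Subsingleton R := by
      have h0 : IsUnit (0 : R) := by simpa using hn
      exact subsingleton_of_zero_eq_one (isUnit_zero_iff.mp h0)
    constructor
    · intro y
      exact ⟨0, Subsingleton.elim _ _⟩
    · ext p
      have hp : p = 0 := Subsingleton.elim _ _
      subst hp
      simp
  · have hζu : IsUnit ζ := IsUnit.of_pow_eq_one hζ hnpos.ne'
    have aux : ∀ i j : ℕ, j < i → i < n → IsUnit (ζ ^ i - ζ ^ j) := by
      intro i j hji hin
      have : ζ ^ i - ζ ^ j = -(ζ ^ j * (1 - ζ ^ (i - j))) := by
        rw [mul_sub, mul_one, ← pow_add, Nat.add_sub_cancel' hji.le]; ring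
      rw [this]
      exact ((hζu.pow j).mul (hprim (i - j) (by omega) (by omega))).neg
    have hdiff : ∀ i j : Fin n, i ≠ j → IsUnit (ζ ^ (i:ℕ) - ζ ^ (j:ℕ)) := by
      intro i j hij
      rcases lt_or_gt_of_ne (fun h => hij (Fin.ext h)) with h | h
      · have := aux j i h j.2
        rw [← neg_sub]; exact this.neg
      · exact aux i j h i.2
    have hcop : Pairwise (Function.onFun IsCoprime fun i : Fin n => (X - C (ζ ^ (i:ℕ)) : R[X])) :=
      fun i j hij => Polynomial.isCoprime_X_sub_C_of_isUnit_sub (hdiff i j hij)
    have hev : ∀ (p : R[X]) (i : Fin n),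
        AlgHom.pi (fun i : Fin n => Polynomial.aeval (R := R) (ζ ^ (i : ℕ))) p i =
          p.eval (ζ ^ (i:ℕ)) := fun p i => by
      rw [AlgHom.pi_apply, Polynomial.coe_aeval_eq_eval]
    have hmonicP : (∏ i : Fin n, (X - C (ζ ^ (i:ℕ)) : R[X])).Monic :=
      Polynomial.monic_prod_of_monic _ _ (fun i _ => Polynomial.monic_X_sub_C _)
    have hdvd_of : ∀ p : R[X], (∀ i : Fin n, p.eval (ζ ^ (i:ℕ)) = 0) →
        (∏ i : Fin n, (X - C (ζ ^ (i:ℕ)) : R[X])) ∣ p := by
      intro p hp
      apply Finset.prod_dvd_of_coprime
      · intro i _ j _ hij
        exact hcop hij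
      · intro i _
        rw [Polynomial.dvd_iff_isRoot]
        exact hp i
    have hXn : ∀ i : Fin n, (X ^ n - 1 : R[X]).eval (ζ ^ (i:ℕ)) = 0 := by
      intro i
      rw [Polynomial.eval_sub, Polynomial.eval_pow, Polynomial.eval_X, Polynomial.eval_one,
        ← pow_mul, mul_comm, pow_mul, hζ, one_pow, sub_self]
    have hPeq : (X ^ n - 1 : R[X]) = ∏ i : Fin n, (X - C (ζ ^ (i:ℕ)) : R[X]) := by
      rcases subsingleton_or_nontrivial R with hR | hR
      · exact Subsingleton.elim _ _
      · have hm : (X ^ n - 1 : R[X]).Monic := by
          have := Polynomial.monic_X_pow_sub_C (1 : R) hnpos.ne'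
          rwa [map_one] at this
        apply Polynomial.eq_of_monic_of_dvd_of_natDegree_le hmonicP hm (hdvd_of _ hXn)
        rw [Polynomial.natDegree_finsetProd_X_sub_C_eq_card, Finset.card_univ, Fintype.card_fin]
        have := Polynomial.natDegree_X_pow_sub_C (R := R) (n := n) (r := 1)
        rw [map_one] at this
        rw [this]
    constructor
    · intro y
      obtain ⟨r, hr⟩ := Ideal.exists_forall_sub_mem_ideal
        (I := fun i : Fin n => Ideal.span {(X - C (ζ ^ (i:ℕ)) : R[X])})
        (by
          intro i j hij
          exact (Ideal.isCoprime_span_singleton_iff _ _).mpr (hcop hij))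
        (fun i => C (y i))
      refine ⟨r, funext fun i => ?_⟩
      rw [hev]
      have := hr i
      rw [Ideal.mem_span_singleton, Polynomial.dvd_iff_isRoot, Polynomial.IsRoot.def,
        Polynomial.eval_sub, Polynomial.eval_C, sub_eq_zero] at this
      exact this
    · ext p
      rw [RingHom.mem_ker, Ideal.mem_span_singleton, hPeq]
      constructor
      · intro hp
        apply hdvd_of
        intro i
        rw [← hev, hp]
        rfl
      · intro hp
        funext i
        rw [hev]
        obtain ⟨q, rfl⟩ := hp
        rw [Polynomial.eval_mul, ← hPeq, hXn, zero_mul]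
        rfl

end Groth.Agent.S13126
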