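import Groth.Statements.S13130
import Mathlib

set_option autoImplicit false
universe u v
open KumFam

namespace Groth.Agent.S13130

/-- Let R be a nontrivial commutative ring and M a commutative group, with group algebra R[M], the
coordinate ring of the diagonalizable group scheme D(M) over Spec R. Then D(M) is integral over Spec
R, i.e. R[M] is an integral R-algebra, if and only if M is a torsion group. (The published statement
is over an arbitrary base scheme; the question is local and this row is the affine form, with R
nontrivial so that the elements of M are R-linearly independent.) -/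
theorem result (R : Type u) [CommRing R] [Nontrivial R]
    (M : Type v) [CommGroup M] :
    Algebra.IsIntegral R (MonoidAlgebra R M) ↔ IsMulTorsion M := by
  classical
  constructor
  · intro hint m
    by_contra hm
    have hinj := injective_pow_iff_not_isOfFinOrder.mpr hm
    obtain ⟨p, hp, hpe⟩ := hint.isIntegral (MonoidAlgebra.of R M m)
    rw [← Polynomial.aeval_def, Polynomial.aeval_eq_sum_range] at hpe
    have h1 := congrArg (fun f => f.coeff (m ^ p.natDegree)) hpe
    simp only [MonoidAlgebra.of_apply, MonoidAlgebra.single_pow, one_pow, MonoidAlgebra.coeff_sum,
      MonoidAlgebra.coeff_smul, MonoidAlgebra.coeff_single, Finsupp.coe_finset_sum,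
      Finset.sum_apply, Finsupp.smul_apply, Finsupp.single_apply, MonoidAlgebra.coeff_zero,
      Finsupp.zero_apply, Finsupp.coe_zero, Pi.zero_apply] at h1
    have h2 : ∀ k, (m ^ k = m ^ p.natDegree) ↔ k = p.natDegree :=
      fun k => ⟨fun h => hinj h, fun h => by rw [h]⟩
    simp only [h2, smul_eq_mul, mul_ite, mul_one, mul_zero, Finset.sum_ite_eq', Finset.mem_range,
      Nat.lt_succ_self, if_true] at h1
    rw [Polynomial.coeff_natDegree, hp.leadingCoeff] at h1
    exact one_ne_zero h1
  · intro hM
    refine ⟨fun x => ?_⟩
    induction x using MonoidAlgebra.induction_on with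
    | of m =>
      obtain ⟨n, hn0, hn⟩ := (isOfFinOrder_iff_pow_eq_one.mp (hM m))
      apply IsIntegral.of_pow hn0
      rw [← map_pow, hn, map_one]
      exact isIntegral_one
    | add x y hx hy => exact hx.add hy
    | smul r x hx => exact hx.smul r

end Groth.Agent.S13130
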