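import Groth.Statements.S13133
import Mathlib
import Groth.Agent.Lib.Helper1.RegLift

set_option autoImplicit false
universe u v
open CAlg

namespace Groth.Agent.S13133

/-- Let A' be an Artinian local ring, I a proper ideal of A', S' a flat A'-algebra and f'_1, …, f'_n
elements of S' with n ≥ 1. A family f'_1, …, f'_n in S' is a regular sequence exactly when its
reduction modulo I·S' is a regular sequence of S'/IS'. (Regular sequences are defined in the
published text over Noetherian rings; this row does not assume S' Noetherian, which the argument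
does not use. The published statement is for a surjection of local Artinian algebras with a fixed
residue field over a ring of Witt vectors; only the Artinian local base and the proper ideal are
used, which is the form taken here.) -/
theorem result
    {A' : Type u} [CommRing A'] [IsArtinianRing A'] [IsLocalRing A'] (I : Ideal A') (hI : I ≠ ⊤)
    {S' : Type v} [CommRing S'] [Algebra A' S'] [Module.Flat A' S'] {n : ℕ} (hn : 1 ≤ n)
    (f' : Fin n → S') :
    RingTheory.Sequence.IsRegular S' (List.ofFn f') ↔
      RingTheory.Sequence.IsRegular (S' ⧸ I.map (algebraMap A' S'))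
        (List.ofFn fun i => Ideal.Quotient.mk (I.map (algebraMap A' S')) (f' i)) := by
  classical
  have hnil : IsNilpotent (IsLocalRing.maximalIdeal A') := by
    have h1 : IsNilpotent (Ideal.jacobson (⊥ : Ideal A')) :=
      IsArtinianRing.isNilpotent_jacobson_bot
    rwa [IsLocalRing.jacobson_eq_maximalIdeal ⊥ bot_ne_top] at h1
  have hIm : I ≤ IsLocalRing.maximalIdeal A' := IsLocalRing.le_maximalIdeal hI
  have hInil : IsNilpotent I := by
    obtain ⟨j, hj⟩ := hnil
    refine ⟨j, le_bot_iff.mp ?_⟩
    have := Ideal.pow_right_mono hIm j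
    rwa [hj] at this
  have hmap : (List.ofFn fun i => Ideal.Quotient.mk (I.map (algebraMap A' S')) (f' i)) =
      (List.ofFn f').map (algebraMap S' (S' ⧸ I.map (algebraMap A' S'))) := by
    rw [List.map_ofFn]; rfl
  rw [hmap]
  generalize List.ofFn f' = rs
  obtain ⟨hT, _⟩ := Groth.Agent.Helper1.RegLift.main (S := S') hnil I hI rs S'
  have hW : RingTheory.Sequence.IsWeaklyRegular (S' ⧸ I.map (algebraMap A' S'))
      (rs.map (algebraMap S' (S' ⧸ I.map (algebraMap A' S')))) ↔
      RingTheory.Sequence.IsWeaklyRegular S' rs := by
    rw [RingTheory.Sequence.isWeaklyRegular_map_algebraMap_iff]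
    have e : (S' ⧸ (I.map (algebraMap A' S') • (⊤ : Submodule S' S'))) ≃ₗ[S']
        (S' ⧸ I.map (algebraMap A' S')) :=
      Submodule.quotEquivOfEq _ _ (by rw [smul_eq_mul, Ideal.mul_top])
    rw [← e.isWeaklyRegular_congr rs]
    exact hT
  have hTop : ((⊤ : Submodule (S' ⧸ I.map (algebraMap A' S')) (S' ⧸ I.map (algebraMap A' S'))) =
      Ideal.ofList (rs.map (algebraMap S' (S' ⧸ I.map (algebraMap A' S')))) • ⊤) ↔
      ((⊤ : Submodule S' S') = Ideal.ofList rs • ⊤) := by
    rw [smul_eq_mul, Ideal.mul_top, smul_eq_mul, Ideal.mul_top, ← Ideal.map_ofList]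
    constructor
    · intro h
      have h1 : Ideal.ofList rs ⊔ I.map (algebraMap A' S') = ⊤ := by
        have := congrArg (Ideal.comap (algebraMap S' (S' ⧸ I.map (algebraMap A' S')))) h
        rw [Ideal.comap_top, Ideal.Quotient.algebraMap_eq,
          Ideal.comap_map_of_surjective _ Ideal.Quotient.mk_surjective,
          ← RingHom.ker_eq_comap_bot, Ideal.mk_ker] at this
        exact this.symm
      have h2 : (⊤ : Submodule A' S') ≤ (Ideal.ofList rs).restrictScalars A' ⊔ I • ⊤ := by
        rw [Ideal.smul_top_eq_map]
        intro x _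
        have : x ∈ Ideal.ofList rs ⊔ I.map (algebraMap A' S') := by rw [h1]; trivial
        obtain ⟨y, hy, z, hz, rfl⟩ := Submodule.mem_sup.mp this
        exact Submodule.add_mem_sup hy hz
      have h3 := Groth.Agent.Helper1.NilNak.le_of_le_sup_smul I hInil _ _ h2
      symm
      rw [eq_top_iff]
      intro x _
      exact h3 (Submodule.mem_top : x ∈ ⊤)
    · intro h
      rw [← h, Ideal.map_top]
  rw [RingTheory.Sequence.isRegular_iff, RingTheory.Sequence.isRegular_iff, hW, Ne, Ne, hTop]

end Groth.Agent.S13133
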