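import Groth.Statements.S13134
import Mathlib
import Groth.Agent.Lib.Helper1.NilNak

set_option autoImplicit false
universe u v
open CAlg

namespace Groth.Agent.S13134

/-- Let A' be an Artinian local ring, I a proper ideal, A = A'/I and f_1, …, f_m ∈ A[x_1, …, x_n]. Every
flat A'-algebra B' equipped with a surjection π onto A[x]/(f_1, …, f_m) with kernel I·B', compatible
with A' → A, is a quotient of A'[x_1, …, x_n] by the ideal generated by some lifts f'_1, …, f'_m of
the f_i, compatibly with π and with reduction of polynomials modulo I. (The published statement is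
for a surjection of local Artinian algebras with a fixed residue field over a ring of Witt vectors;
only the Artinian local base and the proper ideal are used, which is the form taken here.) -/
theorem result
    {A' : Type u} [CommRing A'] [IsArtinianRing A'] [IsLocalRing A'] (I : Ideal A') (hI : I ≠ ⊤)
    {n m : ℕ} (f : Fin m → MvPolynomial (Fin n) (A' ⧸ I))
    {B' : Type v} [CommRing B'] [Algebra A' B'] [Module.Flat A' B']
    (π : B' →+* MvPolynomial (Fin n) (A' ⧸ I) ⧸ Ideal.span (Set.range f))
    (hπ : Function.Surjective π) (hker : RingHom.ker π = I.map (algebraMap A' B'))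
    (hcomp : π.comp (algebraMap A' B') =
      ((Ideal.Quotient.mk (Ideal.span (Set.range f))).comp MvPolynomial.C).comp (Ideal.Quotient.mk I)) :
    ∃ (f' : Fin m → MvPolynomial (Fin n) A') (ψ : MvPolynomial (Fin n) A' →ₐ[A'] B'),
      (∀ i, MvPolynomial.map (Ideal.Quotient.mk I) (f' i) = f i) ∧
      Function.Surjective ψ ∧ RingHom.ker ψ.toRingHom = Ideal.span (Set.range f') ∧
      ∀ q, π (ψ q) = Ideal.Quotient.mk (Ideal.span (Set.range f)) (MvPolynomial.map (Ideal.Quotient.mk I) q) := by
  classical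
  -- nilpotency of I
  have hIm : I ≤ IsLocalRing.maximalIdeal A' := IsLocalRing.le_maximalIdeal hI
  have hnil : IsNilpotent I := by
    have h1 : IsNilpotent (Ideal.jacobson (⊥ : Ideal A')) := IsArtinianRing.isNilpotent_jacobson_bot
    rw [IsLocalRing.jacobson_eq_maximalIdeal ⊥ bot_ne_top] at h1
    obtain ⟨j, hj⟩ := h1
    refine ⟨j, le_bot_iff.mp ?_⟩
    have := Ideal.pow_right_mono hIm j
    rwa [hj] at this
  set ρ : MvPolynomial (Fin n) A' →+* MvPolynomial (Fin n) (A' ⧸ I) :=
    MvPolynomial.map (Ideal.Quotient.mk I) with hρ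
  have hρs : Function.Surjective ρ := MvPolynomial.map_surjective _ Ideal.Quotient.mk_surjective
  have hρk : ∀ q, ρ q = 0 → q ∈ I • (⊤ : Submodule A' (MvPolynomial (Fin n) A')) := by
    intro q hq
    have h1 : q ∈ RingHom.ker ρ := hq
    rw [hρ, MvPolynomial.ker_map, Ideal.mk_ker] at h1
    rw [Ideal.smul_top_eq_map]
    exact h1
  have hρk' : ∀ q ∈ I • (⊤ : Submodule A' (MvPolynomial (Fin n) A')), ρ q = 0 := by
    intro q hq
    rw [Ideal.smul_top_eq_map] at hq
    have h1 : q ∈ RingHom.ker ρ := by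
      rw [hρ, MvPolynomial.ker_map, Ideal.mk_ker]; exact hq
    exact h1
  choose b hb using fun i : Fin n => hπ (Ideal.Quotient.mk _ (MvPolynomial.X i))
  set ψ : MvPolynomial (Fin n) A' →ₐ[A'] B' := MvPolynomial.aeval b with hψ
  have h4 : ∀ q, π (ψ q) = Ideal.Quotient.mk (Ideal.span (Set.range f)) (ρ q) := by
    have : π.comp (ψ : MvPolynomial (Fin n) A' →+* B') =
        (Ideal.Quotient.mk (Ideal.span (Set.range f))).comp ρ := by
      apply MvPolynomial.ringHom_ext
      · intro a
        have := congrArg (fun g => g a) hcomp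
        simpa [hψ, hρ] using this
      · intro i
        simp [hψ, hρ, hb]
    intro q
    exact congrArg (fun g => g q) this
  -- kernel of π as a submodule
  have hkerπ : ∀ x : B', π x = 0 → x ∈ I • (⊤ : Submodule A' B') := by
    intro x hx
    have : x ∈ RingHom.ker π := hx
    rw [hker] at this
    rw [Ideal.smul_top_eq_map]
    exact this
  -- surjectivity
  have hsurj : Function.Surjective ψ := by
    have h1 : (⊤ : Submodule A' B') ≤ LinearMap.range ψ.toLinearMap ⊔ I • ⊤ := by
      intro x _
      obtain ⟨p, hp⟩ := Ideal.Quotient.mk_surjective (π x)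
      obtain ⟨q, hq⟩ := hρs p
      have h2 : π (x - ψ q) = 0 := by
        rw [map_sub, h4, hq, hp, sub_self]
      have : x = ψ q + (x - ψ q) := by ring
      rw [this]
      exact Submodule.add_mem_sup ⟨q, rfl⟩ (hkerπ _ h2)
    have h2 := Groth.Agent.Helper1.NilNak.le_of_le_sup_smul I hnil _ _ h1
    intro x
    obtain ⟨q, hq⟩ := h2 (Submodule.mem_top : x ∈ ⊤)
    exact ⟨q, hq⟩
  -- K ∩ I P' = I K
  have hflat := LinearMap.ker_inf_smul_top_eq_smul_of_flat I ψ.toLinearMap hsurj
  -- lifts
  have hlift : ∀ g ∈ Ideal.span (Set.range f), ∃ q, ψ q = 0 ∧ ρ q = g := by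
    intro g hg
    obtain ⟨q₀, hq₀⟩ := hρs g
    have h1 : π (ψ q₀) = 0 := by
      rw [h4, hq₀]; exact Ideal.Quotient.eq_zero_iff_mem.mpr hg
    have h2 := hkerπ _ h1
    have h3 : (I • (⊤ : Submodule A' B')) =
        (I • (⊤ : Submodule A' (MvPolynomial (Fin n) A'))).map ψ.toLinearMap := by
      rw [Submodule.map_smul'', Submodule.map_top, LinearMap.range_eq_top.mpr hsurj]
    rw [h3] at h2
    obtain ⟨q₁, hq₁, hq₁'⟩ := h2
    refine ⟨q₀ - q₁, ?_, ?_⟩
    · rw [map_sub]
      have : ψ q₁ = ψ q₀ := hq₁'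
      rw [this, sub_self]
    · rw [map_sub, hρk' q₁ hq₁, sub_zero, hq₀]
  choose f' hf'1 hf'2 using fun i : Fin m => hlift (f i) (Ideal.subset_span ⟨i, rfl⟩)
  refine ⟨f', ψ, hf'2, hsurj, ?_, h4⟩
  apply le_antisymm
  · -- ker ≤ span
    have h1 : LinearMap.ker ψ.toLinearMap ≤
        (Ideal.span (Set.range f')).restrictScalars A' ⊔ I • LinearMap.ker ψ.toLinearMap := by
      intro q hq
      have hq0 : ψ q = 0 := hq
      have h2 : ρ q ∈ Ideal.span (Set.range f) := by
        rw [← Ideal.Quotient.eq_zero_iff_mem, ← h4, hq0, map_zero]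
      have h3 : Ideal.map ρ (Ideal.span (Set.range f')) = Ideal.span (Set.range f) := by
        rw [Ideal.map_span]
        congr 1
        ext x
        constructor
        · rintro ⟨_, ⟨i, rfl⟩, rfl⟩
          exact ⟨i, (hf'2 i).symm⟩
        · rintro ⟨i, rfl⟩
          exact ⟨f' i, ⟨i, rfl⟩, hf'2 i⟩
      rw [← h3] at h2
      obtain ⟨y, hy, hyq⟩ := (Ideal.mem_map_iff_of_surjective ρ hρs).mp h2
      have hyK : ψ y = 0 := by
        have : Ideal.span (Set.range f') ≤ RingHom.ker (ψ : MvPolynomial (Fin n) A' →+* B') := by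
          rw [Ideal.span_le]
          rintro _ ⟨i, rfl⟩
          exact hf'1 i
        exact this hy
      have h5 : q - y ∈ LinearMap.ker ψ.toLinearMap ⊓ I • ⊤ := by
        refine ⟨?_, hρk _ (by rw [map_sub, hyq, sub_self])⟩
        show ψ (q - y) = 0
        rw [map_sub, hq0, hyK, sub_self]
      rw [hflat] at h5
      have : q = y + (q - y) := by ring
      rw [this]
      exact Submodule.add_mem_sup hy h5
    have h2 := Groth.Agent.Helper1.NilNak.le_of_le_sup_smul I hnil _ _ h1
    intro q hq
    exact h2 hq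
  · rw [Ideal.span_le]
    rintro _ ⟨i, rfl⟩
    exact hf'1 i

end Groth.Agent.S13134
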