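import Groth.Statements.S13135
import Mathlib
import Groth.Agent.Lib.Helper1.RegLift

set_option autoImplicit false
universe u
open CAlg

namespace Groth.Agent.S13135

/-- Let A' be an Artinian local ring, I a proper ideal, A = A'/I and f_1, …, f_m a regular sequence in
A[x_1, …, x_n]. For every choice of lifts f'_1, …, f'_m in A'[x_1, …, x_n] the quotient A'[x]/(f'_1,
…, f'_m) is flat over A' (so it is a flat lifting of A[x]/(f_1, …, f_m)). (The published statement
is for a surjection of local Artinian algebras with a fixed residue field over a ring of Witt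
vectors; only the Artinian local base and the proper ideal are used, which is the form taken here.) -/
theorem result
    {A' : Type u} [CommRing A'] [IsArtinianRing A'] [IsLocalRing A'] (I : Ideal A') (hI : I ≠ ⊤)
    {n m : ℕ} (f : Fin m → MvPolynomial (Fin n) (A' ⧸ I))
    (hreg : RingTheory.Sequence.IsRegular (MvPolynomial (Fin n) (A' ⧸ I)) (List.ofFn f))
    (f' : Fin m → MvPolynomial (Fin n) A') (hf' : ∀ i, MvPolynomial.map (Ideal.Quotient.mk I) (f' i) = f i) :
    Module.Flat A' (MvPolynomial (Fin n) A' ⧸ Ideal.span (Set.range f')) := by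
  classical
  have hnil : IsNilpotent (IsLocalRing.maximalIdeal A') := by
    have h1 : IsNilpotent (Ideal.jacobson (⊥ : Ideal A')) :=
      IsArtinianRing.isNilpotent_jacobson_bot
    rwa [IsLocalRing.jacobson_eq_maximalIdeal ⊥ bot_ne_top] at h1
  set ρ : MvPolynomial (Fin n) A' →+* MvPolynomial (Fin n) (A' ⧸ I) :=
    MvPolynomial.map (Ideal.Quotient.mk I) with hρ
  have hρs : Function.Surjective ρ := MvPolynomial.map_surjective _ Ideal.Quotient.mk_surjective
  have hρk : RingHom.ker ρ = I.map (algebraMap A' (MvPolynomial (Fin n) A')) := by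
    rw [hρ, MvPolynomial.ker_map, Ideal.mk_ker]; rfl
  obtain ⟨hT, hF⟩ := Groth.Agent.Helper1.RegLift.main (S := MvPolynomial (Fin n) A') hnil I hI
    (List.ofFn f') (MvPolynomial (Fin n) A')
  have hofFn : List.ofFn f = (List.ofFn f').map ρ := by
    rw [List.map_ofFn]
    congr 1
    funext i
    exact (hf' i).symm
  have hW : RingTheory.Sequence.IsWeaklyRegular
      (MvPolynomial (Fin n) A' ⧸ (I.map (algebraMap A' (MvPolynomial (Fin n) A')) •
        (⊤ : Submodule (MvPolynomial (Fin n) A') (MvPolynomial (Fin n) A')))) (List.ofFn f') := by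
    let _ : Algebra (MvPolynomial (Fin n) A') (MvPolynomial (Fin n) (A' ⧸ I)) := ρ.toAlgebra
    have h1 := hreg.toIsWeaklyRegular
    rw [hofFn] at h1
    have h2 : RingTheory.Sequence.IsWeaklyRegular (MvPolynomial (Fin n) (A' ⧸ I)) (List.ofFn f') :=
      (RingTheory.Sequence.isWeaklyRegular_map_algebraMap_iff
        (S := MvPolynomial (Fin n) (A' ⧸ I)) (M := MvPolynomial (Fin n) (A' ⧸ I))
        (List.ofFn f')).mp h1
    let L : MvPolynomial (Fin n) A' →ₗ[MvPolynomial (Fin n) A'] MvPolynomial (Fin n) (A' ⧸ I) :=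
      Algebra.linearMap _ _
    have hL : Function.Surjective L := hρs
    have hk : (I.map (algebraMap A' (MvPolynomial (Fin n) A')) •
        (⊤ : Submodule (MvPolynomial (Fin n) A') (MvPolynomial (Fin n) A'))) = LinearMap.ker L := by
      rw [smul_eq_mul, Ideal.mul_top, ← hρk]
      ext x
      rfl
    have e := (Submodule.quotEquivOfEq _ _ hk).trans (L.quotKerEquivOfSurjective hL)
    exact (e.isWeaklyRegular_congr (List.ofFn f')).mpr h2
  have hflat := hF (hT.mp hW)
  have hspan : (Ideal.ofList (List.ofFn f') •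
      (⊤ : Submodule (MvPolynomial (Fin n) A') (MvPolynomial (Fin n) A'))) =
      Ideal.span (Set.range f') := by
    rw [smul_eq_mul, Ideal.mul_top]
    show Ideal.span {r | r ∈ List.ofFn f'} = _
    congr 1
    ext x
    rw [Set.mem_ofPred_eq, List.mem_ofFn']
  rw [hspan] at hflat
  exact hflat

end Groth.Agent.S13135
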