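import Groth.Statements.S13140
import Mathlib

set_option autoImplicit false
universe u v w
open GrpAlg

namespace Groth.Agent.S13140

/-- Let G be a finite group, R a commutative ring in which |G| is a unit, and M a module over the group
algebra R[G] whose underlying R-module is projective. Then M is a projective R[G]-module. -/
theorem result
    (R : Type u) [CommRing R] (G : Type v) [Group G] [Finite G] (hG : IsUnit ((Nat.card G : ℕ) : R))
    (M : Type w) [AddCommGroup M] [Module R M] [Module (MonoidAlgebra R G) M]
    [IsScalarTower R (MonoidAlgebra R G) M] [Module.Projective R M] :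
    Module.Projective (MonoidAlgebra R G) M := by
  classical
  haveI : Fintype G := Fintype.ofFinite G
  apply Module.Projective.of_lifting_property''
  intro f hf
  obtain ⟨s₀, hs₀⟩ := Module.projective_lifting_property (f.restrictScalars R)
    (LinearMap.id : M →ₗ[R] M) hf
  have hs : ∀ x, f (s₀ x) = x := fun x => LinearMap.congr_fun hs₀ x
  refine ⟨s₀.equivariantProjection G, ?_⟩
  apply LinearMap.ext
  intro m
  rw [LinearMap.comp_apply, LinearMap.equivariantProjection_apply, LinearMap.id_apply,
    LinearMap.map_smul_of_tower, map_sum]
  have hterm : ∀ g : G, f (s₀.conjugate g m) = m := by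
    intro g
    rw [LinearMap.conjugate_apply, map_smul, hs, ← mul_smul, MonoidAlgebra.single_mul_single,
      mul_one, inv_mul_cancel, ← MonoidAlgebra.one_def, one_smul]
  simp only [hterm]
  rw [Finset.sum_const, Finset.card_univ, ← Nat.cast_smul_eq_nsmul R, smul_smul,
    Fintype.card_eq_nat_card, Ring.inverse_mul_cancel _ hG, one_smul]

end Groth.Agent.S13140
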