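import Groth.Statements.S13144
import Groth.Agent.Lib.Helper6.W2Split
import Groth.Agent.Lib.Helper6.FrobLiftTheta
import Groth.Agent.S13150

set_option autoImplicit false
universe u
open FrobAlg

namespace Groth.Agent.S13144

/-- Let k be a perfect field of characteristic p, A → B a homomorphism of Noetherian k-algebras with an
A-linear retraction B → A, and A' → B' a homomorphism over W₂(k) between flat liftings of A and B
which reduces to A → B. If the Frobenius of B lifts to B' (a σ₂-semilinear ring endomorphism
reducing to the p-th power map), then the Frobenius of A lifts to A'. (The published statement is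
for an affine morphism whose map on structure sheaves splits linearly; the affine case with an
A-linear splitting is taken here.) -/
theorem result
    (p : ℕ) [Fact p.Prime] (k : Type u) [Field k] [CharP k p] [PerfectRing k p]
    (A B : Type u) [CommRing A] [CommRing B] [Algebra k A] [Algebra k B]
    [IsNoetherianRing A] [IsNoetherianRing B] [Algebra A B] [IsScalarTower k A B]
    (r : B →ₗ[A] A) (hr : ∀ a : A, r (algebraMap A B a) = a)
    (A' B' : Type u) [CommRing A'] [CommRing B']
    (ιA : FrobAlg.W2 p k →+* A') (πA : A' →+* A) (hA : FrobAlg.IsLift p k A A' ιA πA)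
    (ιB : FrobAlg.W2 p k →+* B') (πB : B' →+* B) (hB : FrobAlg.IsLift p k B B' ιB πB)
    (φ' : A' →+* B') (hφι : φ'.comp ιA = ιB) (hφπ : πB.comp φ' = (algebraMap A B).comp πA)
    (ΦB : B' →+* B') (hΦB : FrobAlg.IsFrobLift p k B B' ιB πB ΦB) :
    ∃ ΦA : A' →+* A', FrobAlg.IsFrobLift p k A A' ιA πA ΦA := by
  classical
  rcases subsingleton_or_nontrivial A with hsub | hnt
  · -- `A'` is trivial
    have hA'0 : ∀ x : A', x = 0 := by
      intro x
      obtain ⟨c, hc⟩ := Groth.Agent.Lib.Helper6.W2Arith.exists_p_mul_of_pi hA x
        (Subsingleton.elim _ _)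
      obtain ⟨c', hc'⟩ := Groth.Agent.Lib.Helper6.W2Arith.exists_p_mul_of_pi hA c
        (Subsingleton.elim _ _)
      rw [hc, hc', ← mul_assoc, Groth.Agent.Lib.Helper6.W2Arith.pB_sq hA, zero_mul]
    refine ⟨RingHom.id A', { toIsLift := hA, semi := ?_, red := fun _ => Subsingleton.elim _ _ }⟩
    apply RingHom.ext
    intro c
    rw [hA'0 ((RingHom.id A').comp ιA c), hA'0 ((ιA.comp (FrobAlg.sigma p k)) c)]
  · haveI : CharP A p := charP_of_injective_algebraMap (algebraMap k A).injective p
    have hφinj : Function.Injective (algebraMap A B) := fun a b h => by rw [← hr a, ← hr b, h]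
    have : Nontrivial B := hφinj.nontrivial
    have : CharP B p := charP_of_injective_algebraMap (algebraMap k B).injective p
    obtain ⟨θB, hθB1, hθB2⟩ := (Groth.Agent.S13150.result p k B B' ιB πB hB).mp ⟨ΦB, hΦB⟩
    let θ : A' →+* FrobAlg.W2 p B := θB.comp φ'
    have hθ : ∀ x, (θ x).coeff 0 = algebraMap A B (πA x) := by
      intro x
      have h1 := congrArg (fun g => g (φ' x)) hθB1
      have h2 := congrArg (fun g => g x) hφπ
      simp only [RingHom.comp_apply] at h1 h2
      rw [FrobAlg.res_apply] at h1
      change (θB (φ' x)).coeff 0 = _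
      rw [h1, h2]
    refine (Groth.Agent.S13150.result p k A A' ιA πA hA).mpr
      ⟨Groth.Agent.Lib.Helper6.W2Arith.thetaA p r hr πA θ hθ, ?_, ?_⟩
    · apply RingHom.ext
      intro x
      rw [RingHom.comp_apply, FrobAlg.res_apply, Groth.Agent.Lib.Helper6.W2Arith.thetaA_apply,
        Groth.Agent.Lib.Helper6.W2Arith.tau_add_V2_coeff_zero]
    · apply RingHom.ext
      intro c
      rw [RingHom.comp_apply, Groth.Agent.Lib.Helper6.W2Arith.thetaA_apply]
      have e1 : πA (ιA c) = (WittGrp.truncMap p 2 (algebraMap k A) c).coeff 0 := by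
        have h1 := congrArg (fun g => g c) hA.comm
        simp only [RingHom.comp_apply] at h1
        rw [h1, FrobAlg.res_apply, WittGrp.coeff_truncMap]
      have e2 : (θ (ιA c)).coeff 1 =
          algebraMap A B ((WittGrp.truncMap p 2 (algebraMap k A) c).coeff 1) := by
        have h1 := congrArg (fun g => g c) hφι
        have h2 := congrArg (fun g => g c) hθB2
        simp only [RingHom.comp_apply] at h1 h2
        change (θB (φ' (ιA c))).coeff 1 = _
        rw [h1, h2, WittGrp.coeff_truncMap, WittGrp.coeff_truncMap,
          IsScalarTower.algebraMap_apply k A B]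
      rw [e1, e2, hr]
      exact (Groth.Agent.Lib.Helper6.W2Arith.decomp p _).symm

end Groth.Agent.S13144
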