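import Groth.Statements.S13146
import Groth.Agent.Lib.Helper6.NoLiftQuadric
import Groth.Agent.Lib.Helper6.FrobLiftTheta

set_option autoImplicit false
universe u
open scoped BigOperators
open FrobAlg

namespace Groth.Agent.S13146

/-- In an even number of variables — for a perfect field k of characteristic p and n ≥ 3, the local
Artinian algebra k[x_1, y_1, …, x_n, y_n]/(x_1y_1 + ⋯ + x_ny_n, x_1^p, y_1^p, …, x_n^p, y_n^p)
admits no flat lifting over W₂(k). (The published statement covers every number N ≥ 5 of variables,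
using x_1x_2 + ⋯ + x_{N−2}x_{N−1} + x_N² for odd N; the printed argument is written out for even N
and the odd case is said to be analogous, so only even N = 2n ≥ 6 is taken here.) -/
theorem result
    (p : ℕ) [Fact p.Prime] (k : Type u) [Field k] [CharP k p] [PerfectRing k p]
    (n : ℕ) (hn : 3 ≤ n) :
    ¬ FrobAlg.IsW2Liftable p k
      (MvPolynomial (Fin n × Fin 2) k ⧸ Ideal.span
        (insert (∑ i : Fin n, MvPolynomial.X (i, (0 : Fin 2)) * MvPolynomial.X (i, (1 : Fin 2)))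
          (Set.range fun v : Fin n × Fin 2 => (MvPolynomial.X v : MvPolynomial (Fin n × Fin 2) k) ^ p))) := by
  rintro ⟨B, instB, ι, π, hB⟩
  have hsurj := hB.surj
  choose Xl hXl using fun v : Fin n × Fin 2 => hsurj (Ideal.Quotient.mk _ (MvPolynomial.X v))
  let T : Fin n → B := fun i => Xl (i, 0) * Xl (i, 1)
  have hp2 : 2 ≤ p := (Fact.out : p.Prime).two_le
  have hXp : ∀ v, ∃ F, Xl v ^ p = (p : B) * F := fun v =>
    Groth.Agent.Lib.Helper6.W2Arith.exists_p_mul_of_pi hB _ (by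
      rw [map_pow, hXl, ← map_pow]
      exact Ideal.Quotient.eq_zero_iff_mem.2 (Ideal.subset_span (Or.inr ⟨v, rfl⟩)))
  have hTp : ∀ i, T i ^ p = 0 := by
    intro i
    obtain ⟨F0, h0⟩ := hXp (i, 0)
    obtain ⟨F1, h1⟩ := hXp (i, 1)
    show (Xl (i, 0) * Xl (i, 1)) ^ p = 0
    rw [mul_pow, h0, h1]
    have := Groth.Agent.Lib.Helper6.W2Arith.pB_sq hB
    calc (p : B) * F0 * ((p : B) * F1) = ((p : B) * (p : B)) * (F0 * F1) := by ring
      _ = 0 := by rw [this, zero_mul]
  have hπT : ∀ i, π (T i) = Ideal.Quotient.mk _ (Groth.Agent.Lib.Helper6.NoLiftQuadric.tt n k i) := by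
    intro i
    show π (Xl (i, 0) * Xl (i, 1)) = _
    rw [map_mul, hXl, hXl, ← map_mul]
    rfl
  have hQ : ∃ G, ∑ i, T i = (p : B) * G :=
    Groth.Agent.Lib.Helper6.W2Arith.exists_p_mul_of_pi hB _ (by
      rw [map_sum]
      simp only [hπT]
      rw [← map_sum]
      exact Ideal.Quotient.eq_zero_iff_mem.2 (Ideal.subset_span (Or.inl rfl)))
  have hQp : (∑ i, T i) ^ p = 0 := by
    obtain ⟨G, hG⟩ := hQ
    rw [hG, mul_pow]
    have : (p : B) ^ p = 0 := by
      obtain ⟨m, hm⟩ : ∃ m, p = 2 + m := ⟨p - 2, by omega⟩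
      rw [hm, pow_add, pow_two]
      rw [← hm, Groth.Agent.Lib.Helper6.W2Arith.pB_sq hB, zero_mul]
    rw [this, zero_mul]
  have key := Groth.Agent.Lib.Helper6.NoLiftQuadric.sum_pow_eq p n T
  rw [hQp, Finset.sum_eq_zero (fun i _ => hTp i), zero_add] at key
  obtain ⟨H, hH⟩ := Groth.Agent.Lib.Helper6.W2Arith.exists_p_mul_of_p_mul hB _ key.symm
  have h0 : π (MvPolynomial.aeval T (Groth.Agent.Lib.Helper6.NoLiftQuadric.Phi p n)) = 0 := by
    rw [hH, map_mul, Groth.Agent.Lib.Helper6.W2Arith.pi_p hB, zero_mul]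
  have h5 : π (MvPolynomial.aeval T (Groth.Agent.Lib.Helper6.NoLiftQuadric.Phi p n)) =
      Ideal.Quotient.mk _ (MvPolynomial.aeval (Groth.Agent.Lib.Helper6.NoLiftQuadric.tt n k)
        (Groth.Agent.Lib.Helper6.NoLiftQuadric.Phi p n)) := by
    have e1 := congrArg (fun f => f (Groth.Agent.Lib.Helper6.NoLiftQuadric.Phi p n))
      (MvPolynomial.comp_aeval (R := ℤ) T π.toIntAlgHom)
    have e2 := congrArg (fun f => f (Groth.Agent.Lib.Helper6.NoLiftQuadric.Phi p n))
      (MvPolynomial.comp_aeval (R := ℤ) (Groth.Agent.Lib.Helper6.NoLiftQuadric.tt n k)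
        (Ideal.Quotient.mk (Ideal.span
        (insert (∑ i : Fin n, MvPolynomial.X (i, (0 : Fin 2)) * MvPolynomial.X (i, (1 : Fin 2)))
          (Set.range fun v : Fin n × Fin 2 => (MvPolynomial.X v : MvPolynomial (Fin n × Fin 2) k) ^ p)))).toIntAlgHom)
    simp only [AlgHom.comp_apply, RingHom.toIntAlgHom_apply] at e1 e2
    refine e1.trans (Eq.trans ?_ e2.symm)
    congr 2
    funext i
    exact hπT i
  rw [h5] at h0
  exact Groth.Agent.Lib.Helper6.NoLiftQuadric.aeval_Phi_not_mem p n k hn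
    (Ideal.Quotient.eq_zero_iff_mem.1 h0)

end Groth.Agent.S13146
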