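import Groth.Statements.S13149
import Mathlib

set_option autoImplicit false
universe u
open CAlg

namespace S13149aux

variable {p : ℕ} [Fact p.Prime] {A : Type u} [CommRing A] [IsLocalRing A]

def Good (ρ : (Fin 3 → ZMod p) → (Fin 3 → A)) (P : Fin 3 → ZMod p) (P' : Fin 3 → A) : Prop :=
  ∃ s : A, IsUnit s ∧ ρ P = s • P'

omit [IsLocalRing A] in
lemma det_smul_smul (s t : A) (a b w : Fin 3 → A) :
    Matrix.det (Matrix.of ![s • a, t • b, w]) = s * t * Matrix.det (Matrix.of ![a, b, w]) := by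
  simp [Matrix.det_fin_three]; ring

omit [IsLocalRing A] in
theorem two_lines (ρ : (Fin 3 → ZMod p) → (Fin 3 → A))
    (hpt : ∀ v : Fin 3 → ZMod p, v ≠ 0 → ∃ i, IsUnit (ρ v i))
    (hdet : ∀ u v w : Fin 3 → ZMod p, u ≠ 0 → v ≠ 0 → w ≠ 0 →
      Matrix.det (Matrix.of ![u, v, w]) = 0 → Matrix.det (Matrix.of ![ρ u, ρ v, ρ w]) = 0)
    {a b c d x : Fin 3 → ZMod p} {a' b' c' d' x' : Fin 3 → A}
    (ha : Good ρ a a') (hb : Good ρ b b') (hc : Good ρ c c') (hd : Good ρ d d')
    (ha0 : a ≠ 0) (hb0 : b ≠ 0) (hc0 : c ≠ 0) (hd0 : d ≠ 0) (hx0 : x ≠ 0)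
    (h1 : Matrix.det (Matrix.of ![a, b, x]) = 0) (h2 : Matrix.det (Matrix.of ![c, d, x]) = 0)
    (hint : ∀ w : Fin 3 → A, Matrix.det (Matrix.of ![a', b', w]) = 0 →
      Matrix.det (Matrix.of ![c', d', w]) = 0 → ∃ r : A, w = r • x') :
    Good ρ x x' := by
  obtain ⟨s, hs, has⟩ := ha
  obtain ⟨t, ht, hbt⟩ := hb
  obtain ⟨s', hs', hcs⟩ := hc
  obtain ⟨t', ht', hdt⟩ := hd
  have e1 := hdet a b x ha0 hb0 hx0 h1
  have e2 := hdet c d x hc0 hd0 hx0 h2
  rw [has, hbt, det_smul_smul] at e1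
  rw [hcs, hdt, det_smul_smul] at e2
  have e1' := ((hs.mul ht).mul_right_eq_zero).1 e1
  have e2' := ((hs'.mul ht').mul_right_eq_zero).1 e2
  obtain ⟨r, hr⟩ := hint (ρ x) e1' e2'
  refine ⟨r, ?_, hr⟩
  obtain ⟨i, hi⟩ := hpt x hx0
  rw [hr] at hi
  exact isUnit_of_mul_isUnit_left hi

omit [IsLocalRing A] in
/-- normalized version -/
theorem normalized (ρ : (Fin 3 → ZMod p) → (Fin 3 → A))
    (hpt : ∀ v : Fin 3 → ZMod p, v ≠ 0 → ∃ i, IsUnit (ρ v i))
    (hdet : ∀ u v w : Fin 3 → ZMod p, u ≠ 0 → v ≠ 0 → w ≠ 0 →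
      Matrix.det (Matrix.of ![u, v, w]) = 0 → Matrix.det (Matrix.of ![ρ u, ρ v, ρ w]) = 0)
    (hE1 : Good ρ ![1, 0, 0] ![1, 0, 0]) (hE2 : Good ρ ![0, 1, 0] ![0, 1, 0])
    (hE3 : Good ρ ![0, 0, 1] ![0, 0, 1]) (hU : Good ρ ![1, 1, 1] ![1, 1, 1]) :
    (p : A) = 0 := by
  have nE1 : (![1, 0, 0] : Fin 3 → ZMod p) ≠ 0 := fun h => by simpa using congrFun h 0
  have nE2 : (![0, 1, 0] : Fin 3 → ZMod p) ≠ 0 := fun h => by simpa using congrFun h 1
  have nE3 : (![0, 0, 1] : Fin 3 → ZMod p) ≠ 0 := fun h => by simpa using congrFun h 2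
  have nU : (![1, 1, 1] : Fin 3 → ZMod p) ≠ 0 := fun h => by simpa using congrFun h 0
  have nD : (![1, 1, 0] : Fin 3 → ZMod p) ≠ 0 := fun h => by simpa using congrFun h 0
  have nH : (![0, 1, 1] : Fin 3 → ZMod p) ≠ 0 := fun h => by simpa using congrFun h 1
  -- D = (1:1:0)
  have hD : Good ρ ![1, 1, 0] ![1, 1, 0] := by
    refine two_lines ρ hpt hdet hE3 hU hE1 hE2 nE3 nU nE1 nE2 nD
      (by simp [Matrix.det_fin_three]) (by simp [Matrix.det_fin_three]) ?_
    intro w h1 h2
    simp [Matrix.det_fin_three] at h1 h2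
    refine ⟨w 0, ?_⟩
    funext i
    fin_cases i
    · simp
    · simp; linear_combination h1
    · simp; linear_combination h2
  -- H = (0:1:1)
  have hH : Good ρ ![0, 1, 1] ![0, 1, 1] := by
    refine two_lines ρ hpt hdet hE3 hE2 hU hE1 nE3 nE2 nU nE1 nH
      (by simp [Matrix.det_fin_three]) (by simp [Matrix.det_fin_three]) ?_
    intro w h1 h2
    simp [Matrix.det_fin_three] at h1 h2
    refine ⟨w 1, ?_⟩
    funext i
    fin_cases i
    · simp; linear_combination h1
    · simp
    · simp; linear_combination (-1 : A) * h2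
  -- induction
  have hind : ∀ n : ℕ, Good ρ ![(n : ZMod p), 0, 1] ![(n : A), 0, 1] := by
    intro n
    induction n with
    | zero => simpa using hE3
    | succ n ih =>
      have nP : (![(n : ZMod p), 0, 1] : Fin 3 → ZMod p) ≠ 0 := fun h => by simpa using congrFun h 2
      have nQ : (![((n + 1 : ℕ) : ZMod p), 1, 1] : Fin 3 → ZMod p) ≠ 0 :=
        fun h => by simpa using congrFun h 2
      have nP' : (![((n + 1 : ℕ) : ZMod p), 0, 1] : Fin 3 → ZMod p) ≠ 0 :=
        fun h => by simpa using congrFun h 2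
      have hQ : Good ρ ![((n + 1 : ℕ) : ZMod p), 1, 1] ![((n + 1 : ℕ) : A), 1, 1] := by
        refine two_lines ρ hpt hdet ih hD hH hE1 nP nD nH nE1 nQ
          (by simp [Matrix.det_fin_three]) (by simp [Matrix.det_fin_three]) ?_
        intro w h1 h2
        simp [Matrix.det_fin_three] at h1 h2
        refine ⟨w 2, ?_⟩
        funext i
        fin_cases i
        · simp; linear_combination (-1 : A) * h1 + h2
        · simp; linear_combination h2
        · simp
      refine two_lines ρ hpt hdet hQ hE2 hE3 hE1 nQ nE2 nE3 nE1 nP'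
        (by simp [Matrix.det_fin_three]) (by simp [Matrix.det_fin_three]) ?_
      intro w h1 h2
      simp [Matrix.det_fin_three] at h1 h2
      refine ⟨w 2, ?_⟩
      funext i
      fin_cases i
      · simp; linear_combination (-1 : A) * h1
      · simp; linear_combination h2
      · simp
  obtain ⟨s, hs, h⟩ := hind p
  obtain ⟨l, hl, h'⟩ := hE3
  rw [ZMod.natCast_self] at h
  rw [h'] at h
  have := congrFun h 0
  simp at this
  exact (hs.mul_right_eq_zero.1 this.symm)

omit [IsLocalRing A] in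
lemma det_eq_zero_of_dot (a b c n : Fin 3 → A) (hn : ∃ i, IsUnit (n i))
    (h1 : dotProduct a n = 0) (h2 : dotProduct b n = 0) (h3 : dotProduct c n = 0) :
    Matrix.det (Matrix.of ![a, b, c]) = 0 := by
  obtain ⟨i, hi⟩ := hn
  have hM : (Matrix.of ![a, b, c]).mulVec n = 0 := by
    funext j
    fin_cases j
    · simpa [Matrix.mulVec] using h1
    · simpa [Matrix.mulVec] using h2
    · simpa [Matrix.mulVec] using h3
  have h4 : (Matrix.det (Matrix.of ![a, b, c])) • n = 0 := by
    have := congrArg ((Matrix.of ![a, b, c]).adjugate.mulVec) hM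
    rw [Matrix.mulVec_mulVec, Matrix.adjugate_mul, Matrix.mulVec_zero, Matrix.smul_mulVec,
      Matrix.one_mulVec] at this
    exact this
  have h5 := congrFun h4 i
  simp only [Pi.smul_apply, smul_eq_mul, Pi.zero_apply] at h5
  exact (hi.mul_left_eq_zero).1 h5

/-- transfer of unit coordinates through a matrix invertible up to a unit -/
lemma exists_isUnit_vecMul (G G' : Matrix (Fin 3) (Fin 3) A) (Δ : A) (hΔ : IsUnit Δ)
    (hGG' : G * G' = Δ • (1 : Matrix (Fin 3) (Fin 3) A)) (w : Fin 3 → A)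
    (hw : ∃ i, IsUnit (w i)) : ∃ i, IsUnit (Matrix.vecMul w G i) := by
  by_contra h
  push Not at h
  obtain ⟨i, hi⟩ := hw
  have h1 : Matrix.vecMul (Matrix.vecMul w G) G' = Δ • w := by
    rw [Matrix.vecMul_vecMul, hGG', Matrix.vecMul_smul, Matrix.vecMul_one]
  have h2 : Δ * w i ∈ IsLocalRing.maximalIdeal A := by
    have := congrFun h1 i
    simp only [Pi.smul_apply, smul_eq_mul] at this
    rw [← this]
    simp only [Matrix.vecMul, dotProduct]
    refine Ideal.sum_mem _ fun j _ => Ideal.mul_mem_right _ _ ?_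
    exact (IsLocalRing.mem_maximalIdeal _).2 (h j)
  have h3 : IsUnit (Δ * w i) := hΔ.mul hi
  exact ((IsLocalRing.mem_maximalIdeal _).1 h2) h3

end S13149aux

namespace Groth.Agent.S13149

/-- Let A be a local ring and ρ a map from the points of the projective plane over F_p to the points of
the projective plane over A (vectors with a unit coordinate, up to units) taking collinear triples
to collinear triples (three points are collinear when a vector with a unit coordinate is orthogonal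
to all three). If ρ sends the standard frame (1:0:0), (0:1:0), (0:0:1), (1:1:1) to four points in
general position, then p = 0 in A. (The published statement asks only that ρ preserve collinearity;
a constant map does so over any ring, and the published argument begins by moving the images of the
standard frame to the standard frame, which needs them in general position — that condition is made
a hypothesis here.) -/
theorem result
    (p : ℕ) [Fact p.Prime] (A : Type u) [CommRing A] [IsLocalRing A]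
    (ρ : (Fin 3 → ZMod p) → (Fin 3 → A))
    (hpt : ∀ v : Fin 3 → ZMod p, v ≠ 0 → ∃ i, IsUnit (ρ v i))
    (hcol : ∀ u v w : Fin 3 → ZMod p, u ≠ 0 → v ≠ 0 → w ≠ 0 →
      Matrix.det (Matrix.of ![u, v, w]) = 0 →
      ∃ n : Fin 3 → A, (∃ i, IsUnit (n i)) ∧
        dotProduct (ρ u) n = 0 ∧ dotProduct (ρ v) n = 0 ∧ dotProduct (ρ w) n = 0)
    (hgen : IsUnit (Matrix.det (Matrix.of ![ρ (Pi.single 0 1), ρ (Pi.single 1 1), ρ (Pi.single 2 1)])) ∧
      IsUnit (Matrix.det (Matrix.of ![ρ (Pi.single 0 1), ρ (Pi.single 1 1), ρ (fun _ => 1)])) ∧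
      IsUnit (Matrix.det (Matrix.of ![ρ (Pi.single 0 1), ρ (Pi.single 2 1), ρ (fun _ => 1)])) ∧
      IsUnit (Matrix.det (Matrix.of ![ρ (Pi.single 1 1), ρ (Pi.single 2 1), ρ (fun _ => 1)]))) :
    (p : A) = 0 := by
  classical
  have e0 : (Pi.single 0 1 : Fin 3 → ZMod p) = ![1, 0, 0] := by
    funext i; fin_cases i <;> simp
  have e1 : (Pi.single 1 1 : Fin 3 → ZMod p) = ![0, 1, 0] := by
    funext i; fin_cases i <;> simp
  have e2 : (Pi.single 2 1 : Fin 3 → ZMod p) = ![0, 0, 1] := by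
    funext i; fin_cases i <;> simp
  have eu : ((fun _ => 1) : Fin 3 → ZMod p) = ![1, 1, 1] := by
    funext i; fin_cases i <;> simp
  rw [e0, e1, e2, eu] at hgen
  obtain ⟨hΔ, hg2, hg1, hg0⟩ := hgen
  have hdet : ∀ u v w : Fin 3 → ZMod p, u ≠ 0 → v ≠ 0 → w ≠ 0 →
      Matrix.det (Matrix.of ![u, v, w]) = 0 → Matrix.det (Matrix.of ![ρ u, ρ v, ρ w]) = 0 := by
    intro u v w hu hv hw h
    obtain ⟨n, hn, h1, h2, h3⟩ := hcol u v w hu hv hw h
    exact S13149aux.det_eq_zero_of_dot _ _ _ n hn h1 h2 h3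
  set a0 := ρ ![1, 0, 0] with ha0
  set a1 := ρ ![0, 1, 0] with ha1
  set a2 := ρ ![0, 0, 1] with ha2
  set uu := ρ ![1, 1, 1] with huu
  set M : Matrix (Fin 3) (Fin 3) A := Matrix.of ![a0, a1, a2] with hM
  set Δ := M.det with hΔdef
  let d : Fin 3 → A := Matrix.vecMul uu M.adjugate
  have hd : ∀ i, IsUnit (d i) := by
    intro i
    fin_cases i
    · have : d 0 = Matrix.det (Matrix.of ![a1, a2, uu]) := by
        simp [d, M, Matrix.adjugate_fin_three, Matrix.det_fin_three, Matrix.vecHead,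
          Matrix.vecTail]
        ring
      show IsUnit (d 0)
      rw [this]; exact hg0
    · have : d 1 = - Matrix.det (Matrix.of ![a0, a2, uu]) := by
        simp [d, M, Matrix.adjugate_fin_three, Matrix.det_fin_three, Matrix.vecHead,
          Matrix.vecTail]
        ring
      show IsUnit (d 1)
      rw [this]; exact hg1.neg
    · have : d 2 = Matrix.det (Matrix.of ![a0, a1, uu]) := by
        simp [d, M, Matrix.adjugate_fin_three, Matrix.det_fin_three, Matrix.vecHead,
          Matrix.vecTail]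
        ring
      show IsUnit (d 2)
      rw [this]; exact hg2
  choose dinv hdinv using fun i => (hd i).exists_left_inv
  let G : Matrix (Fin 3) (Fin 3) A := M.adjugate * Matrix.diagonal dinv
  let G' : Matrix (Fin 3) (Fin 3) A := Matrix.diagonal d * M
  have hGG' : G * G' = Δ • (1 : Matrix (Fin 3) (Fin 3) A) := by
    have : Matrix.diagonal dinv * Matrix.diagonal d = (1 : Matrix (Fin 3) (Fin 3) A) := by
      rw [Matrix.diagonal_mul_diagonal, ← Matrix.diagonal_one]
      congr 1
      funext i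
      exact hdinv i
    calc G * G' = M.adjugate * ((Matrix.diagonal dinv * Matrix.diagonal d) * M) := by
          simp only [G, G', Matrix.mul_assoc]
      _ = M.adjugate * M := by rw [this, Matrix.one_mul]
      _ = Δ • 1 := Matrix.adjugate_mul M
  let ρ' : (Fin 3 → ZMod p) → (Fin 3 → A) := fun v => Matrix.vecMul (ρ v) G
  have hpt' : ∀ v : Fin 3 → ZMod p, v ≠ 0 → ∃ i, IsUnit (ρ' v i) := fun v hv =>
    S13149aux.exists_isUnit_vecMul G G' Δ hΔ hGG' (ρ v) (hpt v hv)
  have hdet' : ∀ u v w : Fin 3 → ZMod p, u ≠ 0 → v ≠ 0 → w ≠ 0 →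
      Matrix.det (Matrix.of ![u, v, w]) = 0 →
      Matrix.det (Matrix.of ![ρ' u, ρ' v, ρ' w]) = 0 := by
    intro u v w hu hv hw h
    have h1 : Matrix.of ![ρ' u, ρ' v, ρ' w] = Matrix.of ![ρ u, ρ v, ρ w] * G := by
      ext i j
      fin_cases i <;> simp [ρ', Matrix.mul_apply, Matrix.vecMul, dotProduct]
    rw [h1, Matrix.det_mul, hdet u v w hu hv hw h, zero_mul]
  -- rows of M times adjugate
  have hrow : ∀ i : Fin 3, Matrix.vecMul (M i) M.adjugate = Δ • (Pi.single i 1 : Fin 3 → A) := by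
    intro i
    have := Matrix.mul_adjugate M
    have h1 := congrFun this i
    rw [Matrix.mul_apply_eq_vecMul] at h1
    rw [h1]
    funext j
    simp [← hΔdef, Matrix.one_apply, Pi.single_apply, eq_comm]
  have hvG : ∀ w : Fin 3 → A, Matrix.vecMul w G = fun i => Matrix.vecMul w M.adjugate i * dinv i := by
    intro w
    funext i
    simp only [G, ← Matrix.vecMul_vecMul, Matrix.vecMul_diagonal]
  have hE1 : S13149aux.Good ρ' ![1, 0, 0] ![1, 0, 0] := by
    refine ⟨Δ * dinv 0, hΔ.mul (IsUnit.of_mul_eq_one _ (hdinv 0)), ?_⟩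
    show Matrix.vecMul a0 G = _
    rw [hvG, show a0 = M 0 from rfl, hrow 0]
    funext i
    fin_cases i <;> simp
  have hE2 : S13149aux.Good ρ' ![0, 1, 0] ![0, 1, 0] := by
    refine ⟨Δ * dinv 1, hΔ.mul (IsUnit.of_mul_eq_one _ (hdinv 1)), ?_⟩
    show Matrix.vecMul a1 G = _
    rw [hvG, show a1 = M 1 from rfl, hrow 1]
    funext i
    fin_cases i <;> simp
  have hE3 : S13149aux.Good ρ' ![0, 0, 1] ![0, 0, 1] := by
    refine ⟨Δ * dinv 2, hΔ.mul (IsUnit.of_mul_eq_one _ (hdinv 2)), ?_⟩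
    show Matrix.vecMul a2 G = _
    rw [hvG, show a2 = M 2 from rfl, hrow 2]
    funext i
    fin_cases i <;> simp
  have hU : S13149aux.Good ρ' ![1, 1, 1] ![1, 1, 1] := by
    refine ⟨1, isUnit_one, ?_⟩
    show Matrix.vecMul uu G = _
    rw [hvG]
    funext i
    have : Matrix.vecMul uu M.adjugate i * dinv i = 1 := by
      rw [mul_comm]; exact hdinv i
    rw [this]
    fin_cases i <;> simp
  exact S13149aux.normalized ρ' hpt' hdet' hE1 hE2 hE3 hU

end Groth.Agent.S13149
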