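import Groth.Statements.S13151
import Mathlib

set_option autoImplicit false
universe u
open CAlg

namespace Groth.Agent.S13151

/-- Let A → B be an injective ring homomorphism of integral domains which is integral, with A integrally
closed, and let π be an element of A. Then the contraction to A of the ideal πB is πA, i.e. an
element of A which is a multiple of π in B is already a multiple of π in A; in particular if B/πB is
an integral domain then A/πA is an integral domain. (The published statement is for an integral
dominant morphism of integral schemes flat over a discrete valuation ring, with normal target and π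
a uniformizer; flatness and the valuation ring play no role, so π is an arbitrary element here.) -/
theorem result {A B : Type u} [CommRing A] [CommRing B]
    [IsDomain A] [IsDomain B] [IsIntegrallyClosed A] [Algebra A B] [Algebra.IsIntegral A B]
    (hinj : Function.Injective (algebraMap A B)) (π : A) :
    (Ideal.span {algebraMap A B π}).comap (algebraMap A B) = Ideal.span {π} ∧
      (IsDomain (B ⧸ Ideal.span {algebraMap A B π}) → IsDomain (A ⧸ Ideal.span {π})) := by
  have key : ∀ a : A, algebraMap A B a ∈ Ideal.span {algebraMap A B π} → a ∈ Ideal.span {π} := by
    intro a ha
    rw [Ideal.mem_span_singleton'] at ha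
    obtain ⟨b, hb⟩ := ha
    rw [Ideal.mem_span_singleton']
    by_cases hπ : π = 0
    · subst hπ
      refine ⟨0, ?_⟩
      rw [map_zero, mul_zero] at hb
      have : a = 0 := hinj (by rw [← hb, map_zero])
      simp [this]
    · obtain ⟨p, hp, hpb⟩ := Algebra.IsIntegral.isIntegral (R := A) b
      have h1 : Polynomial.aeval (algebraMap A B π * b) (Polynomial.scaleRoots p π) = 0 :=
        Polynomial.scaleRoots_aeval_eq_zero (by rwa [Polynomial.aeval_def])
      rw [mul_comm, hb, Polynomial.aeval_algebraMap_apply] at h1
      have h2 : Polynomial.eval a (Polynomial.scaleRoots p π) = 0 := by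
        apply hinj
        rw [map_zero, ← h1, Polynomial.coe_aeval_eq_eval]
      have hK : algebraMap A (FractionRing A) π ≠ 0 := by
        intro h0
        exact hπ (IsFractionRing.injective A (FractionRing A) (by rw [h0, map_zero]))
      have hx : IsIntegral A (algebraMap A (FractionRing A) a / algebraMap A (FractionRing A) π) := by
        refine ⟨p, hp, ?_⟩
        have h3 := Polynomial.scaleRoots_eval₂_mul (p := p) (algebraMap A (FractionRing A))
          (algebraMap A (FractionRing A) a / algebraMap A (FractionRing A) π) π
        rw [mul_div_cancel₀ _ hK] at h3
        have h4 : Polynomial.eval₂ (algebraMap A (FractionRing A)) (algebraMap A (FractionRing A) a)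
            (Polynomial.scaleRoots p π) = 0 := by
          rw [Polynomial.eval₂_at_apply, h2, map_zero]
        rw [h4] at h3
        exact (mul_eq_zero.mp h3.symm).resolve_left (pow_ne_zero _ hK)
      obtain ⟨c, hc⟩ := IsIntegrallyClosed.isIntegral_iff.mp hx
      refine ⟨c, ?_⟩
      apply IsFractionRing.injective A (FractionRing A)
      rw [map_mul, hc, div_mul_cancel₀ _ hK]
  have part1 : (Ideal.span {algebraMap A B π}).comap (algebraMap A B) = Ideal.span {π} := by
    apply le_antisymm
    · intro a ha
      exact key a (Ideal.mem_comap.mp ha)
    · rw [Ideal.span_singleton_le_iff_mem, Ideal.mem_comap]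
      exact Ideal.subset_span rfl
  refine ⟨part1, fun hdom => ?_⟩
  rw [Ideal.Quotient.isDomain_iff_prime] at hdom ⊢
  rw [← part1]
  exact Ideal.comap_isPrime _ _

end Groth.Agent.S13151
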