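import Groth.Statements.S13153
import Mathlib
import Groth.Agent.Lib.Helper5.Misc.OmegaSep

set_option autoImplicit false
universe u
open CAlg

set_option linter.style.haveILetI false

namespace S13153aux

/-- In characteristic zero, `dx = 0` in `Ω[L/K]` forces `x` algebraic over `K`. -/
theorem isAlgebraic_of_D_eq_zero (K L : Type u) [Field K] [Field L] [Algebra K L] [CharZero K]
    (x : L) (hx : KaehlerDifferential.D K L x = 0) : IsAlgebraic K x := by
  by_contra hx'
  have hai : AlgebraicIndepOn K id ({x} : Set L) := by
    rw [AlgebraicIndepOn, algebraicIndependent_unique_type_iff]  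
    exact hx'
  obtain ⟨t, hst, ht⟩ := exists_isTranscendenceBasis_superset hai
  haveI : Algebra.IsAlgebraic (IntermediateField.adjoin K (Set.range ((↑) : t → L))) L :=
    ht.isAlgebraic_field
  haveI : Algebra.IsSeparable (IntermediateField.adjoin K (Set.range ((↑) : t → L))) L :=
    inferInstance
  have hb := Groth.Agent.Helper5.OmegaSep.basis_apply (x := ((↑) : t → L)) ht.1 ⟨x, hst rfl⟩
  have hne := (Groth.Agent.Helper5.OmegaSep.basis (x := ((↑) : t → L)) ht.1).ne_zero ⟨x, hst rfl⟩
  rw [hb] at hne
  exact hne hx

end S13153aux

namespace Groth.Agent.S13153

/-- Let R be a discrete valuation ring whose fraction field K has characteristic zero, A an integral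
domain which is a faithfully flat R-algebra, with fraction field L, such that K is algebraically
closed in L (every element of L algebraic over K is in the image of K). If f ∈ A has vanishing
differential, df = 0 in Ω_{A/R}, then f is the image of an element of R. (The published statement is
the sheaf form: for a faithfully flat morphism X → Spec R with geometrically integral generic fibre,
the kernel of d : O_X → Ω¹_{X/R} is the inverse image of O_{Spec R}; for integral X, geometric
integrality of the generic fibre in characteristic zero amounts to K being algebraically closed in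
the function field, which is the form used here, and this row is the case of global sections over an
affine X = Spec A.) -/
theorem result (R : Type u) [CommRing R] [IsDomain R]
    [IsDiscreteValuationRing R] [CharZero R] (K : Type u) [Field K] [Algebra R K] [IsFractionRing R K]
    (A : Type u) [CommRing A] [IsDomain A] [Algebra R A] [Module.FaithfullyFlat R A]
    (L : Type u) [Field L] [Algebra A L] [IsFractionRing A L] [Algebra R L] [Algebra K L]
    [IsScalarTower R A L] [IsScalarTower R K L]
    (hac : ∀ x : L, IsAlgebraic K x → x ∈ (algebraMap K L).range)
    (f : A) (hf : KaehlerDifferential.D R A f = 0) : f ∈ (algebraMap R A).range := by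
  haveI : CharZero K := charZero_of_injective_algebraMap (IsFractionRing.injective R K)
  have h1 : KaehlerDifferential.D K L (algebraMap A L f) = 0 := by
    rw [← KaehlerDifferential.map_D R K A L, hf, map_zero]
  obtain ⟨c, hc⟩ := hac _ (S13153aux.isAlgebraic_of_D_eq_zero K L _ h1)
  obtain ⟨r, s, hs, hrs⟩ := IsFractionRing.div_surjective (A := R) c
  have hs0 : s ≠ 0 := nonZeroDivisors.ne_zero hs
  have hinjA : Function.Injective (algebraMap R A) := FaithfulSMul.algebraMap_injective R A
  have hinjL : Function.Injective (algebraMap A L) := IsFractionRing.injective A L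
  have hsK : algebraMap R K s ≠ 0 := by
    rw [Ne, map_eq_zero_iff _ (IsFractionRing.injective R K)]; exact hs0
  -- f * s = r in A
  have hfs : f * algebraMap R A s = algebraMap R A r := by
    apply hinjL
    rw [map_mul, ← hc, ← IsScalarTower.algebraMap_apply R A L, ← IsScalarTower.algebraMap_apply R A L,
      IsScalarTower.algebraMap_apply R K L, IsScalarTower.algebraMap_apply R K L, ← map_mul, ← hrs,
      div_mul_cancel₀ _ hsK]
  have hmem : r ∈ (Ideal.span {s} : Ideal R) := by
    rw [← Ideal.comap_map_eq_self_of_faithfullyFlat (B := A) (Ideal.span {s}), Ideal.mem_comap,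
      Ideal.map_span, Set.image_singleton, Ideal.mem_span_singleton']
    exact ⟨f, hfs⟩
  obtain ⟨t, ht⟩ := Ideal.mem_span_singleton'.mp hmem
  refine ⟨t, ?_⟩
  have hsA : algebraMap R A s ≠ 0 := by
    rw [Ne, map_eq_zero_iff _ hinjA]; exact hs0
  apply mul_right_cancel₀ hsA
  rw [hfs, ← map_mul, ht]

end Groth.Agent.S13153
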