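import Groth.Statements.S13154
import Mathlib

set_option autoImplicit false
universe u
open scoped TensorProduct
open CAlg

namespace Groth.Agent.S13154

/-- Let R be a discrete valuation ring with fraction field K, A a faithfully flat R-algebra (an affine
faithfully flat base change S' → S = Spec R) and B₁, B₂ flat R-algebras (two affine S-schemes X₁ =
Spec B₁, X₂ = Spec B₂, flat over S). Suppose given a K-algebra homomorphism φ_K : K ⊗ B₂ → K ⊗ B₁ (a
morphism of the generic fibres X₁,K → X₂,K) and an A-algebra homomorphism φ_A : A ⊗ B₂ → A ⊗ B₁ (a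
morphism X₁ ×_S S' → X₂ ×_S S' over S') which coincide after base change to K ⊗ A, in the sense that
for every b ∈ B₂ the images of φ_K(1 ⊗ b) and φ_A(1 ⊗ b) in (K ⊗ A) ⊗ B₁ agree. Then there is
exactly one R-algebra homomorphism φ : B₂ → B₁ (a morphism X₁ → X₂) whose base changes to K and to A
are φ_K and φ_A. (The published statement assumes only X₂ flat over S; flatness of X₁ is also
needed: with B₂ = R[t], B₁ = R[e]/(e², πe) for a uniformizer π and A = R[x], the maps t ↦ 0 over K
and t ↦ e x over A agree over K ⊗ A = K[x] but come from no map over R.) -/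
theorem result (R : Type u) [CommRing R] [IsDomain R]
    [IsDiscreteValuationRing R] (K : Type u) [Field K] [Algebra R K] [IsFractionRing R K]
    (A : Type u) [CommRing A] [Algebra R A] [Module.FaithfullyFlat R A]
    (B₁ B₂ : Type u) [CommRing B₁] [CommRing B₂] [Algebra R B₁] [Algebra R B₂]
    [Module.Flat R B₁] [Module.Flat R B₂]
    (φK : K ⊗[R] B₂ →ₐ[K] K ⊗[R] B₁) (φA : A ⊗[R] B₂ →ₐ[A] A ⊗[R] B₁)
    (hcomp : ∀ b : B₂,
      Algebra.TensorProduct.map (Algebra.TensorProduct.includeLeft : K →ₐ[R] K ⊗[R] A) (AlgHom.id R B₁)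
          (φK (1 ⊗ₜ b)) =
        Algebra.TensorProduct.map (Algebra.TensorProduct.includeRight : A →ₐ[R] K ⊗[R] A) (AlgHom.id R B₁)
          (φA (1 ⊗ₜ b))) :
    ∃! φ : B₂ →ₐ[R] B₁, (∀ b : B₂, φK (1 ⊗ₜ b) = 1 ⊗ₜ φ b) ∧ (∀ b : B₂, φA (1 ⊗ₜ b) = 1 ⊗ₜ φ b) := by
  classical
  obtain ⟨π, hπ⟩ := IsDiscreteValuationRing.exists_irreducible R
  set c : K := algebraMap R K π with hc
  have hc0 : c ≠ 0 := by
    rw [hc]
    exact (map_ne_zero_iff _ (IsFractionRing.injective R K)).2 hπ.ne_zero
  haveI : Module.Flat R A := inferInstance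
  haveI : FaithfulSMul R K := (faithfulSMul_iff_algebraMap_injective R K).2 (IsFractionRing.injective R K)
  have hιK : Function.Injective (TensorProduct.mk R K B₁ 1) :=
    Module.Flat.tensorProduct_mk_injective R B₁ K
  let jK : K ⊗[R] B₁ →ₐ[R] (K ⊗[R] A) ⊗[R] B₁ :=
    Algebra.TensorProduct.map (Algebra.TensorProduct.includeLeft : K →ₐ[R] K ⊗[R] A) (AlgHom.id R B₁)
  let jA : A ⊗[R] B₁ →ₐ[R] (K ⊗[R] A) ⊗[R] B₁ :=
    Algebra.TensorProduct.map (Algebra.TensorProduct.includeRight : A →ₐ[R] K ⊗[R] A) (AlgHom.id R B₁)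
  have hjK : ∀ (k : K) (b : B₁), jK (k ⊗ₜ b) = (k ⊗ₜ (1 : A)) ⊗ₜ b := fun k b => by
    simp [jK]
  have hjA : ∀ (a : A) (b : B₁), jA (a ⊗ₜ b) = ((1 : K) ⊗ₜ a) ⊗ₜ b := fun a b => by
    simp [jA]
  have hjAinj : Function.Injective jA := by
    have h1 : Function.Injective (TensorProduct.mk R K A 1) :=
      Module.Flat.tensorProduct_mk_injective R A K
    have h2 := Module.Flat.rTensor_preserves_injective_linearMap (M := B₁)
      (TensorProduct.mk R K A 1) h1
    have : (jA : A ⊗[R] B₁ → (K ⊗[R] A) ⊗[R] B₁) = (TensorProduct.mk R K A 1).rTensor B₁ := by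
      funext z
      induction z using TensorProduct.induction_on with
      | zero => simp
      | tmul a b => rw [hjA]; rfl
      | add x y hx hy => rw [map_add, map_add, hx, hy]
    rw [this]
    exact h2
  -- every element of K ⊗ B₁ has the form c⁻ⁿ ⊗ y
  have hrepK : ∀ k : K, ∃ (n : ℕ) (r : R), k = (c⁻¹) ^ n * algebraMap R K r := by
    intro k
    obtain ⟨a, b, hb, rfl⟩ := IsFractionRing.div_surjective (A := R) k
    have hb0 : b ≠ 0 := nonZeroDivisors.ne_zero hb
    obtain ⟨n, u, hu⟩ := IsDiscreteValuationRing.eq_unit_mul_pow_irreducible hb0 hπ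
    refine ⟨n, a * ↑u⁻¹, ?_⟩
    have hbK : algebraMap R K b = algebraMap R K ↑u * c ^ n := by
      rw [hu, map_mul, map_pow]
    have hu0 : algebraMap R K (↑u : R) ≠ 0 :=
      (map_ne_zero_iff _ (IsFractionRing.injective R K)).2 u.ne_zero
    have huinv : algebraMap R K (↑u⁻¹ : R) = (algebraMap R K (↑u : R))⁻¹ := by
      apply eq_inv_of_mul_eq_one_left
      rw [← map_mul, Units.inv_mul, map_one]
    rw [hbK, map_mul, huinv, inv_pow]
    field_simp
  have hrep : ∀ x : K ⊗[R] B₁, ∃ (n : ℕ) (y : B₁), x = ((c⁻¹) ^ n) ⊗ₜ[R] y := by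
    intro x
    induction x using TensorProduct.induction_on with
    | zero => exact ⟨0, 0, (TensorProduct.tmul_zero _ _).symm⟩
    | tmul k b =>
      obtain ⟨n, r, rfl⟩ := hrepK k
      refine ⟨n, r • b, ?_⟩
      rw [TensorProduct.tmul_smul, TensorProduct.smul_tmul', Algebra.smul_def, mul_comm]
    | add x y hx hy =>
      obtain ⟨n, y₁, rfl⟩ := hx
      obtain ⟨m, y₂, rfl⟩ := hy
      refine ⟨n + m, π ^ m • y₁ + π ^ n • y₂, ?_⟩
      have e1 : (c⁻¹) ^ n = π ^ m • (c⁻¹) ^ (n + m) := by
        rw [Algebra.smul_def, map_pow, ← hc, pow_add, inv_pow, inv_pow]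
        field_simp
      have e2 : (c⁻¹) ^ m = π ^ n • (c⁻¹) ^ (n + m) := by
        rw [Algebra.smul_def, map_pow, ← hc, pow_add, inv_pow, inv_pow]
        field_simp
      rw [TensorProduct.tmul_add, TensorProduct.tmul_smul, TensorProduct.tmul_smul,
        TensorProduct.smul_tmul', TensorProduct.smul_tmul', ← e1, ← e2]
  -- the key gluing lemma
  have key : ∀ (xK : K ⊗[R] B₁) (xA : A ⊗[R] B₁), jK xK = jA xA →
      ∃ y : B₁, xK = (1 : K) ⊗ₜ[R] y ∧ xA = (1 : A) ⊗ₜ[R] y := by
    intro xK xA hx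
    obtain ⟨n, y', rfl⟩ := hrep xK
    have hcn : π ^ n • (c⁻¹) ^ n = (1 : K) := by
      rw [Algebra.smul_def, map_pow, ← hc, inv_pow]
      field_simp
    -- π^n • xA = 1 ⊗ y'
    have h1 : π ^ n • xA = (1 : A) ⊗ₜ[R] y' := by
      apply hjAinj
      rw [map_smul, ← hx, hjK, hjA, TensorProduct.smul_tmul', TensorProduct.smul_tmul', hcn]
    -- y' ∈ π^n B₁
    let N : Submodule R B₁ := Ideal.span {π ^ n} • ⊤
    have h2 : (TensorProduct.mk R A (B₁ ⧸ N) 1) (N.mkQ y') = 0 := by
      have e : (TensorProduct.mk R A (B₁ ⧸ N) 1) (N.mkQ y') =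
          (N.mkQ.lTensor A) ((1 : A) ⊗ₜ[R] y') := by
        rw [LinearMap.lTensor_tmul]
        rfl
      rw [e, ← h1, map_smul]
      -- π^n kills A ⊗ (B₁ / N)
      have hkill : ∀ z : A ⊗[R] (B₁ ⧸ N), π ^ n • z = 0 := by
        intro z
        induction z using TensorProduct.induction_on with
        | zero => simp
        | tmul a q =>
          obtain ⟨b, rfl⟩ := N.mkQ_surjective q
          rw [← TensorProduct.tmul_smul, ← map_smul]
          have : N.mkQ (π ^ n • b) = 0 := by
            rw [Submodule.mkQ_apply, Submodule.Quotient.mk_eq_zero]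
            exact Submodule.smul_mem_smul (Ideal.subset_span rfl) Submodule.mem_top
          rw [this, TensorProduct.tmul_zero]
        | add x y hx hy => rw [smul_add, hx, hy, add_zero]
      exact hkill _
    have h3 : N.mkQ y' = 0 := by
      have hinj := Module.FaithfullyFlat.tensorProduct_mk_injective (A := R) (B := A) (B₁ ⧸ N)
      apply hinj
      rw [h2, map_zero]
    rw [Submodule.mkQ_apply, Submodule.Quotient.mk_eq_zero] at h3
    have h4 : ∃ y : B₁, y' = π ^ n • y := by
      have : N = Submodule.map (LinearMap.lsmul R B₁ (π ^ n)) ⊤ := by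
        ext z
        constructor
        · intro hz
          refine Submodule.smul_induction_on hz ?_ ?_
          · intro r hr b _
            obtain ⟨s, rfl⟩ := Ideal.mem_span_singleton'.1 hr
            refine ⟨s • b, Submodule.mem_top, ?_⟩
            show π ^ n • (s • b) = (s * π ^ n) • b
            rw [smul_smul, mul_comm]
          · intro a b ha hb
            exact Submodule.add_mem _ ha hb
        · rintro ⟨b, -, rfl⟩
          exact Submodule.smul_mem_smul (Ideal.subset_span rfl) Submodule.mem_top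
      rw [this] at h3
      obtain ⟨y, -, hy⟩ := h3
      exact ⟨y, hy.symm⟩
    obtain ⟨y, rfl⟩ := h4
    refine ⟨y, ?_, ?_⟩
    · rw [TensorProduct.tmul_smul, TensorProduct.smul_tmul', hcn]
    · apply hjAinj
      rw [← hx, hjK, hjA, TensorProduct.tmul_smul, TensorProduct.smul_tmul', TensorProduct.smul_tmul', hcn]
  -- define φ
  have hcomp' : ∀ b : B₂, jK (φK (1 ⊗ₜ b)) = jA (φA (1 ⊗ₜ b)) := hcomp
  choose φ₀ hφK hφA using fun b : B₂ => key _ _ (hcomp' b)
  have hιK' : ∀ y₁ y₂ : B₁, (1 : K) ⊗ₜ[R] y₁ = (1 : K) ⊗ₜ[R] y₂ → y₁ = y₂ := fun y₁ y₂ h => hιK h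
  let φ : B₂ →ₐ[R] B₁ :=
    { toFun := φ₀
      map_one' := by
        apply hιK'
        rw [← hφK]
        exact map_one φK
      map_mul' := by
        intro a b
        apply hιK'
        rw [← hφK, ← mul_one (1 : K), ← Algebra.TensorProduct.tmul_mul_tmul, map_mul, hφK, hφK,
          Algebra.TensorProduct.tmul_mul_tmul]
      map_zero' := by
        apply hιK'
        rw [← hφK, TensorProduct.tmul_zero, map_zero, TensorProduct.tmul_zero]
      map_add' := by
        intro a b
        apply hιK'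
        rw [← hφK, TensorProduct.tmul_add, map_add, hφK, hφK, TensorProduct.tmul_add]
      commutes' := by
        intro r
        apply hιK'
        rw [← hφK]
        have e1 : (1 : K) ⊗ₜ[R] (algebraMap R B₂ r) = algebraMap K (K ⊗[R] B₂) (algebraMap R K r) := by
          rw [Algebra.TensorProduct.algebraMap_apply, Algebra.algebraMap_eq_smul_one r,
            TensorProduct.tmul_smul, TensorProduct.smul_tmul', Algebra.algebraMap_eq_smul_one r]
          simp
        have e2 : (1 : K) ⊗ₜ[R] (algebraMap R B₁ r) = algebraMap K (K ⊗[R] B₁) (algebraMap R K r) := by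
          rw [Algebra.TensorProduct.algebraMap_apply, Algebra.algebraMap_eq_smul_one r,
            TensorProduct.tmul_smul, TensorProduct.smul_tmul', Algebra.algebraMap_eq_smul_one r]
          simp
        rw [e1, e2, AlgHom.commutes] }
  refine ⟨φ, ⟨fun b => hφK b, fun b => hφA b⟩, ?_⟩
  rintro ψ ⟨hψK, -⟩
  apply AlgHom.ext
  intro b
  apply hιK'
  rw [← hψK b]
  exact hφK b

end Groth.Agent.S13154
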