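import Groth.Statements.S13155
import Mathlib
-- import your own Groth.Agent.* helpers here

set_option autoImplicit false
universe u
open CAlg

namespace Groth.Agent.S13155

open Polynomial
namespace Aux

/-- step 1: an element that becomes a unit away from a prime `p` is a power of `p` times a unit -/
lemma eq_pow_mul_unit {A : Type u} [CommRing A] [IsDomain A] [IsNoetherianRing A]
    (p : A) (hp : Prime p) (f : A) (hf : IsUnit (algebraMap A (Localization.Away p) f)) :
    ∃ (a : ℕ) (u : Aˣ), f = p ^ a * (u : A) := by
  have hinj : Function.Injective (algebraMap A (Localization.Away p)) :=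
    IsLocalization.injective _ (powers_le_nonZeroDivisors_of_noZeroDivisors hp.ne_zero)
  have : IsDomain (Localization.Away p) := IsLocalization.isDomain_localization
    (powers_le_nonZeroDivisors_of_noZeroDivisors hp.ne_zero)
  have hf0 : f ≠ 0 := by
    rintro rfl
    rw [map_zero] at hf
    exact not_isUnit_zero hf
  obtain ⟨a, f', hndvd, hff'⟩ := WfDvdMonoid.max_power_factor hf0 hp.irreducible
  have hf' : IsUnit (algebraMap A (Localization.Away p) f') := by
    rw [hff', map_mul] at hf
    exact isUnit_of_mul_isUnit_right hf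
  obtain ⟨y, hy⟩ := hf'.exists_right_inv
  obtain ⟨⟨g, s⟩, hgs⟩ := IsLocalization.surj (Submonoid.powers p) y
  obtain ⟨n, hn⟩ := s.2
  have h1 : f' * g = p ^ n := by
    apply hinj
    rw [map_mul, ← hgs, ← mul_assoc, hy, one_mul, ← hn]
  have h2 : p ^ n ∣ g := hp.pow_dvd_of_dvd_mul_left n hndvd (by rw [h1])
  obtain ⟨g', rfl⟩ := h2
  have h3 : f' * g' = 1 := by
    have : p ^ n * (f' * g') = p ^ n * 1 :=
      calc p ^ n * (f' * g') = f' * (p ^ n * g') := by ring
        _ = p ^ n := h1
        _ = p ^ n * 1 := (mul_one _).symm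
    exact mul_left_cancel₀ (pow_ne_zero n hp.ne_zero) this
  exact ⟨a, ⟨f', g', h3, by rw [mul_comm, h3]⟩, hff'⟩

theorem main (R : Type u) [CommRing R]
    [IsDomain R] [IsDiscreteValuationRing R] [CharZero R] (ϖ : R) (hϖ : Irreducible ϖ)
    (A : Type u) [CommRing A] [IsDomain A] [IsNoetherianRing A] [IsIntegrallyClosed A] [Algebra R A]
    (hinj : Function.Injective (algebraMap R A)) (hprime : (Ideal.span {algebraMap R A ϖ}).IsPrime)
    (m : ℕ) (hm : 0 < m) (f : A) (hf : IsUnit (algebraMap A (Localization.Away (algebraMap R A ϖ)) f))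
    [IsDomain (AdjoinRoot (Polynomial.X ^ m - Polynomial.C (algebraMap A (Localization.Away (algebraMap R A ϖ)) f)))]
    (hsp : (Ideal.span {algebraMap A (integralClosure A
        (AdjoinRoot (Polynomial.X ^ m - Polynomial.C (algebraMap A (Localization.Away (algebraMap R A ϖ)) f))))
          (algebraMap R A ϖ)}).IsPrime) :
    ∃ (q : ℕ) (u : Aˣ), f = algebraMap R A ϖ ^ (m * q) * (u : A) := by
  set p : A := algebraMap R A ϖ with hpdef
  have hp0 : p ≠ 0 := by
    intro h
    apply hϖ.ne_zero
    apply hinj
    rw [map_zero]; exact h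
  have hp : Prime p := (Ideal.span_singleton_prime hp0).1 hprime
  obtain ⟨a, u, hfu⟩ := eq_pow_mul_unit p hp f hf
  set L := Localization.Away p with hL
  have : IsDomain L := IsLocalization.isDomain_localization
    (powers_le_nonZeroDivisors_of_noZeroDivisors hp0)
  set P : L[X] := Polynomial.X ^ m - Polynomial.C (algebraMap A L f) with hP
  set S := AdjoinRoot P with hS
  -- it suffices to show `m ∣ a`
  suffices hdiv : m ∣ a by
    obtain ⟨q, rfl⟩ := hdiv
    exact ⟨q, u, hfu⟩
  by_contra hndiv
  set q := a / m with hq
  set r := a % m with hr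
  have hr0 : 0 < r := Nat.pos_of_ne_zero fun h => hndiv (Nat.dvd_of_mod_eq_zero h)
  have hrm : r < m := Nat.mod_lt _ hm
  have haqr : a = m * q + r := (Nat.div_add_mod a m).symm
  let ι : A →+* S := algebraMap A S
  have hιL : ∀ x : A, ι x = algebraMap L S (algebraMap A L x) := fun x => rfl
  have hPmonic : P.Monic := by
    rw [hP]
    exact monic_X_pow_sub_C _ (Nat.pos_iff_ne_zero.1 hm)
  have hPdeg : P.degree ≠ 0 := by
    rw [degree_eq_natDegree hPmonic.ne_zero, hP, natDegree_X_pow_sub_C]
    exact_mod_cast (Nat.pos_iff_ne_zero.1 hm)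
  have hιinj : Function.Injective ι := by
    have h1 : Function.Injective (algebraMap A L) :=
      IsLocalization.injective _ (powers_le_nonZeroDivisors_of_noZeroDivisors hp0)
    have h2 : Function.Injective (AdjoinRoot.of P) := AdjoinRoot.of.injective_of_degree_ne_zero hPdeg
    exact h2.comp h1
  -- the root and the inverse of `p`
  set z : S := AdjoinRoot.root P with hz
  have hzm : z ^ m = ι f := by
    have h := AdjoinRoot.eval₂_root P
    rw [hP, eval₂_sub, eval₂_pow, eval₂_X, eval₂_C, sub_eq_zero] at h
    exact h
  set pinv : S := algebraMap L S (IsLocalization.Away.invSelf p) with hpinv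
  have hpp : ι p * pinv = 1 := by
    rw [hιL, hpinv, ← map_mul, IsLocalization.Away.mul_invSelf, map_one]
  set w : S := z * pinv ^ q with hw
  have hwm : w ^ m = ι (p ^ r * u) := by
    rw [hw, mul_pow, hzm, hfu, haqr, pow_add, map_mul, map_mul, map_mul, map_pow, map_pow, ← pow_mul,
      mul_comm q m]
    have : (ι p) ^ (m * q) * pinv ^ (m * q) = 1 := by rw [← mul_pow, hpp, one_pow]
    calc ι p ^ (m * q) * ι p ^ r * ι ↑u * pinv ^ (m * q)
        = (ι p ^ (m * q) * pinv ^ (m * q)) * (ι p ^ r * ι ↑u) := by ring
      _ = ι p ^ r * ι ↑u := by rw [this, one_mul]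
  have hwint : IsIntegral A w := by
    apply IsIntegral.of_pow hm
    rw [hwm]
    exact isIntegral_algebraMap
  set B := integralClosure A S with hB
  let wB : B := ⟨w, hwint⟩
  have hwBm : wB ^ m = algebraMap A B (p ^ r * u) := by
    apply Subtype.ext
    exact hwm
  have hmem : wB ∈ Ideal.span {algebraMap A B p} := by
    apply hsp.mem_of_pow_mem m
    rw [hwBm, map_mul, map_pow, ← Nat.succ_pred_eq_of_pos hr0, pow_succ]
    refine Ideal.mul_mem_right _ _ (Ideal.mul_mem_left _ _ (Ideal.mem_span_singleton_self _))
  obtain ⟨w', hw'⟩ := Ideal.mem_span_singleton'.1 hmem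
  -- `w = w' * p`
  have hw'S : (w' : S) * ι p = w := congrArg Subtype.val hw'
  set t : S := (w' : S) ^ m with ht
  have htint : IsIntegral A t := w'.2.pow m
  have htp : ι (p ^ (m - r)) * t = ι (u : A) := by
    have h1 : t * ι p ^ m = ι p ^ r * ι (u : A) := by
      rw [ht, ← mul_pow, hw'S, hwm, map_mul, map_pow]
    have h2 : ι p ^ m = ι p ^ r * ι p ^ (m - r) := by
      rw [← pow_add]; congr 1; omega
    rw [h2] at h1
    have h3 : ι p ^ r ≠ 0 := pow_ne_zero _ (fun h => hp0 (hιinj (by rw [h, map_zero])))
    have h4 : ι p ^ r * (ι p ^ (m - r) * t) = ι p ^ r * ι (u : A) := by rw [← h1]; ring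
    rw [map_pow]
    exact mul_left_cancel₀ h3 h4
  obtain ⟨Q, hQmonic, hQ⟩ := htint
  have hdvd : p ^ (m - r) ∣ (u : A) ^ Q.natDegree :=
    dvd_pow_natDegree_of_eval₂_eq_zero hιinj hQmonic (p ^ (m - r)) (u : A) t hQ htp
  have hpu : p ∣ (u : A) ^ Q.natDegree := by
    refine dvd_trans ?_ hdvd
    exact dvd_pow_self p (by omega)
  have hpu' : p ∣ (u : A) := hp.dvd_of_dvd_pow hpu
  exact hp.not_isUnit (isUnit_of_dvd_unit hpu' u.isUnit)

end Aux

/-- Let R be a discrete valuation ring of characteristic zero with uniformizer π, and A a Noetherian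
integrally closed domain which is an R-algebra with injective structure map and in which πA is a
prime ideal (X = Spec A is normal, flat over R, with integral special fibre). Let m ≥ 1 and let f ∈
A be invertible in A[1/π] (so Z^m = f defines a μ_m-torsor over the generic fibre), such that S =
A[1/π][Z]/(Z^m − f) is an integral domain and, writing B for the integral closure of A in S (the
normalization of X in that cover), πB is a prime ideal of B (the normalization has integral special
fibre). Then f is, up to a unit of A, an m-th power of a power of π: f = π^{mq}·u with q ≥ 0 and u ∈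
A^×, so that the cover extends to the μ_m-torsor Z^m = u over all of X. (The published statement is
the existence and uniqueness of the extending μ_m-torsor over a normal faithfully flat R-scheme with
integral fibres, R containing a primitive m-th root of unity; this row is the affine computation
that carries the proof.) -/
theorem result (R : Type u) [CommRing R]
    [IsDomain R] [IsDiscreteValuationRing R] [CharZero R] (ϖ : R) (hϖ : Irreducible ϖ)
    (A : Type u) [CommRing A] [IsDomain A] [IsNoetherianRing A] [IsIntegrallyClosed A] [Algebra R A]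
    (hinj : Function.Injective (algebraMap R A)) (hprime : (Ideal.span {algebraMap R A ϖ}).IsPrime)
    (m : ℕ) (hm : 0 < m) (f : A) (hf : IsUnit (algebraMap A (Localization.Away (algebraMap R A ϖ)) f))
    [IsDomain (AdjoinRoot (Polynomial.X ^ m - Polynomial.C (algebraMap A (Localization.Away (algebraMap R A ϖ)) f)))]
    (hsp : (Ideal.span {algebraMap A (integralClosure A
        (AdjoinRoot (Polynomial.X ^ m - Polynomial.C (algebraMap A (Localization.Away (algebraMap R A ϖ)) f))))
          (algebraMap R A ϖ)}).IsPrime) :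
    ∃ (q : ℕ) (u : Aˣ), f = algebraMap R A ϖ ^ (m * q) * (u : A) := by
  exact Aux.main R ϖ hϖ A hinj hprime m hm f hf hsp

end Groth.Agent.S13155
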