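import Groth.Statements.S13156
import Mathlib

set_option autoImplicit false
universe u
open scoped Polynomial
open CAlg

namespace S13156aux
open Polynomial

theorem ode_iff_rec {R : Type*} [CommRing R] (lam μ : R) (F : R[X]) :
    F * C lam = derivative F * (1 + C μ * X) ↔
      ∀ m : ℕ, ((m : R) + 1) * F.coeff (m + 1) = (lam - (m : R) * μ) * F.coeff m := by
  have hcoef : ∀ m : ℕ, (derivative F * (1 + C μ * X)).coeff m =
      F.coeff (m + 1) * ((m : R) + 1) + μ * (F.coeff m * (m : R)) := by
    intro m
    have : derivative F * (1 + C μ * X) = derivative F + C μ * (derivative F * X) := by ring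
    rw [this, coeff_add, coeff_C_mul, coeff_derivative]
    rcases m with _ | m
    · simp
    · rw [coeff_mul_X, coeff_derivative]
      push_cast
      ring
  constructor
  · intro h m
    have := congrArg (fun G => G.coeff m) h
    simp only [coeff_mul_C, hcoef] at this
    linear_combination -this
  · intro h
    ext m
    rw [coeff_mul_C, hcoef]
    linear_combination -(h m)

theorem isUnit_succ {R : Type*} [CommRing R] (p : ℕ)
    (hu : IsUnit ((Nat.factorial (p - 1) : ℕ) : R)) (m : ℕ) (hm : m + 1 < p) :
    IsUnit ((m : R) + 1) := by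
  have h1 : (m + 1) ∣ Nat.factorial (p - 1) := Nat.dvd_factorial (by omega) (by omega)
  obtain ⟨c, hc⟩ := h1
  have : ((Nat.factorial (p - 1) : ℕ) : R) = ((m : R) + 1) * (c : R) := by
    rw [hc]; push_cast; ring
  rw [this] at hu
  exact isUnit_of_mul_isUnit_left hu

theorem ode_unique {R : Type*} [CommRing R] (p : ℕ)
    (hu : IsUnit ((Nat.factorial (p - 1) : ℕ) : R)) (lam μ : R) (G : R[X])
    (hG : G.natDegree < p) (h0 : G.coeff 0 = 0)
    (hode : G * C lam = derivative G * (1 + C μ * X)) : G = 0 := by
  rw [ode_iff_rec] at hode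
  ext m
  rw [coeff_zero]
  induction m with
  | zero => exact h0
  | succ m ih =>
    by_cases hm : m + 1 < p
    · have := hode m
      rw [ih, mul_zero] at this
      exact (isUnit_succ p hu m hm).mul_right_eq_zero.1 this
    · exact coeff_eq_zero_of_natDegree_lt (by omega)

theorem algebraMap_CC {A : Type u} [CommRing A] (a : A) :
    algebraMap A (A[X])[X] a = C (C a) := by
  rw [Polynomial.algebraMap_apply, Polynomial.algebraMap_apply]; rfl

theorem natDegree_aeval_le {A : Type u} [CommRing A] (F : A[X]) (V : (A[X])[X])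
    (hV : V.natDegree ≤ 1) : (aeval V F).natDegree ≤ F.natDegree := by
  rw [aeval_eq_sum_range]
  refine natDegree_sum_le_of_forall_le _ _ fun i hi => ?_
  have hi' : i ≤ F.natDegree := by
    have := Finset.mem_range.1 hi
    omega
  rw [Algebra.smul_def]
  refine (natDegree_mul_le).trans ?_
  have h1 : (algebraMap A (A[X])[X] (F.coeff i)).natDegree = 0 := by
    rw [algebraMap_CC, natDegree_C]
  have h2 : (V ^ i).natDegree ≤ i := by
    refine natDegree_pow_le.trans ?_
    calc i * V.natDegree ≤ i * 1 := Nat.mul_le_mul_left _ hV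
      _ = i := mul_one i
  omega

theorem key_identity {A : Type u} [CommRing A] (p : ℕ)
    (hu : IsUnit ((Nat.factorial (p - 1) : ℕ) : A)) (μ : A) (F : A[X]) (hF : F.natDegree < p)
    (hode : F * C (F.coeff 1) = derivative F * (1 + C μ * X)) :
    aeval (C X : (A[X])[X]) F * aeval (X : (A[X])[X]) F -
        aeval (C X + X + algebraMap A (A[X])[X] μ * C X * X : (A[X])[X]) F =
      algebraMap A (A[X])[X] (F.coeff 0 ^ 2 - F.coeff 0) := by
  set σ : (A[X])[X] := C X with hσ
  set τ : (A[X])[X] := X with hτ
  set m' : (A[X])[X] := algebraMap A (A[X])[X] μ with hm'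
  set U : (A[X])[X] := σ + τ + m' * σ * τ with hU
  have hrec := (ode_iff_rec (F.coeff 1) μ F).1 hode
  -- derivation in T
  let D : Derivation A (A[X])[X] (A[X])[X] :=
    (Polynomial.derivative' : Derivation A[X] (A[X])[X] (A[X])[X]).restrictScalars A
  have hD : ∀ G, D G = derivative G := fun G => rfl
  have hDσ : derivative σ = 0 := derivative_C
  have hDτ : derivative τ = 1 := derivative_X
  have hDm : derivative m' = 0 := by rw [hm', algebraMap_CC, derivative_C]
  have hDU : derivative U = 1 + m' * σ := by
    rw [hU, derivative_add, derivative_add, derivative_mul, derivative_mul, hDσ, hDτ, hDm]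
    ring
  have hd1 : derivative (aeval σ F) = 0 := by
    rw [← hD, Derivation.map_aeval, hD, hDσ, smul_zero]
  have hd2 : derivative (aeval τ F) = aeval τ (derivative F) := by
    rw [← hD, Derivation.map_aeval, hD, hDτ, smul_eq_mul, mul_one]
  have hd3 : derivative (aeval U F) = aeval U (derivative F) * (1 + m' * σ) := by
    rw [← hD, Derivation.map_aeval, hD, hDU, smul_eq_mul]
  -- the ODE transported
  have hodeV : ∀ V : (A[X])[X], aeval V F * algebraMap A (A[X])[X] (F.coeff 1) =
      aeval V (derivative F) * (1 + m' * V) := by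
    intro V
    have := congrArg (aeval V) hode
    simpa [hm'] using this
  -- degrees
  have hτdeg : τ.natDegree ≤ 1 := natDegree_X_le
  have hUdeg : U.natDegree ≤ 1 := by
    have : U = C (1 + C μ * X) * X + C X := by
      rw [hU, hσ, hτ, hm', algebraMap_CC]
      simp only [map_add, map_mul, map_one]
      ring
    rw [this]
    exact natDegree_linear_le
  set c₀ : A[X] := F * C (F.coeff 0) - F with hc₀
  set G : (A[X])[X] := aeval σ F * aeval τ F - aeval U F - C c₀ with hG
  have hGdeg : G.natDegree < p := by
    have h1 : (aeval σ F * aeval τ F).natDegree ≤ F.natDegree := by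
      refine natDegree_mul_le.trans ?_
      have : (aeval σ F).natDegree = 0 := by
        have : aeval σ F = C (aeval X F) := by
          rw [hσ]
          exact (aeval_algHom_apply (IsScalarTower.toAlgHom A A[X] (A[X])[X]) X F)
        rw [this, natDegree_C]
      have h2 := natDegree_aeval_le F τ hτdeg
      omega
    have h2 := natDegree_aeval_le F U hUdeg
    have h3 : (aeval σ F * aeval τ F - aeval U F).natDegree ≤ F.natDegree :=
      (natDegree_sub_le _ _).trans (max_le h1 h2)
    have h4 : G.natDegree ≤ F.natDegree := by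
      refine (natDegree_sub_le _ _).trans (max_le h3 ?_)
      rw [natDegree_C]; omega
    omega
  -- coefficient zero
  let ε₀ : (A[X])[X] →ₐ[A] A[X] := aevalTower (AlgHom.id A A[X]) (0 : A[X])
  have hε₀ : ∀ H : (A[X])[X], ε₀ H = H.coeff 0 := by
    intro H
    show eval₂ (AlgHom.id A A[X] : A[X] →+* A[X]) 0 H = _
    rw [eval₂_at_zero]
    rfl
  have hεσ : ε₀ σ = X := by rw [hσ]; exact aevalTower_C _ _ _
  have hετ : ε₀ τ = 0 := by rw [hτ]; exact aevalTower_X _ _
  have hεU : ε₀ U = X := by
    rw [hU, map_add, map_add, map_mul, map_mul, hεσ, hετ]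
    ring
  have hG0 : G.coeff 0 = 0 := by
    rw [← hε₀, hG, map_sub, map_sub, map_mul, ← aeval_algHom_apply, ← aeval_algHom_apply,
      ← aeval_algHom_apply, hεσ, hετ, hεU, hε₀, coeff_C_zero, aeval_X_left_apply, hc₀]
    have : aeval (0 : A[X]) F = C (F.coeff 0) := by
      rw [← coeff_zero_eq_aeval_zero']
      rfl
    rw [this]
    ring
  -- the ODE for G
  have hc₀1 : c₀ * C (F.coeff 1) = 0 := by
    have h0 := hrec 0
    simp only [Nat.cast_zero, zero_add, one_mul, zero_mul, sub_zero] at h0
    rw [hc₀, sub_mul, mul_assoc, ← C_mul, ← mul_sub]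
    have : F.coeff 0 * F.coeff 1 - F.coeff 1 = 0 := by linear_combination -h0
    rw [← C_sub, this, C_0, mul_zero]
  have hGode : G * C (C (F.coeff 1)) = derivative G * (1 + C (C μ) * X) := by
    have e1 := hodeV τ
    have e2 := hodeV U
    have ha : algebraMap A (A[X])[X] (F.coeff 1) = C (C (F.coeff 1)) := algebraMap_CC _
    have hm'' : m' = C (C μ) := by
      rw [hm', algebraMap_CC]
    rw [ha] at e1 e2
    rw [hG, derivative_sub, derivative_sub, derivative_mul, hd1, hd2, hd3, derivative_C,
      sub_mul, sub_mul, ← C_mul, hc₀1, C_0, ← hm'', ← hτ]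
    have e3 : aeval σ F * aeval τ F * C (C (F.coeff 1)) =
        aeval σ F * (aeval τ (derivative F) * (1 + m' * τ)) := by
      rw [mul_assoc, e1]
    rw [e3, e2, hU]
    ring
  have hG_zero : G = 0 := by
    refine ode_unique p ?_ (C (F.coeff 1)) (C μ) G hGdeg hG0 hGode
    have := hu.map (algebraMap A A[X])
    simpa using this
  -- (a₀ - 1) aₘ = 0 for m ≥ 1
  have hZ : ∀ m : ℕ, F.coeff (m + 1) * (F.coeff 0 - 1) = 0 := by
    intro m
    induction m with
    | zero =>
      have h0 := hrec 0
      simp only [Nat.cast_zero, zero_add, one_mul, zero_mul, sub_zero] at h0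
      linear_combination -h0
    | succ m ih =>
      by_cases hm : m + 1 + 1 < p
      · have h1 := hrec (m + 1)
        have h2 : (((m + 1 : ℕ) : A) + 1) * (F.coeff (m + 1 + 1) * (F.coeff 0 - 1)) = 0 := by
          linear_combination (F.coeff 0 - 1) * h1 + (F.coeff 1 - ((m + 1 : ℕ) : A) * μ) * ih
        exact (isUnit_succ p hu (m + 1) hm).mul_right_eq_zero.1 h2
      · rw [coeff_eq_zero_of_natDegree_lt (by omega), zero_mul]
  have hc₀' : c₀ = C (F.coeff 0 ^ 2 - F.coeff 0) := by
    ext m
    rw [hc₀, coeff_sub, coeff_mul_C, coeff_C]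
    rcases m with _ | m
    · simp; ring
    · simp only [Nat.succ_ne_zero, if_false]
      linear_combination hZ m
  have : aeval σ F * aeval τ F - aeval U F = C c₀ := by
    have := hG_zero
    rw [hG] at this
    exact sub_eq_zero.1 this
  rw [this, hc₀', algebraMap_CC]

end S13156aux

namespace Groth.Agent.S13156

/-- Let p be a prime number, A a commutative ring in which (p−1)! is invertible, μ an element of A, and
F ∈ A[X] a polynomial of degree at most p − 1 with coefficients a_0, a_1, …. Then the identity
F(S)·F(T) − a_0² = F(S + T + μST) − a_0 holds in the polynomial ring A[S, T] if and only if a_1·F(S)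
= F′(S)·(1 + μS) holds in A[S], F′ the formal derivative. (The published statement is over the
quotient of a discrete valuation ring of residue characteristic p by a nonzero element of its
maximal ideal; only the invertibility of 1, …, p − 1 is used, so an arbitrary such ring A is allowed
here.) -/
theorem result (A : Type u) [CommRing A] (p : ℕ) [Fact p.Prime]
    (hu : IsUnit ((Nat.factorial (p - 1) : ℕ) : A)) (μ : A) (F : A[X]) (hF : F.natDegree < p) :
    (Polynomial.aeval (MvPolynomial.X 0 : MvPolynomial (Fin 2) A) F *
          Polynomial.aeval (MvPolynomial.X 1 : MvPolynomial (Fin 2) A) F - MvPolynomial.C (F.coeff 0 ^ 2) =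
        Polynomial.aeval (MvPolynomial.X 0 + MvPolynomial.X 1 +
            MvPolynomial.C μ * MvPolynomial.X 0 * MvPolynomial.X 1 : MvPolynomial (Fin 2) A) F -
          MvPolynomial.C (F.coeff 0)) ↔
      F * Polynomial.C (F.coeff 1) = Polynomial.derivative F * (1 + Polynomial.C μ * Polynomial.X) := by
  constructor
  · intro h
    -- differentiate with respect to T
    let D : Derivation A (MvPolynomial (Fin 2) A) (MvPolynomial (Fin 2) A) := MvPolynomial.pderiv 1
    have hD0 : D (MvPolynomial.X 0) = 0 := MvPolynomial.pderiv_X_of_ne (by decide)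
    have hD1 : D (MvPolynomial.X 1) = 1 := MvPolynomial.pderiv_X_self 1
    have hDC : ∀ a : A, D (MvPolynomial.C a) = 0 := fun a => MvPolynomial.pderiv_C
    have hDU : D (MvPolynomial.X 0 + MvPolynomial.X 1 +
        MvPolynomial.C μ * MvPolynomial.X 0 * MvPolynomial.X 1) =
        1 + MvPolynomial.C μ * MvPolynomial.X 0 := by
      rw [map_add, map_add, Derivation.leibniz, Derivation.leibniz, hD0, hD1, hDC]
      simp only [smul_eq_mul]
      ring
    have h' := congrArg D h
    rw [map_sub, map_sub, hDC, hDC, sub_zero, sub_zero, Derivation.leibniz,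
      Derivation.map_aeval, Derivation.map_aeval, Derivation.map_aeval, hD0, hD1, hDU] at h'
    simp only [smul_eq_mul, mul_zero, add_zero, mul_one] at h'
    -- specialize S = X, T = 0
    let φ : MvPolynomial (Fin 2) A →ₐ[A] A[X] := MvPolynomial.aeval ![Polynomial.X, 0]
    have hφ0 : φ (MvPolynomial.X 0) = Polynomial.X := by
      show MvPolynomial.aeval _ _ = _
      rw [MvPolynomial.aeval_X]; rfl
    have hφ1 : φ (MvPolynomial.X 1) = 0 := by
      show MvPolynomial.aeval _ _ = _
      rw [MvPolynomial.aeval_X]; rfl
    have hφC : ∀ a : A, φ (MvPolynomial.C a) = Polynomial.C a := by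
      intro a
      show MvPolynomial.aeval _ _ = _
      rw [MvPolynomial.aeval_C]; rfl
    have h'' := congrArg φ h'
    simp only [map_mul, map_add, map_one, ← Polynomial.aeval_algHom_apply,
      hφ0, hφ1, hφC, mul_zero, add_zero, Polynomial.aeval_X_left_apply] at h''
    have h0 : Polynomial.aeval (0 : A[X]) (Polynomial.derivative F) = Polynomial.C (F.coeff 1) := by
      have : Polynomial.aeval (0 : A[X]) (Polynomial.derivative F) =
          algebraMap A A[X] ((Polynomial.derivative F).coeff 0) :=
        (Polynomial.coeff_zero_eq_aeval_zero' _).symm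
      rw [this, Polynomial.coeff_derivative]
      simp
    rw [h0] at h''
    exact h''
  · intro h
    have key := S13156aux.key_identity p hu μ F hF h
    let Ψ : (A[X])[X] →ₐ[A] MvPolynomial (Fin 2) A :=
      Polynomial.aevalTower (Polynomial.aeval (MvPolynomial.X 0)) (MvPolynomial.X 1)
    have hΨσ : Ψ (Polynomial.C Polynomial.X) = MvPolynomial.X 0 := by
      show Polynomial.aevalTower _ _ _ = _
      rw [Polynomial.aevalTower_C, Polynomial.aeval_X]
    have hΨτ : Ψ Polynomial.X = MvPolynomial.X 1 := Polynomial.aevalTower_X _ _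
    have key' := congrArg Ψ key
    simp only [map_sub, map_mul, map_add, ← Polynomial.aeval_algHom_apply, hΨσ, hΨτ,
      AlgHom.commutes, MvPolynomial.algebraMap_eq, map_pow] at key'
    rw [map_pow]
    linear_combination key'

end Groth.Agent.S13156
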