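import Groth.Statements.S13157
import Mathlib

set_option autoImplicit false
universe u
open scoped Polynomial
open CAlg

namespace S13157aux
open Polynomial

theorem ode_iff_rec {A : Type u} [CommRing A] (μ : A) (F : A[X]) :
    F * C (F.coeff 1) = derivative F * (1 + C μ * X) ↔
      ∀ m : ℕ, ((m : A) + 1) * F.coeff (m + 1) = (F.coeff 1 - (m : A) * μ) * F.coeff m := by
  have hcoef : ∀ m : ℕ, (derivative F * (1 + C μ * X)).coeff m =
      F.coeff (m + 1) * ((m : A) + 1) + μ * (F.coeff m * (m : A)) := by
    intro m
    have : derivative F * (1 + C μ * X) = derivative F + C μ * (derivative F * X) := by ring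
    rw [this, coeff_add, coeff_C_mul, coeff_derivative]
    rcases m with _ | m
    · simp
    · rw [coeff_mul_X, coeff_derivative]
      push_cast
      ring
  constructor
  · intro h m
    have := congrArg (fun G => G.coeff m) h
    simp only [coeff_mul_C, hcoef] at this
    linear_combination -this
  · intro h
    ext m
    rw [coeff_mul_C, hcoef]
    linear_combination -(h m)

end S13157aux

namespace Groth.Agent.S13157

/-- (i) ⇔ (ii): let p be a prime number, A a commutative ring in which (p−1)! is invertible, μ ∈ A, and
F ∈ A[X] a polynomial of degree at most p − 1 with constant term a_0 = 1 and coefficients a_1, a_2,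
…. Then the relations a_{r−1}·a_1 = (r − 1)μ·a_{r−1} + r·a_r for 1 ≤ r ≤ p (with a_p = 0), written
here as the single identity a_1·F = F′·(1 + μX), hold if and only if r!·a_r = ∏_{k=0}^{r−1} (a_1 −
kμ) for every 1 ≤ r ≤ p − 1 and ∏_{k=0}^{p−1} (a_1 − kμ) = 0. (The published statement lists the
relations only for 1 ≤ r ≤ p − 1, while its proof uses and derives the relation for r = p as well,
which is needed for the vanishing of the last product; it is included here. The published setting is
the quotient of a discrete valuation ring of residue characteristic p by a nonzero non-unit; only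
the invertibility of 1, …, p − 1 is used.) -/
theorem result (A : Type u) [CommRing A] (p : ℕ) [Fact p.Prime]
    (hu : IsUnit ((Nat.factorial (p - 1) : ℕ) : A)) (μ : A) (F : A[X]) (hF : F.natDegree < p)
    (h0 : F.coeff 0 = 1) :
    F * Polynomial.C (F.coeff 1) = Polynomial.derivative F * (1 + Polynomial.C μ * Polynomial.X) ↔
      ((∀ r : ℕ, 1 ≤ r → r < p →
          (r.factorial : A) * F.coeff r = ∏ k ∈ Finset.range r, (F.coeff 1 - (k : A) * μ)) ∧
        ∏ k ∈ Finset.range p, (F.coeff 1 - (k : A) * μ) = 0) := by
  have hp : p.Prime := Fact.out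
  rw [S13157aux.ode_iff_rec]
  have hunit : ∀ m : ℕ, m ≤ p - 1 → IsUnit ((m.factorial : ℕ) : A) := by
    intro m hm
    obtain ⟨c, hc⟩ := Nat.factorial_dvd_factorial hm
    have : ((Nat.factorial (p - 1) : ℕ) : A) = (m.factorial : A) * (c : A) := by
      rw [hc]; push_cast; ring
    rw [this] at hu
    exact isUnit_of_mul_isUnit_left hu
  have hcoeff_zero : ∀ m : ℕ, p ≤ m → F.coeff m = 0 := fun m hm =>
    Polynomial.coeff_eq_zero_of_natDegree_lt (lt_of_lt_of_le hF hm)
  constructor
  · intro hrec
    have hQ : ∀ r : ℕ, (r.factorial : A) * F.coeff r =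
        ∏ k ∈ Finset.range r, (F.coeff 1 - (k : A) * μ) := by
      intro r
      induction r with
      | zero => simp [h0]
      | succ r ih =>
        rw [Finset.prod_range_succ, ← ih, Nat.factorial_succ]
        push_cast
        linear_combination (r.factorial : A) * hrec r
    refine ⟨fun r _ _ => hQ r, ?_⟩
    rw [← hQ p, hcoeff_zero p le_rfl, mul_zero]
  · rintro ⟨hQ, hprod⟩
    have hQ' : ∀ r : ℕ, r < p → (r.factorial : A) * F.coeff r =
        ∏ k ∈ Finset.range r, (F.coeff 1 - (k : A) * μ) := by
      intro r hr
      rcases Nat.eq_zero_or_pos r with rfl | hr0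
      · simp [h0]
      · exact hQ r hr0 hr
    intro m
    rcases lt_trichotomy (m + 1) p with hlt | heq | hgt
    · -- m + 1 < p
      have h1 := hQ' (m + 1) hlt
      have h2 := hQ' m (by omega)
      rw [Finset.prod_range_succ, ← h2, Nat.factorial_succ] at h1
      push_cast at h1
      have h3 : (m.factorial : A) * (((m : A) + 1) * F.coeff (m + 1) -
          (F.coeff 1 - (m : A) * μ) * F.coeff m) = 0 := by linear_combination h1
      have := (hunit m (by omega)).mul_right_eq_zero.1 h3
      exact sub_eq_zero.1 this
    · -- m + 1 = p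
      rw [heq, hcoeff_zero p le_rfl, mul_zero] 
      have h2 := hQ' m (by omega)
      have h3 : (m.factorial : A) * ((F.coeff 1 - (m : A) * μ) * F.coeff m) = 0 := by
        rw [← heq, Finset.prod_range_succ, ← h2] at hprod
        linear_combination hprod
      exact ((hunit m (by omega)).mul_right_eq_zero.1 h3).symm
    · rw [hcoeff_zero (m + 1) (by omega), hcoeff_zero m (by omega), mul_zero, mul_zero]

end Groth.Agent.S13157
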