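import Groth.Statements.S13158
import Mathlib

set_option autoImplicit false
universe u
open CAlg

namespace S13158aux

theorem key_ineq (p j t : ℕ) (hp : 1 ≤ p) :
    p ^ (j + t) ≤ p ^ j + t * ((p - 1) * p ^ (j + t - 1)) := by
  induction t with
  | zero => simp
  | succ t ih =>
    have h1 : p ^ (j + (t + 1)) = p ^ (j + t) + (p - 1) * p ^ (j + t) := by
      rw [← add_assoc, pow_succ]
      obtain ⟨q, rfl⟩ : ∃ q, p = q + 1 := ⟨p - 1, by omega⟩
      simp only [Nat.add_sub_cancel]
      ring
    have h2 : p ^ (j + t - 1) ≤ p ^ (j + t) := Nat.pow_le_pow_right hp (Nat.sub_le _ _)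
    have h3 : j + (t + 1) - 1 = j + t := by omega
    rw [h1, h3]
    have h4 : t * ((p - 1) * p ^ (j + t - 1)) ≤ t * ((p - 1) * p ^ (j + t)) :=
      Nat.mul_le_mul_left _ (Nat.mul_le_mul_left _ h2)
    have h5 : (t + 1) * ((p - 1) * p ^ (j + t)) =
        t * ((p - 1) * p ^ (j + t)) + (p - 1) * p ^ (j + t) := by ring
    omega

theorem choose_dvd {R : Type*} [CommRing R] (p n : ℕ) (hp : p.Prime) (lam : R)
    (hstar : lam ^ (p ^ (n - 1) * (p - 1)) ∣ (p : R)) (k : ℕ) (hk1 : 1 ≤ k) (hk : k ≤ p ^ n) :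
    lam ^ (p ^ n - k) ∣ ((Nat.choose (p ^ n) k : ℕ) : R) := by
  set j := k.factorization p with hj
  set t := (Nat.choose (p ^ n) k).factorization p with ht
  have htj : t + j = n :=
    Nat.factorization_choose_prime_pow_add_factorization hp hk (by omega)
  have h1 : p ^ t ∣ Nat.choose (p ^ n) k := Nat.ordProj_dvd _ _
  have h2 : p ^ j ∣ k := Nat.ordProj_dvd _ _
  have h3 : p ^ j ≤ k := Nat.le_of_dvd (by omega) h2
  have h4 : p ^ n ≤ p ^ j + t * ((p - 1) * p ^ (n - 1)) := by
    have := key_ineq p j t hp.one_le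
    rw [show j + t = n by omega] at this
    exact this
  have h5 : p ^ n - k ≤ t * (p ^ (n - 1) * (p - 1)) := by
    have : (p - 1) * p ^ (n - 1) = p ^ (n - 1) * (p - 1) := mul_comm _ _
    rw [this] at h4
    omega
  have h6 : lam ^ (t * (p ^ (n - 1) * (p - 1))) ∣ ((p : R)) ^ t := by
    rw [mul_comm t, pow_mul]
    exact pow_dvd_pow_of_dvd hstar t
  have h7 : ((p : R)) ^ t ∣ ((Nat.choose (p ^ n) k : ℕ) : R) := by
    obtain ⟨w, hw⟩ := h1
    rw [hw]
    push_cast
    exact dvd_mul_right _ _
  exact (pow_dvd_pow lam h5).trans (h6.trans h7)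

/-- the expansion of `(lam s + 1)^(N+1) - 1` -/
theorem expand {R S : Type*} [CommRing R] [CommRing S] (φ : R →+* S) (N : ℕ) (lam : R)
    (c : ℕ → R)
    (hc : ∀ k, 1 ≤ k → k ≤ N + 1 → ((Nat.choose (N + 1) k : ℕ) : R) = lam ^ (N + 1 - k) * c k)
    (s : S) :
    (φ lam * s + 1) ^ (N + 1) - 1 =
      φ lam ^ (N + 1) * ∑ k ∈ Finset.range (N + 1), φ (c (k + 1)) * s ^ (k + 1) := by
  rw [add_pow, Finset.sum_range_succ', Finset.mul_sum]
  simp only [pow_zero, one_pow, mul_one, Nat.choose_zero_right, Nat.cast_one, add_sub_cancel_right]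
  refine Finset.sum_congr rfl fun k hk => ?_
  have hk' : k + 1 ≤ N + 1 := by
    have := Finset.mem_range.1 hk
    omega
  have h1 : ((Nat.choose (N + 1) (k + 1) : ℕ) : S) = φ lam ^ (N + 1 - (k + 1)) * φ (c (k + 1)) := by
    have := congrArg φ (hc (k + 1) (by omega) hk')
    simpa using this
  rw [h1, mul_pow]
  have h2 : φ lam ^ (N + 1) = φ lam ^ (k + 1) * φ lam ^ (N + 1 - (k + 1)) := by
    rw [← pow_add]
    congr 1
    omega
  rw [h2]
  ring

end S13158aux

namespace Groth.Agent.S13158

/-- Let R be a discrete valuation ring of characteristic zero whose maximal ideal contains the prime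
number p, let n ≥ 1, and let λ be a nonzero element of R such that λ^(p^(n−1)(p−1)) divides p (the
condition v(p) ≥ p^(n−1)(p−1)·v(λ) under which the polynomial ((1 + λT)^(p^n) − 1)/λ^(p^n) has
coefficients in R). Let A be an integrally closed integral domain which is a faithfully flat
R-algebra. Then for every unit x of A, λ^(p^n) divides x^(p^n) − 1 in A if and only if λ divides x −
1 in A. -/
theorem result (R : Type u) [CommRing R]
    [IsDomain R] [IsDiscreteValuationRing R] [CharZero R] (p n : ℕ) [Fact p.Prime] (hn : 1 ≤ n)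
    (hp : (p : R) ∈ IsLocalRing.maximalIdeal R) (lam : R) (hlam : lam ≠ 0)
    (hstar : lam ^ (p ^ (n - 1) * (p - 1)) ∣ (p : R))
    (A : Type u) [CommRing A] [IsDomain A] [IsIntegrallyClosed A] [Algebra R A] [Module.FaithfullyFlat R A]
    (x : Aˣ) :
    (algebraMap R A lam ^ p ^ n ∣ (x : A) ^ p ^ n - 1) ↔ (algebraMap R A lam ∣ (x : A) - 1) := by
  classical
  have hpp : p.Prime := Fact.out
  obtain ⟨N, hN⟩ : ∃ N, p ^ n = N + 1 := ⟨p ^ n - 1, by have := Nat.pow_pos (n := n) hpp.pos; omega⟩
  have hdvd : ∀ k, 1 ≤ k → k ≤ N + 1 → lam ^ (N + 1 - k) ∣ ((Nat.choose (N + 1) k : ℕ) : R) := by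
    intro k hk1 hk
    rw [← hN]
    exact S13158aux.choose_dvd p n hpp lam hstar k hk1 (by omega)
  let c : ℕ → R := fun k => if h : 1 ≤ k ∧ k ≤ N + 1 then Classical.choose (hdvd k h.1 h.2) else 0
  have hc : ∀ k, 1 ≤ k → k ≤ N + 1 →
      ((Nat.choose (N + 1) k : ℕ) : R) = lam ^ (N + 1 - k) * c k := by
    intro k hk1 hk
    simp only [c, dif_pos (And.intro hk1 hk)]
    exact Classical.choose_spec (hdvd k hk1 hk)
  have hcN : c (N + 1) = 1 := by
    have := hc (N + 1) (by omega) le_rfl
    simpa using this.symm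
  have hinj : Function.Injective (algebraMap R A) := FaithfulSMul.algebraMap_injective R A
  have hlamA : algebraMap R A lam ≠ 0 := fun h => hlam (hinj (by rw [h, map_zero]))
  rw [hN]
  constructor
  · -- hard direction
    rintro ⟨cc, hcc⟩
    let K := FractionRing A
    have hinjK : Function.Injective (algebraMap A K) := IsFractionRing.injective A K
    set l : K := algebraMap A K (algebraMap R A lam) with hl
    have hl0 : l ≠ 0 := fun h => hlamA (hinjK (by rw [← hl, h, map_zero]))
    set y : K := (algebraMap A K (x : A) - 1) / l with hy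
    have hly : l * y + 1 = algebraMap A K (x : A) := by
      rw [hy, mul_div_cancel₀ _ hl0, sub_add_cancel]
    have hexp := S13158aux.expand ((algebraMap A K).comp (algebraMap R A)) N lam c hc y
    simp only [RingHom.comp_apply] at hexp
    rw [← hl, hly] at hexp
    have hcc' : algebraMap A K (x : A) ^ (N + 1) - 1 = l ^ (N + 1) * algebraMap A K cc := by
      have := congrArg (algebraMap A K) hcc
      simpa using this
    rw [hcc'] at hexp
    have hQ : algebraMap A K cc =
        ∑ k ∈ Finset.range (N + 1), algebraMap A K (algebraMap R A (c (k + 1))) * y ^ (k + 1) :=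
      mul_left_cancel₀ (pow_ne_zero _ hl0) hexp
    rw [Finset.sum_range_succ, hcN, map_one, map_one, one_mul] at hQ
    -- integrality
    have hint : IsIntegral A y := by
      let rest : Polynomial A := ∑ k ∈ Finset.range N,
        Polynomial.C (algebraMap R A (c (k + 1))) * Polynomial.X ^ (k + 1) - Polynomial.C cc
      have hdeg : rest.degree < ((N + 1 : ℕ) : WithBot ℕ) := by
        rw [← Polynomial.mem_degreeLT]
        refine Submodule.sub_mem _ (Submodule.sum_mem _ fun k hk => ?_) ?_
        · rw [Polynomial.mem_degreeLT]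
          refine lt_of_le_of_lt (Polynomial.degree_C_mul_X_pow_le _ _) ?_
          have := Finset.mem_range.1 hk
          exact_mod_cast (by omega : k + 1 < N + 1)
        · rw [Polynomial.mem_degreeLT]
          refine lt_of_le_of_lt Polynomial.degree_C_le ?_
          exact_mod_cast (by omega : 0 < N + 1)
      refine ⟨Polynomial.X ^ (N + 1) + rest, Polynomial.monic_X_pow_add hdeg, ?_⟩
      rw [← Polynomial.aeval_def]
      simp only [rest, map_add, map_sub, map_sum, map_mul, map_pow, Polynomial.aeval_X,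
        Polynomial.aeval_C]
      rw [hQ]
      ring
    obtain ⟨a, ha⟩ := IsIntegrallyClosed.isIntegral_iff.1 hint
    refine ⟨a, ?_⟩
    apply hinjK
    rw [map_sub, map_one, map_mul, ha, ← hl, ← hly]
    ring
  · rintro ⟨a, ha⟩
    have hexp := S13158aux.expand (algebraMap R A) N lam c hc a
    have hx : algebraMap R A lam * a + 1 = (x : A) := by rw [← ha]; ring
    rw [hx] at hexp
    exact ⟨_, hexp⟩

end Groth.Agent.S13158
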