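import Groth.Statements.S13160
import Mathlib
-- import your own Groth.Agent.* helpers here

set_option autoImplicit false
universe u
open CAlg

namespace Groth.Agent.S13160

namespace Aux

open MvPolynomial Finset

section universal

variable (p : ℕ) [hp : Fact p.Prime]

/-- each Witt addition polynomial lies in the ideal of the variables -/
theorem WA_mem_J (n : ℕ) : WittVector.wittAdd p n ∈ idealOfVars (Fin 2 × ℕ) ℤ := by
  have h := (mem_pow_idealOfVars_iff' (σ := Fin 2 × ℕ) (R := ℤ) 1 (WittVector.wittAdd p n)).mpr ?_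
  · rwa [pow_one] at h
  · intro x hx
    have : x = 0 := (Finsupp.degree_eq_zero_iff x).mp (by omega)
    rw [this, ← constantCoeff_eq]
    exact WittVector.constantCoeff_wittAdd p n

theorem X_mem_J (i : Fin 2 × ℕ) : (X i : MvPolynomial (Fin 2 × ℕ) ℤ) ∈ idealOfVars (Fin 2 × ℕ) ℤ :=
  Ideal.subset_span ⟨i, rfl⟩

theorem pow_mem_Jp {f : MvPolynomial (Fin 2 × ℕ) ℤ} (hf : f ∈ idealOfVars (Fin 2 × ℕ) ℤ)
    {k : ℕ} (hk : 1 ≤ k) : f ^ p ^ k ∈ idealOfVars (Fin 2 × ℕ) ℤ ^ p := by
  have h1 : f ^ p ^ k ∈ idealOfVars (Fin 2 × ℕ) ℤ ^ p ^ k := Ideal.pow_mem_pow hf _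
  have h2 : p ≤ p ^ k := by
    calc p = p ^ 1 := (pow_one p).symm
      _ ≤ p ^ k := Nat.pow_le_pow_right hp.out.pos hk
  exact Ideal.pow_le_pow_right h2 h1

theorem wittAdd_sub_mem (n : ℕ) :
    WittVector.wittAdd p n - X (0, n) - X (1, n) ∈ idealOfVars (Fin 2 × ℕ) ℤ ^ p := by
  have hprop := wittStructureInt_prop p (X (0 : Fin 2) + X 1) n
  rw [map_add, bind₁_X_right, bind₁_X_right, wittPolynomial_eq_sum_C_mul_X_pow, map_sum, map_sum,
    map_sum, Finset.sum_range_succ, Finset.sum_range_succ, Finset.sum_range_succ] at hprop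
  simp only [map_mul, map_pow, bind₁_X_right, rename_X, bind₁_C_right, rename_C, Nat.sub_self,
    pow_zero, pow_one] at hprop
  have key : C ((p : ℤ) ^ n) * (WittVector.wittAdd p n - X (0, n) - X (1, n)) ∈
      idealOfVars (Fin 2 × ℕ) ℤ ^ p := by
    have e : C ((p : ℤ) ^ n) * (WittVector.wittAdd p n - X (0, n) - X (1, n)) =
        ∑ i ∈ range n, C ((p : ℤ) ^ i) * (X (0, i) ^ p ^ (n - i) + X (1, i) ^ p ^ (n - i)
          - WittVector.wittAdd p i ^ p ^ (n - i)) := by
      have e2 : ∑ i ∈ range n, C ((p : ℤ) ^ i) * (X (0, i) ^ p ^ (n - i) + X (1, i) ^ p ^ (n - i)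
          - WittVector.wittAdd p i ^ p ^ (n - i)) =
          ∑ i ∈ range n, C ((p : ℤ) ^ i) * X (0, i) ^ p ^ (n - i) +
          ∑ i ∈ range n, C ((p : ℤ) ^ i) * X (1, i) ^ p ^ (n - i) -
          ∑ i ∈ range n, C ((p : ℤ) ^ i) * WittVector.wittAdd p i ^ p ^ (n - i) := by
        rw [← Finset.sum_add_distrib, ← Finset.sum_sub_distrib]
        apply Finset.sum_congr rfl
        intro i _
        ring
      rw [e2]
      unfold WittVector.wittAdd
      simp only [C_pow]
      linear_combination hprop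
    rw [e]
    apply Ideal.sum_mem
    intro i hi
    have hi' : 1 ≤ n - i := by
      have := Finset.mem_range.mp hi
      omega
    apply Ideal.mul_mem_left
    exact Ideal.sub_mem _ (Ideal.add_mem _ (pow_mem_Jp p (X_mem_J _) hi')
      (pow_mem_Jp p (X_mem_J _) hi')) (pow_mem_Jp p (WA_mem_J p i) hi')
  rw [mem_pow_idealOfVars_iff'] at key ⊢
  intro x hx
  have := key x hx
  rw [coeff_C_mul] at this
  rcases mul_eq_zero.mp this with h | h
  · exact absurd h (pow_ne_zero _ (by exact_mod_cast hp.out.ne_zero))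
  · exact h

end universal


section eval

variable {A : Type u} [CommRing A]

theorem aeval_mem_pow (I : Ideal A) (x : Fin 2 × ℕ → A) (hx : ∀ i, x i ∈ I) (k : ℕ)
    (f : MvPolynomial (Fin 2 × ℕ) ℤ) (hf : f ∈ idealOfVars (Fin 2 × ℕ) ℤ ^ k) :
    aeval x f ∈ I ^ k := by
  have h1 : Ideal.map (aeval x : MvPolynomial (Fin 2 × ℕ) ℤ →ₐ[ℤ] A) (idealOfVars (Fin 2 × ℕ) ℤ) ≤ I := by
    rw [Ideal.map_span, Ideal.span_le]
    rintro _ ⟨_, ⟨i, rfl⟩, rfl⟩
    rw [aeval_X]
    exact hx i
  have h2 := Ideal.mem_map_of_mem (aeval x : MvPolynomial (Fin 2 × ℕ) ℤ →ₐ[ℤ] A) hf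
  rw [Ideal.map_pow] at h2
  exact Ideal.pow_right_mono h1 k h2

end eval

section main

theorem main (R : Type u) [CommRing R] [IsDomain R]
    [IsDiscreteValuationRing R] (p : ℕ) [Fact p.Prime] (lam : R) (hlam : lam ∣ (p : R))
    (a b : WittVector p (R ⧸ Ideal.span {lam})) (ha : WittVector.frobenius a = 0)
    (hb : WittVector.frobenius b = 0) (n : ℕ) : (a + b).coeff n = a.coeff n + b.coeff n := by
  rcases subsingleton_or_nontrivial (R ⧸ Ideal.span {lam}) with hs | hnt
  · exact Subsingleton.elim _ _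
  have hp0 : ((p : ℕ) : R ⧸ Ideal.span {lam}) = 0 := by
    have : ((p : ℕ) : R ⧸ Ideal.span {lam}) = Ideal.Quotient.mk (Ideal.span {lam}) (p : R) := by
      rw [map_natCast]
    rw [this, Ideal.Quotient.eq_zero_iff_mem, Ideal.mem_span_singleton]
    exact hlam
  have : CharP (R ⧸ Ideal.span {lam}) p := (CharP.charP_iff_prime_eq_zero (Fact.out)).mpr hp0
  have : IsPrincipalIdealRing (R ⧸ Ideal.span {lam}) :=
    IsPrincipalIdealRing.of_surjective (Ideal.Quotient.mk (Ideal.span {lam}))
      Ideal.Quotient.mk_surjective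
  -- the ideal of p-nilpotent elements
  set I : Ideal (R ⧸ Ideal.span {lam}) := RingHom.ker (frobenius (R ⧸ Ideal.span {lam}) p) with hI
  have hImem : ∀ y : R ⧸ Ideal.span {lam}, y ∈ I ↔ y ^ p = 0 := by
    intro y
    rw [hI, RingHom.mem_ker, frobenius_def]
  have hIp : I ^ p = ⊥ := by
    obtain ⟨t, ht⟩ := (IsPrincipalIdealRing.principal I).principal
    have ht' : I = Ideal.span {t} := ht
    have htI : t ∈ I := by rw [ht']; exact Ideal.mem_span_singleton_self t
    rw [ht', Ideal.span_singleton_pow, (hImem t).mp htI]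
    exact Ideal.span_singleton_eq_bot.mpr rfl
  have hx : ∀ i, Function.uncurry ![a.coeff, b.coeff] i ∈ I := by
    rintro ⟨j, k⟩
    rw [hImem]
    fin_cases j
    · show a.coeff k ^ p = 0
      rw [← WittVector.coeff_frobenius_charP, ha, WittVector.zero_coeff]
    · show b.coeff k ^ p = 0
      rw [← WittVector.coeff_frobenius_charP, hb, WittVector.zero_coeff]
  have h1 := aeval_mem_pow I _ hx p _ (wittAdd_sub_mem p n)
  rw [hIp, Ideal.mem_bot, map_sub, map_sub, aeval_X, aeval_X] at h1
  rw [WittVector.add_coeff, WittVector.peval]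
  have h2 : Function.uncurry ![a.coeff, b.coeff] (0, n) = a.coeff n := rfl
  have h3 : Function.uncurry ![a.coeff, b.coeff] (1, n) = b.coeff n := rfl
  rw [h2, h3] at h1
  linear_combination h1

end main

end Aux

/-- Let R be a discrete valuation ring, p a prime number and λ an element of R dividing p (so that R/λR
is an 𝔽_p-algebra), and let a and b be p-typical Witt vectors with coefficients in R/λR which are
killed by the Frobenius endomorphism. Then the Witt sum a + b has components a_n + b_n for every n.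
(The published statement allows an arbitrary λ ∈ R and is stated for Witt vectors with finitely many
nonzero components; this row assumes that λ divides p, so that p = 0 in R/λR, and allows all Witt
vectors.) -/
theorem result (R : Type u) [CommRing R] [IsDomain R]
    [IsDiscreteValuationRing R] (p : ℕ) [Fact p.Prime] (lam : R) (hlam : lam ∣ (p : R))
    (a b : WittVector p (R ⧸ Ideal.span {lam})) (ha : WittVector.frobenius a = 0)
    (hb : WittVector.frobenius b = 0) (n : ℕ) : (a + b).coeff n = a.coeff n + b.coeff n := by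
  exact Aux.main R p lam hlam a b ha hb n

end Groth.Agent.S13160
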