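import Groth.Statements.S13161
import Mathlib

set_option autoImplicit false
universe u
open scoped TensorProduct
open CAlg

set_option linter.style.haveILetI false
set_option linter.unusedSectionVars false

namespace S13161aux

variable (R : Type u) [CommRing R] [IsDomain R] (K : Type u) [Field K] [Algebra R K]
  [IsFractionRing R K] (A : Type u) [CommRing A] [Algebra R A]

/-- `a ↦ a ⊗ 1` as an `A`-linear map. -/
noncomputable def ι : A →ₗ[A] A ⊗[R] K :=
  { toFun := fun a => a ⊗ₜ[R] (1 : K)
    map_add' := fun a b => TensorProduct.add_tmul a b 1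
    map_smul' := fun c a => by
      simp only [RingHom.id_apply, smul_eq_mul]
      rw [TensorProduct.smul_tmul', smul_eq_mul] }

theorem ι_apply (a : A) : ι R K A a = a ⊗ₜ[R] (1 : K) := rfl

instance isLoc : IsLocalizedModule (nonZeroDivisors R) ((ι R K A).restrictScalars R) := by
  have h : (ι R K A).restrictScalars R =
      (TensorProduct.comm R K A).toLinearMap ∘ₗ TensorProduct.mk R K A 1 := by
    ext a
    simp [ι_apply]
  rw [h]
  infer_instance

end S13161aux

namespace Groth.Agent.S13161

/-- Let R be a discrete valuation ring with fraction field K, A an R-algebra which is semireflexive as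
an R-module (the map to its double dual is injective: every nonzero a ∈ A has an R-linear form f : A
→ R with f(a) ≠ 0), and B an A-algebra which is finitely generated as an A-module and flat over R.
Suppose B ⊗ K is semireflexive as a module over A ⊗ K, which for such B amounts to: every nonzero b
∈ B has an A-linear map g : B → A ⊗_R K with g(b) ≠ 0. Then B is semireflexive as an R-module: every
nonzero b ∈ B has an R-linear form h : B → R with h(b) ≠ 0. (The published statement phrases the
hypothesis on B_K as an A_K-module; for B flat over R and finite over A this is the elementwise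
condition used here.) -/
theorem result (R : Type u) [CommRing R] [IsDomain R]
    [IsDiscreteValuationRing R] (K : Type u) [Field K] [Algebra R K] [IsFractionRing R K]
    (A B : Type u) [CommRing A] [CommRing B] [Algebra R A] [Algebra R B] [Algebra A B] [IsScalarTower R A B]
    [Module.Finite A B] [Module.Flat R B]
    (hA : ∀ a : A, a ≠ 0 → ∃ f : A →ₗ[R] R, f a ≠ 0)
    (hBK : ∀ b : B, b ≠ 0 → ∃ g : B →ₗ[A] A ⊗[R] K, g b ≠ 0) :
    ∀ b : B, b ≠ 0 → ∃ h : B →ₗ[R] R, h b ≠ 0 := by
  intro b hb
  obtain ⟨g, hg⟩ := hBK b hb
  -- torsion-freeness of A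
  have htf : ∀ (r : R) (a : A), r ≠ 0 → r • a = 0 → a = 0 := by
    intro r a hr hra
    by_contra ha
    obtain ⟨f, hf⟩ := hA a ha
    have : r • f a = 0 := by rw [← map_smul, hra, map_zero]
    rw [smul_eq_mul, mul_eq_zero] at this
    rcases this with h | h
    · exact hr h
    · exact hf h
  have hinj : Function.Injective (S13161aux.ι R K A) := by
    intro a₁ a₂ h
    have h' : ((S13161aux.ι R K A).restrictScalars R) a₁ = ((S13161aux.ι R K A).restrictScalars R) a₂ := h
    rw [IsLocalizedModule.eq_iff_exists (nonZeroDivisors R)] at h'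
    obtain ⟨c, hc⟩ := h'
    have hc0 : (c : R) ≠ 0 := nonZeroDivisors.ne_zero c.2
    have : (c : R) • (a₁ - a₂) = 0 := by
      rw [smul_sub, sub_eq_zero]; exact hc
    exact sub_eq_zero.mp (htf _ _ hc0 this)
  -- common denominator
  obtain ⟨T, hT⟩ := (Module.Finite.fg_top : (⊤ : Submodule A B).FG)
  have hden : ∀ z : A ⊗[R] K, ∃ s : nonZeroDivisors R, (s : R) • z ∈ LinearMap.range (S13161aux.ι R K A) := by
    intro z
    obtain ⟨⟨a, s⟩, hs⟩ := IsLocalizedModule.surj (nonZeroDivisors R)
      ((S13161aux.ι R K A).restrictScalars R) z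
    exact ⟨s, a, hs.symm⟩
  choose sden hsden using hden
  let s : nonZeroDivisors R := ∏ t ∈ T, sden (g t)
  have hsT : ∀ t ∈ T, (s : R) • g t ∈ LinearMap.range (S13161aux.ι R K A) := by
    intro t ht
    have hdvd : (sden (g t) : R) ∣ (s : R) := by
      have := Finset.dvd_prod_of_mem (fun t => sden (g t)) ht
      obtain ⟨c, hc⟩ := this
      exact ⟨c, by rw [show s = sden (g t) * c from hc]; rfl⟩
    obtain ⟨c, hc⟩ := hdvd
    rw [hc, mul_comm, mul_smul]
    obtain ⟨a, ha⟩ := hsden (g t)
    refine ⟨c • a, ?_⟩
    rw [← ha]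
    exact ((S13161aux.ι R K A).restrictScalars R).map_smul c a
  have hsall : ∀ x : B, (s : R) • g x ∈ LinearMap.range (S13161aux.ι R K A) := by
    intro x
    have hx : x ∈ Submodule.span A (T : Set B) := by rw [hT]; trivial
    induction hx using Submodule.span_induction with
    | mem t ht => exact hsT t ht
    | zero => rw [map_zero, smul_zero]; exact zero_mem _
    | add x y _ _ hx hy => rw [map_add, smul_add]; exact add_mem hx hy
    | smul a x _ hx =>
      rw [map_smul, smul_comm]
      exact Submodule.smul_mem _ a hx
  let g₁ : B →ₗ[A] A ⊗[R] K :=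
    { toFun := fun x => (s : R) • g x
      map_add' := fun x y => by rw [map_add, smul_add]
      map_smul' := fun a x => by rw [map_smul, smul_comm]; rfl }
  let g₂ : B →ₗ[A] LinearMap.range (S13161aux.ι R K A) := g₁.codRestrict _ hsall
  let g' : B →ₗ[A] A := (LinearEquiv.ofInjective (S13161aux.ι R K A) hinj).symm.toLinearMap ∘ₗ g₂
  have hg' : S13161aux.ι R K A (g' b) = (s : R) • g b := by
    have := (LinearEquiv.ofInjective (S13161aux.ι R K A) hinj).apply_symm_apply (g₂ b)
    have h2 := congrArg Subtype.val this
    exact h2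
  have hg'b : g' b ≠ 0 := by
    intro h0
    rw [h0, map_zero] at hg'
    have := IsLocalizedModule.smul_injective ((S13161aux.ι R K A).restrictScalars R) s
      (show s • g b = s • (0 : A ⊗[R] K) by rw [smul_zero]; exact hg'.symm)
    exact hg this
  obtain ⟨f, hf⟩ := hA (g' b) hg'b
  exact ⟨f ∘ₗ g'.restrictScalars R, hf⟩

end Groth.Agent.S13161
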