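import Groth.Statements.S13162
import Mathlib
import Groth.Agent.Lib.Helper5.Misc.ChooseLucas

set_option autoImplicit false
universe u v
open ZeroCyc

set_option linter.style.haveILetI false

namespace Groth.Agent.S13162

/-- Let a finite group G act on a commutative ring A by ring automorphisms and let p be a prime such
that every integer prime to p is a unit in A. If I is an ideal of A and f ∈ A has G-invariant class
modulo I, then f^(p^k) is congruent modulo I to a G-invariant element of A, where p^k is the exact
power of p dividing the order of G. (The published statement assumes I stable under G, so that G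
acts on A/I and the claim reads: the p^k-th power of an invariant of A/I lies in the image of the
invariants of A; the form here asks only that the class of f be invariant.) -/
theorem result {A : Type u} [CommRing A] {G : Type v} [Group G] [Fintype G]
    [MulSemiringAction G A] (p : ℕ) [Fact p.Prime]
    (hA : ∀ m : ℕ, ¬ p ∣ m → IsUnit (m : A))
    (I : Ideal A) (f : A) (hf : ∀ g : G, g • f - f ∈ I) :
    ∃ a : A, (∀ g : G, g • a = a) ∧ a - f ^ (p ^ (Fintype.card G).factorization p) ∈ I := by
  classical
  set N := Fintype.card G with hN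
  set k := N.factorization p with hk
  have hp : p.Prime := Fact.out
  have hN0 : N ≠ 0 := Fintype.card_ne_zero
  have hNm : p ^ k * (N / p ^ k) = N := Nat.ordProj_mul_ordCompl_eq_self N p
  have hm : ¬ p ∣ N / p ^ k := Nat.not_dvd_ordCompl hp hN0
  have hchoose : ¬ p ∣ Nat.choose N (p ^ k) := by
    have := Helper5.S13061.choose_pow_mul_not_dvd p k (N / p ^ k) hm
    rwa [hNm] at this
  have hu := hA _ hchoose
  have hle : p ^ k ≤ N := by
    calc p ^ k ≤ p ^ k * (N / p ^ k) := Nat.le_mul_of_pos_right _ (Nat.pos_of_ne_zero (fun h => by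
          rw [h, mul_zero] at hNm; exact hN0 hNm.symm))
      _ = N := hNm
  let P : Polynomial A := ∏ g : G, (Polynomial.X + Polynomial.C (g • f))
  let c : A := P.coeff (N - p ^ k)
  -- invariance of the coefficients
  have hPinv : ∀ h : G, Polynomial.map (MulSemiringAction.toRingHom G A h) P = P := by
    intro h
    simp only [P, Polynomial.map_prod, Polynomial.map_add, Polynomial.map_X, Polynomial.map_C,
      MulSemiringAction.toRingHom_apply]
    refine Fintype.prod_equiv (Equiv.mulLeft h) _ _ (fun g => ?_)
    simp [mul_smul]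
  have hcinv : ∀ h : G, h • c = c := by
    intro h
    have := congrArg (fun Q => Polynomial.coeff Q (N - p ^ k)) (hPinv h)
    simpa [Polynomial.coeff_map] using this
  -- reduction mod I
  have hPmod : Polynomial.map (Ideal.Quotient.mk I) P =
      (Polynomial.X + Polynomial.C (Ideal.Quotient.mk I f)) ^ N := by
    simp only [P, Polynomial.map_prod, Polynomial.map_add, Polynomial.map_X, Polynomial.map_C]
    have : ∀ g : G, Ideal.Quotient.mk I (g • f) = Ideal.Quotient.mk I f := fun g =>
      Ideal.Quotient.eq.mpr (hf g)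
    simp only [this, Finset.prod_const, Finset.card_univ]
    rfl
  have hcmod : Ideal.Quotient.mk I c =
      (Ideal.Quotient.mk I f) ^ (p ^ k) * ((Nat.choose N (p ^ k) : ℕ) : A ⧸ I) := by
    have := congrArg (fun Q => Polynomial.coeff Q (N - p ^ k)) hPmod
    simp only [Polynomial.coeff_map] at this
    rw [this, Polynomial.coeff_X_add_C_pow, Nat.sub_sub_self hle, Nat.choose_symm hle]
  obtain ⟨u, hu'⟩ := hu
  refine ⟨↑u⁻¹ * c, ?_, ?_⟩
  · intro h
    have h1 : h • (u : A) = u := by
      rw [hu']; exact map_natCast (MulSemiringAction.toRingHom G A h) _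
    have h2 : h • ((u⁻¹ : Aˣ) : A) = ((u⁻¹ : Aˣ) : A) := by
      have : (h • (u : A)) * (h • ((u⁻¹ : Aˣ) : A)) = 1 := by
        rw [← smul_mul', Units.mul_inv, smul_one]
      rw [h1] at this
      calc h • ((u⁻¹ : Aˣ) : A) = ((u⁻¹ : Aˣ) : A) * (u * (h • ((u⁻¹ : Aˣ) : A))) := by
            rw [← mul_assoc, Units.inv_mul, one_mul]
        _ = ((u⁻¹ : Aˣ) : A) := by rw [this, mul_one]
    rw [smul_mul', h2, hcinv h]
  · rw [← Ideal.Quotient.eq, map_mul, hcmod, map_pow]
    have : (Ideal.Quotient.mk I) ((u⁻¹ : Aˣ) : A) * ((Nat.choose N (p ^ k) : ℕ) : A ⧸ I) = 1 := by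
      rw [← map_natCast (Ideal.Quotient.mk I), ← hu', ← map_mul, Units.inv_mul, map_one]
    calc (Ideal.Quotient.mk I) ((u⁻¹ : Aˣ) : A) * ((Ideal.Quotient.mk I f) ^ (p ^ k) * ((Nat.choose N (p ^ k) : ℕ) : A ⧸ I))
        = (Ideal.Quotient.mk I f) ^ (p ^ k) * ((Ideal.Quotient.mk I) ((u⁻¹ : Aˣ) : A) * ((Nat.choose N (p ^ k) : ℕ) : A ⧸ I)) := by ring
      _ = (Ideal.Quotient.mk I f) ^ (p ^ k) := by rw [this, mul_one]

end Groth.Agent.S13162
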