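import Groth.Statements.S13163
import Mathlib

set_option autoImplicit false
universe u
open ZeroCyc

namespace Groth.Agent.S13163

open Polynomial in
/-- Let P_d(T) = ∏_{0 ≤ i < j ≤ d} (T^i − T^j) − 1 ∈ ℤ[T]. Every residue field of ℤ[T]/(P_d), i.e. every
field receiving a ring homomorphism from it, has at least d + 1 elements. -/
theorem result (d : ℕ) (k : Type u) [Field k]
    (φ : (ℤ[X] ⧸ Ideal.span {(∏ j ∈ Finset.range (d + 1), ∏ i ∈ Finset.range j,
        ((X : ℤ[X]) ^ i - X ^ j)) - 1}) →+* k) :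
    ((d + 1 : ℕ) : Cardinal) ≤ Cardinal.mk k := by
  set t : k := φ (Ideal.Quotient.mk _ X) with ht
  have h2 : (∏ j ∈ Finset.range (d + 1), ∏ i ∈ Finset.range j, (t ^ i - t ^ j)) = 1 := by
    have hmem : Ideal.Quotient.mk (Ideal.span {(∏ j ∈ Finset.range (d + 1), ∏ i ∈ Finset.range j,
        ((X : ℤ[X]) ^ i - X ^ j)) - 1}) ((∏ j ∈ Finset.range (d + 1), ∏ i ∈ Finset.range j,
        ((X : ℤ[X]) ^ i - X ^ j)) - 1) = 0 :=
      Ideal.Quotient.eq_zero_iff_mem.mpr (Ideal.subset_span rfl)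
    rw [map_sub, map_one, sub_eq_zero] at hmem
    have := congrArg φ hmem
    simpa only [map_prod, map_sub, map_pow, map_one] using this
  have hne : ∀ j ∈ Finset.range (d + 1), ∀ i ∈ Finset.range j, t ^ i - t ^ j ≠ 0 := by
    intro j hj i hi h0
    have : (∏ j ∈ Finset.range (d + 1), ∏ i ∈ Finset.range j, (t ^ i - t ^ j)) = 0 :=
      Finset.prod_eq_zero hj (Finset.prod_eq_zero hi h0)
    rw [h2] at this
    exact one_ne_zero this
  have hinj : Function.Injective (fun i : Fin (d + 1) => t ^ (i : ℕ)) := by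
    intro a b hab
    by_contra hne'
    rcases lt_or_gt_of_ne (fun h => hne' (Fin.ext h) : (a : ℕ) ≠ b) with h | h
    · exact hne b (Finset.mem_range.mpr b.2) a (Finset.mem_range.mpr h) (sub_eq_zero.mpr hab)
    · exact hne a (Finset.mem_range.mpr a.2) b (Finset.mem_range.mpr h) (sub_eq_zero.mpr hab.symm)
  have := Cardinal.lift_mk_le'.mpr ⟨⟨_, hinj⟩⟩
  simpa using this

end Groth.Agent.S13163
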