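import Groth.Statements.S13169
import Mathlib
import Groth.Agent.Lib.Helper1.TwistAmple

set_option autoImplicit false
universe u
open AlgebraicGeometry
open ZeroCyc

namespace Groth.Agent.S13169

/-- Let B be a graded R-algebra generated by homogeneous elements f_1, …, f_s of positive degrees d_1,
…, d_s, let l be the least common multiple of the d_i and X = Proj B. For n = a l with a ≥ 1, the
twisting sheaf O_X(n) is ample and is generated by its global sections b/1, b ∈ B_n. -/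
theorem result {R A : Type u} [CommRing R] [CommRing A] [Algebra R A] (𝒜 : ℕ → Submodule R A) [GradedAlgebra 𝒜]
    {s : ℕ} (f : Fin s → A) (deg : Fin s → ℕ) (hdeg : ∀ i, 0 < deg i) (hf : ∀ i, f i ∈ 𝒜 (deg i))
    (hgen : Algebra.adjoin R (Set.range f) = ⊤) (a : ℕ) (ha : 0 < a) :
    CohB1.IsAmple (Twist.twist 𝒜 ((a * Finset.univ.lcm deg : ℕ) : ℤ)) ∧
      ProjUP.GeneratedBy (Twist.twist 𝒜 ((a * Finset.univ.lcm deg : ℕ) : ℤ))
        (fun b : 𝒜 (a * Finset.univ.lcm deg) =>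
          (Twist.globalOf 𝒜 b : ProjUP.Γm (Twist.twist 𝒜 ((a * Finset.univ.lcm deg : ℕ) : ℤ)))) := by
  classical
  have hl : 0 < Finset.univ.lcm deg := by
    apply Nat.pos_of_ne_zero
    intro h0
    rw [Finset.lcm_eq_zero_iff] at h0
    obtain ⟨i, -, hi⟩ := h0
    exact (hdeg i).ne' hi
  have hex : ∀ x : ProjectiveSpectrum 𝒜, ∃ i, f i ∉ x.asHomogeneousIdeal :=
    Groth.Agent.Helper1.TwistTens.exists_gen_not_mem 𝒜 f (fun i => ⟨deg i, hf i⟩) hgen
  have hunit : ∀ x : ProjectiveSpectrum 𝒜, ∃ g' : 𝒜 (a * Finset.univ.lcm deg),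
      (g' : A) ∉ x.asHomogeneousIdeal := by
    intro x
    obtain ⟨i, hi⟩ := hex x
    obtain ⟨c, hc⟩ : deg i ∣ Finset.univ.lcm deg := Finset.dvd_lcm (Finset.mem_univ i)
    have hg : f i ^ c ∈ 𝒜 (Finset.univ.lcm deg) := by
      have := SetLike.pow_mem_graded c (hf i)
      rwa [smul_eq_mul, mul_comm, ← hc] at this
    refine ⟨⟨(f i ^ c) ^ a, by simpa using SetLike.pow_mem_graded a hg⟩, ?_⟩
    exact fun h => hi (x.isPrime.mem_of_pow_mem _ (x.isPrime.mem_of_pow_mem _ h))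
  have hcomp : CompactSpace (AlgebraicGeometry.Proj 𝒜) :=
    Groth.Agent.Helper1.TwistAmple.compactSpace_of_finite_cover 𝒜 (Finset.univ.image f)
      (fun g hg => by
        obtain ⟨i, -, rfl⟩ := Finset.mem_image.1 hg
        exact ⟨deg i, hdeg i, hf i⟩)
      (fun x => by
        obtain ⟨i, hi⟩ := hex x
        exact ⟨f i, Finset.mem_image_of_mem f (Finset.mem_univ i), hi⟩)
  exact ⟨Groth.Agent.Helper1.TwistAmple.isAmple_twist 𝒜 (Nat.mul_pos ha hl) hunit,
    Groth.Agent.Helper1.TwistGen.twist_generatedBy 𝒜 (fun b : 𝒜 (a * Finset.univ.lcm deg) => b) hunit⟩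

end Groth.Agent.S13169
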