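import Groth.Statements.S13170
import Mathlib
import Groth.Agent.Lib.Helper1.TwistTens

set_option autoImplicit false
universe u
open AlgebraicGeometry CategoryTheory
open ZeroCyc

namespace Groth.Agent.S13170

/-- Let B be a graded R-algebra generated by homogeneous elements f_1, …, f_s of positive degrees d_1,
…, d_s, let l be the least common multiple of the d_i and X = Proj B. For all integers a and n,
O_X(al) ⊗ O_X(n) ≅ O_X(al + n). (The published statement asserts that the canonical multiplication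
map is an isomorphism; this row asserts only that an isomorphism exists.) -/
theorem result {R A : Type u} [CommRing R] [CommRing A] [Algebra R A] (𝒜 : ℕ → Submodule R A) [GradedAlgebra 𝒜]
    {s : ℕ} (f : Fin s → A) (deg : Fin s → ℕ) (hdeg : ∀ i, 0 < deg i) (hf : ∀ i, f i ∈ 𝒜 (deg i))
    (hgen : Algebra.adjoin R (Set.range f) = ⊤) (a n : ℤ) :
    Nonempty (CohB1.tensorMod (Twist.twist 𝒜 (a * (Finset.univ.lcm deg : ℕ))) (Twist.twist 𝒜 n) ≅
      Twist.twist 𝒜 (a * (Finset.univ.lcm deg : ℕ) + n)) := by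
  apply Groth.Agent.Helper1.TwistTens.nonempty_tensor_twist_iso 𝒜 rfl
  intro x
  obtain ⟨i, hi⟩ := Groth.Agent.Helper1.TwistTens.exists_gen_not_mem 𝒜 f
    (fun i => ⟨deg i, hf i⟩) hgen x
  obtain ⟨c, hc⟩ : deg i ∣ Finset.univ.lcm deg := Finset.dvd_lcm (Finset.mem_univ i)
  have hg : f i ^ c ∈ 𝒜 (Finset.univ.lcm deg) := by
    have := SetLike.pow_mem_graded c (hf i)
    rwa [smul_eq_mul, mul_comm, ← hc] at this
  have hnm : ∀ k : ℕ, (f i ^ c) ^ k ∉ x.asHomogeneousIdeal := fun k h =>
    hi (x.isPrime.mem_of_pow_mem _ (x.isPrime.mem_of_pow_mem _ h))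
  refine ⟨a.toNat • Finset.univ.lcm deg, (-a).toNat • Finset.univ.lcm deg, (f i ^ c) ^ a.toNat,
    (f i ^ c) ^ (-a).toNat, SetLike.pow_mem_graded _ hg, SetLike.pow_mem_graded _ hg, ?_,
    hnm _, hnm _⟩
  have := Int.toNat_sub_toNat_neg a
  push_cast [smul_eq_mul]
  nlinarith

end Groth.Agent.S13170
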