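import Groth.Statements.S13175
import Mathlib

set_option autoImplicit false
universe u v w
open scoped TensorProduct
open ZeroCyc

namespace Groth.Agent.S13175

/-- Let B and C be A-algebras and F : B → C a polynomial law. If the maps F over the polynomial rings
A[t_1, …, t_n], n ≥ 0, are multiplicative (send 1 to 1 and products to products), then F is a
multiplicative law: F sends 1 to 1 and products to products over every A-algebra. -/
theorem result {A : Type u} [CommRing A] {B : Type v} [CommRing B] [Algebra A B] {C : Type w} [CommRing C] [Algebra A C]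
    (F : B →ₚₗ[A] C)
    (h1 : ∀ n : ℕ, F.toFun' (MvPolynomial (Fin n) A) 1 = 1)
    (hmul : ∀ (n : ℕ) (x y : MvPolynomial (Fin n) A ⊗[A] B),
      F.toFun' (MvPolynomial (Fin n) A) (x * y) = F.toFun' (MvPolynomial (Fin n) A) x * F.toFun' (MvPolynomial (Fin n) A) y) :
    ∀ (S : Type u) [CommRing S] [Algebra A S], F.toFun' S 1 = 1 ∧
      ∀ x y : S ⊗[A] B, F.toFun' S (x * y) = F.toFun' S x * F.toFun' S y := by
  intro S _ _
  -- rTensor along an algebra hom is multiplicative
  have hrTB : ∀ {P : Type u} [CommRing P] [Algebra A P] (ψ : P →ₐ[A] S),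
      (ψ.toLinearMap.rTensor B) = (Algebra.TensorProduct.map ψ (AlgHom.id A B)).toLinearMap := by
    intro P _ _ ψ
    apply TensorProduct.ext'
    intro a b
    simp
  have hrTC : ∀ {P : Type u} [CommRing P] [Algebra A P] (ψ : P →ₐ[A] S),
      (ψ.toLinearMap.rTensor C) = (Algebra.TensorProduct.map ψ (AlgHom.id A C)).toLinearMap := by
    intro P _ _ ψ
    apply TensorProduct.ext'
    intro a b
    simp
  have hcompat : ∀ {P : Type u} [CommRing P] [Algebra A P] (ψ : P →ₐ[A] S) (z : P ⊗[A] B),
      (ψ.toLinearMap.rTensor C) (F.toFun' P z) = F.toFun' S (ψ.toLinearMap.rTensor B z) :=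
    fun ψ z => congr_fun (F.isCompat' ψ) z
  constructor
  · let ψ : MvPolynomial (Fin 0) A →ₐ[A] S := MvPolynomial.aeval (fun _ : Fin 0 => (0 : S))
    have := hcompat ψ 1
    rw [h1 0, hrTC ψ, hrTB ψ] at this
    rw [AlgHom.toLinearMap_apply, AlgHom.toLinearMap_apply, map_one, map_one] at this
    exact this.symm
  · intro x y
    obtain ⟨A₁, hA₁, hx⟩ := TensorProduct.Algebra.exists_of_fg x
    obtain ⟨A₂, hA₂, hy⟩ := TensorProduct.Algebra.exists_of_fg y
    obtain ⟨gen, hgen⟩ := PolynomialLaw.exists_range_φ_eq_of_fg (Subalgebra.FG.sup hA₁ hA₂)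
    have h1' : A₁ ≤ (PolynomialLaw.φ A gen).range := by rw [hgen]; exact le_sup_left
    have h2' : A₂ ≤ (PolynomialLaw.φ A gen).range := by rw [hgen]; exact le_sup_right
    obtain ⟨p, hp⟩ := PolynomialLaw.exists_lift_of_mem_range_rTensor A₁ h1' hx
    obtain ⟨q, hq⟩ := PolynomialLaw.exists_lift_of_mem_range_rTensor A₂ h2' hy
    set ψ := PolynomialLaw.φ A gen with hψ
    have e1 := hcompat ψ (p * q)
    have e2 := hcompat ψ p
    have e3 := hcompat ψ q
    rw [hmul] at e1
    rw [hrTC ψ, hrTB ψ] at e1 e2 e3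
    simp only [AlgHom.toLinearMap_apply, map_mul] at e1 e2 e3
    rw [hrTB ψ] at hp hq
    simp only [AlgHom.toLinearMap_apply] at hp hq
    rw [hp, hq] at e1
    rw [hp] at e2
    rw [hq] at e3
    rw [← e1, e2, e3]

end Groth.Agent.S13175
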