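import Groth.Statements.S13184
import Mathlib

set_option autoImplicit false
universe u
open ZeroCyc

namespace Groth.Agent.S13184

section
open Polynomial

variable {k : Type u} [Field k] (p : ℕ) [Fact p.Prime] [CharP k p]
  {Ω : Type u} [Field Ω] [Algebra k Ω] (e : ℕ)

theorem charP_Omega (k : Type u) [Field k] [CharP k p] [Algebra k Ω] : CharP Ω p :=
  charP_of_injective_algebraMap (algebraMap k Ω).injective p

/-- elements of the adjoin have their `p^e`-th power in `k` -/
theorem pow_mem_range (y : Ω)
    (hy : y ∈ IntermediateField.adjoin k {y : Ω | y ^ (p ^ e) ∈ Set.range (algebraMap k Ω)}) :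
    y ^ (p ^ e) ∈ Set.range (algebraMap k Ω) := by
  have : CharP Ω p := charP_Omega p k
  induction hy using IntermediateField.adjoin_induction with
  | mem x hx => exact hx
  | algebraMap x => exact ⟨x ^ (p ^ e), by rw [map_pow]⟩
  | add x y _ _ hx hy =>
    obtain ⟨a, ha⟩ := hx
    obtain ⟨b, hb⟩ := hy
    exact ⟨a + b, by rw [map_add, ha, hb, add_pow_char_pow]⟩
  | inv x _ hx =>
    obtain ⟨a, ha⟩ := hx
    exact ⟨a⁻¹, by rw [map_inv₀, ha, inv_pow]⟩
  | mul x y _ _ hx hy =>
    obtain ⟨a, ha⟩ := hx
    obtain ⟨b, hb⟩ := hy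
    exact ⟨a * b, by rw [map_mul, ha, hb, mul_pow]⟩


/-- the `p^e`-power map `F → k`, as a function -/
noncomputable def rhoFun
    (c : ↥(IntermediateField.adjoin k {y : Ω | y ^ (p ^ e) ∈ Set.range (algebraMap k Ω)})) : k :=
  Classical.choose (pow_mem_range p e c.1 c.2)

theorem rhoFun_spec (c : ↥(IntermediateField.adjoin k {y : Ω | y ^ (p ^ e) ∈ Set.range (algebraMap k Ω)})) :
    algebraMap k Ω (rhoFun p e c) = (c : Ω) ^ (p ^ e) :=
  Classical.choose_spec (pow_mem_range p e c.1 c.2)

/-- the `p^e`-power map `F → k` -/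
noncomputable def rho :
    ↥(IntermediateField.adjoin k {y : Ω | y ^ (p ^ e) ∈ Set.range (algebraMap k Ω)}) →+* k where
  toFun := rhoFun p e
  map_one' := by
    apply (algebraMap k Ω).injective
    rw [rhoFun_spec]
    simp
  map_mul' a b := by
    apply (algebraMap k Ω).injective
    rw [map_mul, rhoFun_spec, rhoFun_spec, rhoFun_spec]
    simp [mul_pow]
  map_zero' := by
    apply (algebraMap k Ω).injective
    rw [rhoFun_spec]
    have : p ^ e ≠ 0 := pow_ne_zero _ (Fact.out : p.Prime).ne_zero
    rw [map_zero, ZeroMemClass.coe_zero, zero_pow this]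
  map_add' a b := by
    have : CharP Ω p := charP_Omega p k
    apply (algebraMap k Ω).injective
    rw [map_add, rhoFun_spec, rhoFun_spec, rhoFun_spec]
    simp [add_pow_char_pow]

theorem rho_spec (c : ↥(IntermediateField.adjoin k {y : Ω | y ^ (p ^ e) ∈ Set.range (algebraMap k Ω)})) :
    algebraMap k Ω (rho p e c) = (c : Ω) ^ (p ^ e) :=
  rhoFun_spec p e c

/-- forward direction, elementwise -/
theorem forward (ξ : Ω)
    (hsep : IsSeparable (IntermediateField.adjoin k {y : Ω | y ^ (p ^ e) ∈ Set.range (algebraMap k Ω)}) ξ) :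
    ∃ g : k[X], g.Separable ∧ g.eval₂ (algebraMap k Ω) (ξ ^ (p ^ e)) = 0 := by
  have : CharP Ω p := charP_Omega p k
  set F := IntermediateField.adjoin k {y : Ω | y ^ (p ^ e) ∈ Set.range (algebraMap k Ω)} with hF
  set h := minpoly F ξ with hh
  refine ⟨h.map (rho p e), Polynomial.Separable.map hsep, ?_⟩
  rw [Polynomial.eval₂_map]
  have hcomp : (algebraMap k Ω).comp (rho p e) = (iterateFrobenius Ω p e).comp (algebraMap F Ω) := by
    ext c
    simp only [RingHom.comp_apply, rho_spec, iterateFrobenius_def]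
    rfl
  rw [hcomp]
  have h1 : ξ ^ (p ^ e) = iterateFrobenius Ω p e ξ := (iterateFrobenius_def _ _ _).symm
  rw [h1, ← Polynomial.hom_eval₂]
  have h2 : h.eval₂ (algebraMap F Ω) ξ = 0 := minpoly.aeval F ξ
  rw [h2, map_zero]


/-- backward direction, elementwise -/
theorem backward [IsAlgClosed Ω] (ξ : Ω) (g : k[X]) (hg : g.Separable)
    (h0 : g.eval₂ (algebraMap k Ω) (ξ ^ (p ^ e)) = 0) :
    IsSeparable (IntermediateField.adjoin k {y : Ω | y ^ (p ^ e) ∈ Set.range (algebraMap k Ω)}) ξ := by
  have : CharP Ω p := charP_Omega p k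
  have : ExpChar Ω p := ExpChar.prime (Fact.out : p.Prime)
  set F := IntermediateField.adjoin k {y : Ω | y ^ (p ^ e) ∈ Set.range (algebraMap k Ω)} with hF
  let τ₀ : k →+* Ω := ((iterateFrobeniusEquiv Ω p e).symm : Ω →+* Ω).comp (algebraMap k Ω)
  have hτ₀ : ∀ c, (τ₀ c) ^ (p ^ e) = algebraMap k Ω c := by
    intro c
    show ((iterateFrobeniusEquiv Ω p e).symm (algebraMap k Ω c)) ^ (p ^ e) = _
    rw [← iterateFrobeniusEquiv_def, RingEquiv.apply_symm_apply]
  have hmem : ∀ c, τ₀ c ∈ F := by
    intro c
    apply IntermediateField.subset_adjoin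
    exact ⟨c, (hτ₀ c).symm⟩
  let τ : k →+* F := τ₀.codRestrict F hmem
  have hτ : (algebraMap F Ω).comp τ = τ₀ := by
    ext c
    rfl
  have hroot : (g.map τ).eval₂ (algebraMap F Ω) ξ = 0 := by
    rw [Polynomial.eval₂_map, hτ]
    apply (iterateFrobenius Ω p e).injective
    rw [Polynomial.hom_eval₂, map_zero, iterateFrobenius_def]
    have hcomp : (iterateFrobenius Ω p e).comp τ₀ = algebraMap k Ω := by
      ext c
      simp only [RingHom.comp_apply, iterateFrobenius_def, hτ₀]
    rw [hcomp]
    exact h0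
  exact Polynomial.Separable.of_dvd (Polynomial.Separable.map hg) (minpoly.dvd F ξ hroot)

theorem main {k : Type u} [Field k] (p : ℕ) [Fact p.Prime] [CharP k p]
    {K : Type u} [Field K] [Algebra k K] [FiniteDimensional k K]
    {Ω : Type u} [Field Ω] [Algebra k Ω] [Algebra K Ω] [IsScalarTower k K Ω] [IsAlgClosed Ω] (e : ℕ) :
    (∀ x : Ω, x ∈ IntermediateField.adjoin k {y : Ω | y ^ (p ^ e) ∈ Set.range (algebraMap k Ω)} ⊔
        IntermediateField.adjoin k (Set.range (algebraMap K Ω)) →
      IsSeparable (IntermediateField.adjoin k {y : Ω | y ^ (p ^ e) ∈ Set.range (algebraMap k Ω)}) x) ↔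
    ∀ x : K, x ^ (p ^ e) ∈ separableClosure k K := by
  set F := IntermediateField.adjoin k {y : Ω | y ^ (p ^ e) ∈ Set.range (algebraMap k Ω)} with hF
  constructor
  · intro h x
    have hx : algebraMap K Ω x ∈ F ⊔ IntermediateField.adjoin k (Set.range (algebraMap K Ω)) :=
      (le_sup_right : _ ≤ F ⊔ _) (IntermediateField.subset_adjoin _ _ ⟨x, rfl⟩)
    obtain ⟨g, hg, h0⟩ := forward p e _ (h _ hx)
    rw [mem_separableClosure_iff]
    apply Polynomial.Separable.of_dvd hg
    apply minpoly.dvd
    apply (algebraMap K Ω).injective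
    rw [map_zero, ← Polynomial.aeval_algebraMap_apply, map_pow]
    exact h0
  · intro h x hx
    let Sep : IntermediateField k Ω := (separableClosure F Ω).restrictScalars k
    have hle : F ⊔ IntermediateField.adjoin k (Set.range (algebraMap K Ω)) ≤ Sep := by
      apply sup_le
      · intro z hz
        show IsSeparable F z
        exact isSeparable_algebraMap (F := F) (K := Ω) ⟨z, hz⟩
      · rw [IntermediateField.adjoin_le_iff]
        rintro _ ⟨y, rfl⟩
        show IsSeparable F (algebraMap K Ω y)
        have hy := h y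
        rw [mem_separableClosure_iff] at hy
        apply backward p e _ (minpoly k (y ^ (p ^ e))) hy
        rw [← map_pow]
        have := minpoly.aeval k (y ^ (p ^ e))
        have h2 := congrArg (algebraMap K Ω) this
        rw [map_zero, ← Polynomial.aeval_algebraMap_apply] at h2
        exact h2
    exact hle hx


end


/-- Let k ⊆ K be a finite extension of fields of characteristic p > 0, viewed inside an algebraically
closed field Ω, and for e ≥ 0 let k^{p^{-e}} ⊆ Ω be the field of elements whose p^e-th power lies in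
k. Then the compositum k^{p^{-e}}K is separable over k^{p^{-e}} if and only if x^{p^e} is separable
over k for every x ∈ K; hence the exponent of K/k (the least n ≥ 1 with K^n separable over k, a
power of p) is the least p^e for which k^{p^{-e}} ⊆ k^{p^{-e}}K is separable. -/
theorem result {k : Type u} [Field k] (p : ℕ) [Fact p.Prime] [CharP k p]
    {K : Type u} [Field K] [Algebra k K] [FiniteDimensional k K]
    {Ω : Type u} [Field Ω] [Algebra k Ω] [Algebra K Ω] [IsScalarTower k K Ω] [IsAlgClosed Ω] (e : ℕ) :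
    (∀ x : Ω, x ∈ IntermediateField.adjoin k {y : Ω | y ^ (p ^ e) ∈ Set.range (algebraMap k Ω)} ⊔
        IntermediateField.adjoin k (Set.range (algebraMap K Ω)) →
      IsSeparable (IntermediateField.adjoin k {y : Ω | y ^ (p ^ e) ∈ Set.range (algebraMap k Ω)}) x) ↔
    ∀ x : K, x ^ (p ^ e) ∈ separableClosure k K := by
  classical
  exact main p e

end Groth.Agent.S13184
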