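import Groth.Statements.S13186
import Mathlib
import Groth.Agent.S11079

set_option autoImplicit false
universe u
open GalCoh



namespace Groth.Agent.S13186

/-- Let L/K be a finite Galois extension of fields, n a natural number, and B a map from the Galois
group of L over K to the invertible n × n matrices over L such that B(σ) · σ(B(τ)) = B(στ) for all
σ, τ (σ acting on matrices entrywise, στ applying τ first) and det B(σ) = 1 for every σ. Then there
is an invertible matrix A over L of determinant 1 with B(σ) = A⁻¹ · σ(A) for every σ; that is, every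
1-cocycle of the Galois group with values in SL_n(L) is the coboundary of an element of SL_n(L), so
H¹ of the Galois group with values in SL_n(L) is a point. (The published statement says that every
torsor under the special linear group over K is trivial; this row is the finite-Galois-level cocycle
form that its proof establishes.) -/
theorem result (K L : Type u) [Field K] [Field L]
    [Algebra K L] [FiniteDimensional K L] [IsGalois K L] (n : ℕ)
    (B : (L ≃ₐ[K] L) → GL (Fin n) L)
    (hB : ∀ σ τ : L ≃ₐ[K] L,
      (B σ : Matrix (Fin n) (Fin n) L) * (B τ : Matrix (Fin n) (Fin n) L).map σ =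
        (B (σ * τ) : Matrix (Fin n) (Fin n) L))
    (hdet : ∀ σ : L ≃ₐ[K] L, Matrix.det (B σ : Matrix (Fin n) (Fin n) L) = 1) :
    ∃ A : GL (Fin n) L, Matrix.det (A : Matrix (Fin n) (Fin n) L) = 1 ∧ ∀ σ : L ≃ₐ[K] L,
      (B σ : Matrix (Fin n) (Fin n) L) =
        ((A⁻¹ : GL (Fin n) L) : Matrix (Fin n) (Fin n) L) * (A : Matrix (Fin n) (Fin n) L).map σ := by
  classical
  obtain ⟨A₀, hA₀⟩ := Groth.Agent.S11079.result K L n B hB
  set δ : L := Matrix.det (A₀ : Matrix (Fin n) (Fin n) L) with hδ
  have hδ0 : δ ≠ 0 := by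
    have := (Matrix.isUnit_iff_isUnit_det (A₀ : Matrix (Fin n) (Fin n) L)).1 A₀.isUnit
    exact this.ne_zero
  -- δ is Galois-fixed
  have hfix : ∀ σ : L ≃ₐ[K] L, σ δ = δ := by
    intro σ
    have h1 := congrArg Matrix.det (hA₀ σ)
    rw [hdet σ, Matrix.det_mul] at h1
    have h2 : Matrix.det ((A₀ : Matrix (Fin n) (Fin n) L).map σ) = σ δ := by
      have := AlgEquiv.map_det σ (A₀ : Matrix (Fin n) (Fin n) L)
      rw [hδ, this]
      rfl
    have h3 : Matrix.det (((A₀⁻¹ : GL (Fin n) L)) : Matrix (Fin n) (Fin n) L) = δ⁻¹ := by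
      rw [Matrix.coe_units_inv, Matrix.det_nonsing_inv, Ring.inverse_eq_inv']
    rw [h2, h3] at h1
    field_simp at h1
    exact h1.symm
  rcases isEmpty_or_nonempty (Fin n) with hn | hn
  · refine ⟨A₀, ?_, hA₀⟩
    exact Matrix.det_isEmpty
  · obtain ⟨i₀⟩ := hn
    let d : Fin n → L := fun i => if i = i₀ then δ⁻¹ else 1
    have hd0 : ∀ i, d i ≠ 0 := by
      intro i
      simp only [d]
      split_ifs
      · exact inv_ne_zero hδ0
      · exact one_ne_zero
    have hdfix : ∀ (σ : L ≃ₐ[K] L) i, σ (d i) = d i := by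
      intro σ i
      simp only [d]
      split_ifs
      · rw [map_inv₀, hfix]
      · exact map_one σ
    have hdetD : Matrix.det (Matrix.diagonal d) = δ⁻¹ := by
      rw [Matrix.det_diagonal]
      rw [Finset.prod_eq_single i₀]
      · simp [d]
      · intro b _ hb
        simp [d, hb]
      · intro h
        exact absurd (Finset.mem_univ _) h
    have hDunit : IsUnit (Matrix.diagonal d) := by
      rw [Matrix.isUnit_iff_isUnit_det, hdetD]
      exact (inv_ne_zero hδ0).isUnit
    obtain ⟨D, hD⟩ := hDunit
    refine ⟨D * A₀, ?_, ?_⟩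
    · rw [Units.val_mul, Matrix.det_mul, hD, hdetD, ← hδ]
      exact inv_mul_cancel₀ hδ0
    · intro σ
      rw [hA₀ σ, mul_inv_rev, Units.val_mul, Units.val_mul, Matrix.map_mul, hD]
      have hDmap : (Matrix.diagonal d).map σ = Matrix.diagonal d := by
        rw [Matrix.diagonal_map (map_zero σ)]
        congr 1
        funext i
        exact hdfix σ i
      rw [hDmap, ← hD]
      rw [Matrix.mul_assoc, ← Matrix.mul_assoc (↑D⁻¹ : Matrix (Fin n) (Fin n) L)]
      have : ((D⁻¹ : GL (Fin n) L) : Matrix (Fin n) (Fin n) L) * (D : Matrix (Fin n) (Fin n) L) = 1 := by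
        rw [← Units.val_mul, inv_mul_cancel]
        rfl
      rw [this, Matrix.one_mul]

end Groth.Agent.S13186
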