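import Groth.Statements.S13187
import Mathlib
import Groth.Agent.Lib.Helper1.CiField

set_option autoImplicit false
universe u v
open Curves

namespace Groth.Agent.S13187

/-- If a field k has property C_m for systems of forms and the extension field K of k has a finite
transcendence basis with t elements, then K has property C_{m+t} for systems of forms. (Property C_m
is the systems version: any r forms of positive degrees d_1, …, d_r in n variables with Σ d_i^m < n
have a common non-trivial zero.) -/
theorem result (k : Type u) [Field k] (K : Type v) [Field K] [Algebra k K]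
    (m t : ℕ) (x : Fin t → K) (hx : IsTranscendenceBasis k x) (hk : Curves.IsCi k m) :
    Curves.IsCi K (m + t) := by
  classical
  have key : ∀ j : ℕ, Curves.IsCi (FractionRing (MvPolynomial (Fin j) k)) (m + j) := by
    intro j
    induction j with
    | zero =>
      have h1 : Algebra.IsAlgebraic k (MvPolynomial (Fin 0) k) := by
        constructor
        intro y
        obtain ⟨c, rfl⟩ := MvPolynomial.C_surjective (R := k) (Fin 0) y
        exact isAlgebraic_algebraMap (R := k) (A := MvPolynomial (Fin 0) k) c
      have h2 : Algebra.IsAlgebraic (MvPolynomial (Fin 0) k)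
          (FractionRing (MvPolynomial (Fin 0) k)) :=
        IsLocalization.isAlgebraic _ (nonZeroDivisors (MvPolynomial (Fin 0) k))
      have h3 : Algebra.IsAlgebraic k (FractionRing (MvPolynomial (Fin 0) k)) :=
        Algebra.IsAlgebraic.trans k (MvPolynomial (Fin 0) k) _
      exact Groth.Agent.Helper1.CiField.isCi_of_algebraic k _ (m + 0) hk
    | succ j ih =>
      obtain ⟨e⟩ := Groth.Agent.Helper1.CiField.exists_ringEquiv_ratFunc k j
      exact Groth.Agent.Helper1.CiField.isCi_of_ringEquiv e.symm
        (Groth.Agent.Helper1.CiField.isCi_ratFunc _ (m + j) ih)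
  let E := IntermediateField.adjoin k (Set.range x)
  have halg : Algebra.IsAlgebraic E K := hx.isAlgebraic_field
  let e1 : FractionRing (MvPolynomial (Fin t) k) ≃ₐ[k] E := hx.1.aevalEquivField
  have hE : Curves.IsCi E (m + t) :=
    Groth.Agent.Helper1.CiField.isCi_of_ringEquiv e1.toRingEquiv (key t)
  exact Groth.Agent.Helper1.CiField.isCi_of_algebraic E K (m + t) hE

end Groth.Agent.S13187
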