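import Groth.Statements.S13188
import Mathlib

set_option autoImplicit false
universe u v w
open Brauer

namespace Groth.Agent.S13188

section


open MvPolynomial

theorem eval_smul_of_homog {σ : Type*} [Fintype σ] {K : Type*} [Field K] (F : MvPolynomial σ K) (d : ℕ)
    (hF : F.IsHomogeneous d) (t : K) (x : σ → K) :
    eval (fun i => t * x i) F = t ^ d * eval x F := by
  rw [eval_eq', eval_eq', Finset.mul_sum]
  refine Finset.sum_congr rfl fun s hs => ?_
  have hdeg : ∑ i, s i = d := by
    have h := hF (mem_support_iff.mp hs)
    rw [← h, Finsupp.weight_apply, Finsupp.sum_fintype]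
    · simp
    · intro i; simp
  simp only [mul_pow]
  rw [Finset.prod_mul_distrib, Finset.prod_pow_eq_pow_sum, hdeg]
  ring

theorem main (K : Type u) [Field K] (hK : Curves.IsCi K 2)
    (D : Type v) [DivisionRing D] [Algebra K D] [Algebra.IsCentral K D] [FiniteDimensional K D]
    (d : ℕ) (hd : Module.finrank K D = d ^ 2)
    (N : D →* K) (hN : CSAGal.IsRedNorm K D N)
    {ι : Type w} [Fintype ι] (b : Module.Basis ι K D)
    (F : MvPolynomial ι K) (hF : F.IsHomogeneous d)
    (hNF : ∀ x : ι → K, N (∑ i, x i • b i) = MvPolynomial.eval x F) :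
    Function.Surjective N := by
  classical
  have hdpos : 0 < d := by
    by_contra h
    have h0 : d = 0 := by omega
    rw [h0] at hd
    have : 0 < Module.finrank K D := Module.finrank_pos
    omega
  have hcard : Fintype.card ι = d ^ 2 := by
    rw [← hd, Module.finrank_eq_card_basis b]
  intro c
  -- the form F(x) - c t^d in variables ι ⊕ Unit
  let G : MvPolynomial (ι ⊕ Unit) K := rename Sum.inl F - C c * X (Sum.inr ()) ^ d
  have hG : G.IsHomogeneous d := by
    apply IsHomogeneous.sub
    · exact hF.rename_isHomogeneous
    · have h1 : (X (Sum.inr ()) ^ d : MvPolynomial (ι ⊕ Unit) K).IsHomogeneous (1 * d) :=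
        (isHomogeneous_X K (Sum.inr ())).pow d
      rw [one_mul] at h1
      have := (isHomogeneous_C (ι ⊕ Unit) c).mul h1
      rwa [zero_add] at this
  let n := d ^ 2 + 1
  have hcard2 : Fintype.card (ι ⊕ Unit) = n := by
    rw [Fintype.card_sum, hcard, Fintype.card_unit]
  let e : ι ⊕ Unit ≃ Fin n := Fintype.equivFinOfCardEq hcard2
  let G' : MvPolynomial (Fin n) K := rename e G
  have hG' : G'.IsHomogeneous d := hG.rename_isHomogeneous
  obtain ⟨a, ha0, ha⟩ := hK 1 n (fun _ => G') (fun _ => d) (fun _ => hG') (fun _ => hdpos)
    (by simp [n])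
  have ha1 := ha 0
  simp only [G', eval_rename] at ha1
  let x : ι → K := fun i => a (e (Sum.inl i))
  let t : K := a (e (Sum.inr ()))
  have hGe : eval x F = c * t ^ d := by
    have : eval (a ∘ e) G = 0 := ha1
    simp only [G, map_sub, eval_rename, map_mul, eval_C, map_pow, eval_X, sub_eq_zero] at this
    exact this
  have hxt : x ≠ 0 ∨ t ≠ 0 := by
    by_contra h
    rw [not_or, not_not, not_not] at h
    apply ha0
    funext j
    obtain ⟨s, rfl⟩ := e.surjective j
    rcases s with i | u
    · exact congrFun h.1 i
    · exact h.2
  have hunit : ∀ u : D, u ≠ 0 → N u ≠ 0 := by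
    intro u hu h0
    have : N u * N u⁻¹ = 1 := by rw [← map_mul, mul_inv_cancel₀ hu, map_one]
    rw [h0, zero_mul] at this
    exact zero_ne_one this
  have ht : t ≠ 0 := by
    intro ht0
    have hx : x ≠ 0 := by
      rcases hxt with h | h
      · exact h
      · exact absurd ht0 h
    have hu : (∑ i, x i • b i) ≠ 0 := by
      intro h
      apply hx
      have := Fintype.linearIndependent_iff.mp b.linearIndependent x h
      funext i
      exact this i
    apply hunit _ hu
    rw [hNF, hGe, ht0, zero_pow hdpos.ne', mul_zero]
  refine ⟨∑ i, (t⁻¹ * x i) • b i, ?_⟩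
  rw [hNF, eval_smul_of_homog F d hF, hGe, inv_pow]
  have : t ^ d ≠ 0 := pow_ne_zero _ ht
  field_simp


end


/-- Let K be a field with property C_2 for systems of forms and D a finite-dimensional central division
algebra over K with dim_K D = d². Let N : D → K be multiplicative, a reduced norm of D over K, and
given in the coordinates of a K-basis b of D by a homogeneous polynomial F of degree d, i.e. N(Σ x_i
b_i) = F(x) for every coordinate vector x (the reduced norm of a central simple algebra of dimension
d² is such a polynomial map of degree d; these data record it). Then N : D → K is surjective. -/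
theorem result (K : Type u) [Field K] (hK : Curves.IsCi K 2)
    (D : Type v) [DivisionRing D] [Algebra K D] [Algebra.IsCentral K D] [FiniteDimensional K D]
    (d : ℕ) (hd : Module.finrank K D = d ^ 2)
    (N : D →* K) (hN : CSAGal.IsRedNorm K D N)
    {ι : Type w} [Fintype ι] (b : Module.Basis ι K D)
    (F : MvPolynomial ι K) (hF : F.IsHomogeneous d)
    (hNF : ∀ x : ι → K, N (∑ i, x i • b i) = MvPolynomial.eval x F) :
    Function.Surjective N := by
  classical
  exact main K hK D d hd N hN b F hF hNF

end Groth.Agent.S13188
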