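import Groth.Statements.S13191
import Mathlib

set_option autoImplicit false
universe u v w x
open GalCoh

namespace Groth.Agent.S13191

/-- Let a group G act by automorphisms on a group A, and let E and E' each be a G-equivariant right
A-torsor (a set with a simply transitive right action of A, written m ↦ m·a, and a left action of G
with g(m·a) = (gm)·(ga)). Let m ∈ E and m' ∈ E' be points with attached maps a, a' : G → A (g·m =
m·a(g) and g·m' = m'·a'(g) for all g). Then there is a bijection E ≃ E' commuting with the actions
of G and of A if and only if a and a' are cohomologous. (The published statement is for a Galois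
group acting on discrete modules; this row takes an arbitrary group acting on a group.) -/
theorem result {G : Type u} {A : Type v} {E : Type w} {E' : Type x}
    [Group G] [Group A] [MulDistribMulAction G A]
    [MulAction G E] [MulAction Aᵐᵒᵖ E]
    (hfree : ∀ m₁ m₂ : E, ∃! a : A, m₂ = MulOpposite.op a • m₁)
    (hcompat : ∀ (g : G) (a : A) (m : E), g • (MulOpposite.op a • m) = MulOpposite.op (g • a) • g • m)
    [MulAction G E'] [MulAction Aᵐᵒᵖ E']
    (hfree' : ∀ m₁ m₂ : E', ∃! a : A, m₂ = MulOpposite.op a • m₁)
    (hcompat' : ∀ (g : G) (a : A) (m : E'), g • (MulOpposite.op a • m) = MulOpposite.op (g • a) • g • m)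
    (m : E) (a : G → A) (ha : ∀ g : G, g • m = MulOpposite.op (a g) • m)
    (m' : E') (a' : G → A) (ha' : ∀ g : G, g • m' = MulOpposite.op (a' g) • m') :
    (∃ f : E ≃ E', (∀ (g : G) (e : E), f (g • e) = g • f e) ∧
        ∀ (b : A) (e : E), f (MulOpposite.op b • e) = MulOpposite.op b • f e) ↔
      GpH1.Cohomologous a a' := by
  classical
  -- coordinate functions
  have opmul : ∀ (x y : A) (e : E), MulOpposite.op y • MulOpposite.op x • e = MulOpposite.op (x * y) • e := by
    intro x y e
    rw [← mul_smul, ← MulOpposite.op_mul]
  have opmul' : ∀ (x y : A) (e : E'), MulOpposite.op y • MulOpposite.op x • e = MulOpposite.op (x * y) • e := by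
    intro x y e
    rw [← mul_smul, ← MulOpposite.op_mul]
  have uniq : ∀ (x y : A), MulOpposite.op x • m = MulOpposite.op y • m → x = y := by
    intro x y hxy
    obtain ⟨z, _, hz⟩ := hfree m (MulOpposite.op x • m)
    rw [hz x rfl, hz y hxy]
  have uniq' : ∀ (x y : A), MulOpposite.op x • m' = MulOpposite.op y • m' → x = y := by
    intro x y hxy
    obtain ⟨z, _, hz⟩ := hfree' m' (MulOpposite.op x • m')
    rw [hz x rfl, hz y hxy]
  have gact : ∀ (g : G) (x : A), g • (MulOpposite.op x • m) = MulOpposite.op (a g * g • x) • m := by
    intro g x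
    rw [hcompat, ha g, opmul]
  have gact' : ∀ (g : G) (x : A), g • (MulOpposite.op x • m') = MulOpposite.op (a' g * g • x) • m' := by
    intro g x
    rw [hcompat', ha' g, opmul']
  constructor
  · rintro ⟨f, hfG, hfA⟩
    obtain ⟨c, hc, -⟩ := hfree' m' (f m)
    refine ⟨c, fun σ => ?_⟩
    have h1 : f (σ • m) = MulOpposite.op (a' σ * σ • c) • m' := by
      rw [hfG, hc, gact']
    have h2 : f (σ • m) = MulOpposite.op (c * a σ) • m' := by
      rw [ha σ, hfA, hc, opmul']
    have h3 : a' σ * σ • c = c * a σ := uniq' _ _ (h1.symm.trans h2)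
    have : a σ = c⁻¹ * (c * a σ) := by rw [inv_mul_cancel_left]
    rw [this, ← h3, mul_assoc]
  · rintro ⟨c, hc⟩
    have hc2 : ∀ σ, c * a σ = a' σ * σ • c := by
      intro σ
      rw [hc σ]
      group
    let co : E → A := fun e => (hfree m e).choose
    have hco : ∀ e, e = MulOpposite.op (co e) • m := fun e => (hfree m e).choose_spec.1
    let co' : E' → A := fun e => (hfree' m' e).choose
    have hco' : ∀ e, e = MulOpposite.op (co' e) • m' := fun e => (hfree' m' e).choose_spec.1
    have co_op : ∀ x, co (MulOpposite.op x • m) = x := fun x => uniq _ _ (hco _).symm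
    have co'_op : ∀ x, co' (MulOpposite.op x • m') = x := fun x => uniq' _ _ (hco' _).symm
    let f : E ≃ E' :=
      { toFun := fun e => MulOpposite.op (c * co e) • m'
        invFun := fun e => MulOpposite.op (c⁻¹ * co' e) • m
        left_inv := fun e => by
          show MulOpposite.op (c⁻¹ * co' (MulOpposite.op (c * co e) • m')) • m = e
          rw [co'_op, inv_mul_cancel_left, ← hco]
        right_inv := fun e => by
          show MulOpposite.op (c * co (MulOpposite.op (c⁻¹ * co' e) • m)) • m' = e
          rw [co_op, mul_inv_cancel_left, ← hco'] }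
    have hf : ∀ x, f (MulOpposite.op x • m) = MulOpposite.op (c * x) • m' := by
      intro x
      show MulOpposite.op (c * co (MulOpposite.op x • m)) • m' = _
      rw [co_op]
    refine ⟨f, ?_, ?_⟩
    · intro g e
      rw [hco e, gact, hf, hf, gact', smul_mul', ← mul_assoc, ← mul_assoc, hc2]
    · intro b e
      rw [hco e, opmul, hf, hf, opmul', mul_assoc]

end Groth.Agent.S13191
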