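import Groth.Statements.S13192
import Mathlib

set_option autoImplicit false
universe u v
open GalCoh

namespace Groth.Agent.Helper5.S13192aux


theorem cocycle_one {G : Type u} {A : Type v} [Group G] [Group A] [MulDistribMulAction G A]
    (a : G → A) (ha : GpH1.IsOneCocycle a) : a 1 = 1 := by
  have := ha 1 1
  rw [one_smul, mul_one] at this
  have h2 : a 1 * 1 = a 1 * a 1 := by rw [mul_one]; exact this
  exact (mul_left_cancel h2).symm

/-- The twisted action of `G` on `A`: `g ⋆ x = a g * g • x`. -/
@[reducible] def twG {G : Type u} {A : Type v} [Group G] [Group A] [MulDistribMulAction G A]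
    (a : G → A) (ha : GpH1.IsOneCocycle a) : MulAction G A :=
  { smul := fun g x => a g * g • x
    one_smul := fun x => by
      show a 1 * (1 : G) • x = x
      rw [cocycle_one a ha, one_smul, one_mul]
    mul_smul := fun g h x => by
      show a (g * h) * (g * h) • x = a g * g • (a h * h • x)
      rw [ha g h, smul_mul', mul_smul, mul_assoc] }

/-- Right multiplication action. -/
@[reducible] def twA (A : Type v) [Group A] : MulAction Aᵐᵒᵖ A :=
  { smul := fun b x => x * b.unop
    one_smul := fun x => by
      show x * (1 : Aᵐᵒᵖ).unop = x
      rw [MulOpposite.unop_one, mul_one]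
    mul_smul := fun b c x => by
      show x * (b * c).unop = x * c.unop * b.unop
      rw [MulOpposite.unop_mul, mul_assoc] }

end Groth.Agent.Helper5.S13192aux

namespace Groth.Agent.S13192

/-- Let a group G act by automorphisms on a group A and let a : G → A be a 1-cocycle. Then there exist a
G-equivariant right A-torsor E (a set with a simply transitive right action of A, written m ↦ m·a,
and a left action of G with g(m·a) = (gm)·(ga)) and a point m of E whose attached map is a, i.e. g·m
= m·a(g) for every g in G. (E is taken in the universe of A. The published statement is for a Galois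
group acting on discrete modules; this row takes an arbitrary group acting on a group.) -/
theorem result {G : Type u} {A : Type v}
    [Group G] [Group A] [MulDistribMulAction G A] (a : G → A) (ha : GpH1.IsOneCocycle a) :
    ∃ (E : Type v) (_ : MulAction G E) (_ : MulAction Aᵐᵒᵖ E) (m : E),
      (∀ m₁ m₂ : E, ∃! b : A, m₂ = MulOpposite.op b • m₁) ∧
      (∀ (g : G) (b : A) (e : E), g • (MulOpposite.op b • e) = MulOpposite.op (g • b) • g • e) ∧
      ∀ g : G, g • m = MulOpposite.op (a g) • m := by
  refine ⟨A, Groth.Agent.Helper5.S13192aux.twG a ha, Groth.Agent.Helper5.S13192aux.twA A,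
    (1 : A), ?_, ?_, ?_⟩
  · intro m₁ m₂
    refine ⟨m₁⁻¹ * m₂, ?_, ?_⟩
    · show m₂ = m₁ * (MulOpposite.op (m₁⁻¹ * m₂)).unop
      rw [MulOpposite.unop_op, mul_inv_cancel_left]
    · intro y hy
      have hy' : m₂ = m₁ * (MulOpposite.op y).unop := hy
      rw [MulOpposite.unop_op] at hy'
      rw [hy', inv_mul_cancel_left]
  · intro g b e
    show a g * g • (e * (MulOpposite.op b).unop) = a g * g • e * (MulOpposite.op (g • b)).unop
    rw [MulOpposite.unop_op, MulOpposite.unop_op, smul_mul', mul_assoc]
  · intro g
    show a g * g • (1 : A) = 1 * (MulOpposite.op (a g)).unop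
    rw [smul_one, mul_one, one_mul, MulOpposite.unop_op]

end Groth.Agent.S13192
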