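import Groth.Statements.S13200
import Groth.Agent.Lib.Helper8.UB1
import Groth.Agent.Lib.Helper8.CplQuot1
import Groth.Agent.Lib.Helper8.HensEq2
import Groth.Agent.Lib.Helper8.IntClSemi1
import Groth.Agent.Lib.Helper8.EssFT4

set_option autoImplicit false
universe u
open Hensel

namespace Groth.Agent.S13200

/-- Let R be an excellent local ring which is strictly henselian (henselian with separably closed
residue field), and let R^ denote its completion at the maximal ideal. An element Δ of R is a prime
element of R exactly when its image in R^ is a prime element of R^. -/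
theorem result
    (R : Type u) [CommRing R] [HenselianLocalRing R] [IsSepClosed (IsLocalRing.ResidueField R)]
    (hR : EGA4.IsExcellent R) (Δ : R) :
    Prime Δ ↔ Prime (algebraMap R (AdicCompletion (IsLocalRing.maximalIdeal R) R) Δ) := by
  classical
  haveI hNoeth : IsNoetherianRing R := hR.1
  haveI : IsNoetherianRing (AdicCompletion (IsLocalRing.maximalIdeal R) R) :=
    Groth.Agent.Helper8.AdicReg.isNoetherianRing R _
  haveI : Module.FaithfullyFlat R (AdicCompletion (IsLocalRing.maximalIdeal R) R) :=
    Module.FaithfullyFlat.of_flat_of_isLocalHom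
  have hinj : Function.Injective (algebraMap R (AdicCompletion (IsLocalRing.maximalIdeal R) R)) :=
    FaithfulSMul.algebraMap_injective _ _
  have hspan : (Ideal.span {Δ}).map (algebraMap R (AdicCompletion (IsLocalRing.maximalIdeal R) R)) =
      Ideal.span {algebraMap R (AdicCompletion (IsLocalRing.maximalIdeal R) R) Δ} := by
    rw [Ideal.map_span, Set.image_singleton]
  constructor
  · intro hΔ
    have hne : algebraMap R (AdicCompletion (IsLocalRing.maximalIdeal R) R) Δ ≠ 0 := by
      rw [Ne, ← map_zero (algebraMap R (AdicCompletion (IsLocalRing.maximalIdeal R) R)),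
        hinj.eq_iff]
      exact hΔ.ne_zero
    rw [← Ideal.span_singleton_prime hne, ← hspan]
    haveI hprime : (Ideal.span {Δ}).IsPrime := (Ideal.span_singleton_prime hΔ.ne_zero).mpr hΔ
    haveI : IsDomain (R ⧸ Ideal.span {Δ}) := Ideal.Quotient.isDomain _
    haveI : Nontrivial (R ⧸ Ideal.span {Δ}) := inferInstance
    haveI : IsLocalRing (R ⧸ Ideal.span {Δ}) := inferInstance
    have hGN : EGA4.HasGeomNormalFormalFibres R :=
      Groth.Agent.Helper8.HensEq.hasGeomNormalFormalFibres_of_isGRing R hR.2.2.1
    have hD : EGA4.HasGeomNormalFormalFibres (R ⧸ Ideal.span {Δ}) :=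
      Groth.Agent.Helper8.EssFT.hasGeomNormalFormalFibres_of_essFiniteType R hGN _
    haveI : Algebra.IsIntegral R (R ⧸ Ideal.span {Δ}) :=
      Algebra.isIntegral_of_surjective Ideal.Quotient.mk_surjective
    haveI : Algebra.IsIntegral R (integralClosure (R ⧸ Ideal.span {Δ})
        (FractionRing (R ⧸ Ideal.span {Δ}))) := Algebra.IsIntegral.trans (R ⧸ Ideal.span {Δ})
    have hloc : IsLocalRing (integralClosure (R ⧸ Ideal.span {Δ})
        (FractionRing (R ⧸ Ideal.span {Δ}))) :=
      Groth.Agent.Helper8.IntClSemi.isLocalRing_of_integral_domain R _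
    haveI hdom : IsDomain (EGA4.Cpl (R ⧸ Ideal.span {Δ})) :=
      Groth.Agent.Helper8.UB.isDomain_cpl_of_isLocalRing (R ⧸ Ideal.span {Δ}) hD hloc
    rw [← Groth.Agent.Helper8.CplQuot.ker_psi R (Ideal.span {Δ})]
    exact RingHom.ker_isPrime _
  · intro hΔ
    have hne : Δ ≠ 0 := by
      rintro rfl
      exact hΔ.ne_zero (map_zero _)
    refine ⟨hne, ?_, ?_⟩
    · intro hu
      exact hΔ.not_isUnit (hu.map _)
    · intro a b hab
      have h1 : algebraMap R (AdicCompletion (IsLocalRing.maximalIdeal R) R) Δ ∣
          algebraMap R _ a * algebraMap R _ b := by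
        rw [← map_mul]
        exact map_dvd _ hab
      have key : ∀ c : R, algebraMap R (AdicCompletion (IsLocalRing.maximalIdeal R) R) Δ ∣
          algebraMap R _ c → Δ ∣ c := by
        intro c hc
        rw [← Ideal.mem_span_singleton, ← hspan] at hc
        have h2 : c ∈ ((Ideal.span {Δ}).map
            (algebraMap R (AdicCompletion (IsLocalRing.maximalIdeal R) R))).comap
            (algebraMap R (AdicCompletion (IsLocalRing.maximalIdeal R) R)) := hc
        rw [Ideal.comap_map_eq_self_of_faithfullyFlat] at h2
        exact Ideal.mem_span_singleton.mp h2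
      rcases hΔ.dvd_or_dvd h1 with h | h
      · exact Or.inl (key a h)
      · exact Or.inr (key b h)

end Groth.Agent.S13200
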