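import Groth.Statements.S13206
import Mathlib

set_option autoImplicit false
universe u
open CategoryTheory AlgebraicGeometry
open AlgGrp

namespace Groth.Agent.S13206

/-- Let X → S be a separated morphism of schemes and let a finite group G act on X through
S-automorphisms. Then the functor of G-fixed points is represented by a closed subscheme of X: there
are a scheme Z and a closed immersion i : Z → X with i ∘ g = i for all g ∈ G such that every
morphism x : T → X with g ∘ x = x for all g ∈ G factors uniquely through i. (The published statement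
is for an algebraic space X over S, also treats the locally separated case and notes compatibility
with base change; this row is the separated case for schemes.) -/
theorem result
    {X S : Scheme.{u}} (p : X ⟶ S) [IsSeparated p]
    (G : Type u) [Group G] [Finite G] (ρ : G →* Aut X) (hρ : ∀ g : G, (ρ g).hom ≫ p = p) :
    ∃ (Z : Scheme.{u}) (i : Z ⟶ X), IsClosedImmersion i ∧ (∀ g : G, i ≫ (ρ g).hom = i) ∧
      ∀ (T : Scheme.{u}) (x : T ⟶ X), (∀ g : G, x ≫ (ρ g).hom = x) → ∃! z : T ⟶ Z, z ≫ i = x := by
  classical
  have := Fintype.ofFinite G
  have key : ∀ F : Finset G, ∃ (Z : Scheme.{u}) (i : Z ⟶ X), IsClosedImmersion i ∧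
      (∀ g ∈ F, i ≫ (ρ g).hom = i) ∧
      ∀ (T : Scheme.{u}) (x : T ⟶ X), (∀ g ∈ F, x ≫ (ρ g).hom = x) → ∃ z : T ⟶ Z, z ≫ i = x := by
    intro F
    induction F using Finset.induction_on with
    | empty =>
      exact ⟨X, 𝟙 X, inferInstance, by simp, fun T x _ => ⟨x, by simp⟩⟩
    | insert g F _ ih =>
      obtain ⟨Z, i, hi, hfix, hlift⟩ := ih
      let A : Over S := Over.mk (i ≫ p)
      let B : Over S := Over.mk p
      let a : A ⟶ B := Over.homMk i rfl
      let b : A ⟶ B := Over.homMk (i ≫ (ρ g).hom) (by
        show (i ≫ (ρ g).hom) ≫ p = i ≫ p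
        rw [Category.assoc, hρ])
      have hsep : IsSeparated B.hom := by
        show IsSeparated p
        infer_instance
      have hcl : IsClosedImmersion (Limits.equalizer.ι a b).left :=
        isClosedImmersion_equalizer_ι_left a b
      refine ⟨(Limits.equalizer a b).left, (Limits.equalizer.ι a b).left ≫ i, inferInstance, ?_, ?_⟩
      · intro g' hg'
        rcases Finset.mem_insert.mp hg' with rfl | hg'
        · have := congrArg CommaMorphism.left (Limits.equalizer.condition a b)
          simp only [Over.comp_left] at this
          rw [Category.assoc]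
          exact this.symm
        · rw [Category.assoc, hfix g' hg']
      · intro T x hx
        obtain ⟨z, hz⟩ := hlift T x (fun g' hg' => hx g' (Finset.mem_insert_of_mem hg'))
        let T' : Over S := Over.mk (z ≫ i ≫ p)
        let zz : T' ⟶ A := Over.homMk z rfl
        have hzz : zz ≫ a = zz ≫ b := by
          ext
          show z ≫ i = z ≫ i ≫ (ρ g).hom
          rw [← Category.assoc, hz]
          exact (hx g (Finset.mem_insert_self _ _)).symm
        refine ⟨(Limits.equalizer.lift zz hzz).left, ?_⟩
        rw [← Category.assoc, ← Over.comp_left, Limits.equalizer.lift_ι]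
        exact hz
  obtain ⟨Z, i, hi, hfix, hlift⟩ := key Finset.univ
  refine ⟨Z, i, hi, fun g => hfix g (Finset.mem_univ _), fun T x hx => ?_⟩
  obtain ⟨z, hz⟩ := hlift T x (fun g _ => hx g)
  refine ⟨z, hz, fun z' hz' => ?_⟩
  rw [← cancel_mono i, hz, hz']

end Groth.Agent.S13206
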