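import Groth.Statements.S13207
import Mathlib
import Groth.Agent.S13203

set_option autoImplicit false
set_option backward.isDefEq.respectTransparency false
set_option backward.isDefEq.respectTransparency.types false
universe u
open CategoryTheory CategoryTheory.Limits AlgebraicGeometry
open Neron

namespace Groth.Agent.S13207

open Groth.Agent.S17731 (map_fst map_snd)

section
variable {I : Type u} (B N : I → Scheme.{u}) (f : ∀ i, N i ⟶ B i)

theorem map_sigma_apply (j : I) (z : N j) :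
    (Limits.Sigma.map f) ((Limits.Sigma.ι N j) z) = (Limits.Sigma.ι B j) ((f j) z) := by
  rw [← Scheme.Hom.comp_apply, ← Scheme.Hom.comp_apply, Limits.Sigma.ι_map]

/-- (K) the coproduct square is cartesian -/
theorem isPullback_sigma (i : I) :
    IsPullback (f i) (Limits.Sigma.ι N i) (Limits.Sigma.ι B i) (Limits.Sigma.map f) := by
  apply IsOpenImmersion.isPullback
  · exact Limits.Sigma.ι_map f i
  · ext y
    obtain ⟨⟨j, z⟩, rfl⟩ := (sigmaMk N).surjective y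
    rw [sigmaMk_mk]
    constructor
    · rintro ⟨b, hb⟩
      have hb' : (Limits.Sigma.ι B i) b = (Limits.Sigma.ι B j) ((f j) z) :=
        hb.trans (map_sigma_apply B N f j z)
      have h1 := (sigmaι_eq_iff B i j b ((f j) z)).mp hb'
      obtain rfl : i = j := congrArg Sigma.fst h1
      exact ⟨z, rfl⟩
    · rintro ⟨w, hw⟩
      have h1 := (sigmaι_eq_iff N i j w z).mp hw
      obtain rfl : i = j := congrArg Sigma.fst h1
      exact ⟨(f i) z, (map_sigma_apply B N f i z).symm⟩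

theorem smooth_sigma_map (h : ∀ i, Smooth (f i)) : Smooth (Limits.Sigma.map f) := by
  rw [IsZariskiLocalAtSource.iff_of_openCover (P := @Smooth) (sigmaOpenCover N)]
  intro i
  have e : (sigmaOpenCover N).f i ≫ Limits.Sigma.map f = f i ≫ Limits.Sigma.ι B i :=
    Limits.Sigma.ι_map f i
  rw [e]
  haveI := h i
  infer_instance


theorem forward (U : (∐ B).Opens) (hU : CInt.IsSchematicallyDense U)
    (hS : Smooth (Limits.Sigma.map f))
    (hN : ∀ Y : Over (∐ B), Smooth Y.hom →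
        Function.Bijective (fun g : Y ⟶ Over.mk (Limits.Sigma.map f) => (Over.pullback U.ι).map g))
    (i : I) :
    Smooth (f i) ∧ ∀ Y : Over (B i), Smooth Y.hom →
        Function.Bijective (fun g : Y ⟶ Over.mk (f i) =>
          (Over.pullback ((Limits.Sigma.ι B i) ⁻¹ᵁ U).ι).map g) := by
  have hK := (isPullback_sigma B N f i).flip
  have hsm : Smooth (f i) := MorphismProperty.of_isPullback hK hS
  refine ⟨hsm, fun Y hY => ?_⟩
  have : Smooth (Over.mk (Limits.Sigma.map f)).hom := hS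
  have : Smooth Y.hom := hY
  have key := Groth.Agent.S13203.main (Limits.Sigma.ι B i) U hU (Over.mk (Limits.Sigma.map f)) hN Y
  let e : Over.mk (f i) ≅ (Over.pullback (Limits.Sigma.ι B i)).obj (Over.mk (Limits.Sigma.map f)) :=
    Over.isoMk hK.isoPullback hK.isoPullback_hom_snd
  set V := (Limits.Sigma.ι B i) ⁻¹ᵁ U with hV
  constructor
  · intro a b hab
    have hab' : (Over.pullback V.ι).map a = (Over.pullback V.ι).map b := hab
    have h2 : (Over.pullback V.ι).map (a ≫ e.hom) = (Over.pullback V.ι).map (b ≫ e.hom) := by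
      rw [Functor.map_comp, Functor.map_comp, hab']
    have h3 : a ≫ e.hom = b ≫ e.hom := key.1 h2
    exact (cancel_mono e.hom).mp h3
  · intro m
    obtain ⟨g', hg'⟩ := key.2 (m ≫ (Over.pullback V.ι).map e.hom)
    have hg'' : (Over.pullback V.ι).map g' = m ≫ (Over.pullback V.ι).map e.hom := hg'
    refine ⟨g' ≫ e.inv, ?_⟩
    change (Over.pullback V.ι).map (g' ≫ e.inv) = m
    rw [Functor.map_comp, hg'', Category.assoc, ← Functor.map_comp, e.hom_inv_id,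
      CategoryTheory.Functor.map_id, Category.comp_id]


/-- the open cover of `T` induced by the coproduct decomposition of `∐ B` -/
noncomputable def cov {T : Scheme.{u}} (y : T ⟶ ∐ B) : T.OpenCover :=
  Scheme.Cover.mkOfCovers I (fun i => pullback y (Limits.Sigma.ι B i))
    (fun i => pullback.fst y (Limits.Sigma.ι B i))
    (fun x => by
      obtain ⟨⟨i, b⟩, hb⟩ := (sigmaMk B).surjective (y x)
      rw [sigmaMk_mk] at hb
      have hx : x ∈ Set.range (pullback.fst y (Limits.Sigma.ι B i)) := by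
        rw [IsOpenImmersion.range_pullbackFst]
        exact ⟨b, hb⟩
      obtain ⟨z, hz⟩ := hx
      exact ⟨i, z, hz⟩)

section back
variable (U : (∐ B).Opens) (Y : Over (∐ B))

theorem exists_theta (i : I) :
    ∃ θ : pullback (pullback.snd Y.hom (Limits.Sigma.ι B i)) ((Limits.Sigma.ι B i) ⁻¹ᵁ U).ι ⟶ pullback Y.hom U.ι,
      θ ≫ pullback.fst Y.hom U.ι = pullback.fst (pullback.snd Y.hom (Limits.Sigma.ι B i)) ((Limits.Sigma.ι B i) ⁻¹ᵁ U).ι ≫ (pullback.fst Y.hom (Limits.Sigma.ι B i)) ∧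
      θ ≫ pullback.snd Y.hom U.ι = pullback.snd (pullback.snd Y.hom (Limits.Sigma.ι B i)) ((Limits.Sigma.ι B i) ⁻¹ᵁ U).ι ≫ ((Limits.Sigma.ι B i) ∣_ U) := by
  have c1 : (pullback.fst Y.hom (Limits.Sigma.ι B i)) ≫ Y.hom = (pullback.snd Y.hom (Limits.Sigma.ι B i)) ≫ (Limits.Sigma.ι B i) := pullback.condition
  have c2 : pullback.fst (pullback.snd Y.hom (Limits.Sigma.ι B i)) ((Limits.Sigma.ι B i) ⁻¹ᵁ U).ι ≫ (pullback.snd Y.hom (Limits.Sigma.ι B i)) = pullback.snd (pullback.snd Y.hom (Limits.Sigma.ι B i)) ((Limits.Sigma.ι B i) ⁻¹ᵁ U).ι ≫ ((Limits.Sigma.ι B i) ⁻¹ᵁ U).ι :=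
    pullback.condition
  have w : (pullback.fst (pullback.snd Y.hom (Limits.Sigma.ι B i)) ((Limits.Sigma.ι B i) ⁻¹ᵁ U).ι ≫ (pullback.fst Y.hom (Limits.Sigma.ι B i))) ≫ Y.hom =
      (pullback.snd (pullback.snd Y.hom (Limits.Sigma.ι B i)) ((Limits.Sigma.ι B i) ⁻¹ᵁ U).ι ≫ ((Limits.Sigma.ι B i) ∣_ U)) ≫ U.ι := by
    calc (pullback.fst (pullback.snd Y.hom (Limits.Sigma.ι B i)) ((Limits.Sigma.ι B i) ⁻¹ᵁ U).ι ≫ (pullback.fst Y.hom (Limits.Sigma.ι B i))) ≫ Y.hom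
        = (pullback.fst (pullback.snd Y.hom (Limits.Sigma.ι B i)) ((Limits.Sigma.ι B i) ⁻¹ᵁ U).ι ≫ (pullback.snd Y.hom (Limits.Sigma.ι B i))) ≫ (Limits.Sigma.ι B i) := by
          rw [Category.assoc, c1, Category.assoc]
      _ = pullback.snd (pullback.snd Y.hom (Limits.Sigma.ι B i)) ((Limits.Sigma.ι B i) ⁻¹ᵁ U).ι ≫ ((Limits.Sigma.ι B i) ⁻¹ᵁ U).ι ≫ (Limits.Sigma.ι B i) := by rw [c2, Category.assoc]
      _ = (pullback.snd (pullback.snd Y.hom (Limits.Sigma.ι B i)) ((Limits.Sigma.ι B i) ⁻¹ᵁ U).ι ≫ ((Limits.Sigma.ι B i) ∣_ U)) ≫ U.ι := by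
          rw [Category.assoc, morphismRestrict_ι]
  exact ⟨pullback.lift _ _ w, pullback.lift_fst _ _ _, pullback.lift_snd _ _ _⟩

theorem exists_loc (i : I) (g : Y ⟶ Over.mk (Limits.Sigma.map f)) :
    ∃ γ : Over.mk (pullback.snd Y.hom (Limits.Sigma.ι B i)) ⟶ Over.mk (f i), γ.left ≫ (Limits.Sigma.ι N i) = (pullback.fst Y.hom (Limits.Sigma.ι B i)) ≫ g.left := by
  have hK := (isPullback_sigma B N f i).flip
  have hg : g.left ≫ (Limits.Sigma.map f) = Y.hom := Over.w g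
  have c1 : (pullback.fst Y.hom (Limits.Sigma.ι B i)) ≫ Y.hom = (pullback.snd Y.hom (Limits.Sigma.ι B i)) ≫ (Limits.Sigma.ι B i) := pullback.condition
  have w : ((pullback.fst Y.hom (Limits.Sigma.ι B i)) ≫ g.left) ≫ (Limits.Sigma.map f) = (pullback.snd Y.hom (Limits.Sigma.ι B i)) ≫ (Limits.Sigma.ι B i) := by
    rw [Category.assoc, hg, c1]
  exact ⟨Over.homMk (hK.lift ((pullback.fst Y.hom (Limits.Sigma.ι B i)) ≫ g.left) (pullback.snd Y.hom (Limits.Sigma.ι B i)) w) (hK.lift_snd _ _ _), hK.lift_fst _ _ _⟩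

theorem restrict_compat (i : I) (θ : pullback (pullback.snd Y.hom (Limits.Sigma.ι B i)) ((Limits.Sigma.ι B i) ⁻¹ᵁ U).ι ⟶ pullback Y.hom U.ι)
    (hθ1 : θ ≫ pullback.fst Y.hom U.ι = pullback.fst (pullback.snd Y.hom (Limits.Sigma.ι B i)) ((Limits.Sigma.ι B i) ⁻¹ᵁ U).ι ≫ (pullback.fst Y.hom (Limits.Sigma.ι B i)))
    (g : Y ⟶ Over.mk (Limits.Sigma.map f)) (γ : Over.mk (pullback.snd Y.hom (Limits.Sigma.ι B i)) ⟶ Over.mk (f i))
    (hγ : γ.left ≫ (Limits.Sigma.ι N i) = (pullback.fst Y.hom (Limits.Sigma.ι B i)) ≫ g.left) :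
    ((Over.pullback ((Limits.Sigma.ι B i) ⁻¹ᵁ U).ι).map γ).left ≫ pullback.fst (f i) ((Limits.Sigma.ι B i) ⁻¹ᵁ U).ι ≫ (Limits.Sigma.ι N i) =
      θ ≫ ((Over.pullback U.ι).map g).left ≫ pullback.fst (Limits.Sigma.map f) U.ι := by
  have h1 : ((Over.pullback ((Limits.Sigma.ι B i) ⁻¹ᵁ U).ι).map γ).left ≫ pullback.fst (f i) ((Limits.Sigma.ι B i) ⁻¹ᵁ U).ι =
      pullback.fst (pullback.snd Y.hom (Limits.Sigma.ι B i)) ((Limits.Sigma.ι B i) ⁻¹ᵁ U).ι ≫ γ.left := map_fst ((Limits.Sigma.ι B i) ⁻¹ᵁ U) γ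
  have h2 : ((Over.pullback U.ι).map g).left ≫ pullback.fst (Limits.Sigma.map f) U.ι =
      pullback.fst Y.hom U.ι ≫ g.left := map_fst U g
  calc ((Over.pullback ((Limits.Sigma.ι B i) ⁻¹ᵁ U).ι).map γ).left ≫ pullback.fst (f i) ((Limits.Sigma.ι B i) ⁻¹ᵁ U).ι ≫ (Limits.Sigma.ι N i)
      = (((Over.pullback ((Limits.Sigma.ι B i) ⁻¹ᵁ U).ι).map γ).left ≫ pullback.fst (f i) ((Limits.Sigma.ι B i) ⁻¹ᵁ U).ι) ≫ (Limits.Sigma.ι N i) :=
        (Category.assoc _ _ _).symm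
    _ = (pullback.fst (pullback.snd Y.hom (Limits.Sigma.ι B i)) ((Limits.Sigma.ι B i) ⁻¹ᵁ U).ι ≫ γ.left) ≫ (Limits.Sigma.ι N i) := by rw [h1]
    _ = pullback.fst (pullback.snd Y.hom (Limits.Sigma.ι B i)) ((Limits.Sigma.ι B i) ⁻¹ᵁ U).ι ≫ ((pullback.fst Y.hom (Limits.Sigma.ι B i)) ≫ g.left) := by rw [Category.assoc, hγ]
    _ = (θ ≫ pullback.fst Y.hom U.ι) ≫ g.left := by rw [hθ1, Category.assoc]
    _ = θ ≫ ((Over.pullback U.ι).map g).left ≫ pullback.fst (Limits.Sigma.map f) U.ι := by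
        rw [Category.assoc, h2]

theorem exists_local_target (i : I) (θ : pullback (pullback.snd Y.hom (Limits.Sigma.ι B i)) ((Limits.Sigma.ι B i) ⁻¹ᵁ U).ι ⟶ pullback Y.hom U.ι)
    (hθ2 : θ ≫ pullback.snd Y.hom U.ι = pullback.snd (pullback.snd Y.hom (Limits.Sigma.ι B i)) ((Limits.Sigma.ι B i) ⁻¹ᵁ U).ι ≫ ((Limits.Sigma.ι B i) ∣_ U))
    (m : (Over.pullback U.ι).obj Y ⟶ (Over.pullback U.ι).obj (Over.mk (Limits.Sigma.map f))) :
    ∃ mi : (Over.pullback ((Limits.Sigma.ι B i) ⁻¹ᵁ U).ι).obj (Over.mk (pullback.snd Y.hom (Limits.Sigma.ι B i))) ⟶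
        (Over.pullback ((Limits.Sigma.ι B i) ⁻¹ᵁ U).ι).obj (Over.mk (f i)),
      mi.left ≫ pullback.fst (f i) ((Limits.Sigma.ι B i) ⁻¹ᵁ U).ι ≫ (Limits.Sigma.ι N i) = θ ≫ m.left ≫ pullback.fst (Limits.Sigma.map f) U.ι := by
  have hK := (isPullback_sigma B N f i).flip
  have hm : m.left ≫ pullback.snd (Limits.Sigma.map f) U.ι = pullback.snd Y.hom U.ι := Over.w m
  have c0 : pullback.fst (Limits.Sigma.map f) U.ι ≫ (Limits.Sigma.map f) = pullback.snd (Limits.Sigma.map f) U.ι ≫ U.ι := pullback.condition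
  have c2 : pullback.fst (pullback.snd Y.hom (Limits.Sigma.ι B i)) ((Limits.Sigma.ι B i) ⁻¹ᵁ U).ι ≫ (pullback.snd Y.hom (Limits.Sigma.ι B i)) = pullback.snd (pullback.snd Y.hom (Limits.Sigma.ι B i)) ((Limits.Sigma.ι B i) ⁻¹ᵁ U).ι ≫ ((Limits.Sigma.ι B i) ⁻¹ᵁ U).ι :=
    pullback.condition
  have w : (θ ≫ m.left ≫ pullback.fst (Limits.Sigma.map f) U.ι) ≫ (Limits.Sigma.map f) =
      (pullback.fst (pullback.snd Y.hom (Limits.Sigma.ι B i)) ((Limits.Sigma.ι B i) ⁻¹ᵁ U).ι ≫ (pullback.snd Y.hom (Limits.Sigma.ι B i))) ≫ (Limits.Sigma.ι B i) := by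
    calc (θ ≫ m.left ≫ pullback.fst (Limits.Sigma.map f) U.ι) ≫ (Limits.Sigma.map f)
        = θ ≫ m.left ≫ pullback.snd (Limits.Sigma.map f) U.ι ≫ U.ι := by
          rw [Category.assoc, Category.assoc, c0]
      _ = θ ≫ pullback.snd Y.hom U.ι ≫ U.ι := by rw [← Category.assoc m.left, hm]
      _ = pullback.snd (pullback.snd Y.hom (Limits.Sigma.ι B i)) ((Limits.Sigma.ι B i) ⁻¹ᵁ U).ι ≫ ((Limits.Sigma.ι B i) ∣_ U) ≫ U.ι := by
          rw [← Category.assoc θ, hθ2, Category.assoc]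
      _ = (pullback.fst (pullback.snd Y.hom (Limits.Sigma.ι B i)) ((Limits.Sigma.ι B i) ⁻¹ᵁ U).ι ≫ (pullback.snd Y.hom (Limits.Sigma.ι B i))) ≫ (Limits.Sigma.ι B i) := by
          rw [morphismRestrict_ι, ← Category.assoc (pullback.snd (pullback.snd Y.hom (Limits.Sigma.ι B i)) ((Limits.Sigma.ι B i) ⁻¹ᵁ U).ι), ← c2]
  have ha1 : hK.lift (θ ≫ m.left ≫ pullback.fst (Limits.Sigma.map f) U.ι) (pullback.fst (pullback.snd Y.hom (Limits.Sigma.ι B i)) ((Limits.Sigma.ι B i) ⁻¹ᵁ U).ι ≫ (pullback.snd Y.hom (Limits.Sigma.ι B i))) w ≫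
      (Limits.Sigma.ι N i) = θ ≫ m.left ≫ pullback.fst (Limits.Sigma.map f) U.ι := hK.lift_fst _ _ _
  have ha2 : hK.lift (θ ≫ m.left ≫ pullback.fst (Limits.Sigma.map f) U.ι) (pullback.fst (pullback.snd Y.hom (Limits.Sigma.ι B i)) ((Limits.Sigma.ι B i) ⁻¹ᵁ U).ι ≫ (pullback.snd Y.hom (Limits.Sigma.ι B i))) w ≫
      f i = pullback.fst (pullback.snd Y.hom (Limits.Sigma.ι B i)) ((Limits.Sigma.ι B i) ⁻¹ᵁ U).ι ≫ (pullback.snd Y.hom (Limits.Sigma.ι B i)) := hK.lift_snd _ _ _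
  refine ⟨Over.homMk (pullback.lift
    (hK.lift (θ ≫ m.left ≫ pullback.fst (Limits.Sigma.map f) U.ι) (pullback.fst (pullback.snd Y.hom (Limits.Sigma.ι B i)) ((Limits.Sigma.ι B i) ⁻¹ᵁ U).ι ≫ (pullback.snd Y.hom (Limits.Sigma.ι B i))) w)
    (pullback.snd (pullback.snd Y.hom (Limits.Sigma.ι B i)) ((Limits.Sigma.ι B i) ⁻¹ᵁ U).ι) (ha2.trans c2)) (pullback.lift_snd _ _ _), ?_⟩
  change pullback.lift
    (hK.lift (θ ≫ m.left ≫ pullback.fst (Limits.Sigma.map f) U.ι) (pullback.fst (pullback.snd Y.hom (Limits.Sigma.ι B i)) ((Limits.Sigma.ι B i) ⁻¹ᵁ U).ι ≫ (pullback.snd Y.hom (Limits.Sigma.ι B i))) w)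
    (pullback.snd (pullback.snd Y.hom (Limits.Sigma.ι B i)) ((Limits.Sigma.ι B i) ⁻¹ᵁ U).ι) (ha2.trans c2) ≫ pullback.fst (f i) ((Limits.Sigma.ι B i) ⁻¹ᵁ U).ι ≫ (Limits.Sigma.ι N i) = _
  rw [pullback.lift_fst_assoc, ha1]

theorem exists_r (i : I) (θ : pullback (pullback.snd Y.hom (Limits.Sigma.ι B i)) ((Limits.Sigma.ι B i) ⁻¹ᵁ U).ι ⟶ pullback Y.hom U.ι)
    (hθ1 : θ ≫ pullback.fst Y.hom U.ι = pullback.fst (pullback.snd Y.hom (Limits.Sigma.ι B i)) ((Limits.Sigma.ι B i) ⁻¹ᵁ U).ι ≫ (pullback.fst Y.hom (Limits.Sigma.ι B i)))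
    (hθ2 : θ ≫ pullback.snd Y.hom U.ι = pullback.snd (pullback.snd Y.hom (Limits.Sigma.ι B i)) ((Limits.Sigma.ι B i) ⁻¹ᵁ U).ι ≫ ((Limits.Sigma.ι B i) ∣_ U)) :
    ∃ r : pullback (pullback.fst Y.hom U.ι ≫ Y.hom) (Limits.Sigma.ι B i) ⟶ pullback (pullback.snd Y.hom (Limits.Sigma.ι B i)) ((Limits.Sigma.ι B i) ⁻¹ᵁ U).ι,
      r ≫ θ = pullback.fst (pullback.fst Y.hom U.ι ≫ Y.hom) (Limits.Sigma.ι B i) := by
  have cq : pullback.fst (pullback.fst Y.hom U.ι ≫ Y.hom) (Limits.Sigma.ι B i) ≫ pullback.fst Y.hom U.ι ≫ Y.hom =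
      pullback.snd (pullback.fst Y.hom U.ι ≫ Y.hom) (Limits.Sigma.ι B i) ≫ (Limits.Sigma.ι B i) := pullback.condition
  have cU : pullback.fst Y.hom U.ι ≫ Y.hom = pullback.snd Y.hom U.ι ≫ U.ι := pullback.condition
  have wα : (pullback.fst (pullback.fst Y.hom U.ι ≫ Y.hom) (Limits.Sigma.ι B i) ≫ pullback.fst Y.hom U.ι) ≫ Y.hom =
      pullback.snd (pullback.fst Y.hom U.ι ≫ Y.hom) (Limits.Sigma.ι B i) ≫ (Limits.Sigma.ι B i) := by
    rw [Category.assoc]; exact cq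
  have hR := isPullback_morphismRestrict (Limits.Sigma.ι B i) U
  have wβ : (pullback.fst (pullback.fst Y.hom U.ι ≫ Y.hom) (Limits.Sigma.ι B i) ≫ pullback.snd Y.hom U.ι) ≫ U.ι =
      pullback.snd (pullback.fst Y.hom U.ι ≫ Y.hom) (Limits.Sigma.ι B i) ≫ (Limits.Sigma.ι B i) := by
    rw [Category.assoc, ← cU]; exact cq
  have hβ1 : hR.lift _ _ wβ ≫ ((Limits.Sigma.ι B i) ∣_ U) =
      pullback.fst (pullback.fst Y.hom U.ι ≫ Y.hom) (Limits.Sigma.ι B i) ≫ pullback.snd Y.hom U.ι :=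
    hR.lift_fst _ _ _
  have hβ2 : hR.lift _ _ wβ ≫ ((Limits.Sigma.ι B i) ⁻¹ᵁ U).ι = pullback.snd (pullback.fst Y.hom U.ι ≫ Y.hom) (Limits.Sigma.ι B i) :=
    hR.lift_snd _ _ _
  have hα1 : pullback.lift _ _ wα ≫ (pullback.fst Y.hom (Limits.Sigma.ι B i)) =
      pullback.fst (pullback.fst Y.hom U.ι ≫ Y.hom) (Limits.Sigma.ι B i) ≫ pullback.fst Y.hom U.ι :=
    pullback.lift_fst _ _ _
  have hα2 : pullback.lift _ _ wα ≫ (pullback.snd Y.hom (Limits.Sigma.ι B i)) = pullback.snd (pullback.fst Y.hom U.ι ≫ Y.hom) (Limits.Sigma.ι B i) :=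
    pullback.lift_snd _ _ _
  refine ⟨pullback.lift (pullback.lift _ _ wα) (hR.lift _ _ wβ) (hα2.trans hβ2.symm), ?_⟩
  refine pullback.hom_ext (f := Y.hom) (g := U.ι) ?_ ?_
  · rw [Category.assoc, hθ1, pullback.lift_fst_assoc, hα1]
  · rw [Category.assoc, hθ2, pullback.lift_snd_assoc, hβ1]


theorem inj_of_local
    (hloc : ∀ i, Function.Injective (fun g : Over.mk (pullback.snd Y.hom (Limits.Sigma.ι B i)) ⟶ Over.mk (f i) =>
      (Over.pullback ((Limits.Sigma.ι B i) ⁻¹ᵁ U).ι).map g)) :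
    Function.Injective (fun g : Y ⟶ Over.mk (Limits.Sigma.map f) => (Over.pullback U.ι).map g) := by
  intro g₁ g₂ h12
  have h12' : (Over.pullback U.ι).map g₁ = (Over.pullback U.ι).map g₂ := h12
  have key : ∀ i, (pullback.fst Y.hom (Limits.Sigma.ι B i)) ≫ g₁.left = (pullback.fst Y.hom (Limits.Sigma.ι B i)) ≫ g₂.left := by
    intro i
    obtain ⟨θ, hθ1, -⟩ := exists_theta B U Y i
    obtain ⟨γ₁, hγ₁⟩ := exists_loc B N f Y i g₁
    obtain ⟨γ₂, hγ₂⟩ := exists_loc B N f Y i g₂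
    have e1 := restrict_compat B N f U Y i θ hθ1 g₁ γ₁ hγ₁
    have e2 := restrict_compat B N f U Y i θ hθ1 g₂ γ₂ hγ₂
    rw [h12'] at e1
    have e3 : ((Over.pullback ((Limits.Sigma.ι B i) ⁻¹ᵁ U).ι).map γ₁).left ≫ pullback.fst (f i) ((Limits.Sigma.ι B i) ⁻¹ᵁ U).ι =
        ((Over.pullback ((Limits.Sigma.ι B i) ⁻¹ᵁ U).ι).map γ₂).left ≫ pullback.fst (f i) ((Limits.Sigma.ι B i) ⁻¹ᵁ U).ι := by
      have e12 := e1.trans e2.symm
      exact (cancel_mono (Limits.Sigma.ι N i)).mp (by simpa only [Category.assoc] using e12)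
    have e4 : (Over.pullback ((Limits.Sigma.ι B i) ⁻¹ᵁ U).ι).map γ₁ = (Over.pullback ((Limits.Sigma.ι B i) ⁻¹ᵁ U).ι).map γ₂ := by
      apply Over.OverMorphism.ext
      exact pullback.hom_ext (f := f i) (g := ((Limits.Sigma.ι B i) ⁻¹ᵁ U).ι) e3
        ((map_snd ((Limits.Sigma.ι B i) ⁻¹ᵁ U) γ₁).trans (map_snd ((Limits.Sigma.ι B i) ⁻¹ᵁ U) γ₂).symm)
    have e5 : γ₁ = γ₂ := hloc i e4
    rw [← hγ₁, ← hγ₂, e5]
  apply Over.OverMorphism.ext
  exact Scheme.Cover.hom_ext (cov B Y.hom) _ _ (fun i => key i)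

theorem surj_of_local
    (hloc : ∀ i, Function.Surjective (fun g : Over.mk (pullback.snd Y.hom (Limits.Sigma.ι B i)) ⟶ Over.mk (f i) =>
      (Over.pullback ((Limits.Sigma.ι B i) ⁻¹ᵁ U).ι).map g)) :
    Function.Surjective (fun g : Y ⟶ Over.mk (Limits.Sigma.map f) => (Over.pullback U.ι).map g) := by
  intro m
  choose θ hθ1 hθ2 using fun i => exists_theta B U Y i
  choose mi hmi using fun i => exists_local_target B N f U Y i (θ i) (hθ2 i) m
  choose γ hγ using fun i => hloc i (mi i)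
  have hγ' : ∀ i, (Over.pullback ((Limits.Sigma.ι B i) ⁻¹ᵁ U).ι).map (γ i) = mi i := hγ
  have hγw : ∀ i, (γ i).left ≫ f i = (pullback.snd Y.hom (Limits.Sigma.ι B i)) := fun i => Over.w (γ i)
  have hcompat : ∀ i j, pullback.fst (pullback.fst Y.hom (Limits.Sigma.ι B i)) (pullback.fst Y.hom (Limits.Sigma.ι B j)) ≫ (γ i).left ≫ (Limits.Sigma.ι N i) =
      pullback.snd (pullback.fst Y.hom (Limits.Sigma.ι B i)) (pullback.fst Y.hom (Limits.Sigma.ι B j)) ≫ (γ j).left ≫ (Limits.Sigma.ι N j) := by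
    intro i j
    by_cases hij : i = j
    · subst hij
      have e : pullback.fst (pullback.fst Y.hom (Limits.Sigma.ι B i)) (pullback.fst Y.hom (Limits.Sigma.ι B i)) = pullback.snd (pullback.fst Y.hom (Limits.Sigma.ι B i)) (pullback.fst Y.hom (Limits.Sigma.ι B i)) :=
        (cancel_mono (pullback.fst Y.hom (Limits.Sigma.ι B i))).mp pullback.condition
      rw [e]
    · have hE : IsEmpty ↑(pullback (pullback.fst Y.hom (Limits.Sigma.ι B i)) (pullback.fst Y.hom (Limits.Sigma.ι B j))) := by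
        refine isEmpty_of_commSq_sigmaι_of_ne (g := B)
          (a := pullback.fst (pullback.fst Y.hom (Limits.Sigma.ι B i)) (pullback.fst Y.hom (Limits.Sigma.ι B j)) ≫ (pullback.snd Y.hom (Limits.Sigma.ι B i))) (b := pullback.snd (pullback.fst Y.hom (Limits.Sigma.ι B i)) (pullback.fst Y.hom (Limits.Sigma.ι B j)) ≫ (pullback.snd Y.hom (Limits.Sigma.ι B j))) ⟨?_⟩ hij
        have ci : (pullback.fst Y.hom (Limits.Sigma.ι B i)) ≫ Y.hom = (pullback.snd Y.hom (Limits.Sigma.ι B i)) ≫ (Limits.Sigma.ι B i) := pullback.condition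
        have cj : (pullback.fst Y.hom (Limits.Sigma.ι B j)) ≫ Y.hom = (pullback.snd Y.hom (Limits.Sigma.ι B j)) ≫ (Limits.Sigma.ι B j) := pullback.condition
        have cij : pullback.fst (pullback.fst Y.hom (Limits.Sigma.ι B i)) (pullback.fst Y.hom (Limits.Sigma.ι B j)) ≫ (pullback.fst Y.hom (Limits.Sigma.ι B i)) = pullback.snd (pullback.fst Y.hom (Limits.Sigma.ι B i)) (pullback.fst Y.hom (Limits.Sigma.ι B j)) ≫ (pullback.fst Y.hom (Limits.Sigma.ι B j)) :=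
          pullback.condition
        calc (pullback.fst (pullback.fst Y.hom (Limits.Sigma.ι B i)) (pullback.fst Y.hom (Limits.Sigma.ι B j)) ≫ (pullback.snd Y.hom (Limits.Sigma.ι B i))) ≫ (Limits.Sigma.ι B i)
            = pullback.fst (pullback.fst Y.hom (Limits.Sigma.ι B i)) (pullback.fst Y.hom (Limits.Sigma.ι B j)) ≫ (pullback.fst Y.hom (Limits.Sigma.ι B i)) ≫ Y.hom := by rw [Category.assoc, ci]
          _ = pullback.snd (pullback.fst Y.hom (Limits.Sigma.ι B i)) (pullback.fst Y.hom (Limits.Sigma.ι B j)) ≫ (pullback.fst Y.hom (Limits.Sigma.ι B j)) ≫ Y.hom := by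
              rw [← Category.assoc (pullback.fst (pullback.fst Y.hom (Limits.Sigma.ι B i)) (pullback.fst Y.hom (Limits.Sigma.ι B j))), cij, Category.assoc]
          _ = (pullback.snd (pullback.fst Y.hom (Limits.Sigma.ι B i)) (pullback.fst Y.hom (Limits.Sigma.ι B j)) ≫ (pullback.snd Y.hom (Limits.Sigma.ι B j))) ≫ (Limits.Sigma.ι B j) := by rw [Category.assoc, cj]
      exact (isInitialOfIsEmpty (X := pullback (pullback.fst Y.hom (Limits.Sigma.ι B i)) (pullback.fst Y.hom (Limits.Sigma.ι B j)))).hom_ext _ _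
  obtain ⟨G, hG⟩ : ∃ G : Y.left ⟶ ∐ N, ∀ i, (pullback.fst Y.hom (Limits.Sigma.ι B i)) ≫ G = (γ i).left ≫ (Limits.Sigma.ι N i) :=
    ⟨(cov B Y.hom).glueMorphisms (fun i => (γ i).left ≫ (Limits.Sigma.ι N i)) hcompat,
      fun i => Scheme.Cover.ι_glueMorphisms (cov B Y.hom) _ hcompat i⟩
  have hGF : G ≫ (Limits.Sigma.map f) = Y.hom := by
    apply Scheme.Cover.hom_ext (cov B Y.hom)
    intro i
    change (pullback.fst Y.hom (Limits.Sigma.ι B i)) ≫ G ≫ (Limits.Sigma.map f) = (pullback.fst Y.hom (Limits.Sigma.ι B i)) ≫ Y.hom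
    rw [← Category.assoc, hG i, Category.assoc, Limits.Sigma.ι_map, ← Category.assoc, hγw i]
    exact pullback.condition.symm
  obtain ⟨g₀, hg₀⟩ : ∃ g₀ : Y ⟶ Over.mk (Limits.Sigma.map f), g₀.left = G := ⟨Over.homMk G hGF, rfl⟩
  refine ⟨g₀, ?_⟩
  change (Over.pullback U.ι).map g₀ = m
  apply Over.OverMorphism.ext
  have hm : m.left ≫ pullback.snd (Limits.Sigma.map f) U.ι = pullback.snd Y.hom U.ι := Over.w m
  have h2 : ((Over.pullback U.ι).map g₀).left ≫ pullback.fst (Limits.Sigma.map f) U.ι =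
      pullback.fst Y.hom U.ι ≫ g₀.left := map_fst U g₀
  rw [hg₀] at h2
  refine pullback.hom_ext (f := (Limits.Sigma.map f)) (g := U.ι) ?_ ?_
  · refine h2.trans ?_
    apply Scheme.Cover.hom_ext (cov B (pullback.fst Y.hom U.ι ≫ Y.hom))
    intro i
    obtain ⟨r, hr⟩ := exists_r B U Y i (θ i) (hθ1 i) (hθ2 i)
    change pullback.fst (pullback.fst Y.hom U.ι ≫ Y.hom) (Limits.Sigma.ι B i) ≫ pullback.fst Y.hom U.ι ≫ G =
      pullback.fst (pullback.fst Y.hom U.ι ≫ Y.hom) (Limits.Sigma.ι B i) ≫ m.left ≫ pullback.fst (Limits.Sigma.map f) U.ι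
    have h1 : ((Over.pullback ((Limits.Sigma.ι B i) ⁻¹ᵁ U).ι).map (γ i)).left ≫ pullback.fst (f i) ((Limits.Sigma.ι B i) ⁻¹ᵁ U).ι =
        pullback.fst (pullback.snd Y.hom (Limits.Sigma.ι B i)) ((Limits.Sigma.ι B i) ⁻¹ᵁ U).ι ≫ (γ i).left := map_fst ((Limits.Sigma.ι B i) ⁻¹ᵁ U) (γ i)
    calc pullback.fst (pullback.fst Y.hom U.ι ≫ Y.hom) (Limits.Sigma.ι B i) ≫ pullback.fst Y.hom U.ι ≫ G
        = r ≫ θ i ≫ pullback.fst Y.hom U.ι ≫ G := by rw [← hr, Category.assoc]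
      _ = r ≫ pullback.fst (pullback.snd Y.hom (Limits.Sigma.ι B i)) ((Limits.Sigma.ι B i) ⁻¹ᵁ U).ι ≫ (γ i).left ≫ (Limits.Sigma.ι N i) := by
          rw [← Category.assoc (θ i), hθ1 i, Category.assoc, hG i]
      _ = r ≫ (mi i).left ≫ pullback.fst (f i) ((Limits.Sigma.ι B i) ⁻¹ᵁ U).ι ≫ (Limits.Sigma.ι N i) := by
          rw [← Category.assoc (pullback.fst (pullback.snd Y.hom (Limits.Sigma.ι B i)) ((Limits.Sigma.ι B i) ⁻¹ᵁ U).ι), ← h1, hγ' i, Category.assoc]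
      _ = r ≫ θ i ≫ m.left ≫ pullback.fst (Limits.Sigma.map f) U.ι := by rw [hmi i]
      _ = pullback.fst (pullback.fst Y.hom U.ι ≫ Y.hom) (Limits.Sigma.ι B i) ≫ m.left ≫ pullback.fst (Limits.Sigma.map f) U.ι := by
          rw [← Category.assoc r, hr]
  · exact (map_snd U g₀).trans hm.symm

end back

theorem backward (U : (∐ B).Opens)
    (h : ∀ i, Smooth (f i) ∧ ∀ Y : Over (B i), Smooth Y.hom →
      Function.Bijective (fun g : Y ⟶ Over.mk (f i) => (Over.pullback ((Limits.Sigma.ι B i) ⁻¹ᵁ U).ι).map g)) :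
    Smooth (Limits.Sigma.map f) ∧ ∀ Y : Over (∐ B), Smooth Y.hom →
      Function.Bijective (fun g : Y ⟶ Over.mk (Limits.Sigma.map f) => (Over.pullback U.ι).map g) := by
  refine ⟨smooth_sigma_map B N f (fun i => (h i).1), fun Y hY => ?_⟩
  have hsm : ∀ i, Smooth (Over.mk (pullback.snd Y.hom (Limits.Sigma.ι B i))).hom := by
    intro i
    have : Smooth Y.hom := hY
    change Smooth (pullback.snd Y.hom (Limits.Sigma.ι B i))
    infer_instance
  exact ⟨inj_of_local B N f U Y (fun i => ((h i).2 _ (hsm i)).1),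
    surj_of_local B N f U Y (fun i => ((h i).2 _ (hsm i)).2)⟩

end


/-- Let (S_i)_{i ∈ I} be a family of schemes, (N_i → S_i)_{i ∈ I} morphisms of schemes, S = ∐ S_i and N
= ∐ N_i with the induced morphism N → S, and U ⊆ S a schematically dense open subscheme with
preimages U_i ⊆ S_i. Then N → S is smooth with the Néron mapping property with respect to U — for
every smooth S-scheme Y, restriction to U is a bijection from S-morphisms Y → N onto U-morphisms Y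
×_S U → N ×_S U — if and only if every N_i → S_i is smooth with the Néron mapping property with
respect to U_i. (The published statement is for algebraic spaces N_i tested against smooth algebraic
spaces, and has the same form for separated models; this row is the not-necessarily-separated case
for schemes tested against smooth schemes.) -/
theorem result
    {I : Type u} (B N : I → Scheme.{u}) (f : ∀ i, N i ⟶ B i)
    (U : (∐ B).Opens) (hU : CInt.IsSchematicallyDense U) :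
    (Smooth (Limits.Sigma.map f) ∧ ∀ Y : Over (∐ B), Smooth Y.hom →
        Function.Bijective (fun g : Y ⟶ Over.mk (Limits.Sigma.map f) => (Over.pullback U.ι).map g)) ↔
    ∀ i, Smooth (f i) ∧ ∀ Y : Over (B i), Smooth Y.hom →
        Function.Bijective (fun g : Y ⟶ Over.mk (f i) => (Over.pullback ((Limits.Sigma.ι B i) ⁻¹ᵁ U).ι).map g) := by
  constructor
  · rintro ⟨hS, hN⟩ i
    exact forward B N f U hU hS hN i
  · intro h
    exact backward B N f U h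

end Groth.Agent.S13207
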