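import Groth.Statements.S1329
-- import your own Groth.Agent.* helpers here
import Groth.Agent.Lib.Helper7.NearGen.Fibres

set_option autoImplicit false
universe u
open FlatMor

namespace Groth.Agent.S1329

open AlgebraicGeometry CategoryTheory Limits in
/-- Let f be of finite type with irreducible target. If the generic fibre has exactly n connected
components, then over some nonempty open of the target every fibre has at least n connected
components. -/
theorem result {X Y : Scheme.{u}} (f : X ⟶ Y) [IrreducibleSpace ↑Y] [LocallyOfFiniteType f] [QuasiCompact f] (n : ℕ)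
    (h : ENat.card (_root_.ConnectedComponents ↑(f.fiber (genericPoint ↑Y))) = n) :
    ∃ V : Y.Opens, (V : Set ↑Y).Nonempty ∧ ∀ y ∈ V, (n : ℕ∞) ≤ ENat.card (_root_.ConnectedComponents ↑(f.fiber y)) := by
  obtain ⟨V, hη, hV⟩ := Groth.Agent.Helper7.NearGen.connectedComponents_fibre_le f n h
  exact ⟨V, ⟨_, hη⟩, hV⟩

end Groth.Agent.S1329
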