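import Groth.Statements.S13356
import Groth.Agent.Lib.Helper6.GaCharQ

set_option autoImplicit false
universe u
open GaDual

namespace Groth.Agent.S13356

/-- Over a commutative algebra A over the rationals, the polynomials f with f(0) = 1 and f(X+Y) =
f(X)f(Y) (the characters of the additive group into the multiplicative group over A) are exactly the
polynomials exp(aX) with a in A nilpotent. -/
theorem result (A : Type u) [CommRing A] [Algebra ℚ A] (f : Polynomial A) :
    (f.eval 0 = 1 ∧
      Polynomial.aeval (MvPolynomial.X 0 + MvPolynomial.X 1 : MvPolynomial (Fin 2) A) f =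
        Polynomial.aeval (MvPolynomial.X 0 : MvPolynomial (Fin 2) A) f *
          Polynomial.aeval (MvPolynomial.X 1 : MvPolynomial (Fin 2) A) f) ↔
      ∃ a : A, IsNilpotent a ∧ (f : PowerSeries A) = PowerSeries.rescale a (PowerSeries.exp A) := by
  constructor
  · intro hchar
    have hc := (Groth.Agent.Helper6.GaChar.pchar_iff f).mp hchar
    refine ⟨f.coeff 1, ?_, ?_⟩
    · refine ⟨f.natDegree + 1, ?_⟩
      have h1 := hc.eq_expSeq (f.natDegree + 1)
      rw [Polynomial.coeff_eq_zero_of_natDegree_lt (Nat.lt_succ_self _)] at h1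
      unfold Groth.Agent.Helper6.GaChar.expSeq at h1
      have h2 := Groth.Agent.Helper6.GaChar.natCast_mul_inv_fact (A := A) (f.natDegree + 1)
      calc f.coeff 1 ^ (f.natDegree + 1)
          = f.coeff 1 ^ (f.natDegree + 1) * (((f.natDegree + 1).factorial : A) *
              algebraMap ℚ A (1 / ((f.natDegree + 1).factorial : ℚ))) := by rw [h2, mul_one]
        _ = ((f.natDegree + 1).factorial : A) * (f.coeff 1 ^ (f.natDegree + 1) *
              algebraMap ℚ A (1 / ((f.natDegree + 1).factorial : ℚ))) := by ring
        _ = 0 := by rw [← h1, mul_zero]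
    · ext n
      rw [Groth.Agent.Helper6.GaChar.coeff_rescale_exp, Polynomial.coeff_coe]
      exact hc.eq_expSeq n
  · rintro ⟨a, _, hfa⟩
    apply (Groth.Agent.Helper6.GaChar.pchar_iff f).mpr
    have : f.coeff = Groth.Agent.Helper6.GaChar.expSeq a := by
      funext n
      rw [← Polynomial.coeff_coe, hfa]
      exact Groth.Agent.Helper6.GaChar.coeff_rescale_exp a n
    rw [this]
    exact Groth.Agent.Helper6.GaChar.isChar_expSeq a

end Groth.Agent.S13356
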