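import Groth.Statements.S13361
import Mathlib

set_option autoImplicit false
universe u
open ProCompl

namespace Groth.Agent.S13361

/-- A finite abelian group with a nonzero element contained in every nonzero subgroup is isomorphic to a
cyclic group of prime-power order Z/p^n. -/
theorem result {A : Type u} [AddCommGroup A] [Finite A]
    (a : A) (ha : a ≠ 0) (h : ∀ B : AddSubgroup A, B ≠ ⊥ → a ∈ B) :
    ∃ p n : ℕ, p.Prime ∧ Nonempty (A ≃+ ZMod (p ^ n)) := by
  classical
  obtain ⟨ι, _, p, hp, e, ⟨φ⟩⟩ := AddCommGroup.equiv_directSum_zmod_of_finite (G := A)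
  have hx : φ a ≠ 0 := fun h0 => ha (by simpa using h0)
  obtain ⟨i₀, hi₀⟩ : ∃ i, (φ a) i ≠ 0 := by
    by_contra hcon
    push Not at hcon
    exact hx (DFinsupp.ext hcon)
  refine ⟨p i₀, e i₀, hp i₀, ⟨?_⟩⟩
  let ev : A →+ ZMod (p i₀ ^ e i₀) :=
    (DirectSum.component ℤ ι (fun i => ZMod (p i ^ e i)) i₀).toAddMonoidHom.comp φ.toAddMonoidHom
  have hev : ∀ x, ev x = (φ x) i₀ := fun x => rfl
  refine AddEquiv.ofBijective ev ⟨?_, ?_⟩
  · rw [injective_iff_map_eq_zero]
    intro y hy
    by_contra hne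
    have hmem : a ∈ AddSubgroup.zmultiples y := by
      apply h
      intro hbot
      exact hne (AddSubgroup.zmultiples_eq_bot.mp hbot)
    obtain ⟨k, hk⟩ := AddSubgroup.mem_zmultiples_iff.mp hmem
    apply hi₀
    rw [← hev, ← hk, map_zsmul, hy, smul_zero]
  · intro z
    refine ⟨φ.symm (DirectSum.of (fun i => ZMod (p i ^ e i)) i₀ z), ?_⟩
    rw [hev]
    simp

end Groth.Agent.S13361
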