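import Groth.Statements.S13362
import Groth.Agent.Lib.Helper6.ProCompl

set_option autoImplicit false
universe u
open ProCompl

namespace Groth.Agent.S13362

/-- An abelian group of finite exponent having a nonzero element contained in every nonzero subgroup is
finite. -/
theorem result {A : Type u} [AddCommGroup A]
    (hA : AddMonoid.exponent A ≠ 0) (a : A) (ha : a ≠ 0) (h : ∀ B : AddSubgroup A, B ≠ ⊥ → a ∈ B) :
    Finite A := by
  obtain ⟨χ, hfin, hχ⟩ := Groth.Agent.Helper6.ProCompl.exists_addHom_finite_range (AddMonoid.exponent A)
    (Nat.pos_of_ne_zero hA) (fun b => AddMonoid.exponent_nsmul_eq_zero b) ha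
  have hker : χ.ker = ⊥ := by
    by_contra hne
    exact hχ (h χ.ker hne)
  have hinj : Function.Injective χ.rangeRestrict := by
    rw [← AddMonoidHom.ker_eq_bot_iff, AddMonoidHom.ker_rangeRestrict, hker]
  exact Finite.of_injective _ hinj

end Groth.Agent.S13362
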