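import Groth.Statements.S13363
import Groth.Agent.Lib.Helper6.ProCompl

set_option autoImplicit false
universe u
open ProCompl

namespace Groth.Agent.S13363

/-- Let A be a topological abelian group such that the subgroup n·A is open for each n > 0, and a ∈ A.
Then A has an open subgroup of finite index not containing a if and only if a does not lie in the
subgroup of divisible elements ∩_n nA. -/
theorem result {A : Type u} [AddCommGroup A]
    [TopologicalSpace A] [IsTopologicalAddGroup A]
    (hn : ∀ n : ℕ, 0 < n → IsOpen (Set.range (fun x : A => n • x))) (a : A) :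
    (∃ B : AddSubgroup A, IsOpen (B : Set A) ∧ B.FiniteIndex ∧ a ∉ B) ↔
      ¬ (∀ n : ℕ, 0 < n → ∃ b : A, n • b = a) := by
  constructor
  · rintro ⟨B, -, hfi, haB⟩ hdiv
    obtain ⟨b, rfl⟩ := hdiv B.index (Nat.pos_of_ne_zero hfi.index_ne_zero)
    exact haB (AddSubgroup.nsmul_index_mem B b)
  · intro hnd
    push Not at hnd
    obtain ⟨n, hn0, hna⟩ := hnd
    let L : AddSubgroup A := (nsmulAddMonoidHom n : A →+ A).range
    have hLopen : IsOpen (L : Set A) := by
      have : (L : Set A) = Set.range (fun x : A => n • x) := by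
        ext x; simp [L]
      rw [this]; exact hn n hn0
    have hne : (QuotientAddGroup.mk a : A ⧸ L) ≠ 0 := by
      rw [Ne, QuotientAddGroup.eq_zero_iff]
      rintro ⟨b, hb⟩
      exact hna b hb
    have hBm : ∀ b : A ⧸ L, n • b = 0 := by
      intro b
      obtain ⟨x, rfl⟩ := QuotientAddGroup.mk_surjective b
      rw [← QuotientAddGroup.mk_nsmul, QuotientAddGroup.eq_zero_iff]
      exact ⟨x, rfl⟩
    obtain ⟨χ, hχfin, hχ⟩ := Groth.Agent.Helper6.ProCompl.exists_addHom_finite_range n hn0 hBm hne
    let φ : A →+ AddCircle (1 : ℚ) := χ.comp (QuotientAddGroup.mk' L)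
    have : Finite φ.range := by
      have hle : φ.range ≤ χ.range := by
        rintro _ ⟨x, rfl⟩; exact ⟨_, rfl⟩
      exact Finite.of_injective (AddSubgroup.inclusion hle) (AddSubgroup.inclusion_injective hle)
    refine ⟨φ.ker, ?_, inferInstance, fun hmem => hχ hmem⟩
    have hle : L ≤ φ.ker := by
      intro x hx
      rw [AddMonoidHom.mem_ker]
      show χ (QuotientAddGroup.mk x) = 0
      rw [(QuotientAddGroup.eq_zero_iff x).mpr hx, map_zero]
    exact AddSubgroup.isOpen_mono hle hLopen

end Groth.Agent.S13363
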