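import Groth.Statements.S13365
import Mathlib

set_option autoImplicit false
universe u
open ProCompl

namespace Groth.Agent.S13365

/-- The quotient of a profinite (compact, Hausdorff, totally disconnected) abelian topological group by
a compact subgroup is profinite. -/
theorem result {A : Type u} [AddCommGroup A] [TopologicalSpace A]
    [IsTopologicalAddGroup A] [CompactSpace A] [T2Space A] [TotallyDisconnectedSpace A]
    (B : AddSubgroup A) (hB : IsCompact (B : Set A)) :
    CompactSpace (A ⧸ B) ∧ T2Space (A ⧸ B) ∧ TotallyDisconnectedSpace (A ⧸ B) := by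
  have hcl : IsClosed (B : Set A) := hB.isClosed
  have hT2 : T2Space (A ⧸ B) := inferInstance
  refine ⟨inferInstance, hT2, ?_⟩
  have : TotallySeparatedSpace (A ⧸ B) := by
    rw [totallySeparatedSpace_iff_exists_isClopen]
    intro x y hxy
    obtain ⟨x, rfl⟩ := QuotientAddGroup.mk_surjective x
    obtain ⟨y, rfl⟩ := QuotientAddGroup.mk_surjective y
    have hnot : y - x ∉ B := by
      intro hmem
      apply hxy
      rw [QuotientAddGroup.eq]
      have : -x + y = y - x := by abel
      rw [this]; exact hmem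
    let Bc : ClosedAddSubgroup A := ⟨B, hcl⟩
    have hsInf := ProfiniteGrp.closedAddSubgroup_eq_sInf_open Bc
    have hnot' : y - x ∉ sInf {N : AddSubgroup A | IsOpen (N : Set A) ∧ (Bc : AddSubgroup A) ≤ N} := by
      rw [← hsInf]; exact hnot
    rw [AddSubgroup.mem_sInf] at hnot'
    push Not at hnot'
    obtain ⟨N, ⟨hNopen, hBN⟩, hxN⟩ := hnot'
    -- image of N
    let Nbar : AddSubgroup (A ⧸ B) := N.map (QuotientAddGroup.mk' B)
    have hNbar_open : IsOpen (Nbar : Set (A ⧸ B)) := by
      have : (Nbar : Set (A ⧸ B)) = (QuotientAddGroup.mk : A → A ⧸ B) '' (N : Set A) := rfl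
      rw [this]
      exact QuotientAddGroup.isOpenMap_coe _ hNopen
    have hNbar_clopen : IsClopen (Nbar : Set (A ⧸ B)) :=
      ⟨AddSubgroup.isClosed_of_isOpen _ hNbar_open, hNbar_open⟩
    refine ⟨(fun z : A ⧸ B => z - (QuotientAddGroup.mk x : A ⧸ B)) ⁻¹' (Nbar : Set (A ⧸ B)),
      hNbar_clopen.preimage (by fun_prop), ?_, ?_⟩
    · show ((QuotientAddGroup.mk x : A ⧸ B) - QuotientAddGroup.mk x) ∈ Nbar
      rw [sub_self]; exact Nbar.zero_mem
    · show ¬ (((QuotientAddGroup.mk y : A ⧸ B) - QuotientAddGroup.mk x) ∈ Nbar)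
      rintro ⟨n, hn, hn'⟩
      apply hxN
      have h1 : (QuotientAddGroup.mk n : A ⧸ B) = QuotientAddGroup.mk (y - x) := hn'
      rw [QuotientAddGroup.eq] at h1
      have h2 : y - x = n + (-n + (y - x)) := by abel
      rw [h2]
      exact N.add_mem hn (hBN h1)
  infer_instance

end Groth.Agent.S13365
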