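import Groth.Statements.S13368
import Groth.Agent.Lib.Helper6.DVRpBasis

set_option autoImplicit false
universe u
open GaDual

namespace Groth.Agent.S13368

/-- Let R be a discrete valuation ring of prime characteristic p whose fraction field k has degree p
over its subfield k^p of p-th powers, and π a uniformizer. Then every element of R is, in a unique
way, a sum of π^i c_i^p over 0 ≤ i < p with c_i in R, and the Kähler differentials of R (absolute,
i.e. over the integers, equivalently over the prime field) form a free module of rank one generated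
by dπ. -/
theorem result (p : ℕ) [Fact p.Prime] {R : Type u} [CommRing R]
    [IsDomain R] [IsDiscreteValuationRing R] [CharP R p]
    (kp : Subfield (FractionRing R)) (hkp : ∀ x : FractionRing R, x ∈ kp ↔ ∃ y : FractionRing R, y ^ p = x)
    (hdeg : Module.finrank kp (FractionRing R) = p)
    (π : R) (hπ : Irreducible π) :
    (∀ r : R, ∃! c : Fin p → R, r = ∑ i : Fin p, π ^ (i : ℕ) * c i ^ p) ∧
      Function.Bijective (fun r : R => r • KaehlerDifferential.D ℤ R π) := by
  classical
  have hpp : p.Prime := Fact.out
  refine ⟨?_, ?_, ?_⟩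
  · intro r
    obtain ⟨c, hc⟩ := Lib.Helper6.DVRpBasis.exists_decomp p π hπ kp hkp hdeg r
    refine ⟨c, hc, ?_⟩
    intro c' hc'
    have h0 : ∑ i : Fin p, π ^ (i : ℕ) * (c' i - c i) ^ p = 0 := by
      have : ∀ i : Fin p, π ^ (i : ℕ) * (c' i - c i) ^ p
          = π ^ (i : ℕ) * c' i ^ p - π ^ (i : ℕ) * c i ^ p := by
        intro i
        rw [sub_pow_char, mul_sub]
      simp_rw [this]
      rw [Finset.sum_sub_distrib, ← hc, ← hc', sub_self]
    have := Lib.Helper6.DVRpBasis.eq_zero_of_sum_eq_zero p π hπ (fun i => c' i - c i) h0
    funext i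
    exact sub_eq_zero.1 (this i)
  · -- injective
    intro r r' h
    have h' : r • KaehlerDifferential.D ℤ R π = r' • KaehlerDifferential.D ℤ R π := h
    have h2 := congrArg (Lib.Helper6.DVRpBasis.derR p π hπ kp hkp hdeg).liftKaehlerDifferential h'
    rw [map_smul, map_smul, Derivation.liftKaehlerDifferential_comp_D,
      Lib.Helper6.DVRpBasis.derR_pi, Algebra.smul_def, Algebra.smul_def, mul_one, mul_one] at h2
    exact IsFractionRing.injective R (FractionRing R) h2
  · -- surjective
    have hrange : ∀ r : R, KaehlerDifferential.D ℤ R r ∈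
        Submodule.span R {KaehlerDifferential.D ℤ R π} := by
      intro r
      obtain ⟨c, hc⟩ := Lib.Helper6.DVRpBasis.exists_decomp p π hπ kp hkp hdeg r
      rw [hc, map_sum]
      apply Submodule.sum_mem
      intro i _
      rw [Derivation.leibniz, Derivation.leibniz_pow, Derivation.leibniz_pow]
      have hp0 : (p : ℕ) • (c i ^ (p - 1) • KaehlerDifferential.D ℤ R (c i)) = 0 := by
        rw [← Nat.cast_smul_eq_nsmul R, CharP.cast_eq_zero R p, zero_smul]
      rw [hp0, smul_zero, zero_add]
      apply Submodule.smul_mem
      apply Submodule.smul_of_tower_mem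
      apply Submodule.smul_mem
      exact Submodule.mem_span_singleton_self _
    have htop : Submodule.span R {KaehlerDifferential.D ℤ R π} = ⊤ := by
      rw [eq_top_iff, ← KaehlerDifferential.span_range_derivation, Submodule.span_le]
      rintro _ ⟨r, rfl⟩
      exact hrange r
    intro x
    have hx : x ∈ Submodule.span R {KaehlerDifferential.D ℤ R π} := by rw [htop]; trivial
    obtain ⟨r, hr⟩ := Submodule.mem_span_singleton.1 hx
    exact ⟨r, hr⟩

end Groth.Agent.S13368
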