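import Groth.Statements.S2148
import Groth.Agent.Lib.Helper2.PBasisField4

set_option autoImplicit false
universe u
open CAlg

namespace Groth.Agent.S2148

/-- Let `k` be a perfect field of characteristic `p > 0` and `K` an extension field of `k`. For `a ∈ K`,
the differential `da` vanishes in `Ω_{K/k}` if and only if `a` is a `p`-th power in `K`. -/
theorem result {k K : Type u} [Field k] [Field K] [Algebra k K] (p : ℕ) [Fact p.Prime]
    [CharP k p] [PerfectRing k p] (a : K) :
    KaehlerDifferential.D k K a = 0 ↔ ∃ b : K, b ^ p = a := by
  haveI : CharP K p := charP_of_injective_algebraMap (algebraMap k K).injective p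
  have hp : p.Prime := Fact.out
  constructor
  · intro hD
    by_contra hcon
    let x : PUnit.{u + 1} → K := fun _ => a
    have hind : EGA41.IsPIndependent p k x := by
      rw [Groth.Agent.Helper2.PBasis.isPIndependent_iff_notMem_adjoin]
      intro i hmem
      apply hcon
      let S : IntermediateField k K :=
        Subfield.toIntermediateField (frobenius K p).fieldRange (by
          intro c
          obtain ⟨c', rfl⟩ := surjective_frobenius k p c
          exact ⟨algebraMap k K c', by rw [frobenius_def, frobenius_def, map_pow]⟩)
      have hle : IntermediateField.adjoin k ((Set.range fun y : K => y ^ p) ∪ x '' {b | b ≠ i}) ≤ S := by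
        rw [IntermediateField.adjoin_le_iff]
        rintro z (⟨y, rfl⟩ | ⟨j, hj, -⟩)
        · exact ⟨y, rfl⟩
        · exact absurd (Subsingleton.elim j i) hj
      obtain ⟨b, hb⟩ := hle hmem
      exact ⟨b, hb⟩
    have hli := Groth.Agent.Helper2.PBasis.linearIndependent_D_of_isPIndependent p x hind
    exact hli.ne_zero PUnit.unit hD
  · rintro ⟨b, rfl⟩
    rw [Derivation.leibniz_pow]
    have : ((p : ℕ) • (b ^ (p - 1) • KaehlerDifferential.D k K b)) =
        ((p : K)) • (b ^ (p - 1) • KaehlerDifferential.D k K b) := by
      rw [Nat.cast_smul_eq_nsmul]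
    rw [this, CharP.cast_eq_zero, zero_smul]

end Groth.Agent.S2148
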