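import Groth.Statements.S13369
import Groth.Agent.S2148

set_option autoImplicit false
universe u
open GaDual

namespace Groth.Agent.S13369

/-- For a normal Noetherian domain A of prime characteristic p, an element whose differential vanishes
in the absolute Kähler differentials of A is a p-th power; that is, the sequence F : A → A, d : A →
Ω_A (F the Frobenius) is exact at the middle term. (The published statement is for normal locally
Noetherian schemes of characteristic p; this row is the case of the spectrum of a normal Noetherian
domain.) -/
theorem result (p : ℕ) [Fact p.Prime] {A : Type u} [CommRing A] [IsDomain A]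
    [IsNoetherianRing A] [IsIntegrallyClosed A] [CharP A p] (s : A) (hs : KaehlerDifferential.D ℤ A s = 0) :
    ∃ f : A, f ^ p = s := by
  have hp : Fact p.Prime := inferInstance
  let K := FractionRing A
  haveI : CharP K p := charP_of_injective_algebraMap (IsFractionRing.injective A K) p
  let k := ULift.{u} (ZMod p)
  let φ : k →+* K := (ZMod.castHom (dvd_refl p) K).comp (ULift.ringEquiv : k ≃+* ZMod p).toRingHom
  letI : Algebra k K := φ.toAlgebra
  haveI : SMulCommClass k A K := ⟨fun s a x => by
    rw [Algebra.smul_def, Algebra.smul_def, Algebra.smul_def, Algebra.smul_def]; ring⟩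
  haveI : ExpChar k p := ExpChar.prime hp.out
  haveI : PerfectRing k p := PerfectRing.ofFiniteOfIsReduced p k
  haveI := IsScalarTower.of_algebraMap_eq' (R := ℤ) (S := k) (A := K) (RingHom.ext_int _ _)
  have h1 : KaehlerDifferential.D k K (algebraMap A K s) = 0 := by
    have := congrArg (KaehlerDifferential.map ℤ k A K) hs
    rwa [KaehlerDifferential.map_D, map_zero] at this
  obtain ⟨b, hb⟩ := (Groth.Agent.S2148.result (k := k) (K := K) p (algebraMap A K s)).mp h1
  have hint : IsIntegral A b := by
    refine ⟨Polynomial.X ^ p - Polynomial.C s, Polynomial.monic_X_pow_sub_C s hp.out.ne_zero, ?_⟩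
    simp [hb]
  obtain ⟨f, hf⟩ := IsIntegrallyClosed.isIntegral_iff.mp hint
  refine ⟨f, ?_⟩
  apply IsFractionRing.injective A K
  rw [map_pow, hf, hb]

end Groth.Agent.S13369
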