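import Groth.Statements.S13373
import Groth.Agent.Lib.Helper6.GaCharDig
import Groth.Agent.Lib.Helper6.GaCharPS

set_option autoImplicit false
universe u
open GaDual

namespace Groth.Agent.S13373

/-- Over a commutative algebra A of prime characteristic p, the formal characters (power series χ with
constant term 1 and χ(X+Y) = χ(X)χ(Y)) are exactly the infinite products ∏_n exp_p(a_n X^(p^n)) with
a_n^p = 0, where exp_p(Y) = Σ_{j<p} Y^j/j!; the infinite product is expressed through its
truncations: χ mod X^(p^m) equals the finite product over n < m. -/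
theorem result (p : ℕ) [Fact p.Prime] (A : Type u) [CommRing A] [CharP A p]
    (χ : PowerSeries A) :
    (PowerSeries.constantCoeff χ = 1 ∧
      PowerSeries.subst (MvPowerSeries.X 0 + MvPowerSeries.X 1 : MvPowerSeries (Fin 2) A) χ =
        PowerSeries.subst (MvPowerSeries.X 0 : MvPowerSeries (Fin 2) A) χ *
          PowerSeries.subst (MvPowerSeries.X 1 : MvPowerSeries (Fin 2) A) χ) ↔
      ∃ a : ℕ → A, (∀ n, a n ^ p = 0) ∧ ∀ m : ℕ,
        PowerSeries.trunc (p ^ m) χ = ∏ n ∈ Finset.range m, ∑ j ∈ Finset.range p,
          Polynomial.C (Ring.inverse (j.factorial : A) * a n ^ j) * Polynomial.X ^ (j * p ^ n) := by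
  have hp : Fact p.Prime := inferInstance
  have hpos : 0 < p := hp.out.pos
  constructor
  · intro hchar
    have hc : Groth.Agent.Helper6.GaChar.IsChar (fun n => PowerSeries.coeff n χ) :=
      (Groth.Agent.Helper6.GaChar.schar_iff χ).mp hchar
    refine ⟨fun n => PowerSeries.coeff (p ^ n) χ, ?_, ?_⟩
    · intro n
      exact Groth.Agent.Helper6.GaChar.pow_p_eq_zero p (fun n => PowerSeries.coeff n χ)
        ((p - 1) * p ^ n + 1) hc.1 (fun i j _ => hc.2 i j) n (Nat.lt_succ_self _) (hc.2 _ _)
    · intro m
      have h1 := Groth.Agent.Helper6.GaChar.sum_eq_prod p (fun n => PowerSeries.coeff n χ)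
        (p ^ m) hc.1 (fun i j _ => hc.2 i j) m le_rfl
      have h2 : PowerSeries.trunc (p ^ m) χ =
          ∑ k ∈ Finset.range (p ^ m), Polynomial.C (PowerSeries.coeff k χ) * Polynomial.X ^ k := by
        ext k
        rw [PowerSeries.coeff_trunc, Polynomial.finsetSum_coeff]
        simp only [Polynomial.coeff_C_mul_X_pow]
        rw [Finset.sum_ite_eq]
        simp only [Finset.mem_range]
      exact h2.trans h1
  · rintro ⟨a, ha, htr⟩
    apply (Groth.Agent.Helper6.GaChar.schar_iff χ).mpr
    have hG : ∀ m, Groth.Agent.Helper6.GaChar.IsChar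
        (∏ n ∈ Finset.range m, Groth.Agent.Helper6.GaChar.E p (a n) n).coeff := by
      intro m
      exact (Groth.Agent.Helper6.GaChar.pchar_iff _).mp
        (Groth.Agent.Helper6.GaChar.PChar.prod _ _ fun n _ =>
          Groth.Agent.Helper6.GaChar.pchar_E p (a n) (ha n) n)
    have hco : ∀ m k, k < p ^ m → PowerSeries.coeff k χ =
        (∏ n ∈ Finset.range m, Groth.Agent.Helper6.GaChar.E p (a n) n).coeff k := by
      intro m k hk
      have h1 := congrArg (fun q : Polynomial A => q.coeff k) (htr m)
      simp only [PowerSeries.coeff_trunc, if_pos hk] at h1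
      exact h1
    have hlt : ∀ k : ℕ, k < p ^ (k + 1) := fun k =>
      lt_trans (Nat.lt_succ_self _) (Nat.lt_pow_self hp.out.one_lt)
    constructor
    · show PowerSeries.coeff 0 χ = 1
      rw [hco 0 0 (by simp)]
      simp
    · intro i j
      show PowerSeries.coeff i χ * PowerSeries.coeff j χ =
        (Nat.choose (i + j) i : A) * PowerSeries.coeff (i + j) χ
      have hij := hlt (i + j)
      rw [hco (i + j + 1) i (by omega), hco (i + j + 1) j (by omega), hco (i + j + 1) (i + j) hij]
      exact (hG (i + j + 1)).2 i j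

end Groth.Agent.S13373
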