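import Groth.Statements.S13374
import Groth.Agent.Lib.Helper6.GaCharDig

set_option autoImplicit false
universe u
open GaDual

namespace Groth.Agent.S13374

/-- Over a commutative algebra A of prime characteristic p, every character of the kernel α_(p^n) of the
n-th Frobenius of the additive group — i.e. every polynomial f of degree < p^n with f(0) = 1 and
f(X+Y) ≡ f(X)f(Y) modulo (X^(p^n), Y^(p^n)) — is the product ∏_{i<n} exp_p(a_i X^(p^i)) for some a_i
with a_i^p = 0, exp_p(Y) = Σ_{j<p} Y^j/j!. -/
theorem result (p : ℕ) [Fact p.Prime] (A : Type u) [CommRing A] [CharP A p]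
    (n : ℕ) (f : Polynomial A) (hdeg : f.natDegree < p ^ n) (h0 : f.eval 0 = 1)
    (hmul : Ideal.Quotient.mk
        (Ideal.span {(MvPolynomial.X 0 ^ p ^ n : MvPolynomial (Fin 2) A), MvPolynomial.X 1 ^ p ^ n})
        (Polynomial.aeval (MvPolynomial.X 0 + MvPolynomial.X 1 : MvPolynomial (Fin 2) A) f) =
      Ideal.Quotient.mk
        (Ideal.span {(MvPolynomial.X 0 ^ p ^ n : MvPolynomial (Fin 2) A), MvPolynomial.X 1 ^ p ^ n})
        (Polynomial.aeval (MvPolynomial.X 0 : MvPolynomial (Fin 2) A) f *
          Polynomial.aeval (MvPolynomial.X 1 : MvPolynomial (Fin 2) A) f)) :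
    ∃ a : ℕ → A, (∀ i, a i ^ p = 0) ∧
      f = ∏ i ∈ Finset.range n, ∑ j ∈ Finset.range p,
          Polynomial.C (Ring.inverse (j.factorial : A) * a i ^ j) * Polynomial.X ^ (j * p ^ i) := by
  have hp : Fact p.Prime := inferInstance
  have hpos : 0 < p := hp.out.pos
  -- coefficients of elements of the ideal vanish in low degrees
  have hI : ∀ g : MvPolynomial (Fin 2) A,
      g ∈ Ideal.span {(MvPolynomial.X 0 ^ p ^ n : MvPolynomial (Fin 2) A), MvPolynomial.X 1 ^ p ^ n} →
      ∀ i j, i < p ^ n → j < p ^ n →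
        MvPolynomial.coeff (Groth.Agent.Helper6.GaChar.mono i j) g = 0 := by
    intro g hg i j hi hj
    rw [Ideal.mem_span_pair] at hg
    obtain ⟨u, v, rfl⟩ := hg
    rw [MvPolynomial.coeff_add, MvPolynomial.X_pow_eq_monomial, MvPolynomial.X_pow_eq_monomial,
      MvPolynomial.coeff_mul_monomial', MvPolynomial.coeff_mul_monomial']
    rw [if_neg, if_neg, add_zero]
    · intro hle
      have := hle 1
      rw [Groth.Agent.Helper6.GaChar.mono_one] at this
      simp at this
      omega
    · intro hle
      have := hle 0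
      rw [Groth.Agent.Helper6.GaChar.mono_zero] at this
      simp at this
      omega
  have hrel : ∀ i j, i < p ^ n → j < p ^ n →
      f.coeff i * f.coeff j = (Nat.choose (i + j) i : A) * f.coeff (i + j) := by
    intro i j hi hj
    have h1 := (Ideal.Quotient.eq).mp hmul
    have h2 := hI _ h1 i j hi hj
    rw [MvPolynomial.coeff_sub, Groth.Agent.Helper6.GaChar.coeff_aeval_add,
      Groth.Agent.Helper6.GaChar.coeff_aeval_mul, sub_eq_zero] at h2
    exact h2.symm
  have h0' : f.coeff 0 = 1 := by rw [Polynomial.coeff_zero_eq_eval_zero]; exact h0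
  have hrel' : ∀ i j, i + j < p ^ n →
      f.coeff i * f.coeff j = (Nat.choose (i + j) i : A) * f.coeff (i + j) :=
    fun i j hij => hrel i j (by omega) (by omega)
  refine ⟨fun i => if i < n then f.coeff (p ^ i) else 0, ?_, ?_⟩
  · intro i
    by_cases hi : i < n
    · simp only [if_pos hi]
      have hlt1 : p ^ i < p ^ n := Nat.pow_lt_pow_right hp.out.one_lt hi
      have hle : p ^ (i + 1) ≤ p ^ n := Nat.pow_le_pow_right hpos hi
      have hlt2 : (p - 1) * p ^ i < p ^ n := by
        refine lt_of_lt_of_le ?_ hle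
        rw [pow_succ, mul_comm (p ^ i) p]
        exact Nat.mul_lt_mul_of_pos_right (Nat.sub_lt hpos one_pos) (pow_pos hpos i)
      exact Groth.Agent.Helper6.GaChar.pow_p_eq_zero p f.coeff (p ^ n) h0' hrel' i hlt2
        (hrel _ _ hlt2 hlt1)
    · simp only [if_neg hi]
      exact zero_pow hp.out.ne_zero
  · have h1 := Groth.Agent.Helper6.GaChar.sum_eq_prod p f.coeff (p ^ n) h0' hrel' n le_rfl
    have h2 := Polynomial.as_sum_range' f (p ^ n) hdeg
    simp only [← Polynomial.C_mul_X_pow_eq_monomial] at h2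
    refine (h2.trans h1).trans ?_
    refine Finset.prod_congr rfl fun i hi => ?_
    rw [Finset.mem_range] at hi
    simp only [if_pos hi]
    rfl

end Groth.Agent.S13374
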