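import Groth.Statements.S13389
import Mathlib
-- import your own Groth.Agent.* helpers here

set_option autoImplicit false
universe u
open ZeroCyc

namespace Groth.Agent.S13389

section helpers
open DividedPowerAlgebra Finset

variable {A M : Type u} [CommRing A] [AddCommGroup M] [Module A M]

lemma vandermonde_solve {N : Type*} [AddCommGroup N] [Module A N] (W : Submodule A N) {e : ℕ}
    (v : Fin (e + 1) → A) (hv : ∀ i j, i < j → IsUnit (v j - v i)) (u : Fin (e + 1) → N)
    (h : ∀ k, ∑ b : Fin (e + 1), (v k) ^ (b : ℕ) • u b ∈ W) : ∀ b, u b ∈ W := by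
  classical
  have hdet : IsUnit (Matrix.vandermonde v).det := by
    rw [Matrix.det_vandermonde]
    refine IsUnit.prod_univ_iff.mpr fun i => ?_
    refine IsUnit.prod_iff.mpr fun j hj => ?_
    exact hv i j (Finset.mem_Ioi.mp hj)
  set V := Matrix.vandermonde v with hV
  have hinv : V⁻¹ * V = 1 := Matrix.nonsing_inv_mul V hdet
  intro b
  have key : u b = ∑ k, V⁻¹ b k • ∑ b' : Fin (e + 1), (v k) ^ (b' : ℕ) • u b' := by
    simp_rw [Finset.smul_sum, smul_smul]
    rw [Finset.sum_comm]
    simp_rw [← Finset.sum_smul]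
    have h1 : ∀ b' : Fin (e + 1), ∑ k, V⁻¹ b k * v k ^ (b' : ℕ) =
        (1 : Matrix (Fin (e + 1)) (Fin (e + 1)) A) b b' := by
      intro b'
      rw [← hinv, Matrix.mul_apply]
      rfl
    simp_rw [h1, Matrix.one_apply, ite_smul, one_smul, zero_smul]
    rw [Finset.sum_ite_eq]
    simp
  rw [key]
  exact W.sum_mem fun k _ => W.smul_mem _ (h k)

/-- span of the `e`-th divided powers -/
noncomputable def W (A M : Type u) [CommRing A] [AddCommGroup M] [Module A M] (e : ℕ) :
    Submodule A (DividedPowerAlgebra A M) :=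
  Submodule.span A (Set.range (dp A e : M → DividedPowerAlgebra A M))

lemma two {d : ℕ} (τ : A) (hτ : ∀ i j : ℕ, i < j → j ≤ d → IsUnit (τ ^ j - τ ^ i)) {e : ℕ} (he : e ≤ d)
    (x y : M) (b : ℕ) (hb : b ≤ e) : dp A (e - b) x * dp A b y ∈ W A M e := by
  have := vandermonde_solve (W A M e) (fun k : Fin (e + 1) => τ ^ (k : ℕ))
    (fun i j hij => hτ i j hij (le_trans (Nat.lt_succ_iff.mp j.2) he))
    (fun b : Fin (e + 1) => dp A (e - b) x * dp A b y) ?_ ⟨b, Nat.lt_succ_iff.mpr hb⟩
  · exact this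
  · intro k
    have h1 : dp A e (τ ^ (k : ℕ) • y + x) ∈ W A M e := Submodule.subset_span ⟨_, rfl⟩
    rw [dp_add, Finset.Nat.sum_antidiagonal_eq_sum_range_succ_mk] at h1
    rw [Finset.sum_range] at h1
    have h2 : ∀ b : Fin (e + 1), dp A ((b : ℕ), e - (b : ℕ)).1 (τ ^ (k : ℕ) • y)
          * dp A ((b : ℕ), e - (b : ℕ)).2 x
        = (τ ^ (k : ℕ)) ^ (b : ℕ) • (dp A (e - (b : ℕ)) x * dp A (b : ℕ) y) := by
      intro b
      simp only
      rw [dp_smul, smul_mul_assoc, mul_comm]
    rw [Finset.sum_congr rfl (fun b _ => h2 b)] at h1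
    exact h1

lemma mul_dp_mem {d : ℕ} (τ : A) (hτ : ∀ i j : ℕ, i < j → j ≤ d → IsUnit (τ ^ j - τ ^ i))
    (e' b : ℕ) (he : e' + b ≤ d) (y : M) (P : DividedPowerAlgebra A M) (hP : P ∈ W A M e') :
    P * dp A b y ∈ W A M (e' + b) := by
  induction hP using Submodule.span_induction with
  | mem P hP =>
    obtain ⟨x, rfl⟩ := hP
    have := two τ hτ he x y b (Nat.le_add_left b e')
    rwa [Nat.add_sub_cancel] at this
  | zero => rw [zero_mul]; exact zero_mem _
  | add P Q _ _ hP hQ => rw [add_mul]; exact add_mem hP hQ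
  | smul a P _ hP => rw [smul_mul_assoc]; exact Submodule.smul_mem _ _ hP

lemma prod_mem {d : ℕ} (τ : A) (hτ : ∀ i j : ℕ, i < j → j ≤ d → IsUnit (τ ^ j - τ ^ i)) (n : ℕ) :
    ∀ (k : Fin n → ℕ) (m : Fin n → M), ∑ i, k i ≤ d →
      ∏ i, dp A (k i) (m i) ∈ W A M (∑ i, k i) := by
  induction n with
  | zero =>
    intro k m _
    simp only [univ_eq_empty, prod_empty, sum_empty]
    exact Submodule.subset_span ⟨0, dp_zero⟩
  | succ n ih =>
    intro k m hk
    rw [Fin.prod_univ_castSucc, Fin.sum_univ_castSucc] at *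
    apply mul_dp_mem τ hτ _ _ hk
    exact ih _ _ (le_trans (Nat.le_add_right _ _) hk)

theorem main (d : ℕ) (τ : A) (hτ : ∀ i j : ℕ, i < j → j ≤ d → IsUnit (τ ^ j - τ ^ i)) :
    W A M d = PolLaw.gammaPiece A M d := by
  apply le_antisymm
  · apply Submodule.span_le.mpr
    rintro _ ⟨m, rfl⟩
    apply Submodule.subset_span
    exact ⟨1, fun _ => d, fun _ => m, by simp, by simp⟩
  · apply Submodule.span_le.mpr
    rintro _ ⟨n, k, m, hk, rfl⟩
    have := prod_mem τ hτ n k m (le_of_eq hk)
    rwa [hk] at this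


end helpers

open Polynomial in
/-- Let P_d(T) = ∏_{0 ≤ i < j ≤ d} (T^i − T^j) − 1 ∈ ℤ[T]. If A is an algebra over ℤ[T]/(P_d), i.e.
receives a ring homomorphism from it, then for every A-module M the degree-d piece Γ^d_A(M) of the
divided power algebra Γ_A(M) is spanned over A by the d-th divided powers γ_d(m), m ∈ M. (The
published statement adds that consequently every ring has a finite faithfully flat extension,
independent of M, over which this holds; that clause is not restated.) -/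
theorem result {A M : Type u} [CommRing A] [AddCommGroup M]
    [Module A M] (d : ℕ)
    (φ : (ℤ[X] ⧸ Ideal.span {(∏ j ∈ Finset.range (d + 1), ∏ i ∈ Finset.range j,
        ((X : ℤ[X]) ^ i - X ^ j)) - 1}) →+* A) :
    Submodule.span A (Set.range (DividedPowerAlgebra.dp A d : M → DividedPowerAlgebra A M)) =
      PolLaw.gammaPiece A M d := by
  set τ : A := φ (Ideal.Quotient.mk _ X) with hτdef
  have h1 : ∏ j ∈ Finset.range (d + 1), ∏ i ∈ Finset.range j, (τ ^ i - τ ^ j) = 1 := by
    have h0 : φ (Ideal.Quotient.mk _ ((∏ j ∈ Finset.range (d + 1), ∏ i ∈ Finset.range j,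
        ((X : ℤ[X]) ^ i - X ^ j)) - 1)) = 0 := by
      rw [Ideal.Quotient.eq_zero_iff_mem.mpr (Ideal.subset_span (Set.mem_singleton _)), map_zero]
    rw [map_sub, map_sub, map_one, map_one, sub_eq_zero, map_prod, map_prod] at h0
    rw [← h0]
    refine Finset.prod_congr rfl fun j _ => ?_
    rw [map_prod, map_prod]
    refine Finset.prod_congr rfl fun i _ => ?_
    rw [map_sub, map_sub, map_pow, map_pow, map_pow, map_pow]
  have hτ : ∀ i j : ℕ, i < j → j ≤ d → IsUnit (τ ^ j - τ ^ i) := by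
    intro i j hij hjd
    have hd1 : (τ ^ i - τ ^ j) ∣ 1 := by
      rw [← h1]
      exact dvd_trans
        (Finset.dvd_prod_of_mem (fun i => τ ^ i - τ ^ j) (Finset.mem_range.mpr hij))
        (Finset.dvd_prod_of_mem (fun j => ∏ i ∈ Finset.range j, (τ ^ i - τ ^ j))
          (Finset.mem_range.mpr (Nat.lt_succ_iff.mpr hjd)))
    have := isUnit_of_dvd_one hd1
    rw [← neg_sub]
    exact this.neg
  exact main d τ hτ

end Groth.Agent.S13389
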