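import Groth.Statements.S13409
import Mathlib
import Groth.Agent.Lib.Lead.GraphLab

set_option autoImplicit false
universe u v
open CombGraph

namespace Groth.Agent.S13409

section
open Groth.Agent.Lead.GraphLab SimpleGraph

theorem main {V : Type u} [Fintype V] [DecidableEq V]
    (G : SimpleGraph V) [DecidableRel G.Adj] (hconn : G.Connected) (c : V → Bool)
    (hbip : ∀ v w : V, G.Adj v w → c v ≠ c w) (A : Type v) [AddCommGroup A] (a : V → A)
    (hsum : ∑ v ∈ Finset.univ.filter (fun v => c v = true), a v =
      ∑ v ∈ Finset.univ.filter (fun v => c v = false), a v) :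
    ∃ x : Sym2 V → A, ∀ v : V, ∑ e ∈ G.incidenceFinset v, x e = a v := by
  classical
  obtain ⟨r⟩ := hconn.nonempty
  have hw : ∀ v : V, Nonempty (G.Walk v r) := fun v => hconn.preconnected v r
  let w : ∀ v : V, G.Walk v r := fun v => (hw v).some
  refine ⟨∑ v ∈ Finset.univ.erase r, lab (a v) (w v), ?_⟩
  intro z
  change dv G _ z = a z
  rw [dv_sum]
  simp_rw [dv_lab G le_rfl]
  rw [Finset.sum_sub_distrib]
  by_cases hz : z = r
  · subst hz
    have h1 : ∑ v ∈ Finset.univ.erase z, (if z = v then a v else 0) = 0 := by
      apply Finset.sum_eq_zero
      intro v hv
      rw [if_neg]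
      exact fun h => (Finset.ne_of_mem_erase hv) h.symm
    rw [h1, zero_sub]
    simp only [if_true]
    -- sign by colour
    have h2 : ∀ v : V, ((-1 : ℤ) ^ (w v).length) • a v = if c v = c z then a v else - a v := by
      intro v
      by_cases hcv : c v = c z
      · rw [if_pos hcv, ((even_length_iff c hbip (w v)).2 hcv).neg_one_pow, one_smul]
      · rw [if_neg hcv]
        have : ¬ Even (w v).length := fun h => hcv ((even_length_iff c hbip (w v)).1 h)
        rw [(Nat.not_even_iff_odd.1 this).neg_one_pow, neg_one_smul]
    simp_rw [h2]
    have h3 : ∑ v, (if c v = c z then a v else - a v) = 0 := by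
      have hsplit : ∀ v, (if c v = c z then a v else - a v) =
          (if c v = c z then a v else 0) - (if c v = c z then 0 else a v) := by
        intro v
        split_ifs <;> simp
      simp_rw [hsplit]
      have hneg : ∀ v, (if c v = c z then (0 : A) else a v) = (if ¬ c v = c z then a v else 0) := by
        intro v
        split_ifs <;> rfl
      simp_rw [hneg]
      rw [Finset.sum_sub_distrib, ← Finset.sum_filter, ← Finset.sum_filter, sub_eq_zero]
      cases hcz : c z
      · have e1 : Finset.univ.filter (fun v => ¬ c v = false) =
            Finset.univ.filter (fun v => c v = true) := by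
          ext v; simp
        rw [e1]
        exact hsum.symm
      · have e1 : Finset.univ.filter (fun v => ¬ c v = true) =
            Finset.univ.filter (fun v => c v = false) := by
          ext v; simp
        rw [e1]
        exact hsum
    rw [← Finset.add_sum_erase Finset.univ _ (Finset.mem_univ z), if_pos rfl] at h3
    rw [eq_comm, ← sub_eq_zero]
    rw [← h3]
    abel
  · have h1 : ∑ v ∈ Finset.univ.erase r, (if z = v then a v else 0) = a z := by
      rw [Finset.sum_eq_single z]
      · simp
      · intro v _ hv
        rw [if_neg (Ne.symm hv)]
      · intro h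
        exact absurd (Finset.mem_erase.2 ⟨hz, Finset.mem_univ z⟩) h
    rw [h1]
    simp [hz]


end


/-- Let `A` be an abelian group and `G` a finite connected simple graph on `V` that is bipartite for a
two-colouring `c : V → Bool` (adjacent vertices get different colours). If `a : V → A` has the same
sum over the vertices of each colour, then some labelling `x` of the edges by elements of `A` has,
at every vertex `v`, the sum of `x` over the edges incident to `v` equal to `a v`. (The published
statement concerns finite bipartite graphs in general; this row treats simple graphs.) -/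
theorem result {V : Type u} [Fintype V] [DecidableEq V]
    (G : SimpleGraph V) [DecidableRel G.Adj] (hconn : G.Connected) (c : V → Bool)
    (hbip : ∀ v w : V, G.Adj v w → c v ≠ c w) (A : Type v) [AddCommGroup A] (a : V → A)
    (hsum : ∑ v ∈ Finset.univ.filter (fun v => c v = true), a v =
      ∑ v ∈ Finset.univ.filter (fun v => c v = false), a v) :
    ∃ x : Sym2 V → A, ∀ v : V, ∑ e ∈ G.incidenceFinset v, x e = a v := by
  classical
  exact main G hconn c hbip A a hsum

end Groth.Agent.S13409
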