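import Groth.Statements.S13410
import Mathlib
import Groth.Agent.Lib.Lead.GraphLab

set_option autoImplicit false
universe u v
open CombGraph

namespace Groth.Agent.S13410

section
open Groth.Agent.Lead.GraphLab SimpleGraph

theorem main {V : Type u} [Fintype V]
    [DecidableEq V] (G : SimpleGraph V) [DecidableRel G.Adj] (hconn : G.Connected) (c : V → Bool)
    (hbip : ∀ v w : V, G.Adj v w → c v ≠ c w) (A : Type v) [AddCommGroup A] (e₀ : Sym2 V)
    (he₀ : e₀ ∈ G.edgeSet) (hdel : (G.deleteEdges {e₀}).Connected) :
    ∃ φ : A →+ (Sym2 V → A),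
      (∀ a : A, (∀ e : Sym2 V, e ∉ G.edgeSet → φ a e = 0) ∧
        ∀ v : V, ∑ e ∈ G.incidenceFinset v, φ a e = 0) ∧
      ∀ a : A, φ a e₀ = a := by
  classical
  induction e₀ using Sym2.ind with
  | _ u w =>
  have hadj : G.Adj u w := by simpa using he₀
  set H : SimpleGraph V := G.deleteEdges {s(u, w)} with hH
  have hHG : H ≤ G := deleteEdges_le _
  obtain ⟨p⟩ : Nonempty (H.Walk w u) := hdel.preconnected w u
  have hbipH : ∀ v w : V, H.Adj v w → c v ≠ c w := fun v w h => hbip v w (hHG h)
  have hodd : Odd p.length := by
    rw [← Nat.not_even_iff_odd, even_length_iff c hbipH p]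
    exact (hbip u w hadj).symm
  have he0H : s(u, w) ∉ H.edgeSet := by
    rw [hH, edgeSet_deleteEdges]
    simp
  refine ⟨{ toFun := fun t => Pi.single s(u, w) t - lab t p
            map_zero' := ?_
            map_add' := ?_ }, ?_, ?_⟩
  · funext e
    rw [lab_zero]
    simp
  · intro s t
    rw [lab_add]
    funext e
    simp only [Pi.sub_apply, Pi.add_apply]
    by_cases he : e = s(u, w)
    · subst he
      simp only [Pi.single_eq_same]
      abel
    · simp only [Pi.single_eq_of_ne he]
      abel
  · intro a
    refine ⟨?_, ?_⟩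
    · intro e he
      change ((Pi.single s(u, w) a - lab a p : Sym2 V → A)) e = 0
      have hne : e ≠ s(u, w) := fun h => he (h ▸ he₀)
      rw [Pi.sub_apply, Pi.single_eq_of_ne hne, zero_sub, neg_eq_zero]
      exact lab_apply_of_notMem_edgeSet a p e (fun h => he (edgeSet_mono hHG h))
    · intro z
      change dv G (Pi.single s(u, w) a - lab a p) z = 0
      rw [dv_sub, dv_single G hadj, dv_lab G hHG, hodd.neg_one_pow, neg_one_smul]
      abel
  · intro a
    change ((Pi.single s(u, w) a - lab a p : Sym2 V → A)) s(u, w) = a
    rw [Pi.sub_apply, Pi.single_eq_same, lab_apply_of_notMem_edgeSet a p _ he0H, sub_zero]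


end


/-- Let `A` be an abelian group and `G` a finite connected simple graph on `V`, bipartite for a
two-colouring `c`. Consider the additive group of labellings `x : Sym2 V → A` vanishing off the edge
set and with `∑_{e ∋ v} x e = 0` at every vertex `v`. If `e₀` is an edge whose deletion leaves `G`
connected, then evaluation at `e₀` restricted to this group is surjective and split: there is an
additive map `φ : A → (Sym2 V → A)` with values in this group and with `φ a e₀ = a` for all `a`.
(The published statement concerns finite bipartite graphs in general; this row treats simple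
graphs.) -/
theorem result {V : Type u} [Fintype V]
    [DecidableEq V] (G : SimpleGraph V) [DecidableRel G.Adj] (hconn : G.Connected) (c : V → Bool)
    (hbip : ∀ v w : V, G.Adj v w → c v ≠ c w) (A : Type v) [AddCommGroup A] (e₀ : Sym2 V)
    (he₀ : e₀ ∈ G.edgeSet) (hdel : (G.deleteEdges {e₀}).Connected) :
    ∃ φ : A →+ (Sym2 V → A),
      (∀ a : A, (∀ e : Sym2 V, e ∉ G.edgeSet → φ a e = 0) ∧
        ∀ v : V, ∑ e ∈ G.incidenceFinset v, φ a e = 0) ∧
      ∀ a : A, φ a e₀ = a := by
  classical
  exact main G hconn c hbip A e₀ he₀ hdel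

end Groth.Agent.S13410
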