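import Groth.Statements.S13411
import Mathlib
import Groth.Agent.Lib.Lead.GraphLab

set_option autoImplicit false
universe u v
open CombGraph

namespace Groth.Agent.S13411

section
open Groth.Agent.Lead.GraphLab SimpleGraph

variable {V : Type*} [Fintype V] [DecidableEq V] {A : Type*} [AddCommGroup A]

theorem filter_mem_pair (a b : V) :
    Finset.univ.filter (fun v => v ∈ s(a, b)) = {a, b} := by
  ext v
  simp [Sym2.mem_iff]

theorem sum_smul_dv (G : SimpleGraph V) [DecidableRel G.Adj] (g : V → ℤ) (x : Sym2 V → A) :
    ∑ v, g v • dv G x v =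
      ∑ e ∈ G.edgeFinset, (∑ v ∈ Finset.univ.filter (fun v => v ∈ e), g v) • x e := by
  simp only [dv, Finset.smul_sum, Finset.sum_smul]
  rw [Finset.sum_comm']
  intro v e
  simp only [Finset.mem_univ, true_and, mem_incidenceFinset, incidenceSet, Set.mem_ofPred_eq,
    mem_edgeFinset, Finset.mem_filter]
  exact and_comm

theorem tree_zero (G T : SimpleGraph V) [DecidableRel G.Adj] (hTG : T ≤ G) (hT : T.IsAcyclic)
    (c : V → Bool) (hbip : ∀ v w : V, G.Adj v w → c v ≠ c w) (x : Sym2 V → A)
    (hx0 : ∀ e, e ∉ T.edgeSet → x e = 0) (hdv : ∀ z, dv G x z = 0) : x = 0 := by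
  classical
  funext e
  by_cases he : e ∈ T.edgeSet
  swap
  · exact hx0 e he
  induction e using Sym2.ind with
  | _ u w =>
  have hadj : T.Adj u w := he
  have hbr : ¬ (T.deleteEdges {s(u, w)}).Reachable u w :=
    isBridge_iff.1 (isAcyclic_iff_forall_isBridge.1 hT he)
  set H := T.deleteEdges {s(u, w)} with hH
  let sgn : V → ℤ := fun v => if c v = true then 1 else -1
  let g : V → ℤ := fun v => if H.Reachable u v then sgn v else 0
  have key := sum_smul_dv G g x
  simp only [hdv, smul_zero, Finset.sum_const_zero] at key
  rw [Finset.sum_eq_single s(u, w)] at key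
  · rw [filter_mem_pair, Finset.sum_pair hadj.ne] at key
    have hgu : g u = sgn u := if_pos (Reachable.refl u)
    have hgw : g w = 0 := if_neg hbr
    rw [hgu, hgw, add_zero] at key
    have hs : sgn u = 1 ∨ sgn u = -1 := by
      by_cases h : c u = true
      · left; exact if_pos h
      · right; exact if_neg h
    rcases hs with h | h
    · rw [h, one_smul] at key
      exact key.symm
    · rw [h, neg_one_smul] at key
      have := key.symm
      simpa using this
  · intro e' he' hne
    induction e' using Sym2.ind with
    | _ a b =>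
    have hGab : G.Adj a b := by simpa using he'
    by_cases hT' : s(a, b) ∈ T.edgeSet
    · have hHab : H.Adj a b := by
        rw [hH, deleteEdges_adj]
        exact ⟨hT', by simpa using hne⟩
      have hzero : (∑ v ∈ Finset.univ.filter (fun v => v ∈ s(a, b)), g v) = 0 := by
        rw [filter_mem_pair, Finset.sum_pair hGab.ne]
        have hc := hbip a b hGab
        by_cases hra : H.Reachable u a
        · have hrb : H.Reachable u b := hra.trans hHab.reachable
          change (if H.Reachable u a then sgn a else 0) + (if H.Reachable u b then sgn b else 0) = 0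
          rw [if_pos hra, if_pos hrb]
          change (if c a = true then (1 : ℤ) else -1) + (if c b = true then 1 else -1) = 0
          revert hc
          cases c a <;> cases c b <;> simp
        · have hrb : ¬ H.Reachable u b := fun h => hra (h.trans hHab.symm.reachable)
          change (if H.Reachable u a then sgn a else 0) + (if H.Reachable u b then sgn b else 0) = 0
          rw [if_neg hra, if_neg hrb, add_zero]
      rw [hzero, zero_smul]
    · rw [hx0 _ hT', smul_zero]
  · intro h
    exact absurd (mem_edgeFinset.2 (edgeSet_mono hTG he)) h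

/-- the fundamental-cycle labelling -/
noncomputable def phi {H : SimpleGraph V} (e : Sym2 V) {u v : V} (p : H.Walk u v) :
    A →+ (Sym2 V → A) where
  toFun t := Pi.single e t - lab t p
  map_zero' := by
    funext e'
    rw [lab_zero]
    simp
  map_add' s t := by
    rw [lab_add]
    funext e'
    simp only [Pi.sub_apply, Pi.add_apply]
    by_cases he : e' = e
    · subst he
      simp only [Pi.single_eq_same]
      abel
    · simp only [Pi.single_eq_of_ne he]
      abel

theorem phi_apply {H : SimpleGraph V} (e : Sym2 V) {u v : V} (p : H.Walk u v) (t : A)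
    (e' : Sym2 V) : phi e p t e' = (Pi.single e t : Sym2 V → A) e' - lab t p e' := rfl

theorem phi_eq {H : SimpleGraph V} (e : Sym2 V) {u v : V} (p : H.Walk u v) (t : A) :
    phi e p t = Pi.single e t - lab t p := rfl

theorem main {V : Type u} [Fintype V]
    [DecidableEq V] (G : SimpleGraph V) [DecidableRel G.Adj] (hconn : G.Connected) (c : V → Bool)
    (hbip : ∀ v w : V, G.Adj v w → c v ≠ c w) (A : Type v) [AddCommGroup A] (n : ℕ)
    (hn : G.edgeFinset.card + 1 = Fintype.card V + n) :
    ∃ f : (Fin n → A) →+ (Sym2 V → A), Function.Injective f ∧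
      Set.range f = {x : Sym2 V → A | (∀ e : Sym2 V, e ∉ G.edgeSet → x e = 0) ∧
        ∀ v : V, ∑ e ∈ G.incidenceFinset v, x e = 0} := by
  classical
  obtain ⟨T, hTG, hT⟩ := hconn.exists_isTree_le
  have hTcard := hT.card_edgeFinset
  have hsub : T.edgeFinset ⊆ G.edgeFinset := edgeFinset_mono hTG
  set S : Finset (Sym2 V) := G.edgeFinset \ T.edgeFinset with hS
  have hScard : S.card = n := by
    rw [hS, Finset.card_sdiff_of_subset hsub]
    omega
  have hmem : ∀ e, e ∈ S ↔ e ∈ G.edgeFinset ∧ e ∉ T.edgeFinset := fun e => by
    rw [hS, Finset.mem_sdiff]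
  let ι : Fin n ≃ S := (S.equivFinOfCardEq hScard).symm
  have hιG : ∀ i, (ι i : Sym2 V) ∈ G.edgeSet := fun i =>
    mem_edgeFinset.1 ((hmem _).1 (ι i).2).1
  have hιT : ∀ i, (ι i : Sym2 V) ∉ T.edgeSet := fun i h =>
    ((hmem _).1 (ι i).2).2 (mem_edgeFinset.2 h)
  have hex : ∀ i, ∃ (u w : V) (_ : T.Walk w u), (ι i : Sym2 V) = s(u, w) := by
    intro i
    induction hi : (ι i : Sym2 V) using Sym2.ind with
    | _ u w =>
    obtain ⟨p⟩ : Nonempty (T.Walk w u) := hT.connected.preconnected w u
    exact ⟨u, w, p, rfl⟩
  choose uu ww pp hpp using hex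
  have hadj : ∀ i, G.Adj (uu i) (ww i) := fun i => by
    have := hιG i
    rw [hpp i] at this
    exact this
  have hbipT : ∀ v w : V, T.Adj v w → c v ≠ c w := fun v w h => hbip v w (hTG h)
  have hodd : ∀ i, Odd (pp i).length := fun i => by
    rw [← Nat.not_even_iff_odd, even_length_iff c hbipT (pp i)]
    exact (hbip _ _ (hadj i)).symm
  let f : (Fin n → A) →+ (Sym2 V → A) :=
    ∑ i, (phi (ι i : Sym2 V) (pp i)).comp (Pi.evalAddMonoidHom (fun _ => A) i)
  have hf : ∀ a : Fin n → A, f a = ∑ i, phi (ι i : Sym2 V) (pp i) (a i) := by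
    intro a
    simp [f]
  -- (1) vanishing off the edge set
  have h1 : ∀ a e, e ∉ G.edgeSet → f a e = 0 := by
    intro a e he
    rw [hf, Finset.sum_apply]
    apply Finset.sum_eq_zero
    intro i _
    rw [phi_apply]
    have hne : e ≠ (ι i : Sym2 V) := fun h => he (h ▸ hιG i)
    rw [Pi.single_eq_of_ne hne, zero_sub, neg_eq_zero]
    exact lab_apply_of_notMem_edgeSet _ _ e (fun h => he (edgeSet_mono hTG h))
  -- (2) zero divergence
  have h2 : ∀ a z, dv G (f a) z = 0 := by
    intro a z
    rw [hf, dv_sum]
    apply Finset.sum_eq_zero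
    intro i _
    rw [phi_eq, dv_sub, hpp i, dv_single G (hadj i), dv_lab G hTG, (hodd i).neg_one_pow,
      neg_one_smul]
    abel
  -- (3) evaluation at the non-tree edges
  have h3 : ∀ a j, f a (ι j : Sym2 V) = a j := by
    intro a j
    rw [hf, Finset.sum_apply, Finset.sum_eq_single j]
    · rw [phi_apply, Pi.single_eq_same,
        lab_apply_of_notMem_edgeSet _ _ _ (hιT j), sub_zero]
    · intro i _ hij
      rw [phi_apply, lab_apply_of_notMem_edgeSet _ _ _ (hιT j), sub_zero]
      apply Pi.single_eq_of_ne
      intro h
      exact hij (ι.injective (Subtype.ext h)).symm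
    · intro h
      exact absurd (Finset.mem_univ j) h
  refine ⟨f, ?_, ?_⟩
  · intro a b hab
    funext j
    rw [← h3 a j, ← h3 b j, hab]
  · ext x
    constructor
    · rintro ⟨a, rfl⟩
      exact ⟨h1 a, h2 a⟩
    · rintro ⟨hx1, hx2⟩
      refine ⟨fun i => x (ι i : Sym2 V), ?_⟩
      set a : Fin n → A := fun i => x (ι i : Sym2 V) with ha
      have hy : x - f a = 0 := by
        apply tree_zero G T hTG hT.isAcyclic c hbip
        · intro e he
          by_cases heG : e ∈ G.edgeSet
          · have heS : e ∈ S := by
              rw [hS, Finset.mem_sdiff]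
              exact ⟨mem_edgeFinset.2 heG, fun h => he (mem_edgeFinset.1 h)⟩
            have hj : ((ι (ι.symm ⟨e, heS⟩) : S) : Sym2 V) = e := by
              rw [Equiv.apply_symm_apply]
            rw [Pi.sub_apply, ← hj, h3]
            exact sub_self _
          · rw [Pi.sub_apply, hx1 e heG, h1 a e heG, sub_zero]
        · intro z
          rw [dv_sub, h2]
          change ∑ e ∈ G.incidenceFinset z, x e - 0 = 0
          rw [hx2 z, sub_zero]
      exact (sub_eq_zero.1 hy).symm


end


/-- Let `A` be an abelian group and `G` a finite connected simple graph on `V`, bipartite for a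
two-colouring `c`, with cyclomatic number `n` (number of edges minus number of vertices plus one).
Then the additive group of labellings `x : Sym2 V → A` vanishing off the edge set and with `∑_{e ∋
v} x e = 0` at every vertex `v` is isomorphic to `A^n`: it is the range of an injective additive map
`(Fin n → A) → (Sym2 V → A)`. (The published statement concerns finite bipartite graphs in general;
this row treats simple graphs.) -/
theorem result {V : Type u} [Fintype V]
    [DecidableEq V] (G : SimpleGraph V) [DecidableRel G.Adj] (hconn : G.Connected) (c : V → Bool)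
    (hbip : ∀ v w : V, G.Adj v w → c v ≠ c w) (A : Type v) [AddCommGroup A] (n : ℕ)
    (hn : G.edgeFinset.card + 1 = Fintype.card V + n) :
    ∃ f : (Fin n → A) →+ (Sym2 V → A), Function.Injective f ∧
      Set.range f = {x : Sym2 V → A | (∀ e : Sym2 V, e ∉ G.edgeSet → x e = 0) ∧
        ∀ v : V, ∑ e ∈ G.incidenceFinset v, x e = 0} := by
  classical
  exact main G hconn c hbip A n hn

end Groth.Agent.S13411
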