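import Groth.Statements.S13418
import Mathlib

set_option autoImplicit false
universe u
open CategoryTheory AlgebraicGeometry
open NeronHD

namespace Groth.Agent.S13418

section
open CategoryTheory AlgebraicGeometry

universe v₁ v₂ u₁ u₂

/-- Bijectivity of `F.map` on morphisms into a pullback, from the pieces. -/
theorem bij_of_isPullback {C : Type u₁} {D : Type u₂} [Category.{v₁} C] [Category.{v₂} D]
    (F : C ⥤ D) {K G T H : C} {p : K ⟶ G} {q : K ⟶ T} {f : G ⟶ H} {e : T ⟶ H}
    (sq : IsPullback p q f e) (sqF : IsPullback (F.map p) (F.map q) (F.map f) (F.map e)) (Z : C)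
    (hG : Function.Bijective (fun g : Z ⟶ G => F.map g))
    (hT : Function.Bijective (fun g : Z ⟶ T => F.map g))
    (hH : Function.Injective (fun g : Z ⟶ H => F.map g)) :
    Function.Bijective (fun g : Z ⟶ K => F.map g) := by
  constructor
  · intro g g' hgg
    have hgg' : F.map g = F.map g' := hgg
    apply sq.hom_ext
    · apply hG.1
      change F.map (g ≫ p) = F.map (g' ≫ p)
      rw [F.map_comp, F.map_comp, hgg']
    · apply hT.1
      change F.map (g ≫ q) = F.map (g' ≫ q)
      rw [F.map_comp, F.map_comp, hgg']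
  · intro h
    obtain ⟨a, ha⟩ := hG.2 (h ≫ F.map p)
    obtain ⟨b, hb⟩ := hT.2 (h ≫ F.map q)
    have ha' : F.map a = h ≫ F.map p := ha
    have hb' : F.map b = h ≫ F.map q := hb
    have hab : a ≫ f = b ≫ e := by
      apply hH
      change F.map (a ≫ f) = F.map (b ≫ e)
      rw [F.map_comp, F.map_comp, ha', hb', Category.assoc, Category.assoc, sqF.w]
    refine ⟨sq.lift a b hab, ?_⟩
    change F.map (sq.lift a b hab) = h
    apply sqF.hom_ext
    · rw [← F.map_comp, sq.lift_fst, ha']
    · rw [← F.map_comp, sq.lift_snd, hb']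

/-- A square in `Over S` is a pullback if its underlying square is. -/
theorem isPullback_over {C : Type u₁} [Category.{v₁} C] [Limits.HasPullbacks C] {S : C}
    {K G T H : Over S} {p : K ⟶ G} {q : K ⟶ T} {f : G ⟶ H} {e : T ⟶ H}
    (w : p ≫ f = q ≫ e) (sq : IsPullback p.left q.left f.left e.left) : IsPullback p q f e :=
  IsPullback.of_map (Over.forget S) w sq

theorem main {k : Type u} [Field k] [CharZero k] {S : Scheme.{u}} (σ : S ⟶ Spec (CommRingCat.of k)) [IsLocallyNoetherian S] (S₀ : S.Opens) (hS₀ : CInt.IsSchematicallyDense S₀)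
    (N M : Over S) [Smooth N.hom] [Smooth M.hom]
    (hN : ∀ Z : Over S, Smooth Z.hom → Function.Bijective (fun g : Z ⟶ N => (Over.pullback S₀.ι).map g))
    (hM : ∀ Z : Over S, Smooth Z.hom → Function.Bijective (fun g : Z ⟶ M => (Over.pullback S₀.ι).map g)) :
    ∀ Z : Over S, Smooth Z.hom → Function.Bijective (fun g : Z ⟶ Over.mk (Limits.pullback.fst N.hom M.hom ≫ N.hom) => (Over.pullback S₀.ι).map g) := by
  intro Z hZ
  let K : Over S := Over.mk (Limits.pullback.fst N.hom M.hom ≫ N.hom)
  let one : Over S := Over.mk (𝟙 S)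
  let p : K ⟶ N := Over.homMk (Limits.pullback.fst N.hom M.hom) rfl
  let q : K ⟶ M := Over.homMk (Limits.pullback.snd N.hom M.hom) (Limits.pullback.condition).symm
  let f : N ⟶ one := Over.homMk N.hom (by simp [one])
  let e : M ⟶ one := Over.homMk M.hom (by simp [one])
  have w : p ≫ f = q ≫ e := by
    ext1
    exact Limits.pullback.condition
  have sq : IsPullback p q f e := isPullback_over w (IsPullback.of_hasPullback N.hom M.hom)
  have sqF := sq.map (Over.pullback S₀.ι)
  refine bij_of_isPullback (Over.pullback S₀.ι) sq sqF Z (hN Z hZ) (hM Z hZ) ?_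
  intro a b _
  exact (Over.mkIdTerminal (X := S)).hom_ext a b


end


/-- Let S be a locally Noetherian scheme over a field of characteristic 0 and S₀ ⊆ S a
scheme-theoretically dense open. If N and M are smooth S-schemes having the Néron mapping property
for S₀ ⊆ S (for every smooth S-scheme Z, restriction to S₀ is a bijection from S-morphisms Z → N
onto S₀-morphisms Z|S₀ → N|S₀), then the fibre product N ×_S M has the Néron mapping property for S₀
⊆ S (its smoothness over S being automatic). (This row is the case of schemes, with smooth test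
schemes, of a statement about algebraic spaces.) -/
theorem result {k : Type u} [Field k] [CharZero k] {S : Scheme.{u}} (σ : S ⟶ Spec (CommRingCat.of k)) [IsLocallyNoetherian S] (S₀ : S.Opens) (hS₀ : CInt.IsSchematicallyDense S₀)
    (N M : Over S) [Smooth N.hom] [Smooth M.hom]
    (hN : ∀ Z : Over S, Smooth Z.hom → Function.Bijective (fun g : Z ⟶ N => (Over.pullback S₀.ι).map g))
    (hM : ∀ Z : Over S, Smooth Z.hom → Function.Bijective (fun g : Z ⟶ M => (Over.pullback S₀.ι).map g)) :
    ∀ Z : Over S, Smooth Z.hom → Function.Bijective (fun g : Z ⟶ Over.mk (Limits.pullback.fst N.hom M.hom ≫ N.hom) => (Over.pullback S₀.ι).map g) := by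
  classical
  exact main σ S₀ hS₀ N M hN hM

end Groth.Agent.S13418
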