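import Groth.Statements.S13419
import Mathlib

set_option autoImplicit false
universe u
open CategoryTheory AlgebraicGeometry
open NeronHD

namespace Groth.Agent.S13419

section
open CategoryTheory AlgebraicGeometry

universe v₁ v₂ u₁ u₂

/-- Bijectivity of `F.map` on a hom-set is invariant under natural isomorphism. -/
theorem bij_of_natIso {C : Type u₁} {D : Type u₂} [Category.{v₁} C] [Category.{v₂} D]
    {F F' : C ⥤ D} (α : F ≅ F') (Z N : C)
    (h : Function.Bijective (fun g : Z ⟶ N => F.map g)) :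
    Function.Bijective (fun g : Z ⟶ N => F'.map g) := by
  have heq : (fun g : Z ⟶ N => F'.map g) =
      (fun m => α.inv.app Z ≫ m ≫ α.hom.app N) ∘ (fun g : Z ⟶ N => F.map g) := by
    funext g
    simp
  rw [heq]
  refine Function.Bijective.comp ?_ h
  constructor
  · intro m m' hmm
    have hmm' : α.inv.app Z ≫ m ≫ α.hom.app N = α.inv.app Z ≫ m' ≫ α.hom.app N := hmm
    rw [cancel_epi, cancel_mono] at hmm'
    exact hmm'
  · intro m
    exact ⟨α.hom.app Z ≫ m ≫ α.inv.app N, by simp⟩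

/-- Pullback functors along equal morphisms are isomorphic. -/
theorem pullbackCongr {A B : Scheme.{u}} {f g : A ⟶ B} (h : f = g) :
    Nonempty (Over.pullback f ≅ Over.pullback g) := by
  subst h
  exact ⟨Iso.refl _⟩

/-- The comparison of the two ways of restricting to `S₀ ≤ S₁`. -/
theorem exists_iso_comp {S : Scheme.{u}} (S₀ S₁ : S.Opens) (h01 : S₀ ≤ S₁) :
    ∃ (e : ((S₁.ι ⁻¹ᵁ S₀ : (S₁ : Scheme.{u}).Opens) : Scheme.{u}) ⟶ (S₀ : Scheme.{u})) (_ : IsIso e),
      Nonempty (Over.pullback S₁.ι ⋙ Over.pullback (S₁.ι ⁻¹ᵁ S₀).ι ≅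
        Over.pullback S₀.ι ⋙ Over.pullback e) := by
  have hrange : Set.range ((S₁.ι ⁻¹ᵁ S₀).ι ≫ S₁.ι).base = Set.range S₀.ι.base := by
    rw [Scheme.Opens.range_ι]
    ext x
    constructor
    · rintro ⟨y, rfl⟩
      exact y.2
    · intro hx
      exact ⟨⟨⟨x, h01 hx⟩, hx⟩, rfl⟩
  let i := IsOpenImmersion.isoOfRangeEq ((S₁.ι ⁻¹ᵁ S₀).ι ≫ S₁.ι) S₀.ι hrange
  have hi : i.hom ≫ S₀.ι = (S₁.ι ⁻¹ᵁ S₀).ι ≫ S₁.ι := IsOpenImmersion.isoOfRangeEq_hom_fac _ _ _
  obtain ⟨β⟩ := pullbackCongr hi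
  refine ⟨i.hom, inferInstance, ⟨?_⟩⟩
  exact (Over.pullbackComp (S₁.ι ⁻¹ᵁ S₀).ι S₁.ι).symm ≪≫ β.symm ≪≫
    Over.pullbackComp i.hom S₀.ι

/-- Pulling back along an isomorphism is bijective on hom-sets. -/
theorem bij_pullback_iso {A B : Scheme.{u}} (e : A ⟶ B) [IsIso e] (Z N : Over B) :
    Function.Bijective (fun g : Z ⟶ N => (Over.pullback e).map g) := by
  haveI : (Over.pullback e).IsEquivalence :=
    (Over.mapPullbackAdj e).isEquivalence_right_of_isEquivalence_left
  exact (Functor.FullyFaithful.ofFullyFaithful (Over.pullback e)).map_bijective Z N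

theorem key {S : Scheme.{u}} (S₀ S₁ : S.Opens) (h01 : S₀ ≤ S₁) (Z N : Over S) :
    Function.Bijective (fun g : Z ⟶ N => (Over.pullback S₀.ι).map g) ↔
      Function.Bijective (fun g : Z ⟶ N =>
        (Over.pullback (S₁.ι ⁻¹ᵁ S₀).ι).map ((Over.pullback S₁.ι).map g)) := by
  obtain ⟨e, he, ⟨α⟩⟩ := exists_iso_comp S₀ S₁ h01
  have hP := bij_pullback_iso e ((Over.pullback S₀.ι).obj Z) ((Over.pullback S₀.ι).obj N)
  constructor
  · intro h
    have h1 : Function.Bijective (fun g : Z ⟶ N => (Over.pullback S₀.ι ⋙ Over.pullback e).map g) :=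
      hP.comp h
    exact bij_of_natIso α.symm Z N h1
  · intro h
    have h1 : Function.Bijective (fun g : Z ⟶ N => (Over.pullback S₀.ι ⋙ Over.pullback e).map g) :=
      bij_of_natIso α Z N h
    have h2 : Function.Bijective ((fun m => (Over.pullback e).map m) ∘
        (fun g : Z ⟶ N => (Over.pullback S₀.ι).map g)) := h1
    exact (Function.Bijective.of_comp_iff' hP _).mp h2

theorem main {k : Type u} [Field k] [CharZero k] {S : Scheme.{u}} (σ : S ⟶ Spec (CommRingCat.of k)) [IsLocallyNoetherian S] (S₀ S₁ : S.Opens) (h01 : S₀ ≤ S₁) (hS₀ : CInt.IsSchematicallyDense S₀)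
    (N : Over S) [Smooth N.hom]
    (hN1 : ∀ Z : Over S, Smooth Z.hom → Function.Bijective (fun g : Z ⟶ N => (Over.pullback S₁.ι).map g))
    (hN10 : ∀ Z : Over (S₁ : Scheme.{u}), Smooth Z.hom → Function.Bijective (fun g : Z ⟶ (Over.pullback S₁.ι).obj N => (Over.pullback (S₁.ι ⁻¹ᵁ S₀).ι).map g)) :
    ∀ Z : Over S, Smooth Z.hom → Function.Bijective (fun g : Z ⟶ N => (Over.pullback S₀.ι).map g) := by
  intro Z hZ
  rw [key S₀ S₁ h01]
  haveI := hZ
  have hsm : Smooth ((Over.pullback S₁.ι).obj Z).hom := by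
    change Smooth (Limits.pullback.snd Z.hom S₁.ι)
    infer_instance
  exact (hN10 _ hsm).comp (hN1 Z hZ)


end


/-- Let S be a locally Noetherian scheme over a field of characteristic 0, S₀ ⊆ S₁ ⊆ S opens with S₀
scheme-theoretically dense in S, and N a smooth S-scheme. If N has the Néron mapping property for S₁
⊆ S and the restriction N|S₁ has the Néron mapping property for S₀ ⊆ S₁ (in both cases: restriction
of morphisms from smooth schemes over the base is bijective), then N has the Néron mapping property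
for S₀ ⊆ S. (Case of schemes, with smooth test schemes, of a statement about algebraic spaces.) -/
theorem result {k : Type u} [Field k] [CharZero k] {S : Scheme.{u}} (σ : S ⟶ Spec (CommRingCat.of k)) [IsLocallyNoetherian S] (S₀ S₁ : S.Opens) (h01 : S₀ ≤ S₁) (hS₀ : CInt.IsSchematicallyDense S₀)
    (N : Over S) [Smooth N.hom]
    (hN1 : ∀ Z : Over S, Smooth Z.hom → Function.Bijective (fun g : Z ⟶ N => (Over.pullback S₁.ι).map g))
    (hN10 : ∀ Z : Over (S₁ : Scheme.{u}), Smooth Z.hom → Function.Bijective (fun g : Z ⟶ (Over.pullback S₁.ι).obj N => (Over.pullback (S₁.ι ⁻¹ᵁ S₀).ι).map g)) :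
    ∀ Z : Over S, Smooth Z.hom → Function.Bijective (fun g : Z ⟶ N => (Over.pullback S₀.ι).map g) := by
  classical
  exact main σ S₀ S₁ h01 hS₀ N hN1 hN10

end Groth.Agent.S13419
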