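import Groth.Statements.S13427
import Mathlib
import Groth.Agent.S13418

set_option autoImplicit false
universe u
open CategoryTheory AlgebraicGeometry
open NeronHD

namespace Groth.Agent.S13427

section
open CategoryTheory AlgebraicGeometry

theorem main {k : Type u} [Field k] [CharZero k] {S : Scheme.{u}} (σ : S ⟶ Spec (CommRingCat.of k)) [IsLocallyNoetherian S] (S₀ : S.Opens) (hS₀ : CInt.IsSchematicallyDense S₀)
    (G H : Over S) [Smooth G.hom] [Smooth H.hom]
    (hG : ∀ Z : Over S, Smooth Z.hom → Function.Bijective (fun g : Z ⟶ G => (Over.pullback S₀.ι).map g))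
    (hH : ∀ Z : Over S, Smooth Z.hom → Function.Bijective (fun g : Z ⟶ H => (Over.pullback S₀.ι).map g))
    (f : G ⟶ H) (e : S ⟶ H.left) (he : e ≫ H.hom = 𝟙 S)
    [Smooth (Limits.pullback.snd f.left e)] :
    ∀ Z : Over S, Smooth Z.hom → Function.Bijective (fun g : Z ⟶ Over.mk (Limits.pullback.snd f.left e) => (Over.pullback S₀.ι).map g) := by
  intro Z hZ
  let K : Over S := Over.mk (Limits.pullback.snd f.left e)
  let one : Over S := Over.mk (𝟙 S)
  have hw : Limits.pullback.fst f.left e ≫ G.hom = Limits.pullback.snd f.left e := by
    rw [← Over.w f, ← Category.assoc, Limits.pullback.condition, Category.assoc, he,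
      Category.comp_id]
  let p : K ⟶ G := Over.homMk (Limits.pullback.fst f.left e) hw
  let q : K ⟶ one := Over.homMk (Limits.pullback.snd f.left e) (by simp [one, K])
  let e' : one ⟶ H := Over.homMk e (by simpa [one] using he)
  have w : p ≫ f = q ≫ e' := by
    ext1
    exact Limits.pullback.condition
  have sq : IsPullback p q f e' :=
    Groth.Agent.S13418.isPullback_over w (IsPullback.of_hasPullback f.left e)
  have sqF := sq.map (Over.pullback S₀.ι)
  refine Groth.Agent.S13418.bij_of_isPullback (Over.pullback S₀.ι) sq sqF Z (hG Z hZ) ?_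
    (hH Z hZ).1
  have hterm : Limits.IsTerminal ((Over.pullback S₀.ι).obj one) :=
    Limits.IsTerminal.isTerminalObj (Over.pullback S₀.ι) one Over.mkIdTerminal
  constructor
  · intro a b _
    exact (Over.mkIdTerminal (X := S)).hom_ext a b
  · intro h
    exact ⟨Over.mkIdTerminal.from Z, hterm.hom_ext _ _⟩


end


/-- Let S be a locally Noetherian scheme over a field of characteristic 0, S₀ ⊆ S a scheme-theoretically
dense open, and G, H smooth S-schemes with the Néron mapping property for S₀ ⊆ S (restriction to S₀
of S-morphisms from smooth S-schemes is bijective). Let f : G → H be an S-morphism and e : S → H a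
section of H → S, and let K = G ×_H S be the fibre of f over e (the case in view: f a homomorphism
of smooth group schemes, e the unit, K the kernel, so that 1 → K → G → H is left exact). If K → S is
smooth, then K has the Néron mapping property for S₀ ⊆ S. (Case of schemes, with smooth test
schemes, of a statement about group algebraic spaces.) -/
theorem result {k : Type u} [Field k] [CharZero k] {S : Scheme.{u}} (σ : S ⟶ Spec (CommRingCat.of k)) [IsLocallyNoetherian S] (S₀ : S.Opens) (hS₀ : CInt.IsSchematicallyDense S₀)
    (G H : Over S) [Smooth G.hom] [Smooth H.hom]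
    (hG : ∀ Z : Over S, Smooth Z.hom → Function.Bijective (fun g : Z ⟶ G => (Over.pullback S₀.ι).map g))
    (hH : ∀ Z : Over S, Smooth Z.hom → Function.Bijective (fun g : Z ⟶ H => (Over.pullback S₀.ι).map g))
    (f : G ⟶ H) (e : S ⟶ H.left) (he : e ≫ H.hom = 𝟙 S)
    [Smooth (Limits.pullback.snd f.left e)] :
    ∀ Z : Over S, Smooth Z.hom → Function.Bijective (fun g : Z ⟶ Over.mk (Limits.pullback.snd f.left e) => (Over.pullback S₀.ι).map g) := by
  classical
  exact main σ S₀ hS₀ G H hG hH f e he

end Groth.Agent.S13427
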