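import Groth.Statements.S13430
import Mathlib
import Groth.Agent.S13418

set_option autoImplicit false
universe u
open CategoryTheory MonoidalCategory CartesianMonoidalCategory MonObj GrpObj AlgebraicGeometry
open NeronHD

namespace Groth.Agent.S13430

section
open CategoryTheory MonoidalCategory CartesianMonoidalCategory MonObj GrpObj AlgebraicGeometry

universe v₁ v₂ u₁ u₂

/-- A morphism between objects with the mapping property which becomes an isomorphism after
applying `F` is an isomorphism. -/
theorem isIso_of_bij {C : Type u₁} {D : Type u₂} [Category.{v₁} C] [Category.{v₂} D]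
    (F : C ⥤ D) {A B : C} (τ : A ⟶ B) [IsIso (F.map τ)]
    (hBA : Function.Surjective (fun g : B ⟶ A => F.map g))
    (hAA : Function.Injective (fun g : A ⟶ A => F.map g))
    (hBB : Function.Injective (fun g : B ⟶ B => F.map g)) : IsIso τ := by
  obtain ⟨ρ, hρ⟩ := hBA (inv (F.map τ))
  have hρ' : F.map ρ = inv (F.map τ) := hρ
  refine ⟨ρ, ?_, ?_⟩
  · apply hAA
    change F.map (τ ≫ ρ) = F.map (𝟙 A)
    rw [F.map_comp, hρ', IsIso.hom_inv_id, F.map_id]
  · apply hBB
    change F.map (ρ ≫ τ) = F.map (𝟙 B)
    rw [F.map_comp, hρ', IsIso.inv_hom_id, F.map_id]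

theorem nmp_tensor {k : Type u} [Field k] [CharZero k] {S : Scheme.{u}} (σ : S ⟶ Spec (CommRingCat.of k)) [IsLocallyNoetherian S] (S₀ : S.Opens) (hS₀ : CInt.IsSchematicallyDense S₀)
    (N M : Over S) [Smooth N.hom] [Smooth M.hom]
    (hN : ∀ Z : Over S, Smooth Z.hom → Function.Bijective (fun g : Z ⟶ N => (Over.pullback S₀.ι).map g))
    (hM : ∀ Z : Over S, Smooth Z.hom → Function.Bijective (fun g : Z ⟶ M => (Over.pullback S₀.ι).map g)) :
    ∀ Z : Over S, Smooth Z.hom → Function.Bijective (fun g : Z ⟶ N ⊗ M => (Over.pullback S₀.ι).map g) :=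
  Groth.Agent.S13418.main σ S₀ hS₀ N M hN hM

theorem smooth_tensor {S : Scheme.{u}} (A B : Over S) [Smooth A.hom] [Smooth B.hom] :
    Smooth (A ⊗ B).hom := by
  rw [Over.tensorObj_hom]
  infer_instance

theorem main {k : Type u} [Field k] [CharZero k] {S : Scheme.{u}} (σ : S ⟶ Spec (CommRingCat.of k)) [IsLocallyNoetherian S] (S₀ : S.Opens) (hS₀ : CInt.IsSchematicallyDense S₀)
    (G : Over S) [GrpObj G] [Smooth G.hom]
    (hG : ∀ Z : Over S, Smooth Z.hom → Function.Bijective (fun g : Z ⟶ G => (Over.pullback S₀.ι).map g))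
    (N : Over S) [Smooth N.hom] [Surjective N.hom]
    (hN : ∀ Z : Over S, Smooth Z.hom → Function.Bijective (fun g : Z ⟶ N => (Over.pullback S₀.ι).map g))
    (a : AlgGrp.Action G N)
    (h0 : IsIso ((Over.pullback S₀.ι).map (lift a.act (snd G N)))) :
    NonAbH1.IsPseudoTorsorSch a := by
  have hGN := nmp_tensor σ S₀ hS₀ G N hG hN
  have hNN := nmp_tensor σ S₀ hS₀ N N hN hN
  have sGN := smooth_tensor G N
  have sNN := smooth_tensor N N
  exact isIso_of_bij (Over.pullback S₀.ι) (lift a.act (snd G N)) (hGN _ sNN).2 (hGN _ sGN).1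
    (hNN _ sNN).1


end


/-- The implication ⇐: let S be a locally Noetherian scheme over a field of characteristic 0 and S₀ ⊆ S
a scheme-theoretically dense open. Let G be a smooth group scheme over S and N a smooth S-scheme,
both with the Néron mapping property for S₀ ⊆ S (restriction to S₀ of S-morphisms from smooth
S-schemes is bijective), and let a be an action of G on N over S whose translation map G ×_S N → N
×_S N, (g, x) ↦ (g·x, x), restricts to an isomorphism over S₀, so that N|S₀ is a pseudo-torsor under
G|S₀ and a is the unique extension of that action. If N → S is surjective, then the translation map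
is an isomorphism: N is a pseudo-torsor under G over all of S (and then a torsor for the étale
topology, N → S being smooth and surjective). (Case of schemes of a statement about group algebraic
spaces; the converse 'torsor ⇒ surjective' presumes local triviality.) -/
theorem result {k : Type u} [Field k] [CharZero k] {S : Scheme.{u}} (σ : S ⟶ Spec (CommRingCat.of k)) [IsLocallyNoetherian S] (S₀ : S.Opens) (hS₀ : CInt.IsSchematicallyDense S₀)
    (G : Over S) [GrpObj G] [Smooth G.hom]
    (hG : ∀ Z : Over S, Smooth Z.hom → Function.Bijective (fun g : Z ⟶ G => (Over.pullback S₀.ι).map g))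
    (N : Over S) [Smooth N.hom] [Surjective N.hom]
    (hN : ∀ Z : Over S, Smooth Z.hom → Function.Bijective (fun g : Z ⟶ N => (Over.pullback S₀.ι).map g))
    (a : AlgGrp.Action G N)
    (h0 : IsIso ((Over.pullback S₀.ι).map (lift a.act (snd G N)))) :
    NonAbH1.IsPseudoTorsorSch a := by
  classical
  exact main σ S₀ hS₀ G hG N hN a h0

end Groth.Agent.S13430
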