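import Groth.Statements.S13434
import Groth.Agent.Lib.Helper6.Hilbpn.Vanish

set_option autoImplicit false
universe u
open W4c1hilbpn

namespace Groth.Agent.S13434

open W4c1hilbpn in
/-- Let k be an infinite field, n ≥ 2, S the polynomial ring over k in n variables, I a monomial ideal
of S of finite colength and T(I) = Hom_S(I, S/I) with its grading by integer vectors. The graded
piece of T(I) in every multidegree all of whose entries are nonnegative, or all of whose entries are
negative, vanishes, and T(I) is spanned by its pieces of non-constant sign pattern (the spans, over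
the sets N of variable indices that are neither empty nor all indices, of the graded pieces whose
multidegree is negative exactly at N). -/
theorem result (k : Type u) [Field k] [Infinite k]
    (n : ℕ) (hn : 2 ≤ n) (I : Ideal (MvPolynomial (Fin n) k)) (hI : IsMonomial I)
    [Module.Finite k (MvPolynomial (Fin n) k ⧸ I)] :
    (∀ α : Fin n → ℤ, ((∀ i, 0 ≤ α i) ∨ (∀ i, α i < 0)) → tPiece I α = ⊥) ∧
      (⨆ N : {N : Set (Fin n) // N.Nonempty ∧ N ≠ Set.univ}, sigPiece I N.1) = ⊤ := by
  have : Nontrivial (Fin n) := Fin.nontrivial_iff_two_le.2 hn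
  have hvan : ∀ α : Fin n → ℤ, ((∀ i, 0 ≤ α i) ∨ (∀ i, α i < 0)) → tPiece I α = ⊥ := by
    intro α hα
    rcases hα with h | h
    · exact Groth.Agent.Lib.Helper6.Hilbpn.tPiece_eq_bot_of_nonneg hI h
    · exact Groth.Agent.Lib.Helper6.Hilbpn.tPiece_eq_bot_of_all_neg hI h
  refine ⟨hvan, ?_⟩
  rw [eq_top_iff, ← Groth.Agent.Lib.Helper6.Hilbpn.iSup_tPiece_eq_top hI]
  refine iSup_le fun α => ?_
  by_cases h0 : tPiece I α = ⊥
  · rw [h0]; exact bot_le
  · have hne : ({i | α i < 0} : Set (Fin n)).Nonempty := by
      by_contra hcon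
      rw [Set.not_nonempty_iff_eq_empty] at hcon
      apply h0
      apply hvan α
      left
      intro i
      by_contra hi
      have : i ∈ ({i | α i < 0} : Set (Fin n)) := not_le.1 hi
      rw [hcon] at this
      exact this
    have hnu : ({i | α i < 0} : Set (Fin n)) ≠ Set.univ := by
      intro hcon
      apply h0
      apply hvan α
      right
      intro i
      have : i ∈ ({i | α i < 0} : Set (Fin n)) := by rw [hcon]; trivial
      exact this
    refine le_trans ?_ (le_iSup (fun N : {N : Set (Fin n) // N.Nonempty ∧ N ≠ Set.univ} => sigPiece I N.1)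
      ⟨{i | α i < 0}, hne, hnu⟩)
    unfold sigPiece
    exact le_iSup (fun β : {β : Fin n → ℤ // ∀ i, β i < 0 ↔ i ∈ ({i | α i < 0} : Set (Fin n))} => tPiece I β.1)
      ⟨α, fun i => Iff.rfl⟩

end Groth.Agent.S13434
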