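import Groth.Statements.S13435
import Groth.Agent.Lib.Helper6.Hilbpn.PowVars2

set_option autoImplicit false
universe u
open W4c1hilbpn

namespace Groth.Agent.S13435

open W4c1hilbpn in
/-- Let k be an infinite field, n ≥ 2, S the polynomial ring over k in n variables with irrelevant ideal
m, r a natural number and α an integer vector; write w for the sum of the absolute values of the
negative entries of α. The graded piece of T(m^r) = Hom_S(m^r, S/m^r) of multidegree α is zero
unless the entries of α sum to -1 and w ≤ r, and in that case its dimension is the binomial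
coefficient C(n + r - w - 1, n - 1). (The published statement allows any number of variables; in one
variable it fails: the map (x^2) → k[x]/(x^2) sending x^2 to 1 is nonzero of degree −2. This row
assumes n ≥ 2.) -/
theorem result (k : Type u) [Field k] [Infinite k]
    (n : ℕ) (hn : 2 ≤ n) (r : ℕ) (α : Fin n → ℤ) :
    Module.finrank k ↥(tPiece ((Ideal.span (Set.range (MvPolynomial.X : Fin n → MvPolynomial (Fin n) k))) ^ r) α) =
      if (∑ i, α i = -1 ∧ ∑ i, (-α i).toNat ≤ r)
        then Nat.choose (n + r - (∑ i, (-α i).toNat) - 1) (n - 1) else 0 := by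
  have hnt : Nontrivial (Fin n) := Fin.nontrivial_iff_two_le.2 hn
  have hw : (∑ i, (-α i).toNat) = Groth.Agent.Lib.Helper6.Hilbpn.negw α := rfl
  split_ifs with hc
  · obtain ⟨h1, h2⟩ := hc
    have := Groth.Agent.Lib.Helper6.Hilbpn.finrank_tPiece_mpow (k := k) (r := r) h1 (hw ▸ h2)
    rw [Fintype.card_fin] at this
    rw [this, hw]
    have h3 : Groth.Agent.Lib.Helper6.Hilbpn.negw α ≤ r := hw ▸ h2
    have e1 : n + (r - Groth.Agent.Lib.Helper6.Hilbpn.negw α) - 1 = n + r - Groth.Agent.Lib.Helper6.Hilbpn.negw α - 1 := by omega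
    rw [e1]
    apply Nat.choose_symm_of_eq_add
    omega
  · rw [not_and_or] at hc
    have hbot : tPiece ((Ideal.span (Set.range (MvPolynomial.X : Fin n → MvPolynomial (Fin n) k))) ^ r) α = ⊥ := by
      rcases hc with hc | hc
      · rcases lt_trichotomy (∑ i, α i) (-1) with h | h | h
        · exact Groth.Agent.Lib.Helper6.Hilbpn.tPiece_mpow_eq_bot_of_sum_le (by omega)
        · exact absurd h hc
        · exact Groth.Agent.Lib.Helper6.Hilbpn.tPiece_mpow_eq_bot_of_sum_nonneg (by omega)
      · by_cases h1 : ∑ i, α i = -1
        · exact Groth.Agent.Lib.Helper6.Hilbpn.tPiece_mpow_eq_bot_of_lt h1 (by rw [← hw]; omega)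
        · rcases lt_trichotomy (∑ i, α i) (-1) with h | h | h
          · exact Groth.Agent.Lib.Helper6.Hilbpn.tPiece_mpow_eq_bot_of_sum_le (by omega)
          · exact absurd h h1
          · exact Groth.Agent.Lib.Helper6.Hilbpn.tPiece_mpow_eq_bot_of_sum_nonneg (by omega)
    rw [hbot]
    exact finrank_bot k _

end Groth.Agent.S13435
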