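import Groth.Statements.S13441
import Mathlib
import Groth.Agent.Lib.Helper4.Hilbpn

set_option autoImplicit false
universe u
open W4c1hilbpn

namespace Groth.Agent.S13441

namespace H13441
set_option linter.unusedSimpArgs false
open W4c1hilbpn MvPolynomial Groth.Agent.Lib.Helper4.Hilbpn

variable {k : Type*} [Field k]

theorem main (I : Ideal (MvPolynomial (Fin 3) k)) (hI : IsStronglyStable I)
    [Module.Finite k (MvPolynomial (Fin 3) k ⧸ I)] (i j : ℕ) :
    stairZ I (i + 1) j ≤ stairZ I i (j + 1) ∧ stairY I (i + 1) j ≤ stairY I i (j + 1) := by
  have hfin := finite_nonmem I hI.1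
  constructor
  · unfold stairZ
    have hf : {c : ℕ | e3 i (j + 1) c ∉ exps I}.Finite := by
      refine Set.Finite.preimage (f := fun c => e3 i (j + 1) c) ?_ hfin
      intro c _ c' _ h
      have := congrArg (fun β => β 2) h
      simpa [e3_apply_two] using this
    refine Nat.card_mono hf ?_
    intro c hc hmem
    apply hc
    have := hI.2 _ hmem 0 1 (by decide) (by rw [e3_apply_one]; omega)
    convert this using 1
    symm
    apply e3_ext
    · simp [e3_apply_zero, e3_apply_one, e3_apply_two]
    · simp [e3_apply_zero, e3_apply_one, e3_apply_two]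
    · simp [e3_apply_zero, e3_apply_one, e3_apply_two]
  · unfold stairY
    have hf : {b : ℕ | e3 i b (j + 1) ∉ exps I}.Finite := by
      refine Set.Finite.preimage (f := fun b => e3 i b (j + 1)) ?_ hfin
      intro c _ c' _ h
      have := congrArg (fun β => β 1) h
      simpa [e3_apply_one] using this
    refine Nat.card_mono hf ?_
    intro b hb hmem
    apply hb
    have := hI.2 _ hmem 0 2 (by decide) (by rw [e3_apply_two]; omega)
    convert this using 1
    symm
    apply e3_ext
    · simp [e3_apply_zero, e3_apply_one, e3_apply_two]
    · simp [e3_apply_zero, e3_apply_one, e3_apply_two]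
    · simp [e3_apply_zero, e3_apply_one, e3_apply_two]

end H13441

open W4c1hilbpn in
/-- Let k be an infinite field, S = k[x,y,z] with variables ordered x > y > z, and I a strongly stable
ideal of finite colength, with staircase numbers b^z_{i,j} = the number of c with x^i y^j z^c
outside I and b^y_{i,j} = the number of b with x^i y^b z^j outside I. Then b^z_{i+1,j} ≤ b^z_{i,j+1}
and b^y_{i+1,j} ≤ b^y_{i,j+1} for all i and j (equivalently the maximum of the two neighbouring
staircase numbers is the second one). -/
theorem result (k : Type u) [Field k] [Infinite k]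
    (I : Ideal (MvPolynomial (Fin 3) k)) (hI : IsStronglyStable I) [Module.Finite k (MvPolynomial (Fin 3) k ⧸ I)] (i j : ℕ) :
    stairZ I (i + 1) j ≤ stairZ I i (j + 1) ∧ stairY I (i + 1) j ≤ stairY I i (j + 1) := by
  exact H13441.main I hI i j

end Groth.Agent.S13441
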