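import Groth.Statements.S13443
import Groth.Agent.Lib.Helper6.Hilbpn.SSMain
import Groth.Agent.Lib.Helper6.Hilbpn.Kz.SigSymm

set_option autoImplicit false
universe u
open W4c1hilbpn

namespace Groth.Agent.S13443

open W4c1hilbpn in
/-- Let k be an infinite field, S = k[x,y,z], and T(I) = Hom_S(I, S/I) graded by triples of integers (a
graded piece is indexed by its multidegree; its sign pattern records which of the three entries are
negative), variables ordered x > y > z; let m = (x,y,z), r a natural number and I a strongly stable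
ideal of colength C(r+2, 3) = dim S/m^r. Then the spans of the graded pieces of T(I) negative
exactly at z, resp. exactly at y, have dimension at most C(r+3, 4), the spans of those negative
exactly at x and y, resp. exactly at x and z, have dimension at most C(r+2, 4) (these are the
corresponding dimensions for m^r), and in each of the four cases equality holds if and only if I =
m^r. (The published statement assumes the ideal Borel-fixed over a field of characteristic zero,
which for monomial ideals means strongly stable; the argument uses only strong stability, and the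
row is stated in that form.) -/
theorem result (k : Type u) [Field k] [Infinite k] (r : ℕ)
    (I : Ideal (MvPolynomial (Fin 3) k)) (hI : IsStronglyStable I) [Module.Finite k (MvPolynomial (Fin 3) k ⧸ I)]
    (hd : Module.finrank k (MvPolynomial (Fin 3) k ⧸ I) = Nat.choose (r + 2) 3) :
    (Module.finrank k ↥(sigPiece I ({2} : Set (Fin 3))) ≤ Nat.choose (r + 3) 4 ∧
      (Module.finrank k ↥(sigPiece I ({2} : Set (Fin 3))) = Nat.choose (r + 3) 4 ↔ I = (Ideal.span (Set.range (MvPolynomial.X : Fin 3 → MvPolynomial (Fin 3) k))) ^ r)) ∧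
    (Module.finrank k ↥(sigPiece I ({1} : Set (Fin 3))) ≤ Nat.choose (r + 3) 4 ∧
      (Module.finrank k ↥(sigPiece I ({1} : Set (Fin 3))) = Nat.choose (r + 3) 4 ↔ I = (Ideal.span (Set.range (MvPolynomial.X : Fin 3 → MvPolynomial (Fin 3) k))) ^ r)) ∧
    (Module.finrank k ↥(sigPiece I ({0, 1} : Set (Fin 3))) ≤ Nat.choose (r + 2) 4 ∧
      (Module.finrank k ↥(sigPiece I ({0, 1} : Set (Fin 3))) = Nat.choose (r + 2) 4 ↔ I = (Ideal.span (Set.range (MvPolynomial.X : Fin 3 → MvPolynomial (Fin 3) k))) ^ r)) ∧
    (Module.finrank k ↥(sigPiece I ({0, 2} : Set (Fin 3))) ≤ Nat.choose (r + 2) 4 ∧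
      (Module.finrank k ↥(sigPiece I ({0, 2} : Set (Fin 3))) = Nat.choose (r + 2) 4 ↔ I = (Ideal.span (Set.range (MvPolynomial.X : Fin 3 → MvPolynomial (Fin 3) k))) ^ r)) := by
  open Groth.Agent.Lib.Helper6.Hilbpn in
  have hc2 : ({2}ᶜ : Set (Fin 3)) = {0, 1} := by
    ext i; fin_cases i <;> simp
  have hc1 : ({1}ᶜ : Set (Fin 3)) = {0, 2} := by
    ext i; fin_cases i <;> simp
  have s2 := Groth.Agent.Lib.Helper6.Hilbpn.finrank_sigPiece_singleton hI.1 2
  have s1 := Groth.Agent.Lib.Helper6.Hilbpn.finrank_sigPiece_singleton hI.1 1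
  rw [hc2, hd] at s2
  rw [hc1, hd] at s1
  obtain ⟨⟨b01, e01⟩, ⟨b02, e02⟩⟩ := Groth.Agent.Lib.Helper6.Hilbpn.ss_bounds hI r hd
  have pascal : (r + 3).choose 4 = (r + 2).choose 3 + (r + 2).choose 4 := by
    rw [show r + 3 = (r + 2) + 1 by omega, Nat.choose_succ_succ]
  have p01 : I = (Ideal.span (Set.range (MvPolynomial.X : Fin 3 → MvPolynomial (Fin 3) k))) ^ r →
      Module.finrank k ↥(sigPiece I ({0, 1} : Set (Fin 3))) = Nat.choose (r + 2) 4 := by
    intro h
    subst h
    have := Groth.Agent.Lib.Helper6.Hilbpn.finrank_sigPiece_two (k := k) r (2 : Fin 3)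
    rw [hc2] at this
    exact this
  have p02 : I = (Ideal.span (Set.range (MvPolynomial.X : Fin 3 → MvPolynomial (Fin 3) k))) ^ r →
      Module.finrank k ↥(sigPiece I ({0, 2} : Set (Fin 3))) = Nat.choose (r + 2) 4 := by
    intro h
    subst h
    have := Groth.Agent.Lib.Helper6.Hilbpn.finrank_sigPiece_two (k := k) r (1 : Fin 3)
    rw [hc1] at this
    exact this
  refine ⟨⟨by omega, ⟨fun h => e01 (by omega), fun h => ?_⟩⟩, ⟨by omega, ⟨fun h => e02 (by omega), fun h => ?_⟩⟩,
    ⟨b01, ⟨e01, p01⟩⟩, ⟨b02, ⟨e02, p02⟩⟩⟩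
  · have := p01 h
    omega
  · have := p02 h
    omega

end Groth.Agent.S13443
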