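import Groth.Statements.S13455
import Mathlib

set_option autoImplicit false
universe u
open W4c1hilbpn

namespace Groth.Agent.S13455

/-- Let k be an algebraically closed field of characteristic different from 2, k0 ≥ 1 and n ≥ 2k0 - 1
natural numbers, S = k[x_0, ..., x_n], and e1 ≤ e2 ≤ k0 - 1. The ideal generated by all products x_p
x_q with e1 ≤ p, q ≤ e2 together with the products x_p x_{n-k0+1+q} for e1 ≤ p < q ≤ e2 is the
intersection, over j from e1 to e2, of the ideals generated by the variables x_i with e1 ≤ i ≤ e2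
and i ≠ j, the square x_j^2, and the variables x_{n-k0+1+q} for j < q ≤ e2 (a primary decomposition
of this monomial ideal). -/
theorem result (k : Type u) [Field k] [IsAlgClosed k] (hchar : ringChar k ≠ 2)
    (n k0 e1 e2 : ℕ) (hk : 1 ≤ k0) (hn : 2 * k0 ≤ n + 1) (he : e1 ≤ e2) (he2 : e2 + 1 ≤ k0) :
    Ideal.span ({f : MvPolynomial (Fin (n + 1)) k | ∃ p q : Fin (n + 1), e1 ≤ p.val ∧ p.val ≤ e2 ∧ e1 ≤ q.val ∧ q.val ≤ e2 ∧
        f = MvPolynomial.X p * MvPolynomial.X q} ∪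
      {f : MvPolynomial (Fin (n + 1)) k | ∃ p q m : Fin (n + 1), e1 ≤ p.val ∧ p.val < q.val ∧ q.val ≤ e2 ∧
        m.val + k0 = n + 1 + q.val ∧ f = MvPolynomial.X p * MvPolynomial.X m}) =
    ⨅ j : Fin (n + 1), ⨅ (_ : e1 ≤ j.val ∧ j.val ≤ e2),
      Ideal.span ({f : MvPolynomial (Fin (n + 1)) k | ∃ i : Fin (n + 1), e1 ≤ i.val ∧ i.val ≤ e2 ∧ i ≠ j ∧ f = MvPolynomial.X i} ∪
        {MvPolynomial.X j ^ 2} ∪
        {f : MvPolynomial (Fin (n + 1)) k | ∃ q m : Fin (n + 1), j.val < q.val ∧ q.val ≤ e2 ∧ m.val + k0 = n + 1 + q.val ∧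
          f = MvPolynomial.X m}) := by
  classical
  have hXX : ∀ a b : Fin (n + 1), (MvPolynomial.X a * MvPolynomial.X b : MvPolynomial (Fin (n + 1)) k) =
      MvPolynomial.monomial (Finsupp.single a 1 + Finsupp.single b 1) 1 := by
    intro a b
    rw [MvPolynomial.X, MvPolynomial.X, MvPolynomial.monomial_mul, one_mul]
  have hX1 : ∀ a : Fin (n + 1), (MvPolynomial.X a : MvPolynomial (Fin (n + 1)) k) =
      MvPolynomial.monomial (Finsupp.single a 1) 1 := fun a => rfl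
  have hX2 : ∀ a : Fin (n + 1), (MvPolynomial.X a ^ 2 : MvPolynomial (Fin (n + 1)) k) =
      MvPolynomial.monomial (Finsupp.single a 2) 1 := fun a => MvPolynomial.X_pow_eq_monomial
  have hle2 : ∀ (a b : Fin (n + 1)) (β : Fin (n + 1) →₀ ℕ), a ≠ b → 1 ≤ β a → 1 ≤ β b →
      Finsupp.single a 1 + Finsupp.single b 1 ≤ β := by
    intro a b β hab ha hb x
    simp only [Finsupp.add_apply, Finsupp.single_apply]
    by_cases h1 : a = x
    · subst h1
      rw [if_pos rfl, if_neg (Ne.symm hab)]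
      omega
    · by_cases h2 : b = x
      · subst h2
        rw [if_neg h1, if_pos rfl]
        omega
      · rw [if_neg h1, if_neg h2]
        omega
  have hle2' : ∀ (a : Fin (n + 1)) (β : Fin (n + 1) →₀ ℕ), 2 ≤ β a →
      Finsupp.single a 1 + Finsupp.single a 1 ≤ β := by
    intro a β ha x
    simp only [Finsupp.add_apply, Finsupp.single_apply]
    by_cases h1 : a = x
    · subst h1
      rw [if_pos rfl]
      omega
    · rw [if_neg h1]
      omega
  have hle1 : ∀ (a : Fin (n + 1)) (c : ℕ) (β : Fin (n + 1) →₀ ℕ), Finsupp.single a c ≤ β → c ≤ β a := by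
    intro a c β h
    have := h a
    simpa using this
  have hle1' : ∀ (a : Fin (n + 1)) (c : ℕ) (β : Fin (n + 1) →₀ ℕ), c ≤ β a → Finsupp.single a c ≤ β := by
    intro a c β h x
    simp only [Finsupp.single_apply]
    by_cases h1 : a = x
    · subst h1; rw [if_pos rfl]; exact h
    · rw [if_neg h1]; omega
  set SL : Set (Fin (n + 1) →₀ ℕ) :=
    {s | ∃ p q : Fin (n + 1), e1 ≤ p.val ∧ p.val ≤ e2 ∧ e1 ≤ q.val ∧ q.val ≤ e2 ∧
        s = Finsupp.single p 1 + Finsupp.single q 1} ∪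
    {s | ∃ p q m : Fin (n + 1), e1 ≤ p.val ∧ p.val < q.val ∧ q.val ≤ e2 ∧
        m.val + k0 = n + 1 + q.val ∧ s = Finsupp.single p 1 + Finsupp.single m 1} with hSL
  have hL : ({f : MvPolynomial (Fin (n + 1)) k | ∃ p q : Fin (n + 1), e1 ≤ p.val ∧ p.val ≤ e2 ∧ e1 ≤ q.val ∧ q.val ≤ e2 ∧
        f = MvPolynomial.X p * MvPolynomial.X q} ∪
      {f : MvPolynomial (Fin (n + 1)) k | ∃ p q m : Fin (n + 1), e1 ≤ p.val ∧ p.val < q.val ∧ q.val ≤ e2 ∧
        m.val + k0 = n + 1 + q.val ∧ f = MvPolynomial.X p * MvPolynomial.X m}) =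
      (fun s => MvPolynomial.monomial s (1 : k)) '' SL := by
    ext f
    constructor
    · rintro (⟨p, q, h1, h2, h3, h4, rfl⟩ | ⟨p, q, m, h1, h2, h3, h4, rfl⟩)
      · exact ⟨_, Or.inl ⟨p, q, h1, h2, h3, h4, rfl⟩, (hXX p q).symm⟩
      · exact ⟨_, Or.inr ⟨p, q, m, h1, h2, h3, h4, rfl⟩, (hXX p m).symm⟩
    · rintro ⟨s, (⟨p, q, h1, h2, h3, h4, rfl⟩ | ⟨p, q, m, h1, h2, h3, h4, rfl⟩), rfl⟩
      · exact Or.inl ⟨p, q, h1, h2, h3, h4, (hXX p q).symm⟩
      · exact Or.inr ⟨p, q, m, h1, h2, h3, h4, (hXX p m).symm⟩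
  set SJ : Fin (n + 1) → Set (Fin (n + 1) →₀ ℕ) := fun j =>
    {s | ∃ i : Fin (n + 1), e1 ≤ i.val ∧ i.val ≤ e2 ∧ i ≠ j ∧ s = Finsupp.single i 1} ∪
      {Finsupp.single j 2} ∪
    {s | ∃ q m : Fin (n + 1), j.val < q.val ∧ q.val ≤ e2 ∧ m.val + k0 = n + 1 + q.val ∧
        s = Finsupp.single m 1} with hSJ
  have hJ : ∀ j : Fin (n + 1),
      ({f : MvPolynomial (Fin (n + 1)) k | ∃ i : Fin (n + 1), e1 ≤ i.val ∧ i.val ≤ e2 ∧ i ≠ j ∧ f = MvPolynomial.X i} ∪
        {MvPolynomial.X j ^ 2} ∪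
        {f : MvPolynomial (Fin (n + 1)) k | ∃ q m : Fin (n + 1), j.val < q.val ∧ q.val ≤ e2 ∧ m.val + k0 = n + 1 + q.val ∧
          f = MvPolynomial.X m}) = (fun s => MvPolynomial.monomial s (1 : k)) '' SJ j := by
    intro j
    ext f
    constructor
    · rintro ((⟨i, h1, h2, h3, rfl⟩ | hf) | ⟨q, m, h1, h2, h3, rfl⟩)
      · exact ⟨_, Or.inl (Or.inl ⟨i, h1, h2, h3, rfl⟩), (hX1 i).symm⟩
      · rw [Set.mem_singleton_iff] at hf
        exact ⟨_, Or.inl (Or.inr rfl), by rw [hf, hX2]⟩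
      · exact ⟨_, Or.inr ⟨q, m, h1, h2, h3, rfl⟩, (hX1 m).symm⟩
    · rintro ⟨s, ((⟨i, h1, h2, h3, rfl⟩ | hs) | ⟨q, m, h1, h2, h3, rfl⟩), rfl⟩
      · exact Or.inl (Or.inl ⟨i, h1, h2, h3, (hX1 i).symm⟩)
      · rw [Set.mem_singleton_iff] at hs
        subst hs
        exact Or.inl (Or.inr (by rw [Set.mem_singleton_iff, hX2]))
      · exact Or.inr ⟨q, m, h1, h2, h3, (hX1 m).symm⟩
  rw [hL]
  simp only [hJ]
  apply le_antisymm
  · refine le_iInf fun j => le_iInf fun hj => ?_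
    rw [Ideal.span_le]
    rintro _ ⟨s, hs, rfl⟩
    rw [SetLike.mem_coe, MvPolynomial.mem_ideal_span_monomial_image]
    intro xi hxi
    have hxs : xi = s := by
      rw [MvPolynomial.support_monomial, if_neg one_ne_zero, Finset.mem_singleton] at hxi
      exact hxi
    subst hxs
    rcases hs with ⟨p, q, h1, h2, h3, h4, rfl⟩ | ⟨p, q, m, h1, h2, h3, h4, rfl⟩
    · by_cases hpj : p = j
      · by_cases hqj : q = j
        · rw [hpj, hqj]
          refine ⟨Finsupp.single j 2, Or.inl (Or.inr rfl), ?_⟩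
          rw [← Finsupp.single_add]
        · refine ⟨Finsupp.single q 1, Or.inl (Or.inl ⟨q, h3, h4, hqj, rfl⟩), ?_⟩
          exact le_add_self
      · refine ⟨Finsupp.single p 1, Or.inl (Or.inl ⟨p, h1, h2, hpj, rfl⟩), ?_⟩
        exact le_self_add
    · by_cases hpj : p = j
      · have h2' : j.val < q.val := hpj ▸ h2
        refine ⟨Finsupp.single m 1, Or.inr ⟨q, m, h2', h3, h4, rfl⟩, ?_⟩
        exact le_add_self
      · refine ⟨Finsupp.single p 1, Or.inl (Or.inl ⟨p, h1, by omega, hpj, rfl⟩), ?_⟩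
        exact le_self_add
  · intro f hf
    rw [MvPolynomial.mem_ideal_span_monomial_image]
    intro β hβ
    have hJβ : ∀ j : Fin (n + 1), e1 ≤ j.val ∧ j.val ≤ e2 → ∃ t ∈ SJ j, t ≤ β := by
      intro j hj
      have h1 := (Submodule.mem_iInf _).1 hf j
      have h2 := (Submodule.mem_iInf _).1 h1 hj
      rw [MvPolynomial.mem_ideal_span_monomial_image] at h2
      exact h2 β hβ
    by_cases h2 : ∃ p q : Fin (n + 1), e1 ≤ p.val ∧ p.val ≤ e2 ∧ e1 ≤ q.val ∧ q.val ≤ e2 ∧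
        Finsupp.single p 1 + Finsupp.single q 1 ≤ β
    · obtain ⟨p, q, h1, h2', h3, h4, h5⟩ := h2
      exact ⟨_, Or.inl ⟨p, q, h1, h2', h3, h4, rfl⟩, h5⟩
    · push_neg at h2
      have he2n : e2 < n + 1 := by omega
      obtain ⟨t, ht, htβ⟩ := hJβ ⟨e2, he2n⟩ ⟨he, le_refl _⟩
      -- find an index i in the range with β i ≥ 1
      have hi : ∃ i : Fin (n + 1), e1 ≤ i.val ∧ i.val ≤ e2 ∧ 1 ≤ β i := by
        rcases ht with (⟨i, h1, h2', h3, rfl⟩ | ht) | ⟨q, m, h1, h2', h3, rfl⟩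
        · exact ⟨i, h1, h2', hle1 i 1 β htβ⟩
        · rw [Set.mem_singleton_iff] at ht
          subst ht
          have := hle1 _ 2 β htβ
          exact ⟨⟨e2, he2n⟩, he, le_refl _, by omega⟩
        · exfalso
          simp only at h1
          omega
      obtain ⟨i, hi1, hi2, hi3⟩ := hi
      obtain ⟨t', ht', htβ'⟩ := hJβ i ⟨hi1, hi2⟩
      rcases ht' with (⟨i', h1, h2', h3, rfl⟩ | ht') | ⟨q, m, h1, h2', h3, rfl⟩
      · exfalso
        exact h2 i i' hi1 hi2 h1 h2' (hle2 i i' β (Ne.symm h3) hi3 (hle1 i' 1 β htβ'))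
      · exfalso
        rw [Set.mem_singleton_iff] at ht'
        subst ht'
        exact h2 i i hi1 hi2 hi1 hi2 (hle2' i β (hle1 i 2 β htβ'))
      · have him : i ≠ m := by
          intro h
          have : i.val = m.val := congrArg Fin.val h
          omega
        exact ⟨_, Or.inr ⟨i, q, m, hi1, h1, h2', h3, rfl⟩, hle2 i m β him hi3 (hle1 m 1 β htβ')⟩

end Groth.Agent.S13455
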