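import Groth.Statements.S13486
import Groth.Agent.Lib.Helper6.DCRHom.RMain
import Groth.Agent.Lib.Helper6.DCLoc.Main

set_option autoImplicit false
universe u
open CategoryTheory CategoryTheory.Limits Opposite
attribute [local instance] HasDerivedCategory.standard
open DerComp

namespace Groth.Agent.S13486

/-- On a ringed site (C, O) with a sheaf of ideals I, if L in D(O) is derived complete with respect to I
then so is RHom_O(K, L) for every K in D(O). Here K is given by a cochain complex P of O-modules and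
RHom_O(P, -) is the right adjoint of the derived tensor product with P, assumed to exist. -/
theorem result {C : Type u} [SmallCategory C] {J : GrothendieckTopology C} (O : Sheaf J CommRingCat.{u}) (I : DerComp.IdealSh O) (P : CochainComplex (ModSite.Mod O) ℤ) [ModSite.HasLTensorCx P] [DerComp.HasRHom P] (L : DerivedCategory (ModSite.Mod O)) (hL : DerComp.IsDerComp O I L) : DerComp.IsDerComp O I ((DerComp.RHom P).obj L) := by
  intro U f hf n
  refine Groth.Agent.Lib.Helper6.DCLoc.vanishing_of_bij O ((DerComp.RHom P).obj L) U f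
    (fun m => ?_) n
  obtain ⟨s, hs⟩ : ∃ s : DerComp.GSec (O.over U),
      ∀ z : Over U, s.1 z = (O.obj.map z.hom.op).hom f :=
    ⟨DerComp.GSec.ofSect O U f, fun z => rfl⟩
  have hloc : ∀ (z : Over U) (m : ℤ),
      Groth.Agent.Lib.Helper6.DCPush.Bij
        (((DerivedCategory.singleFunctor (ModSite.Mod (O.over U)) 0).map
          (Groth.Agent.Lib.Helper6.DCPush.tel
            (DerComp.smulEnd s (ModSite.freeOn (O.over U) z))))⟦m⟧')
        ((ModSite.restr O U).mapDerivedCategory.obj L) := by
    intro z m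
    have hmem : (O.obj.map z.hom.op).hom f ∈ I.ideal z.left := I.map_mem z.hom hf
    have h2 := Groth.Agent.Lib.Helper6.DCLoc.bij_of_vanishing O L z.left
      ((O.obj.map z.hom.op).hom f) (hL z.left _ hmem) m
    have h3 := (Groth.Agent.Lib.Helper6.DCLoc.bij_over_iff O U L z
      ((O.obj.map z.hom.op).hom f) m).2 h2
    have h4 : Groth.Agent.Lib.Helper6.DCPush.tG (O.over U) z ((O.obj.map z.hom.op).hom f) =
        DerComp.smulEnd s (ModSite.freeOn (O.over U) z) :=
      (congrArg (fun r => Groth.Agent.Lib.Helper6.DCPush.tG (O.over U) z r) (hs z)).symm.trans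
        (Groth.Agent.Lib.Helper6.DCLoc.tG_eq_smulEnd (O.over U) s z)
    rw [h4] at h3
    exact h3
  have hr : (O.obj.map (Over.mk (𝟙 U)).hom.op).hom f = f := by
    show (O.obj.map (𝟙 U).op).hom f = f
    rw [op_id, O.obj.map_id]
    rfl
  have h5 : Groth.Agent.Lib.Helper6.DCPush.tG (O.over U) (Over.mk (𝟙 U)) f =
      DerComp.smulEnd s (ModSite.freeOn (O.over U) (Over.mk (𝟙 U))) :=
    (congrArg (fun r => Groth.Agent.Lib.Helper6.DCPush.tG (O.over U) (Over.mk (𝟙 U)) r)
      ((hs (Over.mk (𝟙 U))).trans hr)).symm.trans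
      (Groth.Agent.Lib.Helper6.DCLoc.tG_eq_smulEnd (O.over U) s (Over.mk (𝟙 U)))
  have h6 := Groth.Agent.Lib.Helper6.DCRHom.bij_rhom_restr O U P s L hloc (Over.mk (𝟙 U)) m
  rw [← h5] at h6
  exact (Groth.Agent.Lib.Helper6.DCLoc.bij_over_iff O U ((DerComp.RHom P).obj L)
    (Over.mk (𝟙 U)) f m).1 h6

end Groth.Agent.S13486
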