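import Groth.Statements.S13507
import Mathlib
import Groth.Prelude.Def_EtGm
import Groth.Agent.Lib.Helper9.FE.CycRoot
import Groth.Agent.S14453
import Groth.Agent.S0108
-- import your own Groth.Agent.* helpers here

set_option autoImplicit false
universe u
open CategoryTheory CategoryTheory.Limits AlgebraicGeometry
open EtCore

namespace Groth.Agent.S13507

open CategoryTheory CategoryTheory.Limits AlgebraicGeometry Opposite
namespace Aux
set_option linter.unusedSectionVars false
set_option backward.isDefEq.respectTransparency false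
set_option linter.style.haveILetI false

open Groth.Agent.S0108 (toUnit ofUnit map_toUnit powMap_toUnit toUnit_injective)
open Groth.Agent.S14453.Aux (opObj opι mem_et_iff)

/-- additive map out of `ULift (ZMod n)` determined by an `n`-torsion element -/
noncomputable def liftZ {A : Type*} [AddCommGroup A] (n : ℕ) (z : A) (hz : n • z = 0) :
    ULift.{u+1} (ZMod n) →+ A :=
  (ZMod.lift n ⟨zmultiplesHom A z, by simpa using hz⟩).comp
    (AddEquiv.ulift (α := ZMod n)).toAddMonoidHom

theorem liftZ_natCast {A : Type*} [AddCommGroup A] (n : ℕ) (z : A) (hz : n • z = 0) (k : ℕ) :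
    liftZ n z hz ⟨(k : ZMod n)⟩ = k • z := by
  have h := ZMod.lift_coe n (⟨zmultiplesHom A z, by simpa using hz⟩ :
    {f : ℤ →+ A // f n = 0}) (k : ℤ)
  simp only [liftZ, AddMonoidHom.comp_apply]
  have h2 : ((k : ℤ) : ZMod n) = (k : ZMod n) := by push_cast; rfl
  rw [h2] at h
  refine h.trans ?_
  simp

theorem liftZ_comp {A B : Type*} [AddCommGroup A] [AddCommGroup B] (n : ℕ) [NeZero n] (z : A)
    (hz : n • z = 0) (ρ : A →+ B) (hz' : n • ρ z = 0) (x : ULift.{u+1} (ZMod n)) :
    ρ (liftZ n z hz x) = liftZ n (ρ z) hz' x := by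
  obtain ⟨k⟩ := x
  rw [← ZMod.natCast_zmod_val k, liftZ_natCast, liftZ_natCast, map_nsmul]

section
variable (S : Scheme.{u}) (n : ℕ) (hn : 1 ≤ n) (ζ : Γ(S, ⊤))
  (hζ : Polynomial.aeval ζ (Polynomial.cyclotomic n ℤ) = 0)

/-- `ζ` pulled back to an étale `S`-scheme -/
noncomputable def zetaU (U : S.Etale) : Γ(U.left, ⊤) := U.hom.appTop.hom ζ

include hζ in
theorem zetaU_root (U : S.Etale) :
    Polynomial.aeval (zetaU S ζ U) (Polynomial.cyclotomic n ℤ) = 0 := by
  have := Polynomial.aeval_algHom_apply (U.hom.appTop.hom.toIntAlgHom) ζ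
    (Polynomial.cyclotomic n ℤ)
  rw [hζ, map_zero] at this
  exact this

include hn hζ in
theorem zetaU_pow (U : S.Etale) : (zetaU S ζ U) ^ n = 1 :=
  H9FE.CycRoot.pow_eq_one (by omega) (zetaU_root S n ζ hζ U)

theorem zetaU_map {U W : S.Etale} (g : W ⟶ U) :
    g.left.appTop.hom (zetaU S ζ U) = zetaU S ζ W := by
  have h : g.left ≫ U.hom = W.hom := MorphismProperty.Over.w g
  simp only [zetaU]
  rw [← h, Scheme.Hom.comp_appTop]
  rfl

/-- the unit `ζ_U` -/
noncomputable def zetaUnit (U : S.Etale) : (Γ(U.left, ⊤))ˣ :=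
  Units.ofPowEqOne (zetaU S ζ U) n (zetaU_pow S n hn ζ hζ U) (by omega)

/-- the section `ζ_U` of `G_m` -/
noncomputable def gmZ (U : S.Etale) : (EtCoh.Gm S).obj.obj (op U) :=
  ofUnit (zetaUnit S n hn ζ hζ U)

theorem toUnit_nsmul {U : S.Etale} (k : ℕ) (t : (EtCoh.Gm S).obj.obj (op U)) :
    toUnit (k • t) = toUnit t ^ k := rfl

theorem gmZ_torsion (U : S.Etale) : n • gmZ S n hn ζ hζ U = 0 := by
  apply toUnit_injective
  rw [toUnit_nsmul]
  apply Units.ext
  exact zetaU_pow S n hn ζ hζ U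

theorem gmZ_map {U W : S.Etale} (g : W ⟶ U) :
    (EtCoh.Gm S).obj.map g.op (gmZ S n hn ζ hζ U) = gmZ S n hn ζ hζ W := by
  apply toUnit_injective
  apply Units.ext
  rw [map_toUnit]
  exact zetaU_map S ζ g

/-- the constant presheaf with value `ℤ/n` -/
noncomputable abbrev constP : S.Etaleᵒᵖ ⥤ AddCommGrpCat.{u+1} :=
  (Functor.const S.Etaleᵒᵖ).obj (AddCommGrpCat.of (ULift.{u+1} (ZMod n)))

/-- the presheaf map `k ↦ ζ ^ k` to `G_m` -/
noncomputable def psi : constP S n ⟶ (EtCoh.Gm S).obj where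
  app U := AddCommGrpCat.ofHom (liftZ n (gmZ S n hn ζ hζ U.unop) (gmZ_torsion S n hn ζ hζ U.unop))
  naturality U W g := by
    haveI : NeZero n := ⟨by omega⟩
    ext x
    have h := liftZ_comp n (gmZ S n hn ζ hζ U.unop) (gmZ_torsion S n hn ζ hζ U.unop)
      ((EtCoh.Gm S).obj.map g).hom (by
        have := gmZ_map S n hn ζ hζ g.unop
        rw [show g.unop.op = g from rfl] at this
        change n • ((EtCoh.Gm S).obj.map g) (gmZ S n hn ζ hζ U.unop) = 0
        rw [this]
        exact gmZ_torsion S n hn ζ hζ W.unop) x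
    have h2 : ((EtCoh.Gm S).obj.map g).hom (gmZ S n hn ζ hζ U.unop) = gmZ S n hn ζ hζ W.unop :=
      gmZ_map S n hn ζ hζ g.unop
    simp only [h2] at h
    exact h.symm

theorem psi_apply_natCast (U : S.Etale) (k : ℕ) :
    (psi S n hn ζ hζ).app (op U) ⟨(k : ZMod n)⟩ = k • gmZ S n hn ζ hζ U :=
  liftZ_natCast.{u+1, u} n (gmZ S n hn ζ hζ U) (gmZ_torsion S n hn ζ hζ U) k

theorem psi_comp_powMap : psi S n hn ζ hζ ≫ (EtCoh.powMap S n).hom = 0 := by
  haveI : NeZero n := ⟨by omega⟩
  ext U x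
  obtain ⟨k⟩ := x
  rw [← ZMod.natCast_zmod_val k]
  change (EtCoh.powMap S n).hom.app U ((psi S n hn ζ hζ).app U ⟨((k.val : ℕ) : ZMod n)⟩) = 0
  rw [show U = op U.unop from rfl, psi_apply_natCast]
  apply toUnit_injective
  rw [powMap_toUnit, toUnit_nsmul, ← pow_mul, mul_comm, pow_mul]
  have : toUnit (gmZ S n hn ζ hζ U.unop) ^ n = 1 := by
    apply Units.ext
    exact zetaU_pow S n hn ζ hζ U.unop
  rw [this, one_pow]
  rfl

/-- the presheaf-level kernel fork -/
noncomputable def kerFork : KernelFork (EtCoh.powMap S n).hom :=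
  (KernelFork.ofι (kernel.ι (EtCoh.powMap S n)) (kernel.condition _)).map
    (sheafToPresheaf S.smallEtaleTopology AddCommGrpCat.{u+1})

noncomputable def kerForkIsLimit : IsLimit (kerFork S n) :=
  KernelFork.mapIsLimit _ (kernelIsKernel _) (sheafToPresheaf _ _)

theorem kerFork_ι : (kerFork S n).ι = (EtCoh.muι S n).hom := rfl

/-- the comparison map from the constant presheaf to `μ_n` -/
noncomputable def phi : constP S n ⟶ (EtCoh.mu S n).obj :=
  (kerForkIsLimit S n).lift (KernelFork.ofι (psi S n hn ζ hζ) (psi_comp_powMap S n hn ζ hζ))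

theorem phi_ι : phi S n hn ζ hζ ≫ (EtCoh.muι S n).hom = psi S n hn ζ hζ :=
  Fork.IsLimit.lift_ι (kerForkIsLimit S n)

theorem muι_injective (U : S.Etale) :
    Function.Injective ((EtCoh.muι S n).hom.app (op U)) := by
  have h1 : Mono (kerFork S n).ι := mono_of_isLimit_fork (kerForkIsLimit S n)
  rw [kerFork_ι] at h1
  have h2 : Mono ((EtCoh.muι S n).hom.app (op U)) := by
    haveI := h1
    infer_instance
  exact (AddCommGrpCat.mono_iff_injective _).mp h2

theorem muι_pow (U : S.Etale) (s : (EtCoh.mu S n).obj.obj (op U)) :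
    toUnit ((EtCoh.muι S n).hom.app (op U) s) ^ n = 1 := by
  rw [← powMap_toUnit]
  have h : (EtCoh.muι S n).hom ≫ (EtCoh.powMap S n).hom = 0 := (kerFork S n).condition
  have h2 := congrArg (fun f => f.app (op U) s) h
  simp only [NatTrans.comp_app] at h2
  change toUnit ((EtCoh.powMap S n).hom.app (op U) ((EtCoh.muι S n).hom.app (op U) s)) = 1
  have h3 : (EtCoh.powMap S n).hom.app (op U) ((EtCoh.muι S n).hom.app (op U) s) = 0 := h2
  rw [h3]
  rfl

include hn hζ in
theorem isUnit_natCast_U (hunit : IsUnit (n : Γ(S, ⊤))) (U : S.Etale) :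
    IsUnit ((n : ℕ) : Γ(U.left, ⊤)) := by
  have := hunit.map U.hom.appTop.hom
  rwa [map_natCast] at this

theorem phi_locallyInjective (hunit : IsUnit (n : Γ(S, ⊤))) :
    Presheaf.IsLocallyInjective S.smallEtaleTopology (phi S n hn ζ hζ) := by
  haveI : NeZero n := ⟨by omega⟩
  constructor
  intro U x y h
  by_cases hE : IsEmpty U.unop.left
  · refine S.smallEtaleTopology.superset_covering bot_le ?_
    rw [mem_et_iff]
    intro z
    exact (hE.false z).elim
  · rw [not_isEmpty_iff] at hE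
    obtain ⟨z⟩ := hE
    haveI : Nontrivial Γ(U.unop.left, ⊤) :=
      (U.unop.left.presheaf.germ ⊤ z trivial).hom.domain_nontrivial
    have hxy : x = y := by
      have h1 : (psi S n hn ζ hζ).app U x = (psi S n hn ζ hζ).app U y := by
        rw [← phi_ι S n hn ζ hζ]
        exact congrArg ((EtCoh.muι S n).hom.app U) h
      obtain ⟨i⟩ := x
      obtain ⟨j⟩ := y
      rw [← ZMod.natCast_zmod_val i, ← ZMod.natCast_zmod_val j] at h1 ⊢
      rw [show U = op U.unop from rfl, psi_apply_natCast, psi_apply_natCast] at h1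
      have h2 := congrArg (fun t => ((toUnit t : (Γ(U.unop.left, ⊤))ˣ) : Γ(U.unop.left, ⊤))) h1
      simp only [toUnit_nsmul, Units.val_pow_eq_pow_val] at h2
      have h3 : i.val = j.val :=
        H9FE.CycRoot.pow_injective_of_nontrivial (by omega) (zetaU_root S n ζ hζ U.unop)
          (isUnit_natCast_U S n hn ζ hζ hunit U.unop) i.val j.val (ZMod.val_lt i) (ZMod.val_lt j) h2
      rw [h3]
    subst hxy
    rw [Presheaf.equalizerSieve_self_eq_top]
    exact S.smallEtaleTopology.top_mem _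

theorem ι_appTop_eq {X : Scheme.{u}} (W : X.Opens) (i : W ⟶ (⊤ : X.Opens)) (a b : Γ(X, ⊤))
    (h : X.presheaf.map i.op a = X.presheaf.map i.op b) : W.ι.appTop a = W.ι.appTop b := by
  have h1 : W.ι.appTop = X.presheaf.map i.op ≫
      X.presheaf.map (eqToHom (Scheme.Opens.ι_image_top W)).op := by
    rw [← Functor.map_comp, Scheme.Opens.ι_appTop]
    rfl
  rw [h1]
  simp only [CommRingCat.comp_apply]
  rw [h]

theorem phi_locallySurjective (hunit : IsUnit (n : Γ(S, ⊤))) :
    Presheaf.IsLocallySurjective S.smallEtaleTopology (phi S n hn ζ hζ) := by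
  haveI : NeZero n := ⟨by omega⟩
  constructor
  intro U s
  rw [mem_et_iff]
  intro x
  let u : (Γ(U.left, ⊤))ˣ := toUnit ((EtCoh.muι S n).hom.app (op U) s)
  have hu : u ^ n = 1 := muι_pow S n U s
  let g := U.left.presheaf.germ ⊤ x trivial
  have hroot : Polynomial.aeval (g.hom (zetaU S ζ U)) (Polynomial.cyclotomic n ℤ) = 0 := by
    have := Polynomial.aeval_algHom_apply (g.hom.toIntAlgHom) (zetaU S ζ U)
      (Polynomial.cyclotomic n ℤ)
    rw [zetaU_root S n ζ hζ U, map_zero] at this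
    exact this
  have hunitx : IsUnit ((n : ℕ) : U.left.presheaf.stalk x) := by
    have := (isUnit_natCast_U S n hn ζ hζ hunit U).map g.hom
    rwa [map_natCast] at this
  have hux : (g.hom (u : Γ(U.left, ⊤))) ^ n = 1 := by
    rw [← map_pow, ← Units.val_pow_eq_pow_val, hu, Units.val_one, map_one]
  obtain ⟨k, hk, hkeq⟩ := H9FE.CycRoot.exists_eq_pow_of_isLocalRing (by omega) hroot hunitx _ hux
  rw [← map_pow] at hkeq
  obtain ⟨(W : U.left.Opens), hxW, iU, iV, hW⟩ := TopCat.Presheaf.germ_eq U.left.presheaf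
    (U := ⊤) (V := ⊤) x trivial trivial
    (u : Γ(U.left, ⊤)) ((zetaU S ζ U) ^ k) hkeq
  have hii : iU = iV := Subsingleton.elim _ _
  subst hii
  refine ⟨opObj U W, opι U W, ⟨x, hxW⟩, ?_, ?_, rfl⟩
  · refine ⟨⟨(k : ZMod n)⟩, ?_⟩
    apply muι_injective
    have h1 : (EtCoh.muι S n).hom.app (op (opObj U W)) ((phi S n hn ζ hζ).app (op (opObj U W))
        ⟨(k : ZMod n)⟩) = (psi S n hn ζ hζ).app (op (opObj U W)) ⟨(k : ZMod n)⟩ := by
      rw [← phi_ι S n hn ζ hζ]
      rfl
    rw [h1, psi_apply_natCast]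
    have h2 : (EtCoh.muι S n).hom.app (op (opObj U W))
        ((EtCoh.mu S n).obj.map (opι U W).op s) =
        (EtCoh.Gm S).obj.map (opι U W).op ((EtCoh.muι S n).hom.app (op U) s) :=
      NatTrans.naturality_apply (EtCoh.muι S n).hom (opι U W).op s
    rw [h2]
    apply toUnit_injective
    apply Units.ext
    rw [map_toUnit, toUnit_nsmul, Units.val_pow_eq_pow_val]
    change (zetaU S ζ (opObj U W)) ^ k = W.ι.appTop.hom (u : Γ(U.left, ⊤))
    rw [← zetaU_map S ζ (opι U W), ← map_pow]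
    exact (ι_appTop_eq W iU _ _ hW).symm
  · change Etale W.ι
    infer_instance

include hn hζ in
theorem main (hunit : IsUnit (n : Γ(S, ⊤))) :
    Nonempty (EtCoh.mu S n ≅ EtCoh.const S (ZMod n)) := by
  let J := S.smallEtaleTopology
  haveI := phi_locallyInjective S n hn ζ hζ hunit
  haveI := phi_locallySurjective S n hn ζ hζ hunit
  have hW : J.W (phi S n hn ζ hζ) := J.W_of_isLocallyBijective _
  haveI hiso : IsIso ((presheafToSheaf J AddCommGrpCat.{u+1}).map (phi S n hn ζ hζ)) :=
    (J.W_iff _).mp hW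
  let e1 : (presheafToSheaf J AddCommGrpCat.{u+1}).obj (constP S n) ≅
      (presheafToSheaf J AddCommGrpCat.{u+1}).obj ((EtCoh.mu S n).obj) :=
    asIso ((presheafToSheaf J AddCommGrpCat.{u+1}).map (phi S n hn ζ hζ))
  let e2 : (presheafToSheaf J AddCommGrpCat.{u+1}).obj ((EtCoh.mu S n).obj) ≅ EtCoh.mu S n :=
    asIso ((sheafificationAdjunction J AddCommGrpCat.{u+1}).counit.app (EtCoh.mu S n))
  exact ⟨(e1 ≪≫ e2).symm⟩

end

end Aux

/-- Let S be a scheme and n ≥ 1 with n invertible in the ring of global functions Γ(S, O_S). If Γ(S,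
O_S) contains a root ζ of the n-th cyclotomic polynomial, then the sheaf μ_n of n-th roots of unity
on the small étale site of S is isomorphic to the constant sheaf with value Z/n (existence of an
isomorphism only; the published isomorphism is the one sending 1 to ζ). -/
theorem result (S : Scheme.{u}) (n : ℕ) (hn : 1 ≤ n)
    (hunit : IsUnit (n : Γ(S, ⊤))) (ζ : Γ(S, ⊤))
    (hζ : Polynomial.aeval ζ (Polynomial.cyclotomic n ℤ) = 0) :
    Nonempty (EtCoh.mu S n ≅ EtCoh.const S (ZMod n)) := by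
  exact Aux.main S n hn ζ hζ hunit

end Groth.Agent.S13507
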