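import Groth.Statements.S13513
import Mathlib
import Mathlib
import Groth.Agent.Lib.Helper5.Misc.FibTot
import Groth.Agent.Lib.Helper5.Misc.FibRan2

set_option autoImplicit false
universe u
open CategoryTheory CategoryTheory.Limits Opposite Pseudofunctor.CoGrothendieck
open FibSite


namespace Groth.Agent.S13513
open CategoryTheory CategoryTheory.Limits

lemma isIso_proj_of_unique {C : Type*} [Category C] {β : Type*} [Unique β] {f : β → C}
    (c : Fan f) (hc : IsLimit c) : IsIso (c.proj default) := by
  have h := (IsLimit.conePointUniqueUpToIso hc (limitConeOfUnique f).isLimit).isIso_hom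
  have e : (IsLimit.conePointUniqueUpToIso hc (limitConeOfUnique f).isLimit).hom =
      c.proj default := rfl
  rwa [e] at h

end Groth.Agent.S13513

namespace Groth.Agent.S13513

/-- Let `F` be a fibred site over a small category `𝒮` with small fibres (every inverse-image functor is
a morphism of sites) and let `i` be a final object of `𝒮`. Then the left adjoint `α_{i!}` of the
restriction of sheaves of sets from the total site to the fibre over `i` is full and faithful;
equivalently the composite "extend from the fibre over `i`, then restrict back" is isomorphic to the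
identity through the unit of the adjunction. The continuity of the fibre inclusion and the existence
of the left adjoint are carried as instance hypotheses. -/
theorem result {𝒮 : Type u} [SmallCategory 𝒮]
    (F : Pseudofunctor (LocallyDiscrete 𝒮ᵒᵖ) Cat.{u, u}) (J : FibSite.Topologies F)
    (hF : FibSite.IsFibSite F J) (i : 𝒮) (hi : IsTerminal i)
    [(ι F i).IsContinuous (J i) (FibSite.totalTopology F J)]
    [((ι F i).sheafPushforwardContinuous (Type u) (J i) (FibSite.totalTopology F J)).IsRightAdjoint] :
    (FibSite.extend F J (Type u) i).Full ∧ (FibSite.extend F J (Type u) i).Faithful := by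
  classical
  have hpre := hF.isPreFibSite
  haveI := Groth.Agent.Lib.Helper5.FibTot.isCocontinuous_ι J hpre i
  haveI : ∀ S : 𝒮, (ι F S).IsContinuous (J S) (FibSite.totalTopology F J) := fun S =>
    Groth.Agent.Lib.Helper5.FibTot.isContinuous_ι J hpre S
  haveI : ∀ (R S : 𝒮) (f : R ⟶ S), (FibSite.invImage F f).IsContinuous (J S) (J R) :=
    fun R S f => hpre f
  letI : Unique (i ⟶ i) := ⟨⟨𝟙 i⟩, fun f => hi.hom_ext f _⟩
  have hiso : ∀ a, IsIso ((Groth.Agent.Lib.Helper5.FibRan.πNat F J i i (𝟙 i)).app a) := fun a => by
    have hl := Groth.Agent.Lib.Helper5.FibRan.isLimitFan F J i i a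
    exact isIso_proj_of_unique _ hl
  haveI : IsIso (Groth.Agent.Lib.Helper5.FibRan.πNat F J i i (𝟙 i)) := NatIso.isIso_of_isIso_app _
  let e₁ := asIso (Groth.Agent.Lib.Helper5.FibRan.πNat F J i i (𝟙 i))
  let e₂ : (FibSite.invImage F (𝟙 i)).sheafPushforwardContinuous (Type u) (J i) (J i) ≅ 𝟭 _ :=
    Functor.sheafPushforwardContinuousId' (F'' := FibSite.invImage F (𝟙 i))
      (Cat.Hom.toNatIso (F.mapId ⟨op i⟩)) (Type u) (J i)
  let adj₂ := Functor.sheafAdjunctionCocontinuous (ι F i) (Type u) (J i) (FibSite.totalTopology F J)
  have ffH : (FibSite.coextend F J (Type u) i).FullyFaithful :=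
    adj₂.fullyFaithfulROfCompIsoId (e₁ ≪≫ e₂)
  let t : Adjunction.Triple (FibSite.extend F J (Type u) i) (FibSite.restr F J (Type u) i)
      (FibSite.coextend F J (Type u) i) :=
    ⟨Functor.sheafAdjunctionContinuous (ι F i) (Type u) (J i) (FibSite.totalTopology F J), adj₂⟩
  have ffF := t.fullyFaithfulEquiv.symm ffH
  exact ⟨ffF.full, ffF.faithful⟩

end Groth.Agent.S13513
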