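import Groth.Statements.S13514
import Mathlib
import Mathlib
import Groth.Agent.Lib.Helper5.Misc.FibTot
import Groth.Agent.Lib.Helper5.Misc.FibRan2
import Groth.Agent.Lib.Helper5.Misc.ConjCofan

set_option autoImplicit false
universe u
open CategoryTheory CategoryTheory.Limits Opposite Pseudofunctor.CoGrothendieck
open FibSite


namespace Groth.Agent.S13514
open CategoryTheory CategoryTheory.Limits

lemma isIso_inj_of_unique {C : Type*} [Category C] {β : Type*} [Unique β] {f : β → C}
    (c : Cofan f) (hc : IsColimit c) : IsIso (c.inj default) := by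
  have h := (IsColimit.coconePointUniqueUpToIso (colimitCoconeOfUnique f).isColimit hc).isIso_hom
  have e : (IsColimit.coconePointUniqueUpToIso (colimitCoconeOfUnique f).isColimit hc).hom =
      c.inj default := rfl
  rwa [e] at h

end Groth.Agent.S13514

namespace Groth.Agent.S13514

/-- Let `F` be a fibred site over a small category `𝒮` with small fibres (every inverse-image functor is
a morphism of sites) and let `i` be a final object of `𝒮`. Then the left adjoint `α_{i!}` of the
restriction of sheaves of sets from the total site to the fibre over `i` is left exact (it preserves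
finite limits), so that the pair (`α_{i!}`, restriction) is a morphism of topoi from the total topos
to the topos of the fibre. The continuity of the fibre inclusion and the existence of the left
adjoint are carried as instance hypotheses. -/
theorem result {𝒮 : Type u} [SmallCategory 𝒮]
    (F : Pseudofunctor (LocallyDiscrete 𝒮ᵒᵖ) Cat.{u, u}) (J : FibSite.Topologies F)
    (hF : FibSite.IsFibSite F J) (i : 𝒮) (hi : IsTerminal i)
    [(ι F i).IsContinuous (J i) (FibSite.totalTopology F J)]
    [((ι F i).sheafPushforwardContinuous (Type u) (J i) (FibSite.totalTopology F J)).IsRightAdjoint] :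
    PreservesFiniteLimits (FibSite.extend F J (Type u) i) := by
  classical
  have hpre := hF.isPreFibSite
  haveI : ∀ S : 𝒮, (ι F S).IsContinuous (J S) (FibSite.totalTopology F J) := fun S =>
    Groth.Agent.Lib.Helper5.FibTot.isContinuous_ι J hpre S
  haveI : ∀ (R S : 𝒮) (f : R ⟶ S), (FibSite.invImage F f).IsContinuous (J S) (J R) :=
    fun R S f => hpre f
  haveI : ∀ (R S : 𝒮) (f : R ⟶ S),
      ((FibSite.invImage F f).sheafPushforwardContinuous (Type u) (J S) (J R)).IsRightAdjoint :=
    fun R S f => (hF f).2.1
  have key : ∀ j : 𝒮, PreservesFiniteLimits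
      (FibSite.extend F J (Type u) i ⋙ FibSite.restr F J (Type u) j) := fun j => by
    haveI := Groth.Agent.Lib.Helper5.FibTot.isCocontinuous_ι J hpre j
    letI : Unique (j ⟶ i) := ⟨⟨hi.from j⟩, fun f => hi.hom_ext f _⟩
    let adj := (Functor.sheafAdjunctionContinuous (ι F i) (Type u) (J i)
      (FibSite.totalTopology F J)).comp
      (Functor.sheafAdjunctionCocontinuous (ι F j) (Type u) (J j) (FibSite.totalTopology F J))
    let adjf : ∀ f : j ⟶ i, (FibSite.invImage F f).sheafPullback (Type u) (J i) (J j) ⊣
        (FibSite.invImage F f).sheafPushforwardContinuous (Type u) (J i) (J j) := fun f =>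
      Functor.sheafAdjunctionContinuous (FibSite.invImage F f) (Type u) (J i) (J j)
    let π := fun f : j ⟶ i => Groth.Agent.Lib.Helper5.FibRan.πNat F J j i f
    have hiso : ∀ a, IsIso ((Groth.Agent.Lib.Helper5.ConjCofan.inj adj adjf π (hi.from j)).app a) :=
      fun a => isIso_inj_of_unique _ (Groth.Agent.Lib.Helper5.ConjCofan.isColimitCofan adj adjf π
        (fun b => Groth.Agent.Lib.Helper5.FibRan.isLimitFan F J j i b) a)
    haveI : IsIso (Groth.Agent.Lib.Helper5.ConjCofan.inj adj adjf π (hi.from j)) :=
      NatIso.isIso_of_isIso_app _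
    haveI : PreservesFiniteLimits
        ((FibSite.invImage F (hi.from j)).sheafPullback (Type u) (J i) (J j)) :=
      (hF (hi.from j)).2.2
    exact preservesFiniteLimits_of_natIso
      (asIso (Groth.Agent.Lib.Helper5.ConjCofan.inj adj adjf π (hi.from j)))
  refine ⟨fun K _ _ => ⟨fun {D} => ⟨fun {c} hc => ⟨?_⟩⟩⟩⟩
  apply isLimitOfReflects (sheafToPresheaf (FibSite.totalTopology F J) (Type u))
  apply evaluationJointlyReflectsLimits
  intro X
  obtain ⟨⟨j, W⟩⟩ := X
  have hp : PreservesLimit D
      (FibSite.extend F J (Type u) i ⋙ FibSite.restr F J (Type u) j) :=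
    ((key j).preservesFiniteLimits K).preservesLimit
  have h1 : IsLimit ((FibSite.extend F J (Type u) i ⋙ FibSite.restr F J (Type u) j).mapCone c) :=
    (hp.preserves hc).some
  have h2 := isLimitOfPreserves (sheafToPresheaf (J j) (Type u) ⋙ (evaluation _ _).obj (op W)) h1
  exact h2

end Groth.Agent.S13514
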