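import Groth.Statements.S13516
import Mathlib
import Groth.Prelude.Def_FibSite
import Groth.Agent.Lib.Helper5.Misc.FibMap2
import Groth.Agent.Lib.Helper9.FE.FibConv1
import Groth.Agent.Lib.Helper9.FE.FibConv3
-- import your own Groth.Agent.* helpers here

set_option autoImplicit false
universe u
open CategoryTheory CategoryTheory.Limits Opposite Pseudofunctor.CoGrothendieck
open scoped CategoryTheory.Pseudofunctor.StrongTrans
open FibSite

namespace Groth.Agent.S13516

open CategoryTheory CategoryTheory.Limits Opposite Pseudofunctor.CoGrothendieck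
open scoped CategoryTheory.Pseudofunctor.StrongTrans
open FibSite
namespace Aux
set_option linter.style.haveILetI false
set_option linter.unusedSectionVars false

open Groth.Agent.Lib.Helper5.FibTot

theorem main {𝒮 : Type u} [SmallCategory 𝒮]
    (F G : Pseudofunctor (LocallyDiscrete 𝒮ᵒᵖ) Cat.{u, u}) (J : FibSite.Topologies F) (K : FibSite.Topologies G)
    (hF : FibSite.IsFibSite F J) (hG : FibSite.IsFibSite G K) (α : G ⟶ F)
    (hα : ∃ (_ : (Pseudofunctor.CoGrothendieck.map α).IsContinuous
        (FibSite.totalTopology G K) (FibSite.totalTopology F J))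
      (_ : ((Pseudofunctor.CoGrothendieck.map α).sheafPushforwardContinuous (Type u)
        (FibSite.totalTopology G K) (FibSite.totalTopology F J)).IsRightAdjoint),
      PreservesFiniteLimits ((Pseudofunctor.CoGrothendieck.map α).sheafPullback (Type u)
        (FibSite.totalTopology G K) (FibSite.totalTopology F J))) (S : 𝒮) :
    ∃ (_ : (α.app ⟨op S⟩).toFunctor.IsContinuous (K S) (J S))
      (_ : ((α.app ⟨op S⟩).toFunctor.sheafPushforwardContinuous (Type u) (K S) (J S)).IsRightAdjoint),
      PreservesFiniteLimits ((α.app ⟨op S⟩).toFunctor.sheafPullback (Type u) (K S) (J S)) := by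
  have hpF := hF.isPreFibSite
  have hpG := hG.isPreFibSite
  obtain ⟨hc, hr, hex⟩ := hα
  haveI := hc
  haveI := hex
  haveI : ∀ T : 𝒮, (ι F T).IsContinuous (J T) (FibSite.totalTopology F J) := fun T =>
    isContinuous_ι J hpF T
  haveI : ∀ T : 𝒮, (ι G T).IsContinuous (K T) (FibSite.totalTopology G K) := fun T =>
    isContinuous_ι K hpG T
  haveI : (ι F S).IsCocontinuous (J S) (FibSite.totalTopology F J) := isCocontinuous_ι J hpF S
  haveI : (ι G S).IsCocontinuous (K S) (FibSite.totalTopology G K) := isCocontinuous_ι K hpG S
  haveI : ∀ (R T : 𝒮) (f : R ⟶ T), (FibSite.invImage F f).IsContinuous (J T) (J R) :=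
    fun R T f => hpF f
  haveI : ∀ (R T : 𝒮) (f : R ⟶ T), (FibSite.invImage G f).IsContinuous (K T) (K R) :=
    fun R T f => hpG f
  haveI hcS : (α.app ⟨op S⟩).toFunctor.IsContinuous (K S) (J S) :=
    H9FE.FibConv.isContinuous_fibre F J S α K
  have hrS : ((α.app ⟨op S⟩).toFunctor.sheafPushforwardContinuous (Type u) (K S)
      (J S)).IsRightAdjoint := inferInstance
  exact ⟨hcS, hrS, H9FE.FibConv3.preservesFiniteLimits_fibre α J K S⟩

end Aux

/-- Let `F` and `G` be fibred sites over a small category `𝒮` with small fibres and let `α : G ⟶ F` be a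
strong transformation of pseudofunctors, i.e. a cartesian functor `∫ᶜ G ⥤ ∫ᶜ F` over `𝒮`. If the
induced functor between the total categories is a morphism of sites from the total site of `F` to
the total site of `G` (continuous, with left exact inverse image on sheaves of sets), then `α` is a
morphism of fibred sites: for every `S` the fibre functor `α_S : G(S) ⥤ F(S)` is a morphism of sites
from `(F(S), J S)` to `(G(S), K S)`. (The published statement is for an arbitrary functor over `𝒮`
between the total categories; this row takes a cartesian one.) -/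
theorem result {𝒮 : Type u} [SmallCategory 𝒮]
    (F G : Pseudofunctor (LocallyDiscrete 𝒮ᵒᵖ) Cat.{u, u}) (J : FibSite.Topologies F) (K : FibSite.Topologies G)
    (hF : FibSite.IsFibSite F J) (hG : FibSite.IsFibSite G K) (α : G ⟶ F)
    (hα : ∃ (_ : (Pseudofunctor.CoGrothendieck.map α).IsContinuous
        (FibSite.totalTopology G K) (FibSite.totalTopology F J))
      (_ : ((Pseudofunctor.CoGrothendieck.map α).sheafPushforwardContinuous (Type u)
        (FibSite.totalTopology G K) (FibSite.totalTopology F J)).IsRightAdjoint),
      PreservesFiniteLimits ((Pseudofunctor.CoGrothendieck.map α).sheafPullback (Type u)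
        (FibSite.totalTopology G K) (FibSite.totalTopology F J))) (S : 𝒮) :
    ∃ (_ : (α.app ⟨op S⟩).toFunctor.IsContinuous (K S) (J S))
      (_ : ((α.app ⟨op S⟩).toFunctor.sheafPushforwardContinuous (Type u) (K S) (J S)).IsRightAdjoint),
      PreservesFiniteLimits ((α.app ⟨op S⟩).toFunctor.sheafPullback (Type u) (K S) (J S)) := by
  exact Aux.main F G J K hF hG α hα S

end Groth.Agent.S13516
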