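import Groth.Statements.S1353
import Groth.Agent.Lib.Helper6.EtLoc.QFPoint

set_option autoImplicit false
universe u
open FlatMor

namespace Groth.Agent.S1353

open AlgebraicGeometry CategoryTheory Limits in
/-- Let f be locally of finite type and quasi-finite at a point x with image s. Then there are an
elementary étale neighbourhood (U, u) of (S, s) and an open V of the base change of X to U such that
V is finite over U, V has exactly one point v over u, and v maps to x inducing a bijection of
residue fields. (The source's further assertion that these properties persist after refining the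
étale neighbourhood is not stated.) -/
theorem result {X S : Scheme.{u}} (f : X ⟶ S) [LocallyOfFiniteType f] (x : X) (hx : f.QuasiFiniteAt x) :
    ∃ (U : Scheme.{u}) (g : U ⟶ S) (u : U), Hens2.IsEtaleNbhd g u (f x) ∧
      ∃ (V : (pullback f g).Opens) (v : ↑(pullback f g)), v ∈ V ∧ IsFinite (V.ι ≫ pullback.snd f g) ∧
        pullback.snd f g v = u ∧ (∀ w : ↑(pullback f g), w ∈ V → pullback.snd f g w = u → w = v) ∧
        pullback.fst f g v = x ∧ Function.Bijective ((pullback.fst f g).residueFieldMap v) := by
  obtain ⟨U, g, u, hg, hgu, hres, K, hK, V, h1, h2, h3, h4⟩ :=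
    Groth.Agent.Lib.Helper6.EtLoc.qf_point f x hx
  obtain ⟨v, hv1, hv2⟩ := Scheme.Pullback.exists_preimage_pullback (f := f) (g := g) x u hgu.symm
  obtain ⟨k, hk⟩ := h4 v hv2 hv1
  have hresv : Function.Surjective (g.residueFieldMap (pullback.snd f g v)) :=
    (Groth.Agent.Lib.Helper6.EtLoc.surjective_residueFieldMap_congr g hv2).mpr hres
  refine ⟨U, g, u, ⟨hg, hgu, ⟨(g.residueFieldMap u).hom.injective, hres⟩⟩, V k, v, hk, (h1 k).1,
    hv2, ?_, hv1, ⟨((pullback.fst f g).residueFieldMap v).hom.injective, ?_⟩⟩
  · intro w hw hwu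
    exact Groth.Agent.Lib.Helper6.EtLoc.eq_of_fst_eq_snd_eq w v
      (by rw [h2 k w hw hwu, hv1]) (by rw [hwu, hv2]) hresv
  · exact Groth.Agent.Lib.Helper6.EtLoc.surjective_fst_residueFieldMap v hresv

end Groth.Agent.S1353
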