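import Groth.Statements.S13533
import Mathlib
import Groth.Agent.Lib.Helper9.BasicElt.LocQuot
-- import your own Groth.Agent.* helpers here

set_option autoImplicit false
universe u
open ResProp

namespace Groth.Agent.S13533

namespace Aux
open Groth.Agent.Helper9.BasicElt Module

variable {A : Type u} [CommRing A] [IsNoetherianRing A]

theorem LocFreeAt.of_equiv (𝔭 : PrimeSpectrum A) (r : ℕ) {M₁ M₂ : Type u} [AddCommGroup M₁]
    [Module A M₁] [AddCommGroup M₂] [Module A M₂] (e : M₁ ≃ₗ[A] M₂) (h : LocFreeAt 𝔭 M₁ r) :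
    LocFreeAt 𝔭 M₂ r := by
  obtain ⟨ψ⟩ := h
  set S := 𝔭.asIdeal.primeCompl with hS
  let ε : LocalizedModule S M₁ ≃ₗ[A] LocalizedModule S M₂ :=
    IsLocalizedModule.linearEquiv S (LocalizedModule.mkLinearMap S M₁)
      ((LocalizedModule.mkLinearMap S M₂) ∘ₗ e.toLinearMap)
  exact ⟨(ε.extendScalarsOfIsLocalization S (Localization.AtPrime 𝔭.asIdeal)).symm.trans ψ⟩

theorem eq_zero_of_smul_eq_zero {M : Type u} [AddCommGroup M] [Module A M] (k : ℕ)
    (hAss : ∀ p ∈ associatedPrimes A A, p.height ≤ k) (s : M)
    (hs : ∀ 𝔭 ∈ htX A k, ∃ φ : Module.Dual A M, φ s ∉ 𝔭.asIdeal) (a : A) (ha : a • s = 0) :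
    a = 0 := by
  by_contra hne
  obtain ⟨P, hP, hle⟩ := exists_le_isAssociatedPrime_of_isNoetherianRing A a hne
  have hP' : P ∈ associatedPrimes A A := hP
  have : P.IsPrime := hP.isPrime
  obtain ⟨φ, hφ⟩ := hs ⟨P, this⟩ (hAss P hP')
  apply hφ
  apply hle
  rw [Submodule.mem_colon_singleton, Submodule.mem_bot, smul_eq_mul, mul_comm, ← smul_eq_mul,
    ← map_smul, ha, map_zero]

theorem exists_free_submodule (k : ℕ) (hAss : ∀ p ∈ associatedPrimes A A, p.height ≤ k) :
    ∀ (j : ℕ) (M : Type u) [AddCommGroup M] [Module A M] [Module.Finite A M],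
      (∀ 𝔭 ∈ htX A k, LocFreeAt 𝔭 M (k + j)) →
      ∃ N : Submodule A M, Nonempty (N ≃ₗ[A] (Fin j → A)) ∧
        ∀ 𝔭 ∈ htX A k, LocFreeAt 𝔭 (M ⧸ N) k := by
  intro j
  induction j with
  | zero =>
    intro M _ _ _ h
    refine ⟨⊥, ⟨LinearEquiv.ofSubsingleton _ _⟩, fun 𝔭 h𝔭 => ?_⟩
    exact LocFreeAt.of_equiv 𝔭 k (Submodule.quotEquivOfEqBot ⊥ rfl).symm (h 𝔭 h𝔭)
  | succ j ih =>
    intro M _ _ _ h
    obtain ⟨s, hs⟩ := exists_basic_of_locFree k (k + (j + 1)) (by omega) h
    set S₀ : Submodule A M := Submodule.span A {s} with hS₀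
    have h' : ∀ 𝔭 ∈ htX A k, LocFreeAt 𝔭 (M ⧸ S₀) (k + j) := by
      intro 𝔭 h𝔭
      obtain ⟨φ, hφ⟩ := hs 𝔭 h𝔭
      have := locFreeAt_quotient 𝔭 (k + (j + 1)) (h 𝔭 h𝔭) s φ hφ
      have e : k + (j + 1) - 1 = k + j := by omega
      rwa [e] at this
    obtain ⟨N', ⟨eN'⟩, hN'⟩ := ih (M ⧸ S₀) h'
    set N : Submodule A M := N'.comap S₀.mkQ with hN
    have hSN : S₀ ≤ N := by
      intro x hx
      show S₀.mkQ x ∈ N'
      rw [Submodule.mkQ_apply, (Submodule.Quotient.mk_eq_zero S₀).mpr hx]
      exact N'.zero_mem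
    have hmap : N.map S₀.mkQ = N' :=
      Submodule.map_comap_eq_of_surjective (Submodule.mkQ_surjective S₀) N'
    refine ⟨N, ?_, fun 𝔭 h𝔭 => ?_⟩
    · -- N is free of rank j + 1
      let q : N →ₗ[A] N' := S₀.mkQ.restrict (p := N) (q := N') (fun x hx => hx)
      have hq : Function.Surjective q := by
        rintro ⟨y, hy⟩
        obtain ⟨x, rfl⟩ := Submodule.mkQ_surjective S₀ y
        exact ⟨⟨x, hy⟩, rfl⟩
      haveI : Module.Free A N' := Module.Free.of_equiv eN'.symm
      obtain ⟨σ, hσ⟩ := Module.projective_lifting_property q LinearMap.id hq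
      let e1 : N ≃ₗ[A] (LinearMap.ker q × N') := retractEquiv σ q hσ
      -- the kernel is free of rank one
      let ι : A →ₗ[A] LinearMap.ker q :=
        { toFun := fun a => ⟨⟨a • s, hSN (Submodule.smul_mem _ _ (Submodule.mem_span_singleton_self s))⟩, by
            rw [LinearMap.mem_ker]
            apply Subtype.ext
            show S₀.mkQ (a • s) = 0
            rw [Submodule.mkQ_apply, Submodule.Quotient.mk_eq_zero]
            exact Submodule.smul_mem _ _ (Submodule.mem_span_singleton_self s)⟩
          map_add' := fun a b => by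
            apply Subtype.ext; apply Subtype.ext
            show (a + b) • s = a • s + b • s
            rw [add_smul]
          map_smul' := fun c a => by
            apply Subtype.ext; apply Subtype.ext
            show (c • a) • s = c • (a • s)
            rw [smul_assoc] }
      have hι : Function.Bijective ι := by
        constructor
        · rw [injective_iff_map_eq_zero]
          intro a ha
          have h1 : a • s = 0 := congrArg (fun z : LinearMap.ker q => ((z : N) : M)) ha
          exact eq_zero_of_smul_eq_zero k hAss s hs a h1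
        · rintro ⟨⟨x, hxN⟩, hx⟩
          rw [LinearMap.mem_ker] at hx
          have h1 : S₀.mkQ x = 0 := congrArg (fun z : N' => (z : M ⧸ S₀)) hx
          rw [Submodule.mkQ_apply, Submodule.Quotient.mk_eq_zero, hS₀,
            Submodule.mem_span_singleton] at h1
          obtain ⟨a, rfl⟩ := h1
          exact ⟨a, rfl⟩
      let e2 : A ≃ₗ[A] LinearMap.ker q := LinearEquiv.ofBijective ι hι
      exact ⟨e1.trans ((LinearEquiv.prodCongr e2.symm eN').trans
        (Fin.consLinearEquiv A (fun _ : Fin (j + 1) => A)))⟩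
    · have e3 : ((M ⧸ S₀) ⧸ N') ≃ₗ[A] (M ⧸ N) :=
        (Submodule.quotEquivOfEq _ _ hmap.symm).trans
          (Submodule.quotientQuotientEquivQuotient S₀ N hSN)
      exact LocFreeAt.of_equiv 𝔭 k e3 (hN' 𝔭 h𝔭)

theorem main (A : Type u) [CommRing A] [IsNoetherianRing A]
    (M : Type u) [AddCommGroup M] [Module A M] [Module.Finite A M] (k r : ℕ) (hkr : k ≤ r)
    (hAss : ∀ p ∈ associatedPrimes A A, p.height ≤ k)
    (hM : ∀ p : PrimeSpectrum A, p.asIdeal.height ≤ k →
      Nonempty (LocalizedModule p.asIdeal.primeCompl M ≃ₗ[Localization.AtPrime p.asIdeal]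
        (Fin r → Localization.AtPrime p.asIdeal))) :
    ∃ N : Submodule A M, Nonempty (N ≃ₗ[A] (Fin (r - k) → A)) ∧
      ∀ p : PrimeSpectrum A, p.asIdeal.height ≤ k →
        Nonempty (LocalizedModule p.asIdeal.primeCompl (M ⧸ N) ≃ₗ[Localization.AtPrime p.asIdeal]
          (Fin k → Localization.AtPrime p.asIdeal)) := by
  have e : k + (r - k) = r := by omega
  exact exists_free_submodule k hAss (r - k) M (fun 𝔭 h𝔭 => by rw [e]; exact hM 𝔭 h𝔭)

end Aux

/-- Let k ≤ r, let A be a Noetherian ring none of whose associated primes has height greater than k, and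
let M be a finitely generated A-module which is free of rank r at every prime of height at most k.
Then M has a free submodule N of rank r - k such that M/N is free of rank k at every prime of height
at most k. Freeness of a given rank is expressed by linear isomorphisms with coordinate modules.
(The published statement has no hypothesis on the associated primes of A; for A = ℤ[X]/(X², 2X), M =
A/(X), k = 0 and r = 1 every other hypothesis holds while X annihilates M, so M contains no free
submodule of rank 1. The printed argument produces an element of M that is part of a basis at every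
prime of height at most k; the submodule it generates is free exactly when its annihilator vanishes
at the associated primes of A, which the added hypothesis guarantees.) -/
theorem result (A : Type u) [CommRing A] [IsNoetherianRing A]
    (M : Type u) [AddCommGroup M] [Module A M] [Module.Finite A M] (k r : ℕ) (hkr : k ≤ r)
    (hAss : ∀ p ∈ associatedPrimes A A, p.height ≤ k)
    (hM : ∀ p : PrimeSpectrum A, p.asIdeal.height ≤ k →
      Nonempty (LocalizedModule p.asIdeal.primeCompl M ≃ₗ[Localization.AtPrime p.asIdeal]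
        (Fin r → Localization.AtPrime p.asIdeal))) :
    ∃ N : Submodule A M, Nonempty (N ≃ₗ[A] (Fin (r - k) → A)) ∧
      ∀ p : PrimeSpectrum A, p.asIdeal.height ≤ k →
        Nonempty (LocalizedModule p.asIdeal.primeCompl (M ⧸ N) ≃ₗ[Localization.AtPrime p.asIdeal]
          (Fin k → Localization.AtPrime p.asIdeal)) := by
  exact Aux.main A M k r hkr hAss hM

end Groth.Agent.S13533
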