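import Groth.Statements.S13535
import Mathlib
import Groth.Agent.Lib.Helper1.FinPush
import Groth.Agent.Lib.Helper4.HHFin1
import Groth.Agent.Lib.Helper4.LinBridge1
import Groth.Agent.Lib.Helper5.FBC.PiAff
import Groth.Agent.Lib.Lead.TilT5
import Groth.Agent.Lib.Lead.PBQc

set_option autoImplicit false
universe u
open CategoryTheory CategoryTheory.Limits AlgebraicGeometry
open ResProp



namespace Groth.Agent.S13535

/-- Let X and Y be proper over a Noetherian ring A and let f : Y ⟶ X be a finite A-morphism. If a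
sequence (E_n) of coherent modules on X is cohomologically d-ample (d a positive integer), meaning
that for every coherent F the groups H^i(X, F ⊗ E_n) vanish for all i ≥ d + 1 and all large n, then
so is the sequence of pullbacks (f^*E_n) on Y. -/
theorem result (A : Type u) [CommRing A] [IsNoetherianRing A]
    {X Y : Scheme.{u}} (pX : X ⟶ Spec (CommRingCat.of A)) (pY : Y ⟶ Spec (CommRingCat.of A))
    [IsProper pX] [IsProper pY] (f : Y ⟶ X) (hf : f ≫ pX = pY) [IsFinite f]
    (d : ℕ) (hd : 0 < d) (E : ℕ → X.Modules) (hE : ∀ n, Coh.IsCoh (E n))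
    (hamp : ∀ F : X.Modules, Coh.IsCoh F → ∃ n₀ : ℕ, ∀ n : ℕ, n₀ ≤ n → ∀ i : ℕ, d + 1 ≤ i →
        Subsingleton (Coh.HH X (CohB1.tensorMod F (E n)) i)) :
    ∀ F : Y.Modules, Coh.IsCoh F → ∃ n₀ : ℕ, ∀ n : ℕ, n₀ ≤ n → ∀ i : ℕ, d + 1 ≤ i →
        Subsingleton (Coh.HH Y (CohB1.tensorMod F ((Scheme.Modules.pullback f).obj (E n))) i) := by
  intro F hF
  letI : X.Over (Spec (CommRingCat.of A)) := ⟨pX⟩
  letI : Y.Over (Spec (CommRingCat.of A)) := ⟨pY⟩
  have hpF : Coh.IsCoh ((Scheme.Modules.pushforward f).obj F) :=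
    Groth.Agent.Helper1.FinPush.isCoh_pushforward f F hF
  obtain ⟨n₀, hn₀⟩ := hamp _ hpF
  refine ⟨n₀, fun n hn i hi => ?_⟩
  have h1 := hn₀ n hn i hi
  haveI : F.IsQuasicoherent := hF.1
  haveI : (E n).IsQuasicoherent := (hE n).1
  have hpi := Groth.Agent.Lib.Helper5.FBC.isIso_piMap_of_isAffineHom f F (E n)
  let G : Y.Modules := CohB1.tensorMod F ((Scheme.Modules.pullback f).obj (E n))
  let e : CohB1.tensorMod ((Scheme.Modules.pushforward f).obj F) (E n) ≅
      (Scheme.Modules.pushforward f).obj G :=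
    @asIso _ _ _ _ (Groth.Agent.Lib.Helper5.ProjF.piMap f F (E n)) hpi
  haveI h2 : Subsingleton (Coh.HH X ((Scheme.Modules.pushforward f).obj G) i) :=
    (Groth.Agent.Lib.Helper4.HHFin1.HHequiv A e i).symm.toEquiv.subsingleton
  haveI : ((Scheme.Modules.pullback f).obj (E n)).IsQuasicoherent :=
    Groth.Agent.Lead.PB.isQuasicoherent_pullback f (E n)
  haveI : Coh.IsQCoh G := Groth.Agent.Lead.TilT.isQuasicoherent_tensorMod _ _
  exact (Groth.Agent.Lib.Helper4.LinBridge1.lerayEquiv f G A hf i).symm.toEquiv.subsingleton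

end Groth.Agent.S13535
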