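import Groth.Statements.S13546
import Mathlib
import Groth.Agent.Lib.Helper5.BC.FMEquiv

set_option autoImplicit false
universe u
open CategoryTheory AlgebraicGeometry
attribute [local instance] HasDerivedCategory.standard
open DEquiv



namespace Groth.Agent.S13546

/-- Let X → S and Y → S be smooth proper morphisms and let K, a complex of modules on X ×_S Y, be a
Fourier–Mukai kernel giving a relative equivalence over S from X to Y. The derived functors involved
are assumed to exist (instance binders), and the Fourier–Mukai functor Φ_K = Rpr_{2,*}(Lpr_1^*(−)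
⊗^L K) is assumed to send objects with quasi-coherent cohomology sheaves to such objects (hypothesis
h). Then Φ_K : D_QCoh(O_X) ⥤ D_QCoh(O_Y) is an equivalence of categories. -/
theorem result {S X Y : Scheme.{u}} (a : X ⟶ S) (b : Y ⟶ S)
    [Smooth a] [IsProper a] [Smooth b] [IsProper b]
    (K : CochainComplex (Limits.pullback a b).Modules ℤ)
    [DCoh.HasLpull (Limits.pullback.fst a b)] [DCoh.HasLTensorCx K] [DCoh.HasRpush (Limits.pullback.snd a b)]
    [DCoh.HasLpull (FMK.p12 a b a)] [DCoh.HasRpush (FMK.p13 a b a)]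
    [∀ L : CochainComplex (FMK.T a b a).Modules ℤ, DCoh.HasLTensorCx L]
    [DCoh.HasLpull (FMK.p12 b a b)] [DCoh.HasRpush (FMK.p13 b a b)]
    [∀ L : CochainComplex (FMK.T b a b).Modules ℤ, DCoh.HasLTensorCx L]
    (hK : FMK.IsRelEquivKernel a b K)
    (h : ∀ M : DCoh.D X, DCoh.IsQCohD M → DCoh.IsQCohD ((FMK.phi a b K).obj M)) :
    (FMK.phiOn a b K DCoh.IsQCohD DCoh.IsQCohD h).IsEquivalence := by
  obtain ⟨hKp, K', hK'p, hd₁, hd₂⟩ := hK
  haveI : Flat a := inferInstance
  haveI : Flat b := inferInstance
  haveI : IsSeparated a := inferInstance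
  haveI : IsSeparated b := inferInstance
  haveI : QuasiCompact a := inferInstance
  haveI : QuasiCompact b := inferInstance
  haveI : QuasiSeparated a := inferInstance
  haveI : QuasiSeparated b := inferInstance
  haveI : DCoh.HasLTensorCx K' := Groth.Agent.Lib.Helper5.LTenAll.hasLTensorCx K'
  exact Groth.Agent.Lib.Helper5.BC.isEquivalence_phiOn a b K
    (Groth.Agent.Lib.Helper5.CountHom.isQCohD_of_isPerfect _ hKp) K'
    (Groth.Agent.Lib.Helper5.CountHom.isQCohD_of_isPerfect _ hK'p) hd₁ hd₂ h

end Groth.Agent.S13546
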