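import Groth.Statements.S9738
import Groth.Agent.Lib.Helper6.FlatThick.Sch

set_option autoImplicit false
universe u
open FlatMor

namespace Groth.Agent.S9738

open AlgebraicGeometry CategoryTheory Limits in
/-- For a morphism f : X ⟶ S between locally Noetherian schemes, an ideal sheaf I on S with closed
subscheme Z, and Z_n the closed subscheme cut out by I^(n+1): if each base change X ×_S Z_n ⟶ Z_n is
flat, then f is flat at each point of X lying over Z. -/
theorem result {X S : Scheme.{u}} (f : X ⟶ S) [IsLocallyNoetherian X] [IsLocallyNoetherian S]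
    (I : S.IdealSheafData) (h : ∀ n : ℕ, Flat (pullback.snd f (I ^ (n + 1)).subschemeι)) (x : X) (hx : f x ∈ I.support) :
    (f.stalkMap x).hom.Flat := by
  classical
  obtain ⟨_, ⟨U, hU, rfl⟩, hxU, -⟩ :=
    S.isBasis_affineOpens.exists_subset_of_mem_open (Set.mem_univ (f x)) isOpen_univ
  obtain ⟨_, ⟨V, hV, rfl⟩, hxV, hVU'⟩ :=
    X.isBasis_affineOpens.exists_subset_of_mem_open
      (show x ∈ (f ⁻¹ᵁ U : Set X) from hxU) (U.2.preimage f.continuous)
  have hVU : V ≤ f ⁻¹ᵁ U := fun y hy => hVU' hy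
  have hnA : IsNoetherianRing Γ(S, U) := IsLocallyNoetherian.component_noetherian ⟨U, hU⟩
  have hnB : IsNoetherianRing Γ(X, V) := IsLocallyNoetherian.component_noetherian ⟨V, hV⟩
  let _ : Algebra Γ(S, U) Γ(X, V) := (f.appLE U V hVU).hom.toAlgebra
  refine (RingHom.Flat.respectsIso.arrow_mk_iso_iff
    (IsAffineOpen.arrowStalkMapIso f U hU V hV hVU hxV)).mpr ?_
  have hpq : (hU.primeIdealOf ⟨f x, hVU hxV⟩).asIdeal =
      Ideal.comap (algebraMap Γ(S, U) Γ(X, V)) (hV.primeIdealOf ⟨x, hxV⟩).asIdeal :=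
    congr($(IsAffineOpen.comap_primeIdealOf_appLE U hU V hV hVU hxV).1).symm
  show (Localization.localRingHom (hU.primeIdealOf ⟨f x, hVU hxV⟩).asIdeal
    (hV.primeIdealOf ⟨x, hxV⟩).asIdeal (algebraMap Γ(S, U) Γ(X, V)) hpq).Flat
  refine Groth.Agent.Lib.Helper6.FlatThick.flat_localRingHom_of_flat_quotient_pow
    (A := Γ(S, U)) (B := Γ(X, V)) (I.ideal ⟨U, hU⟩) _ _ hpq ?_ ?_
  · -- the ideal is contained in the prime of `f x`
    have h1 := (Scheme.IdealSheafData.mem_support_iff_of_mem (I := I) (U := ⟨U, hU⟩)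
      (hVU hxV)).mp hx
    have h2 : (hU.primeIdealOf ⟨f x, hVU hxV⟩ : ↥(Spec Γ(S, U))) ∈
        hU.fromSpec ⁻¹' S.zeroLocus (U := U) (I.ideal ⟨U, hU⟩) := by
      show hU.fromSpec (hU.primeIdealOf ⟨f x, hVU hxV⟩) ∈ S.zeroLocus (U := U) (I.ideal ⟨U, hU⟩)
      rw [hU.fromSpec_primeIdealOf]
      exact h1
    rw [hU.fromSpec_preimage_zeroLocus] at h2
    exact h2
  · intro n hn
    obtain ⟨m, rfl⟩ : ∃ m, n = m + 1 := ⟨n - 1, by omega⟩
    exact Groth.Agent.Lib.Helper6.FlatThick.flat_chart f (I ^ (m + 1)) (h m) ⟨U, hU⟩ V hV hVU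

end Groth.Agent.S9738
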