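import Groth.Statements.S1359
import Groth.Agent.Lib.Helper6.FlatThick.SmoothPt
import Groth.Agent.S9738

set_option autoImplicit false
universe u
open FlatMor

namespace Groth.Agent.S1359

open AlgebraicGeometry CategoryTheory Limits in
/-- Let S be locally Noetherian, f : X → S of finite type, and Z the closed subscheme of S cut out by an
ideal sheaf I, with infinitesimal neighbourhoods cut out by the powers of I. If the base change of f
to every infinitesimal neighbourhood is smooth, then every point of X lying over Z is in the smooth
locus of f. -/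
theorem result {X S : Scheme.{u}} (f : X ⟶ S) [IsLocallyNoetherian S] [LocallyOfFinitePresentation f] [QuasiCompact f]
    (I : S.IdealSheafData) (h : ∀ n : ℕ, Smooth (pullback.snd f (I ^ (n + 1)).subschemeι)) (x : X) (hx : f x ∈ I.support) :
    x ∈ f.smoothLocus := by
  have hX : IsLocallyNoetherian X := LocallyOfFiniteType.isLocallyNoetherian f
  have hflat : ∀ n : ℕ, Flat (pullback.snd f (I ^ (n + 1)).subschemeι) := fun n => by
    have := h n
    infer_instance
  have hfl : (f.stalkMap x).hom.Flat := Groth.Agent.S9738.result f I hflat x hx
  -- a point of the thickening over `f x`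
  have hx0 : f x ∈ Set.range (I ^ (0 + 1)).subschemeι := by
    rw [Scheme.IdealSheafData.range_subschemeι]
    exact hx
  obtain ⟨z, hz⟩ := hx0
  obtain ⟨x', hx'1, hx'2⟩ := Scheme.Pullback.exists_preimage_pullback x z hz.symm
  have hlfp : LocallyOfFinitePresentation (pullback.snd f (I ^ (0 + 1)).subschemeι) :=
    MorphismProperty.of_isPullback (P := @LocallyOfFinitePresentation)
      (IsPullback.of_hasPullback f (I ^ (0 + 1)).subschemeι) inferInstance
  have hsm : x' ∈ (pullback.snd f (I ^ (0 + 1)).subschemeι).smoothLocus := by
    have := h 0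
    rw [Scheme.Hom.smoothLocus_eq_top_iff.mpr this]
    trivial
  have := Groth.Agent.Lib.Helper6.FlatThick.mem_smoothLocus_of_flat_stalk_left f
    (I ^ (0 + 1)).subschemeι (pullback.snd f (I ^ (0 + 1)).subschemeι)
    (pullback.fst f (I ^ (0 + 1)).subschemeι) (IsPullback.of_hasPullback _ _) x'
    (by rw [hx'1]; exact hfl) hsm
  rwa [hx'1] at this

end Groth.Agent.S1359
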