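import Groth.Statements.S13590
import Groth.Agent.Lib.Helper5.Misc.SectSuppAdj
import Groth.Agent.Lib.Helper3.LocCohKer
import Groth.Agent.Lib.Helper3.DescTop1

set_option autoImplicit false
universe u
open CategoryTheory TopologicalSpace
open SuppFam

namespace Groth.Agent.S13590

/-- For an abelian sheaf `F` on a topological space `X` and a locally closed `Z = V ∖ W` (`W ≤ V`
opens), if `F` is injective then the sheaf `Γ_Z(F) = i_* i^!(F)` of sections of `F` with supports in
`Z` is injective. -/
theorem result {X : TopCat.{u}} (F : CohTop.Ab X) {W V : Opens X} (h : W ≤ V)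
    (hF : Injective F) : Injective ((SuppFam.sectSuppLC h).obj F) := by
  -- restriction to `V` preserves injectives
  haveI h1 : (CohTop.restrFunctor V).PreservesInjectiveObjects :=
    (Groth.Agent.Helper3.LocCohKer.restr_instances V).2.1
  haveI : Injective ((CohTop.restrFunctor V).obj F) := Functor.injective_obj _ F
  -- direct images preserve injectives
  have hpush : ∀ {Y Z : TopCat.{u}} (f : Y ⟶ Z), (CohTop.push f).PreservesInjectiveObjects := by
    intro Y Z f
    exact Functor.preservesInjectiveObjects_of_adjunction_of_preservesMonomorphisms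
      (TopCat.Sheaf.pullbackPushforwardAdjunction AddCommGrpCat.{u} f)
  -- `Γ_Z` preserves injectives
  have hsupp : ∀ {Y : TopCat.{u}} (U : Opens Y) (G : CohTop.Ab Y), Injective G →
      Injective ((LocCohZ.sectSuppF U).obj G) := by
    intro Y U G hG
    haveI : (CohTop.push (CohCx.inclCompl U)).PreservesMonomorphisms := by
      haveI : Limits.PreservesLimitsOfSize.{0, 0} (CohTop.push (CohCx.inclCompl U)) :=
        (TopCat.Sheaf.pullbackPushforwardAdjunction AddCommGrpCat.{u}
          (CohCx.inclCompl U)).rightAdjoint_preservesLimits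
      exact preservesMonomorphisms_of_preservesLimitsOfShape _
    haveI h2 : (LocCohZ.sectSuppF U ⋙ CohTop.pull (CohCx.inclCompl U)).PreservesInjectiveObjects :=
      Functor.preservesInjectiveObjects_of_adjunction_of_preservesMonomorphisms
        (Groth.Agent.Lib.Helper5.SectSuppAdj.adjunction U)
    haveI : Injective ((LocCohZ.sectSuppF U ⋙ CohTop.pull (CohCx.inclCompl U)).obj G) :=
      Functor.injective_obj _ G
    haveI := hpush (CohCx.inclCompl U)
    have h3 : Injective ((CohTop.push (CohCx.inclCompl U)).obj
        ((LocCohZ.sectSuppF U ⋙ CohTop.pull (CohCx.inclCompl U)).obj G)) :=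
      Functor.injective_obj _ _
    exact Injective.of_iso
      (asIso ((Groth.Agent.Lib.Helper5.SectSuppAdj.adjI U).unit.app
        ((LocCohZ.sectSuppF U).obj G))).symm h3
  haveI := hsupp (SuppFam.inOpen V W) ((CohTop.restrFunctor V).obj F) inferInstance
  haveI := hpush (CohCx.incl V)
  exact Functor.injective_obj (CohTop.push (CohCx.incl V)) _


end Groth.Agent.S13590
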