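import Groth.Statements.S1360
import Groth.Agent.Lib.Helper6.FlatThick.SmoothPt
import Groth.Agent.Lib.Helper6.EtLoc.UnramFiberMap
import Groth.Agent.S1359

set_option autoImplicit false
universe u
open FlatMor

namespace Groth.Agent.S1360

open AlgebraicGeometry CategoryTheory Limits in
/-- Let S be locally Noetherian, f : X → S of finite type, and Z the closed subscheme of S cut out by an
ideal sheaf I. If the base change of f to every infinitesimal neighbourhood of Z is étale, then
every point of X over Z has an open neighbourhood on which f is étale. -/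
theorem result {X S : Scheme.{u}} (f : X ⟶ S) [IsLocallyNoetherian S] [LocallyOfFinitePresentation f] [QuasiCompact f]
    (I : S.IdealSheafData) (h : ∀ n : ℕ, Etale (pullback.snd f (I ^ (n + 1)).subschemeι)) (x : X) (hx : f x ∈ I.support) :
    ∃ U : X.Opens, x ∈ U ∧ Etale (U.ι ≫ f) := by
  have hsm : ∀ n : ℕ, Smooth (pullback.snd f (I ^ (n + 1)).subschemeι) := fun n => by
    have := h n
    infer_instance
  have hxs : x ∈ f.smoothLocus := Groth.Agent.S1359.result f I hsm x hx
  have hS1 : Smooth (f.smoothLocus.ι ≫ f) :=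
    Groth.Agent.Lib.Helper6.EtLoc.smooth_of_forall_mem_smoothLocus _ f fun v => v.2
  -- a point of the thickening over `f x`
  have hx0 : f x ∈ Set.range (I ^ (0 + 1)).subschemeι := by
    rw [Scheme.IdealSheafData.range_subschemeι]
    exact hx
  obtain ⟨z, hz⟩ := hx0
  obtain ⟨x', hx'1, hx'2⟩ := Scheme.Pullback.exists_preimage_pullback x z hz.symm
  have hun : FormallyUnramified ((⊤ : (pullback f (I ^ (0 + 1)).subschemeι).Opens).ι ≫
      pullback.snd f (I ^ (0 + 1)).subschemeι) := by
    have := h 0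
    infer_instance
  obtain ⟨U₂, hxU₂, hU₂⟩ :=
    Groth.Agent.Lib.Helper6.EtLoc.formallyUnramified_of_local_isPullback f
      (I ^ (0 + 1)).subschemeι (pullback.snd f (I ^ (0 + 1)).subschemeι)
      (pullback.fst f (I ^ (0 + 1)).subschemeι) (IsPullback.of_hasPullback _ _) ⊤ hun x' trivial
  rw [hx'1] at hxU₂
  refine ⟨f.smoothLocus ⊓ U₂, ⟨hxs, hxU₂⟩, ?_⟩
  have e1 : (f.smoothLocus ⊓ U₂).ι ≫ f =
      X.homOfLE (inf_le_left : f.smoothLocus ⊓ U₂ ≤ f.smoothLocus) ≫ f.smoothLocus.ι ≫ f := by
    rw [Scheme.homOfLE_ι_assoc]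
  have e2 : (f.smoothLocus ⊓ U₂).ι ≫ f =
      X.homOfLE (inf_le_right : f.smoothLocus ⊓ U₂ ≤ U₂) ≫ U₂.ι ≫ f := by
    rw [Scheme.homOfLE_ι_assoc]
  have hfl : Flat ((f.smoothLocus ⊓ U₂).ι ≫ f) := by
    rw [e1]; infer_instance
  have hfu : FormallyUnramified ((f.smoothLocus ⊓ U₂).ι ≫ f) := by
    rw [e2]
    have h1 : FormallyUnramified (X.homOfLE (inf_le_right : f.smoothLocus ⊓ U₂ ≤ U₂)) :=
      inferInstance
    exact MorphismProperty.comp_mem @FormallyUnramified _ _ h1 hU₂
  exact Etale.of_formallyUnramified_of_flat _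

end Groth.Agent.S1360
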