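import Groth.Statements.S13603
import Mathlib.Tactic

set_option autoImplicit false
universe u v
open CAlg

namespace Groth.Agent.S13603

/-- Let a group G act on a commutative ring B by ring automorphisms so that every element of B has a
finite orbit, and let S ⊆ B be a multiplicative set of G-fixed elements (so each g ∈ G induces an
endomorphism of the localization S⁻¹B; the hypothesis that g maps S into S is implied by the
previous one and is only carried to name that endomorphism). Then an element of S⁻¹B is fixed by all
of G if and only if it is a fraction b/s with b fixed by G and s ∈ S: the canonical map S⁻¹(B^G) →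
(S⁻¹B)^G is onto. -/
theorem result {B : Type u} [CommRing B]
    {G : Type v} [Group G] [MulSemiringAction G B] (hfin : ∀ b : B, (MulAction.orbit G b).Finite)
    (S : Submonoid B) (hS : ∀ (g : G) (s : B), s ∈ S → g • s = s)
    (hS' : ∀ g : G, S ≤ S.comap (MulSemiringAction.toRingHom G B g)) (x : Localization S) :
    (∀ g : G, IsLocalization.map (Localization S) (MulSemiringAction.toRingHom G B g) (hS' g) x = x) ↔
      ∃ (b : B) (s : S), (∀ g : G, g • b = b) ∧ x = IsLocalization.mk' (Localization S) b s := by
  classical
  constructor
  · intro h
    obtain ⟨b, s, rfl⟩ := IsLocalization.exists_mk'_eq S x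
    -- for every element c of the orbit of b there is t ∈ S with t * c = t * b
    have hex : ∀ c : B, ∃ t : B, t ∈ S ∧ (c ∈ MulAction.orbit G b → t * c = t * b) := by
      intro c
      by_cases hc : c ∈ MulAction.orbit G b
      · obtain ⟨g, rfl⟩ := hc
        have hg := h g
        rw [IsLocalization.map_mk'] at hg
        have hs : (⟨MulSemiringAction.toRingHom G B g s, hS' g s.2⟩ : S) = s := by
          apply Subtype.ext
          exact hS g s s.2
        rw [hs, IsLocalization.mk'_eq_iff_eq, IsLocalization.eq_iff_exists S] at hg
        obtain ⟨t, ht⟩ := hg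
        refine ⟨t * s, S.mul_mem t.2 s.2, fun _ => ?_⟩
        have : MulSemiringAction.toRingHom G B g b = g • b := rfl
        rw [this] at ht
        linear_combination ht
      · exact ⟨1, S.one_mem, fun h => absurd h hc⟩
    choose t htS ht using hex
    set T : B := ∏ c ∈ (hfin b).toFinset, t c with hT
    have hTS : T ∈ S := Submonoid.prod_mem S (fun c _ => htS c)
    have hTb : ∀ g : G, T * (g • b) = T * b := by
      intro g
      have hmem : g • b ∈ (hfin b).toFinset := by
        rw [Set.Finite.mem_toFinset]
        exact ⟨g, rfl⟩
      obtain ⟨r, hr⟩ := Finset.dvd_prod_of_mem t hmem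
      rw [hT, hr]
      have := ht (g • b) ⟨g, rfl⟩
      linear_combination r * this
    refine ⟨T * b, ⟨T, hTS⟩ * s, ?_, ?_⟩
    · intro g
      rw [smul_mul', hS g T hTS, hTb g]
    · rw [IsLocalization.mk'_eq_iff_eq]
      congr 1
      simp only [Submonoid.coe_mul]
      ring
  · rintro ⟨b, s, hb, rfl⟩ g
    rw [IsLocalization.map_mk']
    have hs : (⟨MulSemiringAction.toRingHom G B g s, hS' g s.2⟩ : S) = s := by
      apply Subtype.ext
      exact hS g s s.2
    have hb' : MulSemiringAction.toRingHom G B g b = b := hb g
    rw [hs, hb']

end Groth.Agent.S13603
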