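import Groth.Statements.S13609
import Groth.Agent.Lib.Helper8.Adic

set_option autoImplicit false
universe u v
open CAlg

namespace Groth.Agent.S13609

theorem result (A : Type u) [CommRing A] (I : Ideal A)
    (M₁ M₂ : Type v) [AddCommGroup M₁] [Module A M₁] [AddCommGroup M₂] [Module A M₂]
    [IsAdicComplete I (M₁ × M₂)] : IsAdicComplete I M₁ :=
  Groth.Agent.Helper8.isAdicComplete_of_retract I (LinearMap.inl A M₁ M₂) (LinearMap.fst A M₁ M₂)
    (fun _ => rfl)

end Groth.Agent.S13609
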