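import Groth.Statements.S13610
import Mathlib
import Groth.Statements.S13610
import Groth.Agent.Lib.Helper9.FE.ModConstSiteGen
import Groth.Agent.Lib.Helper9.FE.SpFLC
-- import your own Groth.Agent.* helpers here

set_option autoImplicit false
open CategoryTheory CategoryTheory.Limits AlgebraicGeometry Opposite
universe u
open EtModW

namespace Groth.Agent.S13610

open CategoryTheory CategoryTheory.Limits AlgebraicGeometry Opposite
open EtModW
namespace Aux
set_option linter.style.haveILetI false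
set_option linter.unusedSectionVars false
set_option backward.isDefEq.respectTransparency false

section Stalk

variable (Λ : Type (u + 1)) [CommRing Λ]

theorem ab5u : AB5OfSize.{u, u} (ModuleCat.{u + 1} Λ) :=
  AB5OfSize_shrink.{u, u, u + 1, u + 1} (ModuleCat.{u + 1} Λ)

theorem pfcu : PreservesFilteredColimitsOfSize.{u, u} (forget (ModuleCat.{u + 1} Λ)) :=
  preservesFilteredColimitsOfSize_shrink.{u, u + 1, u, u + 1} _

theorem hasLimU : HasLimitsOfSize.{u, u} (ModuleCat.{u + 1} Λ) :=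
  hasLimitsOfSizeShrink.{u, u, u + 1, u + 1} _

attribute [local instance] ab5u pfcu hasLimU

variable {W : Scheme.{u}}

/-- specialization maps on germs (module version) -/
theorem sheafFiber_germ_mod (F : EtModW.Mod Λ W) {Ω Ω' : Type u} [Field Ω] [IsSepClosed Ω]
    [Field Ω'] [IsSepClosed Ω'] {ξ : Spec (CommRingCat.of Ω) ⟶ W}
    {ξ' : Spec (CommRingCat.of Ω') ⟶ W}
    (φ : Scheme.pointSmallEtale ξ' ⟶ Scheme.pointSmallEtale ξ) (V : W.Etale)
    (v : (Scheme.pointSmallEtale ξ).fiber.obj V) (s : F.obj.obj (op V)) :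
    (GrothendieckTopology.Point.Hom.sheafFiber (A := ModuleCat.{u + 1} Λ) φ).app F
      ((Scheme.pointSmallEtale ξ).toPresheafFiber V v F.obj s) =
      (Scheme.pointSmallEtale ξ').toPresheafFiber V (φ.hom.app V v) F.obj s := by
  have h := (Scheme.pointSmallEtale ξ).toPresheafFiber_presheafFiberDesc (P := F.obj)
    (fun X x => (Scheme.pointSmallEtale ξ').toPresheafFiber X (φ.hom.app X x) F.obj)
  exact ConcreteCategory.congr_hom (h V v) s

/-- the stalk of a sheaf of modules constant over an étale neighbourhood is the value module -/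
theorem stalk_gen_bijective_mod {G : EtModW.Mod Λ W} (U : W.Etale) {M : ModuleCat.{u + 1} Λ}
    (α : G.over U ≅ H9FE.ModConstSite.cS.{u + 1, u, u + 1} (W.smallEtaleTopology.over U) M)
    {Ω : Type u} [Field Ω] [IsSepClosed Ω] (ζ : Spec (CommRingCat.of Ω) ⟶ W)
    (y₀ : (Scheme.pointSmallEtale ζ).fiber.obj U) :
    Function.Bijective (fun q : M => (Scheme.pointSmallEtale ζ).toPresheafFiber U y₀ G.obj
      (H9FE.ModConstSite.gen.{u + 1, u, u + 1} W.smallEtaleTopology G U α q)) := by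
  let Φ := Scheme.pointSmallEtale ζ
  let J := W.smallEtaleTopology
  let gn : M →ₗ[Λ] G.obj.obj (op U) := H9FE.ModConstSite.gen.{u + 1, u, u + 1} J G U α
  constructor
  · intro q q' h
    have h' : Φ.toPresheafFiber U y₀ G.obj (gn q) = Φ.toPresheafFiber U y₀ G.obj (gn q') := h
    rw [Φ.toPresheafFiber_eq_iff'] at h'
    obtain ⟨Y, f, y, hy, hf⟩ := h'
    rcases H9FE.ModConstSite.gen_inj.{u + 1, u, u + 1} J G U α f q q' hf with h1 | h1
    · exact h1
    · exfalso
      rw [H9FE.CsSub.bot_mem_iff] at h1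
      exact h1.false (y.left (default : Spec (CommRingCat.of Ω)))
  · intro p
    obtain ⟨X₀, x₀, z, rfl⟩ := Φ.toPresheafFiber_jointly_surjective (P := G.obj) p
    let e₁ : Φ.fiber.Elements := ⟨X₀, x₀⟩
    let e₂ : Φ.fiber.Elements := ⟨U, y₀⟩
    let e := IsCofiltered.min e₁ e₂
    let f₁ : e ⟶ e₁ := IsCofiltered.minToLeft e₁ e₂
    let f₂ : e ⟶ e₂ := IsCofiltered.minToRight e₁ e₂
    obtain ⟨S, hS, hprop⟩ :=
      H9FE.ModConstSite.gen_surj.{u + 1, u, u + 1} J G U α f₂.1 (G.obj.map f₁.1.op z)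
    obtain ⟨Y', g, hg, y', hy'⟩ := Φ.jointly_surjective S hS e.2
    obtain ⟨q, hq⟩ := hprop g hg
    have h2 := Φ.toPresheafFiber_w_apply g y' G.obj (G.obj.map f₁.1.op z)
    have h3 := Φ.toPresheafFiber_w_apply f₁.1 e.2 G.obj z
    have h4 : Φ.toPresheafFiber X₀ x₀ G.obj z =
        Φ.toPresheafFiber Y' y' G.obj (G.obj.map g.op (G.obj.map f₁.1.op z)) := by
      rw [h2, hy', h3]
      exact (congrArg (fun t => Φ.toPresheafFiber X₀ t G.obj z) f₁.2).symm
    refine ⟨q, ?_⟩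
    show Φ.toPresheafFiber U y₀ G.obj (gn q) = Φ.toPresheafFiber X₀ x₀ G.obj z
    rw [h4, hq]
    have h5 := Φ.toPresheafFiber_w_apply (g ≫ f₂.1) y' G.obj (gn q)
    rw [h5]
    have h6 : Φ.fiber.map (g ≫ f₂.1) y' = y₀ := by
      have h7 : Φ.fiber.map (g ≫ f₂.1) y' = Φ.fiber.map f₂.1 (Φ.fiber.map g y') :=
        ConcreteCategory.congr_hom (Φ.fiber.map_comp g f₂.1) y'
      rw [h7, hy']
      exact f₂.2
    rw [h6]

/-- finite type locally constant sheaves of modules have bijective specialization maps -/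
theorem isIso_sp_of_ftlc (F : EtModW.Mod Λ W) (hF : EtModW.IsFTLocConst Λ F)
    {Ω Ω' : Type u} [Field Ω] [IsSepClosed Ω] [Field Ω'] [IsSepClosed Ω']
    (ξ : Spec (CommRingCat.of Ω) ⟶ W) (ξ' : Spec (CommRingCat.of Ω') ⟶ W)
    (φ : Scheme.pointSmallEtale ξ' ⟶ Scheme.pointSmallEtale ξ) :
    IsIso ((GrothendieckTopology.Point.Hom.sheafFiber (A := ModuleCat.{u + 1} Λ) φ).app F) := by
  obtain ⟨κ, U, hU, hα⟩ := hF
  obtain ⟨i, a, ha⟩ := hU (ξ default)
  obtain ⟨M₀, iM, fM, hfin, ⟨α⟩⟩ := hα i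
  haveI : Etale (U i).hom := (U i).prop
  obtain ⟨l, hl, -⟩ := Scheme.exists_fac_of_etale_of_isSepClosed (U i).hom ξ a ha
  let y₀ : (Scheme.pointSmallEtale ξ).fiber.obj (U i) := Over.homMk l hl
  let y₀' : (Scheme.pointSmallEtale ξ').fiber.obj (U i) := φ.hom.app (U i) y₀
  have h1 := stalk_gen_bijective_mod Λ (U i) α ξ y₀
  have h2 := stalk_gen_bijective_mod Λ (U i) α ξ' y₀'
  have h3 : (fun q : (ModuleCat.of Λ M₀) => (Scheme.pointSmallEtale ξ').toPresheafFiber (U i) y₀' F.obj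
      (H9FE.ModConstSite.gen.{u + 1, u, u + 1} W.smallEtaleTopology F (U i) α q)) =
      (fun p => (GrothendieckTopology.Point.Hom.sheafFiber (A := ModuleCat.{u + 1} Λ) φ).app F p)
        ∘ (fun q : (ModuleCat.of Λ M₀) => (Scheme.pointSmallEtale ξ).toPresheafFiber (U i) y₀ F.obj
      (H9FE.ModConstSite.gen.{u + 1, u, u + 1} W.smallEtaleTopology F (U i) α q)) := by
    funext q
    exact (sheafFiber_germ_mod Λ F φ (U i) y₀ _).symm
  rw [h3] at h2
  have h4 : Function.Bijective (fun p =>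
      (GrothendieckTopology.Point.Hom.sheafFiber (A := ModuleCat.{u + 1} Λ) φ).app F p) :=
    (Function.Bijective.of_comp_iff _ h1).1 h2
  exact (ConcreteCategory.isIso_iff_bijective _).2 h4

/-- a specialization arrow induces an isomorphism of stalk systems of a system of finite type
locally constant sheaves -/
theorem nonempty_iso_of_arrow (F : ℕᵒᵖ ⥤ EtModW.Mod Λ W)
    (hF : ∀ n : ℕ, EtModW.IsFTLocConst Λ (F.obj (op n)))
    {Ω Ω' : Type u} [Field Ω] [IsSepClosed Ω] [Field Ω'] [IsSepClosed Ω']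
    (ξ : Spec (CommRingCat.of Ω) ⟶ W) (ξ' : Spec (CommRingCat.of Ω') ⟶ W)
    (φ : Scheme.pointSmallEtale ξ' ⟶ Scheme.pointSmallEtale ξ) :
    Nonempty ((F ⋙ EtModW.stalk Λ ξ) ≅ (F ⋙ EtModW.stalk Λ ξ')) := by
  let τ : (F ⋙ EtModW.stalk Λ ξ) ⟶ (F ⋙ EtModW.stalk Λ ξ') :=
    Functor.whiskerLeft F (GrothendieckTopology.Point.Hom.sheafFiber (A := ModuleCat.{u + 1} Λ) φ)
  haveI : ∀ n, IsIso (τ.app n) := fun n => isIso_sp_of_ftlc Λ (F.obj n) (hF n.unop) ξ ξ' φ
  haveI : IsIso τ := NatIso.isIso_of_isIso_app τ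
  exact ⟨asIso τ⟩

/-- specialization arrows exist between geometric points whose images specialize -/
theorem exists_arrow {Ω Ω' : Type u} [Field Ω] [IsSepClosed Ω] [Field Ω'] [IsSepClosed Ω']
    (ξ : Spec (CommRingCat.of Ω) ⟶ W) (ξ' : Spec (CommRingCat.of Ω') ⟶ W)
    (hs : ξ' default ⤳ ξ default) :
    Nonempty (Scheme.pointSmallEtale ξ' ⟶ Scheme.pointSmallEtale ξ) := by
  have h := H9FE.SpArrow.exists_arrow_prescribed (𝟙 W) ξ ξ' hs
  obtain ⟨φ, -⟩ := h
  have e1 : ξ ≫ 𝟙 W = ξ := Category.comp_id _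
  have e2 : ξ' ≫ 𝟙 W = ξ' := Category.comp_id _
  rw [e1, e2] at φ
  exact ⟨φ⟩

theorem main [IsNoetherianRing Λ]
    (X : Scheme.{u}) [IsNoetherian X] [ConnectedSpace X]
    (F : ℕᵒᵖ ⥤ EtModW.Mod Λ X) (hF : ∀ n : ℕ, EtModW.IsFTLocConst Λ (F.obj (op n)))
    {Ω : Type u} [Field Ω] [IsSepClosed Ω] (s : Spec (CommRingCat.of Ω) ⟶ X)
    {Ω' : Type u} [Field Ω'] [IsSepClosed Ω'] (s' : Spec (CommRingCat.of Ω') ⟶ X) :
    Nonempty ((F ⋙ EtModW.stalk Λ s) ≅ (F ⋙ EtModW.stalk Λ s')) := by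
  let P : X → Prop := fun q => ∀ (Ω₁ : Type u) [Field Ω₁] [IsSepClosed Ω₁]
    (t : Spec (CommRingCat.of Ω₁) ⟶ X), t default = q →
    Nonempty ((F ⋙ EtModW.stalk Λ s) ≅ (F ⋙ EtModW.stalk Λ t))
  have hgen : ∀ q q' : X, q' ⤳ q → (q ∈ {q | P q} ↔ q' ∈ {q | P q}) := by
    intro q q' hqq'
    constructor
    · intro hq Ω₁ _ _ t' ht'
      let g := Groth.Agent.Lib.Helper5.EtStalk.geomPtAt q
      have hg : g.ξ default = q := Groth.Agent.Lib.Helper5.EtStalk.geomPtAt_default q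
      obtain ⟨e1⟩ := hq g.Ω g.ξ hg
      obtain ⟨φ⟩ := exists_arrow g.ξ t' (by rw [hg, ht']; exact hqq')
      obtain ⟨e2⟩ := nonempty_iso_of_arrow Λ F hF g.ξ t' φ
      exact ⟨e1 ≪≫ e2⟩
    · intro hq' Ω₁ _ _ t ht
      let g := Groth.Agent.Lib.Helper5.EtStalk.geomPtAt q'
      have hg : g.ξ default = q' := Groth.Agent.Lib.Helper5.EtStalk.geomPtAt_default q'
      obtain ⟨e1⟩ := hq' g.Ω g.ξ hg
      obtain ⟨φ⟩ := exists_arrow t g.ξ (by rw [hg, ht]; exact hqq')
      obtain ⟨e2⟩ := nonempty_iso_of_arrow Λ F hF t g.ξ φ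
      exact ⟨e1 ≪≫ e2.symm⟩
  have hclopen : IsClopen {q | P q} := H9FE.SpFLC.isClopen_of_stable _ hgen
  have hne : ({q | P q} : Set X).Nonempty := by
    refine ⟨s default, ?_⟩
    intro Ω₁ _ _ t ht
    obtain ⟨φ⟩ := exists_arrow s t (by rw [ht])
    exact nonempty_iso_of_arrow Λ F hF s t φ
  have huniv : {q | P q} = Set.univ := hclopen.eq_univ hne
  have hs' : P (s' default) := by
    have : s' default ∈ {q | P q} := by rw [huniv]; exact Set.mem_univ _
    exact this
  exact hs' Ω' s' rfl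

end Stalk

end Aux

/-- On a connected Noetherian scheme X, with Λ a Noetherian coefficient ring, consider an inverse system
(F_n) of sheaves of Λ-modules on the small etale site of X all of whose members are finite-type
locally constant (etale-locally constant with finitely generated value). Then, for every pair of
geometric points s, s' of X, the two inverse systems of stalks (F_n,s)_n and (F_n,s')_n are
isomorphic as ℕ-indexed systems of Λ-modules. (Existence of an isomorphism of systems only; in the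
published statement the isomorphisms are composites of specialization maps and their inverses.) -/
theorem result
    (Λ : Type (u + 1)) [CommRing Λ] [IsNoetherianRing Λ]
    (X : Scheme.{u}) [IsNoetherian X] [ConnectedSpace X]
    (F : ℕᵒᵖ ⥤ EtModW.Mod Λ X) (hF : ∀ n : ℕ, EtModW.IsFTLocConst Λ (F.obj (op n)))
    {Ω : Type u} [Field Ω] [IsSepClosed Ω] (s : Spec (CommRingCat.of Ω) ⟶ X)
    {Ω' : Type u} [Field Ω'] [IsSepClosed Ω'] (s' : Spec (CommRingCat.of Ω') ⟶ X) :
    Nonempty ((F ⋙ EtModW.stalk Λ s) ≅ (F ⋙ EtModW.stalk Λ s')) := by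
  exact Aux.main Λ X F hF s s'

end Groth.Agent.S13610
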