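import Groth.Statements.S13613
import Mathlib
import Groth.Statements.S13613
import Groth.Agent.Lib.Helper9.FE.ModConstSiteGen
import Groth.Agent.Lib.Helper9.FE.CsAcc2
import Groth.Agent.Lib.Helper5.Misc.EtStalkPull
-- import your own Groth.Agent.* helpers here

set_option autoImplicit false
open CategoryTheory CategoryTheory.Limits AlgebraicGeometry Opposite
universe u
open EtModW

namespace Groth.Agent.S13613

open CategoryTheory CategoryTheory.Limits AlgebraicGeometry Opposite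
open EtModW
namespace Aux
set_option linter.style.haveILetI false
set_option linter.unusedSectionVars false
set_option backward.isDefEq.respectTransparency false

section Gen

universe w v₁ v₂ u₁ u₂

variable {A : Type w} [CommRing A] {C : Type u₁} [Category.{v₁} C] {D : Type u₂} [Category.{v₂} D]
  [Preadditive C] [Preadditive D] [Linear A C] [Linear A D]
  {L : C ⥤ D} {R : D ⥤ C} (adj : L ⊣ R) [L.Additive] [R.Additive]
  (hR : ∀ {X Y : D} (a : A) (φ : X ⟶ Y), R.map (a • φ) = a • R.map φ)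

include adj hR in
lemma L_map_smul {X Y : C} (a : A) (φ : X ⟶ Y) : L.map (a • φ) = a • L.map φ := by
  apply (adj.homEquiv X (L.obj Y)).injective
  rw [adj.homEquiv_unit, adj.homEquiv_unit, hR, Linear.comp_smul]
  have h1 : adj.unit.app X ≫ R.map (L.map (a • φ)) = (a • φ) ≫ adj.unit.app Y :=
    (adj.unit.naturality (a • φ)).symm
  have h2 : adj.unit.app X ≫ R.map (L.map φ) = φ ≫ adj.unit.app Y :=
    (adj.unit.naturality φ).symm
  rw [h1, h2, Linear.smul_comp]

include adj hR in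
lemma killedBy_map {I : Ideal A} {X : C} (h : ARSys.KilledBy I X) :
    ARSys.KilledBy I (L.obj X) := by
  intro a ha
  have h1 : (a • 𝟙 (L.obj X) : L.obj X ⟶ L.obj X) = L.map (a • 𝟙 X) := by
    rw [L_map_smul adj hR, L.map_id]
  rw [h1, h a ha, L.map_zero]

include adj hR in
lemma isQuot_map {I : Ideal A} {X Q : C} {p : X ⟶ Q} (h : ARSys.IsQuot I p) :
    ARSys.IsQuot I (L.map p) := by
  refine ⟨killedBy_map adj hR h.1, ?_⟩
  intro Y' φ' hφ'
  have hφ : ARSys.HomKilledBy I (adj.homEquiv X Y' φ') := by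
    intro a ha
    rw [adj.homEquiv_unit, ← Linear.comp_smul, ← hR, hφ' a ha, R.map_zero, comp_zero]
  obtain ⟨ψ, hψ, huniq⟩ := h.2 (R.obj Y') _ hφ
  refine ⟨(adj.homEquiv Q Y').symm ψ, ?_, ?_⟩
  · apply (adj.homEquiv X Y').injective
    rw [adj.homEquiv_naturality_left, Equiv.apply_symm_apply]
    exact hψ
  · intro ψ' hψ'
    apply (adj.homEquiv Q Y').injective
    rw [Equiv.apply_symm_apply]
    apply huniq
    rw [← adj.homEquiv_naturality_left, hψ']

include adj hR in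
lemma termKilled_comp {I : Ideal A} {X : ARSys.PS C} (h : ARSys.TermKilled I X) :
    ARSys.TermKilled I (X ⋙ L) :=
  fun n => killedBy_map adj hR (h n)

include adj hR in
lemma isAdic_comp {I : Ideal A} {X : ARSys.PS C} (h : ARSys.IsAdic I X) :
    ARSys.IsAdic I (X ⋙ L) :=
  ⟨termKilled_comp adj hR h.1, fun n m hnm => isQuot_map adj hR (h.2 n m hnm)⟩

end Gen

section Null

universe v₁ v₂ u₁ u₂

variable {C : Type u₁} [Category.{v₁} C] {D : Type u₂} [Category.{v₂} D]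

lemma isARNull_comp [HasZeroMorphisms C] [HasZeroMorphisms D] (L : C ⥤ D)
    [L.PreservesZeroMorphisms] {K : ARSys.PS C} (h : ARSys.IsARNull K) :
    ARSys.IsARNull (K ⋙ L) := by
  obtain ⟨r, hr⟩ := h
  refine ⟨r, fun n => ?_⟩
  have h1 : ARSys.shiftMap (K ⋙ L) r n = L.map (ARSys.shiftMap K r n) := rfl
  rw [h1, hr n, L.map_zero]

lemma isARNull_of_iso [HasZeroMorphisms D] {X X' : ARSys.PS D} (e : X ≅ X')
    (h : ARSys.IsARNull X) : ARSys.IsARNull X' := by
  obtain ⟨r, hr⟩ := h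
  refine ⟨r, fun n => ?_⟩
  have h1 := e.hom.naturality (homOfLE (Nat.le_add_right n r)).op
  have h2 : X.map (homOfLE (Nat.le_add_right n r)).op = 0 := hr n
  rw [h2, zero_comp] at h1
  have h3 : e.hom.app (op (n + r)) ≫ X'.map (homOfLE (Nat.le_add_right n r)).op = 0 := h1.symm
  have h4 : e.hom.app (op (n + r)) ≫ X'.map (homOfLE (Nat.le_add_right n r)).op =
      e.hom.app (op (n + r)) ≫ 0 := by rw [h3, comp_zero]
  exact (cancel_epi (e.hom.app (op (n + r)))).1 h4

variable [Abelian C] [Abelian D] (L : C ⥤ D) [L.Additive] [PreservesFiniteLimits L]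
  [PreservesFiniteColimits L]

instance : ((Functor.whiskeringRight ℕᵒᵖ C D).obj L).PreservesZeroMorphisms where
  map_zero X Y := by
    ext n
    exact L.map_zero _ _

lemma isARIso_whisker {X Y : ARSys.PS C} {v : X ⟶ Y} (h : ARSys.IsARIso v) :
    ARSys.IsARIso (Functor.whiskerRight v L) := by
  let W := (Functor.whiskeringRight ℕᵒᵖ C D).obj L
  haveI : PreservesFiniteLimits W := ⟨fun J _ _ => inferInstance⟩
  haveI : PreservesFiniteColimits W := ⟨fun J _ _ => inferInstance⟩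
  have e1 : W.obj (kernel v) ≅ kernel (W.map v) := PreservesKernel.iso W v
  have e2 : W.obj (cokernel v) ≅ cokernel (W.map v) := PreservesCokernel.iso W v
  exact ⟨isARNull_of_iso e1 (isARNull_comp L h.1), isARNull_of_iso e2 (isARNull_comp L h.2)⟩

end Null

section Stalk

variable (Λ : Type (u + 1)) [CommRing Λ]

theorem ab5u : AB5OfSize.{u, u} (ModuleCat.{u + 1} Λ) :=
  AB5OfSize_shrink.{u, u, u + 1, u + 1} (ModuleCat.{u + 1} Λ)

theorem pfcu : PreservesFilteredColimitsOfSize.{u, u} (forget (ModuleCat.{u + 1} Λ)) :=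
  preservesFilteredColimitsOfSize_shrink.{u, u + 1, u, u + 1} _

theorem hasLimU : HasLimitsOfSize.{u, u} (ModuleCat.{u + 1} Λ) :=
  hasLimitsOfSizeShrink.{u, u, u + 1, u + 1} _

attribute [local instance] ab5u pfcu hasLimU

/-- stalk of a pullback, module version -/
noncomputable def stalkPullModIso {X Y : Scheme.{u}} (f : X ⟶ Y) {Ω : Type u} [Field Ω]
    [IsSepClosed Ω] (ξ : Spec (CommRingCat.of Ω) ⟶ X) :
    EtModW.pull Λ f ⋙ EtModW.stalk Λ ξ ≅ EtModW.stalk Λ (ξ ≫ f) :=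
  (GrothendieckTopology.Point.sheafFiberComapIso (Scheme.pointSmallEtale ξ) (EtCoh.bc f)
    (EtCoh.coverPreserving_bc f) (ModuleCat.{u + 1} Λ)).symm ≪≫
    Groth.Agent.Lib.Helper5.EtStalkPull.sheafFiberIsoOfIso
      (Groth.Agent.Lib.Helper5.EtStalkPull.pointIso f ξ)

theorem finite_stalk_of_ftlc {T : Scheme.{u}} (G : EtModW.Mod Λ T)
    (hG : EtModW.IsFTLocConst Λ G)
    {Ω : Type u} [Field Ω] [IsSepClosed Ω] (ξ : Spec (CommRingCat.of Ω) ⟶ T) :
    Module.Finite Λ ((EtModW.stalk Λ ξ).obj G) := by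
  obtain ⟨κ, U, hU, hα⟩ := hG
  obtain ⟨j, y, hy⟩ := hU (ξ default)
  obtain ⟨M, _, _, hfin, ⟨α⟩⟩ := hα j
  haveI : Etale (U j).hom := (U j).prop
  obtain ⟨l, hl, -⟩ := Scheme.exists_fac_of_etale_of_isSepClosed (U j).hom ξ y hy
  let Φ := Scheme.pointSmallEtale ξ
  let J := T.smallEtaleTopology
  let y₀ : Φ.fiber.obj (U j) := Over.homMk l hl
  let gn : (ModuleCat.of Λ M) →ₗ[Λ] G.obj.obj (op (U j)) :=
    H9FE.ModConstSite.gen.{u + 1, u, u + 1} J G (U j) α
  let γ : M →ₗ[Λ] ((EtModW.stalk Λ ξ).obj G) :=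
    (Φ.toPresheafFiber (U j) y₀ G.obj).hom.comp gn
  refine Module.Finite.of_surjective γ ?_
  intro p
  obtain ⟨X₀, x₀, z, rfl⟩ := Φ.toPresheafFiber_jointly_surjective (P := G.obj) p
  let e₁ : Φ.fiber.Elements := ⟨X₀, x₀⟩
  let e₂ : Φ.fiber.Elements := ⟨U j, y₀⟩
  let e := IsCofiltered.min e₁ e₂
  let f₁ : e ⟶ e₁ := IsCofiltered.minToLeft e₁ e₂
  let f₂ : e ⟶ e₂ := IsCofiltered.minToRight e₁ e₂
  obtain ⟨S, hS, hprop⟩ :=
    H9FE.ModConstSite.gen_surj.{u + 1, u, u + 1} J G (U j) α f₂.1 (G.obj.map f₁.1.op z)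
  obtain ⟨Y', g, hg, y', hy'⟩ := Φ.jointly_surjective S hS e.2
  obtain ⟨q, hq⟩ := hprop g hg
  have h2 := Φ.toPresheafFiber_w_apply g y' G.obj (G.obj.map f₁.1.op z)
  have h3 := Φ.toPresheafFiber_w_apply f₁.1 e.2 G.obj z
  have h4 : Φ.toPresheafFiber X₀ x₀ G.obj z =
      Φ.toPresheafFiber Y' y' G.obj (G.obj.map g.op (G.obj.map f₁.1.op z)) := by
    rw [h2, hy', h3]
    exact (congrArg (fun t => Φ.toPresheafFiber X₀ t G.obj z) f₁.2).symm
  refine ⟨q, ?_⟩
  show Φ.toPresheafFiber (U j) y₀ G.obj (gn q) = Φ.toPresheafFiber X₀ x₀ G.obj z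
  rw [h4, hq]
  have h5 := Φ.toPresheafFiber_w_apply (g ≫ f₂.1) y' G.obj (gn q)
  rw [h5]
  have h6 : Φ.fiber.map (g ≫ f₂.1) y' = y₀ := by
    have h7 : Φ.fiber.map (g ≫ f₂.1) y' = Φ.fiber.map f₂.1 (Φ.fiber.map g y') :=
      ConcreteCategory.congr_hom (Φ.fiber.map_comp g f₂.1) y'
    rw [h7, hy']
    exact f₂.2
  rw [h6]

theorem finite_stalk_of_constructible {X : Scheme.{u}} (F : EtModW.Mod Λ X)
    (hF : EtModW.IsConstructible Λ F)
    {Ω : Type u} [Field Ω] [IsSepClosed Ω] (s : Spec (CommRingCat.of Ω) ⟶ X) :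
    Module.Finite Λ ((EtModW.stalk Λ s).obj F) := by
  obtain ⟨U, hU, hxU, -⟩ := exists_isAffineOpen_mem_and_subset (U := ⊤) (x := s default) (by simp)
  obtain ⟨n, T, g, himm, -, -, hun, hlc⟩ := hF U hU
  have hx : s default ∈ ⋃ i, Set.range (g i) := by rw [hun]; exact hxU
  obtain ⟨i, hi⟩ := Set.mem_iUnion.1 hx
  haveI := himm i
  obtain ⟨s', hs'⟩ := H9FE.CsAcc.lift_immersion (g i) s hi
  have hfin := finite_stalk_of_ftlc Λ _ (hlc i) s'
  let e := (stalkPullModIso Λ (g i) s').app F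
  subst hs'
  haveI : Module.Finite Λ ((EtModW.pull Λ (g i) ⋙ EtModW.stalk Λ s').obj F) := hfin
  exact Module.Finite.equiv (e.toLinearEquiv)

section Sky

universe w' v₁ u₁ v₂ u₂

lemma sky_smul {R : Type*} [CommRing R] {C : Type u₁} [Category.{v₁} C]
    {J : GrothendieckTopology C}
    (Φ : GrothendieckTopology.Point.{w'} J) {A : Type u₂} [Category.{v₂} A] [Preadditive A]
    [Linear R A] [HasProducts.{w'} A] {P Q : A} (a : R) (φ : P ⟶ Q) :
    (Φ.skyscraperSheafFunctor (A := A)).map (a • φ) =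
      a • (Φ.skyscraperSheafFunctor (A := A)).map φ := by
  apply Sheaf.hom_ext
  ext V : 2
  apply Pi.hom_ext
  intro x
  have h1 : ∀ ψ : P ⟶ Q,
      ((Φ.skyscraperSheafFunctor (A := A)).map ψ).hom.app V ≫
        Pi.π (fun _ => Q) x = Pi.π (fun _ => P) x ≫ ψ := by
    intro ψ
    exact Pi.map_π (f := fun _ => P) (g := fun _ => Q) (fun _ => ψ) x
  have h2 : (a • (Φ.skyscraperSheafFunctor (A := A)).map φ).hom.app V =
      a • ((Φ.skyscraperSheafFunctor (A := A)).map φ).hom.app V := rfl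
  rw [h1, h2, Linear.smul_comp, h1, Linear.comp_smul]

end Sky

theorem main [IsNoetherianRing Λ] (I : Ideal Λ) (X : Scheme.{u})
    (F : ARSys.PS (EtModW.Mod Λ X))
    (hF : (ARSys.TermKilled I F ∧ ∃ (Y : ARSys.PS (EtModW.Mod Λ X)) (v : Y ⟶ F), ARSys.IsAdic I Y ∧ (∀ n : ℕ, EtModW.IsConstructible Λ (Y.obj (op n))) ∧ ARSys.IsARIso v))
    {Ω : Type u} [Field Ω] [IsSepClosed Ω] (s : Spec (CommRingCat.of Ω) ⟶ X) :
    (ARSys.TermKilled I (F ⋙ EtModW.stalk Λ s) ∧ ∃ (Y : ARSys.PS (ModuleCat.{u + 1} Λ)) (v : Y ⟶ F ⋙ EtModW.stalk Λ s), ARSys.IsAdic I Y ∧ (∀ n : ℕ, Module.Finite Λ (Y.obj (op n))) ∧ ARSys.IsARIso v) := by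
  obtain ⟨hk, Y, v, hY, hYc, hv⟩ := hF
  let adj := (Scheme.pointSmallEtale s).skyscraperSheafAdjunction (A := ModuleCat.{u + 1} Λ)
  haveI : PreservesFiniteLimits (EtModW.stalk Λ s) := inferInstance
  haveI : PreservesFiniteColimits (EtModW.stalk Λ s) := inferInstance
  haveI : (EtModW.stalk Λ s).Additive := Functor.additive_of_preserves_binary_products _
  haveI : ((Scheme.pointSmallEtale s).skyscraperSheafFunctor (A := ModuleCat.{u + 1} Λ)).Additive :=
    adj.right_adjoint_additive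
  have g1 : ARSys.TermKilled I (F ⋙ EtModW.stalk Λ s) :=
    termKilled_comp adj (fun a φ => sky_smul (Scheme.pointSmallEtale s) a φ) hk
  have g2 : ARSys.IsAdic I (Y ⋙ EtModW.stalk Λ s) :=
    isAdic_comp adj (fun a φ => sky_smul (Scheme.pointSmallEtale s) a φ) hY
  have g3 : ARSys.IsARIso (Functor.whiskerRight v (EtModW.stalk Λ s)) := isARIso_whisker _ hv
  exact ⟨g1, Y ⋙ EtModW.stalk Λ s,
    Functor.whiskerRight v (EtModW.stalk Λ s), g2,
    fun n => finite_stalk_of_constructible Λ _ (hYc n) s, g3⟩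

end Stalk

end Aux

/-- Let X be a scheme, Λ a Noetherian ring, I an ideal of Λ and F = (F_n) an inverse system of sheaves
of Λ-modules on the small etale site of X which is AR I-adic: I^(n+1) F_n = 0 for all n and F
receives a morphism with kernel and cokernel null up to translation from an I-adic system of
constructible sheaves. Then for every geometric point s of X the system of stalks (F_n,s)_n is an AR
I-adic system of Λ-modules: I^(n+1) kills F_n,s and it receives a morphism with kernel and cokernel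
null up to translation from an I-adic system of finitely generated Λ-modules. (The termwise killing
of F itself is part of the notion of AR I-adic used in this row.) -/
theorem result
    (Λ : Type (u + 1)) [CommRing Λ] [IsNoetherianRing Λ] (I : Ideal Λ) (X : Scheme.{u})
    (F : ARSys.PS (EtModW.Mod Λ X))
    (hF : (ARSys.TermKilled I F ∧ ∃ (Y : ARSys.PS (EtModW.Mod Λ X)) (v : Y ⟶ F), ARSys.IsAdic I Y ∧ (∀ n : ℕ, EtModW.IsConstructible Λ (Y.obj (op n))) ∧ ARSys.IsARIso v))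
    {Ω : Type u} [Field Ω] [IsSepClosed Ω] (s : Spec (CommRingCat.of Ω) ⟶ X) :
    (ARSys.TermKilled I (F ⋙ EtModW.stalk Λ s) ∧ ∃ (Y : ARSys.PS (ModuleCat.{u + 1} Λ)) (v : Y ⟶ F ⋙ EtModW.stalk Λ s), ARSys.IsAdic I Y ∧ (∀ n : ℕ, Module.Finite Λ (Y.obj (op n))) ∧ ARSys.IsARIso v) := by
  exact Aux.main Λ I X F hF s

end Groth.Agent.S13613
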