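import Groth.Statements.S13614
import Mathlib
import Groth.Statements.S13614
import Groth.Agent.S4333
import Groth.Agent.Lib.Helper9.FE.ModCsPb
-- import your own Groth.Agent.* helpers here

set_option autoImplicit false
open CategoryTheory CategoryTheory.Limits AlgebraicGeometry Opposite
universe u
open EtModW

namespace Groth.Agent.S13614

open CategoryTheory CategoryTheory.Limits AlgebraicGeometry Opposite
open EtModW
namespace Aux
set_option linter.style.haveILetI false
set_option linter.unusedSectionVars false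
set_option backward.isDefEq.respectTransparency false

section Gen

universe w v₁ v₂ u₁ u₂

variable {A : Type w} [CommRing A] {C : Type u₁} [Category.{v₁} C] {D : Type u₂} [Category.{v₂} D]
  [Preadditive C] [Preadditive D] [Linear A C] [Linear A D]
  {L : C ⥤ D} {R : D ⥤ C} (adj : L ⊣ R) [L.Additive] [R.Additive]
  (hR : ∀ {X Y : D} (a : A) (φ : X ⟶ Y), R.map (a • φ) = a • R.map φ)

include adj hR in
lemma L_map_smul {X Y : C} (a : A) (φ : X ⟶ Y) : L.map (a • φ) = a • L.map φ := by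
  apply (adj.homEquiv X (L.obj Y)).injective
  rw [adj.homEquiv_unit, adj.homEquiv_unit, hR, Linear.comp_smul]
  have h1 : adj.unit.app X ≫ R.map (L.map (a • φ)) = (a • φ) ≫ adj.unit.app Y :=
    (adj.unit.naturality (a • φ)).symm
  have h2 : adj.unit.app X ≫ R.map (L.map φ) = φ ≫ adj.unit.app Y :=
    (adj.unit.naturality φ).symm
  rw [h1, h2, Linear.smul_comp]

include adj hR in
lemma killedBy_map {I : Ideal A} {X : C} (h : ARSys.KilledBy I X) :
    ARSys.KilledBy I (L.obj X) := by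
  intro a ha
  have h1 : (a • 𝟙 (L.obj X) : L.obj X ⟶ L.obj X) = L.map (a • 𝟙 X) := by
    rw [L_map_smul adj hR, L.map_id]
  rw [h1, h a ha, L.map_zero]

include adj hR in
lemma isQuot_map {I : Ideal A} {X Q : C} {p : X ⟶ Q} (h : ARSys.IsQuot I p) :
    ARSys.IsQuot I (L.map p) := by
  refine ⟨killedBy_map adj hR h.1, ?_⟩
  intro Y' φ' hφ'
  have hφ : ARSys.HomKilledBy I (adj.homEquiv X Y' φ') := by
    intro a ha
    rw [adj.homEquiv_unit, ← Linear.comp_smul, ← hR, hφ' a ha, R.map_zero, comp_zero]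
  obtain ⟨ψ, hψ, huniq⟩ := h.2 (R.obj Y') _ hφ
  refine ⟨(adj.homEquiv Q Y').symm ψ, ?_, ?_⟩
  · apply (adj.homEquiv X Y').injective
    rw [adj.homEquiv_naturality_left, Equiv.apply_symm_apply]
    exact hψ
  · intro ψ' hψ'
    apply (adj.homEquiv Q Y').injective
    rw [Equiv.apply_symm_apply]
    apply huniq
    rw [← adj.homEquiv_naturality_left, hψ']

include adj hR in
lemma termKilled_comp {I : Ideal A} {X : ARSys.PS C} (h : ARSys.TermKilled I X) :
    ARSys.TermKilled I (X ⋙ L) :=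
  fun n => killedBy_map adj hR (h n)

include adj hR in
lemma isAdic_comp {I : Ideal A} {X : ARSys.PS C} (h : ARSys.IsAdic I X) :
    ARSys.IsAdic I (X ⋙ L) :=
  ⟨termKilled_comp adj hR h.1, fun n m hnm => isQuot_map adj hR (h.2 n m hnm)⟩

end Gen

section Null

universe v₁ v₂ u₁ u₂

variable {C : Type u₁} [Category.{v₁} C] {D : Type u₂} [Category.{v₂} D]

lemma isARNull_comp [HasZeroMorphisms C] [HasZeroMorphisms D] (L : C ⥤ D)
    [L.PreservesZeroMorphisms] {K : ARSys.PS C} (h : ARSys.IsARNull K) :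
    ARSys.IsARNull (K ⋙ L) := by
  obtain ⟨r, hr⟩ := h
  refine ⟨r, fun n => ?_⟩
  have h1 : ARSys.shiftMap (K ⋙ L) r n = L.map (ARSys.shiftMap K r n) := rfl
  rw [h1, hr n, L.map_zero]

lemma isARNull_of_iso [HasZeroMorphisms D] {X X' : ARSys.PS D} (e : X ≅ X')
    (h : ARSys.IsARNull X) : ARSys.IsARNull X' := by
  obtain ⟨r, hr⟩ := h
  refine ⟨r, fun n => ?_⟩
  have h1 := e.hom.naturality (homOfLE (Nat.le_add_right n r)).op
  have h2 : X.map (homOfLE (Nat.le_add_right n r)).op = 0 := hr n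
  rw [h2, zero_comp] at h1
  have h3 : e.hom.app (op (n + r)) ≫ X'.map (homOfLE (Nat.le_add_right n r)).op = 0 := h1.symm
  have h4 : e.hom.app (op (n + r)) ≫ X'.map (homOfLE (Nat.le_add_right n r)).op =
      e.hom.app (op (n + r)) ≫ 0 := by rw [h3, comp_zero]
  exact (cancel_epi (e.hom.app (op (n + r)))).1 h4

variable [Abelian C] [Abelian D] (L : C ⥤ D) [L.Additive] [PreservesFiniteLimits L]
  [PreservesFiniteColimits L]

instance : ((Functor.whiskeringRight ℕᵒᵖ C D).obj L).PreservesZeroMorphisms where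
  map_zero X Y := by
    ext n
    exact L.map_zero _ _

lemma isARIso_whisker {X Y : ARSys.PS C} {v : X ⟶ Y} (h : ARSys.IsARIso v) :
    ARSys.IsARIso (Functor.whiskerRight v L) := by
  let W := (Functor.whiskeringRight ℕᵒᵖ C D).obj L
  haveI : PreservesFiniteLimits W := ⟨fun J _ _ => inferInstance⟩
  haveI : PreservesFiniteColimits W := ⟨fun J _ _ => inferInstance⟩
  have e1 : W.obj (kernel v) ≅ kernel (W.map v) := PreservesKernel.iso W v
  have e2 : W.obj (cokernel v) ≅ cokernel (W.map v) := PreservesCokernel.iso W v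
  exact ⟨isARNull_of_iso e1 (isARNull_comp L h.1), isARNull_of_iso e2 (isARNull_comp L h.2)⟩

end Null

theorem main
    (Λ : Type (u + 1)) [CommRing Λ] [IsNoetherianRing Λ] (I : Ideal Λ)
    {X X' : Scheme.{u}} (f : X' ⟶ X)
    (F : ARSys.PS (EtModW.Mod Λ X)) (hc : ∀ n : ℕ, EtModW.IsConstructible Λ (F.obj (op n)))
    (hF : (ARSys.TermKilled I F ∧ ∃ (Y : ARSys.PS (EtModW.Mod Λ X)) (v : Y ⟶ F), ARSys.IsAdic I Y ∧ (∀ n : ℕ, EtModW.IsConstructible Λ (Y.obj (op n))) ∧ ARSys.IsARIso v)) :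
    (ARSys.TermKilled I (F ⋙ EtModW.pull Λ f) ∧ ∃ (Y : ARSys.PS (EtModW.Mod Λ X')) (v : Y ⟶ (F ⋙ EtModW.pull Λ f)), ARSys.IsAdic I Y ∧ (∀ n : ℕ, EtModW.IsConstructible Λ (Y.obj (op n))) ∧ ARSys.IsARIso v) := by
  obtain ⟨hk, Y, v, hY, hYc, hv⟩ := hF
  have hR : ∀ {P Q : EtModW.Mod Λ X'} (a : Λ) (φ : P ⟶ Q),
      (EtModW.push Λ f).map (a • φ) = a • (EtModW.push Λ f).map φ := fun a φ => rfl
  haveI : PreservesFiniteLimits (EtModW.pull Λ f) := Groth.Agent.S4333.lexPullMod Λ f
  haveI : PreservesColimitsOfSize.{0, 0} (EtModW.pull Λ f) :=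
    (EtSix.pullPushModAdj Λ f).leftAdjoint_preservesColimits
  haveI : PreservesFiniteColimits (EtModW.pull Λ f) :=
    PreservesColimitsOfSize.preservesFiniteColimits _
  refine ⟨termKilled_comp (EtSix.pullPushModAdj Λ f) hR hk, Y ⋙ EtModW.pull Λ f,
    Functor.whiskerRight v (EtModW.pull Λ f), isAdic_comp (EtSix.pullPushModAdj Λ f) hR hY,
    fun n => H9FE.ModCsPb.pullback_constructible Λ f _ (hYc n), isARIso_whisker _ hv⟩

end Aux

/-- Let f : X' → X be a morphism of Noetherian schemes, Λ a Noetherian ring, I an ideal of Λ and F =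
(F_n) an inverse system of constructible sheaves of Λ-modules on the small etale site of X which is
AR I-adic: I^(n+1) F_n = 0 for all n and F receives a morphism with kernel and cokernel null up to
translation from an I-adic system of constructible sheaves. Then the system of pullbacks (f^* F_n)_n
on X' is AR I-adic in the same sense. -/
theorem result
    (Λ : Type (u + 1)) [CommRing Λ] [IsNoetherianRing Λ] (I : Ideal Λ)
    {X X' : Scheme.{u}} [IsNoetherian X] [IsNoetherian X'] (f : X' ⟶ X)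
    (F : ARSys.PS (EtModW.Mod Λ X)) (hc : ∀ n : ℕ, EtModW.IsConstructible Λ (F.obj (op n)))
    (hF : (ARSys.TermKilled I F ∧ ∃ (Y : ARSys.PS (EtModW.Mod Λ X)) (v : Y ⟶ F), ARSys.IsAdic I Y ∧ (∀ n : ℕ, EtModW.IsConstructible Λ (Y.obj (op n))) ∧ ARSys.IsARIso v)) :
    (ARSys.TermKilled I (F ⋙ EtModW.pull Λ f) ∧ ∃ (Y : ARSys.PS (EtModW.Mod Λ X')) (v : Y ⟶ (F ⋙ EtModW.pull Λ f)), ARSys.IsAdic I Y ∧ (∀ n : ℕ, EtModW.IsConstructible Λ (Y.obj (op n))) ∧ ARSys.IsARIso v) := by
  exact Aux.main Λ I f F hc hF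

end Groth.Agent.S13614
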