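import Groth.Statements.S13615
import Mathlib
import Groth.Statements.S13615
import Groth.Agent.Lib.Helper9.FE.ARGlue
import Groth.Agent.S13614
-- import your own Groth.Agent.* helpers here

set_option autoImplicit false
open CategoryTheory CategoryTheory.Limits AlgebraicGeometry Opposite
universe u
open EtModW

namespace Groth.Agent.S13615

open CategoryTheory CategoryTheory.Limits AlgebraicGeometry Opposite
namespace Aux
set_option linter.style.haveILetI false
set_option linter.unusedSectionVars false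
set_option backward.isDefEq.respectTransparency false

open H9FE.ARCore H9FE.ARGlue

/-- the nilradical of `Y` is contained in the kernel of every morphism from a reduced scheme -/
lemma nilradical_le_ker {U Y : Scheme.{u}} [IsReduced U] (x : U ⟶ Y) :
    Y.nilradical ≤ x.ker := by
  unfold Scheme.Hom.ker
  rw [Scheme.IdealSheafData.le_ofIdeals_iff]
  intro V a ha
  have ha' : IsNilpotent a := by
    have : a ∈ (⊥ : Ideal Γ(Y, V.1)).radical := ha
    obtain ⟨n, hn⟩ := this
    exact ⟨n, Ideal.mem_bot.1 hn⟩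
  have h2 : IsNilpotent ((x.app V.1).hom a) := ha'.map _
  exact RingHom.mem_ker.2 h2.eq_zero

/-- a surjective closed immersion has kernel inside the nilradical -/
lemma ker_le_nilradical {S Y : Scheme.{u}} (e : S ⟶ Y) [QuasiCompact e]
    (hs : Function.Surjective e) :
    e.ker ≤ Y.nilradical := by
  rw [← Scheme.IdealSheafData.vanishingIdeal_top,
    ← Scheme.IdealSheafData.le_support_iff_le_vanishingIdeal]
  intro y _
  show y ∈ ((Scheme.Hom.ker e).support : Set Y)
  rw [Scheme.Hom.support_ker]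
  apply subset_closure
  exact hs y

/-- a morphism from a reduced scheme into the target of a surjective closed immersion factors
through it -/
lemma exists_lift {S Y U : Scheme.{u}} [IsReduced U] (e : S ⟶ Y) [IsClosedImmersion e]
    (hs : Function.Surjective e) (x : U ⟶ Y) : ∃ x' : U ⟶ S, x' ≫ e = x :=
  ⟨IsClosedImmersion.lift e x ((ker_le_nilradical e hs).trans (nilradical_le_ker x)),
    IsClosedImmersion.lift_fac _ _ _⟩

/-- geometric points in the image of a closed immersion lift -/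
lemma exists_lift_closed {A X : Scheme.{u}} (i : A ⟶ X) [IsClosedImmersion i] {Ω : Type u}
    [Field Ω] (ξ : Spec (CommRingCat.of Ω) ⟶ X) (a : A) (ha : i a = ξ default) :
    ∃ l : Spec (CommRingCat.of Ω) ⟶ A, l ≫ i = ξ := by
  obtain ⟨z, -, hz2⟩ := Scheme.Pullback.exists_preimage_pullback (f := i) (g := ξ) a default ha
  have hs : Function.Surjective (pullback.snd i ξ) := by
    intro y
    refine ⟨z, ?_⟩
    rw [hz2]
    exact Subsingleton.elim _ _
  obtain ⟨σ, hσ⟩ := exists_lift (pullback.snd i ξ) hs (𝟙 _)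
  refine ⟨σ ≫ pullback.fst i ξ, ?_⟩
  rw [Category.assoc, pullback.condition, ← Category.assoc, hσ, Category.id_comp]

theorem main (Λ : Type (u + 1)) [CommRing Λ] [IsNoetherianRing Λ] (I : Ideal Λ)
    {X A U : Scheme.{u}} [IsNoetherian X] (i : A ⟶ X) [IsClosedImmersion i] (j : U ⟶ X) [IsOpenImmersion j]
    (hAU : Set.range (fun a => i.base a) = (Set.range (fun t => j.base t))ᶜ)
    (F : ARSys.PS (EtModW.Mod Λ X)) (hc : ∀ n : ℕ, EtModW.IsConstructible Λ (F.obj (op n)))
    (hk : ARSys.TermKilled I F) :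
    (ARSys.TermKilled I F ∧ ∃ (Y : ARSys.PS (EtModW.Mod Λ X)) (v : Y ⟶ F), ARSys.IsAdic I Y ∧ (∀ n : ℕ, EtModW.IsConstructible Λ (Y.obj (op n))) ∧ ARSys.IsARIso v) ↔
      ((ARSys.TermKilled I (F ⋙ EtModW.pull Λ j) ∧ ∃ (Y : ARSys.PS (EtModW.Mod Λ U)) (v : Y ⟶ (F ⋙ EtModW.pull Λ j)), ARSys.IsAdic I Y ∧ (∀ n : ℕ, EtModW.IsConstructible Λ (Y.obj (op n))) ∧ ARSys.IsARIso v) ∧ (ARSys.TermKilled I (F ⋙ EtModW.pull Λ i) ∧ ∃ (Y : ARSys.PS (EtModW.Mod Λ A)) (v : Y ⟶ (F ⋙ EtModW.pull Λ i)), ARSys.IsAdic I Y ∧ (∀ n : ℕ, EtModW.IsConstructible Λ (Y.obj (op n))) ∧ ARSys.IsARIso v)) := by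
  constructor
  · intro hA
    haveI : IsNoetherian A :=
      { toIsLocallyNoetherian := LocallyOfFiniteType.isLocallyNoetherian i
        toCompactSpace := QuasiCompact.compactSpace_of_compactSpace i }
    haveI : TopologicalSpace.NoetherianSpace U := j.isOpenEmbedding.isInducing.noetherianSpace
    haveI : IsNoetherian U :=
      { toIsLocallyNoetherian := isLocallyNoetherian_of_isOpenImmersion j
        toCompactSpace := inferInstance }
    exact ⟨Groth.Agent.S13614.result Λ I j F hc hA, Groth.Agent.S13614.result Λ I i F hc hA⟩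
  · rintro ⟨⟨-, Yj, vj, hYj, -, ⟨a₁, ha₁⟩, ⟨a₂, ha₂⟩⟩, ⟨-, Yi, vi, hYi, -, ⟨b₁, hb₁⟩, ⟨b₂, hb₂⟩⟩⟩
    let r := max (max a₁ a₂) (max b₁ b₂)
    refine ⟨hk, glue Λ I F hc hk r (fun p => ?_)⟩
    by_cases hx : p.ξ default ∈ Set.range (fun t => j.base t)
    · obtain ⟨t, ht⟩ := hx
      obtain ⟨l, hl, -⟩ := Scheme.exists_fac_of_etale_of_isSepClosed j p.ξ t ht
      have d1 : HasDatum I ((F ⋙ EtModW.pull Λ j) ⋙ EtModW.stalk Λ l) r :=
        hasDatum_stalk Λ vj hYj
          (NullBy.mono ((le_max_left a₁ a₂).trans (le_max_left _ _)) ha₁)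
          (NullBy.mono ((le_max_right a₁ a₂).trans (le_max_left _ _)) ha₂) l
      have e : (F ⋙ EtModW.pull Λ j) ⋙ EtModW.stalk Λ l ≅ F ⋙ EtModW.stalk Λ (l ≫ j) :=
        Functor.isoWhiskerLeft F (stalkPullModIso Λ j l)
      have d2 := hasDatum_of_iso e d1
      rw [hl] at d2
      exact d2
    · have hx' : p.ξ default ∈ Set.range (fun a => i.base a) := by
        rw [hAU]; exact hx
      obtain ⟨a, ha⟩ := hx'
      obtain ⟨l, hl⟩ := exists_lift_closed i p.ξ a ha
      have d1 : HasDatum I ((F ⋙ EtModW.pull Λ i) ⋙ EtModW.stalk Λ l) r :=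
        hasDatum_stalk Λ vi hYi
          (NullBy.mono ((le_max_left b₁ b₂).trans (le_max_right _ _)) hb₁)
          (NullBy.mono ((le_max_right b₁ b₂).trans (le_max_right _ _)) hb₂) l
      have e : (F ⋙ EtModW.pull Λ i) ⋙ EtModW.stalk Λ l ≅ F ⋙ EtModW.stalk Λ (l ≫ i) :=
        Functor.isoWhiskerLeft F (stalkPullModIso Λ i l)
      have d2 := hasDatum_of_iso e d1
      rw [hl] at d2
      exact d2

end Aux

/-- Let X be a Noetherian scheme, i : A → X a closed immersion and j : U → X an open immersion whose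
images are complementary, Λ a Noetherian ring, I an ideal of Λ and F = (F_n) an inverse system of
constructible sheaves of Λ-modules on the small etale site of X with I^(n+1) F_n = 0 for all n. Then
F is AR I-adic (receives a morphism with kernel and cokernel null up to translation from an I-adic
system of constructible sheaves) if and only if both restricted systems (j^* F_n)_n on U and (i^*
F_n)_n on A are AR I-adic in the same sense. -/
theorem result
    (Λ : Type (u + 1)) [CommRing Λ] [IsNoetherianRing Λ] (I : Ideal Λ)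
    {X A U : Scheme.{u}} [IsNoetherian X] (i : A ⟶ X) [IsClosedImmersion i] (j : U ⟶ X) [IsOpenImmersion j]
    (hAU : Set.range (fun a => i.base a) = (Set.range (fun t => j.base t))ᶜ)
    (F : ARSys.PS (EtModW.Mod Λ X)) (hc : ∀ n : ℕ, EtModW.IsConstructible Λ (F.obj (op n)))
    (hk : ARSys.TermKilled I F) :
    (ARSys.TermKilled I F ∧ ∃ (Y : ARSys.PS (EtModW.Mod Λ X)) (v : Y ⟶ F), ARSys.IsAdic I Y ∧ (∀ n : ℕ, EtModW.IsConstructible Λ (Y.obj (op n))) ∧ ARSys.IsARIso v) ↔
      ((ARSys.TermKilled I (F ⋙ EtModW.pull Λ j) ∧ ∃ (Y : ARSys.PS (EtModW.Mod Λ U)) (v : Y ⟶ (F ⋙ EtModW.pull Λ j)), ARSys.IsAdic I Y ∧ (∀ n : ℕ, EtModW.IsConstructible Λ (Y.obj (op n))) ∧ ARSys.IsARIso v) ∧ (ARSys.TermKilled I (F ⋙ EtModW.pull Λ i) ∧ ∃ (Y : ARSys.PS (EtModW.Mod Λ A)) (v : Y ⟶ (F ⋙ EtModW.pull Λ i)), ARSys.IsAdic I Y ∧ (∀ n : ℕ, EtModW.IsConstructible Λ (Y.obj (op n))) ∧ ARSys.IsARIso v)) := by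
  exact Aux.main Λ I i j hAU F hc hk

end Groth.Agent.S13615
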