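import Groth.Statements.S13616
import Mathlib
import Groth.Statements.S13616
import Groth.Agent.Lib.Helper9.FE.ARGlue
import Groth.Agent.S13614
-- import your own Groth.Agent.* helpers here

set_option autoImplicit false
open CategoryTheory CategoryTheory.Limits AlgebraicGeometry Opposite
universe u
open EtModW

namespace Groth.Agent.S13616

open CategoryTheory CategoryTheory.Limits AlgebraicGeometry Opposite
namespace Aux
set_option linter.style.haveILetI false
set_option linter.unusedSectionVars false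
set_option backward.isDefEq.respectTransparency false

open H9FE.ARCore H9FE.ARGlue

theorem main (Λ : Type (u + 1)) [CommRing Λ] [IsNoetherianRing Λ] (I : Ideal Λ)
    {X : Scheme.{u}} [IsNoetherian X] {m : ℕ} (U : Fin m → Scheme.{u}) [∀ i, IsNoetherian (U i)]
    (g : ∀ i, U i ⟶ X) [∀ i, Etale (g i)]
    (hsurj : (⋃ i, Set.range (fun t => (g i).base t)) = Set.univ)
    (F : ARSys.PS (EtModW.Mod Λ X)) (hc : ∀ n : ℕ, EtModW.IsConstructible Λ (F.obj (op n)))
    (hk : ARSys.TermKilled I F) :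
    (ARSys.TermKilled I F ∧ ∃ (Y : ARSys.PS (EtModW.Mod Λ X)) (v : Y ⟶ F), ARSys.IsAdic I Y ∧ (∀ n : ℕ, EtModW.IsConstructible Λ (Y.obj (op n))) ∧ ARSys.IsARIso v) ↔ ∀ i : Fin m, (ARSys.TermKilled I (F ⋙ EtModW.pull Λ (g i)) ∧ ∃ (Y : ARSys.PS (EtModW.Mod Λ (U i))) (v : Y ⟶ (F ⋙ EtModW.pull Λ (g i))), ARSys.IsAdic I Y ∧ (∀ n : ℕ, EtModW.IsConstructible Λ (Y.obj (op n))) ∧ ARSys.IsARIso v) := by
  constructor
  · intro hA i
    exact Groth.Agent.S13614.result Λ I (g i) F hc hA
  · intro hB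
    have h1 : ∀ i, ∃ (r : ℕ) (Y : ARSys.PS (EtModW.Mod Λ (U i)))
        (v : Y ⟶ (F ⋙ EtModW.pull Λ (g i))), ARSys.IsAdic I Y ∧ NullBy r (kernel v) ∧
          NullBy r (cokernel v) := by
      intro i
      obtain ⟨-, Y, v, hY, -, ⟨r₁, h₁⟩, ⟨r₂, h₂⟩⟩ := hB i
      exact ⟨max r₁ r₂, Y, v, hY, NullBy.mono (le_max_left _ _) h₁,
        NullBy.mono (le_max_right _ _) h₂⟩
    choose rr Y v hY hK hC using h1
    have hr : ∀ i, rr i ≤ Finset.univ.sup rr := fun i => Finset.le_sup (Finset.mem_univ i)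
    refine ⟨hk, glue Λ I F hc hk (Finset.univ.sup rr) (fun p => ?_)⟩
    have hx : p.ξ default ∈ ⋃ i, Set.range (fun t => (g i).base t) := by
      rw [hsurj]; trivial
    obtain ⟨i, t, ht⟩ := Set.mem_iUnion.1 hx
    obtain ⟨l, hl, -⟩ := Scheme.exists_fac_of_etale_of_isSepClosed (g i) p.ξ t ht
    have d1 : HasDatum I ((F ⋙ EtModW.pull Λ (g i)) ⋙ EtModW.stalk Λ l) (rr i) :=
      hasDatum_stalk Λ (v i) (hY i) (hK i) (hC i) l
    have e : (F ⋙ EtModW.pull Λ (g i)) ⋙ EtModW.stalk Λ l ≅ F ⋙ EtModW.stalk Λ (l ≫ g i) :=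
      Functor.isoWhiskerLeft F (stalkPullModIso Λ (g i) l)
    have d2 := hasDatum_mono (hr i) (hasDatum_of_iso e d1)
    rw [hl] at d2
    exact d2

end Aux

/-- Let X be a Noetherian scheme, (g_i : U_i → X) a finite jointly surjective family of etale morphisms
with every U_i Noetherian (a finite etale covering of X by quasi-compact members), Λ a Noetherian
ring, I an ideal of Λ and F = (F_n) an inverse system of constructible sheaves of Λ-modules on the
small etale site of X with I^(n+1) F_n = 0 for all n. Then F is AR I-adic (receives a morphism with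
kernel and cokernel null up to translation from an I-adic system of constructible sheaves) if and
only if each pulled-back system (g_i^* F_n)_n on U_i is AR I-adic in the same sense. (The members of
the covering are taken Noetherian, the setting in which the criterion used by the argument applies.) -/
theorem result
    (Λ : Type (u + 1)) [CommRing Λ] [IsNoetherianRing Λ] (I : Ideal Λ)
    {X : Scheme.{u}} [IsNoetherian X] {m : ℕ} (U : Fin m → Scheme.{u}) [∀ i, IsNoetherian (U i)]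
    (g : ∀ i, U i ⟶ X) [∀ i, Etale (g i)]
    (hsurj : (⋃ i, Set.range (fun t => (g i).base t)) = Set.univ)
    (F : ARSys.PS (EtModW.Mod Λ X)) (hc : ∀ n : ℕ, EtModW.IsConstructible Λ (F.obj (op n)))
    (hk : ARSys.TermKilled I F) :
    (ARSys.TermKilled I F ∧ ∃ (Y : ARSys.PS (EtModW.Mod Λ X)) (v : Y ⟶ F), ARSys.IsAdic I Y ∧ (∀ n : ℕ, EtModW.IsConstructible Λ (Y.obj (op n))) ∧ ARSys.IsARIso v) ↔ ∀ i : Fin m, (ARSys.TermKilled I (F ⋙ EtModW.pull Λ (g i)) ∧ ∃ (Y : ARSys.PS (EtModW.Mod Λ (U i))) (v : Y ⟶ (F ⋙ EtModW.pull Λ (g i))), ARSys.IsAdic I Y ∧ (∀ n : ℕ, EtModW.IsConstructible Λ (Y.obj (op n))) ∧ ARSys.IsARIso v) := by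
  exact Aux.main Λ I U g hsurj F hc hk

end Groth.Agent.S13616
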