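import Groth.Statements.S13620
import Mathlib
import Groth.Statements.S13620
import Groth.Agent.Lib.Helper5.Misc.EtStalk
-- import your own Groth.Agent.* helpers here

set_option autoImplicit false
open CategoryTheory CategoryTheory.Limits AlgebraicGeometry Opposite
universe u
open EtModW

namespace Groth.Agent.S13620

open CategoryTheory CategoryTheory.Limits AlgebraicGeometry Opposite
open EtModW
namespace Aux
set_option linter.style.haveILetI false
set_option linter.unusedSectionVars false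
set_option backward.isDefEq.respectTransparency false

section Gen

universe w v₁ v₂ u₁ u₂

variable {A : Type w} [CommRing A] {C : Type u₁} [Category.{v₁} C] {D : Type u₂} [Category.{v₂} D]
  [Preadditive C] [Preadditive D] [Linear A C] [Linear A D]
  {L : C ⥤ D} {R : D ⥤ C} (adj : L ⊣ R) [L.Additive] [R.Additive]
  (hR : ∀ {X Y : D} (a : A) (φ : X ⟶ Y), R.map (a • φ) = a • R.map φ)

include adj hR in
lemma L_map_smul {X Y : C} (a : A) (φ : X ⟶ Y) : L.map (a • φ) = a • L.map φ := by
  apply (adj.homEquiv X (L.obj Y)).injective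
  rw [adj.homEquiv_unit, adj.homEquiv_unit, hR, Linear.comp_smul]
  have h1 : adj.unit.app X ≫ R.map (L.map (a • φ)) = (a • φ) ≫ adj.unit.app Y :=
    (adj.unit.naturality (a • φ)).symm
  have h2 : adj.unit.app X ≫ R.map (L.map φ) = φ ≫ adj.unit.app Y :=
    (adj.unit.naturality φ).symm
  rw [h1, h2, Linear.smul_comp]

include adj hR in
lemma killedBy_map {I : Ideal A} {X : C} (h : ARSys.KilledBy I X) :
    ARSys.KilledBy I (L.obj X) := by
  intro a ha
  have h1 : (a • 𝟙 (L.obj X) : L.obj X ⟶ L.obj X) = L.map (a • 𝟙 X) := by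
    rw [L_map_smul adj hR, L.map_id]
  rw [h1, h a ha, L.map_zero]

include adj hR in
lemma isQuot_map {I : Ideal A} {X Q : C} {p : X ⟶ Q} (h : ARSys.IsQuot I p) :
    ARSys.IsQuot I (L.map p) := by
  refine ⟨killedBy_map adj hR h.1, ?_⟩
  intro Y' φ' hφ'
  have hφ : ARSys.HomKilledBy I (adj.homEquiv X Y' φ') := by
    intro a ha
    rw [adj.homEquiv_unit, ← Linear.comp_smul, ← hR, hφ' a ha, R.map_zero, comp_zero]
  obtain ⟨ψ, hψ, huniq⟩ := h.2 (R.obj Y') _ hφ
  refine ⟨(adj.homEquiv Q Y').symm ψ, ?_, ?_⟩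
  · apply (adj.homEquiv X Y').injective
    rw [adj.homEquiv_naturality_left, Equiv.apply_symm_apply]
    exact hψ
  · intro ψ' hψ'
    apply (adj.homEquiv Q Y').injective
    rw [Equiv.apply_symm_apply]
    apply huniq
    rw [← adj.homEquiv_naturality_left, hψ']

include adj hR in
lemma termKilled_comp {I : Ideal A} {X : ARSys.PS C} (h : ARSys.TermKilled I X) :
    ARSys.TermKilled I (X ⋙ L) :=
  fun n => killedBy_map adj hR (h n)

include adj hR in
lemma isAdic_comp {I : Ideal A} {X : ARSys.PS C} (h : ARSys.IsAdic I X) :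
    ARSys.IsAdic I (X ⋙ L) :=
  ⟨termKilled_comp adj hR h.1, fun n m hnm => isQuot_map adj hR (h.2 n m hnm)⟩

end Gen

section Null

universe v₁ v₂ u₁ u₂

variable {C : Type u₁} [Category.{v₁} C] {D : Type u₂} [Category.{v₂} D]

lemma isARNull_comp [HasZeroMorphisms C] [HasZeroMorphisms D] (L : C ⥤ D)
    [L.PreservesZeroMorphisms] {K : ARSys.PS C} (h : ARSys.IsARNull K) :
    ARSys.IsARNull (K ⋙ L) := by
  obtain ⟨r, hr⟩ := h
  refine ⟨r, fun n => ?_⟩
  have h1 : ARSys.shiftMap (K ⋙ L) r n = L.map (ARSys.shiftMap K r n) := rfl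
  rw [h1, hr n, L.map_zero]

lemma isARNull_of_iso [HasZeroMorphisms D] {X X' : ARSys.PS D} (e : X ≅ X')
    (h : ARSys.IsARNull X) : ARSys.IsARNull X' := by
  obtain ⟨r, hr⟩ := h
  refine ⟨r, fun n => ?_⟩
  have h1 := e.hom.naturality (homOfLE (Nat.le_add_right n r)).op
  have h2 : X.map (homOfLE (Nat.le_add_right n r)).op = 0 := hr n
  rw [h2, zero_comp] at h1
  have h3 : e.hom.app (op (n + r)) ≫ X'.map (homOfLE (Nat.le_add_right n r)).op = 0 := h1.symm
  have h4 : e.hom.app (op (n + r)) ≫ X'.map (homOfLE (Nat.le_add_right n r)).op =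
      e.hom.app (op (n + r)) ≫ 0 := by rw [h3, comp_zero]
  exact (cancel_epi (e.hom.app (op (n + r)))).1 h4

variable [Abelian C] [Abelian D] (L : C ⥤ D) [L.Additive] [PreservesFiniteLimits L]
  [PreservesFiniteColimits L]

instance : ((Functor.whiskeringRight ℕᵒᵖ C D).obj L).PreservesZeroMorphisms where
  map_zero X Y := by
    ext n
    exact L.map_zero _ _

lemma isARIso_whisker {X Y : ARSys.PS C} {v : X ⟶ Y} (h : ARSys.IsARIso v) :
    ARSys.IsARIso (Functor.whiskerRight v L) := by
  let W := (Functor.whiskeringRight ℕᵒᵖ C D).obj L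
  haveI : PreservesFiniteLimits W := ⟨fun J _ _ => inferInstance⟩
  haveI : PreservesFiniteColimits W := ⟨fun J _ _ => inferInstance⟩
  have e1 : W.obj (kernel v) ≅ kernel (W.map v) := PreservesKernel.iso W v
  have e2 : W.obj (cokernel v) ≅ cokernel (W.map v) := PreservesCokernel.iso W v
  exact ⟨isARNull_of_iso e1 (isARNull_comp L h.1), isARNull_of_iso e2 (isARNull_comp L h.2)⟩

end Null

section GenAdic

universe w v₁ u₁

variable {A : Type w} [CommRing A] {C : Type u₁} [Category.{v₁} C]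
  [Preadditive C] [Linear A C]

lemma hom_zero_of_pow {I : Ideal A} {X Q Z : C} {p : X ⟶ Q} (hp : ARSys.IsQuot I p)
    (hQ : IsZero Q) : ∀ (k : ℕ) (φ : X ⟶ Z), ARSys.HomKilledBy (I ^ k) φ → φ = 0
  | 0, φ, h => by
    have h1 := h 1 (by simp)
    rwa [one_smul] at h1
  | k + 1, φ, h => by
    apply hom_zero_of_pow hp hQ k φ
    intro b hb
    have h1 : ARSys.HomKilledBy I (b • φ) := by
      intro a ha
      rw [smul_smul]
      exact h (a * b) (by rw [pow_succ']; exact Ideal.mul_mem_mul ha hb)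
    obtain ⟨ψ, hψ, -⟩ := hp.2 Z (b • φ) h1
    rw [← hψ, hQ.eq_of_src ψ 0, comp_zero]

lemma epi_of_isQuot {I : Ideal A} {X Q : C} {p : X ⟶ Q} (hp : ARSys.IsQuot I p) : Epi p := by
  constructor
  intro Z a b hab
  have hk : ARSys.HomKilledBy I (p ≫ a) := by
    intro c hc
    have h1 : c • (p ≫ a) = p ≫ (c • 𝟙 Q) ≫ a := by
      rw [Linear.smul_comp, Linear.comp_smul, Category.id_comp]
    rw [h1, hp.1 c hc, zero_comp, comp_zero]
  obtain ⟨ψ, -, huniq⟩ := hp.2 Z (p ≫ a) hk
  rw [huniq a rfl, huniq b hab.symm]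

lemma isZero_of_adic {I : Ideal A} {Y : ARSys.PS C} (hY : ARSys.IsAdic I Y)
    (h0 : IsZero (Y.obj (op 0))) (n : ℕ) : IsZero (Y.obj (op n)) := by
  rw [IsZero.iff_id_eq_zero]
  have hq := hY.2 0 n (Nat.zero_le n)
  apply hom_zero_of_pow hq h0 (n + 1) (𝟙 _)
  intro b hb
  apply hY.1 n b
  simpa using hb

end GenAdic

section LimNull

universe v₂ u₂

variable {D : Type u₂} [Category.{v₂} D]

lemma isZero_limit_of_arNull [HasZeroMorphisms D] (K : ℕᵒᵖ ⥤ D) [HasLimit K]
    (h : ARSys.IsARNull K) : IsZero (limit K) := by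
  obtain ⟨r, hr⟩ := h
  rw [IsZero.iff_id_eq_zero]
  apply limit.hom_ext
  intro j
  have h1 : limit.π K (op (j.unop + r)) ≫ K.map (homOfLE (Nat.le_add_right j.unop r)).op =
      limit.π K j := limit.w K _
  have h2 : K.map (homOfLE (Nat.le_add_right j.unop r)).op = 0 := hr j.unop
  rw [Category.id_comp, zero_comp, ← h1, h2, comp_zero]

lemma isZero_limit_of_kernel_null [Abelian D] [HasLimitsOfShape ℕᵒᵖ D] {Y F : ℕᵒᵖ ⥤ D}
    (v : Y ⟶ F) (hK : ARSys.IsARNull (kernel v)) (hF : IsZero (limit F)) :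
    IsZero (limit Y) := by
  let L : (ℕᵒᵖ ⥤ D) ⥤ D := lim
  haveI : PreservesLimitsOfSize.{0, 0} L := constLimAdj.rightAdjoint_preservesLimits
  haveI : PreservesFiniteLimits L := PreservesLimitsOfSize.preservesFiniteLimits _
  have e : L.obj (kernel v) ≅ kernel (L.map v) := PreservesKernel.iso L v
  have hz : IsZero (kernel (L.map v)) := (isZero_limit_of_arNull _ hK).of_iso e.symm
  haveI : Mono (L.map v) := Preadditive.mono_of_isZero_kernel (L.map v) hz
  exact IsZero.of_mono (L.map v) hF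

end LimNull

section Stalk

variable (Λ : Type (u + 1)) [CommRing Λ]

theorem ab5u : AB5OfSize.{u, u} (ModuleCat.{u + 1} Λ) :=
  AB5OfSize_shrink.{u, u, u + 1, u + 1} (ModuleCat.{u + 1} Λ)

theorem pfcu : PreservesFilteredColimitsOfSize.{u, u} (forget (ModuleCat.{u + 1} Λ)) :=
  preservesFilteredColimitsOfSize_shrink.{u, u + 1, u, u + 1} _

theorem hasLimU : HasLimitsOfSize.{u, u} (ModuleCat.{u + 1} Λ) :=
  hasLimitsOfSizeShrink.{u, u, u + 1, u + 1} _

attribute [local instance] ab5u pfcu hasLimU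

open Groth.Agent.Lib.Helper5 in
lemma isZero_of_stalks_mod {X : Scheme.{u}} (H : EtModW.Mod Λ X)
    (h : ∀ g : EtStalk.GeomPt X,
      IsZero ((g.point.sheafFiber (A := ModuleCat.{u + 1} Λ)).obj H)) : IsZero H := by
  rw [IsZero.iff_id_eq_zero]
  ext U s
  apply PointDetect.eq_of_germs_sheaf (EtStalk.detects X) H
  intro g x
  haveI : Subsingleton ((g.point.sheafFiber (A := ModuleCat.{u + 1} Λ)).obj H) :=
    ModuleCat.subsingleton_of_isZero (h g)
  exact Subsingleton.elim (α := ((g.point.sheafFiber (A := ModuleCat.{u + 1} Λ)).obj H)) _ _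

theorem main [IsNoetherianRing Λ] (I : Ideal Λ)
    {X : Scheme.{u}} [IsNoetherian X]
    (F : ARSys.PS (EtModW.Mod Λ X))
    (hF : (ARSys.TermKilled I F ∧ ∃ (Y : ARSys.PS (EtModW.Mod Λ X)) (v : Y ⟶ F), ARSys.IsAdic I Y ∧ (∀ n : ℕ, EtModW.IsConstructible Λ (Y.obj (op n))) ∧ ARSys.IsARIso v)) :
    ARSys.IsARNull F ↔
      ∀ (Ω : Type u) [Field Ω] [IsSepClosed Ω] (x : Spec (CommRingCat.of Ω) ⟶ X),
        IsZero (limit (F ⋙ EtModW.stalk Λ x)) := by
  have hex : ∀ (Ω : Type u) [Field Ω] [IsSepClosed Ω] (x : Spec (CommRingCat.of Ω) ⟶ X),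
      PreservesFiniteLimits (EtModW.stalk Λ x) ∧ PreservesFiniteColimits (EtModW.stalk Λ x) ∧
      (EtModW.stalk Λ x).Additive := by
    intro Ω _ _ x
    haveI : PreservesFiniteLimits (EtModW.stalk Λ x) := inferInstance
    exact ⟨inferInstance, inferInstance, Functor.additive_of_preserves_binary_products _⟩
  constructor
  · intro hn Ω _ _ x
    obtain ⟨h1, h2, h3⟩ := hex Ω x
    exact isZero_limit_of_arNull _ (isARNull_comp (EtModW.stalk Λ x) hn)
  · intro hlim
    obtain ⟨hk, Y, v, hY, hYc, hv⟩ := hF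
    have h0 : IsZero (Y.obj (op 0)) := by
      apply isZero_of_stalks_mod
      intro g
      obtain ⟨h1, h2, h3⟩ := hex g.Ω g.ξ
      let L := EtModW.stalk Λ g.ξ
      have hv' := isARIso_whisker L hv
      have hz : IsZero (limit (Y ⋙ L)) :=
        isZero_limit_of_kernel_null (Functor.whiskerRight v L) hv'.1 (hlim g.Ω g.ξ)
      have hsurj : ∀ n, Function.Surjective ((Y ⋙ L).map (homOfLE (Nat.le_succ n)).op) := by
        intro n
        haveI : Epi (Y.map (homOfLE (Nat.le_succ n)).op) :=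
          epi_of_isQuot (hY.2 n (n + 1) (Nat.le_succ n))
        haveI : Epi ((Y ⋙ L).map (homOfLE (Nat.le_succ n)).op) := by
          show Epi (L.map (Y.map (homOfLE (Nat.le_succ n)).op))
          infer_instance
        exact (ModuleCat.epi_iff_surjective _).1 inferInstance
      have hs := Concrete.surjective_π_app_zero_of_surjective_map (limit.isLimit (Y ⋙ L)) hsurj
      haveI : Subsingleton (limit (Y ⋙ L) : ModuleCat.{u + 1} Λ) :=
        ModuleCat.subsingleton_of_isZero hz
      have hs' : Function.Surjective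
          (fun t : (limit (Y ⋙ L) : ModuleCat.{u + 1} Λ) => limit.π (Y ⋙ L) ⟨0⟩ t) := hs
      haveI : Subsingleton ((Y ⋙ L).obj ⟨0⟩) := hs'.subsingleton
      exact ModuleCat.isZero_of_subsingleton ((Y ⋙ L).obj ⟨0⟩)
    have hz : ∀ n, IsZero (Y.obj (op n)) := isZero_of_adic hY h0
    obtain rfl : v = 0 := by
      apply NatTrans.ext
      funext n
      exact (hz n.unop).eq_of_src _ _
    exact isARNull_of_iso cokernelZeroIsoTarget hv.2

end Stalk

end Aux

/-- For a Noetherian scheme X, a Noetherian coefficient ring Λ and an ideal I of Λ, let F = (F_n) be an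
inverse system of sheaves of Λ-modules on the small etale site of X which is AR I-adic (I^(n+1) F_n
= 0 for all n, and F receives a morphism with kernel and cokernel null up to translation from an
I-adic system of constructible sheaves). Then F is null up to translation if and only if for every
geometric point x of X the limit of the stalk system, lim_n F_n,x, is the zero module. (The
published lemma assumes Λ I-adically complete, which only its first assertion uses; this row states
the second assertion without it.) -/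
theorem result
    (Λ : Type (u + 1)) [CommRing Λ] [IsNoetherianRing Λ] (I : Ideal Λ)
    {X : Scheme.{u}} [IsNoetherian X]
    (F : ARSys.PS (EtModW.Mod Λ X))
    (hF : (ARSys.TermKilled I F ∧ ∃ (Y : ARSys.PS (EtModW.Mod Λ X)) (v : Y ⟶ F), ARSys.IsAdic I Y ∧ (∀ n : ℕ, EtModW.IsConstructible Λ (Y.obj (op n))) ∧ ARSys.IsARIso v)) :
    ARSys.IsARNull F ↔
      ∀ (Ω : Type u) [Field Ω] [IsSepClosed Ω] (x : Spec (CommRingCat.of Ω) ⟶ X),
        IsZero (limit (F ⋙ EtModW.stalk Λ x)) := by
  exact Aux.main Λ I F hF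

end Groth.Agent.S13620
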