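import Groth.Statements.S13627
import Mathlib

set_option autoImplicit false
universe u
open CategoryTheory CategoryTheory.Limits AlgebraicGeometry Opposite
open FBase

namespace Groth.Agent.S13627

section
open CategoryTheory CategoryTheory.Limits AlgebraicGeometry Opposite

theorem transfer
    (P : ∀ (k : Type u) [Field k] (Z : Scheme.{u}), (Z ⟶ Spec (CommRingCat.of k)) → Prop)
    (hiso : ∀ (k : Type u) [Field k] (Z Z' : Scheme.{u}) (e : Z ≅ Z') (g : Z' ⟶ Spec (CommRingCat.of k)),
      P k Z' g → P k Z (e.hom ≫ g))
    (hext : ∀ (k K : Type u) [Field k] [Field K] (i : k →+* K) (Z : Scheme.{u}) (g : Z ⟶ Spec (CommRingCat.of k)),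
      P k Z g → P K (pullback g (Spec.map (CommRingCat.ofHom i))) (pullback.snd g (Spec.map (CommRingCat.ofHom i))))
    {X T : Scheme.{u}} (f : X ⟶ T) {k K : Type u} [Field k] [Field K] (i : k →+* K)
    (τ : Spec (CommRingCat.of k) ⟶ T) (σ : Spec (CommRingCat.of K) ⟶ T)
    (hσ : σ = Spec.map (CommRingCat.ofHom i) ≫ τ) (hP : P k (pullback f τ) (pullback.snd f τ)) :
    P K (pullback f σ) (pullback.snd f σ) := by
  subst hσ
  have h1 := hext k K i _ _ hP
  have := hiso K _ _ (pullbackLeftPullbackSndIso f τ (Spec.map (CommRingCat.ofHom i))).symm _ h1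
  rwa [Iso.symm_hom, pullbackLeftPullbackSndIso_inv_snd_snd] at this

theorem main
    (P : ∀ (k : Type u) [Field k] (Z : Scheme.{u}), (Z ⟶ Spec (CommRingCat.of k)) → Prop)
    (hiso : ∀ (k : Type u) [Field k] (Z Z' : Scheme.{u}) (e : Z ≅ Z') (g : Z' ⟶ Spec (CommRingCat.of k)),
      P k Z' g → P k Z (e.hom ≫ g))
    (hext : ∀ (k K : Type u) [Field k] [Field K] (i : k →+* K) (Z : Scheme.{u}) (g : Z ⟶ Spec (CommRingCat.of k)),
      P k Z g → P K (pullback g (Spec.map (CommRingCat.ofHom i))) (pullback.snd g (Spec.map (CommRingCat.ofHom i))))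
    {X T : Scheme.{u}} (f : X ⟶ T) :
    (∀ (k : Type u) [Field k] [IsAlgClosed k] (σ : Spec (CommRingCat.of k) ⟶ T),
        P k (pullback f σ) (pullback.snd f σ)) ↔
      ∀ t : T, P (AlgebraicClosure ↥(T.residueField t))
        (pullback f (Spec.map (CommRingCat.ofHom (algebraMap ↥(T.residueField t) (AlgebraicClosure ↥(T.residueField t)))) ≫
          T.fromSpecResidueField t))
        (pullback.snd f (Spec.map (CommRingCat.ofHom (algebraMap ↥(T.residueField t) (AlgebraicClosure ↥(T.residueField t)))) ≫
          T.fromSpecResidueField t)) := by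
  constructor
  · intro H t
    exact H _ _
  · intro H k _ _ σ
    -- factor σ through the residue field
    have h1 : Spec.map (Scheme.descResidueField (Scheme.stalkClosedPointTo σ)) ≫
        T.fromSpecResidueField (σ (IsLocalRing.closedPoint k)) = σ :=
      Scheme.descResidueField_stalkClosedPointTo_fromSpecResidueField k T σ
    generalize Scheme.descResidueField (Scheme.stalkClosedPointTo σ) = φ at h1
    generalize σ (IsLocalRing.closedPoint k) = t at *
    letI : Algebra ↥(T.residueField t) k := φ.hom.toAlgebra
    let ψ : AlgebraicClosure ↥(T.residueField t) →ₐ[↥(T.residueField t)] k :=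
      IsAlgClosed.lift
    have hψ : (ψ : AlgebraicClosure ↥(T.residueField t) →+* k).comp
        (algebraMap ↥(T.residueField t) (AlgebraicClosure ↥(T.residueField t))) = φ.hom := by
      ext a
      exact ψ.commutes a
    refine transfer P hiso hext f (ψ : AlgebraicClosure ↥(T.residueField t) →+* k) _ σ ?_ (H t)
    rw [← h1, ← Category.assoc, ← Spec.map_comp, ← CommRingCat.ofHom_comp, hψ]
    rfl


end


/-- Let P be a property of schemes over fields, invariant under isomorphisms of schemes over the base
field and ascending along every field extension k → K (if Z over k has P then Z ×_k Spec K over K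
has P). For a morphism of schemes f : X → T, these conditions are equivalent: (1) for every
algebraically closed field k and every morphism Spec k → T the fibre X ×_T Spec k has P over k; (2)
for every point t of T the fibre of f over Spec of an algebraic closure of the residue field κ(t)
has P. (Fields are taken in the universe of the schemes. The published statement also treats a
morphism from an algebraic space X to a scheme T; this row treats morphisms of schemes.) -/
theorem result
    (P : ∀ (k : Type u) [Field k] (Z : Scheme.{u}), (Z ⟶ Spec (CommRingCat.of k)) → Prop)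
    (hiso : ∀ (k : Type u) [Field k] (Z Z' : Scheme.{u}) (e : Z ≅ Z') (g : Z' ⟶ Spec (CommRingCat.of k)),
      P k Z' g → P k Z (e.hom ≫ g))
    (hext : ∀ (k K : Type u) [Field k] [Field K] (i : k →+* K) (Z : Scheme.{u}) (g : Z ⟶ Spec (CommRingCat.of k)),
      P k Z g → P K (pullback g (Spec.map (CommRingCat.ofHom i))) (pullback.snd g (Spec.map (CommRingCat.ofHom i))))
    {X T : Scheme.{u}} (f : X ⟶ T) :
    (∀ (k : Type u) [Field k] [IsAlgClosed k] (σ : Spec (CommRingCat.of k) ⟶ T),
        P k (pullback f σ) (pullback.snd f σ)) ↔
      ∀ t : T, P (AlgebraicClosure ↥(T.residueField t))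
        (pullback f (Spec.map (CommRingCat.ofHom (algebraMap ↥(T.residueField t) (AlgebraicClosure ↥(T.residueField t)))) ≫
          T.fromSpecResidueField t))
        (pullback.snd f (Spec.map (CommRingCat.ofHom (algebraMap ↥(T.residueField t) (AlgebraicClosure ↥(T.residueField t)))) ≫
          T.fromSpecResidueField t)) := by
  classical
  exact main P hiso hext f

end Groth.Agent.S13627
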