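import Groth.Statements.S13628
import Mathlib

set_option autoImplicit false
universe u
open CategoryTheory CategoryTheory.Limits AlgebraicGeometry Opposite
open FBase

namespace Groth.Agent.S13628

section
open CategoryTheory CategoryTheory.Limits AlgebraicGeometry Opposite

theorem main
    (P : ∀ (k : Type u) [Field k] (Z : Scheme.{u}), (Z ⟶ Spec (CommRingCat.of k)) → Prop)
    (hiso : ∀ (k : Type u) [Field k] (Z Z' : Scheme.{u}) (e : Z ≅ Z') (g : Z' ⟶ Spec (CommRingCat.of k)),
      P k Z' g → P k Z (e.hom ≫ g))
    (hext : ∀ (k K : Type u) [Field k] [Field K] (i : k →+* K) (Z : Scheme.{u}) (g : Z ⟶ Spec (CommRingCat.of k)),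
      P k Z g ↔ P K (pullback g (Spec.map (CommRingCat.ofHom i))) (pullback.snd g (Spec.map (CommRingCat.ofHom i))))
    {X T X' T' : Scheme.{u}} (f : X ⟶ T) (h : T' ⟶ T) [Surjective h] (f' : X' ⟶ T') (h' : X' ⟶ X)
    (sq : IsPullback h' f' f h)
    (H : ∀ (k : Type u) [Field k] [IsAlgClosed k] (σ' : Spec (CommRingCat.of k) ⟶ T'),
        P k (pullback f' σ') (pullback.snd f' σ'))
    (k : Type u) [Field k] [IsAlgClosed k] (σ : Spec (CommRingCat.of k) ⟶ T) :
    P k (pullback f σ) (pullback.snd f σ) := by
  -- a point of the fibre product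
  haveI : Surjective (pullback.snd h σ) := inferInstance
  obtain ⟨z, -⟩ := (pullback.snd h σ).surjective (IsLocalRing.closedPoint k)
  let K := AlgebraicClosure ↥((pullback h σ).residueField z)
  let ρ : Spec (CommRingCat.of K) ⟶ pullback h σ :=
    Spec.map (CommRingCat.ofHom (algebraMap ↥((pullback h σ).residueField z) K)) ≫
      (pullback h σ).fromSpecResidueField z
  obtain ⟨i, hi⟩ : ∃ i : k →+* K, ρ ≫ pullback.snd h σ = Spec.map (CommRingCat.ofHom i) :=
    ⟨(Spec.preimage (ρ ≫ pullback.snd h σ)).hom, by rw [CommRingCat.ofHom_hom, Spec.map_preimage]⟩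
  have hcond : (ρ ≫ pullback.fst h σ) ≫ h = Spec.map (CommRingCat.ofHom i) ≫ σ := by
    rw [Category.assoc, pullback.condition, ← Category.assoc, hi]
  have hK := H K (ρ ≫ pullback.fst h σ)
  -- two pullback squares over the same cospan
  have hB : IsPullback (pullback.fst f' (ρ ≫ pullback.fst h σ) ≫ h')
      (pullback.snd f' (ρ ≫ pullback.fst h σ)) f (Spec.map (CommRingCat.ofHom i) ≫ σ) := by
    have := ((IsPullback.of_hasPullback f' (ρ ≫ pullback.fst h σ)).flip.paste_vert sq.flip).flip
    rwa [hcond] at this
  have hA : IsPullback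
      (pullback.fst (pullback.snd f σ) (Spec.map (CommRingCat.ofHom i)) ≫ pullback.fst f σ)
      (pullback.snd (pullback.snd f σ) (Spec.map (CommRingCat.ofHom i))) f
      (Spec.map (CommRingCat.ofHom i) ≫ σ) :=
    ((IsPullback.of_hasPullback (pullback.snd f σ) (Spec.map (CommRingCat.ofHom i))).flip.paste_vert
      (IsPullback.of_hasPullback f σ).flip).flip
  have h2 := hiso K _ _ (hA.isoIsPullback _ _ hB) _ hK
  rw [IsPullback.isoIsPullback_hom_snd] at h2
  exact (hext k K i _ _).mpr h2


end


/-- Let P be a property of schemes over fields, invariant under isomorphisms of schemes over the base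
field and invariant in both directions under every field extension k → K (Z over k has P if and only
if Z ×_k Spec K over K has P). Let f : X → T be a morphism of schemes, h : T' → T a surjective
morphism of schemes and f' : X' → T' a base change of f along h. If for every algebraically closed
field k and every Spec k → T' the fibre X' ×_{T'} Spec k has P, then for every algebraically closed
field k and every Spec k → T the fibre X ×_T Spec k has P. (Fields are taken in the universe of the
schemes. The published statement is that families of del Pezzo surfaces form a stack for the étale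
topology; this row is the step of its proof that descends the condition on geometric fibres along a
surjective base change, stated for any fibre property with the invariance above.) -/
theorem result
    (P : ∀ (k : Type u) [Field k] (Z : Scheme.{u}), (Z ⟶ Spec (CommRingCat.of k)) → Prop)
    (hiso : ∀ (k : Type u) [Field k] (Z Z' : Scheme.{u}) (e : Z ≅ Z') (g : Z' ⟶ Spec (CommRingCat.of k)),
      P k Z' g → P k Z (e.hom ≫ g))
    (hext : ∀ (k K : Type u) [Field k] [Field K] (i : k →+* K) (Z : Scheme.{u}) (g : Z ⟶ Spec (CommRingCat.of k)),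
      P k Z g ↔ P K (pullback g (Spec.map (CommRingCat.ofHom i))) (pullback.snd g (Spec.map (CommRingCat.ofHom i))))
    {X T X' T' : Scheme.{u}} (f : X ⟶ T) (h : T' ⟶ T) [Surjective h] (f' : X' ⟶ T') (h' : X' ⟶ X)
    (sq : IsPullback h' f' f h)
    (H : ∀ (k : Type u) [Field k] [IsAlgClosed k] (σ' : Spec (CommRingCat.of k) ⟶ T'),
        P k (pullback f' σ') (pullback.snd f' σ'))
    (k : Type u) [Field k] [IsAlgClosed k] (σ : Spec (CommRingCat.of k) ⟶ T) :
    P k (pullback f σ) (pullback.snd f σ) := by
  classical
  exact main P hiso hext f h f' h' sq H k σ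

end Groth.Agent.S13628
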