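import Groth.Statements.S13631
import Mathlib

set_option autoImplicit false
universe u v w
open CAlg

namespace Groth.Agent.S13631

section


theorem main
    {k : Type u} {R : Type v} {M : Type w} [Field k] [CommRing R] [IsDomain R] [Algebra k R]
    (hR : ¬ Module.Finite k R)
    [AddCommGroup M] [Module R M] [Module k M] [IsScalarTower k R M]
    [Module.Finite R M] [Module.Free R M]
    (σ : R ≃+* R)
    (hσ : ∀ x : k, ∃ y : k, σ (algebraMap k R x) = algebraMap k R y)
    (hσ' : ∀ y : k, ∃ x : k, σ (algebraMap k R x) = algebraMap k R y)
    (φ : M →ₛₗ[(σ : R →+* R)] M)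
    (hcoker : ∃ N : Submodule k M, N.FG ∧ ∀ m : M, ∃ n ∈ N, ∃ m' : M, m = n + φ m') :
    Function.Injective φ := by
  classical
  let ι := Module.Free.ChooseBasisIndex R M
  let b : Module.Basis ι R M := Module.Free.chooseBasis R M
  let A : Matrix ι ι R := fun i j => b.repr (φ (b j)) i
  -- coordinates of φ x
  have hcoord : ∀ x : M, ∀ i, b.repr (φ x) i = ∑ j, A i j * σ (b.repr x j) := by
    intro x i
    have hx : x = ∑ j, b.repr x j • b j := (b.sum_repr x).symm
    conv_lhs => rw [hx]
    rw [map_sum, map_sum, Finset.sum_apply']
    apply Finset.sum_congr rfl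
    intro j _
    rw [LinearMap.map_smulₛₗ, map_smul]
    simp [A, mul_comm]
  by_cases hdet : A.det = 0
  · exfalso
    obtain ⟨w, hw0, hw⟩ := Matrix.exists_vecMul_eq_zero_iff.2 hdet
    -- the functional
    let ℓ : M →ₗ[R] R := ∑ i, w i • b.coord i
    have hℓ : ∀ m : M, ℓ m = ∑ i, w i * b.repr m i := by
      intro m
      simp [ℓ, Module.Basis.coord_apply]
    have hℓφ : ∀ x : M, ℓ (φ x) = 0 := by
      intro x
      rw [hℓ]
      simp_rw [hcoord x, Finset.mul_sum]
      rw [Finset.sum_comm]
      apply Finset.sum_eq_zero
      intro j _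
      have : ∑ i, w i * A i j = 0 := by
        have := congrFun hw j
        simpa [Matrix.vecMul, dotProduct] using this
      calc ∑ i, w i * (A i j * σ (b.repr x j)) = (∑ i, w i * A i j) * σ (b.repr x j) := by
            rw [Finset.sum_mul]; apply Finset.sum_congr rfl; intro i _; ring
        _ = 0 := by rw [this, zero_mul]
    obtain ⟨N, hNfg, hN⟩ := hcoker
    obtain ⟨i₀, hi₀⟩ : ∃ i, w i ≠ 0 := by
      by_contra h
      push Not at h
      exact hw0 (funext h)
    let ℓk : M →ₗ[k] R := ℓ.restrictScalars k
    let P : Submodule k R := N.map ℓk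
    have hPfg : P.FG := hNfg.map ℓk
    have hPfin : Module.Finite k P := Module.Finite.iff_fg.2 hPfg
    have hrange : ∀ m : M, ℓ m ∈ P := by
      intro m
      obtain ⟨n, hn, m', rfl⟩ := hN m
      rw [map_add, hℓφ, add_zero]
      exact ⟨n, hn, rfl⟩
    have ha : ℓ (b i₀) = w i₀ := by
      rw [hℓ]
      simp [Module.Basis.repr_self, Finsupp.single_apply]
    -- the k-linear injection R → P
    let f : R →ₗ[k] P :=
      { toFun := fun r => ⟨ℓ (r • b i₀), hrange _⟩
        map_add' := by
          intro r s
          apply Subtype.ext
          simp [add_smul]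
        map_smul' := by
          intro c r
          apply Subtype.ext
          simp only [RingHom.id_apply, SetLike.val_smul]
          rw [smul_assoc]
          exact ℓk.map_smul c (r • b i₀) }
    have hf : Function.Injective f := by
      intro r s hrs
      have h1 := congrArg Subtype.val hrs
      simp only [f, LinearMap.coe_mk, AddHom.coe_mk, map_smul, ha, smul_eq_mul] at h1
      exact mul_right_cancel₀ hi₀ h1
    exact hR (Module.Finite.of_injective f hf)
  · -- injectivity
    rw [injective_iff_map_eq_zero]
    intro x hx
    have h1 : A.mulVec (fun j => σ (b.repr x j)) = 0 := by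
      funext i
      have := hcoord x i
      rw [hx] at this
      simp only [map_zero, Finsupp.coe_zero, Pi.zero_apply] at this
      simp only [Matrix.mulVec, dotProduct, Pi.zero_apply]
      exact this.symm
    have h2 := Matrix.eq_zero_of_mulVec_eq_zero hdet h1
    have h3 : b.repr x = 0 := by
      ext j
      have := congrFun h2 j
      simp only [Pi.zero_apply] at this
      have := (map_eq_zero_iff σ σ.injective).1 this
      simpa using this
    exact b.repr.map_eq_zero_iff.1 h3


end


/-- Let k be a field, R an integral domain which is a k-algebra of infinite dimension over k, M a finite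
free R-module, σ a ring automorphism of R mapping the image of k onto itself, and φ : M → M a
σ-semilinear map. If the cokernel of φ is finite-dimensional over k, in the sense that some finitely
generated k-subspace N of M satisfies M = N + φ(M), then φ is injective. -/
theorem result
    {k : Type u} {R : Type v} {M : Type w} [Field k] [CommRing R] [IsDomain R] [Algebra k R]
    (hR : ¬ Module.Finite k R)
    [AddCommGroup M] [Module R M] [Module k M] [IsScalarTower k R M]
    [Module.Finite R M] [Module.Free R M]
    (σ : R ≃+* R)
    (hσ : ∀ x : k, ∃ y : k, σ (algebraMap k R x) = algebraMap k R y)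
    (hσ' : ∀ y : k, ∃ x : k, σ (algebraMap k R x) = algebraMap k R y)
    (φ : M →ₛₗ[(σ : R →+* R)] M)
    (hcoker : ∃ N : Submodule k M, N.FG ∧ ∀ m : M, ∃ n ∈ N, ∃ m' : M, m = n + φ m') :
    Function.Injective φ := by
  classical
  exact main hR σ hσ hσ' φ hcoker

end Groth.Agent.S13631
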