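import Groth.Statements.S13634
import Groth.Agent.Lib.Helper2.Sch.MultSchLib


set_option autoImplicit false
universe u
open CategoryTheory CategoryTheory.Limits MonoidalCategory CartesianMonoidalCategory MonObj AlgebraicGeometry
open MultSch

namespace Groth.Agent.S13634

/-- Let π : M → M'' be a homomorphism of commutative group schemes over a scheme S which is an
epimorphism of fppf sheaves, H a commutative group scheme over S and φ : (M'')^r → H a multilinear
morphism. If the composite of φ with π^r : M^r → (M'')^r is alternating, then φ is alternating. (The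
published statement is for module schemes over a ring R and an R-multilinear φ; the ring action
plays no role, so this row states it for commutative group schemes, which contains that case.) -/
theorem result
    {S : Scheme.{u}} {M M'' H : Over S}
    [GrpObj M] [IsCommMonObj M] [GrpObj M''] [IsCommMonObj M''] [GrpObj H] [IsCommMonObj H]
    (π : M ⟶ M'') [IsMonHom π] (hπ : Epi (CGrpSh.ptsMap Scheme.fppfPrecoverage π))
    {r : ℕ} (φ : MultSch.pow M'' r ⟶ H) (hφ : MultSch.IsMultilinear φ)
    (halt : ∀ (T : Over S) (x : Fin r → (T ⟶ M)) (i j : Fin r), i ≠ j → x i = x j →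
      MultSch.tuple (fun l => x l ≫ π) ≫ φ = 1) :
    MultSch.IsAlternating φ := by
  intro T x i j hij hxij
  obtain ⟨Sv, hSv, hlift⟩ := Groth.Agent.Helper2.MultSchLib.exists_sieve_lift_tuple
    Scheme.fppfPrecoverage π hπ x
  apply Groth.Agent.Helper2.QuotEffK.hom_ext_sieve Scheme.fppfPrecoverage Sv hSv
  intro T' t ht
  choose y hy using hlift t ht
  obtain ⟨y', hy'⟩ : ∃ y' : Fin r → (T' ⟶ M), y' = Function.update y j (y i) := ⟨_, rfl⟩
  have hy'π : (fun l => y' l ≫ π) = fun l => t ≫ x l := by
    funext l
    by_cases h : l = j
    · subst h
      rw [hy', Function.update_self, hy i, hxij]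
    · rw [hy', Function.update_of_ne h, hy l]
  have h1 := halt T' y' i j hij (by rw [hy', Function.update_self, Function.update_of_ne hij])
  rw [hy'π] at h1
  rw [MonObj.comp_one, ← Category.assoc, Groth.Agent.Helper2.MultSchLib.comp_tuple]
  exact h1

end Groth.Agent.S13634
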