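import Groth.Statements.S13682
import Mathlib

set_option autoImplicit false
universe u v w
open scoped BigOperators
open BTGrp

namespace Groth.Agent.S13682

section
open scoped BigOperators

section
variable {A : Type*} [CommRing A] {r : ℕ} {M : Fin r → Type*} {N : Type*}
  [∀ i, AddCommGroup (M i)] [∀ i, Module A (M i)] [AddCommGroup N] [Module A N]

theorem slot_eq_update (a b : ∀ i, M i) (i : Fin r) (v : M i) :
    (fun k => if k < i then a k else if h : k = i then h ▸ v else b k) =
      Function.update (fun k => if k < i then a k else b k) i v := by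
  funext k
  by_cases hk : k = i
  · subst hk
    simp
  · rw [Function.update_of_ne hk]
    simp [hk]

theorem telescope (φ : MultilinearMap A M N) (a b : ∀ i, M i) :
    ∑ i : Fin r, φ (Function.update (fun k => if k < i then a k else b k) i (a i - b i)) =
      φ a - φ b := by
  let h : ℕ → ∀ k : Fin r, M k := fun m k => if (k : ℕ) < m then a k else b k
  have h0 : h 0 = b := by
    funext k
    simp [h]
  have hr : h r = a := by
    funext k
    simp [h, k.2]
  have hterm : ∀ i : Fin r,
      φ (Function.update (fun k => if k < i then a k else b k) i (a i - b i)) =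
        φ (h (i + 1)) - φ (h i) := by
    intro i
    rw [MultilinearMap.map_update_sub]
    congr 1
    · congr 1
      funext k
      by_cases hk : k = i
      · subst hk
        simp [h]
      · rw [Function.update_of_ne hk]
        have hne : (k : ℕ) ≠ (i : ℕ) := fun e => hk (Fin.ext e)
        by_cases hlt : k < i
        · have : (k : ℕ) < i + 1 := by have := Fin.lt_def.1 hlt; omega
          simp [h, hlt, this]
        · have : ¬ (k : ℕ) < i + 1 := by
            have := Fin.lt_def.not.1 hlt
            omega
          simp [h, hlt, this]
    · congr 1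
      funext k
      by_cases hk : k = i
      · subst hk
        simp [h]
      · rw [Function.update_of_ne hk]
        rfl
  simp_rw [hterm]
  rw [Fin.sum_univ_eq_sum_range (fun m => φ (h (m + 1)) - φ (h m)) r,
    Finset.sum_range_sub (fun m => φ (h m)) r, h0, hr]


theorem slot_eq (a b c : ∀ i, M i) (i : Fin r) :
    (fun k => if k < i then a k else if k = i then c k else b k) =
      Function.update (fun k => if k < i then a k else b k) i (c i) := by
  funext k
  by_cases hk : k = i
  · subst hk
    simp
  · rw [Function.update_of_ne hk]
    simp [hk]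

theorem alpha_version (α : A) (φ : MultilinearMap A M N) (n : ℕ)
    (y w : ∀ i, ℕ → M i) (hw : ∀ i, ∀ j < n, w i (j + 1) = w i j + α • y i j) :
    α • (∑ i : Fin r, ∑ j ∈ Finset.range n,
        φ (fun k => if k < i then w k (j + 1) else if k = i then y k j else w k j)) =
      α • ∑ i : Fin r, ∑ j ∈ Finset.range n,
        φ (fun k => if k < i then w k n else if k = i then y k j else w k 0) := by
  have hdiff : ∀ i, ∀ j ∈ Finset.range n, α • y i j = w i (j + 1) - w i j := by
    intro i j hj
    rw [hw i j (Finset.mem_range.1 hj)]
    abel
  have hL : α • (∑ i : Fin r, ∑ j ∈ Finset.range n,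
        φ (fun k => if k < i then w k (j + 1) else if k = i then y k j else w k j)) =
      φ (fun k => w k n) - φ (fun k => w k 0) := by
    simp only [Finset.smul_sum]
    rw [Finset.sum_comm]
    · have : ∀ j ∈ Finset.range n, ∑ i : Fin r,
          α • φ (fun k => if k < i then w k (j + 1) else if k = i then y k j else w k j) =
          φ (fun k => w k (j + 1)) - φ (fun k => w k j) := by
        intro j hj
        rw [← telescope φ (fun k => w k (j + 1)) (fun k => w k j)]
        apply Finset.sum_congr rfl
        intro i _
        rw [slot_eq (fun k => w k (j + 1)) (fun k => w k j) (fun k => y k j) i,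
          ← MultilinearMap.map_update_smul, hdiff i j hj]
      rw [Finset.sum_congr rfl this, Finset.sum_range_sub (fun j => φ (fun k => w k j)) n]
  have hR : α • (∑ i : Fin r, ∑ j ∈ Finset.range n,
        φ (fun k => if k < i then w k n else if k = i then y k j else w k 0)) =
      φ (fun k => w k n) - φ (fun k => w k 0) := by
    rw [Finset.smul_sum, ← telescope φ (fun k => w k n) (fun k => w k 0)]
    apply Finset.sum_congr rfl
    intro i _
    rw [Finset.smul_sum]
    have : ∀ j ∈ Finset.range n,
        α • φ (fun k => if k < i then w k n else if k = i then y k j else w k 0) =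
        φ (Function.update (fun k => if k < i then w k n else w k 0) i (α • y i j)) := by
      intro j _
      rw [slot_eq (fun k => w k n) (fun k => w k 0) (fun k => y k j) i,
        ← MultilinearMap.map_update_smul]
    rw [Finset.sum_congr rfl this, ← MultilinearMap.map_update_sum,
      Finset.sum_congr rfl (hdiff i), Finset.sum_range_sub (fun j => w i j) n]
  rw [hL, hR]

end


set_option backward.isDefEq.respectTransparency false in
theorem main {A : Type u} [CommRing A] (α : A) (hα : α ∈ nonZeroDivisors A)
    {r : ℕ} (M : Fin r → Type v) (N : Type w) [∀ i, AddCommGroup (M i)] [∀ i, Module A (M i)]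
    [AddCommGroup N] [Module A N] (φ : MultilinearMap A M N) (n : ℕ)
    (y w : ∀ i, ℕ → M i) (hw : ∀ i, ∀ j < n, w i (j + 1) = w i j + α • y i j) :
    (∑ i : Fin r, ∑ j ∈ Finset.range n,
        φ (fun k => if k < i then w k (j + 1) else if k = i then y k j else w k j)) =
      ∑ i : Fin r, ∑ j ∈ Finset.range n,
        φ (fun k => if k < i then w k n else if k = i then y k j else w k 0) := by
  classical
  let F := ℕ →₀ A
  let Y : ℕ → F := fun j => Finsupp.single (j + 1) 1
  let W : ℕ → F := fun j => Finsupp.single 0 1 + α • ∑ l ∈ Finset.range j, Y l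
  have hW : ∀ j, W (j + 1) = W j + α • Y j := by
    intro j
    simp only [W, Finset.sum_range_succ, smul_add, add_assoc]
  let T := PiTensorProduct A (fun _ : Fin r => F)
  let τ : MultilinearMap A (fun _ : Fin r => F) T := PiTensorProduct.tprod A
  have huniv := alpha_version (M := fun _ : Fin r => F) (N := PiTensorProduct A (fun _ : Fin r => F))
    α (PiTensorProduct.tprod A) n (fun _ => Y) (fun _ => W) (fun _ j _ => hW j)
  have hcancel : ∀ x z : T, α • x = α • z → x = z := by
    intro x z hxz
    let b : Module.Basis (Fin r → ℕ) A T :=
      Basis.piTensorProduct (fun _ : Fin r => Finsupp.basisSingleOne (R := A) (ι := ℕ))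
    apply b.repr.injective
    ext p
    have h1 := congrArg (fun t => b.repr t p) hxz
    simp only [map_smul, Finsupp.smul_apply, smul_eq_mul] at h1
    exact (mul_cancel_left_mem_nonZeroDivisors hα).1 h1
  have heq := hcancel _ _ huniv
  let g : ∀ k : Fin r, F →ₗ[A] M k := fun k =>
    Finsupp.linearCombination A (fun m => if m = 0 then w k 0 else y k (m - 1))
  have hgY : ∀ k j, g k (Y j) = y k j := by
    intro k j
    change Finsupp.linearCombination A _ (Finsupp.single (j + 1) (1 : A)) = _
    rw [Finsupp.linearCombination_single, one_smul, if_neg (Nat.succ_ne_zero j),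
      Nat.add_sub_cancel]
  have hgW : ∀ k j, j ≤ n → g k (W j) = w k j := by
    intro k j
    induction j with
    | zero =>
      intro _
      change Finsupp.linearCombination A _ (Finsupp.single 0 (1 : A) +
        α • ∑ l ∈ Finset.range 0, Y l) = _
      rw [Finset.range_zero, Finset.sum_empty, smul_zero, add_zero,
        Finsupp.linearCombination_single, one_smul, if_pos rfl]
    | succ j ih =>
      intro hj
      rw [hW, map_add, map_smul, ih (by omega), hgY, hw k j (by omega)]
  let ℓ : T →ₗ[A] N := PiTensorProduct.lift (φ.compLinearMap g)
  have hℓ : ∀ v : Fin r → F, ℓ (τ v) = φ (fun k => g k (v k)) := by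
    intro v
    change PiTensorProduct.lift (φ.compLinearMap g) (PiTensorProduct.tprod A v) = _
    rw [PiTensorProduct.lift.tprod]
    rfl
  have hLeq : ∀ i : Fin r, ∀ j ∈ Finset.range n,
      φ (fun k => if k < i then w k (j + 1) else if k = i then y k j else w k j) =
        ℓ (τ (fun k => if k < i then W (j + 1) else if k = i then Y j else W j)) := by
    intro i j hj
    have hjn : j < n := Finset.mem_range.1 hj
    rw [hℓ]
    congr 1
    funext k
    split_ifs
    · exact (hgW k (j + 1) (by omega)).symm
    · exact (hgY k j).symm
    · exact (hgW k j (by omega)).symm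
  have hReq : ∀ i : Fin r, ∀ j ∈ Finset.range n,
      φ (fun k => if k < i then w k n else if k = i then y k j else w k 0) =
        ℓ (τ (fun k => if k < i then W n else if k = i then Y j else W 0)) := by
    intro i j hj
    rw [hℓ]
    congr 1
    funext k
    split_ifs
    · exact (hgW k n le_rfl).symm
    · exact (hgY k j).symm
    · exact (hgW k 0 (by omega)).symm
  rw [Finset.sum_congr rfl (fun i _ => Finset.sum_congr rfl (hLeq i)),
    Finset.sum_congr rfl (fun i _ => Finset.sum_congr rfl (hReq i))]
  simp only [← map_sum]
  exact congrArg ℓ heq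


end


/-- Let A be a commutative ring, α ∈ A a non-zero-divisor, M_1, …, M_r and N modules over A and φ : M_1
× ⋯ × M_r → N an A-multilinear map. Let n be a natural number and let y_{i,j} (j < n) and w_{i,j} (j
≤ n) be elements of M_i with w_{i,j+1} = w_{i,j} + α y_{i,j} for all i and all j < n. Then Σ_i
Σ_{j<n} φ(w_{1,j+1}, …, w_{i-1,j+1}, y_{i,j}, w_{i+1,j}, …, w_{r,j}) = Σ_i Σ_{j<n} φ(w_{1,n}, …,
w_{i-1,n}, y_{i,j}, w_{i+1,0}, …, w_{r,0}). (The published statement takes n ≥ 1; for n = 0 both
sides are empty sums. The families y, w are indexed by all natural numbers here and only the indices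
named above enter.) -/
theorem result {A : Type u} [CommRing A] (α : A) (hα : α ∈ nonZeroDivisors A)
    {r : ℕ} (M : Fin r → Type v) (N : Type w) [∀ i, AddCommGroup (M i)] [∀ i, Module A (M i)]
    [AddCommGroup N] [Module A N] (φ : MultilinearMap A M N) (n : ℕ)
    (y w : ∀ i, ℕ → M i) (hw : ∀ i, ∀ j < n, w i (j + 1) = w i j + α • y i j) :
    (∑ i : Fin r, ∑ j ∈ Finset.range n,
        φ (fun k => if k < i then w k (j + 1) else if k = i then y k j else w k j)) =
      ∑ i : Fin r, ∑ j ∈ Finset.range n,
        φ (fun k => if k < i then w k n else if k = i then y k j else w k 0) := by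
  classical
  exact main α hα M N φ n y w hw

end Groth.Agent.S13682
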