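import Groth.Statements.S13702
import Mathlib

set_option autoImplicit false
universe u
open ZeroCyc

namespace Groth.Agent.S13702

section


open Polynomial

theorem main {A : Type u} [CommRing A] [IsLocalRing A] (p : ℕ) [Fact p.Prime]
    [CharP (IsLocalRing.ResidueField A) p] (g : Polynomial A) (hg : g.Monic) (hsep : g.Separable)
    (s : ℕ) :
    ∃ b : Module.Basis (Fin g.natDegree) A (AdjoinRoot g),
      ∀ i : Fin g.natDegree, b i = AdjoinRoot.root g ^ (p ^ s * (i : ℕ)) := by
  classical
  obtain ⟨q, hq⟩ : ∃ q : ℕ, q = p ^ s := ⟨_, rfl⟩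
  rw [← hq]
  obtain ⟨e, he⟩ : ∃ e : Module.Basis (Fin g.natDegree) A (AdjoinRoot g),
      ∀ i, e i = AdjoinRoot.root g ^ (i : ℕ) :=
    ⟨(AdjoinRoot.powerBasis' hg).basis, fun i => (AdjoinRoot.powerBasis' hg).basis_eq_pow i⟩
  obtain ⟨v, hv⟩ : ∃ v : Fin g.natDegree → AdjoinRoot g,
      v = fun i : Fin g.natDegree => AdjoinRoot.root g ^ (q * (i : ℕ)) := ⟨_, rfl⟩
  suffices hdet : IsUnit (e.det v) by
    obtain ⟨hli, hsp⟩ := (Module.Basis.is_basis_iff_det e).mpr hdet
    refine ⟨Module.Basis.mk hli hsp.ge, fun i => ?_⟩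
    rw [Module.Basis.coe_mk, hv]
  -- the residue field and its algebraic closure
  let k := IsLocalRing.ResidueField A
  let Ω := AlgebraicClosure k
  let φ : A →+* Ω := (algebraMap k Ω).comp (IsLocalRing.residue A)
  haveI : CharP Ω p := charP_of_injective_algebraMap (algebraMap k Ω).injective p
  suffices hne : φ (e.det v) ≠ 0 by
    rw [← IsLocalRing.notMem_maximalIdeal]
    intro hmem
    apply hne
    have : IsLocalRing.residue A (e.det v) = 0 := (IsLocalRing.residue_eq_zero_iff _).mpr hmem
    simp [φ, this]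
  -- roots
  have hsep' : (g.map φ).Separable := hsep.map
  have hmonic' : (g.map φ).Monic := hg.map φ
  have hcard : (g.map φ).roots.card = g.natDegree := by
    rw [← hg.natDegree_map φ]
    exact (Polynomial.splits_iff_card_roots).mp (IsAlgClosed.splits _)
  have hnodup : (g.map φ).roots.Nodup := Polynomial.nodup_roots hsep'
  have hcard' : (g.map φ).roots.toFinset.card = g.natDegree := by
    rw [Multiset.toFinset_card_of_nodup hnodup, hcard]
  let E := Finset.equivFinOfCardEq hcard'
  obtain ⟨α, hα⟩ : ∃ α : Fin g.natDegree → Ω, α = fun l => ((E.symm l : _) : Ω) := ⟨_, rfl⟩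
  have hαinj : Function.Injective α := by
    rw [hα]
    exact Subtype.val_injective.comp E.symm.injective
  have hαroot : ∀ l, Polynomial.eval₂ φ (α l) g = 0 := by
    intro l
    rw [Polynomial.eval₂_eq_eval_map, hα]
    have : ((E.symm l : _) : Ω) ∈ (g.map φ).roots.toFinset := (E.symm l).2
    rw [Multiset.mem_toFinset] at this
    exact (Polynomial.mem_roots'.mp this).2
  -- evaluation homs
  let ev : Fin g.natDegree → (AdjoinRoot g →+* Ω) := fun l => AdjoinRoot.lift φ (α l) (hαroot l)
  have hev_root : ∀ l, ev l (AdjoinRoot.root g) = α l := fun l => AdjoinRoot.lift_root _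
  have hev_of : ∀ l a, ev l (algebraMap A (AdjoinRoot g) a) = φ a := fun l a =>
    AdjoinRoot.lift_of _
  have hmat : Matrix.vandermonde (fun l => α l ^ q) =
      Matrix.vandermonde α * (e.toMatrix v).map φ := by
    ext l i
    rw [Matrix.mul_apply]
    simp only [Matrix.vandermonde_apply, Matrix.map_apply]
    have h1 : v i = ∑ j, e.toMatrix v j i • e j := (e.sum_toMatrix_smul_self v i).symm
    have h2 := congrArg (ev l) h1
    have h3 : ev l (v i) = (α l ^ q) ^ (i : ℕ) := by
      rw [hv]
      simp only [map_pow, hev_root, pow_mul]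
    rw [h3] at h2
    rw [h2, map_sum]
    refine Finset.sum_congr rfl fun j _ => ?_
    rw [Algebra.smul_def, map_mul, hev_of, he, map_pow, hev_root, mul_comm]
  have hqinj : Function.Injective (fun l => α l ^ q) := by
    intro a b h
    apply hαinj
    have h' : α a ^ q = α b ^ q := h
    have h0 : (α a - α b) ^ q = 0 := by
      rw [hq, sub_pow_char_pow, ← hq, h', sub_self]
    exact sub_eq_zero.mp (pow_eq_zero_iff (by rw [hq]; exact pow_ne_zero _ (Fact.out : p.Prime).ne_zero) |>.mp h0)
  have hdet' : (Matrix.vandermonde fun l => α l ^ q).det =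
      (Matrix.vandermonde α).det * φ (e.det v) := by
    rw [hmat, Matrix.det_mul, Module.Basis.det_apply, RingHom.map_det]
    rfl
  have hne1 : (Matrix.vandermonde fun l => α l ^ q).det ≠ 0 :=
    Matrix.det_vandermonde_ne_zero_iff.mpr hqinj
  intro h0
  rw [hdet', h0, mul_zero] at hne1
  exact hne1 rfl


end


/-- Let A be a local ring with residue field of characteristic p > 0, let g ∈ A[X] be monic and
separable of degree n, so that A' = A[X]/(g) is an étale A-algebra, and let q = p^s with s ≥ 0. Then
the powers 1, t^q, t^{2q}, …, t^{(n-1)q} of the class t of X form a basis of A' as an A-module. -/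
theorem result {A : Type u} [CommRing A] [IsLocalRing A] (p : ℕ) [Fact p.Prime]
    [CharP (IsLocalRing.ResidueField A) p] (g : Polynomial A) (hg : g.Monic) (hsep : g.Separable) (s : ℕ) :
    ∃ b : Module.Basis (Fin g.natDegree) A (AdjoinRoot g),
      ∀ i : Fin g.natDegree, b i = AdjoinRoot.root g ^ (p ^ s * (i : ℕ)) := by
  classical
  exact main p g hg hsep s

end Groth.Agent.S13702
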