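import Groth.Statements.S13708
-- import your own Groth.Agent.* helpers here

set_option autoImplicit false
universe u
open CategoryTheory CategoryTheory.Limits AlgebraicGeometry
open ZeroCyc

namespace Groth.Agent.S13708

/-- Let X be a scheme over S such that every finite set of points of X over a common point of S lies in
some affine open subscheme of X (the condition (AF)). Then X is separated over S. (The published
condition (AF) asks for an open U with U → S quasi-affine rather than U affine; with U affine, as
here, the same argument applies verbatim, and the two conditions agree over a quasi-separated base.) -/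
theorem result {X S : Scheme.{u}} (f : X ⟶ S) (hX : SymProd.IsAF f) :
    IsSeparated f := by
  constructor
  refine IsZariskiLocalAtTarget.of_forall_exists_morphismRestrict (P := @IsClosedImmersion) ?_
  intro z
  -- the two projections of z
  set x1 := (pullback.fst f f).base z with hx1
  set x2 := (pullback.snd f f).base z with hx2
  have h12 : f.base x2 = f.base x1 := by
    rw [hx1, hx2, ← Scheme.Hom.comp_apply, ← Scheme.Hom.comp_apply, pullback.condition]
  classical
  obtain ⟨U, hU, hUT⟩ := hX (f.base x1) {x1, x2} (by
    intro x hx
    rcases Finset.mem_insert.mp hx with h | h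
    · rw [h]
    · rw [Finset.mem_singleton.mp h, h12])
  have hx1U : x1 ∈ U := hUT x1 (by simp)
  have hx2U : x2 ∈ U := hUT x2 (by simp)
  have hUaff : IsAffine U.toScheme := hU
  let j : pullback (U.ι ≫ f) (U.ι ≫ f) ⟶ pullback f f :=
    pullback.map (U.ι ≫ f) (U.ι ≫ f) f f U.ι U.ι (𝟙 S) (Category.comp_id _) (Category.comp_id _)
  have hj : IsOpenImmersion j := inferInstance
  refine ⟨j.opensRange, ?_, ?_⟩
  · change z ∈ Set.range j
    rw [Scheme.Pullback.range_map]
    refine ⟨?_, ?_⟩
    · change x1 ∈ Set.range U.ι
      rw [Scheme.Opens.range_ι]; exact hx1U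
    · change x2 ∈ Set.range U.ι
      rw [Scheme.Opens.range_ι]; exact hx2U
  · rw [MorphismProperty.arrow_mk_iso_iff (P := @IsClosedImmersion)
      (morphismRestrictOpensRange (pullback.diagonal f) j)]
    have sq := pullback_map_diagonal_isPullback U.ι U.ι f
    change IsClosedImmersion (pullback.snd (pullback.diagonal f) j)
    have e1 : pullback.snd (pullback.diagonal f) j = sq.isoPullback.inv ≫
        pullback.map U.ι U.ι (U.ι ≫ f) (U.ι ≫ f) (𝟙 _) (𝟙 _) f (Category.id_comp _).symm
          (Category.id_comp _).symm := by
      rw [Iso.eq_inv_comp]; exact sq.isoPullback_hom_snd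
    have e2 : pullback.map U.ι U.ι (U.ι ≫ f) (U.ι ≫ f) (𝟙 _) (𝟙 _) f (Category.id_comp _).symm
          (Category.id_comp _).symm = pullback.fst U.ι U.ι ≫ pullback.diagonal (U.ι ≫ f) := by
      apply pullback.hom_ext
      · simp only [pullback.map, pullback.lift_fst, Category.assoc, pullback.diagonal_fst,
          Category.comp_id]
      · have : pullback.fst U.ι U.ι = pullback.snd U.ι U.ι := by
          rw [← cancel_mono U.ι, pullback.condition]
        simp only [pullback.map, pullback.lift_snd, Category.assoc, pullback.diagonal_snd,
          Category.comp_id, this]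
    have hb : IsClosedImmersion (pullback.map U.ι U.ι (U.ι ≫ f) (U.ι ≫ f) (𝟙 _) (𝟙 _) f
        (Category.id_comp _).symm (Category.id_comp _).symm) := by
      rw [e2]; infer_instance
    rw [e1]
    infer_instance

end Groth.Agent.S13708
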