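import Groth.Statements.S13724
import Groth.Agent.Lib.Helper6.ZC.Semilocal

set_option autoImplicit false
universe u
open scoped TensorProduct
open ZeroCyc

namespace Groth.Agent.S13724

/-- Let A be a commutative ring with finitely many maximal ideals, B a commutative A-algebra and F : B →
A a multiplicative polynomial law homogeneous of degree d. Then B/ker F, the coordinate ring of the
image of the family of zero-cycles defined by F, has finitely many maximal ideals. -/
theorem result {A : Type u} [CommRing A] [Finite (MaximalSpectrum A)] {B : Type u} [CommRing B] [Algebra A B]
    {d : ℕ} (F : PolLaw.MulLaw A B A d) :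
    Finite (MaximalSpectrum (PolLaw.image F.law)) := by
  exact Groth.Agent.Lib.Helper6.ZC.finite_maximalSpectrum_image F

end Groth.Agent.S13724
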