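import Groth.Statements.S13726
import Mathlib

set_option autoImplicit false
universe u
open scoped TensorProduct
open ZeroCyc

namespace Groth.Agent.S13726

open scoped TensorProduct

namespace H13726
set_option linter.unusedSectionVars false
open MvPolynomial

section
variable {k : Type u} [Field k] (p : ℕ) [Fact p.Prime] [CharP k p]

/-- `b ∈ ker (x ↦ x^p)` iff `b^p = 0`, for an algebra over a field of characteristic `p` -/
theorem mem_ker_pow_iff (A : Type u) [CommRing A] [Algebra k A] (b : A) :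
    b ∈ PolLaw.ker (PolLaw.MulLaw.pow A A p).law ↔ b ^ p = 0 := by
  have hp : p.Prime := Fact.out
  constructor
  · intro hb
    have h := hb A 0 1
    change (0 + 1 * ((1 : A) ⊗ₜ[A] b)) ^ p = (0 : A ⊗[A] A) ^ p at h
    rw [zero_add, one_mul, zero_pow hp.ne_zero, Algebra.TensorProduct.tmul_pow, one_pow] at h
    have h2 := congrArg (TensorProduct.lid A A) h
    rw [TensorProduct.lid_tmul, map_zero, one_smul] at h2
    exact h2
  · intro hb S _ _ x w
    change (x + w * ((1 : S) ⊗ₜ[A] b)) ^ p = x ^ p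
    obtain ⟨r, hr⟩ := exists_add_pow_prime_eq hp x (w * ((1 : S) ⊗ₜ[A] b))
    rw [hr]
    have hp0 : ((p : ℕ) : S ⊗[A] A) = 0 := by
      have h1 : ((p : ℕ) : S ⊗[A] A) = algebraMap A (S ⊗[A] A) (p : A) := by
        rw [map_natCast]
      have h2 : ((p : ℕ) : A) = algebraMap k A (p : k) := by rw [map_natCast]
      rw [h1, h2, CharP.cast_eq_zero, map_zero, map_zero]
    rw [hp0, mul_pow, Algebra.TensorProduct.tmul_pow, one_pow, hb, TensorProduct.tmul_zero]
    simp

theorem pow_eq_zero_of_mem_span (A : Type u) [CommRing A] [Algebra k A] (S : Set A)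
    (hS : ∀ s ∈ S, s ^ p = 0) (b : A) (hb : b ∈ Ideal.span S) : b ^ p = 0 := by
  have hp : p.Prime := Fact.out
  have hp0 : ((p : ℕ) : A) = 0 := by
    have h2 : ((p : ℕ) : A) = algebraMap k A (p : k) := by rw [map_natCast]
    rw [h2, CharP.cast_eq_zero, map_zero]
  induction hb using Submodule.span_induction with
  | mem x hx => exact hS x hx
  | zero => exact zero_pow hp.ne_zero
  | add x y _ _ hx hy =>
    obtain ⟨r, hr⟩ := exists_add_pow_prime_eq hp x y
    rw [hr, hx, hy, hp0]; simp
  | smul a x _ hx => rw [smul_eq_mul, mul_pow, hx, mul_zero]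

noncomputable abbrev J : Ideal (MvPolynomial ℕ k) :=
  Ideal.span (Set.range fun i : ℕ => (MvPolynomial.X i : MvPolynomial ℕ k) ^ p)

theorem J_le_ker_constantCoeff : J (k := k) p ≤ RingHom.ker (constantCoeff : MvPolynomial ℕ k →+* k) := by
  have hp : p.Prime := Fact.out
  rw [J, Ideal.span_le]
  rintro _ ⟨i, rfl⟩
  simp only [SetLike.mem_coe, RingHom.mem_ker, map_pow, constantCoeff_X]
  exact zero_pow hp.ne_zero

theorem mem_span_X_of_constantCoeff (f : MvPolynomial ℕ k) (hf : constantCoeff f = 0) :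
    f ∈ Ideal.span (Set.range fun i : ℕ => (MvPolynomial.X i : MvPolynomial ℕ k)) := by
  have : (Set.range fun i : ℕ => (MvPolynomial.X i : MvPolynomial ℕ k)) = X '' Set.univ := by
    rw [Set.image_univ]
  rw [this, mem_ideal_span_X_image]
  intro m hm
  have hm0 : m ≠ 0 := by
    rintro rfl
    rw [mem_support_iff] at hm
    exact hm hf
  by_contra hcon
  push Not at hcon
  apply hm0
  ext i
  exact hcon i (Set.mem_univ i)

theorem part1 :
    PolLaw.ker (PolLaw.MulLaw.pow
        (MvPolynomial ℕ k ⧸ J (k := k) p) (MvPolynomial ℕ k ⧸ J (k := k) p) p).law =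
      (Ideal.span (Set.range fun i : ℕ => (MvPolynomial.X i : MvPolynomial ℕ k))).map
        (Ideal.Quotient.mk (J (k := k) p)) := by
  have hp : p.Prime := Fact.out
  ext b
  rw [mem_ker_pow_iff (k := k)]
  constructor
  · intro hb
    obtain ⟨f, rfl⟩ := Ideal.Quotient.mk_surjective b
    apply Ideal.mem_map_of_mem
    apply mem_span_X_of_constantCoeff
    have h1 : (Ideal.Quotient.lift (J (k := k) p) (constantCoeff : MvPolynomial ℕ k →+* k)
        (fun a ha => J_le_ker_constantCoeff p ha)) ((Ideal.Quotient.mk (J (k := k) p) f) ^ p) = 0 := by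
      rw [hb, map_zero]
    rw [map_pow, Ideal.Quotient.lift_mk] at h1
    exact (pow_eq_zero_iff hp.ne_zero).1 h1
  · intro hb
    rw [Ideal.map_span] at hb
    refine pow_eq_zero_of_mem_span (k := k) p _ _ ?_ b hb
    rintro _ ⟨_, ⟨i, rfl⟩, rfl⟩
    rw [← map_pow, Ideal.Quotient.eq_zero_iff_mem]
    exact Ideal.subset_span ⟨i, rfl⟩

theorem part2 : ¬ ((Ideal.span (Set.range fun i : ℕ => (MvPolynomial.X i : MvPolynomial ℕ k))).map
        (Ideal.Quotient.mk (J (k := k) p))).FG := by
  classical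
  have hp : p.Prime := Fact.out
  intro hfg
  rw [Ideal.map_span] at hfg
  obtain ⟨s', hs', hspan⟩ := (Submodule.fg_span_iff_fg_span_finset_subset _).1 hfg
  -- indices
  have hidx : ∀ x ∈ s', ∃ i : ℕ, x = Ideal.Quotient.mk (J (k := k) p) (X i) := by
    intro x hx
    obtain ⟨_, ⟨i, rfl⟩, rfl⟩ := hs' hx
    exact ⟨i, rfl⟩
  choose! idx hidx' using hidx
  set n := (s'.sup idx) + 1 with hn
  have hlt : ∀ x ∈ s', idx x < n := fun x hx => Nat.lt_succ_of_le (Finset.le_sup hx)
  -- X n in the span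
  have hXn : Ideal.Quotient.mk (J (k := k) p) (X n) ∈ Ideal.span
      (Ideal.Quotient.mk (J (k := k) p) '' (Set.range fun i : ℕ => (X i : MvPolynomial ℕ k))) :=
    Ideal.subset_span ⟨_, ⟨n, rfl⟩, rfl⟩
  have hspan' : Ideal.span (Ideal.Quotient.mk (J (k := k) p) ''
      (Set.range fun i : ℕ => (X i : MvPolynomial ℕ k))) = Ideal.span (s' : Set _) := hspan
  rw [hspan'] at hXn
  have hle : Ideal.span (s' : Set (MvPolynomial ℕ k ⧸ J (k := k) p)) ≤
      (Ideal.span ((fun i : ℕ => (X i : MvPolynomial ℕ k)) '' {i | i < n})).map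
        (Ideal.Quotient.mk (J (k := k) p)) := by
    rw [Ideal.span_le]
    intro x hx
    rw [hidx' x hx]
    apply Ideal.mem_map_of_mem
    exact Ideal.subset_span ⟨idx x, hlt x hx, rfl⟩
  have h3 := hle hXn
  rw [Ideal.mem_quotient_iff_mem_sup] at h3
  -- evaluate
  set φ : MvPolynomial ℕ k →ₐ[k] Polynomial k :=
    aeval (fun i => if i = n then Polynomial.X else 0) with hφ
  have h4 : φ (X n) ∈ Ideal.map φ (Ideal.span ((fun i : ℕ => (X i : MvPolynomial ℕ k)) '' {i | i < n})
      ⊔ J (k := k) p) := Ideal.mem_map_of_mem _ h3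
  have h5 : Ideal.map φ (Ideal.span ((fun i : ℕ => (X i : MvPolynomial ℕ k)) '' {i | i < n})
      ⊔ J (k := k) p) ≤ Ideal.span {(Polynomial.X : Polynomial k) ^ p} := by
    rw [Ideal.map_sup, sup_le_iff]
    constructor
    · rw [Ideal.map_span, Ideal.span_le]
      rintro _ ⟨_, ⟨i, hi, rfl⟩, rfl⟩
      have hi' : i ≠ n := ne_of_lt hi
      simp [hφ, hi']
    · rw [J, Ideal.map_span, Ideal.span_le]
      rintro _ ⟨_, ⟨i, rfl⟩, rfl⟩
      by_cases hi : i = n
      · simp only [hφ, map_pow, aeval_X, hi, if_true]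
        exact Ideal.subset_span rfl
      · simp [hφ, hi, zero_pow hp.ne_zero]
  have h6 := h5 h4
  simp only [hφ, aeval_X, if_true] at h6
  rw [Ideal.mem_span_singleton] at h6
  have h7 := Polynomial.natDegree_le_of_dvd h6 Polynomial.X_ne_zero
  rw [Polynomial.natDegree_X_pow, Polynomial.natDegree_X] at h7
  have := hp.two_le
  omega

theorem main :
    PolLaw.ker (PolLaw.MulLaw.pow
        (MvPolynomial ℕ k ⧸ Ideal.span (Set.range fun i : ℕ => (MvPolynomial.X i : MvPolynomial ℕ k) ^ p))
        (MvPolynomial ℕ k ⧸ Ideal.span (Set.range fun i : ℕ => (MvPolynomial.X i : MvPolynomial ℕ k) ^ p)) p).law =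
      (Ideal.span (Set.range fun i : ℕ => (MvPolynomial.X i : MvPolynomial ℕ k))).map
        (Ideal.Quotient.mk (Ideal.span (Set.range fun i : ℕ => (MvPolynomial.X i : MvPolynomial ℕ k) ^ p))) ∧
    ¬ (PolLaw.ker (PolLaw.MulLaw.pow
        (MvPolynomial ℕ k ⧸ Ideal.span (Set.range fun i : ℕ => (MvPolynomial.X i : MvPolynomial ℕ k) ^ p))
        (MvPolynomial ℕ k ⧸ Ideal.span (Set.range fun i : ℕ => (MvPolynomial.X i : MvPolynomial ℕ k) ^ p)) p).law).FG := by
  refine ⟨part1 p, ?_⟩
  rw [part1 p]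
  exact part2 p

end
end H13726

/-- Let k be a field of characteristic p > 0 and A = k[t_i : i ∈ ℕ]/(t_i^p : i ∈ ℕ). The law x ↦ x^p
from A to A is multiplicative and homogeneous of degree p over A; its kernel is the ideal generated
by the classes of the variables t_i, and this ideal is not finitely generated. Hence the image of a
family of zero-cycles need not be of finite presentation over the base even when X → S is. -/
theorem result {k : Type u} [Field k] (p : ℕ) [Fact p.Prime] [CharP k p] :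
    PolLaw.ker (PolLaw.MulLaw.pow
        (MvPolynomial ℕ k ⧸ Ideal.span (Set.range fun i : ℕ => (MvPolynomial.X i : MvPolynomial ℕ k) ^ p))
        (MvPolynomial ℕ k ⧸ Ideal.span (Set.range fun i : ℕ => (MvPolynomial.X i : MvPolynomial ℕ k) ^ p)) p).law =
      (Ideal.span (Set.range fun i : ℕ => (MvPolynomial.X i : MvPolynomial ℕ k))).map
        (Ideal.Quotient.mk (Ideal.span (Set.range fun i : ℕ => (MvPolynomial.X i : MvPolynomial ℕ k) ^ p))) ∧
    ¬ (PolLaw.ker (PolLaw.MulLaw.pow
        (MvPolynomial ℕ k ⧸ Ideal.span (Set.range fun i : ℕ => (MvPolynomial.X i : MvPolynomial ℕ k) ^ p))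
        (MvPolynomial ℕ k ⧸ Ideal.span (Set.range fun i : ℕ => (MvPolynomial.X i : MvPolynomial ℕ k) ^ p)) p).law).FG := by
  exact H13726.main p

end Groth.Agent.S13726
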