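import Groth.Statements.S13738
import Mathlib
import Groth.Prelude.Def_HTop
import Groth.Prelude.Def_SGA1
import Groth.Agent.Lib.Helper9.FE.FiberJoint
-- import your own Groth.Agent.* helpers here

set_option autoImplicit false
universe u
open SGA1

namespace Groth.Agent.S13738

open CategoryTheory CategoryTheory.Limits AlgebraicGeometry
namespace Aux
set_option backward.isDefEq.respectTransparency false
set_option linter.style.haveILetI false
set_option linter.unusedSectionVars false
open H9FE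

/-- geometric transitivity implies transitivity on the points of the fibres -/
theorem exists_smul_eq {X S : Scheme.{u}} (q : X ⟶ S) {G : Type u} [Group G]
    (ρ : G →* Aut X)
    (htrans : ∀ (Ω : Type u) [Field Ω] [IsAlgClosed Ω] (τ₁ τ₂ : Spec (CommRingCat.of Ω) ⟶ X),
      τ₁ ≫ q = τ₂ ≫ q → ∃ g : G, τ₁ ≫ (ρ g).hom = τ₂)
    (x₁ x₂ : X) (h : q x₁ = q x₂) : ∃ g : G, (ρ g).hom x₁ = x₂ := by
  obtain ⟨z, hz1, hz2⟩ := Scheme.Pullback.exists_preimage_pullback x₁ x₂ h
  obtain ⟨Ω, _, _, ζ, hζ⟩ := exists_geomPt (pullback q q) z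
  obtain ⟨g, hg⟩ := htrans Ω (ζ ≫ pullback.fst q q) (ζ ≫ pullback.snd q q) (by
    rw [Category.assoc, Category.assoc, pullback.condition])
  refine ⟨g, ?_⟩
  have := congrArg (fun m => m (default : PrimeSpectrum Ω)) hg
  simp only [Scheme.Hom.comp_apply, hζ, hz1, hz2] at this
  exact this

theorem main {X S : Scheme.{u}} [IrreducibleSpace ↥S] (q : X ⟶ S) [IsFinite q] [Surjective q]
    {G : Type u} [Group G] (ρ : G →* Aut X) (hρ : ∀ g : G, (ρ g).hom ≫ q = q)
    (htrans : ∀ (Ω : Type u) [Field Ω] [IsAlgClosed Ω] (τ₁ τ₂ : Spec (CommRingCat.of Ω) ⟶ X),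
      τ₁ ≫ q = τ₂ ≫ q → ∃ g : G, τ₁ ≫ (ρ g).hom = τ₂) :
    (∀ T ∈ irreducibleComponents ↥X, Set.image (fun x => q x) T = Set.univ) ∧
    ∀ T₁ ∈ irreducibleComponents ↥X, ∀ T₂ ∈ irreducibleComponents ↥X,
      ∃ g : G, Set.image (fun x => (ρ g).hom x) T₁ = T₂ := by
  let η : S := genericPoint S
  have hη : closure ({η} : Set S) = Set.univ := (genericPoint_spec S).def
  obtain ⟨x₀, hx₀⟩ := q.surjective η
  let T₀ : Set X := irreducibleComponent x₀
  have hT₀ : T₀ ∈ irreducibleComponents X := irreducibleComponent_mem_irreducibleComponents x₀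
  have hT₀cl : IsClosed T₀ := isClosed_of_mem_irreducibleComponents T₀ hT₀
  have hqT₀ : Set.image (fun x => q x) T₀ = Set.univ := by
    have hcl : IsClosed (Set.image (fun x => q x) T₀) := q.isClosedMap _ hT₀cl
    apply Set.eq_univ_of_univ_subset
    rw [← hη]
    apply hcl.closure_subset_iff.mpr
    rintro _ rfl
    exact ⟨x₀, mem_irreducibleComponent, hx₀⟩
  -- every component is a translate of `T₀`
  have key : ∀ T ∈ irreducibleComponents X, ∃ g : G, Set.image (fun x => (ρ g).hom x) T₀ = T := by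
    intro T hT
    have hTcl : IsClosed T := isClosed_of_mem_irreducibleComponents T hT
    obtain ⟨ξ, hξ⟩ := QuasiSober.sober hT.1 hTcl
    have : q ξ ∈ Set.image (fun x => q x) T₀ := by rw [hqT₀]; trivial
    obtain ⟨w, hw, hwq⟩ := this
    obtain ⟨g, hg⟩ := exists_smul_eq q ρ htrans w ξ hwq
    refine ⟨g, ?_⟩
    let T' : Set X := Set.image (fun x => (ρ g).hom x) T₀
    have hT'irr : IsIrreducible T' := hT₀.1.image _ (ρ g).hom.continuous.continuousOn
    have hT'cl : IsClosed T' := (ρ g).hom.isClosedMap _ hT₀cl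
    have hsub : T ⊆ T' := by
      rw [← hξ.def]
      apply hT'cl.closure_subset_iff.mpr
      rintro _ rfl
      exact ⟨w, hw, hg⟩
    exact (hT.2 hT'irr hsub).antisymm hsub |>.symm ▸ rfl
  constructor
  · intro T hT
    obtain ⟨g, rfl⟩ := key T hT
    rw [Set.image_image]
    have : (fun x => q ((ρ g).hom x)) = fun x => q x := by
      funext x
      rw [← Scheme.Hom.comp_apply, hρ g]
    rw [this, hqT₀]
  · intro T₁ hT₁ T₂ hT₂
    obtain ⟨g₁, rfl⟩ := key T₁ hT₁
    obtain ⟨g₂, rfl⟩ := key T₂ hT₂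
    refine ⟨g₂ * g₁⁻¹, ?_⟩
    rw [Set.image_image]
    congr 1
    funext x
    rw [← Scheme.Hom.comp_apply]
    have : (ρ g₁).hom ≫ (ρ (g₂ * g₁⁻¹)).hom = (ρ g₂).hom := by
      rw [map_mul, Aut.Aut_mul_def, Iso.trans_hom, ← Category.assoc, map_inv]
      have : (ρ g₁).hom ≫ ((ρ g₁)⁻¹).hom = 𝟙 X := (ρ g₁).hom_inv_id
      rw [this, Category.id_comp]
    rw [this]

end Aux

open CategoryTheory CategoryTheory.Limits AlgebraicGeometry in
/-- Let S be a separated irreducible Noetherian scheme, q : X → S finite and surjective with X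
separated, and G a finite group acting on X by S-automorphisms, transitively on the geometric points
of X over every geometric point of S. Then every irreducible component of X maps onto S and G acts
transitively on the set of irreducible components of X. -/
theorem result {X S : Scheme.{u}} [IsNoetherian S] [S.IsSeparated] [X.IsSeparated] [IrreducibleSpace ↥S] (q : X ⟶ S) [IsFinite q] [Surjective q] {G : Type u} [Group G] [Finite G] (ρ : G →* Aut X) (hρ : ∀ g : G, (ρ g).hom ≫ q = q) (htrans : ∀ (Ω : Type u) [Field Ω] [IsAlgClosed Ω] (τ₁ τ₂ : Spec (CommRingCat.of Ω) ⟶ X), τ₁ ≫ q = τ₂ ≫ q → ∃ g : G, τ₁ ≫ (ρ g).hom = τ₂) : (∀ T ∈ irreducibleComponents ↥X, Set.image (fun x => q x) T = Set.univ) ∧ ∀ T₁ ∈ irreducibleComponents ↥X, ∀ T₂ ∈ irreducibleComponents ↥X, ∃ g : G, Set.image (fun x => (ρ g).hom x) T₁ = T₂ := by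
  exact Aux.main q ρ hρ htrans

end Groth.Agent.S13738
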