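import Groth.Statements.S13739
import Mathlib
import Groth.Prelude.Def_HTop
import Groth.Prelude.Def_SGA1
import Groth.Agent.Lib.Helper9.FE.SigmaFinite
import Groth.Agent.Lib.Helper9.FE.FiberJoint
-- import your own Groth.Agent.* helpers here

set_option autoImplicit false
universe u
open SGA1

namespace Groth.Agent.S13739

open CategoryTheory CategoryTheory.Limits AlgebraicGeometry
namespace Aux
set_option backward.isDefEq.respectTransparency false
set_option linter.style.haveILetI false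
set_option linter.unusedSectionVars false
open H9FE

theorem main {X S Y : Scheme.{u}} (q : X ⟶ S) [IsFinite q] {G : Type u} [Group G] [Finite G]
    (ρ : G →* Aut X)
    (htrans : ∀ (Ω : Type u) [Field Ω] [IsAlgClosed Ω] (τ₁ τ₂ : Spec (CommRingCat.of Ω) ⟶ X),
      τ₁ ≫ q = τ₂ ≫ q → ∃ g : G, τ₁ ≫ (ρ g).hom = τ₂) (r : Y ⟶ X)
    (υ : (∐ fun _ : G => Y) ⟶ pullback (r ≫ q) q)
    (hυ₁ : ∀ σ : G, Sigma.ι (fun _ : G => Y) σ ≫ υ ≫ pullback.fst (r ≫ q) q = 𝟙 Y)
    (hυ₂ : ∀ σ : G, Sigma.ι (fun _ : G => Y) σ ≫ υ ≫ pullback.snd (r ≫ q) q = r ≫ (ρ σ).hom) :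
    IsFinite υ ∧ Surjective υ := by
  constructor
  · have h1 : υ = Sigma.desc (fun σ : G => Sigma.ι (fun _ : G => Y) σ ≫ υ) := by
      apply Sigma.hom_ext
      intro σ
      rw [Sigma.ι_desc]
    rw [h1]
    apply isFinite_sigmaDesc
    intro σ
    haveI : IsFinite ((Sigma.ι (fun _ : G => Y) σ ≫ υ) ≫ pullback.fst (r ≫ q) q) := by
      rw [Category.assoc, hυ₁ σ]
      infer_instance
    exact IsFinite.of_comp _ (pullback.fst (r ≫ q) q)
  · refine ⟨fun z => ?_⟩
    obtain ⟨Ω, _, _, ζ, hζ⟩ := exists_geomPt (pullback (r ≫ q) q) z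
    have hc : ((ζ ≫ pullback.fst (r ≫ q) q) ≫ r) ≫ q = (ζ ≫ pullback.snd (r ≫ q) q) ≫ q := by
      simp only [Category.assoc]
      rw [pullback.condition]
    obtain ⟨g, hg⟩ := htrans Ω _ _ hc
    have hz : ζ = (ζ ≫ pullback.fst (r ≫ q) q) ≫ Sigma.ι (fun _ : G => Y) g ≫ υ := by
      apply pullback.hom_ext
      · simp only [Category.assoc]
        rw [hυ₁ g, Category.comp_id]
      · simp only [Category.assoc]
        rw [hυ₂ g, ← hg]
        simp only [Category.assoc]
    refine ⟨(Sigma.ι (fun _ : G => Y) g) ((ζ ≫ pullback.fst (r ≫ q) q) (default : PrimeSpectrum Ω)), ?_⟩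
    rw [← hζ]
    conv_rhs => rw [hz]
    simp only [Scheme.Hom.comp_apply]

end Aux

open CategoryTheory CategoryTheory.Limits AlgebraicGeometry in
/-- Let S be a separated Noetherian scheme, q : X → S finite surjective with X separated, G a finite
group acting on X by S-automorphisms and transitively on the geometric points of X over every
geometric point of S, and r : Y → X a morphism with Y separated. If υ is the morphism from the
disjoint union of G copies of Y to Y ×_S X (Y over S through r ≫ q) whose σ-th component is (id_Y, r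
≫ σ), then υ is finite and surjective. -/
theorem result {X S Y : Scheme.{u}} [IsNoetherian S] [S.IsSeparated] [X.IsSeparated] [Y.IsSeparated] (q : X ⟶ S) [IsFinite q] [Surjective q] {G : Type u} [Group G] [Finite G] (ρ : G →* Aut X) (hρ : ∀ g : G, (ρ g).hom ≫ q = q) (htrans : ∀ (Ω : Type u) [Field Ω] [IsAlgClosed Ω] (τ₁ τ₂ : Spec (CommRingCat.of Ω) ⟶ X), τ₁ ≫ q = τ₂ ≫ q → ∃ g : G, τ₁ ≫ (ρ g).hom = τ₂) (r : Y ⟶ X) (υ : (∐ fun _ : G => Y) ⟶ pullback (r ≫ q) q) (hυ₁ : ∀ σ : G, Sigma.ι (fun _ : G => Y) σ ≫ υ ≫ pullback.fst (r ≫ q) q = 𝟙 Y) (hυ₂ : ∀ σ : G, Sigma.ι (fun _ : G => Y) σ ≫ υ ≫ pullback.snd (r ≫ q) q = r ≫ (ρ σ).hom) : IsFinite υ ∧ Surjective υ := by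
  exact Aux.main q ρ htrans r υ hυ₁ hυ₂

end Groth.Agent.S13739
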