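import Groth.Statements.S13740
import Mathlib
import Groth.Prelude.Def_HTop
import Groth.Prelude.Def_SGA1
import Groth.Agent.Lib.Helper9.FE.SigmaFinite
import Groth.Agent.Lib.Helper9.FE.FiberJoint
-- import your own Groth.Agent.* helpers here

set_option autoImplicit false
universe w u
open SGA1

namespace Groth.Agent.S13740

open SGA1
open CategoryTheory CategoryTheory.Limits AlgebraicGeometry
namespace Aux
set_option backward.isDefEq.respectTransparency false
set_option linter.style.haveILetI false
set_option linter.unusedSectionVars false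
open H9FE

theorem univSubmersive_of_finite_surjective {X Y : Scheme.{u}} (f : X ⟶ Y) [IsFinite f]
    [Surjective f] : SGA1.UnivSubmersive f := by
  intro X' Y' i₁ i₂ f' h
  have h1 : IsFinite f' := MorphismProperty.of_isPullback (P := @IsFinite) h.flip inferInstance
  have h2 : Surjective f' := MorphismProperty.of_isPullback (P := @Surjective) h.flip inferInstance
  exact IsClosedMap.isQuotientMap f'.isClosedMap f'.continuous f'.surjective

theorem surjective_sigmaDesc {ι : Type u} {X : ι → Scheme.{u}} {Y : Scheme.{u}}
    (f : ∀ i, X i ⟶ Y) (h : ∀ y : Y, ∃ i, ∃ x : X i, f i x = y) :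
    Surjective (Sigma.desc f) := by
  refine ⟨fun y => ?_⟩
  obtain ⟨i, x, hx⟩ := h y
  refine ⟨Sigma.ι X i x, ?_⟩
  rw [← Scheme.Hom.comp_apply, Sigma.ι_desc, hx]

theorem main {X S : Scheme.{u}} (q : X ⟶ S) [IsFinite q] [Surjective q] {G : Type u} [Group G]
    [Finite G] (ρ : G →* Aut X) (hρ : ∀ g : G, (ρ g).hom ≫ q = q)
    (htrans : ∀ (Ω : Type u) [Field Ω] [IsAlgClosed Ω] (τ₁ τ₂ : Spec (CommRingCat.of Ω) ⟶ X),
      τ₁ ≫ q = τ₂ ≫ q → ∃ g : G, τ₁ ≫ (ρ g).hom = τ₂)
    (F : Scheme.{u}ᵒᵖ ⥤ Type w)
    (hF : ∀ ⦃T : Scheme.{u}⦄ (E : PreZeroHypercover.{u} T), Finite E.I₀ →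
      (∀ i, LocallyOfFiniteType (E.f i)) → (∀ i, QuasiCompact (E.f i)) →
      (∀ i, LocallyQuasiFinite (E.f i)) → SGA1.UnivSubmersive (Sigma.desc E.f) →
      Presieve.IsSheafFor F E.presieve₀) :
    Function.Injective (F.map q.op) ∧
      Set.range (F.map q.op) = {f : F.obj (Opposite.op X) | ∀ g : G, F.map (ρ g).hom.op f = f} := by
  -- first cover
  let E₁ : PreZeroHypercover.{u} S := ⟨PUnit.{u+1}, fun _ => X, fun _ => q⟩
  have hE₁ : Presieve.IsSheafFor F E₁.presieve₀ := by
    apply hF E₁
    · show Finite PUnit.{u+1}
      infer_instance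
    · intro i; show LocallyOfFiniteType q; infer_instance
    · intro i; show QuasiCompact q; infer_instance
    · intro i; show LocallyQuasiFinite q; infer_instance
    · haveI : IsFinite (Sigma.desc E₁.f) := isFinite_sigmaDesc _ _ (fun _ => by
        show IsFinite q; infer_instance)
      haveI : Surjective (Sigma.desc E₁.f) := by
        apply surjective_sigmaDesc
        intro y
        obtain ⟨x, hx⟩ := q.surjective y
        exact ⟨PUnit.unit, x, hx⟩
      exact univSubmersive_of_finite_surjective _
  -- second cover
  let υ : G → (X ⟶ pullback q q) := fun σ => pullback.lift (𝟙 X) (ρ σ).hom (by rw [hρ σ]; simp)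
  let E₂ : PreZeroHypercover.{u} (pullback q q) := ⟨G, fun _ => X, υ⟩
  have hυfin : ∀ σ, IsFinite (υ σ) := by
    intro σ
    haveI : IsFinite (υ σ ≫ pullback.fst q q) := by
      rw [pullback.lift_fst]; infer_instance
    exact IsFinite.of_comp _ (pullback.fst q q)
  have hE₂ : Presieve.IsSheafFor F E₂.presieve₀ := by
    apply hF E₂
    · show Finite G
      infer_instance
    · intro i; haveI := hυfin i; show LocallyOfFiniteType (υ i); infer_instance
    · intro i; haveI := hυfin i; show QuasiCompact (υ i); infer_instance
    · intro i; haveI := hυfin i; show LocallyQuasiFinite (υ i); infer_instance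
    · haveI : IsFinite (Sigma.desc E₂.f) := isFinite_sigmaDesc _ _ hυfin
      haveI : Surjective (Sigma.desc E₂.f) := by
        apply surjective_sigmaDesc
        intro z
        obtain ⟨Ω, _, _, ζ, hζ⟩ := exists_geomPt (pullback q q) z
        have hc : (ζ ≫ pullback.fst q q) ≫ q = (ζ ≫ pullback.snd q q) ≫ q := by
          simp only [Category.assoc]
          rw [pullback.condition]
        obtain ⟨g, hg⟩ := htrans Ω _ _ hc
        have hz : ζ = (ζ ≫ pullback.fst q q) ≫ υ g := by
          apply pullback.hom_ext
          · simp only [Category.assoc]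
            rw [pullback.lift_fst, Category.comp_id]
          · simp only [Category.assoc]
            rw [pullback.lift_snd, ← hg]
            simp only [Category.assoc]
        refine ⟨g, (ζ ≫ pullback.fst q q) (default : PrimeSpectrum Ω), ?_⟩
        rw [← hζ]
        conv_rhs => rw [hz]
        simp only [Scheme.Hom.comp_apply]
        rfl
      exact univSubmersive_of_finite_surjective _
  rw [Presieve.isSheafFor_arrows_iff] at hE₁
  have hsep₂ := hE₂.isSeparatedFor
  constructor
  · intro a b hab
    have hcomp : Presieve.Arrows.Compatible F E₁.f (fun _ => F.map q.op a) := by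
      intro i j Z gi gj hij
      show F.map gi.op (F.map q.op a) = F.map gj.op (F.map q.op a)
      rw [← Functor.map_comp_apply, ← Functor.map_comp_apply, ← op_comp, ← op_comp]
      have : gi ≫ q = gj ≫ q := hij
      rw [this]
    obtain ⟨t, _, ht⟩ := hE₁ _ hcomp
    rw [ht a (fun _ => rfl), ht b (fun _ => hab.symm)]
  · ext x
    simp only [Set.mem_range, Set.mem_ofPred_eq]
    constructor
    · rintro ⟨a, rfl⟩ g
      rw [← Functor.map_comp_apply, ← op_comp, hρ g]
    · intro hx
      have hcomp : Presieve.Arrows.Compatible F E₁.f (fun _ => x) := by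
        intro i j Z gi gj hij
        show F.map gi.op x = F.map gj.op x
        have hij' : gi ≫ q = gj ≫ q := hij
        have h1 : gi = pullback.lift gi gj hij' ≫ pullback.fst q q := by rw [pullback.lift_fst]
        have h2 : gj = pullback.lift gi gj hij' ≫ pullback.snd q q := by rw [pullback.lift_snd]
        have key : F.map (pullback.fst q q).op x = F.map (pullback.snd q q).op x := by
          apply hsep₂.ext
          intro Y f hf
          obtain ⟨σ⟩ := hf
          show F.map (υ σ).op _ = F.map (υ σ).op _
          rw [← Functor.map_comp_apply, ← Functor.map_comp_apply, ← op_comp,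
            ← op_comp, pullback.lift_fst, pullback.lift_snd, hx σ]
          simp
        conv_lhs => rw [h1]
        conv_rhs => rw [h2]
        rw [op_comp, op_comp, Functor.map_comp_apply, Functor.map_comp_apply, key]
      obtain ⟨t, ht, _⟩ := hE₁ _ hcomp
      exact ⟨t, ht PUnit.unit⟩

end Aux

open CategoryTheory CategoryTheory.Limits AlgebraicGeometry in
/-- Let S be a separated Noetherian scheme, π : X → S finite and surjective with X separated, G a finite
group acting on X by S-automorphisms and transitively on the geometric points of X over every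
geometric point of S, and F a presheaf of sets on schemes satisfying the sheaf condition for every
finite family of quasi-finite morphisms of finite type whose induced morphism from the disjoint
union is universally submersive (a qfh-sheaf). Then pulling back along π identifies F(S) with the
G-invariant elements of F(X): F(π) is injective with image the invariants. (The published statement
takes F a qfh-sheaf on Noetherian schemes over S; this row takes a presheaf on all schemes with the
sheaf property for every such family, a stronger hypothesis.) -/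
theorem result {X S : Scheme.{u}} [IsNoetherian S] [S.IsSeparated] [X.IsSeparated] (q : X ⟶ S) [IsFinite q] [Surjective q] {G : Type u} [Group G] [Finite G] (ρ : G →* Aut X) (hρ : ∀ g : G, (ρ g).hom ≫ q = q) (htrans : ∀ (Ω : Type u) [Field Ω] [IsAlgClosed Ω] (τ₁ τ₂ : Spec (CommRingCat.of Ω) ⟶ X), τ₁ ≫ q = τ₂ ≫ q → ∃ g : G, τ₁ ≫ (ρ g).hom = τ₂) (F : Scheme.{u}ᵒᵖ ⥤ Type w) (hF : ∀ ⦃T : Scheme.{u}⦄ (E : PreZeroHypercover.{u} T), Finite E.I₀ → (∀ i, LocallyOfFiniteType (E.f i)) → (∀ i, QuasiCompact (E.f i)) → (∀ i, LocallyQuasiFinite (E.f i)) → SGA1.UnivSubmersive (Sigma.desc E.f) → Presieve.IsSheafFor F E.presieve₀) : Function.Injective (F.map q.op) ∧ Set.range (F.map q.op) = {f : F.obj (Opposite.op X) | ∀ g : G, F.map (ρ g).hom.op f = f} := by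
  exact Aux.main q ρ hρ htrans F hF

end Groth.Agent.S13740
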