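import Groth.Statements.S13741
import Mathlib
import Groth.Prelude.Def_HTop
import Groth.Prelude.Def_SGA1
-- import your own Groth.Agent.* helpers here

set_option autoImplicit false
universe u
open SGA1

namespace Groth.Agent.S13741

open CategoryTheory CategoryTheory.Limits AlgebraicGeometry
namespace Aux
set_option backward.isDefEq.respectTransparency false
set_option linter.style.haveILetI false
set_option linter.unusedSectionVars false

/-- two geometric points with the same image point and the same composite to `S`, the residue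
extension being normal, differ by an automorphism of the residue field -/
theorem exists_aut_of_same_point {X S : Scheme.{u}} (q : X ⟶ S) (y : X)
    (hn : @Normal (S.residueField (q y)) (X.residueField y) _ _ (q.residueFieldMap y).hom.toAlgebra)
    (Ω : Type u) [Field Ω] (φ₁ φ₂ : X.residueField y ⟶ CommRingCat.of Ω)
    (h : (Spec.map φ₁ ≫ X.fromSpecResidueField y) ≫ q = (Spec.map φ₂ ≫ X.fromSpecResidueField y) ≫ q) :
    ∃ σ : X.residueField y ≅ X.residueField y,
      q.residueFieldMap y ≫ σ.hom = q.residueFieldMap y ∧ σ.hom ≫ φ₁ = φ₂ := by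
  have h1 : q.residueFieldMap y ≫ φ₁ = q.residueFieldMap y ≫ φ₂ := by
    apply Spec.map_injective
    rw [← cancel_mono (S.fromSpecResidueField (q y))]
    simp only [Spec.map_comp, Category.assoc,
      Scheme.Hom.SpecMap_residueFieldMap_fromSpecResidueField]
    simpa using h
  letI : Algebra (S.residueField (q y)) (X.residueField y) := (q.residueFieldMap y).hom.toAlgebra
  letI : Algebra (X.residueField y) Ω := φ₁.hom.toAlgebra
  letI : Algebra (S.residueField (q y)) Ω := (φ₁.hom.comp (q.residueFieldMap y).hom).toAlgebra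
  haveI : IsScalarTower (S.residueField (q y)) (X.residueField y) Ω :=
    IsScalarTower.of_algebraMap_eq (fun _ => rfl)
  haveI := hn
  let ψ : X.residueField y →ₐ[S.residueField (q y)] Ω :=
    { φ₂.hom with
      commutes' := fun x => by
        have := congrArg (fun m => m.hom x) h1
        exact this.symm }
  let τ : X.residueField y ≃ₐ[S.residueField (q y)] X.residueField y :=
    Normal.algHomEquivAut (S.residueField (q y)) Ω (X.residueField y) ψ
  have hτ : (IsScalarTower.toAlgHom (S.residueField (q y)) (X.residueField y) Ω).comp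
      (τ : X.residueField y →ₐ[S.residueField (q y)] X.residueField y) = ψ :=
    (Normal.algHomEquivAut (S.residueField (q y)) Ω (X.residueField y)).left_inv ψ
  refine ⟨(τ.toRingEquiv.toCommRingCatIso), ?_, ?_⟩
  · ext x
    exact τ.commutes x
  · ext x
    exact congrArg (fun m => m x) hτ

theorem main {X S : Scheme.{u}} (q : X ⟶ S) {G : Type u} [Group G] (ρ : G →* Aut X)
    (hρ : ∀ g : G, (ρ g).hom ≫ q = q)
    (h1 : ∀ x y : X, q x = q y → ∃ g : G, (ρ g).hom x = y)
    (h2 : ∀ x : X, @Normal (S.residueField (q x)) (X.residueField x) _ _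
      (q.residueFieldMap x).hom.toAlgebra)
    (h3 : ∀ (x : X) (σ : X.residueField x ≅ X.residueField x),
      q.residueFieldMap x ≫ σ.hom = q.residueFieldMap x →
        ∃ g : G, X.fromSpecResidueField x ≫ (ρ g).hom = Spec.map σ.hom ≫ X.fromSpecResidueField x)
    (Ω : Type u) [Field Ω] (τ₁ τ₂ : Spec (CommRingCat.of Ω) ⟶ X)
    (hτ : τ₁ ≫ q = τ₂ ≫ q) : ∃ g : G, τ₁ ≫ (ρ g).hom = τ₂ := by
  let pt : Spec (CommRingCat.of Ω) := IsLocalRing.closedPoint Ω
  have hpt : q (τ₁ pt) = q (τ₂ pt) := by
    rw [← Scheme.Hom.comp_apply, ← Scheme.Hom.comp_apply, hτ]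
  obtain ⟨g₀, hg₀⟩ := h1 _ _ hpt
  obtain ⟨⟨y, φ₂⟩, rfl⟩ := (X.SpecToEquivOfField Ω).symm.surjective τ₂
  obtain ⟨⟨y', φ₁⟩, hτ₁⟩ := (X.SpecToEquivOfField Ω).symm.surjective (τ₁ ≫ (ρ g₀).hom)
  simp only [Scheme.SpecToEquivOfField_symm_apply] at hτ₁ hg₀ hτ ⊢
  have hy : y' = y := by
    have e1 : (Spec.map φ₁ ≫ X.fromSpecResidueField y') pt = y' := by
      rw [Scheme.Hom.comp_apply, Scheme.fromSpecResidueField_apply]
    have e2 : (Spec.map φ₂ ≫ X.fromSpecResidueField y) pt = y := by
      rw [Scheme.Hom.comp_apply, Scheme.fromSpecResidueField_apply]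
    rw [← e1, hτ₁, Scheme.Hom.comp_apply, hg₀, e2]
  subst hy
  have hq : (Spec.map φ₁ ≫ X.fromSpecResidueField y') ≫ q =
      (Spec.map φ₂ ≫ X.fromSpecResidueField y') ≫ q := by
    rw [hτ₁, Category.assoc, hρ g₀, hτ]
  obtain ⟨σ, hσ1, hσ2⟩ := exists_aut_of_same_point q y' (h2 y') Ω φ₁ φ₂ hq
  obtain ⟨g, hg⟩ := h3 y' σ hσ1
  refine ⟨g * g₀, ?_⟩
  rw [map_mul, Aut.Aut_mul_def, Iso.trans_hom, ← Category.assoc, ← hτ₁, Category.assoc, hg,
    ← Category.assoc, ← Spec.map_comp, hσ2]

end Aux

open CategoryTheory CategoryTheory.Limits AlgebraicGeometry in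
/-- Let S be a separated Noetherian scheme, q : X → S finite and surjective with X separated, and G a
finite group acting on X by S-automorphisms. Assume that G acts transitively on every fibre of q,
that each residue field extension k(x)/k(q x) is normal, and that for each x every k(q
x)-automorphism of k(x) is induced by an element of G fixing x. Then for every algebraically closed
field Ω, any two Ω-points of X with the same composite to S are conjugate under G. -/
theorem result {X S : Scheme.{u}} [IsNoetherian S] [S.IsSeparated] [X.IsSeparated] (q : X ⟶ S) [IsFinite q] [Surjective q] {G : Type u} [Group G] [Finite G] (ρ : G →* Aut X) (hρ : ∀ g : G, (ρ g).hom ≫ q = q) (h1 : ∀ x y : X, q x = q y → ∃ g : G, (ρ g).hom x = y) (h2 : ∀ x : X, @Normal (S.residueField (q x)) (X.residueField x) _ _ (q.residueFieldMap x).hom.toAlgebra) (h3 : ∀ (x : X) (σ : X.residueField x ≅ X.residueField x), q.residueFieldMap x ≫ σ.hom = q.residueFieldMap x → ∃ g : G, X.fromSpecResidueField x ≫ (ρ g).hom = Spec.map σ.hom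 ≫ X.fromSpecResidueField x) (Ω : Type u) [Field Ω] [IsAlgClosed Ω] (τ₁ τ₂ : Spec (CommRingCat.of Ω) ⟶ X) (hτ : τ₁ ≫ q = τ₂ ≫ q) : ∃ g : G, τ₁ ≫ (ρ g).hom = τ₂ := by
  exact Aux.main q ρ hρ h1 h2 h3 Ω τ₁ τ₂ hτ

end Groth.Agent.S13741
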