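import Groth.Statements.S13759
import Mathlib
import Groth.Agent.Lib.Helper6.MGraphBl

set_option autoImplicit false
universe u
open LabGraph

namespace Groth.Agent.S13759

/-- Let G be a finite connected multigraph with vertex set V, edge set E, endpoint map E → V × V and
positive integer edge labels l, and let G̃ be its total blow-up graph: every edge e is replaced by a
path of l(e) edges through l(e) − 1 new vertices, all new edges labelled 1 (so every vertex
labelling of G̃ is Cartier and its multidegree is the sum over edge-ends of the differences of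
values). Let H, resp. H̃, be the cokernel of the multidegree operator from Cartier vertex labellings
of G to ℤ^V, resp. of G̃ to ℤ^Ṽ, and ε : H → H̃ the map induced by extending vertex labellings of G
by zero on the new vertices. Then ε is injective: if a vertex labelling α of G, extended by zero, is
the multidegree of some vertex labelling of G̃, then α is the multidegree of some Cartier vertex
labelling of G. -/
theorem result
    {V E : Type u} [Fintype V] [Fintype E] [DecidableEq V] [DecidableEq E]
    (ends : E → V × V) (l : E → ℕ) (hl : ∀ e, 0 < l e) (hconn : LabGraph.Connected ends)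
    (α : V → ℤ) (ψ : LabGraph.BlVert V E l → ℤ)
    (hψ : ∀ w : LabGraph.BlVert V E l,
      LabGraph.mdeg (LabGraph.blEnds ends l) (fun _ => 1) ψ w = Sum.elim α (fun _ => (0 : ℤ)) w) :
    ∃ φ : V → ℤ, LabGraph.IsCartier ends l φ ∧ ∀ v : V, LabGraph.mdeg ends l φ v = α v := by
  have haff : ∀ e k, k ≤ l e → ψ (LabGraph.pathVert ends l e k) = ψ (LabGraph.pathVert ends l e 0) +
      k * (ψ (LabGraph.pathVert ends l e 1) - ψ (LabGraph.pathVert ends l e 0)) := by
    intro e
    apply Groth.Agent.Lib.Helper6.MGraph.affine_of (fun k => ψ (LabGraph.pathVert ends l e k)) (l e)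
    intro j hj
    have := hψ (Sum.inr ⟨e, ⟨j, by omega⟩⟩)
    rw [Groth.Agent.Lib.Helper6.MGraph.mdeg_bl_new] at this
    simpa using this
  have h0 := Groth.Agent.Lib.Helper6.MGraph.pathVert_zero ends l
  have hn : ∀ e, LabGraph.pathVert ends l e (l e) = Sum.inl (ends e).2 := fun e =>
    Groth.Agent.Lib.Helper6.MGraph.pathVert_end ends l e (le_refl (l e)) (hl e).ne'
  refine ⟨fun v => ψ (Sum.inl v), ?_, ?_⟩
  · intro e
    have := haff e (l e) le_rfl
    rw [hn, h0] at this
    refine ⟨-(ψ (LabGraph.pathVert ends l e 1) - ψ (Sum.inl (ends e).1)), ?_⟩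
    simp only
    linarith
  · intro v
    rw [← show Sum.elim α (fun _ => (0:ℤ)) (Sum.inl v) = α v from rfl, ← hψ,
      Groth.Agent.Lib.Helper6.MGraph.mdeg_bl_old ends l hl]
    unfold LabGraph.mdeg
    refine Finset.sum_congr rfl fun e _ => ?_
    have hle := hl e
    have hne : (l e : ℤ) ≠ 0 := by exact_mod_cast hle.ne'
    have h1 := haff e (l e) le_rfl
    have h2 := haff e (l e - 1) (by omega)
    rw [Nat.cast_sub hle] at h2
    rw [hn, h0] at h1
    rw [h0] at h2
    simp only [hn, h0]
    have e1 : (ψ (Sum.inl (ends e).2) - ψ (Sum.inl (ends e).1)) / (l e : ℤ) =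
        ψ (LabGraph.pathVert ends l e 1) - ψ (Sum.inl (ends e).1) := by
      rw [h1, add_sub_cancel_left, Int.mul_ediv_cancel_left _ hne]
    have e2 : (ψ (Sum.inl (ends e).1) - ψ (Sum.inl (ends e).2)) / (l e : ℤ) =
        ψ (LabGraph.pathVert ends l e (l e - 1)) - ψ (Sum.inl (ends e).2) := by
      have : ψ (Sum.inl (ends e).1) - ψ (Sum.inl (ends e).2) =
          (l e : ℤ) * (-(ψ (LabGraph.pathVert ends l e 1) - ψ (Sum.inl (ends e).1))) := by
        rw [h1]; ring
      rw [this, Int.mul_ediv_cancel_left _ hne, h2, h1]
      push_cast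
      ring
    rw [e1, e2]

end Groth.Agent.S13759
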