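import Groth.Statements.S13760
import Mathlib
import Groth.Agent.Lib.Helper6.MGraphBl

set_option autoImplicit false
universe u
open LabGraph

namespace Groth.Agent.S13760

/-- Let G be a finite connected multigraph with vertex set V, edge set E, endpoint map E → V × V and
positive integer edge labels l, let G̃ be its total blow-up graph (every edge e replaced by a path
of l(e) edges through l(e) − 1 new vertices, all labelled 1), and let ε : H → H̃ be the map from the
cokernel of the multidegree operator on Cartier vertex labellings of G to the cokernel of the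
multidegree operator on vertex labellings of G̃ induced by extension by zero. Then ε is surjective —
every vertex labelling β of G̃ can be corrected by the multidegree of a vertex labelling of G̃ so as
to vanish at all new vertices — if and only if G is circuit-coprime (the labels along every circuit
have greatest common divisor 1). (The published statement is 'ε is an isomorphism if and only if the
labelled graph is circuit-coprime'; injectivity of ε holds for every labelled graph, so the content
is the equivalence for surjectivity, stated here with the cokernels unpacked.) -/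
theorem result
    {V E : Type u} [Fintype V] [Fintype E] [DecidableEq V] [DecidableEq E]
    (ends : E → V × V) (l : E → ℕ) (hl : ∀ e, 0 < l e) (hconn : LabGraph.Connected ends) :
    (∀ β : LabGraph.BlVert V E l → ℤ, ∃ (ψ : LabGraph.BlVert V E l → ℤ) (α : V → ℤ),
        ∀ w : LabGraph.BlVert V E l,
          LabGraph.mdeg (LabGraph.blEnds ends l) (fun _ => 1) ψ w + β w = Sum.elim α (fun _ => (0 : ℤ)) w) ↔
      LabGraph.IsCircuitCoprime ends l := by
  rw [← Groth.Agent.Lib.Helper6.MGraph.P3_iff_coprime ends l hl]
  constructor
  · intro H x
    obtain ⟨ψ, α, hψ⟩ := H (Sum.elim (fun _ => 0)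
      (fun p => if p.2.val + 2 = l p.1 then - x p.1 else 0))
    have hdvd : ∀ e, (l e : ℤ) ∣ x e - Groth.Agent.Lib.Helper6.MGraph.cob ends (fun v => ψ (Sum.inl v)) e := by
      intro e
      have hle := hl e
      rcases Nat.lt_or_ge (l e) 2 with h2 | h2
      · have : l e = 1 := by omega
        rw [this]
        simp
      · -- affine on [0, l e - 1]
        have haff := Groth.Agent.Lib.Helper6.MGraph.affine_of
          (fun k => ψ (LabGraph.pathVert ends l e k)) (l e - 1) (by
            intro j hj
            have := hψ (Sum.inr ⟨e, ⟨j, by omega⟩⟩)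
            rw [Groth.Agent.Lib.Helper6.MGraph.mdeg_bl_new] at this
            simp only [Sum.elim_inr] at this
            rw [if_neg (by omega)] at this
            simpa using this)
        have h1 := haff (l e - 1) le_rfl
        have h3 := haff (l e - 2) (by omega)
        have hlast := hψ (Sum.inr ⟨e, ⟨l e - 2, by omega⟩⟩)
        rw [Groth.Agent.Lib.Helper6.MGraph.mdeg_bl_new] at hlast
        simp only [Sum.elim_inr] at hlast
        rw [if_pos (by omega)] at hlast
        have e1 : l e - 2 + 2 = l e := by omega
        have e2 : l e - 2 + 1 = l e - 1 := by omega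
        rw [e1, e2] at hlast
        rw [Nat.cast_sub (by omega : 1 ≤ l e)] at h1
        rw [Nat.cast_sub (by omega : 2 ≤ l e)] at h3
        have hz := Groth.Agent.Lib.Helper6.MGraph.pathVert_zero ends l e
        have hn := Groth.Agent.Lib.Helper6.MGraph.pathVert_end ends l e (le_refl (l e)) hle.ne'
        rw [hn] at hlast
        rw [hz] at h1 h3
        refine ⟨-(ψ (LabGraph.pathVert ends l e 1) - ψ (Sum.inl (ends e).1)), ?_⟩
        simp only [Groth.Agent.Lib.Helper6.MGraph.cob]
        push_cast at h1 h3
        linarith
    refine ⟨fun e => (x e - Groth.Agent.Lib.Helper6.MGraph.cob ends (fun v => ψ (Sum.inl v)) e) / (l e : ℤ),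
      fun v => ψ (Sum.inl v), fun e => ?_⟩
    rw [Int.mul_ediv_cancel' (hdvd e)]
    ring
  · intro hP β
    obtain ⟨y, f, hyf⟩ := hP (fun e => Groth.Agent.Lib.Helper6.MGraph.seqU 0 0
      (fun i => if 0 < i ∧ i < l e then β (LabGraph.pathVert ends l e i) else 0) (l e))
    -- the potential along the paths
    have hU : ∀ e k, k ≤ l e →
        (Sum.elim f (fun p => Groth.Agent.Lib.Helper6.MGraph.seqU (f (ends p.1).1) (- y p.1)
          (fun i => if 0 < i ∧ i < l p.1 then β (LabGraph.pathVert ends l p.1 i) else 0) (p.2.val + 1)) :
            LabGraph.BlVert V E l → ℤ) (LabGraph.pathVert ends l e k) =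
        Groth.Agent.Lib.Helper6.MGraph.seqU (f (ends e).1) (- y e)
          (fun i => if 0 < i ∧ i < l e then β (LabGraph.pathVert ends l e i) else 0) k := by
      intro e k hk
      have hle := hl e
      rcases Nat.eq_zero_or_pos k with h0 | h0
      · subst h0
        rw [Groth.Agent.Lib.Helper6.MGraph.pathVert_zero]
        simp [Groth.Agent.Lib.Helper6.MGraph.seqU]
      rcases Nat.lt_or_ge k (l e) with h1 | h1
      · have := Groth.Agent.Lib.Helper6.MGraph.pathVert_mid ends l e ⟨k - 1, by omega⟩
        have e1 : k - 1 + 1 = k := by omega
        simp only [e1] at this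
        rw [this]
        simp only [Sum.elim_inr, e1]
      · have hkl : k = l e := by omega
        subst hkl
        rw [Groth.Agent.Lib.Helper6.MGraph.pathVert_end ends l e le_rfl hle.ne']
        simp only [Sum.elim_inl]
        rw [Groth.Agent.Lib.Helper6.MGraph.seqU_eq]
        have := hyf e
        simp only [Groth.Agent.Lib.Helper6.MGraph.cob] at this
        rw [this]
        ring
    refine ⟨Sum.elim f (fun p => Groth.Agent.Lib.Helper6.MGraph.seqU (f (ends p.1).1) (- y p.1)
          (fun i => if 0 < i ∧ i < l p.1 then β (LabGraph.pathVert ends l p.1 i) else 0) (p.2.val + 1)),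
      fun v => LabGraph.mdeg (LabGraph.blEnds ends l) (fun _ => 1)
        (Sum.elim f (fun p => Groth.Agent.Lib.Helper6.MGraph.seqU (f (ends p.1).1) (- y p.1)
          (fun i => if 0 < i ∧ i < l p.1 then β (LabGraph.pathVert ends l p.1 i) else 0) (p.2.val + 1)))
        (Sum.inl v) + β (Sum.inl v), ?_⟩
    intro w
    rcases w with v | ⟨e, j⟩
    · rfl
    · have hj := j.2
      rw [Groth.Agent.Lib.Helper6.MGraph.mdeg_bl_new, hU e _ (by omega), hU e _ (by omega),
        hU e _ (by omega), Groth.Agent.Lib.Helper6.MGraph.seqU_diff]
      simp only [Sum.elim_inr]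
      rw [if_pos (by omega), Groth.Agent.Lib.Helper6.MGraph.pathVert_mid]
      ring

end Groth.Agent.S13760
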