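import Groth.Statements.S13774
import Groth.Agent.Lib.Helper6.PLieL.Main

set_option autoImplicit false
universe u v w
open PLie

namespace Groth.Agent.S13774

/-- Let R be a commutative ring of prime characteristic p and L a Lie algebra over R, free as an
R-module with basis b indexed by ι, whose bracket is ⁅x, y⁆ = f x y • v for some vector v of L and
some R-bilinear form f on L. Then L carries a p-mapping φ with φ (b i) = (f (b i) v) ^ (p - 1) • b i
for every i; in particular L is restrictable. (The published statement is made over a base scheme,
where the Lie algebra is a vector bundle of finite rank whose derived algebra is a subbundle of rank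
one, and concludes that p-mappings exist Zariski-locally; this row is the case of a free module over
a ring, of any rank, with bracket of the displayed shape.) -/
theorem result (R : Type u) [CommRing R] (p : ℕ) [Fact p.Prime] [CharP R p]
    (L : Type v) [LieRing L] [LieAlgebra R L] {ι : Type w} (b : Module.Basis ι R L) (v : L)
    (f : L →ₗ[R] L →ₗ[R] R) (hf : ∀ x y : L, ⁅x, y⁆ = f x y • v) :
    ∃ φ : PLie.PMap R p L, ∀ i : ι, φ (b i) = (f (b i) v) ^ (p - 1) • b i := by
  have hp : Fact p.Prime := inferInstance
  have hy : ∀ i : ι, LieAlgebra.ad R L (b i) ^ p =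
      LieAlgebra.ad R L ((fun i => (f (b i) v) ^ (p - 1) • b i) i) := fun i =>
    Groth.Agent.Lib.Helper6.PLieL.ad_pow_eq_ad v f hf p hp.out.one_le (b i)
  obtain ⟨φ, hφ, -⟩ := Groth.Agent.Lib.Helper6.PLieL.existsUnique_pmap p b
    (fun i => (f (b i) v) ^ (p - 1) • b i) hy
  exact ⟨φ, hφ⟩

end Groth.Agent.S13774
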