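import Groth.Statements.S13781
import Mathlib
import Groth.Agent.Lib.Helper8.RegularLocal
import Groth.Agent.Lib.Helper8.FlatReg11
-- import your own Groth.Agent.* helpers here

set_option autoImplicit false
universe u
open CAlg

namespace Groth.Agent.S13781

namespace Aux

open IsLocalRing Polynomial

/-- L1: if `t ∈ P` is a nonzerodivisor and `R/(t)` is a regular ring then `R_P` is regular. -/
theorem regular_atPrime_of_quotient (R : Type u) [CommRing R] [IsNoetherianRing R]
    (P : Ideal R) [P.IsPrime] (t : R) (htP : t ∈ P) (ht : t ∈ nonZeroDivisors R)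
    (hreg : IsRegularRing (R ⧸ Ideal.span {t})) :
    IsRegularLocalRing (Localization.AtPrime P) := by
  set S := Localization.AtPrime P with hS
  set I : Ideal R := Ideal.span {t} with hI
  have hIP : I ≤ P := (Ideal.span_singleton_le_iff_mem P).mpr htP
  set x : S := algebraMap R S t with hx
  have hxm : x ∈ maximalIdeal S := by
    rw [hx, IsLocalization.AtPrime.to_map_mem_maximal_iff S P]
    exact htP
  have hxreg : x ∈ nonZeroDivisors S :=
    IsLocalization.map_nonZeroDivisors_le P.primeCompl S (Submonoid.mem_map_of_mem _ ht)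
  have hmap : I.map (algebraMap R S) = Ideal.span {x} := by
    rw [hI, Ideal.map_span, Set.image_singleton]
  set P' : Ideal (R ⧸ I) := P.map (Ideal.Quotient.mk I) with hP'
  have hP'prime : P'.IsPrime := Ideal.map_isPrime_of_surjective Ideal.Quotient.mk_surjective
    (by rw [Ideal.mk_ker]; exact hIP)
  have hsub : Algebra.algebraMapSubmonoid (R ⧸ I) P.primeCompl = P'.primeCompl := by
    ext y
    obtain ⟨y, rfl⟩ := Ideal.Quotient.mk_surjective y
    simp only [Algebra.algebraMapSubmonoid, Submonoid.mem_map, Ideal.mem_primeCompl_iff]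
    constructor
    · rintro ⟨z, hz, hzy⟩
      rw [← hzy]
      intro hmem
      exact hz ((Ideal.mem_quotient_iff_mem hIP).mp hmem)
    · intro hy
      exact ⟨y, fun h => hy ((Ideal.mem_quotient_iff_mem hIP).mpr h), rfl⟩
  have hloc : IsLocalization.AtPrime (S ⧸ I.map (algebraMap R S)) P' := by
    have := (inferInstance : IsLocalization (Algebra.algebraMapSubmonoid (R ⧸ I) P.primeCompl)
      (S ⧸ I.map (algebraMap R S)))
    rw [hsub] at this
    exact this
  have h1 : IsRegularLocalRing (Localization.AtPrime P') := inferInstance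
  have h2 : IsRegularLocalRing (S ⧸ I.map (algebraMap R S)) :=
    IsRegularLocalRing.of_ringEquiv (IsLocalization.algEquiv P'.primeCompl
      (Localization.AtPrime P') (S ⧸ I.map (algebraMap R S))).toRingEquiv
  have h3 : IsRegularLocalRing (S ⧸ Ideal.span {x}) :=
    IsRegularLocalRing.of_ringEquiv (Ideal.quotEquivOfEq hmap)
  exact Groth.Agent.Helper8.RLR.of_quotient_singleton x hxm hxreg

/-- L2: flat, unramified at `P` over a regular ring implies `C_P` regular. -/
theorem regular_atPrime_of_unramified (A C : Type u) [CommRing A] [CommRing C] [Algebra A C]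
    [IsRegularRing A] [IsNoetherianRing C] [Module.Flat A C] [Algebra.EssFiniteType A C]
    (P : Ideal C) [P.IsPrime] (hunr : Algebra.FormallyUnramified A (Localization.AtPrime P)) :
    IsRegularLocalRing (Localization.AtPrime P) := by
  set p : Ideal A := P.under A with hp
  have : P.LiesOver p := ⟨rfl⟩
  let := Localization.AtPrime.algebraOfLiesOver p P
  have : IsLocalHom (algebraMap (Localization.AtPrime p) (Localization.AtPrime P)) := by
    rw [RingHom.algebraMap_toAlgebra]
    exact Localization.isLocalHom_localRingHom p P (algebraMap A C) Ideal.LiesOver.over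
  have : Algebra.EssFiniteType A (Localization.AtPrime P) :=
    Algebra.EssFiniteType.comp A C (Localization.AtPrime P)
  have : Algebra.EssFiniteType (Localization.AtPrime p) (Localization.AtPrime P) :=
    Algebra.EssFiniteType.of_comp A _ _
  have : Algebra.FormallyUnramified (Localization.AtPrime p) (Localization.AtPrime P) :=
    Algebra.FormallyUnramified.of_restrictScalars A _ _
  have hmax : (maximalIdeal (Localization.AtPrime p)).map
      (algebraMap (Localization.AtPrime p) (Localization.AtPrime P)) =
      maximalIdeal (Localization.AtPrime P) := Algebra.FormallyUnramified.map_maximalIdeal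
  have : IsRegularLocalRing (Localization.AtPrime P ⧸
      (maximalIdeal (Localization.AtPrime p)).map
        (algebraMap (Localization.AtPrime p) (Localization.AtPrime P))) := by
    have h0 : IsRegularLocalRing (ResidueField (Localization.AtPrime P)) := inferInstance
    exact @IsRegularLocalRing.of_ringEquiv (ResidueField (Localization.AtPrime P)) _ h0 _ _
      (Ideal.quotEquivOfEq hmax.symm)
  exact Groth.Agent.Helper8.FlatReg.isRegularLocalRing_of_flat_of_fibre
    (Localization.AtPrime p) (Localization.AtPrime P)

section AdjoinRoot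

variable (A : Type u) [CommRing A] (s : A) (e : ℕ)

theorem monic_f (he : 0 < e) [Nontrivial A] : (X ^ e - C s : A[X]).Monic :=
  monic_X_pow_sub_C s he.ne'

theorem root_pow : (AdjoinRoot.root (X ^ e - C s : A[X])) ^ e = AdjoinRoot.of _ s := by
  have h := AdjoinRoot.eval₂_root (X ^ e - C s : A[X])
  rw [eval₂_sub, eval₂_pow, eval₂_X, eval₂_C, sub_eq_zero] at h
  exact h

/-- the map `C → A/(s)` sending `root` to `0`. -/
noncomputable def toQuot (he : 0 < e) : AdjoinRoot (X ^ e - C s : A[X]) →+* A ⧸ Ideal.span {s} :=
  AdjoinRoot.lift (Ideal.Quotient.mk (Ideal.span {s})) 0 (by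
    rw [eval₂_sub, eval₂_pow, eval₂_X, eval₂_C, zero_pow he.ne', zero_sub, neg_eq_zero,
      Ideal.Quotient.eq_zero_iff_mem]
    exact Ideal.subset_span rfl)

theorem toQuot_mk (he : 0 < e) (q : A[X]) :
    toQuot A s e he (AdjoinRoot.mk _ q) = Ideal.Quotient.mk _ (q.coeff 0) := by
  rw [toQuot, AdjoinRoot.lift_mk, eval₂_at_zero]

theorem toQuot_surjective (he : 0 < e) : Function.Surjective (toQuot A s e he) := by
  intro y
  obtain ⟨a, rfl⟩ := Ideal.Quotient.mk_surjective y
  refine ⟨AdjoinRoot.mk _ (C a), ?_⟩
  rw [toQuot_mk, coeff_C_zero]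

theorem ker_toQuot (he : 0 < e) :
    RingHom.ker (toQuot A s e he) = Ideal.span {AdjoinRoot.root (X ^ e - C s : A[X])} := by
  apply le_antisymm
  · intro c hc
    obtain ⟨q, rfl⟩ := AdjoinRoot.mk_surjective c
    rw [RingHom.mem_ker, toQuot_mk, Ideal.Quotient.eq_zero_iff_mem, Ideal.mem_span_singleton'] at hc
    obtain ⟨a, ha⟩ := hc
    have hq : AdjoinRoot.mk (X ^ e - C s : A[X]) q =
        AdjoinRoot.root (X ^ e - C s : A[X]) * AdjoinRoot.mk _ q.divX +
          AdjoinRoot.of _ a * AdjoinRoot.root (X ^ e - C s : A[X]) ^ e := by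
      conv_lhs => rw [← X_mul_divX_add q]
      rw [map_add, map_mul, AdjoinRoot.mk_X, ← ha, AdjoinRoot.mk_C, map_mul, ← root_pow]
    rw [hq]
    apply Ideal.add_mem
    · exact Ideal.mul_mem_right _ _ (Ideal.mem_span_singleton_self _)
    · apply Ideal.mul_mem_left
      exact Ideal.pow_mem_of_mem _ (Ideal.mem_span_singleton_self _) e he
  · rw [Ideal.span_singleton_le_iff_mem, RingHom.mem_ker, toQuot, AdjoinRoot.lift_root]

noncomputable def quotEquiv (he : 0 < e) :
    (AdjoinRoot (X ^ e - C s : A[X]) ⧸ Ideal.span {AdjoinRoot.root (X ^ e - C s : A[X])}) ≃+*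
      A ⧸ Ideal.span {s} :=
  (Ideal.quotEquivOfEq (ker_toQuot A s e he).symm).trans
    (RingHom.quotientKerEquivOfSurjective (toQuot_surjective A s e he))

theorem root_mem_nonZeroDivisors [IsDomain A] (hs : s ≠ 0) (he : 0 < e) :
    AdjoinRoot.root (X ^ e - C s : A[X]) ∈ nonZeroDivisors (AdjoinRoot (X ^ e - C s : A[X])) := by
  have hfree : Module.Free A (AdjoinRoot (X ^ e - C s : A[X])) :=
    Module.Free.of_basis (AdjoinRoot.powerBasis' (monic_f A s e he)).basis
  rw [mem_nonZeroDivisors_iff_right]
  intro c hc
  have h1 : AdjoinRoot.root (X ^ e - C s : A[X]) ^ e * c = 0 := by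
    have h2 : AdjoinRoot.root (X ^ e - C s : A[X]) ^ e =
        AdjoinRoot.root (X ^ e - C s : A[X]) ^ (e - 1) * AdjoinRoot.root (X ^ e - C s : A[X]) := by
      rw [← pow_succ, Nat.sub_add_cancel he]
    rw [h2, mul_assoc, mul_comm _ c, hc, mul_zero]
  rw [root_pow, ← AdjoinRoot.algebraMap_eq, ← Algebra.smul_def] at h1
  exact (smul_eq_zero.mp h1).resolve_left hs

theorem unramified_atPrime (he : 0 < e) (heu : IsUnit (e : A))
    (P : Ideal (AdjoinRoot (X ^ e - C s : A[X]))) [P.IsPrime] (hsP : AdjoinRoot.of _ s ∉ P) :
    Algebra.FormallyUnramified A (Localization.AtPrime P) := by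
  set C' := AdjoinRoot (X ^ e - C s : A[X]) with hC'
  set S := Localization.AtPrime P with hS
  set τ : S := algebraMap C' S (AdjoinRoot.root _) with hτ
  have hτe : τ ^ e = algebraMap A S s := by
    rw [hτ, ← map_pow, root_pow, ← AdjoinRoot.algebraMap_eq, ← IsScalarTower.algebraMap_apply]
  have hsunit : IsUnit (algebraMap A S s) := by
    rw [IsScalarTower.algebraMap_apply A C' S]
    exact IsLocalization.map_units S (⟨_, hsP⟩ : P.primeCompl)
  have hτunit : IsUnit τ := by
    have : IsUnit (τ ^ e) := hτe ▸ hsunit
    exact (isUnit_pow_iff he.ne').mp this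
  set D := KaehlerDifferential.D A S with hD
  have hDτ : D τ = 0 := by
    have h1 : D (τ ^ e) = 0 := by rw [hτe]; exact D.map_algebraMap s
    rw [Derivation.leibniz_pow, ← Nat.cast_smul_eq_nsmul S, ← mul_smul] at h1
    have hu : IsUnit ((e : S) * τ ^ (e - 1)) := by
      refine IsUnit.mul ?_ (hτunit.pow _)
      have := heu.map (algebraMap A S)
      rwa [map_natCast] at this
    exact hu.smul_eq_zero.mp h1
  have hDc : ∀ c : C', D (algebraMap C' S c) = 0 := by
    intro c
    have hc : c ∈ Algebra.adjoin A {AdjoinRoot.root (X ^ e - C s : A[X])} := by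
      rw [AdjoinRoot.adjoinRoot_eq_top]; trivial
    induction hc using Algebra.adjoin_induction with
    | mem x hx =>
      rw [Set.mem_singleton_iff] at hx
      subst hx
      exact hDτ
    | algebraMap a =>
      rw [← IsScalarTower.algebraMap_apply A C' S]
      exact D.map_algebraMap a
    | add x y _ _ hx hy => rw [map_add, map_add, hx, hy, add_zero]
    | mul x y _ _ hx hy => rw [map_mul, Derivation.leibniz, hx, hy, smul_zero, smul_zero, add_zero]
  have hDx : ∀ x : S, D x = 0 := by
    intro x
    obtain ⟨c, u, rfl⟩ := IsLocalization.exists_mk'_eq P.primeCompl x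
    have h1 := IsLocalization.mk'_spec S c u
    have h2 : D (IsLocalization.mk' S c u * algebraMap C' S u) = 0 := by rw [h1]; exact hDc c
    rw [Derivation.leibniz, hDc, smul_zero, zero_add] at h2
    exact (IsLocalization.map_units S u).smul_eq_zero.mp h2
  constructor
  refine subsingleton_of_forall_eq 0 (fun ω => ?_)
  have hω : ω ∈ (⊤ : Submodule S (Ω[S⁄A])) := trivial
  rw [← KaehlerDifferential.span_range_derivation] at hω
  induction hω using Submodule.span_induction with
  | mem x hx =>
    obtain ⟨y, rfl⟩ := hx
    exact hDx y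
  | zero => rfl
  | add x y _ _ hx hy => rw [hx, hy, add_zero]
  | smul a x _ hx => rw [hx, smul_zero]

end AdjoinRoot

theorem main (A : Type u) [CommRing A] [IsLocalRing A] [IsRegularRing A] (s : A) (hs : s ≠ 0)
    (hreg : IsRegularRing (A ⧸ Ideal.span {s})) (e : ℕ) (he : 0 < e) (heu : IsUnit (e : A)) :
    IsRegularRing (AdjoinRoot (X ^ e - C s : A[X])) := by
  have : IsRegularLocalRing A := IsRegularLocalRing.of_isRegularRing_of_isLocalRing A
  have : IsDomain A := Groth.Agent.Helper8.RLR.isDomain A
  have hmonic := monic_f A s e he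
  have : IsNoetherianRing (AdjoinRoot (X ^ e - C s : A[X])) := inferInstance
  have : Module.Free A (AdjoinRoot (X ^ e - C s : A[X])) :=
    Module.Free.of_basis (AdjoinRoot.powerBasis' hmonic).basis
  have : Module.Finite A (AdjoinRoot (X ^ e - C s : A[X])) :=
    Module.Finite.of_basis (AdjoinRoot.powerBasis' hmonic).basis
  rw [isRegularRing_iff]
  intro P hP
  by_cases hsP : AdjoinRoot.of _ s ∈ P
  · have htP : AdjoinRoot.root (X ^ e - C s : A[X]) ∈ P := by
      rw [← root_pow] at hsP
      exact hP.mem_of_pow_mem _ hsP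
    have h1 : IsRegularRing (AdjoinRoot (X ^ e - C s : A[X]) ⧸
        Ideal.span {AdjoinRoot.root (X ^ e - C s : A[X])}) :=
      IsRegularRing.of_ringEquiv (quotEquiv A s e he).symm
    exact regular_atPrime_of_quotient _ P _ htP (root_mem_nonZeroDivisors A s e hs he) h1
  · exact regular_atPrime_of_unramified A _ P (unramified_atPrime A s e he heu P hsP)

end Aux

/-- Let A be a regular local ring, s a non-zero element of A such that A/(s) is regular, and e a
positive integer invertible in A. Then A[t]/(t^e - s) is regular. (Regularity of a ring is taken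
throughout as: Noetherian, with every localization at a prime ideal a regular local ring; the
hypotheses on A and on A/(s) and the conclusion on A[t]/(t^e - s) are all read this way, which for
the local rings A and A/(s) is the usual notion once localizations of regular local rings are known
to be regular.) -/
theorem result (A : Type u) [CommRing A] [IsLocalRing A]
    [IsRegularRing A] (s : A) (hs : s ≠ 0) (hreg : IsRegularRing (A ⧸ Ideal.span {s}))
    (e : ℕ) (he : 0 < e) (heu : IsUnit (e : A)) :
    IsRegularRing (AdjoinRoot (Polynomial.X ^ e - Polynomial.C s)) := by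
  exact Aux.main A s hs hreg e he heu

end Groth.Agent.S13781
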