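import Groth.Statements.S13782
import Mathlib
import Groth.Agent.Lib.Helper8.RegularLocal
import Groth.Agent.Lib.Helper8.AdicFS6
import Groth.Agent.Lib.Helper8.AdicFS7
-- import your own Groth.Agent.* helpers here

set_option autoImplicit false
universe u
open CAlg

namespace Groth.Agent.S13782

namespace Aux


open Polynomial

section
variable (k A : Type u) [Field k] [CommRing A] [Algebra k A] (s : A) (e : ℕ)

theorem root_pow' : (AdjoinRoot.root (X ^ e - C s : A[X])) ^ e = AdjoinRoot.of _ s := by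
  have h := AdjoinRoot.eval₂_root (X ^ e - C s : A[X])
  rw [eval₂_sub, eval₂_pow, eval₂_X, eval₂_C, sub_eq_zero] at h
  exact h

/-- (⇒) -/
theorem formallySmooth_quotient_of_adjoinRoot (he : 2 ≤ e)
    [h : Algebra.FormallySmooth k (AdjoinRoot (X ^ e - C s : A[X]))] :
    Algebra.FormallySmooth k (A ⧸ Ideal.span {s}) := by
  apply Algebra.FormallySmooth.of_comp_surjective
  intro B _ _ J hJ g
  have he0 : e ≠ 0 := by omega
  -- the quotient map `C → A/(s)`
  let q : AdjoinRoot (X ^ e - C s : A[X]) →ₐ[k] A ⧸ Ideal.span {s} :=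
    AdjoinRoot.liftAlgHom _ (Ideal.Quotient.mkₐ k (Ideal.span {s})) 0 (by
      rw [eval₂_sub, eval₂_pow, eval₂_X, eval₂_C, zero_pow he0, zero_sub, neg_eq_zero]
      exact Ideal.Quotient.eq_zero_iff_mem.mpr (Ideal.subset_span rfl))
  obtain ⟨h1, hh1⟩ := Algebra.FormallySmooth.comp_surjective k
    (AdjoinRoot (X ^ e - C s : A[X])) J hJ (g.comp q)
  -- h1 (root) ∈ J
  have hroot : h1 (AdjoinRoot.root _) ∈ J := by
    have := congrArg (fun φ => φ (AdjoinRoot.root (X ^ e - C s : A[X]))) hh1
    simp only [AlgHom.comp_apply, q, AdjoinRoot.liftAlgHom_root, map_zero] at this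
    exact Ideal.Quotient.eq_zero_iff_mem.mp this
  have hs0 : h1 (AdjoinRoot.of _ s) = 0 := by
    rw [← root_pow', map_pow]
    have h2 : h1 (AdjoinRoot.root (X ^ e - C s : A[X])) ^ 2 ∈ J ^ 2 := Ideal.pow_mem_pow hroot 2
    rw [hJ, Ideal.mem_bot] at h2
    obtain ⟨m, rfl⟩ : ∃ m, e = 2 + m := ⟨e - 2, by omega⟩
    rw [pow_add, h2, zero_mul]
  -- restrict to A
  let hA : A →ₐ[k] B := h1.comp (IsScalarTower.toAlgHom k A (AdjoinRoot (X ^ e - C s : A[X])))
  have hAs : hA s = 0 := hs0
  let l : A ⧸ Ideal.span {s} →ₐ[k] B := Ideal.Quotient.liftₐ (Ideal.span {s}) hA (by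
    intro a ha
    obtain ⟨b, rfl⟩ := Ideal.mem_span_singleton'.mp ha
    rw [map_mul, hAs, mul_zero])
  refine ⟨l, ?_⟩
  apply AlgHom.ext
  intro x
  obtain ⟨a, rfl⟩ := Ideal.Quotient.mk_surjective x
  have := congrArg (fun φ => φ (AdjoinRoot.of (X ^ e - C s : A[X]) a)) hh1
  simp only [AlgHom.comp_apply, q, AdjoinRoot.liftAlgHom_of] at this
  simp only [AlgHom.comp_apply, l]
  exact this

end



theorem mem_nonZeroDivisors_of_irreducible (A : Type u) [CommRing A] [IsNoetherianRing A]
    (hdom : ∀ (p : Ideal A) [p.IsPrime], IsDomain (Localization.AtPrime p))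
    (s : A) (hs : Irreducible s) : s ∈ nonZeroDivisors A := by
  classical
  set J : Ideal A := (Ideal.span {s}).annihilator with hJ
  have hJmem : ∀ a, a ∈ J ↔ a * s = 0 := fun a => by
    rw [hJ, Submodule.mem_annihilator_span_singleton, smul_eq_mul]
  set K : Ideal A := J.annihilator with hK
  have hsup : J ⊔ K = ⊤ := by
    by_contra hne
    obtain ⟨p, hpmax, hle⟩ := Ideal.exists_le_maximal _ hne
    haveI : p.IsPrime := hpmax.isPrime
    haveI := hdom p
    have hJp : J ≤ p := le_trans le_sup_left hle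
    have hKp : K ≤ p := le_trans le_sup_right hle
    by_cases hs0 : algebraMap A (Localization.AtPrime p) s = 0
    · obtain ⟨⟨a, ha⟩, has⟩ := (IsLocalization.map_eq_zero_iff p.primeCompl _ s).mp hs0
      exact ha (hJp ((hJmem a).mpr has))
    · obtain ⟨G, hG⟩ := (IsNoetherian.noetherian J : J.FG)
      have hb : ∀ g ∈ G, ∃ b : A, b ∉ p ∧ b * g = 0 := by
        intro g hg
        have hgJ : g ∈ J := hG ▸ Submodule.subset_span hg
        have h1 : algebraMap A (Localization.AtPrime p) g *
            algebraMap A (Localization.AtPrime p) s = 0 := by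
          rw [← map_mul, (hJmem g).mp hgJ, map_zero]
        have h2 : algebraMap A (Localization.AtPrime p) g = 0 :=
          (mul_eq_zero.mp h1).resolve_right hs0
        obtain ⟨⟨b, hb⟩, hbg⟩ := (IsLocalization.map_eq_zero_iff p.primeCompl _ g).mp h2
        exact ⟨b, hb, hbg⟩
      choose! b hbp hbg using hb
      have hprod : (∏ g ∈ G, b g) ∉ p := by
        intro hmem
        obtain ⟨g, hg, hgp⟩ := (Ideal.IsPrime.prod_mem_iff).mp hmem
        exact hbp g hg hgp
      have hprodK : (∏ g ∈ G, b g) ∈ K := by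
        rw [hK, Submodule.mem_annihilator]
        intro j hj
        rw [← hG] at hj
        induction hj using Submodule.span_induction with
        | mem x hx =>
          rw [smul_eq_mul, ← Finset.mul_prod_erase G b hx, mul_comm (b x), mul_assoc, hbg x hx,
            mul_zero]
        | zero => exact smul_zero _
        | add x y _ _ hx hy => rw [smul_add, hx, hy, add_zero]
        | smul a x _ hx => rw [smul_comm, hx, smul_zero]
      exact hprod (hKp hprodK)
  obtain ⟨j, hj, j', hj', hsum⟩ := Submodule.mem_sup.mp (hsup ▸ Submodule.mem_top : (1 : A) ∈ J ⊔ K)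
  have hsj : s = j' * s := by
    have : j * s = 0 := (hJmem j).mp hj
    calc s = (j + j') * s := by rw [hsum, one_mul]
      _ = j' * s := by rw [add_mul, this, zero_add]
  have hju : IsUnit j' := (hs.isUnit_or_isUnit hsj).resolve_right hs.not_isUnit
  rw [mem_nonZeroDivisors_iff_right]
  intro a ha
  have haJ : a ∈ J := (hJmem a).mpr ha
  have h0 : j' * a = 0 := by
    have := (Submodule.mem_annihilator.mp hj') a haJ
    rwa [smul_eq_mul] at this
  exact (hju.mul_right_eq_zero).mp h0



open TensorProduct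

theorem exists_derivation_of_formallySmooth_quotient (k A : Type u) [CommRing k] [CommRing A]
    [Algebra k A] [Algebra.FormallySmooth k A] (s : A) (hs : s ∈ nonZeroDivisors A)
    [hq : Algebra.FormallySmooth k (A ⧸ Ideal.span {s})]
    (N : Type u) [AddCommGroup N] [Module A N] [Module k N] [IsScalarTower k A N]
    (hN : ∀ x : N, s • x = 0) (n : N) :
    ∃ δ : Derivation k A N, δ s = n := by
  set I : Ideal A := RingHom.ker (algebraMap A (A ⧸ Ideal.span {s})) with hI
  have hIs : I = Ideal.span {s} := by rw [hI, Ideal.Quotient.algebraMap_eq, Ideal.mk_ker]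
  have hsI : s ∈ I := hIs ▸ Ideal.subset_span rfl
  obtain ⟨l, hl⟩ := (Algebra.FormallySmooth.iff_split_injection (R := k) (P := A)
    (A := A ⧸ Ideal.span {s}) Ideal.Quotient.mk_surjective).mp hq
  -- the iso `A ≃ I`
  let μ : A →ₗ[A] I := LinearMap.toSpanSingleton A I ⟨s, hsI⟩
  have hμinj : Function.Injective μ := by
    rw [injective_iff_map_eq_zero]
    intro a ha
    have : a * s = 0 := by
      have := congrArg Subtype.val ha
      simpa [μ, LinearMap.toSpanSingleton_apply] using this
    exact (mem_nonZeroDivisors_iff_right.mp hs) a this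
  have hμsurj : Function.Surjective μ := by
    rintro ⟨x, hx⟩
    rw [hIs] at hx
    obtain ⟨a, rfl⟩ := Ideal.mem_span_singleton'.mp hx
    exact ⟨a, Subtype.ext (by simp [μ, LinearMap.toSpanSingleton_apply])⟩
  let μe : A ≃ₗ[A] I := LinearEquiv.ofBijective μ ⟨hμinj, hμsurj⟩
  let ψ : I →ₗ[A] N := (LinearMap.toSpanSingleton A N n).comp μe.symm.toLinearMap
  have hψs : ψ ⟨s, hsI⟩ = n := by
    have : μe.symm ⟨s, hsI⟩ = 1 := by
      rw [LinearEquiv.symm_apply_eq]
      show (⟨s, hsI⟩ : I) = μ 1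
      simp [μ, LinearMap.toSpanSingleton_apply]
    simp [ψ, this, LinearMap.toSpanSingleton_apply]
  have hIN : ∀ i ∈ I, ∀ x : N, i • x = 0 := by
    intro i hi x
    rw [hIs] at hi
    obtain ⟨a, rfl⟩ := Ideal.mem_span_singleton'.mp hi
    rw [mul_smul, hN, smul_zero]
  have hker : (I • ⊤ : Submodule A I) ≤ LinearMap.ker ψ := by
    intro x hx
    refine Submodule.smul_induction_on hx ?_ ?_
    · intro i hi y _
      rw [LinearMap.mem_ker, map_smul]
      exact hIN i hi _
    · intro x y hx hy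
      exact Submodule.add_mem _ hx hy
  let φ : I.Cotangent →ₗ[A] N := Submodule.liftQ _ ψ hker
  have hφ : ∀ x : I, φ (I.toCotangent x) = ψ x := fun x => rfl
  let L : Ω[A⁄k] →ₗ[A] N :=
    φ ∘ₗ l ∘ₗ (TensorProduct.mk A (A ⧸ Ideal.span {s}) (Ω[A⁄k]) 1)
  refine ⟨L.compDer (KaehlerDifferential.D k A), ?_⟩
  have h1 : KaehlerDifferential.kerCotangentToTensor k A (A ⧸ Ideal.span {s})
      (I.toCotangent ⟨s, hsI⟩) = 1 ⊗ₜ KaehlerDifferential.D k A s :=
    KaehlerDifferential.kerCotangentToTensor_toCotangent k A (A ⧸ Ideal.span {s}) ⟨s, hsI⟩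
  have h2 : l (1 ⊗ₜ KaehlerDifferential.D k A s) = I.toCotangent ⟨s, hsI⟩ := by
    rw [← h1]
    exact LinearMap.congr_fun hl _
  show φ (l (1 ⊗ₜ KaehlerDifferential.D k A s)) = n
  rw [h2, hφ, hψs]

theorem exists_derivation_add_smul (k A : Type u) [CommRing k] [CommRing A]
    [Algebra k A] [Algebra.FormallySmooth k A] (s : A) (hs : s ∈ nonZeroDivisors A)
    [hq : Algebra.FormallySmooth k (A ⧸ Ideal.span {s})]
    (M : Type u) [AddCommGroup M] [Module A M] [Module k M] [IsScalarTower k A M] (m : M) :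
    ∃ (δ : Derivation k A M) (m₀ : M), δ s = m + s • m₀ := by
  set S₀ : Submodule A M := LinearMap.range (LinearMap.lsmul A M s) with hS₀
  have hN : ∀ x : M ⧸ S₀, s • x = 0 := by
    intro x
    obtain ⟨x, rfl⟩ := Submodule.Quotient.mk_surjective _ x
    rw [← Submodule.Quotient.mk_smul, Submodule.Quotient.mk_eq_zero]
    exact ⟨x, rfl⟩
  obtain ⟨δ', hδ'⟩ := exists_derivation_of_formallySmooth_quotient k A s hs (M ⧸ S₀) hN
    (Submodule.Quotient.mk m)
  obtain ⟨L, hL⟩ := Module.projective_lifting_property S₀.mkQ δ'.liftKaehlerDifferential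
    (Submodule.mkQ_surjective S₀)
  refine ⟨L.compDer (KaehlerDifferential.D k A), ?_⟩
  have h1 : S₀.mkQ (L (KaehlerDifferential.D k A s)) = Submodule.Quotient.mk m := by
    have := LinearMap.congr_fun hL (KaehlerDifferential.D k A s)
    rw [LinearMap.comp_apply, Derivation.liftKaehlerDifferential_comp_D] at this
    rw [this, hδ']
  have h2 : L (KaehlerDifferential.D k A s) - m ∈ S₀ := by
    rw [← Submodule.Quotient.mk_eq_zero, Submodule.Quotient.mk_sub, sub_eq_zero]
    exact h1
  obtain ⟨m₀, hm₀⟩ := h2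
  refine ⟨m₀, ?_⟩
  show L (KaehlerDifferential.D k A s) = m + s • m₀
  rw [LinearMap.lsmul_apply] at hm₀
  rw [hm₀]; abel



open Polynomial

theorem adjoinRoot_hom_ext {A T : Type*} [CommRing A] [Semiring T] (f : A[X])
    (φ ψ : AdjoinRoot f →+* T)
    (h1 : ∀ a, φ (AdjoinRoot.of f a) = ψ (AdjoinRoot.of f a))
    (h2 : φ (AdjoinRoot.root f) = ψ (AdjoinRoot.root f)) : φ = ψ := by
  refine RingHom.ext fun c => ?_
  obtain ⟨p, rfl⟩ := AdjoinRoot.mk_surjective c
  induction p using Polynomial.induction_on' with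
  | add p q hp hq => rw [map_add, map_add, map_add, hp, hq]
  | monomial n a =>
    rw [← C_mul_X_pow_eq_monomial, map_mul, map_pow, AdjoinRoot.mk_C, AdjoinRoot.mk_X, map_mul,
      map_mul, map_pow, map_pow, h1, h2]

theorem one_add_pow_of_sq_eq_zero {B : Type*} [CommRing B] (x : B) (hx : x * x = 0) (n : ℕ) :
    (1 + x) ^ n = 1 + n * x := by
  induction n with
  | zero => simp
  | succ n ih =>
    rw [pow_succ, ih]
    push_cast
    linear_combination (n : B) * hx

theorem root_pow'' {A : Type*} [CommRing A] (s : A) (e : ℕ) :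
    (AdjoinRoot.root (X ^ e - C s : A[X])) ^ e = AdjoinRoot.of _ s := by
  have h := AdjoinRoot.eval₂_root (X ^ e - C s : A[X])
  rw [eval₂_sub, eval₂_pow, eval₂_X, eval₂_C, sub_eq_zero] at h
  exact h

theorem formallySmooth_adjoinRoot_of_quotient (k A : Type u) [Field k] [CommRing A] [Algebra k A]
    [Algebra.FormallySmooth k A] (s : A) (hs : s ∈ nonZeroDivisors A) (e : ℕ)
    (hek : (e : k) ≠ 0) [Algebra.FormallySmooth k (A ⧸ Ideal.span {s})] :
    Algebra.FormallySmooth k (AdjoinRoot (X ^ e - C s : A[X])) := by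
  apply Algebra.FormallySmooth.of_comp_surjective
  intro B _ _ J hJ g
  let gA : A →ₐ[k] B ⧸ J :=
    g.comp (IsScalarTower.toAlgHom k A (AdjoinRoot (X ^ e - C s : A[X])))
  obtain ⟨h₀, hh₀⟩ := Algebra.FormallySmooth.comp_surjective k A J hJ gA
  have hh₀' : ∀ a : A, Ideal.Quotient.mk J (h₀ a) = g (AdjoinRoot.of _ a) := by
    intro a
    have := congrArg (fun φ => φ a) hh₀
    exact this
  obtain ⟨τ₀, hτ₀⟩ := Ideal.Quotient.mk_surjective (g (AdjoinRoot.root _))
  have hj : τ₀ ^ e - h₀ s ∈ J := by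
    rw [← Ideal.Quotient.eq_zero_iff_mem, map_sub, map_pow, hτ₀, ← map_pow, root_pow'', hh₀',
      sub_self]
  have hJJ : ∀ x ∈ J, ∀ y ∈ J, x * y = 0 := by
    intro x hx y hy
    have : x * y ∈ J ^ 2 := by rw [pow_two]; exact Ideal.mul_mem_mul hx hy
    rwa [hJ, Ideal.mem_bot] at this
  letI : Algebra A B := h₀.toRingHom.toAlgebra
  haveI : IsScalarTower k A B := IsScalarTower.of_algebraMap_eq (fun x => (h₀.commutes x).symm)
  obtain ⟨δ, j₀, hδ⟩ := exists_derivation_add_smul k A s hs (↥J) ⟨τ₀ ^ e - h₀ s, hj⟩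
  have hδ' : (δ s : B) = (τ₀ ^ e - h₀ s) + h₀ s * (j₀ : B) := by
    have := congrArg Subtype.val hδ
    have halg : algebraMap A B s = h₀ s := rfl
    have h4 : (δ s : B) = (τ₀ ^ e - h₀ s) + algebraMap A B s * (j₀ : B) := by
      simpa [Algebra.smul_def] using this
    rw [h4, halg]
  let hA : A →ₐ[k] B := liftOfDerivationToSquareZero J hJ δ
  have hAapply : ∀ a, hA a = δ a + h₀ a := fun a => rfl
  obtain ⟨ε, hε⟩ : ∃ ε : k, (e : k) * ε = 1 := ⟨(e : k)⁻¹, mul_inv_cancel₀ hek⟩
  set x : B := algebraMap k B ε * j₀ with hx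
  have hxJ : x ∈ J := J.mul_mem_left _ j₀.2
  have hex : (e : B) * x = j₀ := by
    rw [hx, ← mul_assoc, ← map_natCast (algebraMap k B), ← map_mul, hε, map_one, one_mul]
  set τ : B := τ₀ * (1 + x) with hτ
  have hτe : τ ^ e = hA s := by
    rw [hAapply, hδ', hτ, mul_pow, one_add_pow_of_sq_eq_zero x (hJJ x hxJ x hxJ), hex]
    have h3 : (τ₀ ^ e - h₀ s) * (j₀ : B) = 0 := hJJ _ hj _ j₀.2
    linear_combination h3
  let h : AdjoinRoot (X ^ e - C s : A[X]) →ₐ[k] B := AdjoinRoot.liftAlgHom _ hA τ (by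
    rw [eval₂_sub, eval₂_pow, eval₂_X, eval₂_C, hτe]
    exact sub_self _)
  refine ⟨h, ?_⟩
  apply AlgHom.coe_ringHom_injective
  apply adjoinRoot_hom_ext
  · intro a
    show Ideal.Quotient.mk J (h (AdjoinRoot.of _ a)) = g (AdjoinRoot.of _ a)
    rw [AdjoinRoot.liftAlgHom_of, hAapply, map_add, Ideal.Quotient.eq_zero_iff_mem.mpr (δ a).2,
      zero_add, hh₀']
  · show Ideal.Quotient.mk J (h (AdjoinRoot.root _)) = g (AdjoinRoot.root _)
    rw [AdjoinRoot.liftAlgHom_root, hτ, map_mul, map_add, map_one,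
      Ideal.Quotient.eq_zero_iff_mem.mpr hxJ, add_zero, mul_one, hτ₀]


theorem isDomain_localization_of_smooth (k A : Type u) [Field k] [CommRing A] [Algebra k A]
    [Algebra.Smooth k A] (p : Ideal A) [p.IsPrime] : IsDomain (Localization.AtPrime p) := by
  haveI : IsNoetherianRing A := Algebra.FiniteType.isNoetherianRing k A
  haveI : Algebra.FormallySmooth A (Localization.AtPrime p) :=
    Algebra.FormallySmooth.of_isLocalization p.primeCompl
  haveI : Algebra.FormallySmooth k (Localization.AtPrime p) :=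
    Algebra.FormallySmooth.comp k A (Localization.AtPrime p)
  have h1 := Groth.Agent.Helper8.AdicFS.of_formallySmooth (R := k) (S := Localization.AtPrime p)
    (IsLocalRing.maximalIdeal (Localization.AtPrime p))
  haveI := (Groth.Agent.Helper8.AdicFS.regular_and_ringEquiv h1).1
  exact Groth.Agent.Helper8.RLR.isDomain _

theorem main (k A : Type u) [Field k] [CommRing A] [Algebra k A]
    [Algebra.Smooth k A] (s : A) (hs : Irreducible s) (e : ℕ) (he : 2 ≤ e) (hek : (e : k) ≠ 0) :
    Algebra.Smooth k (AdjoinRoot (Polynomial.X ^ e - Polynomial.C s)) ↔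
      Algebra.Smooth k (A ⧸ Ideal.span {s}) := by
  constructor
  · intro h
    haveI : Algebra.FormallySmooth k (A ⧸ Ideal.span {s}) :=
      formallySmooth_quotient_of_adjoinRoot k A s e he
    haveI : Algebra.FinitePresentation k (A ⧸ Ideal.span {s}) :=
      Algebra.FinitePresentation.quotient (Submodule.fg_span_singleton s)
    exact ⟨inferInstance, inferInstance⟩
  · intro h
    haveI : IsNoetherianRing A := Algebra.FiniteType.isNoetherianRing k A
    have hnzd : s ∈ nonZeroDivisors A :=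
      mem_nonZeroDivisors_of_irreducible A (fun p _ => isDomain_localization_of_smooth k A p) s hs
    haveI : Algebra.FormallySmooth k (AdjoinRoot (X ^ e - C s : A[X])) :=
      formallySmooth_adjoinRoot_of_quotient k A s hnzd e hek
    exact ⟨inferInstance, inferInstance⟩

end Aux

/-- Let k be a field, A a smooth k-algebra, s an irreducible element of A and e an integer, at least 2,
that is invertible in k. Then the k-algebra A[t]/(t^e - s) is smooth exactly when the quotient ring
A/(s) is a smooth k-algebra. (Smooth over k means formally smooth and of finite presentation over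
k.) -/
theorem result (k A : Type u) [Field k] [CommRing A] [Algebra k A]
    [Algebra.Smooth k A] (s : A) (hs : Irreducible s) (e : ℕ) (he : 2 ≤ e) (hek : (e : k) ≠ 0) :
    Algebra.Smooth k (AdjoinRoot (Polynomial.X ^ e - Polynomial.C s)) ↔
      Algebra.Smooth k (A ⧸ Ideal.span {s}) := by
  exact Aux.main k A s hs e he hek

end Groth.Agent.S13782
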