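import Groth.Statements.S13784
import Mathlib.Tactic
import Mathlib.RingTheory.IntegralDomain
import Mathlib.RingTheory.LocalRing.ResidueField.Basic
import Mathlib.Algebra.Ring.GeomSum

set_option autoImplicit false
universe u
open CAlg

namespace Groth.Agent.S13784

/-- Let A be a commutative local ring and G a finite subgroup of Aˣ. If the order of G is invertible in
A, then G is cyclic. -/
theorem result {A : Type u} [CommRing A] [IsLocalRing A]
    (G : Subgroup Aˣ) [Finite G] (hG : IsUnit ((Nat.card G : ℕ) : A)) : IsCyclic G := by
  classical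
  let f : G →* IsLocalRing.ResidueField A :=
    ((IsLocalRing.residue A : A →* IsLocalRing.ResidueField A).comp (Units.coeHom A)).comp G.subtype
  have hf : Function.Injective f := by
    rw [injective_iff_map_eq_one]
    intro u hu
    have hu' : IsLocalRing.residue A ((u : Aˣ) : A) = 1 := hu
    set n := Nat.card G with hn
    have hpow : ((u : Aˣ) : A) ^ n = 1 := by
      have : u ^ n = 1 := pow_card_eq_one'
      have h2 := congrArg (fun v : G => ((v : Aˣ) : A)) this
      simpa using h2
    have hgeom : (((u : Aˣ) : A) - 1) * ∑ i ∈ Finset.range n, ((u : Aˣ) : A) ^ i = 0 := by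
      rw [mul_geom_sum, hpow, sub_self]
    have hres : IsLocalRing.residue A (∑ i ∈ Finset.range n, ((u : Aˣ) : A) ^ i) =
        IsLocalRing.residue A ((n : ℕ) : A) := by
      rw [map_sum]
      simp [hu']
    have hunit : IsUnit (∑ i ∈ Finset.range n, ((u : Aˣ) : A) ^ i) := by
      by_contra hnu
      have hmem : (∑ i ∈ Finset.range n, ((u : Aˣ) : A) ^ i) ∈ IsLocalRing.maximalIdeal A :=
        (IsLocalRing.mem_maximalIdeal _).mpr hnu
      have h0 : IsLocalRing.residue A ((n : ℕ) : A) = 0 := by
        rw [← hres]
        exact (IsLocalRing.residue_eq_zero_iff _).mpr hmem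
      have hmem' : ((n : ℕ) : A) ∈ IsLocalRing.maximalIdeal A :=
        (IsLocalRing.residue_eq_zero_iff _).mp h0
      exact (IsLocalRing.mem_maximalIdeal _).mp hmem' hG
    have h1 : ((u : Aˣ) : A) - 1 = 0 := by
      have := hunit.mul_left_eq_zero.mp hgeom
      exact this
    apply Subtype.ext
    apply Units.ext
    simpa [sub_eq_zero] using h1
  exact isCyclic_of_injective_ringHom f hf

end Groth.Agent.S13784
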