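import Groth.Statements.S13785
import Mathlib.LinearAlgebra.Matrix.Charpoly.Coeff

set_option autoImplicit false
universe u
open CAlg

namespace Groth.Agent.S13785

/-- For any commutative ring A, the determinant of the generic n × n matrix is a nonzerodivisor of the
polynomial ring over A in the n² matrix entries. -/
theorem result (A : Type u) [CommRing A] (n : ℕ) :
    (Matrix.mvPolynomialX (Fin n) (Fin n) A).det ∈ nonZeroDivisors (MvPolynomial (Fin n × Fin n) A) := by
  classical
  -- the substitution x_ij ↦ x_ij + δ_ij T
  let τ : MvPolynomial (Fin n × Fin n) A →ₐ[A] Polynomial (MvPolynomial (Fin n × Fin n) A) :=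
    MvPolynomial.aeval (fun ij : Fin n × Fin n =>
      Polynomial.C (MvPolynomial.X ij) + if ij.1 = ij.2 then Polynomial.X else 0)
  have hτX : ∀ ij : Fin n × Fin n, τ (MvPolynomial.X ij) =
      Polynomial.C (MvPolynomial.X ij) + if ij.1 = ij.2 then Polynomial.X else 0 := by
    intro ij
    exact MvPolynomial.aeval_X _ ij
  have hτC : ∀ a : A, τ (MvPolynomial.C a) = Polynomial.C (MvPolynomial.C a) := by
    intro a
    have := τ.commutes a
    simpa [MvPolynomial.algebraMap_eq, Polynomial.algebraMap_apply] using this
  have hτ : τ.mapMatrix (Matrix.mvPolynomialX (Fin n) (Fin n) A) =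
      Matrix.charmatrix (-(Matrix.mvPolynomialX (Fin n) (Fin n) A)) := by
    ext i j : 1
    rw [AlgHom.mapMatrix_apply, Matrix.map_apply, Matrix.charmatrix_apply,
      Matrix.mvPolynomialX_apply, hτX]
    simp only [Matrix.neg_apply, map_neg, sub_neg_eq_add, Matrix.diagonal_apply,
      Matrix.mvPolynomialX_apply]
    rw [add_comm]
  have hdet : τ (Matrix.mvPolynomialX (Fin n) (Fin n) A).det =
      (-(Matrix.mvPolynomialX (Fin n) (Fin n) A)).charpoly := by
    rw [AlgHom.map_det, hτ]
    rfl
  have hmonic : τ (Matrix.mvPolynomialX (Fin n) (Fin n) A).det ∈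
      nonZeroDivisors (Polynomial (MvPolynomial (Fin n × Fin n) A)) := by
    rw [hdet]
    exact (Matrix.charpoly_monic _).mem_nonZeroDivisors
  have hπ : ∀ g : MvPolynomial (Fin n × Fin n) A,
      (Polynomial.evalRingHom (0 : MvPolynomial (Fin n × Fin n) A)) (τ g) = g := by
    intro g
    have : (Polynomial.evalRingHom (0 : MvPolynomial (Fin n × Fin n) A)).comp τ.toRingHom =
        RingHom.id _ := by
      apply MvPolynomial.ringHom_ext
      · intro a
        simp only [RingHom.coe_comp, Function.comp_apply, AlgHom.toRingHom_eq_coe,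
          RingHom.coe_coe, hτC, Polynomial.coe_evalRingHom, Polynomial.eval_C, RingHom.id_apply]
      · intro ij
        simp only [RingHom.coe_comp, Function.comp_apply, AlgHom.toRingHom_eq_coe,
          RingHom.coe_coe, hτX, Polynomial.coe_evalRingHom, Polynomial.eval_add,
          Polynomial.eval_C, RingHom.id_apply]
        split_ifs <;> simp
    exact congrArg (fun φ => φ g) this
  rw [mem_nonZeroDivisors_iff_right]
  intro g hg
  have h1 : τ g * τ (Matrix.mvPolynomialX (Fin n) (Fin n) A).det = 0 := by
    rw [← map_mul, hg, map_zero]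
  have h2 : τ g = 0 := (mem_nonZeroDivisors_iff_right.mp hmonic) _ h1
  rw [← hπ g, h2, map_zero]

end Groth.Agent.S13785
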