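import Groth.Statements.S13786
import Mathlib

set_option autoImplicit false
universe u
open CAlg

namespace Groth.Agent.S13786

section


open MvPolynomial
open scoped MonomialOrder

theorem mccoy {σ : Type*} {A : Type*} [CommRing A] (m : MonomialOrder σ) (f : MvPolynomial σ A) :
    ∀ g : MvPolynomial σ A, g ≠ 0 → f * g = 0 → ∃ a : A, a ≠ 0 ∧ C a * f = 0 := by
  classical
  intro g
  induction h : m.toSyn (m.degree g) using WellFoundedLT.induction generalizing g with
  | ind x ih =>
  intro hg hfg
  by_cases hall : ∀ d, C (f.coeff d) * g = 0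
  · refine ⟨m.leadingCoeff g, m.leadingCoeff_ne_zero_iff.mpr hg, ?_⟩
    ext d
    rw [coeff_C_mul, coeff_zero]
    have := congrArg (coeff (m.degree g)) (hall d)
    rw [coeff_C_mul, coeff_zero] at this
    rw [mul_comm]; exact this
  · simp only [not_forall] at hall
    obtain ⟨d1, hd1⟩ := hall
    obtain ⟨S, hS⟩ : ∃ S : Finset (σ →₀ ℕ), S = f.support.filter (fun d => C (f.coeff d) * g ≠ 0) := ⟨_, rfl⟩
    have hSne : S.Nonempty := by
      refine ⟨d1, ?_⟩
      rw [hS, Finset.mem_filter, mem_support_iff]
      refine ⟨?_, hd1⟩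
      intro h0
      rw [h0, map_zero, zero_mul] at hd1
      exact hd1 rfl
    obtain ⟨d0, hd0S, hd0max⟩ := Finset.exists_max_image S m.toSyn hSne
    have hd0 : C (f.coeff d0) * g ≠ 0 := by
      rw [hS, Finset.mem_filter] at hd0S; exact hd0S.2
    have hkill : ∀ i, m.toSyn d0 < m.toSyn i → C (f.coeff i) * g = 0 := by
      intro i hi
      by_contra hne
      have hiS : i ∈ S := by
        rw [hS, Finset.mem_filter, mem_support_iff]
        refine ⟨?_, hne⟩
        intro h0
        rw [h0, map_zero, zero_mul] at hne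
        exact hne rfl
      exact absurd (hd0max i hiS) (not_le.mpr hi)
    -- the key coefficient
    have hkey : f.coeff d0 * m.leadingCoeff g = 0 := by
      have h0 := congrArg (coeff (d0 + m.degree g)) hfg
      rw [coeff_zero, coeff_mul, Finset.sum_eq_single (d0, m.degree g)] at h0
      · exact h0
      · rintro ⟨i, j⟩ hij hne
        rw [Finset.HasAntidiagonal.mem_antidiagonal] at hij
        simp only at hij
        rcases lt_trichotomy (m.toSyn i) (m.toSyn d0) with hlt | heq | hgt
        · have hj : m.degree g ≺[m] j := by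
            rw [← not_le]
            intro hle
            have h1 : m.toSyn (i + j) < m.toSyn (d0 + m.degree g) := by
              rw [map_add, map_add]
              exact add_lt_add_of_lt_of_le hlt hle
            rw [hij] at h1
            exact lt_irrefl _ h1
          show f.coeff i * g.coeff j = 0
          rw [m.coeff_eq_zero_of_lt hj, mul_zero]
        · exfalso
          have hi : i = d0 := m.toSyn.injective heq
          apply hne
          rw [hi] at hij
          have hj : j = m.degree g := add_left_cancel hij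
          rw [hi, hj]
        · have := congrArg (coeff j) (hkill i hgt)
          rw [coeff_C_mul, coeff_zero] at this
          exact this
      · intro hnot
        exfalso
        apply hnot
        exact Finset.HasAntidiagonal.mem_antidiagonal.mpr rfl
    obtain ⟨g', hg'⟩ : ∃ g', g' = C (f.coeff d0) * g := ⟨_, rfl⟩
    have hg'ne : g' ≠ 0 := by rw [hg']; exact hd0
    have hfg' : f * g' = 0 := by
      rw [hg', mul_left_comm, hfg, mul_zero]
    have hdegle : m.degree g' ≼[m] m.degree g := by
      rw [hg']
      have := m.degree_mul_le (f := C (f.coeff d0)) (g := g)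
      rwa [m.degree_C, zero_add] at this
    have hdegne : m.degree g' ≠ m.degree g := by
      intro heq
      have : m.leadingCoeff g' = 0 := by
        unfold MonomialOrder.leadingCoeff
        rw [heq, hg', coeff_C_mul]
        exact hkey
      exact hg'ne (m.leadingCoeff_eq_zero_iff.mp this)
    have hlt : m.toSyn (m.degree g') < x := by
      rw [← h]
      exact lt_of_le_of_ne hdegle (fun hh => hdegne (m.toSyn.injective hh))
    exact ih _ hlt g' rfl hg'ne hfg'

theorem nzd_of_primitive {A : Type*} [CommRing A] {σ : Type*} [Finite σ] (f : MvPolynomial σ A)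
    (hf : Ideal.span (Set.range f.coeff) = ⊤) : f ∈ nonZeroDivisors (MvPolynomial σ A) := by
  rw [mem_nonZeroDivisors_iff_right]
  intro g hgf
  by_contra hg
  have hfg : f * g = 0 := by rw [mul_comm]; exact hgf
  obtain ⟨k, ⟨e⟩⟩ := Finite.exists_equiv_fin σ
  letI : LinearOrder σ := LinearOrder.lift' e e.injective
  obtain ⟨a, ha, haf⟩ := mccoy (MonomialOrder.lex (σ := σ)) f g hg hfg
  apply ha
  have hann : ∀ x ∈ Ideal.span (Set.range f.coeff), a * x = 0 := by
    intro x hx
    induction hx using Submodule.span_induction with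
    | mem x hx =>
      obtain ⟨d, rfl⟩ := hx
      have := congrArg (coeff d) haf
      rwa [coeff_C_mul, coeff_zero] at this
    | zero => exact mul_zero _
    | add x y _ _ hx hy => rw [mul_add, hx, hy, add_zero]
    | smul c x _ hx => rw [smul_eq_mul, mul_left_comm, hx, mul_zero]
  have := hann 1 (by rw [hf]; trivial)
  rwa [mul_one] at this

open TensorProduct in
theorem flat_of_exact {A : Type*} [CommRing A] {P Q : Type*} [AddCommGroup P] [Module A P]
    [AddCommGroup Q] [Module A Q] [Module.Flat A P] (u : P →ₗ[A] P) (π : P →ₗ[A] Q)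
    (hπ : Function.Surjective π) (hex : Function.Exact u π)
    (hmod : ∀ (I : Ideal A) (s : P), u s ∈ I • (⊤ : Submodule A P) → s ∈ I • (⊤ : Submodule A P)) :
    Module.Flat A Q := by
  rw [Module.Flat.iff_rTensor_injective']
  intro I
  rw [injective_iff_map_eq_zero]
  intro ξ hξ
  -- the map I ⊗ P → P
  let μ : I ⊗[A] P →ₗ[A] P := (TensorProduct.lid A P).toLinearMap ∘ₗ (LinearMap.rTensor P I.subtype)
  have hμinj : Function.Injective μ :=
    (TensorProduct.lid A P).injective.comp
      (Module.Flat.rTensor_preserves_injective_linearMap I.subtype Subtype.val_injective)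
  have hμtmul : ∀ (i : I) (p : P), μ (i ⊗ₜ p) = (i : A) • p := by
    intro i p
    simp [μ]
  have hμmem : ∀ η, μ η ∈ I • (⊤ : Submodule A P) := by
    intro η
    induction η using TensorProduct.induction_on with
    | zero => simp
    | tmul i p => rw [hμtmul]; exact Submodule.smul_mem_smul i.2 trivial
    | add x y hx hy => rw [map_add]; exact Submodule.add_mem _ hx hy
  have hμsurj : ∀ s ∈ I • (⊤ : Submodule A P), ∃ σ, μ σ = s := by
    intro s hs
    refine Submodule.smul_induction_on hs ?_ ?_
    · intro i hi p _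
      exact ⟨(⟨i, hi⟩ : I) ⊗ₜ p, hμtmul _ _⟩
    · rintro x y ⟨a, ha⟩ ⟨b, hb⟩
      exact ⟨a + b, by rw [map_add, ha, hb]⟩
  have hμu : ∀ σ, μ (LinearMap.lTensor I u σ) = u (μ σ) := by
    intro σ
    induction σ using TensorProduct.induction_on with
    | zero => simp
    | tmul i p => rw [LinearMap.lTensor_tmul, hμtmul, hμtmul, map_smul]
    | add x y hx hy => rw [map_add, map_add, map_add, map_add, hx, hy]
  -- lift ξ
  obtain ⟨η, rfl⟩ := LinearMap.lTensor_surjective I hπ ξ
  -- π (μ η) = 0
  have h1 : π (μ η) = 0 := by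
    have e : ∀ η : I ⊗[A] P, (TensorProduct.lid A Q) (LinearMap.rTensor Q I.subtype (LinearMap.lTensor I π η))
        = π (μ η) := by
      intro η
      induction η using TensorProduct.induction_on with
      | zero => simp
      | tmul i p => rw [hμtmul]; simp
      | add x y hx hy => simp only [map_add, hx, hy]
    rw [← e, hξ, map_zero]
  obtain ⟨s, hs⟩ := (hex (μ η)).mp h1
  have hsI : s ∈ I • (⊤ : Submodule A P) := hmod I s (by rw [hs]; exact hμmem η)
  obtain ⟨σ, hσ⟩ := hμsurj s hsI
  have hη : η = LinearMap.lTensor I u σ := by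
    apply hμinj
    rw [hμu, hσ, hs]
  rw [hη, ← LinearMap.comp_apply, ← LinearMap.lTensor_comp]
  have hzero : π ∘ₗ u = 0 := by
    ext p
    exact (hex (u p)).mpr ⟨p, rfl⟩
  rw [hzero, LinearMap.lTensor_zero, LinearMap.zero_apply]

theorem flat_quot {A : Type*} [CommRing A] {σ : Type*} [Finite σ]
    (f : MvPolynomial σ A) (hf : Ideal.span (Set.range f.coeff) = ⊤) :
      Module.Flat A (MvPolynomial σ A ⧸ Ideal.span ({f} : Set (MvPolynomial σ A))) := by
  let u : MvPolynomial σ A →ₗ[A] MvPolynomial σ A := LinearMap.mulLeft A f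
  let π : MvPolynomial σ A →ₗ[A] (MvPolynomial σ A ⧸ Ideal.span ({f} : Set (MvPolynomial σ A))) :=
    (Ideal.Quotient.mkₐ A _).toLinearMap
  apply flat_of_exact u π
  · exact Ideal.Quotient.mk_surjective
  · intro r
    constructor
    · intro h
      have hr : r ∈ Ideal.span ({f} : Set (MvPolynomial σ A)) := Ideal.Quotient.eq_zero_iff_mem.mp h
      obtain ⟨s, hs⟩ := Ideal.mem_span_singleton'.mp hr
      exact ⟨s, by simp only [u, LinearMap.mulLeft_apply]; rw [mul_comm]; exact hs⟩
    · rintro ⟨s, rfl⟩
      exact Ideal.Quotient.eq_zero_iff_mem.mpr (Ideal.mem_span_singleton'.mpr ⟨s, mul_comm _ _⟩)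
  · intro I s hs
    have key : ∀ p : MvPolynomial σ A, p ∈ I • (⊤ : Submodule A (MvPolynomial σ A)) ↔
        MvPolynomial.map (Ideal.Quotient.mk I) p = 0 := by
      intro p
      rw [Ideal.smul_top_eq_map, Submodule.restrictScalars_mem, ← RingHom.mem_ker, MvPolynomial.ker_map,
        Ideal.mk_ker]
      rfl
    rw [key] at hs ⊢
    simp only [u, LinearMap.mulLeft_apply, map_mul] at hs
    have hf' : Ideal.span (Set.range (MvPolynomial.map (Ideal.Quotient.mk I) f).coeff) = ⊤ := by
      have : Set.range (MvPolynomial.map (Ideal.Quotient.mk I) f).coeff =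
          (Ideal.Quotient.mk I) '' (Set.range f.coeff) := by
        ext x
        simp only [Set.mem_range, Set.mem_image, exists_exists_eq_and, MvPolynomial.coeff_map]
      rw [this, ← Ideal.map_span, hf, Ideal.map_top]
    have hn := nzd_of_primitive _ hf'
    rw [mul_comm] at hs
    exact (mem_nonZeroDivisors_iff_right.mp hn) _ hs

theorem det_primitive (A : Type*) [CommRing A] (n : ℕ) :
    Ideal.span (Set.range (Matrix.mvPolynomialX (Fin n) (Fin n) A).det.coeff) = ⊤ := by
  by_contra hne
  obtain ⟨M, hM, hle⟩ := Ideal.exists_le_maximal _ hne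
  -- evaluate at the identity matrix mod M
  let g : Fin n × Fin n → A ⧸ M := fun ij => if ij.1 = ij.2 then 1 else 0
  let φ : MvPolynomial (Fin n × Fin n) A →+* A ⧸ M := MvPolynomial.eval₂Hom (Ideal.Quotient.mk M) g
  have h1 : φ (Matrix.mvPolynomialX (Fin n) (Fin n) A).det = 1 := by
    rw [RingHom.map_det]
    have : (φ.mapMatrix (Matrix.mvPolynomialX (Fin n) (Fin n) A)) = 1 := by
      ext i j
      simp only [RingHom.mapMatrix_apply, Matrix.map_apply, Matrix.mvPolynomialX_apply, φ,
        MvPolynomial.coe_eval₂Hom, MvPolynomial.eval₂_X, g, Matrix.one_apply]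
    rw [this, Matrix.det_one]
  have h0 : φ (Matrix.mvPolynomialX (Fin n) (Fin n) A).det = 0 := by
    simp only [φ, MvPolynomial.coe_eval₂Hom]
    rw [MvPolynomial.eval₂_eq]
    apply Finset.sum_eq_zero
    intro d _
    have : Ideal.Quotient.mk M ((Matrix.mvPolynomialX (Fin n) (Fin n) A).det.coeff d) = 0 :=
      Ideal.Quotient.eq_zero_iff_mem.mpr (hle (Ideal.subset_span ⟨d, rfl⟩))
    rw [this, zero_mul]
  have hnt : Nontrivial (A ⧸ M) := Ideal.Quotient.nontrivial_iff.mpr hM.ne_top
  rw [h1] at h0
  exact one_ne_zero h0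

theorem main (A : Type u) [CommRing A] (n : ℕ) (hn : 0 < n) :
    Module.FaithfullyFlat A
      (MvPolynomial (Fin n × Fin n) A ⧸ Ideal.span {(Matrix.mvPolynomialX (Fin n) (Fin n) A).det}) := by
  haveI : Module.Flat A (MvPolynomial (Fin n × Fin n) A ⧸
      Ideal.span {(Matrix.mvPolynomialX (Fin n) (Fin n) A).det}) := flat_quot _ (det_primitive A n)
  refine ⟨?_⟩
  intro M hM htop
  -- the map to A ⧸ M evaluating at zero
  let φ : MvPolynomial (Fin n × Fin n) A →+* A ⧸ M :=
    (Ideal.Quotient.mk M).comp (MvPolynomial.eval (fun _ => (0 : A)))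
  have hφdet : φ (Matrix.mvPolynomialX (Fin n) (Fin n) A).det = 0 := by
    rw [RingHom.map_det]
    have : (φ.mapMatrix (Matrix.mvPolynomialX (Fin n) (Fin n) A)) = 0 := by
      ext i j
      simp [φ, Matrix.mvPolynomialX_apply]
    rw [this]
    haveI : Nonempty (Fin n) := ⟨⟨0, hn⟩⟩
    exact Matrix.det_zero
  let ψ : (MvPolynomial (Fin n × Fin n) A ⧸ Ideal.span {(Matrix.mvPolynomialX (Fin n) (Fin n) A).det})
      →+* A ⧸ M :=
    Ideal.Quotient.lift _ φ (by
      intro x hx
      obtain ⟨y, rfl⟩ := Ideal.mem_span_singleton'.mp hx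
      rw [map_mul, hφdet, mul_zero])
  have hψ : ∀ x ∈ M • (⊤ : Submodule A (MvPolynomial (Fin n × Fin n) A ⧸
      Ideal.span {(Matrix.mvPolynomialX (Fin n) (Fin n) A).det})), ψ x = 0 := by
    intro x hx
    refine Submodule.smul_induction_on hx ?_ ?_
    · intro a ha y _
      obtain ⟨p, rfl⟩ := Ideal.Quotient.mk_surjective y
      have : a • (Ideal.Quotient.mk _ p : MvPolynomial (Fin n × Fin n) A ⧸
          Ideal.span {(Matrix.mvPolynomialX (Fin n) (Fin n) A).det}) = Ideal.Quotient.mk _ (a • p) := rfl
      rw [this]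
      show φ (a • p) = 0
      rw [MvPolynomial.smul_eq_C_mul, map_mul]
      have : φ (MvPolynomial.C a) = 0 := by
        simp only [φ, RingHom.comp_apply, MvPolynomial.eval_C]
        exact Ideal.Quotient.eq_zero_iff_mem.mpr ha
      rw [this, zero_mul]
    · intro x y hx hy
      rw [map_add, hx, hy, add_zero]
  have h1 : ψ 1 = 0 := hψ 1 (by rw [htop]; trivial)
  rw [map_one] at h1
  have hnt : Nontrivial (A ⧸ M) := Ideal.Quotient.nontrivial_iff.mpr hM.ne_top
  exact one_ne_zero h1


end


/-- For a commutative ring A and n ≥ 1, with det the determinant of the generic n × n matrix in the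
polynomial ring A[X] in n² indeterminates, the A-algebra A[X]/(det) is faithfully flat over A. (For
n = 0 the determinant is 1 and the quotient is the zero ring, so n ≥ 1 is required.) -/
theorem result (A : Type u) [CommRing A] (n : ℕ) (hn : 0 < n) :
    Module.FaithfullyFlat A
      (MvPolynomial (Fin n × Fin n) A ⧸ Ideal.span {(Matrix.mvPolynomialX (Fin n) (Fin n) A).det}) := by
  classical
  exact main A n hn

end Groth.Agent.S13786
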