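import Groth.Statements.S13787
import Mathlib

set_option autoImplicit false
universe u
open CAlg

namespace Groth.Agent.S13787

/-- Let A be a nonzero commutative ring and n ≥ 1, let det be the determinant of the generic n × n
matrix in the polynomial ring A[X] in its n² entries, and let A[X, 1/det] be the localization at det
(the coordinate ring of GL_n over A). The homomorphism Aˣ × ℤ → (A[X, 1/det])ˣ sending (a, e) to a ·
det^e is injective. (The published statement takes the exponent in the group of locally constant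
ℤ-valued functions on Spec A, which also covers A = 0; with integer exponents as here, A must be
nonzero and n ≥ 1.) -/
theorem result (A : Type u) [CommRing A] [Nontrivial A] (n : ℕ) (hn : 0 < n) :
    Function.Injective (fun p : Aˣ × ℤ =>
        Units.map (algebraMap A (Localization.Away (Matrix.mvPolynomialX (Fin n) (Fin n) A).det)).toMonoidHom p.1 *
          (IsLocalization.Away.algebraMap_isUnit (S := Localization.Away (Matrix.mvPolynomialX (Fin n) (Fin n) A).det)
            (Matrix.mvPolynomialX (Fin n) (Fin n) A).det).unit ^ p.2) := by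
  classical
  set D := (Matrix.mvPolynomialX (Fin n) (Fin n) A).det with hD
  -- the diagonal substitution into Laurent polynomials
  let θ : MvPolynomial (Fin n × Fin n) A →ₐ[A] AddMonoidAlgebra A ℤ :=
    MvPolynomial.aeval (fun ij : Fin n × Fin n =>
      if ij.1 = ij.2 then (AddMonoidAlgebra.single (1 : ℤ) (1 : A)) else 0)
  have hθD : θ D = AddMonoidAlgebra.single (n : ℤ) (1 : A) := by
    rw [hD, AlgHom.map_det]
    have hM : θ.mapMatrix (Matrix.mvPolynomialX (Fin n) (Fin n) A) =
        Matrix.diagonal (fun _ : Fin n => (AddMonoidAlgebra.single (1 : ℤ) (1 : A))) := by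
      ext i j
      simp only [AlgHom.mapMatrix_apply, Matrix.map_apply, Matrix.mvPolynomialX_apply, θ,
        MvPolynomial.aeval_X, Matrix.diagonal_apply]
    rw [hM, Matrix.det_diagonal, Finset.prod_const, Finset.card_univ, Fintype.card_fin,
      AddMonoidAlgebra.single_pow]
    simp
  let tU : Multiplicative ℤ →* (AddMonoidAlgebra A ℤ)ˣ := (AddMonoidAlgebra.of A ℤ).toHomUnits
  have htU : ∀ z : ℤ, ((tU (Multiplicative.ofAdd z) : (AddMonoidAlgebra A ℤ)ˣ) : AddMonoidAlgebra A ℤ) =
      AddMonoidAlgebra.single z 1 := by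
    intro z
    simp [tU, MonoidHom.coe_toHomUnits, AddMonoidAlgebra.of_apply]
  have hunit : IsUnit (θ.toRingHom D) := by
    change IsUnit (θ D)
    rw [hθD, ← htU]
    exact Units.isUnit _
  let ψ : Localization.Away D →+* AddMonoidAlgebra A ℤ := IsLocalization.Away.lift D hunit
  have hψ : ∀ x, ψ (algebraMap _ _ x) = θ x := fun x => IsLocalization.Away.lift_eq D hunit x
  let F := Units.map ψ.toMonoidHom
  have hF1 : ∀ a : Aˣ, ((F (Units.map (algebraMap A (Localization.Away D)).toMonoidHom a) :
      (AddMonoidAlgebra A ℤ)ˣ) : AddMonoidAlgebra A ℤ) = AddMonoidAlgebra.single 0 (a : A) := by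
    intro a
    simp only [F, Units.coe_map, RingHom.toMonoidHom_eq_coe, MonoidHom.coe_coe]
    rw [IsScalarTower.algebraMap_apply A (MvPolynomial (Fin n × Fin n) A) (Localization.Away D), hψ,
      AlgHom.commutes]
    rfl
  have hF2 : F (IsLocalization.Away.algebraMap_isUnit (S := Localization.Away D) D).unit =
      tU (Multiplicative.ofAdd (n : ℤ)) := by
    apply Units.ext
    rw [htU]
    simp only [F, Units.coe_map, RingHom.toMonoidHom_eq_coe, MonoidHom.coe_coe, IsUnit.unit_spec]
    rw [hψ, hθD]
  rintro ⟨a, e⟩ ⟨a', e'⟩ h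
  simp only at h
  have h2 := congrArg (fun x => ((F x : (AddMonoidAlgebra A ℤ)ˣ) : AddMonoidAlgebra A ℤ)) h
  simp only [map_mul, map_zpow, Units.val_mul] at h2
  have hz : ∀ z : ℤ, tU (Multiplicative.ofAdd (n : ℤ)) ^ z =
      tU (Multiplicative.ofAdd (z * (n : ℤ))) := by
    intro z
    rw [← MonoidHom.map_zpow tU (Multiplicative.ofAdd (n : ℤ)) z]
    congr 1
  rw [hF1, hF1, hF2, hz, hz, htU, htU,
    AddMonoidAlgebra.single_mul_single, AddMonoidAlgebra.single_mul_single] at h2
  simp only [zero_add, mul_one] at h2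
  rcases AddMonoidAlgebra.single_inj.mp h2 with ⟨h3, h4⟩ | ⟨h3, _⟩
  · have hn' : (n : ℤ) ≠ 0 := by exact_mod_cast hn.ne'
    have h5 : e = e' := mul_right_cancel₀ hn' h3
    exact Prod.ext (Units.ext h4) h5
  · exact absurd h3 a.ne_zero

end Groth.Agent.S13787
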