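import Groth.Statements.S1379
import Groth.Agent.Lib.Helper3.FppfFin1

set_option autoImplicit false
universe u
open FlatMor

namespace Groth.Agent.S1379

open AlgebraicGeometry CategoryTheory Limits in
/-- Let S₁ → S be flat, locally of finite presentation and surjective (an fppf cover by one morphism).
Then for every point s of S there are an étale morphism S' → S whose image contains s and a
surjective, finite, flat morphism of finite presentation V → S' such that V → S factors through S₁
Zariski locally on V. -/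
theorem result {S₁ S : Scheme.{u}} (g : S₁ ⟶ S) [Flat g] [LocallyOfFinitePresentation g] [Surjective g] (s : S) :
    ∃ (S' V : Scheme.{u}) (e : S' ⟶ S) (π : V ⟶ S'), Etale e ∧ s ∈ Set.range ⇑e ∧ Surjective π ∧ IsFinite π ∧ Flat π ∧ LocallyOfFinitePresentation π ∧
      ∀ v : ↑V, ∃ (W : V.Opens) (r : ↑W ⟶ S₁), v ∈ W ∧ r ≫ g = W.ι ≫ π ≫ e := by
  obtain ⟨x₀, rfl⟩ := Surjective.surj (f := g) s
  obtain ⟨S', V, e, π, r, h1, h2, h3, h4, h5, h6, h7⟩ :=
    Groth.Agent.Helper3.FppfFin1.exists_finite_flat_refinement g x₀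
  refine ⟨S', V, e, π, h1, h2, h3, h4, h5, h6, fun v => ⟨⊤, (⊤ : V.Opens).ι ≫ r, trivial, ?_⟩⟩
  rw [Category.assoc, h7]

end Groth.Agent.S1379
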