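import Groth.Statements.S13790
import Groth.Agent.S13789
import Mathlib.Tactic

set_option autoImplicit false
universe u
open CAlg

namespace Groth.Agent.S13790

theorem result {A Q : Type u} [CommRing A] [CommRing Q] [Algebra A Q] [IsFractionRing A Q] (B : Subalgebra A Q) :
    IsFractionRing B Q := by
  obtain ⟨h1, h2⟩ := Groth.Agent.S13789.result (A := A) (Q := Q) B
  rw [IsFractionRing, isLocalization_iff]
  refine ⟨?_, ?_, ?_⟩
  · rintro ⟨b, hb⟩
    obtain ⟨r, u, hr, hu, hru⟩ := h2 b hb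
    have hr' : IsUnit (algebraMap A Q r) := IsLocalization.map_units Q ⟨r, hr⟩
    have hu' : IsUnit (algebraMap A Q u) := IsLocalization.map_units Q ⟨u, hu⟩
    have : IsUnit ((b : Q) * algebraMap A Q u) := hru ▸ hr'
    exact (IsUnit.mul_iff.mp this).1
  · intro z
    obtain ⟨⟨a, u⟩, hau⟩ := IsLocalization.surj (nonZeroDivisors A) z
    exact ⟨⟨algebraMap A B a, ⟨algebraMap A B u, h1 u u.2⟩⟩, hau⟩
  · intro x y hxy
    refine ⟨1, ?_⟩
    have : x = y := Subtype.ext hxy
    rw [this]

end Groth.Agent.S13790
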