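import Groth.Statements.S13791
import Mathlib
import Mathlib
import Groth.Agent.Lib.Helper5.Misc.ConstSect
import Groth.Agent.Lib.Helper5.Misc.UnitFree
import Groth.Agent.Lib.Helper5.Misc.ExtShift

set_option autoImplicit false
universe u
open CategoryTheory
open CohSite

open CategoryTheory Limits Opposite Abelian

namespace Groth.Agent.S13791

open Groth.Agent.Lib.Helper5.Misc Groth.Agent.Helper3

variable {C : Type u} [SmallCategory C] (J : GrothendieckTopology C)

instance constPreservesFiniteColimits :
    PreservesFiniteColimits (Functor.const Cᵒᵖ : AddCommGrpCat.{u} ⥤ Cᵒᵖ ⥤ AddCommGrpCat.{u}) := by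
  constructor
  intro K _ _
  constructor
  intro G
  apply preservesColimit_of_evaluation
  intro k
  exact inferInstanceAs (PreservesColimit G (𝟭 AddCommGrpCat.{u}))

instance : PreservesFiniteColimits (constantSheaf J AddCommGrpCat.{u}) := by
  dsimp only [constantSheaf]
  exact comp_preservesFiniteColimits _ _

/-- lifting maps out of the constant sheaf `ℤ` along a surjection of constant sheaves -/
theorem exists_lift {B C' : AddCommGrpCat.{u}} (π : B ⟶ C') (hπ : Function.Surjective π)
    (φ : (constantSheaf J AddCommGrpCat.{u}).obj (AddCommGrpCat.of (ULift.{u} ℤ)) ⟶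
      (constantSheaf J AddCommGrpCat.{u}).obj C') :
    ∃ ψ : (constantSheaf J AddCommGrpCat.{u}).obj (AddCommGrpCat.of (ULift.{u} ℤ)) ⟶
      (constantSheaf J AddCommGrpCat.{u}).obj B, ψ ≫ (constantSheaf J AddCommGrpCat.{u}).map π = φ := by
  obtain ⟨s, hs⟩ := ConstSect.exists_section J π hπ
  let e := TCech.adjF (J := J)
  let φ'' := e.homEquiv _ _ ((UnitFree.constIso J).inv ≫ φ)
  refine ⟨(UnitFree.constIso J).hom ≫ (e.homEquiv _ _).symm (φ'' ≫ s), ?_⟩
  rw [Category.assoc, ← Adjunction.homEquiv_naturality_right_symm, Category.assoc, hs,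
    Category.comp_id, Equiv.symm_apply_apply, Iso.hom_inv_id_assoc]


theorem main {A B : Type u} [AddCommGroup A] [AddCommGroup B] (f : A →+ B)
    (hf : Function.Injective f) :
    Function.Injective
      (Sheaf.H.map ((constantSheaf J AddCommGrpCat.{u}).map (AddCommGrpCat.ofHom f)) 1) := by
  let S : ShortComplex AddCommGrpCat.{u} :=
    ShortComplex.mk (AddCommGrpCat.ofHom f) (cokernel.π (AddCommGrpCat.ofHom f)) (cokernel.condition _)
  have hm : Mono S.f := (AddCommGrpCat.mono_iff_injective _).2 hf
  have hS : S.ShortExact :=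
    { exact := ShortComplex.exact_of_g_is_cokernel _ (cokernelIsCokernel _)
      mono_f := hm
      epi_g := by dsimp [S]; infer_instance }
  have hS' : (S.map (constantSheaf J AddCommGrpCat.{u})).ShortExact :=
    hS.map_of_exact (constantSheaf J AddCommGrpCat.{u})
  rw [injective_iff_map_eq_zero]
  intro x hx
  obtain ⟨x₃, hx₃⟩ := Ext.covariant_sequence_exact₁ _ hS' x hx (zero_add 1)
  obtain ⟨φ, rfl⟩ := (Ext.addEquiv₀).symm.surjective x₃
  have he : Epi S.g := hS.epi_g
  obtain ⟨ψ, hψ⟩ := exists_lift J S.g ((AddCommGrpCat.epi_iff_surjective _).1 he) φ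
  rw [← hx₃]
  exact (ExtShift.δ₀_eq_zero_iff hS' _ φ).2 ⟨ψ, hψ⟩

end Groth.Agent.S13791

namespace Groth.Agent.S13791

/-- On a site, for a short exact sequence 0 → A → B → C → 0 of abelian groups the map H¹(A) → H¹(B) on
the first cohomology of the associated constant sheaves is injective. Stated for an injective
homomorphism f : A → B (C being its cokernel), with H¹ the Ext-based sheaf cohomology of the site. -/
theorem result {C : Type u} [SmallCategory C] (J : GrothendieckTopology C)
    {A B : Type u} [AddCommGroup A] [AddCommGroup B] (f : A →+ B) (hf : Function.Injective f) :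
    Function.Injective
      (Sheaf.H.map ((constantSheaf J AddCommGrpCat.{u}).map (AddCommGrpCat.ofHom f)) 1) := by
  exact main J f hf

end Groth.Agent.S13791
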