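import Groth.Statements.S13794
import Mathlib.Tactic
import Mathlib.Algebra.Polynomial.Coeff

set_option autoImplicit false
universe u
open Polynomial
open Curves

namespace Groth.Agent.S13794

/-- Let k be a field of characteristic not 3 and β ∈ k. If a line ax + by + c = 0 with a³ ≠ b³ is the
tangent line at a flex point of the affine cubic x³ + y³ + β = 3xy, then β is a cube in k. Here the
line is normalised to b ≠ 0 (the roles of x and y are symmetric) and the flex-tangency is expressed
by the restriction of the cubic to the line being λ (x − x₀)³. -/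
theorem result {k : Type u} [Field k] (h3 : (3 : k) ≠ 0)
    (β a b c : k) (hb : b ≠ 0) (hab : a ^ 3 ≠ b ^ 3) (lam x₀ : k)
    (hflex : (X : k[X]) ^ 3 + (C (-a / b) * X + C (-c / b)) ^ 3 + C β - 3 * X * (C (-a / b) * X + C (-c / b)) =
      C lam * (X - C x₀) ^ 3) :
    ∃ γ : k, β = γ ^ 3 := by
  obtain ⟨m, hm⟩ : ∃ m : k, m = -a / b := ⟨_, rfl⟩
  obtain ⟨e, he⟩ : ∃ e : k, e = -c / b := ⟨_, rfl⟩
  rw [← hm, ← he] at hflex
  have hL : (X : k[X]) ^ 3 + (C m * X + C e) ^ 3 + C β - 3 * X * (C m * X + C e) =
      C (1 + m ^ 3) * X ^ 3 + C (3 * m ^ 2 * e - 3 * m) * X ^ 2 + C (3 * m * e ^ 2 - 3 * e) * X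
        + C (e ^ 3 + β) := by
    simp only [map_add, map_sub, map_mul, map_pow, map_ofNat, map_one]
    ring
  have hR : C lam * ((X : k[X]) - C x₀) ^ 3 =
      C lam * X ^ 3 + C (-3 * lam * x₀) * X ^ 2 + C (3 * lam * x₀ ^ 2) * X
        + C (-lam * x₀ ^ 3) := by
    simp only [map_add, map_sub, map_mul, map_pow, map_ofNat, map_one, map_neg]
    ring
  rw [hL, hR] at hflex
  have h3' := congrArg (fun p => Polynomial.coeff p 3) hflex
  have h2' := congrArg (fun p => Polynomial.coeff p 2) hflex
  have h1' := congrArg (fun p => Polynomial.coeff p 1) hflex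
  have h0' := congrArg (fun p => Polynomial.coeff p 0) hflex
  simp only [Polynomial.coeff_add, Polynomial.coeff_C_mul, Polynomial.coeff_X_pow,
    Polynomial.coeff_X, Polynomial.coeff_C] at h3' h2' h1' h0'
  norm_num at h3' h2' h1' h0'
  have hlam : lam ≠ 0 := by
    rw [← h3']
    intro h
    apply hab
    have hm3 : m ^ 3 = -1 := by linear_combination h
    rw [hm] at hm3
    field_simp at hm3
    linear_combination -hm3
  -- divide by 3
  have e2 : m ^ 2 * e - m = -lam * x₀ := by
    apply mul_left_cancel₀ h3
    linear_combination h2'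
  have e1 : m * e ^ 2 - e = lam * x₀ ^ 2 := by
    apply mul_left_cancel₀ h3
    linear_combination h1'
  by_cases ht : 1 - m * e = 0
  · have hx0 : x₀ = 0 := by
      have : lam * x₀ = 0 := by linear_combination e2 + m * ht
      rcases mul_eq_zero.mp this with h | h
      · exact absurd h hlam
      · exact h
    refine ⟨-e, ?_⟩
    rw [hx0] at h0'
    linear_combination h0'
  · have hme : m * x₀ = -e := by
      have h4 : (1 - m * e) * (m * x₀ + e) = 0 := by
        linear_combination (-x₀) * e2 - e1
      rcases mul_eq_zero.mp h4 with h | h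
      · exact absurd h ht
      · linear_combination h
    refine ⟨-x₀, ?_⟩
    have he' : e = -(m * x₀) := by linear_combination hme
    rw [he'] at h0'
    linear_combination h0' + x₀ ^ 3 * h3'

end Groth.Agent.S13794
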