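import Groth.Statements.S13795
import Mathlib
import Groth.Agent.Lib.Lead.Morita1

set_option autoImplicit false
universe u
open TensorProduct
open Brauer

namespace Groth.Agent.S13795

section
open TensorProduct
open Groth.Agent.Lead.Morita Module

theorem main (A : Type u) [CommRing A]
    (F G : Type u) [AddCommGroup F] [Module A F] [Module.Finite A F] [Module.Projective A F] [Module.FaithfullyFlat A F]
    [AddCommGroup G] [Module A G] [Module.Finite A G] [Module.Projective A G] [Module.FaithfullyFlat A G]
    (φ : Module.End A F ≃ₐ[A] Module.End A G) :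
    ∃ (L : Type u) (_ : AddCommGroup L) (_ : Module A L), Module.Invertible A L ∧
      ∃ ξ : F ⊗[A] L ≃ₗ[A] G, ∀ f : Module.End A F, φ f = ξ.conj (TensorProduct.map f LinearMap.id) := by
  obtain ⟨a, x, lam, hb⟩ := exists_dual_basis (R := A) (F := F)
  obtain ⟨a', x', lam', hb'⟩ := exists_dual_basis (R := A) (F := G)
  obtain ⟨b, y, mu, ht⟩ := exists_trace_one (R := A) (F := F)
  refine ⟨Inter φ, inferInstance, inferInstance, ?_, evEquiv x lam hb φ, ?_⟩
  · -- invertibility
    let π' : Inter φ ⊗[A] Inter φ.symm →ₗ[A] A := TensorProduct.lift (pair y mu φ)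
    let Ψ : F ⊗[A] (Inter φ ⊗[A] Inter φ.symm) ≃ₗ[A] F :=
      ((TensorProduct.assoc A F (Inter φ) (Inter φ.symm)).symm ≪≫ₗ
        TensorProduct.congr (evEquiv x lam hb φ) (LinearEquiv.refl A (Inter φ.symm))) ≪≫ₗ
        evEquiv x' lam' hb' φ.symm
    have key : ∀ z, (TensorProduct.rid A F) (LinearMap.lTensor F π' z) = Ψ z := by
      intro z
      induction z using TensorProduct.induction_on with
      | zero => simp
      | add z₁ z₂ h₁ h₂ => rw [map_add, map_add, map_add, h₁, h₂]
      | tmul v t =>
        induction t using TensorProduct.induction_on with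
        | zero => simp
        | add t₁ t₂ h₁ h₂ => rw [TensorProduct.tmul_add, map_add, map_add, map_add, h₁, h₂]
        | tmul ξ η =>
          rw [LinearMap.lTensor_tmul, TensorProduct.rid_tmul]
          show pair y mu φ ξ η • v = _
          rw [← pair_spec y mu ht φ ξ η v]
          rfl
    exact invertible_of_pairing π' Ψ key
  · intro f
    ext w
    rw [LinearEquiv.conj_apply]
    simp only [LinearMap.comp_apply, LinearEquiv.coe_coe]
    obtain ⟨z, rfl⟩ := (evEquiv x lam hb φ).surjective w
    rw [LinearEquiv.symm_apply_apply]
    induction z using TensorProduct.induction_on with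
    | zero => simp
    | add z₁ z₂ h₁ h₂ => rw [map_add, map_add, map_add, map_add, h₁, h₂]
    | tmul v ξ =>
      rw [TensorProduct.map_tmul, evEquiv_apply, evEquiv_apply, ev_tmul, ev_tmul, LinearMap.id_apply,
        Inter_apply]


end


/-- In the case of an affine scheme — let A be a commutative ring, F and G finitely generated projective
A-modules of everywhere positive rank, and φ an A-algebra isomorphism from End_A(F) to End_A(G).
Then there are an invertible A-module L and an A-linear isomorphism ξ : F ⊗ L ≅ G which induces φ:
for every endomorphism f of F, φ(f) = ξ ∘ (f ⊗ 1) ∘ ξ⁻¹. (The published statement is for finite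
locally free modules of positive rank on any locally ringed site; this row is the case of the
Zariski site of Spec A, written in terms of modules.) -/
theorem result (A : Type u) [CommRing A]
    (F G : Type u) [AddCommGroup F] [Module A F] [Module.Finite A F] [Module.Projective A F] [Module.FaithfullyFlat A F]
    [AddCommGroup G] [Module A G] [Module.Finite A G] [Module.Projective A G] [Module.FaithfullyFlat A G]
    (φ : Module.End A F ≃ₐ[A] Module.End A G) :
    ∃ (L : Type u) (_ : AddCommGroup L) (_ : Module A L), Module.Invertible A L ∧
      ∃ ξ : F ⊗[A] L ≃ₗ[A] G, ∀ f : Module.End A F, φ f = ξ.conj (TensorProduct.map f LinearMap.id) := by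
  classical
  exact main A F G φ

end Groth.Agent.S13795
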