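import Groth.Statements.S13797
import Mathlib
import Groth.Agent.Lib.Lead.MatAut3

set_option autoImplicit false
universe u
open scoped TensorProduct
open Brauer

namespace Groth.Agent.S13797

section
open scoped TensorProduct
open Groth.Agent.Lead.MatAut

theorem ker_eq_Lift (A : Type u) [CommRing A] (n : ℕ)
    (α : Matrix (Fin n) (Fin n) A ≃ₐ[A] Matrix (Fin n) (Fin n) A) :
    LinearMap.ker (LinearMap.mul A (Matrix (Fin n) (Fin n) A) -
      (LinearMap.lcomp A (Matrix (Fin n) (Fin n) A) α.toLinearMap).comp
        (LinearMap.mul A (Matrix (Fin n) (Fin n) A)).flip) = Lift α := by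
  ext M
  rw [LinearMap.mem_ker, mem_Lift]
  constructor
  · intro h N
    have := LinearMap.congr_fun h N
    simp only [LinearMap.sub_apply, LinearMap.mul_apply', LinearMap.comp_apply, LinearMap.lcomp_apply,
      LinearMap.flip_apply, LinearMap.zero_apply, sub_eq_zero] at this
    exact this
  · intro h
    ext N : 1
    simp only [LinearMap.sub_apply, LinearMap.mul_apply', LinearMap.comp_apply, LinearMap.lcomp_apply,
      LinearMap.flip_apply, LinearMap.zero_apply, sub_eq_zero]
    exact h N

theorem main (A : Type u) [CommRing A] (n : ℕ) (hn : 0 < n)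
    (α : Matrix (Fin n) (Fin n) A ≃ₐ[A] Matrix (Fin n) (Fin n) A) :
    Module.Invertible A
        (LinearMap.ker (LinearMap.mul A (Matrix (Fin n) (Fin n) A) -
          (LinearMap.lcomp A (Matrix (Fin n) (Fin n) A) α.toLinearMap).comp (LinearMap.mul A (Matrix (Fin n) (Fin n) A)).flip)) ∧
      Nonempty ((⨂[A] _ : Fin n,
          LinearMap.ker (LinearMap.mul A (Matrix (Fin n) (Fin n) A) -
            (LinearMap.lcomp A (Matrix (Fin n) (Fin n) A) α.toLinearMap).comp (LinearMap.mul A (Matrix (Fin n) (Fin n) A)).flip)) ≃ₗ[A] A) := by
  have : NeZero n := ⟨hn.ne'⟩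
  rw [ker_eq_Lift]
  exact ⟨invertible_Lift α, ⟨detEquiv α⟩⟩


end


/-- In the case of an affine scheme — let A be a commutative ring, n ≥ 1 and α an A-algebra automorphism
of the n × n matrix algebra over A. The A-module L of matrices M with M N = α(N) M for every matrix
N (the module of sections of the line bundle attached to the torsor of liftings of α to GL_n) is
invertible, and its class in the Picard group of A is n-torsion: the n-fold tensor power of L is
isomorphic to A (existence of an isomorphism only). (The published statement is for an automorphism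
of End(O^n) on any locally ringed site, in the form: the sheaf of liftings is a 𝔾_m-torsor whose
class in Pic is n-torsion; this row is the affine case.) -/
theorem result (A : Type u) [CommRing A] (n : ℕ) (hn : 0 < n)
    (α : Matrix (Fin n) (Fin n) A ≃ₐ[A] Matrix (Fin n) (Fin n) A) :
    Module.Invertible A
        (LinearMap.ker (LinearMap.mul A (Matrix (Fin n) (Fin n) A) -
          (LinearMap.lcomp A (Matrix (Fin n) (Fin n) A) α.toLinearMap).comp (LinearMap.mul A (Matrix (Fin n) (Fin n) A)).flip)) ∧
      Nonempty ((⨂[A] _ : Fin n,
          LinearMap.ker (LinearMap.mul A (Matrix (Fin n) (Fin n) A) -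
            (LinearMap.lcomp A (Matrix (Fin n) (Fin n) A) α.toLinearMap).comp (LinearMap.mul A (Matrix (Fin n) (Fin n) A)).flip)) ≃ₗ[A] A) := by
  classical
  exact main A n hn α

end Groth.Agent.S13797
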