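import Groth.Statements.S13801
import Mathlib.Tactic
import Mathlib.Data.Nat.Choose.Multinomial
import Mathlib.NumberTheory.Padics.PadicVal.Basic

set_option autoImplicit false
open ChowMon

namespace Groth.Agent.S13801

/-- For a prime p and positive natural numbers a_1, ..., a_k with sum n one has v_p(a_1!) + ... +
v_p(a_k!) ≤ v_p(n!), and the inequality is strict whenever some a_i is not divisible by p^(v_p(n)). -/
theorem result {k : ℕ} (p : ℕ) [Fact p.Prime]
    (a : Fin k → ℕ) (ha : ∀ i, 0 < a i) :
    (∑ i, padicValNat p (a i).factorial ≤ padicValNat p (∑ i, a i).factorial) ∧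
      ((∃ i, ¬ p ^ padicValNat p (∑ j, a j) ∣ a i) →
        ∑ i, padicValNat p (a i).factorial < padicValNat p (∑ i, a i).factorial) := by
  classical
  have hp : p.Prime := Fact.out
  have hprodval : ∀ (s : Finset (Fin k)) (f : Fin k → ℕ), (∀ i, f i ≠ 0) →
      padicValNat p (∏ i ∈ s, f i) = ∑ i ∈ s, padicValNat p (f i) := by
    intro s f hf
    induction s using Finset.induction_on with
    | empty => simp
    | insert x s hx ih =>
      rw [Finset.prod_insert hx, Finset.sum_insert hx,
        padicValNat.mul (hf x) (Finset.prod_ne_zero_iff.mpr fun i _ => hf i), ih]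
  have hspec := Nat.multinomial_spec Finset.univ a
  have hMpos : 0 < Nat.multinomial Finset.univ a := Nat.multinomial_pos _ _
  have hprodne : (∏ i, (a i).factorial) ≠ 0 :=
    Finset.prod_ne_zero_iff.mpr (fun i _ => Nat.factorial_ne_zero _)
  have hval : padicValNat p (∑ i, a i).factorial =
      ∑ i, padicValNat p (a i).factorial + padicValNat p (Nat.multinomial Finset.univ a) := by
    rw [← hspec, padicValNat.mul hprodne hMpos.ne',
      hprodval _ _ (fun i => Nat.factorial_ne_zero _)]
  refine ⟨by omega, ?_⟩
  rintro ⟨i, hi⟩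
  have hpos : 1 ≤ padicValNat p (Nat.multinomial Finset.univ a) := by
    apply one_le_padicValNat_of_dvd hMpos.ne'
    have hins : (Finset.univ : Finset (Fin k)) = insert i (Finset.univ.erase i) := by
      rw [Finset.insert_erase (Finset.mem_univ i)]
    have hsum : a i + ∑ j ∈ Finset.univ.erase i, a j = ∑ j, a j :=
      Finset.add_sum_erase _ a (Finset.mem_univ i)
    rw [hins, Nat.multinomial_insert (Finset.notMem_erase i _), hsum]
    apply Dvd.dvd.mul_right
    by_contra hnd
    apply hi
    set n := ∑ j, a j with hn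
    have hle : a i ≤ n := by
      rw [hn]; exact Finset.single_le_sum (fun j _ => Nat.zero_le _) (Finset.mem_univ i)
    have hnpos : 0 < n := lt_of_lt_of_le (ha i) hle
    have hchoose_pos : 0 < n.choose (a i) := Nat.choose_pos hle
    -- a i * choose n (a i) = n * choose (n-1) (a i - 1)
    have key : n ∣ a i * n.choose (a i) := by
      obtain ⟨m, hm⟩ : ∃ m, n = m + 1 := ⟨n - 1, by omega⟩
      obtain ⟨b, hb⟩ : ∃ b, a i = b + 1 := ⟨a i - 1, by have := ha i; omega⟩
      rw [hm, hb]
      have := Nat.add_one_mul_choose_eq m b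
      refine ⟨m.choose b, ?_⟩
      rw [mul_comm (b+1)]
      exact this.symm
    have h0 : padicValNat p (n.choose (a i)) = 0 := padicValNat.eq_zero_of_not_dvd hnd
    have h1 : p ^ padicValNat p n ∣ a i * n.choose (a i) := dvd_trans pow_padicValNat_dvd key
    have h2 : padicValNat p n ≤ padicValNat p (a i * n.choose (a i)) :=
      (padicValNat_dvd_iff_le (Nat.mul_ne_zero (ha i).ne' hchoose_pos.ne')).mp h1
    rw [padicValNat.mul (ha i).ne' hchoose_pos.ne', h0, add_zero] at h2
    exact (padicValNat_dvd_iff_le (ha i).ne').mpr h2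
  omega

end Groth.Agent.S13801
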