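import Groth.Statements.S13806
import Mathlib
import Groth.Prelude.Def_W4c1chowmix47Eta
import Groth.Agent.Lib.Helper9.EtaPt
import Groth.Agent.Lib.Helper9.EtaPt2
import Groth.Agent.S13812
import Groth.Agent.S13815
-- import your own Groth.Agent.* helpers here

set_option autoImplicit false
universe u
open EtaPt

namespace Groth.Agent.S13806

open EtaPt
namespace Aux
open Groth.Agent.Helper9.EtaPtLib

theorem main (η : EtaPt.FieldEndo.{u}) (A : Type u) [CommRing A]
    (hA : (minimalPrimes A).Finite) (B : Type u) [CommRing B] (g : A →+* B)
    (hg : g.IsIntegral) (hN : Function.Bijective (η.Nmap g)) :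
    ∃! g' : B →+* η.M A, g'.comp g = η.q A := by
  have hbij := Groth.Agent.S13812.result η g hg hN
  let e := RingEquiv.ofBijective (η.Nmap g) hN
  let g₀ : B →+* η.N A := (e.symm : η.N B →+* η.N A).comp (η.t B)
  have hg₀ : ∀ b, η.Nmap g (g₀ b) = η.t B b := fun b => e.apply_symm_apply _
  have hmem : ∀ b, g₀ b ∈ η.M A := by
    intro b
    obtain ⟨x, hx, hxb⟩ := hbij.2.2 (η.t_mem_M B b)
    have : g₀ b = x := hN.1 ((hg₀ b).trans hxb.symm)
    rw [this]; exact hx
  let g' : B →+* η.M A := g₀.codRestrict (η.M A) hmem
  have h15 := Groth.Agent.S13815.result η A hA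
  have htinj : Function.Injective (η.t (η.M A)) := by
    intro x x' hxx
    exact h15.2.1 (Subtype.ext hxx)
  refine ⟨g', ?_, ?_⟩
  · refine RingHom.ext fun a => ?_
    apply Subtype.ext
    show g₀ (g a) = η.t A a
    apply hN.1
    rw [hg₀, η.Nmap_t_apply]
  · intro g'' hg''
    refine RingHom.ext fun b => ?_
    apply htinj
    have key : ∀ (k : B →+* η.M A), k.comp g = η.q A →
        η.t (η.M A) (k b) = η.Nmap (η.q A) (g₀ b) := by
      intro k hk
      rw [← η.Nmap_t_apply k b, ← hg₀ b, ← Nmap_comp_apply, hk]
    rw [key g'' hg'']
    have hg'comp : g'.comp g = η.q A := by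
      refine RingHom.ext fun a => ?_
      apply Subtype.ext
      show g₀ (g a) = η.t A a
      apply hN.1
      rw [hg₀, η.Nmap_t_apply]
    exact (key g' hg'comp).symm

end Aux

/-- For a commutative ring A with finitely many minimal prime ideals and an integral ring map g : A → B
with N_η(g) bijective, there is exactly one ring map g' : B → M_η(A) with g' ∘ g = q_A. Here η is a
natural transformation from the identity of the category of fields to an endofunctor F with F(η_K)
bijective and η_K purely inseparable for every field K, N_η(A) is the product of the F(k(p)) over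
the primes p of A with diagonal map t_A, and M_η(A) ⊆ N_η(A) is the subring of elements sent into
the range of t_R by every ring map from A to a valuation ring R at whose fraction field η is
bijective; q_A : A → M_η(A) is the corestriction of t_A. -/
theorem result (η : EtaPt.FieldEndo.{u}) (A : Type u) [CommRing A]
    (hA : (minimalPrimes A).Finite) (B : Type u) [CommRing B] (g : A →+* B)
    (hg : g.IsIntegral) (hN : Function.Bijective (η.Nmap g)) :
    ∃! g' : B →+* η.M A, g'.comp g = η.q A := by
  exact Aux.main η A hA B g hg hN

end Groth.Agent.S13806
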