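import Groth.Statements.S13807
import Mathlib
import Groth.Prelude.Def_W4c1chowmix47Eta
import Groth.Agent.Lib.Helper9.EtaPt
-- import your own Groth.Agent.* helpers here

set_option autoImplicit false
universe u
open EtaPt

namespace Groth.Agent.S13807

open EtaPt
namespace Aux
open Groth.Agent.Helper9.EtaPtLib

lemma inV_bot (η : EtaPt.FieldEndo.{u}) (R : Type u) [CommRing R] [IsDomain R] (hR : η.InV R) :
    Function.Bijective (η.eta (⊥ : Ideal R).ResidueField) := by
  let e := FractionRing.algEquiv R (⊥ : Ideal R).ResidueField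
  exact eta_bijective_of_bijective η (e : FractionRing R →+* (⊥ : Ideal R).ResidueField)
    e.bijective hR

theorem main (η : EtaPt.FieldEndo.{u}) (K : Type u) [Field K] : η.M K = ⊤ := by
  rw [eq_top_iff]
  intro x _
  intro R _ _ _ hR g
  -- the unique prime of K
  let p₀ : PrimeSpectrum K := ⟨⊥, Ideal.isPrime_bot⟩
  have hp₀ : ∀ q : PrimeSpectrum R, p₀.asIdeal = q.asIdeal.comap g := by
    intro q
    have : (q.asIdeal.comap g).IsPrime := inferInstance
    exact (Ideal.eq_bot_of_prime (q.asIdeal.comap g)).symm
  set k₀ := p₀.asIdeal.ResidueField with hk₀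
  set x₀ : η.obj k₀ := x p₀ with hx₀
  obtain ⟨n, a, ha⟩ := η.exists_pow_mem_range_eta k₀ x₀
  have hmax : p₀.asIdeal.IsMaximal := Ideal.bot_isMaximal
  obtain ⟨a', rfl⟩ := Ideal.algebraMap_residueField_surjective p₀.asIdeal a
  -- generic point of R
  let q₀ : PrimeSpectrum R := ⟨⊥, Ideal.isPrime_bot⟩
  have hκ := inV_bot η R hR
  set φ := Ideal.ResidueField.map p₀.asIdeal q₀.asIdeal g (hp₀ q₀) with hφ
  obtain ⟨y, hy⟩ := hκ.2 (η.map φ x₀)
  have hye : y ^ ringExpChar k₀ ^ n = algebraMap R (⊥ : Ideal R).ResidueField (g a') := by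
    apply (η.eta (⊥ : Ideal R).ResidueField).injective
    rw [map_pow, hy, ← map_pow, ← ha, eta_natural_apply, hφ, Ideal.ResidueField.map_algebraMap]
  have hint : IsIntegral R y := by
    refine ⟨Polynomial.X ^ (ringExpChar k₀ ^ n) - Polynomial.C (g a'),
      Polynomial.monic_X_pow_sub_C _ ?_, ?_⟩
    · have : 0 < ringExpChar k₀ := by
        unfold ringExpChar; exact lt_of_lt_of_le Nat.zero_lt_one (le_max_right _ _)
      exact (pow_pos this n).ne'
    · simp [hye]
  obtain ⟨r, hr⟩ := (IsIntegrallyClosed.isIntegral_iff (R := R) (K := (⊥ : Ideal R).ResidueField)).1 hint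
  have hrpow : r ^ ringExpChar k₀ ^ n = g a' := by
    apply IsFractionRing.injective R (⊥ : Ideal R).ResidueField
    rw [map_pow, hr, hye]
  refine ⟨r, ?_⟩
  funext q
  rw [Nmap_apply' η g x q p₀ (hp₀ q), t_apply]
  set ψ := Ideal.ResidueField.map p₀.asIdeal q.asIdeal g (hp₀ q) with hψ
  apply eq_of_pow_eq η ψ (n := n)
  rw [← map_pow, ← map_pow, ← map_pow, hrpow, ← hx₀, ← ha, eta_natural_apply, hψ,
    Ideal.ResidueField.map_algebraMap]

end Aux

/-- For a field K the pointwise ring M_η(K) is all of N_η(K) = F(k((0))). Here η is a natural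
transformation from the identity of the category of fields to an endofunctor F with F(η_K) bijective
and η_K purely inseparable for every field K, N_η(A) is the product of the F(k(p)) over the primes p
of A with diagonal map t_A, and M_η(A) ⊆ N_η(A) is the subring of elements sent into the range of
t_R by every ring map from A to a valuation ring R at whose fraction field η is bijective; q_A : A →
M_η(A) is the corestriction of t_A. -/
theorem result (η : EtaPt.FieldEndo.{u}) (K : Type u) [Field K] : η.M K = ⊤ := by
  exact Aux.main η K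

end Groth.Agent.S13807
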