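import Groth.Statements.S13808
import Mathlib
import Groth.Prelude.Def_W4c1chowmix47Eta
import Groth.Agent.Lib.Helper9.EtaPt
import Groth.Agent.Lib.Helper9.EtaPt2
import Groth.Agent.Lib.Helper9.EtaPt3
-- import your own Groth.Agent.* helpers here

set_option autoImplicit false
universe u
open EtaPt

namespace Groth.Agent.S13808

open EtaPt
namespace Aux
open Groth.Agent.Helper9.EtaPtLib

theorem zero_of_generic (η : EtaPt.FieldEndo.{u}) (A : Type u) [CommRing A] [IsDomain A]
    (hA : η.InV A) (d : η.N A) (hd : d ∈ η.M A)
    (hd0 : d ⟨⊥, Ideal.isPrime_bot⟩ = 0) : d = 0 := by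
  funext p
  obtain ⟨V, g, hg, hp⟩ := exists_valuationSubring_dominating A p
  have hV := inV_valuationSubring η A hA V
  obtain ⟨r, hr⟩ := hd V hV g
  let q₀ : PrimeSpectrum V := ⟨⊥, Ideal.isPrime_bot⟩
  let p₀ : PrimeSpectrum A := ⟨⊥, Ideal.isPrime_bot⟩
  have hginj : Function.Injective g := fun a b hab =>
    IsFractionRing.injective A (FractionRing A) (by rw [← hg, ← hg, hab])
  have hp₀ : p₀.asIdeal = q₀.asIdeal.comap g := (Ideal.comap_bot_of_injective g hginj).symm
  have h1 := congrFun hr q₀
  rw [t_apply, Nmap_apply' η g d q₀ p₀ hp₀, hd0, map_zero] at h1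
  have hr0 : r = 0 := by
    have h3 : algebraMap V q₀.asIdeal.ResidueField r = 0 :=
      (η.eta q₀.asIdeal.ResidueField).injective
        (h1.trans (map_zero (η.eta q₀.asIdeal.ResidueField)).symm)
    exact IsFractionRing.injective V (⊥ : Ideal V).ResidueField
      (h3.trans (map_zero (algebraMap V (⊥ : Ideal V).ResidueField)).symm)
  let m : PrimeSpectrum V := ⟨IsLocalRing.maximalIdeal V, inferInstance⟩
  have h2 := congrFun hr m
  rw [hr0, map_zero, Nmap_apply' η g d m p hp] at h2
  exact (η.map (Ideal.ResidueField.map p.asIdeal m.asIdeal g hp)).injective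
    (h2.symm.trans (map_zero (η.map (Ideal.ResidueField.map p.asIdeal m.asIdeal g hp))).symm)

theorem main (η : EtaPt.FieldEndo.{u}) (A : Type u) [CommRing A] [IsDomain A] (hA : η.InV A) :
    Set.InjOn (fun x : η.N A => x ⟨⊥, Ideal.isPrime_bot⟩) (η.M A) := by
  intro x hx y hy hxy
  have hd : x - y ∈ η.M A := (η.M A).sub_mem hx hy
  have h := zero_of_generic η A hA (x - y) hd (by
    show x _ - y _ = 0
    exact sub_eq_zero.2 hxy)
  exact sub_eq_zero.1 h

end Aux

/-- For an integral domain A such that η is bijective at the fraction field of A, the projection of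
N_η(A) onto its factor F(k((0))) at the generic point is injective on M_η(A). Here η is a natural
transformation from the identity of the category of fields to an endofunctor F with F(η_K) bijective
and η_K purely inseparable for every field K, N_η(A) is the product of the F(k(p)) over the primes p
of A with diagonal map t_A, and M_η(A) ⊆ N_η(A) is the subring of elements sent into the range of
t_R by every ring map from A to a valuation ring R at whose fraction field η is bijective; q_A : A →
M_η(A) is the corestriction of t_A. -/
theorem result (η : EtaPt.FieldEndo.{u}) (A : Type u) [CommRing A] [IsDomain A] (hA : η.InV A) :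
    Set.InjOn (fun x : η.N A => x ⟨⊥, Ideal.isPrime_bot⟩) (η.M A) := by
  exact Aux.main η A hA

end Groth.Agent.S13808
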