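import Groth.Statements.S13809
import Mathlib
import Groth.Prelude.Def_W4c1chowmix47Eta
import Groth.Agent.Lib.Helper9.EtaPt
import Groth.Agent.Lib.Helper9.EtaPt2
import Groth.Agent.Lib.Helper9.EtaPt3
import Groth.Agent.S13808
-- import your own Groth.Agent.* helpers here

set_option autoImplicit false
universe u
open EtaPt

namespace Groth.Agent.S13809

open EtaPt
namespace Aux
open Groth.Agent.Helper9.EtaPtLib

/-- integrality over the subring generated by the image descends to `A`. -/
lemma isIntegral_of_closure {A K : Type u} [CommRing A] [Field K] [Algebra A K] (y : K)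
    (hy : IsIntegral (Subring.closure (Set.range (algebraMap A K))) y) : IsIntegral A y := by
  have hcl : Subring.closure (Set.range (algebraMap A K)) = (algebraMap A K).range := by
    rw [← RingHom.coe_range, Subring.closure_eq]
  let f : A →+* Subring.closure (Set.range (algebraMap A K)) :=
    (algebraMap A K).codRestrict _ (fun a => Subring.subset_closure ⟨a, rfl⟩)
  have hf : Function.Surjective f := by
    rintro ⟨z, hz⟩
    rw [hcl] at hz
    obtain ⟨a, rfl⟩ := hz
    exact ⟨a, rfl⟩
  obtain ⟨P, hPm, hP⟩ := hy
  obtain ⟨Q, hQ, -, hQm⟩ := Polynomial.lifts_and_natDegree_eq_and_monic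
    ((Polynomial.mem_lifts P).2 (Polynomial.map_surjective f hf P)) hPm
  refine ⟨Q, hQm, ?_⟩
  rw [← hQ, Polynomial.eval₂_map] at hP
  exact hP

theorem main (η : EtaPt.FieldEndo.{u}) (A : Type u) [CommRing A] [IsDomain A] [IsIntegrallyClosed A]
    (hA : η.InV A) : Function.Bijective (η.q A) := by
  let p₀ : PrimeSpectrum A := ⟨⊥, Ideal.isPrime_bot⟩
  constructor
  · intro a b hab
    have h1 : η.t A a = η.t A b := congrArg Subtype.val hab
    have h2 := congrFun h1 p₀
    rw [t_apply, t_apply] at h2
    exact IsFractionRing.injective A (⊥ : Ideal A).ResidueField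
      ((η.eta p₀.asIdeal.ResidueField).injective h2)
  · rintro ⟨x, hx⟩
    have hκ := inV_bot η A hA
    obtain ⟨y, hy⟩ := hκ.2 (x p₀)
    let K := FractionRing A
    let eA : K ≃ₐ[A] (⊥ : Ideal A).ResidueField := FractionRing.algEquiv A _
    set y' : K := eA.symm y with hy'
    have hyy' : eA y' = y := eA.apply_symm_apply y
    -- y' lies in every valuation subring containing A
    have hmem : ∀ V : ValuationSubring K, Set.range (algebraMap A K) ⊆ V.toSubring → y' ∈ V := by
      intro V hV
      let g : A →+* V := (algebraMap A K).codRestrict V.toSubring (fun a => hV ⟨a, rfl⟩)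
      have hVinV := inV_valuationSubring η A hA V
      obtain ⟨r, hr⟩ := hx V hVinV g
      let q₀ : PrimeSpectrum V := ⟨⊥, Ideal.isPrime_bot⟩
      have hginj : Function.Injective g := fun a b hab =>
        IsFractionRing.injective A K (congrArg Subtype.val hab)
      have hp₀ : p₀.asIdeal = q₀.asIdeal.comap g :=
        (Ideal.comap_bot_of_injective g hginj).symm
      have h1 := congrFun hr q₀
      rw [t_apply, Nmap_apply' η g x q₀ p₀ hp₀, ← hy, eta_natural_apply] at h1
      have h2 := (η.eta q₀.asIdeal.ResidueField).injective h1
      set ψ := Ideal.ResidueField.map p₀.asIdeal q₀.asIdeal g hp₀ with hψ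
      let eV : K ≃ₐ[V] (⊥ : Ideal V).ResidueField :=
        IsLocalization.algEquiv (nonZeroDivisors V) K (⊥ : Ideal V).ResidueField
      have hcomp : ψ.comp (eA : K →+* (⊥ : Ideal A).ResidueField) = (eV : K →+* _) := by
        apply IsLocalization.ringHom_ext (nonZeroDivisors A)
        ext a
        simp only [RingHom.comp_apply]
        have e1 : (eA : K →+* (⊥ : Ideal A).ResidueField) (algebraMap A K a) =
            algebraMap A (⊥ : Ideal A).ResidueField a := eA.commutes a
        have e2 : (eV : K →+* (⊥ : Ideal V).ResidueField) (algebraMap A K a) =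
            algebraMap V (⊥ : Ideal V).ResidueField (g a) := eV.commutes (g a)
        rw [e1, e2, hψ, Ideal.ResidueField.map_algebraMap]
      have h3 : eV y' = eV (r : K) := by
        have e3 : (eV : K →+* (⊥ : Ideal V).ResidueField) y' = ψ (eA y') := by
          rw [← hcomp]; rfl
        have e4 : eV (r : K) = algebraMap V (⊥ : Ideal V).ResidueField r := eV.commutes r
        rw [e4, h2]
        rw [hyy'] at e3
        exact e3
      have h4 : y' = (r : K) := eV.injective h3
      rw [h4]
      exact r.2
    have hint : IsIntegral A y' := by
      apply isIntegral_of_closure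
      have h5 : y' ∈ (⨅ V : {V : ValuationSubring K // Set.range (algebraMap A K) ⊆ V.toSubring},
          V.1.toSubring) := by
        rw [Subring.mem_iInf]
        rintro ⟨V, hV⟩
        exact hmem V hV
      rw [iInf_valuationSubring_superset] at h5
      exact h5
    obtain ⟨a, ha⟩ := (IsIntegrallyClosed.isIntegral_iff (R := A) (K := K)).1 hint
    refine ⟨a, Subtype.ext ?_⟩
    show η.t A a = x
    have hd : x - η.t A a ∈ η.M A := (η.M A).sub_mem hx (η.t_mem_M A a)
    have h6 := Groth.Agent.S13808.Aux.zero_of_generic η A hA (x - η.t A a) hd (by
      show x p₀ - η.t A a p₀ = 0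
      rw [t_apply, ← hy, sub_eq_zero]
      congr 1
      rw [← hyy', ← ha]
      exact eA.commutes a)
    exact (sub_eq_zero.1 h6).symm

end Aux

/-- For an integrally closed domain A such that η is bijective at the fraction field of A, the map q_A :
A → M_η(A) is bijective. Here η is a natural transformation from the identity of the category of
fields to an endofunctor F with F(η_K) bijective and η_K purely inseparable for every field K,
N_η(A) is the product of the F(k(p)) over the primes p of A with diagonal map t_A, and M_η(A) ⊆
N_η(A) is the subring of elements sent into the range of t_R by every ring map from A to a valuation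
ring R at whose fraction field η is bijective; q_A : A → M_η(A) is the corestriction of t_A. -/
theorem result (η : EtaPt.FieldEndo.{u}) (A : Type u) [CommRing A] [IsDomain A] [IsIntegrallyClosed A]
    (hA : η.InV A) : Function.Bijective (η.q A) := by
  exact Aux.main η A hA

end Groth.Agent.S13809
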