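import Groth.Statements.S13810
import Mathlib
import Groth.Prelude.Def_W4c1chowmix47Eta
import Groth.Agent.Lib.Helper9.EtaPt
import Groth.Agent.Lib.Helper9.EtaPt2
-- import your own Groth.Agent.* helpers here

set_option autoImplicit false
universe u
open EtaPt

namespace Groth.Agent.S13810

open EtaPt
namespace Aux
open Groth.Agent.Helper9.EtaPtLib

variable {A B : Type u} [CommRing A] [CommRing B]

lemma prime_cases (P : PrimeSpectrum (A × B)) :
    (∃ p : PrimeSpectrum A, P.asIdeal = p.asIdeal.comap (RingHom.fst A B)) ∨
      (∃ p' : PrimeSpectrum B, P.asIdeal = p'.asIdeal.comap (RingHom.snd A B)) := by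
  rcases (Ideal.ideal_prod_prime P.asIdeal).1 P.isPrime with ⟨p, hp, h⟩ | ⟨p, hp, h⟩
  · left
    refine ⟨⟨p, hp⟩, ?_⟩
    rw [h]; ext ⟨a, b⟩; simp
  · right
    refine ⟨⟨p, hp⟩, ?_⟩
    rw [h]; ext ⟨a, b⟩; simp

lemma not_both (P : PrimeSpectrum (A × B)) (p : PrimeSpectrum A) (p' : PrimeSpectrum B)
    (h : P.asIdeal = p.asIdeal.comap (RingHom.fst A B))
    (h' : P.asIdeal = p'.asIdeal.comap (RingHom.snd A B)) : False := by
  have h1 : ((0 : A), (1 : B)) ∈ P.asIdeal := by
    rw [h]; simp
  have h2 : ((1 : A), (0 : B)) ∈ P.asIdeal := by
    rw [h']; simp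
  have h3 : ((1 : A), (1 : B)) ∈ P.asIdeal := by
    have := P.asIdeal.add_mem h1 h2
    simpa using this
  exact P.isPrime.ne_top ((Ideal.eq_top_iff_one _).2 h3)

lemma fst_bij (P : PrimeSpectrum (A × B)) (p : PrimeSpectrum A)
    (h : P.asIdeal = p.asIdeal.comap (RingHom.fst A B)) :
    Function.Bijective (Ideal.ResidueField.map P.asIdeal p.asIdeal (RingHom.fst A B) h) :=
  (RingHom.surjectiveOnStalks_of_surjective
    (f := RingHom.fst A B) Prod.fst_surjective).residueFieldMap_bijective _ _ h

lemma snd_bij (P : PrimeSpectrum (A × B)) (p : PrimeSpectrum B)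
    (h : P.asIdeal = p.asIdeal.comap (RingHom.snd A B)) :
    Function.Bijective (Ideal.ResidueField.map P.asIdeal p.asIdeal (RingHom.snd A B) h) :=
  (RingHom.surjectiveOnStalks_of_surjective
    (f := RingHom.snd A B) Prod.snd_surjective).residueFieldMap_bijective _ _ h

theorem main (η : EtaPt.FieldEndo.{u}) (A B : Type u) [CommRing A] [CommRing B] :
    Set.BijOn (fun x : η.N (A × B) => (η.Nmap (RingHom.fst A B) x, η.Nmap (RingHom.snd A B) x))
      (η.M (A × B)) ((η.M A : Set (η.N A)) ×ˢ (η.M B : Set (η.N B))) := by
  refine ⟨fun x hx => ⟨Nmap_mem_M η _ hx, Nmap_mem_M η _ hx⟩, ?_, ?_⟩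
  · intro x _ x' _ hxx
    simp only [Prod.mk.injEq] at hxx
    funext P
    rcases prime_cases P with ⟨p, hp⟩ | ⟨p, hp⟩
    · have h1 := congrFun hxx.1 p
      rw [Nmap_apply' η _ x p P hp, Nmap_apply' η _ x' p P hp] at h1
      exact (η.map _).injective h1
    · have h1 := congrFun hxx.2 p
      rw [Nmap_apply' η _ x p P hp, Nmap_apply' η _ x' p P hp] at h1
      exact (η.map _).injective h1
  · rintro ⟨y, z⟩ ⟨hy, hz⟩
    have hex : ∀ P : PrimeSpectrum (A × B), ∃ w : η.obj P.asIdeal.ResidueField,
        (∀ (p : PrimeSpectrum A) (h : P.asIdeal = p.asIdeal.comap (RingHom.fst A B)),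
          η.map (Ideal.ResidueField.map P.asIdeal p.asIdeal (RingHom.fst A B) h) w = y p) ∧
        (∀ (p : PrimeSpectrum B) (h : P.asIdeal = p.asIdeal.comap (RingHom.snd A B)),
          η.map (Ideal.ResidueField.map P.asIdeal p.asIdeal (RingHom.snd A B) h) w = z p) := by
      intro P
      rcases prime_cases P with ⟨p₀, hp₀⟩ | ⟨p₀, hp₀⟩
      · obtain ⟨w, hw⟩ := (map_bijective_of_bijective η _ (fst_bij P p₀ hp₀)).2 (y p₀)
        refine ⟨w, ?_, ?_⟩
        · intro p h
          have hpp : p = p₀ := by
            apply PrimeSpectrum.ext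
            have := h.symm.trans hp₀
            exact Ideal.comap_injective_of_surjective _ Prod.fst_surjective this
          subst hpp
          exact hw
        · intro p h
          exact (not_both P p₀ p hp₀ h).elim
      · obtain ⟨w, hw⟩ := (map_bijective_of_bijective η _ (snd_bij P p₀ hp₀)).2 (z p₀)
        refine ⟨w, ?_, ?_⟩
        · intro p h
          exact (not_both P p p₀ h hp₀).elim
        · intro p h
          have hpp : p = p₀ := by
            apply PrimeSpectrum.ext
            have := h.symm.trans hp₀
            exact Ideal.comap_injective_of_surjective _ Prod.snd_surjective this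
          subst hpp
          exact hw
    choose x hx1 hx2 using hex
    have hfst : η.Nmap (RingHom.fst A B) x = y := by
      funext p
      rw [Nmap_apply' η _ x p (PrimeSpectrum.comap (RingHom.fst A B) p) rfl]
      exact hx1 _ p rfl
    have hsnd : η.Nmap (RingHom.snd A B) x = z := by
      funext p
      rw [Nmap_apply' η _ x p (PrimeSpectrum.comap (RingHom.snd A B) p) rfl]
      exact hx2 _ p rfl
    refine ⟨x, ?_, by simp only [hfst, hsnd]⟩
    intro R _ _ _ hR g
    have h0 : g (1, 0) * g (0, 1) = 0 := by
      have : ((1 : A), (0 : B)) * ((0 : A), (1 : B)) = 0 := by ext <;> simp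
      rw [← map_mul, this, map_zero]
    rcases mul_eq_zero.1 h0 with h | h
    · -- g factors through snd
      have h1 : g (0, 1) = 1 := by
        have : g ((1, 0) + (0, 1)) = 1 := by
          have : ((1 : A), (0 : B)) + ((0 : A), (1 : B)) = 1 := by ext <;> simp
          rw [this, map_one]
        rw [map_add, h, zero_add] at this
        exact this
      let g' : B →+* R :=
        { toFun := fun b => g (0, b)
          map_one' := h1
          map_mul' := fun b b' => by rw [← map_mul]; simp
          map_zero' := by
            have : ((0 : A), (0 : B)) = 0 := rfl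
            rw [this, map_zero]
          map_add' := fun b b' => by rw [← map_add]; simp }
      have hg : g = g'.comp (RingHom.snd A B) := by
        ext ⟨a, b⟩
        show g (a, b) = g (0, b)
        have : ((a, b) : A × B) = (a, 0) * (1, 0) + (0, b) := by ext <;> simp
        rw [this, map_add, map_mul, h, mul_zero, zero_add]
      rw [hg, Nmap_comp_apply, hsnd]
      exact hz R hR g'
    · have h1 : g (1, 0) = 1 := by
        have : g ((1, 0) + (0, 1)) = 1 := by
          have : ((1 : A), (0 : B)) + ((0 : A), (1 : B)) = 1 := by ext <;> simp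
          rw [this, map_one]
        rw [map_add, h, add_zero] at this
        exact this
      let g' : A →+* R :=
        { toFun := fun a => g (a, 0)
          map_one' := h1
          map_mul' := fun b b' => by rw [← map_mul]; simp
          map_zero' := by
            have : ((0 : A), (0 : B)) = 0 := rfl
            rw [this, map_zero]
          map_add' := fun b b' => by rw [← map_add]; simp }
      have hg : g = g'.comp (RingHom.fst A B) := by
        ext ⟨a, b⟩
        show g (a, b) = g (a, 0)
        have : ((a, b) : A × B) = (a, 0) + (0, b) * (0, 1) := by ext <;> simp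
        rw [this, map_add, map_mul, h, mul_zero, add_zero]
      rw [hg, Nmap_comp_apply, hfst]
      exact hy R hR g'

end Aux

/-- For commutative rings A and B, the pair of maps N_η of the two projections restricts to a bijection
from M_η(A × B) onto M_η(A) × M_η(B). Here η is a natural transformation from the identity of the
category of fields to an endofunctor F with F(η_K) bijective and η_K purely inseparable for every
field K, N_η(A) is the product of the F(k(p)) over the primes p of A with diagonal map t_A, and
M_η(A) ⊆ N_η(A) is the subring of elements sent into the range of t_R by every ring map from A to a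
valuation ring R at whose fraction field η is bijective; q_A : A → M_η(A) is the corestriction of
t_A. -/
theorem result (η : EtaPt.FieldEndo.{u}) (A B : Type u) [CommRing A] [CommRing B] :
    Set.BijOn (fun x : η.N (A × B) => (η.Nmap (RingHom.fst A B) x, η.Nmap (RingHom.snd A B) x))
      (η.M (A × B)) ((η.M A : Set (η.N A)) ×ˢ (η.M B : Set (η.N B))) := by
  exact Aux.main η A B

end Groth.Agent.S13810
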