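import Groth.Statements.S13813
import Mathlib
import Groth.Prelude.Def_W4c1chowmix47Eta
import Groth.Agent.Lib.Helper9.EtaPt8
import Groth.Agent.S13802
import Groth.Agent.S13815
-- import your own Groth.Agent.* helpers here

set_option autoImplicit false
universe u
open EtaPt

namespace Groth.Agent.S13813

open EtaPt Groth.Agent.Helper9.EtaPtLib
namespace Aux

lemma exists_pow_eq (k : Type*) [Field k] (p : ℕ) (hp : p.Prime) [CharP k p] [PerfectField k]
    (n : ℕ) (a : k) : ∃ w : k, w ^ p ^ n = a := by
  have : ExpChar k p := ExpChar.prime hp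
  have : PerfectRing k p := PerfectField.toPerfectRing p
  obtain ⟨w, hw⟩ := (iterateFrobeniusEquiv k p n).surjective a
  exact ⟨w, by rw [← hw, iterateFrobeniusEquiv_def]⟩

lemma pow_inj (L : Type*) [Field L] (p : ℕ) (hp : p.Prime) [CharP L p] {u v : L} {n : ℕ}
    (h : u ^ p ^ n = v ^ p ^ n) : u = v := by
  have : ExpChar L p := ExpChar.prime hp
  exact iterateFrobenius_inj L p n h

/-- `η` is bijective at `F L`. -/
lemma eta_obj_bijective (η : EtaPt.FieldEndo.{u}) (L : Type u) [Field L] :
    Function.Bijective (η.eta (η.obj L)) := by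
  rw [← Groth.Agent.S13815.Aux.map_eta_eq_eta]
  exact η.bijective_map_eta L

variable (η : EtaPt.FieldEndo.{u}) (R : Type u) [CommRing R] [IsDomain R] [ValuationRing R]

/-- an element of `K` whose image in `F K` is integral over `R` comes from `R` -/
lemma exists_of_eta_integral (z : (⊥ : Ideal R).ResidueField)
    (hz : ((η.eta (⊥ : Ideal R).ResidueField).comp
      (algebraMap R (⊥ : Ideal R).ResidueField)).IsIntegralElem (η.eta _ z)) :
    ∃ r : R, algebraMap R (⊥ : Ideal R).ResidueField r = z := by
  obtain ⟨P, hPm, hP⟩ := hz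
  rw [← Polynomial.hom_eval₂] at hP
  have h1 : Polynomial.eval₂ (algebraMap R (⊥ : Ideal R).ResidueField) z P = 0 :=
    (map_eq_zero_iff _ (RingHom.injective _)).mp hP
  have h2 : IsIntegral R z := ⟨P, hPm, h1⟩
  exact IsIntegrallyClosed.isIntegral_iff.mp h2

lemma mem_image_of_range (y : η.obj (⊥ : Ideal R).ResidueField)
    (hy : ((η.eta (⊥ : Ideal R).ResidueField).comp
      (algebraMap R (⊥ : Ideal R).ResidueField)).IsIntegralElem y)
    (hr : y ∈ Set.range (η.eta (⊥ : Ideal R).ResidueField)) :
    ∃ x ∈ η.M R, x ⟨⊥, Ideal.isPrime_bot⟩ = y := by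
  obtain ⟨z, rfl⟩ := hr
  obtain ⟨r, rfl⟩ := exists_of_eta_integral η R z hy
  exact ⟨η.t R r, η.t_mem_M R r, t_apply η r _⟩


lemma isIntegralElem_pow {S T : Type*} [CommRing S] [CommRing T] (ι : S →+* T) {y : T}
    (hy : ι.IsIntegralElem y) (m : ℕ) : ι.IsIntegralElem (y ^ m) := by
  let _ : Algebra S T := ι.toAlgebra
  have h : IsIntegral S y := hy
  exact h.pow m

lemma mem_image_of_perf (p : ℕ) (hp : p.Prime) [CharP R p]
    (hperf : ∀ (k : Type u) [Field k], ringChar k = p → Function.Bijective (η.eta k) → PerfectField k)
    (y : η.obj (⊥ : Ideal R).ResidueField)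
    (hy : ((η.eta (⊥ : Ideal R).ResidueField).comp
      (algebraMap R (⊥ : Ideal R).ResidueField)).IsIntegralElem y) :
    ∃ x ∈ η.M R, x ⟨⊥, Ideal.isPrime_bot⟩ = y := by
  classical
  have hKp : CharP (⊥ : Ideal R).ResidueField p :=
    CharP.of_ringHom_of_ne_zero (algebraMap R (⊥ : Ideal R).ResidueField) p hp.ne_zero
  have hFKp : CharP (η.obj (⊥ : Ideal R).ResidueField) p :=
    CharP.of_ringHom_of_ne_zero ((η.eta (⊥ : Ideal R).ResidueField).comp
      (algebraMap R (⊥ : Ideal R).ResidueField)) p hp.ne_zero
  have hexp : ringExpChar (⊥ : Ideal R).ResidueField = p := by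
    unfold ringExpChar
    rw [ringChar.eq (⊥ : Ideal R).ResidueField p]
    exact max_eq_left hp.one_le
  obtain ⟨n, z, hz⟩ := η.exists_pow_mem_range_eta (⊥ : Ideal R).ResidueField y
  rw [hexp] at hz
  have hzint : ((η.eta (⊥ : Ideal R).ResidueField).comp
      (algebraMap R (⊥ : Ideal R).ResidueField)).IsIntegralElem (η.eta _ z) := by
    rw [hz]; exact isIntegralElem_pow _ hy _
  obtain ⟨r, hr⟩ := exists_of_eta_integral η R z hzint
  have hroot : ∀ 𝔭 : PrimeSpectrum R, ∃ w : η.obj 𝔭.asIdeal.ResidueField,
      w ^ p ^ n = η.t R r 𝔭 := by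
    intro 𝔭
    have h1 : CharP (η.obj 𝔭.asIdeal.ResidueField) p :=
      CharP.of_ringHom_of_ne_zero ((η.eta _).comp (algebraMap R 𝔭.asIdeal.ResidueField)) p hp.ne_zero
    have h2 : PerfectField (η.obj 𝔭.asIdeal.ResidueField) :=
      hperf _ (ringChar.eq _ p) (eta_obj_bijective η _)
    exact exists_pow_eq _ p hp n _
  choose x hx using hroot
  have hxpow : x ^ p ^ n = η.t R r := by
    funext 𝔭; rw [Pi.pow_apply]; exact hx 𝔭
  refine ⟨x, ?_, ?_⟩
  · intro V _ _ _ hV g
    have h1 : CharP V p := CharP.of_ringHom_of_ne_zero g p hp.ne_zero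
    have h1' : CharP (FractionRing V) p :=
      CharP.of_ringHom_of_ne_zero (algebraMap V (FractionRing V)) p hp.ne_zero
    have h2 : PerfectField (FractionRing V) := hperf _ (ringChar.eq _ p) hV
    obtain ⟨w, hw⟩ := exists_pow_eq (FractionRing V) p hp n (algebraMap V (FractionRing V) (g r))
    have hwint : IsIntegral V w :=
      IsIntegral.of_pow (pow_pos hp.pos n) (hw ▸ isIntegral_algebraMap)
    obtain ⟨v, hv⟩ := IsIntegrallyClosed.isIntegral_iff.mp hwint
    have hvpow : v ^ p ^ n = g r := by
      apply IsFractionRing.injective V (FractionRing V)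
      rw [map_pow, hv, hw]
    refine ⟨v, ?_⟩
    funext 𝔮
    have h3 : CharP (η.obj 𝔮.asIdeal.ResidueField) p :=
      CharP.of_ringHom_of_ne_zero ((η.eta _).comp ((algebraMap V 𝔮.asIdeal.ResidueField).comp g))
        p hp.ne_zero
    apply pow_inj _ p hp (n := n)
    have e : (η.t V v) ^ p ^ n = (η.Nmap g x) ^ p ^ n := by
      rw [← map_pow, ← map_pow, hvpow, ← FieldEndo.Nmap_t_apply, hxpow]
    have e' := congrFun e 𝔮
    rw [Pi.pow_apply, Pi.pow_apply] at e'
    exact e'
  · apply pow_inj _ p hp (n := n)
    rw [hx, t_apply, hr, hz]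


lemma mem_image (hη : η.InV R ∨ ∀ (k : Type u) [Field k], ringChar k = ringChar R →
      Function.Bijective (η.eta k) → PerfectField k)
    (y : η.obj (⊥ : Ideal R).ResidueField)
    (hy : ((η.eta (⊥ : Ideal R).ResidueField).comp
      (algebraMap R (⊥ : Ideal R).ResidueField)).IsIntegralElem y) :
    ∃ x ∈ η.M R, x ⟨⊥, Ideal.isPrime_bot⟩ = y := by
  rcases hη with hInV | hperf
  · exact mem_image_of_range η R y hy ((inV_bot η R hInV).2 y)
  · rcases CharP.char_is_prime_or_zero R (ringChar R) with hp | h0
    · exact mem_image_of_perf η R (ringChar R) hp hperf y hy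
    · apply mem_image_of_range η R y hy
      have hK0 : CharP (⊥ : Ideal R).ResidueField 0 := by
        have : CharP R 0 := h0 ▸ ringChar.charP R
        exact charP_of_injective_ringHom
          (IsFractionRing.injective R (⊥ : Ideal R).ResidueField) 0
      have hexp : ringExpChar (⊥ : Ideal R).ResidueField = 1 := by
        unfold ringExpChar
        rw [ringChar.eq (⊥ : Ideal R).ResidueField 0]
        rfl
      obtain ⟨n, hz⟩ := η.exists_pow_mem_range_eta (⊥ : Ideal R).ResidueField y
      rw [hexp, one_pow, pow_one] at hz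
      exact hz

theorem main (hη : η.InV R ∨ ∀ (k : Type u) [Field k], ringChar k = ringChar R →
      Function.Bijective (η.eta k) → PerfectField k) :
    Set.InjOn (fun x : η.N R => x ⟨⊥, Ideal.isPrime_bot⟩) (η.M R) ∧
      (fun x : η.N R => x ⟨⊥, Ideal.isPrime_bot⟩) '' (η.M R : Set (η.N R)) =
        {y | ((η.eta (⊥ : Ideal R).ResidueField).comp (algebraMap R (⊥ : Ideal R).ResidueField)).IsIntegralElem y} := by
  constructor
  · intro x hx x' hx' h
    have h0 := eq_zero_of_minimal η (x - x') (Subring.sub_mem _ hx hx') (by
      intro P hP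
      rw [IsDomain.minimalPrimes_eq_singleton_bot, Set.mem_singleton_iff] at hP
      obtain rfl : P = ⟨⊥, Ideal.isPrime_bot⟩ := PrimeSpectrum.ext hP
      rw [Pi.sub_apply, sub_eq_zero]
      exact h)
    exact sub_eq_zero.mp h0
  · apply Set.eq_of_subset_of_subset
    · rintro _ ⟨x, hx, rfl⟩
      exact Groth.Agent.S13802.Aux.exists_monic_comp η R x hx ⟨⊥, Ideal.isPrime_bot⟩
    · intro y hy
      obtain ⟨x, hx, hxy⟩ := mem_image η R hη y hy
      exact ⟨x, hx, hxy⟩

end Aux

/-- Let R be a valuation ring with fraction field K such that η is bijective at K, or such that every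
field of the same characteristic as R at which η is bijective is perfect. Then evaluation at the
generic point maps M_η(R) injectively into F(K), with image exactly the elements of F(K) integral
over R (through η_K composed with R → K); here K is realised as the residue field of R at (0). (The
published statement assumes nothing about η beyond the standing conditions, and then fails: for the
endofunctor equal to the perfect closure on the fields of characteristic 2 and transcendence degree
at least 2 over the prime field and to the identity on every other field, and R = F_2(s)[t]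
localised at (t), the element s^(1/2) of F(K) is integral over R but is the generic component of no
element of M_η(R). This row assumes that η is bijective at Frac R, or that every field of the same
characteristic as R at which η is bijective is perfect; both the identity and the perfect closure
satisfy this.) Here η is a natural transformation from the identity of the category of fields to an
endofunctor F with F(η_K) bijective and η_K purely inseparable for every field K, N_η(A) is the
product of the F(k(p)) over the primes p of A with diagonal map t_A, and M_η(A) ⊆ N_η(A) is the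
subring of elements sent into the range of t_R by every ring map from A to a valuation ring R at
whose fraction field η is bijective; q_A : A → M_η(A) is the corestriction of t_A. -/
theorem result (η : EtaPt.FieldEndo.{u}) (R : Type u) [CommRing R] [IsDomain R] [ValuationRing R]
    (hη : η.InV R ∨ ∀ (k : Type u) [Field k], ringChar k = ringChar R →
      Function.Bijective (η.eta k) → PerfectField k) :
    Set.InjOn (fun x : η.N R => x ⟨⊥, Ideal.isPrime_bot⟩) (η.M R) ∧
      (fun x : η.N R => x ⟨⊥, Ideal.isPrime_bot⟩) '' (η.M R : Set (η.N R)) =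
        {y | ((η.eta (⊥ : Ideal R).ResidueField).comp (algebraMap R (⊥ : Ideal R).ResidueField)).IsIntegralElem y} := by
  exact Aux.main η R hη

end Groth.Agent.S13813
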