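import Groth.Statements.S13814
import Mathlib
import Groth.Prelude.Def_W4c1chowmix47Eta
import Groth.Agent.Lib.Helper9.EtaPt8
import Groth.Agent.S13813
-- import your own Groth.Agent.* helpers here

set_option autoImplicit false
universe u
open EtaPt

namespace Groth.Agent.S13814

open EtaPt Groth.Agent.Helper9.EtaPtLib
namespace Aux

variable (η : EtaPt.FieldEndo.{u}) (R : Type u) [CommRing R] [IsDomain R] [ValuationRing R]

lemma isIntegralElem_of_pow_eq {S T : Type*} [CommRing S] [CommRing T] (ι : S →+* T) {y : T}
    {m : ℕ} (hm : 0 < m) {r : S} (h : y ^ m = ι r) : ι.IsIntegralElem y := by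
  let _ : Algebra S T := ι.toAlgebra
  have h1 : IsIntegral S (y ^ m) := by
    rw [h]; exact isIntegral_algebraMap (R := S) (A := T) (x := r)
  exact IsIntegral.of_pow hm h1

/-- key valuation property of the integral closure of `R` in `F K` -/
lemma integral_or_inv (w : η.obj (⊥ : Ideal R).ResidueField) :
    ((η.eta (⊥ : Ideal R).ResidueField).comp
      (algebraMap R (⊥ : Ideal R).ResidueField)).IsIntegralElem w ∨
    ((η.eta (⊥ : Ideal R).ResidueField).comp
      (algebraMap R (⊥ : Ideal R).ResidueField)).IsIntegralElem w⁻¹ := by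
  obtain ⟨n, z, hz⟩ := η.exists_pow_mem_range_eta (⊥ : Ideal R).ResidueField w
  have hpos : 0 < ringExpChar (⊥ : Ideal R).ResidueField ^ n := pow_pos (ringExpChar_pos _) n
  rcases ValuationRing.isInteger_or_isInteger R z with ⟨r, hr⟩ | ⟨r, hr⟩
  · left
    apply isIntegralElem_of_pow_eq _ hpos (r := r)
    rw [← hz, RingHom.comp_apply, hr]
  · right
    apply isIntegralElem_of_pow_eq _ hpos (r := r)
    rw [inv_pow, ← hz, ← map_inv₀, RingHom.comp_apply, hr]


theorem main (hη : η.InV R ∨ ∀ (k : Type u) [Field k], ringChar k = ringChar R →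
      Function.Bijective (η.eta k) → PerfectField k) :
    IsDomain (η.M R) ∧ PreValuationRing (η.M R) ∧
      (∀ y : η.obj (⊥ : Ideal R).ResidueField, ∃ a b : η.M R,
        (b : η.N R) ⟨⊥, Ideal.isPrime_bot⟩ ≠ 0 ∧
          y * (b : η.N R) ⟨⊥, Ideal.isPrime_bot⟩ = (a : η.N R) ⟨⊥, Ideal.isPrime_bot⟩) ∧
      (fun x : η.N R => x ⟨⊥, Ideal.isPrime_bot⟩) '' (η.M R : Set (η.N R)) ∩
          Set.range (η.eta (⊥ : Ideal R).ResidueField) =
        Set.range ((η.eta (⊥ : Ideal R).ResidueField).comp (algebraMap R (⊥ : Ideal R).ResidueField)) := by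
  obtain ⟨hinj, himg⟩ := Groth.Agent.S13813.result η R hη
  -- the evaluation ring hom
  let ev : η.M R →+* η.obj (⊥ : Ideal R).ResidueField :=
    (Pi.evalRingHom (fun p : PrimeSpectrum R => η.obj p.asIdeal.ResidueField)
      ⟨⊥, Ideal.isPrime_bot⟩).comp (η.M R).subtype
  have hev : ∀ a : η.M R, ev a = (a : η.N R) ⟨⊥, Ideal.isPrime_bot⟩ := fun a => rfl
  have hevinj : Function.Injective ev := by
    intro a b hab
    exact Subtype.ext (hinj a.2 b.2 hab)
  -- surjectivity onto integral elements
  have hsurj : ∀ y : η.obj (⊥ : Ideal R).ResidueField,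
      ((η.eta (⊥ : Ideal R).ResidueField).comp
        (algebraMap R (⊥ : Ideal R).ResidueField)).IsIntegralElem y → ∃ a : η.M R, ev a = y := by
    intro y hy
    have : y ∈ (fun x : η.N R => x ⟨⊥, Ideal.isPrime_bot⟩) '' (η.M R : Set (η.N R)) := by
      rw [himg]; exact hy
    obtain ⟨x, hx, hxy⟩ := this
    exact ⟨⟨x, hx⟩, hxy⟩
  have hdom : IsDomain (η.M R) := hevinj.isDomain ev
  refine ⟨hdom, ⟨fun a b => ?_⟩, fun y => ?_, ?_⟩
  · by_cases ha : a = 0
    · exact ⟨0, Or.inr (by rw [mul_zero, ha])⟩
    have hea : ev a ≠ 0 := fun h => ha (hevinj (by rw [h, map_zero]))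
    by_cases hb : b = 0
    · exact ⟨0, Or.inl (by rw [mul_zero, hb])⟩
    have heb : ev b ≠ 0 := fun h => hb (hevinj (by rw [h, map_zero]))
    rcases integral_or_inv η R (ev b / ev a) with h | h
    · obtain ⟨c, hc⟩ := hsurj _ h
      refine ⟨c, Or.inl (hevinj ?_)⟩
      rw [map_mul, hc, mul_div_cancel₀ _ hea]
    · obtain ⟨c, hc⟩ := hsurj _ h
      refine ⟨c, Or.inr (hevinj ?_)⟩
      rw [map_mul, hc, inv_div, mul_div_cancel₀ _ heb]
  · rcases integral_or_inv η R y with h | h
    · obtain ⟨a, ha⟩ := hsurj _ h
      refine ⟨a, 1, ?_, ?_⟩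
      · rw [← hev, map_one]; exact one_ne_zero
      · rw [← hev, ← hev, map_one, mul_one, ha]
    · by_cases hy0 : y = 0
      · refine ⟨0, 1, ?_, ?_⟩
        · rw [← hev, map_one]; exact one_ne_zero
        · rw [← hev, ← hev, map_one, map_zero, mul_one, hy0]
      · obtain ⟨b, hb⟩ := hsurj _ h
        refine ⟨1, b, ?_, ?_⟩
        · rw [← hev, hb]; exact inv_ne_zero hy0
        · rw [← hev, ← hev, hb, map_one, mul_inv_cancel₀ hy0]
  · apply Set.eq_of_subset_of_subset
    · rintro y ⟨⟨x, hx, rfl⟩, ⟨z, hz⟩⟩
      have hint : ((η.eta (⊥ : Ideal R).ResidueField).comp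
          (algebraMap R (⊥ : Ideal R).ResidueField)).IsIntegralElem (η.eta _ z) := by
        rw [hz]
        have : (fun x : η.N R => x ⟨⊥, Ideal.isPrime_bot⟩) x ∈
            (fun x : η.N R => x ⟨⊥, Ideal.isPrime_bot⟩) '' (η.M R : Set (η.N R)) := ⟨x, hx, rfl⟩
        rw [himg] at this
        exact this
      obtain ⟨r, hr⟩ := Groth.Agent.S13813.Aux.exists_of_eta_integral η R z hint
      exact ⟨r, by rw [RingHom.comp_apply, hr, hz]⟩
    · rintro _ ⟨r, rfl⟩
      refine ⟨⟨η.t R r, η.t_mem_M R r, t_apply η r _⟩, ⟨algebraMap R _ r, rfl⟩⟩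

end Aux

/-- Let R be a valuation ring with fraction field K = k((0)) such that η is bijective at K, or such that
every field of the same characteristic as R at which η is bijective is perfect. Then the ring M_η(R)
is again a valuation ring, every element of F(K) is a quotient of generic components of elements of
M_η(R), and an element of F(K) that is both the generic component of an element of M_η(R) and in the
image of K comes from R. (The published statement assumes nothing about η beyond the standing
conditions, and then fails: for the endofunctor equal to the perfect closure on the fields of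
characteristic 2 and transcendence degree at least 2 over the prime field and to the identity on
every other field, and R = F_2(s)[t] localised at (t), neither of the elements (s^(1/2) t, 0) and
(t, 0) of M_η(R) ⊆ F(K) × F_2(s) divides the other, so M_η(R) is not a valuation ring. This row
assumes that η is bijective at Frac R, or that every field of the same characteristic as R at which
η is bijective is perfect; both the identity and the perfect closure satisfy this.) Here η is a
natural transformation from the identity of the category of fields to an endofunctor F with F(η_K)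
bijective and η_K purely inseparable for every field K, N_η(A) is the product of the F(k(p)) over
the primes p of A with diagonal map t_A, and M_η(A) ⊆ N_η(A) is the subring of elements sent into
the range of t_R by every ring map from A to a valuation ring R at whose fraction field η is
bijective; q_A : A → M_η(A) is the corestriction of t_A. -/
theorem result (η : EtaPt.FieldEndo.{u}) (R : Type u) [CommRing R] [IsDomain R] [ValuationRing R]
    (hη : η.InV R ∨ ∀ (k : Type u) [Field k], ringChar k = ringChar R →
      Function.Bijective (η.eta k) → PerfectField k) :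
    IsDomain (η.M R) ∧ PreValuationRing (η.M R) ∧
      (∀ y : η.obj (⊥ : Ideal R).ResidueField, ∃ a b : η.M R,
        (b : η.N R) ⟨⊥, Ideal.isPrime_bot⟩ ≠ 0 ∧
          y * (b : η.N R) ⟨⊥, Ideal.isPrime_bot⟩ = (a : η.N R) ⟨⊥, Ideal.isPrime_bot⟩) ∧
      (fun x : η.N R => x ⟨⊥, Ideal.isPrime_bot⟩) '' (η.M R : Set (η.N R)) ∩
          Set.range (η.eta (⊥ : Ideal R).ResidueField) =
        Set.range ((η.eta (⊥ : Ideal R).ResidueField).comp (algebraMap R (⊥ : Ideal R).ResidueField)) := by
  exact Aux.main η R hη

end Groth.Agent.S13814
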