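import Groth.Statements.S13816
import Mathlib
import Groth.Prelude.Def_W4c1chowmix47Eta
import Groth.Agent.Lib.Helper9.EtaPt
import Groth.Agent.Lib.Helper9.EtaPt2
import Groth.Agent.Lib.Helper9.EtaPt3
import Groth.Agent.Lib.Helper9.EtaPt4
-- import your own Groth.Agent.* helpers here

set_option autoImplicit false
universe u
open EtaPt

namespace Groth.Agent.S13816

open EtaPt
namespace Aux
open Groth.Agent.Helper9.EtaPtLib

theorem main (η : EtaPt.FieldEndo.{u}) {A B : Type u} [CommRing A] [CommRing B] (f : A →+* B)
    (hf : f.IsIntegral) (hs : Function.Surjective (PrimeSpectrum.comap f)) (x : η.N A) :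
    x ∈ η.M A ↔ η.Nmap f x ∈ η.M B := by
  constructor
  · exact fun hx => Nmap_mem_M η f hx
  · intro hfx R _ _ _ hR g
    let p₀R : PrimeSpectrum R := ⟨⊥, Ideal.isPrime_bot⟩
    let κ := p₀R.asIdeal.ResidueField
    let Ω := AlgebraicClosure κ
    set w := η.Nmap g x with hw
    let p : PrimeSpectrum A := PrimeSpectrum.comap g p₀R
    obtain ⟨q, hq⟩ := hs p
    have hpq : p.asIdeal = q.asIdeal.comap f := by rw [← hq]; rfl
    have hpp : p.asIdeal = p₀R.asIdeal.comap g := rfl
    let φ : p.asIdeal.ResidueField →+* κ := Ideal.ResidueField.map p.asIdeal p₀R.asIdeal g hpp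
    obtain ⟨τ, hτ⟩ := exists_lift_algClosed f hf q p hpq Ω ((algebraMap κ Ω).comp φ)
    let g₀ : B →+* Ω := τ.comp (algebraMap B q.asIdeal.ResidueField)
    have hg₀ : ∀ a, g₀ (f a) = algebraMap κ Ω (algebraMap R κ (g a)) := by
      intro a
      show τ (algebraMap B q.asIdeal.ResidueField (f a)) = _
      rw [← Ideal.ResidueField.map_algebraMap p.asIdeal q.asIdeal f hpq a]
      have := congrArg (fun h => h (algebraMap A p.asIdeal.ResidueField a)) (congrArg DFunLike.coe hτ)
      simp only [RingHom.comp_apply] at this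
      rw [this]
      congr 1
      exact Ideal.ResidueField.map_algebraMap p.asIdeal p₀R.asIdeal g hpp a
    have key : ∀ 𝔭 : PrimeSpectrum R, ∃ (V : ValuationSubring Ω) (ι : R →+* V) (r' : V),
        (∀ a, ((ι a : V) : Ω) = algebraMap κ Ω (algebraMap R κ a)) ∧
        𝔭.asIdeal = (IsLocalRing.maximalIdeal V).comap ι ∧ η.Nmap ι w = η.t V r' := by
      intro 𝔭
      obtain ⟨V, ι, hι, h𝔭⟩ := exists_val p₀R 𝔭 bot_le
      have hmem : ∀ b, g₀ b ∈ V.toSubring := by
        intro b
        obtain ⟨P, hPm, hP⟩ := hf b
        have hint : IsIntegral V (g₀ b) := by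
          refine ⟨P.map (ι.comp g), hPm.map _, ?_⟩
          rw [Polynomial.eval₂_map]
          have hcomp : (algebraMap V Ω).comp (ι.comp g) = g₀.comp f := by
            ext a
            simp only [RingHom.comp_apply]
            rw [hg₀]
            exact hι (g a)
          rw [hcomp, ← Polynomial.hom_eval₂, hP, map_zero]
        obtain ⟨v, hv⟩ := (IsIntegrallyClosed.isIntegral_iff (R := V) (K := Ω)).1 hint
        rw [← hv]
        exact v.2
      let g' : B →+* V := g₀.codRestrict V.toSubring hmem
      have hg' : g'.comp f = ι.comp g := by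
        ext a
        simp only [RingHom.comp_apply]
        show g₀ (f a) = _
        rw [hg₀]
        exact (hι (g a)).symm
      obtain ⟨r', hr'⟩ := hfx V (inV_valuationSubring_of_isAlgClosed η Ω V) g'
      refine ⟨V, ι, r', hι, h𝔭, ?_⟩
      rw [hr', hw, ← Nmap_comp_apply, ← Nmap_comp_apply, hg']
    have hκ := inV_bot η R hR
    obtain ⟨y, hy⟩ := hκ.2 (w p₀R)
    have hstar : ∀ (V : ValuationSubring Ω) (ι : R →+* V) (r' : V),
        (∀ a, ((ι a : V) : Ω) = algebraMap κ Ω (algebraMap R κ a)) →
        η.Nmap ι w = η.t V r' → algebraMap κ Ω y = (r' : Ω) := by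
      intro V ι r' hι hr'
      have h1 := generic_eq_of_Nmap_eq_t η p₀R V ι hι w r' hr'
      rw [← hy, eta_natural_apply] at h1
      exact (η.eta Ω).injective h1
    -- y comes from R
    have hyR : ∃ r : R, algebraMap R κ r = y := by
      let 𝔪 : PrimeSpectrum R := ⟨IsLocalRing.maximalIdeal R, inferInstance⟩
      obtain ⟨V, ι, r', hι, h𝔪, hr'⟩ := key 𝔪
      have hyr' := hstar V ι r' hι hr'
      rcases ValuationRing.isInteger_or_isInteger R y with ⟨r, hr⟩ | ⟨s, hs⟩
      · exact ⟨r, hr⟩
      · by_cases hy0 : y = 0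
        · exact ⟨0, by rw [hy0, map_zero]⟩
        · by_cases hsu : IsUnit s
          · obtain ⟨u, rfl⟩ := hsu
            refine ⟨((u⁻¹ : Rˣ) : R), ?_⟩
            have h1 : algebraMap R κ ((u⁻¹ : Rˣ) : R) * algebraMap R κ (u : R) = 1 := by
              rw [← map_mul, Units.inv_mul, map_one]
            have h2 : algebraMap R κ (u : R) = y⁻¹ := hs
            rw [h2] at h1
            have := eq_inv_of_mul_eq_one_left h1
            rw [this, inv_inv]
          · exfalso
            have hsm : s ∈ IsLocalRing.maximalIdeal R := hsu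
            have h𝔪' : (𝔪.asIdeal : Ideal R) = IsLocalRing.maximalIdeal R := rfl
            rw [← h𝔪', h𝔪, Ideal.mem_comap] at hsm
            have h3 : ((ι s * r' : V) : Ω) = 1 := by
              have h2 : algebraMap R κ s = y⁻¹ := hs
              show ((ι s : V) : Ω) * (r' : Ω) = 1
              rw [hι, h2, map_inv₀, ← hyr']
              exact inv_mul_cancel₀ (fun h0 => hy0 ((algebraMap κ Ω).injective (h0.trans (map_zero _).symm)))
            have h4 : ι s * r' = 1 := Subtype.ext h3
            exact hsm (IsUnit.of_mul_eq_one _ h4)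
    obtain ⟨r, hr⟩ := hyR
    refine ⟨r, ?_⟩
    funext 𝔭
    obtain ⟨V, ι, r', hι, h𝔭, hr'⟩ := key 𝔭
    have hyr' := hstar V ι r' hι hr'
    have hr'r : r' = ι r := by
      apply Subtype.ext
      rw [← hyr', hι, hr]
    rw [hr'r] at hr'
    let 𝔐 : PrimeSpectrum V := ⟨IsLocalRing.maximalIdeal V, inferInstance⟩
    exact (eq_t_of_Nmap_eq_t η ι w r hr' 𝔐 𝔭 h𝔭).symm

end Aux

/-- If f : A → B is an integral ring map with Spec(f) surjective, then an element of N_η(A) lies in
M_η(A) if and only if its image under N_η(f) lies in M_η(B). Here η is a natural transformation from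
the identity of the category of fields to an endofunctor F with F(η_K) bijective and η_K purely
inseparable for every field K, N_η(A) is the product of the F(k(p)) over the primes p of A with
diagonal map t_A, and M_η(A) ⊆ N_η(A) is the subring of elements sent into the range of t_R by every
ring map from A to a valuation ring R at whose fraction field η is bijective; q_A : A → M_η(A) is
the corestriction of t_A. -/
theorem result (η : EtaPt.FieldEndo.{u}) {A B : Type u} [CommRing A] [CommRing B] (f : A →+* B)
    (hf : f.IsIntegral) (hs : Function.Surjective (PrimeSpectrum.comap f)) (x : η.N A) :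
    x ∈ η.M A ↔ η.Nmap f x ∈ η.M B := by
  exact Aux.main η f hf hs x

end Groth.Agent.S13816
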