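import Groth.Statements.S13817
import Mathlib
import Groth.Prelude.Def_W4c1chowmix47Eta
import Groth.Agent.Lib.Helper9.EtaPt
import Groth.Agent.Lib.Helper9.EtaPt2
import Groth.Agent.Lib.Helper9.EtaPt6
import Groth.Agent.Lib.Helper9.EtaPt7
import Groth.Agent.S13802
import Groth.Agent.S13803
-- import your own Groth.Agent.* helpers here

set_option autoImplicit false
universe u
open EtaPt

namespace Groth.Agent.S13817

open EtaPt
namespace Aux
open Groth.Agent.Helper9.EtaPtLib

variable (η : EtaPt.FieldEndo.{u}) {A B : Type u} [CommRing A] [CommRing B]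

lemma qRel_isIntegral (hA : (minimalPrimes A).Finite)
    (f : A →+* B) (hs : Function.Surjective (PrimeSpectrum.comap f)) : (η.qRel f).IsIntegral := by
  intro c
  obtain ⟨P, hPm, hP⟩ := Groth.Agent.S13802.result η A hA (rho η f hs c)
  set d : η.rel f := Polynomial.eval₂ (η.qRel f) c P with hd
  have hρd : rho η f hs d = 0 := by
    rw [hd, Polynomial.hom_eval₂, rho_comp_qRel]
    exact hP
  obtain ⟨k, hk⟩ := (rho_eq_zero_iff η f hs d).1 hρd
  refine ⟨P ^ k, hPm.pow k, ?_⟩
  rw [Polynomial.eval₂_pow, ← hd]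
  apply Subtype.ext
  show ((d ^ k : η.rel f) : B) = 0
  rw [Subring.coe_pow, hk]

lemma rho_isIntegral (hA : (minimalPrimes A).Finite)
    (f : A →+* B) (hs : Function.Surjective (PrimeSpectrum.comap f)) :
    (rho η f hs).IsIntegral := by
  have h := Groth.Agent.S13802.result η A hA
  rw [← rho_comp_qRel η f hs] at h
  exact RingHom.IsIntegral.tower_top _ _ h

lemma ker_rho_le (f : A →+* B) (hs : Function.Surjective (PrimeSpectrum.comap f))
    (𝔠 : Ideal (η.rel f)) [𝔠.IsPrime] : RingHom.ker (rho η f hs) ≤ 𝔠 := by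
  intro c hc
  obtain ⟨k, hk⟩ := (rho_eq_zero_iff η f hs c).1 hc
  have : c ^ k = 0 := Subtype.ext (by rw [Subring.coe_pow, hk]; rfl)
  exact Ideal.IsPrime.mem_of_pow_mem inferInstance k (this ▸ 𝔠.zero_mem)

theorem main {A B : Type u} [CommRing A] [CommRing B] (hA : (minimalPrimes A).Finite)
    (f : A →+* B) (hs : Function.Surjective (PrimeSpectrum.comap f)) :
    (η.qRel f).IsIntegral ∧ Function.Bijective (PrimeSpectrum.comap (η.qRel f)) := by
  refine ⟨qRel_isIntegral η hA f hs, ?_, ?_⟩
  · intro 𝔠₁ 𝔠₂ h12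
    obtain ⟨Q₁, hQ₁p, hQ₁⟩ := exists_prime_over (rho η f hs) (rho_isIntegral η hA f hs) 𝔠₁.asIdeal
      (ker_rho_le η f hs 𝔠₁.asIdeal)
    obtain ⟨Q₂, hQ₂p, hQ₂⟩ := exists_prime_over (rho η f hs) (rho_isIntegral η hA f hs) 𝔠₂.asIdeal
      (ker_rho_le η f hs 𝔠₂.asIdeal)
    have h3 := (Groth.Agent.S13803.result η A hA).1.1
    have h4 : (⟨Q₁, hQ₁p⟩ : PrimeSpectrum (η.M A)) = ⟨Q₂, hQ₂p⟩ := by
      apply h3
      apply PrimeSpectrum.ext
      show Q₁.comap (η.q A) = Q₂.comap (η.q A)
      rw [← rho_comp_qRel η f hs, ← Ideal.comap_comap, ← Ideal.comap_comap, hQ₁, hQ₂]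
      exact congrArg PrimeSpectrum.asIdeal h12
    have h5 : Q₁ = Q₂ := congrArg PrimeSpectrum.asIdeal h4
    apply PrimeSpectrum.ext
    rw [← hQ₁, ← hQ₂, h5]
  · intro P
    refine ⟨PrimeSpectrum.comap (rho η f hs) (QP η A P), ?_⟩
    apply PrimeSpectrum.ext
    show ((QP η A P).asIdeal.comap (rho η f hs)).comap (η.qRel f) = P.asIdeal
    rw [Ideal.comap_comap, rho_comp_qRel]
    exact (comap_q_QP η A P).symm

end Aux

/-- For a ring map f : A → B with A having finitely many minimal prime ideals and Spec(f) surjective,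
the map q_{B/A} : A → (B/A)_η is integral and induces a bijection on prime spectra. Here η is a
natural transformation from the identity of the category of fields to an endofunctor F with F(η_K)
bijective and η_K purely inseparable for every field K, N_η(A) is the product of the F(k(p)) over
the primes p of A with diagonal map t_A, and M_η(A) ⊆ N_η(A) is the subring of elements sent into
the range of t_R by every ring map from A to a valuation ring R at whose fraction field η is
bijective; q_A : A → M_η(A) is the corestriction of t_A. For a ring map f : A → B, (B/A)_η ⊆ B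
denotes the subring of elements b with t_B(b) in N_η(f)(M_η(A)) (the image in B of the fibre product
of M_η(A) and B over M_η(B)), and q_{B/A} : A → (B/A)_η the corestriction of f. -/
theorem result (η : EtaPt.FieldEndo.{u}) {A B : Type u} [CommRing A] [CommRing B] (hA : (minimalPrimes A).Finite)
    (f : A →+* B) (hs : Function.Surjective (PrimeSpectrum.comap f)) :
    (η.qRel f).IsIntegral ∧ Function.Bijective (PrimeSpectrum.comap (η.qRel f)) := by
  exact Aux.main η hA f hs

end Groth.Agent.S13817
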