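import Groth.Statements.S13818
import Mathlib
import Groth.Prelude.Def_W4c1chowmix47Eta
import Groth.Agent.Lib.Helper9.EtaPt
import Groth.Agent.Lib.Helper9.EtaPt2
import Groth.Agent.Lib.Helper9.EtaPt6
import Groth.Agent.Lib.Helper9.EtaPt7
import Groth.Agent.S13802
import Groth.Agent.S13803
import Groth.Agent.S13804
import Groth.Agent.S13817
-- import your own Groth.Agent.* helpers here

set_option autoImplicit false
universe u
open EtaPt

namespace Groth.Agent.S13818

open EtaPt
namespace Aux
open Groth.Agent.Helper9.EtaPtLib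

variable (η : EtaPt.FieldEndo.{u}) {A B : Type u} [CommRing A] [CommRing B]

lemma factor_of (hA : (minimalPrimes A).Finite)
    (f : A →+* B) (hs : Function.Surjective (PrimeSpectrum.comap f))
    (Q : PrimeSpectrum (η.rel f)) (P : PrimeSpectrum A)
    (hP : P.asIdeal = Q.asIdeal.comap (η.qRel f)) :
    ∃ φ : Q.asIdeal.ResidueField →+* η.obj P.asIdeal.ResidueField,
      φ.comp (Ideal.ResidueField.map P.asIdeal Q.asIdeal (η.qRel f) hP) =
        η.eta P.asIdeal.ResidueField := by
  obtain ⟨Q', hQ'p, hQ'⟩ := exists_prime_over (rho η f hs)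
    (Groth.Agent.S13817.Aux.rho_isIntegral η hA f hs) Q.asIdeal
    (Groth.Agent.S13817.Aux.ker_rho_le η f hs Q.asIdeal)
  let Q'' : PrimeSpectrum (η.M A) := ⟨Q', hQ'p⟩
  have hPQ' : P.asIdeal = Q''.asIdeal.comap (η.q A) := by
    show P.asIdeal = Q'.comap (η.q A)
    rw [← rho_comp_qRel η f hs, ← Ideal.comap_comap, hQ', hP]
  obtain ⟨φ', hφ'⟩ := Groth.Agent.S13803.Aux.residue_factor η A Q'' P hPQ'
    (eq_QP_of_comap η hA Q'' P hPQ')
  have hQQ' : Q.asIdeal = Q''.asIdeal.comap (rho η f hs) := hQ'.symm
  refine ⟨φ'.comp (Ideal.ResidueField.map Q.asIdeal Q''.asIdeal (rho η f hs) hQQ'), ?_⟩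
  apply Ideal.ResidueField.ringHom_ext
  ext a
  simp only [RingHom.comp_apply]
  rw [Ideal.ResidueField.map_algebraMap, Ideal.ResidueField.map_algebraMap, rho_qRel,
    ← Ideal.ResidueField.map_algebraMap P.asIdeal Q''.asIdeal (η.q A) hPQ' a]
  exact congrArg (fun h => h (algebraMap A P.asIdeal.ResidueField a)) (congrArg DFunLike.coe hφ')

theorem main (η : EtaPt.FieldEndo.{u}) {A B : Type u} [CommRing A] [CommRing B] (hA : (minimalPrimes A).Finite)
    (f : A →+* B) (hs : Function.Surjective (PrimeSpectrum.comap f)) :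
    (∀ Q : PrimeSpectrum (η.rel f),
        ∃ φ : Q.asIdeal.ResidueField →+* η.obj (PrimeSpectrum.comap (η.qRel f) Q).asIdeal.ResidueField,
          φ.comp (Ideal.ResidueField.map (PrimeSpectrum.comap (η.qRel f) Q).asIdeal Q.asIdeal (η.qRel f) rfl) =
            η.eta (PrimeSpectrum.comap (η.qRel f) Q).asIdeal.ResidueField) ∧
      Function.Bijective (η.Nmap (η.qRel f)) := by
  have h1 : ∀ Q : PrimeSpectrum (η.rel f),
        ∃ φ : Q.asIdeal.ResidueField →+* η.obj (PrimeSpectrum.comap (η.qRel f) Q).asIdeal.ResidueField,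
          φ.comp (Ideal.ResidueField.map (PrimeSpectrum.comap (η.qRel f) Q).asIdeal Q.asIdeal (η.qRel f) rfl) =
            η.eta (PrimeSpectrum.comap (η.qRel f) Q).asIdeal.ResidueField :=
    fun Q => factor_of η hA f hs Q _ rfl
  refine ⟨h1, ?_⟩
  apply Nmap_bijective_of η (η.qRel f) (Groth.Agent.S13817.result η hA f hs).2
  intro Q
  obtain ⟨φ, hφ⟩ := h1 Q
  exact (Groth.Agent.S13804.Aux.map_bijective_of_factor η _ φ hφ).2

end Aux

/-- For a ring map f : A → B with A having finitely many minimal prime ideals and Spec(f) surjective: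
for every prime Q of (B/A)_η over the prime P of A, η at k(P) factors through the residue field map
k(P) → k(Q), and N_η(q_{B/A}) is bijective. Here η is a natural transformation from the identity of
the category of fields to an endofunctor F with F(η_K) bijective and η_K purely inseparable for
every field K, N_η(A) is the product of the F(k(p)) over the primes p of A with diagonal map t_A,
and M_η(A) ⊆ N_η(A) is the subring of elements sent into the range of t_R by every ring map from A
to a valuation ring R at whose fraction field η is bijective; q_A : A → M_η(A) is the corestriction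
of t_A. For a ring map f : A → B, (B/A)_η ⊆ B denotes the subring of elements b with t_B(b) in
N_η(f)(M_η(A)) (the image in B of the fibre product of M_η(A) and B over M_η(B)), and q_{B/A} : A →
(B/A)_η the corestriction of f. -/
theorem result (η : EtaPt.FieldEndo.{u}) {A B : Type u} [CommRing A] [CommRing B] (hA : (minimalPrimes A).Finite)
    (f : A →+* B) (hs : Function.Surjective (PrimeSpectrum.comap f)) :
    (∀ Q : PrimeSpectrum (η.rel f),
        ∃ φ : Q.asIdeal.ResidueField →+* η.obj (PrimeSpectrum.comap (η.qRel f) Q).asIdeal.ResidueField,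
          φ.comp (Ideal.ResidueField.map (PrimeSpectrum.comap (η.qRel f) Q).asIdeal Q.asIdeal (η.qRel f) rfl) =
            η.eta (PrimeSpectrum.comap (η.qRel f) Q).asIdeal.ResidueField) ∧
      Function.Bijective (η.Nmap (η.qRel f)) := by
  exact Aux.main η hA f hs

end Groth.Agent.S13818
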