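import Groth.Statements.S13820
import Mathlib
import Groth.Prelude.Def_W4c1chowmix47Eta
import Groth.Agent.Lib.Helper9.EtaPt7
import Groth.Agent.S13817
-- import your own Groth.Agent.* helpers here

set_option autoImplicit false
universe u
open EtaPt

namespace Groth.Agent.S13820

open EtaPt Groth.Agent.Helper9.EtaPtLib
namespace Aux

theorem main (η : EtaPt.FieldEndo.{u}) (A B : Type u) [CommRing A] [CommRing B] [Algebra A B]
    (hA : (minimalPrimes A).Finite) (hs : Function.Surjective (PrimeSpectrum.comap (algebraMap A B))) :
    (η.rel (algebraMap A (integralClosure A B))).map (integralClosure A B).val.toRingHom =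
      η.rel (algebraMap A B) := by
  have hcomp : ((integralClosure A B).val.toRingHom).comp (algebraMap A (integralClosure A B))
      = algebraMap A B := by
    refine RingHom.ext fun a => ?_
    rfl
  apply le_antisymm
  · rintro b ⟨c, hc, rfl⟩
    obtain ⟨x, hxM, hx⟩ := hc
    refine ⟨x, hxM, ?_⟩
    rw [← hcomp, Nmap_comp_apply, hx, FieldEndo.Nmap_t_apply]
  · intro b hb
    obtain ⟨x, hxM, hx⟩ := hb
    have hb' : b ∈ η.rel (algebraMap A B) := ⟨x, hxM, hx⟩
    have hint : IsIntegral A b := by
      obtain ⟨p, hp, hp0⟩ := Groth.Agent.S13817.Aux.qRel_isIntegral η hA (algebraMap A B) hs ⟨b, hb'⟩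
      refine ⟨p, hp, ?_⟩
      have := congrArg (η.rel (algebraMap A B)).subtype hp0
      rw [Polynomial.hom_eval₂, map_zero] at this
      exact this
    let c : integralClosure A B := ⟨b, hint⟩
    refine ⟨c, ?_, rfl⟩
    refine ⟨x, hxM, ?_⟩
    have hyM : η.t _ c - η.Nmap (algebraMap A (integralClosure A B)) x ∈ η.M (integralClosure A B) :=
      Subring.sub_mem _ (η.t_mem_M _ c) (Nmap_mem_M η _ hxM)
    have hy0 : η.Nmap (integralClosure A B).val.toRingHom
        (η.t _ c - η.Nmap (algebraMap A (integralClosure A B)) x) = 0 := by
      rw [map_sub, FieldEndo.Nmap_t_apply, ← Nmap_comp_apply, hcomp, hx]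
      exact sub_self _
    have hz := eq_zero_of_minimal η _ hyM ?_
    · exact (sub_eq_zero.mp hz).symm
    · intro 𝔠 h𝔠
      have hinj : Function.Injective (integralClosure A B).val.toRingHom := Subtype.val_injective
      obtain ⟨Q, hQ, hQc⟩ := Ideal.exists_comap_eq_of_mem_minimalPrimes_of_injective hinj _ h𝔠
      have h1 := congrFun hy0 ⟨Q, hQ⟩
      rw [Nmap_apply' η _ _ ⟨Q, hQ⟩ 𝔠 hQc.symm] at h1
      exact (map_eq_zero_iff _ (RingHom.injective _)).mp h1

end Aux

/-- Let A have finitely many minimal prime ideals and let B be an A-algebra with Spec B → Spec A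
surjective, C the integral closure of A in B; then the inclusion C ⊆ B carries (C/A)_η onto (B/A)_η.
Here η is a natural transformation from the identity of the category of fields to an endofunctor F
with F(η_K) bijective and η_K purely inseparable for every field K, N_η(A) is the product of the
F(k(p)) over the primes p of A with diagonal map t_A, and M_η(A) ⊆ N_η(A) is the subring of elements
sent into the range of t_R by every ring map from A to a valuation ring R at whose fraction field η
is bijective; q_A : A → M_η(A) is the corestriction of t_A. For a ring map f : A → B, (B/A)_η ⊆ B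
denotes the subring of elements b with t_B(b) in N_η(f)(M_η(A)) (the image in B of the fibre product
of M_η(A) and B over M_η(B)), and q_{B/A} : A → (B/A)_η the corestriction of f. -/
theorem result (η : EtaPt.FieldEndo.{u}) (A B : Type u) [CommRing A] [CommRing B] [Algebra A B]
    (hA : (minimalPrimes A).Finite) (hs : Function.Surjective (PrimeSpectrum.comap (algebraMap A B))) :
    (η.rel (algebraMap A (integralClosure A B))).map (integralClosure A B).val.toRingHom =
      η.rel (algebraMap A B) := by
  exact Aux.main η A B hA hs

end Groth.Agent.S13820
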