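import Groth.Statements.S13821
import Mathlib
import Groth.Prelude.Def_W4c1chowmix47Eta
import Groth.Agent.Lib.Helper9.EtaPt7
-- import your own Groth.Agent.* helpers here

set_option autoImplicit false
universe u
open EtaPt

namespace Groth.Agent.S13821

open EtaPt Groth.Agent.Helper9.EtaPtLib
namespace Aux

theorem qRel_injective_iff (η : EtaPt.FieldEndo.{u}) {A B : Type u} [CommRing A] [CommRing B]
    (f : A →+* B) : Function.Injective (η.qRel f) ↔ Function.Injective f := by
  constructor
  · intro h a b hab
    apply h
    exact Subtype.ext hab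
  · intro h a b hab
    apply h
    exact congrArg Subtype.val hab

theorem qRel_surjective_iff (η : EtaPt.FieldEndo.{u}) {A B : Type u} [CommRing A] [CommRing B]
    (f : A →+* B) : Function.Surjective (η.qRel f) ↔ ∀ b ∈ η.rel f, ∃ a, f a = b := by
  constructor
  · intro h b hb
    obtain ⟨a, ha⟩ := h ⟨b, hb⟩
    exact ⟨a, congrArg Subtype.val ha⟩
  · intro h ⟨b, hb⟩
    obtain ⟨a, ha⟩ := h b hb
    exact ⟨a, Subtype.ext ha⟩

theorem main (η : EtaPt.FieldEndo.{u}) {A B C : Type u} [CommRing A] [CommRing B] [CommRing C]
    (hA : (minimalPrimes A).Finite) (hB : (minimalPrimes B).Finite) (f : A →+* B) (g : B →+* C)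
    (hf : Function.Surjective (PrimeSpectrum.comap f)) (hg : Function.Surjective (PrimeSpectrum.comap g)) :
    (Function.Bijective (η.qRel f) → Function.Bijective (η.qRel g) → Function.Bijective (η.qRel (g.comp f))) ∧
      (Function.Injective g → Function.Bijective (η.qRel (g.comp f)) → Function.Bijective (η.qRel f)) := by
  constructor
  · rintro ⟨hfi, hfs⟩ ⟨hgi, hgs⟩
    rw [qRel_injective_iff] at hfi hgi
    rw [qRel_surjective_iff] at hfs hgs
    refine ⟨(qRel_injective_iff η _).mpr ?_, (qRel_surjective_iff η _).mpr ?_⟩
    · rw [RingHom.coe_comp]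
      exact hgi.comp hfi
    · rintro c ⟨x, hxM, hx⟩
      rw [Nmap_comp_apply] at hx
      obtain ⟨b, rfl⟩ := hgs c ⟨η.Nmap f x, Nmap_mem_M η f hxM, hx⟩
      rw [← FieldEndo.Nmap_t_apply] at hx
      have hx' := Nmap_injective_of_comap_surjective η g hg hx
      obtain ⟨a, rfl⟩ := hfs b ⟨x, hxM, hx'⟩
      exact ⟨a, rfl⟩
  · rintro hgi ⟨hi, hsj⟩
    rw [qRel_injective_iff] at hi
    rw [qRel_surjective_iff] at hsj
    refine ⟨(qRel_injective_iff η _).mpr ?_, (qRel_surjective_iff η _).mpr ?_⟩
    · rw [RingHom.coe_comp] at hi
      exact Function.Injective.of_comp hi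
    · rintro b ⟨x, hxM, hx⟩
      obtain ⟨a, ha⟩ := hsj (g b) ⟨x, hxM, by
        rw [Nmap_comp_apply, hx, FieldEndo.Nmap_t_apply]⟩
      exact ⟨a, hgi ha⟩

end Aux

/-- Let A and B have finitely many minimal prime ideals and let f : A → B, g : B → C be ring maps with
Spec(f) and Spec(g) surjective. If q_{B/A} and q_{C/B} are bijective then so is q_{C/A}; and if g is
injective and q_{C/A} is bijective then q_{B/A} is bijective. Here η is a natural transformation
from the identity of the category of fields to an endofunctor F with F(η_K) bijective and η_K purely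
inseparable for every field K, N_η(A) is the product of the F(k(p)) over the primes p of A with
diagonal map t_A, and M_η(A) ⊆ N_η(A) is the subring of elements sent into the range of t_R by every
ring map from A to a valuation ring R at whose fraction field η is bijective; q_A : A → M_η(A) is
the corestriction of t_A. For a ring map f : A → B, (B/A)_η ⊆ B denotes the subring of elements b
with t_B(b) in N_η(f)(M_η(A)) (the image in B of the fibre product of M_η(A) and B over M_η(B)), and
q_{B/A} : A → (B/A)_η the corestriction of f. (The published statement assumes finitely many minimal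
primes only for A; this row also assumes it for B, under which the relative ring of g is
introduced.) -/
theorem result (η : EtaPt.FieldEndo.{u}) {A B C : Type u} [CommRing A] [CommRing B] [CommRing C]
    (hA : (minimalPrimes A).Finite) (hB : (minimalPrimes B).Finite) (f : A →+* B) (g : B →+* C)
    (hf : Function.Surjective (PrimeSpectrum.comap f)) (hg : Function.Surjective (PrimeSpectrum.comap g)) :
    (Function.Bijective (η.qRel f) → Function.Bijective (η.qRel g) → Function.Bijective (η.qRel (g.comp f))) ∧
      (Function.Injective g → Function.Bijective (η.qRel (g.comp f)) → Function.Bijective (η.qRel f)) := by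
  exact Aux.main η hA hB f g hf hg

end Groth.Agent.S13821
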