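import Groth.Statements.S13822
import Mathlib
import Groth.Prelude.Def_W4c1chowmix47Eta
import Groth.Agent.Lib.Helper9.EtaPt7
import Groth.Agent.S13821
-- import your own Groth.Agent.* helpers here

set_option autoImplicit false
universe u
open scoped TensorProduct
open EtaPt

namespace Groth.Agent.S13822

open EtaPt Groth.Agent.Helper9.EtaPtLib
open scoped TensorProduct
namespace Aux

open Groth.Agent.S13821.Aux in
theorem main (η : EtaPt.FieldEndo.{u}) (A A' B : Type u) [CommRing A] [CommRing A'] [CommRing B]
    [Algebra A A'] [Algebra A B] [Module.FaithfullyFlat A A']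
    (hA : (minimalPrimes A).Finite) (hA' : (minimalPrimes A').Finite)
    (hs : Function.Surjective (PrimeSpectrum.comap (algebraMap A B)))
    (h : Function.Bijective (η.qRel (Algebra.TensorProduct.includeLeftRingHom : A' →+* A' ⊗[A] B))) :
    Function.Bijective (η.qRel (algebraMap A B)) := by
  obtain ⟨hi, hsj⟩ := h
  rw [qRel_injective_iff] at hi
  rw [qRel_surjective_iff] at hsj
  have hcomm : (Algebra.TensorProduct.includeLeftRingHom : A' →+* A' ⊗[A] B).comp (algebraMap A A') =
      (Algebra.TensorProduct.includeRight : B →ₐ[A] A' ⊗[A] B).toRingHom.comp (algebraMap A B) := by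
    refine RingHom.ext fun a => ?_
    simp only [RingHom.comp_apply, Algebra.TensorProduct.includeLeftRingHom_apply,
      AlgHom.toRingHom_eq_coe, RingHom.coe_coe, Algebra.TensorProduct.includeRight_apply]
    rw [Algebra.algebraMap_eq_smul_one, Algebra.algebraMap_eq_smul_one (R := A) (A := B),
      TensorProduct.smul_tmul]
  refine ⟨(qRel_injective_iff η _).mpr ?_, (qRel_surjective_iff η _).mpr ?_⟩
  · rw [injective_iff_map_eq_zero]
    intro a ha
    have h1 := congrArg (fun φ : A →+* A' ⊗[A] B => φ a) hcomm
    simp only [RingHom.comp_apply] at h1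
    rw [ha, map_zero] at h1
    have h2 := (injective_iff_map_eq_zero _).mp hi _ h1
    exact (injective_iff_map_eq_zero _).mp (FaithfulSMul.algebraMap_injective A A') _ h2
  · rintro b ⟨x, hxM, hx⟩
    obtain ⟨a', ha'⟩ := hsj ((1 : A') ⊗ₜ[A] b) ⟨η.Nmap (algebraMap A A') x, Nmap_mem_M η _ hxM, by
      rw [← Nmap_comp_apply, hcomm, Nmap_comp_apply, hx, FieldEndo.Nmap_t_apply]
      rfl⟩
    rw [Algebra.TensorProduct.includeLeftRingHom_apply] at ha'
    let P : Submodule A B := LinearMap.range (Algebra.linearMap A B)
    have h3 := congrArg (LinearMap.lTensor A' P.mkQ) ha'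
    rw [LinearMap.lTensor_tmul, LinearMap.lTensor_tmul] at h3
    have h4 : P.mkQ (1 : B) = 0 := by
      rw [Submodule.mkQ_apply, Submodule.Quotient.mk_eq_zero]
      exact ⟨1, by simp⟩
    rw [h4, TensorProduct.tmul_zero] at h3
    have h5 : TensorProduct.mk A A' (B ⧸ P) 1 (P.mkQ b) = 0 := h3.symm
    have h6 := (injective_iff_map_eq_zero _).mp
      (Module.FaithfullyFlat.tensorProduct_mk_injective (A := A) (B := A') (B ⧸ P)) _ h5
    rw [Submodule.mkQ_apply, Submodule.Quotient.mk_eq_zero] at h6
    obtain ⟨a, ha⟩ := h6
    exact ⟨a, ha⟩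

end Aux

/-- Let A → A' be faithfully flat with A and A' having finitely many minimal prime ideals, and B an
A-algebra with Spec B → Spec A surjective; if q_{(A' ⊗ B)/A'} is bijective then q_{B/A} is
bijective. Here η is a natural transformation from the identity of the category of fields to an
endofunctor F with F(η_K) bijective and η_K purely inseparable for every field K, N_η(A) is the
product of the F(k(p)) over the primes p of A with diagonal map t_A, and M_η(A) ⊆ N_η(A) is the
subring of elements sent into the range of t_R by every ring map from A to a valuation ring R at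
whose fraction field η is bijective; q_A : A → M_η(A) is the corestriction of t_A. For a ring map f
: A → B, (B/A)_η ⊆ B denotes the subring of elements b with t_B(b) in N_η(f)(M_η(A)) (the image in B
of the fibre product of M_η(A) and B over M_η(B)), and q_{B/A} : A → (B/A)_η the corestriction of f. -/
theorem result (η : EtaPt.FieldEndo.{u}) (A A' B : Type u) [CommRing A] [CommRing A'] [CommRing B]
    [Algebra A A'] [Algebra A B] [Module.FaithfullyFlat A A']
    (hA : (minimalPrimes A).Finite) (hA' : (minimalPrimes A').Finite)
    (hs : Function.Surjective (PrimeSpectrum.comap (algebraMap A B)))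
    (h : Function.Bijective (η.qRel (Algebra.TensorProduct.includeLeftRingHom : A' →+* A' ⊗[A] B))) :
    Function.Bijective (η.qRel (algebraMap A B)) := by
  exact Aux.main η A A' B hA hA' hs h

end Groth.Agent.S13822
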