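import Groth.Statements.S13823
import Mathlib
import Groth.Prelude.Def_W4c1chowmix47Eta
import Groth.Agent.Lib.Helper9.EtaPt7
import Groth.Agent.S13821
-- import your own Groth.Agent.* helpers here

set_option autoImplicit false
universe u
open EtaPt

namespace Groth.Agent.S13823

open EtaPt Groth.Agent.Helper9.EtaPtLib
open scoped nonZeroDivisors
namespace Aux

theorem nzd_le (A A' : Type u) [CommRing A] [CommRing A'] [Algebra A A'] [Module.Flat A A'] :
    A⁰ ≤ (A'⁰).comap (algebraMap A A') := by
  intro r hr
  rw [Submonoid.mem_comap]
  have h1 : IsSMulRegular A' r := Module.Flat.isSMulRegular_of_nonZeroDivisors hr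
  rw [mem_nonZeroDivisors_iff_right]
  intro x hx
  apply h1
  show r • x = r • (0 : A')
  rw [smul_zero, Algebra.smul_def, mul_comm]
  exact hx

open Groth.Agent.S13821.Aux in
theorem main (η : EtaPt.FieldEndo.{u}) (A A' : Type u) [CommRing A] [CommRing A'] [Algebra A A'] [Module.FaithfullyFlat A A']
    (hA : (minimalPrimes A).Finite) (hA' : (minimalPrimes A').Finite)
    (h : Function.Bijective (η.qRel (algebraMap A' (integralClosure A' (FractionRing A'))))) :
    Function.Bijective (η.qRel (algebraMap A (integralClosure A (FractionRing A)))) := by
  obtain ⟨-, hsj⟩ := h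
  rw [qRel_surjective_iff] at hsj
  have hinjK : Function.Injective (algebraMap A (FractionRing A)) := IsFractionRing.injective A _
  have hinjK' : Function.Injective (algebraMap A' (FractionRing A')) := IsFractionRing.injective A' _
  let φ : FractionRing A →+* FractionRing A' :=
    IsLocalization.map (FractionRing A') (algebraMap A A') (nzd_le A A')
  have hφ : ∀ a : A, φ (algebraMap A (FractionRing A) a) =
      algebraMap A' (FractionRing A') (algebraMap A A' a) := fun a => IsLocalization.map_eq _ a
  have hφint : ∀ c : FractionRing A, IsIntegral A c → IsIntegral A' (φ c) := by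
    rintro c ⟨p, hp, hp0⟩
    refine ⟨p.map (algebraMap A A'), hp.map _, ?_⟩
    rw [Polynomial.eval₂_map]
    have h1 : (algebraMap A' (FractionRing A')).comp (algebraMap A A') =
        φ.comp (algebraMap A (FractionRing A)) := RingHom.ext fun a => (hφ a).symm
    rw [h1, ← Polynomial.hom_eval₂, hp0, map_zero]
  let ψ : integralClosure A (FractionRing A) →+* integralClosure A' (FractionRing A') :=
    RingHom.codRestrict (φ.comp (integralClosure A (FractionRing A)).val.toRingHom)
      (integralClosure A' (FractionRing A')) (fun c => hφint c.1 c.2)
  have hψ : ψ.comp (algebraMap A (integralClosure A (FractionRing A))) =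
      (algebraMap A' (integralClosure A' (FractionRing A'))).comp (algebraMap A A') := by
    refine RingHom.ext fun a => Subtype.ext ?_
    exact hφ a
  refine ⟨(qRel_injective_iff η _).mpr ?_, (qRel_surjective_iff η _).mpr ?_⟩
  · intro a b hab
    exact hinjK (congrArg Subtype.val hab)
  · rintro c ⟨x, hxM, hx⟩
    obtain ⟨a', ha'⟩ := hsj (ψ c) ⟨η.Nmap (algebraMap A A') x, Nmap_mem_M η _ hxM, by
      rw [← Nmap_comp_apply, ← hψ, Nmap_comp_apply, hx, FieldEndo.Nmap_t_apply]⟩
    have ha'' : algebraMap A' (FractionRing A') a' = φ c.1 := congrArg Subtype.val ha'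
    obtain ⟨⟨a, s⟩, has⟩ := IsLocalization.surj A⁰ c.1
    simp only at has
    have h1 := congrArg φ has
    rw [map_mul, hφ, hφ, ← ha'', ← map_mul] at h1
    have h2 := hinjK' h1
    have h3 : a ∈ (Ideal.map (algebraMap A A') (Ideal.span {(s : A)})).comap (algebraMap A A') := by
      rw [Ideal.mem_comap, ← h2, mul_comm]
      exact Ideal.mul_mem_right _ _ (Ideal.mem_map_of_mem _ (Ideal.mem_span_singleton_self _))
    rw [Ideal.comap_map_eq_self_of_faithfullyFlat, Ideal.mem_span_singleton'] at h3
    obtain ⟨a₀, ha₀⟩ := h3
    refine ⟨a₀, Subtype.ext ?_⟩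
    rw [← ha₀, map_mul] at has
    have hu : IsUnit (algebraMap A (FractionRing A) (s : A)) := IsLocalization.map_units _ s
    exact (hu.mul_left_inj.mp has).symm

end Aux

/-- Let A → A' be faithfully flat with A and A' having finitely many minimal prime ideals, and let Ā, Ā'
be the integral closures of A, A' in their total rings of fractions; if q_{Ā'/A'} is bijective then
q_{Ā/A} is bijective. Here η is a natural transformation from the identity of the category of fields
to an endofunctor F with F(η_K) bijective and η_K purely inseparable for every field K, N_η(A) is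
the product of the F(k(p)) over the primes p of A with diagonal map t_A, and M_η(A) ⊆ N_η(A) is the
subring of elements sent into the range of t_R by every ring map from A to a valuation ring R at
whose fraction field η is bijective; q_A : A → M_η(A) is the corestriction of t_A. For a ring map f
: A → B, (B/A)_η ⊆ B denotes the subring of elements b with t_B(b) in N_η(f)(M_η(A)) (the image in B
of the fibre product of M_η(A) and B over M_η(B)), and q_{B/A} : A → (B/A)_η the corestriction of f. -/
theorem result (η : EtaPt.FieldEndo.{u}) (A A' : Type u) [CommRing A] [CommRing A'] [Algebra A A'] [Module.FaithfullyFlat A A']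
    (hA : (minimalPrimes A).Finite) (hA' : (minimalPrimes A').Finite)
    (h : Function.Bijective (η.qRel (algebraMap A' (integralClosure A' (FractionRing A'))))) :
    Function.Bijective (η.qRel (algebraMap A (integralClosure A (FractionRing A)))) := by
  exact Aux.main η A A' hA hA' h

end Groth.Agent.S13823
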