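import Groth.Statements.S13825
import Mathlib
import Groth.Prelude.Def_W4c1chowmix47Eta
import Groth.Agent.Lib.Helper9.EtaPt8
import Groth.Agent.S13802
-- import your own Groth.Agent.* helpers here

set_option autoImplicit false
universe u
open EtaPt

namespace Groth.Agent.S13825

open EtaPt Groth.Agent.Helper9.EtaPtLib
namespace Aux

lemma minimalPrimes_away_finite {A : Type u} [CommRing A] (hA : (minimalPrimes A).Finite) (f : A) :
    (minimalPrimes (Localization.Away f)).Finite := by
  have h := IsLocalization.minimalPrimes_map (Submonoid.powers f) (Localization.Away f) (⊥ : Ideal A)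
  rw [Ideal.map_bot] at h
  show (⊥ : Ideal (Localization.Away f)).minimalPrimes.Finite
  rw [h]
  refine Set.Finite.preimage (Set.injOn_of_injective ?_) hA
  exact Function.LeftInverse.injective
    (g := Ideal.map (algebraMap A (Localization.Away f)))
    (fun J => IsLocalization.map_under (Submonoid.powers f) (Localization.Away f) J)

/-- an element of a localization of an integrally closed domain that is integral over the base
comes from the base -/
lemma exists_of_isIntegral_of_isLocalization {R S : Type*} [CommRing R] [IsDomain R]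
    [IsIntegrallyClosed R] [CommRing S] [IsDomain S] [Algebra R S] (M : Submonoid R)
    [IsLocalization M S] (s : S) (hs : IsIntegral R s) : ∃ r, algebraMap R S r = s := by
  have hM : M ≤ nonZeroDivisors R := by
    intro x hx
    rw [mem_nonZeroDivisors_iff_ne_zero]
    rintro rfl
    have := IsLocalization.map_units S (⟨0, hx⟩ : M)
    rw [map_zero] at this
    exact not_isUnit_zero this
  let g : S →+* FractionRing R := IsLocalization.lift (M := M) (g := algebraMap R (FractionRing R))
    (fun y => IsLocalization.map_units _ (⟨y, hM y.2⟩ : nonZeroDivisors R))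
  let _ : Algebra S (FractionRing R) := g.toAlgebra
  have : IsScalarTower R S (FractionRing R) :=
    IsScalarTower.of_algebraMap_eq (fun x => (IsLocalization.lift_eq _ x).symm)
  have : IsFractionRing S (FractionRing R) :=
    IsFractionRing.isFractionRing_of_isDomain_of_isLocalization M S (FractionRing R)
  have h1 : IsIntegral R (algebraMap S (FractionRing R) s) := hs.algebraMap
  obtain ⟨r, hr⟩ := IsIntegrallyClosed.isIntegral_iff.mp h1
  refine ⟨r, ?_⟩
  apply IsFractionRing.injective S (FractionRing R)
  rw [← hr, ← IsScalarTower.algebraMap_apply]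


theorem main (η : EtaPt.FieldEndo.{u}) (A : Type u) [CommRing A] (hA : (minimalPrimes A).Finite) (f : A) :
    (∀ y ∈ η.M (Localization.Away f), ∃ x ∈ η.M A, ∃ n : ℕ,
        y * η.t (Localization.Away f) (algebraMap A (Localization.Away f) f) ^ n =
          η.Nmap (algebraMap A (Localization.Away f)) x) ∧
      ∀ x ∈ η.M A, η.Nmap (algebraMap A (Localization.Away f)) x = 0 → ∃ n : ℕ, η.t A f ^ n * x = 0 := by
  constructor
  swap
  · intro x _ hx
    exact ⟨1, by rw [pow_one]; exact away_t_mul_eq_zero η (S := Localization.Away f) f x hx⟩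
  intro y hy
  -- integrality of y over A_f
  have hfin := minimalPrimes_away_finite hA f
  obtain ⟨P, hPm, hP⟩ := Groth.Agent.S13802.result η (Localization.Away f) hfin ⟨y, hy⟩
  have hP' : Polynomial.eval₂ (η.t (Localization.Away f)) y P = 0 := by
    have := congrArg (η.M (Localization.Away f)).subtype hP
    rw [Polynomial.hom_eval₂, map_zero] at this
    exact this
  let _ : Algebra (Localization.Away f) (η.N (Localization.Away f)) := (η.t (Localization.Away f)).toAlgebra
  let _ : Algebra A (η.N (Localization.Away f)) :=
    ((η.t (Localization.Away f)).comp (algebraMap A (Localization.Away f))).toAlgebra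
  have : IsScalarTower A (Localization.Away f) (η.N (Localization.Away f)) :=
    IsScalarTower.of_algebraMap_eq (fun x => rfl)
  have hint : IsIntegral (Localization.Away f) y := ⟨P, hPm, hP'⟩
  obtain ⟨⟨m, k, rfl⟩, P', hP'm, hP'0⟩ :=
    IsIntegral.exists_multiple_integral_of_isLocalization (Submonoid.powers f) y hint
  set Af := Localization.Away f with hAf
  set α := algebraMap A Af with hα
  have hy'eq : ((⟨(fun x => f ^ x) k, ⟨k, rfl⟩⟩ : Submonoid.powers f) • y : η.N Af) =
      η.t Af (α f) ^ k * y := by
    rw [Submonoid.smul_def, Algebra.smul_def]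
    show η.t Af (α (f ^ k)) * y = _
    rw [map_pow, map_pow]
  rw [hy'eq] at hP'0
  have hP'1 : Polynomial.eval₂ ((η.t Af).comp α) (η.t Af (α f) ^ k * y) P' = 0 := hP'0
  clear hP'0 hy'eq
  clear this hint
  have hy'M : η.t Af (α f) ^ k * y ∈ η.M Af :=
    Subring.mul_mem _ (Subring.pow_mem _ (η.t_mem_M Af _) k) hy
  obtain ⟨x, hx, hx0⟩ := away_exists_Nmap_eq η (S := Af) f (η.t Af (α f) ^ k * y * η.t Af (α f))
  refine ⟨x, ?_, k + 1, ?_⟩
  swap
  · rw [hx, pow_succ]; ring
  intro R _ _ _ hR g
  by_cases hgf : g f = 0
  · refine ⟨0, ?_⟩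
    rw [map_zero]
    funext 𝔯
    rw [Nmap_apply' η g x 𝔯 (PrimeSpectrum.comap g 𝔯) rfl, hx0, map_zero]
    · rfl
    · show g f ∈ 𝔯.asIdeal
      rw [hgf]; exact zero_mem _
  · let Rf := Localization.Away (g f)
    have hdom : IsDomain Rf :=
      IsLocalization.isDomain_localization (powers_le_nonZeroDivisors_of_noZeroDivisors hgf)
    have hval : ValuationRing Rf := valuationRing_of_isLocalization (Submonoid.powers (g f))
    have hInV : η.InV Rf := inV_of_isLocalization η (Submonoid.powers (g f)) hR
    let gf : Af →+* Rf := Localization.awayMap g f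
    let β : R →+* Rf := algebraMap R Rf
    have hcomm : gf.comp α = β.comp g := IsLocalization.map_comp _
    have hcommf : gf (α f) = β (g f) := congrArg (fun φ : A →+* Rf => φ f) hcomm
    obtain ⟨r', hr'⟩ := hy'M Rf hInV gf
    have h2 := congrArg (η.Nmap gf) hP'1
    rw [Polynomial.hom_eval₂, map_zero, ← hr'] at h2
    have h3 : (η.Nmap gf).comp ((η.t Af).comp α) = (η.t Rf).comp (β.comp g) := by
      refine RingHom.ext fun a => ?_
      simp only [RingHom.comp_apply]
      rw [FieldEndo.Nmap_t_apply, ← RingHom.comp_apply gf α, hcomm]; rfl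
    rw [h3, ← Polynomial.hom_eval₂] at h2
    have h4 : Polynomial.eval₂ (β.comp g) r' P' = 0 := by
      apply Groth.Agent.S13805.Aux.t_injective_of_isReduced η Rf
      rw [map_zero]; exact h2
    have hint' : IsIntegral R r' :=
      ⟨P'.map g, hP'm.map g, by rw [Polynomial.eval₂_map]; exact h4⟩
    obtain ⟨r, hr⟩ := exists_of_isIntegral_of_isLocalization (Submonoid.powers (g f)) r' hint'
    refine ⟨r * g f, ?_⟩
    have h5 : η.Nmap β (η.Nmap g x - η.t R (r * g f)) = 0 := by
      rw [map_sub, ← Nmap_comp_apply, ← hcomm, Nmap_comp_apply, hx, map_mul, ← hr', ← hr,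
        FieldEndo.Nmap_t_apply, FieldEndo.Nmap_t_apply, hcommf, ← map_mul, ← map_mul]
      exact sub_self _
    funext 𝔯
    by_cases h𝔯 : g f ∈ 𝔯.asIdeal
    · rw [t_apply_eq_zero_of_mem η _ 𝔯 (Ideal.mul_mem_left _ _ h𝔯),
        Nmap_apply' η g x 𝔯 (PrimeSpectrum.comap g 𝔯) rfl, hx0 _ h𝔯, map_zero]
    · have := away_component_eq_zero η (S := Rf) (g f) _ h5 𝔯 h𝔯
      rw [Pi.sub_apply, sub_eq_zero] at this
      exact this.symm

end Aux

/-- For a commutative ring A with finitely many minimal prime ideals and f ∈ A, M_η(A)[1/f] → M_η(A_f)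
is bijective: every element of M_η(A_f) times a power of the image of f is the image of an element
of M_η(A), and an element of M_η(A) with zero image in N_η(A_f) is killed by a power of t_A(f). Here
η is a natural transformation from the identity of the category of fields to an endofunctor F with
F(η_K) bijective and η_K purely inseparable for every field K, N_η(A) is the product of the F(k(p))
over the primes p of A with diagonal map t_A, and M_η(A) ⊆ N_η(A) is the subring of elements sent
into the range of t_R by every ring map from A to a valuation ring R at whose fraction field η is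
bijective; q_A : A → M_η(A) is the corestriction of t_A. -/
theorem result (η : EtaPt.FieldEndo.{u}) (A : Type u) [CommRing A] (hA : (minimalPrimes A).Finite) (f : A) :
    (∀ y ∈ η.M (Localization.Away f), ∃ x ∈ η.M A, ∃ n : ℕ,
        y * η.t (Localization.Away f) (algebraMap A (Localization.Away f) f) ^ n =
          η.Nmap (algebraMap A (Localization.Away f)) x) ∧
      ∀ x ∈ η.M A, η.Nmap (algebraMap A (Localization.Away f)) x = 0 → ∃ n : ℕ, η.t A f ^ n * x = 0 := by
  exact Aux.main η A hA f

end Groth.Agent.S13825
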