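import Groth.Statements.S13826
import Mathlib
import Groth.Prelude.Def_W4c1chowmix47Eta
import Groth.Prelude.Def_HTop2
import Groth.Agent.Lib.Helper9.EtaPt8
import Groth.Agent.Lib.Helper9.UnivHomeo
import Groth.Agent.S13802
import Groth.Agent.S13803
import Groth.Agent.S13806
-- import your own Groth.Agent.* helpers here

set_option autoImplicit false
universe u
open EtaPt

namespace Groth.Agent.S13826

open EtaPt Groth.Agent.Helper9.EtaPtLib Groth.Agent.Helper9.UH
namespace Aux

theorem main (A : Type u) [CommRing A] (hA : (minimalPrimes A).Finite) :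
    HTop.IsRingSN (EtaPt.FieldEndo.ident.{u}.q A) := by
  have hint := Groth.Agent.S13802.result EtaPt.FieldEndo.ident.{u} A hA
  obtain ⟨hbij, hfac⟩ := Groth.Agent.S13803.result EtaPt.FieldEndo.ident.{u} A hA
  have hres : ∀ Q : PrimeSpectrum (EtaPt.FieldEndo.ident.{u}.M A), Function.Bijective
      (Ideal.ResidueField.map (PrimeSpectrum.comap (EtaPt.FieldEndo.ident.{u}.q A) Q).asIdeal
        Q.asIdeal (EtaPt.FieldEndo.ident.{u}.q A) rfl) := by
    intro Q
    obtain ⟨φ, hφ⟩ := hfac Q
    refine ⟨RingHom.injective _, fun z => ⟨φ z, ?_⟩⟩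
    apply φ.injective
    exact congrArg (fun g => g (φ z)) hφ
  refine ⟨⟨isUnivHomeo_specMap_of _ hint hbij hres, (residueFieldsIso_iff _).mpr hres⟩, ?_⟩
  intro C _ ψ hψ1 hψ2
  obtain ⟨hψint, hψbij⟩ := of_isUnivHomeo_specMap ψ hψ1
  have hψres := (residueFieldsIso_iff ψ).mp hψ2
  have hN : Function.Bijective (EtaPt.FieldEndo.ident.{u}.Nmap ψ) :=
    Nmap_bijective_of EtaPt.FieldEndo.ident.{u} ψ hψbij (fun Q => (hψres Q).2)
  exact Groth.Agent.S13806.result EtaPt.FieldEndo.ident.{u} A hA C ψ hψint hN

end Aux

/-- For the identity endofunctor and a commutative ring A with finitely many minimal prime ideals, q_A :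
A → M(A) is a seminormalization of A: Spec(q_A) is a universal homeomorphism with trivial residue
field extensions, final among ring maps out of A with these properties. Here M(A) ⊆ ∏_p k(p) is the
subring of families whose image in ∏_q k(q), for every ring map from A to a valuation ring R, is the
diagonal image of an element of R. -/
theorem result (A : Type u) [CommRing A] (hA : (minimalPrimes A).Finite) :
    HTop.IsRingSN (EtaPt.FieldEndo.ident.{u}.q A) := by
  exact Aux.main A hA

end Groth.Agent.S13826
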