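import Groth.Statements.S13827
import Mathlib
import Groth.Prelude.Def_W4c1chowmix47Eta
import Groth.Prelude.Def_EGA4b
import Groth.Agent.Lib.Helper9.EtaPt8
import Groth.Agent.S13809
-- import your own Groth.Agent.* helpers here

set_option autoImplicit false
universe u
open EtaPt

namespace Groth.Agent.S13827

open EtaPt Groth.Agent.Helper9.EtaPtLib
namespace Aux

/-- converse of `inV_bot` -/
lemma inV_of_bot (η : EtaPt.FieldEndo.{u}) (R : Type u) [CommRing R] [IsDomain R]
    (hR : Function.Bijective (η.eta (⊥ : Ideal R).ResidueField)) : η.InV R := by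
  let e := FractionRing.algEquiv R (⊥ : Ideal R).ResidueField
  exact eta_bijective_of_bijective η (e.symm : (⊥ : Ideal R).ResidueField →+* FractionRing R)
    e.symm.bijective hR

lemma inV_localization (η : EtaPt.FieldEndo.{u}) {A D : Type u} [CommRing A] [CommRing D] [Algebra A D]
    (𝔪 : Ideal A) [𝔪.IsPrime] [IsLocalization.AtPrime D 𝔪] [IsDomain D]
    (hη : ∀ p : PrimeSpectrum A, p.asIdeal ∈ minimalPrimes A →
      Function.Bijective (η.eta p.asIdeal.ResidueField)) : η.InV D := by
  apply inV_of_bot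
  have hmin : Ideal.comap (algebraMap A D) ⊥ ∈ minimalPrimes A := by
    have h := IsLocalization.minimalPrimes_map 𝔪.primeCompl D (⊥ : Ideal A)
    rw [Ideal.map_bot] at h
    have h2 : (⊥ : Ideal D) ∈ (⊥ : Ideal D).minimalPrimes := by
      rw [Ideal.minimalPrimes_eq_subsingleton_self]
      exact Set.mem_singleton _
    rw [h] at h2
    exact h2
  have hprime : (Ideal.comap (algebraMap A D) (⊥ : Ideal D)).IsPrime := hmin.1.1
  have hb := hη ⟨Ideal.comap (algebraMap A D) ⊥, hprime⟩ hmin
  exact eta_bijective_of_bijective η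
    (Ideal.ResidueField.map (Ideal.comap (algebraMap A D) ⊥) (⊥ : Ideal D) (algebraMap A D) rfl)
    ((RingHom.surjectiveOnStalks_of_isLocalization 𝔪.primeCompl D).residueFieldMap_bijective _ _ rfl)
    hb


/-- an element of `M A` vanishing on the primes contained in `𝔪` is killed by some `t s`, `s ∉ 𝔪` -/
lemma exists_kill (η : EtaPt.FieldEndo.{u}) {A : Type u} [CommRing A] (hA : (minimalPrimes A).Finite)
    (𝔪 : Ideal A) [𝔪.IsPrime] (u : η.N A) (hu : u ∈ η.M A)
    (h0 : ∀ P : PrimeSpectrum A, P.asIdeal ≤ 𝔪 → u P = 0) :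
    ∃ s, s ∉ 𝔪 ∧ η.t A s * u = 0 := by
  classical
  have hex : ∀ 𝔮 : Ideal A, ∃ c, ¬ 𝔮 ≤ 𝔪 → c ∈ 𝔮 ∧ c ∉ 𝔪 := by
    intro 𝔮
    by_cases h : 𝔮 ≤ 𝔪
    · exact ⟨0, fun h' => (h' h).elim⟩
    · obtain ⟨c, hc, hc'⟩ := SetLike.not_le_iff_exists.mp h
      exact ⟨c, fun _ => ⟨hc, hc'⟩⟩
  choose c hc using hex
  let T := hA.toFinset.filter (fun 𝔮 => ¬ 𝔮 ≤ 𝔪)
  refine ⟨∏ 𝔮 ∈ T, c 𝔮, ?_, ?_⟩
  · intro hmem
    obtain ⟨𝔮, h𝔮, h𝔮'⟩ := (Ideal.IsPrime.prod_mem_iff (hp := inferInstance)).mp hmem
    exact (hc 𝔮 (Finset.mem_filter.mp h𝔮).2).2 h𝔮'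
  · apply eq_zero_of_minimal η _ (Subring.mul_mem _ (η.t_mem_M A _) hu)
    intro P hP
    rw [Pi.mul_apply]
    by_cases hle : P.asIdeal ≤ 𝔪
    · rw [h0 P hle, mul_zero]
    · have hPT : P.asIdeal ∈ T :=
        Finset.mem_filter.mpr ⟨(Set.Finite.mem_toFinset hA).mpr hP, hle⟩
      have : ∏ 𝔮 ∈ T, c 𝔮 ∈ P.asIdeal := by
        rw [← Finset.mul_prod_erase T c hPT]
        exact Ideal.mul_mem_right _ _ (hc _ hle).1
      rw [t_apply_eq_zero_of_mem η _ P this, zero_mul]

lemma local_step (η : EtaPt.FieldEndo.{u}) {A D : Type u} [CommRing A] [CommRing D] [Algebra A D]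
    (𝔪 : Ideal A) [𝔪.IsPrime] [IsLocalization.AtPrime D 𝔪] [IsDomain D] [IsIntegrallyClosed D]
    (hA : (minimalPrimes A).Finite)
    (hη : ∀ p : PrimeSpectrum A, p.asIdeal ∈ minimalPrimes A →
      Function.Bijective (η.eta p.asIdeal.ResidueField))
    (x : η.N A) (hx : x ∈ η.M A) : ∃ s, s ∉ 𝔪 ∧ ∃ a, η.t A s * x = η.t A a := by
  have hInV : η.InV D := inV_localization η 𝔪 hη
  obtain ⟨d, hd⟩ := (Groth.Agent.S13809.result η D hInV).2
    ⟨η.Nmap (algebraMap A D) x, Nmap_mem_M η _ hx⟩
  have hd' : η.t D d = η.Nmap (algebraMap A D) x := congrArg Subtype.val hd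
  obtain ⟨⟨a, s⟩, has⟩ := IsLocalization.surj 𝔪.primeCompl d
  simp only at has
  have huM : η.t A s * x - η.t A a ∈ η.M A :=
    Subring.sub_mem _ (Subring.mul_mem _ (η.t_mem_M A _) hx) (η.t_mem_M A _)
  have hu0 : η.Nmap (algebraMap A D) (η.t A s * x - η.t A a) = 0 := by
    rw [map_sub, map_mul, FieldEndo.Nmap_t_apply, FieldEndo.Nmap_t_apply, ← hd', ← map_mul,
      mul_comm, has, sub_self]
  obtain ⟨s', hs', hkill⟩ := exists_kill η hA 𝔪 _ huM (by
    intro P hP
    have hPr : P ∈ Set.range (PrimeSpectrum.comap (algebraMap A D)) := by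
      rw [PrimeSpectrum.localization_comap_range D 𝔪.primeCompl]
      show Disjoint _ _
      rw [Set.disjoint_left]
      intro y hy hyP
      exact hy (hP hyP)
    obtain ⟨Q, rfl⟩ := hPr
    have h1 := congrFun hu0 Q
    rw [Nmap_apply' η _ _ Q (PrimeSpectrum.comap (algebraMap A D) Q) rfl] at h1
    exact (map_eq_zero_iff _ (RingHom.injective _)).mp h1)
  refine ⟨s' * s, ?_, s' * a, ?_⟩
  · intro hmem
    rcases Ideal.IsPrime.mem_or_mem inferInstance hmem with h | h
    · exact hs' h
    · exact s.2 h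
  · rw [mul_sub, sub_eq_zero] at hkill
    rw [map_mul, map_mul, mul_assoc, hkill]

theorem main (η : EtaPt.FieldEndo.{u}) (A : Type u) [CommRing A] (hn : EGA4.IsNormalRing A)
    (hA : (minimalPrimes A).Finite)
    (hη : ∀ p : PrimeSpectrum A, p.asIdeal ∈ minimalPrimes A → Function.Bijective (η.eta p.asIdeal.ResidueField)) :
    Function.Bijective (η.q A) := by
  have hred : IsReduced A := by
    apply isReduced_ofLocalizationMaximal
    intro J hJ
    have := hJ.isPrime
    have := (hn J).1
    infer_instance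
  constructor
  · intro a b hab
    exact Groth.Agent.S13805.Aux.t_injective_of_isReduced η A (congrArg Subtype.val hab)
  · rintro ⟨x, hx⟩
    let I : Ideal A :=
      { carrier := {s | ∃ a, η.t A s * x = η.t A a}
        zero_mem' := ⟨0, by rw [map_zero, zero_mul]⟩
        add_mem' := by
          rintro s s' ⟨a, ha⟩ ⟨a', ha'⟩
          exact ⟨a + a', by rw [map_add, add_mul, ha, ha', map_add]⟩
        smul_mem' := by
          rintro r s ⟨a, ha⟩
          exact ⟨r * a, by rw [smul_eq_mul, map_mul, mul_assoc, ha, map_mul]⟩ }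
    have hI : I = ⊤ := by
      by_contra hne
      obtain ⟨𝔪, hmax, hle⟩ := Ideal.exists_le_maximal I hne
      have := hmax.isPrime
      have hdom := (hn 𝔪).1
      have hic := (hn 𝔪).2
      obtain ⟨s, hs, a, ha⟩ := local_step η (D := Localization.AtPrime 𝔪) 𝔪 hA hη x hx
      exact hs (hle ⟨a, ha⟩)
    have h1 : (1 : A) ∈ I := by rw [hI]; exact Submodule.mem_top
    obtain ⟨a, ha⟩ := h1
    rw [map_one, one_mul] at ha
    exact ⟨a, Subtype.ext ha.symm⟩

end Aux

/-- For a normal ring A (every localization at a prime is an integrally closed domain) with finitely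
many minimal prime ideals such that η is bijective at the residue field of every minimal prime, q_A
: A → M_η(A) is bijective. Here η is a natural transformation from the identity of the category of
fields to an endofunctor F with F(η_K) bijective and η_K purely inseparable for every field K,
N_η(A) is the product of the F(k(p)) over the primes p of A with diagonal map t_A, and M_η(A) ⊆
N_η(A) is the subring of elements sent into the range of t_R by every ring map from A to a valuation
ring R at whose fraction field η is bijective; q_A : A → M_η(A) is the corestriction of t_A. -/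
theorem result (η : EtaPt.FieldEndo.{u}) (A : Type u) [CommRing A] (hn : EGA4.IsNormalRing A)
    (hA : (minimalPrimes A).Finite)
    (hη : ∀ p : PrimeSpectrum A, p.asIdeal ∈ minimalPrimes A → Function.Bijective (η.eta p.asIdeal.ResidueField)) :
    Function.Bijective (η.q A) := by
  exact Aux.main η A hn hA hη

end Groth.Agent.S13827
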