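import Groth.Statements.S13828
import Mathlib
import Groth.Prelude.Def_W4c1chowmix47Eta
import Groth.Agent.Lib.Helper9.EtaPt7
import Groth.Agent.S13821
-- import your own Groth.Agent.* helpers here

set_option autoImplicit false
universe u
open EtaPt

namespace Groth.Agent.S13828

open EtaPt Groth.Agent.Helper9.EtaPtLib
namespace Aux

open Groth.Agent.S13821.Aux in
theorem main (η : EtaPt.FieldEndo.{u}) {A A' B B' : Type u} [CommRing A] [CommRing A'] [CommRing B] [CommRing B']
    (j : A →+* B) (f : A →+* A') (g : B →+* B') (j' : A' →+* B') (hcomm : j'.comp f = g.comp j)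
    (hcart : ∀ (a' : A') (b : B), j' a' = g b → ∃! a : A, f a = a' ∧ j a = b)
    (hA : (minimalPrimes A).Finite) (hA' : (minimalPrimes A').Finite)
    (hj : Function.Surjective (PrimeSpectrum.comap j)) (hj' : Function.Surjective (PrimeSpectrum.comap j'))
    (h : Function.Bijective (η.qRel j')) : Function.Bijective (η.qRel j) := by
  obtain ⟨hi, hsj⟩ := h
  rw [qRel_injective_iff] at hi
  rw [qRel_surjective_iff] at hsj
  refine ⟨(qRel_injective_iff η _).mpr ?_, (qRel_surjective_iff η _).mpr ?_⟩
  · rw [injective_iff_map_eq_zero]
    intro a ha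
    have h1 : j' (f a) = g (j a) := congrArg (fun φ : A →+* B' => φ a) hcomm
    rw [ha, map_zero] at h1
    have h2 : f a = 0 := (injective_iff_map_eq_zero _).mp hi _ h1
    obtain ⟨a₀, -, huniq⟩ := hcart 0 0 (by rw [map_zero, map_zero])
    rw [huniq a ⟨h2, ha⟩, huniq 0 ⟨map_zero _, map_zero _⟩]
  · rintro b ⟨x, hxM, hx⟩
    obtain ⟨a', ha'⟩ := hsj (g b) ⟨η.Nmap f x, Nmap_mem_M η f hxM, by
      rw [← Nmap_comp_apply, hcomm, Nmap_comp_apply, hx, FieldEndo.Nmap_t_apply]⟩
    obtain ⟨a, ⟨-, hab⟩, -⟩ := hcart a' b ha'
    exact ⟨a, hab⟩

end Aux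

/-- Let a commutative square of rings j : A → B, f : A → A', g : B → B', j' : A' → B' be cartesian (A is
the fibre product of A' and B over B'), with A and A' having finitely many minimal prime ideals and
Spec(j), Spec(j') surjective. If q_{B'/A'} is bijective then q_{B/A} is bijective. Here η is a
natural transformation from the identity of the category of fields to an endofunctor F with F(η_K)
bijective and η_K purely inseparable for every field K, N_η(A) is the product of the F(k(p)) over
the primes p of A with diagonal map t_A, and M_η(A) ⊆ N_η(A) is the subring of elements sent into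
the range of t_R by every ring map from A to a valuation ring R at whose fraction field η is
bijective; q_A : A → M_η(A) is the corestriction of t_A. For a ring map f : A → B, (B/A)_η ⊆ B
denotes the subring of elements b with t_B(b) in N_η(f)(M_η(A)) (the image in B of the fibre product
of M_η(A) and B over M_η(B)), and q_{B/A} : A → (B/A)_η the corestriction of f. -/
theorem result (η : EtaPt.FieldEndo.{u}) {A A' B B' : Type u} [CommRing A] [CommRing A'] [CommRing B] [CommRing B']
    (j : A →+* B) (f : A →+* A') (g : B →+* B') (j' : A' →+* B') (hcomm : j'.comp f = g.comp j)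
    (hcart : ∀ (a' : A') (b : B), j' a' = g b → ∃! a : A, f a = a' ∧ j a = b)
    (hA : (minimalPrimes A).Finite) (hA' : (minimalPrimes A').Finite)
    (hj : Function.Surjective (PrimeSpectrum.comap j)) (hj' : Function.Surjective (PrimeSpectrum.comap j'))
    (h : Function.Bijective (η.qRel j')) : Function.Bijective (η.qRel j) := by
  exact Aux.main η j f g j' hcomm hcart hA hA' hj hj' h

end Groth.Agent.S13828
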