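import Groth.Statements.S13829
import Mathlib
import Groth.Prelude.Def_W4c1chowmix47Eta
import Groth.Agent.Lib.Helper9.EtaPt8
import Groth.Agent.S13825
-- import your own Groth.Agent.* helpers here

set_option autoImplicit false
universe u
open EtaPt

namespace Groth.Agent.S13829

open EtaPt Groth.Agent.Helper9.EtaPtLib
namespace Aux

theorem key (η : EtaPt.FieldEndo.{u}) {A B Af Bf : Type u} [CommRing A] [CommRing B] [CommRing Af]
    [CommRing Bf] [Algebra A Af] [Algebra B Bf] (φ : A →+* B) (f : A) [IsLocalization.Away f Af]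
    [IsLocalization.Away (φ f) Bf] (φf : Af →+* Bf)
    (hcomm : φf.comp (algebraMap A Af) = (algebraMap B Bf).comp φ)
    (hM : ∀ y ∈ η.M Af, ∃ x ∈ η.M A, ∃ n : ℕ,
      y * η.t Af (algebraMap A Af f) ^ n = η.Nmap (algebraMap A Af) x) :
    (η.rel φ).map (algebraMap B Bf) ≤ η.rel φf ∧
      ∀ y ∈ η.rel φf, ∃ x ∈ η.rel φ, ∃ n : ℕ,
        y * algebraMap B Bf (φ f) ^ n = algebraMap B Bf x := by
  have hcommf : φf (algebraMap A Af f) = algebraMap B Bf (φ f) :=
    congrArg (fun ψ : A →+* Bf => ψ f) hcomm
  constructor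
  · rintro _ ⟨b, ⟨x, hxM, hx⟩, rfl⟩
    refine ⟨η.Nmap (algebraMap A Af) x, Nmap_mem_M η _ hxM, ?_⟩
    rw [← Nmap_comp_apply, hcomm, Nmap_comp_apply, hx, FieldEndo.Nmap_t_apply]
  · rintro y ⟨x', hx'M, hx'⟩
    obtain ⟨x, hxM, n, hxn⟩ := hM x' hx'M
    obtain ⟨⟨b, ⟨_, m, rfl⟩⟩, hb⟩ := IsLocalization.surj (Submonoid.powers (φ f)) y
    simp only at hb
    have hu : η.Nmap (algebraMap B Bf)
        (η.t B b * η.t B (φ f) ^ n - η.Nmap φ x * η.t B (φ f) ^ m) = 0 := by
      have e1 : η.Nmap (algebraMap B Bf) (η.Nmap φ x) =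
          η.t Bf y * η.t Bf (algebraMap B Bf (φ f)) ^ n := by
        rw [← Nmap_comp_apply, ← hcomm, Nmap_comp_apply, ← hxn, map_mul, map_pow, hx',
          FieldEndo.Nmap_t_apply, hcommf]
      have e2 : η.t Bf (algebraMap B Bf b) = η.t Bf y * η.t Bf (algebraMap B Bf (φ f)) ^ m := by
        rw [← hb, map_mul, map_pow, map_pow]
      rw [map_sub, map_mul, map_mul, map_pow, map_pow, FieldEndo.Nmap_t_apply,
        FieldEndo.Nmap_t_apply, e1, e2]
      ring
    have hu' := away_t_mul_eq_zero η (S := Bf) (φ f) _ hu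
    refine ⟨b * φ f ^ (n + 1), ⟨x * η.t A f ^ (m + 1), ?_, ?_⟩, m + (n + 1), ?_⟩
    · exact Subring.mul_mem _ hxM (Subring.pow_mem _ (η.t_mem_M A f) _)
    · rw [map_mul, map_pow, FieldEndo.Nmap_t_apply, map_mul, map_pow]
      have : η.t B b * η.t B (φ f) ^ (n + 1) - η.Nmap φ x * η.t B (φ f) ^ (m + 1) =
          η.t B (φ f) * (η.t B b * η.t B (φ f) ^ n - η.Nmap φ x * η.t B (φ f) ^ m) := by ring
      rw [hu', sub_eq_zero] at this
      exact this.symm
    · rw [pow_add, ← mul_assoc, ← map_pow (algebraMap B Bf), hb, map_mul, map_pow]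

theorem main (η : EtaPt.FieldEndo.{u}) {A B : Type u} [CommRing A] [CommRing B] (hA : (minimalPrimes A).Finite)
    (φ : A →+* B) (hs : Function.Surjective (PrimeSpectrum.comap φ)) (f : A) :
    (η.rel φ).map (algebraMap B (Localization.Away (φ f))) ≤ η.rel (Localization.awayMap φ f) ∧
      ∀ y ∈ η.rel (Localization.awayMap φ f), ∃ x ∈ η.rel φ, ∃ n : ℕ,
        y * algebraMap B (Localization.Away (φ f)) (φ f) ^ n = algebraMap B (Localization.Away (φ f)) x :=
  key η φ f (Localization.awayMap φ f) (IsLocalization.map_comp _)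
    (Groth.Agent.S13825.result η A hA f).1

end Aux

/-- For A with finitely many minimal prime ideals, f ∈ A and a ring map φ : A → B with Spec(φ)
surjective, the localization of (B/A)_η at f is (B_f/A_f)_η: the image of (B/A)_η in B_f lies in
(B_f/A_f)_η, and every element of (B_f/A_f)_η times a power of the image of f is the image of an
element of (B/A)_η. Here η is a natural transformation from the identity of the category of fields
to an endofunctor F with F(η_K) bijective and η_K purely inseparable for every field K, N_η(A) is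
the product of the F(k(p)) over the primes p of A with diagonal map t_A, and M_η(A) ⊆ N_η(A) is the
subring of elements sent into the range of t_R by every ring map from A to a valuation ring R at
whose fraction field η is bijective; q_A : A → M_η(A) is the corestriction of t_A. For a ring map f
: A → B, (B/A)_η ⊆ B denotes the subring of elements b with t_B(b) in N_η(f)(M_η(A)) (the image in B
of the fibre product of M_η(A) and B over M_η(B)), and q_{B/A} : A → (B/A)_η the corestriction of f. -/
theorem result (η : EtaPt.FieldEndo.{u}) {A B : Type u} [CommRing A] [CommRing B] (hA : (minimalPrimes A).Finite)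
    (φ : A →+* B) (hs : Function.Surjective (PrimeSpectrum.comap φ)) (f : A) :
    (η.rel φ).map (algebraMap B (Localization.Away (φ f))) ≤ η.rel (Localization.awayMap φ f) ∧
      ∀ y ∈ η.rel (Localization.awayMap φ f), ∃ x ∈ η.rel φ, ∃ n : ℕ,
        y * algebraMap B (Localization.Away (φ f)) (φ f) ^ n = algebraMap B (Localization.Away (φ f)) x := by
  exact Aux.main η hA φ hs f

end Groth.Agent.S13829
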