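import Groth.Statements.S13830
import Mathlib
import Groth.Prelude.Def_W4c1chowmix47Eta
import Groth.Prelude.Def_HTop2
import Groth.Agent.Lib.Helper9.EtaPt8
import Groth.Agent.Lib.Helper9.UnivHomeo
import Groth.Agent.S13817
import Groth.Agent.S13818
import Groth.Agent.S13819
-- import your own Groth.Agent.* helpers here

set_option autoImplicit false
universe u
open AlgebraicGeometry
open EtaPt

namespace Groth.Agent.S13830

open EtaPt Groth.Agent.Helper9.EtaPtLib Groth.Agent.Helper9.UH
open AlgebraicGeometry
namespace Aux

theorem main (A B : Type u) [CommRing A] [CommRing B] [Algebra A B] (hA : (minimalPrimes A).Finite)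
    (hs : Function.Surjective (PrimeSpectrum.comap (algebraMap A B))) :
    (FlatMor.IsUnivHomeo (Spec.map (CommRingCat.ofHom (EtaPt.FieldEndo.ident.{u}.qRel (algebraMap A B)))) ∧
      HTop.ResidueFieldsIso (Spec.map (CommRingCat.ofHom (EtaPt.FieldEndo.ident.{u}.qRel (algebraMap A B))))) ∧
    ∀ C : Subalgebra A B,
      FlatMor.IsUnivHomeo (Spec.map (CommRingCat.ofHom (algebraMap A C))) →
      HTop.ResidueFieldsIso (Spec.map (CommRingCat.ofHom (algebraMap A C))) →
      C.toSubring ≤ EtaPt.FieldEndo.ident.{u}.rel (algebraMap A B) := by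
  obtain ⟨hint, hbij⟩ := Groth.Agent.S13817.result EtaPt.FieldEndo.ident.{u} hA (algebraMap A B) hs
  obtain ⟨hfac, -⟩ := Groth.Agent.S13818.result EtaPt.FieldEndo.ident.{u} hA (algebraMap A B) hs
  have hres : ∀ Q : PrimeSpectrum (EtaPt.FieldEndo.ident.{u}.rel (algebraMap A B)), Function.Bijective
      (Ideal.ResidueField.map
        (PrimeSpectrum.comap (EtaPt.FieldEndo.ident.{u}.qRel (algebraMap A B)) Q).asIdeal
        Q.asIdeal (EtaPt.FieldEndo.ident.{u}.qRel (algebraMap A B)) rfl) := by
    intro Q
    obtain ⟨φ, hφ⟩ := hfac Q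
    refine ⟨RingHom.injective _, fun z => ⟨φ z, ?_⟩⟩
    apply φ.injective
    exact congrArg (fun g => g (φ z)) hφ
  refine ⟨⟨isUnivHomeo_specMap_of _ hint hbij hres, (residueFieldsIso_iff _).mpr hres⟩, ?_⟩
  intro C h1 h2
  obtain ⟨hψint, hψbij⟩ := of_isUnivHomeo_specMap (algebraMap A C) h1
  have hψres := (residueFieldsIso_iff (algebraMap A C)).mp h2
  have hN : Function.Bijective (EtaPt.FieldEndo.ident.{u}.Nmap (algebraMap A C)) :=
    Nmap_bijective_of EtaPt.FieldEndo.ident.{u} (algebraMap A C) hψbij (fun Q => (hψres Q).2)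
  have hcomp : (C.val.toRingHom).comp (algebraMap A C) = algebraMap A B := by
    refine RingHom.ext fun a => ?_
    rfl
  have hle := Groth.Agent.S13819.result EtaPt.FieldEndo.ident.{u} hA (algebraMap A C)
    C.val.toRingHom (by rw [hcomp]; exact hs) hψint hN
  rw [hcomp] at hle
  intro c hc
  exact hle ⟨⟨c, hc⟩, rfl⟩

end Aux

/-- For the identity endofunctor, a commutative ring A with finitely many minimal prime ideals and an
A-algebra B with Spec B → Spec A surjective, the subring (B/A) ⊆ B (elements b whose residue classes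
(b mod q)_q come from a family in M(A) ⊆ ∏_p k(p), M(A) being the families that come from an element
of R after any base change to a valuation ring R) is the seminormalization of A in B: Spec (B/A) →
Spec A is a universal homeomorphism with trivial residue field extensions, and every A-subalgebra C
of B with these two properties is contained in (B/A). -/
theorem result (A B : Type u) [CommRing A] [CommRing B] [Algebra A B] (hA : (minimalPrimes A).Finite)
    (hs : Function.Surjective (PrimeSpectrum.comap (algebraMap A B))) :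
    (FlatMor.IsUnivHomeo (Spec.map (CommRingCat.ofHom (EtaPt.FieldEndo.ident.{u}.qRel (algebraMap A B)))) ∧
      HTop.ResidueFieldsIso (Spec.map (CommRingCat.ofHom (EtaPt.FieldEndo.ident.{u}.qRel (algebraMap A B))))) ∧
    ∀ C : Subalgebra A B,
      FlatMor.IsUnivHomeo (Spec.map (CommRingCat.ofHom (algebraMap A C))) →
      HTop.ResidueFieldsIso (Spec.map (CommRingCat.ofHom (algebraMap A C))) →
      C.toSubring ≤ EtaPt.FieldEndo.ident.{u}.rel (algebraMap A B) := by
  exact Aux.main A B hA hs

end Groth.Agent.S13830
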