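import Groth.Statements.S13838
import Mathlib
import Groth.Prelude.Def_Flat
import Groth.Prelude.Def_HTop2
import Groth.Agent.Lib.Helper9.EtaPt
import Groth.Agent.Lib.Helper9.UnivHomeo2
-- import your own Groth.Agent.* helpers here

set_option autoImplicit false
universe u
open AlgebraicGeometry
open HTop

namespace Groth.Agent.S13838

open Groth.Agent.Helper9.EtaPtLib Groth.Agent.Helper9.UH
open AlgebraicGeometry
namespace Aux

theorem main (A B : Type u) [CommRing A] [CommRing B] [Algebra A B] (hinj : Function.Injective (algebraMap A B))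
    [Algebra.IsIntegral A B] (hA : (minimalPrimes A).Finite) (hB : (minimalPrimes B).Finite)
    (hpi : ∀ p : PrimeSpectrum A, ∃ q : PrimeSpectrum B, ∃ hq : p.asIdeal = Ideal.comap (algebraMap A B) q.asIdeal,
      ∀ x : q.asIdeal.ResidueField,
        (∃ n : ℕ, x ^ ringExpChar p.asIdeal.ResidueField ^ n ∈
            Set.range (Ideal.ResidueField.map p.asIdeal q.asIdeal (algebraMap A B) hq)) →
        x ∈ Set.range (Ideal.ResidueField.map p.asIdeal q.asIdeal (algebraMap A B) hq)) :
    ∀ C : Subalgebra A B, FlatMor.IsUnivHomeo (Spec.map (CommRingCat.ofHom (algebraMap A C))) →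
      HTop.ResidueFieldsIso (Spec.map (CommRingCat.ofHom (algebraMap A C))) := by
  intro C hC
  rw [residueFieldsIso_iff]
  intro P'
  obtain ⟨q, hq, hroot⟩ := hpi (PrimeSpectrum.comap (algebraMap A C) P')
  obtain ⟨-, hbij⟩ := of_isUnivHomeo_specMap _ hC
  have hcomp : (C.val.toRingHom).comp (algebraMap A C) = algebraMap A B := by
    refine RingHom.ext fun a => ?_
    rfl
  have hP' : PrimeSpectrum.comap C.val.toRingHom q = P' := by
    apply hbij.1
    apply PrimeSpectrum.ext
    show Ideal.comap (algebraMap A C) (Ideal.comap C.val.toRingHom q.asIdeal) = _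
    rw [Ideal.comap_comap, hcomp]
    exact hq.symm
  have hP'' : P'.asIdeal = Ideal.comap C.val.toRingHom q.asIdeal := by
    rw [← hP']; rfl
  refine ⟨RingHom.injective _, fun x => ?_⟩
  obtain ⟨n, z, hz⟩ := resmap_pow_mem_range _ (universallyInjective_of_isUnivHomeo _ hC) P' x
  have hfun := resmap_comp (algebraMap A C) C.val.toRingHom
    (I := (PrimeSpectrum.comap (algebraMap A C) P').asIdeal) (J := P'.asIdeal) (K := q.asIdeal)
    rfl hP'' (by rw [hcomp]; exact hq)
  have hfun' : Ideal.ResidueField.map (PrimeSpectrum.comap (algebraMap A C) P').asIdeal q.asIdeal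
      (algebraMap A B) hq =
      (Ideal.ResidueField.map P'.asIdeal q.asIdeal C.val.toRingHom hP'').comp
        (Ideal.ResidueField.map (PrimeSpectrum.comap (algebraMap A C) P').asIdeal P'.asIdeal
          (algebraMap A C) rfl) := by
    rw [← hfun]
    congr 1
  obtain ⟨z', hz'⟩ := hroot (Ideal.ResidueField.map P'.asIdeal q.asIdeal C.val.toRingHom hP'' x)
    ⟨n, z, by rw [hfun', RingHom.comp_apply, hz, map_pow]⟩
  refine ⟨z', ?_⟩
  apply (Ideal.ResidueField.map P'.asIdeal q.asIdeal C.val.toRingHom hP'').injective
  rw [← hz', hfun', RingHom.comp_apply]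

end Aux

/-- Let A ⊆ B be an integral ring extension where A and B have finitely many minimal prime ideals, such
that every prime p of A has a prime q of B above it for which k(p) is closed under extracting
p-power roots inside k(q) (the purely inseparable closure of k(p) in k(q) is k(p)); then the semi-
and weak normalizations of A in B coincide: every A-subalgebra C of B with Spec C → Spec A a
universal homeomorphism already induces isomorphisms on residue fields. -/
theorem result (A B : Type u) [CommRing A] [CommRing B] [Algebra A B] (hinj : Function.Injective (algebraMap A B))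
    [Algebra.IsIntegral A B] (hA : (minimalPrimes A).Finite) (hB : (minimalPrimes B).Finite)
    (hpi : ∀ p : PrimeSpectrum A, ∃ q : PrimeSpectrum B, ∃ hq : p.asIdeal = Ideal.comap (algebraMap A B) q.asIdeal,
      ∀ x : q.asIdeal.ResidueField,
        (∃ n : ℕ, x ^ ringExpChar p.asIdeal.ResidueField ^ n ∈
            Set.range (Ideal.ResidueField.map p.asIdeal q.asIdeal (algebraMap A B) hq)) →
        x ∈ Set.range (Ideal.ResidueField.map p.asIdeal q.asIdeal (algebraMap A B) hq)) :
    ∀ C : Subalgebra A B, FlatMor.IsUnivHomeo (Spec.map (CommRingCat.ofHom (algebraMap A C))) →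
      HTop.ResidueFieldsIso (Spec.map (CommRingCat.ofHom (algebraMap A C))) := by
  exact Aux.main A B hinj hA hB hpi

end Groth.Agent.S13838
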