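import Groth.Statements.S13840
import Mathlib
import Groth.Prelude.Def_GSzCSA
import Groth.Agent.Lib.Lead.CSA25
import Groth.Agent.S7746

set_option autoImplicit false
universe u v
open scoped TensorProduct
open Brauer

namespace Groth.Agent.S13840

section
open scoped TensorProduct
open Groth.Agent.Lead.CSA Module
open Groth.Agent.Helper6.TPow

theorem fwd (κ : Type u) [Field κ] (L : Type u) [Field L] [Algebra κ L]
    (A : Type v) [Ring A] [Algebra κ A] [Algebra.IsCentral κ A] [IsSimpleRing A]
    [FiniteDimensional κ A] (d : ℕ) (h : CSAGal.IsIndex κ A d) :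
    ∃ d' : ℕ, CSAGal.IsIndex L (L ⊗[κ] A) d' ∧ d' ∣ d := by
  obtain ⟨hd, m, D, _, _, hm, hD, ⟨e⟩⟩ := h
  have : NeZero m := ⟨hm.ne'⟩
  have hfin : FiniteDimensional κ D := Module.finite_of_finrank_pos (by rw [hD]; positivity)
  have hcen : Algebra.IsCentral κ D := isCentral_of_matrix_equiv' e
  have : Algebra.IsCentral L (L ⊗[κ] D) := Groth.Agent.Helper8.isCentral_baseChange κ L D
  have : IsSimpleRing (L ⊗[κ] D) := Groth.Agent.Helper8.isSimpleRing_baseChange κ L D
  obtain ⟨d', hd', q, D', _, _, hq, hD', ⟨f⟩⟩ := exists_isIndex L (L ⊗[κ] D)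
  refine ⟨d', ⟨hd', m * q, D', inferInstance, inferInstance, Nat.mul_pos hm hq, hD', ⟨?_⟩⟩, ?_⟩
  · exact ((((Algebra.TensorProduct.congr (AlgEquiv.refl (R := L) (A₁ := L)) e).trans
      (tensorMatrix' κ L D m)).trans (f.mapMatrix (m := Fin m))).trans
      (Matrix.compAlgEquiv (Fin m) (Fin q) D' L)).trans
      (Matrix.reindexAlgEquiv L D' finProdFinEquiv)
  · have h1 : finrank L (L ⊗[κ] D) = finrank κ D := Module.finrank_baseChange
    have h2 : finrank L (L ⊗[κ] D) = q * q * finrank L D' := by
      rw [LinearEquiv.finrank_eq f.toLinearEquiv, Module.finrank_matrix]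
      simp
    rw [h1, hD, hD'] at h2
    have h3 : d ^ 2 = (q * d') ^ 2 := by rw [h2]; ring
    have h4 : d = q * d' := Nat.pow_left_injective (by norm_num : (2 : ℕ) ≠ 0) h3
    exact ⟨q, by rw [h4, mul_comm]⟩

theorem bwd (κ : Type u) [Field κ] (L : Type u) [Field L] [Algebra κ L]
    [FiniteDimensional κ L] (A : Type v) [Ring A] [Algebra κ A] [Algebra.IsCentral κ A] [IsSimpleRing A]
    [FiniteDimensional κ A] (n : ℕ) (hn : 0 < n) (hcop : Nat.Coprime n (Module.finrank κ L))
    (hper : Curves.Splits κ (CSAGal.tpow κ A n) κ)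
    (d' : ℕ) (h' : CSAGal.IsIndex L (L ⊗[κ] A) d') (hd'n : d' ∣ n)
    (d : ℕ) (h : CSAGal.IsIndex κ A d) : d ∣ n := by
  have : Algebra.IsCentral L (L ⊗[κ] A) := Groth.Agent.Helper8.isCentral_baseChange κ L A
  have : IsSimpleRing (L ⊗[κ] A) := Groth.Agent.Helper8.isSimpleRing_baseChange κ L A
  obtain ⟨L', _, _, hfd', hdeg, hKS⟩ := exists_splitting_of_isIndex L (L ⊗[κ] A) d' h'
  let _ : Algebra κ L' := ((algebraMap L L').comp (algebraMap κ L)).toAlgebra
  have : IsScalarTower κ L L' := IsScalarTower.of_algebraMap_eq (fun x => rfl)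
  have hKS' : KS κ L' A := KS.of_bc hKS
  obtain ⟨hd, m, D, _, _, hm, hD, ⟨e⟩⟩ := h
  have : NeZero m := ⟨hm.ne'⟩
  have hfin : FiniteDimensional κ D := Module.finite_of_finrank_pos (by rw [hD]; positivity)
  have hcen : Algebra.IsCentral κ D := isCentral_of_matrix_equiv' e
  have hKD : KS κ L' D := KS.of_matrix m hm.ne' (hKS'.congr e)
  obtain ⟨N, hN, ⟨s⟩⟩ := hKD
  have hfdκ : FiniteDimensional κ L' := FiniteDimensional.trans κ L L'
  have hdvd : d ∣ finrank κ L' := dvd_of_splits d hD hN s
  rw [← Module.finrank_mul_finrank κ L L', hdeg] at hdvd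
  have hcop' : Nat.Coprime d (finrank κ L) := by
    apply Nat.coprime_of_dvd
    intro p hp hpd hpL
    have hpn : p ∣ n := Groth.Agent.S7746.main κ A D m e d hD n hn hper p hp hpd
    have := Nat.dvd_gcd hpn hpL
    rw [hcop] at this
    exact hp.one_lt.ne' (Nat.dvd_one.mp this)
  exact (hcop'.dvd_of_dvd_mul_left hdvd).trans hd'n

theorem main (κ : Type u) [Field κ] (L : Type u) [Field L] [Algebra κ L]
    [FiniteDimensional κ L] (A : Type v) [Ring A] [Algebra κ A] [Algebra.IsCentral κ A] [IsSimpleRing A]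
    [FiniteDimensional κ A] (n : ℕ) (hn : 0 < n) (hcop : Nat.Coprime n (Module.finrank κ L))
    (hper : Curves.Splits κ (CSAGal.tpow κ A n) κ) :
    (∃ d : ℕ, CSAGal.IsIndex κ A d ∧ d ∣ n) ↔ (∃ d' : ℕ, CSAGal.IsIndex L (L ⊗[κ] A) d' ∧ d' ∣ n) := by
  constructor
  · rintro ⟨d, hd, hdn⟩
    obtain ⟨d', hd', hd'd⟩ := fwd κ L A d hd
    exact ⟨d', hd', hd'd.trans hdn⟩
  · rintro ⟨d', hd', hd'n⟩
    obtain ⟨d, hd⟩ := exists_isIndex κ A
    exact ⟨d, hd, bwd κ L A n hn hcop hper d' hd' hd'n d hd⟩


end


/-- Let κ be a field, L a finite field extension of κ of degree d, A a finite-dimensional central simple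
κ-algebra and n a positive integer coprime to d such that the n-fold tensor power of A over κ is
split over κ (the period of A divides n). Then the index of A divides n if and only if the index of
the L-algebra L ⊗_κ A divides n. (The published statement is for a finite locally free morphism of
schemes Y → X of degree d, a class in H²(X, G_m), a point p of X and the fibre of Y over p, and its
proof uses that the period of the class divides n without stating it; without that hypothesis the
backward implication fails. This row is the case of a point with Y the spectrum of a field, with the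
period hypothesis made explicit.) -/
theorem result (κ : Type u) [Field κ] (L : Type u) [Field L] [Algebra κ L]
    [FiniteDimensional κ L] (A : Type v) [Ring A] [Algebra κ A] [Algebra.IsCentral κ A] [IsSimpleRing A]
    [FiniteDimensional κ A] (n : ℕ) (hn : 0 < n) (hcop : Nat.Coprime n (Module.finrank κ L))
    (hper : Curves.Splits κ (CSAGal.tpow κ A n) κ) :
    (∃ d : ℕ, CSAGal.IsIndex κ A d ∧ d ∣ n) ↔ (∃ d' : ℕ, CSAGal.IsIndex L (L ⊗[κ] A) d' ∧ d' ∣ n) := by
  classical
  exact main κ L A n hn hcop hper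

end Groth.Agent.S13840
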