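import Groth.Statements.S13843
import Mathlib
import Groth.Prelude.Def_EtCore
import Groth.Agent.S13842
import Groth.Agent.Lib.Helper9.FE.HpullComp
-- import your own Groth.Agent.* helpers here

set_option autoImplicit false
universe u
open CategoryTheory CategoryTheory.Limits AlgebraicGeometry
open GalCoh

namespace Groth.Agent.S13843

open CategoryTheory CategoryTheory.Limits AlgebraicGeometry Opposite
namespace Aux
set_option backward.isDefEq.respectTransparency false
set_option linter.style.haveILetI false
set_option linter.unusedSectionVars false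

open H9FE.HpullComp IntermediateField

section Field

variable (K L : Type u) [Field K] [Field L] [Algebra K L] [FiniteDimensional K L]
  [Algebra.IsSeparable K L]

/-- the Galois closure -/
noncomputable abbrev Mc : IntermediateField K (AlgebraicClosure L) :=
  normalClosure K L (AlgebraicClosure L)

instance Mc_isSeparable : Algebra.IsSeparable K (Mc K L) := by
  rw [← le_separableClosure_iff]
  exact normalClosure_le_iff.2 fun i =>
    have : Algebra.IsSeparable K i.fieldRange :=
      (AlgEquiv.Algebra.isSeparable (AlgEquiv.ofInjectiveField i))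
    le_separableClosure K (AlgebraicClosure L) _

instance Mc_isGalois : IsGalois K (Mc K L) := ⟨⟩

variable (p : ℕ) [hp : Fact p.Prime]

/-- the fixed field of a Sylow subgroup -/
noncomputable abbrev Lp (P : Sylow p (Mc K L ≃ₐ[K] Mc K L)) : IntermediateField K (Mc K L) :=
  fixedField (P : Subgroup (Mc K L ≃ₐ[K] Mc K L))

instance Lp_sep_top (P : Sylow p (Mc K L ≃ₐ[K] Mc K L)) :
    Algebra.IsSeparable (Lp K L p P) (Mc K L) :=
  Algebra.isSeparable_tower_top_of_isSeparable K (Lp K L p P) (Mc K L)

instance Lp_sep_bot (P : Sylow p (Mc K L ≃ₐ[K] Mc K L)) :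
    Algebra.IsSeparable K (Lp K L p P) :=
  Algebra.isSeparable_tower_bot_of_isSeparable K (Lp K L p P) (Mc K L)

lemma finrank_top (P : Sylow p (Mc K L ≃ₐ[K] Mc K L)) :
    ∃ k : ℕ, Module.finrank (Lp K L p P) (Mc K L) = p ^ k := by
  obtain ⟨k, hk⟩ := (IsPGroup.iff_card (p := p)).1 P.isPGroup'
  exact ⟨k, (finrank_fixedField_eq_card _).trans hk⟩

lemma not_dvd_finrank_bot (P : Sylow p (Mc K L ≃ₐ[K] Mc K L)) :
    ¬ p ∣ Module.finrank K (Lp K L p P) := by
  have h1 : Module.finrank K (Lp K L p P) * Module.finrank (Lp K L p P) (Mc K L) =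
      Module.finrank K (Mc K L) := Module.finrank_mul_finrank K (Lp K L p P) (Mc K L)
  have h2 : Module.finrank (Lp K L p P) (Mc K L) =
      Nat.card (P : Subgroup (Mc K L ≃ₐ[K] Mc K L)) := finrank_fixedField_eq_card _
  have h3 := IsGalois.card_aut_eq_finrank K (Mc K L)
  have h4 := Subgroup.index_mul_card (P : Subgroup (Mc K L ≃ₐ[K] Mc K L))
  have hpos : 0 < Nat.card (P : Subgroup (Mc K L ≃ₐ[K] Mc K L)) := Nat.card_pos
  have h5 : Module.finrank K (Lp K L p P) = (P : Subgroup (Mc K L ≃ₐ[K] Mc K L)).index := by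
    apply Nat.eq_of_mul_eq_mul_right hpos
    rw [h4, h3, ← h1, h2]
  rw [h5]
  exact P.not_dvd_index

end Field

lemma eq_zero_of_coprime {A : Type*} [AddCommGroup A] (m d : ℕ) (h : Nat.Coprime m d) (t : A)
    (hm : m • t = 0) (hd : d • t = 0) : t = 0 := by
  obtain ⟨a, b, hab⟩ := (Nat.isCoprime_iff_coprime.2 h)
  have h1 : t = (a * (m : ℤ) + b * (d : ℤ)) • t := by rw [hab, one_zsmul]
  rw [add_zsmul, mul_zsmul, mul_zsmul, natCast_zsmul, natCast_zsmul, hm, hd, zsmul_zero,
    zsmul_zero, zero_add] at h1
  exact h1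

lemma specMap_comp (A B C : Type u) [Field A] [Field B] [Field C] [Algebra A B] [Algebra B C]
    [Algebra A C] [IsScalarTower A B C] :
    Spec.map (CommRingCat.ofHom (algebraMap B C)) ≫ Spec.map (CommRingCat.ofHom (algebraMap A B)) =
      Spec.map (CommRingCat.ofHom (algebraMap A C)) := by
  rw [← Spec.map_comp, ← CommRingCat.ofHom_comp, ← IsScalarTower.algebraMap_eq]

attribute [local instance] Groth.Agent.S0623.lexPull

theorem main (K : Type u) [Field K] (F : EtCoh.Ab (Spec (CommRingCat.of K))) (i : ℕ)
    (hi : 0 < i) (α : EtCoh.H (Spec (CommRingCat.of K)) F i) (L : Type u) [Field L] [Algebra K L]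
    [FiniteDimensional K L] [Algebra.IsSeparable K L]
    [PreservesFiniteLimits (EtCoh.pull (Spec.map (CommRingCat.ofHom (algebraMap K L))))]
    (hα : EtCore.Hpull (Spec.map (CommRingCat.ofHom (algebraMap K L))) F i α = 0) (p : ℕ)
    (hp : p.Prime) (hpα : ¬ p ∣ addOrderOf α) :
    ∃ (L' : Type u) (_ : Field L') (_ : Algebra K L') (_ : FiniteDimensional K L')
      (_ : Algebra.IsSeparable K L'),
      ¬ p ∣ Module.finrank K L' ∧
        ∀ [PreservesFiniteLimits (EtCoh.pull (Spec.map (CommRingCat.ofHom (algebraMap K L'))))],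
          EtCore.Hpull (Spec.map (CommRingCat.ofHom (algebraMap K L'))) F i α = 0 := by
  haveI : Fact p.Prime := ⟨hp⟩
  let P : Sylow p (Mc K L ≃ₐ[K] Mc K L) := default
  refine ⟨Lp K L p P, inferInstance, inferInstance, inferInstance, inferInstance,
    not_dvd_finrank_bot K L p P, ?_⟩
  intro inst
  -- the class dies on the Galois closure
  have h1 : EtCore.Hpull (Spec.map (CommRingCat.ofHom (algebraMap L (Mc K L)))) _ i
      (EtCore.Hpull (Spec.map (CommRingCat.ofHom (algebraMap K L))) F i α) = 0 := by
    rw [hα, map_zero]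
  have h2 : EtCore.Hpull (Spec.map (CommRingCat.ofHom (algebraMap K (Mc K L)))) F i α = 0 :=
    (Hpull_comp_eq_zero_iff _ _ _ (specMap_comp K L (Mc K L)) F i α).1 h1
  have h3 : EtCore.Hpull (Spec.map (CommRingCat.ofHom (algebraMap (Lp K L p P) (Mc K L)))) _ i
      (EtCore.Hpull (Spec.map (CommRingCat.ofHom (algebraMap K (Lp K L p P)))) F i α) = 0 :=
    (Hpull_comp_eq_zero_iff _ _ _ (specMap_comp K (Lp K L p P) (Mc K L)) F i α).2 h2
  have h4 := Groth.Agent.S13842.result (Lp K L p P) _ i hi _ (Mc K L) h3
  obtain ⟨k, hk⟩ := finrank_top K L p P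
  rw [hk] at h4
  have h5 : addOrderOf α •
      EtCore.Hpull (Spec.map (CommRingCat.ofHom (algebraMap K (Lp K L p P)))) F i α = 0 := by
    rw [← map_nsmul, addOrderOf_nsmul_eq_zero, map_zero]
  have hcop : Nat.Coprime (p ^ k) (addOrderOf α) :=
    Nat.Coprime.pow_left k ((Nat.Prime.coprime_iff_not_dvd hp).2 hpα)
  exact eq_zero_of_coprime _ _ hcop _ h4 h5

end Aux

/-- Let K be a field, F an abelian sheaf on the small étale site of Spec K, i > 0 and α a class in
H^i(Spec K, F) which pulls back to zero over some finite separable field extension L of K. If p is a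
prime not dividing the order of α, then there is a finite separable field extension L' of K whose
degree is not divisible by p and over which α pulls back to zero. Hence the period and the index of
α have the same prime factors. (Exactness of pullback of abelian sheaves, which always holds, is
carried as an instance hypothesis, in the conclusion for every such instance.) -/
theorem result (K : Type u) [Field K] (F : EtCoh.Ab (Spec (CommRingCat.of K))) (i : ℕ)
    (hi : 0 < i) (α : EtCoh.H (Spec (CommRingCat.of K)) F i) (L : Type u) [Field L] [Algebra K L] [FiniteDimensional K L]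
    [Algebra.IsSeparable K L] [PreservesFiniteLimits (EtCoh.pull (Spec.map (CommRingCat.ofHom (algebraMap K L))))]
    (hα : EtCore.Hpull (Spec.map (CommRingCat.ofHom (algebraMap K L))) F i α = 0) (p : ℕ) (hp : p.Prime) (hpα : ¬ p ∣ addOrderOf α) :
    ∃ (L' : Type u) (_ : Field L') (_ : Algebra K L') (_ : FiniteDimensional K L') (_ : Algebra.IsSeparable K L'),
      ¬ p ∣ Module.finrank K L' ∧
        ∀ [PreservesFiniteLimits (EtCoh.pull (Spec.map (CommRingCat.ofHom (algebraMap K L'))))],
          EtCore.Hpull (Spec.map (CommRingCat.ofHom (algebraMap K L'))) F i α = 0 := by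
  exact Aux.main K F i hi α L hα p hp hpα

end Groth.Agent.S13843
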