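import Groth.Statements.S13846
import Mathlib
-- import your own Groth.Agent.* helpers here

set_option autoImplicit false
universe u v
open TwSh

namespace Groth.Agent.S13846

namespace Aux

section grading
variable {k : Type u} [Field k] {V : Type v} [AddCommGroup V] [Module k V]
  {𝒱 : ℤ → Submodule k V}

lemma isCompl_of_internal (h𝒱 : DirectSum.IsInternal 𝒱) (i₀ : ℤ) :
    IsCompl (𝒱 i₀) (⨆ (j) (_ : j ≠ i₀), 𝒱 j) := by
  refine ⟨h𝒱.submodule_iSupIndep i₀, ?_⟩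
  rw [codisjoint_iff, eq_top_iff, ← h𝒱.submodule_iSup_eq_top]
  apply iSup_le
  intro j
  by_cases hj : j = i₀
  · rw [hj]; exact le_sup_left
  · exact le_trans (le_iSup₂ (f := fun j (_ : j ≠ i₀) => 𝒱 j) j hj) le_sup_right

lemma eq_zero_of_mem_of_mem (h𝒱 : DirectSum.IsInternal 𝒱) {i j : ℤ} (hij : i ≠ j) {x : V}
    (hi : x ∈ 𝒱 i) (hj : x ∈ 𝒱 j) : x = 0 := by
  have h1 : Disjoint (𝒱 i) (𝒱 j) := h𝒱.submodule_iSupIndep.pairwiseDisjoint hij
  exact (Submodule.disjoint_def.mp h1) x hi hj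

lemma exists_functional (h𝒱 : DirectSum.IsInternal 𝒱) (i₀ : ℤ) (x₀ : V) (hx₀ : x₀ ∈ 𝒱 i₀)
    (hne : x₀ ≠ 0) :
    ∃ ℓ : V →ₗ[k] k, ℓ x₀ = 1 ∧ ∀ i, i ≠ i₀ → ∀ v ∈ 𝒱 i, ℓ v = 0 := by
  obtain ⟨ℓ₀, hℓ₀⟩ := Module.Projective.exists_dual_eq_one k hne
  let hc := isCompl_of_internal h𝒱 i₀
  refine ⟨ℓ₀ ∘ₗ (𝒱 i₀).projection _ hc, ?_, ?_⟩
  · rw [LinearMap.comp_apply]
    have := Submodule.projection_apply_left hc ⟨x₀, hx₀⟩
    rw [this]
    exact hℓ₀
  · intro i hi v hv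
    rw [LinearMap.comp_apply]
    have hmem : v ∈ ⨆ (j) (_ : j ≠ i₀), 𝒱 j :=
      (le_iSup₂ (f := fun j (_ : j ≠ i₀) => 𝒱 j) i hi) hv
    rw [Submodule.projection_apply_of_mem_right hc hmem, map_zero]

lemma exists_ne_zero_mem [Nontrivial V] (h𝒱 : DirectSum.IsInternal 𝒱) :
    ∃ (i₀ : ℤ) (x₀ : V), x₀ ∈ 𝒱 i₀ ∧ x₀ ≠ 0 := by
  by_contra hcon
  push Not at hcon
  have h1 : ∀ i, 𝒱 i = ⊥ := by
    intro i
    rw [eq_bot_iff]
    intro x hx
    exact hcon i x hx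
  have h2 := h𝒱.submodule_iSup_eq_top
  have h3 : (⨆ i, 𝒱 i) = ⊥ := by
    rw [iSup_eq_bot]
    exact h1
  rw [h3] at h2
  exact bot_ne_top h2

end grading


section main
variable {k : Type u} [Field k] {V W : Type v} [AddCommGroup V] [Module k V]
  [AddCommGroup W] [Module k W]
  {𝒱 : ℤ → Submodule k V} {𝒲 : ℤ → Submodule k W}

lemma map_eq_of_forall_mem (h𝒱 : DirectSum.IsInternal 𝒱) (h𝒲 : DirectSum.IsInternal 𝒲)
    (g : V ≃ₗ[k] W) (n : ℤ) (hg : ∀ i, ∀ y ∈ 𝒱 i, g y ∈ 𝒲 (i + n)) (i : ℤ) :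
    Submodule.map (g : V →ₗ[k] W) (𝒱 i) = 𝒲 (i + n) := by
  apply le_antisymm
  · rintro _ ⟨y, hy, rfl⟩
    exact hg i y hy
  · intro w hw
    have hmem : g.symm w ∈ iSup 𝒱 := by rw [h𝒱.submodule_iSup_eq_top]; trivial
    obtain ⟨v, hv, hsum⟩ := (Submodule.mem_iSup_iff_exists_finsupp _ _).mp hmem
    have hw' : w = ∑ i' ∈ v.support, g (v i') := by
      rw [← map_sum]
      have : ∑ i' ∈ v.support, v i' = g.symm w := hsum
      rw [this, g.apply_symm_apply]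
    have h1 : w - g (v i) ∈ 𝒲 (i + n) := sub_mem hw (hg i _ (hv i))
    have h2 : w - g (v i) ∈ ⨆ (j) (_ : j ≠ i + n), 𝒲 j := by
      have : w - g (v i) = ∑ i' ∈ v.support.erase i, g (v i') := by
        by_cases hi : i ∈ v.support
        · rw [hw', ← Finset.add_sum_erase _ _ hi]; abel
        · rw [Finset.erase_eq_of_notMem hi, ← hw']
          rw [Finsupp.notMem_support_iff.mp hi, map_zero, sub_zero]
      rw [this]
      apply Submodule.sum_mem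
      intro i' hi'
      have hne : i' + n ≠ i + n := by
        intro h
        exact (Finset.ne_of_mem_erase hi') (add_right_cancel h)
      exact (le_iSup₂ (f := fun j (_ : j ≠ i + n) => 𝒲 j) (i' + n) hne) (hg i' _ (hv i'))
    have h3 : w - g (v i) = 0 :=
      (Submodule.disjoint_def.mp (h𝒲.submodule_iSupIndep (i + n))) _ h1 h2
    refine ⟨v i, hv i, ?_⟩
    exact (sub_eq_zero.mp h3).symm

theorem main [FiniteDimensional k V] [Nontrivial V] [FiniteDimensional k W]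
    (h𝒱 : DirectSum.IsInternal 𝒱) (h𝒲 : DirectSum.IsInternal 𝒲)
    (φ : Module.End k V ≃ₐ[k] Module.End k W)
    (hφ : ∀ (d : ℤ) (f : Module.End k V), (∀ (i : ℤ) (x : V), x ∈ 𝒱 i → f x ∈ 𝒱 (i + d)) →
      ∀ (i : ℤ) (y : W), y ∈ 𝒲 i → φ f y ∈ 𝒲 (i + d)) :
    ∃ (n : ℤ) (g : V ≃ₗ[k] W), (∀ i : ℤ, Submodule.map (g : V →ₗ[k] W) (𝒱 i) = 𝒲 (i + n)) ∧
      (∀ f : Module.End k V, φ f = (g : V →ₗ[k] W) ∘ₗ f ∘ₗ (g.symm : W →ₗ[k] V)) ∧
      ∀ (n' : ℤ) (g' : V ≃ₗ[k] W),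
        (∀ i : ℤ, Submodule.map (g' : V →ₗ[k] W) (𝒱 i) = 𝒲 (i + n')) →
        (∀ f : Module.End k V, φ f = (g' : V →ₗ[k] W) ∘ₗ f ∘ₗ (g'.symm : W →ₗ[k] V)) →
        n' = n ∧ ∃ c : kˣ, ∀ x : V, g' x = c • g x := by
  obtain ⟨T, hT⟩ := AlgEquiv.eq_linearEquivConjAlgEquiv φ
  have hφT : ∀ (f : Module.End k V) (w : W), φ f w = T (f (T.symm w)) := by
    intro f w
    rw [hT]
    rfl
  obtain ⟨i₀, x₀, hx₀, hne⟩ := exists_ne_zero_mem h𝒱
  obtain ⟨ℓ, hℓ1, hℓ0⟩ := exists_functional h𝒱 i₀ x₀ hx₀ hne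
  have hrank : ∀ (i : ℤ) (y : V), y ∈ 𝒱 i → ∀ (i' : ℤ) (v : V), v ∈ 𝒱 i' →
      (ℓ.smulRight y) v ∈ 𝒱 (i' + (i - i₀)) := by
    intro i y hy i' v hv
    rw [LinearMap.smulRight_apply]
    by_cases h : i' = i₀
    · subst h
      have : i' + (i - i') = i := by ring
      rw [this]
      exact Submodule.smul_mem _ _ hy
    · rw [hℓ0 i' h v hv, zero_smul]
      exact zero_mem _
  have hTx₀ : T x₀ ≠ 0 := fun h => hne (T.map_eq_zero_iff.mp h)
  obtain ⟨j₀, hj₀⟩ : ∃ j₀, T x₀ ∈ 𝒲 j₀ := by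
    have hmem : T x₀ ∈ iSup 𝒲 := by rw [h𝒲.submodule_iSup_eq_top]; trivial
    obtain ⟨w, hw, hsum⟩ := (Submodule.mem_iSup_iff_exists_finsupp _ _).mp hmem
    have hf₀ : ∀ y : W, φ (ℓ.smulRight x₀) y = ℓ (T.symm y) • T x₀ := by
      intro y
      rw [hφT, LinearMap.smulRight_apply, map_smul]
    have h1 : φ (ℓ.smulRight x₀) (T x₀) = T x₀ := by
      rw [hf₀, T.symm_apply_apply, hℓ1, one_smul]
    by_contra hcon
    push Not at hcon
    apply hTx₀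
    have h2 : T x₀ = ∑ j ∈ w.support, w j := hsum.symm
    rw [← h1]
    conv_lhs => rw [h2]
    rw [map_sum]
    apply Finset.sum_eq_zero
    intro j _
    rw [hf₀]
    by_cases hc : ℓ (T.symm (w j)) = 0
    · rw [hc, zero_smul]
    · exfalso
      apply hcon j
      have h3 : φ (ℓ.smulRight x₀) (w j) ∈ 𝒲 (j + (i₀ - i₀)) :=
        hφ (i₀ - i₀) _ (hrank i₀ x₀ hx₀) j (w j) (hw j)
      rw [hf₀, sub_self, add_zero] at h3
      exact (Submodule.smul_mem_iff _ hc).mp h3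
  have hTmem : ∀ i, ∀ y ∈ 𝒱 i, T y ∈ 𝒲 (i + (j₀ - i₀)) := by
    intro i y hy
    have h1 : φ (ℓ.smulRight y) (T x₀) = T y := by
      rw [hφT, T.symm_apply_apply, LinearMap.smulRight_apply, hℓ1, one_smul]
    have h2 := hφ (i - i₀) _ (hrank i y hy) j₀ (T x₀) hj₀
    rw [h1] at h2
    have : j₀ + (i - i₀) = i + (j₀ - i₀) := by ring
    rw [this] at h2
    exact h2
  refine ⟨j₀ - i₀, T, map_eq_of_forall_mem h𝒱 h𝒲 T _ hTmem, ?_, ?_⟩
  · intro f
    rw [hT]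
    rfl
  · intro n' g' hg'map hg'conj
    have hconj : g'.conjAlgEquiv k = T.conjAlgEquiv k := by
      rw [← hT]
      apply AlgEquiv.ext
      intro f
      rw [hg'conj f]
      rfl
    obtain ⟨α, hα⟩ := (LinearEquiv.conjAlgEquiv_ext_iff' g' T).mp hconj
    have hg'x : ∀ x : V, g' x = α • T x := by
      intro x
      rw [hα]
      rfl
    refine ⟨?_, α, hg'x⟩
    have h1 : g' x₀ ∈ 𝒲 (i₀ + n') := by
      rw [← hg'map i₀]
      exact ⟨x₀, hx₀, rfl⟩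
    have h2 : g' x₀ ∈ 𝒲 (i₀ + (j₀ - i₀)) := by
      rw [hg'x]
      exact Submodule.smul_mem _ _ (hTmem i₀ x₀ hx₀)
    have h3 : g' x₀ ≠ 0 := fun h => hne (g'.map_eq_zero_iff.mp h)
    by_contra hnn
    apply h3
    have : i₀ + n' ≠ i₀ + (j₀ - i₀) := fun h => hnn (add_left_cancel h)
    exact eq_zero_of_mem_of_mem h𝒲 this h1 h2

end main

end Aux

/-- Let k be a field and V, W finite-dimensional ℤ-graded k-vector spaces, V = ⊕ V_i with V ≠ 0 and W =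
⊕ W_i. Let φ : End_k(V) ≃ End_k(W) be a k-algebra isomorphism which sends every endomorphism
homogeneous of degree d (one mapping V_i into V_{i+d} for all i) to an endomorphism homogeneous of
degree d. Then there are an integer n and a k-linear isomorphism g : V ≅ W with g(V_i) = W_{i+n} for
every i such that φ(f) = g ∘ f ∘ g⁻¹ for all f; moreover n is unique and g is unique up to a nonzero
scalar: if g' : V ≅ W satisfies g'(V_i) = W_{i+n'} for all i and φ(f) = g' ∘ f ∘ g'⁻¹ for all f,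
then n' = n and g' = c·g for some c ∈ kˣ. (The published statement is about non-zero perfect
complexes over k: an isomorphism of their derived endomorphism algebras, as algebra objects of the
derived category, is induced by an isomorphism from the first complex to a shift of the second, for
a unique shift and up to a unit; this row is its form for finite-dimensional ℤ-graded vector spaces,
to which the bounded derived category of a field is equivalent by taking cohomology.) -/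
theorem result (k : Type u) [Field k] (V W : Type v) [AddCommGroup V] [Module k V] [FiniteDimensional k V] [Nontrivial V] [AddCommGroup W] [Module k W] [FiniteDimensional k W] (𝒱 : ℤ → Submodule k V) (h𝒱 : DirectSum.IsInternal 𝒱) (𝒲 : ℤ → Submodule k W) (h𝒲 : DirectSum.IsInternal 𝒲) (φ : Module.End k V ≃ₐ[k] Module.End k W) (hφ : ∀ (d : ℤ) (f : Module.End k V), (∀ (i : ℤ) (x : V), x ∈ 𝒱 i → f x ∈ 𝒱 (i + d)) → ∀ (i : ℤ) (y : W), y ∈ 𝒲 i → φ f y ∈ 𝒲 (i + d)) : ∃ (n : ℤ) (g : V ≃ₗ[k] W), (∀ i : ℤ, Submodule.map (g : V →ₗ[k] W) (𝒱 i) = 𝒲 (i + n)) ∧ (∀ f : Module.End k V, φ f = (g : V →ₗ[k] W) ∘ₗ f ∘ₗ (g.symm : W →ₗ[k] V)) ∧ ∀ (n' : ℤ) (g' : V ≃ₗ[k] W), (∀ i : ℤ, Submodule.map (g' : V →ₗ[k] W) (𝒱 i) = 𝒲 (i + n')) → (∀ f : Module.End k V, φ f = (g' : V →ₗ[k] W) ∘ₗ f ∘ₗ (g'.symm : W →ₗ[k] V)) → n' = n ∧ ∃ c : kˣ, ∀ x : V, g' x = c • g x := by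
  exact Aux.main h𝒱 h𝒲 φ hφ

end Groth.Agent.S13846
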