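import Groth.Statements.S13848
import Mathlib
-- import your own Groth.Agent.* helpers here

set_option autoImplicit false
universe u v
open TwSh

namespace Groth.Agent.S13848

namespace Aux

variable (A : Type u) [Ring A] (P : Type v) [AddCommGroup P] [Module A P]

/-- The trace ideal of `P`. -/
def T : Ideal A := Ideal.span {a | ∃ (f : P →ₗ[A] A) (x : P), f x = a}

instance T_twoSided : (T A P).IsTwoSided := ⟨by
  intro a b ha
  unfold T at ha ⊢
  induction ha using Submodule.span_induction with
  | mem x hx =>
    obtain ⟨f, y, rfl⟩ := hx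
    apply Ideal.subset_span
    refine ⟨(LinearMap.toSpanSingleton A A b) ∘ₗ f, y, ?_⟩
    simp [LinearMap.toSpanSingleton_apply]
  | zero => simp
  | add x y _ _ hx hy => rw [add_mul]; exact Ideal.add_mem _ hx hy
  | smul c x _ hx =>
    rw [smul_eq_mul, mul_assoc]; exact Ideal.mul_mem_left _ c hx⟩

theorem sup_twoSided (I J : Ideal A) [I.IsTwoSided] [J.IsTwoSided] : (I ⊔ J).IsTwoSided := ⟨by
  intro a b ha
  obtain ⟨i, hi, j, hj, rfl⟩ := Submodule.mem_sup.1 ha
  rw [add_mul]
  exact Submodule.mem_sup.2 ⟨i * b, Ideal.mul_mem_right _ _ hi, j * b, Ideal.mul_mem_right _ _ hj, rfl⟩⟩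

variable {A P}

theorem top_le_T_smul [Module.Finite A P] [Module.Projective A P] :
    (⊤ : Submodule A P) ≤ T A P • (⊤ : Submodule A P) := by
  obtain ⟨n, s, i, -, -, hsi⟩ := Module.Finite.exists_comp_eq_id_of_projective A P
  intro x _
  have hx : x = ∑ k : Fin n, (i x k) • s (Pi.single k 1) := by
    have h1 : i x = ∑ k : Fin n, (i x k) • (Pi.single k (1 : A) : Fin n → A) := by
      ext l
      simp [Finset.sum_apply, Pi.single_apply]
    calc x = s (i x) := by
          have := congrArg (fun g => g x) hsi
          simpa using this.symm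
      _ = s (∑ k : Fin n, (i x k) • (Pi.single k (1 : A) : Fin n → A)) := by rw [← h1]
      _ = _ := by simp [map_sum]
  rw [hx]
  refine Submodule.sum_mem _ fun k _ => Submodule.smul_mem_smul ?_ trivial
  apply Ideal.subset_span
  exact ⟨(LinearMap.proj k) ∘ₗ i, x, rfl⟩

theorem T_eq_top [IsSimpleRing (A ⧸ Ring.jacobson A)] [Module.Finite A P]
    [Module.Projective A P] [Nontrivial P] : T A P = ⊤ := by
  haveI := sup_twoSided A (T A P) (Ring.jacobson A)
  have key : T A P ⊔ Ring.jacobson A = ⊤ := by
    rcases IsSimpleRing.injective_ringHom_or_subsingleton_codomain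
      (Ideal.Quotient.factor (le_sup_right : Ring.jacobson A ≤ T A P ⊔ Ring.jacobson A)) with h | h
    · exfalso
      have hT : T A P ≤ Ring.jacobson A := by
        intro t ht
        have h0 : Ideal.Quotient.factor (le_sup_right : Ring.jacobson A ≤ T A P ⊔ Ring.jacobson A)
            (Ideal.Quotient.mk _ t) = 0 := by
          rw [Ideal.Quotient.factor_mk, Ideal.Quotient.eq_zero_iff_mem]
          exact Submodule.mem_sup_left ht
        have := h (h0.trans (map_zero _).symm)
        exact Ideal.Quotient.eq_zero_iff_mem.1 this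
      have h1 : (⊤ : Submodule A P) ≤ Ring.jacobson A • (⊤ : Submodule A P) :=
        top_le_T_smul.trans (Submodule.smul_mono_left hT)
      have h2 : (⊤ : Submodule A P) = ⊥ :=
        Submodule.FG.eq_bot_of_le_jacobson_smul (Module.Finite.fg_top) h1
      exact top_ne_bot h2
    · rw [Ideal.eq_top_iff_one]
      have : (Ideal.Quotient.mk (T A P ⊔ Ring.jacobson A) 1) = 0 := Subsingleton.elim _ _
      exact Ideal.Quotient.eq_zero_iff_mem.1 this
  by_contra hne
  obtain ⟨m, hm, hle⟩ := Ideal.exists_le_maximal _ hne
  have : T A P ⊔ Ring.jacobson A ≤ m := sup_le hle (Ring.jacobson_le_of_isMaximal m)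
  rw [key] at this
  exact hm.ne_top (top_le_iff.1 this)

theorem faithful (h1 : (1 : A) ∈ T A P) (c : A) (hc : ∀ x : P, c • x = 0) : c = 0 := by
  have key : ∀ t ∈ T A P, ∀ c : A, (∀ x : P, c • x = 0) → c * t = 0 := by
    intro t ht
    unfold T at ht
    induction ht using Submodule.span_induction with
    | mem x hx =>
      obtain ⟨f, y, rfl⟩ := hx
      intro c hc
      rw [← smul_eq_mul, ← map_smul, hc, map_zero]
    | zero => simp
    | add x y _ _ hx hy => intro c hc; rw [mul_add, hx c hc, hy c hc, add_zero]
    | smul d x _ hx =>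
      intro c hc
      rw [smul_eq_mul, ← mul_assoc]
      exact hx (c * d) (fun x => by rw [mul_smul, hc])
  simpa using key 1 h1 c hc

theorem main (A : Type u) [Ring A] [IsSimpleRing (A ⧸ Ring.jacobson A)]
    (P : Type v) [AddCommGroup P] [Module A P] [Module.Finite A P] [Module.Projective A P]
    [Nontrivial P] (u : P ≃ₗ[A] P)
    (hu : ∀ f : Module.End A P, (u : P →ₗ[A] P) ∘ₗ f = f ∘ₗ (u : P →ₗ[A] P)) :
    ∃! a : A, (∀ b : A, a * b = b * a) ∧ ∀ x : P, u x = a • x := by
  have h1 : (1 : A) ∈ T A P := by rw [T_eq_top]; trivial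
  have key : ∀ t ∈ T A P, ∃ a : A, ∀ x : P, t • u x = a • x := by
    intro t ht
    unfold T at ht
    induction ht using Submodule.span_induction with
    | mem t hx =>
      obtain ⟨f, y, rfl⟩ := hx
      refine ⟨f (u y), fun x => ?_⟩
      have := congrArg (fun g => g y) (hu ((LinearMap.toSpanSingleton A P x) ∘ₗ f))
      simp only [LinearMap.comp_apply, LinearMap.toSpanSingleton_apply, LinearEquiv.coe_coe,
        map_smul] at this
      exact this
    | zero => exact ⟨0, fun x => by simp⟩
    | add s t _ _ hs ht =>
      obtain ⟨a, ha⟩ := hs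
      obtain ⟨b, hb⟩ := ht
      exact ⟨a + b, fun x => by rw [add_smul, add_smul, ha, hb]⟩
    | smul c t _ ht =>
      obtain ⟨a, ha⟩ := ht
      exact ⟨c * a, fun x => by rw [smul_eq_mul, mul_smul, mul_smul, ha]⟩
  obtain ⟨a, ha⟩ := key 1 h1
  simp only [one_smul] at ha
  refine ⟨a, ⟨fun b => ?_, ha⟩, ?_⟩
  · have : a * b - b * a = 0 := by
      apply faithful (P := P) h1
      intro x
      rw [sub_smul, mul_smul, mul_smul, ← ha, ← ha, map_smul, sub_self]
    exact sub_eq_zero.1 this
  · rintro a' ⟨-, ha'⟩
    have : a' - a = 0 := by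
      apply faithful (P := P) h1
      intro x
      rw [sub_smul, ← ha, ← ha', sub_self]
    exact sub_eq_zero.1 this

end Aux

/-- Let A be a ring with A/J a simple left-Artinian ring, J the Jacobson radical, and let P be a
non-zero finitely generated projective left A-module. An A-linear automorphism u of P which commutes
with every A-linear endomorphism of P (equivalently, induces the identity on End_A(P) by
conjugation) is scalar multiplication by a unique central element a of A: u(x) = a·x for all x ∈ P,
and a is determined by u. (So the automorphisms of P acting trivially on End_A(P) are exactly the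
central units of A acting by scalars; the published assertion does not exclude P = 0, where
uniqueness fails.) -/
theorem result (A : Type u) [Ring A] [IsSimpleRing (A ⧸ Ring.jacobson A)] [IsArtinianRing (A ⧸ Ring.jacobson A)] (P : Type v) [AddCommGroup P] [Module A P] [Module.Finite A P] [Module.Projective A P] [Nontrivial P] (u : P ≃ₗ[A] P) (hu : ∀ f : Module.End A P, (u : P →ₗ[A] P) ∘ₗ f = f ∘ₗ (u : P →ₗ[A] P)) : ∃! a : A, (∀ b : A, a * b = b * a) ∧ ∀ x : P, u x = a • x := by
  exact Aux.main A P u hu

end Groth.Agent.S13848
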