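import Groth.Statements.S13860
import Mathlib

set_option autoImplicit false
universe u v w
open ModRep

namespace Groth.Agent.S13860

/-- For k a field of characteristic p > 0, G a finite group and P a Sylow p-subgroup of G, a short exact
sequence of k[G]-modules has a k[G]-linear splitting exactly when it has a k[P]-linear one. Stated
here for the surjection of the sequence: a G-equivariant k-linear map g : B → C between k-linear
representations of G admits a G-equivariant k-linear section if and only if it admits a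
P-equivariant k-linear section. -/
theorem result {k : Type u} [Field k] (p : ℕ) [Fact p.Prime]
    [CharP k p] {G : Type v} [Group G] [Finite G] (P : Sylow p G)
    {B C : Type w} [AddCommGroup B] [Module k B] [AddCommGroup C] [Module k C]
    (ρB : Representation k G B) (ρC : Representation k G C)
    (g : B →ₗ[k] C) (hg : ∀ x : G, g ∘ₗ ρB x = ρC x ∘ₗ g) :
    (∃ s : C →ₗ[k] B, g ∘ₗ s = LinearMap.id ∧ ∀ x : G, s ∘ₗ ρC x = ρB x ∘ₗ s) ↔
      (∃ s : C →ₗ[k] B, g ∘ₗ s = LinearMap.id ∧ ∀ x : G, x ∈ P → s ∘ₗ ρC x = ρB x ∘ₗ s) := by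
  classical
  constructor
  · rintro ⟨s, hs, hsx⟩
    exact ⟨s, hs, fun x _ => hsx x⟩
  · rintro ⟨s, hs, hsP⟩
    have hp : p.Prime := Fact.out
    haveI : Fintype (G ⧸ (P : Subgroup G)) := Fintype.ofFinite _
    set H : Subgroup G := (P : Subgroup G) with hH
    -- pointwise facts
    have mB : ∀ (x y : G) (b : B), ρB (x * y) b = ρB x (ρB y b) := fun x y b => by
      rw [map_mul]; rfl
    have mC : ∀ (x y : G) (c : C), ρC (x * y) c = ρC x (ρC y c) := fun x y c => by
      rw [map_mul]; rfl
    have oB : ∀ b : B, ρB 1 b = b := fun b => by rw [map_one]; rfl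
    have oC : ∀ c : C, ρC 1 c = c := fun c => by rw [map_one]; rfl
    have iC : ∀ (x : G) (c : C), ρC x (ρC x⁻¹ c) = c := fun x c => by
      rw [← mC, mul_inv_cancel, oC]
    have iC' : ∀ (x : G) (c : C), ρC x⁻¹ (ρC x c) = c := fun x c => by
      rw [← mC, inv_mul_cancel, oC]
    have hg' : ∀ (x : G) (b : B), g (ρB x b) = ρC x (g b) := fun x b =>
      LinearMap.congr_fun (hg x) b
    have hs' : ∀ c : C, g (s c) = c := fun c => LinearMap.congr_fun hs c
    have hsP' : ∀ h ∈ H, ∀ c : C, s (ρC h c) = ρB h (s c) := fun h hh c =>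
      LinearMap.congr_fun (hsP h hh) c
    let F : G → (C →ₗ[k] B) := fun x => ρB x ∘ₗ s ∘ₗ ρC x⁻¹
    have hFapp : ∀ (x : G) (c : C), F x c = ρB x (s (ρC x⁻¹ c)) := fun x c => rfl
    have hFP : ∀ (x h : G), h ∈ H → F (x * h) = F x := by
      intro x h hh
      ext c
      rw [hFapp, hFapp, mul_inv_rev, mB, mC, ← hsP' h hh, iC]
    have hFy : ∀ (y x : G) (c : C), F (y * x) c = ρB y (F x (ρC y⁻¹ c)) := by
      intro y x c
      rw [hFapp, hFapp, mul_inv_rev, mB, mC]
    let Fbar : G ⧸ H → (C →ₗ[k] B) := fun q => Quotient.liftOn' q F (by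
      intro a b hab
      rw [QuotientGroup.leftRel_apply] at hab
      have : b = a * (a⁻¹ * b) := by group
      rw [this, hFP a _ hab])
    have hFbar : ∀ x : G, Fbar (QuotientGroup.mk x) = F x := fun x => rfl
    have hgF : ∀ (q : G ⧸ H) (c : C), g (Fbar q c) = c := by
      intro q c
      induction q using QuotientGroup.induction_on with
      | H x => rw [hFbar, hFapp, hg', hs', iC]
    have hFbar_smul : ∀ (y : G) (q : G ⧸ H) (c : C),
        Fbar (y • q) c = ρB y (Fbar q (ρC y⁻¹ c)) := by
      intro y q c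
      induction q using QuotientGroup.induction_on with
      | H x =>
        have : y • (QuotientGroup.mk x : G ⧸ H) = QuotientGroup.mk (y * x) := rfl
        rw [this, hFbar, hFbar, hFy]
    set m : ℕ := Fintype.card (G ⧸ H) with hm
    have hmk : (m : k) ≠ 0 := by
      intro h0
      rw [CharP.cast_eq_zero_iff k p] at h0
      have hidx : H.index = m := by
        rw [hm, Subgroup.index_eq_card, Nat.card_eq_fintype_card]
      exact P.not_dvd_index (hidx ▸ h0)
    refine ⟨(m : k)⁻¹ • ∑ q : G ⧸ H, Fbar q, ?_, ?_⟩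
    · ext c
      simp only [LinearMap.comp_apply, LinearMap.smul_apply, LinearMap.sum_apply, map_smul, map_sum,
        hgF, Finset.sum_const, Finset.card_univ, LinearMap.id_apply]
      rw [← hm, ← Nat.cast_smul_eq_nsmul k, smul_smul, inv_mul_cancel₀ hmk, one_smul]
    · intro y
      ext c
      simp only [LinearMap.comp_apply, LinearMap.smul_apply, LinearMap.sum_apply, map_smul, map_sum]
      congr 1
      rw [← Equiv.sum_comp (MulAction.toPerm y) (fun q => Fbar q (ρC y c))]
      apply Finset.sum_congr rfl
      intro q _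
      simp only [MulAction.toPerm_apply]
      rw [hFbar_smul, iC']

end Groth.Agent.S13860
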