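import Groth.Statements.S13864
import Mathlib
-- import your own Groth.Agent.* helpers here

set_option autoImplicit false
universe u
open ASCover

namespace Groth.Agent.S13864

open PowerSeries
namespace Aux

section
variable {k : Type u} [Field k] (n : ℕ)

/-- multiplicativity of the congruence class `1 + X^n k[[X]]` and additivity of the coefficient of `X^n` -/
lemma mul_congr (hn : 0 < n) {f g : PowerSeries k} (hf : (X : PowerSeries k) ^ n ∣ f - 1)
    (hg : (X : PowerSeries k) ^ n ∣ g - 1) :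
    (X : PowerSeries k) ^ n ∣ f * g - 1 ∧ coeff n (f * g) = coeff n f + coeff n g := by
  obtain ⟨f', hf'⟩ := hf
  obtain ⟨g', hg'⟩ := hg
  have ef : f = 1 + X ^ n * f' := by rw [← hf']; ring
  have eg : g = 1 + X ^ n * g' := by rw [← hg']; ring
  have efg : f * g = 1 + X ^ n * (f' + g' + X ^ n * (f' * g')) := by rw [ef, eg]; ring
  refine ⟨⟨f' + g' + X ^ n * (f' * g'), by rw [efg]; ring⟩, ?_⟩
  have h1 : ∀ q : PowerSeries k, coeff n (1 + X ^ n * q) = coeff 0 q := by
    intro q
    rw [map_add, coeff_one, if_neg hn.ne']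
    have := coeff_X_pow_mul q n 0
    rw [zero_add] at this
    rw [this, zero_add]
  rw [efg, ef, eg, h1, h1, h1, map_add, map_add]
  have : coeff 0 ((X : PowerSeries k) ^ n * (f' * g')) = 0 := by
    rw [coeff_X_pow_mul', if_neg (by omega)]
  rw [this, add_zero]

lemma zpow_congr (hn : 0 < n) (U : (PowerSeries k)ˣ) (hU : (X : PowerSeries k) ^ n ∣ (U : PowerSeries k) - 1)
    (e : ℤ) : (X : PowerSeries k) ^ n ∣ ((U ^ e : (PowerSeries k)ˣ) : PowerSeries k) - 1 ∧
      coeff n ((U ^ e : (PowerSeries k)ˣ) : PowerSeries k) = (e : k) * coeff n (U : PowerSeries k) := by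
  -- inverse
  have hinv : (X : PowerSeries k) ^ n ∣ ((U⁻¹ : (PowerSeries k)ˣ) : PowerSeries k) - 1 := by
    have : ((U⁻¹ : (PowerSeries k)ˣ) : PowerSeries k) - 1 =
        -((U⁻¹ : (PowerSeries k)ˣ) : PowerSeries k) * ((U : PowerSeries k) - 1) := by
      have h1 : ((U⁻¹ : (PowerSeries k)ˣ) : PowerSeries k) * (U : PowerSeries k) = 1 := by
        rw [← Units.val_mul, inv_mul_cancel, Units.val_one]
      linear_combination h1
    rw [this]
    exact Dvd.dvd.mul_left hU _
  have hinvc : coeff n ((U⁻¹ : (PowerSeries k)ˣ) : PowerSeries k) = - coeff n (U : PowerSeries k) := by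
    have h1 := (mul_congr n hn hU hinv).2
    rw [← Units.val_mul, mul_inv_cancel, Units.val_one, coeff_one, if_neg hn.ne'] at h1
    linear_combination -h1
  induction e using Int.induction_on with
  | zero => simp [coeff_one, hn.ne']
  | succ i ih =>
    obtain ⟨ih1, ih2⟩ := ih
    have e1 : ((U ^ ((i : ℤ) + 1) : (PowerSeries k)ˣ) : PowerSeries k) =
        ((U ^ (i : ℤ) : (PowerSeries k)ˣ) : PowerSeries k) * (U : PowerSeries k) := by
      rw [zpow_add_one, Units.val_mul]
    obtain ⟨h1, h2⟩ := mul_congr n hn ih1 hU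
    rw [e1]
    refine ⟨h1, ?_⟩
    rw [h2, ih2]
    push_cast
    ring
  | pred i ih =>
    obtain ⟨ih1, ih2⟩ := ih
    have e1 : ((U ^ (-(i : ℤ) - 1) : (PowerSeries k)ˣ) : PowerSeries k) =
        ((U ^ (-(i : ℤ)) : (PowerSeries k)ˣ) : PowerSeries k) * ((U⁻¹ : (PowerSeries k)ˣ) : PowerSeries k) := by
      rw [zpow_sub_one, Units.val_mul]
    obtain ⟨h1, h2⟩ := mul_congr n hn ih1 hinv
    rw [e1]
    refine ⟨h1, ?_⟩
    rw [h2, ih2, hinvc]
    push_cast
    ring

/-- substitution of `X * u` with `u ≡ 1 mod X^n` does not change coefficients below `n` -/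
lemma subst_congr (u : PowerSeries k) (hu : (X : PowerSeries k) ^ n ∣ u - 1) (h : PowerSeries k) :
    (X : PowerSeries k) ^ n ∣ PowerSeries.subst (X * u) h - h := by
  rw [X_pow_dvd_iff]
  intro e he
  have hb : HasSubst (X * u : PowerSeries k) := HasSubst.of_constantCoeff_zero' (by simp)
  rw [map_sub, coeff_subst' hb, sub_eq_zero]
  have key : ∀ d : ℕ, coeff e ((X * u : PowerSeries k) ^ d) = if d = e then 1 else 0 := by
    intro d
    rw [mul_pow, coeff_X_pow_mul']
    have hd : (X : PowerSeries k) ^ n ∣ u ^ d - 1 := by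
      have := sub_dvd_pow_sub_pow u 1 d
      rw [one_pow] at this
      exact hu.trans this
    rw [X_pow_dvd_iff] at hd
    by_cases hde : d ≤ e
    · rw [if_pos hde]
      have := hd (e - d) (by omega)
      rw [map_sub, sub_eq_zero] at this
      rw [this, coeff_one]
      by_cases h2 : d = e
      · rw [if_pos h2, if_pos (by omega)]
      · rw [if_neg h2, if_neg (by omega)]
    · rw [if_neg hde, if_neg (by omega)]
  rw [finsum_eq_single _ e]
  · rw [key, if_pos rfl, smul_eq_mul, mul_one]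
  · intro d hd
    rw [key, if_neg hd, smul_zero]

end

theorem main {k : Type u} [Field k] [IsAlgClosed k] (p : ℕ)
    [Fact p.Prime] [CharP k p] (n : ℕ) (hn : 0 < n) (hpn : ¬ p ∣ n)
    (u : PowerSeries k) (hu1 : PowerSeries.constantCoeff u = 1)
    (hun : u ^ n * (1 + PowerSeries.X ^ n) = 1) (hu : IsUnit u) (a : ℤ)
    (c : ℕ → PowerSeries k)
    (hc : ∀ m : ℕ, 1 ≤ m → m ≤ n →
      PowerSeries.X ^ m * c m = ((hu.unit ^ (a - m) : (PowerSeries k)ˣ) : PowerSeries k) - 1)
    (coef : ℕ → k) (h : PowerSeries k)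
    (hh : ((hu.unit ^ a : (PowerSeries k)ˣ) : PowerSeries k) * PowerSeries.subst (PowerSeries.X * u) h - h =
      ∑ m ∈ (Finset.Icc 1 n).filter (fun m : ℕ => ¬ (p : ℤ) ∣ a - (m : ℤ)), coef m • c m) :
    ∀ m ∈ (Finset.Icc 1 n).filter (fun m : ℕ => ¬ (p : ℤ) ∣ a - (m : ℤ)), coef m = 0 := by
  have hnk : (n : k) ≠ 0 := by
    rw [Ne, CharP.cast_eq_zero_iff k p n]; exact hpn
  -- X^n ∣ u - 1
  have hun1 : (X : PowerSeries k) ^ n ∣ u ^ n - 1 := ⟨-u ^ n, by linear_combination hun⟩
  have hdvd : (X : PowerSeries k) ^ n ∣ u - 1 := by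
    have hG : IsUnit (∑ i ∈ Finset.range n, u ^ i) := by
      rw [PowerSeries.isUnit_iff_constantCoeff, map_sum]
      simp only [map_pow, hu1, one_pow, Finset.sum_const, Finset.card_range, nsmul_eq_mul, mul_one]
      exact isUnit_iff_ne_zero.mpr hnk
    have := geom_sum_mul u n
    rw [← this] at hun1
    exact (hG.dvd_mul_left).mp hun1
  set U := hu.unit with hUdef
  have hUval : (U : PowerSeries k) = u := hu.unit_spec
  have hU : (X : PowerSeries k) ^ n ∣ (U : PowerSeries k) - 1 := by rw [hUval]; exact hdvd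
  -- coefficient of X^n in u
  have hL : (n : k) * coeff n u + 1 = 0 := by
    have h1 := zpow_congr n hn U hU (n : ℤ)
    rw [zpow_natCast, Units.val_pow_eq_pow_val, hUval] at h1
    have h2 : (X : PowerSeries k) ^ n ∣ (1 + X ^ n : PowerSeries k) - 1 := ⟨1, by ring⟩
    have h3 := (mul_congr n hn h1.1 h2).2
    rw [hun, coeff_one, if_neg hn.ne', h1.2, map_add, coeff_one, if_neg hn.ne', zero_add,
      coeff_X_pow, if_pos rfl] at h3
    push_cast at h3
    linear_combination -h3
  have hL0 : coeff n u ≠ 0 := by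
    intro h0
    rw [h0, mul_zero, zero_add] at hL
    exact one_ne_zero hL
  -- the right hand side is divisible by X^n
  have hR : (X : PowerSeries k) ^ n ∣
      ((U ^ a : (PowerSeries k)ˣ) : PowerSeries k) * PowerSeries.subst (X * u) h - h := by
    have e1 : ((U ^ a : (PowerSeries k)ˣ) : PowerSeries k) * PowerSeries.subst (X * u) h - h =
        (((U ^ a : (PowerSeries k)ˣ) : PowerSeries k) - 1) * PowerSeries.subst (X * u) h +
          (PowerSeries.subst (X * u) h - h) := by ring
    rw [e1]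
    exact dvd_add (Dvd.dvd.mul_right (zpow_congr n hn U hU a).1 _) (subst_congr n u hdvd h)
  -- structure of c m
  have hcm : ∀ m : ℕ, 1 ≤ m → m ≤ n → (X : PowerSeries k) ^ (n - m) ∣ c m ∧
      coeff (n - m) (c m) = ((a - m : ℤ) : k) * coeff n u := by
    intro m hm1 hmn
    obtain ⟨⟨g, hg⟩, h2⟩ := zpow_congr n hn U hU (a - m)
    have h3 := hc m hm1 hmn
    rw [hg] at h3
    have h4 : c m = X ^ (n - m) * g := by
      have : (X : PowerSeries k) ^ n = X ^ m * X ^ (n - m) := by
        rw [← pow_add]; congr 1; omega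
      rw [this, mul_assoc] at h3
      exact mul_left_cancel₀ (pow_ne_zero _ PowerSeries.X_ne_zero) h3
    refine ⟨⟨g, h4⟩, ?_⟩
    have h5 : ((U ^ (a - m) : (PowerSeries k)ˣ) : PowerSeries k) = 1 + X ^ n * g := by
      rw [← hg]; ring
    rw [h5, map_add, coeff_one, if_neg hn.ne', zero_add] at h2
    have h6 := coeff_X_pow_mul g n 0
    rw [zero_add] at h6
    rw [h6, hUval] at h2
    rw [h4]
    have h7 := coeff_X_pow_mul g (n - m) 0
    rw [zero_add] at h7
    rw [h7, h2]
  -- main argument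
  classical
  by_contra hne
  push Not at hne
  set S := (Finset.Icc 1 n).filter (fun m : ℕ => ¬ (p : ℤ) ∣ a - (m : ℤ)) with hS
  let T := S.filter (fun m => coef m ≠ 0)
  have hT : T.Nonempty := by
    obtain ⟨m, hm, hm0⟩ := hne
    exact ⟨m, Finset.mem_filter.mpr ⟨hm, hm0⟩⟩
  set m₀ := T.max' hT with hm₀
  have hm₀T : m₀ ∈ T := Finset.max'_mem T hT
  obtain ⟨hm₀S, hm₀ne⟩ := Finset.mem_filter.mp hm₀T
  obtain ⟨hm₀I, hm₀p⟩ := Finset.mem_filter.mp hm₀S
  obtain ⟨hm₀1, hm₀n⟩ := Finset.mem_Icc.mp hm₀I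
  have hcoef : coeff (n - m₀) (∑ m ∈ S, coef m • c m) = coef m₀ * (((a - m₀ : ℤ) : k) * coeff n u) := by
    rw [map_sum, Finset.sum_eq_single m₀]
    · rw [map_smul, smul_eq_mul, (hcm m₀ hm₀1 hm₀n).2]
    · intro m hmS hmne
      obtain ⟨hmI, -⟩ := Finset.mem_filter.mp hmS
      obtain ⟨hm1, hmn⟩ := Finset.mem_Icc.mp hmI
      rw [map_smul, smul_eq_mul]
      by_cases hlt : m < m₀
      · have := (hcm m hm1 hmn).1
        rw [X_pow_dvd_iff] at this
        rw [this (n - m₀) (by omega), mul_zero]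
      · have hgt : m₀ < m := by omega
        have : coef m = 0 := by
          by_contra h0
          have hmT : m ∈ T := Finset.mem_filter.mpr ⟨hmS, h0⟩
          have := Finset.le_max' T m hmT
          omega
        rw [this, zero_mul]
    · intro h0; exact absurd hm₀S h0
  rw [← hh] at hcoef
  rw [X_pow_dvd_iff] at hR
  rw [hR (n - m₀) (by omega)] at hcoef
  have hk : ((a - m₀ : ℤ) : k) ≠ 0 := by
    rw [Ne, CharP.intCast_eq_zero_iff k p]
    exact hm₀p
  have := mul_ne_zero hm₀ne (mul_ne_zero hk hL0)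
  exact this hcoef.symm

end Aux

/-- Let k be an algebraically closed field of characteristic p > 0, n ≥ 1 an integer prime to p, u ∈
k[[t]] the power series with constant term 1 and u^n · (1 + t^n) = 1 (so σ(t) = t·u is a
k-automorphism of k((t)) of order p), and a an integer; σ acts on I = t^a·k[[t]], and transported to
B = k[[t]] along h ↦ t^a·h the action is h ↦ u^a · h(t·u). For 1 ≤ m ≤ n let c_m ∈ B be determined
by t^m · c_m = u^(a−m) − 1; this is the cocycle value σ(t^i) − t^i ∈ I of the element t^i, i = a −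
m, divided by t^a. The published lemma says that the classes of the t^i with a − n ≤ i ≤ a − 1 and p
∤ i form a basis of H^1(⟨σ⟩, I); this row states their linear independence: if Σ λ_m c_m, summed
over 1 ≤ m ≤ n with p ∤ a − m, equals u^a · h(t·u) − h for some h ∈ B, then every such λ_m is 0.
(Together with the dimension of this H^1, namely n − ⌊(a−1)/p⌋ + ⌊(a−1−n)/p⌋, this gives the basis
statement.) -/
theorem result {k : Type u} [Field k] [IsAlgClosed k] (p : ℕ)
    [Fact p.Prime] [CharP k p] (n : ℕ) (hn : 0 < n) (hpn : ¬ p ∣ n)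
    (u : PowerSeries k) (hu1 : PowerSeries.constantCoeff u = 1)
    (hun : u ^ n * (1 + PowerSeries.X ^ n) = 1) (hu : IsUnit u) (a : ℤ)
    (c : ℕ → PowerSeries k)
    (hc : ∀ m : ℕ, 1 ≤ m → m ≤ n →
      PowerSeries.X ^ m * c m = ((hu.unit ^ (a - m) : (PowerSeries k)ˣ) : PowerSeries k) - 1)
    (coef : ℕ → k) (h : PowerSeries k)
    (hh : ((hu.unit ^ a : (PowerSeries k)ˣ) : PowerSeries k) * PowerSeries.subst (PowerSeries.X * u) h - h =
      ∑ m ∈ (Finset.Icc 1 n).filter (fun m : ℕ => ¬ (p : ℤ) ∣ a - (m : ℤ)), coef m • c m) :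
    ∀ m ∈ (Finset.Icc 1 n).filter (fun m : ℕ => ¬ (p : ℤ) ∣ a - (m : ℤ)), coef m = 0 := by
  exact Aux.main p n hn hpn u hu1 hun hu a c hc coef h hh

end Groth.Agent.S13864
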