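import Groth.Statements.S13863
import Mathlib
import Groth.Agent.S13864
-- import your own Groth.Agent.* helpers here

set_option autoImplicit false
universe u
open ASCover

namespace Groth.Agent.S13863

open PowerSeries
namespace Aux

open Groth.Agent.S13864.Aux in
theorem main {k : Type u} [Field k] [IsAlgClosed k] (p : ℕ)
    [Fact p.Prime] [CharP k p] (n : ℕ) (hn : 0 < n) (hpn : ¬ p ∣ n)
    (u : PowerSeries k) (hu1 : PowerSeries.constantCoeff u = 1)
    (hun : u ^ n * (1 + PowerSeries.X ^ n) = 1) (hu : IsUnit u) (a : ℤ) (m : ℕ)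
    (hm1 : 1 ≤ m) (hmn : m ≤ n) (hdvd : (p : ℤ) ∣ a - m) (c : PowerSeries k)
    (hc : PowerSeries.X ^ m * c = ((hu.unit ^ (a - m) : (PowerSeries k)ˣ) : PowerSeries k) - 1) :
    ∃ h : PowerSeries k,
      ((hu.unit ^ a : (PowerSeries k)ˣ) : PowerSeries k) * PowerSeries.subst (PowerSeries.X * u) h - h = c := by
  have hp : p.Prime := Fact.out
  have hp2 : 2 ≤ p := hp.two_le
  have hnk : (n : k) ≠ 0 := by
    rw [Ne, CharP.cast_eq_zero_iff k p n]; exact hpn
  obtain ⟨j, hj⟩ := hdvd
  set N := n * (p - 1) with hN
  have hNn : n ≤ N := by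
    rw [hN]; exact Nat.le_mul_of_pos_right n (by omega)
  have hNnp : N + n = n * p := by
    rw [hN]; obtain ⟨q, rfl⟩ : ∃ q, p = q + 1 := ⟨p - 1, by omega⟩
    simp; ring
  -- the root of -1
  obtain ⟨ζ, hζ⟩ : ∃ ζ : k, ζ ^ n = -1 := IsAlgClosed.exists_pow_nat_eq (-1) hn
  -- substitutions
  set b : PowerSeries k := C ζ * X ^ (p - 1) with hbdef
  have hb0 : constantCoeff b = 0 := by
    rw [hbdef, map_mul, map_pow, constantCoeff_X, zero_pow (by omega), mul_zero]
  have hb : HasSubst b := HasSubst.of_constantCoeff_zero' hb0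
  have hXu0 : constantCoeff (X * u : PowerSeries k) = 0 := by simp
  have hXu : HasSubst (X * u : PowerSeries k) := HasSubst.of_constantCoeff_zero' hXu0
  let φ : PowerSeries k →+* PowerSeries k := (substAlgHom (R := k) hXu).toRingHom
  have hφ : ∀ f, φ f = subst (X * u) f := fun f => by
    change (substAlgHom (R := k) hXu) f = _
    rw [coe_substAlgHom]
  have hφX : φ X = X * u := by rw [hφ, subst_X hXu]
  -- v
  set v : PowerSeries k := subst b u with hvdef
  have hv0 : constantCoeff v = 1 := by
    have h1 : constantCoeff (subst b (u - 1)) = 0 :=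
      constantCoeff_subst_eq_zero hb0 (u - 1) (by rw [map_sub, hu1, map_one, sub_self])
    rw [subst_sub hb] at h1
    have h2 : subst b (1 : PowerSeries k) = (1 : PowerSeries k) := by
      rw [← coe_substAlgHom hb]; exact map_one _
    rw [h2, map_sub, map_one, sub_eq_zero] at h1
    exact h1
  have hvn : v ^ n * (1 - X ^ N) = 1 := by
    have h1 := congrArg (subst b) hun
    rw [subst_mul hb, subst_pow hb, subst_add hb, subst_pow hb, subst_X hb] at h1
    have h2 : subst b (1 : PowerSeries k) = (1 : PowerSeries k) := by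
      rw [← coe_substAlgHom hb]; exact map_one _
    rw [h2] at h1
    have h3 : b ^ n = - X ^ N := by
      rw [hbdef, mul_pow, ← map_pow, hζ, ← pow_mul, hN, mul_comm (p - 1) n]
      simp
    rw [h3, ← hvdef] at h1
    linear_combination h1
  have hv : IsUnit v := by
    rw [PowerSeries.isUnit_iff_constantCoeff, hv0]; exact isUnit_one
  -- X^N ∣ v - 1
  have hvdvd : (X : PowerSeries k) ^ N ∣ v - 1 := by
    have h1 : (X : PowerSeries k) ^ N ∣ v ^ n - 1 := ⟨v ^ n, by linear_combination hvn⟩
    have hG : IsUnit (∑ i ∈ Finset.range n, v ^ i) := by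
      rw [PowerSeries.isUnit_iff_constantCoeff, map_sum]
      simp only [map_pow, hv0, one_pow, Finset.sum_const, Finset.card_range, nsmul_eq_mul, mul_one]
      exact isUnit_iff_ne_zero.mpr hnk
    have := geom_sum_mul v n
    rw [← this] at h1
    exact (hG.dvd_mul_left).mp h1
  set U := hu.unit with hUdef
  have hUval : (U : PowerSeries k) = u := hu.unit_spec
  set V := hv.unit with hVdef
  have hVval : (V : PowerSeries k) = v := hv.unit_spec
  have hNpos : 0 < N := lt_of_lt_of_le hn hNn
  obtain ⟨q, hq⟩ := (zpow_congr N hNpos V (by rw [hVval]; exact hvdvd) j).1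
  -- the key identity u^p * φ v = v
  have hkey : u ^ p * φ v = v := by
    set W := u ^ p * φ v with hW
    -- φ(v)^n (1 - X^N u^N) = 1
    have h1 : φ v ^ n * (1 - X ^ N * u ^ N) = 1 := by
      have := congrArg φ hvn
      rw [map_mul, map_pow, map_sub, map_one, map_pow, hφX, mul_pow] at this
      exact this
    -- (1 + X^n)^p = 1 + X^(np)
    have h2 : (1 + X ^ n : PowerSeries k) ^ p = 1 + X ^ (n * p) := by
      have : CharP (PowerSeries k) p := by
        apply charP_of_injective_algebraMap (algebraMap k (PowerSeries k)).injective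
      rw [add_pow_char, one_pow, ← pow_mul]
    have h3 : u ^ (n * p) * (1 + X ^ (n * p)) = 1 := by
      rw [← h2, pow_mul, ← mul_pow, hun, one_pow]
    have h4 : u ^ N * (1 + X ^ (n * p)) = 1 + X ^ n := by
      have : (1 + X ^ n : PowerSeries k) ^ p = (1 + X ^ n) ^ (p - 1) * (1 + X ^ n) := by
        rw [← pow_succ]; congr 1; omega
      rw [← h2, this, ← mul_assoc, hN, pow_mul, ← mul_pow, hun, one_pow, one_mul]
    have h5 : u ^ (n * p) * (1 - X ^ N) = 1 - X ^ N * u ^ N := by
      have hne : (1 + X ^ (n * p) : PowerSeries k) ≠ 0 := by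
        intro h0
        have := congrArg constantCoeff h0
        rw [map_add, map_one, map_pow, constantCoeff_X, zero_pow (by positivity), add_zero, map_zero] at this
        exact one_ne_zero this
      apply mul_right_cancel₀ hne
      have e1 : (X : PowerSeries k) ^ (n * p) = X ^ N * X ^ n := by rw [← pow_add, hNnp]
      linear_combination (1 - X ^ N) * h3 + X ^ N * h4 - e1
    have h6 : W ^ n * (1 - X ^ N) = 1 := by
      rw [hW, mul_pow, ← pow_mul, mul_comm p n]
      linear_combination φ v ^ n * h5 + h1
    have hne : (1 - X ^ N : PowerSeries k) ≠ 0 := by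
      intro h0
      have := congrArg constantCoeff h0
      rw [map_sub, map_one, map_pow, constantCoeff_X, zero_pow (by omega), sub_zero, map_zero] at this
      exact one_ne_zero this
    have h7 : W ^ n = v ^ n := mul_right_cancel₀ hne (h6.trans hvn.symm)
    have hφv0 : constantCoeff (φ v) = 1 := by
      have h1 : constantCoeff (subst (X * u) (v - 1)) = 0 :=
        constantCoeff_subst_eq_zero hXu0 (v - 1) (by rw [map_sub, hv0, map_one, sub_self])
      rw [← hφ, map_sub, map_one, map_sub, map_one, sub_eq_zero] at h1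
      exact h1
    have hW0 : constantCoeff W = 1 := by
      rw [hW, map_mul, map_pow, hu1, one_pow, one_mul, hφv0]
    have h8 := Commute.geom_sum₂_mul (Commute.all W v) n
    rw [h7, sub_self] at h8
    have hG : (∑ i ∈ Finset.range n, W ^ i * v ^ (n - 1 - i)) ≠ 0 := by
      intro h0
      have := congrArg constantCoeff h0
      rw [map_sum] at this
      simp only [map_mul, map_pow, hW0, hv0, one_pow, mul_one, Finset.sum_const, Finset.card_range,
        nsmul_eq_mul, map_zero] at this
      exact hnk this
    have := (mul_eq_zero.mp h8).resolve_left hG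
    exact sub_eq_zero.mp this
  -- units version
  have hφv : IsUnit (φ v) := hv.map φ
  have hkeyU : U ^ (p : ℤ) * Units.map (φ : PowerSeries k →* PowerSeries k) V = V := by
    apply Units.ext
    rw [Units.val_mul, zpow_natCast, Units.val_pow_eq_pow_val, Units.coe_map, hUval, hVval]
    exact hkey
  have hkeyj : U ^ (a - m) * (Units.map (φ : PowerSeries k →* PowerSeries k) V) ^ j = V ^ j := by
    rw [hj, zpow_mul, ← mul_zpow, hkeyU]
  -- the solution
  refine ⟨X ^ (N - m) * (-q), ?_⟩
  have hXm : (X : PowerSeries k) ^ m ≠ 0 := pow_ne_zero _ PowerSeries.X_ne_zero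
  apply mul_left_cancel₀ hXm
  rw [hc, ← hφ]
  -- X^m h = 1 - V^j
  have e1 : (X : PowerSeries k) ^ m * (X ^ (N - m) * (-q)) = 1 - ((V ^ j : (PowerSeries k)ˣ) : PowerSeries k) := by
    rw [← mul_assoc, ← pow_add, show m + (N - m) = N by omega]
    linear_combination hq
  have e2 : (X : PowerSeries k) ^ m * u ^ m * φ (X ^ (N - m) * (-q)) =
      1 - ((Units.map (φ : PowerSeries k →* PowerSeries k) V ^ j : (PowerSeries k)ˣ) : PowerSeries k) := by
    have := congrArg φ e1
    rw [map_mul, map_pow, hφX, mul_pow, map_sub, map_one] at this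
    rw [this]
    congr 1
    rw [← map_zpow, Units.coe_map]
    rfl
  have e3 : ((U ^ a : (PowerSeries k)ˣ) : PowerSeries k) =
      ((U ^ (a - m) : (PowerSeries k)ˣ) : PowerSeries k) * u ^ m := by
    rw [← hUval, ← Units.val_pow_eq_pow_val, ← Units.val_mul, ← zpow_natCast U m, ← zpow_add]
    congr 2; ring
  have e4 := congrArg (fun x : (PowerSeries k)ˣ => (x : PowerSeries k)) hkeyj
  simp only [Units.val_mul] at e4
  rw [mul_sub, e1, e3]
  linear_combination ((U ^ (a - m) : (PowerSeries k)ˣ) : PowerSeries k) * e2 - e4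

end Aux

/-- For k an algebraically closed field of characteristic p > 0, n ≥ 1 an integer prime to p, and u ∈
k[[t]] the power series with constant term 1 and u^n · (1 + t^n) = 1, the substitution σ(t) = t·u is
a k-automorphism of k((t)) of order p and, for an integer a, σ acts on the fractional ideal I =
t^a·k[[t]]; transported to B = k[[t]] along h ↦ t^a·h this action is h ↦ u^a · h(t·u). For an
integer i with a − n ≤ i ≤ a − 1 the element σ(t^i) − t^i lies in I, so t^i defines a class in
H^1(⟨σ⟩, I); the classes with p ∤ i form a basis of this H^1, and when p divides i the class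
vanishes, i.e. σ(t^i) − t^i = σ(w) − w for some w ∈ I. (The published statement of this vanishing is
printed with the condition p ∤ i, which contradicts the basis assertion of the same lemma; its proof
treats p | i, and this row states that case.) In transported form, with m = a − i ∈ [1, n] and c ∈
k[[t]] defined by t^m · c = u^i − 1: there is h ∈ k[[t]] with u^a · h(t·u) − h = c. -/
theorem result {k : Type u} [Field k] [IsAlgClosed k] (p : ℕ)
    [Fact p.Prime] [CharP k p] (n : ℕ) (hn : 0 < n) (hpn : ¬ p ∣ n)
    (u : PowerSeries k) (hu1 : PowerSeries.constantCoeff u = 1)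
    (hun : u ^ n * (1 + PowerSeries.X ^ n) = 1) (hu : IsUnit u) (a : ℤ) (m : ℕ)
    (hm1 : 1 ≤ m) (hmn : m ≤ n) (hdvd : (p : ℤ) ∣ a - m) (c : PowerSeries k)
    (hc : PowerSeries.X ^ m * c = ((hu.unit ^ (a - m) : (PowerSeries k)ˣ) : PowerSeries k) - 1) :
    ∃ h : PowerSeries k,
      ((hu.unit ^ a : (PowerSeries k)ˣ) : PowerSeries k) * PowerSeries.subst (PowerSeries.X * u) h - h = c := by
  exact Aux.main p n hn hpn u hu1 hun hu a m hm1 hmn hdvd c hc

end Groth.Agent.S13863
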