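import Groth.Statements.S13877
import Mathlib
import Groth.Agent.S15813
-- import your own Groth.Agent.* helpers here

set_option autoImplicit false
universe u v
open Crimp

namespace Groth.Agent.S13877

open PowerSeries Matrix
namespace Aux

open Groth.Agent.S15813.Aux

section general
variable {R : Type u} {S : Type v} [CommRing R] [CommRing S] [Algebra R S]

lemma discr_span_eq [IsDomain R] {ι : Type*} [Fintype ι] [DecidableEq ι] (b₁ b₂ : Module.Basis ι R S) :
    Ideal.span {Algebra.discr R ⇑b₁} = Ideal.span {Algebra.discr R ⇑b₂} := by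
  set P := b₁.toMatrix b₂ with hP
  have h1 : (⇑b₁ ᵥ* P.map (algebraMap R S)) = ⇑b₂ := by
    funext j
    rw [← b₁.sum_toMatrix_smul_self (v := ⇑b₂) (j := j)]
    simp only [Matrix.vecMul, dotProduct, Matrix.map_apply]
    apply Finset.sum_congr rfl
    intro i _
    rw [Algebra.smul_def, mul_comm]
  have h2 := Algebra.discr_of_matrix_vecMul (A := R) ⇑b₁ P
  rw [h1] at h2
  have hu : IsUnit P.det := by
    have := b₁.isUnit_det b₂
    rwa [Module.Basis.det_apply] at this
  rw [Ideal.span_singleton_eq_span_singleton]
  obtain ⟨u, hu'⟩ := hu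
  refine ⟨u ^ 2, ?_⟩
  rw [h2, Units.val_pow_eq_pow_val, hu']; ring

end general

theorem main {k : Type u} [Field k] [IsAlgClosed k] [CharZero k]
    {St : Type v} [CommRing St] [Algebra (PowerSeries k) St] (d a b : ℕ)
    (bt : Module.Basis (Fin d) (PowerSeries k) St)
    (ha : Ideal.span {Algebra.discr (PowerSeries k) ⇑bt} = Ideal.span {(PowerSeries.X : PowerSeries k) ^ a})
    (S : Subalgebra (PowerSeries k) St) (bS : Module.Basis (Fin d) (PowerSeries k) S)
    (hb : Ideal.span {Algebra.discr (PowerSeries k) ⇑bS} = Ideal.span {(PowerSeries.X : PowerSeries k) ^ b}) :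
    (∀ q : St ⧸ Subalgebra.toSubmodule S, ((PowerSeries.X : PowerSeries k) ^ b) • q = 0) ∧
    2 * Module.length (PowerSeries k) (St ⧸ Subalgebra.toSubmodule S) + (a : ℕ∞) = (b : ℕ∞) := by
  classical
  set R := PowerSeries k with hR
  set N := Subalgebra.toSubmodule S with hN
  let bN : Module.Basis (Fin d) R N := bS.map (Subalgebra.toSubmoduleEquiv S).symm
  have hrank : Module.finrank R N = Module.finrank R St := by
    rw [Module.finrank_eq_card_basis bN, Module.finrank_eq_card_basis bt]
  -- Smith normal form data
  set b' := Submodule.smithNormalFormTopBasis bt hrank with hb'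
  set ab := Submodule.smithNormalFormBotBasis bt hrank with hab
  set c := Submodule.smithNormalFormCoeffs bt hrank with hc
  have hab_eq : ∀ i, (ab i : St) = c i • b' i := Submodule.smithNormalFormBotBasis_def bt hrank
  have hc0 : ∀ i, c i ≠ 0 := Submodule.smithNormalFormCoeffs_ne_zero bt hrank
  let abS : Module.Basis (Fin d) R S := ab.map (Subalgebra.toSubmoduleEquiv S)
  have habS : ∀ i, ((abS i : S) : St) = c i • b' i := fun i => hab_eq i
  -- trace comparison
  have htrace : ∀ x : S, Algebra.trace R S x = Algebra.trace R St (x : St) := by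
    intro x
    rw [Algebra.trace_eq_matrix_trace abS, Algebra.trace_eq_matrix_trace b']
    simp only [Matrix.trace, Matrix.diag_apply]
    apply Finset.sum_congr rfl
    intro j _
    rw [Algebra.leftMulMatrix_eq_repr_mul, Algebra.leftMulMatrix_eq_repr_mul]
    set cc := abS.repr (x * abS j) with hcc
    have h1 : x * abS j = ∑ l, cc l • abS l := (abS.sum_repr (x * abS j)).symm
    have h2 : (x : St) * (c j • b' j) = ∑ l, cc l • c l • b' l := by
      have := congrArg (fun y : S => (y : St)) h1
      simp only [Subalgebra.coe_mul, AddSubmonoidClass.coe_finsetSum, Subalgebra.coe_smul, habS] at this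
      exact this
    have h3 := congrArg (fun y => b'.repr y j) h2
    simp only [mul_smul_comm, map_smul, Finsupp.smul_apply, map_sum, Finsupp.coe_finsetSum,
      Finset.sum_apply, Module.Basis.repr_self, smul_eq_mul] at h3
    rw [Finset.sum_eq_single j] at h3
    · rw [Finsupp.single_eq_same, mul_one] at h3
      have h4 : c j * (b'.repr ((x : St) * b' j) j) = c j * cc j := by rw [h3]; ring
      exact (mul_left_cancel₀ (hc0 j) h4).symm
    · intro l _ hl
      rw [Finsupp.single_eq_of_ne hl.symm, mul_zero, mul_zero]
    · intro h; exact absurd (Finset.mem_univ j) h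
  -- discriminants
  have hdisc1 : Algebra.discr R (⇑abS) = Algebra.discr R (fun i => c i • b' i) := by
    rw [Algebra.discr_def, Algebra.discr_def]
    congr 1
    ext i j
    rw [Algebra.traceMatrix_apply, Algebra.traceMatrix_apply, Algebra.traceForm_apply,
      Algebra.traceForm_apply, htrace, Subalgebra.coe_mul, habS, habS]
  have hdisc2 : Algebra.discr R (fun i => c i • b' i) = (∏ i, c i) ^ 2 * Algebra.discr R ⇑b' := by
    have h1 := Algebra.discr_of_matrix_vecMul (A := R) ⇑b' (Matrix.diagonal c)
    rw [Matrix.det_diagonal] at h1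
    rw [← h1]
    congr 1
    funext j
    rw [Matrix.diagonal_map (map_zero _), Matrix.vecMul_diagonal, Algebra.smul_def, mul_comm]
  have hspan : Ideal.span {(X : R) ^ b} = Ideal.span {(∏ i, c i) ^ 2 * (X : R) ^ a} := by
    rw [← hb, discr_span_eq bS abS, hdisc1, hdisc2, ← Ideal.span_singleton_mul_span_singleton,
      discr_span_eq b' bt, ha, Ideal.span_singleton_mul_span_singleton]
  -- orders
  have hrep : ∀ i, ∃ (e : ℕ) (w : R), IsUnit w ∧ c i = X ^ e * w := fun i => exists_unit_mul (c i) (hc0 i)
  choose e w hw hcw using hrep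
  have hprod : ∏ i, c i = X ^ (∑ i, e i) * ∏ i, w i := by
    rw [← Finset.prod_pow_eq_pow_sum, ← Finset.prod_mul_distrib]
    exact Finset.prod_congr rfl (fun i _ => hcw i)
  have hwu : IsUnit (∏ i, w i) :=
    Submonoid.prod_mem (IsUnit.submonoid R) (fun i _ => hw i)
  have hbeq : b = 2 * (∑ i, e i) + a := by
    rw [Ideal.span_singleton_eq_span_singleton] at hspan
    obtain ⟨uu, huu⟩ := hspan
    have h1 : (X : R) ^ b * (uu : R) = X ^ (2 * (∑ i, e i) + a) * (∏ i, w i) ^ 2 := by
      rw [huu, hprod, pow_add, pow_mul']; ring
    exact eq_of_X_pow_mul_unit uu.isUnit (hwu.pow 2) h1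
  have hspan_c : ∀ i, Ideal.span {c i} = IsLocalRing.maximalIdeal R ^ (e i) := by
    intro i
    rw [PowerSeries.maximalIdeal_eq_span_X, Ideal.span_singleton_pow, hcw i,
      Ideal.span_singleton_mul_right_unit (hw i)]
  let E := Submodule.quotientEquivPiSpan N bt hrank
  constructor
  · intro q
    apply E.injective
    rw [map_smul, map_zero]
    funext i
    rw [Pi.smul_apply, Pi.zero_apply]
    obtain ⟨r, hr⟩ := Ideal.Quotient.mk_surjective (E q i)
    rw [← hr, Algebra.smul_def, Ideal.Quotient.algebraMap_eq, ← map_mul, Ideal.Quotient.eq_zero_iff_mem,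
      Ideal.mem_span_singleton]
    apply Dvd.dvd.mul_right
    have hle : e i ≤ b := by
      have : e i ≤ ∑ j, e j := Finset.single_le_sum (f := e) (fun _ _ => Nat.zero_le _) (Finset.mem_univ i)
      omega
    obtain ⟨wi, hwi⟩ := (hw i).exists_right_inv
    refine ⟨wi * X ^ (b - e i), ?_⟩
    change (X : R) ^ b = c i * (wi * X ^ (b - e i))
    rw [hcw i]
    have : (X : R) ^ b = X ^ (e i) * X ^ (b - e i) := by rw [← pow_add]; congr 1; omega
    rw [this]
    linear_combination (-(X : R) ^ (e i) * X ^ (b - e i)) * hwi
  · have hlen : Module.length R (St ⧸ N) = ((∑ i, e i : ℕ) : ℕ∞) := by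
      rw [E.length_eq, Module.length_pi_of_fintype]
      push_cast
      apply Finset.sum_congr rfl
      intro i _
      have h1 : ∀ I J : Ideal R, I = J → Module.length R (R ⧸ I) = Module.length R (R ⧸ J) := by
        rintro I J rfl; rfl
      change Module.length R (R ⧸ Ideal.span {c i}) = _
      rw [h1 _ _ (hspan_c i), IsDiscreteValuationRing.length_quotient_pow_maximalIdeal]
    rw [hlen, hbeq]
    push_cast
    ring

end Aux

/-- Over R = k⟦t⟧ with k an algebraically closed field of characteristic zero, let S' be a commutative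
R-algebra with an R-basis of size d whose discriminant generates the ideal (t ^ a) (a finite cover
of the formal disk of degree d, unramified over the punctured disk, with branch divisor (t ^ a)),
and let S be an R-subalgebra of S' with an R-basis of size d whose discriminant generates (t ^ b) (a
crimp with branch divisor (t ^ b)). Then t ^ b annihilates S' / S and twice the R-length of S' / S
plus a equals b. (The published statement is for a family of such subalgebras over a k-scheme T and
also asserts T-flatness of the quotient; this row is its restriction to T a point.) -/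
theorem result {k : Type u} [Field k] [IsAlgClosed k] [CharZero k]
    {St : Type v} [CommRing St] [Algebra (PowerSeries k) St] (d a b : ℕ)
    (bt : Module.Basis (Fin d) (PowerSeries k) St)
    (ha : Ideal.span {Algebra.discr (PowerSeries k) ⇑bt} = Ideal.span {(PowerSeries.X : PowerSeries k) ^ a})
    (S : Subalgebra (PowerSeries k) St) (bS : Module.Basis (Fin d) (PowerSeries k) S)
    (hb : Ideal.span {Algebra.discr (PowerSeries k) ⇑bS} = Ideal.span {(PowerSeries.X : PowerSeries k) ^ b}) :
    (∀ q : St ⧸ Subalgebra.toSubmodule S, ((PowerSeries.X : PowerSeries k) ^ b) • q = 0) ∧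
    2 * Module.length (PowerSeries k) (St ⧸ Subalgebra.toSubmodule S) + (a : ℕ∞) = (b : ℕ∞) := by
  exact Aux.main d a b bt ha S bS hb

end Groth.Agent.S13877
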