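import Groth.Statements.S13878
import Mathlib
import Groth.Agent.S15813
-- import your own Groth.Agent.* helpers here

set_option autoImplicit false
universe u
open Crimp

namespace Groth.Agent.S13878

open PowerSeries
namespace Aux

open Groth.Agent.S15813.Aux

lemma cases_three (i₀ j l i : Fin 3) (h1 : j ≠ i₀) (h2 : l ≠ i₀) (h3 : j ≠ l) :
    i = i₀ ∨ i = j ∨ i = l := by
  revert i₀ j l i; decide

lemma sum_three {α : Type*} [AddCommMonoid α] (i₀ j l : Fin 3) (h1 : j ≠ i₀) (h2 : l ≠ i₀)
    (h3 : j ≠ l) (f : Fin 3 → α) : ∑ i, f i = f i₀ + f j + f l := by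
  have hnot : i₀ ∉ ({j, l} : Finset (Fin 3)) := by
    simp only [Finset.mem_insert, Finset.mem_singleton, not_or]
    exact ⟨h1.symm, h2.symm⟩
  have huniv : (Finset.univ : Finset (Fin 3)) = {i₀, j, l} := by
    symm
    apply Finset.eq_univ_of_card
    rw [Finset.card_insert_of_notMem hnot, Finset.card_pair h3]
    rfl
  rw [huniv, Finset.sum_insert hnot, Finset.sum_pair h3, add_assoc]

lemma exists_other (i₀ : Fin 3) (c : Fin 3 → ℕ) :
    ∃ j l : Fin 3, j ≠ i₀ ∧ l ≠ i₀ ∧ j ≠ l ∧ c j ≤ c l := by
  fin_cases i₀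
  · rcases le_total (c 1) (c 2) with h | h
    · exact ⟨1, 2, by decide, by decide, by decide, h⟩
    · exact ⟨2, 1, by decide, by decide, by decide, h⟩
  · rcases le_total (c 0) (c 2) with h | h
    · exact ⟨0, 2, by decide, by decide, by decide, h⟩
    · exact ⟨2, 0, by decide, by decide, by decide, h⟩
  · rcases le_total (c 0) (c 1) with h | h
    · exact ⟨0, 1, by decide, by decide, by decide, h⟩
    · exact ⟨1, 0, by decide, by decide, by decide, h⟩

section
variable {k : Type u} [Field k]

lemma smul_quot_eq_zero (I : Ideal (PowerSeries k)) (r : PowerSeries k) (hr : r ∈ I)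
    (y : PowerSeries k ⧸ I) : r • y = 0 := by
  obtain ⟨s, rfl⟩ := Ideal.Quotient.mk_surjective y
  change Ideal.Quotient.mk I (r • s) = 0
  rw [Ideal.Quotient.eq_zero_iff_mem, smul_eq_mul]
  exact I.mul_mem_right _ hr

lemma smul_mk_one (I : Ideal (PowerSeries k)) (r : PowerSeries k) :
    r • (Ideal.Quotient.mk I 1) = Ideal.Quotient.mk I r := by
  change Ideal.Quotient.mk I (r • 1) = _
  rw [smul_eq_mul, mul_one]

lemma X_pow_dvd_X_pow_of_le {a b : ℕ} (h : a ≤ b) : (X : PowerSeries k) ^ a ∣ X ^ b :=
  pow_dvd_pow _ h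

lemma le_of_X_pow_mul_unit_dvd {c n : ℕ} {w : PowerSeries k} (hw : IsUnit w)
    (h : (X : PowerSeries k) ^ c * w ∣ X ^ n) : c ≤ n := by
  obtain ⟨v, hv⟩ := h
  have h1 := congrArg order hv
  rw [order_X_pow, mul_assoc, order_mul, order_X_pow] at h1
  have : (c : ℕ∞) ≤ n := by rw [h1]; exact le_self_add
  exact_mod_cast this

lemma length_quot_X_pow (c : ℕ) :
    Module.length (PowerSeries k) (PowerSeries k ⧸ Ideal.span {(X : PowerSeries k) ^ c}) = c := by
  have h1 : ∀ I J : Ideal (PowerSeries k), I = J →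
      Module.length (PowerSeries k) (PowerSeries k ⧸ I) = Module.length (PowerSeries k) (PowerSeries k ⧸ J) := by
    rintro I J rfl; rfl
  have h2 : Ideal.span {(X : PowerSeries k) ^ c} = IsLocalRing.maximalIdeal (PowerSeries k) ^ c := by
    rw [PowerSeries.maximalIdeal_eq_span_X, Ideal.span_singleton_pow]
  rw [h1 _ _ h2, IsDiscreteValuationRing.length_quotient_pow_maximalIdeal]

end

lemma final_identity {R M : Type*} [CommRing R] [AddCommGroup M] [Module R M] (one bj bl : M)
    (ai mi li Xm wj tj Xn wl tl muj mul : R) :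
    (ai * mi) • (li • (one - (Xm * wj * tj) • bj - (Xn * wl * tl) • bl)) + (Xm * wj * muj) • bj +
      (Xn * wl * mul) • bl =
    (ai * mi * li) • one + (wj * (muj - ai * mi * li * tj)) • (Xm • bj) +
      Xn • ((wl * (mul - ai * mi * li * tl)) • bl) := by
  module

theorem main {k : Type u} [Field k] [IsAlgClosed k] [CharZero k] (m n : ℕ) (hmn : m ≤ n)
    (S : Submodule (PowerSeries k) (Fin 3 → PowerSeries k))
    (h1 : (1 : (Fin 3 → PowerSeries k)) ∈ S)
    (e : ((Fin 3 → PowerSeries k) ⧸ S) ≃ₗ[PowerSeries k]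
      ((PowerSeries k ⧸ Ideal.span {(PowerSeries.X : PowerSeries k) ^ m}) × (PowerSeries k ⧸ Ideal.span {(PowerSeries.X : PowerSeries k) ^ n}))) :
    Ideal.span {(PowerSeries.X : PowerSeries k) ^ n} • (⊤ : Submodule (PowerSeries k) (Fin 3 → PowerSeries k)) ≤ S ∧
    ∃ f : (Fin 3 → PowerSeries k),
      f ∉ Submodule.span (PowerSeries k) {(1 : (Fin 3 → PowerSeries k))} ⊔ Ideal.span {(PowerSeries.X : PowerSeries k)} • (⊤ : Submodule (PowerSeries k) (Fin 3 → PowerSeries k)) ∧
      S = Submodule.span (PowerSeries k) {(1 : (Fin 3 → PowerSeries k)), ((PowerSeries.X : PowerSeries k) ^ m) • f} ⊔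
        Ideal.span {(PowerSeries.X : PowerSeries k) ^ n} • (⊤ : Submodule (PowerSeries k) (Fin 3 → PowerSeries k)) := by
  classical
  -- X^n kills the quotient
  have hkillq : ∀ q : (Fin 3 → PowerSeries k) ⧸ S, (X : (PowerSeries k)) ^ n • q = 0 := by
    intro q
    apply e.injective
    rw [map_smul, map_zero]
    apply Prod.ext
    · rw [Prod.smul_fst, Prod.fst_zero]
      exact smul_quot_eq_zero _ _ (Ideal.mem_span_singleton.mpr (X_pow_dvd_X_pow_of_le hmn)) _
    · rw [Prod.smul_snd, Prod.snd_zero]
      exact smul_quot_eq_zero _ _ (Ideal.mem_span_singleton_self _) _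
  have hkill : ∀ s : (Fin 3 → PowerSeries k), (X : (PowerSeries k)) ^ n • s ∈ S := by
    intro s
    rw [← Submodule.Quotient.mk_eq_zero, Submodule.Quotient.mk_smul]
    exact hkillq _
  have hpart1 : Ideal.span {(X : (PowerSeries k)) ^ n} • (⊤ : Submodule (PowerSeries k) (Fin 3 → PowerSeries k)) ≤ S := by
    rw [Submodule.smul_le]
    intro r hr s _
    obtain ⟨c, rfl⟩ := Ideal.mem_span_singleton'.mp hr
    rw [mul_smul]
    exact S.smul_mem _ (hkill s)
  refine ⟨hpart1, ?_⟩
  -- full rank
  have hrank : Module.finrank (PowerSeries k) S = Module.finrank (PowerSeries k) (Fin 3 → PowerSeries k) := by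
    apply le_antisymm (Submodule.finrank_le S)
    let φ : (Fin 3 → PowerSeries k) →ₗ[(PowerSeries k)] S := LinearMap.codRestrict S (LinearMap.lsmul (PowerSeries k) (Fin 3 → PowerSeries k) ((X : (PowerSeries k)) ^ n)) (fun s => hkill s)
    have hφ : Function.Injective φ := by
      intro s t hst
      have := congrArg Subtype.val hst
      change (X : (PowerSeries k)) ^ n • s = (X : (PowerSeries k)) ^ n • t at this
      exact smul_right_injective (Fin 3 → PowerSeries k) (pow_ne_zero n X_ne_zero) this
    exact LinearMap.finrank_le_finrank_of_injective hφ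
  let bt : Module.Basis (Fin 3) (PowerSeries k) (Fin 3 → PowerSeries k) := Pi.basisFun (PowerSeries k) (Fin 3)
  set b' := Submodule.smithNormalFormTopBasis bt hrank with hb'
  set ab := Submodule.smithNormalFormBotBasis bt hrank with hab
  set a := Submodule.smithNormalFormCoeffs bt hrank with hadef
  have hab_eq : ∀ i, (ab i : (Fin 3 → PowerSeries k)) = a i • b' i := Submodule.smithNormalFormBotBasis_def bt hrank
  have ha0 : ∀ i, a i ≠ 0 := Submodule.smithNormalFormCoeffs_ne_zero bt hrank
  have hmem : ∀ x : (Fin 3 → PowerSeries k), x ∈ S ↔ ∀ i, a i ∣ b'.repr x i := by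
    intro x
    simp_rw [ab.mem_submodule_iff', hab_eq]
    have : ∀ (c : Fin 3 → (PowerSeries k)) (i), b'.repr (∑ j : Fin 3, c j • a j • b' j) i = a i * c i := by
      intro c i
      simp only [← mul_smul, b'.repr_sum_self, mul_comm]
    constructor
    · rintro ⟨c, rfl⟩ i
      exact ⟨c i, this c i⟩
    · rintro ha
      choose c hc using ha
      exact ⟨c, b'.ext_elem fun i => Eq.trans (hc i) (this c i).symm⟩
  -- coordinates of 1
  set lam := b'.repr (1 : (Fin 3 → PowerSeries k)) with hlam
  have hone : (1 : (Fin 3 → PowerSeries k)) = ∑ i, lam i • b' i := (b'.sum_repr 1).symm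
  have hlamdvd : ∀ i, a i ∣ lam i := (hmem 1).mp h1
  obtain ⟨i₀, hi₀⟩ : ∃ i₀, IsUnit (lam i₀) := by
    by_contra hcon
    push Not at hcon
    have hX : ∀ i, (X : (PowerSeries k)) ∣ lam i := by
      intro i
      rw [X_dvd_iff]
      by_contra h0
      exact hcon i (isUnit_of_cc h0)
    choose mu hmu using hX
    have h2 : (1 : (Fin 3 → PowerSeries k)) = (X : (PowerSeries k)) • ∑ i, mu i • b' i := by
      rw [hone, Finset.smul_sum]
      apply Finset.sum_congr rfl
      intro i _
      rw [hmu i, mul_smul]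
    have h3 := congrFun h2 0
    rw [Pi.one_apply, Pi.smul_apply, smul_eq_mul] at h3
    have : IsUnit (X : (PowerSeries k)) := IsUnit.of_mul_eq_one _ h3.symm
    have := cc_ne_zero_of_isUnit this
    simp at this
  -- exponents
  have hrep : ∀ i, ∃ (c : ℕ) (w : (PowerSeries k)), IsUnit w ∧ a i = X ^ c * w := fun i => exists_unit_mul (a i) (ha0 i)
  choose c w hw hcw using hrep
  have hc0 : c i₀ = 0 := by
    have hau : IsUnit (a i₀) := isUnit_of_dvd_unit (hlamdvd i₀) hi₀
    have : (X : (PowerSeries k)) ^ (c i₀) * w i₀ = X ^ 0 * a i₀ := by rw [pow_zero, one_mul, hcw i₀]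
    exact eq_of_X_pow_mul_unit (hw i₀) hau this
  obtain ⟨j, l, hj, hl, hjl, hcjl⟩ := exists_other i₀ c
  let E := Submodule.quotientEquivPiSpan S bt hrank
  -- length
  have hlen1 : Module.length (PowerSeries k) ((Fin 3 → PowerSeries k) ⧸ S) = ((∑ i, c i : ℕ) : ℕ∞) := by
    rw [E.length_eq, Module.length_pi_of_fintype]
    push_cast
    apply Finset.sum_congr rfl
    intro i _
    change Module.length (PowerSeries k) ((PowerSeries k) ⧸ Ideal.span {a i}) = _
    have h1 : ∀ I J : Ideal (PowerSeries k), I = J → Module.length (PowerSeries k) ((PowerSeries k) ⧸ I) = Module.length (PowerSeries k) ((PowerSeries k) ⧸ J) := by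
      rintro I J rfl; rfl
    have h2 : Ideal.span {a i} = Ideal.span {(X : (PowerSeries k)) ^ (c i)} := by
      rw [hcw i, Ideal.span_singleton_mul_right_unit (hw i)]
    rw [h1 _ _ h2, length_quot_X_pow]
  have hlen2 : Module.length (PowerSeries k) ((Fin 3 → PowerSeries k) ⧸ S) = ((m + n : ℕ) : ℕ∞) := by
    rw [e.length_eq, Module.length_prod, length_quot_X_pow, length_quot_X_pow]
    push_cast; rfl
  have hsum : c j + c l = m + n := by
    have : ((∑ i, c i : ℕ) : ℕ∞) = ((m + n : ℕ) : ℕ∞) := by rw [← hlen1, hlen2]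
    have h3 : ∑ i, c i = m + n := by exact_mod_cast this
    rw [sum_three i₀ j l hj hl hjl c, hc0, zero_add] at h3
    exact h3
  -- annihilator
  have hcl_le : c l ≤ n := by
    have h2 := hkillq (E.symm (Pi.single l (Ideal.Quotient.mk _ 1)))
    have h3 := congrArg E h2
    rw [map_smul, LinearEquiv.apply_symm_apply, map_zero] at h3
    have h4 := congrFun h3 l
    rw [Pi.smul_apply, Pi.single_eq_same, Pi.zero_apply, smul_mk_one, Ideal.Quotient.eq_zero_iff_mem,
      Ideal.mem_span_singleton] at h4
    have h5 : a l ∣ (X : (PowerSeries k)) ^ n := h4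
    rw [hcw l] at h5
    exact le_of_X_pow_mul_unit_dvd (hw l) h5
  have hn_le : n ≤ c l := by
    have hall : ∀ i, a i ∣ (X : (PowerSeries k)) ^ (c l) := by
      intro i
      have hci : c i ≤ c l := by
        have : i = i₀ ∨ i = j ∨ i = l := cases_three i₀ j l i hj hl hjl
        rcases this with rfl | rfl | rfl
        · rw [hc0]; exact Nat.zero_le _
        · exact hcjl
        · exact le_rfl
      rw [hcw i]
      obtain ⟨wi, hwi⟩ := (hw i).exists_right_inv
      refine ⟨wi * X ^ (c l - c i), ?_⟩
      have : (X : (PowerSeries k)) ^ (c l) = X ^ (c i) * X ^ (c l - c i) := by rw [← pow_add]; congr 1; omega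
      rw [this]
      linear_combination (-(X : (PowerSeries k)) ^ (c i) * X ^ (c l - c i)) * hwi
    have hk : ∀ q : (Fin 3 → PowerSeries k) ⧸ S, (X : (PowerSeries k)) ^ (c l) • q = 0 := by
      intro q
      apply E.injective
      rw [map_smul, map_zero]
      funext i
      rw [Pi.smul_apply, Pi.zero_apply]
      exact smul_quot_eq_zero _ _ (Ideal.mem_span_singleton.mpr (hall i)) _
    have h2 := hk (e.symm (0, Ideal.Quotient.mk _ 1))
    have h3 := congrArg e h2
    rw [map_smul, LinearEquiv.apply_symm_apply, map_zero] at h3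
    have h4 := congrArg Prod.snd h3
    rw [Prod.smul_snd, Prod.snd_zero, smul_mk_one, Ideal.Quotient.eq_zero_iff_mem,
      Ideal.mem_span_singleton] at h4
    have h5 : (X : (PowerSeries k)) ^ n * 1 ∣ X ^ (c l) := by rwa [mul_one]
    exact le_of_X_pow_mul_unit_dvd isUnit_one h5
  have hcl : c l = n := le_antisymm hcl_le hn_le
  have hcj : c j = m := by omega
  -- the element f
  have hrepr_b : ∀ i i', b'.repr (b' i) i' = if i' = i then 1 else 0 := by
    intro i i'
    rw [Module.Basis.repr_self, Finsupp.single_apply]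
    by_cases h : i = i'
    · rw [if_pos h, if_pos h.symm]
    · rw [if_neg h, if_neg (fun h' => h h'.symm)]
  refine ⟨b' j, ?_, ?_⟩
  · -- f ∉ (PowerSeries k)·1 + X S'
    intro hf
    obtain ⟨y, hy, z, hz, hyz⟩ := Submodule.mem_sup.mp hf
    obtain ⟨α, rfl⟩ := Submodule.mem_span_singleton.mp hy
    rw [Submodule.ideal_span_singleton_smul] at hz
    obtain ⟨s, -, rfl⟩ := hz
    change α • (1 : (Fin 3 → PowerSeries k)) + (X : (PowerSeries k)) • s = b' j at hyz
    have h2 := fun i => congrArg (fun y => b'.repr y i) hyz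
    simp only [map_add, map_smul, Finsupp.add_apply, Finsupp.smul_apply, smul_eq_mul] at h2
    have h3 := h2 i₀
    rw [hrepr_b, if_neg hj.symm] at h3
    have hα : (X : (PowerSeries k)) ∣ α := by
      obtain ⟨li, hli⟩ := hi₀.exists_right_inv
      refine ⟨-(b'.repr s i₀) * li, ?_⟩
      have : α = α * (lam i₀ * li) := by rw [hli, mul_one]
      rw [this]
      linear_combination li * h3
    have h4 := h2 j
    rw [hrepr_b, if_pos rfl] at h4
    obtain ⟨α', rfl⟩ := hα
    have : IsUnit (X : (PowerSeries k)) := IsUnit.of_mul_eq_one (α' * b'.repr 1 j + b'.repr s j) (by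
      linear_combination h4)
    have := cc_ne_zero_of_isUnit this
    simp at this
  · apply le_antisymm
    · -- S ≤ RHS
      intro x hx
      have hxd := (hmem x).mp hx
      choose mu hmu using hxd
      obtain ⟨li, hli⟩ := hi₀.exists_right_inv
      obtain ⟨tj, htj⟩ := hlamdvd j
      obtain ⟨tl, htl⟩ := hlamdvd l
      set ν := a i₀ * mu i₀ * li with hν
      have hx1 : x = ∑ i, (b'.repr x i) • b' i := (b'.sum_repr x).symm
      rw [sum_three i₀ j l hj hl hjl] at hx1
      have hone' := hone
      rw [sum_three i₀ j l hj hl hjl] at hone'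
      -- b' i₀ in terms of 1
      have hbi : b' i₀ = li • ((1 : (Fin 3 → PowerSeries k)) - lam j • b' j - lam l • b' l) := by
        rw [hone']
        have : lam i₀ • b' i₀ + lam j • b' j + lam l • b' l - lam j • b' j - lam l • b' l =
            lam i₀ • b' i₀ := by abel
        rw [this, smul_smul, mul_comm, hli, one_smul]
      have hlamj : lam j = X ^ m * w j * tj := by rw [htj, hcw j, hcj]
      have hlaml : lam l = X ^ n * w l * tl := by rw [htl, hcw l, hcl]
      have hxj : b'.repr x j = X ^ m * w j * mu j := by rw [hmu j, hcw j, hcj]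
      have hxl : b'.repr x l = X ^ n * w l * mu l := by rw [hmu l, hcw l, hcl]
      have hx2 : x = ν • (1 : (Fin 3 → PowerSeries k)) + (w j * (mu j - ν * tj)) • ((X : (PowerSeries k)) ^ m • b' j) +
          (X : (PowerSeries k)) ^ n • ((w l * (mu l - ν * tl)) • b' l) := by
        calc x = (b'.repr x i₀) • b' i₀ + (b'.repr x j) • b' j + (b'.repr x l) • b' l := hx1
          _ = (a i₀ * mu i₀) • (li • ((1 : (Fin 3 → PowerSeries k)) - (X ^ m * w j * tj) • b' j - (X ^ n * w l * tl) • b' l)) +
              (X ^ m * w j * mu j) • b' j + (X ^ n * w l * mu l) • b' l := by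
            rw [hmu i₀, hxj, hxl, ← hlamj, ← hlaml, ← hbi]
          _ = _ := by rw [hν]; exact final_identity _ _ _ _ _ _ _ _ _ _ _ _ _ _
      rw [hx2]
      refine Submodule.add_mem _ (Submodule.mem_sup_left ?_) (Submodule.mem_sup_right ?_)
      · exact Submodule.add_mem _ (Submodule.smul_mem _ _ (Submodule.subset_span (by simp)))
          (Submodule.smul_mem _ _ (Submodule.subset_span (by simp)))
      · rw [Submodule.ideal_span_singleton_smul]
        exact ⟨_, Submodule.mem_top, rfl⟩
    · -- RHS ≤ S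
      apply sup_le _ hpart1
      rw [Submodule.span_le]
      intro x hx
      rcases hx with rfl | rfl
      · exact h1
      · change (X : (PowerSeries k)) ^ m • b' j ∈ S
        rw [hmem]
        intro i
        rw [map_smul, Finsupp.smul_apply, hrepr_b]
        by_cases h : i = j
        · rw [if_pos h, smul_eq_mul, mul_one, h, hcw j, hcj]
          obtain ⟨wi, hwi⟩ := (hw j).exists_right_inv
          exact ⟨wi, by linear_combination (-(X : (PowerSeries k)) ^ m) * hwi⟩
        · rw [if_neg h, smul_zero]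
          exact dvd_zero _

end Aux

/-- Over R = k⟦t⟧ with k an algebraically closed field of characteristic zero, let S' = R × R × R (the
unramified triple cover of the formal disk) and let S be an R-submodule of S' containing 1 such that
S' / S is isomorphic to R / (t ^ m) ⊕ R / (t ^ n) with m ≤ n. Then t ^ n S' is contained in S, and
there is f in S', not lying in R·1 + t S', such that S = R·1 + R·(t ^ m f) + t ^ n S'. -/
theorem result {k : Type u} [Field k] [IsAlgClosed k] [CharZero k] (m n : ℕ) (hmn : m ≤ n)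
    (S : Submodule (PowerSeries k) (Fin 3 → PowerSeries k))
    (h1 : (1 : (Fin 3 → PowerSeries k)) ∈ S)
    (e : ((Fin 3 → PowerSeries k) ⧸ S) ≃ₗ[PowerSeries k]
      ((PowerSeries k ⧸ Ideal.span {(PowerSeries.X : PowerSeries k) ^ m}) × (PowerSeries k ⧸ Ideal.span {(PowerSeries.X : PowerSeries k) ^ n}))) :
    Ideal.span {(PowerSeries.X : PowerSeries k) ^ n} • (⊤ : Submodule (PowerSeries k) (Fin 3 → PowerSeries k)) ≤ S ∧
    ∃ f : (Fin 3 → PowerSeries k),
      f ∉ Submodule.span (PowerSeries k) {(1 : (Fin 3 → PowerSeries k))} ⊔ Ideal.span {(PowerSeries.X : PowerSeries k)} • (⊤ : Submodule (PowerSeries k) (Fin 3 → PowerSeries k)) ∧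
      S = Submodule.span (PowerSeries k) {(1 : (Fin 3 → PowerSeries k)), ((PowerSeries.X : PowerSeries k) ^ m) • f} ⊔
        Ideal.span {(PowerSeries.X : PowerSeries k) ^ n} • (⊤ : Submodule (PowerSeries k) (Fin 3 → PowerSeries k)) := by
  exact Aux.main m n hmn S h1 e

end Groth.Agent.S13878
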