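import Groth.Statements.S13879
import Mathlib

set_option autoImplicit false
universe u
open Crimp

namespace Groth.Agent.S13879

/-- Over R = k⟦t⟧ with k an algebraically closed field of characteristic zero, let S' = R × R × R and
let S be the R-submodule R·1 + R·(t ^ m f) + t ^ n S' of S' for some f in S' and natural numbers m,
n. Then S is closed under multiplication (equivalently, is an R-subalgebra of S') if and only if t ^
(2m) f ^ 2 lies in S. (The published statement has m ≤ n and S' / S isomorphic to R / (t ^ m) ⊕ R /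
(t ^ n), under which S has this shape; this row states the criterion for every submodule of this
shape.) -/
theorem result {k : Type u} [Field k] [IsAlgClosed k] [CharZero k] (m n : ℕ) (f : (Fin 3 → PowerSeries k))
    (S : Submodule (PowerSeries k) (Fin 3 → PowerSeries k))
    (hS : S = Submodule.span (PowerSeries k) {(1 : (Fin 3 → PowerSeries k)), ((PowerSeries.X : PowerSeries k) ^ m) • f} ⊔
        Ideal.span {(PowerSeries.X : PowerSeries k) ^ n} • (⊤ : Submodule (PowerSeries k) (Fin 3 → PowerSeries k))) :
    (∀ x ∈ S, ∀ y ∈ S, x * y ∈ S) ↔ ((PowerSeries.X : PowerSeries k) ^ (2 * m)) • (f * f) ∈ S := by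
  have hgg : (((PowerSeries.X : PowerSeries k) ^ m) • f) * (((PowerSeries.X : PowerSeries k) ^ m) • f) =
      ((PowerSeries.X : PowerSeries k) ^ (2 * m)) • (f * f) := by
    rw [smul_mul_smul_comm, ← pow_add, two_mul]
  have hgS : ((PowerSeries.X : PowerSeries k) ^ m) • f ∈ S := by
    rw [hS]; exact Submodule.mem_sup_left (Submodule.subset_span (by simp))
  constructor
  · intro h
    rw [← hgg]; exact h _ hgS _ hgS
  · intro h
    rw [← hgg] at h
    have hBmem : ∀ b, b ∈ Ideal.span {(PowerSeries.X : PowerSeries k) ^ n} •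
        (⊤ : Submodule (PowerSeries k) (Fin 3 → PowerSeries k)) ↔
        ∃ v : Fin 3 → PowerSeries k, ((PowerSeries.X : PowerSeries k) ^ n) • v = b := by
      intro b
      rw [Submodule.ideal_span_singleton_smul, Submodule.mem_smul_pointwise_iff_exists]
      simp
    have hBS : Ideal.span {(PowerSeries.X : PowerSeries k) ^ n} •
        (⊤ : Submodule (PowerSeries k) (Fin 3 → PowerSeries k)) ≤ S := by
      rw [hS]; exact le_sup_right
    have hBmul : ∀ b ∈ Ideal.span {(PowerSeries.X : PowerSeries k) ^ n} •
        (⊤ : Submodule (PowerSeries k) (Fin 3 → PowerSeries k)),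
        ∀ z : Fin 3 → PowerSeries k, b * z ∈ Ideal.span {(PowerSeries.X : PowerSeries k) ^ n} •
        (⊤ : Submodule (PowerSeries k) (Fin 3 → PowerSeries k)) := by
      intro b hb z
      obtain ⟨v, rfl⟩ := (hBmem b).mp hb
      exact (hBmem _).mpr ⟨v * z, (smul_mul_assoc _ _ _).symm⟩
    have hdecomp : ∀ y ∈ S, ∃ r s : PowerSeries k, ∃ b ∈ Ideal.span {(PowerSeries.X : PowerSeries k) ^ n} •
        (⊤ : Submodule (PowerSeries k) (Fin 3 → PowerSeries k)),
        y = r • 1 + s • (((PowerSeries.X : PowerSeries k) ^ m) • f) + b := by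
      intro y hy
      rw [hS] at hy
      obtain ⟨a, ha, b, hb, rfl⟩ := Submodule.mem_sup.mp hy
      obtain ⟨r, s, rfl⟩ := Submodule.mem_span_pair.mp ha
      exact ⟨r, s, b, hb, rfl⟩
    have hgy : ∀ y ∈ S, (((PowerSeries.X : PowerSeries k) ^ m) • f) * y ∈ S := by
      intro y hy
      obtain ⟨r, s, b, hb, rfl⟩ := hdecomp y hy
      rw [mul_add, mul_add, mul_smul_comm, mul_smul_comm, mul_one]
      refine S.add_mem (S.add_mem (S.smul_mem r hgS) (S.smul_mem s h)) ?_
      rw [mul_comm]
      exact hBS (hBmul b hb _)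
    intro x hx y hy
    obtain ⟨r, s, b, hb, rfl⟩ := hdecomp x hx
    rw [add_mul, add_mul, smul_mul_assoc, smul_mul_assoc, one_mul]
    exact S.add_mem (S.add_mem (S.smul_mem r hy) (S.smul_mem s (hgy y hy))) (hBS (hBmul b hb y))

end Groth.Agent.S13879
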