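import Groth.Statements.S13880
import Mathlib
import Groth.Agent.Lib.Helper9.CrimpQuad
-- import your own Groth.Agent.* helpers here

set_option autoImplicit false
universe u
open Crimp

namespace Groth.Agent.S13880

open PowerSeries
namespace Aux
open Groth.Agent.Helper9.CrimpQuad

variable {k : Type u} [Field k] [CharZero k]

theorem isUnit_two : IsUnit (2 : PowerSeries k) := by
  have : (2 : PowerSeries k) = C (2 : k) := (map_ofNat (C (R := k)) 2).symm
  rw [this]
  exact (isUnit_iff_ne_zero.mpr (by norm_num : (2 : k) ≠ 0)).map C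

/-- the basis `1, (1,-1)` of `R × R` -/
theorem exists_bt : ∃ bt : Module.Basis (Fin 2) (PowerSeries k) (Fin 2 → PowerSeries k),
    bt 0 = 1 ∧ bt 1 = ![1, -1] := by
  let v : Fin 2 → (Fin 2 → PowerSeries k) := ![1, ![1, -1]]
  obtain ⟨h, hh⟩ := (isUnit_two (k := k)).exists_left_inv
  have hli : LinearIndependent (PowerSeries k) v := by
    rw [Fintype.linearIndependent_iff]
    intro g hg
    rw [Fin.sum_univ_two] at hg
    have e0 := congrFun hg 0
    have e1 := congrFun hg 1
    simp only [v, Matrix.cons_val_zero, Matrix.cons_val_one, Pi.add_apply, Pi.smul_apply,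
      Pi.one_apply, smul_eq_mul, mul_one, Pi.zero_apply, mul_neg] at e0 e1
    have h0 : g 0 = 0 := by
      have : 2 * g 0 = 0 := by linear_combination e0 + e1
      calc g 0 = h * (2 * g 0) := by rw [← mul_assoc, hh, one_mul]
        _ = 0 := by rw [this, mul_zero]
    have h1 : g 1 = 0 := by
      rw [h0, zero_add] at e0; exact e0
    intro i; fin_cases i
    · exact h0
    · exact h1
  have hsp : ⊤ ≤ Submodule.span (PowerSeries k) (Set.range v) := by
    rintro w -
    have : w = (h * (w 0 + w 1)) • v 0 + (h * (w 0 - w 1)) • v 1 := by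
      funext i
      fin_cases i
      · simp only [v, Matrix.cons_val_zero, Matrix.cons_val_one, Pi.add_apply, Pi.smul_apply,
          Pi.one_apply, smul_eq_mul, mul_one, Fin.zero_eta]
        calc w 0 = (h * 2) * w 0 := by rw [hh, one_mul]
          _ = _ := by ring
      · simp only [v, Matrix.cons_val_zero, Matrix.cons_val_one, Pi.add_apply, Pi.smul_apply,
          Pi.one_apply, smul_eq_mul, mul_one, Fin.mk_one, mul_neg]
        calc w 1 = (h * 2) * w 1 := by rw [hh, one_mul]
          _ = _ := by ring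
    rw [this]
    exact Submodule.add_mem _ (Submodule.smul_mem _ _ (Submodule.subset_span ⟨0, rfl⟩))
      (Submodule.smul_mem _ _ (Submodule.subset_span ⟨1, rfl⟩))
  refine ⟨Module.Basis.mk hli hsp, ?_, ?_⟩
  · rw [Module.Basis.mk_apply]; rfl
  · rw [Module.Basis.mk_apply]; rfl

theorem main (b : ℕ) (S : Subalgebra (PowerSeries k) (Fin 2 → PowerSeries k)) :
    ((∃ bS : Module.Basis (Fin 2) (PowerSeries k) S,
      Ideal.span {Algebra.discr (PowerSeries k) ⇑bS} = Ideal.span {(PowerSeries.X : PowerSeries k) ^ b}) ↔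
    ∃ n : ℕ, b = 2 * n ∧
      Subalgebra.toSubmodule S = Submodule.span (PowerSeries k) {(1 : (Fin 2 → PowerSeries k))} ⊔
        Ideal.span {(PowerSeries.X : PowerSeries k) ^ n} • (⊤ : Submodule (PowerSeries k) (Fin 2 → PowerSeries k))) ∧
    (∀ n : ℕ, Subalgebra.toSubmodule S = Submodule.span (PowerSeries k) {(1 : (Fin 2 → PowerSeries k))} ⊔
        Ideal.span {(PowerSeries.X : PowerSeries k) ^ n} • (⊤ : Submodule (PowerSeries k) (Fin 2 → PowerSeries k)) →
      Nonempty (S ≃ₐ[PowerSeries k] AdjoinRoot (Polynomial.X ^ 2 - Polynomial.C ((PowerSeries.X : PowerSeries k) ^ (2 * n))))) := by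
  obtain ⟨bt, h0, h1⟩ := exists_bt (k := k)
  have hx : bt 1 * bt 1 = algebraMap _ (Fin 2 → PowerSeries k) (1 : PowerSeries k) := by
    rw [h1, map_one]
    funext i; fin_cases i <;> simp
  refine ⟨⟨?_, ?_⟩, ?_⟩
  · rintro ⟨bS, hbS⟩
    obtain ⟨n, hn⟩ := crimp_quad_exists bt h0 S bS
    obtain ⟨⟨b₀, hb₀⟩, -⟩ := crimp_quad_std bt h0 1 hx S n hn
    refine ⟨n, ?_, hn⟩
    rw [mul_one] at hb₀
    exact X_pow_span_eq (by rw [← hbS, ← hb₀]; exact discr_span_eq bS b₀)
  · rintro ⟨n, rfl, hn⟩
    obtain ⟨⟨b₀, hb₀⟩, -⟩ := crimp_quad_std bt h0 1 hx S n hn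
    rw [mul_one] at hb₀
    exact ⟨b₀, hb₀⟩
  · intro n hn
    obtain ⟨-, h⟩ := crimp_quad_std bt h0 1 hx S n hn
    rw [mul_one] at h
    exact h

end Aux

/-- Over R = k⟦t⟧ with k an algebraically closed field of characteristic zero, let S' = R × R, the
trivial double cover of the formal disk (branch divisor (t ^ 0)). An R-subalgebra S of S' admits an
R-basis of size 2 whose discriminant generates (t ^ b), that is, S is a crimp with branch divisor (t
^ b), if and only if b = 2n for some n and S = R·1 + t ^ n S'. So there is exactly one such crimp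
when b is even and none when b is odd; moreover the subalgebra R·1 + t ^ n S' is isomorphic as an
R-algebra to R[y] / (y ^ 2 - t ^ (2n)) (existence of an isomorphism; y ↦ (t ^ n, -t ^ n)). (The
published statement also gives the space of crimps its reduced one-point scheme structure; this row
classifies its k-points.) -/
theorem result {k : Type u} [Field k] [IsAlgClosed k] [CharZero k] (b : ℕ) (S : Subalgebra (PowerSeries k) (Fin 2 → PowerSeries k)) :
    ((∃ bS : Module.Basis (Fin 2) (PowerSeries k) S,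
      Ideal.span {Algebra.discr (PowerSeries k) ⇑bS} = Ideal.span {(PowerSeries.X : PowerSeries k) ^ b}) ↔
    ∃ n : ℕ, b = 2 * n ∧
      Subalgebra.toSubmodule S = Submodule.span (PowerSeries k) {(1 : (Fin 2 → PowerSeries k))} ⊔
        Ideal.span {(PowerSeries.X : PowerSeries k) ^ n} • (⊤ : Submodule (PowerSeries k) (Fin 2 → PowerSeries k))) ∧
    (∀ n : ℕ, Subalgebra.toSubmodule S = Submodule.span (PowerSeries k) {(1 : (Fin 2 → PowerSeries k))} ⊔
        Ideal.span {(PowerSeries.X : PowerSeries k) ^ n} • (⊤ : Submodule (PowerSeries k) (Fin 2 → PowerSeries k)) →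
      Nonempty (S ≃ₐ[PowerSeries k] AdjoinRoot (Polynomial.X ^ 2 - Polynomial.C ((PowerSeries.X : PowerSeries k) ^ (2 * n))))) := by
  exact Aux.main b S

end Groth.Agent.S13880
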