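import Groth.Statements.S13881
import Mathlib
import Groth.Agent.Lib.Helper9.CrimpQuad
-- import your own Groth.Agent.* helpers here

set_option autoImplicit false
universe u
open Crimp

namespace Groth.Agent.S13881

open PowerSeries
namespace Aux
open Groth.Agent.Helper9.CrimpQuad

variable {k : Type u} [Field k] [CharZero k]

theorem exists_bt : ∃ bt : Module.Basis (Fin 2) (PowerSeries k)
      (AdjoinRoot (Polynomial.X ^ 2 - Polynomial.C (PowerSeries.X : PowerSeries k))),
    bt 0 = 1 ∧ bt 1 = AdjoinRoot.root _ := by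
  set g : Polynomial (PowerSeries k) :=
    Polynomial.X ^ 2 - Polynomial.C (PowerSeries.X : PowerSeries k) with hg
  have hmonic : g.Monic := Polynomial.monic_X_pow_sub_C _ (by norm_num)
  have hdeg : g.natDegree = 2 := Polynomial.natDegree_X_pow_sub_C
  let pb := AdjoinRoot.powerBasis' hmonic
  have hdim : pb.dim = 2 := by simp [pb, hdeg]
  have hgen : pb.gen = AdjoinRoot.root g := by simp [pb]
  refine ⟨pb.basis.reindex (finCongr hdim), ?_, ?_⟩
  · rw [Module.Basis.reindex_apply, PowerBasis.coe_basis]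
    simp
  · rw [Module.Basis.reindex_apply, PowerBasis.coe_basis, hgen]
    simp

theorem main (b : ℕ)
    (S : Subalgebra (PowerSeries k) (AdjoinRoot (Polynomial.X ^ 2 - Polynomial.C (PowerSeries.X : PowerSeries k)))) :
    ((∃ bS : Module.Basis (Fin 2) (PowerSeries k) S,
      Ideal.span {Algebra.discr (PowerSeries k) ⇑bS} = Ideal.span {(PowerSeries.X : PowerSeries k) ^ b}) ↔
    ∃ n : ℕ, b = 2 * n + 1 ∧
      Subalgebra.toSubmodule S = Submodule.span (PowerSeries k) {(1 : (AdjoinRoot (Polynomial.X ^ 2 - Polynomial.C (PowerSeries.X : PowerSeries k))))} ⊔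
        Ideal.span {(PowerSeries.X : PowerSeries k) ^ n} • (⊤ : Submodule (PowerSeries k) (AdjoinRoot (Polynomial.X ^ 2 - Polynomial.C (PowerSeries.X : PowerSeries k))))) ∧
    (∀ n : ℕ, Subalgebra.toSubmodule S = Submodule.span (PowerSeries k) {(1 : (AdjoinRoot (Polynomial.X ^ 2 - Polynomial.C (PowerSeries.X : PowerSeries k))))} ⊔
        Ideal.span {(PowerSeries.X : PowerSeries k) ^ n} • (⊤ : Submodule (PowerSeries k) (AdjoinRoot (Polynomial.X ^ 2 - Polynomial.C (PowerSeries.X : PowerSeries k)))) →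
      Nonempty (S ≃ₐ[PowerSeries k] AdjoinRoot (Polynomial.X ^ 2 - Polynomial.C ((PowerSeries.X : PowerSeries k) ^ (2 * n + 1))))) := by
  obtain ⟨bt, h0, h1⟩ := exists_bt (k := k)
  have hx : bt 1 * bt 1 = algebraMap _ (AdjoinRoot (Polynomial.X ^ 2 -
      Polynomial.C (PowerSeries.X : PowerSeries k))) (PowerSeries.X : PowerSeries k) := by
    rw [h1]
    have := AdjoinRoot.eval₂_root (Polynomial.X ^ 2 - Polynomial.C (PowerSeries.X : PowerSeries k))
    rw [Polynomial.eval₂_sub, Polynomial.eval₂_pow, Polynomial.eval₂_X, Polynomial.eval₂_C,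
      sub_eq_zero] at this
    rw [← sq, this]
    rfl
  refine ⟨⟨?_, ?_⟩, ?_⟩
  · rintro ⟨bS, hbS⟩
    obtain ⟨n, hn⟩ := crimp_quad_exists bt h0 S bS
    obtain ⟨⟨b₀, hb₀⟩, -⟩ := crimp_quad_std bt h0 X hx S n hn
    refine ⟨n, ?_, hn⟩
    rw [← pow_succ] at hb₀
    exact X_pow_span_eq (by rw [← hbS, ← hb₀]; exact discr_span_eq bS b₀)
  · rintro ⟨n, rfl, hn⟩
    obtain ⟨⟨b₀, hb₀⟩, -⟩ := crimp_quad_std bt h0 X hx S n hn
    rw [← pow_succ] at hb₀
    exact ⟨b₀, hb₀⟩
  · intro n hn
    obtain ⟨-, h⟩ := crimp_quad_std bt h0 X hx S n hn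
    rw [← pow_succ] at h
    exact h

end Aux

/-- Over R = k⟦t⟧ with k an algebraically closed field of characteristic zero, let S' = R[x] / (x ^ 2 -
t), the ramified smooth double cover of the formal disk (branch divisor (t)). An R-subalgebra S of
S' admits an R-basis of size 2 whose discriminant generates (t ^ b), that is, S is a crimp with
branch divisor (t ^ b), if and only if b = 2n + 1 for some n and S = R·1 + t ^ n S'. So there is
exactly one such crimp when b is odd and none when b is even; moreover the subalgebra R·1 + t ^ n S'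
is isomorphic as an R-algebra to R[y] / (y ^ 2 - t ^ (2n+1)) (existence of an isomorphism; y ↦ t ^ n
x). (The published statement describes this algebra as R[y] / (y ^ 2 - t ^ (b - a)) with a = 1, that
is R[y] / (y ^ 2 - t ^ (2n)); that algebra has discriminant ideal (t ^ (b - 1)), not (t ^ b), so
this row uses R[y] / (y ^ 2 - t ^ b) = R[y] / (y ^ 2 - t ^ (2n+1)), which is the algebra R·1 + t ^ n
S'. The published statement also gives the space of crimps its reduced one-point scheme structure;
this row classifies its k-points.) -/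
theorem result {k : Type u} [Field k] [IsAlgClosed k] [CharZero k] (b : ℕ)
    (S : Subalgebra (PowerSeries k) (AdjoinRoot (Polynomial.X ^ 2 - Polynomial.C (PowerSeries.X : PowerSeries k)))) :
    ((∃ bS : Module.Basis (Fin 2) (PowerSeries k) S,
      Ideal.span {Algebra.discr (PowerSeries k) ⇑bS} = Ideal.span {(PowerSeries.X : PowerSeries k) ^ b}) ↔
    ∃ n : ℕ, b = 2 * n + 1 ∧
      Subalgebra.toSubmodule S = Submodule.span (PowerSeries k) {(1 : (AdjoinRoot (Polynomial.X ^ 2 - Polynomial.C (PowerSeries.X : PowerSeries k))))} ⊔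
        Ideal.span {(PowerSeries.X : PowerSeries k) ^ n} • (⊤ : Submodule (PowerSeries k) (AdjoinRoot (Polynomial.X ^ 2 - Polynomial.C (PowerSeries.X : PowerSeries k))))) ∧
    (∀ n : ℕ, Subalgebra.toSubmodule S = Submodule.span (PowerSeries k) {(1 : (AdjoinRoot (Polynomial.X ^ 2 - Polynomial.C (PowerSeries.X : PowerSeries k))))} ⊔
        Ideal.span {(PowerSeries.X : PowerSeries k) ^ n} • (⊤ : Submodule (PowerSeries k) (AdjoinRoot (Polynomial.X ^ 2 - Polynomial.C (PowerSeries.X : PowerSeries k)))) →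
      Nonempty (S ≃ₐ[PowerSeries k] AdjoinRoot (Polynomial.X ^ 2 - Polynomial.C ((PowerSeries.X : PowerSeries k) ^ (2 * n + 1))))) := by
  exact Aux.main b S

end Groth.Agent.S13881
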