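import Groth.Statements.S13882
import Mathlib
import Groth.Prelude.Def_W4c1hurwitzcptBd
-- import your own Groth.Agent.* helpers here

set_option autoImplicit false
universe u
open FinCov

namespace Groth.Agent.S13882

open W4c1hurwitzcpt
namespace Aux

abbrev Idx (d : ℕ) := (Fin d × Fin d × Fin d) ⊕ Fin d

noncomputable def cP (K : Type u) [Field K] (d : ℕ) (i j k : Fin d) : MvPolynomial (Idx d) K :=
  MvPolynomial.X (Sum.inl (i, j, k))

noncomputable def uP (K : Type u) [Field K] (d : ℕ) (i : Fin d) : MvPolynomial (Idx d) K :=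
  MvPolynomial.X (Sum.inr i)

def rels (K : Type u) [Field K] (d : ℕ) : Set (MvPolynomial (Idx d) K) :=
  {p | ∃ i j k, p = cP K d i j k - cP K d j i k} ∪
  {p | ∃ i j l m, p = (∑ k, cP K d i j k * cP K d k l m) - ∑ k, cP K d j l k * cP K d i k m} ∪
  {p | ∃ j m, p = (∑ i, uP K d i * cP K d i j m) - if j = m then 1 else 0}

noncomputable def I (K : Type u) [Field K] (d : ℕ) : Ideal (MvPolynomial (Idx d) K) :=
  Ideal.span (rels K d)

abbrev B (K : Type u) [Field K] (d : ℕ) : Type u := MvPolynomial (Idx d) K ⧸ I K d

noncomputable def toBased (K : Type u) [Field K] (d : ℕ) (A : Type u) [CommRing A] [Algebra K A]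
    (g : B K d →ₐ[K] A) : BasedAlg d A where
  c i j k := g (Ideal.Quotient.mk _ (cP K d i j k))
  u i := g (Ideal.Quotient.mk _ (uP K d i))
  comm i j k := by
    have h : cP K d i j k - cP K d j i k ∈ I K d :=
      Ideal.subset_span (Or.inl (Or.inl ⟨i, j, k, rfl⟩))
    have h2 := (Ideal.Quotient.eq (I := I K d)).2 h
    rw [h2]
  assoc i j l m := by
    have h : (∑ k, cP K d i j k * cP K d k l m) - ∑ k, cP K d j l k * cP K d i k m ∈ I K d :=
      Ideal.subset_span (Or.inl (Or.inr ⟨i, j, l, m, rfl⟩))
    have h2 := (Ideal.Quotient.eq (I := I K d)).2 h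
    have h3 := congrArg g h2
    simpa only [map_sum, map_mul] using h3
  unit j m := by
    have h : (∑ i, uP K d i * cP K d i j m) - (if j = m then 1 else 0) ∈ I K d :=
      Ideal.subset_span (Or.inr ⟨j, m, rfl⟩)
    have h2 := (Ideal.Quotient.eq (I := I K d)).2 h
    have h3 := congrArg g h2
    simp only [map_sum, map_mul] at h3
    rw [h3]
    split <;> simp

noncomputable def evalOf (K : Type u) [Field K] (d : ℕ) (A : Type u) [CommRing A] [Algebra K A]
    (s : BasedAlg d A) : MvPolynomial (Idx d) K →ₐ[K] A :=
  MvPolynomial.aeval (Sum.elim (fun ijk => s.c ijk.1 ijk.2.1 ijk.2.2) s.u)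

lemma evalOf_cP (K : Type u) [Field K] (d : ℕ) (A : Type u) [CommRing A] [Algebra K A]
    (s : BasedAlg d A) (i j k : Fin d) : evalOf K d A s (cP K d i j k) = s.c i j k := by
  simp [evalOf, cP]

lemma evalOf_uP (K : Type u) [Field K] (d : ℕ) (A : Type u) [CommRing A] [Algebra K A]
    (s : BasedAlg d A) (i : Fin d) : evalOf K d A s (uP K d i) = s.u i := by
  simp [evalOf, uP]

lemma evalOf_kills (K : Type u) [Field K] (d : ℕ) (A : Type u) [CommRing A] [Algebra K A]
    (s : BasedAlg d A) : ∀ p ∈ I K d, evalOf K d A s p = 0 := by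
  intro p hp
  have : I K d ≤ RingHom.ker (evalOf K d A s).toRingHom := by
    unfold I
    rw [Ideal.span_le]
    rintro q ((⟨i, j, k, rfl⟩ | ⟨i, j, l, m, rfl⟩) | ⟨j, m, rfl⟩)
    · show evalOf K d A s _ = 0
      rw [map_sub, evalOf_cP, evalOf_cP, s.comm, sub_self]
    · show evalOf K d A s _ = 0
      simp only [map_sub, map_sum, map_mul, evalOf_cP]
      rw [s.assoc, sub_self]
    · show evalOf K d A s _ = 0
      simp only [map_sub, map_sum, map_mul, evalOf_cP, evalOf_uP]
      rw [s.unit]
      split <;> simp
  exact this hp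

noncomputable def ofBased (K : Type u) [Field K] (d : ℕ) (A : Type u) [CommRing A] [Algebra K A]
    (s : BasedAlg d A) : B K d →ₐ[K] A :=
  Ideal.Quotient.liftₐ (I K d) (evalOf K d A s) (evalOf_kills K d A s)

lemma ofBased_mk (K : Type u) [Field K] (d : ℕ) (A : Type u) [CommRing A] [Algebra K A]
    (s : BasedAlg d A) (p : MvPolynomial (Idx d) K) :
    ofBased K d A s (Ideal.Quotient.mk _ p) = evalOf K d A s p := rfl

noncomputable def η (K : Type u) [Field K] (d : ℕ) (A : Type u) [CommRing A] [Algebra K A] :
    (B K d →ₐ[K] A) ≃ BasedAlg d A where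
  toFun := toBased K d A
  invFun := ofBased K d A
  left_inv g := by
    apply Ideal.Quotient.algHom_ext
    apply MvPolynomial.algHom_ext
    rintro (⟨i, j, k⟩ | i)
    · show ofBased K d A (toBased K d A g) (Ideal.Quotient.mk _ (cP K d i j k)) = _
      rw [ofBased_mk]
      exact evalOf_cP K d A _ i j k
    · show ofBased K d A (toBased K d A g) (Ideal.Quotient.mk _ (uP K d i)) = _
      rw [ofBased_mk]
      exact evalOf_uP K d A _ i
  right_inv s := by
    ext i j k
    · show ofBased K d A s (Ideal.Quotient.mk _ (cP K d i j k)) = _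
      rw [ofBased_mk]
      exact evalOf_cP K d A _ i j k
    · show ofBased K d A s (Ideal.Quotient.mk _ (uP K d _)) = _
      rw [ofBased_mk]
      exact evalOf_uP K d A _ _

theorem main (K : Type u) [Field K] [CharZero K] (d : ℕ) :
    ∃ (B : Type u) (_ : CommRing B) (_ : Algebra K B) (_ : Algebra.FiniteType K B)
      (η : ∀ (A : Type u) [CommRing A] [Algebra K A], (B →ₐ[K] A) ≃ W4c1hurwitzcpt.BasedAlg d A),
      ∀ (A A' : Type u) [CommRing A] [Algebra K A] [CommRing A'] [Algebra K A']
        (f : A →ₐ[K] A') (g : B →ₐ[K] A),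
        η A' (f.comp g) = (η A g).map f.toRingHom := by
  refine ⟨B K d, inferInstance, inferInstance, inferInstance, fun A _ _ => η K d A, ?_⟩
  intro A A' _ _ _ _ f g
  ext <;> rfl

end Aux

/-- Over a field K of characteristic zero, the functor that sends a K-scheme S to the set of isomorphism
classes of pairs (A, τ) of an O_S-algebra A and an O_S-module isomorphism τ from A to the free
module of rank d, equivalently to the set of commutative unital algebra structures on the rank-d
free module with its standard basis, is represented by an affine K-scheme of finite type. Stated on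
affine K-schemes in one universe: there is a finitely generated commutative K-algebra B with
bijections between K-algebra maps B → A and based algebra structures of rank d over A, natural in
the commutative K-algebra A. -/
theorem result (K : Type u) [Field K] [CharZero K] (d : ℕ) :
    ∃ (B : Type u) (_ : CommRing B) (_ : Algebra K B) (_ : Algebra.FiniteType K B)
      (η : ∀ (A : Type u) [CommRing A] [Algebra K A], (B →ₐ[K] A) ≃ W4c1hurwitzcpt.BasedAlg d A),
      ∀ (A A' : Type u) [CommRing A] [Algebra K A] [CommRing A'] [Algebra K A']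
        (f : A →ₐ[K] A') (g : B →ₐ[K] A),
        η A' (f.comp g) = (η A g).map f.toRingHom := by
  exact Aux.main K d

end Groth.Agent.S13882
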