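import Groth.Statements.S13885
import Mathlib
import Groth.Prelude.Def_W4c1hurwitzcptBd
import Groth.Agent.Lib.Helper9.RootDisk
-- import your own Groth.Agent.* helpers here

set_option autoImplicit false
universe u
open Crimp

namespace Groth.Agent.S13885

open W4c1hurwitzcpt
namespace Aux
open Groth.Agent.Helper9.RootDiskLib

variable {p : ℕ} [NeZero p] {k : Type u} [Field k]

instance instTF : Module.IsTorsionFree (PowerSeries k) (RootDisk p k) :=
  Module.IsTorsionFree.of_smul_eq_zero (fun _ _ h => smul_eq_zero' h)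

instance instFin : Module.Finite (PowerSeries k) (RootDisk p k) :=
  ⟨Submodule.fg_def.2 ⟨_, Set.finite_range _, span_xpow⟩⟩

theorem main {k : Type u} [Field k]
    (M : Submodule (PowerSeries k) (W4c1hurwitzcpt.RootDisk 2 k × PowerSeries k))
    (h1 : (1 : (W4c1hurwitzcpt.RootDisk 2 k × PowerSeries k)) ∈ M)
    (bM : Module.Basis (Fin 3) (PowerSeries k) M) :
    ∃ f₁ f₂ : W4c1hurwitzcpt.RootDisk 2 k,
      ¬ Nat.ModEq 2 (PowerSeries.order (W4c1hurwitzcpt.RootDisk.val (f₁ : W4c1hurwitzcpt.RootDisk 2 k))).toNat (PowerSeries.order (W4c1hurwitzcpt.RootDisk.val (f₂ : W4c1hurwitzcpt.RootDisk 2 k))).toNat ∧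
      M = Submodule.span (PowerSeries k) {(1 : (W4c1hurwitzcpt.RootDisk 2 k × PowerSeries k)), (f₁, 0), (f₂, 0)} := by
  classical
  let M₀ : Submodule (PowerSeries k) (RootDisk 2 k) :=
    M.comap (LinearMap.inl (PowerSeries k) (RootDisk 2 k) (PowerSeries k))
  have hM₀ : ∀ f : RootDisk 2 k, f ∈ M₀ ↔ ((f, 0) : RootDisk 2 k × PowerSeries k) ∈ M :=
    fun f => Iff.rfl
  -- the key decomposition
  have hdec : ∀ x ∈ M, x.1 - x.2 • (1 : RootDisk 2 k) ∈ M₀ := by
    intro x hx
    rw [hM₀]
    have : ((x.1 - x.2 • (1 : RootDisk 2 k), 0) : RootDisk 2 k × PowerSeries k) =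
        x - x.2 • (1 : RootDisk 2 k × PowerSeries k) := by
      ext
      · simp
      · simp
    rw [this]
    exact M.sub_mem hx (M.smul_mem _ h1)
  let A : M₀ →ₗ[PowerSeries k] M :=
    LinearMap.codRestrict M
      ((LinearMap.inl (PowerSeries k) (RootDisk 2 k) (PowerSeries k)).comp M₀.subtype)
      (fun f => f.2)
  let B : PowerSeries k →ₗ[PowerSeries k] M :=
    LinearMap.toSpanSingleton (PowerSeries k) M ⟨1, h1⟩
  let ψ : (M₀ × PowerSeries k) →ₗ[PowerSeries k] M := LinearMap.coprod A B
  have hψ : ∀ y : M₀ × PowerSeries k, ((ψ y : M) : RootDisk 2 k × PowerSeries k) =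
      ((y.1 : RootDisk 2 k) + y.2 • (1 : RootDisk 2 k), y.2) := by
    intro y
    have hA : ∀ f : M₀, ((A f : M) : RootDisk 2 k × PowerSeries k) = ((f : RootDisk 2 k), 0) :=
      fun f => rfl
    have hB : ∀ a : PowerSeries k, ((B a : M) : RootDisk 2 k × PowerSeries k) =
        a • (1 : RootDisk 2 k × PowerSeries k) := fun a => rfl
    have h0 : ψ y = A y.1 + B y.2 := LinearMap.coprod_apply _ _ _
    rw [h0, Submodule.coe_add, hA, hB]
    ext
    · simp
    · simp
  have hinj : Function.Injective ψ := by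
    rw [injective_iff_map_eq_zero]
    intro y hy
    have h2 := hψ y
    rw [hy] at h2
    have h3 : y.2 = 0 := (congrArg Prod.snd h2).symm
    have h4 : (y.1 : RootDisk 2 k) = 0 := by
      have := (congrArg Prod.fst h2).symm
      simpa [h3] using this
    exact Prod.ext (Subtype.ext h4) h3
  have hsurj : Function.Surjective ψ := by
    intro x
    refine ⟨(⟨_, hdec x.1 x.2⟩, x.1.2), Subtype.ext ?_⟩
    rw [hψ]
    ext
    · simp
    · simp
  let e : (M₀ × PowerSeries k) ≃ₗ[PowerSeries k] M := LinearEquiv.ofBijective ψ ⟨hinj, hsurj⟩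
  have hfr : Module.finrank (PowerSeries k) M = 3 := by
    rw [Module.finrank_eq_card_basis bM]; simp
  have : Module.Finite (PowerSeries k) M := Module.Finite.of_basis bM
  have hfin0 : Module.Finite (PowerSeries k) M₀ := inferInstance
  have hfree0 : Module.Free (PowerSeries k) M₀ := inferInstance
  have hfr0 : Module.finrank (PowerSeries k) M₀ = 2 := by
    have h2 := e.finrank_eq
    rw [Module.finrank_prod, hfr, Module.finrank_self] at h2
    omega
  let b₀ : Module.Basis (Fin 2) (PowerSeries k) M₀ := Module.finBasisOfFinrankEq _ _ hfr0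
  obtain ⟨g, hg⟩ := exists_basis M₀ b₀
  refine ⟨(g 0 : M₀), (g 1 : M₀), ?_, ?_⟩
  · intro hmod
    have h0 := (hg 0).2
    have h1' := (hg 1).2
    unfold o at h0 h1'
    have : (0 : Fin 2).1 = (1 : Fin 2).1 := by
      rw [← h0, ← h1']; exact hmod
    simp at this
  · apply le_antisymm
    · intro x hx
      have hx0 := hdec x hx
      have hrep := g.sum_repr ⟨_, hx0⟩
      rw [Fin.sum_univ_two] at hrep
      have hrep' := congrArg (Subtype.val) hrep
      simp only [Submodule.coe_add, Submodule.coe_smul] at hrep'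
      have hx' : x = g.repr ⟨_, hx0⟩ 0 • (((g 0 : M₀) : RootDisk 2 k), (0 : PowerSeries k)) +
          g.repr ⟨_, hx0⟩ 1 • (((g 1 : M₀) : RootDisk 2 k), (0 : PowerSeries k)) +
          x.2 • (1 : RootDisk 2 k × PowerSeries k) := by
        ext
        · simp only [Prod.fst_add, Prod.smul_fst, Prod.fst_one]
          rw [hrep']; abel
        · simp
      rw [hx']
      refine Submodule.add_mem _ (Submodule.add_mem _ ?_ ?_) ?_
      · exact Submodule.smul_mem _ _ (Submodule.subset_span (by simp))
      · exact Submodule.smul_mem _ _ (Submodule.subset_span (by simp))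
      · exact Submodule.smul_mem _ _ (Submodule.subset_span (by simp))
    · rw [Submodule.span_le]
      rintro x (rfl | rfl | rfl)
      · exact h1
      · exact (g 0 : M₀).2
      · exact (g 1 : M₀).2

end Aux

/-- Over R = k⟦t⟧ with k an algebraically closed field of characteristic zero, let S' = k⟦x⟧ × R, where
k⟦x⟧ is regarded as an R-algebra through t ↦ x ^ 2, that is S' = R[x] / (x ^ 2 - t) ⊕ R, the smooth
simply ramified triple cover of the formal disk, with R embedded diagonally. If M is an R-submodule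
of S' containing 1 which is free of rank 3, then M is spanned by 1, (f₁, 0) and (f₂, 0) for some
power series f₁, f₂ whose x-adic valuations are distinct modulo 2. (Items (2) and (3) of the
published proposition, on the base change of M to R[s] / (s ^ 2 - t), are not restated.) -/
theorem result {k : Type u} [Field k] [IsAlgClosed k] [CharZero k]
    (M : Submodule (PowerSeries k) (W4c1hurwitzcpt.RootDisk 2 k × PowerSeries k))
    (h1 : (1 : (W4c1hurwitzcpt.RootDisk 2 k × PowerSeries k)) ∈ M)
    (bM : Module.Basis (Fin 3) (PowerSeries k) M) :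
    ∃ f₁ f₂ : W4c1hurwitzcpt.RootDisk 2 k,
      ¬ Nat.ModEq 2 (PowerSeries.order (W4c1hurwitzcpt.RootDisk.val (f₁ : W4c1hurwitzcpt.RootDisk 2 k))).toNat (PowerSeries.order (W4c1hurwitzcpt.RootDisk.val (f₂ : W4c1hurwitzcpt.RootDisk 2 k))).toNat ∧
      M = Submodule.span (PowerSeries k) {(1 : (W4c1hurwitzcpt.RootDisk 2 k × PowerSeries k)), (f₁, 0), (f₂, 0)} := by
  exact Aux.main M h1 bM

end Groth.Agent.S13885
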