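import Groth.Statements.S13886
import Mathlib
-- import your own Groth.Agent.* helpers here

set_option autoImplicit false
universe u
open Crimp

namespace Groth.Agent.S13886

open PowerSeries
namespace Aux

variable {k : Type u} [Field k]

local notation "R" => PowerSeries k
local notation "S'" => (Fin 3 → PowerSeries k)

theorem mem_S_iff (m n : ℕ) (f : S') (v : S') :
    v ∈ (Submodule.span R {(1 : S'), ((X : R) ^ m) • f} ⊔
        Ideal.span {(X : R) ^ n} • (⊤ : Submodule R S')) ↔
      ∃ (a β : R) (w : S'), v = a • (1 : S') + β • (((X : R) ^ m) • f) + ((X : R) ^ n) • w := by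
  rw [Submodule.mem_sup]
  constructor
  · rintro ⟨y, hy, z, hz, rfl⟩
    rw [Submodule.mem_span_pair] at hy
    obtain ⟨a, β, rfl⟩ := hy
    rw [Submodule.ideal_span_singleton_smul, Submodule.mem_smul_pointwise_iff_exists] at hz
    obtain ⟨w, _, rfl⟩ := hz
    exact ⟨a, β, w, rfl⟩
  · rintro ⟨a, β, w, rfl⟩
    refine ⟨a • (1 : S') + β • (((X : R) ^ m) • f), ?_, ((X : R) ^ n) • w, ?_, rfl⟩
    · rw [Submodule.mem_span_pair]; exact ⟨a, β, rfl⟩
    · rw [Submodule.ideal_span_singleton_smul]
      exact Submodule.smul_mem_pointwise_smul _ _ _ Submodule.mem_top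

theorem mul_closed (m n : ℕ) (hn : n ≤ 2 * m) (f : S') (x y : S')
    (hx : ∃ (a β : R) (w : S'), x = a • (1 : S') + β • (((X : R) ^ m) • f) + ((X : R) ^ n) • w)
    (hy : ∃ (a β : R) (w : S'), y = a • (1 : S') + β • (((X : R) ^ m) • f) + ((X : R) ^ n) • w) :
    ∃ (a β : R) (w : S'), x * y = a • (1 : S') + β • (((X : R) ^ m) • f) + ((X : R) ^ n) • w := by
  obtain ⟨a, β, w, rfl⟩ := hx
  obtain ⟨a', β', w', rfl⟩ := hy
  refine ⟨a * a', a * β' + a' * β,
    a • w' + a' • w + (β * X ^ m) • (f * w') + (β' * X ^ m) • (f * w) + (X ^ n : R) • (w * w') +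
      (β * β' * X ^ (2 * m - n)) • (f * f), ?_⟩
  have h2m : (X : R) ^ (2 * m) = X ^ n * X ^ (2 * m - n) := by
    rw [← pow_add]; congr 1; omega
  funext i
  simp only [Pi.add_apply, Pi.smul_apply, Pi.mul_apply, Pi.one_apply, smul_eq_mul, mul_one]
  have : (X : R) ^ m * X ^ m = X ^ n * X ^ (2 * m - n) := by
    rw [← pow_add, ← two_mul, h2m]
  linear_combination (β * β' * f i * f i) * this

theorem exists_unit_diff (f : S')
    (hf : f ∉ Submodule.span R {(1 : S')} ⊔ Ideal.span {(X : R)} • (⊤ : Submodule R S')) :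
    ∃ i j : Fin 3, i ≠ j ∧ IsUnit (f j - f i) := by
  by_contra hcon
  push Not at hcon
  apply hf
  have hc : ∀ i, constantCoeff (f i) = constantCoeff (f 0) := by
    intro i
    by_cases hi : i = 0
    · rw [hi]
    · have := hcon 0 i (Ne.symm hi)
      rw [isUnit_iff_constantCoeff, map_sub, isUnit_iff_ne_zero, not_not, sub_eq_zero] at this
      exact this
  have h1 : ∀ i, ∃ g : R, f i - C (constantCoeff (f 0)) = X * g := by
    intro i
    have : constantCoeff (f i - C (constantCoeff (f 0))) = 0 := by simp [hc i]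
    exact X_dvd_iff.mpr this
  choose g hg using h1
  rw [Submodule.mem_sup]
  refine ⟨C (constantCoeff (f 0)) • (1 : S'), Submodule.smul_mem _ _ (Submodule.subset_span rfl),
    (X : R) • g, ?_, ?_⟩
  · rw [Submodule.ideal_span_singleton_smul]
    exact Submodule.smul_mem_pointwise_smul _ _ _ Submodule.mem_top
  · funext i
    simp only [Pi.add_apply, Pi.smul_apply, Pi.one_apply, smul_eq_mul, mul_one, ← hg i]
    ring

theorem third (i j : Fin 3) (hij : i ≠ j) :
    ∃ l : Fin 3, l ≠ i ∧ l ≠ j ∧ ∀ x : Fin 3, x = i ∨ x = j ∨ x = l := by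
  revert i j; decide

/-- the `f`-coordinate -/
noncomputable def bL (i j : Fin 3) (uinv : R) : S' →ₗ[R] R :=
  uinv • ((LinearMap.proj j : S' →ₗ[R] R) - (LinearMap.proj i : S' →ₗ[R] R))

/-- the `e_l`-coordinate -/
noncomputable def cL (f : S') (i j l : Fin 3) (uinv : R) : S' →ₗ[R] R :=
  (LinearMap.proj l : S' →ₗ[R] R) - (LinearMap.proj i : S' →ₗ[R] R) - (f l - f i) • bL i j uinv

theorem bL_apply (i j : Fin 3) (uinv : R) (v : S') : bL i j uinv v = uinv * (v j - v i) := by
  simp [bL]

theorem cL_apply (f : S') (i j l : Fin 3) (uinv : R) (v : S') :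
    cL f i j l uinv v = v l - v i - (f l - f i) * (uinv * (v j - v i)) := by
  simp [cL, bL]

/-- the map to the quotient -/
noncomputable def Ψ (m n : ℕ) (f : S') (i j l : Fin 3) (uinv : R) :
    S' →ₗ[R] ((R ⧸ Ideal.span {(X : R) ^ m}) × (R ⧸ Ideal.span {(X : R) ^ n})) :=
  LinearMap.prod ((Submodule.mkQ (Ideal.span {(X : R) ^ m})).comp (bL i j uinv))
    ((Submodule.mkQ (Ideal.span {(X : R) ^ n})).comp (cL f i j l uinv))

theorem Ψ_apply (m n : ℕ) (f : S') (i j l : Fin 3) (uinv : R) (v : S') :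
    Ψ m n f i j l uinv v = (Submodule.mkQ (Ideal.span {(X : R) ^ m}) (bL i j uinv v),
      Submodule.mkQ (Ideal.span {(X : R) ^ n}) (cL f i j l uinv v)) := rfl

theorem main_equiv (m n : ℕ) (hmn : m ≤ n) (f : S') (i j l : Fin 3) (hij : i ≠ j) (hli : l ≠ i)
    (hlj : l ≠ j) (hall : ∀ x : Fin 3, x = i ∨ x = j ∨ x = l) (uinv : R)
    (hu : uinv * (f j - f i) = 1) (S : Submodule R S')
    (hS : ∀ v, v ∈ S ↔ ∃ (a β : R) (w : S'),
      v = a • (1 : S') + β • (((X : R) ^ m) • f) + ((X : R) ^ n) • w) :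
    Nonempty ((S' ⧸ S) ≃ₗ[R]
      ((R ⧸ Ideal.span {(X : R) ^ m}) × (R ⧸ Ideal.span {(X : R) ^ n}))) := by
  have hsurj : Function.Surjective (Ψ m n f i j l uinv) := by
    rintro ⟨p, q⟩
    obtain ⟨p₀, rfl⟩ := Submodule.mkQ_surjective _ p
    obtain ⟨q₀, rfl⟩ := Submodule.mkQ_surjective _ q
    refine ⟨p₀ • f + Pi.single l q₀, ?_⟩
    have hb : bL i j uinv (p₀ • f + Pi.single l q₀) = p₀ := by
      rw [bL_apply]
      simp only [Pi.add_apply, Pi.smul_apply, smul_eq_mul, Pi.single_apply, if_neg hlj.symm,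
        if_neg hli.symm, add_zero]
      linear_combination p₀ * hu
    have hc : cL f i j l uinv (p₀ • f + Pi.single l q₀) = q₀ := by
      rw [cL_apply]
      simp only [Pi.add_apply, Pi.smul_apply, smul_eq_mul, Pi.single_apply, if_neg hlj.symm,
        if_neg hli.symm, add_zero, if_true]
      linear_combination (-(f l - f i) * p₀) * hu
    rw [Ψ_apply, hb, hc]
  have hker : S = LinearMap.ker (Ψ m n f i j l uinv) := by
    ext v
    rw [hS, LinearMap.mem_ker, Ψ_apply, Prod.mk_eq_zero]
    simp only [Submodule.mkQ_apply, Submodule.Quotient.mk_eq_zero, Ideal.mem_span_singleton]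
    constructor
    · rintro ⟨a, β, w, rfl⟩
      have hXn : (X : R) ^ n = X ^ m * X ^ (n - m) := by rw [← pow_add]; congr 1; omega
      constructor
      · refine ⟨β + X ^ (n - m) * bL i j uinv w, ?_⟩
        rw [bL_apply, bL_apply]
        simp only [Pi.add_apply, Pi.smul_apply, Pi.one_apply, smul_eq_mul, mul_one]
        rw [hXn]
        linear_combination (β * X ^ m) * hu
      · refine ⟨cL f i j l uinv w, ?_⟩
        rw [cL_apply, cL_apply]
        simp only [Pi.add_apply, Pi.smul_apply, Pi.one_apply, smul_eq_mul, mul_one]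
        linear_combination (-(f l - f i) * β * X ^ m) * hu
    · rintro ⟨⟨b', hb'⟩, ⟨c', hc'⟩⟩
      refine ⟨v i - bL i j uinv v * f i, b', Pi.single l c', ?_⟩
      rw [bL_apply] at hb'
      rw [cL_apply] at hc'
      funext x
      simp only [Pi.add_apply, Pi.smul_apply, Pi.one_apply, smul_eq_mul, mul_one, bL_apply,
        Pi.single_apply]
      rcases hall x with rfl | rfl | rfl
      · rw [if_neg hli.symm]
        linear_combination (f x) * hb'
      · rw [if_neg hlj.symm]
        linear_combination (f x) * hb' - (v x - v i) * hu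
      · rw [if_pos rfl]
        linear_combination hc' + (f x) * hb'
  exact ⟨(Submodule.quotEquivOfEq _ _ hker).trans
    ((Ψ m n f i j l uinv).quotKerEquivOfSurjective hsurj)⟩

theorem main (m n : ℕ) (hmn : m ≤ n) (hn : n ≤ 2 * m)
    (f : (Fin 3 → PowerSeries k)) (hf : f ∉ Submodule.span (PowerSeries k) {(1 : (Fin 3 → PowerSeries k))} ⊔ Ideal.span {(PowerSeries.X : PowerSeries k)} • (⊤ : Submodule (PowerSeries k) (Fin 3 → PowerSeries k)))
    (S : Submodule (PowerSeries k) (Fin 3 → PowerSeries k))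
    (hS : S = Submodule.span (PowerSeries k) {(1 : (Fin 3 → PowerSeries k)), ((PowerSeries.X : PowerSeries k) ^ m) • f} ⊔
        Ideal.span {(PowerSeries.X : PowerSeries k) ^ n} • (⊤ : Submodule (PowerSeries k) (Fin 3 → PowerSeries k))) :
    (∀ x ∈ S, ∀ y ∈ S, x * y ∈ S) ∧
    Nonempty (((Fin 3 → PowerSeries k) ⧸ S) ≃ₗ[PowerSeries k]
      ((PowerSeries k ⧸ Ideal.span {(PowerSeries.X : PowerSeries k) ^ m}) × (PowerSeries k ⧸ Ideal.span {(PowerSeries.X : PowerSeries k) ^ n}))) := by
  have hmem : ∀ v, v ∈ S ↔ ∃ (a β : R) (w : S'),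
      v = a • (1 : S') + β • (((X : R) ^ m) • f) + ((X : R) ^ n) • w := by
    intro v; rw [hS]; exact mem_S_iff m n f v
  constructor
  · intro x hx y hy
    rw [hmem] at hx hy ⊢
    exact mul_closed m n hn f x y hx hy
  · obtain ⟨i, j, hij, hu⟩ := exists_unit_diff f hf
    obtain ⟨l, hli, hlj, hall⟩ := third i j hij
    obtain ⟨uinv, huinv⟩ := hu.exists_left_inv
    exact main_equiv m n hmn f i j l hij hli hlj hall uinv huinv S hmem

end Aux

/-- Over R = k⟦t⟧ with k an algebraically closed field of characteristic zero, let S' = R × R × R be the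
unramified triple cover of the formal disk and let m ≤ n ≤ 2m be natural numbers. For every f in S'
not lying in R·1 + t S', the R-submodule S = R·1 + R·(t ^ m f) + t ^ n S' is closed under
multiplication, hence an R-subalgebra (a crimp), and S' / S is isomorphic to R / (t ^ m) ⊕ R / (t ^
n) (so the crimp has μ-invariant n - m and branch divisor (t ^ (2(m+n)))). Together with the
structure result for submodules with this quotient, this identifies the k-points of the space of
crimps of splitting type (m, n), 2m ≥ n, with the submodules of this shape. (The published statement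
moreover asserts that this stratum is an irreducible variety of dimension n - m; that part is not
restated.) -/
theorem result {k : Type u} [Field k] [IsAlgClosed k] [CharZero k]
    (m n : ℕ) (hmn : m ≤ n) (hn : n ≤ 2 * m)
    (f : (Fin 3 → PowerSeries k)) (hf : f ∉ Submodule.span (PowerSeries k) {(1 : (Fin 3 → PowerSeries k))} ⊔ Ideal.span {(PowerSeries.X : PowerSeries k)} • (⊤ : Submodule (PowerSeries k) (Fin 3 → PowerSeries k)))
    (S : Submodule (PowerSeries k) (Fin 3 → PowerSeries k))
    (hS : S = Submodule.span (PowerSeries k) {(1 : (Fin 3 → PowerSeries k)), ((PowerSeries.X : PowerSeries k) ^ m) • f} ⊔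
        Ideal.span {(PowerSeries.X : PowerSeries k) ^ n} • (⊤ : Submodule (PowerSeries k) (Fin 3 → PowerSeries k))) :
    (∀ x ∈ S, ∀ y ∈ S, x * y ∈ S) ∧
    Nonempty (((Fin 3 → PowerSeries k) ⧸ S) ≃ₗ[PowerSeries k]
      ((PowerSeries k ⧸ Ideal.span {(PowerSeries.X : PowerSeries k) ^ m}) × (PowerSeries k ⧸ Ideal.span {(PowerSeries.X : PowerSeries k) ^ n}))) := by
  exact Aux.main m n hmn hn f hf S hS

end Groth.Agent.S13886
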