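import Groth.Statements.S13888
import Mathlib
import Groth.Prelude.Def_DTen3
-- import your own Groth.Agent.* helpers here

set_option autoImplicit false
universe u
open CategoryTheory CategoryTheory.Limits MonoidalCategory
attribute [local instance] HasDerivedCategory.standard
open DTen

namespace Groth.Agent.S13888

open CategoryTheory CategoryTheory.Limits MonoidalCategory
open DTen
namespace Aux

variable {A : Type u} [CommRing A] [DTen.HasLTen A] [DTen.HasLTen₃ A]
    [DTen.IsSymMonoidal A] [DTen.HasRHom A]

/-- naturality of the associator in the first variable -/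
lemma associator_naturality_left {a a' : Dual.D A} (f : a ⟶ a') (b c : Dual.D A) :
    (LTen₂ A).map (Prod.mkHom ((LTen₂ A).map (Prod.mkHom f (𝟙 b))) (𝟙 c)) ≫ (associator a' b c).hom =
      (associator a b c).hom ≫ (LTen₂ A).map (Prod.mkHom f (𝟙 ((LTen₂ A).obj (b, c)))) := by
  have hL : (LTen₂ A).map (Prod.mkHom ((LTen₂ A).map (Prod.mkHom f (𝟙 b))) (𝟙 c)) ≫
      (assocL A).app (a', (b, c)) = (assocL A).app (a, (b, c)) ≫
        (LTen₃ A).map (X := (a, (b, c))) (Y := (a', (b, c))) (Prod.mkHom f (Prod.mkHom (𝟙 b) (𝟙 c))) :=
    (assocL A).naturality (X := (a, (b, c))) (Y := (a', (b, c)))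
      (Prod.mkHom f (Prod.mkHom (𝟙 b) (𝟙 c)))
  have hR : (LTen₂ A).map (Prod.mkHom f (𝟙 ((LTen₂ A).obj (b, c)))) ≫
      (assocR A).app (a', (b, c)) = (assocR A).app (a, (b, c)) ≫
        (LTen₃ A).map (X := (a, (b, c))) (Y := (a', (b, c))) (Prod.mkHom f (Prod.mkHom (𝟙 b) (𝟙 c))) := by
    have h := (assocR A).naturality (X := (a, (b, c))) (Y := (a', (b, c)))
      (Prod.mkHom f (Prod.mkHom (𝟙 b) (𝟙 c)))
    have e2 : (LTenR A).map (X := (a, (b, c))) (Y := (a', (b, c)))
        (Prod.mkHom f (Prod.mkHom (𝟙 b) (𝟙 c))) =
        (LTen₂ A).map (Prod.mkHom f (𝟙 ((LTen₂ A).obj (b, c)))) := by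
      dsimp [LTenR]
      congr 2
      erw [← prod_id, CategoryTheory.Functor.map_id]
    rw [e2] at h
    exact h
  rw [← cancel_mono ((assocR A).app (a', (b, c)))]
  rw [Category.assoc, associator_hom_assocR, hL, Category.assoc, hR, associator_hom_assocR_assoc]
  rfl

theorem comp_curryHom (K L M T : Dual.D A) (g : T ⟶ (RHomR A ((LTen₂ A).obj (K, L))).obj M) :
    g ≫ curryHom K L M =
      rhomHomEquiv _ _ _ (rhomHomEquiv _ _ _
        ((associator T K L).hom ≫ (rhomHomEquiv _ _ _).symm g)) := by
  have h1 := (rhomAdj A K).homEquiv_naturality_left g (rhomHomEquiv _ _ _ (curryHomAux K L M))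
  have h2 := (rhomAdj A L).homEquiv_naturality_left ((tensorRightD A K).map g) (curryHomAux K L M)
  have key : (tensorRightD A L).map ((tensorRightD A K).map g) ≫ curryHomAux K L M =
      (associator T K L).hom ≫ (rhomHomEquiv _ _ _).symm g := by
    unfold curryHomAux
    rw [Adjunction.homEquiv_counit]
    have := associator_naturality_left g K L
    dsimp at this ⊢
    rw [reassoc_of% this]
  refine h1.symm.trans ?_
  refine congrArg _ ?_
  refine h2.symm.trans ?_
  exact congrArg _ key

theorem main (A : Type u) [CommRing A] [DTen.HasLTen A] [DTen.HasLTen₃ A]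
    [DTen.IsSymMonoidal A] [DTen.HasRHom A] (K L M : Dual.D A) :
    IsIso (DTen.curryHom K L M) := by
  refine isIso_of_yoneda_map_bijective _ (fun T => ?_)
  have : (fun g : T ⟶ (RHomR A ((LTen₂ A).obj (K, L))).obj M => g ≫ curryHom K L M) =
      (fun g => rhomHomEquiv _ _ _ (rhomHomEquiv _ _ _
        ((associator T K L).hom ≫ (rhomHomEquiv _ _ _).symm g))) := by
    funext g
    exact comp_curryHom K L M T g
  rw [this]
  refine (Equiv.bijective _).comp ((Equiv.bijective _).comp ?_)
  refine Function.Bijective.comp (g := fun h => (associator T K L).hom ≫ h) ?_ (Equiv.bijective _)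
  constructor
  · intro x y h
    exact (cancel_epi _).1 h
  · intro y
    exact ⟨(associator T K L).inv ≫ y, by simp⟩

end Aux

/-- For a commutative ring `A` (assuming the derived tensor product on `D(A)` with its triple version
exists, that its symmetry, unit and associativity maps are isomorphisms, and that every `- ⊗^L L`
has a right adjoint `RHom(L, -)`) and objects `K`, `L`, `M` of `D(A)`, the canonical morphism
`RHom(K ⊗^L L, M) ⟶ RHom(K, RHom(L, M))`, namely the double adjunct of the associativity isomorphism
followed by evaluation at `K ⊗^L L`, is an isomorphism. (Functoriality in the three objects is built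
into the construction; the identification on `H^0` with the hom bijection of the adjunction is not
part of this row.) -/
theorem result (A : Type u) [CommRing A] [DTen.HasLTen A] [DTen.HasLTen₃ A]
    [DTen.IsSymMonoidal A] [DTen.HasRHom A] (K L M : Dual.D A) :
    IsIso (DTen.curryHom K L M) := by
  exact Aux.main A K L M

end Groth.Agent.S13888
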