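import Groth.Statements.S1389

set_option autoImplicit false
universe u
open FlatMor

namespace Groth.Agent.S1389

open AlgebraicGeometry CategoryTheory Limits in
/-- Let (U, u) and (U', u') be étale neighbourhoods of a point s of S and h₁, h₂ two S-morphisms U → U'
sending u to u' which induce the same map of residue fields κ(u') → κ(u). Then there is an étale
neighbourhood (U'', u'') of s with an S-morphism h : U'' → U sending u'' to u and with h followed by
h₁ equal to h followed by h₂. -/
theorem result {S U U' : Scheme.{u}} (s : S) (g : U ⟶ S) (g' : U' ⟶ S) [Etale g] [Etale g'] (u : U) (u' : U')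
    (hu : g u = s) (hu' : g' u' = s) (h₁ h₂ : U ⟶ U') (w₁ : h₁ ≫ g' = g) (w₂ : h₂ ≫ g' = g) (e₁ : h₁ u = u') (e₂ : h₂ u = u')
    (hres : (U'.residueFieldCongr e₁).inv ≫ h₁.residueFieldMap u = (U'.residueFieldCongr e₂).inv ≫ h₂.residueFieldMap u) :
    ∃ (U'' : Scheme.{u}) (g'' : U'' ⟶ S) (u'' : U'') (h : U'' ⟶ U), Etale g'' ∧ g'' u'' = s ∧ h ≫ g = g'' ∧ h u'' = u ∧ h ≫ h₁ = h ≫ h₂ := by
  have a1 : U.fromSpecResidueField u ≫ h₁ =
      Spec.map ((U'.residueFieldCongr e₁).inv ≫ h₁.residueFieldMap u) ≫
        U'.fromSpecResidueField u' := by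
    rw [Spec.map_comp, Category.assoc, Scheme.residueFieldCongr_inv,
      Scheme.residueFieldCongr_fromSpecResidueField,
      Scheme.Hom.SpecMap_residueFieldMap_fromSpecResidueField]
  have a2 : U.fromSpecResidueField u ≫ h₂ =
      Spec.map ((U'.residueFieldCongr e₂).inv ≫ h₂.residueFieldMap u) ≫
        U'.fromSpecResidueField u' := by
    rw [Spec.map_comp, Category.assoc, Scheme.residueFieldCongr_inv,
      Scheme.residueFieldCongr_fromSpecResidueField,
      Scheme.Hom.SpecMap_residueFieldMap_fromSpecResidueField]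
  have key : U.fromSpecResidueField u ≫ h₁ = U.fromSpecResidueField u ≫ h₂ := by
    rw [a1, a2, hres]
  have hw : h₁ ≫ g' = h₂ ≫ g' := w₁.trans w₂.symm
  obtain ⟨l, hl1, hl2⟩ : ∃ l : U ⟶ pullback g' g', l ≫ pullback.fst g' g' = h₁ ∧
      l ≫ pullback.snd g' g' = h₂ :=
    ⟨pullback.lift h₁ h₂ hw, pullback.lift_fst _ _ _, pullback.lift_snd _ _ _⟩
  have hl : U.fromSpecResidueField u ≫ l =
      (U.fromSpecResidueField u ≫ h₁) ≫ pullback.diagonal g' := by
    apply pullback.hom_ext
    · rw [Category.assoc, hl1, Category.assoc, pullback.diagonal_fst, Category.comp_id]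
    · rw [Category.assoc, hl2, Category.assoc, pullback.diagonal_snd, Category.comp_id, key]
  have hmem : l u ∈ Set.range (pullback.diagonal g') := by
    obtain ⟨z⟩ : Nonempty (Spec (U.residueField u)) := inferInstance
    have hu0 : U.fromSpecResidueField u z = u :=
      Scheme.fromSpecResidueField_apply _ _
    refine ⟨(U.fromSpecResidueField u ≫ h₁) z, ?_⟩
    rw [← Scheme.Hom.comp_apply, ← hl, Scheme.Hom.comp_apply, hu0]
  have hr : Set.range (pullback.snd (pullback.diagonal g') l) =
      l ⁻¹' Set.range (pullback.diagonal g') := Scheme.Pullback.range_snd _ _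
  have hu'' : u ∈ Set.range (pullback.snd (pullback.diagonal g') l) := by
    rw [hr]; exact hmem
  obtain ⟨u'', hu''⟩ := hu''
  have hcond := pullback.condition (f := pullback.diagonal g') (g := l)
  have c1 : pullback.fst (pullback.diagonal g') l = pullback.snd (pullback.diagonal g') l ≫ h₁ := by
    have := congrArg (· ≫ pullback.fst g' g') hcond
    simp only [Category.assoc, pullback.diagonal_fst, Category.comp_id, hl1] at this
    exact this
  have c2 : pullback.fst (pullback.diagonal g') l = pullback.snd (pullback.diagonal g') l ≫ h₂ := by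
    have := congrArg (· ≫ pullback.snd g' g') hcond
    simp only [Category.assoc, pullback.diagonal_snd, Category.comp_id, hl2] at this
    exact this
  refine ⟨pullback (pullback.diagonal g') l, pullback.snd (pullback.diagonal g') l ≫ g, u'',
    pullback.snd (pullback.diagonal g') l, inferInstance, ?_, rfl, hu'', c1.symm.trans c2⟩
  rw [Scheme.Hom.comp_apply, hu'', hu]

end Groth.Agent.S1389
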