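import Groth.Statements.S13895
import Mathlib
import Groth.Agent.Lib.Helper5.Gen.PerfMain
import Groth.Agent.Lib.Helper5.DTenLib.Base

set_option autoImplicit false
universe u
open CategoryTheory CategoryTheory.Limits MonoidalCategory
attribute [local instance] HasDerivedCategory.standard
open DTen


namespace Groth.Agent.S13895.Aux

open Helper5.Gen DerivedCategory Groth.Agent.Lib.Helper5.DTenLib Groth.Agent.Lib.Helper5.KProj

variable {R A : Type u} [CommRing R] [CommRing A] (φ : R →+* A) [DTen.HasLTenMix φ]

/-- the mixed derived tensor product with `QW` is modelled on `F ↦ (F ⊗_R A) ⊗_A W` -/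
noncomputable def model (W : DRing.Cx A) [W.IsKProjective] :
    Model φ W ((Functor.curry.obj (DTen.LTenMix φ)).flip.obj (Q.obj W)) where
  α :=
    { app := fun F => (εMix φ).app (F, W)
      naturality := fun F F' f => by
        have h := (εMix φ).naturality (X := (F, W)) (Y := (F', W)) (Prod.mkHom f (𝟙 W))
        rw [mix₂_map_eq] at h
        dsimp only [Functor.comp_map, Functor.comp_obj, Functor.flip_obj_map,
          Functor.flip_obj_obj, Functor.curry_obj_map_app, Functor.curry_obj_obj_obj]
        dsimp only [Functor.comp_map, Functor.prod_map] at h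
        rw [MonoidalCategory.tensorHom_id] at h
        rw [Q.map_id] at h
        exact h }
  isIso := fun F hF => by
    haveI := hF
    exact isIso_εMix_of_isKProjective φ F W

end Groth.Agent.S13895.Aux

namespace Groth.Agent.S13895

/-- For a map of commutative rings `φ : R → A` with `A` perfect as an `R`-module (its image `A[0]` in
`D(R)` is isomorphic to a bounded complex of finite projective modules), the right adjoint `RHom(A,
-) : D(R) ⥤ D(A)` of restriction is isomorphic, as a functor, to `K ↦ K ⊗^L_R M` where `M = RHom(A,
R) ∈ D(A)` and `⊗^L_R` is the mixed derived tensor product `D(R) × D(A) ⥤ D(A)`. Existence of an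
isomorphism of functors only: the published statement names no map. (Existence of the right adjoint
and of the mixed derived tensor product is assumed as hypotheses.) -/
theorem result (R A : Type u) [CommRing R] [CommRing A]
    (φ : R →+* A) [DTen.HasRHomRel φ] [DTen.HasLTenMix φ]
    (hA : DRing.IsPerfect R ((DRing.restrictD φ).obj (DTen.unit A))) :
    Nonempty (DTen.RHomRel φ ≅
      (Functor.curry.obj (DTen.LTenMix φ)).flip.obj ((DTen.RHomRel φ).obj (DTen.unit R))) := by
  classical
  obtain ⟨W, hW, ⟨eW⟩⟩ := Groth.Agent.Lib.Helper5.KProj.exists_kproj_rep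
    ((DTen.RHomRel φ).obj (DTen.unit R))
  haveI := hW
  let c : (DRing.restrictD φ).obj (DerivedCategory.Q.obj W) ⟶
      DerivedCategory.Q.obj (𝟙_ (DRing.Cx R)) :=
    (DRing.restrictD φ).map eW.hom ≫ (DTen.relAdj φ).counit.app (DTen.unit R)
  have hc : IsIso ((DTen.relAdj φ).homEquiv _ _ c) := by
    have : (DTen.relAdj φ).homEquiv _ _ c = eW.hom := by
      dsimp only [c]
      rw [Adjunction.homEquiv_naturality_left, Adjunction.homEquiv_unit,
        Adjunction.right_triangle_components, Category.comp_id]
    rw [this]
    infer_instance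
  obtain ⟨e⟩ := Helper5.Gen.nonempty_iso_of_model φ (DTen.relAdj φ) hA W c hc
    (Groth.Agent.S13895.Aux.model φ W)
  exact ⟨e.symm ≪≫ (Functor.curry.obj (DTen.LTenMix φ)).flip.mapIso eW⟩

end Groth.Agent.S13895
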