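import Groth.Statements.S13903
import Mathlib
-- import your own Groth.Agent.* helpers here

set_option autoImplicit false
universe u
open EtAlg

namespace Groth.Agent.S13903

namespace Aux

section count
variable {K L : Type u} [Field K] [CommRing L] [Algebra K L] [Module.Finite K L] [IsReduced L]
  [Algebra.IsSeparable K L]

/-- the number of geometric points of a finite reduced separable algebra is at least its
dimension -/
lemma finrank_le_card_algHom (Ω : Type u) [Field Ω] [Algebra K Ω] [IsAlgClosed Ω] :
    Module.finrank K L ≤ Nat.card (L →ₐ[K] Ω) := by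
  have hart : IsArtinianRing L := IsArtinianRing.of_finite K L
  have : Fintype (MaximalSpectrum L) := Fintype.ofFinite _
  -- dimension as a sum
  have hsum : Module.finrank K L = ∑ m : MaximalSpectrum L, Module.finrank K (L ⧸ m.asIdeal) := by
    rw [← Module.finrank_pi_fintype K]
    exact ((IsArtinianRing.equivPi L).toLinearEquiv.restrictScalars K).finrank_eq
  -- number of points of each factor
  have hpts : ∀ m : MaximalSpectrum L,
      Nat.card ((L ⧸ m.asIdeal) →ₐ[K] Ω) = Module.finrank K (L ⧸ m.asIdeal) := by
    intro m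
    have hmax : m.asIdeal.IsMaximal := m.isMaximal
    letI : Field (L ⧸ m.asIdeal) := Ideal.Quotient.field m.asIdeal
    have hsep : Algebra.IsSeparable K (L ⧸ m.asIdeal) := by
      refine ⟨fun y => ?_⟩
      obtain ⟨x, rfl⟩ := Ideal.Quotient.mk_surjective y
      have hx : IsSeparable K x := Algebra.IsSeparable.isSeparable K x
      have hdvd : minpoly K (Ideal.Quotient.mk m.asIdeal x) ∣ minpoly K x := by
        apply minpoly.dvd
        have := Polynomial.aeval_algHom_apply (Ideal.Quotient.mkₐ K m.asIdeal) x (minpoly K x)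
        rw [minpoly.aeval, map_zero] at this
        exact this
      exact Polynomial.Separable.of_dvd hx hdvd
    exact AlgHom.natCard_of_splits K (L ⧸ m.asIdeal) Ω (fun x => IsAlgClosed.splits _)
  -- injection
  let Φ : (Σ m : MaximalSpectrum L, (L ⧸ m.asIdeal) →ₐ[K] Ω) → (L →ₐ[K] Ω) :=
    fun x => x.2.comp (Ideal.Quotient.mkₐ K x.1.asIdeal)
  have hΦ : Function.Injective Φ := by
    rintro ⟨m, σ⟩ ⟨m', σ'⟩ h
    have hker : ∀ (m : MaximalSpectrum L) (σ : (L ⧸ m.asIdeal) →ₐ[K] Ω) (x : L),
        Φ ⟨m, σ⟩ x = 0 ↔ x ∈ m.asIdeal := by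
      intro m σ x
      have hmax : m.asIdeal.IsMaximal := m.isMaximal
      letI : Field (L ⧸ m.asIdeal) := Ideal.Quotient.field m.asIdeal
      change σ (Ideal.Quotient.mk m.asIdeal x) = 0 ↔ _
      rw [map_eq_zero_iff σ σ.toRingHom.injective, Ideal.Quotient.eq_zero_iff_mem]
    have hmm : m = m' := by
      apply MaximalSpectrum.ext
      ext x
      rw [← hker m σ x, ← hker m' σ' x, h]
    subst hmm
    congr 1
    apply AlgHom.ext
    intro y
    obtain ⟨x, rfl⟩ := Ideal.Quotient.mk_surjective y
    exact congrArg (fun f : L →ₐ[K] Ω => f x) h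
  have hfinH : Finite (L →ₐ[K] Ω) := inferInstance
  have hfinm : ∀ m : MaximalSpectrum L, Finite ((L ⧸ m.asIdeal) →ₐ[K] Ω) := fun m => inferInstance
  calc Module.finrank K L = ∑ m : MaximalSpectrum L, Module.finrank K (L ⧸ m.asIdeal) := hsum
    _ = ∑ m : MaximalSpectrum L, Nat.card ((L ⧸ m.asIdeal) →ₐ[K] Ω) := by
        apply Finset.sum_congr rfl
        intro m _
        rw [hpts]
    _ = Nat.card (Σ m : MaximalSpectrum L, (L ⧸ m.asIdeal) →ₐ[K] Ω) := Nat.card_sigma.symm
    _ ≤ Nat.card (L →ₐ[K] Ω) := Nat.card_le_card_of_injective Φ hΦ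

end count


section gen
variable {K L : Type u} [Field K] [CommRing L] [Algebra K L] [Module.Finite K L] [IsReduced L]
  [Algebra.IsSeparable K L]

/-- if the geometric points take distinct values on `u`, then `u` generates -/
lemma adjoin_eq_top_of_injective (Ω : Type u) [Field Ω] [Algebra K Ω] [IsAlgClosed Ω] (u : L)
    (hu : Function.Injective fun φ : L →ₐ[K] Ω => φ u) : Algebra.adjoin K {u} = ⊤ := by
  set M : Subalgebra K L := Algebra.adjoin K {u} with hM
  have hres : Function.Injective fun φ : L →ₐ[K] Ω => φ.comp M.val := by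
    intro φ ψ h
    apply hu
    have := congrArg (fun f : M →ₐ[K] Ω => f ⟨u, Algebra.self_mem_adjoin_singleton K u⟩) h
    exact this
  have h1 : Nat.card (L →ₐ[K] Ω) ≤ Nat.card (M →ₐ[K] Ω) :=
    Nat.card_le_card_of_injective _ hres
  have h2 : Nat.card (M →ₐ[K] Ω) ≤ Module.finrank K M := card_algHom_le_finrank K M Ω
  have h3 : Module.finrank K L ≤ Nat.card (L →ₐ[K] Ω) := finrank_le_card_algHom Ω
  have h4 : Module.finrank K M = Module.finrank K L := by
    have : Module.finrank K M ≤ Module.finrank K L := Submodule.finrank_le (Subalgebra.toSubmodule M)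
    omega
  have h5 : Subalgebra.toSubmodule M = ⊤ := Submodule.eq_top_of_finrank_eq h4
  exact Subalgebra.toSubmodule_injective (by rw [h5, Algebra.top_toSubmodule])

theorem main (z t : L)
    (hgen : Algebra.adjoin K ({z, t} : Set L) = ⊤) (S : Finset K)
    (hS : Module.finrank K L ^ (4 * Module.finrank K L) ≤ S.card) :
    ∃ c ∈ S, Algebra.adjoin K ({c • z + t} : Set L) = ⊤ := by
  classical
  let Ω := AlgebraicClosure K
  set d := Module.finrank K L with hd
  have hH : Finite (L →ₐ[K] Ω) := inferInstance
  have : Fintype (L →ₐ[K] Ω) := Fintype.ofFinite _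
  have hcard : Fintype.card (L →ₐ[K] Ω) ≤ d := by
    rw [← Nat.card_eq_fintype_card]
    exact card_algHom_le_finrank K L Ω
  by_contra hcon
  push Not at hcon
  -- every c in S is bad
  have hbad : ∀ c ∈ S, ∃ p : (L →ₐ[K] Ω) × (L →ₐ[K] Ω), p.1 ≠ p.2 ∧
      p.1 (c • z + t) = p.2 (c • z + t) := by
    intro c hc
    have h1 : ¬ Function.Injective fun φ : L →ₐ[K] Ω => φ (c • z + t) := fun hinj =>
      hcon c hc (adjoin_eq_top_of_injective Ω _ hinj)
    rw [Function.Injective] at h1
    push Not at h1
    obtain ⟨φ, ψ, h2, h3⟩ := h1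
    exact ⟨(φ, ψ), h3, h2⟩
  have hSne : S.Nonempty := by
    rw [← Finset.card_pos]
    have : 0 < d ^ (4 * d) := by
      rcases Nat.eq_zero_or_pos d with h | h
      · rw [h]; simp
      · exact Nat.pow_pos h
    omega
  have hne : Nonempty ((L →ₐ[K] Ω) × (L →ₐ[K] Ω)) := by
    obtain ⟨c, hc⟩ := hSne
    obtain ⟨p, _⟩ := hbad c hc
    exact ⟨p⟩
  choose! f hf using hbad
  have hinj : Set.InjOn f (S : Set K) := by
    intro c hc c' hc' hcc'
    by_contra hne
    obtain ⟨h1, h2⟩ := hf c hc
    obtain ⟨h1', h2'⟩ := hf c' hc'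
    rw [← hcc'] at h2'
    apply h1
    -- φ z = ψ z and φ t = ψ t
    simp only [map_add, map_smul] at h2 h2'
    have h3 : (c - c') • ((f c).1 z - (f c).2 z) = 0 := by
      rw [sub_smul, smul_sub, smul_sub]
      linear_combination h2 - h2'
    have h4 : (f c).1 z = (f c).2 z := by
      rcases smul_eq_zero.mp h3 with h | h
      · exact absurd (sub_eq_zero.mp h) hne
      · exact sub_eq_zero.mp h
    have h5 : (f c).1 t = (f c).2 t := by
      rw [h4] at h2
      exact add_left_cancel h2
    have h6 : Algebra.adjoin K ({z, t} : Set L) ≤ AlgHom.equalizer (f c).1 (f c).2 := by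
      apply Algebra.adjoin_le
      rintro x (rfl | rfl)
      · exact h4
      · exact h5
    rw [hgen] at h6
    apply AlgHom.ext
    intro x
    exact h6 (Algebra.mem_top)
  have h7 : S.card ≤ (Finset.univ : Finset ((L →ₐ[K] Ω) × (L →ₐ[K] Ω))).card :=
    Finset.card_le_card_of_injOn f (fun c _ => Finset.mem_univ _) hinj
  rw [Finset.card_univ, Fintype.card_prod] at h7
  have h8 : S.card ≤ d * d := h7.trans (Nat.mul_le_mul hcard hcard)
  -- numerics
  by_cases hd1 : d ≤ 1
  · -- at most one point: no bad pairs
    obtain ⟨c, hc⟩ := hSne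
    obtain ⟨h1, _⟩ := hf c hc
    apply h1
    have : Fintype.card (L →ₐ[K] Ω) ≤ 1 := hcard.trans hd1
    exact (Fintype.card_le_one_iff_subsingleton.mp this).elim _ _
  · have hd2 : 2 ≤ d := by omega
    have h9 : d * d < d ^ (4 * d) := by
      have h10 : d ^ 2 < d ^ (4 * d) := Nat.pow_lt_pow_right (by omega) (by omega)
      rw [sq] at h10
      exact h10
    omega

end gen

end Aux

/-- Let K be a field and L a finite-dimensional reduced commutative K-algebra of dimension d all of
whose elements are separable over K, generated as a K-algebra by z and t. In any finite set of at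
least d^(4d) elements of K there is an element c such that c • z + t generates L as a K-algebra.
(The published statement does not require separability; for K of characteristic p and L obtained by
adjoining p-th roots of two independent indeterminates, L is a reduced finite K-algebra generated by
two elements with no single generator, so separability over K is assumed here, as the counting in
the published proof requires.) -/
theorem result (K L : Type u) [Field K] [CommRing L]
    [Algebra K L] [Module.Finite K L] [IsReduced L] [Algebra.IsSeparable K L] (z t : L)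
    (hgen : Algebra.adjoin K ({z, t} : Set L) = ⊤) (S : Finset K)
    (hS : Module.finrank K L ^ (4 * Module.finrank K L) ≤ S.card) :
    ∃ c ∈ S, Algebra.adjoin K ({c • z + t} : Set L) = ⊤ := by
  exact Aux.main z t hgen S hS

end Groth.Agent.S13903
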