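import Groth.Statements.S13905
import Mathlib

set_option autoImplicit false
universe u
open ProjGeom

namespace Groth.Agent.S13905

open W4c1etcurveeff3b in
/-- Hyperplanes of projective n-space in general position, in linear-algebra form (V of dimension n + 1
over a field k, hyperplanes as n-dimensional subspaces, points as nonzero vectors): if S is a finite
set of hyperplanes in general position with at least n members and H is a hyperplane containing none
of the lines cut out by n members of S, then S with H added is again in general position. (The
published statement is for hyperplanes of P^n_k and closed points; a closed point lying on n + 1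
members is automatically one of the rational points cut out by n of them, so the condition on
nonzero vectors of V is the same condition.) -/
theorem result (k V : Type u) [Field k]
    [AddCommGroup V] [Module k V] [DecidableEq (Submodule k V)] (n : ℕ) (S : Finset (Submodule k V))
    (hS : InGeneralPosition k V n S) (hn : n ≤ S.card) (H : Submodule k V)
    (hH : Module.finrank k H = n)
    (havoid : ∀ T ⊆ S, T.card = n → ¬ (T.inf id ≤ H)) :
    InGeneralPosition k V n (insert H S) := by
  obtain ⟨hV, hdim, hint, hpt⟩ := hS
  have hfin : FiniteDimensional k V := Module.finite_of_finrank_pos (by omega)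
  by_cases hHS : H ∈ S
  · rw [Finset.insert_eq_of_mem hHS]
    exact ⟨hV, hdim, hint, hpt⟩
  have claimA : ∀ T ⊆ S, T.card ≤ n → ¬ (T.inf id ≤ H) := by
    intro T hTS hTn hle
    obtain ⟨T₁, hTT₁, hT₁S, hT₁n⟩ := Finset.exists_subsuperset_card_eq hTS hTn hn
    exact havoid T₁ hT₁S hT₁n (le_trans (Finset.inf_mono hTT₁) hle)
  have claimB : ∀ W : Submodule k V, ¬ (W ≤ H) →
      Module.finrank k ↥(H ⊓ W) + 1 = Module.finrank k W := by
    intro W hW
    have hlt : H < H ⊔ W := by
      refine lt_of_le_of_ne le_sup_left ?_
      intro heq
      apply hW
      rw [heq]
      exact le_sup_right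
    have h1 := Submodule.finrank_lt_finrank_of_lt hlt
    have h2 : Module.finrank k ↥(H ⊔ W) ≤ n + 1 := by
      rw [← hV]
      exact Submodule.finrank_le _
    have h3 := Submodule.finrank_sup_add_finrank_inf_eq H W
    omega
  have sub_of_notMem : ∀ T' : Finset (Submodule k V), T' ⊆ insert H S → H ∉ T' → T' ⊆ S := by
    intro T' hT' hH X hX
    rcases Finset.mem_insert.mp (hT' hX) with h | h
    · exact absurd (h ▸ hX) hH
    · exact h
  have erase_sub : ∀ T' : Finset (Submodule k V), T' ⊆ insert H S → T'.erase H ⊆ S := by
    intro T' hT' X hX
    rcases Finset.mem_insert.mp (hT' (Finset.mem_of_mem_erase hX)) with h | h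
    · exact absurd h (Finset.ne_of_mem_erase hX)
    · exact h
  refine ⟨hV, ?_, ?_, ?_⟩
  · intro X hX
    rcases Finset.mem_insert.mp hX with h | h
    · rw [h]; exact hH
    · exact hdim X h
  · intro T' hT' hcard
    by_cases hHT : H ∈ T'
    · set T := T'.erase H with hT
      have hTS : T ⊆ S := erase_sub T' hT'
      have hins : T' = insert H T := (Finset.insert_erase hHT).symm
      have hc : T'.card = T.card + 1 := by
        rw [hins, Finset.card_insert_of_notMem (Finset.notMem_erase H T')]
      have hTn : T.card ≤ n := by omega
      have h1 := hint T hTS hTn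
      have h2 := claimB (T.inf id) (claimA T hTS hTn)
      have h3 : T'.inf id = H ⊓ T.inf id := by
        rw [hins, Finset.inf_insert]
        rfl
      rw [h3]
      omega
    · exact hint T' (sub_of_notMem T' hT' hHT) hcard
  · intro v hv T' hT' hmem
    by_cases hHT : H ∈ T'
    · set T := T'.erase H with hT
      have hTS : T ⊆ S := erase_sub T' hT'
      have hins : T' = insert H T := (Finset.insert_erase hHT).symm
      have hc : T'.card = T.card + 1 := by
        rw [hins, Finset.card_insert_of_notMem (Finset.notMem_erase H T')]
      have hmemT : ∀ X ∈ T, v ∈ X := fun X hX => hmem X (Finset.mem_of_mem_erase hX)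
      have hTn : T.card ≤ n := hpt v hv T hTS hmemT
      by_contra hcon
      have hTn' : T.card = n := by omega
      have h1 := hint T hTS hTn
      have h1' : Module.finrank k ↥(T.inf id) = 1 := by omega
      have hvT : v ∈ T.inf id := by
        rw [Submodule.mem_finsetInf]
        exact hmemT
      have hvH : v ∈ H := hmem H hHT
      apply havoid T hTS hTn'
      intro w hw
      have hv' : (⟨v, hvT⟩ : ↥(T.inf id)) ≠ 0 := by
        intro h0
        apply hv
        exact congrArg Subtype.val h0
      obtain ⟨c, hc'⟩ := (finrank_eq_one_iff_of_nonzero' _ hv').mp h1' ⟨w, hw⟩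
      have : w = c • v := by
        have := congrArg Subtype.val hc'
        simpa using this.symm
      rw [this]
      exact Submodule.smul_mem _ _ hvH
    · exact hpt v hv T' (sub_of_notMem T' hT' hHT) hmem

end Groth.Agent.S13905
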