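import Groth.Statements.S13911
import Mathlib
-- import your own Groth.Agent.* helpers here

set_option autoImplicit false
universe u
open PlaneConic

namespace Groth.Agent.S13911

open MvPolynomial Matrix
namespace Aux

section
variable {k : Type u} [Field k]

/-- the linear form with coefficient vector `a` -/
noncomputable def lin : (Fin 3 → k) →ₗ[k] MvPolynomial (Fin 3) k where
  toFun a := ∑ i : Fin 3, a i • X i
  map_add' a b := by simp [add_smul, Finset.sum_add_distrib]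
  map_smul' c a := by simp [mul_smul, Finset.smul_sum]

lemma lin_apply (a : Fin 3 → k) : lin a = ∑ i : Fin 3, a i • (X i : MvPolynomial (Fin 3) k) := rfl

lemma eval_lin (a x : Fin 3 → k) : eval x (lin a) = a 0 * x 0 + a 1 * x 1 + a 2 * x 2 := by
  simp [lin_apply, Fin.sum_univ_three, smul_eq_C_mul]

/-- the quadratic form of a matrix -/
noncomputable def qf (Q : Matrix (Fin 3) (Fin 3) k) : MvPolynomial (Fin 3) k :=
  ∑ i : Fin 3, ∑ j : Fin 3, Q i j • (X i * X j)

lemma eval_qf (Q : Matrix (Fin 3) (Fin 3) k) (x : Fin 3 → k) :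
    eval x (qf Q) = Q 0 0 * (x 0 * x 0) + Q 0 1 * (x 0 * x 1) + Q 0 2 * (x 0 * x 2) +
      (Q 1 0 * (x 1 * x 0) + Q 1 1 * (x 1 * x 1) + Q 1 2 * (x 1 * x 2)) +
      (Q 2 0 * (x 2 * x 0) + Q 2 1 * (x 2 * x 1) + Q 2 2 * (x 2 * x 2)) := by
  simp [qf, Fin.sum_univ_three, smul_eq_C_mul]

/-- the symmetric matrix of the product of two linear forms -/
def symm2 (a b : Fin 3 → k) : Matrix (Fin 3) (Fin 3) k :=
  fun i j => (a i * b j + a j * b i) / 2

lemma stepB [CharZero k] (Q : Matrix (Fin 3) (Fin 3) k) (hQ : Q.IsSymm) (a b : Fin 3 → k)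
    (h : ∀ x : Fin 3 → k, eval x (qf Q) =
      (a 0 * x 0 + a 1 * x 1 + a 2 * x 2) * (b 0 * x 0 + b 1 * x 1 + b 2 * x 2)) :
    Q = symm2 a b := by
  have h2 : (2 : k) ≠ 0 := two_ne_zero
  have s01 : Q 1 0 = Q 0 1 := hQ.apply 0 1
  have s02 : Q 2 0 = Q 0 2 := hQ.apply 0 2
  have s12 : Q 2 1 = Q 1 2 := hQ.apply 1 2
  have e1 := h ![1, 0, 0]
  have e2 := h ![0, 1, 0]
  have e3 := h ![0, 0, 1]
  have e4 := h ![1, 1, 0]
  have e5 := h ![1, 0, 1]
  have e6 := h ![0, 1, 1]
  rw [eval_qf] at e1 e2 e3 e4 e5 e6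
  simp only [Matrix.cons_val_zero, Matrix.cons_val_one, Matrix.cons_val_two, Matrix.head_cons,
    Matrix.tail_cons, mul_zero, mul_one, add_zero, zero_add, s01, s02, s12] at e1 e2 e3 e4 e5 e6
  ext i j
  fin_cases i <;> fin_cases j
  · show Q 0 0 = (a 0 * b 0 + a 0 * b 0) / 2
    rw [eq_div_iff h2]; linear_combination 2 * e1
  · show Q 0 1 = (a 0 * b 1 + a 1 * b 0) / 2
    rw [eq_div_iff h2]; linear_combination e4 - e1 - e2
  · show Q 0 2 = (a 0 * b 2 + a 2 * b 0) / 2
    rw [eq_div_iff h2]; linear_combination e5 - e1 - e3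
  · show Q 1 0 = (a 1 * b 0 + a 0 * b 1) / 2
    rw [eq_div_iff h2]; linear_combination 2 * s01 + e4 - e1 - e2
  · show Q 1 1 = (a 1 * b 1 + a 1 * b 1) / 2
    rw [eq_div_iff h2]; linear_combination 2 * e2
  · show Q 1 2 = (a 1 * b 2 + a 2 * b 1) / 2
    rw [eq_div_iff h2]; linear_combination e6 - e2 - e3
  · show Q 2 0 = (a 2 * b 0 + a 0 * b 2) / 2
    rw [eq_div_iff h2]; linear_combination 2 * s02 + e5 - e1 - e3
  · show Q 2 1 = (a 2 * b 1 + a 1 * b 2) / 2
    rw [eq_div_iff h2]; linear_combination 2 * s12 + e6 - e2 - e3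
  · show Q 2 2 = (a 2 * b 2 + a 2 * b 2) / 2
    rw [eq_div_iff h2]; linear_combination 2 * e3


lemma binfac [IsAlgClosed k] [CharZero k] (s t : Fin 3 → k) (α β γ : k) :
    ∃ a b : Fin 3 → k, C α * (lin s) ^ 2 + C β * (lin s * lin t) + C γ * (lin t) ^ 2 =
      lin a * lin b := by
  by_cases hα : α = 0
  · refine ⟨t, β • s + γ • t, ?_⟩
    rw [hα, map_add, map_smul, map_smul, smul_eq_C_mul, smul_eq_C_mul]
    simp only [map_zero, zero_mul, zero_add]
    ring
  · haveI : NeZero (2 : k) := ⟨two_ne_zero⟩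
    obtain ⟨σ, hσ⟩ := IsAlgClosed.exists_eq_mul_self (discrim α β γ)
    obtain ⟨r₁, hr₁⟩ := exists_quadratic_eq_zero hα ⟨σ, hσ⟩
    set r₂ : k := -β / α - r₁ with hr₂
    have hβ : β = -α * (r₁ + r₂) := by
      rw [hr₂]; field_simp; ring
    have hγ : γ = α * r₁ * r₂ := by
      rw [hr₂]; field_simp; linear_combination hr₁
    refine ⟨α • (s - r₁ • t), s - r₂ • t, ?_⟩
    rw [map_smul, map_sub, map_sub, map_smul, map_smul, smul_eq_C_mul, smul_eq_C_mul,
      smul_eq_C_mul, hβ, hγ]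
    simp only [map_mul, map_neg, map_add]
    ring


lemma qf_expand (Q : Matrix (Fin 3) (Fin 3) k) :
    qf Q = C (Q 0 0) * (X 0 * X 0) + C (Q 0 1) * (X 0 * X 1) + C (Q 0 2) * (X 0 * X 2) +
      (C (Q 1 0) * (X 1 * X 0) + C (Q 1 1) * (X 1 * X 1) + C (Q 1 2) * (X 1 * X 2)) +
      (C (Q 2 0) * (X 2 * X 0) + C (Q 2 1) * (X 2 * X 1) + C (Q 2 2) * (X 2 * X 2)) := by
  simp only [qf, Fin.sum_univ_three, smul_eq_C_mul]

lemma lin_expand (a : Fin 3 → k) :
    lin a = C (a 0) * X 0 + C (a 1) * X 1 + C (a 2) * X 2 := by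
  simp only [lin_apply, Fin.sum_univ_three, smul_eq_C_mul]

lemma mulVec_expand (Q : Matrix (Fin 3) (Fin 3) k) (u : Fin 3 → k) (i : Fin 3) :
    (Q *ᵥ u) i = Q i 0 * u 0 + Q i 1 * u 1 + Q i 2 * u 2 := by
  simp [Matrix.mulVec, dotProduct, Fin.sum_univ_three]

lemma stepA0 [IsAlgClosed k] [CharZero k] (Q : Matrix (Fin 3) (Fin 3) k) (hQ : Q.IsSymm)
    (u : Fin 3 → k) (hu : Q *ᵥ u = 0) (h1 : u 0 = 1) :
    ∃ a b : Fin 3 → k, qf Q = lin a * lin b := by
  have s01 : Q 1 0 = Q 0 1 := hQ.apply 0 1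
  have s02 : Q 2 0 = Q 0 2 := hQ.apply 0 2
  have s12 : Q 2 1 = Q 1 2 := hQ.apply 1 2
  have K0 := congrFun hu 0
  have K1 := congrFun hu 1
  have K2 := congrFun hu 2
  rw [mulVec_expand, h1] at K0 K1 K2
  simp only [Pi.zero_apply, mul_one, s01, s02, s12] at K0 K1 K2
  have hK0 := congrArg (C : k →+* MvPolynomial (Fin 3) k) K0
  have hK1 := congrArg (C : k →+* MvPolynomial (Fin 3) k) K1
  have hK2 := congrArg (C : k →+* MvPolynomial (Fin 3) k) K2
  simp only [map_add, map_mul, map_zero] at hK0 hK1 hK2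
  obtain ⟨a, b, hab⟩ := binfac ![-u 1, 1, 0] ![-u 2, 0, 1] (Q 1 1) (2 * Q 1 2) (Q 2 2)
  refine ⟨a, b, ?_⟩
  rw [← hab, qf_expand, lin_expand, lin_expand, s01, s02, s12]
  simp only [Matrix.cons_val_zero, Matrix.cons_val_one, Matrix.cons_val_two, Matrix.head_cons,
    Matrix.tail_cons, map_neg, map_one, map_zero, map_mul, map_ofNat, zero_mul, add_zero, one_mul]
  linear_combination (X 0 * X 0) * hK0 + (2 * X 0 * X 1 - C (u 1) * (X 0 * X 0)) * hK1 +
    (2 * X 0 * X 2 - C (u 2) * (X 0 * X 0)) * hK2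


lemma stepA1 [IsAlgClosed k] [CharZero k] (Q : Matrix (Fin 3) (Fin 3) k) (hQ : Q.IsSymm)
    (u : Fin 3 → k) (hu : Q *ᵥ u = 0) (h1 : u 1 = 1) :
    ∃ a b : Fin 3 → k, qf Q = lin a * lin b := by
  have s01 : Q 1 0 = Q 0 1 := hQ.apply 0 1
  have s02 : Q 2 0 = Q 0 2 := hQ.apply 0 2
  have s12 : Q 2 1 = Q 1 2 := hQ.apply 1 2
  have K0 := congrFun hu 0
  have K1 := congrFun hu 1
  have K2 := congrFun hu 2
  rw [mulVec_expand, h1] at K0 K1 K2
  simp only [Pi.zero_apply, mul_one, s01, s02, s12] at K0 K1 K2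
  have hK0 := congrArg (C : k →+* MvPolynomial (Fin 3) k) K0
  have hK1 := congrArg (C : k →+* MvPolynomial (Fin 3) k) K1
  have hK2 := congrArg (C : k →+* MvPolynomial (Fin 3) k) K2
  simp only [map_add, map_mul, map_zero] at hK0 hK1 hK2
  obtain ⟨a, b, hab⟩ := binfac ![1, -u 0, 0] ![0, -u 2, 1] (Q 0 0) (2 * Q 0 2) (Q 2 2)
  refine ⟨a, b, ?_⟩
  rw [← hab, qf_expand, lin_expand, lin_expand, s01, s02, s12]
  simp only [Matrix.cons_val_zero, Matrix.cons_val_one, Matrix.cons_val_two, Matrix.head_cons,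
    Matrix.tail_cons, map_neg, map_one, map_zero, map_mul, map_ofNat, zero_mul, add_zero, one_mul,
    zero_add]
  linear_combination (X 1 * X 1) * hK1 + (2 * X 1 * X 0 - C (u 0) * (X 1 * X 1)) * hK0 +
    (2 * X 1 * X 2 - C (u 2) * (X 1 * X 1)) * hK2

lemma stepA2 [IsAlgClosed k] [CharZero k] (Q : Matrix (Fin 3) (Fin 3) k) (hQ : Q.IsSymm)
    (u : Fin 3 → k) (hu : Q *ᵥ u = 0) (h1 : u 2 = 1) :
    ∃ a b : Fin 3 → k, qf Q = lin a * lin b := by
  have s01 : Q 1 0 = Q 0 1 := hQ.apply 0 1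
  have s02 : Q 2 0 = Q 0 2 := hQ.apply 0 2
  have s12 : Q 2 1 = Q 1 2 := hQ.apply 1 2
  have K0 := congrFun hu 0
  have K1 := congrFun hu 1
  have K2 := congrFun hu 2
  rw [mulVec_expand, h1] at K0 K1 K2
  simp only [Pi.zero_apply, mul_one, s01, s02, s12] at K0 K1 K2
  have hK0 := congrArg (C : k →+* MvPolynomial (Fin 3) k) K0
  have hK1 := congrArg (C : k →+* MvPolynomial (Fin 3) k) K1
  have hK2 := congrArg (C : k →+* MvPolynomial (Fin 3) k) K2
  simp only [map_add, map_mul, map_zero] at hK0 hK1 hK2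
  obtain ⟨a, b, hab⟩ := binfac ![1, 0, -u 0] ![0, 1, -u 1] (Q 0 0) (2 * Q 0 1) (Q 1 1)
  refine ⟨a, b, ?_⟩
  rw [← hab, qf_expand, lin_expand, lin_expand, s01, s02, s12]
  simp only [Matrix.cons_val_zero, Matrix.cons_val_one, Matrix.cons_val_two, Matrix.head_cons,
    Matrix.tail_cons, map_neg, map_one, map_zero, map_mul, map_ofNat, zero_mul, add_zero, one_mul,
    zero_add]
  linear_combination (X 2 * X 2) * hK2 + (2 * X 2 * X 0 - C (u 0) * (X 2 * X 2)) * hK0 +
    (2 * X 2 * X 1 - C (u 1) * (X 2 * X 2)) * hK1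

lemma stepA [IsAlgClosed k] [CharZero k] (Q : Matrix (Fin 3) (Fin 3) k) (hQ : Q.IsSymm)
    (hdet : Q.det = 0) : ∃ a b : Fin 3 → k, qf Q = lin a * lin b := by
  obtain ⟨u, hu0, hu⟩ := Matrix.exists_mulVec_eq_zero_iff.mpr hdet
  obtain ⟨i, hi⟩ := Function.ne_iff.mp hu0
  have hi' : u i ≠ 0 := hi
  have hu' : Q *ᵥ ((u i)⁻¹ • u) = 0 := by rw [Matrix.mulVec_smul, hu, smul_zero]
  have h1 : ((u i)⁻¹ • u) i = 1 := by
    rw [Pi.smul_apply, smul_eq_mul, inv_mul_cancel₀ hi']
  fin_cases i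
  · exact stepA0 Q hQ _ hu' h1
  · exact stepA1 Q hQ _ hu' h1
  · exact stepA2 Q hQ _ hu' h1


lemma dot_expand (a v : Fin 3 → k) : a ⬝ᵥ v = a 0 * v 0 + a 1 * v 1 + a 2 * v 2 := by
  simp [dotProduct, Fin.sum_univ_three]

lemma symm2_mulVec [CharZero k] (a b v : Fin 3 → k) :
    symm2 a b *ᵥ v = ((b ⬝ᵥ v) / 2) • a + ((a ⬝ᵥ v) / 2) • b := by
  have h2 : (2 : k) ≠ 0 := two_ne_zero
  funext i
  rw [mulVec_expand, dot_expand, dot_expand]
  simp only [symm2, Pi.add_apply, Pi.smul_apply, smul_eq_mul]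
  field_simp
  ring

lemma range_le_span [CharZero k] (a b : Fin 3 → k) :
    LinearMap.range (symm2 a b).mulVecLin ≤ Submodule.span k {a, b} := by
  rintro _ ⟨v, rfl⟩
  rw [Matrix.mulVecLin_apply, symm2_mulVec]
  exact Submodule.add_mem _ (Submodule.smul_mem _ _ (Submodule.subset_span (by simp)))
    (Submodule.smul_mem _ _ (Submodule.subset_span (by simp)))

lemma rank_indep [CharZero k] (a b : Fin 3 → k) (hab : LinearIndependent k ![a, b]) :
    (symm2 a b).rank = 2 := by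
  have h2 : (2 : k) ≠ 0 := two_ne_zero
  have hw : a ⨯₃ b ≠ 0 := crossProduct_ne_zero_iff_linearIndependent.mpr hab
  obtain ⟨i, hi⟩ := Function.ne_iff.mp hw
  have hi' : (a ⨯₃ b) i ≠ 0 := hi
  have hz : ∀ w : Fin 3 → k, (Pi.single i 1 : Fin 3 → k) ⬝ᵥ w = w i := by
    intro w
    rw [single_dotProduct, one_mul]
  -- `a` is in the range
  have ha : a ∈ LinearMap.range (symm2 a b).mulVecLin := by
    have e1 : a ⬝ᵥ (a ⨯₃ (Pi.single i 1 : Fin 3 → k)) = 0 := dot_self_cross _ _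
    have e2 : b ⬝ᵥ (a ⨯₃ (Pi.single i 1 : Fin 3 → k)) = -(a ⨯₃ b) i := by
      rw [triple_product_permutation, triple_product_permutation, hz, ← cross_anticomm]
      rfl
    refine ⟨(-2 / (a ⨯₃ b) i) • (a ⨯₃ (Pi.single i 1 : Fin 3 → k)), ?_⟩
    rw [Matrix.mulVecLin_apply, Matrix.mulVec_smul, symm2_mulVec, e1, e2, zero_div, zero_smul,
      add_zero, smul_smul]
    have : -2 / (a ⨯₃ b) i * (-(a ⨯₃ b) i / 2) = 1 := by field_simp
    rw [this, one_smul]
  have hb : b ∈ LinearMap.range (symm2 a b).mulVecLin := by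
    have e1 : b ⬝ᵥ (b ⨯₃ (Pi.single i 1 : Fin 3 → k)) = 0 := dot_self_cross _ _
    have e2 : a ⬝ᵥ (b ⨯₃ (Pi.single i 1 : Fin 3 → k)) = (a ⨯₃ b) i := by
      rw [triple_product_permutation, triple_product_permutation, hz]
    refine ⟨(2 / (a ⨯₃ b) i) • (b ⨯₃ (Pi.single i 1 : Fin 3 → k)), ?_⟩
    rw [Matrix.mulVecLin_apply, Matrix.mulVec_smul, symm2_mulVec, e1, e2, zero_div, zero_smul,
      zero_add, smul_smul]
    have : 2 / (a ⨯₃ b) i * ((a ⨯₃ b) i / 2) = 1 := by field_simp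
    rw [this, one_smul]
  have hrange : LinearMap.range (symm2 a b).mulVecLin = Submodule.span k {a, b} := by
    apply le_antisymm (range_le_span a b)
    rw [Submodule.span_le]
    rintro x (rfl | rfl)
    · exact ha
    · exact hb
  rw [Matrix.rank, hrange]
  have h3 := finrank_span_eq_card hab
  have h4 : Set.range ![a, b] = {a, b} := by
    simp [Matrix.range_cons, Set.pair_comm]
  rw [h4] at h3
  rw [h3]
  rfl

lemma rank_dep [CharZero k] (a : Fin 3 → k) (c : k) : (symm2 a (c • a)).rank ≤ 1 := by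
  have h : LinearMap.range (symm2 a (c • a)).mulVecLin ≤ Submodule.span k {a} := by
    rintro _ ⟨v, rfl⟩
    rw [Matrix.mulVecLin_apply, symm2_mulVec]
    exact Submodule.add_mem _ (Submodule.smul_mem _ _ (Submodule.subset_span rfl))
      (Submodule.smul_mem _ _ (Submodule.smul_mem _ _ (Submodule.subset_span rfl)))
  rw [Matrix.rank]
  calc Module.finrank k (LinearMap.range (symm2 a (c • a)).mulVecLin)
      ≤ Module.finrank k (Submodule.span k {a}) := Submodule.finrank_mono h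
    _ ≤ 1 := by
      have := finrank_span_le_card (R := k) ({a} : Set (Fin 3 → k))
      simpa using this


lemma symm2_zero_left (b : Fin 3 → k) : symm2 (0 : Fin 3 → k) b = 0 := by
  ext i j; simp [symm2]

lemma symm2_zero_right (a : Fin 3 → k) : symm2 a (0 : Fin 3 → k) = 0 := by
  ext i j; simp [symm2]

lemma rank_pos_of_ne_zero (Q : Matrix (Fin 3) (Fin 3) k) (hQ : Q ≠ 0) : 1 ≤ Q.rank := by
  by_contra h
  have h0 : Q.rank = 0 := by omega
  rw [Matrix.rank] at h0
  have h1 : LinearMap.range Q.mulVecLin = ⊥ := Submodule.finrank_eq_zero.mp h0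
  apply hQ
  have h2 : Q.mulVecLin = 0 := LinearMap.range_eq_bot.mp h1
  ext i j
  have := congrFun (LinearMap.congr_fun h2 (Pi.single j 1)) i
  simpa using this

lemma eval_qf_eq [CharZero k] (Q : Matrix (Fin 3) (Fin 3) k) (a b : Fin 3 → k)
    (h : qf Q = lin a * lin b) (x : Fin 3 → k) :
    eval x (qf Q) = (a 0 * x 0 + a 1 * x 1 + a 2 * x 2) * (b 0 * x 0 + b 1 * x 1 + b 2 * x 2) := by
  rw [h, map_mul, eval_lin, eval_lin]

lemma lin_not_isUnit (a : Fin 3 → k) : ¬ IsUnit (lin a) := by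
  intro h
  have h1 := h.map (eval (0 : Fin 3 → k))
  rw [eval_lin] at h1
  simp at h1

/-- polynomials of degree at most one are affine-linear -/
lemma exists_affine (g : MvPolynomial (Fin 3) k) (hg : g.totalDegree ≤ 1) :
    ∃ (c : k) (a : Fin 3 → k), g = C c + lin a := by
  classical
  let φ : (k × (Fin 3 → k)) →ₗ[k] MvPolynomial (Fin 3) k :=
    (Algebra.linearMap k (MvPolynomial (Fin 3) k)).coprod lin
  have hφ : ∀ c a, φ (c, a) = C c + lin a := by
    intro c a
    simp [φ, LinearMap.coprod_apply, MvPolynomial.algebraMap_eq]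
  suffices h : g ∈ LinearMap.range φ by
    obtain ⟨⟨c, a⟩, hca⟩ := h
    exact ⟨c, a, by rw [← hca, hφ]⟩
  rw [g.as_sum]
  apply Submodule.sum_mem
  intro m hm
  have hdeg : (m.sum fun _ e => e) ≤ 1 := (le_totalDegree hm).trans hg
  rw [Finsupp.sum_fintype _ _ (fun _ => rfl), Fin.sum_univ_three] at hdeg
  by_cases h0 : m = 0
  · refine ⟨(coeff m g, 0), ?_⟩
    rw [hφ, map_zero, add_zero, h0]
    rfl
  · have : ∃ i, m = Finsupp.single i 1 := by
      by_cases h00 : m 0 = 1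
      · refine ⟨0, ?_⟩
        ext j; fin_cases j <;> simp <;> omega
      · by_cases h01 : m 1 = 1
        · refine ⟨1, ?_⟩
          ext j; fin_cases j <;> simp <;> omega
        · by_cases h02 : m 2 = 1
          · refine ⟨2, ?_⟩
            ext j; fin_cases j <;> simp <;> omega
          · exfalso
            apply h0
            ext j; fin_cases j <;> simp <;> omega
    obtain ⟨i, rfl⟩ := this
    refine ⟨(0, Pi.single i (coeff (Finsupp.single i 1) g)), ?_⟩
    rw [hφ, map_zero, zero_add, lin_apply]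
    rw [Finset.sum_eq_single i]
    · rw [Pi.single_eq_same, smul_eq_C_mul, X, C_mul_monomial, mul_one]
    · intro j _ hj
      rw [Pi.single_eq_of_ne hj, zero_smul]
    · intro h; exact absurd (Finset.mem_univ i) h


lemma rank_symm2_le_two [CharZero k] (a b : Fin 3 → k) : (symm2 a b).rank ≤ 2 := by
  classical
  rw [Matrix.rank]
  calc Module.finrank k (LinearMap.range (symm2 a b).mulVecLin)
      ≤ Module.finrank k (Submodule.span k ({a, b} : Set (Fin 3 → k))) :=
        Submodule.finrank_mono (range_le_span a b)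
    _ ≤ 2 := by
      have h := finrank_span_finset_le_card (R := k) ({a, b} : Finset (Fin 3 → k))
      rw [Finset.coe_insert, Finset.coe_singleton] at h
      exact h.trans Finset.card_le_two

lemma det_symm2 [CharZero k] (a b : Fin 3 → k) : (symm2 a b).det = 0 := by
  by_contra h
  have hu : IsUnit (symm2 a b) := (Matrix.isUnit_iff_isUnit_det _).mpr (Ne.isUnit h)
  have h3 := Matrix.rank_of_isUnit _ hu
  have h2 := rank_symm2_le_two a b
  rw [h3] at h2
  simp at h2

lemma qf_ne_zero [CharZero k] (Q : Matrix (Fin 3) (Fin 3) k) (hQ : Q.IsSymm) (hQ0 : Q ≠ 0) :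
    qf Q ≠ 0 := by
  intro h
  apply hQ0
  have := stepB Q hQ 0 0 (fun x => by rw [h]; simp)
  rw [this, symm2_zero_left]

lemma totalDegree_qf_le (Q : Matrix (Fin 3) (Fin 3) k) : (qf Q).totalDegree ≤ 2 := by
  rw [qf]
  apply totalDegree_finsetSum_le
  intro i _
  apply totalDegree_finsetSum_le
  intro j _
  refine (totalDegree_smul_le _ _).trans ((totalDegree_mul _ _).trans ?_)
  rw [totalDegree_X, totalDegree_X]

lemma eval_neg_qf (Q : Matrix (Fin 3) (Fin 3) k) (x : Fin 3 → k) :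
    eval (-x) (qf Q) = eval x (qf Q) := by
  rw [eval_qf, eval_qf]
  simp only [Pi.neg_apply]
  ring

lemma irreducible_of_det_ne_zero [CharZero k] (Q : Matrix (Fin 3) (Fin 3) k) (hQ : Q.IsSymm)
    (hdet : Q.det ≠ 0) : Irreducible (qf Q) := by
  have h2 : (2 : k) ≠ 0 := two_ne_zero
  have hQ0 : Q ≠ 0 := by
    rintro rfl
    apply hdet
    simp
  have hf0 := qf_ne_zero Q hQ hQ0
  refine ⟨?_, ?_⟩
  · intro h
    have h1 := h.map (eval (0 : Fin 3 → k))
    rw [eval_qf] at h1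
    simp at h1
  · intro g h hgh
    by_contra hcon
    push Not at hcon
    obtain ⟨hgu, hhu⟩ := hcon
    have hg0 : g ≠ 0 := by rintro rfl; rw [zero_mul] at hgh; exact hf0 hgh
    have hh0 : h ≠ 0 := by rintro rfl; rw [mul_zero] at hgh; exact hf0 hgh
    have hdeg : g.totalDegree + h.totalDegree ≤ 2 := by
      rw [← totalDegree_mul_of_isDomain hg0 hh0, ← hgh]
      exact totalDegree_qf_le Q
    have hpos : ∀ p : MvPolynomial (Fin 3) k, p ≠ 0 → ¬ IsUnit p → 1 ≤ p.totalDegree := by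
      intro p hp0 hpu
      by_contra hlt
      have h0 : p.totalDegree = 0 := by omega
      rw [totalDegree_eq_zero_iff_eq_C] at h0
      apply hpu
      rw [h0]
      apply IsUnit.map C
      apply Ne.isUnit
      intro hc
      rw [hc, map_zero] at h0
      exact hp0 h0
    have hg1 := hpos g hg0 hgu
    have hh1 := hpos h hh0 hhu
    obtain ⟨c, a, rfl⟩ := exists_affine g (by omega)
    obtain ⟨d, b, rfl⟩ := exists_affine h (by omega)
    have hev : ∀ x : Fin 3 → k, eval x (qf Q) =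
        (c + (a 0 * x 0 + a 1 * x 1 + a 2 * x 2)) * (d + (b 0 * x 0 + b 1 * x 1 + b 2 * x 2)) := by
      intro x
      rw [hgh, map_mul, map_add, map_add, eval_C, eval_C, eval_lin, eval_lin]
    have hcd : c * d = 0 := by
      have := hev 0
      rw [eval_qf] at this
      simp only [Pi.zero_apply, mul_zero, add_zero] at this
      exact this.symm
    have key : ∀ x : Fin 3 → k, eval x (qf Q) =
        (a 0 * x 0 + a 1 * x 1 + a 2 * x 2) * (b 0 * x 0 + b 1 * x 1 + b 2 * x 2) := by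
      intro x
      have e1 := hev x
      have e2 := hev (-x)
      rw [eval_neg_qf] at e2
      simp only [Pi.neg_apply] at e2
      have : (2 : k) * eval x (qf Q) =
          2 * ((a 0 * x 0 + a 1 * x 1 + a 2 * x 2) * (b 0 * x 0 + b 1 * x 1 + b 2 * x 2)) := by
        linear_combination e1 + e2 + 2 * hcd
      exact mul_left_cancel₀ h2 this
    have := stepB Q hQ a b key
    rw [this] at hdet
    exact hdet (det_symm2 a b)


lemma eval_pderiv_qf (Q : Matrix (Fin 3) (Fin 3) k) (hQ : Q.IsSymm) (u : Fin 3 → k) (i : Fin 3) :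
    eval u (pderiv i (qf Q)) = 2 * (Q *ᵥ u) i := by
  have s01 : Q 1 0 = Q 0 1 := hQ.apply 0 1
  have s02 : Q 2 0 = Q 0 2 := hQ.apply 0 2
  have s12 : Q 2 1 = Q 1 2 := hQ.apply 1 2
  rw [qf_expand, mulVec_expand]
  fin_cases i <;>
    simp [Derivation.leibniz, pderiv_X, Pi.single_apply, s01, s02, s12] <;> ring

theorem main [IsAlgClosed k] [CharZero k]
    (Q : Matrix (Fin 3) (Fin 3) k) (hQ : Q.IsSymm) (hQ0 : Q ≠ 0) (f : MvPolynomial (Fin 3) k)
    (hf : f = ∑ i : Fin 3, ∑ j : Fin 3, Q i j • (MvPolynomial.X i * MvPolynomial.X j)) :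
    (Irreducible f ↔ Q.det ≠ 0) ∧
    ((∃ u : Fin 3 → k, u ≠ 0 ∧ ∀ i : Fin 3, MvPolynomial.eval u (MvPolynomial.pderiv i f) = 0) ↔ Q.det = 0) ∧
    ((∃ a b : Fin 3 → k, LinearIndependent k ![a, b] ∧
        f = (∑ i : Fin 3, a i • MvPolynomial.X i) * (∑ i : Fin 3, b i • MvPolynomial.X i)) ↔ Q.rank = 2) ∧
    ((∃ a : Fin 3 → k, f = (∑ i : Fin 3, a i • MvPolynomial.X i) ^ 2) ↔ Q.rank = 1) := by
  have h2 : (2 : k) ≠ 0 := two_ne_zero
  have hfq : f = qf Q := hf
  subst hfq
  have hdet_of_rank : Q.rank < 3 → Q.det = 0 := by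
    intro hr
    by_contra h
    have hu : IsUnit Q := (Matrix.isUnit_iff_isUnit_det _).mpr (Ne.isUnit h)
    have h3 := Matrix.rank_of_isUnit _ hu
    rw [h3] at hr
    simp at hr
  -- the common analysis of a factorization
  have hfact : ∀ a b : Fin 3 → k, qf Q = lin a * lin b → Q = symm2 a b ∧ a ≠ 0 ∧ b ≠ 0 := by
    intro a b hab
    have hS := stepB Q hQ a b (eval_qf_eq Q a b hab)
    refine ⟨hS, ?_, ?_⟩
    · rintro rfl
      apply hQ0
      rw [hS, symm2_zero_left]
    · rintro rfl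
      apply hQ0
      rw [hS, symm2_zero_right]
  refine ⟨?_, ?_, ?_, ?_⟩
  · constructor
    · intro hirr hdet
      obtain ⟨a, b, hab⟩ := stepA Q hQ hdet
      rcases hirr.isUnit_or_isUnit hab with h | h
      · exact lin_not_isUnit a h
      · exact lin_not_isUnit b h
    · intro hdet
      exact irreducible_of_det_ne_zero Q hQ hdet
  · rw [← Matrix.exists_mulVec_eq_zero_iff]
    constructor
    · rintro ⟨u, hu0, hu⟩
      refine ⟨u, hu0, ?_⟩
      funext i
      have := hu i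
      rw [eval_pderiv_qf Q hQ] at this
      rcases mul_eq_zero.mp this with h | h
      · exact absurd h h2
      · exact h
    · rintro ⟨u, hu0, hu⟩
      refine ⟨u, hu0, fun i => ?_⟩
      rw [eval_pderiv_qf Q hQ, hu]
      simp
  · constructor
    · rintro ⟨a, b, hab, hfab⟩
      have hfab' : qf Q = lin a * lin b := hfab
      obtain ⟨hS, -, -⟩ := hfact a b hfab'
      rw [hS]
      exact rank_indep a b hab
    · intro hr
      obtain ⟨a, b, hab⟩ := stepA Q hQ (hdet_of_rank (by omega))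
      obtain ⟨hS, ha0, hb0⟩ := hfact a b hab
      refine ⟨a, b, ?_, hab⟩
      by_contra hdep
      rw [LinearIndependent.pair_iff' ha0] at hdep
      push Not at hdep
      obtain ⟨c, rfl⟩ := hdep
      have := rank_dep a c
      rw [← hS, hr] at this
      omega
  · constructor
    · rintro ⟨a, hfa⟩
      have hfa' : qf Q = lin a * lin a := by rw [← sq]; exact hfa
      obtain ⟨hS, -, -⟩ := hfact a a hfa'
      have h1 := rank_dep a (1 : k)
      rw [one_smul, ← hS] at h1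
      have h3 := rank_pos_of_ne_zero Q hQ0
      omega
    · intro hr
      obtain ⟨a, b, hab⟩ := stepA Q hQ (hdet_of_rank (by omega))
      obtain ⟨hS, ha0, hb0⟩ := hfact a b hab
      have hdep : ¬ LinearIndependent k ![a, b] := by
        intro hind
        have := rank_indep a b hind
        rw [← hS, hr] at this
        omega
      rw [LinearIndependent.pair_iff' ha0] at hdep
      push Not at hdep
      obtain ⟨c, rfl⟩ := hdep
      obtain ⟨d, hd⟩ := IsAlgClosed.exists_eq_mul_self c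
      refine ⟨d • a, ?_⟩
      show qf Q = (lin (d • a)) ^ 2
      rw [hab, map_smul, map_smul, hd, smul_eq_C_mul, smul_eq_C_mul, map_mul]
      ring

end

end Aux

/-- For an algebraically closed field k of characteristic zero, a nonzero symmetric 3 × 3 matrix Q over
k and the ternary quadratic form f = Σ Q_ij X_i X_j in k[X_0, X_1, X_2] (the equation of a plane
conic): (1) f is irreducible iff det Q ≠ 0; (2) the conic has a singular point, that is a nonzero
vector at which all partial derivatives of f vanish, iff det Q = 0 (so smooth conics are exactly the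
irreducible ones); (3) f is the product of two linearly independent linear forms (two distinct
lines) iff rank Q = 2; (4) f is the square of a linear form (a double line) iff rank Q = 1. -/
theorem result (k : Type u) [Field k] [IsAlgClosed k] [CharZero k]
    (Q : Matrix (Fin 3) (Fin 3) k) (hQ : Q.IsSymm) (hQ0 : Q ≠ 0) (f : MvPolynomial (Fin 3) k)
    (hf : f = ∑ i : Fin 3, ∑ j : Fin 3, Q i j • (MvPolynomial.X i * MvPolynomial.X j)) :
    (Irreducible f ↔ Q.det ≠ 0) ∧
    ((∃ u : Fin 3 → k, u ≠ 0 ∧ ∀ i : Fin 3, MvPolynomial.eval u (MvPolynomial.pderiv i f) = 0) ↔ Q.det = 0) ∧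
    ((∃ a b : Fin 3 → k, LinearIndependent k ![a, b] ∧
        f = (∑ i : Fin 3, a i • MvPolynomial.X i) * (∑ i : Fin 3, b i • MvPolynomial.X i)) ↔ Q.rank = 2) ∧
    ((∃ a : Fin 3 → k, f = (∑ i : Fin 3, a i • MvPolynomial.X i) ^ 2) ↔ Q.rank = 1) := by
  exact Aux.main Q hQ hQ0 f hf

end Groth.Agent.S13911
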