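import Groth.Statements.S13912
import Mathlib
import Groth.Agent.S13911
-- import your own Groth.Agent.* helpers here

set_option autoImplicit false
universe u
open PlaneConic

namespace Groth.Agent.S13912

open MvPolynomial Matrix
open Groth.Agent.S13911.Aux
namespace Aux

section
variable {k : Type u} [Field k]

lemma homog_one_eq_lin (g : MvPolynomial (Fin 3) k) (hg : g.IsHomogeneous 1) :
    ∃ a : Fin 3 → k, g = lin a := by
  obtain ⟨c, a, rfl⟩ := exists_affine g hg.totalDegree_le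
  refine ⟨a, ?_⟩
  have h0 : coeff 0 (C c + lin a) = 0 := hg.coeff_eq_zero (by simp)
  have h1 : eval (0 : Fin 3 → k) (C c + lin a) = c := by
    rw [map_add, eval_C, eval_lin]; simp
  rw [MvPolynomial.eval_zero, constantCoeff_eq] at h1
  rw [h1] at h0
  rw [h0, map_zero, zero_add]

lemma lin_isHomogeneous (a : Fin 3 → k) : (lin a).IsHomogeneous 1 := by
  rw [lin_apply]
  apply IsHomogeneous.sum
  intro i _
  rw [smul_eq_C_mul]
  exact (isHomogeneous_X k i).C_mul (a i)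

lemma eval_qf_symm2 [CharZero k] (a b x : Fin 3 → k) :
    eval x (qf (symm2 a b)) =
      (a 0 * x 0 + a 1 * x 1 + a 2 * x 2) * (b 0 * x 0 + b 1 * x 1 + b 2 * x 2) := by
  have h2 : (2 : k) ≠ 0 := two_ne_zero
  rw [eval_qf]
  simp only [symm2]
  field_simp
  ring

lemma symm2_isSymm (a b : Fin 3 → k) : (symm2 a b).IsSymm := by
  apply Matrix.IsSymm.ext
  intro i j
  simp only [symm2]
  ring

lemma qf_sub (Q₁ Q₂ : Matrix (Fin 3) (Fin 3) k) : qf (Q₁ - Q₂) = qf Q₁ - qf Q₂ := by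
  simp only [qf, Matrix.sub_apply, sub_smul, Finset.sum_sub_distrib]

/-- Step 1: a vector in the radical of the determinant form -/
lemma step1 [CharZero k] (m : Fin 2 → Fin 2 → Fin 3 → k) (a b : Fin 3 → k)
    (hdet : lin (m 0 0) * lin (m 1 1) - lin (m 0 1) * lin (m 1 0) = lin a * lin b) :
    ∃ u : Fin 3 → k, u ≠ 0 ∧ ∀ i : Fin 3,
      m 0 0 i * (m 1 1 ⬝ᵥ u) + m 1 1 i * (m 0 0 ⬝ᵥ u) - m 0 1 i * (m 1 0 ⬝ᵥ u) -
        m 1 0 i * (m 0 1 ⬝ᵥ u) = 0 := by
  have h2 : (2 : k) ≠ 0 := two_ne_zero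
  set Q' : Matrix (Fin 3) (Fin 3) k := symm2 (m 0 0) (m 1 1) - symm2 (m 0 1) (m 1 0) with hQ'
  have hsymm : Q'.IsSymm := (symm2_isSymm _ _).sub (symm2_isSymm _ _)
  have hev : ∀ x : Fin 3 → k, eval x (qf Q') =
      (a 0 * x 0 + a 1 * x 1 + a 2 * x 2) * (b 0 * x 0 + b 1 * x 1 + b 2 * x 2) := by
    intro x
    rw [hQ', qf_sub, map_sub, eval_qf_symm2, eval_qf_symm2]
    have := congrArg (eval x) hdet
    rw [map_sub, map_mul, map_mul, map_mul, eval_lin, eval_lin, eval_lin, eval_lin, eval_lin,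
      eval_lin] at this
    exact this
  have hQ'eq := stepB Q' hsymm a b hev
  have hdet0 : Q'.det = 0 := by rw [hQ'eq]; exact det_symm2 a b
  obtain ⟨u, hu0, hu⟩ := Matrix.exists_mulVec_eq_zero_iff.mpr hdet0
  refine ⟨u, hu0, fun i => ?_⟩
  have h := congrFun hu i
  rw [hQ', Matrix.sub_mulVec, symm2_mulVec, symm2_mulVec] at h
  simp only [Pi.sub_apply, Pi.add_apply, Pi.smul_apply, smul_eq_mul, Pi.zero_apply] at h
  field_simp at h
  linear_combination h


lemma rank_one (N : Fin 2 → Fin 2 → k) (hN : ∃ a b, N a b ≠ 0)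
    (hd : N 0 0 * N 1 1 - N 0 1 * N 1 0 = 0) :
    ∃ r c : Fin 2 → k, r ≠ 0 ∧ c ≠ 0 ∧ ∀ a b, N a b = r a * c b := by
  have ne_of : ∀ (x : Fin 2 → k) (i : Fin 2), x i ≠ 0 → x ≠ 0 := by
    intro x i hx h; rw [h] at hx; exact hx rfl
  obtain ⟨a, b, hab⟩ := hN
  fin_cases a <;> fin_cases b
  · have h : N 0 0 ≠ 0 := hab
    refine ⟨![N 0 0, N 1 0], ![1, N 0 1 / N 0 0], ne_of _ 0 (by simpa using h),
      ne_of _ 0 (by simp), ?_⟩
    intro a b
    fin_cases a <;> fin_cases b <;> simp <;> field_simp <;> linear_combination hd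
  · have h : N 0 1 ≠ 0 := hab
    refine ⟨![N 0 1, N 1 1], ![N 0 0 / N 0 1, 1], ne_of _ 0 (by simpa using h),
      ne_of _ 1 (by simp), ?_⟩
    intro a b
    fin_cases a <;> fin_cases b <;> simp <;> field_simp <;> linear_combination (-1 : k) * hd
  · have h : N 1 0 ≠ 0 := hab
    refine ⟨![N 0 0, N 1 0], ![1, N 1 1 / N 1 0], ne_of _ 1 (by simpa using h),
      ne_of _ 0 (by simp), ?_⟩
    intro a b
    fin_cases a <;> fin_cases b <;> simp <;> field_simp <;> linear_combination (-1 : k) * hd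
  · have h : N 1 1 ≠ 0 := hab
    refine ⟨![N 0 1, N 1 1], ![N 1 0 / N 1 1, 1], ne_of _ 1 (by simpa using h),
      ne_of _ 1 (by simp), ?_⟩
    intro a b
    fin_cases a <;> fin_cases b <;> simp <;> field_simp <;> linear_combination hd


/-- a nonzero singular `2 × 2` matrix in a plane of `2 × 2` matrices -/
lemma exists_singular [IsAlgClosed k] [CharZero k] (N₁ N₂ : Fin 2 × Fin 2 → k)
    (hind : LinearIndependent k ![N₁, N₂]) :
    ∃ s t : k, s • N₁ + t • N₂ ≠ 0 ∧
      (s • N₁ + t • N₂) (0, 0) * (s • N₁ + t • N₂) (1, 1) -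
        (s • N₁ + t • N₂) (0, 1) * (s • N₁ + t • N₂) (1, 0) = 0 := by
  haveI : NeZero (2 : k) := ⟨two_ne_zero⟩
  have hne : ∀ s t : k, s • N₁ + t • N₂ = 0 → s = 0 ∧ t = 0 := by
    intro s t h
    exact LinearIndependent.pair_iff.mp hind s t h
  set α := N₁ (0, 0) * N₁ (1, 1) - N₁ (0, 1) * N₁ (1, 0) with hα
  set β := N₁ (0, 0) * N₂ (1, 1) + N₂ (0, 0) * N₁ (1, 1) - N₁ (0, 1) * N₂ (1, 0) -
    N₂ (0, 1) * N₁ (1, 0) with hβ
  set γ := N₂ (0, 0) * N₂ (1, 1) - N₂ (0, 1) * N₂ (1, 0) with hγ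
  have key : ∀ s t : k, (s • N₁ + t • N₂) (0, 0) * (s • N₁ + t • N₂) (1, 1) -
        (s • N₁ + t • N₂) (0, 1) * (s • N₁ + t • N₂) (1, 0) = α * (s * s) + β * (s * t) + γ * (t * t) := by
    intro s t
    simp only [Pi.add_apply, Pi.smul_apply, smul_eq_mul, hα, hβ, hγ]
    ring
  by_cases h0 : α = 0
  · refine ⟨1, 0, fun h => ?_, ?_⟩
    · exact one_ne_zero (hne 1 0 h).1
    · rw [key, h0]; ring
  · obtain ⟨σ, hσ⟩ := IsAlgClosed.exists_eq_mul_self (discrim α β γ)
    obtain ⟨s, hs⟩ := exists_quadratic_eq_zero h0 ⟨σ, hσ⟩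
    refine ⟨s, 1, fun h => ?_, ?_⟩
    · exact one_ne_zero (hne s 1 h).2
    · rw [key]; linear_combination hs

lemma exists_N [IsAlgClosed k] [CharZero k] (m : Fin 2 → Fin 2 → Fin 3 → k) (u : Fin 3 → k)
    (hu : u ≠ 0)
    (hrel : ∀ i : Fin 3,
      m 0 0 i * (m 1 1 ⬝ᵥ u) + m 1 1 i * (m 0 0 ⬝ᵥ u) - m 0 1 i * (m 1 0 ⬝ᵥ u) -
        m 1 0 i * (m 0 1 ⬝ᵥ u) = 0) :
    ∃ N : Fin 2 → Fin 2 → k, (∃ a b, N a b ≠ 0) ∧ N 0 0 * N 1 1 - N 0 1 * N 1 0 = 0 ∧
      ∀ i : Fin 3, N 0 0 * m 0 0 i + N 0 1 * m 0 1 i + N 1 0 * m 1 0 i + N 1 1 * m 1 1 i = 0 := by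
  have h2 : (2 : k) ≠ 0 := two_ne_zero
  by_cases hU : ∃ a b, m a b ⬝ᵥ u ≠ 0
  · refine ⟨fun a b => if a = 0 then (if b = 0 then m 1 1 ⬝ᵥ u else -(m 1 0 ⬝ᵥ u))
      else (if b = 0 then -(m 0 1 ⬝ᵥ u) else m 0 0 ⬝ᵥ u), ?_, ?_, ?_⟩
    · obtain ⟨a, b, hab⟩ := hU
      fin_cases a <;> fin_cases b
      · exact ⟨1, 1, by simpa using hab⟩
      · exact ⟨1, 0, by simpa using hab⟩
      · exact ⟨0, 1, by simpa using hab⟩
      · exact ⟨0, 0, by simpa using hab⟩
    · simp only [if_true, if_false, one_ne_zero]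
      have e0 := hrel 0
      have e1 := hrel 1
      have e2 := hrel 2
      have d00 := dot_expand (m 0 0) u
      have d01 := dot_expand (m 0 1) u
      have d10 := dot_expand (m 1 0) u
      have d11 := dot_expand (m 1 1) u
      have : (2 : k) * ((m 1 1 ⬝ᵥ u) * (m 0 0 ⬝ᵥ u) - -(m 1 0 ⬝ᵥ u) * -(m 0 1 ⬝ᵥ u)) = 0 := by
        linear_combination u 0 * e0 + u 1 * e1 + u 2 * e2 + (m 1 1 ⬝ᵥ u) * d00 +
          (m 0 0 ⬝ᵥ u) * d11 - (m 1 0 ⬝ᵥ u) * d01 - (m 0 1 ⬝ᵥ u) * d10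
      rcases mul_eq_zero.mp this with h | h
      · exact absurd h h2
      · exact h
    · intro i
      simp only [if_true, if_false, one_ne_zero]
      linear_combination hrel i
  · push Not at hU
    -- all entries of `M(u)` vanish
    let Θ : (Fin 2 × Fin 2 → k) →ₗ[k] (Fin 3 → k) :=
      { toFun := fun N i => N (0, 0) * m 0 0 i + N (0, 1) * m 0 1 i + N (1, 0) * m 1 0 i +
          N (1, 1) * m 1 1 i
        map_add' := by intro N N'; funext i; simp only [Pi.add_apply]; ring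
        map_smul' := by
          intro c N; funext i
          simp only [Pi.smul_apply, smul_eq_mul, RingHom.id_apply]; ring }
    let ℓu : (Fin 3 → k) →ₗ[k] k :=
      { toFun := fun y => y ⬝ᵥ u
        map_add' := by intro y y'; exact add_dotProduct y y' u
        map_smul' := by intro c y; exact smul_dotProduct c y u }
    have hrange : LinearMap.range Θ ≤ LinearMap.ker ℓu := by
      rintro _ ⟨N, rfl⟩
      show (Θ N) ⬝ᵥ u = 0
      have d00 := hU 0 0
      have d01 := hU 0 1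
      have d10 := hU 1 0
      have d11 := hU 1 1
      rw [dot_expand] at d00 d01 d10 d11 ⊢
      show (N (0, 0) * m 0 0 0 + N (0, 1) * m 0 1 0 + N (1, 0) * m 1 0 0 + N (1, 1) * m 1 1 0) * u 0 +
        (N (0, 0) * m 0 0 1 + N (0, 1) * m 0 1 1 + N (1, 0) * m 1 0 1 + N (1, 1) * m 1 1 1) * u 1 +
        (N (0, 0) * m 0 0 2 + N (0, 1) * m 0 1 2 + N (1, 0) * m 1 0 2 + N (1, 1) * m 1 1 2) * u 2 = 0
      linear_combination N (0, 0) * d00 + N (0, 1) * d01 + N (1, 0) * d10 + N (1, 1) * d11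
    have hsurj : LinearMap.range ℓu = ⊤ := by
      obtain ⟨i, hi⟩ := Function.ne_iff.mp hu
      have hi' : u i ≠ 0 := hi
      rw [eq_top_iff]
      intro c _
      refine ⟨Pi.single i (c / u i), ?_⟩
      show (Pi.single i (c / u i) : Fin 3 → k) ⬝ᵥ u = c
      rw [single_dotProduct]
      field_simp
    have hk1 := LinearMap.finrank_range_add_finrank_ker ℓu
    rw [hsurj, finrank_top, Module.finrank_self, Module.finrank_fintype_fun_eq_card,
      Fintype.card_fin] at hk1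
    have hk2 := Submodule.finrank_mono hrange
    have hk3 := LinearMap.finrank_range_add_finrank_ker Θ
    rw [Module.finrank_fintype_fun_eq_card, Fintype.card_prod, Fintype.card_fin] at hk3
    have hk4 : 1 < Module.finrank k (LinearMap.ker Θ) := by omega
    obtain ⟨x, hx⟩ := (Module.finrank_pos_iff_exists_ne_zero (R := k)
      (M := LinearMap.ker Θ)).mp (by omega)
    obtain ⟨y, hxy⟩ := exists_linearIndependent_pair_of_one_lt_finrank hk4 hx
    have hind : LinearIndependent k ![(x : Fin 2 × Fin 2 → k), (y : Fin 2 × Fin 2 → k)] := by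
      rw [LinearIndependent.pair_iff] at hxy ⊢
      intro s t hst
      apply hxy s t
      apply Subtype.ext
      exact hst
    obtain ⟨s, t, hne, hdet⟩ := exists_singular (x : Fin 2 × Fin 2 → k) y hind
    have hmem : s • (x : Fin 2 × Fin 2 → k) + t • (y : Fin 2 × Fin 2 → k) ∈ LinearMap.ker Θ :=
      Submodule.add_mem _ (Submodule.smul_mem _ _ x.2) (Submodule.smul_mem _ _ y.2)
    refine ⟨fun a b => (s • (x : Fin 2 × Fin 2 → k) + t • (y : Fin 2 × Fin 2 → k)) (a, b), ?_,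
      hdet, ?_⟩
    · by_contra hcon
      push Not at hcon
      apply hne
      funext ab
      obtain ⟨a, b⟩ := ab
      exact hcon a b
    · intro i
      have := congrFun (LinearMap.mem_ker.mp hmem) i
      exact this


lemma exists_GL_row (r : Fin 2 → k) (hr : r ≠ 0) :
    ∃ g : GL (Fin 2) k, ∀ a, g.val 0 a = r a := by
  by_cases h0 : r 0 = 0
  · have h1 : r 1 ≠ 0 := by
      intro h1
      apply hr
      funext a
      fin_cases a
      · exact h0
      · exact h1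
    refine ⟨Matrix.GeneralLinearGroup.mkOfDetNeZero !![r 0, r 1; 1, 0] ?_, ?_⟩
    · rw [Matrix.det_fin_two_of]; simpa using h1
    · intro a; fin_cases a <;> rfl
  · refine ⟨Matrix.GeneralLinearGroup.mkOfDetNeZero !![r 0, r 1; 0, 1] ?_, ?_⟩
    · rw [Matrix.det_fin_two_of]; simpa using h0
    · intro a; fin_cases a <;> rfl

lemma exists_GL_col (c : Fin 2 → k) (hc : c ≠ 0) :
    ∃ h : GL (Fin 2) k, ∀ b, h.val b 1 = c b := by
  by_cases h1 : c 1 = 0
  · have h0 : c 0 ≠ 0 := by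
      intro h0
      apply hc
      funext a
      fin_cases a
      · exact h0
      · exact h1
    refine ⟨Matrix.GeneralLinearGroup.mkOfDetNeZero !![0, c 0; 1, c 1] ?_, ?_⟩
    · rw [Matrix.det_fin_two_of]; simpa using h0
    · intro a; fin_cases a <;> rfl
  · refine ⟨Matrix.GeneralLinearGroup.mkOfDetNeZero !![1, c 0; 0, c 1] ?_, ?_⟩
    · rw [Matrix.det_fin_two_of]; simpa using h1
    · intro a; fin_cases a <;> rfl

lemma entry_expand (g h : Matrix (Fin 2) (Fin 2) k)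
    (M : Matrix (Fin 2) (Fin 2) (MvPolynomial (Fin 3) k)) (a b : Fin 2) :
    ((MvPolynomial.C : k →+* MvPolynomial (Fin 3) k).mapMatrix g * M *
        (MvPolynomial.C : k →+* MvPolynomial (Fin 3) k).mapMatrix h) a b =
      (C (g a 0) * M 0 0 + C (g a 1) * M 1 0) * C (h 0 b) +
        (C (g a 0) * M 0 1 + C (g a 1) * M 1 1) * C (h 1 b) := by
  simp only [Matrix.mul_apply, Fin.sum_univ_two, RingHom.mapMatrix_apply, Matrix.map_apply]

theorem main [IsAlgClosed k] [CharZero k]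
    (M : Matrix (Fin 2) (Fin 2) (MvPolynomial (Fin 3) k)) (hM : ∀ a b : Fin 2, (M a b).IsHomogeneous 1) :
    (∃ l₁ l₂ : MvPolynomial (Fin 3) k, l₁.IsHomogeneous 1 ∧ l₂.IsHomogeneous 1 ∧ M.det = l₁ * l₂) ↔
    ∃ g h : GL (Fin 2) k,
      ((MvPolynomial.C : k →+* MvPolynomial (Fin 3) k).mapMatrix g.val * M *
        (MvPolynomial.C : k →+* MvPolynomial (Fin 3) k).mapMatrix h.val) 0 1 = 0 := by
  choose m hm using fun a b => homog_one_eq_lin (M a b) (hM a b)
  constructor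
  · rintro ⟨l₁, l₂, hl₁, hl₂, hdet⟩
    obtain ⟨a, rfl⟩ := homog_one_eq_lin l₁ hl₁
    obtain ⟨b, rfl⟩ := homog_one_eq_lin l₂ hl₂
    rw [Matrix.det_fin_two, hm 0 0, hm 1 1, hm 0 1, hm 1 0] at hdet
    obtain ⟨u, hu, hrel⟩ := step1 m a b hdet
    obtain ⟨N, hN0, hNd, hNrel⟩ := exists_N m u hu hrel
    obtain ⟨r, c, hr, hc, hrc⟩ := rank_one N hN0 hNd
    obtain ⟨g, hg⟩ := exists_GL_row r hr
    obtain ⟨h, hh⟩ := exists_GL_col c hc
    refine ⟨g, h, ?_⟩
    rw [entry_expand, hg 0, hg 1, hh 0, hh 1, hm 0 0, hm 1 1, hm 0 1, hm 1 0, lin_expand,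
      lin_expand, lin_expand, lin_expand]
    have e : ∀ i : Fin 3, (C (r 0 * c 0 * m 0 0 i + r 0 * c 1 * m 0 1 i + r 1 * c 0 * m 1 0 i +
        r 1 * c 1 * m 1 1 i) : MvPolynomial (Fin 3) k) = 0 := by
      intro i
      have := hNrel i
      rw [hrc 0 0, hrc 0 1, hrc 1 0, hrc 1 1] at this
      rw [this, map_zero]
    have e0 := e 0
    have e1 := e 1
    have e2 := e 2
    simp only [map_add, map_mul] at e0 e1 e2
    linear_combination X 0 * e0 + X 1 * e1 + X 2 * e2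
  · rintro ⟨g, h, hgh⟩
    set N := (MvPolynomial.C : k →+* MvPolynomial (Fin 3) k).mapMatrix g.val * M *
        (MvPolynomial.C : k →+* MvPolynomial (Fin 3) k).mapMatrix h.val with hNdef
    have hNhom : ∀ a b, (N a b).IsHomogeneous 1 := by
      intro a b
      rw [hNdef, entry_expand]
      have h1 : ∀ (x y : k) (P Q : MvPolynomial (Fin 3) k), P.IsHomogeneous 1 → Q.IsHomogeneous 1 →
          ∀ z : k, ((C x * P + C y * Q) * C z).IsHomogeneous 1 := by
        intro x y P Q hP hQ z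
        have := ((hP.C_mul x).add (hQ.C_mul y)).mul (isHomogeneous_C (Fin 3) z)
        simpa using this
      exact (h1 _ _ _ _ (hM 0 0) (hM 1 0) _).add (h1 _ _ _ _ (hM 0 1) (hM 1 1) _)
    have hdetN : N.det = C (g.val.det) * M.det * C (h.val.det) := by
      rw [hNdef, Matrix.det_mul, Matrix.det_mul, ← RingHom.map_det, ← RingHom.map_det]
    have hdetN2 : N.det = N 0 0 * N 1 1 := by
      rw [Matrix.det_fin_two, hgh, zero_mul, sub_zero]
    have hg0 : g.val.det ≠ 0 := (Matrix.isUnits_det_units g).ne_zero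
    have hh0 : h.val.det ≠ 0 := (Matrix.isUnits_det_units h).ne_zero
    refine ⟨C ((g.val.det)⁻¹ * (h.val.det)⁻¹) * N 0 0, N 1 1, (hNhom 0 0).C_mul _, hNhom 1 1, ?_⟩
    rw [mul_assoc, ← hdetN2, hdetN]
    have : (C ((g.val.det)⁻¹ * (h.val.det)⁻¹) : MvPolynomial (Fin 3) k) * (C (g.val.det) * M.det * C (h.val.det)) =
        C ((g.val.det)⁻¹ * (h.val.det)⁻¹ * g.val.det * h.val.det) * M.det := by
      simp only [map_mul]; ring
    rw [this]
    have : (g.val.det)⁻¹ * (h.val.det)⁻¹ * g.val.det * h.val.det = 1 := by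
      field_simp
    rw [this, map_one, one_mul]

end

end Aux

/-- Over an algebraically closed field k of characteristic zero, for a 2 × 2 matrix M of linear forms in
k[X_0, X_1, X_2] (entries homogeneous of degree 1, zero allowed), det M is a product of two linear
forms if and only if M can be brought by invertible scalar row and column operations g M h, with g,
h in GL_2(k), to a matrix with zero upper-right entry. (The published statement concerns matrices
with nonzero determinant; this row also allows determinant zero, where both sides hold.) -/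
theorem result (k : Type u) [Field k] [IsAlgClosed k] [CharZero k]
    (M : Matrix (Fin 2) (Fin 2) (MvPolynomial (Fin 3) k)) (hM : ∀ a b : Fin 2, (M a b).IsHomogeneous 1) :
    (∃ l₁ l₂ : MvPolynomial (Fin 3) k, l₁.IsHomogeneous 1 ∧ l₂.IsHomogeneous 1 ∧ M.det = l₁ * l₂) ↔
    ∃ g h : GL (Fin 2) k,
      ((MvPolynomial.C : k →+* MvPolynomial (Fin 3) k).mapMatrix g.val * M *
        (MvPolynomial.C : k →+* MvPolynomial (Fin 3) k).mapMatrix h.val) 0 1 = 0 := by
  exact Aux.main M hM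

end Groth.Agent.S13912
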