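import Groth.Statements.S13913
import Mathlib

set_option autoImplicit false
universe u
open PlaneCubic

namespace Groth.Agent.S13913

/-- Over an algebraically closed field of characteristic zero, for linearly independent linear forms z₁,
z₂ and quadratic forms q₁, q₂ in three variables and a nonzero common zero p of z₁ and z₂, the point
p is a singular point of the plane cubic z₁q₂ − z₂q₁ = 0 (all three partial derivatives vanish at p)
if and only if q₁ and q₂ both vanish at p. -/
theorem result (k : Type u) [Field k] [IsAlgClosed k] [CharZero k]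
    (z₁ z₂ q₁ q₂ : MvPolynomial (Fin 3) k) (hz₁ : z₁.IsHomogeneous 1) (hz₂ : z₂.IsHomogeneous 1)
    (hq₁ : q₁.IsHomogeneous 2) (hq₂ : q₂.IsHomogeneous 2) (hind : LinearIndependent k ![z₁, z₂])
    (p : Fin 3 → k) (hp : p ≠ 0) (hp₁ : MvPolynomial.eval p z₁ = 0) (hp₂ : MvPolynomial.eval p z₂ = 0) :
    (∀ i : Fin 3, MvPolynomial.eval p (MvPolynomial.pderiv i (z₁ * q₂ - z₂ * q₁)) = 0) ↔
      (MvPolynomial.eval p q₁ = 0 ∧ MvPolynomial.eval p q₂ = 0) := by
  classical
  have hF : ∀ i, MvPolynomial.eval p (MvPolynomial.pderiv i (z₁ * q₂ - z₂ * q₁)) =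
      MvPolynomial.eval p (MvPolynomial.pderiv i z₁) * MvPolynomial.eval p q₂ -
      MvPolynomial.eval p (MvPolynomial.pderiv i z₂) * MvPolynomial.eval p q₁ := by
    intro i
    simp only [map_sub, Derivation.leibniz, smul_eq_mul, map_add, map_mul, hp₁, hp₂]
    ring
  constructor
  · intro h
    set Q₁ := MvPolynomial.eval p q₁ with hQ₁
    set Q₂ := MvPolynomial.eval p q₂ with hQ₂
    set w : MvPolynomial (Fin 3) k := MvPolynomial.C Q₂ * z₁ - MvPolynomial.C Q₁ * z₂ with hw
    have hwhom : w.IsHomogeneous 1 := by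
      have h1 : (MvPolynomial.C Q₂ * z₁).IsHomogeneous 1 := by
        simpa using (MvPolynomial.isHomogeneous_C _ Q₂).mul hz₁
      have h2 : (MvPolynomial.C Q₁ * z₂).IsHomogeneous 1 := by
        simpa using (MvPolynomial.isHomogeneous_C _ Q₁).mul hz₂
      exact h1.sub h2
    have hpd : ∀ i, MvPolynomial.pderiv i w = 0 := by
      intro i
      have hh : (MvPolynomial.pderiv i w).IsHomogeneous 0 := hwhom.pderiv
      rw [← MvPolynomial.totalDegree_zero_iff_isHomogeneous,
        MvPolynomial.totalDegree_eq_zero_iff_eq_C] at hh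
      have he : MvPolynomial.eval p (MvPolynomial.pderiv i w) = 0 := by
        have h3 := h i
        rw [hF] at h3
        rw [hw]
        simp only [map_sub, Derivation.leibniz, smul_eq_mul, map_add, map_mul, MvPolynomial.pderiv_C,
          MvPolynomial.eval_C, mul_zero, map_zero, add_zero, zero_add]
        linear_combination h3
      rw [hh] at he ⊢
      rw [MvPolynomial.eval_C] at he
      rw [he, map_zero]
    have hw0 : w = 0 := by
      have := hwhom.sum_X_mul_pderiv
      simp only [hpd, mul_zero, Finset.sum_const_zero, one_smul] at this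
      exact this.symm
    have hli := LinearIndependent.pair_iff.mp hind Q₂ (-Q₁) (by
      rw [hw] at hw0
      simpa [MvPolynomial.smul_eq_C_mul, sub_eq_add_neg] using hw0)
    exact ⟨by simpa using hli.2, hli.1⟩
  · rintro ⟨h1, h2⟩ i
    rw [hF, h1, h2]; ring

end Groth.Agent.S13913
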