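import Groth.Statements.S13914
import Mathlib

set_option autoImplicit false
universe u
open PlaneConic

namespace Groth.Agent.S13914

/-- Over an algebraically closed field of characteristic zero, an invertible 3 × 3 matrix g, acting on
row vectors and so on the projective plane, fixes every point of the line u_0 = 0 if and only if g
is a nonzero scalar multiple of a matrix with rows (α, β, γ), (0, 1, 0), (0, 0, 1). -/
theorem result (k : Type u) [Field k] [IsAlgClosed k] [CharZero k]
    (g : Matrix (Fin 3) (Fin 3) k) (hg : IsUnit g.det) :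
    (∀ v : Fin 3 → k, v 0 = 0 → ∃ c : k, Matrix.vecMul v g = c • v) ↔
      ∃ c α β γ : k, c ≠ 0 ∧ g = c • !![α, β, γ; 0, 1, 0; 0, 0, 1] := by
  constructor
  · intro h
    obtain ⟨c1, h1⟩ := h ![0, 1, 0] rfl
    obtain ⟨c2, h2⟩ := h ![0, 0, 1] rfl
    obtain ⟨c3, h3⟩ := h ![0, 1, 1] rfl
    have e10 := congrFun h1 0
    have e11 := congrFun h1 1
    have e12 := congrFun h1 2
    have e20 := congrFun h2 0
    have e21 := congrFun h2 1
    have e22 := congrFun h2 2
    have e31 := congrFun h3 1
    have e32 := congrFun h3 2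
    simp [Matrix.vecMul, dotProduct, Fin.sum_univ_three] at e10 e11 e12 e20 e21 e22 e31 e32
    have hc12 : c1 = c2 := by
      rw [e11, e21] at e31
      rw [e12, e22] at e32
      simp at e31 e32
      rw [e31, e32]
    have hdet : g.det = g 0 0 * c1 * c1 := by
      rw [Matrix.det_fin_three, e10, e11, e12, e20, e21, e22, hc12]
      ring
    have hc1 : c1 ≠ 0 := by
      intro h0
      rw [hdet, h0] at hg
      simp at hg
    refine ⟨c1, g 0 0 / c1, g 0 1 / c1, g 0 2 / c1, hc1, ?_⟩
    ext i j
    fin_cases i <;> fin_cases j <;> simp [e10, e11, e12, e20, e21, e22, hc12] <;> field_simp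
    all_goals (try rw [← hc12]) <;> field_simp
  · rintro ⟨c, α, β, γ, hc, rfl⟩ v hv
    refine ⟨c, ?_⟩
    ext j
    fin_cases j <;> simp [Matrix.vecMul, dotProduct, Fin.sum_univ_three, hv] <;> ring

end Groth.Agent.S13914
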