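import Groth.Statements.S13920
import Mathlib
import Groth.Agent.Lib.Helper4.Pencil

set_option autoImplicit false
universe u
open W4c1limliniiii

namespace Groth.Agent.S13920

namespace H13920
set_option linter.unusedSectionVars false
open Polynomial W4c1limliniiii Groth.Agent.Lib.Helper4.Pencil

variable {k : Type*} [Field k]

theorem pair_natDegree (F G : k[X]) (hlt : G.natDegree < F.natDegree) (α β : k) (hα : α ≠ 0) :
    (α • F + β • G).natDegree = F.natDegree := by
  have h1 : (β • G).natDegree < (α • F).natDegree := by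
    rw [natDegree_smul _ hα]
    exact lt_of_le_of_lt (natDegree_smul_le _ _) hlt
  rw [natDegree_add_eq_left_of_natDegree_lt h1, natDegree_smul _ hα]

theorem pair_linInd (F G : k[X]) (hlt : G.natDegree < F.natDegree) (hG : G ≠ 0) :
    ∀ α β : k, α • F + β • G = 0 → α = 0 ∧ β = 0 := by
  intro α β h
  have hα : α = 0 := by
    by_contra hα
    have := pair_natDegree F G hlt α β hα
    rw [h, natDegree_zero] at this
    omega
  subst hα
  rw [zero_smul, zero_add] at h
  refine ⟨rfl, ?_⟩
  by_contra hβ
  exact hG ((smul_eq_zero.1 h).resolve_left hβ)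

theorem wronskian_twist (p : ℕ) [CharP k p] (F G : k[X]) (c : k) :
    wronskian (F + c • (X ^ p * G)) G = wronskian F G := by
  rw [wronskian_add_left, wronskian_smul_left]
  have : wronskian (X ^ p * G) G = 0 := by
    unfold wronskian
    rw [derivative_mul, derivative_X_pow]
    have : (C (p : k) : k[X]) = 0 := by rw [CharP.cast_eq_zero k p, C_0]
    rw [this]; ring
  rw [this, smul_zero, add_zero]

section main
variable (p : ℕ) [Fact p.Prime] [CharP k p] (d : ℕ) (E : ℕ) (F G : k[X])
  (hFd : F.natDegree = d) (hGd : G.natDegree + E = d) (hG0 : G ≠ 0) (hE : p < E)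

/-- the twisted generator -/
noncomputable def Fc (p : ℕ) (F G : k[X]) (c : k) : k[X] := F + c • (X ^ p * G)

include hFd hGd hG0 hE

theorem natDegree_twist_lt (c : k) : (c • (X ^ p * G)).natDegree < d := by
  refine lt_of_le_of_lt (natDegree_smul_le _ _) ?_
  rw [natDegree_X_pow_mul p hG0]
  omega

theorem natDegree_Fc (c : k) : (Fc p F G c).natDegree = d := by
  unfold Fc
  rw [natDegree_add_eq_left_of_natDegree_lt, hFd]
  rw [hFd]
  exact natDegree_twist_lt p d E F G hFd hGd hG0 hE c

theorem lt_Fc (c : k) : G.natDegree < (Fc p F G c).natDegree := by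
  rw [natDegree_Fc p d E F G hFd hGd hG0 hE c]
  have := (Fact.out : p.Prime).pos
  omega

theorem pencil_Fc (hbpf : ∀ a : k, ∃ s ∈ Submodule.span k {F, G}, s.eval a ≠ 0) (c : k) :
    IsPencil d (Submodule.span k {Fc p F G c, G}) := by
  have hd := natDegree_Fc p d E F G hFd hGd hG0 hE c
  have hlt := lt_Fc p d E F G hFd hGd hG0 hE c
  refine ⟨?_, finrank_of_linInd _ _ (pair_linInd _ _ hlt hG0),
    ⟨Fc p F G c, Submodule.subset_span (by simp), hd⟩, ?_⟩
  · rw [Submodule.span_le]
    rintro x (rfl | rfl)
    · rw [SetLike.mem_coe, mem_degreeLE, degree_le_iff_coeff_zero]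
      intro m hm
      apply coeff_eq_zero_of_natDegree_lt
      rw [hd]; exact_mod_cast hm
    · rw [SetLike.mem_coe, mem_degreeLE, degree_le_iff_coeff_zero]
      intro m hm
      apply coeff_eq_zero_of_natDegree_lt
      have : (d : WithBot ℕ) < m := hm
      have : d < m := by exact_mod_cast this
      omega
  · intro a
    obtain ⟨s, hs, hsa⟩ := hbpf a
    obtain ⟨α, β, rfl⟩ := Submodule.mem_span_pair.1 hs
    by_cases hGa : G.eval a = 0
    · refine ⟨Fc p F G c, Submodule.subset_span (by simp), ?_⟩
      unfold Fc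
      rw [eval_add, eval_smul, eval_mul, hGa, mul_zero, smul_zero, add_zero]
      intro hFa
      apply hsa
      rw [eval_add, eval_smul, eval_smul, hFa, hGa, smul_zero, smul_zero, add_zero]
    · exact ⟨G, Submodule.subset_span (by simp), hGa⟩

theorem ramInf_Fc (c : k) : HasRamIdxInf d (Submodule.span k {Fc p F G c, G}) E := by
  have hd := natDegree_Fc p d E F G hFd hGd hG0 hE c
  have hlt := lt_Fc p d E F G hFd hGd hG0 hE c
  refine ⟨⟨G, Submodule.subset_span (by simp), hG0, by omega⟩, ?_⟩
  intro s hs hs0
  obtain ⟨α, β, rfl⟩ := Submodule.mem_span_pair.1 hs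
  by_cases hα : α = 0
  · subst hα
    rw [zero_smul, zero_add] at hs0 ⊢
    have hβ : β ≠ 0 := by rintro rfl; exact hs0 (zero_smul _ _)
    rw [natDegree_smul _ hβ]
    omega
  · rw [pair_natDegree _ _ hlt α β hα, hd]
    omega

theorem inj_Fc : Function.Injective (fun c : k => Submodule.span k {Fc p F G c, G}) := by
  intro c c' h
  simp only at h
  by_contra hne
  have hpos := (Fact.out : p.Prime).pos
  have hd := natDegree_Fc p d E F G hFd hGd hG0 hE c
  have hlt := lt_Fc p d E F G hFd hGd hG0 hE c
  have h1 : Fc p F G c' ∈ Submodule.span k {Fc p F G c, G} := by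
    rw [h]; exact Submodule.subset_span (by simp)
  have h2 : Fc p F G c ∈ Submodule.span k {Fc p F G c, G} := Submodule.subset_span (by simp)
  have h3 : (c - c') • (X ^ p * G) ∈ Submodule.span k {Fc p F G c, G} := by
    have : (c - c') • (X ^ p * G) = Fc p F G c - Fc p F G c' := by
      unfold Fc; rw [sub_smul]; ring
    rw [this]; exact Submodule.sub_mem _ h2 h1
  have h4 : X ^ p * G ∈ Submodule.span k {Fc p F G c, G} := by
    have := Submodule.smul_mem _ (c - c')⁻¹ h3
    rwa [smul_smul, inv_mul_cancel₀ (sub_ne_zero.2 hne), one_smul] at this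
  obtain ⟨α, β, hαβ⟩ := Submodule.mem_span_pair.1 h4
  have hdeg : (X ^ p * G).natDegree = G.natDegree + p := natDegree_X_pow_mul p hG0
  by_cases hα : α = 0
  · subst hα
    rw [zero_smul, zero_add] at hαβ
    by_cases hβ : β = 0
    · subst hβ
      rw [zero_smul] at hαβ
      exact mul_ne_zero (pow_ne_zero _ X_ne_zero) hG0 hαβ.symm
    · have := congrArg natDegree hαβ
      rw [natDegree_smul _ hβ, hdeg] at this
      omega
  · have := congrArg natDegree hαβ
    rw [pair_natDegree _ _ hlt α β hα, hd, hdeg] at this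
    omega

end main

theorem main (p : ℕ) [Fact p.Prime] [CharP k p] [Infinite k] (d n : ℕ) (P : Fin n → k)
    (e : Fin n → ℕ) (E : ℕ) (he2 : ∀ i, 2 ≤ e i) (hlt : ∀ i, e i < p) (hE : p < E)
    (V : Submodule k k[X]) (hV : V ∈ ramMaps d P e) (hinf : HasRamIdxInf d V E) :
    {V : Submodule k k[X] | V ∈ ramMaps d P e ∧ HasRamIdxInf d V E}.Infinite := by
  obtain ⟨⟨hle, hfin, ⟨F, hF, hFd⟩, hbpf⟩, hsep, hram⟩ := hV
  obtain ⟨⟨G, hG, hG0, hGd'⟩, hall⟩ := hinf
  have hGd : G.natDegree + E = d := by
    have := hall G hG hG0; omega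
  have hpos := (Fact.out : p.Prime).pos
  have hltFG : G.natDegree < F.natDegree := by omega
  have hfin' := finrank_of_linInd _ _ (pair_linInd F G hltFG hG0)
  have hVeq : Submodule.span k {F, G} = V := by
    have : Module.Finite k V := Module.finite_of_finrank_pos (by omega)
    apply Submodule.eq_of_le_of_finrank_eq
    · rw [Submodule.span_le]
      rintro x (rfl | rfl)
      · exact hF
      · exact hG
    · rw [hfin', hfin]
  subst hVeq
  -- the Wronskian of the basis is non-zero
  have hW : wronskian F G ≠ 0 := by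
    obtain ⟨F', hF', G', hG', hW'⟩ := hsep
    obtain ⟨α, β, rfl⟩ := Submodule.mem_span_pair.1 hF'
    obtain ⟨γ, δ, rfl⟩ := Submodule.mem_span_pair.1 hG'
    rw [wronskian_comb] at hW'
    intro h0
    rw [h0, smul_zero] at hW'
    exact hW' rfl
  refine Set.infinite_of_injective_forall_mem (inj_Fc p d E F G hFd hGd hG0 hE) ?_
  intro c
  have hpen := pencil_Fc p d E F G hFd hGd hG0 hE hbpf c
  have hWc : wronskian (Fc p F G c) G = wronskian F G := wronskian_twist p F G c
  refine ⟨⟨hpen, ⟨Fc p F G c, Submodule.subset_span (by simp), G, Submodule.subset_span (by simp),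
    by rw [hWc]; exact hW⟩, ?_⟩, ramInf_Fc p d E F G hFd hGd hG0 hE c⟩
  intro i
  obtain ⟨m, hm1, hram_m, hcase⟩ := key F G hfin (P i) (hbpf (P i)) hW
  have hmi : m = e i := hasRamIdx_unique _ _ _ _ hram_m (hram i)
  subst hmi
  have hek : ((e i : ℕ) : k) ≠ 0 := by
    rw [Ne, CharP.cast_eq_zero_iff k p]
    intro hdvd
    have := Nat.le_of_dvd (by have := he2 i; omega) hdvd
    have := hlt i
    omega
  have hrm : rootMultiplicity (P i) (wronskian F G) + 1 = e i := by
    rcases hcase with ⟨_, h⟩ | ⟨h, _⟩
    · exact h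
    · exact absurd h hek
  have hWc0 : wronskian (Fc p F G c) G ≠ 0 := by rw [hWc]; exact hW
  obtain ⟨m', hm1', hram', hcase'⟩ := key (Fc p F G c) G hpen.2.1 (P i) (hpen.2.2.2 (P i)) hWc0
  rw [hWc] at hcase'
  rcases hcase' with ⟨_, h⟩ | ⟨h, hle'⟩
  · have : m' = e i := by omega
    rw [← this]; exact hram'
  · exfalso
    rw [CharP.cast_eq_zero_iff k p] at h
    have := Nat.le_of_dvd (by omega) h
    have := hlt i
    omega

theorem final (p : ℕ) [Fact p.Prime] [CharP k p] [Infinite k]
    (d n : ℕ) (P : Fin n → k) (e : Fin n → ℕ) (E : ℕ)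
    (he : W4c1limliniiii.Admissible p d (Fin.cons E e : Fin (n + 1) → ℕ))
    (hlt : ∀ i, e i < p) (hE : p < E) :
    {V : Submodule k k[X] | V ∈ W4c1limliniiii.ramMaps d P e ∧ W4c1limliniiii.HasRamIdxInf d V E} = ∅ ∨
      {V : Submodule k k[X] | V ∈ W4c1limliniiii.ramMaps d P e ∧
        W4c1limliniiii.HasRamIdxInf d V E}.Infinite := by
  by_cases h : {V : Submodule k k[X] | V ∈ ramMaps d P e ∧ HasRamIdxInf d V E} = ∅
  · exact Or.inl h
  · right
    obtain ⟨V, hV, hinf⟩ := Set.nonempty_iff_ne_empty.2 h
    have he2 : ∀ i, 2 ≤ e i := by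
      intro i
      have := (he.1 i.succ).1
      rwa [Fin.cons_succ] at this
    exact main p d n P e E he2 hlt hE V hV hinf

end H13920

open Polynomial in
/-- Over an algebraically closed field of prime characteristic p, fix n points of the affine line with
ramification indices e_i < p, and at infinity an index E with p < E and E prime to p, the datum (E,
e_1, …, e_n) being admissible for degree d (each index between 2 and d, ∑ (index − 1) = 2d − 2). If
one separable degree-d self-map of the projective line (up to automorphisms of the target, encoded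
as a base-point-free separable pencil of polynomials of degree at most d) has ramification index
exactly e_i at the i-th point and exactly E at infinity, then infinitely many do: the set of such
pencils is empty or infinite. (The consequence for general points, that no such map exists, is not
restated.) -/
theorem result
    (k : Type u) [Field k] [IsAlgClosed k] (p : ℕ) [Fact p.Prime] [CharP k p]
    (d n : ℕ) (P : Fin n → k) (e : Fin n → ℕ) (E : ℕ)
    (he : W4c1limliniiii.Admissible p d (Fin.cons E e : Fin (n + 1) → ℕ))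
    (hlt : ∀ i, e i < p) (hE : p < E) :
    {V : Submodule k k[X] | V ∈ W4c1limliniiii.ramMaps d P e ∧ W4c1limliniiii.HasRamIdxInf d V E} = ∅ ∨
      {V : Submodule k k[X] | V ∈ W4c1limliniiii.ramMaps d P e ∧
        W4c1limliniiii.HasRamIdxInf d V E}.Infinite := by
  exact H13920.final p d n P e E he hlt hE

end Groth.Agent.S13920
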