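import Groth.Statements.S13925
import Mathlib

set_option autoImplicit false
universe u v w x
open W4c1limliniiii

namespace Groth.Agent.S13925

/-- Let k be a field and U, E, W vector spaces over k with linear maps f : U → E, g' : E → U, f₂ : E → W
and g : W → E such that g' ∘ f = 0, the kernel of f₂ is contained in the image of g, and the image
of g meets the kernel of g' only in 0 — the conditions holding at a point of a linked Grassmannian
at which the linking scalar vanishes. Let V₁ ≤ U and V₂ ≤ E be subspaces and let C' ≤ V₂ be a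
subspace contained in the kernel of g' and meeting f(V₁) only in 0. Then the subspaces f(V₁), ker f₂
∩ V₂ and C' of E are independent: their sum is direct. (The published statement is for two
consecutive members V_{i-1}, V_i of a point of a linked Grassmannian at which the linking scalar
vanishes and adds the decomposition V_i = f(V_{i-1}) ⊕ (ker f_i ∩ V_i) ⊕ C with C ⊇ C'; this row
states the independence, with only the three conditions the argument uses.) -/
theorem result (k : Type u) [Field k]
    (U : Type v) (E : Type w) (W : Type x) [AddCommGroup U] [Module k U] [AddCommGroup E]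
    [Module k E] [AddCommGroup W] [Module k W]
    (f : U →ₗ[k] E) (g' : E →ₗ[k] U) (f₂ : E →ₗ[k] W) (g : W →ₗ[k] E)
    (hgf : g'.comp f = 0) (hII : LinearMap.ker f₂ ≤ LinearMap.range g)
    (hIII : LinearMap.range g ⊓ LinearMap.ker g' = ⊥)
    (V₁ : Submodule k U) (V₂ : Submodule k E) (C' : Submodule k E) (hC : C' ≤ V₂)
    (hCg : C' ≤ LinearMap.ker g') (hCf : Submodule.map f V₁ ⊓ C' = ⊥) :
    iSupIndep ![Submodule.map f V₁, LinearMap.ker f₂ ⊓ V₂, C'] := by
  have key : ∀ a ∈ Submodule.map f V₁, ∀ b ∈ LinearMap.ker f₂ ⊓ V₂, ∀ c ∈ C',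
      a + b + c = 0 → a = 0 ∧ b = 0 ∧ c = 0 := by
    intro a ha b hb c hc habc
    have hga : g' a = 0 := by
      obtain ⟨u, -, rfl⟩ := ha
      exact LinearMap.congr_fun hgf u
    have hgc : g' c = 0 := hCg hc
    have hgb : g' b = 0 := by
      have := congrArg g' habc
      rw [map_add, map_add, hga, hgc, map_zero] at this
      simpa using this
    have hb0 : b = 0 := by
      have : b ∈ LinearMap.range g ⊓ LinearMap.ker g' := ⟨hII hb.1, hgb⟩
      rw [hIII] at this
      simpa using this
    subst hb0
    have hac : a = -c := by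
      rw [add_zero] at habc
      exact eq_neg_of_add_eq_zero_left habc
    have ha0 : a = 0 := by
      have : a ∈ Submodule.map f V₁ ⊓ C' := ⟨ha, by rw [hac]; exact C'.neg_mem hc⟩
      rw [hCf] at this
      simpa using this
    subst ha0
    refine ⟨rfl, rfl, ?_⟩
    simpa using habc
  rw [iSupIndep_fin_three]
  simp only [Matrix.cons_val_zero, Matrix.cons_val_one, Matrix.cons_val_two, Matrix.head_cons,
    Matrix.tail_cons]
  refine ⟨?_, ?_, ?_⟩
  · rw [Submodule.disjoint_def]
    intro x hx hx'
    obtain ⟨b, hb, c, hc, rfl⟩ := Submodule.mem_sup.mp hx'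
    have := key (-(b + c)) (Submodule.neg_mem _ hx) b hb c hc (by abel)
    exact neg_eq_zero.mp this.1
  · rw [Submodule.disjoint_def]
    intro x hx hx'
    obtain ⟨c, hc, a, ha, rfl⟩ := Submodule.mem_sup.mp hx'
    have := key a ha (-(c + a)) (Submodule.neg_mem _ hx) c hc (by abel)
    exact neg_eq_zero.mp this.2.1
  · rw [Submodule.disjoint_def]
    intro x hx hx'
    obtain ⟨a, ha, b, hb, rfl⟩ := Submodule.mem_sup.mp hx'
    have := key a ha b hb (-(a + b)) (Submodule.neg_mem _ hx) (by abel)
    exact neg_eq_zero.mp this.2.2

end Groth.Agent.S13925
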