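import Groth.Statements.S13926
import Mathlib

set_option autoImplicit false
universe u v w
open W4c1limliniiii

namespace Groth.Agent.S13926

/-- Let k be a field, E₁ and E₂ finite-dimensional vector spaces over k of the same dimension, f : E₁ →
E₂ and g : E₂ → E₁ linear maps whose composite g ∘ f is multiplication by a scalar s, and V₁ a
subspace of E₁. Then there is a subspace V₂ of E₂ of the same dimension as V₁ with f(V₁) ≤ V₂ and
g(V₂) ≤ V₁. (The published statement is the surjectivity of the truncation morphisms of a linked
Grassmannian, with a further assertion on lifting families; this row is the lifting step over a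
field — over a point the chain of linked subspaces V_1, …, V_{n'} extends one index at a time — and
assumes only g ∘ f = s.) -/
theorem result (k : Type u) [Field k]
    (E₁ : Type v) (E₂ : Type w) [AddCommGroup E₁] [Module k E₁] [FiniteDimensional k E₁]
    [AddCommGroup E₂] [Module k E₂] [FiniteDimensional k E₂]
    (hdim : Module.finrank k E₁ = Module.finrank k E₂)
    (f : E₁ →ₗ[k] E₂) (g : E₂ →ₗ[k] E₁) (s : k) (hgf : g.comp f = s • LinearMap.id)
    (V₁ : Submodule k E₁) :
    ∃ V₂ : Submodule k E₂, Module.finrank k V₂ = Module.finrank k V₁ ∧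
      Submodule.map f V₁ ≤ V₂ ∧ Submodule.map g V₂ ≤ V₁ := by
  classical
  -- intermediate subspace lemma
  have between : ∀ (n : ℕ) (A B : Submodule k E₂) (d : ℕ), A ≤ B → Module.finrank k A ≤ d →
      d ≤ Module.finrank k B → d - Module.finrank k A = n →
      ∃ W : Submodule k E₂, A ≤ W ∧ W ≤ B ∧ Module.finrank k W = d := by
    intro n
    induction n with
    | zero =>
      intro A B d hAB hA hB h
      exact ⟨A, le_rfl, hAB, by omega⟩
    | succ n ih =>
      intro A B d hAB hA hB h
      have hlt : Module.finrank k A < Module.finrank k B := by omega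
      have hex : ∃ x ∈ B, x ∉ A := by
        by_contra hcon
        push Not at hcon
        have hBA : B ≤ A := hcon
        have := Submodule.finrank_mono hBA
        omega
      obtain ⟨x, hxB, hxA⟩ := hex
      have hfr := Submodule.finrank_sup_span_singleton hxA
      obtain ⟨W, h1, h2, h3⟩ := ih (A ⊔ Submodule.span k {x}) B d
        (sup_le hAB (by rw [Submodule.span_le]; simpa using hxB))
        (by rw [hfr]; omega) hB (by rw [hfr]; omega)
      exact ⟨W, le_sup_left.trans h1, h2, h3⟩
  have hle : Submodule.map f V₁ ≤ Submodule.comap g V₁ := by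
    rintro _ ⟨v, hv, rfl⟩
    have : g (f v) = s • v := by
      have := LinearMap.congr_fun hgf v
      simpa using this
    rw [Submodule.mem_comap, this]
    exact V₁.smul_mem s hv
  have h1 : Module.finrank k (Submodule.map f V₁) ≤ Module.finrank k V₁ := Submodule.finrank_map_le f V₁
  have h2 : Module.finrank k V₁ ≤ Module.finrank k (Submodule.comap g V₁) := by
    set φ : E₂ →ₗ[k] (E₁ ⧸ V₁) := V₁.mkQ.comp g with hφ
    have hker : LinearMap.ker φ = Submodule.comap g V₁ := by
      rw [hφ, LinearMap.ker_comp, Submodule.ker_mkQ]
    have hrn := LinearMap.finrank_range_add_finrank_ker φ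
    have hr : Module.finrank k (LinearMap.range φ) ≤ Module.finrank k (E₁ ⧸ V₁) :=
      Submodule.finrank_le _
    have hq := Submodule.finrank_quotient_add_finrank V₁
    rw [hker] at hrn
    omega
  obtain ⟨W, hW1, hW2, hW3⟩ := between _ _ _ (Module.finrank k V₁) hle h1 h2 rfl
  refine ⟨W, hW3, hW1, ?_⟩
  rw [Submodule.map_le_iff_le_comap]
  exact hW2

end Groth.Agent.S13926
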