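import Groth.Statements.S13937
import Mathlib
import Groth.Agent.Lib.Helper4.Pencil

set_option autoImplicit false
universe u
open W4c1limliniiii

namespace Groth.Agent.S13937

namespace H13937
set_option linter.unusedSectionVars false
open Polynomial W4c1limliniiii Groth.Agent.Lib.Helper4.Pencil

variable {k : Type*} [Field k]

theorem two_point (d : ℕ) (a b : k) (hab : a ≠ b) (m n : ℕ) (hmn : d + 1 ≤ m + n) (s : k[X])
    (hs : s ∈ degreeLE k d) (h1 : (X - C a) ^ m ∣ s) (h2 : (X - C b) ^ n ∣ s) : s = 0 := by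
  have hcop : IsCoprime ((X - C a) ^ m) ((X - C b) ^ n) := by
    apply IsCoprime.pow
    apply isCoprime_X_sub_C_of_isUnit_sub
    rw [isUnit_iff_ne_zero, sub_ne_zero]; exact hab
  have hdvd := hcop.mul_dvd h1 h2
  by_contra hne
  have hd1 : s.natDegree ≤ d := natDegree_le_of_degree_le (mem_degreeLE.1 hs)
  have hd2 := natDegree_le_of_dvd hdvd hne
  rw [((monic_X_sub_C _).pow _).natDegree_mul ((monic_X_sub_C _).pow _),
    (monic_X_sub_C _).natDegree_pow, natDegree_X_sub_C,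
    (monic_X_sub_C _).natDegree_pow, natDegree_X_sub_C] at hd2
  omega

theorem finrank_degLT (n : ℕ) : Module.finrank k (degreeLT k n) = n := by
  rw [(degreeLTEquiv k n).finrank_eq]; simp

section core
variable (d : ℕ) (a₀ a₁ a₂ : k) (m₀ m₁ m₂ : ℕ)

/-- the space of normalized pairs -/
noncomputable def LL : Submodule k (k[X] × k[X]) where
  carrier := {v | v.1 ∈ degreeLE k d ∧ v.2 ∈ degreeLE k d ∧ (X - C a₀) ^ m₀ ∣ v.1 ∧
    (X - C a₁) ^ m₁ ∣ v.2 ∧ (X - C a₂) ^ m₂ ∣ v.1 + v.2}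
  add_mem' := by
    rintro v w ⟨h1, h2, h3, h4, h5⟩ ⟨h1', h2', h3', h4', h5'⟩
    refine ⟨Submodule.add_mem _ h1 h1', Submodule.add_mem _ h2 h2', dvd_add h3 h3', dvd_add h4 h4', ?_⟩
    have : (v + w).1 + (v + w).2 = (v.1 + v.2) + (w.1 + w.2) := by
      simp only [Prod.fst_add, Prod.snd_add]; ring
    rw [this]; exact dvd_add h5 h5'
  zero_mem' := by
    refine ⟨Submodule.zero_mem _, Submodule.zero_mem _, dvd_zero _, dvd_zero _, ?_⟩
    simp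
  smul_mem' := by
    rintro c v ⟨h1, h2, h3, h4, h5⟩
    refine ⟨Submodule.smul_mem _ _ h1, Submodule.smul_mem _ _ h2, ?_, ?_, ?_⟩
    · rw [Prod.smul_fst, smul_eq_C_mul]; exact dvd_mul_of_dvd_right h3 _
    · rw [Prod.smul_snd, smul_eq_C_mul]; exact dvd_mul_of_dvd_right h4 _
    · rw [Prod.smul_fst, Prod.smul_snd, ← smul_add, smul_eq_C_mul]; exact dvd_mul_of_dvd_right h5 _

theorem mem_LL (v : k[X] × k[X]) : v ∈ LL d a₀ a₁ a₂ m₀ m₁ m₂ ↔
    v.1 ∈ degreeLE k d ∧ v.2 ∈ degreeLE k d ∧ (X - C a₀) ^ m₀ ∣ v.1 ∧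
    (X - C a₁) ^ m₁ ∣ v.2 ∧ (X - C a₂) ^ m₂ ∣ v.1 + v.2 := Iff.rfl

variable (h01 : a₀ ≠ a₁) (h02 : a₀ ≠ a₂) (h12 : a₁ ≠ a₂)
  (hm₀ : m₀ ≤ d) (hm₁ : m₁ ≤ d) (hm₂ : m₂ ≤ d) (hsum : m₀ + m₁ + m₂ = 2 * d + 1)
include h01 h02 h12 hm₀ hm₁ hm₂ hsum

theorem fst_ne_zero (v : k[X] × k[X]) (hv : v ∈ LL d a₀ a₁ a₂ m₀ m₁ m₂) (hv0 : v ≠ 0) : v.1 ≠ 0 := by
  obtain ⟨h1, h2, h3, h4, h5⟩ := hv
  intro h0
  rw [h0, zero_add] at h5
  have := two_point d a₁ a₂ h12 m₁ m₂ (by omega) v.2 h2 h4 h5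
  exact hv0 (Prod.ext h0 this)

theorem snd_ne_zero (v : k[X] × k[X]) (hv : v ∈ LL d a₀ a₁ a₂ m₀ m₁ m₂) (hv0 : v ≠ 0) : v.2 ≠ 0 := by
  obtain ⟨h1, h2, h3, h4, h5⟩ := hv
  intro h0
  rw [h0, add_zero] at h5
  have := two_point d a₀ a₂ h02 m₀ m₂ (by omega) v.1 h1 h3 h5
  exact hv0 (Prod.ext this h0)

theorem linInd_LL (v : k[X] × k[X]) (hv : v ∈ LL d a₀ a₁ a₂ m₀ m₁ m₂) (hv0 : v ≠ 0) :
    ∀ α β : k, α • v.1 + β • v.2 = 0 → α = 0 ∧ β = 0 := by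
  have hf := fst_ne_zero d a₀ a₁ a₂ m₀ m₁ m₂ h01 h02 h12 hm₀ hm₁ hm₂ hsum v hv hv0
  have hs := snd_ne_zero d a₀ a₁ a₂ m₀ m₁ m₂ h01 h02 h12 hm₀ hm₁ hm₂ hsum v hv hv0
  obtain ⟨h1, h2, h3, h4, h5⟩ := hv
  intro α β h
  have hα : α = 0 := by
    by_contra hα
    have e1 : α • v.1 = -(β • v.2) := eq_neg_of_add_eq_zero_left h
    have hd : (X - C a₁) ^ m₁ ∣ α • v.1 := by
      rw [e1, dvd_neg, smul_eq_C_mul]; exact dvd_mul_of_dvd_right h4 _
    have hd' : (X - C a₀) ^ m₀ ∣ α • v.1 := by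
      rw [smul_eq_C_mul]; exact dvd_mul_of_dvd_right h3 _
    have := two_point d a₀ a₁ h01 m₀ m₁ (by omega) (α • v.1) (Submodule.smul_mem _ _ h1) hd' hd
    exact hf ((smul_eq_zero.1 this).resolve_left hα)
  subst hα
  rw [zero_smul, zero_add] at h
  exact ⟨rfl, (smul_eq_zero.1 h).resolve_right hs⟩

theorem part2 (v : k[X] × k[X]) (hv : v ∈ LL d a₀ a₁ a₂ m₀ m₁ m₂) (hv0 : v ≠ 0) :
    Submodule.span k {v.1, v.2} ≤ degreeLE k d ∧
      Module.finrank k (Submodule.span k {v.1, v.2}) = 2 ∧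
      (∃ s ∈ Submodule.span k {v.1, v.2}, s ≠ 0 ∧ m₀ ≤ rootMultiplicity a₀ s) ∧
      (∃ s ∈ Submodule.span k {v.1, v.2}, s ≠ 0 ∧ m₁ ≤ rootMultiplicity a₁ s) ∧
      (∃ s ∈ Submodule.span k {v.1, v.2}, s ≠ 0 ∧ m₂ ≤ rootMultiplicity a₂ s) := by
  have hli := linInd_LL d a₀ a₁ a₂ m₀ m₁ m₂ h01 h02 h12 hm₀ hm₁ hm₂ hsum v hv hv0
  have hf := fst_ne_zero d a₀ a₁ a₂ m₀ m₁ m₂ h01 h02 h12 hm₀ hm₁ hm₂ hsum v hv hv0
  have hs := snd_ne_zero d a₀ a₁ a₂ m₀ m₁ m₂ h01 h02 h12 hm₀ hm₁ hm₂ hsum v hv hv0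
  obtain ⟨h1, h2, h3, h4, h5⟩ := hv
  have hsum0 : v.1 + v.2 ≠ 0 := by
    intro h0
    have := hli 1 1 (by rw [one_smul, one_smul]; exact h0)
    exact one_ne_zero this.1
  refine ⟨?_, finrank_of_linInd _ _ hli, ⟨v.1, Submodule.subset_span (by simp), hf, ?_⟩,
    ⟨v.2, Submodule.subset_span (by simp), hs, ?_⟩, ⟨v.1 + v.2, ?_, hsum0, ?_⟩⟩
  · rw [Submodule.span_le]
    rintro x (rfl | rfl)
    · exact h1
    · exact h2
  · rw [le_rootMultiplicity_iff hf]; exact h3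
  · rw [le_rootMultiplicity_iff hs]; exact h4
  · exact Submodule.add_mem _ (Submodule.subset_span (by simp)) (Submodule.subset_span (by simp))
  · rw [le_rootMultiplicity_iff hsum0]; exact h5

theorem part3 (V : Submodule k k[X]) (hV : V ≤ degreeLE k d) (hfin : Module.finrank k V = 2)
    (s₀ s₁ s₂ : k[X]) (hs₀ : s₀ ∈ V) (hs₁ : s₁ ∈ V) (hs₂ : s₂ ∈ V) (h0 : s₀ ≠ 0) (h1 : s₁ ≠ 0)
    (h2 : s₂ ≠ 0) (hr₀ : m₀ ≤ rootMultiplicity a₀ s₀) (hr₁ : m₁ ≤ rootMultiplicity a₁ s₁)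
    (hr₂ : m₂ ≤ rootMultiplicity a₂ s₂) :
    ∃ v ∈ LL d a₀ a₁ a₂ m₀ m₁ m₂, v ≠ 0 ∧ Submodule.span k {v.1, v.2} = V := by
  rw [le_rootMultiplicity_iff h0] at hr₀
  rw [le_rootMultiplicity_iff h1] at hr₁
  rw [le_rootMultiplicity_iff h2] at hr₂
  have hfd : Module.Finite k V := Module.finite_of_finrank_pos (by omega)
  -- s₀, s₁ independent
  have hli : ∀ α β : k, α • s₀ + β • s₁ = 0 → α = 0 ∧ β = 0 := by
    intro α β h
    have hα : α = 0 := by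
      by_contra hα
      have e1 : α • s₀ = -(β • s₁) := eq_neg_of_add_eq_zero_left h
      have hd : (X - C a₁) ^ m₁ ∣ α • s₀ := by
        rw [e1, dvd_neg, smul_eq_C_mul]; exact dvd_mul_of_dvd_right hr₁ _
      have hd' : (X - C a₀) ^ m₀ ∣ α • s₀ := by
        rw [smul_eq_C_mul]; exact dvd_mul_of_dvd_right hr₀ _
      have := two_point d a₀ a₁ h01 m₀ m₁ (by omega) (α • s₀)
        (Submodule.smul_mem _ _ (hV hs₀)) hd' hd
      exact h0 ((smul_eq_zero.1 this).resolve_left hα)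
    subst hα
    rw [zero_smul, zero_add] at h
    exact ⟨rfl, (smul_eq_zero.1 h).resolve_right h1⟩
  have hspan : Submodule.span k {s₀, s₁} = V := by
    apply Submodule.eq_of_le_of_finrank_eq
    · rw [Submodule.span_le]
      rintro x (rfl | rfl)
      · exact hs₀
      · exact hs₁
    · rw [finrank_of_linInd _ _ hli, hfin]
  have hs₂' : s₂ ∈ Submodule.span k {s₀, s₁} := by rw [hspan]; exact hs₂
  obtain ⟨α, β, hαβ⟩ := Submodule.mem_span_pair.1 hs₂'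
  have hα : α ≠ 0 := by
    rintro rfl
    rw [zero_smul, zero_add] at hαβ
    have hd : (X - C a₁) ^ m₁ ∣ s₂ := by
      rw [← hαβ, smul_eq_C_mul]; exact dvd_mul_of_dvd_right hr₁ _
    exact h2 (two_point d a₁ a₂ h12 m₁ m₂ (by omega) s₂ (hV hs₂) hd hr₂)
  have hβ : β ≠ 0 := by
    rintro rfl
    rw [zero_smul, add_zero] at hαβ
    have hd : (X - C a₀) ^ m₀ ∣ s₂ := by
      rw [← hαβ, smul_eq_C_mul]; exact dvd_mul_of_dvd_right hr₀ _
    exact h2 (two_point d a₀ a₂ h02 m₀ m₂ (by omega) s₂ (hV hs₂) hd hr₂)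
  refine ⟨(α • s₀, β • s₁), ⟨Submodule.smul_mem _ _ (hV hs₀), Submodule.smul_mem _ _ (hV hs₁), ?_, ?_, ?_⟩,
    ?_, ?_⟩
  · show _ ∣ α • s₀
    rw [smul_eq_C_mul]; exact dvd_mul_of_dvd_right hr₀ _
  · show _ ∣ β • s₁
    rw [smul_eq_C_mul]; exact dvd_mul_of_dvd_right hr₁ _
  · show _ ∣ α • s₀ + β • s₁
    rw [hαβ]; exact hr₂
  · intro h
    have := congrArg Prod.fst h
    simp only [Prod.fst_zero] at this
    exact h0 ((smul_eq_zero.1 this).resolve_left hα)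
  · show Submodule.span k {α • s₀, β • s₁} = V
    apply Submodule.eq_of_le_of_finrank_eq
    · rw [Submodule.span_le]
      rintro x (rfl | rfl)
      · exact Submodule.smul_mem _ _ hs₀
      · exact Submodule.smul_mem _ _ hs₁
    · rw [hfin]
      apply finrank_of_linInd
      intro γ δ h
      rw [smul_smul, smul_smul] at h
      have := hli _ _ h
      exact ⟨(mul_eq_zero.1 this.1).resolve_right hα, (mul_eq_zero.1 this.2).resolve_right hβ⟩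

theorem part4 (v w : k[X] × k[X]) (hv : v ∈ LL d a₀ a₁ a₂ m₀ m₁ m₂) (hw : w ∈ LL d a₀ a₁ a₂ m₀ m₁ m₂)
    (hv0 : v ≠ 0) (_hw0 : w ≠ 0)
    (h : Submodule.span k {v.1, v.2} = Submodule.span k {w.1, w.2}) : ∃ c : k, w = c • v := by
  have hf := fst_ne_zero d a₀ a₁ a₂ m₀ m₁ m₂ h01 h02 h12 hm₀ hm₁ hm₂ hsum v hv hv0
  have hs := snd_ne_zero d a₀ a₁ a₂ m₀ m₁ m₂ h01 h02 h12 hm₀ hm₁ hm₂ hsum v hv hv0
  obtain ⟨h1, h2, h3, h4, h5⟩ := hv
  obtain ⟨h1', h2', h3', h4', h5'⟩ := hw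
  have hw1 : w.1 ∈ Submodule.span k {v.1, v.2} := by
    rw [h]; exact Submodule.subset_span (by simp)
  have hw2 : w.2 ∈ Submodule.span k {v.1, v.2} := by
    rw [h]; exact Submodule.subset_span (by simp)
  obtain ⟨α, β, hαβ⟩ := Submodule.mem_span_pair.1 hw1
  obtain ⟨γ, δ, hγδ⟩ := Submodule.mem_span_pair.1 hw2
  have hβ : β = 0 := by
    by_contra hβ
    have e1 : β • v.2 = w.1 - α • v.1 := by rw [← hαβ]; ring
    have hd : (X - C a₀) ^ m₀ ∣ β • v.2 := by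
      rw [e1]; refine dvd_sub h3' ?_
      rw [smul_eq_C_mul]; exact dvd_mul_of_dvd_right h3 _
    have hd' : (X - C a₁) ^ m₁ ∣ β • v.2 := by
      rw [smul_eq_C_mul]; exact dvd_mul_of_dvd_right h4 _
    have := two_point d a₀ a₁ h01 m₀ m₁ (by omega) (β • v.2) (Submodule.smul_mem _ _ h2) hd hd'
    exact hs ((smul_eq_zero.1 this).resolve_left hβ)
  have hγ : γ = 0 := by
    by_contra hγ
    have e1 : γ • v.1 = w.2 - δ • v.2 := by rw [← hγδ]; ring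
    have hd : (X - C a₁) ^ m₁ ∣ γ • v.1 := by
      rw [e1]; refine dvd_sub h4' ?_
      rw [smul_eq_C_mul]; exact dvd_mul_of_dvd_right h4 _
    have hd' : (X - C a₀) ^ m₀ ∣ γ • v.1 := by
      rw [smul_eq_C_mul]; exact dvd_mul_of_dvd_right h3 _
    have := two_point d a₀ a₁ h01 m₀ m₁ (by omega) (γ • v.1) (Submodule.smul_mem _ _ h1) hd' hd
    exact hf ((smul_eq_zero.1 this).resolve_left hγ)
  subst hβ hγ
  rw [zero_smul, add_zero] at hαβ
  rw [zero_smul, zero_add] at hγδ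
  have hαδ : α = δ := by
    by_contra hne
    have e1 : (α - δ) • v.1 = (w.1 + w.2) - δ • (v.1 + v.2) := by
      rw [← hαβ, ← hγδ, sub_smul, smul_add]; ring
    have hd : (X - C a₂) ^ m₂ ∣ (α - δ) • v.1 := by
      rw [e1]; refine dvd_sub h5' ?_
      rw [smul_eq_C_mul]; exact dvd_mul_of_dvd_right h5 _
    have hd' : (X - C a₀) ^ m₀ ∣ (α - δ) • v.1 := by
      rw [smul_eq_C_mul]; exact dvd_mul_of_dvd_right h3 _
    have := two_point d a₀ a₂ h02 m₀ m₂ (by omega) ((α - δ) • v.1) (Submodule.smul_mem _ _ h1) hd' hd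
    exact hf ((smul_eq_zero.1 this).resolve_left (sub_ne_zero.2 hne))
  subst hαδ
  exact ⟨α, Prod.ext hαβ.symm hγδ.symm⟩

theorem part1 : LL d a₀ a₁ a₂ m₀ m₁ m₂ ≠ ⊥ := by
  obtain ⟨n₀, hn₀⟩ : ∃ n₀, n₀ + m₀ = d + 1 := ⟨d + 1 - m₀, by omega⟩
  obtain ⟨n₁, hn₁⟩ : ∃ n₁, n₁ + m₁ = d + 1 := ⟨d + 1 - m₁, by omega⟩
  let I : Ideal k[X] := Ideal.span {(X - C a₂) ^ m₂}
  let Θ : (degreeLT k n₀ × degreeLT k n₁) →ₗ[k] (k[X] ⧸ I) :=
    (Ideal.Quotient.mkₐ k I).toLinearMap ∘ₗ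
      ((LinearMap.mulLeft k ((X - C a₀) ^ m₀) ∘ₗ (degreeLT k n₀).subtype).coprod
        (LinearMap.mulLeft k ((X - C a₁) ^ m₁) ∘ₗ (degreeLT k n₁).subtype))
  have hcod : Module.finrank k (k[X] ⧸ I) = m₂ := by
    rw [finrank_quotient_span_eq_natDegree, (monic_X_sub_C _).natDegree_pow, natDegree_X_sub_C,
      mul_one]
  have hdom : Module.finrank k (degreeLT k n₀ × degreeLT k n₁) = n₀ + n₁ := by
    rw [Module.finrank_prod, finrank_degLT, finrank_degLT]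
  have hm₂pos : 0 < m₂ := by omega
  have : Module.Finite k (k[X] ⧸ I) := Module.finite_of_finrank_pos (by omega)
  have hker : LinearMap.ker Θ ≠ ⊥ := by
    apply LinearMap.ker_ne_bot_of_finrank_lt
    rw [hcod, hdom]; omega
  obtain ⟨⟨f, g⟩, hfg, hne⟩ := Submodule.exists_mem_ne_zero_of_ne_bot hker
  rw [LinearMap.mem_ker] at hfg
  have hΘ : Θ (f, g) = Ideal.Quotient.mk I ((X - C a₀) ^ m₀ * f.1 + (X - C a₁) ^ m₁ * g.1) := rfl
  rw [hΘ, Ideal.Quotient.eq_zero_iff_mem, Ideal.mem_span_singleton] at hfg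
  have hdeg : ∀ (a : k) (m n : ℕ) (q : k[X]), n + m = d + 1 → q ∈ degreeLT k n →
      (X - C a) ^ m * q ∈ degreeLE k d := by
    intro a m n q hnm hq
    by_cases hq0 : q = 0
    · rw [hq0, mul_zero]; exact Submodule.zero_mem _
    rw [mem_degreeLE]
    have h1 : q.natDegree < n := by
      rw [mem_degreeLT] at hq
      exact (natDegree_lt_iff_degree_lt hq0).2 hq
    refine le_trans degree_le_natDegree ?_
    rw [((monic_X_sub_C a).pow m).natDegree_mul' hq0, (monic_X_sub_C _).natDegree_pow,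
      natDegree_X_sub_C, mul_one]
    exact_mod_cast (by omega : m + q.natDegree ≤ d)
  intro hbot
  have hmem : ((X - C a₀) ^ m₀ * f.1, (X - C a₁) ^ m₁ * g.1) ∈ LL d a₀ a₁ a₂ m₀ m₁ m₂ :=
    ⟨hdeg a₀ m₀ n₀ f.1 hn₀ f.2, hdeg a₁ m₁ n₁ g.1 hn₁ g.2, dvd_mul_right _ _, dvd_mul_right _ _, hfg⟩
  rw [hbot, Submodule.mem_bot, Prod.mk_eq_zero] at hmem
  apply hne
  have hf0 : f.1 = 0 := (mul_eq_zero.1 hmem.1).resolve_left (pow_ne_zero _ (X_sub_C_ne_zero _))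
  have hg0 : g.1 = 0 := (mul_eq_zero.1 hmem.2).resolve_left (pow_ne_zero _ (X_sub_C_ne_zero _))
  exact Prod.ext (Subtype.ext hf0) (Subtype.ext hg0)

end core

theorem fin3_forall {Q : Fin 3 → Prop} : (∀ i, Q i) ↔ Q 0 ∧ Q 1 ∧ Q 2 :=
  ⟨fun h => ⟨h 0, h 1, h 2⟩, fun ⟨h0, h1, h2⟩ i => by fin_cases i <;> assumption⟩

theorem final (p : ℕ) (d : ℕ) (P : Fin 3 → k) (hP : Function.Injective P)
    (e : Fin 3 → ℕ) (he : W4c1limliniiii.Admissible p d e) :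
    ∃ L : Submodule k (k[X] × k[X]), L ≠ ⊥ ∧
      (∀ v ∈ L, v ≠ 0 →
        Submodule.span k {v.1, v.2} ≤ Polynomial.degreeLE k d ∧
          Module.finrank k (Submodule.span k {v.1, v.2}) = 2 ∧
          ∀ i, ∃ s ∈ Submodule.span k {v.1, v.2}, s ≠ 0 ∧
            e i ≤ Polynomial.rootMultiplicity (P i) s) ∧
      (∀ V : Submodule k k[X], V ≤ Polynomial.degreeLE k d → Module.finrank k V = 2 →
        (∀ i, ∃ s ∈ V, s ≠ 0 ∧ e i ≤ Polynomial.rootMultiplicity (P i) s) →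
          ∃ v ∈ L, v ≠ 0 ∧ Submodule.span k {v.1, v.2} = V) ∧
      (∀ v ∈ L, ∀ w ∈ L, v ≠ 0 → w ≠ 0 →
        Submodule.span k {v.1, v.2} = Submodule.span k {w.1, w.2} → ∃ c : k, w = c • v) := by
  have h01 : P 0 ≠ P 1 := hP.ne (by decide)
  have h02 : P 0 ≠ P 2 := hP.ne (by decide)
  have h12 : P 1 ≠ P 2 := hP.ne (by decide)
  have hm₀ := (he.1 0).2.1
  have hm₁ := (he.1 1).2.1
  have hm₂ := (he.1 2).2.1
  have hsum : e 0 + e 1 + e 2 = 2 * d + 1 := by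
    have := he.2
    rw [Fin.sum_univ_three] at this
    omega
  refine ⟨LL d (P 0) (P 1) (P 2) (e 0) (e 1) (e 2),
    part1 d _ _ _ _ _ _ h01 h02 h12 hm₀ hm₁ hm₂ hsum, ?_, ?_, ?_⟩
  · intro v hv hv0
    obtain ⟨h1, h2, h3, h4, h5⟩ := part2 d _ _ _ _ _ _ h01 h02 h12 hm₀ hm₁ hm₂ hsum v hv hv0
    exact ⟨h1, h2, fin3_forall.2 ⟨h3, h4, h5⟩⟩
  · intro V hV hfin hall
    obtain ⟨⟨s₀, hs₀, h0, hr₀⟩, ⟨s₁, hs₁, h1, hr₁⟩, ⟨s₂, hs₂, h2, hr₂⟩⟩ := fin3_forall.1 hall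
    exact part3 d _ _ _ _ _ _ h01 h02 h12 hm₀ hm₁ hm₂ hsum V hV hfin s₀ s₁ s₂ hs₀ hs₁ hs₂ h0 h1 h2
      hr₀ hr₁ hr₂
  · intro v hv w hw hv0 hw0 h
    exact part4 d _ _ _ _ _ _ h01 h02 h12 hm₀ hm₁ hm₂ hsum v w hv hw hv0 hw0 h

end H13937

open Polynomial in
/-- Over an algebraically closed field of characteristic p (zero allowed), fix three distinct points
P_1, P_2, P_3 of the affine line and admissible indices (2 ≤ e_i ≤ d, e_i prime to p, ∑ (e_i − 1) =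
2d − 2). The two-dimensional spaces V of polynomials of degree at most d that contain, for each i, a
non-zero member vanishing to order at least e_i at P_i (the intersection of the three Schubert
cycles in the Grassmannian of pencils) form a projective space of some dimension m ≥ 0: there is a
non-zero linear space L of pairs of polynomials such that sending a non-zero pair (F, G) ∈ L to the
span of F and G is a surjection onto that set of spaces under which two non-zero pairs have the same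
image exactly when they are proportional. -/
theorem result (k : Type u) [Field k]
    [IsAlgClosed k] (p : ℕ) [CharP k p] (d : ℕ) (P : Fin 3 → k) (hP : Function.Injective P)
    (e : Fin 3 → ℕ) (he : W4c1limliniiii.Admissible p d e) :
    ∃ L : Submodule k (k[X] × k[X]), L ≠ ⊥ ∧
      (∀ v ∈ L, v ≠ 0 →
        Submodule.span k {v.1, v.2} ≤ Polynomial.degreeLE k d ∧
          Module.finrank k (Submodule.span k {v.1, v.2}) = 2 ∧
          ∀ i, ∃ s ∈ Submodule.span k {v.1, v.2}, s ≠ 0 ∧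
            e i ≤ Polynomial.rootMultiplicity (P i) s) ∧
      (∀ V : Submodule k k[X], V ≤ Polynomial.degreeLE k d → Module.finrank k V = 2 →
        (∀ i, ∃ s ∈ V, s ≠ 0 ∧ e i ≤ Polynomial.rootMultiplicity (P i) s) →
          ∃ v ∈ L, v ≠ 0 ∧ Submodule.span k {v.1, v.2} = V) ∧
      (∀ v ∈ L, ∀ w ∈ L, v ≠ 0 → w ≠ 0 →
        Submodule.span k {v.1, v.2} = Submodule.span k {w.1, w.2} → ∃ c : k, w = c • v) := by
  exact H13937.final p d P hP e he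

end Groth.Agent.S13937
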