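import Groth.Statements.S1394
-- import your own Groth.Agent.* helpers here
import Groth.Agent.Lib.Helper7.QFCurve.QF

set_option autoImplicit false
universe u
open FlatMor

namespace Groth.Agent.S1394

/-- Let A → B be a local homomorphism of local rings with A Noetherian, B essentially of finite type
over A, and the residue field of B finite over that of A. Let V ⊆ Spec B be an open subset
containing some prime that does not lie over the maximal ideal of A. Then V contains a prime q, not
lying over the maximal ideal of A, such that B/q is quasi-finite over A in the sense that every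
fibre ring of A → B/q is finite over the corresponding residue field of A. (The published statement
is stronger: there B/q is moreover a localization of a quasi-finite A-algebra of finite type, which
implies this.) -/
theorem result {A B : Type u} [CommRing A] [CommRing B] [IsLocalRing A] [IsLocalRing B] [IsNoetherianRing A]
    [Algebra A B] [IsLocalHom (algebraMap A B)] [Algebra.EssFiniteType A B]
    [Module.Finite (IsLocalRing.ResidueField A) (IsLocalRing.ResidueField B)]
    (V : Set (PrimeSpectrum B)) (hV : IsOpen V) (hne : ∃ q ∈ V, q.asIdeal.comap (algebraMap A B) ≠ IsLocalRing.maximalIdeal A) :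
    ∃ q ∈ V, q.asIdeal.comap (algebraMap A B) ≠ IsLocalRing.maximalIdeal A ∧ Algebra.QuasiFinite A (B ⧸ q.asIdeal) := by
  classical
  haveI : IsNoetherianRing B := Algebra.EssFiniteType.isNoetherianRing A B
  set J : Ideal B := (IsLocalRing.maximalIdeal A).map (algebraMap A B) with hJ
  have hJiff : ∀ q : PrimeSpectrum B, J ≤ q.asIdeal ↔
      q.asIdeal.comap (algebraMap A B) = IsLocalRing.maximalIdeal A := by
    intro q
    rw [hJ, Ideal.map_le_iff_le_comap]
    constructor
    · intro h
      exact ((IsLocalRing.maximalIdeal.isMaximal A).eq_of_le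
        (Ideal.comap_ne_top _ q.2.ne_top) h).symm
    · intro h
      rw [h]
  let T : Set (PrimeSpectrum B) := V ∩ (PrimeSpectrum.zeroLocus (J : Set B))ᶜ
  have hT : IsOpen T := hV.inter (PrimeSpectrum.isClosed_zeroLocus _).isOpen_compl
  have hTne : T.Nonempty := by
    obtain ⟨q, hqV, hq⟩ := hne
    refine ⟨q, hqV, ?_⟩
    intro h
    exact hq ((hJiff q).mp ((PrimeSpectrum.mem_zeroLocus _ _).mp h))
  have hTm : IsLocalRing.closedPoint B ∉ T := by
    rintro ⟨-, h⟩
    apply h
    rw [PrimeSpectrum.mem_zeroLocus]
    change (J : Set B) ⊆ IsLocalRing.maximalIdeal B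
    rw [SetLike.coe_subset_coe, hJ, Ideal.map_le_iff_le_comap,
      Groth.Agent.Helper7.QFCurve.comap_maximalIdeal_eq]
  obtain ⟨q, ⟨hqV, hqJ⟩, hq⟩ :=
    Groth.Agent.Helper7.QFCurve.exists_mem_forall_lt_eq_closedPoint T hT hTne hTm
  have hqJ' : ¬ J ≤ q.asIdeal := fun h => hqJ ((PrimeSpectrum.mem_zeroLocus _ _).mpr h)
  refine ⟨q, hqV, fun h => hqJ' ((hJiff q).mpr h), ?_⟩
  haveI : q.asIdeal.IsPrime := q.2
  haveI : Nontrivial (B ⧸ q.asIdeal) := Ideal.Quotient.nontrivial_iff.mpr q.2.ne_top
  haveI : IsLocalRing (B ⧸ q.asIdeal) :=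
    IsLocalRing.of_surjective' (Ideal.Quotient.mk q.asIdeal) Ideal.Quotient.mk_surjective
  haveI hloc : IsLocalHom (Ideal.Quotient.mk q.asIdeal) :=
    IsLocalHom.of_surjective _ Ideal.Quotient.mk_surjective
  haveI : IsLocalHom (algebraMap A (B ⧸ q.asIdeal)) := by
    have : algebraMap A (B ⧸ q.asIdeal) = (Ideal.Quotient.mk q.asIdeal).comp (algebraMap A B) :=
      rfl
    rw [this]
    exact RingHom.isLocalHom_comp _ _
  haveI : Module.Finite (IsLocalRing.ResidueField A) (IsLocalRing.ResidueField (B ⧸ q.asIdeal)) := by
    let φ : IsLocalRing.ResidueField B →ₐ[IsLocalRing.ResidueField A]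
        IsLocalRing.ResidueField (B ⧸ q.asIdeal) :=
      { toRingHom := IsLocalRing.ResidueField.map (Ideal.Quotient.mk q.asIdeal)
        commutes' := by
          intro r
          obtain ⟨a, rfl⟩ := IsLocalRing.residue_surjective r
          rfl }
    have hφ : Function.Surjective φ := by
      intro y
      obtain ⟨c, rfl⟩ := IsLocalRing.residue_surjective y
      obtain ⟨b, rfl⟩ := Ideal.Quotient.mk_surjective c
      exact ⟨IsLocalRing.residue B b, rfl⟩
    exact Module.Finite.of_surjective φ.toLinearMap hφ
  apply Groth.Agent.Helper7.QFCurve.quasiFinite_of_two_primes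
  · intro p hp
    haveI := hp
    haveI : (p.comap (Ideal.Quotient.mk q.asIdeal)).IsPrime := Ideal.comap_isPrime _ _
    have hle : q.asIdeal ≤ p.comap (Ideal.Quotient.mk q.asIdeal) := by
      intro a ha
      rw [Ideal.mem_comap, Ideal.Quotient.eq_zero_iff_mem.mpr ha]
      exact Ideal.zero_mem _
    rcases eq_or_lt_of_le hle with h | h
    · left
      rw [← Ideal.map_comap_of_surjective _ Ideal.Quotient.mk_surjective p, ← h,
        Ideal.map_quotient_self]
    · right
      have h1 := hq ⟨p.comap (Ideal.Quotient.mk q.asIdeal), inferInstance⟩ h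
      have h2 : p.comap (Ideal.Quotient.mk q.asIdeal) = IsLocalRing.maximalIdeal B :=
        congrArg PrimeSpectrum.asIdeal h1
      apply le_antisymm (IsLocalRing.le_maximalIdeal hp.ne_top)
      intro x hx
      obtain ⟨b, rfl⟩ := Ideal.Quotient.mk_surjective x
      have hb : b ∈ IsLocalRing.maximalIdeal B := by
        rw [IsLocalRing.mem_maximalIdeal, mem_nonunits_iff]
        intro hu
        exact hx (hu.map _)
      rw [← h2] at hb
      exact hb
  · have : (IsLocalRing.maximalIdeal A).map (algebraMap A (B ⧸ q.asIdeal)) =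
        J.map (Ideal.Quotient.mk q.asIdeal) := by
      rw [hJ, Ideal.map_map]
      rfl
    rw [this, Ne, Ideal.map_eq_bot_iff_le_ker, Ideal.mk_ker]
    exact hqJ'

end Groth.Agent.S1394
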