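import Groth.Statements.S13951
import Mathlib
import Groth.Statements.S13951
import Groth.Agent.Lib.Helper9.FE.ConnFinGrp
-- import your own Groth.Agent.* helpers here

set_option autoImplicit false
universe u
open TateLoc

namespace Groth.Agent.S13951

open TateLoc
open CategoryTheory AlgebraicGeometry CategoryTheory.Limits
namespace Aux
set_option backward.isDefEq.respectTransparency false
set_option linter.style.haveILetI false
open MonObj

theorem main (S : Scheme.{u}) [IsReduced S]
    (I : Over S) [GrpObj I] [IsCommMonObj I] [IsFinite I.hom] [Flat I.hom] [LocallyOfFinitePresentation I.hom]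
    (hconn : ∀ s : S, ConnectedSpace ↥(I.hom.fiber s)) :
    IsZero ((BigSite.resEt Scheme.fppfPrecoverage S).obj (CGrpSh.pts Scheme.fppfPrecoverage I)) := by
  apply H9FE.PCRpush.isZero_of_sections
  intro V s
  have he : (η[I]).left ≫ I.hom = 𝟙 S := Over.w η[I]
  let f : V.left ⟶ S := V.hom
  haveI : Etale f := V.prop
  haveI hred : IsReduced ((EtFppf.a S).obj V).left :=
    Helper5.WEt.isReduced_of_weaklyEtale_scheme f
  haveI := @H9FE.ConnFinGrp.subsingleton_hom S I _ hconn (η[I]).left he ((EtFppf.a S).obj V) hred
  have hsub : Subsingleton (ULift.{u+1} (Additive ((EtFppf.a S).obj V ⟶ I))) := by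
    refine ⟨fun a b => ?_⟩
    apply ULift.ext
    exact Subsingleton.elim (α := ((EtFppf.a S).obj V ⟶ I)) a.down b.down
  exact @Subsingleton.elim _ hsub s 0
end Aux

open CategoryTheory AlgebraicGeometry CategoryTheory.Limits in
/-- Let S be a reduced scheme and I a finite locally free commutative S-group scheme (finite, flat, of
finite presentation) whose fibres over all points of S are connected. Then the restriction of the
sheaf of points of I from the big fppf site of S to the small etale site of S is the zero sheaf. -/
theorem result (S : Scheme.{u}) [IsReduced S]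
    (I : Over S) [GrpObj I] [IsCommMonObj I] [IsFinite I.hom] [Flat I.hom] [LocallyOfFinitePresentation I.hom]
    (hconn : ∀ s : S, ConnectedSpace ↥(I.hom.fiber s)) :
    IsZero ((BigSite.resEt Scheme.fppfPrecoverage S).obj (CGrpSh.pts Scheme.fppfPrecoverage I)) := by
  exact Aux.main S I hconn

end Groth.Agent.S13951
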