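import Groth.Statements.S13953
import Mathlib

set_option autoImplicit false
universe u
open TateLoc

namespace Groth.Agent.S13953

/-- Let (R_i) be a family of local commutative rings and R = ∏ R_i. Any open cover of Spec R can be
refined by one coming from a finite partition of the index set: there is a map c from the index set
to a finite set such that, for each value m, the basic open subset of Spec R defined by the
idempotent which is 1 at the indices with c i = m and 0 elsewhere (this open is the spectrum of the
product of the R_i over that class) is contained in some member of the cover. -/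
theorem result {ι : Type u} (R : ι → Type u)
    [∀ i, CommRing (R i)] [∀ i, IsLocalRing (R i)] {J : Type u}
    (U : J → TopologicalSpace.Opens (PrimeSpectrum (∀ i, R i))) (hU : ⨆ j, U j = ⊤) :
    ∃ (n : ℕ) (c : ι → Fin n), ∀ m : Fin n, ∃ j : J,
      PrimeSpectrum.basicOpen (fun i => if c i = m then (1 : R i) else 0) ≤ U j := by
  classical
  set S : Set (∀ i, R i) := {f | ∃ j, PrimeSpectrum.basicOpen f ≤ U j} with hS
  have hspan : Ideal.span S = ⊤ := by
    rw [← PrimeSpectrum.zeroLocus_empty_iff_eq_top, PrimeSpectrum.zeroLocus_span]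
    rw [Set.eq_empty_iff_forall_notMem]
    intro x hx
    have hxU : x ∈ (⨆ j, U j : TopologicalSpace.Opens _) := by rw [hU]; trivial
    rw [TopologicalSpace.Opens.mem_iSup] at hxU
    obtain ⟨j, hxj⟩ := hxU
    obtain ⟨v, ⟨f, rfl⟩, hxf, hfU⟩ :=
      PrimeSpectrum.isTopologicalBasis_basic_opens.exists_subset_of_mem_open hxj (U j).isOpen
    have hfS : f ∈ S := ⟨j, hfU⟩
    have := hx hfS
    exact hxf this
  rw [Ideal.span_eq_top_iff_finite] at hspan
  obtain ⟨t, htS, htspan⟩ := hspan
  have h1 : (1 : ∀ i, R i) ∈ Ideal.span (t : Set (∀ i, R i)) := by rw [htspan]; trivial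
  rw [Ideal.span, Submodule.mem_span_finset] at h1
  obtain ⟨g, -, hg⟩ := h1
  have hunit : ∀ i, ∃ f : t, IsUnit ((f : ∀ i, R i) i) := by
    intro i
    by_contra hcon
    push Not at hcon
    have hsum : (∑ a ∈ t, g a • a) i ∈ IsLocalRing.maximalIdeal (R i) := by
      rw [Finset.sum_apply]
      apply Ideal.sum_mem
      intro a ha
      simp only [Pi.smul_apply, smul_eq_mul]
      exact Ideal.mul_mem_left _ _ (hcon ⟨a, ha⟩)
    rw [hg] at hsum
    exact (IsLocalRing.maximalIdeal.isMaximal (R i)).ne_top
      ((Ideal.eq_top_iff_one _).mpr (by simpa using hsum))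
  choose c' hc' using hunit
  refine ⟨t.card, fun i => t.equivFin (c' i), ?_⟩
  intro m
  set f : t := t.equivFin.symm m with hf
  obtain ⟨j, hj⟩ := htS f.2
  refine ⟨j, le_trans ?_ hj⟩
  have hcm : ∀ i, t.equivFin (c' i) = m ↔ c' i = f := by
    intro i
    rw [hf, Equiv.eq_symm_apply]
  let h : ∀ i, R i := fun i => if hi : c' i = f then ((hc' i).unit⁻¹ : (R i)ˣ) else 0
  have heq : (fun i => if t.equivFin (c' i) = m then (1 : R i) else 0) = (f : ∀ i, R i) * h := by
    ext i
    simp only [Pi.mul_apply, h]
    by_cases hi : c' i = f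
    · rw [if_pos ((hcm i).mpr hi), dif_pos hi]
      have : ((f : ∀ i, R i) i) = ((hc' i).unit : R i) := by rw [← hi]; rfl
      rw [this, Units.mul_inv]
    · rw [if_neg (fun hh => hi ((hcm i).mp hh)), dif_neg hi, mul_zero]
  rw [heq]
  exact PrimeSpectrum.basicOpen_mul_le_left _ _

end Groth.Agent.S13953
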