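import Groth.Statements.S3240
import Mathlib
import Groth.Prelude.Def_Dix
import Groth.Prelude.Def_EtBase
import Groth.Agent.Lib.Helper9.FE.TorsA
import Groth.Agent.Lib.Helper9.FE.TorsB
import Groth.Agent.Lib.Helper9.FE.TorsC
import Groth.Agent.Lib.Helper9.FE.TorsE
import Groth.Agent.Lib.Helper9.FE.EtTorsRpush
-- import your own Groth.Agent.* helpers here

set_option autoImplicit false
universe u
open CategoryTheory AlgebraicGeometry
open Dix

namespace Groth.Agent.S3240

open CategoryTheory CategoryTheory.Limits AlgebraicGeometry Opposite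
namespace Aux
set_option backward.isDefEq.respectTransparency false
set_option linter.style.haveILetI false
set_option linter.unusedSectionVars false

open H9FE.EtQcClass H9FE.EtTorsH H9FE.EtTorsRpush H9FE.SiteTorsColim H9FE.SiteHUColim

variable (X : Scheme.{u}) [CompactSpace X] [QuasiSeparatedSpace X] (x : X)

instance qs_ix : QuasiSeparated (X.fromSpecResidueField x) := inferInstance

instance qc_ix : QuasiCompact (X.fromSpecResidueField x) := inferInstance

theorem locKilled_Rpush_point (F : EtCoh.Ab (Spec (X.residueField x))) (p : ℕ) :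
    LocKilled posM ((EtCoh.Rpush (X.fromSpecResidueField x) (p + 1)).obj F) :=
  H9FE.TorsC.locKilled_rightDerived_of_ext.{u + 1} posM (fun U => H9FE.TorsB.ZS U)
    (fun U => H9FE.TorsB.reprZS U) (EtCoh.bc (X.fromSpecResidueField x))
    (hΦ (X.fromSpecResidueField x)) F p (by
      intro W' hW' e
      obtain ⟨h1, h2⟩ := hW'
      haveI := h1
      haveI := h2
      obtain ⟨m, hm, hme⟩ := H9FE.TorsB.ext_torsion (X.residueField x)
        ((EtCoh.bc (X.fromSpecResidueField x)).obj W') F (p + 1) (Nat.succ_pos p) e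
      exact ⟨m, hm, hme⟩)

theorem isTorsion_Rpush_point (F : EtCoh.Ab (Spec (X.residueField x))) (q : ℕ) (hq : 1 ≤ q) :
    EtCoh.IsTorsion ((EtCoh.Rpush (X.fromSpecResidueField x) q).obj F) := by
  obtain ⟨p, rfl⟩ : ∃ p, q = p + 1 := ⟨q - 1, by omega⟩
  intro V s y
  obtain ⟨W, g, m, hv, hm, hms⟩ := pointwise_of_locKilled posM _
    (locKilled_Rpush_point X x F p) V s y
  exact ⟨W, g, hv, isOfFinAddOrder_iff_nsmul_eq_zero.2 ⟨m, hm, hms⟩⟩

theorem isAddTorsion_H_push_point (F : EtCoh.Ab (Spec (X.residueField x))) (q : ℕ) (hq : 1 ≤ q) :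
    IsAddTorsion (EtCoh.H X ((EtCoh.push (X.fromSpecResidueField x)).obj F) q) := by
  obtain ⟨p, rfl⟩ : ∃ p, q = p + 1 := ⟨q - 1, by omega⟩
  intro ξ
  obtain ⟨m, hm, h⟩ := H9FE.TorsE.torsion_H_push (X.fromSpecResidueField x)
    (fun G => isTorsion_Rpush_point X x G 1 le_rfl)
    (fun G α => H9FE.TorsA.exists_pos_nsmul_eq_zero (X.residueField x)
      (𝟙 (Spec (CommRingCat.of (X.residueField x)))) G 1 le_rfl α) p F ξ
  exact isOfFinAddOrder_iff_nsmul_eq_zero.2 ⟨m, hm, h⟩

theorem main (F : EtCoh.Ab (Spec (X.residueField x))) (q : ℕ) (hq : 1 ≤ q) :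
    EtCoh.IsTorsion ((EtCoh.Rpush (X.fromSpecResidueField x) q).obj F) ∧
      IsAddTorsion (EtCoh.H X ((Dix.skyPush X x).obj F) q) :=
  ⟨isTorsion_Rpush_point X x F q hq, isAddTorsion_H_push_point X x F q hq⟩

end Aux

/-- Let X be quasi-compact and quasi-separated, x a point of X with i_x : Spec κ(x) → X, and F an
abelian étale sheaf on Spec κ(x). Then for every q ≥ 1 the sheaf R^q i_{x*} F is a torsion sheaf on
X_ét and the group H^q(X_ét, i_{x*} F) is a torsion group. -/
theorem result (X : Scheme.{u}) [CompactSpace X] [QuasiSeparatedSpace X] (x : X) (F : EtCoh.Ab (Spec (X.residueField x))) (q : ℕ) (hq : 1 ≤ q) : EtCoh.IsTorsion ((EtCoh.Rpush (X.fromSpecResidueField x) q).obj F) ∧ IsAddTorsion (EtCoh.H X ((Dix.skyPush X x).obj F) q) := by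
  exact Aux.main X x F q hq

end Groth.Agent.S3240
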