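import Groth.Statements.S13956
import Mathlib
import Groth.Prelude.Def_EtBase
import Groth.Prelude.Def_EtCore
import Groth.Agent.S0626
import Groth.Agent.S3240
import Groth.Agent.S0623
import Groth.Agent.Lib.Helper3.EtMV4
import Groth.Agent.Lib.Helper4.IrrCompDomain1
import Groth.Agent.Lib.Helper9.FE.TorsE
import Groth.Agent.Lib.Helper9.FE.TorsF
import Groth.Agent.Lib.Helper9.FE.ConstUnit
import Groth.Agent.Lib.Helper9.FE.GabB
-- import your own Groth.Agent.* helpers here

set_option autoImplicit false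
universe u
open TateLoc

namespace Groth.Agent.S13956

open CategoryTheory AlgebraicGeometry
open CategoryTheory CategoryTheory.Limits AlgebraicGeometry Opposite Abelian
namespace Aux
set_option backward.isDefEq.respectTransparency false
set_option linter.style.haveILetI false
set_option linter.unusedSectionVars false

open Groth.Agent.Helper3.EtMV1 Groth.Agent.Helper3.EtMV2 Groth.Agent.Helper3.EtMV3

section ExtGen
universe w v₁ u₁
variable {C : Type u₁} [Category.{v₁} C] [Abelian C] [HasExt.{w} C]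

lemma mk₀_nsmul {X Y : C} (m : ℕ) (f : X ⟶ Y) : Ext.mk₀ (m • f) = m • Ext.mk₀ f :=
  map_nsmul (Ext.addEquiv₀ (X := X) (Y := Y)).symm m f

lemma subsingleton_of_isZero {X Y : C} (hY : IsZero Y) (n : ℕ) : Subsingleton (Ext X Y n) := by
  refine ⟨fun a b => ?_⟩
  have h : ∀ x : Ext X Y n, x = 0 := by
    intro x
    rw [← Ext.comp_mk₀_id x, hY.eq_of_tgt (𝟙 Y) 0, Ext.mk₀_zero, Ext.comp_zero]
  rw [h a, h b]

lemma subsingleton_of_iso {X Y Y' : C} (φ : Y ≅ Y') (n : ℕ) (h : Subsingleton (Ext X Y' n)) :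
    Subsingleton (Ext X Y n) := by
  refine ⟨fun a b => ?_⟩
  have h0 : ∀ x : Ext X Y n, x = 0 := by
    intro x
    have h1 := comp_iso_hom_inv φ n x
    rw [Subsingleton.elim (x.comp (Ext.mk₀ φ.hom) (add_zero n)) 0, Ext.zero_comp] at h1
    exact h1.symm
  rw [h0 a, h0 b]

end ExtGen

/-- multiplication by `1/m` on `ULift ℚ` -/
noncomputable def invMul (m : ℕ) :
    AddCommGrpCat.of (ULift.{u + 1} ℚ) ⟶ AddCommGrpCat.of (ULift.{u + 1} ℚ) :=
  AddCommGrpCat.ofHom (AddMonoidHom.mk' (fun x => ULift.up ((m : ℚ)⁻¹ * x.down)) (by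
    intro x y
    apply ULift.ext
    change (m : ℚ)⁻¹ * (x.down + y.down) = (m : ℚ)⁻¹ * x.down + (m : ℚ)⁻¹ * y.down
    exact mul_add _ _ _))

lemma nsmul_invMul (m : ℕ) (hm : 0 < m) : m • invMul.{u} m = 𝟙 _ := by
  apply AddCommGrpCat.hom_ext
  apply AddMonoidHom.ext
  intro x
  apply ULift.ext
  change (m • (ULift.up ((m : ℚ)⁻¹ * x.down) : ULift.{u + 1} ℚ)).down = x.down
  rw [ULift.smul_down, nsmul_eq_mul]
  have : (m : ℚ) ≠ 0 := Nat.cast_ne_zero.2 hm.ne'
  exact mul_inv_cancel_left₀ this _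

/-- `Ext(A, ℚ)` has no torsion -/
theorem eq_zero_of_nsmul_eq_zero {Y : Scheme.{u}} {A : EtCoh.Ab Y} (n : ℕ)
    (ξ : Ext A (EtCoh.const Y ℚ) n) (m : ℕ) (hm : 0 < m) (h : m • ξ = 0) : ξ = 0 := by
  haveI := H9FE.TorsF.additive_const Y
  let φ : EtCoh.const Y ℚ ⟶ EtCoh.const Y ℚ :=
    (constantSheaf Y.smallEtaleTopology AddCommGrpCat.{u + 1}).map (invMul.{u} m)
  have hφ : m • φ = 𝟙 _ := by
    change m • (constantSheaf Y.smallEtaleTopology AddCommGrpCat.{u + 1}).map (invMul.{u} m) = _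
    rw [← Functor.map_nsmul, nsmul_invMul m hm, CategoryTheory.Functor.map_id]
  rw [← Ext.comp_mk₀_id ξ, ← hφ, mk₀_nsmul, H9FE.TorsE.comp_nsmul, ← H9FE.TorsE.nsmul_comp, h,
    Ext.zero_comp]

/-- the residue map at the generic point of an integral scheme is an isomorphism -/
lemma isIso_residue_generic (Y : Scheme.{u}) [IsIntegral Y] :
    IsIso (Y.residue (genericPoint Y)) := by
  rw [ConcreteCategory.isIso_iff_bijective]
  constructor
  · exact RingHom.injective (IsLocalRing.residue (Y.functionField))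
  · exact IsLocalRing.residue_surjective

theorem integral_case (Y : Scheme.{u}) [IsIntegral Y] [CompactSpace Y] [QuasiSeparatedSpace Y]
    (hN : ∀ y : Y, IsIntegrallyClosed (Y.presheaf.stalk y)) (q : ℕ) (hq : 1 ≤ q) :
    Subsingleton (Ext (EtCoh.const Y ℤ) (EtCoh.const Y ℚ) q) := by
  let η := genericPoint Y
  let g : Spec (Y.presheaf.stalk η) ⟶ Y := Y.fromSpecStalk η
  haveI : IsIso (Y.residue η) := isIso_residue_generic Y
  let e : Spec (Y.residueField η) ⟶ Spec (Y.presheaf.stalk η) := Spec.map (Y.residue η)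
  haveI : IsIso e := inferInstanceAs (IsIso (Spec.map (Y.residue η)))
  let g' : Spec (Y.residueField η) ⟶ Y := Y.fromSpecResidueField η
  have hg' : inv e ≫ g' = g := by
    change inv e ≫ (e ≫ g) = g
    rw [IsIso.inv_hom_id_assoc]
  haveI : IsIso ((EtCoh.pullPushAdj g).unit.app (EtCoh.const Y ℚ)) :=
    Groth.Agent.S0626.result Y hN ℚ
  let G₀ : EtCoh.Ab (Spec (Y.presheaf.stalk η)) := (EtCoh.pull g).obj (EtCoh.const Y ℚ)
  let G₁ : EtCoh.Ab (Spec (Y.residueField η)) := (EtCoh.push (inv e)).obj G₀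
  let φ₁ : EtCoh.const Y ℚ ≅ (EtCoh.push g).obj G₀ :=
    asIso ((EtCoh.pullPushAdj g).unit.app (EtCoh.const Y ℚ))
  let φ₂ : (EtCoh.push g).obj G₀ ≅ (EtCoh.push (inv e ≫ g')).obj G₀ :=
    (EtCoh.pushCongr hg').symm.app G₀
  let φ₃ : (EtCoh.push (inv e ≫ g')).obj G₀ ≅ (EtCoh.push g').obj G₁ :=
    (EtCoh.pushComp g' (inv e)).symm.app G₀
  let φ : EtCoh.const Y ℚ ≅ (EtCoh.push g').obj G₁ := φ₁ ≪≫ φ₂ ≪≫ φ₃
  have key : ∀ ξ : Ext (EtCoh.const Y ℤ) (EtCoh.const Y ℚ) q, ξ = 0 := by
    intro ξ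
    have ht : IsOfFinAddOrder (ξ.comp (Ext.mk₀ φ.hom) (add_zero q)) :=
      Groth.Agent.S3240.Aux.isAddTorsion_H_push_point Y η G₁ q hq
        (ξ.comp (Ext.mk₀ φ.hom) (add_zero q))
    obtain ⟨m, hm, h⟩ := isOfFinAddOrder_iff_nsmul_eq_zero.1 ht
    apply eq_zero_of_nsmul_eq_zero q ξ m hm
    rw [← comp_iso_hom_inv φ q ξ, ← H9FE.TorsE.nsmul_comp, h, Ext.zero_comp]
  exact ⟨fun a b => by rw [key a, key b]⟩

lemma hN_opens (X : Scheme.{u})
    (hN : ∀ x : X, IsDomain (X.presheaf.stalk x) ∧ IsIntegrallyClosed (X.presheaf.stalk x))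
    (W : X.Opens) (y : (W : Scheme.{u})) :
    IsDomain ((W : Scheme.{u}).presheaf.stalk y) ∧
      IsIntegrallyClosed ((W : Scheme.{u}).presheaf.stalk y) := by
  let eqv : X.presheaf.stalk (W.ι y) ≃+* (W : Scheme.{u}).presheaf.stalk y :=
    (asIso (W.ι.stalkMap y)).commRingCatIsoToRingEquiv
  obtain ⟨h1, h2⟩ := hN (W.ι y)
  haveI := h1
  haveI := h2
  exact ⟨MulEquiv.isDomain (X.presheaf.stalk (W.ι y)) eqv.symm.toMulEquiv,
    IsIntegrallyClosed.of_equiv eqv⟩

theorem claim (n : ℕ) : ∀ (X : Scheme.{u}) [IsLocallyNoetherian X] [CompactSpace X]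
    (hN : ∀ x : X, IsDomain (X.presheaf.stalk x) ∧ IsIntegrallyClosed (X.presheaf.stalk x))
    (S : Finset (Set X)) (hcard : S.card ≤ n) (hirr : ∀ T ∈ S, IsPreirreducible T)
    (hcov : ∀ x : X, ∃ T ∈ S, x ∈ T) (i : ℕ),
    Subsingleton (Ext (EtCoh.const X ℤ) (EtCoh.const X ℚ) (i + 1)) := by
  induction n with
  | zero =>
    intro X _ _ hN S hcard hirr hcov i
    haveI : IsEmpty X := ⟨fun x => by
      obtain ⟨T, hT, -⟩ := hcov x
      rw [Finset.card_eq_zero.1 (Nat.le_zero.1 hcard)] at hT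
      exact absurd hT (Finset.notMem_empty T)⟩
    exact H9FE.GabB.subsingleton_H_of_isEmpty X _ _
  | succ n ih =>
    intro X _ _ hN S hcard hirr hcov i
    classical
    by_cases hX : IsEmpty X
    · haveI := hX
      exact H9FE.GabB.subsingleton_H_of_isEmpty X _ _
    rw [not_isEmpty_iff] at hX
    obtain ⟨x₀⟩ := hX
    obtain ⟨T₀, hT₀, hx₀⟩ := hcov x₀
    haveI : AlgebraicGeometry.IsNoetherian X := {}
    have hmain := (Groth.Agent.Lib.Helper4.IrrCompDomain1.main X (fun x => (hN x).1)).1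
    let Z : Set X := irreducibleComponent x₀
    have hZo : IsOpen Z := hmain Z (irreducibleComponent_mem_irreducibleComponents x₀)
    have hZc : IsClosed Z := isClosed_irreducibleComponent
    have hZi : IsIrreducible Z := isIrreducible_irreducibleComponent
    have hx₀Z : x₀ ∈ Z := mem_irreducibleComponent
    let U : X.Opens := ⟨Z, hZo⟩
    let V : X.Opens := ⟨Zᶜ, hZc.isOpen_compl⟩
    have hUV : U ⊔ V = ⊤ := by
      apply TopologicalSpace.Opens.ext
      change Z ∪ Zᶜ = Set.univ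
      exact Set.union_compl_self Z
    have hUV' : ((U ⊓ V : X.Opens) : Set X) = ∅ := by
      change Z ∩ Zᶜ = ∅
      exact Set.inter_compl_self Z
    -- the open subscheme `U` is integral and normal
    haveI : IsReduced X := by
      haveI : ∀ x : X, _root_.IsReduced (X.presheaf.stalk x) := fun x => by
        haveI := (hN x).1
        infer_instance
      exact isReduced_of_isReduced_stalk X
    haveI : IrreducibleSpace (U : Scheme.{u}) := Subtype.irreducibleSpace hZi
    haveI : IsIntegral (U : Scheme.{u}) := isIntegral_of_irreducibleSpace_of_isReduced _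
    haveI : CompactSpace (U : Scheme.{u}) := isCompact_iff_compactSpace.1 hZc.isCompact
    have hU0 : Subsingleton (Ext (EtCoh.const (U : Scheme.{u}) ℤ)
        ((EtCoh.pull U.ι).obj (EtCoh.const X ℚ)) (i + 1)) :=
      subsingleton_of_iso (EtCore.pullConst U.ι ℚ) (i + 1)
        (integral_case (U : Scheme.{u}) (fun y => (hN_opens X hN U y).2) (i + 1)
          (Nat.succ_le_succ (Nat.zero_le i)))
    -- the open subscheme `V` has a smaller cover
    haveI : CompactSpace (V : Scheme.{u}) :=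
      isCompact_iff_compactSpace.1 hZo.isClosed_compl.isCompact
    let p : Set X → Prop := fun T => T ⊆ Zᶜ
    let S' : Finset (Set (V : Scheme.{u})) :=
      (S.filter p).image (fun T => V.ι ⁻¹' T)
    have hcard' : S'.card ≤ n := by
      have h1 : (S.filter p).card < S.card := by
        apply Finset.card_lt_card
        rw [Finset.filter_ssubset]
        exact ⟨T₀, hT₀, fun h => h hx₀ hx₀Z⟩
      have h2 : S'.card ≤ (S.filter p).card := Finset.card_image_le
      omega
    have hirr' : ∀ T ∈ S', IsPreirreducible T := by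
      intro T hT
      obtain ⟨T₁, hT₁, rfl⟩ := Finset.mem_image.1 hT
      exact (hirr T₁ (Finset.mem_filter.1 hT₁).1).preimage V.ι.isOpenEmbedding
    have hcov' : ∀ y : (V : Scheme.{u}), ∃ T ∈ S', y ∈ T := by
      intro y
      obtain ⟨T, hT, hyT⟩ := hcov (V.ι y)
      have hyV : V.ι y ∈ Zᶜ := y.2
      have hTV : T ⊆ Zᶜ :=
        (hirr T hT).isPreconnected.subset_isClopen ⟨hZo.isClosed_compl, hZc.isOpen_compl⟩
          ⟨V.ι y, hyT, hyV⟩
      exact ⟨_, Finset.mem_image.2 ⟨T, Finset.mem_filter.2 ⟨hT, hTV⟩, rfl⟩, hyT⟩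
    have hV0 : Subsingleton (Ext (EtCoh.const (V : Scheme.{u}) ℤ)
        ((EtCoh.pull V.ι).obj (EtCoh.const X ℚ)) (i + 1)) :=
      subsingleton_of_iso (EtCore.pullConst V.ι ℚ) (i + 1)
        (ih (V : Scheme.{u}) (hN_opens X hN V) S' hcard' hirr' hcov' i)
    -- the intersection is empty
    haveI : IsEmpty ((U ⊓ V : X.Opens) : Scheme.{u}) := ⟨fun y => by
      have hy : (U ⊓ V).ι y ∈ ((U ⊓ V : X.Opens) : Set X) := y.2
      rw [hUV'] at hy
      exact hy⟩
    obtain ⟨δ, -, h1, -, -⟩ := mv_pure U V hUV (EtCoh.const X ℚ)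
    refine ⟨fun a b => ?_⟩
    have key : ∀ x : Ext (EtCoh.const X ℤ) (EtCoh.const X ℚ) (i + 1), x = 0 := by
      intro x
      obtain ⟨z, hz⟩ := (h1 i x).1 ⟨@Subsingleton.elim _ hU0 _ _, @Subsingleton.elim _ hV0 _ _⟩
      haveI := H9FE.GabB.subsingleton_H_of_isEmpty ((U ⊓ V : X.Opens) : Scheme.{u})
        ((EtCoh.pull (U ⊓ V).ι).obj (EtCoh.const X ℚ)) i
      rw [← hz, Subsingleton.elim z 0, map_zero]
    rw [key a, key b]

theorem main (X : Scheme.{u}) [IsLocallyNoetherian X] [CompactSpace X]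
    (hN : ∀ x : X, IsDomain (X.presheaf.stalk x) ∧ IsIntegrallyClosed (X.presheaf.stalk x))
    (i : ℕ) (hi : 0 < i) :
    Subsingleton (EtCoh.H X (EtCoh.const X ℚ) i) := by
  obtain ⟨j, rfl⟩ : ∃ j, i = j + 1 := ⟨i - 1, by omega⟩
  haveI : AlgebraicGeometry.IsNoetherian X := {}
  have hfin : (irreducibleComponents (X : Type u)).Finite :=
    TopologicalSpace.NoetherianSpace.finite_irreducibleComponents
  exact claim hfin.toFinset.card X hN hfin.toFinset le_rfl
    (fun T hT => ((Set.Finite.mem_toFinset hfin).1 hT).1.isPreirreducible)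
    (fun x => ⟨irreducibleComponent x,
      (Set.Finite.mem_toFinset hfin).2 (irreducibleComponent_mem_irreducibleComponents x),
      mem_irreducibleComponent⟩) j

end Aux

open CategoryTheory AlgebraicGeometry in
/-- For a Noetherian normal scheme X (quasi-compact, locally Noetherian, all local rings integrally
closed domains), the cohomology of the constant sheaf ℚ on the small etale site of X vanishes in
every positive degree. -/
theorem result (X : Scheme.{u}) [IsLocallyNoetherian X] [CompactSpace X]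
    (hN : ∀ x : X, IsDomain (X.presheaf.stalk x) ∧ IsIntegrallyClosed (X.presheaf.stalk x))
    (i : ℕ) (hi : 0 < i) :
    Subsingleton (EtCoh.H X (EtCoh.const X ℚ) i) := by
  exact Aux.main X hN i hi

end Groth.Agent.S13956
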