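import Groth.Statements.S13958
import Mathlib
-- import your own Groth.Agent.* helpers here

set_option autoImplicit false
universe u
open TateLoc

namespace Groth.Agent.S13958

open CategoryTheory
namespace Aux

/-- f.g. abelian groups are residually finite -/
theorem rf (Q : Type u) [CommGroup Q] [Group.FG Q] (q : Q) (hq : q ≠ 1) :
    ∃ H : Subgroup Q, H.FiniteIndex ∧ q ∉ H := by
  obtain ⟨ι, j, _, _, p, hp, e, ⟨E⟩⟩ := CommGroup.equiv_free_prod_prod_multiplicative_zmod Q
  have hne : ∀ i, NeZero (p i ^ e i) := fun i => ⟨pow_ne_zero _ (hp i).ne_zero⟩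
  by_cases h2 : (E q).2 = 1
  · have h1 : (E q).1 ≠ 1 := by
      intro h1
      apply hq
      apply E.injective
      rw [map_one]
      exact Prod.ext h1 h2
    obtain ⟨i, hi⟩ : ∃ i, (E q).1 i ≠ 1 := by
      by_contra hcon
      push Not at hcon
      exact h1 (funext hcon)
    set m : ℤ := ((E q).1 i).toAdd with hm
    have hm0 : m ≠ 0 := by
      intro h0
      apply hi
      exact Multiplicative.toAdd.injective h0
    let N : ℕ := m.natAbs + 1
    let f : Q →* Multiplicative (ZMod N) :=
      (AddMonoidHom.toMultiplicative (Int.castAddHom (ZMod N))).comp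
        ((Pi.evalMonoidHom _ i).comp ((MonoidHom.fst _ _).comp E.toMonoidHom))
    refine ⟨f.ker, Subgroup.finiteIndex_ker f, ?_⟩
    rw [MonoidHom.mem_ker]
    intro hf
    have h3 : ((m : ℤ) : ZMod N) = 0 := by
      have := congrArg Multiplicative.toAdd hf
      simpa [f, hm] using this
    rw [ZMod.intCast_zmod_eq_zero_iff_dvd] at h3
    apply hm0
    apply Int.eq_zero_of_abs_lt_dvd h3
    simp only [N]
    push_cast
    rw [Int.abs_eq_natAbs]
    omega
  · let f : Q →* ((i : ι) → Multiplicative (ZMod (p i ^ e i))) :=
      (MonoidHom.snd _ _).comp E.toMonoidHom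
    refine ⟨f.ker, Subgroup.finiteIndex_ker f, ?_⟩
    rw [MonoidHom.mem_ker]
    exact h2

open ProfiniteGrp ProfiniteGrp.ProfiniteCompletion in
theorem main (A' : Type u) [CommGroup A'] [Group.FG A']
    (A : Subgroup A') (x : A')
    (hx : ProfiniteGrp.ProfiniteCompletion.etaFn (GrpCat.of A') x ∈
      Set.range ⇑(ProfiniteGrp.profiniteCompletion.map (GrpCat.ofHom A.subtype)).hom) :
    x ∈ A := by
  by_contra hxA
  have hq : (QuotientGroup.mk x : A' ⧸ A) ≠ 1 := by
    rwa [Ne, QuotientGroup.eq_one_iff]
  obtain ⟨H₀, hfin, hqH₀⟩ := rf (A' ⧸ A) _ hq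
  let H : Subgroup A' := H₀.comap (QuotientGroup.mk' A)
  have hHfin : H.FiniteIndex :=
    ⟨by rw [Subgroup.index_comap_of_surjective _ (QuotientGroup.mk'_surjective A)]
        exact hfin.index_ne_zero⟩
  have hAH : A ≤ H := by
    intro a ha
    show (QuotientGroup.mk a : A' ⧸ A) ∈ H₀
    rw [(QuotientGroup.eq_one_iff a).mpr ha]
    exact H₀.one_mem
  have hxH : x ∉ H := hqH₀
  let Hn : FiniteIndexNormalSubgroup (GrpCat.of A') := FiniteIndexNormalSubgroup.ofSubgroup H
  obtain ⟨z, hz⟩ := hx
  set φ := (ProfiniteGrp.profiniteCompletion.map (GrpCat.ofHom A.subtype)).hom with hφ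
  have key : ∀ z : completion (GrpCat.of A), (φ z).1 Hn = 1 := by
    intro z
    refine (ProfiniteGrp.ProfiniteCompletion.denseRange (GrpCat.of A)).induction_on z ?_ ?_
    · have hc : Continuous fun z : completion (GrpCat.of A) => (φ z).1 Hn :=
        (continuous_apply Hn).comp (continuous_subtype_val.comp (map_continuous φ))
      exact isClosed_singleton.preimage hc
    · intro a
      have h1 := ConcreteCategory.congr_hom
        (lift_eta (GrpCat.ofHom A.subtype ≫ eta (GrpCat.of A'))) a
      have h2 : φ (etaFn (GrpCat.of A) a) = etaFn (GrpCat.of A') (a : A') := h1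
      rw [h2]
      exact (QuotientGroup.eq_one_iff (a : A')).mpr (hAH a.2)
  have := key z
  rw [hz] at this
  exact hxH ((QuotientGroup.eq_one_iff x).mp this)

end Aux

open CategoryTheory in
/-- Let A' be a finitely generated abelian group (written multiplicatively, discrete) and A a subgroup.
If the image of x ∈ A' in the profinite completion of A' lies in the image of the profinite
completion of A under the map induced by the inclusion, then x ∈ A. (The published statement says
that the square formed by the two completion maps and the two inclusions is Cartesian; given the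
injectivity of the induced map on completions, which holds here, that amounts to this membership
criterion.) -/
theorem result (A' : Type u) [CommGroup A'] [Group.FG A']
    (A : Subgroup A') (x : A')
    (hx : ProfiniteGrp.ProfiniteCompletion.etaFn (GrpCat.of A') x ∈
      Set.range ⇑(ProfiniteGrp.profiniteCompletion.map (GrpCat.ofHom A.subtype)).hom) :
    x ∈ A := by
  exact Aux.main A' A x hx

end Groth.Agent.S13958
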