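import Groth.Statements.S13963
import Mathlib

set_option autoImplicit false
universe u
open TateLoc

namespace Groth.Agent.S13963

/-- Let A' → A → A'' be continuous homomorphisms of locally compact, second-countable, Hausdorff abelian
topological groups which form a short exact sequence of abstract groups (the first injective, the
second surjective, image equal to kernel). If A' and A'' are compact, then A is compact. -/
theorem result (A' A A'' : Type u)
    [AddCommGroup A'] [TopologicalSpace A'] [IsTopologicalAddGroup A'] [SecondCountableTopology A'] [T2Space A']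
    [CompactSpace A']
    [AddCommGroup A] [TopologicalSpace A] [IsTopologicalAddGroup A] [LocallyCompactSpace A]
    [SecondCountableTopology A] [T2Space A]
    [AddCommGroup A''] [TopologicalSpace A''] [IsTopologicalAddGroup A''] [SecondCountableTopology A''] [T2Space A'']
    [CompactSpace A'']
    (f : A' →+ A) (g : A →+ A'') (hf : Continuous f) (hg : Continuous g)
    (hinj : Function.Injective f) (hsurj : Function.Surjective g) (hex : g.ker = f.range) :
    CompactSpace A := by
  classical
  have hopen : IsOpenMap g := AddMonoidHom.isOpenMap_of_sigmaCompact g hsurj hg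
  obtain ⟨K, hK, hK0⟩ := exists_compact_mem_nhds (0 : A)
  have h0int : (0 : A) ∈ interior K := mem_interior_iff_mem_nhds.mpr hK0
  let W : A → Set A'' := fun a => g '' ((fun x => a + x) '' interior K)
  have hWopen : ∀ a, IsOpen (W a) := fun a =>
    hopen _ ((isOpenMap_add_left a) _ isOpen_interior)
  have hcover : (Set.univ : Set A'') ⊆ ⋃ a, W a := by
    intro y _
    obtain ⟨a, rfl⟩ := hsurj y
    rw [Set.mem_iUnion]
    exact ⟨a, a + 0, ⟨0, h0int, rfl⟩, by simp⟩
  obtain ⟨t, ht⟩ := isCompact_univ.elim_finite_subcover W hWopen hcover
  set T : Set A := ⋃ a ∈ t, (fun x => a + x) '' K with hT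
  have hTc : IsCompact T :=
    t.isCompact_biUnion (fun a _ => hK.image (continuous_const.add continuous_id))
  have hFc : IsCompact (Set.range f) := isCompact_range hf
  have hsum : IsCompact ((fun p : A × A => p.1 + p.2) '' (T ×ˢ Set.range f)) :=
    (hTc.prod hFc).image continuous_add
  have huniv : (Set.univ : Set A) ⊆ (fun p : A × A => p.1 + p.2) '' (T ×ˢ Set.range f) := by
    intro x _
    have hx := ht (Set.mem_univ (g x))
    simp only [Set.mem_iUnion] at hx
    obtain ⟨a, hat, z, ⟨k, hk, rfl⟩, hz⟩ := hx
    have hker : x - (a + k) ∈ g.ker := by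
      rw [AddMonoidHom.mem_ker, map_sub, hz, sub_self]
    rw [hex] at hker
    obtain ⟨b, hb⟩ := hker
    refine ⟨(a + k, x - (a + k)), ⟨?_, ⟨b, hb⟩⟩, by simp⟩
    rw [hT]
    simp only [Set.mem_iUnion]
    exact ⟨a, hat, k, interior_subset hk, rfl⟩
  rw [← isCompact_univ_iff]
  have : (Set.univ : Set A) = (fun p : A × A => p.1 + p.2) '' (T ×ˢ Set.range f) := Set.Subset.antisymm huniv (Set.subset_univ _)
  rw [this]
  exact hsum

end Groth.Agent.S13963
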