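import Groth.Statements.S13971
import Mathlib
import Groth.Prelude.Def_ArtFun2
import Groth.Agent.Lib.Helper9.T1Smooth
import Groth.Agent.Lib.Helper3.SchlF
import Groth.Agent.Lib.Helper3.SchlG
-- import your own Groth.Agent.* helpers here

set_option autoImplicit false
universe u v
open CategoryTheory
open ArtFun

namespace Groth.Agent.S13971

open CategoryTheory IsLocalRing
namespace Aux

open Groth.Agent.Helper3.ArtFunLib ArtFun ArtFun.Art

section Tsze

variable {k : Type u} [Field k] (A : Art k k) (M : Type u) [AddCommGroup M] [Module (↥A) M]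
  [Module (↥A)ᵐᵒᵖ M] [IsCentralScalar (↥A) M] [Module k M] [IsScalarTower k (↥A) M]
  [IsScalarTower k (↥A)ᵐᵒᵖ M] [Module.Finite (↥A) M]

instance isLocalRing_tszeA : IsLocalRing (TrivSqZeroExt (↥A) M) :=
  IsLocalRing.of_isUnit_or_isUnit_one_sub_self fun x => by
    rw [TrivSqZeroExt.isUnit_iff_isUnit_fst, TrivSqZeroExt.isUnit_iff_isUnit_fst,
      TrivSqZeroExt.fst_sub, TrivSqZeroExt.fst_one]
    exact IsLocalRing.isUnit_or_isUnit_one_sub_self _

instance isArtinianRing_tszeA : IsArtinianRing (TrivSqZeroExt (↥A) M) :=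
  haveI : Module.Finite (↥A) (TrivSqZeroExt (↥A) M) :=
    inferInstanceAs (Module.Finite (↥A) ((↥A) × M))
  IsArtinianRing.of_finite (↥A) _

/-- the trivial square-zero extension as an object -/
noncomputable def tszeArt : Art k k :=
  { carrier := TrivSqZeroExt (↥A) M
    res := A.res.comp (TrivSqZeroExt.fstHom k (↥A) M)
    res_surjective := fun c => by
      obtain ⟨a, ha⟩ := A.res_surjective c
      exact ⟨TrivSqZeroExt.inl a, ha⟩ }

/-- the projection -/
noncomputable def tszePi : tszeArt A M ⟶ A := ⟨TrivSqZeroExt.fstHom k (↥A) M, rfl⟩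

/-- the section -/
noncomputable def tszeIn : A ⟶ tszeArt A M :=
  ⟨TrivSqZeroExt.inlAlgHom k (↥A) M, AlgHom.ext fun _ => rfl⟩

lemma tszeIn_pi : tszeIn A M ≫ tszePi A M = 𝟙 A := hom_ext (AlgHom.ext fun _ => rfl)

omit [Module k M] [IsScalarTower k (↥A) M] [IsScalarTower k (↥A)ᵐᵒᵖ M] [Module.Finite (↥A) M] in
lemma tsze_mul_eq_zero (x y : TrivSqZeroExt (↥A) M) (hx : x.fst = 0) (hy : y.fst = 0) :
    x * y = 0 := by
  apply TrivSqZeroExt.ext
  · rw [TrivSqZeroExt.fst_mul, hx, zero_mul, TrivSqZeroExt.fst_zero]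
  · rw [TrivSqZeroExt.snd_mul, hx, hy, zero_smul, MulOpposite.op_zero, zero_smul, add_zero,
      TrivSqZeroExt.snd_zero]

lemma ker_tszePi_sq :
    RingHom.ker (tszePi A M).toAlgHom * RingHom.ker (tszePi A M).toAlgHom = ⊥ := by
  rw [eq_bot_iff, Ideal.mul_le]
  intro x hx y hy
  rw [Ideal.mem_bot]
  exact tsze_mul_eq_zero A M x y hx hy

end Tsze

section TszeMap

variable {k : Type u} [Field k] (A : Art k k) {M M' : Type u}
  [AddCommGroup M] [Module (↥A) M]
  [Module (↥A)ᵐᵒᵖ M] [IsCentralScalar (↥A) M] [Module k M] [IsScalarTower k (↥A) M]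
  [IsScalarTower k (↥A)ᵐᵒᵖ M] [Module.Finite (↥A) M]
  [AddCommGroup M'] [Module (↥A) M']
  [Module (↥A)ᵐᵒᵖ M'] [IsCentralScalar (↥A) M'] [Module k M'] [IsScalarTower k (↥A) M']
  [IsScalarTower k (↥A)ᵐᵒᵖ M'] [Module.Finite (↥A) M']

/-- the map induced by a linear map -/
noncomputable def tszeMapArt (f : M' →ₗ[↥A] M) : tszeArt A M' ⟶ tszeArt A M :=
  ⟨(TrivSqZeroExt.map f).restrictScalars k, AlgHom.ext fun x =>
    congrArg A.res (TrivSqZeroExt.fst_map f (x : TrivSqZeroExt (↥A) M'))⟩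

lemma tszeMapArt_apply (f : M' →ₗ[↥A] M) (x : TrivSqZeroExt (↥A) M') :
    (tszeMapArt A f).toAlgHom x = TrivSqZeroExt.map f x := rfl

lemma tszeMapArt_pi (f : M' →ₗ[↥A] M) : tszeMapArt A f ≫ tszePi A M = tszePi A M' :=
  hom_ext (AlgHom.ext fun x => TrivSqZeroExt.fst_map f (x : TrivSqZeroExt (↥A) M'))

lemma tszeIn_mapArt (f : M' →ₗ[↥A] M) : tszeIn A M' ≫ tszeMapArt A f = tszeIn A M :=
  hom_ext (AlgHom.ext fun x => TrivSqZeroExt.map_inl f x)

lemma tszeMapArt_surjective (f : M' →ₗ[↥A] M) (hf : Function.Surjective f) :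
    Function.Surjective (tszeMapArt A f) := by
  have key : ∀ y : TrivSqZeroExt (↥A) M, ∃ x : TrivSqZeroExt (↥A) M', TrivSqZeroExt.map f x = y := by
    intro y
    obtain ⟨m, hm⟩ := hf y.snd
    refine ⟨TrivSqZeroExt.inl y.fst + TrivSqZeroExt.inr m, ?_⟩
    apply TrivSqZeroExt.ext
    · rw [TrivSqZeroExt.fst_map]; simp
    · rw [TrivSqZeroExt.snd_map]; simp [hm]
  exact key

end TszeMap

section Main

variable {k : Type u} [Field k]

/-- any `k`-algebra map from a coefficient ring to `k` is the augmentation -/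
lemma res_unique (R : CRing k k) (χ : R.carrier →ₐ[k] k) : χ = R.res := by
  have hsurj : Function.Surjective χ := fun c => ⟨algebraMap k _ c, by simp⟩
  have hmax : (RingHom.ker (χ : R.carrier →+* k)).IsMaximal :=
    RingHom.ker_isMaximal_of_surjective _ hsurj
  have hmax' : (RingHom.ker (R.res : R.carrier →+* k)).IsMaximal :=
    RingHom.ker_isMaximal_of_surjective _ R.res_surjective
  have e1 := IsLocalRing.eq_maximalIdeal hmax
  have e2 := IsLocalRing.eq_maximalIdeal hmax'
  apply AlgHom.ext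
  intro x
  have hx : x - algebraMap k R.carrier (R.res x) ∈ RingHom.ker (R.res : R.carrier →+* k) := by
    rw [RingHom.mem_ker]
    change R.res (x - algebraMap k R.carrier (R.res x)) = 0
    rw [map_sub, AlgHom.commutes]
    exact sub_self _
  rw [e2, ← e1, RingHom.mem_ker] at hx
  have hx' : χ (x - algebraMap k R.carrier (R.res x)) = 0 := hx
  rw [map_sub, AlgHom.commutes, sub_eq_zero] at hx'
  exact hx'

variable [CharZero k] (F : Art k k ⥤ Type v) [TangentStr F]

theorem main (h0 : H0 F)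
    (hRS : (∀ ⦃B A A' A'' : Art k k⦄ (p' : B ⟶ A') (p'' : B ⟶ A'') (f' : A' ⟶ A) (f'' : A'' ⟶ A)
        (h : IsFibreProd p' p'' f' f''), Function.Surjective f'' → Function.Bijective (cmp F h)))
    (hfin : Hfin F)
    (hT1 : ∀ ⦃A A' A'' : Art k k⦄ (π' : A' ⟶ A) (i' : A ⟶ A') (π'' : A'' ⟶ A) (i'' : A ⟶ A'')
        (q : A'' ⟶ A'), i' ≫ π' = 𝟙 A → i'' ≫ π'' = 𝟙 A →
        RingHom.ker π'.toAlgHom * RingHom.ker π'.toAlgHom = ⊥ →
        RingHom.ker π''.toAlgHom * RingHom.ker π''.toAlgHom = ⊥ →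
        q ≫ π' = π'' → i'' ≫ q = i' → Function.Surjective q → Function.Surjective (F.map q)) :
    IsSmoothFunctor F := by
  obtain ⟨⟨R, ξ, hξ⟩⟩ := isProrepresentable_of_conditions (F := F) Function.surjective_id h0
    (fun B A A' A'' p' p'' f' f'' h hs => (hRS p' p'' f' f'' h hs.1).2)
    (fun B A' p' p'' h => hRS p' p'' _ _ h (fun c => ⟨TrivSqZeroExt.inl c, rfl⟩))
    hfin
    (fun B A A' p₁ p₂ f h hs => (hRS p₁ p₂ f f h hs.1).1)
  have H : ∀ (r : ℕ) (A : Art k k) (Rel : Submodule A (Fin r → A))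
      (φ : R.carrier →ₐ[k] TrivSqZeroExt A ((Fin r → A) ⧸ Rel)),
      ∃ ψ : R.carrier →ₐ[k] TrivSqZeroExt A (Fin r → A),
        ∀ x, (ψ x).fst = (φ x).fst ∧ Rel.mkQ (ψ x).snd = (φ x).snd := by
    intro r A Rel φ
    have hφ : (tszeArt A ((Fin r → A) ⧸ Rel)).res.comp φ = R.res := res_unique R _
    let φ' : HomSet R.carrier R.res (tszeArt A ((Fin r → A) ⧸ Rel)) := ⟨φ, hφ⟩
    obtain ⟨z, hz⟩ := hT1 (tszePi A ((Fin r → A) ⧸ Rel)) (tszeIn A ((Fin r → A) ⧸ Rel))
      (tszePi A (Fin r → A)) (tszeIn A (Fin r → A)) (tszeMapArt A Rel.mkQ)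
      (tszeIn_pi A _) (tszeIn_pi A _) (ker_tszePi_sq A _) (ker_tszePi_sq A _)
      (tszeMapArt_pi A _) (tszeIn_mapArt A _)
      (tszeMapArt_surjective A _ (Submodule.mkQ_surjective Rel)) (ξ.app _ φ')
    obtain ⟨ψ', hψ'⟩ := (hξ _).2 z
    have h1 : HomSet.map (tszeMapArt A Rel.mkQ) ψ' = φ' := by
      apply (hξ _).1
      rw [ξ.natural, hψ', hz]
    let ψ0 : R.carrier →ₐ[k] TrivSqZeroExt A (Fin r → A) := ψ'.1
    refine ⟨ψ0, fun x => ?_⟩
    have h2 : TrivSqZeroExt.map Rel.mkQ (ψ0 x) = φ x :=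
      congrArg (fun t : HomSet R.carrier R.res (tszeArt A ((Fin r → A) ⧸ Rel)) => t.1 x) h1
    constructor
    · rw [← h2]; exact (TrivSqZeroExt.fst_map Rel.mkQ (ψ0 x)).symm
    · rw [← h2]; exact (TrivSqZeroExt.snd_map Rel.mkQ (ψ0 x)).symm
  obtain ⟨r, ⟨e⟩⟩ := H9T1Smooth.bwd_exists R H
  intro B A μ hμ y
  obtain ⟨φ, hφ⟩ := (hξ A).2 y
  obtain ⟨ψ, hψ⟩ := exists_lift_of_powerSeries R r e μ hμ φ
  refine ⟨ξ.app B ψ, ?_⟩
  rw [← ξ.natural, hψ, hφ]

end Main

end Aux

/-- Let k be a field of characteristic zero and F a deformation functor on Artinian local k-algebras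
with residue field k — F(k) is a point and the comparison map F(A₁ ×_A A₂) → F(A₁) ×_{F(A)} F(A₂) is
bijective whenever A₂ → A is surjective — whose tangent space F(k[ε]) is finite-dimensional. Suppose
that for every object A and every surjective morphism q : A'' → A' between split square-zero
extensions of A (A' and A'' come with retractions onto A whose kernels have square zero and with
sections from A, and q commutes with the retractions and the sections), the map F(q) : F(A'') →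
F(A') is surjective. Then F is unobstructed: F(B) → F(A) is surjective for every surjective B → A.
(The published statement is for deformation categories, with the hypothesis that, for every object
over A, the functor M ↦ {isomorphism classes of its liftings to A ⊕ M} on finite A-modules carries
surjections to surjections; this row is the case of a category fibred in sets, for which a split
square-zero extension of A is A ⊕ M with M the kernel, a finite A-module, and that hypothesis is the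
displayed surjectivity.) -/
theorem result {k : Type u} [Field k] [CharZero k]
    (F : ArtFun.Art k k ⥤ Type v) [ArtFun.TangentStr F]
    (h0 : ArtFun.H0 F)
    (hRS : (∀ ⦃B A A' A'' : ArtFun.Art k k⦄ (p' : B ⟶ A') (p'' : B ⟶ A'') (f' : A' ⟶ A) (f'' : A'' ⟶ A)
        (h : ArtFun.Art.IsFibreProd p' p'' f' f''), Function.Surjective f'' → Function.Bijective (ArtFun.cmp F h)))
    (hfin : ArtFun.Hfin F)
    (hT1 : ∀ ⦃A A' A'' : ArtFun.Art k k⦄ (π' : A' ⟶ A) (i' : A ⟶ A') (π'' : A'' ⟶ A) (i'' : A ⟶ A'')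
        (q : A'' ⟶ A'), i' ≫ π' = 𝟙 A → i'' ≫ π'' = 𝟙 A →
        RingHom.ker π'.toAlgHom * RingHom.ker π'.toAlgHom = ⊥ →
        RingHom.ker π''.toAlgHom * RingHom.ker π''.toAlgHom = ⊥ →
        q ≫ π' = π'' → i'' ≫ q = i' → Function.Surjective q → Function.Surjective (F.map q)) :
    ArtFun.IsSmoothFunctor F := by
  exact Aux.main F h0 hRS hfin hT1

end Groth.Agent.S13971
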