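import Groth.Statements.S13985
import Mathlib

set_option autoImplicit false
universe u
open CategoryTheory
open CohGab

namespace Groth.Agent.S13985

/-- For a ring A, the canonical map from the centre of A to the centre of the category of finitely
generated left A-modules (the endomorphism ring of its identity functor), sending a to
multiplication by a, is bijective: every natural endomorphism of the identity functor acts on each
finitely generated module as multiplication by a unique element of A, and that element is central.
(The published statement calls this map an isomorphism of commutative rings; this row states its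
bijectivity.) -/
theorem result (A : Type u) [Ring A]
    (φ : 𝟭 (FGModuleCat.{u} A) ⟶ 𝟭 (FGModuleCat.{u} A)) :
    ∃! a : A, a ∈ Subring.center A ∧
      ∀ (M : FGModuleCat.{u} A) (x : M), (φ.app M).hom.hom x = a • x := by
  let AA : FGModuleCat.{u} A := FGModuleCat.of A A
  obtain ⟨a, ha⟩ : ∃ a : A, a = (φ.app AA).hom.hom (1 : A) := ⟨_, rfl⟩
  have hnat : ∀ (M : FGModuleCat.{u} A) (x : M), (φ.app M).hom.hom x = a • x := by
    intro M x
    let ρ : AA ⟶ M := ObjectProperty.homMk (ModuleCat.ofHom (LinearMap.toSpanSingleton A M x))
    have hn := φ.naturality ρ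
    have h1 := congrArg (fun f => f.hom.hom (1 : A)) hn
    simp only [Functor.id_map, FGModuleCat.hom_hom_comp, LinearMap.comp_apply] at h1
    have hρ : ∀ r : A, ρ.hom.hom r = r • x := fun r => rfl
    rw [hρ, ← ha, hρ, one_smul] at h1
    exact h1
  have hcomm : ∀ b : A, b * a = a * b := by
    intro b
    have h1 : (φ.app AA).hom.hom b = a * b := hnat AA b
    have h2 : (φ.app AA).hom.hom b = b * a := by
      have : (b : A) = b • (1 : A) := by simp
      conv_lhs => rw [this]
      rw [ha]
      exact map_smul (φ.app AA).hom.hom b (1 : A)
    rw [← h1, h2]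
  refine ⟨a, ⟨?_, hnat⟩, ?_⟩
  · rw [Subring.mem_center_iff]
    intro b
    exact hcomm b
  · rintro a' ⟨-, ha'⟩
    have h3 : (φ.app AA).hom.hom (1 : A) = a' * 1 := ha' AA (1 : A)
    rw [ha, h3, mul_one]

end Groth.Agent.S13985
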