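import Groth.Statements.S13989
import Mathlib
-- import your own Groth.Agent.* helpers here

set_option autoImplicit false
universe v u v' u' v'' u''
open CategoryTheory CategoryTheory.Limits
open CohGab

namespace Groth.Agent.S13989

open CategoryTheory CategoryTheory.Limits
namespace Aux

variable {A A' : Type u} [Category.{v} A] [Abelian A] [Category.{v} A'] [Abelian A']
    (i : A' ⥤ A) [i.Full] [i.Faithful] [PreservesFiniteLimits i] [PreservesFiniteColimits i]
    (J : ObjectProperty A) [J.IsSerreClass] [(J.inverseImage i).IsSerreClass]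

include i J in
omit [i.Full] [i.Faithful] in
lemma iso_map_iff {X Y : A'} (f : X ⟶ Y) :
    J.isoModSerre (i.map f) ↔ (J.inverseImage i).isoModSerre f := by
  have : i.PreservesZeroMorphisms := inferInstance
  rw [ObjectProperty.isoModSerre_iff, ObjectProperty.isoModSerre_iff,
    ObjectProperty.monoModSerre_iff, ObjectProperty.monoModSerre_iff,
    ObjectProperty.epiModSerre_iff, ObjectProperty.epiModSerre_iff]
  simp only [ObjectProperty.prop_inverseImage_iff]
  rw [J.prop_iff_of_iso (PreservesKernel.iso i f), J.prop_iff_of_iso (PreservesCokernel.iso i f)]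

/-- Lemma D: a subobject of `i M` with cokernel in `J` comes from `A'`. -/
lemma sub_lemma
    (hquot : ∀ (M : A') (N : A) (p : i.obj M ⟶ N), Epi p → J N → i.essImage N)
    {M : A'} {N : A} (m : N ⟶ i.obj M) [Mono m] (hC : J (cokernel m)) :
    ∃ (M₁ : A') (j : M₁ ⟶ M) (a : N ≅ i.obj M₁), a.hom ≫ i.map j = m := by
  obtain ⟨C', ⟨c⟩⟩ := hquot M (cokernel m) (cokernel.π m) inferInstance hC
  let p' : M ⟶ C' := i.preimage (cokernel.π m ≫ c.inv)
  have hp' : i.map p' = cokernel.π m ≫ c.inv := i.map_preimage _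
  have h1 : i.map (kernel.ι p') ≫ cokernel.π m = 0 := by
    have : i.map (kernel.ι p') ≫ i.map p' = 0 := by
      rw [← i.map_comp, kernel.condition, i.map_zero]
    rw [hp', ← Category.assoc] at this
    rw [← cancel_mono c.inv, this, zero_comp]
  have h2 : m ≫ i.map p' = 0 := by rw [hp', cokernel.condition_assoc, zero_comp]
  refine ⟨kernel p', kernel.ι p',
    ⟨kernel.lift (i.map p') m h2 ≫ (PreservesKernel.iso i p').inv,
     Abelian.monoLift m (i.map (kernel.ι p')) h1, ?_, ?_⟩, ?_⟩
  · rw [← cancel_mono m]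
    simp
  · have : Mono (i.map (kernel.ι p')) := inferInstance
    rw [← cancel_mono (i.map (kernel.ι p'))]
    simp
  · simp

/-- Lemma D': a quotient of `i M` with kernel in `J` comes from `A'`. -/
lemma quot_lemma
    (hsub : ∀ (M : A') (N : A) (f : N ⟶ i.obj M), Mono f → J N → i.essImage N)
    {M : A'} {N : A} (p : i.obj M ⟶ N) [Epi p] (hK : J (kernel p)) :
    ∃ (M₁ : A') (q : M ⟶ M₁) (b : i.obj M₁ ≅ N), i.map q ≫ b.hom = p := by
  obtain ⟨K', ⟨c⟩⟩ := hsub M (kernel p) (kernel.ι p) inferInstance hK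
  let k' : K' ⟶ M := i.preimage (c.hom ≫ kernel.ι p)
  have hk' : i.map k' = c.hom ≫ kernel.ι p := i.map_preimage _
  have h1 : kernel.ι p ≫ i.map (cokernel.π k') = 0 := by
    have : i.map k' ≫ i.map (cokernel.π k') = 0 := by
      rw [← i.map_comp, cokernel.condition, i.map_zero]
    rw [hk', Category.assoc] at this
    rw [← cancel_epi c.hom, this, comp_zero]
  have h2 : i.map k' ≫ p = 0 := by rw [hk', Category.assoc, kernel.condition, comp_zero]
  refine ⟨cokernel k', cokernel.π k',
    ⟨(PreservesCokernel.iso i k').hom ≫ cokernel.desc (i.map k') p h2,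
     Abelian.epiDesc p (i.map (cokernel.π k')) h1, ?_, ?_⟩, ?_⟩
  · have : Epi (i.map (cokernel.π k')) := inferInstance
    rw [← cancel_epi (i.map (cokernel.π k'))]
    simp
  · rw [← cancel_epi p]
    simp
  · simp


/-- Lemma B: the main construction. -/
lemma key
    (hsub : ∀ (M : A') (N : A) (f : N ⟶ i.obj M), Mono f → J N → i.essImage N)
    (hquot : ∀ (M : A') (N : A) (p : i.obj M ⟶ N), Epi p → J N → i.essImage N)
    {X Y : A'} {Z : A} (s : Z ⟶ i.obj X) (hs : J.isoModSerre s) (g : Z ⟶ i.obj Y) :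
    ∃ (X₁ Y₁ : A') (j : X₁ ⟶ X) (q : Y ⟶ Y₁) (h : X₁ ⟶ Y₁) (sb : Z ⟶ i.obj X₁),
      (J.inverseImage i).isoModSerre j ∧ (J.inverseImage i).isoModSerre q ∧
      sb ≫ i.map j = s ∧ sb ≫ i.map h = g ≫ i.map q := by
  -- X side
  have hι : J.isoModSerre (Abelian.image.ι s) :=
    ObjectProperty.epiModSerre.isoModSerre_image_ι hs.2
  obtain ⟨X₁, j, a, ha⟩ := sub_lemma i J hquot (Abelian.image.ι s) hι.2
  -- Y side
  have hK : J (kernel s) := hs.1
  have hI : J (Abelian.image (kernel.ι s ≫ g)) :=
    J.prop_of_epi (Abelian.factorThruImage (kernel.ι s ≫ g)) hK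
  have hp₂ : J.isoModSerre (cokernel.π (kernel.ι s ≫ g)) := by
    rw [ObjectProperty.isoModSerre_iff_of_epi]
    exact hI
  obtain ⟨Y₁, q, b, hb⟩ := quot_lemma i J hsub (cokernel.π (kernel.ι s ≫ g)) hI
  have hj : J.isoModSerre (i.map j) := by
    have : i.map j = a.inv ≫ Abelian.image.ι s := by rw [← ha]; simp
    rw [this]
    exact MorphismProperty.comp_mem _ _ _ (J.isoModSerre_of_isIso _) hι
  have hq : J.isoModSerre (i.map q) := by
    have : i.map q = cokernel.π (kernel.ι s ≫ g) ≫ b.inv := by rw [← hb]; simp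
    rw [this]
    exact MorphismProperty.comp_mem _ _ _ hp₂ (J.isoModSerre_of_isIso _)
  have hw : kernel.ι s ≫ g ≫ cokernel.π (kernel.ι s ≫ g) = 0 := by
    rw [← Category.assoc, cokernel.condition]
  let ht : i.obj X₁ ⟶ i.obj Y₁ :=
    a.inv ≫ (Abelian.coimageIsoImage s).inv ≫
      cokernel.desc (kernel.ι s) (g ≫ cokernel.π (kernel.ι s ≫ g)) hw ≫ b.inv
  refine ⟨X₁, Y₁, j, q, i.preimage ht,
    Abelian.coimage.π s ≫ (Abelian.coimageIsoImage s).hom ≫ a.hom,
    (iso_map_iff i J j).1 hj, (iso_map_iff i J q).1 hq, ?_, ?_⟩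
  · simp only [Category.assoc, ha]
    simp
  · rw [i.map_preimage]
    have : i.map q = cokernel.π (kernel.ι s ≫ g) ≫ b.inv := by rw [← hb]; simp
    rw [this]
    simp [ht]

lemma image_mem {X Y : A'} (h : X ⟶ Y)
    (hh : ∃ (Z : A) (s : i.obj Y ⟶ Z) (_ : J.isoModSerre s), i.map h ≫ s = 0) :
    (J.inverseImage i) (Abelian.image h) := by
  obtain ⟨Z, s, hs, eq⟩ := hh
  rw [ObjectProperty.prop_inverseImage_iff]
  have h0 : i.map (Abelian.image.ι h) ≫ s = 0 := by
    have : Epi (i.map (Abelian.factorThruImage h)) := inferInstance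
    rw [← cancel_epi (i.map (Abelian.factorThruImage h)), ← i.map_comp_assoc,
      Abelian.image.fac, eq, comp_zero]
  have : Mono (i.map (Abelian.image.ι h)) := inferInstance
  have : Mono (kernel.lift s (i.map (Abelian.image.ι h)) h0) :=
    mono_of_mono_fac (kernel.lift_ι _ _ _)
  exact J.prop_of_mono (kernel.lift s (i.map (Abelian.image.ι h)) h0) hs.1

theorem main
    (hsub : ∀ (M : A') (N : A) (f : N ⟶ i.obj M), Mono f → J N → i.essImage N)
    (hquot : ∀ (M : A') (N : A) (p : i.obj M ⟶ N), Epi p → J N → i.essImage N)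
    {Q : Type u'} [Category.{v'} Q] (L : A ⥤ Q) [L.IsLocalization J.isoModSerre]
    {Q' : Type u''} [Category.{v''} Q'] (L' : A' ⥤ Q') [L'.IsLocalization (J.inverseImage i).isoModSerre]
    (Φ : Q' ⥤ Q) (e : L' ⋙ Φ ≅ i ⋙ L) : Φ.Full ∧ Φ.Faithful := by
  constructor
  · have : L'.EssSurj := Localization.essSurj L' (J.inverseImage i).isoModSerre
    refine Φ.full_of_comp_essSurj L' (fun X Y φ ↦ ?_)
    obtain ⟨φ', hφ'⟩ : ∃ φ', φ = e.hom.app X ≫ φ' ≫ e.inv.app Y :=
      ⟨e.inv.app X ≫ φ ≫ e.hom.app Y, by simp⟩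
    obtain ⟨ψ, hψ⟩ := Localization.exists_rightFraction L J.isoModSerre φ'
    obtain ⟨X₁, Y₁, j, q, h, sb, hj, hq, h1, h2⟩ := key i J hsub hquot ψ.s ψ.hs ψ.f
    have hij : J.isoModSerre (i.map j) := (iso_map_iff i J j).2 hj
    have hiq : J.isoModSerre (i.map q) := (iso_map_iff i J q).2 hq
    have hsb : J.isoModSerre sb := by
      have := ψ.hs
      rw [← h1] at this
      exact MorphismProperty.of_postcomp _ _ _ hij this
    have := Localization.inverts L' _ j hj
    have := Localization.inverts L' _ q hq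
    have := Localization.inverts L _ _ hij
    have := Localization.inverts L _ _ hiq
    have := Localization.inverts L _ _ hsb
    have := Localization.inverts L _ _ ψ.hs
    refine ⟨inv (L'.map j) ≫ L'.map h ≫ inv (L'.map q), ?_⟩
    rw [← cancel_epi (Φ.map (L'.map j)), ← cancel_mono (Φ.map (L'.map q))]
    simp only [Functor.map_comp, Functor.map_inv, Category.assoc, IsIso.hom_inv_id_assoc,
      IsIso.inv_hom_id, Category.comp_id]
    have nat := fun {U V : A'} (f : U ⟶ V) => NatIso.naturality_2 e f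
    dsimp at nat
    rw [← nat h, ← nat j, ← nat q, hφ']
    simp only [Category.assoc, Iso.inv_hom_id_app_assoc, Iso.inv_hom_id_app,
      Functor.comp_obj, Category.comp_id]
    congr 1
    have e1 : L.map sb ≫ L.map (i.map j) = L.map ψ.s := by rw [← L.map_comp, h1]
    have e2 : L.map sb ≫ L.map (i.map h) = L.map ψ.f ≫ L.map (i.map q) := by
      rw [← L.map_comp, h2, L.map_comp]
    rw [← cancel_epi (L.map sb), reassoc_of% e1, reassoc_of% e2, hψ]
    simp [MorphismProperty.RightFraction.map_s_comp_map_assoc]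
  · refine Functor.faithful_of_comp_of_hasLeftCalculusOfFractions L'
      (J.inverseImage i).isoModSerre Φ (fun X Y f g hfg ↦ ?_)
    have hL : L.map (i.map f) = L.map (i.map g) := by
      have nat := fun {U V : A'} (f : U ⟶ V) => NatIso.naturality_1 e f
      dsimp at nat
      rw [← nat f, ← nat g, hfg]
    rw [MorphismProperty.map_eq_iff_postcomp L J.isoModSerre] at hL
    obtain ⟨Z, s, hs, fac⟩ := hL
    rw [MorphismProperty.map_eq_iff_postcomp L' (J.inverseImage i).isoModSerre]
    have : i.Additive := i.additive_of_preserves_binary_products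
    refine ⟨_, cokernel.π (f - g), ?_, ?_⟩
    · rw [ObjectProperty.isoModSerre_iff_of_epi]
      exact image_mem i J (f - g) ⟨Z, s, hs, by rw [i.map_sub, Preadditive.sub_comp, fac, sub_self]⟩
    · simpa only [Preadditive.sub_comp, sub_eq_zero] using cokernel.condition (f - g)

end Aux

/-- Let A be an abelian category, A' a full abelian subcategory (given as a fully faithful exact functor
i : A' ⥤ A) and J a Serre subcategory of A, with J' = J ∩ A' (the preimage of J under i, a Serre
subcategory of A'). Assume that every subobject and every quotient object, in A, of an object of A'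
which belongs to J belongs to A' (lies in the essential image of i). Then the functor A'/J' ⥤ A/J
induced between the quotient categories is fully faithful: for L : A ⥤ Q and L' : A' ⥤ Q'
localization functors at the morphisms whose kernel and cokernel lie in J, resp. J', every functor Φ
: Q' ⥤ Q with L' ⋙ Φ ≅ i ⋙ L is full and faithful. -/
theorem result
    {A A' : Type u} [Category.{v} A] [Abelian A] [Category.{v} A'] [Abelian A']
    (i : A' ⥤ A) [i.Full] [i.Faithful] [PreservesFiniteLimits i] [PreservesFiniteColimits i]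
    (J : ObjectProperty A) [J.IsSerreClass] [(J.inverseImage i).IsSerreClass]
    (hsub : ∀ (M : A') (N : A) (f : N ⟶ i.obj M), Mono f → J N → i.essImage N)
    (hquot : ∀ (M : A') (N : A) (p : i.obj M ⟶ N), Epi p → J N → i.essImage N)
    {Q : Type u'} [Category.{v'} Q] (L : A ⥤ Q) [L.IsLocalization J.isoModSerre]
    {Q' : Type u''} [Category.{v''} Q'] (L' : A' ⥤ Q') [L'.IsLocalization (J.inverseImage i).isoModSerre]
    (Φ : Q' ⥤ Q) (e : L' ⋙ Φ ≅ i ⋙ L) : Φ.Full ∧ Φ.Faithful := by
  exact Aux.main i J hsub hquot L L' Φ e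

end Groth.Agent.S13989
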