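import Groth.Statements.S13993
import Mathlib
-- import your own Groth.Agent.* helpers here

set_option autoImplicit false
universe u
open CategoryTheory
open CAlg

namespace Groth.Agent.S13993

open CategoryTheory
namespace Aux
open Abelian

section General
variable {k : Type u} [Field k] {A : Type u} [CommRing A] [Algebra k A]
variable {P M N : Type u} [AddCommGroup P] [Module A P] [AddCommGroup M] [Module A M]
  [AddCommGroup N] [Module A N] [Module.Projective A P]

lemma smul_eq_algebraMap_smul {X Y : ModuleCat.{u} A} (c : k) (f : X ⟶ Y) :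
    c • f = (algebraMap k A c) • f := by
  ext x
  rfl

theorem finrank_ext_eq_one (g : P →ₗ[A] M) (hg : Function.Surjective g)
    (f₀ : LinearMap.ker g →ₗ[A] N)
    (h1 : ¬ ∃ F : P →ₗ[A] N, F ∘ₗ (LinearMap.ker g).subtype = f₀)
    (h2 : ∀ f : LinearMap.ker g →ₗ[A] N, ∃ (c : k) (F : P →ₗ[A] N),
      f = (algebraMap k A c) • f₀ + F ∘ₗ (LinearMap.ker g).subtype) :
    Module.finrank k (Ext (ModuleCat.of A M) (ModuleCat.of A N) 1) = 1 := by
  have hproj : Projective (ModuleCat.of A P) := (IsProjective.iff_projective _).mp inferInstance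
  have hS := LinearMap.shortExact_shortComplexKer hg
  set v : Ext (ModuleCat.of A M) (ModuleCat.of A N) 1 :=
    hS.extClass.comp (Ext.mk₀ (ModuleCat.ofHom f₀)) (add_zero 1) with hv
  have hv0 : v ≠ 0 := by
    intro h0
    obtain ⟨x₂, hx₂⟩ := Ext.contravariant_sequence_exact₁ hS (ModuleCat.of A N)
      (Ext.mk₀ (ModuleCat.ofHom f₀)) (add_zero 1) h0
    obtain ⟨F', rfl⟩ := (Ext.mk₀_bijective _ _).2 x₂
    rw [Ext.mk₀_comp_mk₀] at hx₂
    have h3 := (Ext.mk₀_bijective _ _).1 hx₂
    apply h1
    refine ⟨F'.hom, ?_⟩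
    have := congrArg ModuleCat.Hom.hom h3
    simpa using this
  rw [finrank_eq_one_iff_of_nonzero' v hv0]
  intro w
  obtain ⟨x₁, rfl⟩ := Ext.contravariant_sequence_exact₃ hS (ModuleCat.of A N) w
    (@Ext.eq_zero_of_projective _ _ _ _ _ _ _ hproj _) (add_zero 1)
  obtain ⟨f', rfl⟩ := (Ext.mk₀_bijective _ _).2 x₁
  obtain ⟨c, F, hcF⟩ := h2 f'.hom
  refine ⟨c, ?_⟩
  have hf' : f' = c • ModuleCat.ofHom f₀ + g.shortComplexKer.f ≫ ModuleCat.ofHom F := by
    rw [smul_eq_algebraMap_smul]
    ext x
    have := congrArg (fun φ => φ x) hcF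
    simpa using this
  rw [hf', Ext.mk₀_add, Ext.comp_add, Ext.mk₀_smul, Ext.comp_smul, ← Ext.mk₀_comp_mk₀,
    ShortComplex.ShortExact.extClass_comp_assoc, add_zero]

end General

section Concrete
open MvPowerSeries
variable (k : Type u) [Field k]

/-- every power series in two variables is a constant plus multiples of the variables -/
lemma decomp (s : MvPowerSeries (Fin 2) k) :
    ∃ (c : k) (s' s'' : MvPowerSeries (Fin 2) k),
      s = C c + X 0 * s' + X 1 * s'' := by
  classical
  let s' : MvPowerSeries (Fin 2) k := fun m => coeff (m + Finsupp.single 0 1) s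
  have hcoeff : ∀ m, coeff m (X 0 * s') =
      if Finsupp.single (0 : Fin 2) 1 ≤ m then coeff (m - Finsupp.single 0 1 + Finsupp.single 0 1) s
      else 0 := by
    intro m
    rw [X_def, coeff_monomial_mul]
    split_ifs with h
    · rw [one_mul]; rfl
    · rfl
  have hdvd : (X 1 : MvPowerSeries (Fin 2) k) ∣ s - X 0 * s' - C (constantCoeff s) := by
    rw [X_dvd_iff]
    intro m hm1
    rw [map_sub, map_sub, hcoeff]
    by_cases hm0 : m 0 = 0
    · have hm : m = 0 := by
        ext i
        fin_cases i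
        · simpa using hm0
        · simpa using hm1
      subst hm
      have : ¬ Finsupp.single (0 : Fin 2) 1 ≤ 0 := by
        intro h
        have := h 0
        simp at this
      rw [if_neg this, coeff_zero_C, sub_zero, coeff_zero_eq_constantCoeff_apply, sub_self]
    · have hle : Finsupp.single (0 : Fin 2) 1 ≤ m := by
        intro i
        fin_cases i
        · simpa using Nat.one_le_iff_ne_zero.mpr hm0
        · simp
      have hne : m ≠ 0 := by
        intro h; apply hm0; rw [h]; rfl
      rw [if_pos hle, tsub_add_cancel_of_le hle, sub_self, zero_sub, coeff_C, if_neg hne, neg_zero]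
  obtain ⟨s'', hs''⟩ := hdvd
  refine ⟨constantCoeff s, s', s'', ?_⟩
  rw [← hs'']
  ring


/-- the ring of the node -/
noncomputable abbrev I₀ : Ideal (MvPowerSeries (Fin 2) k) :=
  Ideal.span {(X (0 : Fin 2) : MvPowerSeries (Fin 2) k) * X (1 : Fin 2)}
noncomputable abbrev An : Type u := MvPowerSeries (Fin 2) k ⧸ I₀ k
noncomputable abbrev xb : An k := Ideal.Quotient.mk (I₀ k) (X (0 : Fin 2))
noncomputable abbrev yb : An k := Ideal.Quotient.mk (I₀ k) (X (1 : Fin 2))

lemma xb_mul_yb : xb k * yb k = 0 := by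
  rw [xb, yb, ← map_mul, Ideal.Quotient.eq_zero_iff_mem]
  exact Ideal.mem_span_singleton_self _

/-- the augmentation `A → k` -/
noncomputable def eps : An k →+* k :=
  Ideal.Quotient.lift (I₀ k) (constantCoeff (σ := Fin 2) (R := k)) (by
    intro a ha
    obtain ⟨t, rfl⟩ := Ideal.mem_span_singleton.mp ha
    rw [map_mul, map_mul, constantCoeff_X, zero_mul, zero_mul])

lemma eps_xb : eps k (xb k) = 0 := by
  simp [eps, xb]

lemma eps_yb : eps k (yb k) = 0 := by
  simp [eps, yb]

/-- the annihilator of `y` is `(x)` -/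
lemma smul_yb_eq_zero_iff (a : An k) : a • yb k = 0 ↔ a ∈ Ideal.span {xb k} := by
  constructor
  · intro h
    obtain ⟨s, rfl⟩ := Ideal.Quotient.mk_surjective a
    rw [smul_eq_mul, yb, ← map_mul, Ideal.Quotient.eq_zero_iff_mem] at h
    obtain ⟨t, ht⟩ := Ideal.mem_span_singleton.mp h
    have h1 : (s - X 0 * t) * X 1 = 0 := by rw [sub_mul, ht]; ring
    have hX : (X (1 : Fin 2) : MvPowerSeries (Fin 2) k) ≠ 0 := by
      intro h0
      have := congrArg (coeff (Finsupp.single (1 : Fin 2) 1)) h0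
      rw [coeff_X, if_pos rfl, map_zero] at this
      exact one_ne_zero this
    have h2 : s - X 0 * t = 0 := (mul_eq_zero.mp h1).resolve_right hX
    rw [sub_eq_zero] at h2
    rw [h2, map_mul]
    exact Ideal.mul_mem_right _ _ (Ideal.mem_span_singleton_self _)
  · intro h
    obtain ⟨t, rfl⟩ := Ideal.mem_span_singleton.mp h
    rw [smul_eq_mul, mul_comm (xb k) t, mul_assoc, xb_mul_yb, mul_zero]


theorem main13993 :
    Module.finrank k (Ext (ModuleCat.of (An k) (An k ⧸ Ideal.span {yb k}))
      (ModuleCat.of (An k) (An k ⧸ Ideal.span {xb k})) 1) = 1 := by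
  let Iy : Ideal (An k) := Ideal.span {yb k}
  let Ix : Ideal (An k) := Ideal.span {xb k}
  let g : An k →ₗ[An k] (An k ⧸ Iy) := Submodule.mkQ Iy
  have hg : Function.Surjective g := Submodule.mkQ_surjective _
  let μ : An k →ₗ[An k] An k := LinearMap.toSpanSingleton (An k) (An k) (yb k)
  have hker : LinearMap.ker μ = Ix := by
    ext a
    rw [LinearMap.mem_ker, LinearMap.toSpanSingleton_apply]
    exact smul_yb_eq_zero_iff k a
  have hkg : LinearMap.ker g = Iy := Submodule.ker_mkQ _
  have hrange : LinearMap.ker g = LinearMap.range μ := by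
    rw [hkg]
    exact LinearMap.span_singleton_eq_range (An k) (An k) (yb k)
  let e₁ : LinearMap.ker g ≃ₗ[An k] LinearMap.range μ := LinearEquiv.ofEq _ _ hrange
  let e₂ := μ.quotKerEquivRange
  let e₃ : (An k ⧸ LinearMap.ker μ) ≃ₗ[An k] (An k ⧸ Ix) := Submodule.quotEquivOfEq _ _ hker
  let f₀ : LinearMap.ker g →ₗ[An k] (An k ⧸ Ix) :=
    e₃.toLinearMap ∘ₗ e₂.symm.toLinearMap ∘ₗ e₁.toLinearMap
  have hyK : yb k ∈ LinearMap.ker g := by
    rw [hkg]; exact Ideal.mem_span_singleton_self _
  have hf₀ : f₀ ⟨yb k, hyK⟩ = Submodule.Quotient.mk 1 := by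
    have h1 : e₁ ⟨yb k, hyK⟩ = e₂ (Submodule.Quotient.mk 1) := by
      apply Subtype.ext
      rw [LinearMap.quotKerEquivRange_apply_mk]
      simp [e₁, μ]
    simp only [f₀, LinearMap.comp_apply, LinearEquiv.coe_coe]
    rw [h1, LinearEquiv.symm_apply_apply]
    rfl
  have hgen : ∀ κ : LinearMap.ker g, ∃ a : An k, κ = a • ⟨yb k, hyK⟩ := by
    rintro ⟨κ, hκ⟩
    rw [hkg] at hκ
    obtain ⟨a, rfl⟩ := Ideal.mem_span_singleton'.mp hκ
    exact ⟨a, Subtype.ext rfl⟩
  refine finrank_ext_eq_one (k := k) g hg f₀ ?_ ?_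
  · rintro ⟨F, hF⟩
    have h1 : F (yb k) = Submodule.Quotient.mk 1 := by
      rw [← hf₀, ← hF]; rfl
    obtain ⟨a, ha⟩ := Submodule.Quotient.mk_surjective _ (F 1)
    have h2 : F (yb k) = Submodule.Quotient.mk (yb k * a) := by
      have : yb k = yb k • (1 : An k) := by rw [smul_eq_mul, mul_one]
      rw [this, map_smul, ← ha, ← Submodule.Quotient.mk_smul, smul_eq_mul, ← this]
    rw [h2] at h1
    have h3 : yb k * a - 1 ∈ Ix := (Submodule.Quotient.eq _).mp h1
    obtain ⟨t, ht⟩ := Ideal.mem_span_singleton.mp h3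
    have := congrArg (eps k) ht
    rw [map_sub, map_mul, map_mul, eps_xb, eps_yb, zero_mul, zero_mul, map_one, zero_sub] at this
    exact one_ne_zero (neg_eq_zero.mp this)
  · intro f
    obtain ⟨a, ha⟩ := Submodule.Quotient.mk_surjective _ (f ⟨yb k, hyK⟩)
    obtain ⟨s, rfl⟩ := Ideal.Quotient.mk_surjective a
    obtain ⟨c, s', s'', hs⟩ := decomp k s
    refine ⟨c, LinearMap.toSpanSingleton (An k) _
      (Submodule.Quotient.mk (Ideal.Quotient.mk (I₀ k) s'')), ?_⟩
    apply LinearMap.ext
    intro κ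
    obtain ⟨b, rfl⟩ := hgen κ
    rw [map_smul, map_smul]
    congr 1
    rw [LinearMap.add_apply, LinearMap.smul_apply, hf₀, LinearMap.comp_apply,
      Submodule.subtype_apply, LinearMap.toSpanSingleton_apply, ← ha, hs, map_add, map_add,
      map_mul, map_mul]
    have hx : (Submodule.Quotient.mk (xb k * Ideal.Quotient.mk (I₀ k) s') : An k ⧸ Ix) = 0 := by
      rw [Submodule.Quotient.mk_eq_zero]
      exact Ideal.mul_mem_right _ _ (Ideal.mem_span_singleton_self _)
    rw [Submodule.Quotient.mk_add, Submodule.Quotient.mk_add, hx, add_zero,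
      ← Submodule.Quotient.mk_smul, ← Submodule.Quotient.mk_smul, smul_eq_mul, smul_eq_mul, mul_one]
    rfl

end Concrete
end Aux

/-- Let k be a field and A = k[[x,y]]/(xy) the complete local ring of a node, with branch rings A/(y)
and A/(x) viewed as A-modules. Then the first Ext group Ext¹_A(A/(y), A/(x)) has dimension one over
k. (The published statement is for the local ring at a node of a reduced curve over an algebraically
closed field of characteristic zero, a node being a point whose complete local ring is A; this row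
states the case of the complete local ring A itself, over an arbitrary field.) -/
theorem result (k : Type u) [Field k] : Module.finrank k (Abelian.Ext (ModuleCat.of (MvPowerSeries (Fin 2) k ⧸ Ideal.span {(MvPowerSeries.X (0 : Fin 2) : MvPowerSeries (Fin 2) k) * MvPowerSeries.X (1 : Fin 2)}) ((MvPowerSeries (Fin 2) k ⧸ Ideal.span {(MvPowerSeries.X (0 : Fin 2) : MvPowerSeries (Fin 2) k) * MvPowerSeries.X (1 : Fin 2)}) ⧸ Ideal.span {Ideal.Quotient.mk (Ideal.span {(MvPowerSeries.X (0 : Fin 2) : MvPowerSeries (Fin 2) k) * MvPowerSeries.X (1 : Fin 2)}) (MvPowerSeries.X (1 : Fin 2))})) (ModuleCat.of (MvPowerSeries (Fin 2) k ⧸ Ideal.span {(MvPowerSeries.X (0 : Fin 2) : MvPowerSeries (Fin 2) k) * MvPowerSeries.X (1 : Fin 2)}) ((MvPowerSeries (Fin 2) k ⧸ Ideal.span {(MvPowerSeries.X (0 : Fin 2) : MvPowerSeries (Fin 2) k) * MvPowerSeries.X (1 : Fin 2)}) ⧸ Ideal.span {Ideal.Quotient.mk (Ideal.span {(MvPowerSeries.X (0 : Fin 2) : MvPowerSeries (Fin 2) k) * MvPowerSeries.X (1 : Fin 2)}) (MvPowerSeries.X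 (0 : Fin 2))})) 1) = 1 := by
  exact Aux.main13993 k

end Groth.Agent.S13993
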