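import Groth.Statements.S13995
import Mathlib
-- import your own Groth.Agent.* helpers here

set_option autoImplicit false
universe u
open CAlg

namespace Groth.Agent.S13995

namespace Aux

lemma span_of_finrank_one {K V : Type*} [CommRing K] (hK : IsField K) [AddCommGroup V]
    [Module K V] (h : Module.finrank K V = 1) (v : V) (hv : v ≠ 0) (w : V) :
    ∃ c : K, c • v = w := by
  letI := hK.toField
  exact (finrank_eq_one_iff_of_nonzero' v hv).mp h w

variable {R : Type u} [CommRing R] [IsNoetherianRing R] [IsReduced R]
  {M : Type u} [AddCommGroup M] [Module R M]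

lemma isField_loc (p : Ideal R) (hp : p ∈ minimalPrimes R) :
    haveI := hp.1.1
    IsField (Localization.AtPrime p) := by
  haveI := hp.1.1
  have : Ring.KrullDimLE 0 (Localization.AtPrime p) := .of_isLocalization _ hp _
  exact Ring.KrullDimLE.isField_of_isReduced

lemma clear_denoms (p : PrimeSpectrum R) (hp : p.asIdeal ∈ minimalPrimes R)
    (hrk : Module.finrank (Localization.AtPrime p.asIdeal)
      (LocalizedModule p.asIdeal.primeCompl M) = 1)
    (m : M) (hm : LocalizedModule.mkLinearMap p.asIdeal.primeCompl M m ≠ 0) (m' : M) :
    ∃ r s : R, s ∉ p.asIdeal ∧ s • m' = r • m := by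
  obtain ⟨c, hc⟩ := span_of_finrank_one (isField_loc p.asIdeal hp) hrk _ hm
    (LocalizedModule.mkLinearMap p.asIdeal.primeCompl M m')
  obtain ⟨r, s, rfl⟩ := IsLocalization.exists_mk'_eq p.asIdeal.primeCompl c
  rw [LocalizedModule.mkLinearMap_apply, LocalizedModule.mkLinearMap_apply] at hc
  rw [← Localization.mk_eq_mk'_apply, LocalizedModule.mk_smul_mk, LocalizedModule.mk_eq] at hc
  obtain ⟨u, hu⟩ := hc
  refine ⟨u * r, u * s, ?_, ?_⟩
  · exact (u * s).2
  · have h1 : (u : R) • (1 : R) • r • m = (u : R) • ((s : R) * 1) • m' := hu
    rw [one_smul, mul_one] at h1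
    rw [mul_smul, mul_smul]
    exact h1.symm

theorem main [Module.Finite R M]
    (hM : associatedPrimes R M ⊆ minimalPrimes R)
    (hrk : ∀ p : PrimeSpectrum R, p.asIdeal ∈ minimalPrimes R →
      Module.finrank (Localization.AtPrime p.asIdeal) (LocalizedModule p.asIdeal.primeCompl M) = 1)
    (Q : Type u) [AddCommGroup Q] [Module R Q] [Module.Finite R Q]
    (hQ : associatedPrimes R Q ⊆ minimalPrimes R) (g : M →ₗ[R] Q) (hg : Function.Surjective g) :
    LinearMap.ker g = ⨅ p ∈ {p : PrimeSpectrum R | p.asIdeal ∈ minimalPrimes R ∧
      p ∈ Module.support R Q}, LinearMap.ker (LocalizedModule.mkLinearMap p.asIdeal.primeCompl M) := by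
  apply le_antisymm
  · intro m hm
    simp only [Submodule.mem_iInf, Set.mem_ofPred_eq]
    rintro p ⟨hpmin, hpsupp⟩
    rw [LinearMap.mem_ker]
    by_contra hne
    apply (Module.mem_support_iff_exists_annihilator.mp hpsupp).elim
    intro q hq
    obtain ⟨m', rfl⟩ := hg q
    obtain ⟨r, s, hs, hsm⟩ := clear_denoms p hpmin (hrk p hpmin) m hne m'
    apply hs
    apply hq
    rw [Submodule.mem_annihilator_span_singleton, ← map_smul, hsm, map_smul,
      LinearMap.mem_ker.mp hm, smul_zero]
  · intro m hm
    simp only [Submodule.mem_iInf, Set.mem_ofPred_eq] at hm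
    rw [LinearMap.mem_ker]
    by_contra hne
    obtain ⟨P, hP, hle⟩ := exists_le_isAssociatedPrime_of_isNoetherianRing R (g m) hne
    have hPprime : P.IsPrime := hP.isPrime
    have hPmin : P ∈ minimalPrimes R := hQ hP
    obtain ⟨_, y, hy⟩ := isAssociatedPrime_iff.mp hP
    have hsupp : (⟨P, hPprime⟩ : PrimeSpectrum R) ∈ Module.support R Q := by
      rw [Module.mem_support_iff_exists_annihilator]
      refine ⟨y, ?_⟩
      intro r hr
      rw [Submodule.mem_annihilator_span_singleton] at hr
      change r ∈ P
      rw [hy, Submodule.mem_colon_singleton, Submodule.mem_bot]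
      exact hr
    have h1 := hm ⟨P, hPprime⟩ ⟨hPmin, hsupp⟩
    rw [LinearMap.mem_ker, IsLocalizedModule.eq_zero_iff P.primeCompl] at h1
    obtain ⟨s, hs⟩ := h1
    apply s.2
    apply hle
    rw [Submodule.mem_colon_singleton, Submodule.mem_bot, ← map_smul]
    have : (s : R) • m = 0 := hs
    rw [this, map_zero]

end Aux

/-- Let R be a reduced Noetherian ring, M a finitely generated R-module all of whose associated primes
are minimal primes of R and whose localization at each minimal prime p is one-dimensional over the
field R_p, and let g : M → Q be a surjection onto a finitely generated R-module Q all of whose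
associated primes are minimal primes of R. Then the kernel of g is the intersection, over the
minimal primes p of R lying in the support of Q, of the kernels of the localization maps M → M_p.
(The published statement is for a torsion-free coherent sheaf F of uniform rank one on a reduced
connected projective curve over a characteristic-zero algebraically closed field: its non-zero
torsion-free quotients are exactly the maximal torsion-free quotients F_D of the restrictions of F
to subcurves D; this row is the corresponding statement for modules over a reduced Noetherian ring,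
a subcurve being a set of minimal primes, and identifies each torsion-free quotient with F_D for D
the set of generic points of its support.) -/
theorem result (R : Type u) [CommRing R] [IsNoetherianRing R] [IsReduced R] (M : Type u) [AddCommGroup M] [Module R M] [Module.Finite R M] (hM : associatedPrimes R M ⊆ minimalPrimes R) (hrk : ∀ p : PrimeSpectrum R, p.asIdeal ∈ minimalPrimes R → Module.finrank (Localization.AtPrime p.asIdeal) (LocalizedModule p.asIdeal.primeCompl M) = 1) (Q : Type u) [AddCommGroup Q] [Module R Q] [Module.Finite R Q] (hQ : associatedPrimes R Q ⊆ minimalPrimes R) (g : M →ₗ[R] Q) (hg : Function.Surjective g) : LinearMap.ker g = ⨅ p ∈ {p : PrimeSpectrum R | p.asIdeal ∈ minimalPrimes R ∧ p ∈ Module.support R Q}, LinearMap.ker (LocalizedModule.mkLinearMap p.asIdeal.primeCompl M) := by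
  exact Aux.main hM hrk Q hQ g hg

end Groth.Agent.S13995
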