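import Groth.Statements.S13996
import Mathlib

set_option autoImplicit false
universe u
open CAlg

namespace Groth.Agent.S13996

/-- Let R be a reduced Noetherian local ring of Krull dimension one with maximal ideal m, and M a
non-zero finitely generated R-module. Then M is torsion-free in the sense that no element of m which
is a non-zero-divisor on R is a zero-divisor on M, if and only if M has depth one, i.e. some element
of m is a non-zero-divisor on M. (The published statement is for a non-zero coherent sheaf F on a
connected reduced projective curve over a characteristic-zero algebraically closed field and asserts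
the equivalence of: F torsion-free in the above sense at every closed point; F pure of dimension
one; depth of F_p equal to one at every closed point p. This row is the equivalence of the first and
third conditions at a single closed point p with F_p ≠ 0; at points outside the support the third
condition as published cannot hold, so the row assumes the stalk non-zero.) -/
theorem result (R : Type u) [CommRing R] [IsLocalRing R] [IsNoetherianRing R] [IsReduced R] (hdim : ringKrullDim R = 1) (M : Type u) [AddCommGroup M] [Module R M] [Module.Finite R M] [Nontrivial M] : (∀ r : R, r ∈ IsLocalRing.maximalIdeal R → IsSMulRegular R r → IsSMulRegular M r) ↔ (∃ x : R, x ∈ IsLocalRing.maximalIdeal R ∧ IsSMulRegular M x) := by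
  classical
  -- height of the maximal ideal is 1
  have hht : (IsLocalRing.maximalIdeal R).height = 1 := by
    have h := IsLocalRing.maximalIdeal_height_eq_ringKrullDim (R := R)
    rw [hdim] at h
    exact_mod_cast h
  have hmnotmin : IsLocalRing.maximalIdeal R ∉ minimalPrimes R := by
    rw [← Ideal.height_eq_zero_iff, hht]
    exact one_ne_zero
  -- elements outside all minimal primes are regular
  have hreg : ∀ r : R, (∀ p ∈ minimalPrimes R, r ∉ p) → IsSMulRegular R r := by
    intro r hr
    rw [isSMulRegular_iff_right_eq_zero_of_smul]
    intro s hs
    have hs' : s ∈ sInf (minimalPrimes R) := by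
      rw [Ideal.mem_sInf]
      intro p hp
      have hp' : p.IsPrime := hp.1.1
      have : r * s ∈ p := by
        rw [smul_eq_mul] at hs; rw [hs]; exact p.zero_mem
      exact (hp'.mem_or_mem this).resolve_left (hr p hp)
    have hnil : sInf (minimalPrimes R) = nilradical R := Ideal.sInf_minimalPrimes
    rw [hnil, nilradical_eq_zero] at hs'
    simpa using hs'
  -- regular elements are outside minimal primes
  have hreg' : ∀ r : R, IsSMulRegular R r → ∀ p ∈ minimalPrimes R, r ∉ p := by
    intro r hr p hp hrp
    have hdisj := Ideal.disjoint_nonZeroDivisors_of_mem_minimalPrimes hp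
    have hr' : r ∈ nonZeroDivisors R := by
      rw [mem_nonZeroDivisors_iff_right]
      intro s hs
      rw [isSMulRegular_iff_right_eq_zero_of_smul] at hr
      apply hr
      rw [smul_eq_mul, mul_comm]; exact hs
    exact Set.disjoint_left.mp hdisj hrp hr'
  constructor
  · intro h
    -- find r in m outside all minimal primes
    have hfin := minimalPrimes.finite_of_isNoetherianRing R
    have hnot : ¬ ((IsLocalRing.maximalIdeal R : Set R) ⊆ ⋃ p ∈ (hfin.toFinset : Set (Ideal R)), (id p : Ideal R)) := by
      intro hsub
      rw [Ideal.subset_union_prime (R := R) (f := id) ⊤ ⊤] at hsub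
      · obtain ⟨p, hp, hle⟩ := hsub
        rw [Set.Finite.mem_toFinset] at hp
        have hp' : p.IsPrime := hp.1.1
        have : p = IsLocalRing.maximalIdeal R :=
          le_antisymm (IsLocalRing.le_maximalIdeal hp'.ne_top) hle
        exact hmnotmin (this ▸ hp)
      · intro p hp _ _
        rw [Set.Finite.mem_toFinset] at hp
        exact hp.1.1
    rw [Set.not_subset] at hnot
    obtain ⟨r, hrm, hrn⟩ := hnot
    refine ⟨r, hrm, h r hrm (hreg r ?_)⟩
    intro p hp hrp
    apply hrn
    simp only [Set.mem_iUnion]
    exact ⟨p, by simpa using hp, hrp⟩
  · rintro ⟨x, hxm, hx⟩ r hrm hr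
    by_contra hnr
    have hmem : r ∈ ({r : R | IsSMulRegular M r})ᶜ := hnr
    rw [← biUnion_associatedPrimes_eq_compl_regular R M] at hmem
    simp only [Set.mem_iUnion] at hmem
    obtain ⟨p, hp, hrp⟩ := hmem
    have hpass : IsAssociatedPrime p M := hp
    have hpprime : p.IsPrime := hpass.isPrime
    have hpnotmin : p ∉ minimalPrimes R := fun hmin => hreg' r hr p hmin hrp
    have hpm : p = IsLocalRing.maximalIdeal R := by
      by_contra hne
      have hlt : p < IsLocalRing.maximalIdeal R :=
        lt_of_le_of_ne (IsLocalRing.le_maximalIdeal hpprime.ne_top) hne
      have h1 := Ideal.height_add_one_le_of_lt_of_isPrime hlt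
      rw [hht] at h1
      have h0 : p.height = 0 := by
        have : p.height + 1 ≤ 0 + 1 := by simpa using h1
        exact le_antisymm ((ENat.add_le_add_iff_right (by simp)).mp this) zero_le
      exact hpnotmin (Ideal.height_eq_zero_iff.mp h0)
    rw [isAssociatedPrime_iff] at hpass
    obtain ⟨-, y, hy⟩ := hpass
    have hxy : x ∈ Submodule.colon (⊥ : Submodule R M) {y} := by
      rw [← hy, hpm]; exact hxm
    rw [Submodule.mem_colon_singleton, Submodule.mem_bot] at hxy
    have hy0 : y = 0 := by
      rw [isSMulRegular_iff_right_eq_zero_of_smul] at hx
      exact hx y hxy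
    have : p = ⊤ := by
      rw [hy, hy0]
      ext s
      simp [Submodule.mem_colon_singleton]
    exact hpprime.ne_top this

end Groth.Agent.S13996
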