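import Groth.Statements.S14000
import Mathlib

set_option autoImplicit false
universe u
open Perf

namespace Groth.Agent.S14000

section
open CategoryTheory CategoryTheory.Limits

theorem step {R : Type u} [CommRing R] [IsLocalRing R] {M N : Type u} [AddCommGroup M] [Module R M]
    [Module.Finite R M] [Module.Projective R M] [AddCommGroup N] [Module R N]
    (f : M →ₗ[R] N) (hZ' : Module.Projective R (LinearMap.range f)) :
    Module.Projective R (LinearMap.ker f) ∧ Module.Finite R (LinearMap.ker f) ∧
      Module.finrank R M = Module.finrank R (LinearMap.ker f)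
        + Module.finrank R (LinearMap.range f) := by
  let g : M →ₗ[R] LinearMap.range f := f.rangeRestrict
  have hg : Function.Surjective g := LinearMap.surjective_rangeRestrict f
  obtain ⟨σ, hσ⟩ := Module.projective_lifting_property g LinearMap.id hg
  have hσ' : ∀ w, g (σ w) = w := fun w => LinearMap.congr_fun hσ w
  have hgval : ∀ m, ((g m : LinearMap.range f) : N) = f m := fun m => rfl
  have hker : ∀ m, m - σ (g m) ∈ LinearMap.ker f := by
    intro m
    rw [LinearMap.mem_ker, map_sub, ← hgval (σ (g m)), hσ', hgval, sub_self]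
  let ρ : M →ₗ[R] LinearMap.ker f :=
    (LinearMap.id - σ.comp g).codRestrict (LinearMap.ker f) (by
      intro m
      simpa using hker m)
  have hρval : ∀ m, ((ρ m : LinearMap.ker f) : M) = m - σ (g m) := fun m => rfl
  have hgz : ∀ z : LinearMap.ker f, g (z : M) = 0 := by
    intro z
    apply Subtype.ext
    rw [hgval]
    exact z.2
  have hρz : ∀ z : LinearMap.ker f, ρ (z : M) = z := by
    intro z
    apply Subtype.ext
    rw [hρval, hgz, map_zero, sub_zero]
  have hproj : Module.Projective R (LinearMap.ker f) :=
    Module.Projective.of_split (LinearMap.ker f).subtype ρ (by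
      ext z
      simp only [LinearMap.comp_apply, Submodule.subtype_apply, LinearMap.id_apply]
      rw [hρz])
  have hfin : Module.Finite R (LinearMap.ker f) :=
    Module.Finite.of_surjective ρ (fun z => ⟨z, hρz z⟩)
  have hfin' : Module.Finite R (LinearMap.range f) := Module.Finite.of_surjective g hg
  refine ⟨hproj, hfin, ?_⟩
  have hfree : Module.Free R (LinearMap.ker f) := Module.free_of_flat_of_isLocalRing
  have hfree' : Module.Free R (LinearMap.range f) := Module.free_of_flat_of_isLocalRing
  have hρσ : ∀ w, ρ (σ w) = 0 := by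
    intro w
    apply Subtype.ext
    rw [hρval, hσ', sub_self]
    rfl
  let e : M ≃ₗ[R] (LinearMap.ker f) × (LinearMap.range f) :=
    { toFun := fun m => (ρ m, g m)
      map_add' := by
        intro a b
        simp only [map_add, Prod.mk_add_mk]
      map_smul' := by
        intro c a
        simp only [map_smul, RingHom.id_apply, Prod.smul_mk]
      invFun := fun p => (p.1 : M) + σ p.2
      left_inv := by
        intro m
        change ((ρ m : LinearMap.ker f) : M) + σ (g m) = m
        rw [hρval]
        abel
      right_inv := by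
        rintro ⟨z, w⟩
        change (ρ ((z : M) + σ w), g ((z : M) + σ w)) = (z, w)
        rw [map_add, map_add, hρz, hgz, hσ', hρσ, zero_add, add_zero] }
  rw [e.finrank_eq, Module.finrank_prod]

theorem seq_lemma {R : Type u} [CommRing R] [IsLocalRing R] (M : ℤ → Type u)
    [∀ i, AddCommGroup (M i)] [∀ i, Module R (M i)] [∀ i, Module.Finite R (M i)]
    [∀ i, Module.Projective R (M i)] (d : ∀ i, M i →ₗ[R] M (i + 1))
    (hdd : ∀ i (x : M i), d (i + 1) (d i x) = 0)
    (hex : ∀ i, LinearMap.ker (d (i + 1)) ≤ LinearMap.range (d i))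
    (b : ℤ) (hb : ∀ i, b ≤ i → Subsingleton (M i)) :
    ∀ i, Module.finrank R (M i) = Module.finrank R (LinearMap.ker (d i))
      + Module.finrank R (LinearMap.ker (d (i + 1))) := by
  have hrange : ∀ i, LinearMap.range (d i) = LinearMap.ker (d (i + 1)) := by
    intro i
    apply le_antisymm
    · rintro _ ⟨x, rfl⟩
      exact hdd i x
    · exact hex i
  have key : ∀ n : ℕ, ∀ i : ℤ, b ≤ i + n → Module.Projective R (LinearMap.ker (d i)) := by
    intro n
    induction n with
    | zero =>
      intro i hi
      have : Subsingleton (M i) := hb i (by simpa using hi)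
      have : Subsingleton (LinearMap.ker (d i)) := inferInstance
      exact Module.Projective.of_free
    | succ n ih =>
      intro i hi
      have h1 : Module.Projective R (LinearMap.ker (d (i + 1))) :=
        ih (i + 1) (by push_cast at hi; omega)
      have h2 : Module.Projective R (LinearMap.range (d i)) :=
        Module.Projective.of_equiv (LinearEquiv.ofEq _ _ (hrange i)).symm
      exact (step (d i) h2).1
  intro i
  have h1 : Module.Projective R (LinearMap.ker (d (i + 1))) :=
    key (b - (i + 1)).toNat (i + 1) (by omega)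
  have h2 : Module.Projective R (LinearMap.range (d i)) :=
    Module.Projective.of_equiv (LinearEquiv.ofEq _ _ (hrange i)).symm
  rw [(step (d i) h2).2.2, (LinearEquiv.ofEq _ _ (hrange i)).finrank_eq]

theorem arith (s : Finset ℤ) (r z : ℤ → ℤ) (hr : ∀ i, r i = z i + z (i + 1))
    (hz1 : ∀ i, i ∉ s → z i = 0) (hz2 : ∀ i, i ∉ s → z (i + 1) = 0) :
    (s.sum fun i => ((i.negOnePow : ℤˣ) : ℤ) * r i) = 0 := by
  classical
  let F : ℤ → ℤ := fun j => ((j.negOnePow : ℤˣ) : ℤ) * z j
  have hF : ∀ j, j ∉ s → F j = 0 := by
    intro j hj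
    change _ * z j = 0
    rw [hz1 j hj, mul_zero]
  have hterm : ∀ i, ((i.negOnePow : ℤˣ) : ℤ) * r i = F i - F (i + 1) := by
    intro i
    change _ = _ * z i - _ * z (i + 1)
    rw [hr i, Int.negOnePow_succ]
    simp only [Units.val_neg]
    ring
  rw [Finset.sum_congr rfl (fun i _ => hterm i), Finset.sum_sub_distrib]
  let e : ℤ ↪ ℤ := ⟨fun i => i + 1, fun a b h => by simpa using h⟩
  have h2 : (s.sum fun i => F (i + 1)) = (s.map e).sum F := by
    rw [Finset.sum_map]
    rfl
  rw [h2]
  have hA : s.sum F = (s ∪ s.map e).sum F := by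
    apply Finset.sum_subset Finset.subset_union_left
    intro j _ hj
    exact hF j hj
  have hB : (s.map e).sum F = (s ∪ s.map e).sum F := by
    apply Finset.sum_subset Finset.subset_union_right
    intro j _ hj
    have hj' : j - 1 ∉ s := by
      intro h
      apply hj
      rw [Finset.mem_map]
      exact ⟨j - 1, h, by change j - 1 + 1 = j; ring⟩
    have := hz2 (j - 1) hj'
    change _ * z j = 0
    rw [show j = j - 1 + 1 by ring, this, mul_zero]
  rw [hA, hB, sub_self]

theorem loc_exact {A : Type u} [CommRing A] (S : Submonoid A) {M N L : Type u}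
    [AddCommGroup M] [Module A M] [AddCommGroup N] [Module A N] [AddCommGroup L] [Module A L]
    (f : M →ₗ[A] N) (g : N →ₗ[A] L)
    (h : ∀ z, g z = 0 → ∃ r ∈ S, ∃ y, f y = r • z) :
    LinearMap.ker (LocalizedModule.map S g) ≤ LinearMap.range (LocalizedModule.map S f) := by
  intro x hx
  induction x using LocalizedModule.induction_on with
  | h m s =>
    rw [LinearMap.mem_ker, LocalizedModule.map_mk, ← LocalizedModule.zero_mk 1,
      LocalizedModule.mk_eq, one_smul, smul_zero] at hx
    obtain ⟨u, hu⟩ := hx
    rw [smul_zero] at hu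
    have hgu : g (u • m) = 0 := by
      rw [Submonoid.smul_def, map_smul]
      exact hu
    obtain ⟨r, hr, y, hy⟩ := h _ hgu
    refine ⟨LocalizedModule.mk y (⟨r, hr⟩ * u * s), ?_⟩
    rw [LocalizedModule.map_mk, hy]
    rw [LocalizedModule.mk_eq]
    refine ⟨1, ?_⟩
    simp only [one_smul]
    simp only [Submonoid.smul_def, Submonoid.coe_mul, smul_smul]
    congr 1
    ring


theorem homology_vanish {A : Type u} [CommRing A] (P : CochainComplex (ModuleCat.{u} A) ℤ)
    (S : Submonoid A) (i j k : ℤ) (hij : i + 1 = j) (hjk : j + 1 = k)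
    (h : Subsingleton (LocalizedModule S (P.homology j)))
    (z : P.X j) (hz : (P.d j k).hom z = 0) :
    ∃ r ∈ S, ∃ y : P.X i, (P.d i j).hom y = r • z := by
  have hi : (ComplexShape.up ℤ).prev j = i := by
    rw [CochainComplex.prev]; omega
  have hk : (ComplexShape.up ℤ).next j = k := by
    rw [CochainComplex.next]; omega
  subst hi
  subst hk
  let T := P.sc j
  let iso := T.moduleCatHomologyIso
  have hz' : z ∈ LinearMap.ker T.g.hom := hz
  let cls : T.moduleCatLeftHomologyData.H :=
    (Submodule.Quotient.mk ⟨z, hz'⟩ : LinearMap.ker T.g.hom ⧸ LinearMap.range T.moduleCatToCycles)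
  obtain ⟨r, hr, hr0⟩ := LocalizedModule.subsingleton_iff.mp h (iso.inv.hom cls)
  refine ⟨r, hr, ?_⟩
  have h2 : iso.hom.hom (iso.inv.hom cls) = cls := by
    have := iso.inv_hom_id
    exact congrArg (fun φ => φ.hom cls) this
  have h1 : r • cls = 0 := by
    have e1 : iso.hom.hom (r • iso.inv.hom cls) = iso.hom.hom 0 := congrArg _ hr0
    rw [map_zero, map_smul, h2] at e1
    exact e1
  have h1' : r • (Submodule.Quotient.mk ⟨z, hz'⟩ :
      LinearMap.ker T.g.hom ⧸ LinearMap.range T.moduleCatToCycles) = 0 := h1
  have h3 : (r • (⟨z, hz'⟩ : LinearMap.ker T.g.hom)) ∈ LinearMap.range T.moduleCatToCycles := by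
    rw [← Submodule.Quotient.mk_eq_zero, Submodule.Quotient.mk_smul]
    exact h1'
  obtain ⟨y, hy⟩ := h3
  exact ⟨y, congrArg Subtype.val hy⟩

theorem main {A : Type u} [CommRing A]
    (P : CochainComplex (ModuleCat.{u} A) ℤ) (s : Finset ℤ)
    (hP : ∀ i : ℤ, Module.Finite A (P.X i) ∧ Module.Projective A (P.X i))
    (hs : ∀ i : ℤ, i ∉ s → IsZero (P.X i))
    (hsupp : ∀ q : PrimeSpectrum A, q.asIdeal ∈ minimalPrimes A →
      ∀ i : ℤ, Subsingleton (LocalizedModule q.asIdeal.primeCompl (P.homology i))) :
    ∀ x : PrimeSpectrum A,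
      (s.sum fun i => ((i.negOnePow : ℤˣ) : ℤ) * (Module.rankAtStalk (R := A) (P.X i) x : ℤ)) = 0 := by
  intro x
  obtain ⟨q, hqmin, hqx⟩ := Ideal.exists_minimalPrimes_le (bot_le : (⊥ : Ideal A) ≤ x.asIdeal)
  have hqprime : q.IsPrime := hqmin.1.1
  let q' : PrimeSpectrum A := ⟨q, hqprime⟩
  have hfin : ∀ i, Module.Finite A (P.X i) := fun i => (hP i).1
  have hproj : ∀ i, Module.Projective A (P.X i) := fun i => (hP i).2
  have hrk : ∀ i, Module.rankAtStalk (R := A) (P.X i) x
      = Module.rankAtStalk (R := A) (P.X i) q' := by
    intro i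
    exact (Module.rankAtStalk_eq_of_le_of_finite_of_flat (P.X i) (show q' ≤ x from hqx)).symm
  simp only [hrk]
  have hsub : ∀ i, i ∉ s → Subsingleton (P.X i) := fun i hi =>
    ModuleCat.subsingleton_of_isZero (hs i hi)
  obtain ⟨B, hB⟩ := s.exists_le
  have hseq := seq_lemma (R := Localization q.primeCompl)
    (fun i => LocalizedModule q.primeCompl (P.X i))
    (fun i => LocalizedModule.map q.primeCompl (P.d i (i + 1)).hom)
    (by
      intro i x
      induction x using LocalizedModule.induction_on with
      | h m t =>
        rw [LocalizedModule.map_mk, LocalizedModule.map_mk]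
        have : (P.d (i + 1) (i + 1 + 1)).hom ((P.d i (i + 1)).hom m) = 0 := by
          have := P.d_comp_d i (i + 1) (i + 1 + 1)
          exact congrArg (fun φ => φ.hom m) this
        rw [this, LocalizedModule.zero_mk])
    (by
      intro i
      apply loc_exact
      intro z hz
      exact homology_vanish P q.primeCompl i (i + 1) (i + 1 + 1) rfl rfl
        (hsupp q' hqmin (i + 1)) z hz)
    (B + 1)
    (by
      intro i hi
      have : i ∉ s := fun h => by have := hB i h; omega
      have := hsub i this
      infer_instance)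
  apply arith s
    (fun i => (Module.rankAtStalk (R := A) (P.X i) q' : ℤ))
    (fun i => (Module.finrank (Localization q.primeCompl)
      (LinearMap.ker (LocalizedModule.map q.primeCompl (P.d i (i + 1)).hom)) : ℤ))
  · intro i
    have := hseq i
    change ((Module.finrank (Localization q.primeCompl)
      (LocalizedModule q.primeCompl (P.X i)) : ℕ) : ℤ) = _
    rw [this]
    push_cast
    rfl
  · intro i hi
    have := hsub i hi
    have : Subsingleton (LocalizedModule q.primeCompl (P.X i)) := inferInstance
    have h0 : Module.finrank (Localization q.primeCompl)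
      (LinearMap.ker (LocalizedModule.map q.primeCompl (P.d i (i + 1)).hom)) = 0 :=
      Module.finrank_zero_of_subsingleton
    change ((_ : ℕ) : ℤ) = 0
    rw [h0]
    rfl
  · intro i hi
    have := hsub i hi
    have : Subsingleton (LocalizedModule q.primeCompl (P.X i)) := inferInstance
    have h0 : Module.finrank (Localization q.primeCompl)
      (LocalizedModule q.primeCompl (P.X i)) = 0 :=
      Module.finrank_zero_of_subsingleton
    have h1 := hseq i
    rw [h0] at h1
    have h2 : Module.finrank (Localization q.primeCompl)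
      (LinearMap.ker (LocalizedModule.map q.primeCompl (P.d (i + 1) (i + 1 + 1)).hom)) = 0 := by
      omega
    change ((_ : ℕ) : ℤ) = 0
    rw [h2]
    rfl


end


open CategoryTheory CategoryTheory.Limits in
/-- Let A be a commutative ring and P a strictly perfect complex over A, that is a cochain complex of
finitely generated projective A-modules which is zero outside a finite set s of degrees. Suppose the
cohomological support of P has positive codimension: for every minimal prime q of A and every degree
i the localization at q of the cohomology module H^i(P) is zero. Then the Euler characteristic of P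
vanishes identically: at every prime of A the alternating sum over i ∈ s of the ranks of the P^i is
zero. -/
theorem result {A : Type u} [CommRing A]
    (P : CochainComplex (ModuleCat.{u} A) ℤ) (s : Finset ℤ)
    (hP : ∀ i : ℤ, Module.Finite A (P.X i) ∧ Module.Projective A (P.X i))
    (hs : ∀ i : ℤ, i ∉ s → IsZero (P.X i))
    (hsupp : ∀ q : PrimeSpectrum A, q.asIdeal ∈ minimalPrimes A →
      ∀ i : ℤ, Subsingleton (LocalizedModule q.asIdeal.primeCompl (P.homology i))) :
    ∀ x : PrimeSpectrum A,
      (s.sum fun i => ((i.negOnePow : ℤˣ) : ℤ) * (Module.rankAtStalk (R := A) (P.X i) x : ℤ)) = 0 := by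
  classical
  exact main P s hP hs hsupp

end Groth.Agent.S14000
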