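import Groth.Statements.S14002
import Mathlib

set_option autoImplicit false
universe u
open CAlg

namespace Groth.Agent.S14002

open TensorProduct

theorem flat_sub {B B' A N N' : Type*} [CommRing B] [CommRing B'] [Algebra B B']
    [AddCommGroup A] [Module B A]
    [AddCommGroup N] [Module B N] [Module B' N] [IsScalarTower B B' N]
    [AddCommGroup N'] [Module B N'] [Module B' N'] [IsScalarTower B B' N']
    [Module.Flat B' (B' ⊗[B] A)] (ι : N →ₗ[B'] N') (hι : Function.Injective ι) :
    Function.Injective (LinearMap.rTensor A (ι.restrictScalars B)) := by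
  have h1 : Function.Injective (LinearMap.rTensor (B' ⊗[B] A) ι) :=
    Module.Flat.rTensor_preserves_injective_linearMap (M := B' ⊗[B] A) ι hι
  let e := TensorProduct.AlgebraTensorModule.cancelBaseChange B B' B' N A
  let e' := TensorProduct.AlgebraTensorModule.cancelBaseChange B B' B' N' A
  have hcomm : ∀ t, LinearMap.rTensor A (ι.restrictScalars B) (e t) = e' (LinearMap.rTensor (B' ⊗[B] A) ι t) := by
    intro t
    induction t using TensorProduct.induction_on with
    | zero => simp
    | add x y hx hy => simp only [map_add, hx, hy]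
    | tmul n w =>
      induction w using TensorProduct.induction_on with
      | zero => simp
      | add x y hx hy => simp only [tmul_add, map_add, hx, hy]
      | tmul b a =>
        simp only [e, e', LinearMap.rTensor_tmul, TensorProduct.AlgebraTensorModule.cancelBaseChange_tmul,
          LinearMap.coe_restrictScalars, map_smul]
  rw [injective_iff_map_eq_zero]
  intro u hu
  have h2 : u = e (e.symm u) := (e.apply_symm_apply u).symm
  rw [h2, hcomm] at hu
  have h3 : LinearMap.rTensor (B' ⊗[B] A) ι (e.symm u) = 0 := by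
    have := e'.injective (a₁ := LinearMap.rTensor (B' ⊗[B] A) ι (e.symm u)) (a₂ := 0)
    apply this
    rw [hu, map_zero]
  have h4 : e.symm u = 0 := by
    apply h1
    rw [h3, map_zero]
  rw [h2, h4, map_zero]

theorem flat_of_quot (B A : Type u) [CommRing B] [CommRing A]
    [IsNoetherianRing B] [IsNoetherianRing A] [Algebra B A] (J : Ideal B)
    [IsAdicComplete (J.map (algebraMap B A)) A]
    (h : ∀ n : ℕ, 0 < n → Module.Flat (B ⧸ J ^ n) ((B ⧸ J ^ n) ⊗[B] A)) : Module.Flat B A := by
  rw [Module.Flat.iff_lTensor_injective']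
  intro 𝔞
  rw [injective_iff_map_eq_zero]
  intro x hx
  set JA := J.map (algebraMap B A) with hJA
  have hjac : JA ≤ (⊥ : Ideal A).jacobson := IsAdicComplete.le_jacobson_bot JA
  have hkrull := Ideal.iInf_pow_smul_eq_bot_of_le_jacobson (M := A ⊗[B] 𝔞) JA hjac
  obtain ⟨k, hk⟩ := Ideal.exists_pow_inf_eq_pow_smul J (𝔞 : Submodule B B)
  suffices hmem : ∀ n : ℕ, x ∈ (JA ^ n • ⊤ : Submodule A (A ⊗[B] 𝔞)) by
    have : x ∈ (⨅ i : ℕ, JA ^ i • ⊤ : Submodule A (A ⊗[B] 𝔞)) := by
      rw [Submodule.mem_iInf]; exact hmem
    rw [hkrull] at this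
    exact this
  intro n
  set m := n + k + 1 with hm
  have hm0 : 0 < m := by omega
  have := h m hm0
  -- the ideal 𝔞 B' of B' = B / J^m
  let B' := B ⧸ J ^ m
  let N : Ideal B' := 𝔞.map (Ideal.Quotient.mk (J ^ m))
  let q' : 𝔞 →ₗ[B] N :=
    { toFun := fun a => ⟨Ideal.Quotient.mk (J ^ m) a.1, Ideal.mem_map_of_mem _ a.2⟩
      map_add' := fun a b => by ext; simp
      map_smul' := fun r a => by
        ext
        simp only [Submodule.coe_smul, smul_eq_mul, map_mul, RingHom.id_apply]
        rfl }
  have hq'surj : Function.Surjective q' := by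
    rintro ⟨y, hy⟩
    rw [Ideal.mem_map_iff_of_surjective _ Ideal.Quotient.mk_surjective] at hy
    obtain ⟨a, ha, rfl⟩ := hy
    exact ⟨⟨a, ha⟩, rfl⟩
  let ι : N →ₗ[B'] B' := Submodule.subtype N
  have hι : Function.Injective ι := Submodule.subtype_injective N
  have hinjr := flat_sub (B := B) (B' := B') (A := A) ι hι
  have hinjl : Function.Injective (LinearMap.lTensor A (ι.restrictScalars B)) :=
    (LinearMap.lTensor_inj_iff_rTensor_inj _ _).2 hinjr
  -- y := image of x in A ⊗ N vanishes
  have hcomp : (ι.restrictScalars B) ∘ₗ q' = (Submodule.mkQ (J ^ m : Submodule B B)) ∘ₗ (Submodule.subtype 𝔞) := by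
    ext a
    rfl
  have hy : LinearMap.lTensor A q' x = 0 := by
    apply hinjl
    rw [map_zero, ← LinearMap.comp_apply, ← LinearMap.lTensor_comp, hcomp, LinearMap.lTensor_comp,
      LinearMap.comp_apply, hx, map_zero]
  have hex := lTensor_exact A (LinearMap.exact_subtype_ker_map q') hq'surj
  obtain ⟨z, hz⟩ := (hex x).1 hy
  rw [← hz]
  clear hz
  -- now every element of the kernel is in J^(m-k) 𝔞
  have hker : ∀ w : LinearMap.ker q', (w : 𝔞) ∈ (J ^ (m - k) • ⊤ : Submodule B 𝔞) := by
    intro w
    rw [Submodule.mem_smul_top_iff]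
    have hw : ((w : 𝔞) : B) ∈ (J ^ m • ⊤ ⊓ (𝔞 : Submodule B B) : Submodule B B) := by
      refine ⟨?_, (w : 𝔞).2⟩
      have h1 : q' (w : 𝔞) = 0 := w.2
      have h2 : Ideal.Quotient.mk (J ^ m) ((w : 𝔞) : B) = 0 := congrArg Subtype.val h1
      rw [Ideal.Quotient.eq_zero_iff_mem] at h2
      simpa using h2
    rw [hk m (by omega)] at hw
    exact Submodule.smul_mono le_rfl inf_le_right hw
  have hpow : ∀ (a : A) (w : 𝔞), w ∈ (J ^ (m - k) • ⊤ : Submodule B 𝔞) →
      a ⊗ₜ[B] w ∈ (JA ^ (m - k) • ⊤ : Submodule A (A ⊗[B] 𝔞)) := by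
    intro a w hw
    refine Submodule.smul_induction_on hw ?_ ?_
    · intro j hj w' _
      have h1 : a ⊗ₜ[B] (j • w') = (algebraMap B A j) • (a ⊗ₜ[B] w') := by
        rw [TensorProduct.tmul_smul, TensorProduct.smul_tmul', TensorProduct.smul_tmul', Algebra.smul_def,
          smul_eq_mul]
      rw [h1]
      apply Submodule.smul_mem_smul _ Submodule.mem_top
      rw [hJA, ← Ideal.map_pow]
      exact Ideal.mem_map_of_mem _ hj
    · intro w1 w2 h1 h2
      rw [TensorProduct.tmul_add]
      exact Submodule.add_mem _ h1 h2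
  have hle : (JA ^ (m - k) • ⊤ : Submodule A (A ⊗[B] 𝔞)) ≤ JA ^ n • ⊤ := by
    apply Submodule.smul_mono_left
    apply Ideal.pow_le_pow_right
    omega
  apply hle
  induction z using TensorProduct.induction_on with
  | zero => rw [map_zero]; exact Submodule.zero_mem _
  | add z1 z2 h1 h2 => rw [map_add]; exact Submodule.add_mem _ h1 h2
  | tmul a w =>
    rw [LinearMap.lTensor_tmul]
    exact hpow a _ (hker w)

open TensorProduct in
/-- Flatness of an adic morphism of locally Noetherian formal schemes is detected on the truncations.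
Let B → A be a homomorphism of Noetherian rings and J an ideal of B such that A is adically
separated and complete with respect to the extended ideal JA. Then A is a flat B-module if and only
if for every n ≥ 1 the base change (B/Jⁿ) ⊗_B A = A/JⁿA is a flat (B/Jⁿ)-module. The ring B is not
assumed separated or complete for the J-adic topology. (The published statement is about an adic
morphism of locally Noetherian formal schemes, so that both rings are adic there; the criterion
holds without that assumption on B.) -/
theorem result (B A : Type u) [CommRing B] [CommRing A]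
    [IsNoetherianRing B] [IsNoetherianRing A] [Algebra B A] (J : Ideal B)
    [IsAdicComplete (J.map (algebraMap B A)) A] :
    Module.Flat B A ↔ ∀ n : ℕ, 0 < n → Module.Flat (B ⧸ J ^ n) ((B ⧸ J ^ n) ⊗[B] A) := by
  classical
  constructor
  · intro hflat n _
    infer_instance
  · intro h
    exact flat_of_quot B A J h

end Groth.Agent.S14002
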