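import Groth.Statements.S14005
import Mathlib

set_option autoImplicit false
universe u
open CategoryTheory AlgebraicGeometry
open CohTop

namespace Groth.Agent.S14005

section
open CategoryTheory AlgebraicGeometry TopologicalSpace Opposite

variable {X : Scheme.{u}} (F : TopCat.Sheaf AddCommGrpCat.{u} X.carrier)

theorem fwd (x : X) (s : F.presheaf.stalk x)
    (h : ∃ (U : X.Opens) (hx : x ∈ U) (t : F.presheaf.obj (Opposite.op U)),
        F.presheaf.germ U x hx t = s ∧
          ∀ (u : X) (hu : u ∈ U), F.presheaf.germ U u hu t ≠ 0 → u ∈ closure ({x} : Set X)) :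
    ∀ (y : X) (h : y ⤳ x), y ≠ x → F.presheaf.stalkSpecializes h s = 0 := by
  obtain ⟨U, hx, t, rfl, hsupp⟩ := h
  intro y hyx hne
  by_contra hc
  have hyU : y ∈ U := hyx.mem_open U.isOpen hx
  have h1 : F.presheaf.stalkSpecializes hyx (F.presheaf.germ U x hx t) =
      F.presheaf.germ U y hyU t := TopCat.Presheaf.germ_stalkSpecializes_apply _ _ _ _
  rw [h1] at hc
  have h2 := hsupp y hyU hc
  have h3 : x ⤳ y := specializes_iff_mem_closure.2 h2
  exact hne (hyx.antisymm h3).eq

/-- the support of a section, as a subset of the open set -/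
def supp (W : X.Opens) (t : F.presheaf.obj (op W)) : Set W :=
  {u | F.presheaf.germ W u.1 u.2 t ≠ 0}

theorem supp_closed (W : X.Opens) (t : F.presheaf.obj (op W)) : IsClosed (supp F W t) := by
  rw [← isOpen_compl_iff, isOpen_iff_forall_mem_open]
  intro u hu
  have hu0 : F.presheaf.germ W u.1 u.2 t = 0 := by
    by_contra hc
    exact hu hc
  have h0 : F.presheaf.germ W u.1 u.2 t = F.presheaf.germ W u.1 u.2 0 := by
    rw [hu0, map_zero]
  obtain ⟨V, hV, i₁, i₂, hres⟩ := TopCat.Presheaf.germ_eq F.presheaf u.1 u.2 u.2 t 0 h0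
  rw [map_zero] at hres
  refine ⟨{w : W | w.1 ∈ V}, ?_, V.isOpen.preimage continuous_subtype_val, hV⟩
  intro w hw hw'
  apply hw'
  have h1 := TopCat.Presheaf.germ_res_apply F.presheaf i₁ w.1 hw t
  rw [← h1, hres, map_zero]

theorem key {α : Type*} [TopologicalSpace α] [NoetherianSpace α] [QuasiSober α]
    (S : Set α) (hS : IsClosed S) (x : α) (hP : ∀ η ∈ S, η ⤳ x → η = x) :
    x ∉ closure (S \ closure {x}) := by
  intro hx
  obtain ⟨Fam, hfin, hcl, hirr, hU⟩ :=
    NoetherianSpace.exists_finite_set_isClosed_irreducible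
      (isClosed_closure (s := S \ closure {x}))
  have hBS : closure (S \ closure {x}) ⊆ S := closure_minimal Set.sdiff_subset hS
  have hZ' : ∀ Z ∈ Fam, x ∈ Z → Z ⊆ closure {x} := by
    intro Z hZ hxZ
    obtain ⟨η, hη⟩ := QuasiSober.sober (hirr Z hZ) (hcl Z hZ)
    have hηZ : η ∈ Z := hη.mem
    have hηS : η ∈ S := hBS (hU ▸ Set.mem_sUnion.2 ⟨Z, hZ, hηZ⟩)
    have hsp : η ⤳ x := by
      rw [specializes_iff_mem_closure, hη.def]
      exact hxZ
    have := hP η hηS hsp
    rw [← hη.def, this]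
  have hB₂ : IsClosed (⋃₀ {Z ∈ Fam | x ∉ Z}) := by
    rw [Set.sUnion_eq_biUnion]
    exact (hfin.subset (Set.sep_subset _ _)).isClosed_biUnion (fun Z hZ => hcl Z hZ.1)
  have hA : S \ closure {x} ⊆ ⋃₀ {Z ∈ Fam | x ∉ Z} := by
    intro a ha
    have h1 : a ∈ closure (S \ closure {x}) := subset_closure ha
    rw [hU] at h1
    obtain ⟨Z, hZ, haZ⟩ := Set.mem_sUnion.1 h1
    by_cases hxZ : x ∈ Z
    · exact absurd (hZ' Z hZ hxZ haZ) ha.2
    · exact Set.mem_sUnion.2 ⟨Z, ⟨hZ, hxZ⟩, haZ⟩
  have h2 := closure_minimal hA hB₂ hx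
  obtain ⟨Z, ⟨hZ, hxZ⟩, hxZ'⟩ := Set.mem_sUnion.1 h2
  exact hxZ hxZ'

theorem bwd (hX : ∀ x : X, ∃ U : X.Opens, x ∈ U ∧ NoetherianSpace U) (x : X)
    (s : F.presheaf.stalk x)
    (h : ∀ (y : X) (h : y ⤳ x), y ≠ x → F.presheaf.stalkSpecializes h s = 0) :
    ∃ (U : X.Opens) (hx : x ∈ U) (t : F.presheaf.obj (Opposite.op U)),
        F.presheaf.germ U x hx t = s ∧
          ∀ (u : X) (hu : u ∈ U), F.presheaf.germ U u hu t ≠ 0 → u ∈ closure ({x} : Set X) := by
  obtain ⟨U₁, hx₁, t₁, ht₁⟩ := TopCat.Presheaf.exists_germ_eq F.presheaf s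
  obtain ⟨U₂, hx₂, hN⟩ := hX x
  let W : X.Opens := U₁ ⊓ U₂
  have hxW : x ∈ W := ⟨hx₁, hx₂⟩
  have hWU₂ : (W : Set X) ⊆ U₂ := Set.inter_subset_right
  have hN' : NoetherianSpace (U₂ : Set X) := hN
  have hNW : NoetherianSpace W :=
    (Topology.IsEmbedding.inclusion hWU₂).isInducing.noetherianSpace
  have hQW : QuasiSober W := W.isOpenEmbedding.quasiSober
  let t₀ : F.presheaf.obj (op W) := F.presheaf.map (homOfLE (inf_le_left : W ≤ U₁)).op t₁
  have ht₀ : F.presheaf.germ W x hxW t₀ = s := by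
    rw [← ht₁]
    exact TopCat.Presheaf.germ_res_apply F.presheaf _ x hxW t₁
  let x' : W := ⟨x, hxW⟩
  have hP : ∀ η ∈ supp F W t₀, η ⤳ x' → η = x' := by
    intro η hη hsp
    by_contra hne
    have hsp' : η.1 ⤳ x := hsp.map continuous_subtype_val
    have hne' : η.1 ≠ x := fun e => hne (Subtype.ext e)
    have h1 := h η.1 hsp' hne'
    rw [← ht₀] at h1
    have h2 : F.presheaf.stalkSpecializes hsp' (F.presheaf.germ W x hxW t₀) =
        F.presheaf.germ W η.1 η.2 t₀ := TopCat.Presheaf.germ_stalkSpecializes_apply _ _ _ _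
    rw [h2] at h1
    exact hη h1
  have hk := key (supp F W t₀) (supp_closed F W t₀) x' hP
  let U : X.Opens := ⟨Subtype.val '' (closure (supp F W t₀ \ closure {x'}))ᶜ,
    W.2.isOpenMap_subtype_val _ isClosed_closure.isOpen_compl⟩
  have hUW : U ≤ W := by
    rintro _ ⟨w, -, rfl⟩
    exact w.2
  have hxU : x ∈ U := ⟨x', hk, rfl⟩
  refine ⟨U, hxU, F.presheaf.map (homOfLE hUW).op t₀, ?_, ?_⟩
  · rw [← ht₀]
    exact TopCat.Presheaf.germ_res_apply F.presheaf _ x hxU t₀
  · rintro _ ⟨w, hw, rfl⟩ hne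
    have h1 : F.presheaf.germ U w.1 ⟨w, hw, rfl⟩ (F.presheaf.map (homOfLE hUW).op t₀) =
        F.presheaf.germ W w.1 w.2 t₀ := TopCat.Presheaf.germ_res_apply F.presheaf _ w.1 _ t₀
    rw [h1] at hne
    have h2 : w ∈ supp F W t₀ := hne
    have h3 : w ∈ closure {x'} := by
      by_contra hc
      exact hw (subset_closure ⟨h2, hc⟩)
    rw [closure_subtype, Set.image_singleton] at h3
    exact h3

theorem main (hX : ∀ x : X, ∃ U : X.Opens, x ∈ U ∧ TopologicalSpace.NoetherianSpace U)
    (x : X) (s : F.presheaf.stalk x) :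
    (∃ (U : X.Opens) (hx : x ∈ U) (t : F.presheaf.obj (Opposite.op U)),
        F.presheaf.germ U x hx t = s ∧
          ∀ (u : X) (hu : u ∈ U), F.presheaf.germ U u hu t ≠ 0 → u ∈ closure ({x} : Set X)) ↔
      ∀ (y : X) (h : y ⤳ x), y ≠ x → F.presheaf.stalkSpecializes h s = 0 :=
  ⟨fwd F x s, bwd F hX x s⟩


end


/-- Take a scheme X with a locally Noetherian underlying topological space, F a sheaf of abelian groups
on X, x a point of X and s an element of the stalk F_x. Then the following are equivalent: (i) s is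
the germ of a section t over some open neighbourhood U of x whose support in U is contained in the
closure of {x} (that is, s belongs to the subgroup Γ_x(F) of F_x); (ii) for every generization y ≠ x
of x the image of s under the cospecialisation map F_x → F_y is zero (that is, viewed as a global
section of the inverse image of F on Spec O_{X,x}, s is supported at the closed point). -/
theorem result {X : Scheme.{u}}
    (hX : ∀ x : X, ∃ U : X.Opens, x ∈ U ∧ TopologicalSpace.NoetherianSpace U)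
    (F : TopCat.Sheaf AddCommGrpCat.{u} X.carrier) (x : X) (s : F.presheaf.stalk x) :
    (∃ (U : X.Opens) (hx : x ∈ U) (t : F.presheaf.obj (Opposite.op U)),
        F.presheaf.germ U x hx t = s ∧
          ∀ (u : X) (hu : u ∈ U), F.presheaf.germ U u hu t ≠ 0 → u ∈ closure ({x} : Set X)) ↔
      ∀ (y : X) (h : y ⤳ x), y ≠ x → F.presheaf.stalkSpecializes h s = 0 := by
  classical
  exact main F hX x s

end Groth.Agent.S14005
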