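import Groth.Statements.S14007
import Mathlib
import Groth.Agent.Lib.Helper3.K0Db
import Groth.Agent.Lib.Helper1.CohAbel
import Groth.Agent.Lib.Helper1.Dv8
import Groth.Agent.Lib.Helper5.ProperPush.CohExt
import Groth.Agent.Lib.Helper5.ProperPush.BddInd
import Groth.Agent.Lib.Helper5.Perf.LocalCoh
import Groth.Agent.Lib.Helper5.Perf.PerfCoh
import Groth.Agent.Lib.Helper5.Perf.PerfTri
import Groth.Agent.Lib.Helper5.BvdB.GenMV

set_option autoImplicit false
universe u
open CategoryTheory AlgebraicGeometry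
attribute [local instance] HasDerivedCategory.standard
open KZero



namespace Groth.Agent.S14007

/-- Let X be a Noetherian scheme and Y' ⊆ X a closed subset, and suppose that every coherent O_X-module
with support in Y', viewed in degree 0, is a perfect object of D(O_X). Write K_0(C) for the
Grothendieck group of the abelian category C of coherent O_X-modules supported in Y' (objects modulo
short exact sequences) and K_0(D) for that of the full triangulated subcategory D of D(O_X) on the
perfect complexes all of whose cohomology sheaves are supported in Y' (objects modulo distinguished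
triangles with vertices in D). Then the homomorphism K_0(C) → K_0(D) induced by G ↦ G[0] is an
isomorphism: there is an isomorphism of groups carrying the class of every G in C to the class of
G[0]. -/
theorem result (X : Scheme.{u}) [IsNoetherian X]
    (Y' : Set X) (hY' : IsClosed Y')
    (hperf : ∀ G : X.Modules, Coh.IsCoh G → CohB1.support G ⊆ Y' → DCoh.IsPerfect (DCoh.inD X G)) :
    ∃ φ : KZero.K0sub (fun G : X.Modules => Coh.IsCoh G ∧ CohB1.support G ⊆ Y') ≃+
        KZero.K0tr (fun K : DCoh.D X => DCoh.IsPerfect K ∧ ∀ i : ℤ, CohB1.support (DCoh.HD K i) ⊆ Y'),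
      ∀ G : X.Modules, Coh.IsCoh G → CohB1.support G ⊆ Y' →
        φ (KZero.clSub (fun G : X.Modules => Coh.IsCoh G ∧ CohB1.support G ⊆ Y') G) =
          KZero.clTr (fun K : DCoh.D X => DCoh.IsPerfect K ∧ ∀ i : ℤ, CohB1.support (DCoh.HD K i) ⊆ Y')
            (DCoh.inD X G) := by
  let P : ObjectProperty X.Modules := fun G : X.Modules => Coh.IsCoh G ∧ CohB1.support G ⊆ Y'
  haveI h1 : ObjectProperty.IsClosedUnderIsomorphisms P :=
    ⟨fun {M N} e hM => ⟨Groth.Agent.Lib.Helper5.LocalCoh.isCoh_of_iso e hM.1, by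
      rw [← Groth.Agent.Helper1.Dv.support_iso e]
      exact hM.2⟩⟩
  haveI h2 : ObjectProperty.ContainsZero P := by
    obtain ⟨Z, hZ⟩ := (inferInstance : Limits.HasZeroObject X.Modules).zero
    exact ⟨⟨Z, hZ, Groth.Agent.Lib.Helper5.CohExt.isCoh_of_isZero Z hZ, by
      rw [Groth.Agent.Helper1.Dv.support_isZero hZ]
      exact Set.empty_subset _⟩⟩
  haveI h3 : ObjectProperty.IsClosedUnderKernels P := by
    refine ⟨?_⟩
    rintro _ ⟨f, k, hk, hf⟩
    have e := Limits.IsLimit.conePointUniqueUpToIso (Limits.kernelIsKernel f) hk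
    refine ⟨Groth.Agent.Lib.Helper5.LocalCoh.isCoh_of_iso e
      (Groth.Agent.Helper1.FtLocal.isCoh_kernel hf.1.1 hf.2.1 f), ?_⟩
    rw [← Groth.Agent.Helper1.Dv.support_iso e]
    exact (Groth.Agent.Helper1.Dv.support_mono (Limits.kernel.ι f)).trans hf.1.2
  suffices hs : ∀ K : DCoh.D X, (DCoh.IsPerfect K ∧ ∀ i : ℤ, CohB1.support (DCoh.HD K i) ⊆ Y') ↔
      ((∀ i : ℤ, P ((DerivedCategory.homologyFunctor X.Modules i).obj K)) ∧ ∃ a b : ℤ,
        (DerivedCategory.TStructure.t (C := X.Modules)).IsGE K a ∧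
          (DerivedCategory.TStructure.t (C := X.Modules)).IsLE K b) by
    obtain ⟨φ, hφ⟩ := Groth.Agent.Helper3.K0Db.k0sub_main P
      (fun K : DCoh.D X => DCoh.IsPerfect K ∧ ∀ i : ℤ, CohB1.support (DCoh.HD K i) ⊆ Y') hs
    exact ⟨φ, fun G hG hG' => hφ G ⟨hG, hG'⟩⟩
  intro K
  constructor
  · rintro ⟨hK, hs⟩
    obtain ⟨a, b, ha, hb⟩ := Groth.Agent.Lib.Helper5.PerfCoh.bounded_of_isPerfect K hK
    exact ⟨fun i => ⟨Groth.Agent.Lib.Helper5.PerfCoh.isCohD_of_isPerfect K hK i, hs i⟩,
      a, b, ha, hb⟩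
  · rintro ⟨hP, a, b, ha, hb⟩
    refine ⟨?_, fun i => (hP i).2⟩
    haveI : K.IsGE a := ha
    haveI : K.IsLE b := hb
    exact Groth.Agent.Lib.Helper5.BddInd.bounded_induction' (C := X.Modules)
      (fun K : DCoh.D X => DCoh.IsPerfect K) (fun G : X.Modules => P G)
      (fun _ _ e h => P.prop_of_iso e h) (fun M hM => P.prop_of_isZero hM)
      (fun K hK => Groth.Agent.Lib.Helper5.BvdB.isPerfect_of_isZero K hK)
      (fun _ _ e h => Groth.Agent.Lib.Helper5.PerfTri.isPerfect_of_iso e h)
      (fun n M hM => Groth.Agent.Lib.Helper5.PerfTri.isPerfect_of_iso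
        (((DerivedCategory.singleFunctors X.Modules).shiftIso (-n) n 0 (by omega)).app M)
        (Groth.Agent.Lib.Helper5.PerfTri.isPerfect_shift (hperf M hM.1 hM.2) (-n)))
      (fun T hT h1 h3 => (Groth.Agent.Lib.Helper5.PerfTri.two_of_three T hT).2.1 h1 h3)
      K a b hP

end Groth.Agent.S14007
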