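import Groth.Statements.S14008
import Mathlib

set_option autoImplicit false
universe u
open FlatMor

namespace Groth.Agent.S14008

section
open AlgebraicGeometry CategoryTheory

section alg

theorem step_aux {R B : Type u} [CommRing R] [CommRing B] [Algebra R B]
    (A' : Subalgebra R B) (N : Ideal B) (t : Set B) (ht : Ideal.span t = N) (htA : t ⊆ A')
    (hAN : ∀ b : B, ∃ a ∈ A', b - a ∈ N) :
    ∀ k : ℕ, ∀ x ∈ N ^ k, ∃ a ∈ A', x - a ∈ N ^ (k + 1) := by
  intro k
  induction k with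
  | zero =>
    intro x _
    simpa using hAN x
  | succ k ih =>
    intro x hx
    rw [pow_succ] at hx
    -- Q z
    have hQ : ∀ z ∈ N, ∀ y ∈ N ^ k, ∃ a ∈ A', y * z - a ∈ N ^ (k + 1 + 1) := by
      intro z hz
      rw [← ht] at hz
      refine Submodule.span_induction ?_ ?_ ?_ ?_ hz
      · intro z hzt y hy
        obtain ⟨a, ha, hya⟩ := ih y hy
        refine ⟨a * z, A'.mul_mem ha (htA hzt), ?_⟩
        have : y * z - a * z = (y - a) * z := by ring
        rw [this, pow_succ (N) (k+1)]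
        exact Ideal.mul_mem_mul hya (ht ▸ Ideal.subset_span hzt)
      · intro y _
        exact ⟨0, A'.zero_mem, by simp⟩
      · intro z₁ z₂ _ _ h₁ h₂ y hy
        obtain ⟨a₁, ha₁, h₁'⟩ := h₁ y hy
        obtain ⟨a₂, ha₂, h₂'⟩ := h₂ y hy
        refine ⟨a₁ + a₂, A'.add_mem ha₁ ha₂, ?_⟩
        have : y * (z₁ + z₂) - (a₁ + a₂) = (y * z₁ - a₁) + (y * z₂ - a₂) := by ring
        rw [this]
        exact Ideal.add_mem _ h₁' h₂'
      · intro c z _ h y hy
        obtain ⟨a, ha, h'⟩ := h (y * c) (Ideal.mul_mem_right c _ hy)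
        refine ⟨a, ha, ?_⟩
        have : y * c • z - a = y * c * z - a := by rw [smul_eq_mul]; ring
        rw [this]
        exact h'
    refine Submodule.mul_induction_on hx ?_ ?_
    · intro y hy z hz
      exact hQ z hz y hy
    · intro x₁ x₂ h₁ h₂
      obtain ⟨a₁, ha₁, h₁'⟩ := h₁
      obtain ⟨a₂, ha₂, h₂'⟩ := h₂
      refine ⟨a₁ + a₂, A'.add_mem ha₁ ha₂, ?_⟩
      have : x₁ + x₂ - (a₁ + a₂) = (x₁ - a₁) + (x₂ - a₂) := by ring
      rw [this]
      exact Ideal.add_mem _ h₁' h₂'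

theorem eq_top_aux {R B : Type u} [CommRing R] [CommRing B] [Algebra R B]
    (A' : Subalgebra R B) (N : Ideal B) (t : Set B) (ht : Ideal.span t = N) (htA : t ⊆ A')
    (hAN : ∀ b : B, ∃ a ∈ A', b - a ∈ N) (hnil : IsNilpotent N) : A' = ⊤ := by
  have hall : ∀ k : ℕ, ∀ b : B, ∃ a ∈ A', b - a ∈ N ^ (k + 1) := by
    intro k
    induction k with
    | zero => simpa using hAN
    | succ k ih =>
      intro b
      obtain ⟨a, ha, hba⟩ := ih b
      obtain ⟨a', ha', h'⟩ := step_aux A' N t ht htA hAN (k + 1) _ hba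
      refine ⟨a + a', A'.add_mem ha ha', ?_⟩
      have : b - (a + a') = b - a - a' := by ring
      rw [this]
      exact h'
  obtain ⟨m, hm⟩ := hnil
  rw [eq_top_iff]
  intro b _
  obtain ⟨a, ha, hba⟩ := hall m b
  have h0 : N ^ (m + 1) = ⊥ := by
    rw [pow_succ, hm]
    simp
  rw [h0, Ideal.mem_bot, sub_eq_zero] at hba
  rw [hba]
  exact ha

theorem finiteType_of_nilpotent {R B B₀ : Type u} [CommRing R] [CommRing B] [CommRing B₀]
    (f : R →+* B) (p : B →+* B₀) (hp : Function.Surjective p) (hN : (RingHom.ker p).FG)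
    (hnil : IsNilpotent (RingHom.ker p)) (h : (p.comp f).FiniteType) : f.FiniteType := by
  classical
  let _ : Algebra R B := f.toAlgebra
  let _ : Algebra R B₀ := (p.comp f).toAlgebra
  have h' : Algebra.FiniteType R B₀ := h
  obtain ⟨s, hs⟩ := h'.out
  obtain ⟨t, ht⟩ := hN
  choose lift hlift using hp
  let T : Finset B := s.image lift ∪ t
  have hsurj : ∀ y ∈ Algebra.adjoin R (s : Set B₀), ∃ a ∈ Algebra.adjoin R (T : Set B), p a = y := by
    intro y hy
    induction hy using Algebra.adjoin_induction with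
    | mem y hy =>
      refine ⟨lift y, Algebra.subset_adjoin ?_, hlift y⟩
      simp only [T, Finset.coe_union, Finset.coe_image, Set.mem_union, Set.mem_image]
      exact Or.inl ⟨y, hy, rfl⟩
    | algebraMap r =>
      exact ⟨algebraMap R B r, Subalgebra.algebraMap_mem _ r, rfl⟩
    | add x y _ _ hx hy =>
      obtain ⟨a, ha, rfl⟩ := hx
      obtain ⟨b, hb, rfl⟩ := hy
      exact ⟨a + b, Subalgebra.add_mem _ ha hb, map_add p a b⟩
    | mul x y _ _ hx hy =>
      obtain ⟨a, ha, rfl⟩ := hx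
      obtain ⟨b, hb, rfl⟩ := hy
      exact ⟨a * b, Subalgebra.mul_mem _ ha hb, map_mul p a b⟩
  have hAN : ∀ b : B, ∃ a ∈ Algebra.adjoin R (T : Set B), b - a ∈ RingHom.ker p := by
    intro b
    obtain ⟨a, ha, hab⟩ := hsurj (p b) (by rw [hs]; trivial)
    exact ⟨a, ha, by rw [RingHom.mem_ker, map_sub, hab, sub_self]⟩
  have htA : (t : Set B) ⊆ Algebra.adjoin R (T : Set B) := by
    intro x hx
    refine Algebra.subset_adjoin ?_
    simp only [T, Finset.coe_union, Set.mem_union]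
    exact Or.inr hx
  have key := eq_top_aux (Algebra.adjoin R (T : Set B)) (RingHom.ker p) t ht htA hAN hnil
  exact ⟨⟨T, key⟩⟩

end alg

section sq
variable {R R₀ B B₀ : Type u} [CommRing R] [CommRing R₀] [CommRing B] [CommRing B₀]
  (a : R →+* B) (r : R →+* R₀) (b : B →+* B₀) (a₀ : R₀ →+* B₀)
  (hsq : a₀.comp r = b.comp a) (hr : Function.Surjective r) (hb : Function.Surjective b)

include hsq hr hb in
theorem fp_down (hker : (RingHom.ker b).FG) (ha : a.FinitePresentation) :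
    a₀.FinitePresentation := by
  have h1 : (b.comp a).FinitePresentation := ha.comp_surjective hb hker
  rw [← hsq] at h1
  exact RingHom.FinitePresentation.of_comp_finiteType r h1 (RingHom.FiniteType.of_surjective r hr)

include hsq hr hb in
theorem fp_up [IsNoetherianRing R] (hker : (RingHom.ker b).FG) (hnil : IsNilpotent (RingHom.ker b))
    (ha₀ : a₀.FinitePresentation) : a.FinitePresentation := by
  have hrfp : r.FinitePresentation :=
    RingHom.FinitePresentation.of_surjective r hr (IsNoetherian.noetherian _)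
  have h1 : (a₀.comp r).FinitePresentation := ha₀.comp hrfp
  rw [hsq] at h1
  have h2 : a.FiniteType := finiteType_of_nilpotent a b hb hker hnil (RingHom.FiniteType.of_finitePresentation h1)
  exact RingHom.FinitePresentation.of_finiteType.1 h2

end sq

section sch
variable {X X₀ Y Y₀ : Scheme.{u}} (F : Y ⟶ X) (F₀ : Y₀ ⟶ X₀) (i : Y₀ ⟶ Y) (j : X₀ ⟶ X)
  (w : F₀ ≫ j = i ≫ F)

include w in
theorem le_aux (U' : X.Opens) (V' : Y.Opens) (e' : V' ≤ F ⁻¹ᵁ U') :
    i ⁻¹ᵁ V' ≤ F₀ ⁻¹ᵁ (j ⁻¹ᵁ U') := by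
  intro z hz
  have h1 : F (i z) ∈ U' := e' hz
  have h2 : j (F₀ z) = F (i z) := by
    have := congrArg (fun f => f.base z) w
    simpa using this
  show j (F₀ z) ∈ U'
  rw [h2]
  exact h1

include w in
theorem sq_aux (U' : X.Opens) (V' : Y.Opens) (e' : V' ≤ F ⁻¹ᵁ U') :
    j.app U' ≫ F₀.appLE (j ⁻¹ᵁ U') (i ⁻¹ᵁ V') (le_aux F F₀ i j w U' V' e') =
      F.appLE U' V' e' ≫ i.app V' := by
  rw [Scheme.Hom.app_eq_appLE, Scheme.Hom.app_eq_appLE, Scheme.Hom.appLE_comp_appLE,
    Scheme.Hom.appLE_comp_appLE]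
  congr 1

theorem fp_sas : RingHom.StableUnderCompositionWithLocalizationAwaySource
    @RingHom.FinitePresentation := by
  intro R S T _ _ _ _ r _ f hf
  exact hf.comp (RingHom.finitePresentation_holdsForLocalizationAway S r)

variable [IsClosedImmersion i] [IsClosedImmersion j]

include w in
theorem main_down (hfg : ∀ U : Y.affineOpens, (i.ker.ideal U).FG)
    (hF : LocallyOfFinitePresentation F) : LocallyOfFinitePresentation F₀ := by
  rw [HasRingHomProperty.iff_exists_appLE (P := @LocallyOfFinitePresentation) fp_sas]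
  intro x
  obtain ⟨U', hU', hFx, -⟩ := TopologicalSpace.Opens.isBasis_iff_nbhd.mp X.isBasis_affineOpens
    (TopologicalSpace.Opens.mem_top (F (i x)))
  obtain ⟨V', hV', hx, e'⟩ := TopologicalSpace.Opens.isBasis_iff_nbhd.mp Y.isBasis_affineOpens
    (show i x ∈ F ⁻¹ᵁ U' from hFx)
  have hU₀ : IsAffineOpen (j ⁻¹ᵁ U') := hU'.preimage j
  have hV₀ : IsAffineOpen (i ⁻¹ᵁ V') := hV'.preimage i
  refine ⟨⟨_, hU₀⟩, ⟨_, hV₀⟩, hx, le_aux F F₀ i j w U' V' e', ?_⟩
  have ha : (F.appLE U' V' e').hom.FinitePresentation :=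
    (HasRingHomProperty.iff_appLE (P := @LocallyOfFinitePresentation)).1 hF ⟨U', hU'⟩ ⟨V', hV'⟩ e'
  have hsq := sq_aux F F₀ i j w U' V' e'
  have hsq' : (F₀.appLE (j ⁻¹ᵁ U') (i ⁻¹ᵁ V') (le_aux F F₀ i j w U' V' e')).hom.comp (j.app U').hom =
      (i.app V').hom.comp (F.appLE U' V' e').hom := by
    rw [← CommRingCat.hom_comp, ← CommRingCat.hom_comp, hsq]
  have hker : RingHom.ker (i.app V').hom = i.ker.ideal ⟨V', hV'⟩ := (Scheme.Hom.ker_apply i ⟨V', hV'⟩).symm
  exact fp_down _ _ _ _ hsq' (j.app_surjective U' hU') (i.app_surjective V' hV')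
    (hker ▸ hfg ⟨V', hV'⟩) ha

include w in
theorem main_up [IsLocallyNoetherian X] (hfg : ∀ U : Y.affineOpens, (i.ker.ideal U).FG)
    (hinil : ∀ U : Y.affineOpens, IsNilpotent (i.ker.ideal U))
    (hF₀ : LocallyOfFinitePresentation F₀) : LocallyOfFinitePresentation F := by
  rw [HasRingHomProperty.iff_exists_appLE (P := @LocallyOfFinitePresentation) fp_sas]
  intro y
  obtain ⟨U', hU', hFx, -⟩ := TopologicalSpace.Opens.isBasis_iff_nbhd.mp X.isBasis_affineOpens
    (TopologicalSpace.Opens.mem_top (F y))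
  obtain ⟨V', hV', hy, e'⟩ := TopologicalSpace.Opens.isBasis_iff_nbhd.mp Y.isBasis_affineOpens
    (show y ∈ F ⁻¹ᵁ U' from hFx)
  have hU₀ : IsAffineOpen (j ⁻¹ᵁ U') := hU'.preimage j
  have hV₀ : IsAffineOpen (i ⁻¹ᵁ V') := hV'.preimage i
  refine ⟨⟨U', hU'⟩, ⟨V', hV'⟩, hy, e', ?_⟩
  have ha₀ : (F₀.appLE (j ⁻¹ᵁ U') (i ⁻¹ᵁ V') (le_aux F F₀ i j w U' V' e')).hom.FinitePresentation :=
    (HasRingHomProperty.iff_appLE (P := @LocallyOfFinitePresentation)).1 hF₀ ⟨_, hU₀⟩ ⟨_, hV₀⟩ _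
  have hsq := sq_aux F F₀ i j w U' V' e'
  have hsq' : (F₀.appLE (j ⁻¹ᵁ U') (i ⁻¹ᵁ V') (le_aux F F₀ i j w U' V' e')).hom.comp (j.app U').hom =
      (i.app V').hom.comp (F.appLE U' V' e').hom := by
    rw [← CommRingCat.hom_comp, ← CommRingCat.hom_comp, hsq]
  have hker : RingHom.ker (i.app V').hom = i.ker.ideal ⟨V', hV'⟩ :=
    (Scheme.Hom.ker_apply i ⟨V', hV'⟩).symm
  have : IsNoetherianRing Γ(X, U') := IsLocallyNoetherian.component_noetherian ⟨U', hU'⟩
  exact fp_up _ _ _ _ hsq' (j.app_surjective U' hU') (i.app_surjective V' hV')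
    (hker ▸ hfg ⟨V', hV'⟩) (hker ▸ hinil ⟨V', hV'⟩) ha₀

end sch

theorem main {X X₀ Y Y₀ : Scheme.{u}} [IsLocallyNoetherian X]
    (F : Y ⟶ X) (F₀ : Y₀ ⟶ X₀) (i : Y₀ ⟶ Y) (j : X₀ ⟶ X)
    (hi : MoreMor.IsThickening i) (hj : MoreMor.IsThickening j)
    (hinil : ∀ U : Y.affineOpens, IsNilpotent (i.ker.ideal U))
    (hfg : ∀ U : Y.affineOpens, (i.ker.ideal U).FG)
    (w : F₀ ≫ j = i ≫ F) :
    LocallyOfFinitePresentation F ↔ LocallyOfFinitePresentation F₀ := by
  have := hi.1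
  have := hj.1
  exact ⟨main_down F F₀ i j w hfg, main_up F F₀ i j w hfg hinil⟩


end


open AlgebraicGeometry CategoryTheory in
/-- Consider a commutative square of schemes F₀ ≫ j = i ≫ F in which i : Y₀ ⟶ Y and j : X₀ ⟶ X are
closed immersions surjective on points whose ideals are nilpotent on every affine open, the ideal of
i being moreover finitely generated on every affine open of Y, and assume that X is locally
Noetherian. Then F : Y ⟶ X is locally of finite presentation if and only if F₀ : Y₀ ⟶ X₀ is. The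
square is not assumed cartesian. -/
theorem result
    {X X₀ Y Y₀ : Scheme.{u}} [IsLocallyNoetherian X]
    (F : Y ⟶ X) (F₀ : Y₀ ⟶ X₀) (i : Y₀ ⟶ Y) (j : X₀ ⟶ X)
    (hi : MoreMor.IsThickening i) (hj : MoreMor.IsThickening j)
    (hinil : ∀ U : Y.affineOpens, IsNilpotent (i.ker.ideal U))
    (hjnil : ∀ U : X.affineOpens, IsNilpotent (j.ker.ideal U))
    (hfg : ∀ U : Y.affineOpens, (i.ker.ideal U).FG)
    (w : F₀ ≫ j = i ≫ F) :
    LocallyOfFinitePresentation F ↔ LocallyOfFinitePresentation F₀ := by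
  classical
  exact main F F₀ i j hi hj hinil hfg w

end Groth.Agent.S14008
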