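import Groth.Statements.S14017
import Mathlib
import Groth.Statements.S14017
-- import your own Groth.Agent.* helpers here

set_option autoImplicit false
open CategoryTheory CategoryTheory.Limits AlgebraicGeometry Opposite
universe u
open EtModW

namespace Groth.Agent.S14017

open CategoryTheory CategoryTheory.Limits AlgebraicGeometry Opposite
namespace Aux

variable {Λ : Type (u + 1)} [CommRing Λ] {X : Scheme.{u}}

/-- sections functor -/
noncomputable abbrev Γ (Λ : Type (u + 1)) [CommRing Λ] {X : Scheme.{u}} (U : X.ProEt) :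
    EtModW.ModP Λ X ⥤ ModuleCat.{u+1} Λ :=
  sheafToPresheaf (Scheme.ProEt.topology X) (ModuleCat.{u+1} Λ) ⋙ (evaluation _ _).obj (op U)

instance : HasFiniteBiproducts (EtModW.ModP Λ X) := HasFiniteBiproducts.of_hasFiniteProducts

lemma smul_hom_app {F G : EtModW.ModP Λ X} (a : Λ) (f : F ⟶ G) (V : X.ProEtᵒᵖ)
    (y : F.obj.obj V) :
    ((a • f).hom.app V).hom y = a • (f.hom.app V).hom y := rfl

lemma epi_of_isQuot {I : Ideal Λ} {F Q : EtModW.ModP Λ X} (p : F ⟶ Q) (hp : ARSys.IsQuot I p) :
    Epi p := by
  constructor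
  intro Y ψ₁ ψ₂ h
  have hk : ARSys.HomKilledBy I (p ≫ ψ₁) := by
    intro a ha
    have h0 : (a • 𝟙 Q : Q ⟶ Q) = 0 := hp.1 a ha
    have : a • (p ≫ ψ₁) = p ≫ (a • 𝟙 Q) ≫ ψ₁ := by
      simp [Linear.comp_smul, Linear.smul_comp]
    rw [this, h0]; simp
  obtain ⟨ψ, -, hu⟩ := hp.2 Y (p ≫ ψ₁) hk
  exact (hu ψ₁ rfl).trans (hu ψ₂ h.symm).symm

lemma surj_of_epi {F G : EtModW.ModP Λ X} (φ : F ⟶ G) [Epi φ] (U : X.ProEt)
    (hU : ProEtS.IsWC U) : Function.Surjective (φ.hom.app (op U)).hom := by
  have h1 : Sheaf.IsLocallySurjective φ :=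
    (Sheaf.isLocallySurjective_iff_epi' (ModuleCat.{u+1} Λ) φ).2 inferInstance
  let φ' := (sheafCompose (Scheme.ProEt.topology X) (forget (ModuleCat.{u+1} Λ))).map φ
  have h2 : Sheaf.IsLocallySurjective φ' :=
    (Presheaf.isLocallySurjective_iff_whisker_forget (Scheme.ProEt.topology X) φ.hom).1 h1
  have h3 : Epi φ' := inferInstance
  intro y
  obtain ⟨x, hx⟩ := hU _ _ φ' h3 y
  exact ⟨x, hx⟩

theorem main (Λ : Type (u + 1)) [CommRing Λ] (I : Ideal Λ) (hI : I.FG)
    (X : Scheme.{u}) (F Q : EtModW.ModP Λ X) (p : F ⟶ Q) (hp : ARSys.IsQuot I p)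
    (U : X.ProEt) (hU : ProEtS.IsWC U) :
    Function.Surjective (p.hom.app (op U)).hom ∧
      LinearMap.ker (p.hom.app (op U)).hom = I • (⊤ : Submodule Λ (F.obj.obj (op U))) := by
  have : Epi p := epi_of_isQuot p hp
  refine ⟨surj_of_epi p U hU, le_antisymm ?_ ?_⟩
  · intro s hs
    obtain ⟨n, a, ha⟩ := Submodule.fg_iff_exists_fin_generating_family.1 hI
    let μ : (⨁ fun _ : Fin n => F) ⟶ F := biproduct.desc (fun k => (a k) • 𝟙 F)
    let π := cokernel.π μ
    have hπ : ARSys.HomKilledBy I π := by
      intro b hb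
      rw [← ha] at hb
      refine Submodule.span_induction (p := fun b _ => b • π = 0) ?_ ?_ ?_ ?_ hb
      · rintro _ ⟨k, rfl⟩
        have : (a k) • π = (biproduct.ι (fun _ : Fin n => F) k ≫ μ) ≫ π := by
          rw [biproduct.ι_desc]; simp [Linear.smul_comp]
        rw [this, Category.assoc, cokernel.condition, comp_zero]
      · exact zero_smul _ _
      · intro x y _ _ hx hy; rw [add_smul, hx, hy, add_zero]
      · intro r x _ hx; rw [smul_eq_mul, mul_smul, hx, smul_zero]
    obtain ⟨ψ, hψ, -⟩ := hp.2 _ π hπ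
    have hs' : (p.hom.app (op U)).hom s = 0 := hs
    have h0 : (π.hom.app (op U)).hom s = 0 := by
      have : π.hom.app (op U) = p.hom.app (op U) ≫ ψ.hom.app (op U) := by
        rw [← hψ]; rfl
      rw [this]
      show (ψ.hom.app (op U)).hom ((p.hom.app (op U)).hom s) = 0
      rw [hs', map_zero]
    -- the short complex
    let S : ShortComplex (EtModW.ModP Λ X) := ShortComplex.mk μ π (cokernel.condition μ)
    have hS : S.Exact := ShortComplex.exact_cokernel μ
    let S' : ShortComplex (EtModW.ModP Λ X) := ShortComplex.mk S.iCycles π S.iCycles_g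
    have hS' : S'.Exact := ShortComplex.exact_of_f_is_kernel S' S.cyclesIsKernel
    have hm : Mono S'.f := inferInstanceAs (Mono S.iCycles)
    have hE : (S'.map (Γ Λ U)).Exact := hS'.map_of_mono_of_preservesKernel (Γ Λ U) hm inferInstance
    obtain ⟨t, ht⟩ := (ShortComplex.moduleCat_exact_iff _).1 hE s h0
    have : Epi S.toCycles := hS.epi_toCycles
    obtain ⟨g, hg⟩ := surj_of_epi S.toCycles U hU t
    have hμ : (μ.hom.app (op U)).hom g = s := by
      have : μ.hom.app (op U) = S.toCycles.hom.app (op U) ≫ S.iCycles.hom.app (op U) := by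
        have := S.toCycles_i; exact congrArg (fun f => f.hom.app (op U)) this.symm
      rw [this]
      show (S.iCycles.hom.app (op U)).hom ((S.toCycles.hom.app (op U)).hom g) = s
      rw [hg]; exact ht
    rw [← hμ]
    have hsum : μ = ∑ k, biproduct.π (fun _ : Fin n => F) k ≫ ((a k) • 𝟙 F) :=
      biproduct.desc_eq
    have hsum' : (Γ Λ U).map μ = ∑ k, (Γ Λ U).map (biproduct.π (fun _ : Fin n => F) k) ≫
        (Γ Λ U).map ((a k) • 𝟙 F) := by
      rw [hsum, Functor.map_sum]; simp only [Functor.map_comp]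
    have : (μ.hom.app (op U)).hom g = ∑ k, (a k) •
        (((biproduct.π (fun _ : Fin n => F) k).hom.app (op U)).hom g) := by
      have h := congrArg (fun f => f.hom g) hsum'
      have h2 : (μ.hom.app (op U)).hom g = ∑ k, ((a k • 𝟙 F).hom.app (op U)).hom
          (((biproduct.π (fun _ : Fin n => F) k).hom.app (op U)).hom g) := by simpa using h
      exact h2.trans (Finset.sum_congr rfl (fun k _ => rfl))
    rw [this]
    refine Submodule.sum_mem _ (fun k _ => Submodule.smul_mem_smul ?_ trivial)
    rw [← ha]; exact Submodule.subset_span ⟨k, rfl⟩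
  · rw [Submodule.smul_le]
    intro a ha s _
    show (p.hom.app (op U)).hom (a • s) = 0
    rw [map_smul]
    have h0 : (a • 𝟙 Q : Q ⟶ Q) = 0 := hp.1 a ha
    have := smul_hom_app a (𝟙 Q) (op U) ((p.hom.app (op U)).hom s)
    rw [h0] at this
    exact this.symm.trans rfl

end Aux

/-- Let X be a scheme, Λ a commutative ring and I a finitely generated ideal of Λ; let F be a sheaf of
Λ-modules on the small pro-étale site of X and p : F ⟶ Q a quotient map modulo I (Q is killed by I
and every morphism out of F killed by I factors uniquely through p, so Q = F/IF); let U be a weakly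
contractible object of the pro-étale site. Then the map on sections F(U) → Q(U) is surjective and
its kernel is exactly the submodule I·F(U): sections over a weakly contractible object commute with
forming IF and F/IF. (The published lemma is for sheaves of Λ-modules on an arbitrary site and a
weakly contractible object of it; this row states the case of the small pro-étale site of a scheme.) -/
theorem result
    (Λ : Type (u + 1)) [CommRing Λ] (I : Ideal Λ) (hI : I.FG)
    (X : Scheme.{u}) (F Q : EtModW.ModP Λ X) (p : F ⟶ Q) (hp : ARSys.IsQuot I p)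
    (U : X.ProEt) (hU : ProEtS.IsWC U) :
    Function.Surjective (p.hom.app (op U)).hom ∧
      LinearMap.ker (p.hom.app (op U)).hom = I • (⊤ : Submodule Λ (F.obj.obj (op U))) := by
  exact Aux.main Λ I hI X F Q p hp U hU

end Groth.Agent.S14017
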