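import Groth.Statements.S14018
import Mathlib

set_option autoImplicit false
open CategoryTheory CategoryTheory.Limits Opposite
universe w v u
open CohSite


namespace Groth.Agent.S14018


/-- Thin-category helper: functoriality of `G.map` along inequalities. -/
lemma map_le_trans (G : ℕᵒᵖ ⥤ Type w) {a b c : ℕ} (hab : a ≤ b) (hbc : b ≤ c) (t : G.obj (op c)) :
    G.map (homOfLE hab).op (G.map (homOfLE hbc).op t) = G.map (homOfLE (hab.trans hbc)).op t := by
  rw [← Functor.map_comp_apply]
  rfl

noncomputable def zseq (G : ℕᵒᵖ ⥤ Type w)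
    (h : ∀ m, Function.Surjective (G.map (homOfLE (Nat.le_succ m)).op)) (n : ℕ)
    (s : G.obj (op n)) : ∀ k : ℕ, G.obj (op (n + k))
  | 0 => s
  | k + 1 => (h (n + k) (zseq G h n s k)).choose

lemma zseq_succ (G : ℕᵒᵖ ⥤ Type w)
    (h : ∀ m, Function.Surjective (G.map (homOfLE (Nat.le_succ m)).op)) (n : ℕ)
    (s : G.obj (op n)) (k : ℕ) :
    G.map (homOfLE (Nat.le_succ (n + k))).op (zseq G h n s (k + 1)) = zseq G h n s k :=
  (h (n + k) (zseq G h n s k)).choose_spec

lemma zseq_compat (G : ℕᵒᵖ ⥤ Type w)
    (h : ∀ m, Function.Surjective (G.map (homOfLE (Nat.le_succ m)).op)) (n : ℕ)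
    (s : G.obj (op n)) (k k' : ℕ) (hk : k ≤ k') :
    G.map (homOfLE (Nat.add_le_add_left hk n)).op (zseq G h n s k') = zseq G h n s k := by
  induction k', hk using Nat.le_induction with
  | base =>
    have : (homOfLE (Nat.add_le_add_left (le_refl k) n)).op = 𝟙 (op (n + k)) := rfl
    rw [this]
    simp
  | succ k' hk ih =>
    have e := map_le_trans G (Nat.add_le_add_left hk n) (Nat.le_succ (n + k'))
      (zseq G h n s (k' + 1))
    rw [zseq_succ] at e
    exact e.symm.trans ih

/-- For a tower of surjections, every element lifts to a section. -/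
lemma sections_surjective (G : ℕᵒᵖ ⥤ Type w)
    (h : ∀ m, Function.Surjective (G.map (homOfLE (Nat.le_succ m)).op)) (n : ℕ)
    (s : G.obj (op n)) : ∃ x ∈ G.sections, x (op n) = s := by
  let x : ∀ j : ℕᵒᵖ, G.obj j := fun j =>
    G.map (homOfLE (Nat.le_add_left j.unop n)).op (zseq G h n s j.unop)
  refine ⟨x, ?_, ?_⟩
  · intro j j' f
    have hle : j'.unop ≤ j.unop := f.unop.le
    have hf : f = (homOfLE hle).op := Subsingleton.elim _ _
    change G.map f (G.map (homOfLE (Nat.le_add_left j.unop n)).op (zseq G h n s j.unop)) =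
      G.map (homOfLE (Nat.le_add_left j'.unop n)).op (zseq G h n s j'.unop)
    rw [hf, map_le_trans, ← zseq_compat G h n s j'.unop j.unop hle, map_le_trans]
  · change G.map (homOfLE (Nat.le_add_left n n)).op (zseq G h n s n) = s
    exact zseq_compat G h n s 0 n (Nat.zero_le n)

theorem main
    {C : Type u} [Category.{v} C] (J : GrothendieckTopology C)
    (hwc : ∀ V : C, ∃ S : Sieve V, S ∈ J V ∧ ∀ ⦃W : C⦄ (f : W ⟶ V), S.arrows f →
      ∃ (U : C) (g : W ⟶ U) (h : U ⟶ V), (∀ (A B : Sheaf J (Type w)) (ψ : A ⟶ B), Epi ψ → Function.Surjective (ψ.hom.app (op U))) ∧ g ≫ h = f)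
    (F : ℕᵒᵖ ⥤ Sheaf J (Type w))
    (hF : ∀ n : ℕ, Epi (F.map (homOfLE (Nat.le_succ n)).op))
    (c : Cone F) (hc : IsLimit c) (n : ℕ) :
    Epi (c.π.app (op n)) := by
  haveI : Sheaf.IsLocallySurjective (c.π.app (op n)) := by
    refine ⟨fun {V} s => ?_⟩
    obtain ⟨S, hS, hSw⟩ := hwc V
    refine J.superset_covering ?_ hS
    intro W f hf
    obtain ⟨U, g, h, hU, rfl⟩ := hSw f hf
    -- sections over `U`
    let E : Sheaf J (Type w) ⥤ Type w := (sheafSections J (Type w)).obj (op U)
    haveI : PreservesLimitsOfShape ℕᵒᵖ E := by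
      change PreservesLimitsOfShape ℕᵒᵖ (sheafToPresheaf J (Type w) ⋙ (evaluation _ _).obj (op U))
      infer_instance
    have hl : IsLimit (E.mapCone c) := isLimitOfPreserves E hc
    have hsurj : ∀ m, Function.Surjective ((F ⋙ E).map (homOfLE (Nat.le_succ m)).op) := by
      intro m
      exact hU _ _ _ (hF m)
    obtain ⟨x, hx, hxn⟩ := sections_surjective (F ⋙ E) hsurj n ((F.obj (op n)).obj.map h.op s)
    let t : c.pt.obj.obj (op U) := (Types.isLimitEquivSections hl).symm ⟨x, hx⟩
    have ht : (c.π.app (op n)).hom.app (op U) t = (F.obj (op n)).obj.map h.op s := by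
      have := Types.isLimitEquivSections_symm_apply hl ⟨x, hx⟩ (op n)
      exact this.trans hxn
    refine ⟨c.pt.obj.map g.op t, ?_⟩
    have nat := NatTrans.naturality_apply (c.π.app (op n)).hom g.op t
    refine nat.trans ?_
    rw [ht, op_comp, Functor.map_comp_apply]
  infer_instance


end Groth.Agent.S14018

namespace Groth.Agent.S14018

/-- Let (C, J) be a site with enough weakly contractible objects — every object V has a covering sieve
all of whose arrows factor through some weakly contractible object, an object U being weakly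
contractible when every epimorphism of sheaves of sets (valued in a fixed universe) is surjective on
sections over U. Then the topos of sheaves of sets is replete: if (F_n) is an inverse system of
sheaves of sets indexed by ℕ with every transition map F_(n+1) ⟶ F_n an epimorphism, then each
projection lim_n F_n ⟶ F_n is an epimorphism; the limit is taken as any limit cone. (The small
pro-étale site of a scheme is such a site.) -/
theorem result
    {C : Type u} [Category.{v} C] (J : GrothendieckTopology C)
    (hwc : ∀ V : C, ∃ S : Sieve V, S ∈ J V ∧ ∀ ⦃W : C⦄ (f : W ⟶ V), S.arrows f →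
      ∃ (U : C) (g : W ⟶ U) (h : U ⟶ V), (∀ (A B : Sheaf J (Type w)) (ψ : A ⟶ B), Epi ψ → Function.Surjective (ψ.hom.app (op U))) ∧ g ≫ h = f)
    (F : ℕᵒᵖ ⥤ Sheaf J (Type w))
    (hF : ∀ n : ℕ, Epi (F.map (homOfLE (Nat.le_succ n)).op))
    (c : Cone F) (hc : IsLimit c) (n : ℕ) :
    Epi (c.π.app (op n)) := by
  exact main J hwc F hF c hc n

end Groth.Agent.S14018
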