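import Groth.Statements.S14020
import Mathlib.Tactic

set_option autoImplicit false
universe u
open CAlg

namespace Groth.Agent.S14020

theorem artinian_aux (R : Type u) [CommRing R] (I : Ideal R) (hI : I.FG) [IsArtinianRing (R ⧸ I)]
    (n : ℕ) : IsArtinian R (R ⧸ I ^ n) := by
  induction n with
  | zero =>
    have : Subsingleton (R ⧸ I ^ 0) := by
      rw [Ideal.Quotient.subsingleton_iff, pow_zero, Ideal.one_eq_top]
    exact isArtinian_of_finite
  | succ n ih =>
    have hle : (I • ⊤ : Submodule R ↥(I ^ n)) ≤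
        LinearMap.ker ((I ^ (n + 1)).mkQ ∘ₗ (I ^ n).subtype) := by
      rw [Submodule.smul_le]
      intro r hr m _
      rw [LinearMap.mem_ker]
      change (I ^ (n + 1)).mkQ ((r • m : ↥(I ^ n)) : R) = 0
      rw [Submodule.mkQ_apply, Submodule.Quotient.mk_eq_zero, pow_succ']
      exact Ideal.mul_mem_mul hr m.2
    let f : (↥(I ^ n) ⧸ (I • ⊤ : Submodule R ↥(I ^ n))) →ₗ[R] (R ⧸ I ^ (n + 1)) :=
      Submodule.liftQ _ ((I ^ (n + 1)).mkQ ∘ₗ (I ^ n).subtype) hle
    let g : (R ⧸ I ^ (n + 1)) →ₗ[R] (R ⧸ I ^ n) :=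
      Submodule.liftQ (I ^ (n + 1)) (I ^ n).mkQ (by
        rw [Submodule.ker_mkQ]
        exact Ideal.pow_le_pow_right (Nat.le_succ n))
    have hfg : f.range = g.ker := by
      simp only [f, g]
      rw [Submodule.range_liftQ, LinearMap.range_comp, Submodule.range_subtype,
        Submodule.ker_liftQ, Submodule.ker_mkQ]
    have : Module.Finite R ↥(I ^ n) := Module.Finite.iff_fg.mpr (hI.pow)
    have : Module.Finite (R ⧸ I) (↥(I ^ n) ⧸ (I • ⊤ : Submodule R ↥(I ^ n))) :=
      Module.Finite.of_restrictScalars_finite R _ _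
    have : IsArtinian (R ⧸ I) (↥(I ^ n) ⧸ (I • ⊤ : Submodule R ↥(I ^ n))) := inferInstance
    have : IsArtinian R (↥(I ^ n) ⧸ (I • ⊤ : Submodule R ↥(I ^ n))) :=
      isArtinian_of_surjective_algebraMap (R := R ⧸ I) Ideal.Quotient.mk_surjective
    exact isArtinian_of_range_eq_ker f g hfg

/-- Let R be a commutative ring and I a finitely generated ideal such that the quotient ring R/I is
artinian. Then R/I^n is artinian for every n. -/
theorem result
    (R : Type u) [CommRing R] (I : Ideal R) (hI : I.FG) [IsArtinianRing (R ⧸ I)] (n : ℕ) :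
    IsArtinianRing (R ⧸ I ^ n) := by
  exact isArtinian_of_tower R (artinian_aux R I hI n)

end Groth.Agent.S14020
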