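import Groth.Statements.S14024
import Mathlib
import Groth.Statements.S14024
import Groth.Agent.Lib.Helper9.FE.ModConstSiteGen
import Groth.Agent.Lib.Helper9.FE.SpFLC
import Groth.Agent.Lib.Helper9.FE.PCMod
-- import your own Groth.Agent.* helpers here

set_option autoImplicit false
open CategoryTheory CategoryTheory.Limits AlgebraicGeometry Opposite
universe u
open EtModW

namespace Groth.Agent.S14024

open CategoryTheory CategoryTheory.Limits AlgebraicGeometry Opposite
open EtModW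
namespace Aux
set_option linter.style.haveILetI false
set_option linter.unusedSectionVars false
set_option backward.isDefEq.respectTransparency false

section Alg

lemma isArtinian_of_killed (Λ : Type*) [CommRing Λ] [IsNoetherianRing Λ] (I : Ideal Λ)
    [IsArtinianRing (Λ ⧸ I)] : ∀ (k : ℕ) (M : Type*) [AddCommGroup M] [Module Λ M]
    [Module.Finite Λ M], (∀ a ∈ I ^ k, ∀ m : M, a • m = 0) → IsArtinian Λ M
  | 0, M, _, _, _, h => by
    haveI : Subsingleton M := ⟨fun x y => by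
      have hx := h 1 (by simp) x
      have hy := h 1 (by simp) y
      rw [one_smul] at hx hy
      rw [hx, hy]⟩
    infer_instance
  | k + 1, M, _, _, _, h => by
    haveI : IsNoetherian Λ M := isNoetherian_of_isNoetherianRing_of_finite Λ M
    let N : Submodule Λ M := I ^ k • ⊤
    haveI : Module.Finite Λ N := Module.Finite.of_injective N.subtype N.injective_subtype
    haveI : Module.Finite Λ (M ⧸ N) := inferInstance
    -- the quotient is killed by `I ^ k`
    haveI hQ : IsArtinian Λ (M ⧸ N) := by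
      apply isArtinian_of_killed Λ I k (M ⧸ N)
      intro a ha q
      obtain ⟨m, rfl⟩ := Submodule.Quotient.mk_surjective N q
      rw [← Submodule.Quotient.mk_smul, Submodule.Quotient.mk_eq_zero]
      exact Submodule.smul_mem_smul ha Submodule.mem_top
    -- `N` is killed by `I`
    have hN : Module.IsTorsionBySet Λ N (I : Set Λ) := by
      rintro ⟨x, hx⟩ ⟨a, ha⟩
      apply Subtype.ext
      show a • x = 0
      refine Submodule.smul_induction_on hx ?_ ?_
      · intro b hb m _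
        rw [smul_smul]
        exact h (a * b) (by rw [pow_succ']; exact Ideal.mul_mem_mul ha hb) m
      · intro y z hy hz
        rw [smul_add, hy, hz, add_zero]
    letI := hN.module
    haveI : IsScalarTower Λ (Λ ⧸ I) N := hN.isScalarTower
    haveI : Module.Finite (Λ ⧸ I) N := Module.Finite.of_restrictScalars_finite Λ (Λ ⧸ I) N
    haveI : IsArtinian (Λ ⧸ I) N := inferInstance
    haveI : IsArtinian Λ N :=
      isArtinian_of_surjective_algebraMap (S := Λ) (R := Λ ⧸ I) Ideal.Quotient.mk_surjective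
    exact isArtinian_of_range_eq_ker N.subtype N.mkQ
      (by rw [Submodule.range_subtype, Submodule.ker_mkQ])

end Alg

section Gen

universe w v₁ v₂ u₁ u₂

variable {A : Type w} [CommRing A] {C : Type u₁} [Category.{v₁} C] {D : Type u₂} [Category.{v₂} D]
  [Preadditive C] [Preadditive D] [Linear A C] [Linear A D]
  {L : C ⥤ D} {R : D ⥤ C} (adj : L ⊣ R) [L.Additive] [R.Additive]
  (hR : ∀ {X Y : D} (a : A) (φ : X ⟶ Y), R.map (a • φ) = a • R.map φ)

include adj hR in
lemma L_map_smul {X Y : C} (a : A) (φ : X ⟶ Y) : L.map (a • φ) = a • L.map φ := by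
  apply (adj.homEquiv X (L.obj Y)).injective
  rw [adj.homEquiv_unit, adj.homEquiv_unit, hR, Linear.comp_smul]
  have h1 : adj.unit.app X ≫ R.map (L.map (a • φ)) = (a • φ) ≫ adj.unit.app Y :=
    (adj.unit.naturality (a • φ)).symm
  have h2 : adj.unit.app X ≫ R.map (L.map φ) = φ ≫ adj.unit.app Y :=
    (adj.unit.naturality φ).symm
  rw [h1, h2, Linear.smul_comp]

include adj hR in
lemma killedBy_map {I : Ideal A} {X : C} (h : ARSys.KilledBy I X) :
    ARSys.KilledBy I (L.obj X) := by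
  intro a ha
  have h1 : (a • 𝟙 (L.obj X) : L.obj X ⟶ L.obj X) = L.map (a • 𝟙 X) := by
    rw [L_map_smul adj hR, L.map_id]
  rw [h1, h a ha, L.map_zero]

include adj hR in
lemma isQuot_map {I : Ideal A} {X Q : C} {p : X ⟶ Q} (h : ARSys.IsQuot I p) :
    ARSys.IsQuot I (L.map p) := by
  refine ⟨killedBy_map adj hR h.1, ?_⟩
  intro Y' φ' hφ'
  have hφ : ARSys.HomKilledBy I (adj.homEquiv X Y' φ') := by
    intro a ha
    rw [adj.homEquiv_unit, ← Linear.comp_smul, ← hR, hφ' a ha, R.map_zero, comp_zero]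
  obtain ⟨ψ, hψ, huniq⟩ := h.2 (R.obj Y') _ hφ
  refine ⟨(adj.homEquiv Q Y').symm ψ, ?_, ?_⟩
  · apply (adj.homEquiv X Y').injective
    rw [adj.homEquiv_naturality_left, Equiv.apply_symm_apply]
    exact hψ
  · intro ψ' hψ'
    apply (adj.homEquiv Q Y').injective
    rw [Equiv.apply_symm_apply]
    apply huniq
    rw [← adj.homEquiv_naturality_left, hψ']

include adj hR in
lemma termKilled_comp {I : Ideal A} {X : ARSys.PS C} (h : ARSys.TermKilled I X) :
    ARSys.TermKilled I (X ⋙ L) :=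
  fun n => killedBy_map adj hR (h n)

include adj hR in
lemma isAdic_comp {I : Ideal A} {X : ARSys.PS C} (h : ARSys.IsAdic I X) :
    ARSys.IsAdic I (X ⋙ L) :=
  ⟨termKilled_comp adj hR h.1, fun n m hnm => isQuot_map adj hR (h.2 n m hnm)⟩

end Gen


section Img

universe v₁ u₁ v₂ u₂

variable {C : Type u₁} [Category.{v₁} C] [Abelian C]

lemma imageSubobject_le_of_comp_cokernel_zero {A B Y : C} (f : A ⟶ Y) (g : B ⟶ Y)
    (h : f ≫ cokernel.π g = 0) : imageSubobject f ≤ imageSubobject g := by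
  let l : A ⟶ Abelian.image g := kernel.lift (cokernel.π g) f h
  refine imageSubobject_le f (l ≫ (Abelian.imageIsoImage g).hom ≫ (imageSubobjectIso g).inv) ?_
  rw [Category.assoc, Category.assoc, imageSubobject_arrow',
    Abelian.imageIsoImage_hom_comp_image_ι]
  exact kernel.lift_ι _ _ _

lemma imageSubobject_le_of_fac {A B Y : C} (f : A ⟶ Y) (g : B ⟶ Y) (u : A ⟶ B)
    (h : f = u ≫ g) : imageSubobject f ≤ imageSubobject g := by
  subst h
  exact imageSubobject_comp_le u g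

variable {D : Type u₂} [Category.{v₂} D] [Abelian D] (E : C ⥤ D) [E.Additive]
  [PreservesFiniteColimits E]

lemma map_comp_cokernel_zero {A B Y : C} (f : A ⟶ Y) (g : B ⟶ Y)
    (h : f ≫ cokernel.π g = 0) : E.map f ≫ cokernel.π (E.map g) = 0 := by
  have h1 : E.map (cokernel.π g) ≫ (PreservesCokernel.iso E g).hom = cokernel.π (E.map g) :=
    PreservesCokernel.π_iso_hom E g
  rw [← h1, ← Category.assoc, ← E.map_comp, h, E.map_zero, zero_comp]

end Img

section Stalk

variable (Λ : Type (u + 1)) [CommRing Λ]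

theorem ab5u : AB5OfSize.{u, u} (ModuleCat.{u + 1} Λ) :=
  AB5OfSize_shrink.{u, u, u + 1, u + 1} (ModuleCat.{u + 1} Λ)

theorem pfcu : PreservesFilteredColimitsOfSize.{u, u} (forget (ModuleCat.{u + 1} Λ)) :=
  preservesFilteredColimitsOfSize_shrink.{u, u + 1, u, u + 1} _

theorem hasLimU : HasLimitsOfSize.{u, u} (ModuleCat.{u + 1} Λ) :=
  hasLimitsOfSizeShrink.{u, u, u + 1, u + 1} _

attribute [local instance] ab5u pfcu hasLimU

section Sky

universe w' v₁ u₁ v₂ u₂

lemma sky_smul {R : Type*} [CommRing R] {C : Type u₁} [Category.{v₁} C]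
    {J : GrothendieckTopology C}
    (Φ : GrothendieckTopology.Point.{w'} J) {A : Type u₂} [Category.{v₂} A] [Preadditive A]
    [Linear R A] [HasProducts.{w'} A] {P Q : A} (a : R) (φ : P ⟶ Q) :
    (Φ.skyscraperSheafFunctor (A := A)).map (a • φ) =
      a • (Φ.skyscraperSheafFunctor (A := A)).map φ := by
  apply Sheaf.hom_ext
  ext V : 2
  apply Pi.hom_ext
  intro x
  have h1 : ∀ ψ : P ⟶ Q,
      ((Φ.skyscraperSheafFunctor (A := A)).map ψ).hom.app V ≫
        Pi.π (fun _ => Q) x = Pi.π (fun _ => P) x ≫ ψ := by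
    intro ψ
    exact Pi.map_π (f := fun _ => P) (g := fun _ => Q) (fun _ => ψ) x
  have h2 : (a • (Φ.skyscraperSheafFunctor (A := A)).map φ).hom.app V =
      a • ((Φ.skyscraperSheafFunctor (A := A)).map φ).hom.app V := rfl
  rw [h1, h2, Linear.smul_comp, h1, Linear.comp_smul]

end Sky

theorem finite_stalk_of_ftlc {T : Scheme.{u}} (G : EtModW.Mod Λ T)
    (hG : EtModW.IsFTLocConst Λ G)
    {Ω : Type u} [Field Ω] [IsSepClosed Ω] (ξ : Spec (CommRingCat.of Ω) ⟶ T) :
    Module.Finite Λ ((EtModW.stalk Λ ξ).obj G) := by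
  obtain ⟨κ, U, hU, hα⟩ := hG
  obtain ⟨j, y, hy⟩ := hU (ξ default)
  obtain ⟨M, _, _, hfin, ⟨α⟩⟩ := hα j
  haveI : Etale (U j).hom := (U j).prop
  obtain ⟨l, hl, -⟩ := Scheme.exists_fac_of_etale_of_isSepClosed (U j).hom ξ y hy
  let Φ := Scheme.pointSmallEtale ξ
  let J := T.smallEtaleTopology
  let y₀ : Φ.fiber.obj (U j) := Over.homMk l hl
  let gn : (ModuleCat.of Λ M) →ₗ[Λ] G.obj.obj (op (U j)) :=
    H9FE.ModConstSite.gen.{u + 1, u, u + 1} J G (U j) α
  let γ : M →ₗ[Λ] ((EtModW.stalk Λ ξ).obj G) :=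
    (Φ.toPresheafFiber (U j) y₀ G.obj).hom.comp gn
  refine Module.Finite.of_surjective γ ?_
  intro p
  obtain ⟨X₀, x₀, z, rfl⟩ := Φ.toPresheafFiber_jointly_surjective (P := G.obj) p
  let e₁ : Φ.fiber.Elements := ⟨X₀, x₀⟩
  let e₂ : Φ.fiber.Elements := ⟨U j, y₀⟩
  let e := IsCofiltered.min e₁ e₂
  let f₁ : e ⟶ e₁ := IsCofiltered.minToLeft e₁ e₂
  let f₂ : e ⟶ e₂ := IsCofiltered.minToRight e₁ e₂
  obtain ⟨S, hS, hprop⟩ :=
    H9FE.ModConstSite.gen_surj.{u + 1, u, u + 1} J G (U j) α f₂.1 (G.obj.map f₁.1.op z)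
  obtain ⟨Y', g, hg, y', hy'⟩ := Φ.jointly_surjective S hS e.2
  obtain ⟨q, hq⟩ := hprop g hg
  have h2 := Φ.toPresheafFiber_w_apply g y' G.obj (G.obj.map f₁.1.op z)
  have h3 := Φ.toPresheafFiber_w_apply f₁.1 e.2 G.obj z
  have h4 : Φ.toPresheafFiber X₀ x₀ G.obj z =
      Φ.toPresheafFiber Y' y' G.obj (G.obj.map g.op (G.obj.map f₁.1.op z)) := by
    rw [h2, hy', h3]
    exact (congrArg (fun t => Φ.toPresheafFiber X₀ t G.obj z) f₁.2).symm
  refine ⟨q, ?_⟩
  show Φ.toPresheafFiber (U j) y₀ G.obj (gn q) = Φ.toPresheafFiber X₀ x₀ G.obj z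
  rw [h4, hq]
  have h5 := Φ.toPresheafFiber_w_apply (g ≫ f₂.1) y' G.obj (gn q)
  rw [h5]
  have h6 : Φ.fiber.map (g ≫ f₂.1) y' = y₀ := by
    have h7 : Φ.fiber.map (g ≫ f₂.1) y' = Φ.fiber.map f₂.1 (Φ.fiber.map g y') :=
      ConcreteCategory.congr_hom (Φ.fiber.map_comp g f₂.1) y'
    rw [h7, hy']
    exact f₂.2
  rw [h6]


variable {W : Scheme.{u}}

/-- specialization maps on germs (module version) -/
theorem sheafFiber_germ_mod (F : EtModW.Mod Λ W) {Ω Ω' : Type u} [Field Ω] [IsSepClosed Ω]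
    [Field Ω'] [IsSepClosed Ω'] {ξ : Spec (CommRingCat.of Ω) ⟶ W}
    {ξ' : Spec (CommRingCat.of Ω') ⟶ W}
    (φ : Scheme.pointSmallEtale ξ' ⟶ Scheme.pointSmallEtale ξ) (V : W.Etale)
    (v : (Scheme.pointSmallEtale ξ).fiber.obj V) (s : F.obj.obj (op V)) :
    (GrothendieckTopology.Point.Hom.sheafFiber (A := ModuleCat.{u + 1} Λ) φ).app F
      ((Scheme.pointSmallEtale ξ).toPresheafFiber V v F.obj s) =
      (Scheme.pointSmallEtale ξ').toPresheafFiber V (φ.hom.app V v) F.obj s := by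
  have h := (Scheme.pointSmallEtale ξ).toPresheafFiber_presheafFiberDesc (P := F.obj)
    (fun X x => (Scheme.pointSmallEtale ξ').toPresheafFiber X (φ.hom.app X x) F.obj)
  exact ConcreteCategory.congr_hom (h V v) s

/-- the stalk of a sheaf of modules constant over an étale neighbourhood is the value module -/
theorem stalk_gen_bijective_mod {G : EtModW.Mod Λ W} (U : W.Etale) {M : ModuleCat.{u + 1} Λ}
    (α : G.over U ≅ H9FE.ModConstSite.cS.{u + 1, u, u + 1} (W.smallEtaleTopology.over U) M)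
    {Ω : Type u} [Field Ω] [IsSepClosed Ω] (ζ : Spec (CommRingCat.of Ω) ⟶ W)
    (y₀ : (Scheme.pointSmallEtale ζ).fiber.obj U) :
    Function.Bijective (fun q : M => (Scheme.pointSmallEtale ζ).toPresheafFiber U y₀ G.obj
      (H9FE.ModConstSite.gen.{u + 1, u, u + 1} W.smallEtaleTopology G U α q)) := by
  let Φ := Scheme.pointSmallEtale ζ
  let J := W.smallEtaleTopology
  let gn : M →ₗ[Λ] G.obj.obj (op U) := H9FE.ModConstSite.gen.{u + 1, u, u + 1} J G U α
  constructor
  · intro q q' h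
    have h' : Φ.toPresheafFiber U y₀ G.obj (gn q) = Φ.toPresheafFiber U y₀ G.obj (gn q') := h
    rw [Φ.toPresheafFiber_eq_iff'] at h'
    obtain ⟨Y, f, y, hy, hf⟩ := h'
    rcases H9FE.ModConstSite.gen_inj.{u + 1, u, u + 1} J G U α f q q' hf with h1 | h1
    · exact h1
    · exfalso
      rw [H9FE.CsSub.bot_mem_iff] at h1
      exact h1.false (y.left (default : Spec (CommRingCat.of Ω)))
  · intro p
    obtain ⟨X₀, x₀, z, rfl⟩ := Φ.toPresheafFiber_jointly_surjective (P := G.obj) p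
    let e₁ : Φ.fiber.Elements := ⟨X₀, x₀⟩
    let e₂ : Φ.fiber.Elements := ⟨U, y₀⟩
    let e := IsCofiltered.min e₁ e₂
    let f₁ : e ⟶ e₁ := IsCofiltered.minToLeft e₁ e₂
    let f₂ : e ⟶ e₂ := IsCofiltered.minToRight e₁ e₂
    obtain ⟨S, hS, hprop⟩ :=
      H9FE.ModConstSite.gen_surj.{u + 1, u, u + 1} J G U α f₂.1 (G.obj.map f₁.1.op z)
    obtain ⟨Y', g, hg, y', hy'⟩ := Φ.jointly_surjective S hS e.2
    obtain ⟨q, hq⟩ := hprop g hg
    have h2 := Φ.toPresheafFiber_w_apply g y' G.obj (G.obj.map f₁.1.op z)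
    have h3 := Φ.toPresheafFiber_w_apply f₁.1 e.2 G.obj z
    have h4 : Φ.toPresheafFiber X₀ x₀ G.obj z =
        Φ.toPresheafFiber Y' y' G.obj (G.obj.map g.op (G.obj.map f₁.1.op z)) := by
      rw [h2, hy', h3]
      exact (congrArg (fun t => Φ.toPresheafFiber X₀ t G.obj z) f₁.2).symm
    refine ⟨q, ?_⟩
    show Φ.toPresheafFiber U y₀ G.obj (gn q) = Φ.toPresheafFiber X₀ x₀ G.obj z
    rw [h4, hq]
    have h5 := Φ.toPresheafFiber_w_apply (g ≫ f₂.1) y' G.obj (gn q)
    rw [h5]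
    have h6 : Φ.fiber.map (g ≫ f₂.1) y' = y₀ := by
      have h7 : Φ.fiber.map (g ≫ f₂.1) y' = Φ.fiber.map f₂.1 (Φ.fiber.map g y') :=
        ConcreteCategory.congr_hom (Φ.fiber.map_comp g f₂.1) y'
      rw [h7, hy']
      exact f₂.2
    rw [h6]

/-- finite type locally constant sheaves of modules have bijective specialization maps -/
theorem isIso_sp_of_ftlc (F : EtModW.Mod Λ W) (hF : EtModW.IsFTLocConst Λ F)
    {Ω Ω' : Type u} [Field Ω] [IsSepClosed Ω] [Field Ω'] [IsSepClosed Ω']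
    (ξ : Spec (CommRingCat.of Ω) ⟶ W) (ξ' : Spec (CommRingCat.of Ω') ⟶ W)
    (φ : Scheme.pointSmallEtale ξ' ⟶ Scheme.pointSmallEtale ξ) :
    IsIso ((GrothendieckTopology.Point.Hom.sheafFiber (A := ModuleCat.{u + 1} Λ) φ).app F) := by
  obtain ⟨κ, U, hU, hα⟩ := hF
  obtain ⟨i, a, ha⟩ := hU (ξ default)
  obtain ⟨M₀, iM, fM, hfin, ⟨α⟩⟩ := hα i
  haveI : Etale (U i).hom := (U i).prop
  obtain ⟨l, hl, -⟩ := Scheme.exists_fac_of_etale_of_isSepClosed (U i).hom ξ a ha
  let y₀ : (Scheme.pointSmallEtale ξ).fiber.obj (U i) := Over.homMk l hl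
  let y₀' : (Scheme.pointSmallEtale ξ').fiber.obj (U i) := φ.hom.app (U i) y₀
  have h1 := stalk_gen_bijective_mod Λ (U i) α ξ y₀
  have h2 := stalk_gen_bijective_mod Λ (U i) α ξ' y₀'
  have h3 : (fun q : (ModuleCat.of Λ M₀) => (Scheme.pointSmallEtale ξ').toPresheafFiber (U i) y₀' F.obj
      (H9FE.ModConstSite.gen.{u + 1, u, u + 1} W.smallEtaleTopology F (U i) α q)) =
      (fun p => (GrothendieckTopology.Point.Hom.sheafFiber (A := ModuleCat.{u + 1} Λ) φ).app F p)
        ∘ (fun q : (ModuleCat.of Λ M₀) => (Scheme.pointSmallEtale ξ).toPresheafFiber (U i) y₀ F.obj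
      (H9FE.ModConstSite.gen.{u + 1, u, u + 1} W.smallEtaleTopology F (U i) α q)) := by
    funext q
    exact (sheafFiber_germ_mod Λ F φ (U i) y₀ _).symm
  rw [h3] at h2
  have h4 : Function.Bijective (fun p =>
      (GrothendieckTopology.Point.Hom.sheafFiber (A := ModuleCat.{u + 1} Λ) φ).app F p) :=
    (Function.Bijective.of_comp_iff _ h1).1 h2
  exact (ConcreteCategory.isIso_iff_bijective _).2 h4

/-- specialization arrows exist between geometric points whose images specialize -/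
theorem exists_arrow {Ω Ω' : Type u} [Field Ω] [IsSepClosed Ω] [Field Ω'] [IsSepClosed Ω']
    (ξ : Spec (CommRingCat.of Ω) ⟶ W) (ξ' : Spec (CommRingCat.of Ω') ⟶ W)
    (hs : ξ' default ⤳ ξ default) :
    Nonempty (Scheme.pointSmallEtale ξ' ⟶ Scheme.pointSmallEtale ξ) := by
  have h := H9FE.SpArrow.exists_arrow_prescribed (𝟙 W) ξ ξ' hs
  obtain ⟨φ, -⟩ := h
  have e1 : ξ ≫ 𝟙 W = ξ := Category.comp_id _
  have e2 : ξ' ≫ 𝟙 W = ξ' := Category.comp_id _
  rw [e1, e2] at φ
  exact ⟨φ⟩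


open Groth.Agent.Lib.Helper5 in
/-- a morphism of sheaves of modules vanishing on all geometric stalks is zero -/
lemma hom_eq_zero_of_stalks {A B : EtModW.Mod Λ W} (h : A ⟶ B)
    (hz : ∀ g : EtStalk.GeomPt W,
      (g.point.sheafFiber (A := ModuleCat.{u + 1} Λ)).map h = 0) : h = 0 := by
  ext U s
  apply PointDetect.eq_of_germs_sheaf (EtStalk.detects W) B
  intro g x
  have h1 : g.point.toPresheafFiber U.unop x B.obj (h.hom.app U s) =
      (g.point.presheafFiber.map h.hom) (g.point.toPresheafFiber U.unop x A.obj s) :=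
    (GrothendieckTopology.Point.toPresheafFiber_naturality_apply g.point h.hom U.unop x s).symm
  have h2 : g.point.presheafFiber.map h.hom = 0 := hz g
  rw [h1, h2]
  simp


section Main

variable {X : Scheme.{u}} (F : ARSys.PS (EtModW.Mod Λ X)) (n : ℕ)

/-- the image of the stalk of `F_{n+s}` in the stalk of `F_n` -/
noncomputable def R {Ω : Type u} [Field Ω] [IsSepClosed Ω] (ξ : Spec (CommRingCat.of Ω) ⟶ X)
    (s : ℕ) : Submodule Λ ((EtModW.stalk Λ ξ).obj (F.obj (op n))) :=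
  LinearMap.range ((EtModW.stalk Λ ξ).map (ARSys.shiftMap F s n)).hom

lemma shiftMap_fac (s s' : ℕ) (h : s ≤ s') : ARSys.shiftMap F s' n =
    F.map (homOfLE (Nat.add_le_add_left h n)).op ≫ ARSys.shiftMap F s n := by
  show F.map _ = F.map _ ≫ F.map _
  rw [← F.map_comp]
  exact congrArg F.map (Subsingleton.elim _ _)

lemma R_anti {Ω : Type u} [Field Ω] [IsSepClosed Ω] (ξ : Spec (CommRingCat.of Ω) ⟶ X)
    {s s' : ℕ} (h : s ≤ s') : R Λ F n ξ s' ≤ R Λ F n ξ s := by
  unfold R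
  rw [shiftMap_fac Λ F n s s' h, Functor.map_comp, ModuleCat.hom_comp]
  exact LinearMap.range_comp_le_range _ _

/-- the chain of images at `ξ` is stationary from `r` on -/
def Stab {Ω : Type u} [Field Ω] [IsSepClosed Ω] (ξ : Spec (CommRingCat.of Ω) ⟶ X) (r : ℕ) :
    Prop := ∀ s, r ≤ s → R Λ F n ξ r ≤ R Λ F n ξ s

lemma stab_mono {Ω : Type u} [Field Ω] [IsSepClosed Ω] (ξ : Spec (CommRingCat.of Ω) ⟶ X)
    {r r' : ℕ} (h : r ≤ r') (hs : Stab Λ F n ξ r) : Stab Λ F n ξ r' :=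
  fun s hs' => (R_anti Λ F n ξ h).trans (hs s (h.trans hs'))

lemma R_arrow (hF : ∀ m : ℕ, EtModW.IsFTLocConst Λ (F.obj (op m)))
    {Ω Ω' : Type u} [Field Ω] [IsSepClosed Ω] [Field Ω'] [IsSepClosed Ω']
    (ξ : Spec (CommRingCat.of Ω) ⟶ X) (ξ' : Spec (CommRingCat.of Ω') ⟶ X)
    (φ : Scheme.pointSmallEtale ξ' ⟶ Scheme.pointSmallEtale ξ) (s : ℕ) :
    R Λ F n ξ' s = (R Λ F n ξ s).map
      ((GrothendieckTopology.Point.Hom.sheafFiber (A := ModuleCat.{u + 1} Λ) φ).app
        (F.obj (op n))).hom := by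
  let σ := GrothendieckTopology.Point.Hom.sheafFiber (A := ModuleCat.{u + 1} Λ) φ
  let t := ARSys.shiftMap F s n
  haveI h1 : IsIso (σ.app (F.obj (op (n + s)))) := isIso_sp_of_ftlc Λ _ (hF (n + s)) ξ ξ' φ
  have hnat : (EtModW.stalk Λ ξ).map t ≫ σ.app (F.obj (op n)) =
      σ.app (F.obj (op (n + s))) ≫ (EtModW.stalk Λ ξ').map t := σ.naturality t
  have hsurj : LinearMap.range (σ.app (F.obj (op (n + s)))).hom = ⊤ := by
    rw [LinearMap.range_eq_top]
    exact (ConcreteCategory.bijective_of_isIso (σ.app (F.obj (op (n + s))))).2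
  unfold R
  show LinearMap.range ((EtModW.stalk Λ ξ').map t).hom =
    (LinearMap.range ((EtModW.stalk Λ ξ).map t).hom).map (σ.app (F.obj (op n))).hom
  rw [← LinearMap.range_comp, ← ModuleCat.hom_comp, hnat, ModuleCat.hom_comp,
    LinearMap.range_comp_of_range_eq_top _ hsurj]

lemma stab_iff_of_arrow (hF : ∀ m : ℕ, EtModW.IsFTLocConst Λ (F.obj (op m)))
    {Ω Ω' : Type u} [Field Ω] [IsSepClosed Ω] [Field Ω'] [IsSepClosed Ω']
    (ξ : Spec (CommRingCat.of Ω) ⟶ X) (ξ' : Spec (CommRingCat.of Ω') ⟶ X)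
    (φ : Scheme.pointSmallEtale ξ' ⟶ Scheme.pointSmallEtale ξ) (r : ℕ) :
    Stab Λ F n ξ r ↔ Stab Λ F n ξ' r := by
  let σ := GrothendieckTopology.Point.Hom.sheafFiber (A := ModuleCat.{u + 1} Λ) φ
  haveI h1 : IsIso (σ.app (F.obj (op n))) := isIso_sp_of_ftlc Λ _ (hF n) ξ ξ' φ
  have hinj : Function.Injective (σ.app (F.obj (op n))).hom :=
    (ConcreteCategory.bijective_of_isIso (σ.app (F.obj (op n)))).1
  unfold Stab
  refine forall_congr' (fun s => forall_congr' (fun _ => ?_))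
  rw [R_arrow Λ F n hF ξ ξ' φ r, R_arrow Λ F n hF ξ ξ' φ s]
  exact (Submodule.map_le_map_iff_of_injective hinj _ _).symm

lemma exists_stab [IsNoetherianRing Λ] (I : Ideal Λ) [IsArtinianRing (Λ ⧸ I)]
    (hk : ARSys.TermKilled I F) (hF : ∀ m : ℕ, EtModW.IsFTLocConst Λ (F.obj (op m)))
    {Ω : Type u} [Field Ω] [IsSepClosed Ω] (ξ : Spec (CommRingCat.of Ω) ⟶ X) :
    ∃ r, Stab Λ F n ξ r := by
  let adj := (Scheme.pointSmallEtale ξ).skyscraperSheafAdjunction (A := ModuleCat.{u + 1} Λ)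
  haveI : PreservesFiniteLimits (EtModW.stalk Λ ξ) := inferInstance
  haveI : (EtModW.stalk Λ ξ).Additive := Functor.additive_of_preserves_binary_products _
  haveI : ((Scheme.pointSmallEtale ξ).skyscraperSheafFunctor (A := ModuleCat.{u + 1} Λ)).Additive :=
    adj.right_adjoint_additive
  have hkill : ARSys.KilledBy (I ^ (n + 1)) ((EtModW.stalk Λ ξ).obj (F.obj (op n))) :=
    killedBy_map adj (fun a φ => sky_smul (Scheme.pointSmallEtale ξ) a φ) (hk n)
  haveI : Module.Finite Λ ((EtModW.stalk Λ ξ).obj (F.obj (op n))) :=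
    finite_stalk_of_ftlc Λ _ (hF n) ξ
  haveI : IsArtinian Λ ((EtModW.stalk Λ ξ).obj (F.obj (op n))) := by
    apply isArtinian_of_killed Λ I (n + 1)
    intro a ha m
    have h1 := hkill a ha
    have h2 : (a • 𝟙 ((EtModW.stalk Λ ξ).obj (F.obj (op n)))).hom m = 0 := by
      rw [h1]; rfl
    exact h2
  let f : ℕ →o (Submodule Λ ((EtModW.stalk Λ ξ).obj (F.obj (op n))))ᵒᵈ :=
    ⟨fun s => OrderDual.toDual (R Λ F n ξ s), fun s s' h => R_anti Λ F n ξ h⟩
  obtain ⟨r, hr⟩ := IsArtinian.monotone_stabilizes f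
  exact ⟨r, fun s hs => le_of_eq (congrArg OrderDual.ofDual (hr s hs))⟩

end Main

open H9FE.PCMod in
theorem main [IsNoetherianRing Λ] (I : Ideal Λ) [IsArtinianRing (Λ ⧸ I)]
    (X : Scheme.{u}) [IsNoetherian X] [ProEtS.EpsCont X]
    (F : ARSys.PS (EtModW.Mod Λ X)) (hk : ARSys.TermKilled I F)
    (hF : ∀ n : ℕ, EtModW.IsFTLocConst Λ (F.obj (op n))) :
    ARSys.IsML (F ⋙ EtModW.epsPullMod Λ X) := by
  intro n
  let P : ℕ → X → Prop := fun r x => ∀ (Ω₁ : Type u) [Field Ω₁] [IsSepClosed Ω₁]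
    (ξ : Spec (CommRingCat.of Ω₁) ⟶ X), ξ default = x → Stab Λ F n ξ r
  have hgen : ∀ (r : ℕ) (q q' : X), q' ⤳ q → (q ∈ {x | P r x} ↔ q' ∈ {x | P r x}) := by
    intro r q q' hqq'
    constructor
    · intro hq Ω₁ _ _ ξ' hξ'
      let g := Groth.Agent.Lib.Helper5.EtStalk.geomPtAt q
      have hg : g.ξ default = q := Groth.Agent.Lib.Helper5.EtStalk.geomPtAt_default q
      obtain ⟨φ⟩ := exists_arrow g.ξ ξ' (by rw [hg, hξ']; exact hqq')
      exact (stab_iff_of_arrow Λ F n hF g.ξ ξ' φ r).1 (hq g.Ω g.ξ hg)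
    · intro hq' Ω₁ _ _ ξ hξ
      let g := Groth.Agent.Lib.Helper5.EtStalk.geomPtAt q'
      have hg : g.ξ default = q' := Groth.Agent.Lib.Helper5.EtStalk.geomPtAt_default q'
      obtain ⟨φ⟩ := exists_arrow ξ g.ξ (by rw [hg, hξ]; exact hqq')
      exact (stab_iff_of_arrow Λ F n hF ξ g.ξ φ r).2 (hq' g.Ω g.ξ hg)
  have hopen : ∀ r, IsOpen {x | P r x} := fun r =>
    (H9FE.SpFLC.isClopen_of_stable _ (hgen r)).isOpen
  have hcover : (Set.univ : Set X) ⊆ ⋃ r, {x | P r x} := by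
    intro x _
    let g := Groth.Agent.Lib.Helper5.EtStalk.geomPtAt x
    have hg : g.ξ default = x := Groth.Agent.Lib.Helper5.EtStalk.geomPtAt_default x
    obtain ⟨r, hr⟩ := exists_stab Λ F n I hk hF g.ξ
    refine Set.mem_iUnion.2 ⟨r, ?_⟩
    intro Ω₁ _ _ ξ hξ
    obtain ⟨φ⟩ := exists_arrow g.ξ ξ (by rw [hg, hξ])
    exact (stab_iff_of_arrow Λ F n hF g.ξ ξ φ r).1 hr
  have hdir : Directed (· ⊆ ·) (fun r => {x | P r x}) := by
    apply Monotone.directed_le
    intro r r' h x hx Ω₁ _ _ ξ hξ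
    exact stab_mono Λ F n ξ h (hx Ω₁ ξ hξ)
  obtain ⟨r, hr⟩ := isCompact_univ.elim_directed_cover _ hopen hcover hdir
  refine ⟨r, fun s hs => ?_⟩
  let E := EtModW.epsPullMod Λ X
  haveI : PreservesColimitsOfSize.{0, 0} E := (adjM Λ X).leftAdjoint_preservesColimits
  haveI : PreservesFiniteColimits E := PreservesColimitsOfSize.preservesFiniteColimits _
  apply le_antisymm
  · have h1 : ARSys.shiftMap (F ⋙ E) s n =
        E.map (F.map (homOfLE (Nat.add_le_add_left hs n)).op) ≫ ARSys.shiftMap (F ⋙ E) r n := by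
      show E.map (ARSys.shiftMap F s n) = _ ≫ E.map (ARSys.shiftMap F r n)
      rw [shiftMap_fac Λ F n r s hs, E.map_comp]
    exact imageSubobject_le_of_fac _ _ _ h1
  · apply imageSubobject_le_of_comp_cokernel_zero
    show E.map (ARSys.shiftMap F r n) ≫ cokernel.π (E.map (ARSys.shiftMap F s n)) = 0
    apply map_comp_cokernel_zero E
    apply hom_eq_zero_of_stalks
    intro g
    show (EtModW.stalk Λ g.ξ).map (ARSys.shiftMap F r n ≫ cokernel.π (ARSys.shiftMap F s n)) = 0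
    haveI : PreservesFiniteLimits (EtModW.stalk Λ g.ξ) := inferInstance
    haveI : (EtModW.stalk Λ g.ξ).Additive := Functor.additive_of_preserves_binary_products _
    rw [Functor.map_comp]
    ext a
    have hmem : ((EtModW.stalk Λ g.ξ).map (ARSys.shiftMap F r n)).hom a ∈ R Λ F n g.ξ r :=
      ⟨a, rfl⟩
    have hstab : Stab Λ F n g.ξ r := hr (Set.mem_univ (g.ξ default)) g.Ω g.ξ rfl
    obtain ⟨b, hb⟩ := hstab s hs hmem
    show ((EtModW.stalk Λ g.ξ).map (cokernel.π (ARSys.shiftMap F s n))).hom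
      (((EtModW.stalk Λ g.ξ).map (ARSys.shiftMap F r n)).hom a) = 0
    rw [← hb]
    have h2 : (EtModW.stalk Λ g.ξ).map (ARSys.shiftMap F s n) ≫
        (EtModW.stalk Λ g.ξ).map (cokernel.π (ARSys.shiftMap F s n)) = 0 := by
      rw [← Functor.map_comp, cokernel.condition, Functor.map_zero]
    have h3 := congrArg (fun ψ => ψ.hom b) h2
    exact h3

end Stalk

end Aux

/-- Let X be a Noetherian scheme, Λ a Noetherian commutative ring and I an ideal of Λ such that Λ/I is
artinian. Let (F_n) be an inverse system indexed by ℕ of sheaves of Λ-modules on the small étale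
site of X with I^(n+1) F_n = 0 for every n and every F_n locally constant of finite type (on some
étale covering isomorphic to constant sheaves with finitely generated values). Then the system
(ε⁻¹F_n) of pro-étale pullbacks satisfies the Mittag-Leffler condition: for each n, the image
subobjects of ε⁻¹F_(n+s) ⟶ ε⁻¹F_n are the same for all sufficiently large s. (Continuity of the
inclusion of the étale site into the pro-étale site is carried as a binder.) -/
theorem result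
    (Λ : Type (u + 1)) [CommRing Λ] [IsNoetherianRing Λ] (I : Ideal Λ) [IsArtinianRing (Λ ⧸ I)]
    (X : Scheme.{u}) [IsNoetherian X] [ProEtS.EpsCont X]
    (F : ARSys.PS (EtModW.Mod Λ X)) (hk : ARSys.TermKilled I F)
    (hF : ∀ n : ℕ, EtModW.IsFTLocConst Λ (F.obj (op n))) :
    ARSys.IsML (F ⋙ EtModW.epsPullMod Λ X) := by
  exact Aux.main Λ I X F hk hF

end Groth.Agent.S14024
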