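import Groth.Statements.S14029
import Mathlib
import Groth.Agent.Lib.Helper5.Misc.UnitIsoFF

set_option autoImplicit false
open CategoryTheory CategoryTheory.Limits Opposite
universe v u
open CohSite


namespace Groth.Agent.S14029

open Groth.Agent.Lib.Helper5.Misc

lemma full_forget {C : Type u} [Category.{v} C] (U : C) (hU : ∀ V : C, Subsingleton (V ⟶ U)) :
    (Over.forget U).Full where
  map_surjective {X _} f := ⟨Over.homMk f (Subsingleton.elim (h := hU X.left) _ _), rfl⟩

theorem main
    {C : Type u} [Category.{v} C] (J : GrothendieckTopology C) (U : C)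
    (hU : ∀ W : C, Subsingleton (W ⟶ U))
    [HasWeakSheafify J (Type (max u v))]
    [∀ (P : (Over U)ᵒᵖ ⥤ Type (max u v)), (Over.forget U).op.HasLeftKanExtension P]
    (V : C) (hV : (∀ (A B : Sheaf J (Type (max u v))) (ψ : A ⟶ B), Epi ψ → Function.Surjective (ψ.hom.app (op V)))) (a : V ⟶ U) :
    ∀ (A B : Sheaf (J.over U) (Type (max u v))) (ψ : A ⟶ B), Epi ψ →
      Function.Surjective (ψ.hom.app (op (Over.mk a))) := by
  intro A B ψ hψ
  haveI := full_forget U hU
  let adj := (Over.forget U).sheafAdjunctionContinuous (Type (max u v)) (J.over U) J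
  haveI : IsIso adj.unit := UnitIsoFF.isIso_unit_of_adj (Over.forget U) (Type (max u v)) (J.over U) J adj
  let L := (Over.forget U).sheafPullback (Type (max u v)) (J.over U) J
  haveI : L.PreservesEpimorphisms := Functor.preservesEpimorphisms_of_adjunction adj
  haveI : Epi (L.map ψ) := inferInstance
  have hs := hV _ _ (L.map ψ) inferInstance
  have nat := adj.unit.naturality ψ
  have nat' := congrArg (fun t => t.hom.app (op (Over.mk a))) nat
  haveI : IsIso (adj.unit.app A) := inferInstance
  haveI : IsIso (adj.unit.app B) := inferInstance
  have hA : Function.Bijective ((adj.unit.app A).hom.app (op (Over.mk a))) := by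
    haveI : IsIso ((adj.unit.app A).hom.app (op (Over.mk a))) :=
      inferInstanceAs (IsIso (((sheafToPresheaf _ _).map (adj.unit.app A)).app (op (Over.mk a))))
    exact (isIso_iff_bijective _).1 inferInstance
  have hB : Function.Bijective ((adj.unit.app B).hom.app (op (Over.mk a))) := by
    haveI : IsIso ((adj.unit.app B).hom.app (op (Over.mk a))) :=
      inferInstanceAs (IsIso (((sheafToPresheaf _ _).map (adj.unit.app B)).app (op (Over.mk a))))
    exact (isIso_iff_bijective _).1 inferInstance
  intro b
  obtain ⟨a', ha'⟩ := hs ((adj.unit.app B).hom.app (op (Over.mk a)) b)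
  obtain ⟨a₀, ha₀⟩ := hA.2 a'
  refine ⟨a₀, hB.1 ?_⟩
  have h1 := congrFun (congrArg (fun t => (ConcreteCategory.hom t : _ → _)) nat') a₀
  refine (h1.trans ?_).trans ha'
  change (L.map ψ).hom.app (op V) ((adj.unit.app A).hom.app (op (Over.mk a)) a₀) = _
  rw [ha₀]

end Groth.Agent.S14029

namespace Groth.Agent.S14029

/-- Let (C, J) be a site and U an object such that every object has at most one morphism to U; assume
extension by the empty set j_! from sheaves of sets on the localized site C/U to sheaves of sets on
C exists (through sheafification on C and left Kan extensions along C/U → C). If V is weakly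
contractible in C — every epimorphism of sheaves of sets on C is surjective on sections over V —
then for any morphism a : V ⟶ U the object V → U of C/U is weakly contractible in C/U: every
epimorphism of sheaves of sets on C/U is surjective on sections over it. Hence C/U has enough weakly
contractible objects when C does. -/
theorem result
    {C : Type u} [Category.{v} C] (J : GrothendieckTopology C) (U : C)
    (hU : ∀ W : C, Subsingleton (W ⟶ U))
    [HasWeakSheafify J (Type (max u v))]
    [∀ (P : (Over U)ᵒᵖ ⥤ Type (max u v)), (Over.forget U).op.HasLeftKanExtension P]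
    (V : C) (hV : (∀ (A B : Sheaf J (Type (max u v))) (ψ : A ⟶ B), Epi ψ → Function.Surjective (ψ.hom.app (op V)))) (a : V ⟶ U) :
    ∀ (A B : Sheaf (J.over U) (Type (max u v))) (ψ : A ⟶ B), Epi ψ →
      Function.Surjective (ψ.hom.app (op (Over.mk a))) := by
  exact main J U hU V hV a

end Groth.Agent.S14029
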