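import Groth.Statements.S14032
import Mathlib

set_option autoImplicit false
universe u v
open W4c1frobunstiva

namespace Groth.Agent.S14032

open TensorProduct

section
variable {R : Type u} [CommRing R] {M : Type v} [AddCommGroup M] [Module R M]

theorem one_tmul_eq_zero_iff (I : Ideal R) (x : M) :
    (1 : R ⧸ I) ⊗ₜ[R] x = 0 ↔ x ∈ I • (⊤ : Submodule R M) := by
  rw [← (TensorProduct.quotTensorEquivQuotSMul M I).map_eq_zero_iff,
    TensorProduct.quotTensorEquivQuotSMul_mk_one_tmul, Submodule.Quotient.mk_eq_zero]

theorem smul_one_tmul (I : Ideal R) (a : R) (x : M) :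
    (Ideal.Quotient.mk I a) • ((1 : R ⧸ I) ⊗ₜ[R] x) = (1 : R ⧸ I) ⊗ₜ[R] (a • x) := by
  rw [TensorProduct.smul_tmul', smul_eq_mul, mul_one, ← TensorProduct.smul_tmul,
    ← Algebra.algebraMap_eq_smul_one]
  rfl

theorem mem_smul_top_of_span {r : ℕ} (I : Ideal R) (m : Fin r → M)
    (hm : Submodule.span R (Set.range m) = ⊤) (x : M) (hx : x ∈ I • (⊤ : Submodule R M)) :
    ∃ b : Fin r → R, (∀ i, b i ∈ I) ∧ x = ∑ i, b i • m i := by
  refine Submodule.smul_induction_on hx (fun c hc y _ => ?_) (fun y z hy hz => ?_)
  · have hy : y ∈ Submodule.span R (Set.range m) := by rw [hm]; trivial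
    obtain ⟨d, hd⟩ := (Submodule.mem_span_range_iff_exists_fun R).1 hy
    refine ⟨fun i => c * d i, fun i => I.mul_mem_right _ hc, ?_⟩
    rw [← hd, Finset.smul_sum]
    refine Finset.sum_congr rfl (fun i _ => ?_)
    rw [mul_smul]
  · obtain ⟨b, hb, rfl⟩ := hy
    obtain ⟨b', hb', rfl⟩ := hz
    refine ⟨fun i => b i + b' i, fun i => I.add_mem (hb i) (hb' i), ?_⟩
    rw [← Finset.sum_add_distrib]
    refine Finset.sum_congr rfl (fun i _ => ?_)
    rw [add_smul]

theorem span_eq_top_of_nilpotent (I : Ideal R) (hI : IsNilpotent I) (N : Submodule R M)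
    (h : N ⊔ I • (⊤ : Submodule R M) = ⊤) : N = ⊤ := by
  obtain ⟨k, hk⟩ := hI
  have key : ∀ j : ℕ, N ⊔ (I ^ j) • (⊤ : Submodule R M) = ⊤ := by
    intro j
    induction j with
    | zero => simp
    | succ j ih =>
      rw [eq_top_iff]
      calc (⊤ : Submodule R M) = N ⊔ (I ^ j) • (⊤ : Submodule R M) := ih.symm
        _ = N ⊔ (I ^ j) • (N ⊔ I • (⊤ : Submodule R M)) := by rw [h]
        _ ≤ N ⊔ (I ^ (j + 1)) • (⊤ : Submodule R M) := by
          rw [Submodule.smul_sup]
          refine sup_le le_sup_left (sup_le ?_ ?_)
          · exact le_trans Submodule.smul_le_right le_sup_left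
          · rw [← Submodule.mul_smul, ← pow_succ]
            exact le_sup_right
  have := key k
  rwa [hk, Submodule.zero_eq_bot, Submodule.bot_smul, sup_bot_eq] at this

end

open TensorProduct in
/-- Let R be a commutative Noetherian ring with nilradical n, M an R-module and r a natural number. Then
M is NR-free of rank r — generated by r elements such that every linear relation among them has
nilpotent coefficients — if and only if (R/n) ⊗_R M is free of rank r over R/n, in the sense of
admitting a basis indexed by r elements. (The published statement assumes M finitely generated and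
also gives the converse when R is local; over a Noetherian ring the nilradical is nilpotent, the
case used here, and finite generation is not needed.) -/
theorem result (R : Type u) [CommRing R]
    [IsNoetherianRing R] (M : Type v) [AddCommGroup M] [Module R M] (r : ℕ) :
    W4c1frobunstiva.IsNRFree R M r ↔
      Nonempty (Module.Basis (Fin r) (R ⧸ nilradical R) ((R ⧸ nilradical R) ⊗[R] M)) := by
  classical
  have hnil : IsNilpotent (nilradical R) := IsNoetherianRing.isNilpotent_nilradical R
  constructor
  · rintro ⟨m, hspan, hrel⟩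
    let v : Fin r → (R ⧸ nilradical R) ⊗[R] M := fun i => (1 : R ⧸ nilradical R) ⊗ₜ[R] m i
    have hli : LinearIndependent (R ⧸ nilradical R) v := by
      rw [Fintype.linearIndependent_iff]
      intro g hg i
      choose a ha using fun i => Ideal.Quotient.mk_surjective (g i)
      have h1 : (1 : R ⧸ nilradical R) ⊗ₜ[R] (∑ i, a i • m i) = 0 := by
        rw [TensorProduct.tmul_sum, ← hg]
        refine Finset.sum_congr rfl (fun i _ => ?_)
        rw [← ha i, smul_one_tmul]
      rw [one_tmul_eq_zero_iff] at h1
      obtain ⟨b, hb, hb'⟩ := mem_smul_top_of_span (nilradical R) m hspan _ h1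
      have h2 : ∑ i, (a i - b i) • m i = 0 := by
        simp only [sub_smul, Finset.sum_sub_distrib]
        rw [hb', sub_self]
      have h3 := hrel _ h2 i
      have h4 : IsNilpotent (a i) := by
        have : a i = (a i - b i) + b i := by ring
        rw [this]
        exact (Commute.all _ _).isNilpotent_add h3 (hb i)
      rw [← ha i, Ideal.Quotient.eq_zero_iff_mem]
      exact h4
    have hsp : ⊤ ≤ Submodule.span (R ⧸ nilradical R) (Set.range v) := by
      intro t _
      clear hli
      induction t using TensorProduct.induction_on with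
      | zero => exact Submodule.zero_mem _
      | tmul c x =>
        have hx : x ∈ Submodule.span R (Set.range m) := by rw [hspan]; trivial
        obtain ⟨d, hd⟩ := (Submodule.mem_span_range_iff_exists_fun R).1 hx
        have : c ⊗ₜ[R] x = ∑ i, (c * Ideal.Quotient.mk _ (d i)) • v i := by
          rw [← hd, TensorProduct.tmul_sum]
          refine Finset.sum_congr rfl (fun i _ => ?_)
          simp only [v]
          rw [mul_smul, smul_one_tmul, TensorProduct.smul_tmul', smul_eq_mul, mul_one]
        rw [this]
        exact Submodule.sum_mem _ (fun i _ => Submodule.smul_mem _ _ (Submodule.subset_span ⟨i, rfl⟩))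
      | add x y hx hy => exact Submodule.add_mem _ (hx trivial) (hy trivial)
    exact ⟨Module.Basis.mk hli hsp⟩
  · rintro ⟨b⟩
    have hsurj : ∀ t : (R ⧸ nilradical R) ⊗[R] M, ∃ x : M, (1 : R ⧸ nilradical R) ⊗ₜ[R] x = t := by
      intro t
      induction t using TensorProduct.induction_on with
      | zero => exact ⟨0, by simp⟩
      | tmul c x =>
        obtain ⟨a, rfl⟩ := Ideal.Quotient.mk_surjective c
        refine ⟨a • x, ?_⟩
        rw [← smul_one_tmul, TensorProduct.smul_tmul', smul_eq_mul, mul_one]
      | add x y hx hy =>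
        obtain ⟨x', rfl⟩ := hx
        obtain ⟨y', rfl⟩ := hy
        exact ⟨x' + y', TensorProduct.tmul_add _ _ _⟩
    choose m hm using fun i => hsurj (b i)
    refine ⟨m, ?_, ?_⟩
    · apply span_eq_top_of_nilpotent (nilradical R) hnil
      rw [eq_top_iff]
      intro x _
      -- 1 ⊗ x = Σ g_i b_i
      have hx := b.sum_repr ((1 : R ⧸ nilradical R) ⊗ₜ[R] x)
      choose a ha using fun i => Ideal.Quotient.mk_surjective (b.repr ((1 : R ⧸ nilradical R) ⊗ₜ[R] x) i)
      have h1 : (1 : R ⧸ nilradical R) ⊗ₜ[R] (x - ∑ i, a i • m i) = 0 := by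
        rw [TensorProduct.tmul_sub, TensorProduct.tmul_sum, sub_eq_zero]
        conv_lhs => rw [← hx]
        refine Finset.sum_congr rfl (fun i _ => ?_)
        rw [← ha i, ← hm i, smul_one_tmul]
      rw [one_tmul_eq_zero_iff] at h1
      have : x = (∑ i, a i • m i) + (x - ∑ i, a i • m i) := by abel
      rw [this]
      refine Submodule.add_mem_sup ?_ h1
      exact Submodule.sum_mem _ (fun i _ => Submodule.smul_mem _ _ (Submodule.subset_span ⟨i, rfl⟩))
    · intro a hrel i
      have h1 : ∑ i, (Ideal.Quotient.mk (nilradical R) (a i)) • b i = 0 := by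
        have : (1 : R ⧸ nilradical R) ⊗ₜ[R] (∑ i, a i • m i) = 0 := by rw [hrel, tmul_zero]
        rw [TensorProduct.tmul_sum] at this
        rw [← this]
        refine Finset.sum_congr rfl (fun i _ => ?_)
        rw [← hm i, smul_one_tmul]
      have h2 := (Fintype.linearIndependent_iff.1 b.linearIndependent) _ h1 i
      exact Ideal.Quotient.eq_zero_iff_mem.1 h2

end Groth.Agent.S14032
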