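import Groth.Statements.S14033
import Mathlib

set_option autoImplicit false
universe u v
open W4c1frobunstiva

namespace Groth.Agent.S14033

section
open DualNumber Pointwise
variable {R : Type u} [CommRing R] {M : Type v} [AddCommGroup M] [Module R[ε] M] [Module R M]
  [IsScalarTower R R[ε] M]

theorem smul_decomp (t : R[ε]) (m : M) : t • m = t.fst • m + t.snd • ((ε : R[ε]) • m) := by
  have ht : t = algebraMap R R[ε] t.fst + t.snd • (ε : R[ε]) := by
    rw [TrivSqZeroExt.algebraMap_eq_inl, ← DualNumber.inr_eq_smul_eps,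
      TrivSqZeroExt.inl_fst_add_inr_snd_eq]
  conv_lhs => rw [ht]
  rw [add_smul, algebraMap_smul, smul_assoc]

theorem eps_eps (m : M) : (ε : R[ε]) • ((ε : R[ε]) • m) = 0 := by
  rw [← mul_smul, DualNumber.eps_mul_eps, zero_smul]

variable (R M) in
abbrev E : Submodule R[ε] M := (ε : R[ε]) • (⊤ : Submodule R[ε] M)

theorem mem_E {x : M} : x ∈ E R M ↔ ∃ m : M, (ε : R[ε]) • m = x := by
  rw [Submodule.mem_smul_pointwise_iff_exists]
  simp

theorem eps_mem_E (m : M) : (ε : R[ε]) • m ∈ E R M := mem_E.mpr ⟨m, rfl⟩

theorem eps_smul_of_mem_E {x : M} (hx : x ∈ E R M) : (ε : R[ε]) • x = 0 := by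
  obtain ⟨m, rfl⟩ := mem_E.mp hx
  exact eps_eps m

theorem eps_mul (t : R[ε]) : (ε : R[ε]) * t = t.fst • (ε : R[ε]) := by
  apply TrivSqZeroExt.ext
  · simp [TrivSqZeroExt.fst_mul]
  · simp [DualNumber.snd_mul]

omit [Module R M] [IsScalarTower R R[ε] M] in
theorem mk_sum {ι : Type*} (s : Finset ι) (f : ι → M) :
    (Submodule.Quotient.mk (∑ i ∈ s, f i) : M ⧸ E R M) = ∑ i ∈ s, Submodule.Quotient.mk (f i) :=
  map_sum (E R M).mkQ f s

theorem forward (r : ℕ) (b : Module.Basis (Fin r) R[ε] M) :
    Nonempty (Module.Basis (Fin r) R (M ⧸ E R M)) ∧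
      Nonempty (Module.Basis (Fin r) R ((E R M).restrictScalars R)) := by
  constructor
  · refine ⟨Module.Basis.mk (v := fun i => (Submodule.Quotient.mk (b i) : M ⧸ E R M)) ?_ ?_⟩
    · rw [Fintype.linearIndependent_iff]
      intro g hg i
      have h1 : (Submodule.Quotient.mk (∑ j, g j • b j) : M ⧸ E R M) = 0 := by
        rw [mk_sum]
        simpa [Submodule.Quotient.mk_smul] using hg
      rw [Submodule.Quotient.mk_eq_zero] at h1
      obtain ⟨m, hm⟩ := mem_E.mp h1
      have h2 : ∑ j, g j • b j = ∑ j, (algebraMap R R[ε] (g j)) • b j := by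
        apply Finset.sum_congr rfl; intro j _; rw [algebraMap_smul]
      rw [h2] at hm
      have h3 := congrArg (fun x => b.repr x i) hm
      simp only [map_smul, Finsupp.smul_apply, Module.Basis.repr_sum_self] at h3
      have h4 := congrArg TrivSqZeroExt.fst h3
      simp [TrivSqZeroExt.fst_mul, TrivSqZeroExt.algebraMap_eq_inl] at h4
      exact h4.symm
    · intro x _
      obtain ⟨m, rfl⟩ := Submodule.Quotient.mk_surjective _ x
      rw [← b.sum_repr m, mk_sum]
      apply Submodule.sum_mem
      intro i _
      have hz : (Submodule.Quotient.mk ((ε : R[ε]) • b i) : M ⧸ E R M) = 0 :=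
        (Submodule.Quotient.mk_eq_zero _).mpr (eps_mem_E (R := R) (b i))
      rw [smul_decomp, Submodule.Quotient.mk_add, Submodule.Quotient.mk_smul,
        Submodule.Quotient.mk_smul (E R M) ((b.repr m i).snd) ((ε : R[ε]) • b i), hz, smul_zero, add_zero]
      exact Submodule.smul_mem _ _ (Submodule.subset_span ⟨i, rfl⟩)
  · refine ⟨Module.Basis.mk (v := fun i => (⟨(ε : R[ε]) • b i, eps_mem_E (b i)⟩ : (E R M).restrictScalars R)) ?_ ?_⟩
    · rw [Fintype.linearIndependent_iff]
      intro g hg i
      have h1 : ∑ j, g j • ((ε : R[ε]) • b j) = 0 := by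
        have := congrArg (fun x : (E R M).restrictScalars R => (x : M)) hg
        simpa using this
      have h2 : ∑ j, g j • ((ε : R[ε]) • b j) = ∑ j, (g j • (ε : R[ε])) • b j := by
        apply Finset.sum_congr rfl; intro j _; rw [smul_assoc]
      rw [h2] at h1
      have h3 := congrArg (fun x => b.repr x i) h1
      simp only [Module.Basis.repr_sum_self, map_zero, Finsupp.zero_apply] at h3
      have h4 := congrArg TrivSqZeroExt.snd h3
      simpa using h4
    · intro x _
      obtain ⟨x, hx⟩ := x
      obtain ⟨m, rfl⟩ := mem_E.mp hx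
      have hm : (ε : R[ε]) • m = ∑ i, (b.repr m i).fst • ((ε : R[ε]) • b i) := by
        conv_lhs => rw [← b.sum_repr m]
        rw [Finset.smul_sum]
        apply Finset.sum_congr rfl
        intro i _
        rw [← mul_smul, eps_mul, smul_assoc]
      have : (⟨(ε : R[ε]) • m, hx⟩ : (E R M).restrictScalars R) =
          ∑ i, (b.repr m i).fst • (⟨(ε : R[ε]) • b i, eps_mem_E (b i)⟩ : (E R M).restrictScalars R) := by
        apply Subtype.ext
        simp only [Submodule.coe_sum, Submodule.coe_smul]
        exact hm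
      rw [this]
      apply Submodule.sum_mem
      intro i _
      exact Submodule.smul_mem _ _ (Submodule.subset_span ⟨i, rfl⟩)

theorem backward (r : ℕ) (β : Module.Basis (Fin r) R (M ⧸ E R M))
    (γ : Module.Basis (Fin r) R ((E R M).restrictScalars R)) :
    Nonempty (Module.Basis (Fin r) R[ε] M) := by
  choose b hb using fun i => Submodule.Quotient.mk_surjective (E R M) (β i)
  -- step 1
  have step1 : ∀ m : M, ∃ a : Fin r → R, m - ∑ i, a i • b i ∈ E R M := by
    intro m
    refine ⟨fun i => β.repr (Submodule.Quotient.mk m) i, ?_⟩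
    rw [← Submodule.Quotient.mk_eq_zero, Submodule.Quotient.mk_sub, mk_sum, sub_eq_zero]
    conv_lhs => rw [← β.sum_repr (Submodule.Quotient.mk m)]
    apply Finset.sum_congr rfl
    intro i _
    rw [Submodule.Quotient.mk_smul, hb]
  have step2 : ∀ x ∈ E R M, ∃ c : Fin r → R, x = ∑ i, c i • ((ε : R[ε]) • b i) := by
    intro x hx
    obtain ⟨m, rfl⟩ := mem_E.mp hx
    obtain ⟨a, ha⟩ := step1 m
    refine ⟨a, ?_⟩
    have h0 := eps_smul_of_mem_E ha
    rw [smul_sub, sub_eq_zero] at h0
    rw [h0, Finset.smul_sum]
    apply Finset.sum_congr rfl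
    intro i _
    rw [smul_comm]
  -- the map ψ
  let w : Fin r → (E R M).restrictScalars R := fun i => ⟨(ε : R[ε]) • b i, eps_mem_E (b i)⟩
  let ψ : (Fin r → R) →ₗ[R] (E R M).restrictScalars R := Fintype.linearCombination R w
  have hψsurj : Function.Surjective ψ := by
    rintro ⟨x, hx⟩
    obtain ⟨c, hc⟩ := step2 x hx
    refine ⟨c, ?_⟩
    apply Subtype.ext
    show ((Fintype.linearCombination R w c : (E R M).restrictScalars R) : M) = x
    rw [Fintype.linearCombination_apply, hc]
    simp only [Submodule.coe_sum, Submodule.coe_smul]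
    rfl
  have hψinj : Function.Injective ψ := by
    have h1 : Function.Surjective (γ.equivFun.toLinearMap ∘ₗ ψ) :=
      γ.equivFun.surjective.comp hψsurj
    have h2 : Function.Injective (γ.equivFun.toLinearMap ∘ₗ ψ) :=
      OrzechProperty.injective_of_surjective_endomorphism _ h1
    intro x y hxy
    apply h2
    simp only [LinearMap.comp_apply, hxy]
  refine ⟨Module.Basis.mk (v := b) ?_ ?_⟩
  · rw [Fintype.linearIndependent_iff]
    intro t ht i
    have hdec : ∑ j, t j • b j = ∑ j, (t j).fst • b j + ∑ j, (t j).snd • ((ε : R[ε]) • b j) := by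
      rw [← Finset.sum_add_distrib]
      apply Finset.sum_congr rfl; intro j _; rw [smul_decomp]
    rw [hdec] at ht
    have hE : ∑ j, (t j).snd • ((ε : R[ε]) • b j) ∈ E R M := by
      apply Submodule.sum_mem
      intro j _
      have : (t j).snd • ((ε : R[ε]) • b j) = (ε : R[ε]) • ((t j).snd • b j) := by rw [smul_comm]
      rw [this]; exact eps_mem_E _
    have hfst : ∀ j, (t j).fst = 0 := by
      have h1 : (Submodule.Quotient.mk (∑ j, (t j).fst • b j + ∑ j, (t j).snd • ((ε : R[ε]) • b j)) : M ⧸ E R M) = 0 := by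
        rw [ht]; rfl
      rw [Submodule.Quotient.mk_add, (Submodule.Quotient.mk_eq_zero _).mpr hE, add_zero,
        mk_sum] at h1
      have h2 : ∑ j, (t j).fst • β j = 0 := by
        rw [← h1]
        apply Finset.sum_congr rfl; intro j _
        rw [Submodule.Quotient.mk_smul, hb]
      exact Fintype.linearIndependent_iff.mp β.linearIndependent _ h2
    have hsnd : ∀ j, (t j).snd = 0 := by
      have h1 : ∑ j, (t j).snd • ((ε : R[ε]) • b j) = 0 := by
        simpa [hfst] using ht
      have h2 : ψ (fun j => (t j).snd) = 0 := by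
        apply Subtype.ext
        show ((Fintype.linearCombination R w (fun j => (t j).snd) : (E R M).restrictScalars R) : M) = 0
        rw [Fintype.linearCombination_apply]
        simp only [Submodule.coe_sum, Submodule.coe_smul]
        exact h1
      have h3 : (fun j => (t j).snd) = 0 := hψinj (by rw [h2, map_zero])
      intro j
      exact congrFun h3 j
    exact TrivSqZeroExt.ext (hfst i) (hsnd i)
  · intro m _
    obtain ⟨a, ha⟩ := step1 m
    obtain ⟨c, hc⟩ := step2 _ ha
    have : m = ∑ i, a i • b i + ∑ i, c i • ((ε : R[ε]) • b i) := by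
      rw [← hc]; abel
    rw [this]
    apply Submodule.add_mem
    · apply Submodule.sum_mem; intro i _
      rw [← algebraMap_smul R[ε] (a i) (b i)]
      exact Submodule.smul_mem _ _ (Submodule.subset_span ⟨i, rfl⟩)
    · apply Submodule.sum_mem; intro i _
      rw [← smul_assoc]
      exact Submodule.smul_mem _ _ (Submodule.subset_span ⟨i, rfl⟩)

theorem main (R : Type u) [CommRing R] (M : Type v)
    [AddCommGroup M] [Module R[ε] M] [Module R M] [IsScalarTower R R[ε] M] (r : ℕ) :
    Nonempty (Module.Basis (Fin r) R[ε] M) ↔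
      (Nonempty (Module.Basis (Fin r) R (M ⧸ ((ε : R[ε]) • (⊤ : Submodule R[ε] M)))) ∧
        Nonempty (Module.Basis (Fin r) R (((ε : R[ε]) • (⊤ : Submodule R[ε] M)).restrictScalars R))) := by
  constructor
  · rintro ⟨b⟩
    exact forward r b
  · rintro ⟨⟨β⟩, ⟨γ⟩⟩
    exact backward r β γ

end


open DualNumber Pointwise in
/-- Let R be a commutative ring, R[ε] its ring of dual numbers (ε² = 0), M an R[ε]-module and r a
natural number. Then M is free of rank r over R[ε] (admits a basis of r elements) if and only if the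
R-modules M/εM and εM are both free of rank r. (The published statement concerns a coherent sheaf on
the product of a scheme S with Spec ℤ[ε] and local freeness of rank r; that assertion is local, and
this row is its form over one ring, with no finiteness assumption on M and no hypothesis on R.) -/
theorem result (R : Type u) [CommRing R] (M : Type v)
    [AddCommGroup M] [Module R[ε] M] [Module R M] [IsScalarTower R R[ε] M] (r : ℕ) :
    Nonempty (Module.Basis (Fin r) R[ε] M) ↔
      (Nonempty (Module.Basis (Fin r) R (M ⧸ ((ε : R[ε]) • (⊤ : Submodule R[ε] M)))) ∧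
        Nonempty (Module.Basis (Fin r) R (((ε : R[ε]) • (⊤ : Submodule R[ε] M)).restrictScalars R))) := by
  classical
  exact main R M r

end Groth.Agent.S14033
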