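import Groth.Statements.S14034
import Mathlib

set_option autoImplicit false
universe u
open W4c1frobunstiva

namespace Groth.Agent.S14034

section


theorem main (R : Type u)
    [CommRing R] [IsNoetherianRing R] [IsLocalRing R] (f : R)
    (hann : ∀ a : R, a * f = 0 → IsNilpotent a) (r s l : ℕ) (hls : l ≤ s)
    (φ : (Fin r → R) →ₗ[R]
      ((Fin s → R) ⧸ Submodule.span R (Set.range fun i : Fin l => (Pi.single (Fin.castLE hls i) f : Fin s → R))))
    (hφ : Function.Surjective φ) :
    W4c1frobunstiva.IsNRFree R (LinearMap.ker φ) (r + l - s) ∧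
      (l = 0 → Nonempty (Module.Basis (Fin (r - s)) R (LinearMap.ker φ))) := by
  classical
  let e : Fin l → (Fin s → R) := fun i => Pi.single (Fin.castLE hls i) f
  let U : Submodule R (Fin s → R) := Submodule.span R (Set.range e)
  let E : (Fin l → R) →ₗ[R] (Fin s → R) := Fintype.linearCombination R e
  have hE_range : LinearMap.range E = U := Fintype.range_linearCombination R e
  have hE_apply : ∀ y, E y = ∑ i, y i • e i := fun y => Fintype.linearCombination_apply R e y
  -- lift φ
  obtain ⟨φt, hφt⟩ := Module.projective_lifting_property U.mkQ φ (Submodule.mkQ_surjective U)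
  have hφt' : ∀ x, Submodule.Quotient.mk (φt x) = φ x := fun x => congrArg (fun g => g x) hφt
  let M := (Fin r → R) × (Fin l → R)
  let ψ : M →ₗ[R] (Fin s → R) := φt.coprod (-E)
  have hψ_apply : ∀ x y, ψ (x, y) = φt x - E y := by
    intro x y
    show φt x + (-E) y = φt x - E y
    rw [LinearMap.neg_apply, sub_eq_add_neg]
  have hψsurj : Function.Surjective ψ := by
    intro z
    obtain ⟨x, hx⟩ := hφ (Submodule.Quotient.mk z)
    have h1 : φt x - z ∈ U := by
      rw [← Submodule.Quotient.mk_eq_zero, Submodule.Quotient.mk_sub, hφt', hx, sub_self]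
    rw [← hE_range] at h1
    obtain ⟨y, hy⟩ := h1
    exact ⟨(x, y), by rw [hψ_apply, hy]; abel⟩
  -- splitting
  obtain ⟨σ, hσ⟩ := Module.projective_lifting_property ψ LinearMap.id hψsurj
  have hσ' : ∀ z, ψ (σ z) = z := fun z => congrArg (fun g => g z) hσ
  let K := LinearMap.ker ψ
  let ret : M →ₗ[R] K := LinearMap.codRestrict K (LinearMap.id - σ ∘ₗ ψ) (by
    intro m
    rw [LinearMap.mem_ker, LinearMap.sub_apply, map_sub, LinearMap.comp_apply, hσ', LinearMap.id_apply,
      sub_self])
  have hret : ∀ k : K, ret k = k := by
    intro k
    apply Subtype.ext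
    have : ψ (k : M) = 0 := k.2
    simp [ret, this]
  have hretM : ∀ m : M, ((ret m : K) : M) = m - σ (ψ m) := by
    intro m; simp [ret]
  have hKproj : Module.Projective R K :=
    Module.Projective.of_split K.subtype ret (by ext k : 1; exact hret k)
  have hretsurj : Function.Surjective ret := fun k => ⟨k, hret k⟩
  have hKfin : Module.Finite R K := Module.Finite.of_surjective ret hretsurj
  have hKfree : Module.Free R K := Module.free_of_flat_of_isLocalRing
  -- the equivalence M ≃ K × R^s
  have hprod_apply : ∀ m : M, (ret.prod ψ) m = (ret m, ψ m) := fun m => rfl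
  have heqv_inj : Function.Injective (ret.prod ψ) := by
    rw [← LinearMap.ker_eq_bot, LinearMap.ker_eq_bot']
    intro m hm
    rw [hprod_apply, Prod.mk_eq_zero] at hm
    have h1 := congrArg (fun k : K => (k : M)) hm.1
    simp only [hretM, hm.2, map_zero, sub_zero, ZeroMemClass.coe_zero] at h1
    exact h1
  have heqv_surj : Function.Surjective (ret.prod ψ) := by
    rintro ⟨k, z⟩
    have hk : ψ (k : M) = 0 := k.2
    refine ⟨(k : M) + σ z, ?_⟩
    rw [hprod_apply]
    apply Prod.ext
    · apply Subtype.ext
      show ((ret ((k : M) + σ z) : K) : M) = (k : M)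
      rw [hretM, map_add, hk, hσ', zero_add]
      abel
    · show ψ ((k : M) + σ z) = z
      rw [map_add, hk, hσ', zero_add]
  let eqv : M ≃ₗ[R] (K × (Fin s → R)) := LinearEquiv.ofBijective (ret.prod ψ) ⟨heqv_inj, heqv_surj⟩
  have hrank : Module.finrank R K = r + l - s := by
    have h1 := eqv.finrank_eq
    rw [Module.finrank_prod, Module.finrank_prod, Module.finrank_fin_fun, Module.finrank_fin_fun,
      Module.finrank_fin_fun] at h1
    omega
  let κ : Module.Basis (Fin (r + l - s)) R K := Module.finBasisOfFinrankEq R K hrank
  -- the projection to ker φ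
  have hπmem : ∀ k : K, (k : M).1 ∈ LinearMap.ker φ := by
    intro k
    have hk : ψ (k : M) = 0 := k.2
    have hk' : φt (k : M).1 = E (k : M).2 := by
      have := hψ_apply (k : M).1 (k : M).2
      rw [Prod.mk.eta, hk] at this
      exact (sub_eq_zero.mp this.symm)
    rw [LinearMap.mem_ker, ← hφt', hk', Submodule.Quotient.mk_eq_zero]
    show E (k : M).2 ∈ U
    rw [← hE_range]
    exact LinearMap.mem_range_self _ _
  let π : K →ₗ[R] LinearMap.ker φ :=
    LinearMap.codRestrict (LinearMap.ker φ) ((LinearMap.fst R _ _) ∘ₗ K.subtype) hπmem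
  have hπ_coe : ∀ k : K, ((π k : LinearMap.ker φ) : Fin r → R) = (k : M).1 := fun k => rfl
  have hπsurj : Function.Surjective π := by
    rintro ⟨x, hx⟩
    rw [LinearMap.mem_ker, ← hφt', Submodule.Quotient.mk_eq_zero] at hx
    have hx' : φt x ∈ LinearMap.range E := by rw [hE_range]; exact hx
    obtain ⟨y, hy⟩ := hx'
    have hk : (x, y) ∈ K := by
      rw [LinearMap.mem_ker, hψ_apply, hy, sub_self]
    exact ⟨⟨(x, y), hk⟩, Subtype.ext rfl⟩
  -- kernel of π has nilpotent coordinates
  have hkerπ : ∀ k : K, π k = 0 → ∀ i, IsNilpotent ((k : M).2 i) := by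
    intro k hk i
    have h1 : (k : M).1 = 0 := by
      have := congrArg (fun z : LinearMap.ker φ => (z : Fin r → R)) hk
      simpa [hπ_coe] using this
    have hk0 : ψ (k : M) = 0 := k.2
    have h2 : E (k : M).2 = 0 := by
      have := hψ_apply (k : M).1 (k : M).2
      rw [Prod.mk.eta, hk0, h1, map_zero, zero_sub] at this
      exact neg_eq_zero.mp this.symm
    rw [hE_apply] at h2
    have h3 := congrFun h2 (Fin.castLE hls i)
    simp only [Finset.sum_apply, Pi.smul_apply, Pi.zero_apply, e] at h3
    rw [Finset.sum_eq_single i] at h3
    · simp only [Pi.single_eq_same, smul_eq_mul] at h3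
      exact hann _ h3
    · intro j _ hji
      have : Fin.castLE hls i ≠ Fin.castLE hls j := by
        intro h
        exact hji ((Fin.castLE_injective hls) h).symm
      rw [Pi.single_eq_of_ne this, smul_zero]
    · intro h; exact absurd (Finset.mem_univ i) h
  constructor
  · refine ⟨fun j => π (κ j), ?_, ?_⟩
    · rw [Set.range_comp', ← Submodule.map_span, κ.span_eq, Submodule.map_top, LinearMap.range_eq_top]
      exact hπsurj
    · intro a ha j
      have h1 : π (∑ j, a j • κ j) = 0 := by
        rw [map_sum]
        simpa [map_smul] using ha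
      obtain ⟨k, hkdef⟩ : ∃ k : K, k = ∑ j, a j • κ j := ⟨_, rfl⟩
      rw [← hkdef] at h1
      have hnil := hkerπ k h1
      have hk1 : (k : M).1 = 0 := by
        have := congrArg (fun z : LinearMap.ker φ => (z : Fin r → R)) h1
        simpa [hπ_coe] using this
      have haj : a j = κ.repr k j := by
        rw [hkdef, κ.repr_sum_self]
      -- the functional
      let ℓ : M →ₗ[R] R := (κ.coord j) ∘ₗ ret
      have hℓ : ℓ (k : M) = a j := by
        simp only [ℓ, LinearMap.comp_apply, hret, Module.Basis.coord_apply, haj]
      have hkdecomp : (k : M) = ∑ i, (k : M).2 i • ((0 : Fin r → R), (Pi.single i (1 : R) : Fin l → R)) := by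
        apply Prod.ext
        · rw [hk1]
          simp [Prod.fst_sum]
        · simp only [Prod.snd_sum, Prod.smul_snd]
          ext i'
          simp [Finset.sum_apply, Pi.single_apply]
      rw [← hℓ, hkdecomp, map_sum]
      have hmem : ∀ i ∈ (Finset.univ : Finset (Fin l)),
          ℓ ((k : M).2 i • ((0 : Fin r → R), (Pi.single i (1 : R) : Fin l → R))) ∈ nilradical R := by
        intro i _
        rw [map_smul, smul_eq_mul]
        exact Ideal.mul_mem_right _ _ (mem_nilradical.mpr (hnil i))
      exact mem_nilradical.mp (Ideal.sum_mem _ hmem)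
  · intro hl
    subst hl
    have hπinj : Function.Injective π := by
      rw [← LinearMap.ker_eq_bot, LinearMap.ker_eq_bot']
      intro k hk
      have h1 : (k : M).1 = 0 := by
        have := congrArg (fun z : LinearMap.ker φ => (z : Fin r → R)) hk
        simpa [hπ_coe] using this
      apply Subtype.ext
      apply Prod.ext
      · exact h1
      · exact Subsingleton.elim _ _
    let eπ : K ≃ₗ[R] LinearMap.ker φ := LinearEquiv.ofBijective π ⟨hπinj, hπsurj⟩
    exact ⟨(κ.map eπ).reindex (finCongr (by omega))⟩

end


/-- Let R be a Noetherian local ring and f an element of R whose annihilator consists of nilpotent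
elements (a f = 0 forces a nilpotent), r, s and l ≤ s natural numbers, N the quotient of the free
module R^s by the submodule spanned by f e_1, …, f e_l (e_i the standard basis vectors), and φ : R^r
→ N a surjective linear map. Then the kernel of φ is NR-free of rank r + l − s: it is generated by r
+ l − s elements every linear relation among which has nilpotent coefficients; and when l = 0 the
kernel is free of rank r − s. (The published statement takes R Noetherian with irreducible spectrum
and R_red a domain, not necessarily local, and f arbitrary. Over the coordinate ring of the real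
2-sphere the kernel of (x, y, z) : R³ → R is not free, and over k[x, y]/(y², xy) localised at (x, y)
with f = y the kernel of R → R/(y) is spanned by y with the non-nilpotent relation x·y = 0. The
published argument uses that the kernel of a surjection of free modules is free, true over a local
ring, and that a f = 0 forces a nilpotent, which is the hypothesis taken here; it holds when R_red
is a domain and f is not nilpotent, and also for f = ε in A[ε] with A a domain, so primality of the
nilradical is not assumed.) -/
theorem result (R : Type u)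
    [CommRing R] [IsNoetherianRing R] [IsLocalRing R] (f : R)
    (hann : ∀ a : R, a * f = 0 → IsNilpotent a) (r s l : ℕ) (hls : l ≤ s)
    (φ : (Fin r → R) →ₗ[R]
      ((Fin s → R) ⧸ Submodule.span R (Set.range fun i : Fin l => (Pi.single (Fin.castLE hls i) f : Fin s → R))))
    (hφ : Function.Surjective φ) :
    W4c1frobunstiva.IsNRFree R (LinearMap.ker φ) (r + l - s) ∧
      (l = 0 → Nonempty (Module.Basis (Fin (r - s)) R (LinearMap.ker φ))) := by
  classical
  exact main R f hann r s l hls φ hφ

end Groth.Agent.S14034
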