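import Groth.Statements.S14035
import Mathlib

set_option autoImplicit false
universe u v
open W4c1frobunstiva

namespace Groth.Agent.S14035

open TensorProduct


open TensorProduct in
/-- Let A → B be a ring homomorphism with B Noetherian. If B modulo its nilradical is flat over A and
every fibre ring κ(p) ⊗_A B, p a prime of A, is reduced, then B is reduced. (This is the affine form
of the statement for a morphism of schemes X → Y all of whose fibres are reduced and whose
restriction to the reduced closed subscheme X_red is flat. The published statement does not say X is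
locally Noetherian, but its proof applies Nakayama's lemma to the nilradical as a finitely generated
ideal; without it the square-zero extension of a discrete valuation ring A by Frac(A)/A is a
counterexample.) -/
theorem result (A : Type u) (B : Type v)
    [CommRing A] [CommRing B] [Algebra A B] [IsNoetherianRing B]
    [Module.Flat A (B ⧸ nilradical B)]
    (hfib : ∀ p : PrimeSpectrum A, IsReduced (p.asIdeal.ResidueField ⊗[A] B)) :
    IsReduced B := by
  classical
  rw [← nilradical_eq_bot_iff]
  set N : Ideal B := nilradical B with hN
  have hfinN : Module.Finite B N := inferInstance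
  suffices hsub : Subsingleton N by
    rw [eq_bot_iff]
    intro x hx
    have : (⟨x, hx⟩ : N) = 0 := Subsingleton.elim _ _
    exact congrArg Subtype.val this
  rw [← Module.support_eq_empty_iff (R := B), Set.eq_empty_iff_forall_notMem]
  intro q hq
  rw [Module.mem_support_iff_nontrivial_residueField_tensorProduct] at hq
  -- the prime below
  let p : Ideal A := q.asIdeal.comap (algebraMap A B)
  have hp : p.IsPrime := Ideal.comap_isPrime _ _
  let κ := p.ResidueField
  have hred : IsReduced (κ ⊗[A] B) := hfib ⟨p, hp⟩
  -- injectivity
  let g : N →ₗ[A] B := N.subtype.restrictScalars A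
  let f : B →ₗ[A] (B ⧸ N) := (Ideal.Quotient.mkₐ A N).toLinearMap
  have hf : Function.Surjective f := Ideal.Quotient.mk_surjective
  have hg : Function.Injective g := Subtype.val_injective
  have hex : Function.Exact g f := by
    intro x
    constructor
    · intro hx
      exact ⟨⟨x, Ideal.Quotient.eq_zero_iff_mem.1 hx⟩, rfl⟩
    · rintro ⟨y, rfl⟩
      exact Ideal.Quotient.eq_zero_iff_mem.2 y.2
  have hinj : Function.Injective (g.lTensor κ) :=
    LinearMap.lTensor_injective_of_exact_of_flat f hf g hg hex κ
  have hnil : ∀ t : κ ⊗[A] N, IsNilpotent ((g.lTensor κ) t) := by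
    intro t
    induction t using TensorProduct.induction_on with
    | zero => rw [map_zero]; exact IsNilpotent.zero
    | tmul c n =>
      rw [LinearMap.lTensor_tmul]
      obtain ⟨k, hk⟩ : IsNilpotent (n : B) := n.2
      refine ⟨k, ?_⟩
      rw [Algebra.TensorProduct.tmul_pow]
      change (c ^ k) ⊗ₜ[A] ((n : B) ^ k) = 0
      rw [hk, tmul_zero]
    | add x y hx hy =>
      rw [map_add]
      exact (Commute.all _ _).isNilpotent_add hx hy
  have hsubκ : ∀ t : κ ⊗[A] N, t = 0 := by
    intro t
    apply hinj
    rw [map_zero]
    exact (hnil t).eq_zero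
  -- the comparison map
  let ι : κ →ₐ[A] q.asIdeal.ResidueField :=
    Ideal.ResidueField.mapₐ p q.asIdeal (Algebra.ofId A B) rfl
  let Θ : κ ⊗[A] N →ₗ[A] q.asIdeal.ResidueField ⊗[B] N :=
    (TensorProduct.mapOfCompatibleSMul B A A q.asIdeal.ResidueField (↥N)) ∘ₗ
      (ι.toLinearMap.rTensor N)
  have hone : ∀ n : N, (1 : q.asIdeal.ResidueField) ⊗ₜ[B] n = 0 := by
    intro n
    have h1 : Θ ((1 : κ) ⊗ₜ[A] n) = (1 : q.asIdeal.ResidueField) ⊗ₜ[B] n := by
      simp [Θ]
    rw [← h1, hsubκ ((1 : κ) ⊗ₜ[A] n), map_zero]
  have hall : ∀ t : q.asIdeal.ResidueField ⊗[B] N, t = 0 := by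
    intro t
    induction t using TensorProduct.induction_on with
    | zero => rfl
    | tmul d n =>
      have : d ⊗ₜ[B] n = d • ((1 : q.asIdeal.ResidueField) ⊗ₜ[B] n) := by
        rw [TensorProduct.smul_tmul', smul_eq_mul, mul_one]
      rw [this, hone, smul_zero]
    | add x y hx hy => rw [hx, hy, add_zero]
  obtain ⟨a, b, hab⟩ := hq
  exact hab ((hall a).trans (hall b).symm)

end Groth.Agent.S14035
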