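import Groth.Statements.S14038
import Mathlib
-- import your own Groth.Agent.* helpers here

set_option autoImplicit false
universe u
open W4c1frobunstiva

namespace Groth.Agent.S14038

namespace Aux
open PowerSeries

section lattice
variable {k : Type u} [Field k] {r : ℕ}

/-- vectors whose coordinates of index `< i` vanish -/
def Z (k : Type u) [Field k] (r i : ℕ) : Submodule (PowerSeries k) (Fin r → PowerSeries k) where
  carrier := {v | ∀ j : Fin r, (j : ℕ) < i → v j = 0}
  add_mem' := by
    intro a b ha hb j hj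
    simp [ha j hj, hb j hj]
  zero_mem' := by intro j _; rfl
  smul_mem' := by
    intro c a ha j hj
    simp [ha j hj]

lemma mem_Z {i : ℕ} {v : Fin r → PowerSeries k} :
    v ∈ Z k r i ↔ ∀ j : Fin r, (j : ℕ) < i → v j = 0 := Iff.rfl

lemma Z_mono {i i' : ℕ} (h : i ≤ i') : Z k r i' ≤ Z k r i := by
  intro v hv j hj
  exact hv j (lt_of_lt_of_le hj h)

lemma Z_top_eq (v : Fin r → PowerSeries k) (hv : v ∈ Z k r r) : v = 0 := by
  funext j
  exact hv j j.2

/-- reduced: polynomial of degree `< e` -/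
def Red (e : ℕ) (a : PowerSeries k) : Prop := ∀ n, e ≤ n → PowerSeries.coeff n a = 0

lemma Red.sub {e : ℕ} {a b : PowerSeries k} (ha : Red e a) (hb : Red e b) : Red e (a - b) := by
  intro n hn
  rw [map_sub, ha n hn, hb n hn, sub_zero]

lemma Red.eq_zero_of_dvd {e : ℕ} {a : PowerSeries k} (ha : Red e a)
    (hd : (X : PowerSeries k) ^ e ∣ a) : a = 0 := by
  ext n
  rw [map_zero]
  rcases lt_or_ge n e with h | h
  · exact PowerSeries.X_pow_dvd_iff.mp hd n h
  · exact ha n h

lemma exists_div (e : ℕ) (a : PowerSeries k) :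
    ∃ q ρ : PowerSeries k, a = X ^ e * q + ρ ∧ Red e ρ := by
  refine ⟨PowerSeries.mk (fun n => PowerSeries.coeff (n + e) a),
    PowerSeries.mk (fun n => if n < e then PowerSeries.coeff n a else 0), ?_, ?_⟩
  · ext n
    rw [map_add, PowerSeries.coeff_X_pow_mul', PowerSeries.coeff_mk, PowerSeries.coeff_mk]
    by_cases h : e ≤ n
    · rw [if_pos h, if_neg (by omega), add_zero, Nat.sub_add_cancel h]
    · rw [if_neg h, if_pos (by omega), zero_add]
  · intro n hn
    rw [PowerSeries.coeff_mk, if_neg (by omega)]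

variable (L : Submodule (PowerSeries k) (Fin r → PowerSeries k))

lemma exists_e (d : PowerSeries k) (hd : d ≠ 0) (hL : ∀ i : Fin r, Pi.single i d ∈ L) (i : Fin r) :
    ∃ e : ℕ, ∀ a : PowerSeries k, (∃ v ∈ L ⊓ Z k r i, v i = a) ↔ (X : PowerSeries k) ^ e ∣ a := by
  set I : Ideal (PowerSeries k) := Submodule.map (LinearMap.proj i) (L ⊓ Z k r i) with hI
  have hmem : ∀ a, a ∈ I ↔ ∃ v ∈ L ⊓ Z k r i, v i = a := by
    intro a
    rw [hI, Submodule.mem_map]
    rfl
  have hne : I ≠ ⊥ := by
    intro h0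
    have : d ∈ I := by
      rw [hmem]
      refine ⟨Pi.single i d, ⟨hL i, ?_⟩, by simp⟩
      intro j hj
      have : j ≠ i := fun h => by rw [h] at hj; exact lt_irrefl _ hj
      simp [this]
    rw [h0, Ideal.mem_bot] at this
    exact hd this
  obtain ⟨e, he⟩ := IsDiscreteValuationRing.ideal_eq_span_pow_irreducible hne
    (PowerSeries.X_irreducible (R := k))
  refine ⟨e, fun a => ?_⟩
  rw [← hmem, he, Ideal.mem_span_singleton]

lemma reduce_claim (e : Fin r → ℕ) (g : Fin r → (Fin r → PowerSeries k))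
    (hg : ∀ i : Fin r, g i ∈ L ⊓ Z k r i) (hgi : ∀ i, g i i = X ^ e i) (m : ℕ) :
    ∀ i : ℕ, i + m = r → ∀ w ∈ Z k r i, ∃ u ∈ L ⊓ Z k r i,
      ∀ j : Fin r, i ≤ (j : ℕ) → Red (e j) ((w - u) j) := by
  induction m with
  | zero =>
    intro i hi w _
    refine ⟨0, Submodule.zero_mem _, fun j hj => ?_⟩
    exact absurd j.2 (by omega)
  | succ m ih =>
    intro i hi w hw
    have hir : i < r := by omega
    set i' : Fin r := ⟨i, hir⟩ with hi'
    obtain ⟨q, ρ, hqρ, hρ⟩ := exists_div (e i') (w i')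
    set w' : Fin r → PowerSeries k := w - q • g i' - Pi.single i' ρ with hw'
    have hw'Z : w' ∈ Z k r (i + 1) := by
      intro j hj
      rcases Nat.lt_succ_iff_lt_or_eq.mp hj with hlt | heq
      · have hne : j ≠ i' := fun h => by rw [h] at hlt; exact lt_irrefl _ hlt
        simp only [hw', Pi.sub_apply, Pi.smul_apply, smul_eq_mul, Pi.single_apply, if_neg hne]
        rw [hw j hlt, (hg i').2 j hlt]; ring
      · have hje : j = i' := Fin.ext heq
        rw [hje]
        simp only [hw', Pi.sub_apply, Pi.smul_apply, smul_eq_mul, Pi.single_eq_same, hgi]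
        rw [hqρ]; ring
    obtain ⟨u', hu', hred⟩ := ih (i + 1) (by omega) w' hw'Z
    refine ⟨q • g i' + u', ⟨?_, ?_⟩, ?_⟩
    · exact L.add_mem (L.smul_mem _ (hg i').1) hu'.1
    · exact (Z k r i).add_mem ((Z k r i).smul_mem _ (hg i').2) (Z_mono (Nat.le_succ i) hu'.2)
    · intro j hj
      rcases Nat.eq_or_lt_of_le hj with heq | hlt
      · have hje : j = i' := Fin.ext heq.symm
        rw [hje]
        have h1 : u' i' = 0 := hu'.2 i' (Nat.lt_succ_self i)
        have : (w - (q • g i' + u')) i' = ρ := by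
          simp only [Pi.sub_apply, Pi.add_apply, Pi.smul_apply, smul_eq_mul, hgi, h1]
          rw [hqρ]; ring
        rw [this]; exact hρ
      · have hne : j ≠ i' := fun h => by rw [h] at hlt; exact lt_irrefl _ hlt
        have : (w - (q • g i' + u')) j = (w' - u') j := by
          simp only [hw', Pi.sub_apply, Pi.add_apply, Pi.smul_apply, smul_eq_mul,
            Pi.single_apply, if_neg hne]
          ring
        rw [this]; exact hred j hlt

lemma span_claim (e : Fin r → ℕ)
    (he : ∀ (i : Fin r) (a : PowerSeries k),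
      (∃ v ∈ L ⊓ Z k r i, v i = a) ↔ (X : PowerSeries k) ^ e i ∣ a)
    (H : Fin r → (Fin r → PowerSeries k))
    (hH : ∀ i : Fin r, H i ∈ L ⊓ Z k r i) (hHi : ∀ i, H i i = X ^ e i) (m : ℕ) :
    ∀ i : ℕ, i + m = r → ∀ v ∈ L ⊓ Z k r i, v ∈ Submodule.span (PowerSeries k) (Set.range H) := by
  induction m with
  | zero =>
    intro i hi v hv
    have : i = r := by omega
    rw [this] at hv
    rw [Z_top_eq v hv.2]
    exact Submodule.zero_mem _
  | succ m ih =>
    intro i hi v hv
    have hir : i < r := by omega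
    set i' : Fin r := ⟨i, hir⟩ with hi'
    obtain ⟨c, hc⟩ := (he i' (v i')).mp ⟨v, hv, rfl⟩
    have h1 : v - c • H i' ∈ L ⊓ Z k r (i + 1) := by
      refine ⟨L.sub_mem hv.1 (L.smul_mem _ (hH i').1), ?_⟩
      intro j hj
      rcases Nat.lt_succ_iff_lt_or_eq.mp hj with hlt | heq
      · simp only [Pi.sub_apply, Pi.smul_apply, smul_eq_mul]
        rw [hv.2 j hlt, (hH i').2 j hlt]; ring
      · have hje : j = i' := Fin.ext heq
        rw [hje]
        simp only [Pi.sub_apply, Pi.smul_apply, smul_eq_mul, hHi]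
        rw [hc]; ring
    have h2 := ih (i + 1) (by omega) _ h1
    have h3 : v = (v - c • H i') + c • H i' := by abel
    rw [h3]
    exact Submodule.add_mem _ h2 (Submodule.smul_mem _ _ (Submodule.subset_span ⟨i', rfl⟩))

theorem exists_hermite (d : PowerSeries k) (hd : d ≠ 0) (hL : ∀ i : Fin r, Pi.single i d ∈ L) :
    ∃ (e : Fin r → ℕ) (H : Fin r → (Fin r → PowerSeries k)),
      (∀ i, H i ∈ L) ∧ (∀ i, H i i = X ^ e i) ∧ (∀ i j, j < i → H i j = 0) ∧
      (∀ i j, i < j → Red (e j) (H i j)) ∧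
      L ≤ Submodule.span (PowerSeries k) (Set.range H) := by
  choose e he using exists_e L d hd hL
  have hg0 : ∀ i : Fin r, ∃ v ∈ L ⊓ Z k r i, v i = X ^ e i := fun i =>
    (he i _).mpr dvd_rfl
  choose g hg hgi using hg0
  have hu0 : ∀ i : Fin r, ∃ u : Fin r → PowerSeries k, u ∈ L ⊓ Z k r ((i : ℕ) + 1) ∧
      ∀ j : Fin r, (i : ℕ) + 1 ≤ (j : ℕ) →
        Red (e j) ((g i - Pi.single i ((X : PowerSeries k) ^ e i) - u : Fin r → PowerSeries k) j) := by
    intro i
    refine reduce_claim L e g hg hgi (r - ((i : ℕ) + 1)) ((i : ℕ) + 1) (by omega) _ ?_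
    intro j hj
    rcases Nat.lt_succ_iff_lt_or_eq.mp hj with hlt | heq
    · have hne : j ≠ i := fun h => by rw [h] at hlt; exact lt_irrefl _ hlt
      simp only [Pi.sub_apply, Pi.single_apply, if_neg hne]
      rw [(hg i).2 j hlt, sub_zero]
    · have hje : j = i := Fin.ext heq
      rw [hje]
      simp only [Pi.sub_apply, Pi.single_eq_same, hgi, sub_self]
  choose u hu hured using hu0
  have hH : ∀ i : Fin r, g i - u i ∈ L ⊓ Z k r i := fun i =>
    ⟨L.sub_mem (hg i).1 (hu i).1,
      (Z k r i).sub_mem (hg i).2 (Z_mono (Nat.le_succ _) (hu i).2)⟩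
  have hHi : ∀ i : Fin r, (g i - u i) i = X ^ e i := by
    intro i
    simp only [Pi.sub_apply, hgi, (hu i).2 i (Nat.lt_succ_self _), sub_zero]
  refine ⟨e, fun i => g i - u i, fun i => (hH i).1, hHi, ?_, ?_, ?_⟩
  · intro i j hji
    exact (hH i).2 j hji
  · intro i j hij
    have := hured i j (Nat.succ_le_of_lt hij)
    have hne : j ≠ i := ne_of_gt hij
    simp only [Pi.sub_apply, Pi.single_apply, if_neg hne, sub_zero] at this
    exact this
  · intro v hv
    refine span_claim L e he _ hH hHi r 0 (by omega) v ⟨hv, ?_⟩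
    intro j hj
    exact absurd hj (Nat.not_lt_zero _)

end lattice

section matrix
variable {k : Type u} [Field k] {r : ℕ}

lemma rows_mul_mem (A B : Matrix (Fin r) (Fin r) (PowerSeries k)) (i : Fin r) :
    (A * B) i ∈ Submodule.span (PowerSeries k) (Set.range (fun l => B l)) := by
  rw [Submodule.mem_span_range_iff_exists_fun]
  refine ⟨A i, ?_⟩
  funext j
  rw [Finset.sum_apply, Matrix.mul_apply]
  rfl

lemma exists_mul_of_rows_mem (A B : Matrix (Fin r) (Fin r) (PowerSeries k))
    (h : ∀ i, A i ∈ Submodule.span (PowerSeries k) (Set.range (fun l => B l))) :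
    ∃ N : Matrix (Fin r) (Fin r) (PowerSeries k), N * B = A := by
  have h' : ∀ i, ∃ c : Fin r → PowerSeries k, ∑ l, c l • B l = A i := fun i =>
    (Submodule.mem_span_range_iff_exists_fun _).mp (h i)
  choose N hN using h'
  refine ⟨Matrix.of N, ?_⟩
  refine Matrix.ext (fun i j => ?_)
  rw [Matrix.mul_apply, ← hN i, Finset.sum_apply]
  rfl

lemma eq_one_of_mul_eq (A M : Matrix (Fin r) (Fin r) (PowerSeries k)) (hM : M.det ≠ 0)
    (h : A * M = M) : A = 1 := by
  have h0 : (A - 1) * M = 0 := by rw [sub_mul, one_mul, h, sub_self]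
  have : A - 1 = 0 := by
    refine Matrix.ext (fun i j => ?_)
    have hv : Matrix.vecMul ((A - 1) i) M = 0 := by
      funext j'
      have := congrFun (congrFun h0 i) j'
      rw [Matrix.mul_apply] at this
      rw [Matrix.vecMul, dotProduct]
      exact this
    have := Matrix.eq_zero_of_vecMul_eq_zero hM hv
    exact congrFun this j
  exact sub_eq_zero.mp this

theorem exists_matrix (M : Matrix (Fin r) (Fin r) (PowerSeries k)) (hM : M.det ≠ 0) :
    ∃ (e : Fin r → ℕ) (H N : Matrix (Fin r) (Fin r) (PowerSeries k)),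
      IsUnit N ∧ N * M = H ∧ (∀ i, H i i = X ^ e i) ∧ (∀ i j, j < i → H i j = 0) ∧
      (∀ i j, i < j → Red (e j) (H i j)) := by
  set L := Submodule.span (PowerSeries k) (Set.range (fun l => M l)) with hLdef
  have hL : ∀ i : Fin r, Pi.single i M.det ∈ L := by
    intro i
    have h1 := rows_mul_mem (Matrix.adjugate M) M i
    rw [Matrix.adjugate_mul] at h1
    convert h1 using 1
    funext j
    simp only [Matrix.smul_apply, Matrix.one_apply, Pi.single_apply, smul_eq_mul, mul_ite, mul_one,
      mul_zero]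
    by_cases h : i = j
    · rw [if_pos h, if_pos h.symm]
    · rw [if_neg h, if_neg (Ne.symm h)]
  obtain ⟨e, H, hHL, hHi, hlow, hred, hspan⟩ := exists_hermite L M.det hM hL
  obtain ⟨N, hN⟩ := exists_mul_of_rows_mem (fun i => H i) M hHL
  obtain ⟨N', hN'⟩ := exists_mul_of_rows_mem M (fun i => H i)
    (fun i => hspan (Submodule.subset_span ⟨i, rfl⟩))
  have h1 : N' * N = 1 := by
    apply eq_one_of_mul_eq _ M hM
    rw [Matrix.mul_assoc, hN, hN']
  refine ⟨e, fun i => H i, N, ?_, hN, hHi, hlow, hred⟩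
  rw [Matrix.isUnit_iff_isUnit_det]
  exact Matrix.isUnit_det_of_left_inverse h1

lemma dvd_of_mem_span (e : Fin r → ℕ) (H : Matrix (Fin r) (Fin r) (PowerSeries k))
    (hHi : ∀ i, H i i = X ^ e i) (hlow : ∀ i j, j < i → H i j = 0)
    (v : Fin r → PowerSeries k)
    (hv : v ∈ Submodule.span (PowerSeries k) (Set.range (fun l => H l))) (i : Fin r)
    (hvZ : v ∈ Z k r i) : (X : PowerSeries k) ^ e i ∣ v i := by
  obtain ⟨c, hc⟩ := (Submodule.mem_span_range_iff_exists_fun _).mp hv
  have key : ∀ j : Fin r, (∀ l : Fin r, l < j → c l = 0) → v j = c j * X ^ e j := by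
    intro j hj
    rw [← hc, Finset.sum_apply, Finset.sum_eq_single j]
    · rw [Pi.smul_apply, smul_eq_mul, hHi]
    · intro l _ hlj
      rw [Pi.smul_apply, smul_eq_mul]
      rcases lt_or_gt_of_ne hlj with h | h
      · rw [hj l h, zero_mul]
      · rw [hlow l j h, mul_zero]
    · intro h; exact absurd (Finset.mem_univ j) h
  have hc0 : ∀ n : ℕ, ∀ l : Fin r, (l : ℕ) = n → l < i → c l = 0 := by
    intro n
    induction n using Nat.strong_induction_on with
    | _ n ih =>
      intro l hl hli
      have h1 := key l (fun l' hl' => ih (l' : ℕ) (by rw [← hl]; exact hl') l' rfl (hl'.trans hli))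
      rw [hvZ l hli] at h1
      rcases mul_eq_zero.mp h1.symm with h | h
      · exact h
      · exact absurd h (pow_ne_zero _ PowerSeries.X_ne_zero)
  rw [key i (fun l hl => hc0 l l rfl hl)]
  exact Dvd.intro_left _ rfl

theorem unique_hermite (e e' : Fin r → ℕ) (H H' : Matrix (Fin r) (Fin r) (PowerSeries k))
    (hHi : ∀ i, H i i = X ^ e i) (hlow : ∀ i j, j < i → H i j = 0)
    (hred : ∀ i j, i < j → Red (e j) (H i j))
    (hHi' : ∀ i, H' i i = X ^ e' i) (hlow' : ∀ i j, j < i → H' i j = 0)
    (hred' : ∀ i j, i < j → Red (e' j) (H' i j))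
    (h12 : ∀ i, H i ∈ Submodule.span (PowerSeries k) (Set.range (fun l => H' l)))
    (h21 : ∀ i, H' i ∈ Submodule.span (PowerSeries k) (Set.range (fun l => H l))) :
    H = H' := by
  have hle : ∀ (e e' : Fin r → ℕ) (H H' : Matrix (Fin r) (Fin r) (PowerSeries k)),
      (∀ i, H i i = X ^ e i) → (∀ i j, j < i → H i j = 0) →
      (∀ i, H' i i = X ^ e' i) → (∀ i j, j < i → H' i j = 0) →
      (∀ i, H i ∈ Submodule.span (PowerSeries k) (Set.range (fun l => H' l))) →
      ∀ i, e' i ≤ e i := by
    intro e e' H H' hHi hlow hHi' hlow' h12 i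
    have h1 := dvd_of_mem_span e' H' hHi' hlow' (H i) (h12 i) i (fun j hj => hlow i j hj)
    rw [hHi] at h1
    by_contra hlt
    have := PowerSeries.X_pow_dvd_iff.mp h1 (e i) (not_le.mp hlt)
    rw [PowerSeries.coeff_X_pow, if_pos rfl] at this
    exact one_ne_zero this
  have hee : e = e' := by
    funext i
    exact le_antisymm (hle e' e H' H hHi' hlow' hHi hlow h21 i)
      (hle e e' H H' hHi hlow hHi' hlow' h12 i)
  subst hee
  refine Matrix.ext (fun i => ?_)
  set v : Fin r → PowerSeries k := H i - H' i with hv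
  have hvL : v ∈ Submodule.span (PowerSeries k) (Set.range (fun l => H l)) :=
    Submodule.sub_mem _ (Submodule.subset_span ⟨i, rfl⟩) (h21 i)
  have hvz : ∀ n : ℕ, ∀ j : Fin r, (j : ℕ) = n → v j = 0 := by
    intro n
    induction n using Nat.strong_induction_on with
    | _ n ih =>
      intro j hj
      have hZ : v ∈ Z k r j := fun j' hj' => ih (j' : ℕ) (by rw [← hj]; exact hj') j' rfl
      have hdvd := dvd_of_mem_span e H hHi hlow v hvL j hZ
      rcases lt_trichotomy j i with hji | hji | hji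
      · simp only [hv, Pi.sub_apply, hlow i j hji, hlow' i j hji, sub_self]
      · rw [hji]
        simp only [hv, Pi.sub_apply, hHi, hHi', sub_self]
      · refine Red.eq_zero_of_dvd ?_ hdvd
        exact (hred i j hji).sub (hred' i j hji)
  intro j
  have := hvz j j rfl
  simp only [hv, Pi.sub_apply] at this
  exact sub_eq_zero.mp this

theorem main (M : Matrix (Fin r) (Fin r) (PowerSeries k)) (hM : M.det ≠ 0) :
    ∃! H : Matrix (Fin r) (Fin r) (PowerSeries k),
      (∃ e : Fin r → ℕ, (∀ i, H i i = PowerSeries.X ^ e i) ∧ (∀ i j, j < i → H i j = 0) ∧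
        (∀ i j, i < j → ∀ n, e j ≤ n → PowerSeries.coeff n (H i j) = 0)) ∧
      ∃ N : Matrix (Fin r) (Fin r) (PowerSeries k), IsUnit N ∧ N * M = H := by
  obtain ⟨e, H, N, hNu, hNM, hHi, hlow, hred⟩ := exists_matrix M hM
  refine ⟨H, ⟨⟨e, hHi, hlow, hred⟩, N, hNu, hNM⟩, ?_⟩
  rintro H' ⟨⟨e', hHi', hlow', hred'⟩, N', hNu', hNM'⟩
  obtain ⟨Ni, hNi⟩ := hNu.exists_left_inv
  obtain ⟨Ni', hNi'⟩ := hNu'.exists_left_inv
  have hM1 : M = Ni * H := by rw [← hNM, ← Matrix.mul_assoc, hNi, Matrix.one_mul]
  have hM2 : M = Ni' * H' := by rw [← hNM', ← Matrix.mul_assoc, hNi', Matrix.one_mul]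
  have h1 : H' = (N' * Ni) * H := by rw [Matrix.mul_assoc, ← hM1, hNM']
  have h2 : H = (N * Ni') * H' := by rw [Matrix.mul_assoc, ← hM2, hNM]
  symm
  apply unique_hermite e e' H H' hHi hlow hred hHi' hlow' hred'
  · intro i
    have := rows_mul_mem (N * Ni') H' i
    rwa [← h2] at this
  · intro i
    have := rows_mul_mem (N' * Ni) H i
    rwa [← h1] at this

end matrix
end Aux

/-- Let k be a field and M a square matrix of size r over the formal power series ring k[[t]] with
non-zero determinant. Call a matrix H over k[[t]] row-reduced when it is upper triangular, each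
diagonal entry is a power t^{e_i} of the variable, and every entry above the diagonal in column j is
a polynomial of degree less than e_j (all its coefficients in degrees ≥ e_j vanish). Then there is
exactly one row-reduced H obtainable from M by left multiplication with an invertible matrix over
k[[t]]. (The published statement takes k algebraically closed; the row-reduction argument needs only
a field.) -/
theorem result (k : Type u) [Field k] (r : ℕ)
    (M : Matrix (Fin r) (Fin r) (PowerSeries k)) (hM : M.det ≠ 0) :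
    ∃! H : Matrix (Fin r) (Fin r) (PowerSeries k),
      (∃ e : Fin r → ℕ, (∀ i, H i i = PowerSeries.X ^ e i) ∧ (∀ i j, j < i → H i j = 0) ∧
        (∀ i j, i < j → ∀ n, e j ≤ n → PowerSeries.coeff n (H i j) = 0)) ∧
      ∃ N : Matrix (Fin r) (Fin r) (PowerSeries k), IsUnit N ∧ N * M = H := by
  exact Aux.main M hM

end Groth.Agent.S14038
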