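import Groth.Statements.S14039
import Mathlib

set_option autoImplicit false
open W4c1frobunstiva

namespace Groth.Agent.S14039

section
open PowerSeries Finset

/-- the series x + x^2 + ... + x^{p-1} -/
noncomputable def f (p : ℕ) : ℤ⟦X⟧ := X * ∑ i ∈ range (p - 1), X ^ i

theorem coeff_geom (m k : ℕ) : coeff k (∑ i ∈ range m, (X : ℤ⟦X⟧) ^ i) = if k < m then 1 else 0 := by
  rw [map_sum]
  simp only [coeff_X_pow]
  rw [Finset.sum_ite_eq]
  simp

theorem coeff_f (p j : ℕ) : coeff j (f p) = if 1 ≤ j ∧ j < p then 1 else 0 := by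
  unfold f
  cases j with
  | zero => simp
  | succ j =>
    rw [coeff_succ_X_mul, coeff_geom]
    have : (j < p - 1) ↔ (1 ≤ j + 1 ∧ j + 1 < p) := by omega
    simp only [this]

theorem f_mul (p : ℕ) : f p * (1 - X) = X * (1 - X ^ (p - 1)) := by
  unfold f
  rw [mul_assoc, geom_sum_mul_neg]

theorem f_pow (p n : ℕ) : f p ^ n = X ^ n * (1 - X ^ (p - 1)) ^ n * (invOneSubPow ℤ n).val := by
  have h1 : f p ^ n * (1 - X) ^ n = X ^ n * (1 - X ^ (p - 1)) ^ n := by
    rw [← mul_pow, f_mul, mul_pow]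
  have h2 : (1 - X : ℤ⟦X⟧) ^ n * (invOneSubPow ℤ n).val = 1 := by
    rw [← invOneSubPow_inv_eq_one_sub_pow]
    exact Units.inv_mul _
  calc f p ^ n = f p ^ n * ((1 - X) ^ n * (invOneSubPow ℤ n).val) := by rw [h2, mul_one]
    _ = (f p ^ n * (1 - X) ^ n) * (invOneSubPow ℤ n).val := by ring
    _ = _ := by rw [h1]

theorem coeff_rhs (p n s : ℕ) (hn : 1 ≤ n) :
    coeff s (X ^ n * (1 - X ^ (p - 1)) ^ n * (invOneSubPow ℤ n).val) =
      ∑ i ∈ Finset.range (n + 1),
        (-1 : ℤ) ^ i * (n.choose i : ℤ) *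
          (if i * (p - 1) + n ≤ s then (((s - i * (p - 1) - 1).choose (n - 1) : ℕ) : ℤ) else 0) := by
  have hexp : (1 - X ^ (p - 1) : ℤ⟦X⟧) ^ n =
      ∑ i ∈ range (n + 1), (C ((-1 : ℤ) ^ i * (n.choose i : ℤ)) : ℤ⟦X⟧) * X ^ (i * (p - 1)) := by
    rw [sub_eq_neg_add, add_pow]
    apply Finset.sum_congr rfl
    intro i _
    rw [one_pow, mul_one, neg_pow, ← pow_mul, map_mul, map_pow, map_neg, map_one, map_natCast,
      mul_comm (p - 1) i]
    ring
  rw [hexp, Finset.mul_sum, Finset.sum_mul, map_sum]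
  apply Finset.sum_congr rfl
  intro i _
  have : (X : ℤ⟦X⟧) ^ n * (C ((-1 : ℤ) ^ i * (n.choose i : ℤ)) * X ^ (i * (p - 1))) *
      (invOneSubPow ℤ n).val = C ((-1 : ℤ) ^ i * (n.choose i : ℤ)) *
        (X ^ (i * (p - 1) + n) * (invOneSubPow ℤ n).val) := by
    rw [pow_add]; ring
  rw [this, coeff_C_mul, coeff_X_pow_mul']
  congr 1
  split_ifs with h
  · rw [invOneSubPow_val_eq_mk_sub_one_add_choose_of_pos ℤ n hn, coeff_mk]
    have : n - 1 + (s - (i * (p - 1) + n)) = s - i * (p - 1) - 1 := by omega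
    rw [this]
  · rfl

theorem coeff_lhs (p n s : ℕ) :
    coeff s (f p ^ n) =
      (Fintype.card {e : Fin n → Fin p // (∀ i, 1 ≤ (e i : ℕ)) ∧ ∑ i, (e i : ℕ) = s} : ℤ) := by
  classical
  have h1 : f p ^ n = ∏ _i : Fin n, f p := by
    rw [Finset.prod_const, Finset.card_univ, Fintype.card_fin]
  rw [h1, coeff_prod]
  simp only [coeff_f]
  have h2 : ∀ l : Fin n →₀ ℕ, (∏ i : Fin n, (if 1 ≤ l i ∧ l i < p then (1 : ℤ) else 0)) =
      if (∀ i, 1 ≤ l i ∧ l i < p) then 1 else 0 := by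
    intro l
    rw [Finset.prod_ite_zero]
    simp
  simp only [h2]
  rw [Finset.sum_boole]
  congr 1
  rw [← Fintype.card_coe]
  apply Fintype.card_congr
  refine
    { toFun := fun l => ⟨fun i => ⟨l.1 i, ((Finset.mem_filter.mp l.2).2 i).2⟩, ?_, ?_⟩
      invFun := fun e => ⟨Finsupp.equivFunOnFinite.symm (fun i => (e.1 i : ℕ)), ?_⟩
      left_inv := ?_
      right_inv := ?_ }
  · intro i
    exact ((Finset.mem_filter.mp l.2).2 i).1
  · have := (Finset.mem_filter.mp l.2).1
    rw [mem_finsuppAntidiag] at this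
    exact this.1
  · rw [Finset.mem_filter, mem_finsuppAntidiag]
    refine ⟨⟨?_, Finset.subset_univ _⟩, ?_⟩
    · simpa using e.2.2
    · intro i
      exact ⟨by simpa using e.2.1 i, by simp⟩
  · intro l
    apply Subtype.ext
    ext i
    simp
  · intro e
    apply Subtype.ext
    funext i
    apply Fin.ext
    simp

theorem main (p n s : ℕ) (hn : 1 ≤ n) :
    (Fintype.card {e : Fin n → Fin p // (∀ i, 1 ≤ (e i : ℕ)) ∧ ∑ i, (e i : ℕ) = s} : ℤ) =
      ∑ i ∈ Finset.range (n + 1),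
        (-1 : ℤ) ^ i * (n.choose i : ℤ) *
          (if i * (p - 1) + n ≤ s then (((s - i * (p - 1) - 1).choose (n - 1) : ℕ) : ℤ) else 0) := by
  rw [← coeff_lhs, f_pow, coeff_rhs p n s hn]


end


/-- For natural numbers p, n ≥ 1 and s, the number of monomials of degree s in n variables in which
every variable occurs with a positive exponent strictly less than p — that is, of exponent vectors
(e_1, …, e_n) with sum s and 1 ≤ e_i ≤ p − 1 — equals the inclusion–exclusion sum over i from 0 to n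
of (−1)^i · C(n, i) · C(s − i(p − 1) − 1, n − 1), the last factor counting monomials of degree s −
i(p − 1) − n in n variables and read as 0 when s < i(p − 1) + n. (A companion count, by how many
exponents lie below p/2, and a remark on polynomiality in s and p are not part of this row.) -/
theorem result (p n s : ℕ)
    (hn : 1 ≤ n) :
    (Fintype.card {e : Fin n → Fin p // (∀ i, 1 ≤ (e i : ℕ)) ∧ ∑ i, (e i : ℕ) = s} : ℤ) =
      ∑ i ∈ Finset.range (n + 1),
        (-1 : ℤ) ^ i * (n.choose i : ℤ) *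
          (if i * (p - 1) + n ≤ s then (((s - i * (p - 1) - 1).choose (n - 1) : ℕ) : ℤ) else 0) := by
  classical
  exact main p n s hn

end Groth.Agent.S14039
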