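import Groth.Statements.S14040
import Mathlib

set_option autoImplicit false
universe u v
open W4c1frobunstiva

namespace Groth.Agent.S14040

section
open TensorProduct

theorem main (A : Type u) [CommRing A]
    [IsDomain A] [IsDiscreteValuationRing A] (B : Type v) [CommRing B] [Algebra A B]
    [IsNoetherianRing B] (hirr : (nilradical B).IsPrime)
    (hdom : (nilradical B).comap (algebraMap A B) = ⊥)
    (hfib : ∀ p : PrimeSpectrum A, IsReduced (p.asIdeal.ResidueField ⊗[A] B)) :
    IsReduced B ∧ Module.Flat A B := by
  obtain ⟨ϖ, hϖ⟩ := IsDiscreteValuationRing.exists_irreducible A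
  have hϖ0 : ϖ ≠ 0 := hϖ.ne_zero
  have hmax : IsLocalRing.maximalIdeal A = Ideal.span {ϖ} := hϖ.maximalIdeal_eq
  have hinj : Function.Injective (algebraMap A B) := by
    rw [injective_iff_map_eq_zero]
    intro a ha
    have : a ∈ (nilradical B).comap (algebraMap A B) := by
      rw [Ideal.mem_comap, ha]
      exact Ideal.zero_mem _
    rw [hdom] at this
    exact this
  -- Step 1: generic fibre
  have step1 : ∀ x ∈ nilradical B, ∃ k : ℕ, (algebraMap A B ϖ) ^ k * x = 0 := by
    intro x hx
    have hred := hfib ⟨⊥, Ideal.isPrime_bot⟩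
    set K := (⊥ : Ideal A).ResidueField with hK
    have hloc : IsLocalizedModule (nonZeroDivisors A) (TensorProduct.mk A K B 1) :=
      (isLocalizedModule_iff_isBaseChange (nonZeroDivisors A) K _).mpr
        (TensorProduct.isBaseChange A B K)
    have hnil : IsNilpotent ((1 : K) ⊗ₜ[A] x) := by
      obtain ⟨n, hn⟩ := hx
      refine ⟨n, ?_⟩
      rw [Algebra.TensorProduct.tmul_pow, hn, one_pow, tmul_zero]
    have h0 : (TensorProduct.mk A K B 1) x = 0 := hred.eq_zero _ hnil
    obtain ⟨s, hs⟩ := (IsLocalizedModule.eq_zero_iff (nonZeroDivisors A) _).1 h0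
    have hs0 : (s : A) ≠ 0 := nonZeroDivisors.ne_zero s.2
    obtain ⟨k, u, hu⟩ := IsDiscreteValuationRing.eq_unit_mul_pow_irreducible hs0 hϖ
    refine ⟨k, ?_⟩
    have h1 : (s : A) • x = 0 := hs
    rw [hu, Algebra.smul_def, map_mul, map_pow, mul_assoc] at h1
    have hunit : IsUnit (algebraMap A B (u : A)) := u.isUnit.map _
    exact hunit.mul_right_eq_zero.mp (by rw [mul_comm] at h1; rw [mul_comm]; exact h1)
  -- Step 2: special fibre
  have step2 : ∀ x ∈ nilradical B, ∃ y : B, x = algebraMap A B ϖ * y := by
    intro x hx
    have hmaxp : (IsLocalRing.maximalIdeal A).IsPrime := inferInstance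
    have hred := hfib ⟨IsLocalRing.maximalIdeal A, hmaxp⟩
    set m := IsLocalRing.maximalIdeal A with hm
    set κ := m.ResidueField with hκ
    have hnil : IsNilpotent ((1 : κ) ⊗ₜ[A] x) := by
      obtain ⟨n, hn⟩ := hx
      refine ⟨n, ?_⟩
      rw [Algebra.TensorProduct.tmul_pow, hn, one_pow, tmul_zero]
    have h0 : ((1 : κ) ⊗ₜ[A] x) = 0 := hred.eq_zero _ hnil
    let e : (A ⧸ m) ≃ₗ[A] κ := LinearEquiv.ofBijective
      (IsScalarTower.toAlgHom A (A ⧸ m) κ).toLinearMap
      (Ideal.bijective_algebraMap_quotient_residueField m)
    have h1 : ((1 : A ⧸ m) ⊗ₜ[A] x) = 0 := by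
      apply (TensorProduct.congr e (LinearEquiv.refl A B)).injective
      rw [map_zero, TensorProduct.congr_tmul]
      have : e 1 = 1 := by
        show (IsScalarTower.toAlgHom A (A ⧸ m) κ) 1 = 1
        exact map_one _
      rw [this]
      exact h0
    have h2 := TensorProduct.quotTensorEquivQuotSMul_mk_one_tmul (M := B) m x
    rw [h1, map_zero] at h2
    have h3 : x ∈ m • (⊤ : Submodule A B) := (Submodule.Quotient.mk_eq_zero _).1 h2.symm
    rw [hmax, Submodule.ideal_span_singleton_smul,
      Submodule.mem_smul_pointwise_iff_exists] at h3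
    obtain ⟨y, -, hy⟩ := h3
    exact ⟨y, by rw [← hy, Algebra.smul_def]⟩
  -- Step 3
  have step3 : algebraMap A B ϖ ∉ nilradical B := by
    intro h
    have : ϖ ∈ (nilradical B).comap (algebraMap A B) := h
    rw [hdom] at this
    exact hϖ0 this
  -- Step 4: Nakayama
  have hN : nilradical B = ⊥ := by
    have hle : (nilradical B : Submodule B B) ≤
        (Ideal.span {algebraMap A B ϖ}) • (nilradical B : Submodule B B) := by
      intro x hx
      obtain ⟨y, hy⟩ := step2 x hx
      have hyN : y ∈ nilradical B := by
        have : algebraMap A B ϖ * y ∈ nilradical B := hy ▸ hx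
        exact (hirr.mem_or_mem this).resolve_left step3
      rw [hy]
      exact Submodule.smul_mem_smul (Ideal.subset_span rfl) hyN
    obtain ⟨r, hr1, hr2⟩ := Submodule.exists_sub_one_mem_and_smul_eq_zero_of_fg_of_le_smul
      (Ideal.span {algebraMap A B ϖ}) (nilradical B : Submodule B B)
      ((isNoetherianRing_iff_ideal_fg B).1 inferInstance _) hle
    rw [Ideal.mem_span_singleton'] at hr1
    obtain ⟨b, hb⟩ := hr1
    rw [eq_bot_iff]
    intro x hx
    obtain ⟨k, hk⟩ := step1 x hx
    have h1 : r * x = 0 := hr2 x hx
    have h2 : x = (-(b * algebraMap A B ϖ)) * x := by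
      have : r = 1 + b * algebraMap A B ϖ := by rw [hb]; ring
      rw [this] at h1
      linear_combination h1
    have h3 : ∀ j : ℕ, x = (-(b * algebraMap A B ϖ)) ^ j * x := by
      intro j
      induction j with
      | zero => simp
      | succ j ih =>
        rw [pow_succ, mul_assoc, ← h2]
        exact ih
    have h4 := h3 k
    rw [neg_pow, mul_pow, mul_assoc, mul_assoc, hk, mul_zero, mul_zero] at h4
    exact h4
  have hredB : IsReduced B := nilradical_eq_bot_iff.1 hN
  have hdomB : IsDomain B := by
    rw [hN] at hirr
    exact IsDomain.of_bot_isPrime B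
  refine ⟨hredB, ?_⟩
  have : Module.IsTorsionFree A B := by
    constructor
    intro r hr
    have hr0 : r ≠ 0 := hr.ne_zero
    intro b₁ b₂ hb
    simp only [Algebra.smul_def] at hb
    exact mul_left_cancel₀ (fun h => hr0 (hinj (h.trans (map_zero _).symm))) hb
  infer_instance


end


open TensorProduct in
/-- Let A be a discrete valuation ring and B a Noetherian A-algebra such that the nilradical of B is
prime and meets the image of A only in 0 — the spectrum of B is irreducible and its generic point
lies over the generic point of A. If every fibre ring κ(p) ⊗_A B, p a prime of A, is reduced, then B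
is reduced and flat over A. (Affine form of the statement for a dominant morphism from an
irreducible scheme to the spectrum of a discrete valuation ring with reduced fibres. The published
statement also covers a scheme that is already reduced and does not assume it locally Noetherian;
this row treats reduced fibres with B Noetherian, without which the square-zero extension A ⊕
Frac(A)/A is a counterexample.) -/
theorem result (A : Type u) [CommRing A]
    [IsDomain A] [IsDiscreteValuationRing A] (B : Type v) [CommRing B] [Algebra A B]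
    [IsNoetherianRing B] (hirr : (nilradical B).IsPrime)
    (hdom : (nilradical B).comap (algebraMap A B) = ⊥)
    (hfib : ∀ p : PrimeSpectrum A, IsReduced (p.asIdeal.ResidueField ⊗[A] B)) :
    IsReduced B ∧ Module.Flat A B := by
  classical
  exact main A B hirr hdom hfib

end Groth.Agent.S14040
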