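import Groth.Statements.S14043
import Mathlib
import Groth.Agent.S14032

set_option autoImplicit false
universe u v
open W4c1frobunstiva

namespace Groth.Agent.S14043

open TensorProduct

theorem li_of_span {S : Type*} [CommRing S] {N : Type*} [AddCommGroup N] [Module S N] {r : ℕ}
    (b : Module.Basis (Fin r) S N) (v : Fin r → N) (hv : Submodule.span S (Set.range v) = ⊤) :
    LinearIndependent S v := by
  let f : (Fin r → S) →ₗ[S] N := Fintype.linearCombination S v
  have hf : Function.Surjective f := by
    rw [← LinearMap.range_eq_top, Fintype.range_linearCombination, hv]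
  let g : (Fin r → S) →ₗ[S] (Fin r → S) := b.equivFun.toLinearMap ∘ₗ f
  have hg : Function.Surjective g := b.equivFun.surjective.comp hf
  have hginj : Function.Injective g := OrzechProperty.injective_of_surjective_endomorphism g hg
  have hfinj : Function.Injective f := fun x y h => hginj (by simp [g, h])
  rw [Fintype.linearIndependent_iff]
  intro c hc i
  have : f c = f 0 := by
    rw [map_zero]
    simpa [f, Fintype.linearCombination_apply] using hc
  exact congrFun (hfinj this) i

theorem span_one_tmul {R : Type u} [CommRing R] {M : Type v} [AddCommGroup M] [Module R M]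
    (I : Ideal R) {r : ℕ} (m : Fin r → M) (hspan : Submodule.span R (Set.range m) = ⊤) :
    Submodule.span (R ⧸ I) (Set.range fun i => (1 : R ⧸ I) ⊗ₜ[R] m i) = ⊤ := by
  rw [eq_top_iff]
  intro t _
  induction t using TensorProduct.induction_on with
  | zero => exact Submodule.zero_mem _
  | tmul c x =>
    have hx : x ∈ Submodule.span R (Set.range m) := by rw [hspan]; trivial
    obtain ⟨d, hd⟩ := (Submodule.mem_span_range_iff_exists_fun R).1 hx
    have : c ⊗ₜ[R] x = ∑ i, (c * Ideal.Quotient.mk _ (d i)) • ((1 : R ⧸ I) ⊗ₜ[R] m i) := by
      rw [← hd, TensorProduct.tmul_sum]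
      refine Finset.sum_congr rfl (fun i _ => ?_)
      rw [mul_smul, Groth.Agent.S14032.smul_one_tmul, TensorProduct.smul_tmul', smul_eq_mul, mul_one]
    rw [this]
    exact Submodule.sum_mem _ (fun i _ => Submodule.smul_mem _ _ (Submodule.subset_span ⟨i, rfl⟩))
  | add x y hx hy => exact Submodule.add_mem _ (hx trivial) (hy trivial)

/-- Let R be a commutative Noetherian ring, M an R-module that is NR-free of rank r — generated by some
r elements all of whose linear relations have nilpotent coefficients — and m, m' two generating
families of M, each indexed by the same finite set of size r. Then some invertible r × r matrix T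
over R expresses m' in terms of m, m'_j = Σ_i T_{ji} m_i; reducing modulo the nilradical n, such a T
induces the change-of-basis matrix between the bases of M/nM given by the images of m and m' (an
r-element generating family of M is itself an NR-basis), so only the existence of an invertible T is
asserted here. (T is not unique.) -/
theorem result (R : Type u) [CommRing R]
    [IsNoetherianRing R] (M : Type v) [AddCommGroup M] [Module R M] (r : ℕ)
    (hM : W4c1frobunstiva.IsNRFree R M r) (m m' : Fin r → M)
    (hm : Submodule.span R (Set.range m) = ⊤) (hm' : Submodule.span R (Set.range m') = ⊤) :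
    ∃ T : Matrix (Fin r) (Fin r) R, IsUnit T ∧ ∀ j, m' j = ∑ i, T j i • m i := by
  classical
  have hnil : IsNilpotent (nilradical R) := IsNoetherianRing.isNilpotent_nilradical R
  obtain ⟨b⟩ := (Groth.Agent.S14032.result R M r).1 hM
  have hv := span_one_tmul (nilradical R) m hm
  have hv' := span_one_tmul (nilradical R) m' hm'
  let bv := Module.Basis.mk (li_of_span b _ hv) (top_le_iff.2 hv)
  let bv' := Module.Basis.mk (li_of_span b _ hv') (top_le_iff.2 hv')
  have hex : ∀ j, ∃ t : Fin r → R, m' j = ∑ i, t i • m i := by
    intro j
    have hx : m' j ∈ Submodule.span R (Set.range m) := by rw [hm]; trivial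
    obtain ⟨d, hd⟩ := (Submodule.mem_span_range_iff_exists_fun R).1 hx
    exact ⟨d, hd.symm⟩
  choose t ht using hex
  let T : Matrix (Fin r) (Fin r) R := Matrix.of t
  refine ⟨T, ?_, fun j => ht j⟩
  have hmat : bv.toMatrix bv' = ((Ideal.Quotient.mk (nilradical R)).mapMatrix T).transpose := by
    ext i j
    rw [Module.Basis.toMatrix_apply, Matrix.transpose_apply, RingHom.mapMatrix_apply,
      Matrix.map_apply]
    have h1 : bv' j = ∑ i, (Ideal.Quotient.mk (nilradical R) (t j i)) • bv i := by
      simp only [bv, bv', Module.Basis.mk_apply]
      rw [ht j, TensorProduct.tmul_sum]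
      refine Finset.sum_congr rfl (fun i _ => ?_)
      rw [Groth.Agent.S14032.smul_one_tmul]
    rw [h1, Module.Basis.repr_sum_self]
    rfl
  have hdet : IsUnit (bv.toMatrix bv').det := by
    have h1 := Module.Basis.toMatrix_mul_toMatrix_flip bv bv'
    have h2 : (bv.toMatrix bv').det * (bv'.toMatrix bv).det = 1 := by
      rw [← Matrix.det_mul, h1, Matrix.det_one]
    exact IsUnit.of_mul_eq_one _ h2
  rw [hmat, Matrix.det_transpose, ← RingHom.map_det, hnil.isUnit_quotient_mk_iff] at hdet
  exact (Matrix.isUnit_iff_isUnit_det T).2 hdet

end Groth.Agent.S14043
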