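import Groth.Statements.S14044
import Mathlib
import Groth.Agent.S14038
-- import your own Groth.Agent.* helpers here

set_option autoImplicit false
universe u
open W4c1frobunstiva

namespace Groth.Agent.S14044

namespace Aux
open PowerSeries
open Groth.Agent.S14038.Aux (Red)

section basics
variable {k : Type u} [Field k]

/-- power series in `t^p` -/
def Rp (k : Type u) [Field k] (p : ℕ) : Subring (PowerSeries k) where
  carrier := {a | ∀ n, ¬ p ∣ n → PowerSeries.coeff n a = 0}
  mul_mem' := by
    intro a b ha hb n hn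
    rw [PowerSeries.coeff_mul]
    refine Finset.sum_eq_zero (fun x hx => ?_)
    rw [Finset.HasAntidiagonal.mem_antidiagonal] at hx
    by_cases h1 : p ∣ x.1
    · have h2 : ¬ p ∣ x.2 := by
        intro h2
        exact hn (hx ▸ Dvd.dvd.add h1 h2)
      rw [hb _ h2, mul_zero]
    · rw [ha _ h1, zero_mul]
  one_mem' := by
    intro n hn
    rw [PowerSeries.coeff_one, if_neg]
    rintro rfl
    exact hn (dvd_zero p)
  add_mem' := by
    intro a b ha hb n hn
    rw [map_add, ha n hn, hb n hn, add_zero]
  zero_mem' := by intro n _; rw [map_zero]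
  neg_mem' := by
    intro a ha n hn
    rw [map_neg, ha n hn, neg_zero]

lemma mem_Rp {p : ℕ} {a : PowerSeries k} :
    a ∈ Rp k p ↔ ∀ n, ¬ p ∣ n → PowerSeries.coeff n a = 0 := Iff.rfl

/-- no terms in degrees `≥ e` congruent to `e` mod `p` -/
def Clean (p e : ℕ) (a : PowerSeries k) : Prop :=
  ∀ n, e ≤ n → n % p = e % p → PowerSeries.coeff n a = 0

lemma exists_clean (p e : ℕ) (a : PowerSeries k) :
    ∃ σ ∈ Rp k p, Clean p e (a + X ^ e * σ) := by
  refine ⟨PowerSeries.mk (fun n => if p ∣ n then - PowerSeries.coeff (e + n) a else 0), ?_, ?_⟩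
  · intro n hn
    rw [PowerSeries.coeff_mk, if_neg hn]
  · intro n hn hmod
    rw [map_add, PowerSeries.coeff_X_pow_mul', if_pos hn, PowerSeries.coeff_mk]
    have hdvd : p ∣ n - e := (Nat.modEq_iff_dvd' hn).mp hmod.symm
    rw [if_pos hdvd, Nat.add_sub_cancel' hn, add_neg_cancel]

lemma exists_div' (e : ℕ) (a : PowerSeries k) :
    ∃ q ρ : PowerSeries k, a = X ^ e * q + ρ ∧
      ∀ n, PowerSeries.coeff n ρ = if n < e then PowerSeries.coeff n a else 0 := by
  refine ⟨PowerSeries.mk (fun n => PowerSeries.coeff (n + e) a),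
    PowerSeries.mk (fun n => if n < e then PowerSeries.coeff n a else 0), ?_, ?_⟩
  · ext n
    rw [map_add, PowerSeries.coeff_X_pow_mul', PowerSeries.coeff_mk, PowerSeries.coeff_mk]
    by_cases h : e ≤ n
    · rw [if_pos h, if_neg (by omega), add_zero, Nat.sub_add_cancel h]
    · rw [if_neg h, if_pos (by omega), zero_add]
  · intro n
    rw [PowerSeries.coeff_mk]

end basics

section colmat
variable {R : Type*} [CommRing R] {r : ℕ}

/-- matrix with column `j` equal to `s` and zero elsewhere -/
def colM (j : Fin r) (s : Fin r → R) : Matrix (Fin r) (Fin r) R :=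
  Matrix.of fun a b => if b = j then s a else 0

lemma colM_apply (j : Fin r) (s : Fin r → R) (a b : Fin r) :
    colM j s a b = if b = j then s a else 0 := rfl

lemma mul_colM (A : Matrix (Fin r) (Fin r) R) (j : Fin r) (s : Fin r → R) (a b : Fin r) :
    (A * colM j s) a b = if b = j then ∑ c, A a c * s c else 0 := by
  rw [Matrix.mul_apply]
  split_ifs with h
  · refine Finset.sum_congr rfl (fun c _ => ?_)
    rw [colM_apply, if_pos h]
  · refine Finset.sum_eq_zero (fun c _ => ?_)
    rw [colM_apply, if_neg h, mul_zero]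

lemma colM_mul (A : Matrix (Fin r) (Fin r) R) (j : Fin r) (q : Fin r → R) (a b : Fin r) :
    (colM j q * A) a b = q a * A j b := by
  rw [Matrix.mul_apply, Finset.sum_eq_single j]
  · rw [colM_apply, if_pos rfl]
  · intro c _ hc
    rw [colM_apply, if_neg hc, zero_mul]
  · intro h; exact absurd (Finset.mem_univ j) h

lemma isUnit_one_add_colM (j : Fin r) (s : Fin r → R) (hs : s j = 0) :
    IsUnit (1 + colM j s) := by
  rw [Matrix.isUnit_iff_isUnit_det]
  apply Matrix.isUnit_det_of_right_inverse (B := 1 - colM j s)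
  have h0 : colM j s * colM j s = 0 := by
    refine Matrix.ext (fun a b => ?_)
    rw [colM_mul, colM_apply, Matrix.zero_apply]
    split_ifs
    · rw [hs, mul_zero]
    · rw [mul_zero]
  rw [add_mul, mul_sub, mul_sub, h0, Matrix.mul_one, Matrix.mul_one, Matrix.one_mul, sub_zero]
  abel

lemma isUnit_one_sub_colM (j : Fin r) (s : Fin r → R) (hs : s j = 0) :
    IsUnit (1 - colM j s) := by
  have : (1 - colM j s) = 1 + colM j (-s) := by
    refine Matrix.ext (fun a b => ?_)
    simp only [Matrix.sub_apply, Matrix.add_apply, colM_apply, Pi.neg_apply]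
    split_ifs <;> ring
  rw [this]
  exact isUnit_one_add_colM j (-s) (by simp [hs])

end colmat

section step
variable {k : Type u} [Field k] {r : ℕ}

lemma sub_add_sub_comm' {A : Type*} [AddCommGroup A] (a b c d : A) :
    a - b + (c - d) = a + c - b - d := by abel

lemma single_col (p : ℕ) (e : Fin r → ℕ) (G : Matrix (Fin r) (Fin r) (PowerSeries k))
    (hGi : ∀ i, G i i = X ^ e i) (hlow : ∀ a b, b < a → G a b = 0) (j : Fin r) (t : ℕ) :
    ∀ m : ℕ, m + t = (j : ℕ) → ∃ s : Fin r → PowerSeries k, (∀ i, s i ∈ Rp k p) ∧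
      (∀ i, j ≤ i → s i = 0) ∧
      ∀ l : Fin r, m ≤ (l : ℕ) → l < j → Clean p (e l) (G l j + ∑ i, G l i * s i) := by
  induction t with
  | zero =>
    intro m hm
    refine ⟨0, fun i => (Rp k p).zero_mem, fun i _ => rfl, fun l hl hlj => ?_⟩
    exfalso
    have : (l : ℕ) < (j : ℕ) := hlj
    omega
  | succ t ih =>
    intro m hm
    obtain ⟨s, hsR, hs0, hs⟩ := ih (m + 1) (by omega)
    have hmr : m < r := by have := j.2; omega
    set m' : Fin r := ⟨m, hmr⟩ with hm'
    have hm'j : m' < j := by
      show m < (j : ℕ)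
      omega
    obtain ⟨σ, hσR, hσ⟩ := exists_clean p (e m') (G m' j + ∑ i, G m' i * s i)
    have hsum : ∀ l : Fin r, ∑ i, G l i * (s + Pi.single m' σ : Fin r → PowerSeries k) i
        = ∑ i, G l i * s i + G l m' * σ := by
      intro l
      simp only [Pi.add_apply, mul_add, Finset.sum_add_distrib]
      congr 1
      rw [Finset.sum_eq_single m']
      · rw [Pi.single_eq_same]
      · intro c _ hc
        rw [Pi.single_eq_of_ne hc, mul_zero]
      · intro h; exact absurd (Finset.mem_univ _) h
    refine ⟨s + Pi.single m' σ, ?_, ?_, ?_⟩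
    · intro i
      refine (Rp k p).add_mem (hsR i) ?_
      by_cases h : i = m'
      · rw [h, Pi.single_eq_same]; exact hσR
      · rw [Pi.single_eq_of_ne h]; exact (Rp k p).zero_mem
    · intro i hi
      have hne : i ≠ m' := fun h => by
        rw [h] at hi
        exact absurd hm'j (not_lt.mpr hi)
      rw [Pi.add_apply, hs0 i hi, Pi.single_eq_of_ne hne, add_zero]
    · intro l hl hlj
      rw [hsum l]
      rcases Nat.eq_or_lt_of_le hl with heq | hlt
      · have hle : l = m' := Fin.ext heq.symm
        rw [hle, hGi, ← add_assoc]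
        exact hσ
      · have hml : m' < l := hlt
        rw [hlow l m' hml, zero_mul, add_zero]
        exact hs l hlt hlj

def Inv (p : ℕ) (M : Matrix (Fin r) (Fin r) (PowerSeries k)) (j : ℕ) : Prop :=
  ∃ (N P : Matrix (Fin r) (Fin r) (PowerSeries k)) (e : Fin r → ℕ), IsUnit N ∧ IsUnit P ∧
    (∀ a b, P a b ∈ Rp k p) ∧ (∀ i, (N * M * P) i i = X ^ e i) ∧
    (∀ a b, b < a → (N * M * P) a b = 0) ∧
    (∀ a b : Fin r, a < b → (b : ℕ) < j →
      Red (e b) ((N * M * P) a b) ∧ Clean p (e a) ((N * M * P) a b))

lemma Inv_step (p : ℕ) (M : Matrix (Fin r) (Fin r) (PowerSeries k)) (j : ℕ) (hj : j < r)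
    (h : Inv p M j) : Inv p M (j + 1) := by
  obtain ⟨N, P, e, hN, hP, hPR, hGi, hlow, hAB⟩ := h
  set G := N * M * P with hG
  clear_value G
  set j' : Fin r := ⟨j, hj⟩ with hj'
  obtain ⟨s, hsR, hs0, hs⟩ := single_col p e G hGi hlow j' j 0 (by simp [hj'])
  have hdiv : ∀ l : Fin r, ∃ q ρ : PowerSeries k,
      G l j' + ∑ i, G l i * s i = X ^ e j' * q + ρ ∧
      ∀ n, PowerSeries.coeff n ρ =
        if n < e j' then PowerSeries.coeff n (G l j' + ∑ i, G l i * s i) else 0 :=
    fun l => exists_div' (e j') _
  choose q0 ρ hqρ hρ using hdiv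
  set q : Fin r → PowerSeries k := fun l => if l < j' then q0 l else 0 with hq
  have hqj : q j' = 0 := by simp [hq]
  have hsj : s j' = 0 := hs0 j' le_rfl
  have hsum0 : ∑ c, G j' c * s c = 0 := by
    refine Finset.sum_eq_zero (fun c _ => ?_)
    rcases lt_or_ge c j' with h | h
    · rw [hlow j' c h, zero_mul]
    · rw [hs0 c h, mul_zero]
  have hentry : ∀ a b, ((1 - colM j' q) * G * (1 + colM j' s)) a b =
      G a b + (if b = j' then ∑ c, G a c * s c else 0) - q a * G j' b := by
    intro a b
    have h1 : (1 - colM j' q) * G * (1 + colM j' s) =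
        G + G * colM j' s - colM j' q * G - colM j' q * (G * colM j' s) := by
      rw [sub_mul, Matrix.one_mul, mul_add, Matrix.mul_one, sub_mul, Matrix.mul_assoc]
      exact sub_add_sub_comm' (A := Matrix (Fin r) (Fin r) (PowerSeries k)) _ _ _ _
    rw [h1]
    simp only [Matrix.sub_apply, Matrix.add_apply, colM_mul, mul_colM]
    rw [hsum0]
    split_ifs <;> ring
  refine ⟨(1 - colM j' q) * N, P * (1 + colM j' s), e,
    (isUnit_one_sub_colM j' q hqj).mul hN, hP.mul (isUnit_one_add_colM j' s hsj), ?_, ?_⟩
  · intro a b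
    rw [Matrix.mul_apply]
    refine Subring.sum_mem _ (fun c _ => (Rp k p).mul_mem (hPR a c) ?_)
    rw [Matrix.add_apply, colM_apply, Matrix.one_apply]
    refine (Rp k p).add_mem ?_ ?_
    · split_ifs
      · exact (Rp k p).one_mem
      · exact (Rp k p).zero_mem
    · split_ifs
      · exact hsR c
      · exact (Rp k p).zero_mem
  have hGeq : (1 - colM j' q) * N * M * (P * (1 + colM j' s)) =
      (1 - colM j' q) * G * (1 + colM j' s) := by
    rw [hG]; simp only [Matrix.mul_assoc]
  rw [hGeq]
  refine ⟨?_, ?_, ?_⟩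
  · intro i
    rw [hentry, hGi]
    by_cases hi : i = j'
    · rw [if_pos hi, hi, hsum0, hqj, zero_mul, add_zero, sub_zero]
    · rw [if_neg hi, add_zero]
      rcases lt_or_gt_of_ne hi with h | h
      · rw [hlow j' i h, mul_zero, sub_zero]
      · have : q i = 0 := by simp [hq, not_lt.mpr h.le]
        rw [this, zero_mul, sub_zero]
  · intro a b hba
    rw [hentry, hlow a b hba, zero_add]
    have h1 : (if b = j' then ∑ c, G a c * s c else 0) = 0 := by
      split_ifs with hb
      · refine Finset.sum_eq_zero (fun c _ => ?_)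
        rcases lt_or_ge c j' with h | h
        · rw [hlow a c (by rw [← hb] at h; exact h.trans hba), zero_mul]
        · rw [hs0 c h, mul_zero]
      · rfl
    rw [h1, zero_sub, neg_eq_zero]
    by_cases ha : a < j'
    · rw [hlow j' b (hba.trans ha), mul_zero]
    · have : q a = 0 := by simp [hq, ha]
      rw [this, zero_mul]
  · intro a b hab hbj
    rw [hentry]
    rcases Nat.lt_succ_iff_lt_or_eq.mp hbj with hlt | heq
    · have hbj' : b < j' := hlt
      rw [if_neg (ne_of_lt hbj'), add_zero, hlow j' b hbj', mul_zero, sub_zero]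
      exact hAB a b hab hlt
    · have hbe : b = j' := Fin.ext heq
      rw [hbe] at hab
      rw [if_pos hbe, hbe, hGi]
      have hqa : q a = q0 a := by simp [hq, hab]
      have : G a j' + ∑ c, G a c * s c - q a * X ^ e j' = ρ a := by
        rw [hqa, hqρ a]; ring
      rw [this]
      constructor
      · intro n hn
        rw [hρ, if_neg (not_lt.mpr hn)]
      · intro n hn hmod
        rw [hρ]
        split_ifs
        · exact hs a (Nat.zero_le _) hab n hn hmod
        · rfl

theorem main (p : ℕ) (M : Matrix (Fin r) (Fin r) (PowerSeries k)) (hM : M.det ≠ 0) :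
    ∃ (N P : Matrix (Fin r) (Fin r) (PowerSeries k)) (e : Fin r → ℕ), IsUnit N ∧ IsUnit P ∧
      (∀ i j n, ¬ p ∣ n → PowerSeries.coeff n (P i j) = 0) ∧
      (∀ i, (N * M * P) i i = PowerSeries.X ^ e i) ∧ (∀ i j, j < i → (N * M * P) i j = 0) ∧
      (∀ i j, i < j → ∀ n, (e j ≤ n ∨ (e i ≤ n ∧ n % p = e i % p)) →
        PowerSeries.coeff n ((N * M * P) i j) = 0) := by
  have h0 : Inv p M 0 := by
    obtain ⟨e, H, N, hNu, hNM, hHi, hlow, _⟩ := Groth.Agent.S14038.Aux.exists_matrix M hM
    refine ⟨N, 1, e, hNu, isUnit_one, ?_, ?_, ?_, ?_⟩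
    · intro a b
      rw [Matrix.one_apply]
      split_ifs
      · exact (Rp k p).one_mem
      · exact (Rp k p).zero_mem
    · intro i; rw [Matrix.mul_one, hNM]; exact hHi i
    · intro a b hba; rw [Matrix.mul_one, hNM]; exact hlow a b hba
    · intro a b _ hb; exact absurd hb (Nat.not_lt_zero _)
  have hall : ∀ j, j ≤ r → Inv p M j := by
    intro j
    induction j with
    | zero => intro _; exact h0
    | succ j ih => intro hj; exact Inv_step p M j (by omega) (ih (by omega))
  obtain ⟨N, P, e, hN, hP, hPR, hGi, hlow, hAB⟩ := hall r le_rfl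
  refine ⟨N, P, e, hN, hP, fun i j n hn => hPR i j n hn, hGi, hlow, ?_⟩
  intro i j hij n hn
  obtain ⟨h1, h2⟩ := hAB i j hij j.2
  rcases hn with hn | ⟨hn, hmod⟩
  · exact h1 n hn
  · exact h2 n hn hmod

end step
end Aux

/-- Let k be a field, p a prime number and M a square matrix of size r over k[[t]] with non-zero
determinant. Allowing, besides invertible row operations over k[[t]], invertible column operations
by matrices with entries in k[[t^p]] (power series whose coefficients vanish in all degrees not
divisible by p), M can be brought to a row-reduced form — upper triangular, diagonal entries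
t^{e_i}, entries above the diagonal in column j polynomials of degree less than e_j — in which in
addition the (i, j) entry (i < j) has no term in a degree that is at least e_i and congruent to e_i
modulo p. (Existence only; the form is not unique. The published statement asks that no term in any
degree congruent to e_i modulo p remain; the published reduction — adding k[[t^p]]-multiples of
column i to column j — removes exactly the terms of degree at least e_i, which is what is asserted
here. The published statement takes k algebraically closed of characteristic p, where k[[t^p]] is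
the ring of p-th powers; neither assumption is used.) -/
theorem result (k : Type u)
    [Field k] (p : ℕ) [Fact p.Prime] (r : ℕ) (M : Matrix (Fin r) (Fin r) (PowerSeries k))
    (hM : M.det ≠ 0) :
    ∃ (N P : Matrix (Fin r) (Fin r) (PowerSeries k)) (e : Fin r → ℕ), IsUnit N ∧ IsUnit P ∧
      (∀ i j n, ¬ p ∣ n → PowerSeries.coeff n (P i j) = 0) ∧
      (∀ i, (N * M * P) i i = PowerSeries.X ^ e i) ∧ (∀ i j, j < i → (N * M * P) i j = 0) ∧
      (∀ i j, i < j → ∀ n, (e j ≤ n ∨ (e i ≤ n ∧ n % p = e i % p)) →
        PowerSeries.coeff n ((N * M * P) i j) = 0) := by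
  exact Aux.main p M hM

end Groth.Agent.S14044
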