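import Groth.Statements.S14046
import Mathlib

set_option autoImplicit false
universe u v w
open W4c1frobunstiva

namespace Groth.Agent.S14046

open TensorProduct


open TensorProduct in
/-- Let R → A be a homomorphism of commutative rings and I, J ideals of A with I ∩ J = 0 — so that A is
the fibre product of A/I and A/J over A/(I + J), i.e. Spec A is the union of the two closed
subschemes in the strong sense — and suppose A/(I + J) is flat over R. Then this persists under
every base change: for every commutative R-algebra R', the ideals generated by I and J in R' ⊗_R A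
again meet in 0. (This is the ideal-theoretic, affine form of the base-change step; the exact
sequence of unit sheaves deduced from it in the published statement — restriction of units to a
closed subscheme being surjective locally — is not restated. Without flatness of A/(I + J) the
conclusion fails: for A = k[x, y]/(xy) over R = k[u] with u ↦ x + y, I = (x) and J = (y), the base
change to R/(u) gives k[x]/(x²), in which both ideals become (x).) -/
theorem result (R : Type u) (A : Type v)
    [CommRing R] [CommRing A] [Algebra R A] (I J : Ideal A) (hIJ : I ⊓ J = ⊥)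
    [Module.Flat R (A ⧸ (I ⊔ J))] (R' : Type w) [CommRing R'] [Algebra R R'] :
    I.map (Algebra.TensorProduct.includeRight : A →ₐ[R] R' ⊗[R] A) ⊓
      J.map (Algebra.TensorProduct.includeRight : A →ₐ[R] R' ⊗[R] A) = ⊥ := by
  classical
  let P := A ⧸ I
  let Q := A ⧸ J
  let g : A →ₗ[R] (A ⧸ I) × (A ⧸ J) :=
    LinearMap.prod (Ideal.Quotient.mkₐ R I).toLinearMap (Ideal.Quotient.mkₐ R J).toLinearMap
  let f : (A ⧸ I) × (A ⧸ J) →ₗ[R] A ⧸ (I ⊔ J) :=
    (Ideal.Quotient.factorₐ R (le_sup_left : I ≤ I ⊔ J)).toLinearMap ∘ₗ LinearMap.fst R _ _ -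
      (Ideal.Quotient.factorₐ R (le_sup_right : J ≤ I ⊔ J)).toLinearMap ∘ₗ LinearMap.snd R _ _
  have hg : Function.Injective g := by
    rw [injective_iff_map_eq_zero]
    intro a ha
    have h1 : Ideal.Quotient.mk I a = 0 := congrArg Prod.fst ha
    have h2 : Ideal.Quotient.mk J a = 0 := congrArg Prod.snd ha
    rw [Ideal.Quotient.eq_zero_iff_mem] at h1 h2
    have : a ∈ I ⊓ J := ⟨h1, h2⟩
    rw [hIJ] at this
    exact this
  have hf : Function.Surjective f := by
    intro z
    obtain ⟨a, rfl⟩ := Ideal.Quotient.mk_surjective z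
    refine ⟨(Ideal.Quotient.mk I a, 0), ?_⟩
    simp [f]
  have hex : Function.Exact g f := by
    rintro ⟨x, y⟩
    constructor
    · intro hxy
      obtain ⟨a, rfl⟩ := Ideal.Quotient.mk_surjective x
      obtain ⟨b, rfl⟩ := Ideal.Quotient.mk_surjective y
      have h1 : Ideal.Quotient.mk (I ⊔ J) (a - b) = 0 := by
        simpa [f, sub_eq_zero] using hxy
      rw [Ideal.Quotient.eq_zero_iff_mem, Submodule.mem_sup] at h1
      obtain ⟨i, hi, j, hj, hij⟩ := h1
      refine ⟨a - i, ?_⟩
      apply Prod.ext
      · change Ideal.Quotient.mk I (a - i) = Ideal.Quotient.mk I a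
        rw [map_sub, Ideal.Quotient.eq_zero_iff_mem.2 hi, sub_zero]
      · change Ideal.Quotient.mk J (a - i) = Ideal.Quotient.mk J b
        have : a - i = b + j := by
          have := hij
          linear_combination -this
        rw [this, map_add, Ideal.Quotient.eq_zero_iff_mem.2 hj, add_zero]
    · rintro ⟨a, ha⟩
      have h1 : Ideal.Quotient.mk I a = x := congrArg Prod.fst ha
      have h2 : Ideal.Quotient.mk J a = y := congrArg Prod.snd ha
      rw [← h1, ← h2]
      simp [f]
  have hinj : Function.Injective (g.lTensor R') :=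
    LinearMap.lTensor_injective_of_exact_of_flat f hf g hg hex R'
  -- kernels
  have hkerI : I.map (Algebra.TensorProduct.includeRight : A →ₐ[R] R' ⊗[R] A) ≤
      RingHom.ker (Algebra.TensorProduct.map (AlgHom.id R R') (Ideal.Quotient.mkₐ R I)) := by
    rw [Ideal.map_le_iff_le_comap]
    intro i hi
    rw [Ideal.mem_comap, RingHom.mem_ker]
    change Algebra.TensorProduct.map (AlgHom.id R R') (Ideal.Quotient.mkₐ R I) ((1 : R') ⊗ₜ[R] i) = 0
    rw [Algebra.TensorProduct.map_tmul, Ideal.Quotient.mkₐ_eq_mk, Ideal.Quotient.eq_zero_iff_mem.2 hi,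
      tmul_zero]
  have hkerJ : J.map (Algebra.TensorProduct.includeRight : A →ₐ[R] R' ⊗[R] A) ≤
      RingHom.ker (Algebra.TensorProduct.map (AlgHom.id R R') (Ideal.Quotient.mkₐ R J)) := by
    rw [Ideal.map_le_iff_le_comap]
    intro i hi
    rw [Ideal.mem_comap, RingHom.mem_ker]
    change Algebra.TensorProduct.map (AlgHom.id R R') (Ideal.Quotient.mkₐ R J) ((1 : R') ⊗ₜ[R] i) = 0
    rw [Algebra.TensorProduct.map_tmul, Ideal.Quotient.mkₐ_eq_mk, Ideal.Quotient.eq_zero_iff_mem.2 hi,
      tmul_zero]
  have hmapI : ∀ x : R' ⊗[R] A,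
      Algebra.TensorProduct.map (AlgHom.id R R') (Ideal.Quotient.mkₐ R I) x =
        ((Ideal.Quotient.mkₐ R I).toLinearMap.lTensor R') x := by
    intro x
    induction x using TensorProduct.induction_on with
    | zero => simp
    | tmul a b => simp
    | add x y hx hy => rw [map_add, map_add, hx, hy]
  have hmapJ : ∀ x : R' ⊗[R] A,
      Algebra.TensorProduct.map (AlgHom.id R R') (Ideal.Quotient.mkₐ R J) x =
        ((Ideal.Quotient.mkₐ R J).toLinearMap.lTensor R') x := by
    intro x
    induction x using TensorProduct.induction_on with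
    | zero => simp
    | tmul a b => simp
    | add x y hx hy => rw [map_add, map_add, hx, hy]
  rw [eq_bot_iff]
  rintro x ⟨hxI, hxJ⟩
  rw [Ideal.mem_bot]
  apply hinj
  rw [map_zero]
  have h1 : ((LinearMap.fst R (A ⧸ I) (A ⧸ J)).lTensor R') ((g.lTensor R') x) = 0 := by
    rw [← LinearMap.comp_apply, ← LinearMap.lTensor_comp]
    have : (LinearMap.fst R (A ⧸ I) (A ⧸ J)) ∘ₗ g = (Ideal.Quotient.mkₐ R I).toLinearMap := by
      ext; rfl
    rw [this, ← hmapI]
    exact hkerI hxI
  have h2 : ((LinearMap.snd R (A ⧸ I) (A ⧸ J)).lTensor R') ((g.lTensor R') x) = 0 := by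
    rw [← LinearMap.comp_apply, ← LinearMap.lTensor_comp]
    have : (LinearMap.snd R (A ⧸ I) (A ⧸ J)) ∘ₗ g = (Ideal.Quotient.mkₐ R J).toLinearMap := by
      ext; rfl
    rw [this, ← hmapJ]
    exact hkerJ hxJ
  have hid : (LinearMap.id : (A ⧸ I) × (A ⧸ J) →ₗ[R] (A ⧸ I) × (A ⧸ J)) =
      (LinearMap.inl R _ _) ∘ₗ (LinearMap.fst R _ _) + (LinearMap.inr R _ _) ∘ₗ (LinearMap.snd R _ _) := by
    ext <;> simp
  have h3 : (g.lTensor R') x = ((LinearMap.id : (A ⧸ I) × (A ⧸ J) →ₗ[R] _).lTensor R') ((g.lTensor R') x) := by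
    rw [LinearMap.lTensor_id, LinearMap.id_apply]
  rw [h3, hid, LinearMap.lTensor_add, LinearMap.add_apply, LinearMap.lTensor_comp,
    LinearMap.lTensor_comp, LinearMap.comp_apply, LinearMap.comp_apply, h1, h2, map_zero, map_zero,
    add_zero]

end Groth.Agent.S14046
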