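import Groth.Statements.S14048
import Mathlib
-- import your own Groth.Agent.* helpers here

set_option autoImplicit false
universe u
open TensorProduct
open CAlg

namespace Groth.Agent.S14048

open TensorProduct
namespace Aux
open Polynomial

section
variable {A : Type u} [CommRing A] [IsDomain A] (t : A)
  (h1 : Function.Bijective (Polynomial.aeval (R := ℚ) ((1 : ℚ) ⊗ₜ[ℤ] t : ℚ ⊗[ℤ] A)))

/-- the equivalence -/
noncomputable def ee : ℚ[X] ≃ₐ[ℚ] ℚ ⊗[ℤ] A := AlgEquiv.ofBijective _ h1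

noncomputable def iota : A →+* ℚ[X] :=
  (ee t h1).symm.toRingHom.comp
    (Algebra.TensorProduct.includeRight : A →ₐ[ℤ] ℚ ⊗[ℤ] A).toRingHom

lemma iota_apply (a : A) : iota t h1 a = (ee t h1).symm ((1 : ℚ) ⊗ₜ[ℤ] a) := rfl

lemma ee_iota (a : A) : ee t h1 (iota t h1 a) = (1 : ℚ) ⊗ₜ[ℤ] a := by
  rw [iota_apply, AlgEquiv.apply_symm_apply]

lemma iota_t : iota t h1 t = X := by
  rw [iota_apply, AlgEquiv.symm_apply_eq]
  simp [ee]

include h1 in
lemma intCast_ne_zero (n : ℤ) (hn : n ≠ 0) : (n : A) ≠ 0 := by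
  intro h
  have := congrArg (iota t h1) h
  rw [map_intCast, map_zero] at this
  exact hn (by exact_mod_cast this)

lemma iota_injective : Function.Injective (iota t h1) := by
  rw [injective_iff_map_eq_zero]
  intro a ha
  rw [iota_apply, AlgEquiv.symm_apply_eq, map_zero] at ha
  have h2 : IsLocalizedModule (nonZeroDivisors ℤ) (TensorProduct.mk ℤ ℚ A 1) := inferInstance
  have h3 : (TensorProduct.mk ℤ ℚ A 1) a = 0 := ha
  obtain ⟨s, hs⟩ := (IsLocalizedModule.eq_zero_iff (nonZeroDivisors ℤ) _).mp h3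
  have hs' : ((s : ℤ) : A) * a = 0 := by
    rw [← hs, Submonoid.smul_def, zsmul_eq_mul]
  rcases mul_eq_zero.mp hs' with h | h
  · exact absurd h (intCast_ne_zero t h1 _ (nonZeroDivisors.ne_zero s.2))
  · exact h

lemma exists_iota_eq (q : ℚ[X]) : ∃ (n : ℤ) (a : A), n ≠ 0 ∧ iota t h1 a = (n : ℚ[X]) * q := by
  have h2 : IsLocalizedModule (nonZeroDivisors ℤ) (TensorProduct.mk ℤ ℚ A 1) := inferInstance
  obtain ⟨⟨a, s⟩, hs⟩ := IsLocalizedModule.surj (nonZeroDivisors ℤ)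
    (TensorProduct.mk ℤ ℚ A 1) (ee t h1 q)
  refine ⟨s.1, a, nonZeroDivisors.ne_zero s.2, ?_⟩
  rw [iota_apply, AlgEquiv.symm_apply_eq, map_mul, map_intCast]
  have : (TensorProduct.mk ℤ ℚ A 1) a = (1 : ℚ) ⊗ₜ[ℤ] a := rfl
  rw [← this, ← hs, Submonoid.smul_def, zsmul_eq_mul]


noncomputable def sigma : Localization.Away (2 : ℤ) →+* ℚ :=
  IsLocalization.Away.lift (2 : ℤ) (g := Int.castRingHom ℚ) (by norm_num)

lemma sigma_intCast (m : ℤ) : sigma (algebraMap ℤ (Localization.Away (2 : ℤ)) m) = m := by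
  simp [sigma]

variable (s : A →+* Localization.Away (2 : ℤ)) (hs : s t = 1)

include hs in
lemma eval_iota (a : A) : (iota t h1 a).eval 1 = sigma (s a) := by
  let φ : A →+* ℚ := sigma.comp s
  let ψ : ℚ ⊗[ℤ] A →ₐ[ℚ] ℚ :=
    Algebra.TensorProduct.lift (AlgHom.id ℚ ℚ) φ.toIntAlgHom (fun _ _ => Commute.all _ _)
  have h3 : (ψ.comp (ee t h1).toAlgHom) = Polynomial.aeval (1 : ℚ) := by
    apply Polynomial.algHom_ext
    simp [ψ, ee, φ, hs]
  have h4 := congrArg (fun f => f (iota t h1 a)) h3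
  simp only [AlgHom.comp_apply] at h4
  rw [Polynomial.coe_aeval_eq_eval] at h4
  rw [← h4]
  have h5 : ((ee t h1 : ℚ[X] →ₐ[ℚ] ℚ ⊗[ℤ] A) (iota t h1 a)) = (1 : ℚ) ⊗ₜ[ℤ] a := ee_iota t h1 a
  rw [h5]
  simp [ψ, φ]


include h1 hs in
lemma exists_mul_eq_of_ker (g : A) (hg : s g = 0) :
    ∃ (n : ℤ) (a : A), n ≠ 0 ∧ (n : A) * g = (t - 1) * a := by
  have h3 : (iota t h1 g).IsRoot 1 := by
    rw [Polynomial.IsRoot.def, eval_iota t h1 s hs, hg, map_zero]
  obtain ⟨h, hh⟩ := Polynomial.dvd_iff_isRoot.mpr h3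
  obtain ⟨n, a, hn, ha⟩ := exists_iota_eq t h1 h
  refine ⟨n, a, hn, iota_injective t h1 ?_⟩
  rw [map_mul, map_mul, map_intCast, map_sub, map_one, iota_t, ha, hh, Polynomial.C_1]
  ring

include h1 hs in
lemma exists_uniform (hN : IsNoetherianRing A) :
    ∃ N : ℤ, N ≠ 0 ∧ ∀ g : A, s g = 0 → ∃ a : A, (N : A) * g = (t - 1) * a := by
  classical
  obtain ⟨G, hG⟩ := (isNoetherianRing_iff_ideal_fg A).mp hN (RingHom.ker s)
  have hGk : ∀ g ∈ G, s g = 0 := by
    intro g hg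
    have : g ∈ RingHom.ker s := by rw [← hG]; exact Ideal.subset_span hg
    exact this
  choose! n a hn ha using fun g => exists_mul_eq_of_ker t h1 s hs g
  refine ⟨∏ g ∈ G, n g, ?_, ?_⟩
  · rw [Finset.prod_ne_zero_iff]
    intro g hg
    exact hn g (hGk g hg)
  · intro g hg
    have hg' : g ∈ Ideal.span (G : Set A) := by rw [hG]; exact hg
    have key : ∀ x ∈ Ideal.span (G : Set A),
        ((∏ g ∈ G, n g : ℤ) : A) * x ∈ Ideal.span {t - 1} := by
      intro x hx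
      induction hx using Submodule.span_induction with
      | mem x hx =>
        obtain ⟨c, hc⟩ := Finset.dvd_prod_of_mem n hx
        rw [hc, Int.cast_mul, mul_comm (n x : A), mul_assoc, ha x (hGk x hx)]
        rw [Ideal.mem_span_singleton']
        exact ⟨c * a x, by ring⟩
      | zero => simp
      | add x y _ _ hx hy => rw [mul_add]; exact Ideal.add_mem _ hx hy
      | smul c x _ hx =>
        rw [smul_eq_mul, mul_left_comm]
        exact Ideal.mul_mem_left _ _ hx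
    obtain ⟨a', ha'⟩ := Ideal.mem_span_singleton'.mp (key g hg')
    exact ⟨a', by rw [← ha']; ring⟩


def Zp (p : ℕ) (q : ℚ[X]) : Prop :=
  ∃ (n : ℤ) (r : ℤ[X]), ¬ (p : ℤ) ∣ n ∧ r.map (Int.castRingHom ℚ) = (n : ℚ[X]) * q

omit [IsDomain A] in
lemma not_dvd_two_pow {p : ℕ} (hp : p.Prime) (hp2 : p ≠ 2) (k : ℕ) : ¬ (p : ℤ) ∣ 2 ^ k := by
  intro h
  have h3 : (p : ℤ) ∣ 2 := (Nat.prime_iff_prime_int.mp hp).dvd_of_dvd_pow h
  have h4 : p ∣ 2 := by exact_mod_cast h3
  exact hp2 ((Nat.prime_dvd_prime_iff_eq hp Nat.prime_two).mp h4)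

include hs in
lemma zp_iota (N : ℤ) (hN0 : N ≠ 0)
    (hN : ∀ g : A, s g = 0 → ∃ a : A, (N : A) * g = (t - 1) * a)
    {p : ℕ} (hp : p.Prime) (hp2 : p ≠ 2) (hpN : ¬ (p : ℤ) ∣ N) :
    ∀ d : ℕ, ∀ a : A, (iota t h1 a).natDegree = d → Zp p (iota t h1 a) := by
  intro d
  induction d using Nat.strong_induction_on with
  | _ d ih =>
  intro a hd
  obtain ⟨⟨m, ⟨_, k, rfl⟩⟩, hm⟩ := IsLocalization.surj (Submonoid.powers (2 : ℤ)) (s a)
  simp only at hm
  have hg : s ((2 : A) ^ k * a - (m : A)) = 0 := by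
    rw [map_sub, map_mul, map_pow, map_ofNat, map_intCast, mul_comm, sub_eq_zero]
    rw [map_pow, map_ofNat] at hm
    rw [hm]; exact eq_intCast _ m
  obtain ⟨a', ha'⟩ := hN _ hg
  have hE : (N : ℚ[X]) * ((2 : ℚ[X]) ^ k * iota t h1 a - (m : ℚ[X])) =
      (X - 1) * iota t h1 a' := by
    have := congrArg (iota t h1) ha'
    rw [map_mul, map_mul, map_intCast, map_sub, map_sub, map_mul, map_pow, map_ofNat,
      map_intCast, iota_t, map_one] at this
    exact this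
  have hNq : (N : ℚ[X]) ≠ 0 := by exact_mod_cast hN0
  by_cases h0 : iota t h1 a' = 0
  · rw [h0, mul_zero] at hE
    have h3 := (mul_eq_zero.mp hE).resolve_left hNq
    rw [sub_eq_zero] at h3
    refine ⟨2 ^ k, Polynomial.C m, not_dvd_two_pow hp hp2 k, ?_⟩
    rw [Polynomial.map_C, Int.cast_pow, Int.cast_ofNat, h3]
    simp
  · have hdeg1 : ((X - 1 : ℚ[X]) * iota t h1 a').natDegree = 1 + (iota t h1 a').natDegree := by
      have e0 : (X - 1 : ℚ[X]) = X - Polynomial.C 1 := by simp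
      rw [e0, Polynomial.natDegree_mul (Polynomial.X_sub_C_ne_zero (1 : ℚ)) h0,
        Polynomial.natDegree_X_sub_C]
    have hdeg2 : ((N : ℚ[X]) * ((2 : ℚ[X]) ^ k * iota t h1 a - (m : ℚ[X]))).natDegree ≤ d := by
      have e1 : (N : ℚ[X]) = Polynomial.C (N : ℚ) := by simp
      have e2 : ((2 : ℚ[X]) ^ k) = Polynomial.C ((2 : ℚ) ^ k) := by
        rw [map_pow]; rfl
      have e3 : (m : ℚ[X]) = Polynomial.C (m : ℚ) := by simp
      rw [e1, e2, e3]
      refine (Polynomial.natDegree_C_mul_le _ _).trans ?_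
      refine (Polynomial.natDegree_sub_le _ _).trans ?_
      rw [Polynomial.natDegree_C, max_le_iff]
      exact ⟨(Polynomial.natDegree_C_mul_le _ _).trans hd.le, Nat.zero_le _⟩
    rw [hE, hdeg1] at hdeg2
    obtain ⟨n', r', hn', hr'⟩ := ih (iota t h1 a').natDegree (by omega) a' rfl
    refine ⟨N * n' * 2 ^ k, Polynomial.C (N * n' * m) + (X - 1) * r', ?_, ?_⟩
    · intro h
      have hpp := Nat.prime_iff_prime_int.mp hp
      rcases hpp.dvd_or_dvd h with h | h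
      · rcases hpp.dvd_or_dvd h with h | h
        · exact hpN h
        · exact hn' h
      · exact not_dvd_two_pow hp hp2 k h
    · rw [Polynomial.map_add, Polynomial.map_mul, Polynomial.map_sub, Polynomial.map_X,
        Polynomial.map_one, hr', Polynomial.map_C]
      have : (N : ℚ[X]) * (2 : ℚ[X]) ^ k * iota t h1 a =
          (N : ℚ[X]) * (m : ℚ[X]) + (X - 1) * iota t h1 a' := by
        rw [← hE]; ring
      push_cast
      have e : ((N : ℚ[X]) * (n' : ℚ[X]) * 2 ^ k) * iota t h1 a =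
          (n' : ℚ[X]) * ((N : ℚ[X]) * (2 : ℚ[X]) ^ k * iota t h1 a) := by ring
      rw [e, this]
      simp only [eq_intCast, Int.cast_mul]
      push_cast
      simp only [map_mul, map_intCast]
      ring


include h1 hs in
theorem main (h0 : ∀ p : ℕ, p.Prime → IsUnit ((p : ℕ) : A ⧸ Ideal.span ({t} : Set A))) :
    ¬ IsNoetherianRing A := by
  intro hNoeth
  obtain ⟨N, hN0, hN⟩ := exists_uniform t h1 s hs hNoeth
  obtain ⟨p, hpge, hp⟩ := Nat.exists_infinite_primes (N.natAbs + 3)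
  have hp2 : p ≠ 2 := by omega
  have hpN : ¬ (p : ℤ) ∣ N := by
    intro h
    have h3 : p ∣ N.natAbs := Int.natCast_dvd.mp h
    have h4 : p ≤ N.natAbs := Nat.le_of_dvd (Int.natAbs_pos.mpr hN0) h3
    omega
  obtain ⟨y, hy⟩ := (h0 p hp).exists_right_inv
  obtain ⟨a, rfl⟩ := Ideal.Quotient.mk_surjective y
  have h5 : (p : A) * a - 1 ∈ Ideal.span ({t} : Set A) := by
    rw [← Ideal.Quotient.eq_zero_iff_mem, map_sub, map_mul, map_natCast, map_one, hy, sub_self]
  obtain ⟨b, hb⟩ := Ideal.mem_span_singleton'.mp h5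
  have hE : (p : ℚ[X]) * iota t h1 a = 1 + X * iota t h1 b := by
    have := congrArg (iota t h1) hb
    rw [map_mul, map_sub, map_mul, map_natCast, map_one, iota_t] at this
    rw [eq_sub_iff_add_eq] at this
    rw [← this]; ring
  obtain ⟨n₁, r₁, hn₁, hr₁⟩ := zp_iota t h1 s hs N hN0 hN hp hp2 hpN _ a rfl
  obtain ⟨n₂, r₂, hn₂, hr₂⟩ := zp_iota t h1 s hs N hN0 hN hp hp2 hpN _ b rfl
  have hE2 : (p : ℚ[X]) * (n₂ : ℚ[X]) * r₁.map (Int.castRingHom ℚ) =
      (n₁ : ℚ[X]) * (n₂ : ℚ[X]) + X * ((n₁ : ℚ[X]) * r₂.map (Int.castRingHom ℚ)) := by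
    rw [hr₁, hr₂]
    have : (p : ℚ[X]) * (n₂ : ℚ[X]) * ((n₁ : ℚ[X]) * iota t h1 a) =
        (n₁ : ℚ[X]) * (n₂ : ℚ[X]) * ((p : ℚ[X]) * iota t h1 a) := by ring
    rw [this, hE]; ring
  have hE3 : ((p : ℤ[X]) * (n₂ : ℤ[X]) * r₁).map (Int.castRingHom ℚ) =
      ((n₁ : ℤ[X]) * (n₂ : ℤ[X]) + X * ((n₁ : ℤ[X]) * r₂)).map (Int.castRingHom ℚ) := by
    simp only [Polynomial.map_mul, Polynomial.map_add, Polynomial.map_natCast,
      Polynomial.map_intCast, Polynomial.map_X]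
    exact hE2
  have hE4 := Polynomial.map_injective _ (RingHom.injective_int (Int.castRingHom ℚ)) hE3
  have hE5 := congrArg (fun q => Polynomial.coeff q 0) hE4
  simp only [Polynomial.coeff_add, Polynomial.coeff_X_mul_zero, add_zero] at hE5
  have e1 : ((p : ℤ[X]) * (n₂ : ℤ[X]) * r₁).coeff 0 = (p : ℤ) * (n₂ * r₁.coeff 0) := by
    rw [Polynomial.mul_coeff_zero, Polynomial.mul_coeff_zero]
    simp [mul_assoc]
  have e2 : ((n₁ : ℤ[X]) * (n₂ : ℤ[X])).coeff 0 = n₁ * n₂ := by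
    rw [Polynomial.mul_coeff_zero]; simp
  rw [e1, e2] at hE5
  have hdvd : (p : ℤ) ∣ n₁ * n₂ := ⟨_, hE5.symm⟩
  rcases (Nat.prime_iff_prime_int.mp hp).dvd_or_dvd hdvd with h | h
  · exact hn₁ h
  · exact hn₂ h

end

end Aux

/-- Let A be an integral domain in which 2 is invertible and let t be an element of A, so that Spec A is
a scheme over the affine line Spec ℤ[1/2][t]. Assume that (1) the ℚ-algebra map ℚ[X] → ℚ ⊗_ℤ A
sending X to 1 ⊗ t is bijective (the map Spec A → Spec ℤ[1/2][t] becomes an isomorphism after base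
change to ℚ); (2) every prime number is invertible in A/(t) (the fibre over t = 0 is of pure
characteristic zero); and (3) there is a ring homomorphism s : A → ℤ[1/2] with s(t) = 1 (the fibre
over t = 1 admits a section). Then A is not Noetherian. -/
theorem result (A : Type u) [CommRing A]
    [IsDomain A] (h2 : IsUnit (2 : A)) (t : A)
    (h1 : Function.Bijective (Polynomial.aeval (R := ℚ) ((1 : ℚ) ⊗ₜ[ℤ] t : ℚ ⊗[ℤ] A)))
    (h0 : ∀ p : ℕ, p.Prime → IsUnit ((p : ℕ) : A ⧸ Ideal.span ({t} : Set A)))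
    (s : A →+* Localization.Away (2 : ℤ)) (hs : s t = 1) :
    ¬ IsNoetherianRing A := by
  exact Aux.main t h1 s hs h0

end Groth.Agent.S14048
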