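import Groth.Statements.S14051
import Mathlib

set_option autoImplicit false
universe u
open CAlg

namespace Groth.Agent.S14051


open DirectSum

section
variable {R : Type u} [CommRing R] {A : Type u} [CommRing A] [Algebra R A]
    (𝒜 : ℕ → Submodule R A) [GradedAlgebra 𝒜]
    {M : Type u} [AddCommGroup M] [Module R M] [Module A M] [IsScalarTower R A M]
    (ℳ : ℕ → Submodule R M) [DirectSum.Decomposition ℳ] [SetLike.GradedSMul 𝒜 ℳ]

theorem gsmul_mem {i j : ℕ} {a : A} {x : M} (ha : a ∈ 𝒜 i) (hx : x ∈ ℳ j) : a • x ∈ ℳ (i + j) := by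
  have := SetLike.GradedSMul.smul_mem (A := 𝒜) (B := ℳ) ha hx
  simpa using this

theorem le_grade (k n : ℕ) : 𝒜 k • ℳ n ≤ ℳ (n + k) := by
  rw [Submodule.smul_le]
  intro a ha x hx
  rw [add_comm]
  exact gsmul_mem 𝒜 ℳ ha hx

/-- projection to degree `e` -/
noncomputable def pr (e : ℕ) : M →ₗ[R] M :=
  (ℳ e).subtype ∘ₗ (DirectSum.component R ℕ (fun i => ℳ i) e) ∘ₗ
    (DirectSum.decomposeLinearEquiv ℳ).toLinearMap

theorem pr_apply (e : ℕ) (x : M) : pr ℳ e x = (DirectSum.decompose ℳ x e : M) := rfl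

theorem pr_same {e : ℕ} {x : M} (hx : x ∈ ℳ e) : pr ℳ e x = x := by
  rw [pr_apply, DirectSum.decompose_of_mem_same ℳ hx]

theorem pr_ne {e d : ℕ} {x : M} (hx : x ∈ ℳ e) (h : e ≠ d) : pr ℳ d x = 0 := by
  rw [pr_apply, DirectSum.decompose_of_mem_ne ℳ hx h]

variable (hA : ∀ n : ℕ, 𝒜 (n + 1) = 𝒜 1 * 𝒜 n)
include hA

theorem F1 {i j : ℕ} {a : A} {x : M} (ha : a ∈ 𝒜 (i + 1)) (hx : x ∈ ℳ j) :
    a • x ∈ 𝒜 1 • ℳ (i + j) := by
  rw [hA i] at ha
  refine Submodule.mul_induction_on ha (fun b hb c hc => ?_) (fun y z hy hz => ?_)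
  · rw [mul_smul]
    exact Submodule.smul_mem_smul hb (gsmul_mem 𝒜 ℳ hc hx)
  · rw [add_smul]; exact Submodule.add_mem _ hy hz

omit hA in
theorem F2 {j : ℕ} {a : A} {x : M} (ha : a ∈ 𝒜 0) (hx : x ∈ 𝒜 1 • ℳ j) :
    a • x ∈ 𝒜 1 • ℳ j := by
  refine Submodule.smul_induction_on hx (fun b hb y hy => ?_) (fun y z hy hz => ?_)
  · rw [smul_comm]
    have := gsmul_mem 𝒜 ℳ ha hy
    rw [zero_add] at this
    exact Submodule.smul_mem_smul hb this
  · rw [smul_add]; exact Submodule.add_mem _ hy hz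

/-- the auxiliary graded pieces -/
def G (n₀ : ℕ) (e : ℕ) : Submodule R M := if e ≤ n₀ then ℳ e else 𝒜 1 • ℳ (e - 1)

omit hA in
theorem G_le (n₀ e : ℕ) : G 𝒜 ℳ n₀ e ≤ ℳ e := by
  unfold G
  split_ifs with h
  · exact le_rfl
  · have := le_grade 𝒜 ℳ 1 (e - 1)
    have he : e - 1 + 1 = e := by omega
    rwa [he] at this

theorem closure_step (n₀ : ℕ) (a : A) (x : M) (hx : x ∈ ⨆ e, G 𝒜 ℳ n₀ e) :
    a • x ∈ ⨆ e, G 𝒜 ℳ n₀ e := by
  induction a using DirectSum.Decomposition.inductionOn 𝒜 with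
  | zero => rw [zero_smul]; exact Submodule.zero_mem _
  | @homogeneous i a =>
    refine Submodule.iSup_induction _ (motive := fun x => (a : A) • x ∈ ⨆ e, G 𝒜 ℳ n₀ e) hx
      (fun j y hy => ?_) ?_ (fun y z hy hz => ?_)
    · apply Submodule.mem_iSup_of_mem (i + j)
      have hyj : y ∈ ℳ j := G_le 𝒜 ℳ n₀ j hy
      unfold G
      split_ifs with h
      · exact gsmul_mem 𝒜 ℳ a.2 hyj
      · rcases Nat.eq_zero_or_pos i with hi | hi
        · subst hi
          have hj : ¬ j ≤ n₀ := by omega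
          have hy' : y ∈ 𝒜 1 • ℳ (j - 1) := by
            unfold G at hy; rwa [if_neg hj] at hy
          have := F2 𝒜 ℳ a.2 hy'
          rw [zero_add]
          exact this
        · obtain ⟨i', rfl⟩ : ∃ i', i = i' + 1 := ⟨i - 1, by omega⟩
          have := F1 𝒜 ℳ hA a.2 hyj
          have he : i' + 1 + j - 1 = i' + j := by omega
          rw [he]
          exact this
    · rw [smul_zero]; exact Submodule.zero_mem _
    · rw [smul_add]; exact Submodule.add_mem _ hy hz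
  | add a b ha hb => rw [add_smul]; exact Submodule.add_mem _ ha hb

omit hA in
theorem pr_mem (n₀ d : ℕ) (x : M) (hx : x ∈ ⨆ e, G 𝒜 ℳ n₀ e) : pr ℳ d x ∈ G 𝒜 ℳ n₀ d := by
  refine Submodule.iSup_induction _ (motive := fun x => pr ℳ d x ∈ G 𝒜 ℳ n₀ d) hx
    (fun e y hy => ?_) ?_ (fun y z hy hz => ?_)
  · by_cases h : e = d
    · subst h
      rw [pr_same ℳ (G_le 𝒜 ℳ n₀ e hy)]; exact hy
    · rw [pr_ne ℳ (G_le 𝒜 ℳ n₀ e hy) h]; exact Submodule.zero_mem _
  · rw [map_zero]; exact Submodule.zero_mem _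
  · rw [map_add]; exact Submodule.add_mem _ hy hz

theorem step1 (s : Set M) (n₀ : ℕ) (hs : ∀ y ∈ s, ∃ d : ℕ, d ≤ n₀ ∧ y ∈ ℳ d)
    (hspan : Submodule.span A s = ⊤) (n : ℕ) (hn : n₀ ≤ n) : ℳ (n + 1) ≤ 𝒜 1 • ℳ n := by
  let G' : Submodule A M :=
    { carrier := ((⨆ e, G 𝒜 ℳ n₀ e : Submodule R M) : Set M)
      add_mem' := fun ha hb => (⨆ e, G 𝒜 ℳ n₀ e : Submodule R M).add_mem ha hb
      zero_mem' := (⨆ e, G 𝒜 ℳ n₀ e : Submodule R M).zero_mem
      smul_mem' := fun a x hx => closure_step 𝒜 ℳ hA n₀ a x hx }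
  have hsG : s ⊆ G' := by
    intro y hy
    obtain ⟨d, hd, hyd⟩ := hs y hy
    change y ∈ ⨆ e, G 𝒜 ℳ n₀ e
    apply Submodule.mem_iSup_of_mem d
    unfold G; rw [if_pos hd]; exact hyd
  have htop : ∀ x : M, x ∈ ⨆ e, G 𝒜 ℳ n₀ e := by
    intro x
    have : x ∈ Submodule.span A s := by rw [hspan]; trivial
    exact (Submodule.span_le.2 hsG) this
  intro x hx
  have h1 := pr_mem 𝒜 ℳ n₀ (n + 1) x (htop x)
  rw [pr_same ℳ hx] at h1
  unfold G at h1
  rw [if_neg (by omega)] at h1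
  simpa using h1

theorem main (s : Set M) (n₀ : ℕ) (hs : ∀ y ∈ s, ∃ d : ℕ, d ≤ n₀ ∧ y ∈ ℳ d)
    (hspan : Submodule.span A s = ⊤) (n k : ℕ) (hn : n₀ ≤ n) : ℳ (n + k) = 𝒜 k • ℳ n := by
  induction k with
  | zero =>
    apply le_antisymm
    · intro x hx
      have : x = (1 : A) • x := (one_smul A x).symm
      rw [this]
      exact Submodule.smul_mem_smul (SetLike.GradedOne.one_mem) hx
    · exact le_grade 𝒜 ℳ 0 n
  | succ k ih =>
    apply le_antisymm
    · have h1 := step1 𝒜 ℳ hA s n₀ hs hspan (n + k) (by omega)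
      rw [ih] at h1
      intro x hx
      have hx' : x ∈ 𝒜 1 • 𝒜 k • ℳ n := h1 (by rwa [add_assoc])
      refine Submodule.smul_induction_on hx' (fun b hb z hz => ?_) (fun y z hy hz => ?_)
      · refine Submodule.smul_induction_on hz (fun c hc y hy => ?_) (fun y z hy hz => ?_)
        · rw [← mul_smul]
          refine Submodule.smul_mem_smul ?_ hy
          rw [hA k]
          exact Submodule.mul_mem_mul hb hc
        · rw [smul_add]; exact Submodule.add_mem _ hy hz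
      · exact Submodule.add_mem _ hy hz
    · exact le_grade 𝒜 ℳ (k + 1) n

end


/-- Let A be a commutative ℕ-graded algebra over a base ring R which is generated by A_1 as an
A_0-algebra, written as A_{n+1} = A_1 · A_n for every n, and let M be a graded A-module: an A-module
with R-submodules M_n giving a direct-sum decomposition and A_i · M_j ⊆ M_{i+j}. If M is spanned
over A by a set of homogeneous elements all of degree at most n₀, then for every n ≥ n₀ and every k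
≥ 0 the degree-(n+k) part of M is A_k · M_n. -/
theorem result
    (R : Type u) [CommRing R] (A : Type u) [CommRing A] [Algebra R A]
    (𝒜 : ℕ → Submodule R A) [GradedAlgebra 𝒜]
    (hA : ∀ n : ℕ, 𝒜 (n + 1) = 𝒜 1 * 𝒜 n)
    (M : Type u) [AddCommGroup M] [Module R M] [Module A M] [IsScalarTower R A M]
    (ℳ : ℕ → Submodule R M) [DirectSum.Decomposition ℳ] [SetLike.GradedSMul 𝒜 ℳ]
    (s : Set M) (n₀ : ℕ) (hs : ∀ y ∈ s, ∃ d : ℕ, d ≤ n₀ ∧ y ∈ ℳ d)
    (hspan : Submodule.span A s = ⊤)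
    (n k : ℕ) (hn : n₀ ≤ n) :
    ℳ (n + k) = 𝒜 k • ℳ n := by
  classical
  exact main 𝒜 ℳ hA s n₀ hs hspan n k hn

end Groth.Agent.S14051
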