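import Groth.Statements.S14053
import Mathlib

set_option autoImplicit false
universe u
open CAlg

namespace Groth.Agent.S14053

section

universe v

section graded
variable {k : Type u} [Field k] {R : Type u} [CommRing R] [Algebra k R]
  (ℛ : ℕ → Submodule k R) [GradedAlgebra ℛ] {σ : Type v} (gen : σ → R) (w : σ → ℕ)
  (hgenw : ∀ v, gen v ∈ ℛ (w v))

include hgenw in
theorem mono_mem (s : σ →₀ ℕ) :
    MvPolynomial.aeval gen (MvPolynomial.monomial s (1 : k)) ∈ ℛ (Finsupp.weight w s) := by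
  rw [MvPolynomial.aeval_monomial, map_one, one_mul, Finsupp.weight_apply, Finsupp.prod, Finsupp.sum]
  apply SetLike.prod_mem_graded
  intro v _
  exact SetLike.pow_mem_graded _ (hgenw v)

include hgenw in
theorem le_span (hsurj : Function.Surjective (MvPolynomial.aeval gen : MvPolynomial σ k →ₐ[k] R))
    (n : ℕ) :
    ℛ n ≤ Submodule.span k {r | ∃ s : σ →₀ ℕ, Finsupp.weight w s = n ∧
      r = MvPolynomial.aeval gen (MvPolynomial.monomial s (1 : k))} := by
  classical
  intro r hr
  obtain ⟨p, rfl⟩ := hsurj r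
  have h1 : MvPolynomial.aeval gen p =
      ∑ s ∈ p.support, p.coeff s • MvPolynomial.aeval gen (MvPolynomial.monomial s (1 : k)) := by
    conv_lhs => rw [p.as_sum]
    rw [map_sum]
    apply Finset.sum_congr rfl
    intro s _
    rw [← map_smul, MvPolynomial.smul_monomial, smul_eq_mul, mul_one]
  have h2 : MvPolynomial.aeval gen p = GradedRing.proj ℛ n (MvPolynomial.aeval gen p) := by
    rw [GradedRing.proj_apply, DirectSum.decompose_of_mem_same ℛ hr]
  rw [h2, h1, map_sum]
  apply Submodule.sum_mem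
  intro s _
  have h3 : GradedRing.proj ℛ n (p.coeff s • MvPolynomial.aeval gen (MvPolynomial.monomial s (1 : k)))
      = p.coeff s • GradedRing.proj ℛ n (MvPolynomial.aeval gen (MvPolynomial.monomial s (1 : k))) := by
    rw [GradedRing.proj_apply, GradedRing.proj_apply, DirectSum.decompose_smul]
    rfl
  rw [h3]
  apply Submodule.smul_mem
  by_cases hs : Finsupp.weight w s = n
  · rw [GradedRing.proj_apply, DirectSum.decompose_of_mem_same ℛ (hs ▸ mono_mem ℛ gen w hgenw s)]
    exact Submodule.subset_span ⟨s, hs, rfl⟩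
  · rw [GradedRing.proj_apply, DirectSum.decompose_of_mem_ne ℛ (mono_mem ℛ gen w hgenw s) hs]
    exact Submodule.zero_mem _

end graded
section comb
variable {σ : Type v} [Fintype σ]

theorem exists_subselect (q : σ → ℕ) (e : ℕ) (he : e ≤ ∑ v, q v) :
    ∃ t : σ → ℕ, (∀ v, t v ≤ q v) ∧ ∑ v, t v = e := by
  classical
  induction e with
  | zero => exact ⟨fun _ => 0, fun v => Nat.zero_le _, by simp⟩
  | succ e ih =>
    obtain ⟨t, ht, hsum⟩ := ih (Nat.le_of_succ_le he)
    have hex : ∃ v, t v < q v := by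
      by_contra hcon
      simp only [not_exists, not_lt] at hcon
      have h1 : ∑ v, q v ≤ ∑ v, t v := Finset.sum_le_sum fun v _ => hcon v
      omega
    obtain ⟨v₀, hv₀⟩ := hex
    refine ⟨t + Pi.single v₀ 1, ?_, ?_⟩
    · intro v
      by_cases hv : v = v₀
      · subst hv
        simp only [Pi.add_apply, Pi.single_eq_same]
        omega
      · simp only [Pi.add_apply, Pi.single_eq_of_ne hv, add_zero]
        exact ht v
    · simp only [Pi.add_apply, Finset.sum_add_distrib, hsum, Finset.sum_pi_single', Finset.mem_univ,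
        if_true]

theorem weight_eq_sum (w : σ → ℕ) (s : σ →₀ ℕ) : Finsupp.weight w s = ∑ v, s v * w v := by
  rw [Finsupp.weight_apply, Finsupp.sum_fintype]
  · rfl
  · intro v
    simp

theorem exists_sub (w c : σ → ℕ) (hwc : ∀ v, w v * c v = 6) (s : σ →₀ ℕ) (e m : ℕ) (hm : 2 ≤ m)
    (hbound : ∑ v, w v * (c v - 1) ≤ e) (hs : Finsupp.weight w s = m * (6 * e)) :
    ∃ s₁ : σ →₀ ℕ, s₁ ≤ s ∧ Finsupp.weight w s₁ = 6 * e := by
  have hc : ∀ v, 0 < c v := by
    intro v
    rcases Nat.eq_zero_or_pos (c v) with h | h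
    · have := hwc v
      rw [h] at this
      omega
    · exact h
  rw [weight_eq_sum] at hs
  have h1 : ∀ v, s v * w v = 6 * (s v / c v) + (s v % c v) * w v := by
    intro v
    conv_lhs => rw [← Nat.div_add_mod (s v) (c v)]
    rw [add_mul]
    congr 1
    rw [mul_comm (c v), mul_assoc, mul_comm (c v), hwc v, mul_comm]
  have h2 : ∑ v, s v * w v = 6 * ∑ v, s v / c v + ∑ v, (s v % c v) * w v := by
    rw [Finset.mul_sum, ← Finset.sum_add_distrib]
    exact Finset.sum_congr rfl fun v _ => h1 v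
  have h3 : ∑ v, (s v % c v) * w v ≤ ∑ v, w v * (c v - 1) := by
    apply Finset.sum_le_sum
    intro v _
    rw [mul_comm]
    apply Nat.mul_le_mul_left
    have := Nat.mod_lt (s v) (hc v)
    omega
  have h4 : e ≤ ∑ v, s v / c v := by
    have h5 : 2 * (6 * e) ≤ m * (6 * e) := Nat.mul_le_mul_right _ hm
    omega
  obtain ⟨t, ht, htsum⟩ := exists_subselect (fun v => s v / c v) e h4
  refine ⟨Finsupp.equivFunOnFinite.symm (fun v => c v * t v), ?_, ?_⟩
  · intro v
    simp only [Finsupp.coe_equivFunOnFinite_symm]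
    calc c v * t v ≤ c v * (s v / c v) := Nat.mul_le_mul_left _ (ht v)
      _ ≤ s v := Nat.mul_div_le _ _
  · rw [weight_eq_sum]
    simp only [Finsupp.coe_equivFunOnFinite_symm]
    rw [← htsum, Finset.mul_sum]
    apply Finset.sum_congr rfl
    intro v _
    rw [mul_comm (c v), mul_assoc, mul_comm (c v), hwc v, mul_comm]

end comb


section main
variable (k : Type u) [Field k] (R : Type u) [CommRing R] [Algebra k R]
    (ℛ : ℕ → Submodule k R) [GradedAlgebra ℛ]

theorem pow_le (N m : ℕ) (hm : 1 ≤ m) : ℛ N ^ m ≤ ℛ (m * N) := by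
  induction m, hm using Nat.le_induction with
  | base => rw [pow_one, one_mul]
  | succ m _ ih =>
    rw [pow_succ, Submodule.mul_le]
    intro a ha b hb
    have := SetLike.mul_mem_graded (ih ha) hb
    rwa [show m * N + N = (m + 1) * N by ring] at this

theorem main
    (h0 : ℛ 0 = 1)
    (hgen : Algebra.adjoin k ((ℛ 1 : Set R) ∪ (ℛ 2 : Set R) ∪ (ℛ 3 : Set R)) = ⊤)
    [Module.Finite k (ℛ 1)] [Module.Finite k (ℛ 2)] [Module.Finite k (ℛ 3)]
    (e : ℕ) (he : 5 * Module.finrank k (ℛ 1) + 4 * Module.finrank k (ℛ 2) + 3 * Module.finrank k (ℛ 3) ≤ e)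
    (m : ℕ) (hm : 0 < m) :
    ℛ (m * (6 * e)) = ℛ (6 * e) ^ m := by
  classical
  let b₁ := Module.finBasis k (ℛ 1)
  let b₂ := Module.finBasis k (ℛ 2)
  let b₃ := Module.finBasis k (ℛ 3)
  let gen : (Fin (Module.finrank k (ℛ 1)) ⊕ Fin (Module.finrank k (ℛ 2))) ⊕
      Fin (Module.finrank k (ℛ 3)) → R :=
    Sum.elim (Sum.elim (fun i => (b₁ i : R)) (fun j => (b₂ j : R))) (fun l => (b₃ l : R))
  let w : (Fin (Module.finrank k (ℛ 1)) ⊕ Fin (Module.finrank k (ℛ 2))) ⊕
      Fin (Module.finrank k (ℛ 3)) → ℕ :=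
    Sum.elim (Sum.elim (fun _ => 1) (fun _ => 2)) (fun _ => 3)
  let c : (Fin (Module.finrank k (ℛ 1)) ⊕ Fin (Module.finrank k (ℛ 2))) ⊕
      Fin (Module.finrank k (ℛ 3)) → ℕ :=
    Sum.elim (Sum.elim (fun _ => 6) (fun _ => 3)) (fun _ => 2)
  have hgenw : ∀ v, gen v ∈ ℛ (w v) := by
    rintro ((i | j) | l)
    · exact (b₁ i).2
    · exact (b₂ j).2
    · exact (b₃ l).2
  have hwc : ∀ v, w v * c v = 6 := by
    rintro ((i | j) | l) <;> rfl
  have hbound : ∑ v, w v * (c v - 1) ≤ e := by
    rw [Fintype.sum_sum_type, Fintype.sum_sum_type]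
    simp only [w, c, Sum.elim_inl, Sum.elim_inr, Finset.sum_const, Finset.card_univ,
      Fintype.card_fin, smul_eq_mul]
    omega
  have hsurj : Function.Surjective (MvPolynomial.aeval gen : MvPolynomial _ k →ₐ[k] R) := by
    rw [← AlgHom.range_eq_top, ← Algebra.adjoin_range_eq_range_aeval, eq_top_iff, ← hgen]
    apply Algebra.adjoin_le
    have hmem : ∀ {n : ℕ} [Module.Finite k (ℛ n)] (b : Module.Basis (Fin (Module.finrank k (ℛ n))) k (ℛ n)),
        (∀ i, (b i : R) ∈ Algebra.adjoin k (Set.range gen)) →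
        ∀ x ∈ ℛ n, x ∈ Algebra.adjoin k (Set.range gen) := by
      intro n _ b hb x hx
      have h1 := b.sum_repr ⟨x, hx⟩
      have h2 : x = ∑ i, (b.repr ⟨x, hx⟩ i) • (b i : R) := by
        have h3 := congrArg (Subtype.val) h1
        rw [Submodule.coe_sum] at h3
        simp only [Submodule.coe_smul] at h3
        exact h3.symm
      rw [h2]
      exact Subalgebra.sum_mem _ fun i _ => Subalgebra.smul_mem _ (hb i) _
    rintro x ((hx | hx) | hx)
    · exact hmem b₁ (fun i => Algebra.subset_adjoin ⟨Sum.inl (Sum.inl i), rfl⟩) x hx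
    · exact hmem b₂ (fun i => Algebra.subset_adjoin ⟨Sum.inl (Sum.inr i), rfl⟩) x hx
    · exact hmem b₃ (fun i => Algebra.subset_adjoin ⟨Sum.inr i, rfl⟩) x hx
  apply le_antisymm _ (pow_le k R ℛ (6 * e) m hm)
  induction m, hm using Nat.le_induction with
  | base =>
    change ℛ (1 * (6 * e)) ≤ ℛ (6 * e) ^ 1
    rw [pow_one, one_mul]
  | succ m hm1 ih =>
    refine (le_span ℛ gen w hgenw hsurj _).trans ?_
    rw [Submodule.span_le]
    rintro _ ⟨s, hs, rfl⟩
    obtain ⟨s₁, hs₁, hws₁⟩ := exists_sub w c hwc s e (m + 1) (by omega) hbound hs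
    have hsplit : s = s₁ + (s - s₁) := (add_tsub_cancel_of_le hs₁).symm
    have hw2 : Finsupp.weight w (s - s₁) = m * (6 * e) := by
      have h1 : Finsupp.weight w s = Finsupp.weight w s₁ + Finsupp.weight w (s - s₁) := by
        conv_lhs => rw [hsplit]
        rw [map_add]
      rw [hs, hws₁] at h1
      have : (m + 1) * (6 * e) = 6 * e + m * (6 * e) := by ring
      omega
    have hmono : MvPolynomial.aeval gen (MvPolynomial.monomial s (1 : k)) =
        MvPolynomial.aeval gen (MvPolynomial.monomial s₁ (1 : k)) *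
          MvPolynomial.aeval gen (MvPolynomial.monomial (s - s₁) (1 : k)) := by
      rw [← map_mul, MvPolynomial.monomial_mul, one_mul, ← hsplit]
    rw [SetLike.mem_coe, hmono, pow_succ']
    apply Submodule.mul_mem_mul
    · exact hws₁ ▸ mono_mem ℛ gen w hgenw s₁
    · exact ih (hw2 ▸ mono_mem ℛ gen w hgenw (s - s₁))

end main


end


/-- Let k be a field and R a commutative ℕ-graded k-algebra with R_0 = k · 1 which is generated as a
k-algebra by R_1, R_2 and R_3, each a finite-dimensional k-vector space, of dimensions d_1, d_2,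
d_3. Then for every natural number e ≥ 5 d_1 + 4 d_2 + 3 d_3 the (6e)-th Veronese subring of R is
generated in degree one over k: R_{6em} = (R_{6e})^m for every m > 0. -/
theorem result
    (k : Type u) [Field k] (R : Type u) [CommRing R] [Algebra k R]
    (ℛ : ℕ → Submodule k R) [GradedAlgebra ℛ]
    (h0 : ℛ 0 = 1)
    (hgen : Algebra.adjoin k ((ℛ 1 : Set R) ∪ (ℛ 2 : Set R) ∪ (ℛ 3 : Set R)) = ⊤)
    [Module.Finite k (ℛ 1)] [Module.Finite k (ℛ 2)] [Module.Finite k (ℛ 3)]
    (e : ℕ) (he : 5 * Module.finrank k (ℛ 1) + 4 * Module.finrank k (ℛ 2) + 3 * Module.finrank k (ℛ 3) ≤ e)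
    (m : ℕ) (hm : 0 < m) :
    ℛ (m * (6 * e)) = ℛ (6 * e) ^ m := by
  classical
  exact main k R ℛ h0 hgen e he m hm

end Groth.Agent.S14053
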