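import Groth.Statements.S14066
import Mathlib
import Groth.Agent.Lib.Lead.ProjCI
import Groth.Agent.Lib.Helper1.CoprodCI

set_option autoImplicit false
universe u
open CategoryTheory CategoryTheory.Limits AlgebraicGeometry TopologicalSpace
open Variety

namespace Groth.Agent.S14066

/-- Let k be a field, and let X₁ and X₂ be k-schemes with closed immersions i₁ : X₁ → P^n_k and i₂ : X₂
→ P^m_k over k. Then there is a closed immersion of the disjoint union X₁ ⨿ X₂ into P^{n+m+1}_k over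
k, that is, compatible with the structure morphism of the coproduct induced by those of X₁ and X₂.
(Stated as the step of the published proof showing that a disjoint union of two projective k-schemes
is projective.) -/
theorem result (k : Type u) [Field k] (n m : ℕ)
    (X₁ X₂ : Scheme.{u}) [X₁.Over (Spec (CommRingCat.of k))] [X₂.Over (Spec (CommRingCat.of k))]
    (i₁ : X₁ ⟶ CohB1.ProjSpace n k) [IsClosedImmersion i₁] (h₁ : i₁ ≫ CohB1.ProjSpace.toSpec n k = X₁ ↘ (Spec (CommRingCat.of k)))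
    (i₂ : X₂ ⟶ CohB1.ProjSpace m k) [IsClosedImmersion i₂] (h₂ : i₂ ≫ CohB1.ProjSpace.toSpec m k = X₂ ↘ (Spec (CommRingCat.of k))) :
    ∃ j : X₁ ⨿ X₂ ⟶ CohB1.ProjSpace (n + m + 1) k, IsClosedImmersion j ∧
      j ≫ CohB1.ProjSpace.toSpec (n + m + 1) k = coprod.desc (X₁ ↘ (Spec (CommRingCat.of k))) (X₂ ↘ (Spec (CommRingCat.of k))) := by
  classical
  haveI : IsClosedImmersion (i₁ ≫ Groth.Agent.Lead.ProjCI.ι₁ k n m) := inferInstance
  haveI : IsClosedImmersion (i₂ ≫ Groth.Agent.Lead.ProjCI.ι₂ k n m) := inferInstance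
  refine ⟨coprod.desc (i₁ ≫ Groth.Agent.Lead.ProjCI.ι₁ k n m) (i₂ ≫ Groth.Agent.Lead.ProjCI.ι₂ k n m), ?_, ?_⟩
  · apply Groth.Agent.Helper1.CoprodCI.isClosedImmersion_desc
    intro x x'
    rw [Scheme.Hom.comp_base, Scheme.Hom.comp_base]
    exact Groth.Agent.Lead.ProjCI.ι₁_ne_ι₂ k n m (i₁.base x) (i₂.base x')
  · apply coprod.hom_ext
    · rw [coprod.inl_desc_assoc, coprod.inl_desc, Category.assoc, Groth.Agent.Lead.ProjCI.ι₁_toSpec, h₁]
    · rw [coprod.inr_desc_assoc, coprod.inr_desc, Category.assoc, Groth.Agent.Lead.ProjCI.ι₂_toSpec, h₂]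

end Groth.Agent.S14066
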