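import Groth.Statements.S14080
import Mathlib

set_option autoImplicit false
universe u
open ArSing

namespace Groth.Agent.S14080

open PowerSeries in

theorem constCoeff_algHom_X {k : Type*} [Field k] (τ : PowerSeries k →ₐ[k] PowerSeries k) :
    constantCoeff (τ X) = 0 := by
  by_contra hc
  obtain ⟨c, hcdef⟩ : ∃ c, c = constantCoeff (τ X) := ⟨_, rfl⟩
  rw [← hcdef] at hc
  have hu : IsUnit (X - C c : PowerSeries k) := by
    rw [PowerSeries.isUnit_iff_constantCoeff]
    simp [hc]
  have hu' : IsUnit (τ (X - C c)) := hu.map τ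
  rw [PowerSeries.isUnit_iff_constantCoeff] at hu'
  have : τ (X - C c) = τ X - C c := by
    rw [map_sub]; congr 1; exact τ.commutes c
  rw [this, map_sub, constantCoeff_C, ← hcdef, sub_self] at hu'
  exact not_isUnit_zero hu'

open PowerSeries in
theorem algHom_ext_X {k : Type*} [Field k] (τ₁ τ₂ : PowerSeries k →ₐ[k] PowerSeries k)
    (h : τ₁ X = τ₂ X) : τ₁ = τ₂ := by
  have hg : constantCoeff (τ₁ X) = 0 := constCoeff_algHom_X τ₁
  have hXg : X ∣ τ₁ X := X_dvd_iff.mpr hg
  have hpoly : ∀ p : Polynomial k, τ₁ (p : PowerSeries k) = τ₂ p := by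
    intro p
    have : (τ₁.comp (Polynomial.coeToPowerSeries.algHom k)) =
        τ₂.comp (Polynomial.coeToPowerSeries.algHom k) := by
      apply Polynomial.algHom_ext
      simp [Polynomial.coeToPowerSeries.algHom_apply, h]
    have := AlgHom.congr_fun this p
    simpa [Polynomial.coeToPowerSeries.algHom_apply] using this
  apply AlgHom.ext
  intro f
  ext n
  have hdvd : X ^ (n+1) ∣ f - (trunc (n+1) f : PowerSeries k) := by
    rw [X_pow_dvd_iff]; intro m hm
    rw [map_sub, Polynomial.coeff_coe, coeff_trunc, if_pos hm, sub_self]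
  obtain ⟨q, hq⟩ := hdvd
  have hf : f = (trunc (n+1) f : PowerSeries k) + X^(n+1) * q := by rw [← hq]; ring
  have h1 : τ₁ f - τ₂ f = (τ₁ X)^(n+1) * (τ₁ q - τ₂ q) := by
    conv_lhs => rw [hf]
    simp only [map_add, map_mul, map_pow, hpoly, ← h]
    ring
  have h2 : X^(n+1) ∣ τ₁ f - τ₂ f := by
    rw [h1]; exact Dvd.dvd.mul_right (pow_dvd_pow_of_dvd hXg _) _
  rw [X_pow_dvd_iff] at h2
  have := h2 n (Nat.lt_succ_self n)
  rwa [map_sub, sub_eq_zero] at this


/-- Let k be a field in which 2 is invertible and σ an involutive k-algebra automorphism of the power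
series ring k[[t]], with ξ the coefficient of t in σ(t). Then ξ^2 = 1, the k-algebra endomorphism φ
with φ(t) = (t + ξ σ(t))/2 is an automorphism, and φ⁻¹ σ φ is the automorphism t ↦ ξ t. (The
published statement is over an algebraically closed field of characteristic prime to 2; only the
invertibility of 2 is used, so any field with 2 ≠ 0 is allowed here.) -/
theorem result (k : Type u) [Field k] (h2 : (2 : k) ≠ 0)
    (σ : PowerSeries k ≃ₐ[k] PowerSeries k) (hσ : ∀ f, σ (σ f) = f) :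
    (PowerSeries.coeff 1 (σ PowerSeries.X)) ^ 2 = 1 ∧
    ∃ φ : PowerSeries k ≃ₐ[k] PowerSeries k,
      φ PowerSeries.X = PowerSeries.C (2⁻¹ : k) *
        (PowerSeries.X + PowerSeries.C (PowerSeries.coeff 1 (σ PowerSeries.X)) * σ PowerSeries.X) ∧
      ∀ f, φ.symm (σ (φ f)) = PowerSeries.rescale (PowerSeries.coeff 1 (σ PowerSeries.X)) f := by
  classical
open PowerSeries in
  obtain ⟨s, hs⟩ : ∃ s, s = σ X := ⟨_, rfl⟩
  obtain ⟨ξ, hξ⟩ : ∃ ξ, ξ = coeff 1 s := ⟨_, rfl⟩
  rw [← hs, ← hξ]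
  have hs0 : constantCoeff s = 0 := by
    rw [hs]; exact constCoeff_algHom_X (σ : PowerSeries k →ₐ[k] PowerSeries k)
  have hσC : ∀ c : k, σ (C c) = C c := fun c => σ.commutes c
  have hξ2 : ξ^2 = 1 := by
    have hdvd : X^2 ∣ s - C ξ * X := by
      rw [X_pow_dvd_iff]; intro m hm
      interval_cases m
      · simp [hs0]
      · simp [hξ]
    obtain ⟨q, hq⟩ := hdvd
    have hseq : s = C ξ * X + X^2 * q := by rw [← hq]; ring
    have hσs : σ s = X := by rw [hs]; exact hσ X
    have h3 : σ s = C ξ * s + s^2 * σ q := by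
      conv_lhs => rw [hseq]
      simp only [map_add, map_mul, map_pow, ← hs, hσC]
    have hXs : X ∣ s := X_dvd_iff.mpr hs0
    have h4 : X^2 ∣ s^2 * σ q := Dvd.dvd.mul_right (pow_dvd_pow_of_dvd hXs 2) _
    have hc : coeff 1 (s^2 * σ q) = 0 := (X_pow_dvd_iff.mp h4) 1 (by norm_num)
    have h5 := congrArg (coeff 1) h3
    rw [hσs, map_add, hc, add_zero, coeff_C_mul, coeff_one_X, ← hξ] at h5
    rw [sq]; exact h5.symm
  refine ⟨hξ2, ?_⟩
  obtain ⟨u, hu⟩ : ∃ u, u = C (2⁻¹ : k) * (X + C ξ * s) := ⟨_, rfl⟩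
  have hu0 : constantCoeff u = 0 := by
    rw [hu]; simp [hs0]
  have hu1 : coeff 1 u = 1 := by
    rw [hu, coeff_C_mul, map_add, coeff_one_X, coeff_C_mul, ← hξ, ← sq, hξ2]
    rw [← two_mul, mul_one, inv_mul_cancel₀ h2]
  have hu1' : IsUnit (coeff 1 u) := by rw [hu1]; exact isUnit_one
  have hsu : HasSubst u := HasSubst.of_constantCoeff_zero' hu0
  obtain ⟨v, hv⟩ : ∃ v, v = u.substInvOfIsUnit hu1' := ⟨_, rfl⟩
  have hsv : HasSubst v := by rw [hv]; exact HasSubst.substInvOfIsUnit u hu1'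
  have huv : u.subst v = X := by rw [hv]; exact subst_substInvOfIsUnit_right u hu0 hu1'
  have hvu : v.subst u = X := by rw [hv]; exact subst_substInvOfIsUnit_left u hu0 hu1'
  let φ₀ : PowerSeries k →ₐ[k] PowerSeries k := substAlgHom hsu
  let ψ₀ : PowerSeries k →ₐ[k] PowerSeries k := substAlgHom hsv
  have hφX : φ₀ X = u := by simp [φ₀, coe_substAlgHom, subst_X hsu]
  have hψX : ψ₀ X = v := by simp [ψ₀, coe_substAlgHom, subst_X hsv]
  have h12 : φ₀.comp ψ₀ = AlgHom.id k _ := by
    apply algHom_ext_X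
    rw [AlgHom.comp_apply, hψX]
    simp only [φ₀, coe_substAlgHom, AlgHom.id_apply]
    exact hvu
  have h21 : ψ₀.comp φ₀ = AlgHom.id k _ := by
    apply algHom_ext_X
    rw [AlgHom.comp_apply, hφX]
    simp only [ψ₀, coe_substAlgHom, AlgHom.id_apply]
    exact huv
  let φ : PowerSeries k ≃ₐ[k] PowerSeries k := AlgEquiv.ofAlgHom φ₀ ψ₀ h12 h21
  refine ⟨φ, ?_, ?_⟩
  · change φ₀ X = _
    rw [hφX, hu]
  · intro f
    rw [AlgEquiv.symm_apply_eq]
    have key : ((σ : PowerSeries k →ₐ[k] PowerSeries k).comp φ₀) =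
        φ₀.comp (rescaleAlgHom ξ) := by
      apply algHom_ext_X
      rw [AlgHom.comp_apply, AlgHom.comp_apply, hφX]
      have : (rescaleAlgHom ξ) (X : PowerSeries k) = C ξ * X := by
        have := congrArg (fun g => g (X : PowerSeries k)) (coe_rescaleAlgHom ξ)
        simp only [rescale_X] at this
        exact this
      rw [this, map_mul, hφX]
      have hφC : φ₀ (C ξ) = C ξ := φ₀.commutes ξ
      rw [hφC, hu]
      simp only [AlgEquiv.coe_toAlgHom, map_mul, map_add, hσC, ← hs]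
      rw [show σ s = X from by rw [hs]; exact hσ X]
      have : C ξ * C ξ = (1 : PowerSeries k) := by rw [← map_mul, ← sq, hξ2, map_one]
      linear_combination (-(C (2⁻¹ : k) * s)) * this
    have := AlgHom.congr_fun key f
    simp only [AlgHom.comp_apply, AlgEquiv.coe_toAlgHom] at this
    rw [show φ f = φ₀ f from rfl, this]
    have h6 : (rescaleAlgHom ξ) f = rescale ξ f := by
      have := congrArg (fun g => g f) (coe_rescaleAlgHom ξ)
      exact this
    rw [h6]; rfl

end Groth.Agent.S14080
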