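import Groth.Statements.S14081
import Mathlib
import Groth.Prelude.Def_W4c1arstab1appArSing
import Groth.Agent.Lib.Helper9.ArNF
import Groth.Agent.Lib.Helper9.ArNF2
import Groth.Agent.Lib.Helper9.PSAut
import Groth.Agent.Lib.Helper9.ArBranch
import Groth.Agent.Lib.Helper9.ArCusp
-- import your own Groth.Agent.* helpers here

set_option autoImplicit false
universe u
open ArSing

namespace Groth.Agent.S14081

open ArSing
open Groth.Agent.Lib.Helper9.ArNF Groth.Agent.Lib.Helper9.ArNF2 Groth.Agent.Lib.Helper9.PSAut Groth.Agent.Lib.Helper9.ArCusp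
namespace Aux

theorem main (k : Type u) [Field k] (r : ℕ)
    (h2 : (2 : k) ≠ 0) (hev : Even r)
    (σ : ArSing.ring k r ≃ₐ[k] ArSing.ring k r) (hσ : ∀ a, σ (σ a) = a) (hne : σ ≠ AlgEquiv.refl) :
    ∃ φ : ArSing.ring k r ≃ₐ[k] ArSing.ring k r,
      φ.symm (σ (φ (ArSing.x k r))) = ArSing.x k r ∧
      φ.symm (σ (φ (ArSing.y k r))) = -ArSing.y k r := by
  obtain ⟨τ', x', y', hτ, hx, hy, hσx, hσy⟩ := exists_eigen_coords k hev h2 σ hσ hne
  have hinj := nu_injective k hev
  have hrel : y' ^ 2 = x' ^ (r + 1) := by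
    apply hinj
    rw [map_pow, map_pow, hx, hy, ← pow_mul, ← pow_mul, mul_comm]
  have hcτ : PowerSeries.constantCoeff τ' = 0 := hτ.1
  have hex : eps k r x' = 0 := by
    rw [← constantCoeff_nu, hx, map_pow, hcτ]; simp
  have hey : eps k r y' = 0 := by
    rw [← constantCoeff_nu, hy, map_pow, hcτ]; simp
  obtain ⟨φ₀, hφx, hφy⟩ := Groth.Agent.Lib.Helper9.ArBranch.exists_algHom k r x' y' hrel hex hey
  have hb : Function.Bijective φ₀ :=
    bijective_of_nu k hev φ₀ τ' hτ (by rw [hφx, hx]) (by rw [hφy, hy])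
  refine ⟨AlgEquiv.ofBijective φ₀ hb, ?_, ?_⟩
  · rw [AlgEquiv.symm_apply_eq, AlgEquiv.coe_ofBijective, hφx, hσx]
  · rw [AlgEquiv.symm_apply_eq, map_neg, AlgEquiv.coe_ofBijective, hφy, hσy]

end Aux

/-- Over an algebraically closed field k of characteristic prime to 2 and to r+1, with r even, every
non-trivial k-algebra involution σ of A_r = k[[x,y]]/(y^2 - x^(r+1)) is conjugate, by a k-algebra
automorphism φ of A_r, to the involution x ↦ x, y ↦ -y (that is, φ⁻¹σφ fixes the class of x and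
negates the class of y). -/
theorem result (k : Type u) [Field k] [IsAlgClosed k] (r : ℕ)
    (h2 : (2 : k) ≠ 0) (hr : ((r + 1 : ℕ) : k) ≠ 0) (hev : Even r)
    (σ : ArSing.ring k r ≃ₐ[k] ArSing.ring k r) (hσ : ∀ a, σ (σ a) = a) (hne : σ ≠ AlgEquiv.refl) :
    ∃ φ : ArSing.ring k r ≃ₐ[k] ArSing.ring k r,
      φ.symm (σ (φ (ArSing.x k r))) = ArSing.x k r ∧
      φ.symm (σ (φ (ArSing.y k r))) = -ArSing.y k r := by
  exact Aux.main k r h2 hev σ hσ hne

end Groth.Agent.S14081
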