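import Groth.Statements.S14082
import Mathlib
import Groth.Prelude.Def_W4c1arstab1appArSing
import Groth.Agent.Lib.Helper9.ArNF
import Groth.Agent.Lib.Helper9.ArNF2
import Groth.Agent.Lib.Helper9.PSAut
import Groth.Agent.Lib.Helper9.ArBranch
-- import your own Groth.Agent.* helpers here

set_option autoImplicit false
universe u
open ArSing

namespace Groth.Agent.S14082

open ArSing
open Groth.Agent.Lib.Helper9.ArNF Groth.Agent.Lib.Helper9.ArNF2 Groth.Agent.Lib.Helper9.PSAut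
open Groth.Agent.Lib.Helper9.ArBranch
namespace Aux

variable {k : Type u} [Field k] {r h : ℕ}

lemma C_mul_C_self {c : k} (hc : c * c = 1) :
    (PowerSeries.C c * PowerSeries.C c : PowerSeries k) = 1 := by
  rw [← map_mul, hc, map_one]

lemma C_two_inv_two (h2 : (2 : k) ≠ 0) :
    (PowerSeries.C (2 : k)⁻¹ * 2 : PowerSeries k) = 1 := by
  rw [show (2 : PowerSeries k) = PowerSeries.C (2 : k) from
    (map_ofNat (PowerSeries.C (R := k)) 2).symm, ← map_mul, inv_mul_cancel₀ h2, map_one]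

/-- the non-swapping case -/
theorem nonswap (hr : r + 1 = 2 * h) (hh : 2 ≤ h) (h2 : (2 : k) ≠ 0)
    (σ : ArSing.ring k r ≃ₐ[k] ArSing.ring k r) (hσ : ∀ a, σ (σ a) = a)
    (hne : σ ≠ AlgEquiv.refl)
    (hPP : ∀ z, nuP k hr z = 0 → nuP k hr (σ z) = 0)
    (hMM : ∀ z, nuM k hr z = 0 → nuM k hr (σ z) = 0) :
    ∃ φ : ArSing.ring k r ≃ₐ[k] ArSing.ring k r,
      σ (φ (ArSing.x k r)) = -φ (ArSing.x k r) ∧
      (Even h → σ (φ (ArSing.y k r)) = φ (ArSing.y k r)) ∧
      (Odd h → σ (φ (ArSing.y k r)) = -φ (ArSing.y k r)) := by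
  obtain ⟨α, β, hα, hβ, hαα, hββ, hα0, hβ0⟩ :=
    exists_branch_maps_nonswap k hr σ (by omega) hσ hPP hMM
  -- the linear coefficients agree
  have hdvd : PowerSeries.X ^ h ∣ α PowerSeries.X - β PowerSeries.X := by
    have := dvd_nuP_sub_nuM k hr (σ (ArSing.x k r))
    rwa [hα, hβ, nuP_x, nuM_x] at this
  have hab : PowerSeries.coeff 1 (α PowerSeries.X) = PowerSeries.coeff 1 (β PowerSeries.X) := by
    have := PowerSeries.X_pow_dvd_iff.mp hdvd 1 (by omega)
    rw [map_sub, sub_eq_zero] at this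
    exact this
  have ha := coeff_one_sq_of_involution α hαα hα0
  rcases mul_self_eq_one_iff.mp ha with ha1 | ha1
  · -- trivial involution
    exfalso
    have hb1 : PowerSeries.coeff 1 (β PowerSeries.X) = 1 := by rw [← hab, ha1]
    have eα := involution_eq_id h2 α hαα hα0 ha1
    have eβ := involution_eq_id h2 β hββ hβ0 hb1
    apply hne
    apply AlgEquiv.ext
    intro z
    apply joint_inj k hr h2
    · rw [hα, eα]; rfl
    · rw [hβ, eβ]; rfl
  · have hb1 : PowerSeries.coeff 1 (β PowerSeries.X) = -1 := by rw [← hab, ha1]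
    obtain ⟨hO1, -, hτ1⟩ := exists_anti_invariant h2 α hαα hα0 ha1
    obtain ⟨hO2, -, hτ2⟩ := exists_anti_invariant h2 β hββ hβ0 hb1
    set τ₁ := PowerSeries.C (2 : k)⁻¹ * (PowerSeries.X - α PowerSeries.X) with hτ₁
    set τ₂ := PowerSeries.C (2 : k)⁻¹ * (PowerSeries.X - β PowerSeries.X) with hτ₂
    have hd : PowerSeries.X ^ h ∣ τ₁ - τ₂ := by
      have e : τ₁ - τ₂ = -PowerSeries.C (2 : k)⁻¹ * (α PowerSeries.X - β PowerSeries.X) := by
        rw [hτ₁, hτ₂]; ring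
      rw [e]
      exact Dvd.dvd.mul_left hdvd _
    obtain ⟨φ, hxP, hxM, hyP, hyM⟩ := exists_coords k hr h2 (by omega) τ₁ τ₂ hO1 hO2 hd
    refine ⟨φ, ?_, ?_, ?_⟩
    · apply joint_inj k hr h2
      · rw [hα, hxP, hτ1, map_neg, hxP]
      · rw [hβ, hxM, hτ2, map_neg, hxM]
    · intro hev
      apply joint_inj k hr h2
      · rw [hα, hyP, map_pow, hτ1, hev.neg_pow]
      · rw [hβ, hyM, map_neg, map_pow, hτ2, hev.neg_pow]
    · intro hod
      apply joint_inj k hr h2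
      · rw [hα, hyP, map_pow, hτ1, hod.neg_pow, map_neg, hyP]
      · rw [hβ, hyM, map_neg, map_pow, hτ2, hod.neg_pow, map_neg, hyM]

/-- the swapping case -/
theorem swap (hr : r + 1 = 2 * h) (hh : 2 ≤ h) (h2 : (2 : k) ≠ 0)
    (σ : ArSing.ring k r ≃ₐ[k] ArSing.ring k r) (hσ : ∀ a, σ (σ a) = a)
    (hPM : ∀ z, nuP k hr z = 0 → nuM k hr (σ z) = 0)
    (hMP : ∀ z, nuM k hr z = 0 → nuP k hr (σ z) = 0) :
    ∃ (φ : ArSing.ring k r ≃ₐ[k] ArSing.ring k r),
      (σ (φ (ArSing.x k r)) = φ (ArSing.x k r) ∧ σ (φ (ArSing.y k r)) = -φ (ArSing.y k r)) ∨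
      (σ (φ (ArSing.x k r)) = -φ (ArSing.x k r) ∧
        (Even h → σ (φ (ArSing.y k r)) = -φ (ArSing.y k r)) ∧
        (Odd h → σ (φ (ArSing.y k r)) = φ (ArSing.y k r))) := by
  obtain ⟨α, β, hα, hβ, hβα, hαβ, hα0, hβ0⟩ :=
    exists_branch_maps_swap k hr σ (by omega) hσ hPM hMP
  have hdvd : PowerSeries.X ^ h ∣ β PowerSeries.X - α PowerSeries.X := by
    have := dvd_nuP_sub_nuM k hr (σ (ArSing.x k r))
    rwa [hα, hβ, nuP_x, nuM_x] at this
  have hab : PowerSeries.coeff 1 (β PowerSeries.X) = PowerSeries.coeff 1 (α PowerSeries.X) := by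
    have := PowerSeries.X_pow_dvd_iff.mp hdvd 1 (by omega)
    rw [map_sub, sub_eq_zero] at this
    exact this
  set c := PowerSeries.coeff 1 (α PowerSeries.X) with hc
  have hcc : c * c = 1 := by
    have h1 := coeff_one_algHom β hβ0 (α PowerSeries.X)
    rw [hβα, PowerSeries.coeff_one_X, hab] at h1
    exact h1.symm
  have hCC := C_mul_C_self hcc
  have h211 : (2 : k)⁻¹ * (1 + 1) = 1 := by
    rw [← two_mul, mul_one]
    exact inv_mul_cancel₀ h2
  set τ₁ := PowerSeries.C (2 : k)⁻¹ * (PowerSeries.X + PowerSeries.C c * β PowerSeries.X) with hτ₁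
  set τ₂ := PowerSeries.C (2 : k)⁻¹ * (PowerSeries.X + PowerSeries.C c * α PowerSeries.X) with hτ₂
  have hO1 : Ord1 τ₁ := by
    constructor
    · rw [hτ₁, map_mul, map_add, map_mul, hβ0, mul_zero, PowerSeries.constantCoeff_X, add_zero,
        mul_zero]
    · rw [hτ₁, PowerSeries.coeff_C_mul, map_add, PowerSeries.coeff_C_mul, hab, hcc,
        PowerSeries.coeff_one_X, h211]
      exact one_ne_zero
  have hO2 : Ord1 τ₂ := by
    constructor
    · rw [hτ₂, map_mul, map_add, map_mul, hα0, mul_zero, PowerSeries.constantCoeff_X, add_zero,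
        mul_zero]
    · rw [hτ₂, PowerSeries.coeff_C_mul, map_add, PowerSeries.coeff_C_mul, hcc,
        PowerSeries.coeff_one_X, h211]
      exact one_ne_zero
  have hd : PowerSeries.X ^ h ∣ τ₁ - τ₂ := by
    have e : τ₁ - τ₂ = PowerSeries.C (2 : k)⁻¹ * PowerSeries.C c *
        (β PowerSeries.X - α PowerSeries.X) := by
      rw [hτ₁, hτ₂]; ring
    rw [e]
    exact Dvd.dvd.mul_left hdvd _
  have hCalg : ∀ d : k, α (PowerSeries.C d) = PowerSeries.C d := fun d => α.commutes d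
  have hCalg' : ∀ d : k, β (PowerSeries.C d) = PowerSeries.C d := fun d => β.commutes d
  have hβτ : β τ₂ = PowerSeries.C c * τ₁ := by
    rw [hτ₂, hτ₁, map_mul, map_add, map_mul, hβα, hCalg', hCalg']
    linear_combination (-(PowerSeries.C (2 : k)⁻¹ * β PowerSeries.X)) * hCC
  have hατ : α τ₁ = PowerSeries.C c * τ₂ := by
    rw [hτ₂, hτ₁, map_mul, map_add, map_mul, hαβ, hCalg, hCalg]
    linear_combination (-(PowerSeries.C (2 : k)⁻¹ * α PowerSeries.X)) * hCC
  obtain ⟨φ, hxP, hxM, hyP, hyM⟩ := exists_coords k hr h2 (by omega) τ₁ τ₂ hO1 hO2 hd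
  rcases mul_self_eq_one_iff.mp hcc with hc1 | hc1
  · refine ⟨φ, Or.inl ⟨?_, ?_⟩⟩
    · apply joint_inj k hr h2
      · rw [hβ, hxM, hβτ, hc1, map_one, one_mul, hxP]
      · rw [hα, hxP, hατ, hc1, map_one, one_mul, hxM]
    · apply joint_inj k hr h2
      · rw [hβ, hyM, map_neg, map_pow, hβτ, hc1, map_one, one_mul, map_neg, hyP]
      · rw [hα, hyP, map_pow, hατ, hc1, map_one, one_mul, map_neg, hyM, neg_neg]
  · have hCm : (PowerSeries.C c : PowerSeries k) = -1 := by rw [hc1, map_neg, map_one]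
    refine ⟨φ, Or.inr ⟨?_, ?_, ?_⟩⟩
    · apply joint_inj k hr h2
      · rw [hβ, hxM, hβτ, hCm, neg_one_mul, map_neg, hxP]
      · rw [hα, hxP, hατ, hCm, neg_one_mul, map_neg, hxM]
    · intro hev
      apply joint_inj k hr h2
      · rw [hβ, hyM, map_neg, map_pow, hβτ, hCm, neg_one_mul, hev.neg_pow, map_neg, hyP]
      · rw [hα, hyP, map_pow, hατ, hCm, neg_one_mul, hev.neg_pow, map_neg, hyM, neg_neg]
    · intro hod
      apply joint_inj k hr h2
      · rw [hβ, hyM, map_neg, map_pow, hβτ, hCm, neg_one_mul, hod.neg_pow, neg_neg, hyP]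
      · rw [hα, hyP, map_pow, hατ, hCm, neg_one_mul, hod.neg_pow, hyM]

theorem main (k : Type u) [Field k] (r : ℕ)
    (h2 : (2 : k) ≠ 0) (hodd : Odd r) (h3 : 3 ≤ r)
    (σ : ArSing.ring k r ≃ₐ[k] ArSing.ring k r) (hσ : ∀ a, σ (σ a) = a) (hne : σ ≠ AlgEquiv.refl) :
    ∃ φ : ArSing.ring k r ≃ₐ[k] ArSing.ring k r,
      (φ.symm (σ (φ (ArSing.x k r))) = ArSing.x k r ∧ φ.symm (σ (φ (ArSing.y k r))) = -ArSing.y k r) ∨
      (φ.symm (σ (φ (ArSing.x k r))) = -ArSing.x k r ∧ φ.symm (σ (φ (ArSing.y k r))) = ArSing.y k r) ∨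
      (φ.symm (σ (φ (ArSing.x k r))) = -ArSing.x k r ∧ φ.symm (σ (φ (ArSing.y k r))) = -ArSing.y k r) := by
  obtain ⟨j, hj⟩ := hodd
  have hr : r + 1 = 2 * (j + 1) := by omega
  have hh : 2 ≤ j + 1 := by omega
  rcases perm_cases k hr h2 σ with ⟨hPP, hMM⟩ | ⟨hPM, hMP⟩
  · obtain ⟨φ, hx, hyE, hyO⟩ := nonswap hr hh h2 σ hσ hne hPP hMM
    refine ⟨φ, ?_⟩
    rcases Nat.even_or_odd (j + 1) with hev | hod
    · right; left
      constructor
      · rw [AlgEquiv.symm_apply_eq, map_neg]; exact hx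
      · rw [AlgEquiv.symm_apply_eq]; exact hyE hev
    · right; right
      constructor
      · rw [AlgEquiv.symm_apply_eq, map_neg]; exact hx
      · rw [AlgEquiv.symm_apply_eq, map_neg]; exact hyO hod
  · obtain ⟨φ, ⟨hx, hy⟩ | ⟨hx, hyE, hyO⟩⟩ := swap hr hh h2 σ hσ hPM hMP
    · refine ⟨φ, Or.inl ⟨?_, ?_⟩⟩
      · rw [AlgEquiv.symm_apply_eq]; exact hx
      · rw [AlgEquiv.symm_apply_eq, map_neg]; exact hy
    · refine ⟨φ, ?_⟩
      rcases Nat.even_or_odd (j + 1) with hev | hod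
      · right; right
        constructor
        · rw [AlgEquiv.symm_apply_eq, map_neg]; exact hx
        · rw [AlgEquiv.symm_apply_eq, map_neg]; exact hyE hev
      · right; left
        constructor
        · rw [AlgEquiv.symm_apply_eq, map_neg]; exact hx
        · rw [AlgEquiv.symm_apply_eq]; exact hyO hod

end Aux

/-- Over an algebraically closed field k of characteristic prime to 2 and to r+1, with r odd and r ≥ 3,
every non-trivial k-algebra involution σ of A_r = k[[x,y]]/(y^2 - x^(r+1)) is conjugate, by a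
k-algebra automorphism φ of A_r, to one of the three involutions (x, y) ↦ (x, -y), (x, y) ↦ (-x, y),
(x, y) ↦ (-x, -y). -/
theorem result (k : Type u) [Field k] [IsAlgClosed k] (r : ℕ)
    (h2 : (2 : k) ≠ 0) (hr : ((r + 1 : ℕ) : k) ≠ 0) (hodd : Odd r) (h3 : 3 ≤ r)
    (σ : ArSing.ring k r ≃ₐ[k] ArSing.ring k r) (hσ : ∀ a, σ (σ a) = a) (hne : σ ≠ AlgEquiv.refl) :
    ∃ φ : ArSing.ring k r ≃ₐ[k] ArSing.ring k r,
      (φ.symm (σ (φ (ArSing.x k r))) = ArSing.x k r ∧ φ.symm (σ (φ (ArSing.y k r))) = -ArSing.y k r) ∨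
      (φ.symm (σ (φ (ArSing.x k r))) = -ArSing.x k r ∧ φ.symm (σ (φ (ArSing.y k r))) = ArSing.y k r) ∨
      (φ.symm (σ (φ (ArSing.x k r))) = -ArSing.x k r ∧ φ.symm (σ (φ (ArSing.y k r))) = -ArSing.y k r) := by
  exact Aux.main k r h2 hodd h3 σ hσ hne

end Groth.Agent.S14082
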