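import Groth.Statements.S14083
import Mathlib
import Groth.Prelude.Def_W4c1arstab1appArSing
import Groth.Agent.Lib.Helper9.ArNF
import Groth.Agent.Lib.Helper9.ArNF2
import Groth.Agent.Lib.Helper9.PSAut
import Groth.Agent.Lib.Helper9.ArBranch
-- import your own Groth.Agent.* helpers here

set_option autoImplicit false
universe u
open ArSing

namespace Groth.Agent.S14083

open ArSing
open Groth.Agent.Lib.Helper9.ArNF Groth.Agent.Lib.Helper9.ArNF2 Groth.Agent.Lib.Helper9.PSAut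
open Groth.Agent.Lib.Helper9.ArBranch
namespace Aux

variable {k : Type u} [Field k]

lemma hr1 : 1 + 1 = 2 * 1 := rfl

lemma ord1_X : Ord1 (PowerSeries.X : PowerSeries k) :=
  ⟨PowerSeries.constantCoeff_X, by rw [PowerSeries.coeff_one_X]; exact one_ne_zero⟩

lemma X_dvd_sub {a b : PowerSeries k} (ha : PowerSeries.constantCoeff a = 0)
    (hb : PowerSeries.constantCoeff b = 0) : PowerSeries.X ^ 1 ∣ a - b := by
  rw [pow_one, PowerSeries.X_dvd_iff, map_sub, ha, hb, sub_self]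

/-- the automorphism `x ↦ x, y ↦ -y` -/
lemma exists_negY (h2 : (2 : k) ≠ 0) : ∃ ψ : ArSing.ring k 1 ≃ₐ[k] ArSing.ring k 1,
    ψ (ArSing.x k 1) = ArSing.x k 1 ∧ ψ (ArSing.y k 1) = -ArSing.y k 1 := by
  obtain ⟨ψ, hx, hy⟩ := exists_algHom k 1 (ArSing.x k 1) (-ArSing.y k 1)
    (by have := y_sq k 1; linear_combination this) (eps_x k 1) (by rw [map_neg, eps_y, neg_zero])
  have hinv : ψ.comp ψ = AlgHom.id k _ := by
    apply algHom_ext_xy k hr1 h2 le_rfl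
    · rw [AlgHom.comp_apply, hx, hx]; rfl
    · rw [AlgHom.comp_apply, hy, map_neg, hy, neg_neg]; rfl
    · rw [AlgHom.comp_apply, hx, hx, eps_x]
  exact ⟨AlgEquiv.ofAlgHom ψ ψ hinv hinv, hx, hy⟩

/-- the non-swapping case -/
theorem nonswap (h2 : (2 : k) ≠ 0)
    (σ : ArSing.ring k 1 ≃ₐ[k] ArSing.ring k 1) (hσ : ∀ a, σ (σ a) = a)
    (hne : σ ≠ AlgEquiv.refl)
    (hPP : ∀ z, nuP k hr1 z = 0 → nuP k hr1 (σ z) = 0)
    (hMM : ∀ z, nuM k hr1 z = 0 → nuM k hr1 (σ z) = 0) :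
    ∃ φ : ArSing.ring k 1 ≃ₐ[k] ArSing.ring k 1,
      (σ (φ (ArSing.x k 1)) = -φ (ArSing.x k 1) ∧ σ (φ (ArSing.y k 1)) = -φ (ArSing.y k 1)) ∨
      (σ (φ (ArSing.x k 1)) = φ (ArSing.y k 1) ∧ σ (φ (ArSing.y k 1)) = φ (ArSing.x k 1)) := by
  obtain ⟨α, β, hα, hβ, hαα, hββ, hα0, hβ0⟩ :=
    exists_branch_maps_nonswap k hr1 σ le_rfl hσ hPP hMM
  have ha := coeff_one_sq_of_involution α hαα hα0
  have hb := coeff_one_sq_of_involution β hββ hβ0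
  rcases mul_self_eq_one_iff.mp ha with ha1 | ha1 <;>
  rcases mul_self_eq_one_iff.mp hb with hb1 | hb1
  · -- trivial
    exfalso
    have eα := involution_eq_id h2 α hαα hα0 ha1
    have eβ := involution_eq_id h2 β hββ hβ0 hb1
    apply hne
    apply AlgEquiv.ext
    intro z
    apply joint_inj k hr1 h2
    · rw [hα, eα]; rfl
    · rw [hβ, eβ]; rfl
  · -- (id, -): swap of x and y
    have eα := involution_eq_id h2 α hαα hα0 ha1
    obtain ⟨hO2, -, hτ2⟩ := exists_anti_invariant h2 β hββ hβ0 hb1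
    set τ₂ := PowerSeries.C (2 : k)⁻¹ * (PowerSeries.X - β PowerSeries.X) with hτ₂
    obtain ⟨φ, hxP, hxM, hyP, hyM⟩ := exists_coords k hr1 h2 le_rfl PowerSeries.X τ₂ ord1_X hO2
      (X_dvd_sub PowerSeries.constantCoeff_X hO2.1)
    rw [pow_one] at hyP hyM
    refine ⟨φ, Or.inr ⟨?_, ?_⟩⟩
    · apply joint_inj k hr1 h2
      · rw [hα, hxP, eα, hyP]
      · rw [hβ, hxM, hτ2, hyM]
    · apply joint_inj k hr1 h2
      · rw [hα, hyP, eα, hxP]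
      · rw [hβ, hyM, map_neg, hτ2, neg_neg, hxM]
  · -- (-, id): conjugate by y ↦ -y
    have eβ := involution_eq_id h2 β hββ hβ0 hb1
    obtain ⟨hO1, -, hτ1⟩ := exists_anti_invariant h2 α hαα hα0 ha1
    set τ₁ := PowerSeries.C (2 : k)⁻¹ * (PowerSeries.X - α PowerSeries.X) with hτ₁
    obtain ⟨φ, hxP, hxM, hyP, hyM⟩ := exists_coords k hr1 h2 le_rfl τ₁ PowerSeries.X hO1 ord1_X
      (X_dvd_sub hO1.1 PowerSeries.constantCoeff_X)
    rw [pow_one] at hyP hyM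
    obtain ⟨ψ, hψx, hψy⟩ := exists_negY h2
    refine ⟨ψ.trans φ, Or.inr ⟨?_, ?_⟩⟩
    · rw [AlgEquiv.trans_apply, AlgEquiv.trans_apply, hψx, hψy, map_neg]
      apply joint_inj k hr1 h2
      · rw [hα, hxP, hτ1, map_neg, hyP]
      · rw [hβ, hxM, eβ, map_neg, hyM, neg_neg]
    · rw [AlgEquiv.trans_apply, AlgEquiv.trans_apply, hψx, hψy, map_neg, map_neg]
      apply joint_inj k hr1 h2
      · rw [map_neg, hα, hyP, hτ1, neg_neg, hxP]
      · rw [map_neg, hβ, hyM, eβ, neg_neg, hxM]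
  · -- (-, -)
    obtain ⟨hO1, -, hτ1⟩ := exists_anti_invariant h2 α hαα hα0 ha1
    obtain ⟨hO2, -, hτ2⟩ := exists_anti_invariant h2 β hββ hβ0 hb1
    set τ₁ := PowerSeries.C (2 : k)⁻¹ * (PowerSeries.X - α PowerSeries.X) with hτ₁
    set τ₂ := PowerSeries.C (2 : k)⁻¹ * (PowerSeries.X - β PowerSeries.X) with hτ₂
    obtain ⟨φ, hxP, hxM, hyP, hyM⟩ := exists_coords k hr1 h2 le_rfl τ₁ τ₂ hO1 hO2
      (X_dvd_sub hO1.1 hO2.1)
    rw [pow_one] at hyP hyM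
    refine ⟨φ, Or.inl ⟨?_, ?_⟩⟩
    · apply joint_inj k hr1 h2
      · rw [hα, hxP, hτ1, map_neg, hxP]
      · rw [hβ, hxM, hτ2, map_neg, hxM]
    · apply joint_inj k hr1 h2
      · rw [hα, hyP, hτ1, map_neg, hyP]
      · rw [hβ, hyM, map_neg, hτ2, map_neg, hyM]

/-- the swapping case -/
theorem swap (h2 : (2 : k) ≠ 0)
    (σ : ArSing.ring k 1 ≃ₐ[k] ArSing.ring k 1) (hσ : ∀ a, σ (σ a) = a)
    (hPM : ∀ z, nuP k hr1 z = 0 → nuM k hr1 (σ z) = 0)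
    (hMP : ∀ z, nuM k hr1 z = 0 → nuP k hr1 (σ z) = 0) :
    ∃ φ : ArSing.ring k 1 ≃ₐ[k] ArSing.ring k 1,
      σ (φ (ArSing.x k 1)) = φ (ArSing.x k 1) ∧ σ (φ (ArSing.y k 1)) = -φ (ArSing.y k 1) := by
  obtain ⟨α, β, hα, hβ, hβα, hαβ, hα0, hβ0⟩ :=
    exists_branch_maps_swap k hr1 σ le_rfl hσ hPM hMP
  have hc : PowerSeries.coeff 1 (α PowerSeries.X) ≠ 0 := by
    have h1 := coeff_one_algHom β hβ0 (α PowerSeries.X)
    rw [hβα, PowerSeries.coeff_one_X] at h1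
    intro h0
    rw [h0, zero_mul] at h1
    exact one_ne_zero h1
  have hO2 : Ord1 (α PowerSeries.X) := ⟨hα0, hc⟩
  obtain ⟨φ, hxP, hxM, hyP, hyM⟩ := exists_coords k hr1 h2 le_rfl PowerSeries.X
    (α PowerSeries.X) ord1_X hO2 (X_dvd_sub PowerSeries.constantCoeff_X hα0)
  rw [pow_one] at hyP hyM
  refine ⟨φ, ?_, ?_⟩
  · apply joint_inj k hr1 h2
    · rw [hβ, hxM, hβα, hxP]
    · rw [hα, hxP, hxM]
  · apply joint_inj k hr1 h2
    · rw [hβ, hyM, map_neg, hβα, map_neg, hyP]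
    · rw [hα, hyP, map_neg, hyM, neg_neg]

theorem main (k : Type u) [Field k]
    (h2 : (2 : k) ≠ 0)
    (σ : ArSing.ring k 1 ≃ₐ[k] ArSing.ring k 1) (hσ : ∀ a, σ (σ a) = a) (hne : σ ≠ AlgEquiv.refl) :
    ∃ φ : ArSing.ring k 1 ≃ₐ[k] ArSing.ring k 1,
      (φ.symm (σ (φ (ArSing.x k 1))) = ArSing.x k 1 ∧ φ.symm (σ (φ (ArSing.y k 1))) = -ArSing.y k 1) ∨
      (φ.symm (σ (φ (ArSing.x k 1))) = -ArSing.x k 1 ∧ φ.symm (σ (φ (ArSing.y k 1))) = -ArSing.y k 1) ∨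
      (φ.symm (σ (φ (ArSing.x k 1))) = ArSing.y k 1 ∧ φ.symm (σ (φ (ArSing.y k 1))) = ArSing.x k 1) := by
  rcases perm_cases k hr1 h2 σ with ⟨hPP, hMM⟩ | ⟨hPM, hMP⟩
  · obtain ⟨φ, ⟨hx, hy⟩ | ⟨hx, hy⟩⟩ := nonswap h2 σ hσ hne hPP hMM
    · refine ⟨φ, Or.inr (Or.inl ⟨?_, ?_⟩)⟩
      · rw [AlgEquiv.symm_apply_eq, map_neg]; exact hx
      · rw [AlgEquiv.symm_apply_eq, map_neg]; exact hy
    · refine ⟨φ, Or.inr (Or.inr ⟨?_, ?_⟩)⟩
      · rw [AlgEquiv.symm_apply_eq]; exact hx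
      · rw [AlgEquiv.symm_apply_eq]; exact hy
  · obtain ⟨φ, hx, hy⟩ := swap h2 σ hσ hPM hMP
    refine ⟨φ, Or.inl ⟨?_, ?_⟩⟩
    · rw [AlgEquiv.symm_apply_eq]; exact hx
    · rw [AlgEquiv.symm_apply_eq, map_neg]; exact hy

end Aux

/-- Over an algebraically closed field k of characteristic different from 2, every non-trivial k-algebra
involution σ of the node algebra A_1 = k[[x,y]]/(y^2 - x^2) is conjugate, by a k-algebra
automorphism φ of A_1, to one of the three involutions (x, y) ↦ (x, -y), (x, y) ↦ (-x, -y), (x, y) ↦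
(y, x). -/
theorem result (k : Type u) [Field k] [IsAlgClosed k]
    (h2 : (2 : k) ≠ 0)
    (σ : ArSing.ring k 1 ≃ₐ[k] ArSing.ring k 1) (hσ : ∀ a, σ (σ a) = a) (hne : σ ≠ AlgEquiv.refl) :
    ∃ φ : ArSing.ring k 1 ≃ₐ[k] ArSing.ring k 1,
      (φ.symm (σ (φ (ArSing.x k 1))) = ArSing.x k 1 ∧ φ.symm (σ (φ (ArSing.y k 1))) = -ArSing.y k 1) ∨
      (φ.symm (σ (φ (ArSing.x k 1))) = -ArSing.x k 1 ∧ φ.symm (σ (φ (ArSing.y k 1))) = -ArSing.y k 1) ∨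
      (φ.symm (σ (φ (ArSing.x k 1))) = ArSing.y k 1 ∧ φ.symm (σ (φ (ArSing.y k 1))) = ArSing.x k 1) := by
  exact Aux.main k h2 σ hσ hne

end Groth.Agent.S14083
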