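import Groth.Statements.S14085
import Mathlib

set_option autoImplicit false
universe u
open FlatMor

namespace Groth.Agent.S14085

section
open TensorProduct

theorem flat_prod (R M N : Type u) [CommRing R] [AddCommGroup M] [AddCommGroup N] [Module R M]
    [Module R N] [Module.Flat R M] [Module.Flat R N] : Module.Flat R (M × N) := by
  rw [Module.Flat.iff_rTensor_preserves_injective_linearMap]
  intro N₁ N₂ _ _ _ _ f hf
  let e₁ := TensorProduct.prodRight R R N₁ M N
  let e₂ := TensorProduct.prodRight R R N₂ M N
  have hcomm : e₂.toLinearMap ∘ₗ (f.rTensor (M × N)) =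
      (LinearMap.prodMap (f.rTensor M) (f.rTensor N)) ∘ₗ e₁.toLinearMap := by
    apply TensorProduct.ext'
    intro n p
    simp [e₁, e₂]
  have h1 : Function.Injective (LinearMap.prodMap (f.rTensor M) (f.rTensor N)) :=
    Function.Injective.prodMap (Module.Flat.rTensor_preserves_injective_linearMap f hf)
      (Module.Flat.rTensor_preserves_injective_linearMap f hf)
  intro x y hxy
  apply e₁.injective
  apply h1
  have hx := LinearMap.congr_fun hcomm x
  have hy := LinearMap.congr_fun hcomm y
  simp only [LinearMap.comp_apply, LinearEquiv.coe_coe] at hx hy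
  rw [← hx, ← hy, hxy]

theorem flat_ker {R N P : Type u} [CommRing R] [AddCommGroup N] [AddCommGroup P] [Module R N]
    [Module R P] [Module.Flat R N] [Module.Flat R P] (φ : N →ₗ[R] P)
    (hφ : Function.Surjective φ) : Module.Flat R (LinearMap.ker φ) := by
  rw [Module.Flat.iff_rTensor_preserves_injective_linearMap]
  intro N₁ N₂ _ _ _ _ f hf
  have hι₁ : Function.Injective ((LinearMap.ker φ).subtype.lTensor N₁) :=
    LinearMap.lTensor_injective_of_exact_of_flat φ hφ _ (Submodule.subtype_injective _)
      (LinearMap.exact_subtype_ker_map φ) N₁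
  have hN : Function.Injective (f.rTensor N) :=
    Module.Flat.rTensor_preserves_injective_linearMap f hf
  have hcomm : (LinearMap.ker φ).subtype.lTensor N₂ ∘ₗ f.rTensor (LinearMap.ker φ) =
      f.rTensor N ∘ₗ (LinearMap.ker φ).subtype.lTensor N₁ := by
    rw [LinearMap.lTensor_comp_rTensor, LinearMap.rTensor_comp_lTensor]
  intro x y hxy
  apply hι₁
  apply hN
  have hx := LinearMap.congr_fun hcomm x
  have hy := LinearMap.congr_fun hcomm y
  simp only [LinearMap.comp_apply] at hx hy
  rw [← hx, ← hy, hxy]

theorem main (R A B : Type u) [CommRing R] [CommRing A] [CommRing B]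
    [Algebra R A] [Algebra R B] [Module.Flat R A] [Module.Flat R B] (I : Ideal A)
    [Algebra B (A ⧸ I)] [IsScalarTower R B (A ⧸ I)] [Module.Flat B (A ⧸ I)] :
    Module.Flat R ↥(AlgHom.equalizer ((IsScalarTower.toAlgHom R B (A ⧸ I)).comp (AlgHom.fst R B A))
          ((Ideal.Quotient.mkₐ R I).comp (AlgHom.snd R B A))) := by
  have hBA : Module.Flat R (B × A) := flat_prod R B A
  have hQ : Module.Flat R (A ⧸ I) := Module.Flat.trans R B (A ⧸ I)
  let f := (IsScalarTower.toAlgHom R B (A ⧸ I)).comp (AlgHom.fst R B A)
  let g := (Ideal.Quotient.mkₐ R I).comp (AlgHom.snd R B A)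
  let φ : B × A →ₗ[R] A ⧸ I := f.toLinearMap - g.toLinearMap
  have hφ : Function.Surjective φ := by
    intro c
    obtain ⟨a, rfl⟩ := Ideal.Quotient.mk_surjective c
    refine ⟨(0, -a), ?_⟩
    simp [φ, f, g]
  have hK := flat_ker φ hφ
  have heq : Subalgebra.toSubmodule (AlgHom.equalizer f g) = LinearMap.ker φ := by
    ext x
    simp only [Subalgebra.mem_toSubmodule, AlgHom.mem_equalizer, LinearMap.mem_ker, φ,
      LinearMap.sub_apply, AlgHom.toLinearMap_apply, sub_eq_zero]
  exact Module.Flat.of_linearEquiv (LinearEquiv.ofEq _ _ heq)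


end


/-- Let R be a ring, A and B flat R-algebras, I an ideal of A and B → A/I an injective finite flat map
of R-algebras. Then the fibre product ring B ×_{A/I} A, realised as the subalgebra of B × A of pairs
with equal image in A/I, is flat over R. (This is the affine statement behind flatness over the base
of the pushout of a closed immersion along a finite flat morphism.) -/
theorem result (R A B : Type u) [CommRing R] [CommRing A] [CommRing B]
    [Algebra R A] [Algebra R B] [Module.Flat R A] [Module.Flat R B] (I : Ideal A)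
    [Algebra B (A ⧸ I)] [IsScalarTower R B (A ⧸ I)] [Module.Finite B (A ⧸ I)] [Module.Flat B (A ⧸ I)]
    (hinj : Function.Injective (algebraMap B (A ⧸ I))) :
    Module.Flat R ↥(AlgHom.equalizer ((IsScalarTower.toAlgHom R B (A ⧸ I)).comp (AlgHom.fst R B A))
          ((Ideal.Quotient.mkₐ R I).comp (AlgHom.snd R B A))) := by
  classical
  exact main R A B I

end Groth.Agent.S14085
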