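import Groth.Statements.S14086
import Mathlib

set_option autoImplicit false
universe u
open FlatMor

namespace Groth.Agent.S14086

section
open TensorProduct

/-- purity of a faithfully flat algebra map after an arbitrary base change -/
theorem pure_of_ff (R B C R' : Type u) [CommRing R] [CommRing B] [CommRing C] [CommRing R']
    [Algebra R B] [Algebra R R'] [Algebra B C] [Algebra R C] [IsScalarTower R B C]
    [Module.FaithfullyFlat B C] :
    Function.Injective ((IsScalarTower.toAlgHom R B C).toLinearMap.lTensor R') := by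
  rw [LinearMap.lTensor_inj_iff_rTensor_inj]
  have h1 := Module.FaithfullyFlat.tensorProduct_mk_injective (A := B) (B := C) (B ⊗[R] R')
  let e := TensorProduct.AlgebraTensorModule.cancelBaseChange R B B C R'
  have h2 : Function.Injective (e ∘ (TensorProduct.mk B C (B ⊗[R] R') 1)) :=
    e.injective.comp h1
  have h3 : ((IsScalarTower.toAlgHom R B C).toLinearMap.rTensor R' : B ⊗[R] R' → C ⊗[R] R') =
      e ∘ (TensorProduct.mk B C (B ⊗[R] R') 1) := by
    funext x
    induction x using TensorProduct.induction_on with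
    | zero => simp
    | tmul b r =>
      simp only [LinearMap.rTensor_tmul, AlgHom.toLinearMap_apply, IsScalarTower.coe_toAlgHom',
        Function.comp_apply, TensorProduct.mk_apply, e]
      rw [TensorProduct.AlgebraTensorModule.cancelBaseChange_tmul]
      rw [Algebra.smul_def, mul_one]
    | add x y hx hy =>
      simp only [map_add, Function.comp_apply] at hx hy ⊢
      rw [hx, hy]
  rw [h3]
  exact h2

theorem map_id_eq {R R' M N : Type u} [CommRing R] [CommRing R'] [Algebra R R'] [CommRing M]
    [CommRing N] [Algebra R M] [Algebra R N] (ψ : M →ₐ[R] N) (x : R' ⊗[R] M) :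
    Algebra.TensorProduct.map (AlgHom.id R' R') ψ x = ψ.toLinearMap.lTensor R' x := by
  induction x using TensorProduct.induction_on with
  | zero => simp
  | tmul r m => simp
  | add x y hx hy => rw [map_add, map_add, hx, hy]

theorem main (R A B R' : Type u) [CommRing R] [CommRing A]
    [CommRing B] [CommRing R'] [Algebra R A] [Algebra R B] [Algebra R R'] [Module.Flat R A] [Module.Flat R B]
    (I : Ideal A) [Algebra B (A ⧸ I)] [IsScalarTower R B (A ⧸ I)] [Module.Finite B (A ⧸ I)] [Module.Flat B (A ⧸ I)]
    (hinj : Function.Injective (algebraMap B (A ⧸ I))) :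
    Function.Injective (Algebra.TensorProduct.map (AlgHom.id R' R')
        ((AlgHom.snd R B A).comp (AlgHom.equalizer ((IsScalarTower.toAlgHom R B (A ⧸ I)).comp (AlgHom.fst R B A))
          ((Ideal.Quotient.mkₐ R I).comp (AlgHom.snd R B A))).val)) ∧
    ∀ (b : TensorProduct R R' B) (a : TensorProduct R R' A),
      Algebra.TensorProduct.map (AlgHom.id R' R') (IsScalarTower.toAlgHom R B (A ⧸ I)) b =
        Algebra.TensorProduct.map (AlgHom.id R' R') (Ideal.Quotient.mkₐ R I) a →
      ∃ x : TensorProduct R R' ↥(AlgHom.equalizer ((IsScalarTower.toAlgHom R B (A ⧸ I)).comp (AlgHom.fst R B A))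
          ((Ideal.Quotient.mkₐ R I).comp (AlgHom.snd R B A))),
        Algebra.TensorProduct.map (AlgHom.id R' R') ((AlgHom.fst R B A).comp (AlgHom.equalizer ((IsScalarTower.toAlgHom R B (A ⧸ I)).comp (AlgHom.fst R B A))
          ((Ideal.Quotient.mkₐ R I).comp (AlgHom.snd R B A))).val) x = b ∧
        Algebra.TensorProduct.map (AlgHom.id R' R') ((AlgHom.snd R B A).comp (AlgHom.equalizer ((IsScalarTower.toAlgHom R B (A ⧸ I)).comp (AlgHom.fst R B A))
          ((Ideal.Quotient.mkₐ R I).comp (AlgHom.snd R B A))).val) x = a := by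
  have hff : Module.FaithfullyFlat B (A ⧸ I) := by
    have : FaithfulSMul B (A ⧸ I) := (faithfulSMul_iff_algebraMap_injective _ _).mpr hinj
    have : Algebra.IsIntegral B (A ⧸ I) := Algebra.IsIntegral.of_finite _ _
    exact Module.FaithfullyFlat.of_comap_surjective (Algebra.IsIntegral.comap_surjective _ _)
  have hQ : Module.Flat R (A ⧸ I) := Module.Flat.trans R B (A ⧸ I)
  set pB := IsScalarTower.toAlgHom R B (A ⧸ I) with hpB
  set pA := Ideal.Quotient.mkₐ R I with hpA
  set E := AlgHom.equalizer (pB.comp (AlgHom.fst R B A)) (pA.comp (AlgHom.snd R B A)) with hE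
  let φ : B × A →ₗ[R] A ⧸ I :=
    (pB.comp (AlgHom.fst R B A)).toLinearMap - (pA.comp (AlgHom.snd R B A)).toLinearMap
  have hφ : Function.Surjective φ := by
    intro c
    obtain ⟨a, rfl⟩ := Ideal.Quotient.mk_surjective c
    refine ⟨(0, -a), ?_⟩
    simp [φ, pA, pB]
  have hex : Function.Exact E.val.toLinearMap φ := by
    intro y
    constructor
    · intro hy
      refine ⟨⟨y, ?_⟩, rfl⟩
      rw [hE, AlgHom.mem_equalizer]
      simpa [φ, sub_eq_zero] using hy
    · rintro ⟨x, rfl⟩
      have := (AlgHom.mem_equalizer _ _ _).1 x.2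
      simp only [φ, LinearMap.sub_apply, AlgHom.toLinearMap_apply, sub_eq_zero]
      exact this
  have hinjE : Function.Injective (E.val.toLinearMap.lTensor R') :=
    LinearMap.lTensor_injective_of_exact_of_flat φ hφ E.val.toLinearMap Subtype.val_injective hex R'
  have hex' : Function.Exact (E.val.toLinearMap.lTensor R') (φ.lTensor R') :=
    lTensor_exact R' hex hφ
  have hpure : Function.Injective (pB.toLinearMap.lTensor R') := pure_of_ff R B (A ⧸ I) R'
  -- decomposition of the identity on B × A
  have hdec : ∀ y : R' ⊗[R] (B × A),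
      y = (LinearMap.inl R B A).lTensor R' ((LinearMap.fst R B A).lTensor R' y) +
        (LinearMap.inr R B A).lTensor R' ((LinearMap.snd R B A).lTensor R' y) := by
    intro y
    rw [← LinearMap.comp_apply, ← LinearMap.comp_apply, ← LinearMap.lTensor_comp,
      ← LinearMap.lTensor_comp, ← LinearMap.add_apply, ← LinearMap.lTensor_add]
    have : (LinearMap.inl R B A) ∘ₗ (LinearMap.fst R B A) +
        (LinearMap.inr R B A) ∘ₗ (LinearMap.snd R B A) = LinearMap.id := by
      ext x <;> simp
    rw [this, LinearMap.lTensor_id, LinearMap.id_apply]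
  have hφl : φ ∘ₗ LinearMap.inl R B A = pB.toLinearMap := by
    ext b
    simp [φ]
  have hφr : φ ∘ₗ LinearMap.inr R B A = - pA.toLinearMap := by
    ext a
    simp [φ]
  constructor
  · rw [injective_iff_map_eq_zero]
    intro x hx
    rw [map_id_eq] at hx
    have hx' : (LinearMap.snd R B A).lTensor R' (E.val.toLinearMap.lTensor R' x) = 0 := by
      rw [← LinearMap.comp_apply, ← LinearMap.lTensor_comp]
      exact hx
    set y := E.val.toLinearMap.lTensor R' x with hy
    have hy0 : φ.lTensor R' y = 0 := (hex' y).2 ⟨x, rfl⟩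
    have hyd := hdec y
    rw [hx', map_zero, add_zero] at hyd
    have hb : pB.toLinearMap.lTensor R' ((LinearMap.fst R B A).lTensor R' y) = 0 := by
      rw [← hφl, LinearMap.lTensor_comp, LinearMap.comp_apply, ← hyd]
      exact hy0
    have hb0 := hpure (hb.trans (map_zero _).symm)
    rw [hb0, map_zero] at hyd
    exact hinjE (hyd.trans (map_zero _).symm)
  · intro b a hba
    rw [map_id_eq, map_id_eq] at hba
    set y := (LinearMap.inl R B A).lTensor R' b + (LinearMap.inr R B A).lTensor R' a with hy
    have hy0 : φ.lTensor R' y = 0 := by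
      rw [hy, map_add, ← LinearMap.comp_apply, ← LinearMap.comp_apply, ← LinearMap.lTensor_comp,
        ← LinearMap.lTensor_comp, hφl, hφr, LinearMap.lTensor_neg, LinearMap.neg_apply, hba,
        add_neg_cancel]
    obtain ⟨x, hx⟩ := (hex' y).1 hy0
    refine ⟨x, ?_, ?_⟩
    · rw [map_id_eq]
      show ((LinearMap.fst R B A) ∘ₗ E.val.toLinearMap).lTensor R' x = b
      rw [LinearMap.lTensor_comp, LinearMap.comp_apply, hx, hy, map_add,
        ← LinearMap.comp_apply, ← LinearMap.comp_apply, ← LinearMap.lTensor_comp,
        ← LinearMap.lTensor_comp]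
      have h1 : (LinearMap.fst R B A) ∘ₗ (LinearMap.inl R B A) = LinearMap.id := by ext; simp
      have h2 : (LinearMap.fst R B A) ∘ₗ (LinearMap.inr R B A) = 0 := by ext; simp
      rw [h1, h2, LinearMap.lTensor_id, LinearMap.lTensor_zero]
      simp
    · rw [map_id_eq]
      show ((LinearMap.snd R B A) ∘ₗ E.val.toLinearMap).lTensor R' x = a
      rw [LinearMap.lTensor_comp, LinearMap.comp_apply, hx, hy, map_add,
        ← LinearMap.comp_apply, ← LinearMap.comp_apply, ← LinearMap.lTensor_comp,
        ← LinearMap.lTensor_comp]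
      have h1 : (LinearMap.snd R B A) ∘ₗ (LinearMap.inl R B A) = 0 := by ext; simp
      have h2 : (LinearMap.snd R B A) ∘ₗ (LinearMap.inr R B A) = LinearMap.id := by ext; simp
      rw [h1, h2, LinearMap.lTensor_id, LinearMap.lTensor_zero]
      simp


end


/-- Let R be a ring, A and B flat R-algebras, I an ideal of A, B → A/I an injective finite flat map of
R-algebras and P = B ×_{A/I} A the fibre product ring (pairs in B × A with equal image in A/I). For
any R-algebra R' the base change R' ⊗_R P maps injectively to R' ⊗_R A, and any b' in R' ⊗_R B and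
a' in R' ⊗_R A with the same image in R' ⊗_R (A/I) are the two components of some element of R' ⊗_R
P; that is, R' ⊗_R P is the fibre product of R' ⊗_R B and R' ⊗_R A over R' ⊗_R (A/I). -/
theorem result (R A B R' : Type u) [CommRing R] [CommRing A]
    [CommRing B] [CommRing R'] [Algebra R A] [Algebra R B] [Algebra R R'] [Module.Flat R A] [Module.Flat R B]
    (I : Ideal A) [Algebra B (A ⧸ I)] [IsScalarTower R B (A ⧸ I)] [Module.Finite B (A ⧸ I)] [Module.Flat B (A ⧸ I)]
    (hinj : Function.Injective (algebraMap B (A ⧸ I))) :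
    Function.Injective (Algebra.TensorProduct.map (AlgHom.id R' R')
        ((AlgHom.snd R B A).comp (AlgHom.equalizer ((IsScalarTower.toAlgHom R B (A ⧸ I)).comp (AlgHom.fst R B A))
          ((Ideal.Quotient.mkₐ R I).comp (AlgHom.snd R B A))).val)) ∧
    ∀ (b : TensorProduct R R' B) (a : TensorProduct R R' A),
      Algebra.TensorProduct.map (AlgHom.id R' R') (IsScalarTower.toAlgHom R B (A ⧸ I)) b =
        Algebra.TensorProduct.map (AlgHom.id R' R') (Ideal.Quotient.mkₐ R I) a →
      ∃ x : TensorProduct R R' ↥(AlgHom.equalizer ((IsScalarTower.toAlgHom R B (A ⧸ I)).comp (AlgHom.fst R B A))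
          ((Ideal.Quotient.mkₐ R I).comp (AlgHom.snd R B A))),
        Algebra.TensorProduct.map (AlgHom.id R' R') ((AlgHom.fst R B A).comp (AlgHom.equalizer ((IsScalarTower.toAlgHom R B (A ⧸ I)).comp (AlgHom.fst R B A))
          ((Ideal.Quotient.mkₐ R I).comp (AlgHom.snd R B A))).val) x = b ∧
        Algebra.TensorProduct.map (AlgHom.id R' R') ((AlgHom.snd R B A).comp (AlgHom.equalizer ((IsScalarTower.toAlgHom R B (A ⧸ I)).comp (AlgHom.fst R B A))
          ((Ideal.Quotient.mkₐ R I).comp (AlgHom.snd R B A))).val) x = a := by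
  classical
  exact main R A B R' I hinj

end Groth.Agent.S14086
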