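import Groth.Statements.S14091
import Mathlib

set_option autoImplicit false
universe u
open ArSing

namespace Groth.Agent.S14091

section
open Polynomial IsLocalRing

theorem main (k B : Type u) [Field k] [IsAlgClosed k]
    [CommRing B] [IsLocalRing B] [Algebra k B] [Module.Finite k B]
    (hcurv : Module.finrank (IsLocalRing.ResidueField B) (IsLocalRing.CotangentSpace B) ≤ 1) :
    Nonempty (B ≃ₐ[k] (Polynomial k ⧸ Ideal.span {(X : Polynomial k) ^ Module.finrank k B})) := by
  have hArt : IsArtinianRing B := IsArtinianRing.of_finite k B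
  have hNoeth : IsNoetherianRing B := inferInstance
  obtain ⟨s, hs⟩ := (IsLocalRing.finrank_cotangentSpace_le_one_iff.mp hcurv).principal
  have hs' : maximalIdeal B = Ideal.span {s} := hs
  -- nilpotency
  obtain ⟨N, hN⟩ : ∃ N, s ^ N = 0 := by
    obtain ⟨N, hN⟩ := IsArtinianRing.isNilpotent_jacobson_bot (R := B)
    refine ⟨N, ?_⟩
    have h1 : s ∈ Ideal.jacobson (⊥ : Ideal B) := by
      rw [IsLocalRing.jacobson_eq_maximalIdeal _ bot_ne_top, hs']
      exact Ideal.subset_span rfl
    have h2 : s ^ N ∈ (Ideal.jacobson (⊥ : Ideal B)) ^ N := Ideal.pow_mem_pow h1 N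
    rw [hN] at h2
    simpa using h2
  -- residue field is k
  have hres : ∀ b : B, ∃ c : k, ∃ b' : B, b = algebraMap k B c + s * b' := by
    intro b
    have : Module.Finite k (ResidueField B) :=
      Module.Finite.of_surjective (IsScalarTower.toAlgHom k B (ResidueField B)).toLinearMap
        (IsLocalRing.residue_surjective)
    have hbij := IsAlgClosed.algebraMap_bijective_of_isIntegral (k := k) (K := ResidueField B)
    obtain ⟨c, hc⟩ := hbij.2 (residue B b)
    have h1 : residue B (b - algebraMap k B c) = 0 := by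
      rw [map_sub, ← hc]
      simp [IsScalarTower.algebraMap_apply k B (ResidueField B)]
    rw [IsLocalRing.residue_eq_zero_iff, hs', Ideal.mem_span_singleton'] at h1
    obtain ⟨b', hb'⟩ := h1
    exact ⟨c, b', by rw [mul_comm, hb']; ring⟩
  let ψ : Polynomial k →ₐ[k] B := Polynomial.aeval s
  have hstep : ∀ j : ℕ, ∀ b : B, ∃ p : Polynomial k, ∃ b' : B, b = ψ p + s ^ j * b' := by
    intro j
    induction j with
    | zero => exact fun b => ⟨0, b, by simp⟩
    | succ j ih =>
      intro b
      obtain ⟨p, b', hb⟩ := ih b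
      obtain ⟨c, b'', hb'⟩ := hres b'
      refine ⟨p + C c * X ^ j, b'', ?_⟩
      rw [hb, hb']
      simp only [ψ, map_add, map_mul, aeval_C, map_pow, aeval_X]
      ring
  have hsurj : Function.Surjective ψ := by
    intro b
    obtain ⟨p, b', hb⟩ := hstep N b
    exact ⟨p, by rw [hb, hN, zero_mul, add_zero]⟩
  -- kernel
  have hXN : (X : Polynomial k) ^ N ∈ RingHom.ker ψ.toRingHom := by
    rw [RingHom.mem_ker]
    simp [ψ, hN]
  have hprinc : (RingHom.ker ψ.toRingHom).IsPrincipal := inferInstance
  obtain ⟨g, hg⟩ := hprinc.principal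
  have hg' : RingHom.ker ψ.toRingHom = Ideal.span {g} := hg
  have hdvd : g ∣ (X : Polynomial k) ^ N := by
    rw [hg', Ideal.mem_span_singleton] at hXN
    exact hXN
  obtain ⟨j, -, hj⟩ := (dvd_prime_pow Polynomial.prime_X N).1 hdvd
  have hker : RingHom.ker ψ.toRingHom = Ideal.span {(X : Polynomial k) ^ j} := by
    rw [hg']
    exact Ideal.span_singleton_eq_span_singleton.mpr hj
  let e1 : (Polynomial k ⧸ RingHom.ker ψ.toRingHom) ≃ₐ[k] B :=
    Ideal.quotientKerAlgEquivOfSurjective hsurj
  let e2 : (Polynomial k ⧸ RingHom.ker ψ.toRingHom) ≃ₐ[k]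
      (Polynomial k ⧸ Ideal.span {(X : Polynomial k) ^ j}) :=
    Ideal.quotientEquivAlgOfEq k hker
  let e3 := e1.symm.trans e2
  have hfin : Module.finrank k B = j := by
    rw [e3.toLinearEquiv.finrank_eq, finrank_quotient_span_eq_natDegree, natDegree_X_pow]
  rw [hfin]
  exact ⟨e3⟩


end


open Polynomial in
/-- Over an algebraically closed field k, a finite local k-algebra B whose cotangent space m/m^2 has
dimension at most one over the residue field is isomorphic, as a k-algebra, to k[t]/(t^n) with n =
dim_k B (curvilinear pointed algebras of degree n have a single isomorphism class). -/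
theorem result (k B : Type u) [Field k] [IsAlgClosed k]
    [CommRing B] [IsLocalRing B] [Algebra k B] [Module.Finite k B]
    (hcurv : Module.finrank (IsLocalRing.ResidueField B) (IsLocalRing.CotangentSpace B) ≤ 1) :
    Nonempty (B ≃ₐ[k] (Polynomial k ⧸ Ideal.span {(X : Polynomial k) ^ Module.finrank k B})) := by
  classical
  exact main k B hcurv

end Groth.Agent.S14091
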