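import Groth.Statements.S14087
import Mathlib
import Groth.Agent.S14091

set_option autoImplicit false
universe u
open ArSing

namespace Groth.Agent.S14087

section
open Polynomial

variable (k : Type u) [Field k] (n : ℕ)

/-- the truncated polynomial algebra -/
abbrev B₀ := Polynomial k ⧸ Ideal.span {(X : Polynomial k) ^ n}

/-- the class of `X` -/
noncomputable def t : B₀ k n := Ideal.Quotient.mk _ X

theorem t_pow : t k n ^ n = 0 := by
  rw [t, ← map_pow, Ideal.Quotient.eq_zero_iff_mem]
  exact Ideal.subset_span rfl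

variable {n}

/-- the augmentation -/
noncomputable def ε (hn : 0 < n) : B₀ k n →ₐ[k] k :=
  Ideal.Quotient.liftₐ _ (Polynomial.aeval (0 : k)) (by
    intro a ha
    rw [Ideal.mem_span_singleton] at ha
    obtain ⟨c, rfl⟩ := ha
    simp [hn.ne'])

theorem ε_mk (hn : 0 < n) (p : Polynomial k) :
    ε k hn (Ideal.Quotient.mk _ p) = p.eval 0 := by
  simp [ε, Polynomial.aeval_def, Polynomial.eval₂_eq_eval_map]

theorem ε_t (hn : 0 < n) : ε k hn (t k n) = 0 := by
  rw [t, ε_mk]
  simp

theorem exists_of_ε_eq_zero (hn : 0 < n) (b : B₀ k n) (hb : ε k hn b = 0) :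
    ∃ c, b = t k n * c := by
  obtain ⟨p, rfl⟩ := Ideal.Quotient.mk_surjective b
  rw [ε_mk] at hb
  have : (X : Polynomial k) ∣ p := by
    rw [Polynomial.X_dvd_iff, Polynomial.coeff_zero_eq_eval_zero]
    exact hb
  obtain ⟨q, rfl⟩ := this
  exact ⟨Ideal.Quotient.mk _ q, by rw [t, ← map_mul]⟩

theorem nilp_of_ε_eq_zero (hn : 0 < n) (b : B₀ k n) (hb : ε k hn b = 0) : b ^ n = 0 := by
  obtain ⟨c, rfl⟩ := exists_of_ε_eq_zero k hn b hb
  rw [mul_pow, t_pow, zero_mul]

theorem isUnit_of_ε_ne_zero (hn : 0 < n) (b : B₀ k n) (hb : ε k hn b ≠ 0) : IsUnit b := by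
  have h1 : IsUnit (algebraMap k (B₀ k n) (ε k hn b)) := (IsUnit.mk0 _ hb).map _
  have h2 : IsNilpotent (b - algebraMap k (B₀ k n) (ε k hn b)) := by
    refine ⟨n, nilp_of_ε_eq_zero k hn _ ?_⟩
    rw [map_sub, AlgHom.commutes]
    simp
  have := h2.isUnit_add_left_of_commute h1 (Commute.all _ _)
  simpa using this

theorem ff_of_local {A B K : Type*} [CommRing A] [CommRing B] [Algebra A B] [IsLocalRing A]
    [Module.Flat A B] [Field K] (e : B →+* K)
    (h : ∀ a ∈ IsLocalRing.maximalIdeal A, e (algebraMap A B a) = 0) :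
    Module.FaithfullyFlat A B := by
  refine ⟨fun m hm => ?_⟩
  rw [IsLocalRing.eq_maximalIdeal hm]
  intro htop
  have h1 : ∀ x ∈ (IsLocalRing.maximalIdeal A) • (⊤ : Submodule A B), e x = 0 := by
    intro x hx
    refine Submodule.smul_induction_on hx ?_ ?_
    · intro a ha b _
      rw [Algebra.smul_def, map_mul, h a ha, zero_mul]
    · intro x y hx hy
      rw [map_add, hx, hy, add_zero]
  have h2 := h1 1 (by rw [htop]; exact Submodule.mem_top)
  simp at h2

variable {k}

theorem main [IsAlgClosed k] (hn : 0 < n) (A : Subalgebra k (B₀ k n))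
    [Module.Flat A (B₀ k n)] :
    ∃ m : ℕ, Nonempty (A ≃ₐ[k] (Polynomial k ⧸ Ideal.span {(X : Polynomial k) ^ m})) := by
  have hfinB : Module.Finite k (B₀ k n) := (monic_X_pow n).finite_quotient
  have hfinA : Module.Finite k A := inferInstance
  have hArtA : IsArtinianRing A := IsArtinianRing.of_finite k A
  have hNoethA : IsNoetherianRing A := inferInstance
  let εA : A →ₐ[k] k := (ε k hn).comp A.val
  have hεA : ∀ a : A, εA a = ε k hn (a : B₀ k n) := fun a => rfl
  -- units of A
  have hunit : ∀ a : A, εA a ≠ 0 → IsUnit a := by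
    intro a ha
    have h1 : IsUnit (algebraMap k A (εA a)) := (IsUnit.mk0 _ ha).map _
    have h2 : IsNilpotent (a - algebraMap k A (εA a)) := by
      refine ⟨n, ?_⟩
      apply Subtype.ext
      have h3 := nilp_of_ε_eq_zero k hn ((a - algebraMap k A (εA a) : A) : B₀ k n) (by
        rw [← hεA, map_sub, AlgHom.commutes]
        simp)
      simpa using h3
    have := h2.isUnit_add_left_of_commute h1 (Commute.all _ _)
    simpa using this
  have hnonunit : ∀ a : A, a ∈ nonunits A ↔ εA a = 0 := by
    intro a
    constructor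
    · intro ha
      by_contra h
      exact ha (hunit a h)
    · intro ha hu
      have := hu.map εA
      rw [ha] at this
      exact not_isUnit_zero this
  have hnontriv : Nontrivial A := by
    refine ⟨⟨0, 1, fun h => ?_⟩⟩
    have := congrArg εA h
    simp at this
  have hloc : IsLocalRing A := by
    apply IsLocalRing.of_nonunits_add
    intro a b ha hb
    rw [hnonunit] at ha hb ⊢
    rw [map_add, ha, hb, add_zero]
  have hmax : ∀ a : A, a ∈ IsLocalRing.maximalIdeal A ↔ εA a = 0 := by
    intro a
    rw [IsLocalRing.mem_maximalIdeal, hnonunit]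
  -- faithful flatness
  have hff : Module.FaithfullyFlat A (B₀ k n) :=
    ff_of_local (ε k hn).toRingHom (fun a ha => (hmax a).1 ha)
  -- principal maximal ideal
  have hprinc : (IsLocalRing.maximalIdeal A).IsPrincipal := by
    classical
    set M := IsLocalRing.maximalIdeal A with hM
    set J := M.map (algebraMap A (B₀ k n)) with hJ
    let T : ℕ → Ideal (B₀ k n) := fun j => Ideal.span {t k n ^ j}
    have hP0 : J ≤ T 0 := by
      simp only [T, pow_zero, Ideal.span_singleton_one]
      exact le_top
    set r := Nat.findGreatest (fun j => J ≤ T j) n with hr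
    have hJr : J ≤ T r := Nat.findGreatest_spec (P := fun j => J ≤ T j) (Nat.zero_le n) hP0
    have hrn : r ≤ n := Nat.findGreatest_le n
    rcases Nat.lt_or_ge r n with hlt | hge
    · have hnot : ¬ J ≤ T (r + 1) :=
        Nat.findGreatest_is_greatest (P := fun j => J ≤ T j) (Nat.lt_succ_self r) hlt
      rw [hJ, Ideal.map_le_iff_le_comap] at hnot
      obtain ⟨a, haM, haT⟩ := Set.not_subset.1 hnot
      have haJ : algebraMap A (B₀ k n) a ∈ J := Ideal.mem_map_of_mem _ haM
      have haTr := hJr haJ
      rw [Ideal.mem_span_singleton'] at haTr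
      obtain ⟨c, hc⟩ := haTr
      have hcu : IsUnit c := by
        apply isUnit_of_ε_ne_zero k hn
        intro hc0
        obtain ⟨c', rfl⟩ := exists_of_ε_eq_zero k hn c hc0
        apply haT
        rw [SetLike.mem_coe, Ideal.mem_comap, ← hc, Ideal.mem_span_singleton']
        exact ⟨c', by rw [pow_succ]; ring⟩
      have hTr : T r ≤ Ideal.span {algebraMap A (B₀ k n) a} := by
        rw [Ideal.span_singleton_le_iff_mem, Ideal.mem_span_singleton']
        refine ⟨(hcu.unit⁻¹ : (B₀ k n)ˣ), ?_⟩
        rw [← hc, ← mul_assoc, IsUnit.val_inv_mul, one_mul]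
      have hmapa : (Ideal.span {a}).map (algebraMap A (B₀ k n)) = J := by
        apply le_antisymm
        · exact Ideal.map_mono ((Ideal.span_singleton_le_iff_mem _).2 haM)
        · rw [Ideal.map_span, Set.image_singleton]
          exact hJr.trans hTr
      have := congrArg (Ideal.comap (algebraMap A (B₀ k n))) hmapa
      rw [hJ, Ideal.comap_map_eq_self_of_faithfullyFlat,
        Ideal.comap_map_eq_self_of_faithfullyFlat] at this
      exact ⟨⟨a, this.symm⟩⟩
    · have hrn' : r = n := le_antisymm hrn hge
      have hbot : M = ⊥ := by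
        rw [eq_bot_iff]
        intro a ha
        have haJ : algebraMap A (B₀ k n) a ∈ J := Ideal.mem_map_of_mem _ ha
        have := hJr haJ
        rw [hrn'] at this
        simp only [T, t_pow] at this
        rw [Ideal.mem_span_singleton'] at this
        obtain ⟨c, hc⟩ := this
        rw [mul_zero] at hc
        rw [Ideal.mem_bot]
        apply Subtype.ext
        exact hc.symm
      rw [hbot]
      infer_instance
  have hcurv := IsLocalRing.finrank_cotangentSpace_le_one_iff.mpr hprinc
  exact ⟨_, Groth.Agent.S14091.result k A hcurv⟩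


end


open Polynomial in
/-- Over an algebraically closed field k, if B = k[t]/(t^n) with n ≥ 1 is flat over a k-subalgebra A ⊆ B
(a finite flat extension of pointed finite algebras with curvilinear top), then A is curvilinear
too: A is isomorphic as a k-algebra to k[t]/(t^m) for some m. -/
theorem result (k : Type u) [Field k] [IsAlgClosed k]
    (n : ℕ) (hn : 0 < n)
    (A : Subalgebra k (Polynomial k ⧸ Ideal.span {(X : Polynomial k) ^ n}))
    [Module.Flat A (Polynomial k ⧸ Ideal.span {(X : Polynomial k) ^ n})] :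
    ∃ m : ℕ, Nonempty (A ≃ₐ[k] (Polynomial k ⧸ Ideal.span {(X : Polynomial k) ^ m})) := by
  classical
  exact main hn A

end Groth.Agent.S14087
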