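import Groth.Statements.S14088
import Mathlib

set_option autoImplicit false
universe u
open ArSing

namespace Groth.Agent.S14088

section
variable {A : Type u} [CommRing A] (h τ : A)

/-- rising product -/
def PP (j : ℕ) : A := ∏ i ∈ Finset.range j, (h + (i : A) * τ)

theorem PP_succ (j : ℕ) : PP h τ (j + 1) = PP h τ j * (h + (j : A) * τ) := by
  unfold PP; rw [Finset.prod_range_succ]

theorem PP_mul (j n : ℕ) : PP h τ j * (h + (n : A) * τ) =
    PP h τ (j + 1) + ((n : A) - (j : A)) * τ * PP h τ j := by
  rw [PP_succ]; ring

theorem choose_cast (m k : ℕ) : ((m.choose k : ℕ) : A) * ((m : A) - (k : A)) =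
    ((m.choose (k + 1) : ℕ) : A) * ((k : A) + 1) := by
  rcases Nat.lt_or_ge m k with hlt | hge
  · rw [Nat.choose_eq_zero_of_lt hlt, Nat.choose_eq_zero_of_lt (by omega)]
    simp
  · have h1 := Nat.choose_succ_right_eq m k
    have h2 : (((m.choose (k + 1) * (k + 1) : ℕ)) : A) = ((m.choose k * (m - k) : ℕ) : A) := by rw [h1]
    push_cast [Nat.cast_sub hge] at h2
    rw [h2]

/-- coefficient -/
def cc (m n s : ℕ) : A :=
  (-1 : A) ^ s * (Nat.factorial s : A) * (Nat.choose n s : A) * (Nat.choose m s : A)

theorem main (m : ℕ) : ∀ n : ℕ, PP h τ n * PP h τ m =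
    ∑ s ∈ Finset.range (n + 1), cc (A := A) m n s * τ ^ s * PP h τ (m + n - s) := by
  intro n
  induction n with
  | zero =>
    simp [PP, cc]
  | succ n ih =>
    have hstep : PP h τ (n + 1) * PP h τ m = (PP h τ n * PP h τ m) * (h + (n : A) * τ) := by
      rw [PP_succ]; ring
    rw [hstep, ih, Finset.sum_mul]
    -- expand each term
    have hterm : ∀ s ∈ Finset.range (n + 1),
        cc (A := A) m n s * τ ^ s * PP h τ (m + n - s) * (h + (n : A) * τ) =
        cc (A := A) m n s * τ ^ s * PP h τ (m + (n + 1) - s) +
        cc (A := A) m n s * ((s : A) - (m : A)) * τ ^ (s + 1) * PP h τ (m + n - s) := by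
      intro s hs
      rw [Finset.mem_range] at hs
      rw [mul_assoc, PP_mul]
      have e1 : m + n - s + 1 = m + (n + 1) - s := by omega
      have e2 : ((m + n - s : ℕ) : A) = (m : A) + (n : A) - (s : A) := by
        rw [Nat.cast_sub (by omega), Nat.cast_add]
      rw [e1, e2, pow_succ]
      ring
    rw [Finset.sum_congr rfl hterm, Finset.sum_add_distrib]
    -- target side
    have htarget : ∑ s ∈ Finset.range (n + 1 + 1), cc (A := A) m (n + 1) s * τ ^ s * PP h τ (m + (n + 1) - s) =
        ∑ s ∈ Finset.range (n + 1 + 1), cc (A := A) m n s * τ ^ s * PP h τ (m + (n + 1) - s) +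
        ∑ s ∈ Finset.range (n + 1 + 1),
          (if s = 0 then 0 else (-1 : A) ^ s * (Nat.factorial s : A) * (Nat.choose n (s - 1) : A) * (Nat.choose m s : A))
            * τ ^ s * PP h τ (m + (n + 1) - s) := by
      rw [← Finset.sum_add_distrib]
      apply Finset.sum_congr rfl
      intro s _
      rw [← add_mul, ← add_mul]
      congr 2
      rcases s with _ | s
      · simp [cc]
      · rw [if_neg (by omega)]
        unfold cc
        rw [Nat.choose_succ_succ, Nat.add_sub_cancel]
        push_cast
        ring
    rw [htarget]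
    congr 1
    · rw [Finset.sum_range_succ _ (n + 1)]
      have : cc (A := A) m n (n + 1) = 0 := by
        unfold cc
        rw [Nat.choose_succ_self]
        simp
      rw [this, zero_mul, zero_mul, add_zero]
    · rw [Finset.sum_range_succ' _ (n + 1)]
      rw [if_pos rfl, zero_mul, zero_mul, add_zero]
      apply Finset.sum_congr rfl
      intro s hs
      rw [if_neg (by omega)]
      have e1 : m + (n + 1) - (s + 1) = m + n - s := by omega
      rw [e1, Nat.add_sub_cancel]
      congr 2
      unfold cc
      have hc := choose_cast (A := A) m s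
      rw [Nat.factorial_succ, pow_succ]
      push_cast
      have : ((m.choose s : ℕ) : A) * ((s : A) - (m : A)) = - (((m.choose (s + 1) : ℕ) : A) * ((s : A) + 1)) := by
        rw [← hc]; ring
      linear_combination ((-1 : A) ^ s * (Nat.factorial s : A) * (Nat.choose n s : A)) * this

end

/-- The identity behind the torus-equivariant classes h_i = h_0 + i τ of the coordinate hyperplanes of a
projective space of binary forms, stated in an arbitrary commutative ring: for n ≤ m, (h_0 ⋯
h_(n-1))^2 · h_n ⋯ h_(m-1) equals the sum over s = 0, …, n of (-1)^s s! (n choose s) (m choose s)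
τ^s h_0 ⋯ h_(m+n-s-1), where h_i = h + i τ. (The published statement is in the equivariant Chow ring
of that projective space; only the relations h_i = h_j + (j - i) τ are used, so it holds in any
commutative ring.) -/
theorem result (A : Type u) [CommRing A] (h τ : A) (n m : ℕ) (hnm : n ≤ m) :
    (∏ i ∈ Finset.range n, (h + (i : A) * τ) ^ 2) * ∏ i ∈ Finset.Ico n m, (h + (i : A) * τ) =
      ∑ s ∈ Finset.range (n + 1), (-1 : A) ^ s * (Nat.factorial s : A) * (Nat.choose n s : A) *
        (Nat.choose m s : A) * τ ^ s * ∏ i ∈ Finset.range (m + n - s), (h + (i : A) * τ) := by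
  classical
  have hmain := main h τ m n
  have hP : (∏ i ∈ Finset.range n, (h + (i : A) * τ) ^ 2) * ∏ i ∈ Finset.Ico n m, (h + (i : A) * τ) =
      PP h τ n * PP h τ m := by
    unfold PP
    rw [Finset.prod_pow, sq, mul_assoc, Finset.prod_range_mul_prod_Ico _ hnm]
  rw [hP, hmain]
  apply Finset.sum_congr rfl
  intro s _
  unfold cc PP
  ring

end Groth.Agent.S14088
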