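import Groth.Statements.S14090
import Mathlib

set_option autoImplicit false
universe u
open CategoryTheory AlgebraicGeometry
open BlowUp

namespace Groth.Agent.S14090

section
open CategoryTheory AlgebraicGeometry

open Scheme.IdealSheafData in
/-- pullback of an ideal sheaf between affine schemes -/
theorem comap_ofIdealTop {X Y : Scheme.{u}} [IsAffine X] [IsAffine Y] (g : Y ⟶ X)
    (J : Ideal Γ(X, ⊤)) :
    (Scheme.IdealSheafData.ofIdealTop J).comap g =
      Scheme.IdealSheafData.ofIdealTop (J.map g.appTop.hom) := by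
  apply le_antisymm
  · rw [← le_map_iff_comap_le]
    apply le_of_isAffine
    rw [ideal_map_of_isAffineHom]
    simp only [ofIdealTop_ideal]
    rw [← Ideal.map_le_iff_le_comap]
    have h1 : ∀ (Z : Scheme.{u}) (h : (⊤ : Z.Opens) ≤ ⊤), Z.presheaf.map (homOfLE h).op = 𝟙 _ := by
      intro Z h
      exact Z.presheaf.map_id _
    have h1Y : Y.presheaf.map (homOfLE (le_top : g ⁻¹ᵁ ⊤ ≤ ⊤)).op = 𝟙 _ := Y.presheaf.map_id _
    rw [h1 X]
    erw [h1Y]
    simp only [CommRingCat.hom_id, Ideal.map_id]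
    show Ideal.map g.appTop.hom J ≤ Ideal.map (RingHom.id _) (Ideal.map g.appTop.hom J)
    rw [Ideal.map_id]
  · apply le_of_isAffine
    have h2 := le_map_comap (ofIdealTop J) g ⟨⊤, isAffineOpen_top X⟩
    rw [ideal_map_of_isAffineHom, ← Ideal.map_le_iff_le_comap] at h2
    simp only [ofIdealTop_ideal] at h2 ⊢
    have h1 : ∀ (Z : Scheme.{u}) (h : (⊤ : Z.Opens) ≤ ⊤), Z.presheaf.map (homOfLE h).op = 𝟙 _ := by
      intro Z h
      exact Z.presheaf.map_id _
    rw [h1 X] at h2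
    rw [h1 Y]
    simp only [CommRingCat.hom_id, Ideal.map_id] at h2 ⊢
    exact h2

open Scheme.IdealSheafData in
theorem ideal_comap_ofIdealTop {X Y : Scheme.{u}} [IsAffine X] (g : Y ⟶ X) (J : Ideal Γ(X, ⊤))
    (V : Y.affineOpens) :
    ((Scheme.IdealSheafData.ofIdealTop J).comap g).ideal V =
      J.map (g.appTop ≫ Y.presheaf.map (homOfLE (le_top : V.1 ≤ ⊤)).op).hom := by
  have hVaff : IsAffine (V.1 : Scheme) := V.2
  have h1 := ideal_comap_of_isOpenImmersion ((ofIdealTop J).comap g) V.1.ι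
    ⟨⊤, isAffineOpen_top _⟩
  rw [← comap_comp, comap_ofIdealTop] at h1
  simp only [ofIdealTop_ideal, Scheme.Opens.ι_appIso, Iso.refl_inv] at h1
  have h0 : (V.1 : Scheme).presheaf.map (homOfLE (le_top : (⊤ : (V.1 : Scheme).Opens) ≤ ⊤)).op =
      𝟙 _ := (V.1 : Scheme).presheaf.map_id _
  rw [h0, CommRingCat.hom_id, Ideal.map_id] at h1
  have hP : ∀ (W : Y.affineOpens) (hWV : W.1 = V.1), ((ofIdealTop J).comap g).ideal W =
      Ideal.map (g.appTop ≫ Y.presheaf.map (homOfLE (le_top : W.1 ≤ ⊤)).op).hom J →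
      ((ofIdealTop J).comap g).ideal V =
      Ideal.map (g.appTop ≫ Y.presheaf.map (homOfLE (le_top : V.1 ≤ ⊤)).op).hom J := by
    intro W hWV hW
    have : W = V := Subtype.ext hWV
    subst this
    exact hW
  have hWaff : V.1.ι ''ᵁ ⊤ ∈ Y.affineOpens :=
    (isAffineOpen_top (V.1 : Scheme)).image_of_isOpenImmersion V.1.ι
  refine hP ⟨V.1.ι ''ᵁ ⊤, hWaff⟩ V.1.ι_image_top ?_
  refine (h1.trans (Ideal.comap_id _)).symm.trans ?_
  rw [Scheme.Hom.comp_appTop, Scheme.Opens.ι_appTop]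
  rfl

section ring
variable {A B : Type u} [CommRing A] [CommRing B] [Algebra A B]
  (hinj : Function.Injective (algebraMap A B)) (I : Ideal A)
  (hIB : (Ideal.map (algebraMap A B) I : Set B) ⊆ algebraMap A B '' (I : Set A))
  (f : B) (hf : f ∈ nonZeroDivisors B) (hgen : Ideal.map (algebraMap A B) I = Ideal.span {f})

include hIB hgen in
theorem exists_a0 : ∃ a₀ ∈ I, algebraMap A B a₀ = f := by
  have : f ∈ (Ideal.map (algebraMap A B) I : Set B) := by
    rw [hgen]
    exact Ideal.subset_span rfl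
  obtain ⟨a, ha, rfl⟩ := hIB this
  exact ⟨a, ha, rfl⟩

include hIB hgen in
theorem exists_y (b : B) : ∃ y ∈ I, algebraMap A B y = f * b := by
  have : f * b ∈ (Ideal.map (algebraMap A B) I : Set B) := by
    rw [hgen]
    exact Ideal.mul_mem_right _ _ (Ideal.subset_span rfl)
  obtain ⟨a, ha, h⟩ := hIB this
  exact ⟨a, ha, h⟩

include hinj hIB hgen in
/-- local analysis: the image of `a₀` generates and is a nonzerodivisor -/
theorem local_gen {R : Type u} [CommRing R] (ψ : A →+* R) (s : R) (hs : s ∈ nonZeroDivisors R)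
    (hψ : Ideal.map ψ I = Ideal.span {s}) (a₀ : A) (ha₀ : a₀ ∈ I) (ha₀f : algebraMap A B a₀ = f) :
    ψ a₀ ∈ nonZeroDivisors R ∧ ∀ x ∈ I, ψ a₀ ∣ ψ x := by
  have hdiv : ∀ x ∈ I, ∃ t, ψ x = s * t := by
    intro x hx
    have : ψ x ∈ Ideal.map ψ I := Ideal.mem_map_of_mem _ hx
    rw [hψ, Ideal.mem_span_singleton'] at this
    obtain ⟨t, ht⟩ := this
    exact ⟨t, by rw [← ht, mul_comm]⟩
  obtain ⟨t₀, ht₀⟩ := hdiv a₀ ha₀
  have hunit : IsUnit t₀ := by
    by_contra hnu
    obtain ⟨M, hM, ht₀M⟩ := exists_max_ideal_of_mem_nonunits hnu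
    have hMp : M.IsPrime := hM.isPrime
    have hsub : Ideal.map ψ I ≤ Ideal.span {s} * M := by
      rw [Ideal.map_le_iff_le_comap]
      intro x hx
      obtain ⟨t, ht⟩ := hdiv x hx
      -- x = f * b in B
      have hxB : algebraMap A B x ∈ Ideal.map (algebraMap A B) I := Ideal.mem_map_of_mem _ hx
      rw [hgen, Ideal.mem_span_singleton'] at hxB
      obtain ⟨b, hb⟩ := hxB
      obtain ⟨y, hy, hyb⟩ := exists_y I hIB f hgen (b * b)
      have hA : x * x = a₀ * y := by
        apply hinj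
        rw [map_mul, map_mul, ha₀f, hyb, ← hb]
        ring
      obtain ⟨u, hu⟩ := hdiv y hy
      have h2 : s * s * (t * t) = s * s * (t₀ * u) := by
        have := congrArg ψ hA
        rw [map_mul, map_mul, ht, ht₀, hu] at this
        linear_combination this
      have h3 : t * t = t₀ * u := by
        have hss : s * s ∈ nonZeroDivisors R := mul_mem hs hs
        exact (mul_cancel_left_mem_nonZeroDivisors hss).1 h2
      have htM : t ∈ M := by
        have : t * t ∈ M := h3 ▸ M.mul_mem_right _ ht₀M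
        exact (hMp.mem_or_mem this).elim id id
      rw [Ideal.mem_comap, ht, Ideal.mem_span_singleton_mul]
      exact ⟨t, htM, rfl⟩
    have hsmem : s ∈ Ideal.span {s} * M := by
      apply hsub
      rw [hψ]
      exact Ideal.subset_span rfl
    rw [Ideal.mem_span_singleton_mul] at hsmem
    obtain ⟨q, hqM, hq⟩ := hsmem
    have h1 : s * (q - 1) = 0 := by rw [mul_sub, hq, mul_one, sub_self]
    have h2 : q - 1 = 0 := (mul_right_mem_nonZeroDivisors_eq_zero_iff hs).1 (by rw [mul_comm]; exact h1)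
    have : (1 : R) ∈ M := by
      have : q = 1 := sub_eq_zero.1 h2
      rw [← this]
      exact hqM
    exact hM.ne_top ((Ideal.eq_top_iff_one _).2 this)
  constructor
  · rw [ht₀]
    exact mul_mem hs hunit.mem_nonZeroDivisors
  · intro x hx
    obtain ⟨t, ht⟩ := hdiv x hx
    rw [ht, ht₀]
    obtain ⟨v, hv⟩ := hunit
    exact ⟨(v⁻¹ : Rˣ) * t, by rw [← hv]; simp [mul_assoc]⟩

include hinj hIB hgen in
/-- global extension of a ring map -/
theorem exists_unique_ext {R : Type u} [CommRing R] (ψ : A →+* R) (a₀ : A) (ha₀ : a₀ ∈ I)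
    (ha₀f : algebraMap A B a₀ = f) (hs₀ : ψ a₀ ∈ nonZeroDivisors R)
    (hdiv : ∀ x ∈ I, ψ a₀ ∣ ψ x) :
    ∃! ψ' : B →+* R, ψ'.comp (algebraMap A B) = ψ := by
  have hex : ∀ b : B, ∃ r : R, ∃ y ∈ I, algebraMap A B y = f * b ∧ ψ y = ψ a₀ * r := by
    intro b
    obtain ⟨y, hy, hyb⟩ := exists_y I hIB f hgen b
    obtain ⟨r, hr⟩ := hdiv y hy
    exact ⟨r, y, hy, hyb, hr⟩
  choose F hF using hex
  have hchar : ∀ (b : B) (y : A) (r : R), algebraMap A B y = f * b → ψ y = ψ a₀ * r → F b = r := by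
    intro b y r hyb hyr
    obtain ⟨y', -, hy'b, hy'r⟩ := hF b
    have : y' = y := hinj (hy'b.trans hyb.symm)
    rw [this, hyr] at hy'r
    exact ((mul_cancel_left_mem_nonZeroDivisors hs₀).1 hy'r).symm
  have hFspec : ∀ b : B, ∃ y ∈ I, algebraMap A B y = f * b ∧ ψ y = ψ a₀ * F b := hF
  let ψ' : B →+* R :=
    { toFun := F
      map_one' := hchar 1 a₀ 1 (by rw [ha₀f, mul_one]) (by rw [mul_one])
      map_mul' := by
        intro b b'
        obtain ⟨y, -, hyb, hyr⟩ := hFspec b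
        obtain ⟨y', -, hyb', hyr'⟩ := hFspec b'
        obtain ⟨z, -, hzb, hzr⟩ := hFspec (b * b')
        have hA : a₀ * z = y * y' := by
          apply hinj
          rw [map_mul, map_mul, ha₀f, hzb, hyb, hyb']
          ring
        have h2 := congrArg ψ hA
        rw [map_mul, map_mul, hzr, hyr, hyr'] at h2
        have h3 : ψ a₀ * ψ a₀ * F (b * b') = ψ a₀ * ψ a₀ * (F b * F b') := by
          linear_combination h2
        exact (mul_cancel_left_mem_nonZeroDivisors (mul_mem hs₀ hs₀)).1 h3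
      map_zero' := hchar 0 0 0 (by simp) (by simp)
      map_add' := by
        intro b b'
        obtain ⟨y, -, hyb, hyr⟩ := hFspec b
        obtain ⟨y', -, hyb', hyr'⟩ := hFspec b'
        exact hchar (b + b') (y + y') (F b + F b') (by rw [map_add, hyb, hyb']; ring)
          (by rw [map_add, hyr, hyr']; ring) }
  have hψ' : ∀ b, ψ' b = F b := fun b => rfl
  refine ⟨ψ', ?_, ?_⟩
  · ext a
    rw [RingHom.comp_apply, hψ']
    exact hchar _ (a₀ * a) (ψ a) (by rw [map_mul, ha₀f]) (by rw [map_mul])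
  · intro ψ'' hψ''
    ext b
    rw [hψ']
    obtain ⟨y, -, hyb, hyr⟩ := hFspec b
    have h1 : ψ'' (algebraMap A B y) = ψ y := by rw [← hψ'']; rfl
    have h2 : ψ'' (algebraMap A B a₀) = ψ a₀ := by rw [← hψ'']; rfl
    rw [hyb, map_mul, ← ha₀f, h2, hyr] at h1
    exact (mul_cancel_left_mem_nonZeroDivisors hs₀).1 h1

end ring



theorem germ_nzd {Y : Scheme.{u}} (V : Y.Opens) (hV : IsAffineOpen V) (s : Γ(Y, V))
    (hs : s ∈ nonZeroDivisors Γ(Y, V)) (z : Y) (hz : z ∈ V) :
    Y.presheaf.germ V z hz s ∈ nonZeroDivisors (Y.presheaf.stalk z) := by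
  let _ := Y.presheaf.algebra_section_stalk ⟨z, hz⟩
  have := hV.isLocalization_stalk ⟨z, hz⟩
  exact IsLocalization.map_nonZeroDivisors_le (hV.primeIdealOf ⟨z,hz⟩).asIdeal.primeCompl _
    (Submonoid.mem_map_of_mem _ hs)

/-- if all germs of `s` are nonzerodivisors then restriction of `s` to any open is cancellable -/
theorem cancel_of_germ {Y : Scheme.{u}} (s : Γ(Y, ⊤))
    (hs : ∀ z : Y, Y.presheaf.germ ⊤ z trivial s ∈ nonZeroDivisors (Y.presheaf.stalk z))
    (W : Y.Opens) (c : Γ(Y, W))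
    (hc : Y.presheaf.map (homOfLE (le_top : W ≤ ⊤)).op s * c = 0) : c = 0 := by
  apply TopCat.Presheaf.section_ext Y.sheaf W
  intro z hz
  have h1 := congrArg (Y.presheaf.germ W z hz) hc
  rw [map_mul, map_zero] at h1
  have h2 : Y.presheaf.germ W z hz (Y.presheaf.map (homOfLE (le_top : W ≤ ⊤)).op s) =
      Y.presheaf.germ ⊤ z trivial s := TopCat.Presheaf.germ_res_apply _ _ _ _ _
  rw [h2] at h1
  have h3 := (mul_right_mem_nonZeroDivisors_eq_zero_iff (hs z)).1 (by rw [mul_comm]; exact h1)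
  exact h3.trans (map_zero (Y.presheaf.germ W z hz).hom).symm

theorem cancel_of_germ' {Y : Scheme.{u}} (s : Γ(Y, ⊤))
    (hs : ∀ z : Y, Y.presheaf.germ ⊤ z trivial s ∈ nonZeroDivisors (Y.presheaf.stalk z))
    (W : Y.Opens) (c c' : Γ(Y, W))
    (hc : Y.presheaf.map (homOfLE (le_top : W ≤ ⊤)).op s * c =
      Y.presheaf.map (homOfLE (le_top : W ≤ ⊤)).op s * c') : c = c' := by
  have := cancel_of_germ s hs W (c - c') (by rw [mul_sub, hc, sub_self])
  exact sub_eq_zero.1 this

theorem res_res {Y : Scheme.{u}} {U V W : Y.Opens} (i : U ⟶ V) (j : V ⟶ W) (k : U ⟶ W)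
    (s : Γ(Y, W)) :
    Y.presheaf.map i.op (Y.presheaf.map j.op s) = Y.presheaf.map k.op s := by
  have : k = i ≫ j := Subsingleton.elim _ _
  rw [this, op_comp, Y.presheaf.map_comp]
  rfl

/-- global divisibility from local divisibility -/
theorem glob {Y : Scheme.{u}} (s : Γ(Y, ⊤))
    (hloc : ∀ y : Y, ∃ V : Y.Opens, IsAffineOpen V ∧ y ∈ V ∧
      Y.presheaf.map (homOfLE (le_top : V ≤ ⊤)).op s ∈ nonZeroDivisors Γ(Y, V)) :
    s ∈ nonZeroDivisors Γ(Y, ⊤) ∧
    ∀ t : Γ(Y, ⊤), (∀ y : Y, ∃ V : Y.Opens, y ∈ V ∧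
      Y.presheaf.map (homOfLE (le_top : V ≤ ⊤)).op s ∣ Y.presheaf.map (homOfLE (le_top : V ≤ ⊤)).op t) →
      s ∣ t := by
  have hs : ∀ z : Y, Y.presheaf.germ ⊤ z trivial s ∈ nonZeroDivisors (Y.presheaf.stalk z) := by
    intro z
    obtain ⟨V, hV, hzV, hnzd⟩ := hloc z
    have := germ_nzd V hV _ hnzd z hzV
    have h2 : Y.presheaf.germ V z hzV (Y.presheaf.map (homOfLE (le_top : V ≤ ⊤)).op s) =
      Y.presheaf.germ ⊤ z trivial s := TopCat.Presheaf.germ_res_apply _ _ _ _ _
    rw [h2] at this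
    exact this
  constructor
  · rw [mem_nonZeroDivisors_iff_right]
    intro c hc
    apply cancel_of_germ s hs ⊤ c
    have : Y.presheaf.map (homOfLE (le_top : (⊤ : Y.Opens) ≤ ⊤)).op = 𝟙 _ := Y.presheaf.map_id _
    rw [this, mul_comm]
    exact hc
  · intro t ht
    choose V hyV hdiv using ht
    choose r hr using hdiv
    have hcomp : TopCat.Presheaf.IsCompatible Y.sheaf.1 V r := by
      intro y y'
      apply cancel_of_germ' s hs
      have h1 := congrArg (Y.presheaf.map (TopologicalSpace.Opens.infLELeft (V y) (V y')).op) (hr y)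
      have h2 := congrArg (Y.presheaf.map (TopologicalSpace.Opens.infLERight (V y) (V y')).op) (hr y')
      rw [map_mul, res_res _ _ (homOfLE le_top), res_res _ _ (homOfLE le_top)] at h1 h2
      exact h1.symm.trans h2
    obtain ⟨q', hq', -⟩ := TopCat.Sheaf.existsUnique_gluing' Y.sheaf V ⊤ (fun y => homOfLE le_top)
      (fun z _ => TopologicalSpace.Opens.mem_iSup.2 ⟨z, hyV z⟩) r hcomp
    obtain ⟨q, hq⟩ : ∃ q : Γ(Y, ⊤), ∀ y, Y.presheaf.map (homOfLE (le_top : V y ≤ ⊤)).op q = r y :=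
      ⟨q', hq'⟩
    refine ⟨q, ?_⟩
    apply TopCat.Sheaf.eq_of_locally_eq' Y.sheaf V ⊤ (fun y => homOfLE le_top)
      (fun z _ => TopologicalSpace.Opens.mem_iSup.2 ⟨z, hyV z⟩)
    intro y
    have h1 : Y.presheaf.map (homOfLE (le_top : V y ≤ ⊤)).op q = r y := hq y
    show Y.presheaf.map (homOfLE (le_top : V y ≤ ⊤)).op t =
      Y.presheaf.map (homOfLE (le_top : V y ≤ ⊤)).op (s * q)
    rw [map_mul, h1]
    exact hr y


section scheme

/-- morphisms to an affine scheme versus ring maps -/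
theorem toSpec_eq {Y : Scheme.{u}} {R : CommRingCat.{u}} (h : Y ⟶ Spec R) :
    Y.toSpecΓ ≫ Spec.map ((Scheme.ΓSpecIso R).inv ≫ h.appTop) = h := by
  rw [Spec.map_comp, ← Scheme.toSpecΓ_naturality_assoc, toSpecΓ_SpecMap_ΓSpecIso_inv,
    Category.comp_id]

theorem toRing_eq {Y : Scheme.{u}} {R : CommRingCat.{u}} (φ : R ⟶ Γ(Y, ⊤)) :
    (Scheme.ΓSpecIso R).inv ≫ (Y.toSpecΓ ≫ Spec.map φ).appTop = φ := by
  rw [Scheme.Hom.comp_appTop, ← Scheme.ΓSpecIso_inv_naturality_assoc, Scheme.toSpecΓ_appTop,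
    Iso.inv_hom_id, Category.comp_id]

end scheme

section final
variable (A B : Type u) [CommRing A] [CommRing B] [Algebra A B]
  (hinj : Function.Injective (algebraMap A B)) (I : Ideal A)
  (hIB : (Ideal.map (algebraMap A B) I : Set B) ⊆ algebraMap A B '' (I : Set A))
  (f : B) (hf : f ∈ nonZeroDivisors B) (hgen : Ideal.map (algebraMap A B) I = Ideal.span {f})

include hinj hIB hgen in
theorem univ (Y : Scheme.{u}) (g : Y ⟶ Spec (CommRingCat.of A))
    (hg : BlowUp.IsEffCartierIdeal ((Curv2.idealSheaf A I).comap g)) :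
    ∃! h : Y ⟶ Spec (CommRingCat.of B),
      h ≫ Spec.map (CommRingCat.ofHom (algebraMap A B)) = g := by
  obtain ⟨a₀, ha₀, ha₀f⟩ := exists_a0 I hIB f hgen
  let ψc : CommRingCat.of A ⟶ Γ(Y, ⊤) := (Scheme.ΓSpecIso (CommRingCat.of A)).inv ≫ g.appTop
  let ψ : A →+* Γ(Y, ⊤) := ψc.hom
  have hideal : ∀ V : Y.affineOpens, ((Curv2.idealSheaf A I).comap g).ideal V =
      I.map ((Y.presheaf.map (homOfLE (le_top : V.1 ≤ ⊤)).op).hom.comp ψ) := by
    intro V
    unfold Curv2.idealSheaf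
    rw [ideal_comap_ofIdealTop, Ideal.map_map]
    rfl
  have hloc : ∀ y : Y, ∃ V : Y.Opens, IsAffineOpen V ∧ y ∈ V ∧
      Y.presheaf.map (homOfLE (le_top : V ≤ ⊤)).op (ψ a₀) ∈ nonZeroDivisors Γ(Y, V) ∧
      ∀ x ∈ I, Y.presheaf.map (homOfLE (le_top : V ≤ ⊤)).op (ψ a₀) ∣
        Y.presheaf.map (homOfLE (le_top : V ≤ ⊤)).op (ψ x) := by
    intro y
    obtain ⟨U, hyU, s, hs, hU⟩ := hg y
    rw [hideal U] at hU
    have := local_gen hinj I hIB f hgen _ s hs hU a₀ ha₀ ha₀f
    exact ⟨U.1, U.2, hyU, this.1, this.2⟩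
  obtain ⟨hnzd, hdiv⟩ := glob (ψ a₀) (fun y => by
    obtain ⟨V, hV, hyV, h1, -⟩ := hloc y
    exact ⟨V, hV, hyV, h1⟩)
  have hdiv' : ∀ x ∈ I, ψ a₀ ∣ ψ x := by
    intro x hx
    apply hdiv
    intro y
    obtain ⟨V, hV, hyV, -, h2⟩ := hloc y
    exact ⟨V, hyV, h2 x hx⟩
  obtain ⟨ψ', hψ', huniq⟩ := exists_unique_ext hinj I hIB f hgen ψ a₀ ha₀ ha₀f hnzd hdiv'
  refine ⟨Y.toSpecΓ ≫ Spec.map (CommRingCat.ofHom ψ'), ?_, ?_⟩
  · show (Y.toSpecΓ ≫ Spec.map (CommRingCat.ofHom ψ')) ≫ Spec.map _ = g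
    rw [Category.assoc, ← Spec.map_comp]
    have : CommRingCat.ofHom (algebraMap A B) ≫ CommRingCat.ofHom ψ' = ψc := by
      ext a
      exact congrArg (fun k : A →+* Γ(Y, ⊤) => k a) hψ'
    rw [this]
    exact toSpec_eq g
  · intro h hh
    have h1 : ((Scheme.ΓSpecIso (CommRingCat.of B)).inv ≫ h.appTop).hom = ψ' := by
      apply huniq
      have h2 : CommRingCat.ofHom (algebraMap A B) ≫
          ((Scheme.ΓSpecIso (CommRingCat.of B)).inv ≫ h.appTop) = ψc := by
        show _ = (Scheme.ΓSpecIso (CommRingCat.of A)).inv ≫ g.appTop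
        rw [← hh, Scheme.Hom.comp_appTop, Scheme.ΓSpecIso_inv_naturality_assoc]
      exact congrArg CommRingCat.Hom.hom h2
    rw [← toSpec_eq h]
    congr 2
    ext b
    exact congrArg (fun k : B →+* Γ(Y, ⊤) => k b) h1

end final

section final2
variable (A B : Type u) [CommRing A] [CommRing B] [Algebra A B]
  (I : Ideal A)
  (f : B) (hf : f ∈ nonZeroDivisors B) (hgen : Ideal.map (algebraMap A B) I = Ideal.span {f})

include hf hgen in
theorem part1 : BlowUp.IsEffCartierIdeal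
    ((Curv2.idealSheaf A I).comap (Spec.map (CommRingCat.ofHom (algebraMap A B)))) := by
  intro x
  refine ⟨⟨⊤, isAffineOpen_top _⟩, trivial, (Scheme.ΓSpecIso (CommRingCat.of B)).inv f, ?_, ?_⟩
  · rw [mem_nonZeroDivisors_iff_right]
    intro c hc
    have h1 := congrArg (Scheme.ΓSpecIso (CommRingCat.of B)).hom hc
    rw [map_mul, map_zero] at h1
    have h2 : (Scheme.ΓSpecIso (CommRingCat.of B)).hom
        ((Scheme.ΓSpecIso (CommRingCat.of B)).inv f) = f := by
      rw [← CommRingCat.comp_apply, Iso.inv_hom_id]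
      rfl
    rw [h2] at h1
    have h3 := (mem_nonZeroDivisors_iff_right.1 hf) _ h1
    have h4 := congrArg (Scheme.ΓSpecIso (CommRingCat.of B)).inv h3
    rw [map_zero, ← CommRingCat.comp_apply, Iso.hom_inv_id] at h4
    exact h4
  · unfold Curv2.idealSheaf
    rw [ideal_comap_ofIdealTop, Ideal.map_map]
    have h0 : (Spec (CommRingCat.of B)).presheaf.map
        (homOfLE (le_top : (⊤ : (Spec (CommRingCat.of B)).Opens) ≤ ⊤)).op = 𝟙 _ :=
      (Spec (CommRingCat.of B)).presheaf.map_id _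
    have h1 : (((Spec.map (CommRingCat.ofHom (algebraMap A B))).appTop ≫
        (Spec (CommRingCat.of B)).presheaf.map
        (homOfLE (le_top : (⊤ : (Spec (CommRingCat.of B)).Opens) ≤ ⊤)).op).hom.comp
        (Scheme.ΓSpecIso (CommRingCat.of A)).inv.hom) =
        (Scheme.ΓSpecIso (CommRingCat.of B)).inv.hom.comp (algebraMap A B) := by
      rw [h0, Category.comp_id]
      have := Scheme.ΓSpecIso_inv_naturality (CommRingCat.ofHom (algebraMap A B))
      exact (congrArg CommRingCat.Hom.hom this).symm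
    erw [h1]
    rw [← Ideal.map_map, hgen, Ideal.map_span, Set.image_singleton]

end final2

theorem main (A B : Type u) [CommRing A] [CommRing B] [Algebra A B]
    (hinj : Function.Injective (algebraMap A B)) (I : Ideal A)
    (hIB : (Ideal.map (algebraMap A B) I : Set B) ⊆ algebraMap A B '' (I : Set A))
    (f : B) (hf : f ∈ nonZeroDivisors B) (hgen : Ideal.map (algebraMap A B) I = Ideal.span {f}) :
    BlowUp.IsBlowUp (Spec.map (CommRingCat.ofHom (algebraMap A B))) (Curv2.idealSheaf A I) :=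
  ⟨part1 A B I f hf hgen, fun Y g hg => univ A B hinj I hIB f hgen Y g hg⟩



end


/-- Let A → B be an injective ring homomorphism and I an ideal of A such that the ideal I·B of B is
contained in the image of I (so I is an ideal of B as well) and I·B is generated by one
nonzerodivisor of B (I is free of rank one over B). Then Spec B → Spec A is a blowing up of Spec A
in I. (This is the affine statement behind recovering a pair (X̃, D̃), D̃ an effective Cartier
divisor finite flat over D, as the blow-up of the pushout X̃ ⨿_D̃ D along D.) -/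
theorem result (A B : Type u) [CommRing A] [CommRing B] [Algebra A B]
    (hinj : Function.Injective (algebraMap A B)) (I : Ideal A)
    (hIB : (Ideal.map (algebraMap A B) I : Set B) ⊆ algebraMap A B '' (I : Set A))
    (f : B) (hf : f ∈ nonZeroDivisors B) (hgen : Ideal.map (algebraMap A B) I = Ideal.span {f}) :
    BlowUp.IsBlowUp (Spec.map (CommRingCat.ofHom (algebraMap A B))) (Curv2.idealSheaf A I) := by
  classical
  exact main A B hinj I hIB f hf hgen

end Groth.Agent.S14090
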