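import Groth.Statements.S14093
import Mathlib
import Groth.Prelude.Def_W4c1arstab1appArSing
import Groth.Agent.Lib.Helper9.ArNF
-- import your own Groth.Agent.* helpers here

set_option autoImplicit false
universe u
open ArSing

namespace Groth.Agent.S14093

open ArSing
open Groth.Agent.Lib.Helper9.ArNF
namespace Aux

variable (k : Type u) [Field k] (r : ℕ)

lemma flat_xMap : (ArSing.xMap k r).toRingHom.Flat := by
  letI : Algebra (PowerSeries k) (ArSing.ring k r) := (ArSing.xMap k r).toRingHom.toAlgebra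
  show Module.Flat (PowerSeries k) (ArSing.ring k r)
  have hsm : ∀ (p : PowerSeries k) (z : ArSing.ring k r), p • z = ArSing.xMap k r p * z :=
    fun p z => rfl
  let f : (PowerSeries k × PowerSeries k) →ₗ[PowerSeries k] ArSing.ring k r :=
    { toFun := nfMap k r
      map_add' := (nfMap k r).map_add
      map_smul' := by
        intro p q
        rw [RingHom.id_apply, hsm, nfMap_apply, nfMap_apply]
        simp only [Prod.smul_fst, Prod.smul_snd, smul_eq_mul, map_mul]
        ring }
  let e : (PowerSeries k × PowerSeries k) ≃ₗ[PowerSeries k] ArSing.ring k r :=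
    LinearEquiv.ofBijective f (nfMap_bijective k r)
  exact Module.Flat.of_linearEquiv e.symm

lemma map_ne_top :
    Ideal.map (ArSing.xMap k r) (IsLocalRing.maximalIdeal (PowerSeries k)) ≠ ⊤ := by
  intro h
  have h1 : Ideal.map (ArSing.xMap k r) (IsLocalRing.maximalIdeal (PowerSeries k)) ≤
      RingHom.ker (eps k r) := by
    rw [Ideal.map_le_iff_le_comap]
    intro p hp
    rw [Ideal.mem_comap, RingHom.mem_ker]
    show eps k r (ArSing.xMap k r p) = 0
    rw [eps_xMap]
    rw [IsLocalRing.mem_maximalIdeal, mem_nonunits_iff, PowerSeries.isUnit_iff_constantCoeff,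
      isUnit_iff_ne_zero, not_not] at hp
    exact hp
  rw [h, top_le_iff] at h1
  have h2 : (1 : ArSing.ring k r) ∈ RingHom.ker (eps k r) := by rw [h1]; trivial
  rw [RingHom.mem_ker, map_one] at h2
  exact one_ne_zero h2

variable {k r}

lemma sigma_xMap (σ : ArSing.ring k r ≃ₐ[k] ArSing.ring k r)
    (hx : σ (ArSing.x k r) = ArSing.x k r) (p : PowerSeries k) :
    σ (ArSing.xMap k r p) = ArSing.xMap k r p := by
  have h := algHom_ext_X k r ((σ : ArSing.ring k r →ₐ[k] ArSing.ring k r).comp (ArSing.xMap k r))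
    (ArSing.xMap k r) (by
      rw [AlgHom.comp_apply, xMap_X]
      exact hx) (by
      rw [AlgHom.comp_apply, xMap_X]
      show σ (ArSing.x k r) ∈ _
      rw [hx]
      exact Ideal.subset_span rfl)
  exact DFunLike.congr_fun h p

lemma sigma_nf (σ : ArSing.ring k r ≃ₐ[k] ArSing.ring k r)
    (hx : σ (ArSing.x k r) = ArSing.x k r) (hy : σ (ArSing.y k r) = -ArSing.y k r)
    (z : ArSing.ring k r) :
    σ z = ArSing.xMap k r (cA k r z) + ArSing.xMap k r (-cB k r z) * ArSing.y k r := by
  conv_lhs => rw [eq_nf k r z]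
  rw [map_add, map_mul, sigma_xMap σ hx, sigma_xMap σ hx, hy, map_neg]
  ring

lemma span_eq (h2 : (2 : k) ≠ 0) (σ : ArSing.ring k r ≃ₐ[k] ArSing.ring k r)
    (hx : σ (ArSing.x k r) = ArSing.x k r) (hy : σ (ArSing.y k r) = -ArSing.y k r) :
    Ideal.span (Set.range fun a : ArSing.ring k r => σ a - a) = Ideal.span {ArSing.y k r} := by
  apply le_antisymm
  · rw [Ideal.span_le]
    rintro _ ⟨z, rfl⟩
    show σ z - z ∈ Ideal.span {ArSing.y k r}
    rw [Ideal.mem_span_singleton']
    refine ⟨ArSing.xMap k r (-cB k r z) - ArSing.xMap k r (cB k r z), ?_⟩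
    have e := eq_nf k r z
    have e2 := sigma_nf σ hx hy z
    generalize cA k r z = a at e e2
    generalize cB k r z = b at e e2
    rw [e2, e]
    ring
  · rw [Ideal.span_le, Set.singleton_subset_iff]
    have h1 : ArSing.y k r = algebraMap k (ArSing.ring k r) (-2)⁻¹ *
        (σ (ArSing.y k r) - ArSing.y k r) := by
      rw [hy]
      have e : -ArSing.y k r - ArSing.y k r = algebraMap k (ArSing.ring k r) (-2) * ArSing.y k r := by
        rw [map_neg, map_ofNat]
        ring
      rw [e, ← mul_assoc, ← map_mul, inv_mul_cancel₀ (neg_ne_zero.mpr h2), map_one, one_mul]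
    rw [h1]
    exact Ideal.mul_mem_left _ _ (Ideal.subset_span ⟨_, rfl⟩)

lemma y_mem_nzd : ArSing.y k r ∈ nonZeroDivisors (ArSing.ring k r) := by
  rw [mem_nonZeroDivisors_iff_left]
  intro z hz
  have hA : cA k r (ArSing.y k r * z) = 0 := by rw [hz, map_zero]
  have hB : cB k r (ArSing.y k r * z) = 0 := by rw [hz, map_zero]
  rw [cA_y_mul] at hA
  rw [cB_y_mul] at hB
  have hB' : cB k r z = 0 := by
    rcases mul_eq_zero.mp hA with h | h
    · exact absurd h (pow_ne_zero _ PowerSeries.X_ne_zero)
    · exact h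
  apply ext_nf k r
  · rw [hB, map_zero]
  · rw [hB', map_zero]

/-- the truncation functional -/
noncomputable def trf (k : Type u) [Field k] (r : ℕ) : ArSing.ring k r →ₗ[k] (Fin (r + 1) → k) :=
  LinearMap.pi fun i => (PowerSeries.coeff (R := k) (i : ℕ)).comp (cA k r)

lemma trf_apply (z : ArSing.ring k r) (i : Fin (r + 1)) :
    trf k r z i = PowerSeries.coeff (i : ℕ) (cA k r z) := rfl

lemma trf_surj : Function.Surjective (trf k r) := by
  intro v
  refine ⟨ArSing.xMap k r (PowerSeries.mk fun n => if h : n < r + 1 then v ⟨n, h⟩ else 0), ?_⟩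
  ext i
  rw [trf_apply, cA_xMap, PowerSeries.coeff_mk, dif_pos i.2]

lemma trf_ker (z : ArSing.ring k r) : trf k r z = 0 ↔ z ∈ Ideal.span {ArSing.y k r} := by
  constructor
  · intro h
    have h1 : PowerSeries.X ^ (r + 1) ∣ cA k r z := by
      rw [PowerSeries.X_pow_dvd_iff]
      intro m hm
      have := congrFun h ⟨m, hm⟩
      rwa [trf_apply] at this
    obtain ⟨a', ha'⟩ := h1
    rw [Ideal.mem_span_singleton']
    refine ⟨ArSing.y k r * ArSing.xMap k r a' + ArSing.xMap k r (cB k r z), ?_⟩
    conv_rhs => rw [eq_nf k r z, ha', map_mul, map_pow, xMap_X, ← y_sq]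
    ring
  · intro h
    obtain ⟨w, rfl⟩ := Ideal.mem_span_singleton'.mp h
    ext i
    rw [trf_apply, mul_comm, cA_y_mul, PowerSeries.coeff_X_pow_mul', if_neg (by have := i.2; omega)]
    rfl

theorem main (k : Type u) [Field k] (r : ℕ)
    (h2 : (2 : k) ≠ 0)
    (σ : ArSing.ring k r ≃ₐ[k] ArSing.ring k r) (hx : σ (ArSing.x k r) = ArSing.x k r)
    (hy : σ (ArSing.y k r) = -ArSing.y k r) :
    (∀ a : ArSing.ring k r, σ a = a ↔ a ∈ (ArSing.xMap k r).range) ∧
    ((ArSing.xMap k r).toRingHom.Flat ∧
      Ideal.map (ArSing.xMap k r) (IsLocalRing.maximalIdeal (PowerSeries k)) ≠ ⊤) ∧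
    (∃ g : ArSing.ring k r, g ∈ nonZeroDivisors (ArSing.ring k r) ∧
      Ideal.span (Set.range fun a : ArSing.ring k r => σ a - a) = Ideal.span {g}) ∧
    Module.length (ArSing.ring k r)
      (ArSing.ring k r ⧸ Ideal.span (Set.range fun a : ArSing.ring k r => σ a - a)) = r + 1 := by
  refine ⟨?_, ⟨flat_xMap k r, map_ne_top k r⟩, ⟨ArSing.y k r, y_mem_nzd, span_eq h2 σ hx hy⟩, ?_⟩
  · intro z
    constructor
    · intro hz
      have h1 : cB k r (σ z) = cB k r z := by rw [hz]
      rw [sigma_nf σ hx hy z, cB_nf] at h1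
      have h3 : (2 : k) • cB k r z = 0 := by
        rw [two_smul]
        nth_rewrite 1 [← h1]
        exact neg_add_cancel _
      have h4 : cB k r z = 0 := by
        rcases smul_eq_zero.mp h3 with h | h
        · exact absurd h h2
        · exact h
      refine ⟨cA k r z, ?_⟩
      conv_rhs => rw [eq_nf k r z, h4, map_zero, zero_mul, add_zero]
      rfl
    · rintro ⟨p, rfl⟩
      exact sigma_xMap σ hx p
  · rw [span_eq h2 σ hx hy]
    have := length_quot_eq k r (Ideal.span {ArSing.y k r}) (r + 1) (trf k r) trf_surj trf_ker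
    rw [this]
    push_cast
    rfl

end Aux

/-- For an algebraically closed field k of characteristic prime to 2 and to r+1 and the involution σ of
A_r = k[[x,y]]/(y^2 - x^(r+1)) with σ(x) = x, σ(y) = -y: the invariant subalgebra is k[[x]] (the
image of t ↦ x from k[[t]]), the inclusion k[[x]] → A_r is faithfully flat (flat, and the maximal
ideal of k[[t]] does not generate the unit ideal of A_r), and the fixed locus (the closed subscheme
cut out by all σ(a) - a) is a Cartier divisor of length r + 1, i.e. its ideal is generated by one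
nonzerodivisor and the quotient has length r + 1. -/
theorem result (k : Type u) [Field k] [IsAlgClosed k] (r : ℕ)
    (h2 : (2 : k) ≠ 0) (hr : ((r + 1 : ℕ) : k) ≠ 0)
    (σ : ArSing.ring k r ≃ₐ[k] ArSing.ring k r) (hx : σ (ArSing.x k r) = ArSing.x k r)
    (hy : σ (ArSing.y k r) = -ArSing.y k r) :
    (∀ a : ArSing.ring k r, σ a = a ↔ a ∈ (ArSing.xMap k r).range) ∧
    ((ArSing.xMap k r).toRingHom.Flat ∧
      Ideal.map (ArSing.xMap k r) (IsLocalRing.maximalIdeal (PowerSeries k)) ≠ ⊤) ∧
    (∃ g : ArSing.ring k r, g ∈ nonZeroDivisors (ArSing.ring k r) ∧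
      Ideal.span (Set.range fun a : ArSing.ring k r => σ a - a) = Ideal.span {g}) ∧
    Module.length (ArSing.ring k r)
      (ArSing.ring k r ⧸ Ideal.span (Set.range fun a : ArSing.ring k r => σ a - a)) = r + 1 := by
  exact Aux.main k r h2 σ hx hy

end Groth.Agent.S14093
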