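import Groth.Statements.S14094
import Mathlib
import Groth.Prelude.Def_W4c1arstab1appArSing
import Groth.Agent.Lib.Helper9.ArNF
import Groth.Agent.Lib.Helper9.ArNF2
-- import your own Groth.Agent.* helpers here

set_option autoImplicit false
universe u
open ArSing

namespace Groth.Agent.S14094

open ArSing
open Groth.Agent.Lib.Helper9.ArNF Groth.Agent.Lib.Helper9.ArNF2
namespace Aux

variable {k : Type u} [Field k] {r r' : ℕ}

lemma sigma_xMap (σ : ArSing.ring k r ≃ₐ[k] ArSing.ring k r)
    (hx : σ (ArSing.x k r) = -ArSing.x k r) (p : PowerSeries k) :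
    σ (ArSing.xMap k r p) = ArSing.xMap k r (negHom k p) := by
  refine algHom_xMap k r (σ : ArSing.ring k r →ₐ[k] ArSing.ring k r) (negHom k) ?_ ?_ p
  · rw [negHom_X, map_neg, xMap_X]
    exact hx
  · rw [negHom_X, map_neg, PowerSeries.constantCoeff_X, neg_zero]

lemma phi_xMap (φ : ArSing.ring k r' →ₐ[k] ArSing.ring k r)
    (hφx : φ (ArSing.x k r') = ArSing.x k r ^ 2) (p : PowerSeries k) :
    φ (ArSing.xMap k r' p) = ArSing.xMap k r (sqHom k p) := by
  refine algHom_xMap k r' φ (sqHom k) ?_ ?_ p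
  · rw [sqHom_X, map_pow, xMap_X]
    exact hφx
  · rw [sqHom_X, map_pow, PowerSeries.constantCoeff_X, zero_pow two_ne_zero]

lemma sigma_nf (σ : ArSing.ring k r ≃ₐ[k] ArSing.ring k r)
    (hx : σ (ArSing.x k r) = -ArSing.x k r) (hy : σ (ArSing.y k r) = ArSing.y k r)
    (z : ArSing.ring k r) :
    σ z = ArSing.xMap k r (negHom k (cA k r z)) +
      ArSing.xMap k r (negHom k (cB k r z)) * ArSing.y k r := by
  conv_lhs => rw [eq_nf k r z]
  rw [map_add, map_mul, sigma_xMap σ hx, sigma_xMap σ hx, hy]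

lemma phi_nf (φ : ArSing.ring k r' →ₐ[k] ArSing.ring k r)
    (hφx : φ (ArSing.x k r') = ArSing.x k r ^ 2) (hφy : φ (ArSing.y k r') = ArSing.y k r)
    (a b : PowerSeries k) :
    φ (ArSing.xMap k r' a + ArSing.xMap k r' b * ArSing.y k r') =
      ArSing.xMap k r (sqHom k a) + ArSing.xMap k r (sqHom k b) * ArSing.y k r := by
  rw [map_add, map_mul, phi_xMap φ hφx, phi_xMap φ hφx, hφy]

/-- the free basis map `(c, d) ↦ φ c + φ d * x` -/
lemma basis_formula (φ : ArSing.ring k r' →ₐ[k] ArSing.ring k r)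
    (hφx : φ (ArSing.x k r') = ArSing.x k r ^ 2) (hφy : φ (ArSing.y k r') = ArSing.y k r)
    (c d : ArSing.ring k r') :
    φ c + φ d * ArSing.x k r =
      ArSing.xMap k r (sqHom k (cA k r' c) + PowerSeries.X * sqHom k (cA k r' d)) +
      ArSing.xMap k r (sqHom k (cB k r' c) + PowerSeries.X * sqHom k (cB k r' d)) *
        ArSing.y k r := by
  have e1 := eq_nf k r' c
  have e2 := eq_nf k r' d
  conv_lhs => rw [e1, e2]
  rw [phi_nf φ hφx hφy, phi_nf φ hφx hφy]
  simp only [map_add, map_mul, xMap_X]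
  ring

lemma basis_bijective (φ : ArSing.ring k r' →ₐ[k] ArSing.ring k r)
    (hφx : φ (ArSing.x k r') = ArSing.x k r ^ 2) (hφy : φ (ArSing.y k r') = ArSing.y k r) :
    Function.Bijective fun p : ArSing.ring k r' × ArSing.ring k r' =>
      φ p.1 + φ p.2 * ArSing.x k r := by
  constructor
  · rintro ⟨c, d⟩ ⟨c', d'⟩ h
    simp only at h
    rw [basis_formula φ hφx hφy, basis_formula φ hφx hφy] at h
    have hA := congrArg (cA k r) h
    have hB := congrArg (cB k r) h
    rw [cA_nf, cA_nf] at hA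
    rw [cB_nf, cB_nf] at hB
    have hA1 := congrArg ev hA
    have hA2 := congrArg od hA
    have hB1 := congrArg ev hB
    have hB2 := congrArg od hB
    rw [ev_comb, ev_comb] at hA1 hB1
    rw [od_comb, od_comb] at hA2 hB2
    rw [Prod.mk.injEq]
    exact ⟨ext_nf k r' hA1 hB1, ext_nf k r' hA2 hB2⟩
  · intro z
    refine ⟨(ArSing.xMap k r' (ev (cA k r z)) + ArSing.xMap k r' (ev (cB k r z)) * ArSing.y k r',
      ArSing.xMap k r' (od (cA k r z)) + ArSing.xMap k r' (od (cB k r z)) * ArSing.y k r'), ?_⟩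
    simp only
    rw [basis_formula φ hφx hφy, cA_nf, cA_nf, cB_nf, cB_nf, ← decomp, ← decomp]
    exact (eq_nf k r z).symm

lemma flat_phi (φ : ArSing.ring k r' →ₐ[k] ArSing.ring k r)
    (hφx : φ (ArSing.x k r') = ArSing.x k r ^ 2) (hφy : φ (ArSing.y k r') = ArSing.y k r) :
    φ.toRingHom.Flat := by
  letI : Algebra (ArSing.ring k r') (ArSing.ring k r) := φ.toRingHom.toAlgebra
  show Module.Flat (ArSing.ring k r') (ArSing.ring k r)
  have hsm : ∀ (p : ArSing.ring k r') (z : ArSing.ring k r), p • z = φ p * z :=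
    fun p z => rfl
  let f : (ArSing.ring k r' × ArSing.ring k r') →ₗ[ArSing.ring k r'] ArSing.ring k r :=
    { toFun := fun p => φ p.1 + φ p.2 * ArSing.x k r
      map_add' := by
        intro p q
        simp only [Prod.fst_add, Prod.snd_add, map_add]
        ring
      map_smul' := by
        intro p q
        rw [RingHom.id_apply, hsm]
        simp only [Prod.smul_fst, Prod.smul_snd, smul_eq_mul, map_mul]
        ring }
  let e : (ArSing.ring k r' × ArSing.ring k r') ≃ₗ[ArSing.ring k r'] ArSing.ring k r :=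
    LinearEquiv.ofBijective f (basis_bijective φ hφx hφy)
  exact Module.Flat.of_linearEquiv e.symm

lemma eps_phi (φ : ArSing.ring k r' →ₐ[k] ArSing.ring k r)
    (hφx : φ (ArSing.x k r') = ArSing.x k r ^ 2) (hφy : φ (ArSing.y k r') = ArSing.y k r)
    (w : ArSing.ring k r') : eps k r (φ w) = eps k r' w := by
  conv_lhs => rw [eq_nf k r' w]
  rw [phi_nf φ hφx hφy, eps_eq, cA_nf, constantCoeff_sqHom, eps_eq]

lemma map_ne_top (φ : ArSing.ring k r' →ₐ[k] ArSing.ring k r)
    (hφx : φ (ArSing.x k r') = ArSing.x k r ^ 2) (hφy : φ (ArSing.y k r') = ArSing.y k r)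
    (I : Ideal (ArSing.ring k r')) (hI : I.IsMaximal) : Ideal.map φ I ≠ ⊤ := by
  intro h
  have h1 : Ideal.map φ I ≤ RingHom.ker (eps k r) := by
    rw [Ideal.map_le_iff_le_comap]
    intro p hp
    rw [Ideal.mem_comap, RingHom.mem_ker]
    show eps k r (φ p) = 0
    rw [eps_phi φ hφx hφy, ← mem_maximalIdeal_iff]
    exact IsLocalRing.le_maximalIdeal hI.ne_top hp
  rw [h, top_le_iff] at h1
  have h2 : (1 : ArSing.ring k r) ∈ RingHom.ker (eps k r) := by rw [h1]; trivial
  rw [RingHom.mem_ker, map_one] at h2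
  exact one_ne_zero h2

lemma span_eq (h2 : (2 : k) ≠ 0) (σ : ArSing.ring k r ≃ₐ[k] ArSing.ring k r)
    (hx : σ (ArSing.x k r) = -ArSing.x k r) (hy : σ (ArSing.y k r) = ArSing.y k r) :
    Ideal.span (Set.range fun a : ArSing.ring k r => σ a - a) = Ideal.span {ArSing.x k r} := by
  apply le_antisymm
  · rw [Ideal.span_le]
    rintro _ ⟨z, rfl⟩
    show σ z - z ∈ Ideal.span {ArSing.x k r}
    have e := eq_nf k r z
    have e2 := sigma_nf σ hx hy z
    generalize cA k r z = a at e e2
    generalize cB k r z = b at e e2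
    rw [e2, e]
    have e3 : ArSing.xMap k r (negHom k a) + ArSing.xMap k r (negHom k b) * ArSing.y k r -
        (ArSing.xMap k r a + ArSing.xMap k r b * ArSing.y k r) =
        ArSing.xMap k r (negHom k a - a) + ArSing.xMap k r (negHom k b - b) * ArSing.y k r := by
      simp only [map_sub]
      ring
    rw [e3]
    apply Ideal.add_mem
    · apply xMap_mem_span_x
      rw [map_sub, constantCoeff_negHom, sub_self]
    · apply Ideal.mul_mem_right
      apply xMap_mem_span_x
      rw [map_sub, constantCoeff_negHom, sub_self]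
  · rw [Ideal.span_le, Set.singleton_subset_iff]
    have h1 : ArSing.x k r = algebraMap k (ArSing.ring k r) (-2)⁻¹ *
        (σ (ArSing.x k r) - ArSing.x k r) := by
      rw [hx]
      have e : -ArSing.x k r - ArSing.x k r = algebraMap k (ArSing.ring k r) (-2) * ArSing.x k r := by
        rw [map_neg, map_ofNat]
        ring
      rw [e, ← mul_assoc, ← map_mul, inv_mul_cancel₀ (neg_ne_zero.mpr h2), map_one, one_mul]
    rw [h1]
    exact Ideal.mul_mem_left _ _ (Ideal.subset_span ⟨_, rfl⟩)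

/-- the functional `z ↦ (a_0, b_0)` -/
noncomputable def trf (k : Type u) [Field k] (r : ℕ) : ArSing.ring k r →ₗ[k] (Fin 2 → k) :=
  LinearMap.pi ![(PowerSeries.coeff (R := k) 0).comp (cA k r),
    (PowerSeries.coeff (R := k) 0).comp (cB k r)]

lemma trf_zero (z : ArSing.ring k r) : trf k r z 0 = PowerSeries.coeff 0 (cA k r z) := rfl
lemma trf_one (z : ArSing.ring k r) : trf k r z 1 = PowerSeries.coeff 0 (cB k r z) := rfl

lemma trf_surj : Function.Surjective (trf k r) := by
  intro v
  refine ⟨ArSing.xMap k r (PowerSeries.C (v 0)) +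
    ArSing.xMap k r (PowerSeries.C (v 1)) * ArSing.y k r, ?_⟩
  ext i
  fin_cases i
  · show trf k r _ 0 = v 0
    rw [trf_zero, cA_nf, PowerSeries.coeff_zero_C]
  · show trf k r _ 1 = v 1
    rw [trf_one, cB_nf, PowerSeries.coeff_zero_C]

lemma trf_ker (z : ArSing.ring k r) : trf k r z = 0 ↔ z ∈ Ideal.span {ArSing.x k r} := by
  constructor
  · intro h
    have h0 : PowerSeries.constantCoeff (cA k r z) = 0 := by
      have := congrFun h 0
      rwa [trf_zero, PowerSeries.coeff_zero_eq_constantCoeff_apply] at this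
    have h1 : PowerSeries.constantCoeff (cB k r z) = 0 := by
      have := congrFun h 1
      rwa [trf_one, PowerSeries.coeff_zero_eq_constantCoeff_apply] at this
    rw [eq_nf k r z]
    apply Ideal.add_mem
    · exact xMap_mem_span_x k r h0
    · exact Ideal.mul_mem_right _ _ (xMap_mem_span_x k r h1)
  · intro h
    obtain ⟨w, rfl⟩ := Ideal.mem_span_singleton'.mp h
    ext i
    fin_cases i
    · show trf k r _ 0 = 0
      rw [trf_zero, mul_comm, cA_x_mul, PowerSeries.coeff_zero_X_mul]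
    · show trf k r _ 1 = 0
      rw [trf_one, mul_comm, cB_x_mul, PowerSeries.coeff_zero_X_mul]

theorem main (k : Type u) [Field k] (r' r : ℕ)
    (h2 : (2 : k) ≠ 0)
    (σ : ArSing.ring k r ≃ₐ[k] ArSing.ring k r) (hx : σ (ArSing.x k r) = -ArSing.x k r)
    (hy : σ (ArSing.y k r) = ArSing.y k r)
    (φ : ArSing.ring k r' →ₐ[k] ArSing.ring k r) (hφx : φ (ArSing.x k r') = ArSing.x k r ^ 2)
    (hφy : φ (ArSing.y k r') = ArSing.y k r) :
    (∀ a : ArSing.ring k r, σ a = a ↔ a ∈ φ.range) ∧
    (φ.toRingHom.Flat ∧ ∀ I : Ideal (ArSing.ring k r'), I.IsMaximal → Ideal.map φ I ≠ ⊤) ∧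
    (∃ g : ArSing.ring k r, g ∈ nonZeroDivisors (ArSing.ring k r) ∧ Ideal.span (Set.range fun a : ArSing.ring k r => σ a - a) = Ideal.span {g}) ∧
    Module.length (ArSing.ring k r) (ArSing.ring k r ⧸ Ideal.span (Set.range fun a : ArSing.ring k r => σ a - a)) = 2 := by
  refine ⟨?_, ⟨flat_phi φ hφx hφy, map_ne_top φ hφx hφy⟩,
    ⟨ArSing.x k r, x_mem_nzd k r, span_eq h2 σ hx hy⟩, ?_⟩
  · intro z
    constructor
    · intro hz
      have hA : cA k r (σ z) = cA k r z := by rw [hz]
      have hB : cB k r (σ z) = cB k r z := by rw [hz]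
      rw [sigma_nf σ hx hy z, cA_nf] at hA
      rw [sigma_nf σ hx hy z, cB_nf] at hB
      rw [negHom_eq_self_iff h2] at hA hB
      refine ⟨ArSing.xMap k r' (ev (cA k r z)) +
        ArSing.xMap k r' (ev (cB k r z)) * ArSing.y k r', ?_⟩
      show φ _ = z
      rw [phi_nf φ hφx hφy, ← hA, ← hB]
      exact (eq_nf k r z).symm
    · rintro ⟨w, rfl⟩
      show σ (φ w) = φ w
      rw [eq_nf k r' w, phi_nf φ hφx hφy, map_add, map_mul, sigma_xMap σ hx, sigma_xMap σ hx, hy]
      have e : ∀ p : PowerSeries k, negHom k (sqHom k p) = sqHom k p := by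
        intro p
        rw [negHom_eq_self_iff h2]
        have : ev (sqHom k p) = p := by
          have := ev_comb p 0
          rwa [map_zero, mul_zero, add_zero] at this
        rw [this]
      rw [e, e]
  · rw [span_eq h2 σ hx hy]
    have := length_quot_eq k r (Ideal.span {ArSing.x k r}) 2 (trf k r) trf_surj trf_ker
    rw [this]
    rfl

end Aux

/-- K algebraically closed of characteristic prime to 2 and to r+1, r = 2m - 1 with m ≥ 2, σ the
involution x ↦ -x, y ↦ y of A_r = k[[x,y]]/(y^2 - x^(r+1)), and φ : A_(m-1) → A_r the k-algebra map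
x ↦ x^2, y ↦ y. Then the invariant subalgebra of σ is the image of φ (so A_r^σ ≅ A_(m-1)), φ is
faithfully flat (flat, and the maximal ideal of A_(m-1) does not generate the unit ideal), and the
fixed locus of σ is a Cartier divisor of length 2: its ideal, generated by the elements σ(a) - a, is
generated by one nonzerodivisor and has quotient of length 2. -/
theorem result (k : Type u) [Field k] [IsAlgClosed k] (m r : ℕ)
    (hm : 2 ≤ m) (hr : r = 2 * m - 1) (h2 : (2 : k) ≠ 0) (hr1 : ((r + 1 : ℕ) : k) ≠ 0)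
    (σ : ArSing.ring k r ≃ₐ[k] ArSing.ring k r) (hx : σ (ArSing.x k r) = -ArSing.x k r)
    (hy : σ (ArSing.y k r) = ArSing.y k r)
    (φ : ArSing.ring k (m - 1) →ₐ[k] ArSing.ring k r) (hφx : φ (ArSing.x k (m - 1)) = ArSing.x k r ^ 2)
    (hφy : φ (ArSing.y k (m - 1)) = ArSing.y k r) :
    (∀ a : ArSing.ring k r, σ a = a ↔ a ∈ φ.range) ∧
    (φ.toRingHom.Flat ∧ ∀ I : Ideal (ArSing.ring k (m - 1)), I.IsMaximal → Ideal.map φ I ≠ ⊤) ∧
    (∃ g : ArSing.ring k r, g ∈ nonZeroDivisors (ArSing.ring k r) ∧ Ideal.span (Set.range fun a : ArSing.ring k r => σ a - a) = Ideal.span {g}) ∧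
    Module.length (ArSing.ring k r) (ArSing.ring k r ⧸ Ideal.span (Set.range fun a : ArSing.ring k r => σ a - a)) = 2 := by
  exact Aux.main k (m - 1) r h2 σ hx hy φ hφx hφy

end Groth.Agent.S14094
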