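import Groth.Statements.S14095
import Mathlib
import Groth.Prelude.Def_W4c1arstab1appArSing
import Groth.Agent.Lib.Helper9.ArNF
import Groth.Agent.Lib.Helper9.ArNF2
import Groth.Agent.Lib.Helper9.FlatRel
-- import your own Groth.Agent.* helpers here

set_option autoImplicit false
universe u
open ArSing

namespace Groth.Agent.S14095

open ArSing
open Groth.Agent.Lib.Helper9.ArNF Groth.Agent.Lib.Helper9.ArNF2
namespace Aux

variable {k : Type u} [Field k] {r r' : ℕ}

lemma sigma_xMap (σ : ArSing.ring k r ≃ₐ[k] ArSing.ring k r)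
    (hx : σ (ArSing.x k r) = -ArSing.x k r) (p : PowerSeries k) :
    σ (ArSing.xMap k r p) = ArSing.xMap k r (negHom k p) := by
  refine algHom_xMap k r (σ : ArSing.ring k r →ₐ[k] ArSing.ring k r) (negHom k) ?_ ?_ p
  · rw [negHom_X, map_neg, xMap_X]
    exact hx
  · rw [negHom_X, map_neg, PowerSeries.constantCoeff_X, neg_zero]

lemma phi_xMap (φ : ArSing.ring k r' →ₐ[k] ArSing.ring k r)
    (hφx : φ (ArSing.x k r') = ArSing.x k r ^ 2) (p : PowerSeries k) :
    φ (ArSing.xMap k r' p) = ArSing.xMap k r (sqHom k p) := by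
  refine algHom_xMap k r' φ (sqHom k) ?_ ?_ p
  · rw [sqHom_X, map_pow, xMap_X]
    exact hφx
  · rw [sqHom_X, map_pow, PowerSeries.constantCoeff_X, zero_pow two_ne_zero]

lemma sigma_nf (σ : ArSing.ring k r ≃ₐ[k] ArSing.ring k r)
    (hx : σ (ArSing.x k r) = -ArSing.x k r) (hy : σ (ArSing.y k r) = -ArSing.y k r)
    (z : ArSing.ring k r) :
    σ z = ArSing.xMap k r (negHom k (cA k r z)) +
      ArSing.xMap k r (-negHom k (cB k r z)) * ArSing.y k r := by
  conv_lhs => rw [eq_nf k r z]
  rw [map_add, map_mul, sigma_xMap σ hx, sigma_xMap σ hx, hy, map_neg]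
  ring

lemma phi_nf (φ : ArSing.ring k r' →ₐ[k] ArSing.ring k r)
    (hφx : φ (ArSing.x k r') = ArSing.x k r ^ 2)
    (hφy : φ (ArSing.y k r') = ArSing.x k r * ArSing.y k r)
    (a b : PowerSeries k) :
    φ (ArSing.xMap k r' a + ArSing.xMap k r' b * ArSing.y k r') =
      ArSing.xMap k r (sqHom k a) +
        ArSing.xMap k r (PowerSeries.X * sqHom k b) * ArSing.y k r := by
  rw [map_add, map_mul, phi_xMap φ hφx, phi_xMap φ hφx, hφy, map_mul, xMap_X]
  ring

lemma phi_injective (φ : ArSing.ring k r' →ₐ[k] ArSing.ring k r)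
    (hφx : φ (ArSing.x k r') = ArSing.x k r ^ 2)
    (hφy : φ (ArSing.y k r') = ArSing.x k r * ArSing.y k r) : Function.Injective φ := by
  rw [injective_iff_map_eq_zero]
  intro w hw
  rw [eq_nf k r' w, phi_nf φ hφx hφy] at hw
  obtain ⟨h1, h2⟩ := nf_zero k r _ _ hw
  have hA : cA k r' w = 0 := by
    apply sqHom_injective
    rw [h1, map_zero]
  have hB : cB k r' w = 0 := by
    apply sqHom_injective
    rw [map_zero]
    rcases mul_eq_zero.mp h2 with h | h
    · exact absurd h PowerSeries.X_ne_zero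
    · exact h
  apply ext_nf k r'
  · rw [hA, map_zero]
  · rw [hB, map_zero]

lemma not_flat (φ : ArSing.ring k r' →ₐ[k] ArSing.ring k r)
    (hφx : φ (ArSing.x k r') = ArSing.x k r ^ 2)
    (hφy : φ (ArSing.y k r') = ArSing.x k r * ArSing.y k r) : ¬ φ.toRingHom.Flat := by
  intro hflat
  obtain ⟨κ, a₁, a₂, yy, h1, -, h2⟩ := Groth.Agent.Lib.Helper9.FlatRel.flat_rel φ.toRingHom hflat
    (ArSing.y k r') (-ArSing.x k r') (ArSing.x k r) (ArSing.y k r) (by
      show φ (ArSing.y k r') * ArSing.x k r + φ (-ArSing.x k r') * ArSing.y k r = 0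
      rw [map_neg, hφx, hφy]
      ring)
  have hε : ∀ j, eps k r' (a₁ j) = 0 := by
    intro j
    have h3 : ArSing.y k r' * a₁ j = ArSing.x k r' * a₂ j := by
      linear_combination h2 j
    have h4 := congrArg (cB k r') h3
    rw [cB_y_mul, cB_x_mul] at h4
    rw [eps_eq, h4, map_mul, PowerSeries.constantCoeff_X, zero_mul]
  have hw : ∀ j, ∃ w, φ (a₁ j) = ArSing.x k r * w ∧ eps k r w = 0 := by
    intro j
    obtain ⟨p, hp⟩ := exists_of_eps_eq_zero k r' (a₁ j) (hε j)
    generalize cB k r' (a₁ j) = b at hp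
    refine ⟨ArSing.x k r * ArSing.xMap k r (sqHom k p) +
      ArSing.xMap k r (sqHom k b) * ArSing.y k r, ?_, ?_⟩
    · rw [hp, map_add, map_mul, map_mul, hφx, hφy, phi_xMap φ hφx, phi_xMap φ hφx]
      ring
    · rw [map_add, map_mul, map_mul, eps_x, eps_y]
      ring
  choose w hw1 hw2 using hw
  have h5 : ArSing.x k r * 1 = ArSing.x k r * ∑ j, w j * yy j := by
    rw [mul_one, Finset.mul_sum]
    conv_lhs => rw [h1]
    apply Finset.sum_congr rfl
    intro j _
    show φ (a₁ j) * yy j = _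
    rw [hw1]
    ring
  rw [mul_cancel_left_mem_nonZeroDivisors (x_mem_nzd k r)] at h5
  have h6 := congrArg (eps k r) h5
  rw [map_one, map_sum] at h6
  have h7 : ∑ j, eps k r (w j * yy j) = 0 := by
    apply Finset.sum_eq_zero
    intro j _
    rw [map_mul, hw2, zero_mul]
  rw [h7] at h6
  exact one_ne_zero h6

lemma eps_sigma (σ : ArSing.ring k r ≃ₐ[k] ArSing.ring k r)
    (hx : σ (ArSing.x k r) = -ArSing.x k r) (hy : σ (ArSing.y k r) = -ArSing.y k r)
    (z : ArSing.ring k r) : eps k r (σ z) = eps k r z := by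
  rw [sigma_nf σ hx hy z, eps_eq, cA_nf, constantCoeff_negHom, eps_eq]

lemma span_eq (h2 : (2 : k) ≠ 0) (σ : ArSing.ring k r ≃ₐ[k] ArSing.ring k r)
    (hx : σ (ArSing.x k r) = -ArSing.x k r) (hy : σ (ArSing.y k r) = -ArSing.y k r) :
    Ideal.span (Set.range fun a : ArSing.ring k r => σ a - a) = RingHom.ker (eps k r) := by
  apply le_antisymm
  · rw [Ideal.span_le]
    rintro _ ⟨z, rfl⟩
    show σ z - z ∈ RingHom.ker (eps k r)
    rw [RingHom.mem_ker, map_sub, eps_sigma σ hx hy, sub_self]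
  · intro z hz
    rw [RingHom.mem_ker] at hz
    obtain ⟨p, hp⟩ := exists_of_eps_eq_zero k r z hz
    rw [hp]
    have hxm : ArSing.x k r ∈ Ideal.span (Set.range fun a : ArSing.ring k r => σ a - a) := by
      have h1 : ArSing.x k r = algebraMap k (ArSing.ring k r) (-2)⁻¹ *
          (σ (ArSing.x k r) - ArSing.x k r) := by
        rw [hx]
        have e : -ArSing.x k r - ArSing.x k r =
            algebraMap k (ArSing.ring k r) (-2) * ArSing.x k r := by
          rw [map_neg, map_ofNat]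
          ring
        rw [e, ← mul_assoc, ← map_mul, inv_mul_cancel₀ (neg_ne_zero.mpr h2), map_one, one_mul]
      rw [h1]
      exact Ideal.mul_mem_left _ _ (Ideal.subset_span ⟨_, rfl⟩)
    have hym : ArSing.y k r ∈ Ideal.span (Set.range fun a : ArSing.ring k r => σ a - a) := by
      have h1 : ArSing.y k r = algebraMap k (ArSing.ring k r) (-2)⁻¹ *
          (σ (ArSing.y k r) - ArSing.y k r) := by
        rw [hy]
        have e : -ArSing.y k r - ArSing.y k r =
            algebraMap k (ArSing.ring k r) (-2) * ArSing.y k r := by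
          rw [map_neg, map_ofNat]
          ring
        rw [e, ← mul_assoc, ← map_mul, inv_mul_cancel₀ (neg_ne_zero.mpr h2), map_one, one_mul]
      rw [h1]
      exact Ideal.mul_mem_left _ _ (Ideal.subset_span ⟨_, rfl⟩)
    exact Ideal.add_mem _ (Ideal.mul_mem_right _ _ hxm) (Ideal.mul_mem_left _ _ hym)

/-- the functional `z ↦ a_0` -/
noncomputable def trf (k : Type u) [Field k] (r : ℕ) : ArSing.ring k r →ₗ[k] (Fin 1 → k) :=
  LinearMap.pi fun _ => (PowerSeries.coeff (R := k) 0).comp (cA k r)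

lemma trf_apply (z : ArSing.ring k r) (i : Fin 1) :
    trf k r z i = PowerSeries.coeff 0 (cA k r z) := rfl

lemma trf_surj : Function.Surjective (trf k r) := by
  intro v
  refine ⟨ArSing.xMap k r (PowerSeries.C (v 0)), ?_⟩
  ext i
  rw [trf_apply, cA_xMap, PowerSeries.coeff_zero_C]
  congr 1
  exact (Subsingleton.elim _ _)

lemma trf_ker (z : ArSing.ring k r) : trf k r z = 0 ↔ z ∈ RingHom.ker (eps k r) := by
  rw [RingHom.mem_ker, eps_eq, ← PowerSeries.coeff_zero_eq_constantCoeff_apply]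
  constructor
  · intro h
    have := congrFun h 0
    rwa [trf_apply] at this
  · intro h
    ext i
    rw [trf_apply, h]
    rfl

lemma lam1 (hr : 1 ≤ r) (z g : ArSing.ring k r) (hg : eps k r g = 0) :
    PowerSeries.coeff 1 (cA k r (z * g)) = eps k r z * PowerSeries.coeff 1 (cA k r g) := by
  rw [cA_mul, map_add, PowerSeries.coeff_X_pow_mul', if_neg (by omega), add_zero]
  rw [eps_eq] at hg
  obtain ⟨p, hp⟩ := PowerSeries.X_dvd_iff.mpr hg
  rw [hp, ← mul_assoc, mul_comm (cA k r z), mul_assoc]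
  rw [show (1 : ℕ) = 0 + 1 from rfl, PowerSeries.coeff_succ_X_mul, PowerSeries.coeff_succ_X_mul,
    PowerSeries.coeff_zero_eq_constantCoeff_apply, PowerSeries.coeff_zero_eq_constantCoeff_apply,
    map_mul, eps_eq]

lemma lam2 (z g : ArSing.ring k r) (hg : eps k r g = 0) :
    PowerSeries.coeff 0 (cB k r (z * g)) = eps k r z * PowerSeries.coeff 0 (cB k r g) := by
  rw [cB_mul, map_add]
  rw [eps_eq] at hg
  simp only [PowerSeries.coeff_zero_eq_constantCoeff_apply, map_mul, hg, mul_zero, add_zero,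
    eps_eq]

lemma not_principal (hr : 1 ≤ r) (g : ArSing.ring k r)
    (hg : RingHom.ker (eps k r) = Ideal.span {g}) : False := by
  have hg0 : eps k r g = 0 := by
    rw [← RingHom.mem_ker, hg]
    exact Ideal.subset_span rfl
  have hxm : ArSing.x k r ∈ Ideal.span {g} := by
    rw [← hg, RingHom.mem_ker, eps_x]
  have hym : ArSing.y k r ∈ Ideal.span {g} := by
    rw [← hg, RingHom.mem_ker, eps_y]
  obtain ⟨z1, hz1⟩ := Ideal.mem_span_singleton'.mp hxm
  obtain ⟨z2, hz2⟩ := Ideal.mem_span_singleton'.mp hym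
  have e1 := lam1 hr z1 g hg0
  have e2 := lam2 z1 g hg0
  have e3 := lam2 z2 g hg0
  rw [hz1, cA_x, PowerSeries.coeff_one_X] at e1
  rw [hz1, cB_x, map_zero] at e2
  rw [hz2, cB_y, PowerSeries.coeff_zero_one] at e3
  have h1 : eps k r z1 ≠ 0 := by
    intro h
    rw [h, zero_mul] at e1
    exact one_ne_zero e1
  have h2 : PowerSeries.coeff 0 (cB k r g) = 0 := by
    rcases mul_eq_zero.mp e2.symm with h | h
    · exact absurd h h1
    · exact h
  rw [h2, mul_zero] at e3
  exact one_ne_zero e3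

theorem main (k : Type u) [Field k] (r' r : ℕ) (hr : 1 ≤ r)
    (h2 : (2 : k) ≠ 0)
    (σ : ArSing.ring k r ≃ₐ[k] ArSing.ring k r) (hx : σ (ArSing.x k r) = -ArSing.x k r)
    (hy : σ (ArSing.y k r) = -ArSing.y k r)
    (φ : ArSing.ring k r' →ₐ[k] ArSing.ring k r) (hφx : φ (ArSing.x k r') = ArSing.x k r ^ 2)
    (hφy : φ (ArSing.y k r') = ArSing.x k r * ArSing.y k r) :
    (∀ a : ArSing.ring k r, σ a = a ↔ a ∈ φ.range) ∧ Function.Injective φ ∧
    ¬ φ.toRingHom.Flat ∧
    Module.length (ArSing.ring k r) (ArSing.ring k r ⧸ Ideal.span (Set.range fun a : ArSing.ring k r => σ a - a)) = 1 ∧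
    ¬ (∃ g : ArSing.ring k r, g ∈ nonZeroDivisors (ArSing.ring k r) ∧ Ideal.span (Set.range fun a : ArSing.ring k r => σ a - a) = Ideal.span {g}) := by
  refine ⟨?_, phi_injective φ hφx hφy, not_flat φ hφx hφy, ?_, ?_⟩
  · intro z
    constructor
    · intro hz
      have hA : cA k r (σ z) = cA k r z := by rw [hz]
      have hB : cB k r (σ z) = cB k r z := by rw [hz]
      rw [sigma_nf σ hx hy z, cA_nf] at hA
      rw [sigma_nf σ hx hy z, cB_nf] at hB
      rw [negHom_eq_self_iff h2] at hA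
      rw [neg_negHom_eq_self_iff h2] at hB
      refine ⟨ArSing.xMap k r' (ev (cA k r z)) +
        ArSing.xMap k r' (od (cB k r z)) * ArSing.y k r', ?_⟩
      show φ _ = z
      rw [phi_nf φ hφx hφy, ← hA, ← hB]
      exact (eq_nf k r z).symm
    · rintro ⟨w, rfl⟩
      show σ (φ w) = φ w
      rw [eq_nf k r' w, phi_nf φ hφx hφy, map_add, map_mul, sigma_xMap σ hx, sigma_xMap σ hx, hy]
      have e : ∀ p : PowerSeries k, negHom k (sqHom k p) = sqHom k p := by
        intro p
        rw [negHom_eq_self_iff h2]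
        have : ev (sqHom k p) = p := by
          have := ev_comb p 0
          rwa [map_zero, mul_zero, add_zero] at this
        rw [this]
      have e' : ∀ p : PowerSeries k, negHom k (PowerSeries.X * sqHom k p) =
          -(PowerSeries.X * sqHom k p) := by
        intro p
        rw [map_mul, e, negHom_X]
        ring
      rw [e, e', map_neg]
      ring
  · rw [span_eq h2 σ hx hy]
    have := length_quot_eq k r (RingHom.ker (eps k r)) 1 (trf k r) trf_surj trf_ker
    rw [this]
    rfl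
  · rintro ⟨g, -, hg⟩
    rw [span_eq h2 σ hx hy] at hg
    exact not_principal hr g hg

end Aux

/-- K algebraically closed of characteristic prime to 2 and to r+1, r = 2m - 1 with m ≥ 1, σ the
involution x ↦ -x, y ↦ -y of A_r = k[[x,y]]/(y^2 - x^(r+1)), and φ : A_m → A_r the k-algebra map x ↦
x^2, y ↦ xy. Then the invariant subalgebra of σ is the image of φ and φ is injective (so A_r^σ ≅
A_m), φ is not flat, and the fixed locus of σ is the reduced closed point and is not a Cartier
divisor: the ideal generated by the elements σ(a) - a has quotient of length 1 and is not generated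
by one nonzerodivisor. -/
theorem result (k : Type u) [Field k] [IsAlgClosed k] (m r : ℕ)
    (hm : 1 ≤ m) (hr : r = 2 * m - 1) (h2 : (2 : k) ≠ 0) (hr1 : ((r + 1 : ℕ) : k) ≠ 0)
    (σ : ArSing.ring k r ≃ₐ[k] ArSing.ring k r) (hx : σ (ArSing.x k r) = -ArSing.x k r)
    (hy : σ (ArSing.y k r) = -ArSing.y k r)
    (φ : ArSing.ring k m →ₐ[k] ArSing.ring k r) (hφx : φ (ArSing.x k m) = ArSing.x k r ^ 2)
    (hφy : φ (ArSing.y k m) = ArSing.x k r * ArSing.y k r) :
    (∀ a : ArSing.ring k r, σ a = a ↔ a ∈ φ.range) ∧ Function.Injective φ ∧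
    ¬ φ.toRingHom.Flat ∧
    Module.length (ArSing.ring k r) (ArSing.ring k r ⧸ Ideal.span (Set.range fun a : ArSing.ring k r => σ a - a)) = 1 ∧
    ¬ (∃ g : ArSing.ring k r, g ∈ nonZeroDivisors (ArSing.ring k r) ∧ Ideal.span (Set.range fun a : ArSing.ring k r => σ a - a) = Ideal.span {g}) := by
  exact Aux.main k m r (by omega) h2 σ hx hy φ hφx hφy

end Groth.Agent.S14095
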