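import Groth.Statements.S14096
import Mathlib
import Groth.Prelude.Def_W4c1arstab1appArSing
import Groth.Agent.Lib.Helper9.ArNF
import Groth.Agent.Lib.Helper9.ArNF2
import Groth.Agent.Lib.Helper9.FlatRel
-- import your own Groth.Agent.* helpers here

set_option autoImplicit false
universe u
open ArSing

namespace Groth.Agent.S14096

open ArSing
open Groth.Agent.Lib.Helper9.ArNF Groth.Agent.Lib.Helper9.ArNF2
namespace Aux

variable {k : Type u} [Field k]

/-- `a(t) ↦ a(ct)` as an algebra map -/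
noncomputable def scaleHom (c : k) : PowerSeries k →ₐ[k] PowerSeries k :=
  { PowerSeries.rescale c with
    commutes' := fun d => by
      show PowerSeries.rescale c (PowerSeries.C d) = PowerSeries.C d
      ext n
      rw [PowerSeries.coeff_rescale, PowerSeries.coeff_C]
      split_ifs with h
      · subst h; simp
      · simp }

lemma coeff_scaleHom (c : k) (a : PowerSeries k) (n : ℕ) :
    PowerSeries.coeff n (scaleHom c a) = c ^ n * PowerSeries.coeff n a :=
  PowerSeries.coeff_rescale a c n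

lemma scaleHom_X (c : k) : scaleHom c (PowerSeries.X : PowerSeries k) = PowerSeries.C c * PowerSeries.X :=
  PowerSeries.rescale_X c

lemma scaleHom_scaleHom (c d : k) (hcd : c * d = 1) (a : PowerSeries k) :
    scaleHom c (scaleHom d a) = a := by
  ext n
  rw [coeff_scaleHom, coeff_scaleHom, ← mul_assoc, ← mul_pow, hcd, one_pow, one_mul]

lemma constantCoeff_scaleHom (c : k) (a : PowerSeries k) :
    PowerSeries.constantCoeff (scaleHom c a) = PowerSeries.constantCoeff a := by
  rw [← PowerSeries.coeff_zero_eq_constantCoeff_apply, coeff_scaleHom, pow_zero, one_mul,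
    PowerSeries.coeff_zero_eq_constantCoeff_apply]

lemma scaleHom_injective (c : k) (hc : c ≠ 0) : Function.Injective (scaleHom c) := by
  intro a b h
  rw [← scaleHom_scaleHom c⁻¹ c (inv_mul_cancel₀ hc) a, h, scaleHom_scaleHom c⁻¹ c (inv_mul_cancel₀ hc)]

/-- algebra endomorphisms of `k[[t]]` are determined by the image of `t` -/
theorem ps_algHom_ext (F G : PowerSeries k →ₐ[k] PowerSeries k)
    (hX : F PowerSeries.X = G PowerSeries.X)
    (h0 : PowerSeries.constantCoeff (F PowerSeries.X) = 0) : F = G := by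
  have key : ∀ N : ℕ, ∀ p : PowerSeries k, PowerSeries.X ^ N ∣ F p - G p := by
    intro N
    induction N with
    | zero =>
      intro p
      rw [pow_zero]
      exact one_dvd _
    | succ N ih =>
      intro p
      have hp := PowerSeries.eq_X_mul_shift_add_const p
      set p' := PowerSeries.mk fun i => PowerSeries.coeff (i + 1) p with hp'
      have e : F p - G p = F PowerSeries.X * (F p' - G p') := by
        rw [hp, map_add, map_add, map_mul, map_mul, hX]
        have hc : F (PowerSeries.C (PowerSeries.constantCoeff p)) =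
            G (PowerSeries.C (PowerSeries.constantCoeff p)) := by
          rw [show PowerSeries.C (PowerSeries.constantCoeff p) =
            algebraMap k (PowerSeries k) (PowerSeries.constantCoeff p) from rfl,
            F.commutes, G.commutes]
        rw [hc]
        ring
      rw [e, pow_succ']
      exact mul_dvd_mul (PowerSeries.X_dvd_iff.mpr h0) (ih p')
  apply AlgHom.ext
  intro p
  rw [← sub_eq_zero]
  ext n
  rw [map_zero]
  exact PowerSeries.X_pow_dvd_iff.mp (key (n + 1) p) n (Nat.lt_succ_self n)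

/-! ### the two branch maps -/

/-- restriction to the branch `y = x` -/
noncomputable def pP (k : Type u) [Field k] : ArSing.ring k 1 →ₐ[k] PowerSeries k :=
  AlgHom.ofLinearMap (cA k 1 + (LinearMap.mulLeft k (PowerSeries.X : PowerSeries k)).comp (cB k 1))
    (by
      have h1 : (1 : ArSing.ring k 1) = ArSing.xMap k 1 1 := (map_one _).symm
      rw [LinearMap.add_apply, LinearMap.comp_apply, h1, cA_xMap, cB_xMap, map_zero, add_zero])
    (by
      intro z w
      simp only [LinearMap.add_apply, LinearMap.comp_apply, LinearMap.mulLeft_apply, cA_mul, cB_mul]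
      ring)

/-- restriction to the branch `y = -x` -/
noncomputable def pM (k : Type u) [Field k] : ArSing.ring k 1 →ₐ[k] PowerSeries k :=
  AlgHom.ofLinearMap (cA k 1 - (LinearMap.mulLeft k (PowerSeries.X : PowerSeries k)).comp (cB k 1))
    (by
      have h1 : (1 : ArSing.ring k 1) = ArSing.xMap k 1 1 := (map_one _).symm
      rw [LinearMap.sub_apply, LinearMap.comp_apply, h1, cA_xMap, cB_xMap, map_zero, sub_zero])
    (by
      intro z w
      simp only [LinearMap.sub_apply, LinearMap.comp_apply, LinearMap.mulLeft_apply, cA_mul, cB_mul]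
      ring)

lemma pP_apply (z : ArSing.ring k 1) : pP k z = cA k 1 z + PowerSeries.X * cB k 1 z := rfl
lemma pM_apply (z : ArSing.ring k 1) : pM k z = cA k 1 z - PowerSeries.X * cB k 1 z := rfl

lemma pP_xMap (a : PowerSeries k) : pP k (ArSing.xMap k 1 a) = a := by
  rw [pP_apply, cA_xMap, cB_xMap, mul_zero, add_zero]
lemma pM_xMap (a : PowerSeries k) : pM k (ArSing.xMap k 1 a) = a := by
  rw [pM_apply, cA_xMap, cB_xMap, mul_zero, sub_zero]
lemma pP_x : pP k (ArSing.x k 1) = PowerSeries.X := by rw [← xMap_X, pP_xMap]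
lemma pM_x : pM k (ArSing.x k 1) = PowerSeries.X := by rw [← xMap_X, pM_xMap]
lemma pP_y : pP k (ArSing.y k 1) = PowerSeries.X := by
  rw [pP_apply, cA_y, cB_y, mul_one, zero_add]
lemma pM_y : pM k (ArSing.y k 1) = -PowerSeries.X := by
  rw [pM_apply, cA_y, cB_y, mul_one, zero_sub]

lemma pP_nf (z : ArSing.ring k 1) : pP k z = cA k 1 z + cB k 1 z * PowerSeries.X := by
  rw [pP_apply, mul_comm]
lemma pM_nf (z : ArSing.ring k 1) : pM k z = cA k 1 z - cB k 1 z * PowerSeries.X := by
  rw [pM_apply, mul_comm]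

lemma ps_two_cancel (h2 : (2 : k) ≠ 0) {a : PowerSeries k} (h : a + a = 0) : a = 0 := by
  have h3 : (2 : k) • a = 0 := by rw [two_smul]; exact h
  rcases smul_eq_zero.mp h3 with h | h
  · exact absurd h h2
  · exact h

lemma joint_inj (h2 : (2 : k) ≠ 0) {z w : ArSing.ring k 1} (hP : pP k z = pP k w)
    (hM : pM k z = pM k w) : z = w := by
  rw [pP_apply, pP_apply] at hP
  rw [pM_apply, pM_apply] at hM
  have hA : cA k 1 z - cA k 1 w = 0 := by
    apply ps_two_cancel h2
    linear_combination hP + hM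
  have hB : cB k 1 z - cB k 1 w = 0 := by
    have h3 : PowerSeries.X * (cB k 1 z - cB k 1 w) = 0 := by
      apply ps_two_cancel h2
      linear_combination hP - hM
    rcases mul_eq_zero.mp h3 with h | h
    · exact absurd h PowerSeries.X_ne_zero
    · exact h
  exact ext_nf k 1 (sub_eq_zero.mp hA) (sub_eq_zero.mp hB)

lemma constantCoeff_pP (z : ArSing.ring k 1) :
    PowerSeries.constantCoeff (pP k z) = eps k 1 z := by
  rw [pP_apply, map_add, map_mul, PowerSeries.constantCoeff_X, zero_mul, add_zero, eps_eq]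

lemma constantCoeff_pM (z : ArSing.ring k 1) :
    PowerSeries.constantCoeff (pM k z) = eps k 1 z := by
  rw [pM_apply, map_sub, map_mul, PowerSeries.constantCoeff_X, zero_mul, sub_zero, eps_eq]

lemma C_two_inv_add (h2 : (2 : k) ≠ 0) (a : PowerSeries k) :
    PowerSeries.C (2 : k)⁻¹ * (a + a) = a := by
  rw [← two_mul, ← mul_assoc]
  have : (PowerSeries.C (2 : k)⁻¹ * 2 : PowerSeries k) = 1 := by
    rw [show (2 : PowerSeries k) = PowerSeries.C (2 : k) from (map_ofNat (PowerSeries.C (R := k)) 2).symm, ← map_mul,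
      inv_mul_cancel₀ h2, map_one]
  rw [this, one_mul]

lemma joint_surj (h2 : (2 : k) ≠ 0) (f g : PowerSeries k)
    (h : PowerSeries.constantCoeff f = PowerSeries.constantCoeff g) :
    ∃ z : ArSing.ring k 1, pP k z = f ∧ pM k z = g := by
  have hd : PowerSeries.X ∣ f - g := by
    rw [PowerSeries.X_dvd_iff, map_sub, h, sub_self]
  obtain ⟨q, hq⟩ := hd
  refine ⟨ArSing.xMap k 1 (PowerSeries.C (2 : k)⁻¹ * (f + g)) +
    ArSing.xMap k 1 (PowerSeries.C (2 : k)⁻¹ * q) * ArSing.y k 1, ?_, ?_⟩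
  · rw [pP_apply, cA_nf, cB_nf]
    have e : PowerSeries.C (2 : k)⁻¹ * (f + g) + PowerSeries.X * (PowerSeries.C (2 : k)⁻¹ * q) =
        PowerSeries.C (2 : k)⁻¹ * (f + f) := by
      linear_combination (PowerSeries.C (2 : k)⁻¹) * hq.symm
    rw [e, C_two_inv_add h2]
  · rw [pM_apply, cA_nf, cB_nf]
    have e : PowerSeries.C (2 : k)⁻¹ * (f + g) - PowerSeries.X * (PowerSeries.C (2 : k)⁻¹ * q) =
        PowerSeries.C (2 : k)⁻¹ * (g + g) := by
      linear_combination (-PowerSeries.C (2 : k)⁻¹) * hq.symm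
    rw [e, C_two_inv_add h2]

/-- how an algebra endomorphism acts on `k[[x]]` through a branch map -/
lemma comp_xMap (P : ArSing.ring k 1 →ₐ[k] PowerSeries k)
    (Φ : ArSing.ring k 1 →ₐ[k] ArSing.ring k 1) (S : PowerSeries k →ₐ[k] PowerSeries k)
    (h : P (Φ (ArSing.x k 1)) = S PowerSeries.X)
    (h0 : PowerSeries.constantCoeff (S PowerSeries.X) = 0) (a : PowerSeries k) :
    P (Φ (ArSing.xMap k 1 a)) = S a := by
  have h1 := ps_algHom_ext ((P.comp Φ).comp (ArSing.xMap k 1)) S
    (by rw [AlgHom.comp_apply, AlgHom.comp_apply, xMap_X, h])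
    (by rw [AlgHom.comp_apply, AlgHom.comp_apply, xMap_X, h, h0])
  exact DFunLike.congr_fun h1 a

/-- general branch formula -/
lemma branch_formula (P : ArSing.ring k 1 →ₐ[k] PowerSeries k)
    (Φ : ArSing.ring k 1 →ₐ[k] ArSing.ring k 1) (S : PowerSeries k →ₐ[k] PowerSeries k)
    (h : P (Φ (ArSing.x k 1)) = S PowerSeries.X)
    (h0 : PowerSeries.constantCoeff (S PowerSeries.X) = 0) (z : ArSing.ring k 1) :
    P (Φ z) = S (cA k 1 z) + S (cB k 1 z) * P (Φ (ArSing.y k 1)) := by
  conv_lhs => rw [eq_nf k 1 z]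
  rw [map_add, map_add, map_mul, map_mul, comp_xMap P Φ S h h0, comp_xMap P Φ S h h0]

/-! ### the specific maps -/

/-- the substitution `t ↦ -2 t^2` -/
noncomputable def SS (k : Type u) [Field k] : PowerSeries k →ₐ[k] PowerSeries k :=
  (sqHom k).comp (scaleHom (-2 : k))

lemma SS_apply (a : PowerSeries k) : SS k a = sqHom k (scaleHom (-2 : k) a) := rfl

lemma sqHom_C (c : k) : sqHom k (PowerSeries.C c) = PowerSeries.C c :=
  (sqHom k).commutes c

lemma SS_X : SS k (PowerSeries.X : PowerSeries k) = PowerSeries.C (-2 : k) * PowerSeries.X ^ 2 := by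
  rw [SS_apply, scaleHom_X, map_mul, sqHom_C, sqHom_X]

lemma constantCoeff_SS (a : PowerSeries k) :
    PowerSeries.constantCoeff (SS k a) = PowerSeries.constantCoeff a := by
  rw [SS_apply, constantCoeff_sqHom, constantCoeff_scaleHom]

lemma SS_injective (h2 : (2 : k) ≠ 0) : Function.Injective (SS k) := by
  intro a b h
  exact scaleHom_injective (-2) (neg_ne_zero.mpr h2) (sqHom_injective h)

lemma negHom_sqHom (h2 : (2 : k) ≠ 0) (p : PowerSeries k) : negHom k (sqHom k p) = sqHom k p := by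
  rw [negHom_eq_self_iff h2]
  have : ev (sqHom k p) = p := by
    have := ev_comb p 0
    rwa [map_zero, mul_zero, add_zero] at this
  rw [this]

section maps
variable (σ : ArSing.ring k 1 ≃ₐ[k] ArSing.ring k 1) (hx : σ (ArSing.x k 1) = ArSing.y k 1)
    (hy : σ (ArSing.y k 1) = ArSing.x k 1)

include hx hy in
lemma pP_sigma (z : ArSing.ring k 1) : pP k (σ z) = pP k z := by
  have h := branch_formula (pP k) (σ : ArSing.ring k 1 →ₐ[k] ArSing.ring k 1)
    (AlgHom.id k (PowerSeries k))
    (by show pP k (σ (ArSing.x k 1)) = _; rw [hx, pP_y]; rfl)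
    (by show PowerSeries.constantCoeff (PowerSeries.X : PowerSeries k) = 0
        exact PowerSeries.constantCoeff_X) z
  change pP k (σ z) = cA k 1 z + cB k 1 z * pP k (σ (ArSing.y k 1)) at h
  rw [h, hy, pP_x, pP_nf]

include hx hy in
lemma pM_sigma (z : ArSing.ring k 1) : pM k (σ z) = negHom k (pM k z) := by
  have h := branch_formula (pM k) (σ : ArSing.ring k 1 →ₐ[k] ArSing.ring k 1)
    (negHom k)
    (by show pM k (σ (ArSing.x k 1)) = _; rw [hx, pM_y, negHom_X])
    (by rw [negHom_X, map_neg, PowerSeries.constantCoeff_X, neg_zero]) z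
  change pM k (σ z) = negHom k (cA k 1 z) + negHom k (cB k 1 z) * pM k (σ (ArSing.y k 1)) at h
  rw [h, hy, pM_x, pM_nf, map_sub, map_mul, negHom_X]
  ring

end maps

section phi
variable (h2 : (2 : k) ≠ 0) (φ : ArSing.ring k 1 →ₐ[k] ArSing.ring k 1)
    (hφu : φ (ArSing.x k 1 + ArSing.y k 1) = ArSing.x k 1 + ArSing.y k 1)
    (hφv : φ (ArSing.y k 1 - ArSing.x k 1) = (ArSing.y k 1 - ArSing.x k 1) ^ 2)

include h2 hφu hφv in
lemma pP_phi_xy : pP k (φ (ArSing.x k 1)) = PowerSeries.X ∧
    pP k (φ (ArSing.y k 1)) = PowerSeries.X := by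
  have e1 := congrArg (pP k) hφu
  have e2 := congrArg (pP k) hφv
  rw [map_add, map_add, map_add, pP_x, pP_y] at e1
  rw [map_sub, map_sub, map_pow, map_sub, pP_x, pP_y, sub_self, zero_pow two_ne_zero] at e2
  have e3 : pP k (φ (ArSing.y k 1)) = pP k (φ (ArSing.x k 1)) := sub_eq_zero.mp e2
  have e4 : pP k (φ (ArSing.x k 1)) - PowerSeries.X = 0 := by
    apply ps_two_cancel h2
    rw [e3] at e1
    linear_combination e1
  have e5 := sub_eq_zero.mp e4
  exact ⟨e5, e3.trans e5⟩

lemma C_neg_two : (PowerSeries.C (-2 : k) : PowerSeries k) = -2 := by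
  rw [map_neg, map_ofNat]

include h2 hφu hφv in
lemma pM_phi_xy : pM k (φ (ArSing.x k 1)) = SS k PowerSeries.X ∧
    pM k (φ (ArSing.y k 1)) = -SS k PowerSeries.X := by
  have e1 := congrArg (pM k) hφu
  have e2 := congrArg (pM k) hφv
  rw [map_add, map_add, map_add, pM_x, pM_y] at e1
  rw [map_sub, map_sub, map_pow, map_sub, pM_x, pM_y] at e2
  rw [SS_X, C_neg_two]
  have e4 : pM k (φ (ArSing.x k 1)) - -2 * PowerSeries.X ^ 2 = 0 := by
    apply ps_two_cancel h2
    linear_combination e1 - e2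
  have e5 := sub_eq_zero.mp e4
  refine ⟨e5, ?_⟩
  rw [← e5]
  linear_combination e1

include h2 hφu hφv in
lemma pP_phi (z : ArSing.ring k 1) : pP k (φ z) = pP k z := by
  obtain ⟨e1, e2⟩ := pP_phi_xy h2 φ hφu hφv
  have h := branch_formula (pP k) φ (AlgHom.id k (PowerSeries k))
    (by rw [e1]; rfl)
    (by show PowerSeries.constantCoeff (PowerSeries.X : PowerSeries k) = 0
        exact PowerSeries.constantCoeff_X) z
  change pP k (φ z) = cA k 1 z + cB k 1 z * pP k (φ (ArSing.y k 1)) at h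
  rw [h, e2, pP_nf]

include h2 hφu hφv in
lemma pM_phi (z : ArSing.ring k 1) : pM k (φ z) = SS k (pM k z) := by
  obtain ⟨e1, e2⟩ := pM_phi_xy h2 φ hφu hφv
  have h := branch_formula (pM k) φ (SS k) e1
    (by rw [SS_X, map_mul, map_pow, PowerSeries.constantCoeff_X, zero_pow two_ne_zero, mul_zero]) z
  rw [h, e2, pM_nf, map_sub, map_mul]
  ring

end phi

lemma pP_v : pP k (ArSing.y k 1 - ArSing.x k 1) = 0 := by
  rw [map_sub, pP_x, pP_y, sub_self]

lemma pM_v : pM k (ArSing.y k 1 - ArSing.x k 1) = PowerSeries.C (-2 : k) * PowerSeries.X := by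
  rw [map_sub, pM_x, pM_y, C_neg_two]
  ring

lemma pP_u : pP k (ArSing.x k 1 + ArSing.y k 1) = PowerSeries.X + PowerSeries.X := by
  rw [map_add, pP_x, pP_y]

lemma u_mul_v : (ArSing.x k 1 + ArSing.y k 1) * (ArSing.y k 1 - ArSing.x k 1) = 0 := by
  have h := y_sq k 1
  linear_combination h

/-- elements vanishing on the branch `y = x` are multiples of `v = y - x` -/
lemma exists_v_mul (h2 : (2 : k) ≠ 0) (z : ArSing.ring k 1) (hz : pP k z = 0) :
    ∃ c : PowerSeries k, z = (ArSing.y k 1 - ArSing.x k 1) * ArSing.xMap k 1 c := by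
  have h0 : PowerSeries.constantCoeff (pM k z) = 0 := by
    rw [constantCoeff_pM, ← constantCoeff_pP, hz, map_zero]
  obtain ⟨q, hq⟩ := PowerSeries.X_dvd_iff.mpr h0
  refine ⟨PowerSeries.C (-2 : k)⁻¹ * q, ?_⟩
  apply joint_inj h2
  · rw [hz, map_mul, pP_v, zero_mul]
  · rw [map_mul, pM_v, pM_xMap, hq]
    have e : PowerSeries.C (-2 : k) * PowerSeries.X * (PowerSeries.C (-2 : k)⁻¹ * q) =
        (PowerSeries.C (-2 : k) * PowerSeries.C (-2 : k)⁻¹) * (PowerSeries.X * q) := by ring
    rw [e, ← map_mul, mul_inv_cancel₀ (neg_ne_zero.mpr h2), map_one, one_mul]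

lemma span_v_eq_ker (h2 : (2 : k) ≠ 0) :
    Ideal.span {ArSing.y k 1 - ArSing.x k 1} = RingHom.ker (pP k) := by
  apply le_antisymm
  · rw [Ideal.span_le, Set.singleton_subset_iff]
    exact pP_v
  · intro z hz
    obtain ⟨c, hc⟩ := exists_v_mul h2 z hz
    rw [hc]
    exact Ideal.mul_mem_right _ _ (Ideal.subset_span rfl)

theorem main (k : Type u) [Field k]
    (h2 : (2 : k) ≠ 0)
    (σ : ArSing.ring k 1 ≃ₐ[k] ArSing.ring k 1) (hx : σ (ArSing.x k 1) = ArSing.y k 1)
    (hy : σ (ArSing.y k 1) = ArSing.x k 1)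
    (φ : ArSing.ring k 1 →ₐ[k] ArSing.ring k 1) (hφu : φ (ArSing.x k 1 + ArSing.y k 1) = ArSing.x k 1 + ArSing.y k 1)
    (hφv : φ (ArSing.y k 1 - ArSing.x k 1) = (ArSing.y k 1 - ArSing.x k 1) ^ 2) :
    (∀ a : ArSing.ring k 1, σ a = a ↔ a ∈ φ.range) ∧ Function.Injective φ ∧
    Ideal.span (Set.range fun a : ArSing.ring k 1 => σ a - a) = Ideal.span {ArSing.y k 1 - ArSing.x k 1} ∧
    (ArSing.y k 1 - ArSing.x k 1) ∉ nonZeroDivisors (ArSing.ring k 1) ∧
    Ideal.span {ArSing.y k 1 - ArSing.x k 1} ∈ minimalPrimes (ArSing.ring k 1) ∧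
    ¬ φ.toRingHom.Flat := by
  have hXX : (PowerSeries.X + PowerSeries.X : PowerSeries k) ≠ 0 := by
    intro h
    exact PowerSeries.X_ne_zero (ps_two_cancel h2 h)
  refine ⟨?_, ?_, ?_, ?_, ?_, ?_⟩
  · intro z
    constructor
    · intro hz
      have h1 : negHom k (pM k z) = pM k z := by
        rw [← pM_sigma σ hx hy, hz]
      rw [negHom_eq_self_iff h2] at h1
      set h := ev (pM k z) with hh
      obtain ⟨w, hw1, hw2⟩ := joint_surj h2 (pP k z) (scaleHom (-2 : k)⁻¹ h) (by
        rw [constantCoeff_scaleHom, constantCoeff_pP, ← constantCoeff_pM, h1, constantCoeff_sqHom])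
      refine ⟨w, ?_⟩
      show φ w = z
      apply joint_inj h2
      · rw [pP_phi h2 φ hφu hφv, hw1]
      · rw [pM_phi h2 φ hφu hφv, hw2, SS_apply,
          scaleHom_scaleHom (-2) (-2)⁻¹ (mul_inv_cancel₀ (neg_ne_zero.mpr h2)), ← h1]
    · rintro ⟨w, rfl⟩
      show σ (φ w) = φ w
      apply joint_inj h2
      · rw [pP_sigma σ hx hy]
      · rw [pM_sigma σ hx hy, pM_phi h2 φ hφu hφv, SS_apply, negHom_sqHom h2]
  · intro z w hzw
    apply joint_inj h2
    · rw [← pP_phi h2 φ hφu hφv z, hzw, pP_phi h2 φ hφu hφv]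
    · apply SS_injective h2
      rw [← pM_phi h2 φ hφu hφv z, hzw, pM_phi h2 φ hφu hφv]
  · apply le_antisymm
    · rw [Ideal.span_le]
      rintro _ ⟨z, rfl⟩
      show σ z - z ∈ Ideal.span {ArSing.y k 1 - ArSing.x k 1}
      rw [span_v_eq_ker h2, RingHom.mem_ker, map_sub, pP_sigma σ hx hy, sub_self]
    · rw [Ideal.span_le, Set.singleton_subset_iff]
      have h1 : ArSing.y k 1 - ArSing.x k 1 = algebraMap k (ArSing.ring k 1) (-2)⁻¹ *
          (σ (ArSing.y k 1 - ArSing.x k 1) - (ArSing.y k 1 - ArSing.x k 1)) := by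
        rw [map_sub, hx, hy]
        have e : ArSing.x k 1 - ArSing.y k 1 - (ArSing.y k 1 - ArSing.x k 1) =
            algebraMap k (ArSing.ring k 1) (-2) * (ArSing.y k 1 - ArSing.x k 1) := by
          rw [map_neg, map_ofNat]
          ring
        rw [e, ← mul_assoc, ← map_mul, inv_mul_cancel₀ (neg_ne_zero.mpr h2), map_one, one_mul]
      rw [h1]
      exact Ideal.mul_mem_left _ _ (Ideal.subset_span ⟨_, rfl⟩)
  · intro hv
    rw [mem_nonZeroDivisors_iff_right] at hv
    have h1 := hv _ u_mul_v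
    have h3 := congrArg (pP k) h1
    rw [pP_u, map_zero] at h3
    exact hXX h3
  · show IsMinimalPrime _
    rw [IsMinimalPrime.iff_minimal, span_v_eq_ker h2]
    refine ⟨RingHom.ker_isPrime _, ?_⟩
    intro q hq hle
    rw [← span_v_eq_ker h2, Ideal.span_le, Set.singleton_subset_iff]
    have h1 : (ArSing.x k 1 + ArSing.y k 1) * (ArSing.y k 1 - ArSing.x k 1) ∈ q := by
      rw [u_mul_v]
      exact q.zero_mem
    rcases hq.mem_or_mem h1 with h | h
    · exfalso
      have h3 := hle h
      rw [RingHom.mem_ker, pP_u] at h3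
      exact hXX h3
    · exact h
  · intro hflat
    obtain ⟨κ, a, yy, h1, h3⟩ := Groth.Agent.Lib.Helper9.FlatRel.flat_rel1 φ.toRingHom hflat
      (ArSing.x k 1 + ArSing.y k 1) (ArSing.y k 1 - ArSing.x k 1) (by
        show φ (ArSing.x k 1 + ArSing.y k 1) * (ArSing.y k 1 - ArSing.x k 1) = 0
        rw [hφu, u_mul_v])
    have hc : ∀ j, ∃ c : PowerSeries k,
        a j = (ArSing.y k 1 - ArSing.x k 1) * ArSing.xMap k 1 c := by
      intro j
      apply exists_v_mul h2
      have h4 := congrArg (pP k) (h3 j)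
      rw [map_mul, pP_u, map_zero] at h4
      rcases mul_eq_zero.mp h4 with h | h
      · exact absurd h hXX
      · exact h
    choose c hc using hc
    have h5 : ArSing.y k 1 - ArSing.x k 1 = (ArSing.y k 1 - ArSing.x k 1) ^ 2 *
        ∑ j, φ (ArSing.xMap k 1 (c j)) * yy j := by
      rw [Finset.mul_sum]
      conv_lhs => rw [h1]
      apply Finset.sum_congr rfl
      intro j _
      show φ (a j) * yy j = _
      rw [hc j, map_mul, hφv]
      ring
    have h6 := congrArg (pM k) h5
    rw [map_mul, map_pow, pM_v] at h6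
    have h7 := congrArg (PowerSeries.coeff 1) h6
    rw [mul_pow, ← map_pow, mul_assoc, PowerSeries.coeff_C_mul, PowerSeries.coeff_one_X,
      PowerSeries.coeff_C_mul, PowerSeries.coeff_X_pow_mul', if_neg (by omega), mul_one,
      mul_zero] at h7
    exact (neg_ne_zero.mpr h2) h7

end Aux

/-- K algebraically closed of characteristic ≠ 2, σ the involution of the node algebra A_1 =
k[[x,y]]/(y^2 - x^2) exchanging x and y, and φ : A_1 → A_1 the k-algebra map with φ(x + y) = x + y
and φ(y - x) = (y - x)^2 (in the branch coordinates u = x + y, v = y - x with uv = 0: u ↦ u, v ↦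
v^2). Then the invariant subalgebra of σ is the image of φ and φ is injective (so A_1^σ ≅ A_1), and
the fixed locus of σ is the branch v = 0: the ideal generated by the elements σ(a) - a is the ideal
(y - x), a minimal prime ideal generated by a zero-divisor (so not a Cartier divisor). Moreover φ is
not flat. (The published statement asserts that this extension is faithfully flat; it is not: as a
module over the invariant subalgebra B = k[[u,w]]/(uw), w = v^2, A_1 is B ⊕ (B/uB)·v, and B/uB is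
not flat over B — equivalently the fibre length jumps from 1 on the branch w = 0 to 2 at the closed
point.) -/
theorem result (k : Type u) [Field k] [IsAlgClosed k]
    (h2 : (2 : k) ≠ 0)
    (σ : ArSing.ring k 1 ≃ₐ[k] ArSing.ring k 1) (hx : σ (ArSing.x k 1) = ArSing.y k 1)
    (hy : σ (ArSing.y k 1) = ArSing.x k 1)
    (φ : ArSing.ring k 1 →ₐ[k] ArSing.ring k 1) (hφu : φ (ArSing.x k 1 + ArSing.y k 1) = ArSing.x k 1 + ArSing.y k 1)
    (hφv : φ (ArSing.y k 1 - ArSing.x k 1) = (ArSing.y k 1 - ArSing.x k 1) ^ 2) :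
    (∀ a : ArSing.ring k 1, σ a = a ↔ a ∈ φ.range) ∧ Function.Injective φ ∧
    Ideal.span (Set.range fun a : ArSing.ring k 1 => σ a - a) = Ideal.span {ArSing.y k 1 - ArSing.x k 1} ∧
    (ArSing.y k 1 - ArSing.x k 1) ∉ nonZeroDivisors (ArSing.ring k 1) ∧
    Ideal.span {ArSing.y k 1 - ArSing.x k 1} ∈ minimalPrimes (ArSing.ring k 1) ∧
    ¬ φ.toRingHom.Flat := by
  exact Aux.main k h2 σ hx hy φ hφu hφv

end Groth.Agent.S14096
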