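import Groth.Statements.S14097
import Mathlib

set_option autoImplicit false
universe u
open ArSing

namespace Groth.Agent.S14097

theorem esymm_cons {A : Type*} [CommRing A] (a : A) (s : Multiset A) (n : ℕ) :
    (a ::ₘ s).esymm (n + 1) = s.esymm (n + 1) + a * s.esymm n := by
  unfold Multiset.esymm
  rw [Multiset.powersetCard_cons, Multiset.map_add, Multiset.sum_add, Multiset.map_map]
  congr 1
  rw [← Multiset.sum_map_mul_left]
  congr 1
  apply Multiset.map_congr rfl
  intro t _
  simp

theorem esymm_zero' {A : Type*} [CommRing A] (s : Multiset A) : s.esymm 0 = 1 := by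
  unfold Multiset.esymm
  simp

theorem esymm_range_self {A : Type*} [CommRing A] (h : ℕ → A) (k : ℕ) :
    ((Finset.range k).val.map h).esymm k = ∏ i ∈ Finset.range k, h i := by
  rw [Finset.esymm_map_val]
  have : Finset.powersetCard k (Finset.range k) = {Finset.range k} := by
    have h2 := Finset.powersetCard_self (Finset.range k)
    rwa [Finset.card_range] at h2
  rw [this, Finset.sum_singleton]

/-- E k = sum over j < k of τ^(k-1-j) e_j(h_0..h_(k-1)) -/
noncomputable def EE {A : Type*} [CommRing A] (τ : A) (h : ℕ → A) (k : ℕ) : A :=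
  ∑ j ∈ Finset.range k, τ ^ (k - 1 - j) * (((Finset.range k).val.map h).esymm j)

theorem EE_succ {A : Type*} [CommRing A] (τ : A) (h : ℕ → A) (k : ℕ) (hk : 1 ≤ k) :
    EE τ h (k + 1) = (τ + h k) * EE τ h k + ∏ i ∈ Finset.range k, h i := by
  unfold EE
  have hcons : (Finset.range (k + 1)).val.map h = h k ::ₘ (Finset.range k).val.map h := by
    rw [Finset.range_val, Multiset.range_succ, Multiset.map_cons, Finset.range_val]
  rw [hcons, Finset.sum_range_succ', esymm_zero']
  have h1 : ∀ j ∈ Finset.range k, τ ^ (k + 1 - 1 - (j + 1)) * (h k ::ₘ (Finset.range k).val.map h).esymm (j + 1)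
      = τ ^ (k - 1 - j) * ((Finset.range k).val.map h).esymm (j + 1)
        + h k * (τ ^ (k - 1 - j) * ((Finset.range k).val.map h).esymm j) := by
    intro j hj
    rw [esymm_cons]
    have : k + 1 - 1 - (j + 1) = k - 1 - j := by omega
    rw [this]; ring
  rw [Finset.sum_congr rfl h1, Finset.sum_add_distrib, ← Finset.mul_sum]
  -- now: Σ_{j<k} τ^(k-1-j) e(j+1) + h k * E + τ^k * 1 = (τ + h k) E + ∏
  have h2 : ∑ j ∈ Finset.range k, τ ^ (k - 1 - j) * ((Finset.range k).val.map h).esymm (j + 1) + τ ^ (k + 1 - 1 - 0) * 1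
      = τ * ∑ j ∈ Finset.range k, τ ^ (k - 1 - j) * ((Finset.range k).val.map h).esymm j
        + ∏ i ∈ Finset.range k, h i := by
    rw [← esymm_range_self h k]
    -- G = Σ_{j<k+1} τ^(k-j) e(k,j)
    have hG1 : ∑ j ∈ Finset.range (k + 1), τ ^ (k - j) * ((Finset.range k).val.map h).esymm j
        = ∑ j ∈ Finset.range k, τ ^ (k - 1 - j) * ((Finset.range k).val.map h).esymm (j + 1) + τ ^ (k + 1 - 1 - 0) * 1 := by
      rw [Finset.sum_range_succ', esymm_zero']
      congr 1
      apply Finset.sum_congr rfl
      intro j hj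
      have : k - (j + 1) = k - 1 - j := by omega
      rw [this]
    have hG2 : ∑ j ∈ Finset.range (k + 1), τ ^ (k - j) * ((Finset.range k).val.map h).esymm j
        = τ * ∑ j ∈ Finset.range k, τ ^ (k - 1 - j) * ((Finset.range k).val.map h).esymm j
          + ((Finset.range k).val.map h).esymm k := by
      rw [Finset.sum_range_succ, Nat.sub_self, pow_zero, one_mul, Finset.mul_sum]
      congr 1
      apply Finset.sum_congr rfl
      intro j hj
      rw [Finset.mem_range] at hj
      have : k - j = (k - 1 - j) + 1 := by omega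
      rw [this, pow_succ]; ring
    rw [← hG1, hG2]
  have h3 : ∑ j ∈ Finset.range k, τ ^ (k - 1 - j) * ((Finset.range k).val.map h).esymm (j + 1)
      + h k * ∑ j ∈ Finset.range k, τ ^ (k - 1 - j) * ((Finset.range k).val.map h).esymm j
      + τ ^ (k + 1 - 1 - 0) * 1 =
      (∑ j ∈ Finset.range k, τ ^ (k - 1 - j) * ((Finset.range k).val.map h).esymm (j + 1) + τ ^ (k + 1 - 1 - 0) * 1)
      + h k * ∑ j ∈ Finset.range k, τ ^ (k - 1 - j) * ((Finset.range k).val.map h).esymm j := by ring
  rw [h3, h2]; ring

theorem main {A : Type*} [CommRing A] (τ : A) (h : ℕ → A) :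
    ∀ m : ℕ, (∀ i, i < m + 1 → h i ^ 2 + τ * h i = 0) →
      ∏ i ∈ Finset.range m, (h i + h (i + 1) + τ) = EE τ h (m + 1) ∧
      EE τ h (m + 1) * h m = ∏ i ∈ Finset.range (m + 1), h i := by
  intro m
  induction m with
  | zero =>
    intro _
    have : EE τ h 1 = 1 := by
      unfold EE
      simp [esymm_zero']
    rw [this]; simp
  | succ m ih =>
    intro hrel
    obtain ⟨ih1, ih2⟩ := ih (fun i hi => hrel i (by omega))
    have hE := EE_succ τ h (m + 1) (by omega)
    have hr := hrel (m + 1) (by omega)
    constructor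
    · rw [Finset.prod_range_succ, ih1, hE, ← ih2]; ring
    · rw [Finset.prod_range_succ (fun i => h i) (m + 1), hE, ← ih2]
      linear_combination (EE τ h (m + 1)) * hr

/-- In any commutative ring, if h_0, …, h_(k-1) (k ≥ 2) and τ satisfy h_i^2 + τ h_i = 0, then ∏_(i ≤
k-2) (h_i + h_(i+1) + τ) = Σ_(j ≤ k-1) τ^(k-1-j) e_j(h), e_j the elementary symmetric functions.
(The published statement is the resulting formula for the class of the small diagonal in the Chow
ring of (P^1)^k, where the h_i are the hyperplane classes of the factors and satisfy these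
relations; only the ring identity is asserted here.) -/
theorem result (A : Type u) [CommRing A] (k : ℕ) (hk : 2 ≤ k) (τ : A)
    (h : ℕ → A) (hrel : ∀ i, i < k → h i ^ 2 + τ * h i = 0) :
    ∏ i ∈ Finset.range (k - 1), (h i + h (i + 1) + τ) =
      ∑ j ∈ Finset.range k, τ ^ (k - 1 - j) * (((Finset.range k).val.map h).esymm j) := by
  classical
  obtain ⟨m, rfl⟩ : ∃ m, k = m + 1 := ⟨k - 1, by omega⟩
  have := (main τ h m hrel).1
  simpa [EE] using this

end Groth.Agent.S14097
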