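import Groth.Statements.S14098
import Mathlib
import Groth.Agent.Lib.Helper9.PO.BCGeo2
import Groth.Agent.Lib.Helper9.PO.IntChart
-- import your own Groth.Agent.* helpers here

set_option autoImplicit false
universe u
open CategoryTheory AlgebraicGeometry
open FlatMor

namespace Groth.Agent.S14098

open CategoryTheory AlgebraicGeometry
namespace Aux

open H9PO

theorem main
    {S X Y Y' P T XT YT Y'T PT : Scheme.{u}}
    (i : Y ⟶ X) [IsClosedImmersion i] (h : Y ⟶ Y') [IsFinite h] [Flat h] [Surjective h]
    (q : X ⟶ P) [IsAffineHom q] (j : Y' ⟶ P) (hP : IsPushout i h q j)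
    (sP : P ⟶ S) [Flat (q ≫ sP)] [Flat (j ≫ sP)] (g : T ⟶ S)
    (pP : PT ⟶ P) (sPT : PT ⟶ T) (hPT : IsPullback pP sPT sP g)
    (pX : XT ⟶ X) (qT : XT ⟶ PT) (hXT : IsPullback pX qT q pP)
    (pY' : Y'T ⟶ Y') (jT : Y'T ⟶ PT) (hY'T : IsPullback pY' jT j pP)
    (pY : YT ⟶ Y) (iT : YT ⟶ XT) (hYT : IsPullback pY iT i pX)
    (hT : YT ⟶ Y'T) (hhT₁ : hT ≫ pY' = pY ≫ h) (hhT₂ : hT ≫ jT = iT ≫ qT) :
    Flat sP ∧ IsPushout iT hT qT jT := by
  have H : Covers i h := by
    apply IntChart.covers i h
    intro y'
    obtain ⟨O, hO, hyO, -⟩ := TopologicalSpace.Opens.isBasis_iff_nbhd.mp P.isBasis_affineOpens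
      (show j y' ∈ (⊤ : P.Opens) from trivial)
    refine ⟨q ⁻¹ᵁ O, hO.preimage q, ?_⟩
    intro z hz
    have hz' : h z = y' := hz
    change q (i z) ∈ O
    have : q (i z) = j (h z) := by
      rw [← Scheme.Hom.comp_apply, ← Scheme.Hom.comp_apply, hP.w]
    rw [this, hz']
    exact hyO
  obtain ⟨-, hclj, -, -, -, -, -⟩ := H.structure_of_isPushout hP
  haveI : IsClosedImmersion j := hclj
  haveI : Flat (i ≫ q ≫ sP) := by
    have : i ≫ q ≫ sP = h ≫ (j ≫ sP) := by
      rw [← Category.assoc, hP.w, Category.assoc]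
    rw [this]
    infer_instance
  refine ⟨BCGeo.flat_of_isPushout i h q j hP sP, ?_⟩
  exact BCGeo.isPushout_baseChange i h q j hP sP g pP sPT hPT pX qT hXT pY' jT hY'T pY iT hYT hT
    hhT₁ hhT₂.symm (Or.inr inferInstance)

end Aux

/-- Let S be a scheme, i : Y → X a closed immersion and h : Y → Y' a finite flat surjective morphism,
everything over S with X and Y' flat over S, and let the square (i, h, q : X → P, j : Y' → P) be a
pushout of schemes with q affine, P carrying the induced morphism to S. Then P is flat over S and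
the pushout commutes with base change: for T → S, with P_T, X_T, Y'_T, Y_T the fibre products and
i_T, h_T, q_T, j_T the induced morphisms, the square (i_T, h_T, q_T, j_T) is a pushout of schemes.
(The published statement assumes Y → Y' only finite flat and asserts that the pushout exists in the
category of schemes; its proof uses that Y → Y' is surjective and that X → P is affine, P being
built affine-locally as the spectrum of the fibre product of rings O(Y') ×_O(Y) O(X). This row
assumes Y → Y' surjective, takes a pushout of schemes with X → P affine as given — then every fibre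
of Y → Y' lies in an affine open of X and P is that affine-local pushout — and asserts neither
existence nor the properness and finite presentation of P for X, Y' proper and finitely presented,
which the published lemma also states.) -/
theorem result
    {S X Y Y' P T XT YT Y'T PT : Scheme.{u}}
    (i : Y ⟶ X) [IsClosedImmersion i] (h : Y ⟶ Y') [IsFinite h] [Flat h] [Surjective h]
    (q : X ⟶ P) [IsAffineHom q] (j : Y' ⟶ P) (hP : IsPushout i h q j)
    (sP : P ⟶ S) [Flat (q ≫ sP)] [Flat (j ≫ sP)] (g : T ⟶ S)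
    (pP : PT ⟶ P) (sPT : PT ⟶ T) (hPT : IsPullback pP sPT sP g)
    (pX : XT ⟶ X) (qT : XT ⟶ PT) (hXT : IsPullback pX qT q pP)
    (pY' : Y'T ⟶ Y') (jT : Y'T ⟶ PT) (hY'T : IsPullback pY' jT j pP)
    (pY : YT ⟶ Y) (iT : YT ⟶ XT) (hYT : IsPullback pY iT i pX)
    (hT : YT ⟶ Y'T) (hhT₁ : hT ≫ pY' = pY ≫ h) (hhT₂ : hT ≫ jT = iT ≫ qT) :
    Flat sP ∧ IsPushout iT hT qT jT := by
  exact Aux.main i h q j hP sP g pP sPT hPT pX qT hXT pY' jT hY'T pY iT hYT hT hhT₁ hhT₂

end Groth.Agent.S14098
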