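import Groth.Statements.S14100
import Mathlib

set_option autoImplicit false
universe w v u
open DCoh

namespace Groth.Agent.S14100

section
open CategoryTheory CategoryTheory.Limits Pretriangulated Triangulated DerivedCategory

variable {C : Type u} [Category.{v} C] [Abelian C] [HasDerivedCategory.{w} C]

theorem eq_zero_of_single (a : ℤ) {X Y : DerivedCategory C} [X.IsGE a] [X.IsLE a] [Y.IsGE a]
    [Y.IsLE a] (φ : X ⟶ Y) (h : (homologyFunctor C a).map φ = 0) : φ = 0 := by
  obtain ⟨M, ⟨eX⟩⟩ := exists_iso_singleFunctor_obj_of_isGE_of_isLE X a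
  obtain ⟨N, ⟨eY⟩⟩ := exists_iso_singleFunctor_obj_of_isGE_of_isLE Y a
  obtain ⟨ψ, hψ⟩ := (singleFunctor C a).map_surjective (eX.inv ≫ φ ≫ eY.hom)
  have h1 : (homologyFunctor C a).map ((singleFunctor C a).map ψ) = 0 := by
    rw [hψ, Functor.map_comp, Functor.map_comp, h, zero_comp, comp_zero]
  have h2 : ψ = 0 := by
    have nat := (singleFunctorCompHomologyFunctorIso C a).hom.naturality ψ
    simp only [Functor.comp_map, Functor.id_map] at nat
    rw [h1, zero_comp] at nat
    have : (singleFunctorCompHomologyFunctorIso C a).hom.app M ≫ ψ = 0 := nat.symm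
    rwa [← cancel_epi ((singleFunctorCompHomologyFunctorIso C a).hom.app M), comp_zero]
  rw [h2, Functor.map_zero] at hψ
  have h3 : eX.inv ≫ φ ≫ eY.hom = 0 := hψ.symm
  have h4 : φ = eX.hom ≫ (eX.inv ≫ φ ≫ eY.hom) ≫ eY.inv := by simp
  rw [h4, h3, zero_comp, comp_zero]


theorem eq_zero_of_single_of_isGE (a : ℤ) {X Y : DerivedCategory C} [X.IsGE a] [X.IsLE a]
    [Y.IsGE a] (φ : X ⟶ Y) (h : (homologyFunctor C a).map φ = 0) : φ = 0 := by
  let t : TStructure (DerivedCategory C) := TStructure.t
  let ι : (t.truncLE a).obj Y ⟶ Y := (t.truncLEι a).app Y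
  let π : Y ⟶ (t.truncGT a).obj Y := (t.truncGTπ a).app Y
  let T : Triangle (DerivedCategory C) := Triangle.mk ι π ((t.truncGTδLE a).app Y)
  have hT : T ∈ distTriang (DerivedCategory C) := t.triangleLEGT_distinguished a Y
  have hG : ((t.truncGT a).obj Y).IsGE (a + 1) := inferInstanceAs (t.IsGE _ (a + 1))
  have hL1 : ((t.truncLE a).obj Y).IsLE a := inferInstanceAs (t.IsLE _ a)
  have hY : t.IsGE Y a := ‹Y.IsGE a›
  have hL2 : ((t.truncLE a).obj Y).IsGE a := inferInstanceAs (t.IsGE ((t.truncLE a).obj Y) a)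
  have h0 : φ ≫ π = 0 :=
    t.zero_of_isLE_of_isGE _ a (a + 1) (by lia) ‹X.IsLE a› hG
  obtain ⟨φ', hφ'⟩ : ∃ φ' : X ⟶ (t.truncLE a).obj Y, φ = φ' ≫ ι :=
    Triangle.coyoneda_exact₂ T hT φ h0
  have hmono : Mono ((homologyFunctor C a).map ι) := by
    have := HomologySequence.mono_homologyMap_mor₁_iff T hT (a - 1) a (by lia)
    apply this.mpr
    apply IsZero.eq_of_src
    exact isZero_of_isGE ((t.truncGT a).obj Y) (a + 1) (a - 1) (by lia)
  have h1 : (homologyFunctor C a).map φ' = 0 := by
    rw [← cancel_mono ((homologyFunctor C a).map ι), zero_comp, ← Functor.map_comp]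
    have : φ' ≫ ι = φ := hφ'.symm
    rw [this, h]
  have h2 : φ' = 0 := eq_zero_of_single a φ' h1
  have : φ = φ' ≫ ι := hφ'
  rw [this, h2, zero_comp]


theorem truncGT_map_homology_zero (a : ℤ) {X Y : DerivedCategory C} (f : X ⟶ Y)
    (h : ∀ q : ℤ, (homologyFunctor C q).map f = 0) (q : ℤ) :
    (homologyFunctor C q).map (((TStructure.t : TStructure (DerivedCategory C)).truncGT a).map f)
      = 0 := by
  let t : TStructure (DerivedCategory C) := TStructure.t
  have hG : ((t.truncGT a).obj X).IsGE (a + 1) := inferInstanceAs (t.IsGE _ (a + 1))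
  by_cases hq : q ≤ a
  · apply IsZero.eq_of_src
    exact isZero_of_isGE ((t.truncGT a).obj X) (a + 1) q (by lia)
  · have hq' : a < q := by lia
    let ι : (t.truncLE a).obj X ⟶ X := (t.truncLEι a).app X
    let π : X ⟶ (t.truncGT a).obj X := (t.truncGTπ a).app X
    let T : Triangle (DerivedCategory C) := Triangle.mk ι π ((t.truncGTδLE a).app X)
    have hT : T ∈ distTriang (DerivedCategory C) := t.triangleLEGT_distinguished a X
    have hL1 : ((t.truncLE a).obj X).IsLE a := inferInstanceAs (t.IsLE _ a)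
    have hepi : Epi ((homologyFunctor C q).map π) := by
      have := HomologySequence.epi_homologyMap_mor₂_iff T hT q (q + 1) rfl
      apply this.mpr
      apply IsZero.eq_of_tgt
      exact isZero_of_isLE ((t.truncLE a).obj X) a (q + 1) (by lia)
    rw [← cancel_epi ((homologyFunctor C q).map π), comp_zero, ← Functor.map_comp]
    have nat : π ≫ (t.truncGT a).map f = f ≫ (t.truncGTπ a).app Y :=
      ((t.truncGTπ a).naturality f).symm
    rw [nat, Functor.map_comp, h q, zero_comp]


theorem key (n : ℕ) : ∀ (a : ℤ) (K : ℕ ⥤ DerivedCategory C),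
    (∀ i : ℕ, i ≤ n + 1 → (K.obj i).IsGE a) → (∀ i : ℕ, i ≤ n + 1 → (K.obj i).IsLE (a + n)) →
    (∀ i : ℕ, i ≤ n → ∀ q : ℤ,
      (homologyFunctor C q).map (K.map (homOfLE (Nat.le_succ i))) = 0) →
    K.map (homOfLE (Nat.zero_le (n + 1))) = 0 := by
  induction n with
  | zero =>
    intro a K hGE hLE hzero
    have h1 := hGE 0 (by lia)
    have h2 := hGE 1 (by lia)
    have h3 : (K.obj 0).IsLE a := by simpa using hLE 0 (by lia)
    have h4 : (K.obj 1).IsLE a := by simpa using hLE 1 (by lia)
    exact eq_zero_of_single a _ (hzero 0 le_rfl a)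
  | succ n ih =>
    intro a K hGE hLE hzero
    let t : TStructure (DerivedCategory C) := TStructure.t
    let K' : ℕ ⥤ DerivedCategory C := K ⋙ t.truncGT a
    have h1 : K'.map (homOfLE (Nat.zero_le (n + 1))) = 0 := by
      apply ih (a + 1) K'
      · intro i hi
        exact inferInstanceAs (t.IsGE ((t.truncGT a).obj (K.obj i)) (a + 1))
      · intro i hi
        have h := hLE i (by lia)
        have h' : t.IsLE (K.obj i) (a + 1 + n) := by
          have e : a + 1 + (n : ℤ) = a + ((n + 1 : ℕ) : ℤ) := by push_cast; ring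
          rw [e]; exact h
        exact inferInstanceAs (t.IsLE ((t.truncGT a).obj (K.obj i)) (a + 1 + n))
      · intro i hi q
        exact truncGT_map_homology_zero a _ (hzero i (by lia)) q
    let g : K.obj 0 ⟶ K.obj (n + 1) := K.map (homOfLE (Nat.zero_le (n + 1)))
    let f : K.obj (n + 1) ⟶ K.obj (n + 1 + 1) := K.map (homOfLE (Nat.le_succ (n + 1)))
    have hcomp : K.map (homOfLE (Nat.zero_le (n + 1 + 1))) = g ≫ f := by
      rw [← K.map_comp]
      rfl
    have hgπ : g ≫ (t.truncGTπ a).app (K.obj (n + 1)) = 0 := by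
      have nat := (t.truncGTπ a).naturality g
      simp only [Functor.id_map] at nat
      rw [nat]
      have : (t.truncGT a).map g = 0 := h1
      rw [this, comp_zero]
    let ι : (t.truncLE a).obj (K.obj (n + 1)) ⟶ K.obj (n + 1) := (t.truncLEι a).app _
    let T : Triangle (DerivedCategory C) :=
      Triangle.mk ι ((t.truncGTπ a).app (K.obj (n + 1))) ((t.truncGTδLE a).app (K.obj (n + 1)))
    have hT : T ∈ distTriang (DerivedCategory C) := t.triangleLEGT_distinguished a _
    obtain ⟨g', hg'⟩ : ∃ g' : K.obj 0 ⟶ (t.truncLE a).obj (K.obj (n + 1)), g = g' ≫ ι :=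
      Triangle.coyoneda_exact₂ T hT g hgπ
    have hn1 : t.IsGE (K.obj (n + 1)) a := hGE (n + 1) (by lia)
    have hL1 : ((t.truncLE a).obj (K.obj (n + 1))).IsLE a := inferInstanceAs (t.IsLE _ a)
    have hL2 : ((t.truncLE a).obj (K.obj (n + 1))).IsGE a :=
      inferInstanceAs (t.IsGE ((t.truncLE a).obj (K.obj (n + 1))) a)
    have hn2 : (K.obj (n + 1 + 1)).IsGE a := hGE (n + 1 + 1) (by lia)
    have hιf : ι ≫ f = 0 := by
      apply eq_zero_of_single_of_isGE a
      rw [Functor.map_comp, hzero (n + 1) le_rfl a, comp_zero]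
    rw [hcomp, hg', Category.assoc, hιf, comp_zero]

theorem main (C : Type u) [Category.{v} C] [Abelian C] [HasDerivedCategory.{w} C]
    (a : ℤ) (n : ℕ) (K : ℕ ⥤ DerivedCategory C)
    (hGE : ∀ i : ℕ, i ≤ n + 1 → (K.obj i).IsGE a)
    (hLE : ∀ i : ℕ, i ≤ n + 1 → (K.obj i).IsLE (a + n))
    (hzero : ∀ i : ℕ, i ≤ n → ∀ q : ℤ,
      (DerivedCategory.homologyFunctor C q).map (K.map (homOfLE (Nat.le_succ i))) = 0) :
    K.map (homOfLE (Nat.zero_le (n + 1))) = 0 :=
  key n a K hGE hLE hzero


end


open CategoryTheory in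
/-- Let C be an abelian category, a an integer and n a natural number, and let K_0 → K_1 → ⋯ → K_{n+1}
be composable morphisms in the derived category of C such that each K_i has cohomology concentrated
in degrees a, …, a+n and each map K_i → K_{i+1} induces zero on every cohomology object. Then the
composite K_0 → K_{n+1} is zero. (The chain is given as a functor from the ordered set of natural
numbers; only its values on 0, …, n+1 matter.) -/
theorem result
    (C : Type u) [Category.{v} C] [Abelian C] [HasDerivedCategory.{w} C]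
    (a : ℤ) (n : ℕ) (K : ℕ ⥤ DerivedCategory C)
    (hGE : ∀ i : ℕ, i ≤ n + 1 → (K.obj i).IsGE a)
    (hLE : ∀ i : ℕ, i ≤ n + 1 → (K.obj i).IsLE (a + n))
    (hzero : ∀ i : ℕ, i ≤ n → ∀ q : ℤ,
      (DerivedCategory.homologyFunctor C q).map (K.map (homOfLE (Nat.le_succ i))) = 0) :
    K.map (homOfLE (Nat.zero_le (n + 1))) = 0 := by
  classical
  exact main C a n K hGE hLE hzero

end Groth.Agent.S14100
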