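import Groth.Statements.S14101
import Groth.Agent.Lib.Helper7.GeomRedGen.Alg

set_option autoImplicit false
set_option linter.style.haveILetI false
universe u
open CAlg

namespace Groth.Agent.S14101

open scoped TensorProduct in
attribute [local instance] Algebra.TensorProduct.rightAlgebra in
/-- Spreading out reducedness from the generic fibre over a characteristic zero domain. -/
theorem aux (R : Type u) [CommRing R] [IsDomain R] [CharZero R] (A : Type u) [CommRing A]
    [Algebra R A] [Algebra.FiniteType R A] [IsReduced A] :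
    ∃ a : R, a ≠ 0 ∧ ∀ (I : Ideal R) [I.IsMaximal], a ∉ I →
      IsReduced (A ⧸ I.map (algebraMap R A)) := by
  haveI : CharZero (FractionRing R) := IsFractionRing.charZero R
  haveI hloc : IsLocalization (Algebra.algebraMapSubmonoid A (nonZeroDivisors R))
      (FractionRing R ⊗[R] A) :=
    IsLocalization.tensorRight (R := R) (S := A) (FractionRing R) (nonZeroDivisors R)
  have hred : IsReduced (FractionRing R ⊗[R] A) :=
    isReduced_localizationPreserves (Algebra.algebraMapSubmonoid A (nonZeroDivisors R)) _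
      inferInstance
  obtain ⟨a, ha, hK⟩ :=
    Groth.Agent.Helper7.GeomRedGen.exists_forall_isReduced_of_isDomain (R := R) (C := A)
      (FractionRing R) (FractionRing R) hred
  refine ⟨a, ha, fun I hI haI => ?_⟩
  letI : Field (R ⧸ I) := Ideal.Quotient.field I
  have h1 : IsReduced ((R ⧸ I) ⊗[R] A) := hK (R ⧸ I) (by
    rw [Ideal.Quotient.algebraMap_eq, Ne, Ideal.Quotient.eq_zero_iff_mem]
    exact haI)
  let e : (A ⧸ I.map (algebraMap R A)) ≃ₐ[A] A ⊗[R] (R ⧸ I) :=
    Algebra.TensorProduct.quotIdealMapEquivTensorQuot A I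
  let e2 : A ⊗[R] (R ⧸ I) ≃ₐ[R] (R ⧸ I) ⊗[R] A := Algebra.TensorProduct.comm R A (R ⧸ I)
  exact isReduced_of_injective ((e2 : A ⊗[R] (R ⧸ I) →+* (R ⧸ I) ⊗[R] A).comp
    (e : (A ⧸ I.map (algebraMap R A)) →+* A ⊗[R] (R ⧸ I)))
    (e2.injective.comp e.injective)

/-- Affine form — let A be a reduced commutative ring of finite type over ℤ. Then for all but finitely
many prime numbers p the reduction A/pA is reduced. (The published statement is for a reduced scheme
of finite type over ℤ; such a scheme has a finite affine open cover, so the affine form carries the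
same content.) -/
theorem result
    (A : Type u) [CommRing A] [Algebra.FiniteType ℤ A] [IsReduced A] :
    {p : ℕ | p.Prime ∧ ¬ IsReduced (A ⧸ Ideal.span {(p : A)})}.Finite := by
  classical
  letI : Algebra (ULift.{u} ℤ) A := ULift.algebra' ℤ A
  haveI : IsScalarTower ℤ (ULift.{u} ℤ) A := IsScalarTower.of_algebraMap_eq fun x => by
    simp
  haveI : Algebra.FiniteType (ULift.{u} ℤ) A :=
    Algebra.FiniteType.of_restrictScalars_finiteType ℤ (ULift.{u} ℤ) A
  haveI : IsDomain (ULift.{u} ℤ) := ULift.ringEquiv.toMulEquiv.isDomain ℤ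
  haveI : CharZero (ULift.{u} ℤ) := ⟨fun m n h => by
    have := congrArg ULift.down h
    simpa using this⟩
  obtain ⟨a, ha, hK⟩ := aux (ULift.{u} ℤ) A
  have hn : a.down ≠ 0 := fun h => ha (ULift.down_injective h)
  have hfin : {p : ℕ | p ∣ a.down.natAbs}.Finite :=
    Set.Finite.subset (Finset.finite_toSet (Nat.divisors a.down.natAbs)) fun p hp => by
      simp only [Finset.mem_coe, Nat.mem_divisors]
      exact ⟨hp, Int.natAbs_ne_zero.mpr hn⟩
  refine hfin.subset ?_
  rintro p ⟨hp, hnr⟩
  by_contra hdiv
  apply hnr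
  -- the maximal ideal `(p)` of `ULift ℤ`
  have hmax : (Ideal.span {(ULift.up (p : ℤ) : ULift.{u} ℤ)}).IsMaximal := by
    have hprime : Prime (ULift.up (p : ℤ) : ULift.{u} ℤ) := by
      have h0 : Prime ((p : ℤ)) := Nat.prime_iff_prime_int.mp hp
      exact (MulEquiv.prime_iff (ULift.ringEquiv (R := ℤ)).symm.toMulEquiv).mpr h0
    haveI : IsPrincipalIdealRing (ULift.{u} ℤ) :=
      IsPrincipalIdealRing.of_surjective (ULift.ringEquiv (R := ℤ)).symm.toRingHom
        (ULift.ringEquiv (R := ℤ)).symm.surjective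
    exact PrincipalIdealRing.isMaximal_of_irreducible hprime.irreducible
  have hmem : a ∉ Ideal.span {(ULift.up (p : ℤ) : ULift.{u} ℤ)} := by
    rw [Ideal.mem_span_singleton]
    rintro ⟨c, hc⟩
    apply hdiv
    have h2 : a.down = (p : ℤ) * c.down := by
      have := congrArg ULift.down hc
      simpa using this
    show p ∣ a.down.natAbs
    rw [← Int.natCast_dvd_natCast, Int.natCast_natAbs]
    exact (dvd_abs _ _).mpr ⟨c.down, h2⟩
  have h3 := @hK _ hmax hmem
  have h4 : (Ideal.span {(ULift.up (p : ℤ) : ULift.{u} ℤ)}).map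
      (algebraMap (ULift.{u} ℤ) A) = Ideal.span {(p : A)} := by
    rw [Ideal.map_span, Set.image_singleton]
    simp
  rw [h4] at h3
  exact h3

end Groth.Agent.S14101
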