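import Groth.Statements.S14122
import Mathlib

set_option autoImplicit false
universe u
open ValCrit

namespace Groth.Agent.S14122

section
open Module

theorem core
    (R : Type u) [CommRing R] [IsDomain R] [IsDiscreteValuationRing R]
    (K : Type u) [Field K] [Algebra R K] [IsFractionRing R K]
    (N : ℕ) (g : GL (Fin N) K) (hg : IsOfFinOrder g) :
    ∃ (h : GL (Fin N) K) (g' : GL (Fin N) R),
      h * g * h⁻¹ = Matrix.GeneralLinearGroup.map (algebraMap R K) g' := by
  classical
  have hn : 0 < orderOf g := hg.orderOf_pos
  obtain ⟨n, hn'⟩ : ∃ n, n = orderOf g := ⟨_, rfl⟩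
  -- the generating family
  let f : Fin (orderOf g) × Fin N → (Fin N → K) :=
    fun p => ((g ^ p.1.val : GL (Fin N) K) : Matrix (Fin N) (Fin N) K).mulVec (Pi.single p.2 1)
  let M : Submodule R (Fin N → K) := Submodule.span R (Set.range f)
  have hfg : M.FG := Submodule.fg_span (Set.finite_range f)
  have hstd : ∀ j : Fin N, (Pi.single j 1 : Fin N → K) ∈ M := by
    intro j
    apply Submodule.subset_span
    refine ⟨(⟨0, hn⟩, j), ?_⟩
    simp only [f, pow_zero, Units.val_one, Matrix.one_mulVec]
  have hspan : Submodule.span K (M : Set (Fin N → K)) = ⊤ := by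
    rw [eq_top_iff, ← (Pi.basisFun K (Fin N)).span_eq]
    apply Submodule.span_mono
    rintro _ ⟨j, rfl⟩
    simpa using hstd j
  have hlat : Submodule.IsLattice K M := ⟨hfg, hspan⟩
  -- stability under powers of g
  have hstab : ∀ (m : ℕ) (x : Fin N → K), x ∈ M →
      ((g ^ m : GL (Fin N) K) : Matrix (Fin N) (Fin N) K).mulVec x ∈ M := by
    intro m x hx
    induction hx using Submodule.span_induction with
    | mem x hx =>
      obtain ⟨⟨i, j⟩, rfl⟩ := hx
      apply Submodule.subset_span
      refine ⟨(⟨(m + i.val) % orderOf g, Nat.mod_lt _ hn⟩, j), ?_⟩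
      simp only [f]
      rw [Matrix.mulVec_mulVec, ← Matrix.GeneralLinearGroup.coe_mul, ← pow_add, pow_mod_orderOf]
    | zero => simp
    | add x y _ _ hx hy => rw [Matrix.mulVec_add]; exact M.add_mem hx hy
    | smul a x _ hx =>
      rw [Matrix.mulVec_smul]; exact M.smul_mem a hx
  -- linear maps on M
  let T : (m : ℕ) → M →ₗ[R] M := fun m =>
    { toFun := fun x => ⟨((g ^ m : GL (Fin N) K) : Matrix (Fin N) (Fin N) K).mulVec x.val, hstab m x.val x.2⟩
      map_add' := by intro x y; ext1; simp [Matrix.mulVec_add]
      map_smul' := by intro a x; ext1; simp [Matrix.mulVec_smul] }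
  have hTT : ∀ a b : ℕ, (a + b) % orderOf g = 0 → (T a).comp (T b) = LinearMap.id := by
    intro a b hab
    ext x : 2
    simp only [T, LinearMap.comp_apply, LinearMap.coe_mk, AddHom.coe_mk, LinearMap.id_apply]
    rw [Matrix.mulVec_mulVec, ← Matrix.GeneralLinearGroup.coe_mul, ← pow_add,
      ← pow_mod_orderOf, hab]
    simp
  -- basis
  have hfree : Module.Free R M := inferInstance
  have hfin : Module.Finite R M := Module.Finite.iff_fg.mpr hfg
  have hrank : Module.finrank R M = Fintype.card (Fin N) :=
    Submodule.IsLattice.finrank_of_pi K M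
  let b : Basis (Fin N) R M := Module.finBasisOfFinrankEq R M (by simpa using hrank)
  let bK : Basis (Fin N) K (Fin N → K) := b.extendOfIsLattice K
  have hbK : ∀ k, bK k = (b k).val := fun k => Basis.extendOfIsLattice_apply K b k
  have hrepr : ∀ (x : M) (i : Fin N), bK.repr x.val i = algebraMap R K (b.repr x i) := by
    intro x i
    have h1 : x.val = ∑ j, (algebraMap R K (b.repr x j)) • bK j := by
      conv_lhs => rw [← b.sum_repr x]
      rw [Submodule.coe_sum]
      apply Finset.sum_congr rfl
      intro j _
      rw [Submodule.coe_smul, hbK, algebraMap_smul]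
    rw [h1, Basis.repr_sum_self]
  let std : Basis (Fin N) K (Fin N → K) := Pi.basisFun K (Fin N)
  let gl : (Fin N → K) →ₗ[K] (Fin N → K) := Matrix.toLin' (g : Matrix (Fin N) (Fin N) K)
  have key := basis_toMatrix_mul_linearMap_toMatrix_mul_basis_toMatrix bK std bK std gl
  have hstdmat : LinearMap.toMatrix std std gl = (g : Matrix (Fin N) (Fin N) K) := by
    simp only [std, gl]
    exact LinearMap.toMatrix'_toLin' _
  let C : Matrix (Fin N) (Fin N) R := LinearMap.toMatrix b b (T 1)
  let C' : Matrix (Fin N) (Fin N) R := LinearMap.toMatrix b b (T (orderOf g - 1))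
  have hCC' : C * C' = 1 := by
    simp only [C, C']
    rw [← LinearMap.toMatrix_comp, hTT, LinearMap.toMatrix_id]
    rw [Nat.add_sub_cancel' hn]; simp
  have hC'C : C' * C = 1 := by
    simp only [C, C']
    rw [← LinearMap.toMatrix_comp, hTT, LinearMap.toMatrix_id]
    rw [Nat.sub_add_cancel hn]; simp
  have hCmap : LinearMap.toMatrix bK bK gl = C.map (algebraMap R K) := by
    ext i j
    simp only [LinearMap.toMatrix_apply, Matrix.map_apply, C]
    rw [hbK]
    have : gl (b j).val = (T 1 (b j)).val := by
      simp [gl, T]
    rw [this, hrepr]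
  refine ⟨⟨bK.toMatrix std, std.toMatrix bK, Basis.toMatrix_mul_toMatrix_flip _ _,
    Basis.toMatrix_mul_toMatrix_flip _ _⟩, ⟨C, C', hCC', hC'C⟩, ?_⟩
  apply Units.ext
  simp only [Units.val_mul, Matrix.GeneralLinearGroup.map_apply]
  rw [← hstdmat]
  rw [show ((⟨bK.toMatrix std, std.toMatrix bK, Basis.toMatrix_mul_toMatrix_flip _ _,
    Basis.toMatrix_mul_toMatrix_flip _ _⟩ : GL (Fin N) K)⁻¹ : GL (Fin N) K).val = std.toMatrix bK from rfl]
  rw [key, hCmap]
  rfl

theorem main
    (R : Type u) [CommRing R] [IsDomain R] [IsDiscreteValuationRing R]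
    (K : Type u) [Field K] [Algebra R K] [IsFractionRing R K]
    (N : ℕ) (g : GL (Fin N) K) (hg : IsOfFinOrder g) :
    ∃ (R' : Type u) (_ : CommRing R') (_ : IsDomain R') (_ : IsDiscreteValuationRing R')
      (K' : Type u) (_ : Field K') (_ : Algebra R' K') (_ : IsFractionRing R' K')
      (_ : Algebra R R') (_ : Algebra K K') (_ : Algebra R K')
      (_ : IsScalarTower R R' K') (_ : IsScalarTower R K K')
      (_ : Module.Finite K K') (_ : IsLocalHom (algebraMap R R'))
      (h : GL (Fin N) K') (g' : GL (Fin N) R'),
      h * Matrix.GeneralLinearGroup.map (algebraMap K K') g * h⁻¹ =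
        Matrix.GeneralLinearGroup.map (algebraMap R' K') g' := by
  obtain ⟨h, g', hh⟩ := core R K N g hg
  refine ⟨R, inferInstance, inferInstance, inferInstance, K, inferInstance, inferInstance,
    inferInstance, Algebra.id R, Algebra.id K, inferInstance, inferInstance, inferInstance,
    inferInstance, ?_, h, g', ?_⟩
  · show IsLocalHom (RingHom.id R)
    infer_instance
  · have : Matrix.GeneralLinearGroup.map (algebraMap K K) g = g := by
      ext i j; simp
    rw [this]; exact hh


end


/-- Let `R` be a discrete valuation ring with fraction field `K` and `g ∈ GL_N(K)` an element of finite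
order. Then after passing to a finite extension `K'` of `K` and a discrete valuation ring `R'` of
`K'` dominating `R`, the element `g` becomes conjugate in `GL_N(K')` to an element of `GL_N(R')`.
(The published statement is that the classifying stack of `GL_N` over the integers satisfies a
valuative condition, for discrete valuation rings essentially of finite type over the integers, on
extending finite-order generic automorphisms along nearby modifications; since vector bundles over a
discrete valuation ring are trivial, that condition is this conjugacy statement for such rings, and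
this row states it for every discrete valuation ring, as the printed argument gives.) -/
theorem result
    (R : Type u) [CommRing R] [IsDomain R] [IsDiscreteValuationRing R]
    (K : Type u) [Field K] [Algebra R K] [IsFractionRing R K]
    (N : ℕ) (g : GL (Fin N) K) (hg : IsOfFinOrder g) :
    ∃ (R' : Type u) (_ : CommRing R') (_ : IsDomain R') (_ : IsDiscreteValuationRing R')
      (K' : Type u) (_ : Field K') (_ : Algebra R' K') (_ : IsFractionRing R' K')
      (_ : Algebra R R') (_ : Algebra K K') (_ : Algebra R K')
      (_ : IsScalarTower R R' K') (_ : IsScalarTower R K K')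
      (_ : Module.Finite K K') (_ : IsLocalHom (algebraMap R R'))
      (h : GL (Fin N) K') (g' : GL (Fin N) R'),
      h * Matrix.GeneralLinearGroup.map (algebraMap K K') g * h⁻¹ =
        Matrix.GeneralLinearGroup.map (algebraMap R' K') g' := by
  classical
  exact main R K N g hg

end Groth.Agent.S14122
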