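import Groth.Statements.S14175
import Mathlib

set_option autoImplicit false
universe u v w
open GalCoh

namespace Groth.Agent.S14175

namespace Aux

open Finset

section
variable {k : Type u} {V : Type w} [CommRing k] [AddCommGroup V] [Module k V]

/-- geometric sums in the endomorphism ring -/
noncomputable def P (T : Module.End k V) (i : ℕ) : Module.End k V := ∑ j ∈ range i, T ^ j

lemma P_add (T : Module.End k V) (a b : ℕ) : P T (a + b) = P T a + T ^ a * P T b := by
  unfold P
  rw [Finset.sum_range_add, Finset.mul_sum]
  congr 1
  apply Finset.sum_congr rfl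
  intro j _
  rw [pow_add]

lemma P_one (T : Module.End k V) : P T 1 = 1 := by
  simp [P]

lemma P_mul (T : Module.End k V) (d : ℕ) (hT : T ^ d = 1) (q : ℕ) :
    P T (q * d) = q • P T d := by
  induction q with
  | zero => simp [P]
  | succ q ih =>
    rw [Nat.succ_mul, P_add, ih, pow_mul', hT, one_pow, one_mul, succ_nsmul]

lemma sub_one_mul_P (T : Module.End k V) (i : ℕ) : (T - 1) * P T i = T ^ i - 1 :=
  mul_geom_sum T i

end

theorem main
    {k : Type u} {G : Type v} {V : Type w} [CommRing k] [Group G] [Finite G]
    [AddCommGroup V] [Module k V] (ρ : Representation k G V)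
    (t : G) (ht : ∀ g : G, g ∈ Subgroup.zpowers t)
    (m : ℕ) (hm : m ∣ Nat.card G) (htors : ∀ v : V, m • v = 0)
    (htriv : ∀ g : G, g ^ m = 1 → ∀ v : V, ρ g v = v) :
    (∀ f : G → V, (∀ g h : G, f (g * h) = ρ g (f h) + f g) →
        (Representation.Coinvariants.mk ρ (f t) = 0 ↔ ∃ x : V, ∀ g : G, f g = ρ g x - x)) ∧
    (∀ v : V, ∃ f : G → V, (∀ g h : G, f (g * h) = ρ g (f h) + f g) ∧
        Representation.Coinvariants.mk ρ (f t) = Representation.Coinvariants.mk ρ v) := by
  classical
  have hpow : ∀ g : G, ∃ i : ℕ, t ^ i = g := by
    intro g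
    have : g ∈ Submonoid.powers t := mem_powers_iff_mem_zpowers.mpr (ht g)
    exact this
  have hord : orderOf t = Nat.card G := orderOf_eq_card_of_forall_mem_zpowers ht
  set T : Module.End k V := ρ t with hTdef
  have hρpow : ∀ i : ℕ, ρ (t ^ i) = T ^ i := fun i => map_pow ρ t i
  obtain ⟨d, hd⟩ := hm
  -- T^d = 1
  have hTd : T ^ d = 1 := by
    rw [← hρpow]
    apply LinearMap.ext
    intro v
    apply htriv
    rw [← pow_mul, mul_comm, ← hd, ← hord, pow_orderOf_eq_one]
  -- P T n = 0
  have hPn : P T (Nat.card G) = 0 := by
    rw [hd, P_mul T d hTd m]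
    apply LinearMap.ext
    intro v
    show (m • P T d) v = 0
    rw [LinearMap.smul_apply]
    exact htors _
  have hPper : ∀ a : ℕ, P T (a + Nat.card G) = P T a := by
    intro a
    rw [P_add, hPn, mul_zero, add_zero]
  have hPper' : ∀ q a : ℕ, P T (a + Nat.card G * q) = P T a := by
    intro q
    induction q with
    | zero => intro a; simp
    | succ q ih =>
      intro a
      rw [Nat.mul_succ, ← add_assoc, hPper, ih]
  have hPmod : ∀ a : ℕ, P T a = P T (a % Nat.card G) := by
    intro a
    conv_lhs => rw [← Nat.mod_add_div a (Nat.card G)]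
    exact hPper' _ _
  have hPeq : ∀ a b : ℕ, t ^ a = t ^ b → P T a = P T b := by
    intro a b hab
    have h1 : a ≡ b [MOD orderOf t] := pow_eq_pow_iff_modEq.mp hab
    rw [hord] at h1
    rw [hPmod a, hPmod b, h1]
  have hker : Representation.Coinvariants.ker ρ ≤ LinearMap.range (T - 1) := by
    unfold Representation.Coinvariants.ker
    rw [Submodule.span_le]
    rintro _ ⟨⟨g, x⟩, rfl⟩
    obtain ⟨i, rfl⟩ := hpow g
    refine ⟨P T i x, ?_⟩
    show ((T - 1) * P T i) x = ρ (t ^ i) x - x
    rw [sub_one_mul_P, hρpow]
    rfl
  constructor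
  · intro f hf
    have hf1 : f 1 = 0 := by
      have := hf 1 1
      rw [mul_one, map_one] at this
      simpa using this
    constructor
    · intro h0
      rw [Representation.Coinvariants.mk_eq_zero] at h0
      obtain ⟨x, hx⟩ := hker h0
      have hx' : f t = ρ t x - x := by
        rw [← hx]; rfl
      refine ⟨x, ?_⟩
      have key : ∀ i : ℕ, f (t ^ i) = ρ (t ^ i) x - x := by
        intro i
        induction i with
        | zero => simp [hf1]
        | succ i ih =>
          rw [pow_succ', hf, ih, hx', map_mul, map_sub]
          simp only [Module.End.mul_apply]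
          abel
      intro g
      obtain ⟨i, rfl⟩ := hpow g
      exact key i
    · rintro ⟨x, hx⟩
      rw [Representation.Coinvariants.mk_eq_zero, hx t]
      exact Representation.Coinvariants.sub_mem_ker t x
  · intro v
    let e : G → ℕ := fun g => Classical.choose (hpow g)
    have he : ∀ g, t ^ e g = g := fun g => Classical.choose_spec (hpow g)
    refine ⟨fun g => P T (e g) v, ?_, ?_⟩
    · intro g h
      show P T (e (g * h)) v = ρ g (P T (e h) v) + P T (e g) v
      have h1 : t ^ e (g * h) = t ^ (e g + e h) := by
        rw [he, pow_add, he, he]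
      rw [hPeq _ _ h1, P_add]
      have h2 : ρ g = T ^ e g := by
        rw [← hρpow, he]
      rw [h2, add_comm]
      rfl
    · show Representation.Coinvariants.mk ρ (P T (e t) v) = _
      have h1 : t ^ e t = t ^ 1 := by rw [he, pow_one]
      rw [hPeq _ _ h1, P_one]
      rfl

end Aux

/-- Let G be a finite cyclic group generated by t, let m be a natural number dividing the order of G,
and let ρ be a linear representation of G on a module V over a commutative ring k such that m·V = 0
and every element of G whose m-th power is the identity acts trivially on V. Then evaluating a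
crossed homomorphism at t induces a bijection from the first cohomology of G with values in V
(crossed homomorphisms f, i.e. f(gh) = ρ(g)f(h) + f(g), modulo the principal ones g ↦ ρ(g)x − x)
onto the coinvariants V_G (the quotient of V by the span of all ρ(g)v − v): the class of f(t) in V_G
vanishes exactly when f is principal, and every class of V_G is the class of f(t) for some crossed
homomorphism f. The bijection depends on the choice of the generator t. -/
theorem result
    {k : Type u} {G : Type v} {V : Type w} [CommRing k] [Group G] [Finite G]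
    [AddCommGroup V] [Module k V] (ρ : Representation k G V)
    (t : G) (ht : ∀ g : G, g ∈ Subgroup.zpowers t)
    (m : ℕ) (hm : m ∣ Nat.card G) (htors : ∀ v : V, m • v = 0)
    (htriv : ∀ g : G, g ^ m = 1 → ∀ v : V, ρ g v = v) :
    (∀ f : G → V, (∀ g h : G, f (g * h) = ρ g (f h) + f g) →
        (Representation.Coinvariants.mk ρ (f t) = 0 ↔ ∃ x : V, ∀ g : G, f g = ρ g x - x)) ∧
    (∀ v : V, ∃ f : G → V, (∀ g h : G, f (g * h) = ρ g (f h) + f g) ∧
        Representation.Coinvariants.mk ρ (f t) = Representation.Coinvariants.mk ρ v) := by
  exact Aux.main ρ t ht m hm htors htriv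

end Groth.Agent.S14175
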