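import Groth.Statements.S14176
import Mathlib

set_option autoImplicit false
universe u
open Pi1

namespace Groth.Agent.S14176

section
open W4c1etcurveeff2
open scoped commutatorElement

theorem enough (n : ℕ) [NeZero n] : HasEnoughRootsOfUnity (Multiplicative (ZMod n)) n := by
  refine ⟨⟨Multiplicative.ofAdd 1, ?_⟩, ?_⟩
  · rw [IsPrimitiveRoot.iff_def]
    constructor
    · rw [← ofAdd_nsmul]; simp
    · intro l hl
      rw [← ofAdd_nsmul] at hl
      have : ((l : ℕ) : ZMod n) = 0 := by simpa using hl
      exact (ZMod.natCast_eq_zero_iff l n).mp this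
  · have h1 : IsCyclic (Multiplicative (ZMod n))ˣ :=
      isCyclic_of_surjective (toUnits (G := Multiplicative (ZMod n))) (toUnits.surjective)
    infer_instance

theorem pow_n_eq_one (n : ℕ) (x : Multiplicative (ZMod n)) : x ^ n = 1 := by
  rw [← ofAdd_toAdd x, ← ofAdd_nsmul]
  simp

section
set_option linter.unusedSectionVars false
variable {G : Type*} [Group G] [TopologicalSpace G] [IsTopologicalGroup G] (n : ℕ)

/-- the algebraic subgroup generated by powers and commutators -/
def P (G : Type*) [Group G] (n : ℕ) : Subgroup G :=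
  Subgroup.closure (Set.range fun g : G => g ^ n) ⊔ commutator G

theorem powClosure_normal (G : Type*) [Group G] (n : ℕ) :
    (Subgroup.closure (Set.range fun g : G => g ^ n)).Normal := by
  constructor
  intro x hx g
  induction hx using Subgroup.closure_induction with
  | mem y hy =>
    obtain ⟨h, rfl⟩ := hy
    apply Subgroup.subset_closure
    exact ⟨g * h * g⁻¹, by simp [conj_pow]⟩
  | one => simp
  | mul a b _ _ ha hb =>
    have : g * (a * b) * g⁻¹ = (g * a * g⁻¹) * (g * b * g⁻¹) := by group
    rw [this]; exact mul_mem ha hb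
  | inv a _ ha =>
    have : g * a⁻¹ * g⁻¹ = (g * a * g⁻¹)⁻¹ := by group
    rw [this]; exact inv_mem ha

instance P_normal (G : Type*) [Group G] (n : ℕ) : (P G n).Normal := by
  have := powClosure_normal G n
  unfold P
  infer_instance

theorem S_eq : powCommClosure G n = (P G n).topologicalClosure := rfl

instance S_normal : (powCommClosure G n).Normal := by
  rw [S_eq]
  exact Subgroup.is_normal_topologicalClosure _

theorem S_closed : IsClosed ((powCommClosure G n : Subgroup G) : Set G) :=
  Subgroup.isClosed_topologicalClosure _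

theorem P_le_S : P G n ≤ powCommClosure G n := Subgroup.le_topologicalClosure _

theorem pow_mem_P (g : G) : g ^ n ∈ P G n :=
  (le_sup_left : _ ≤ P G n) (Subgroup.subset_closure ⟨g, rfl⟩)

theorem comm_mem_P (g h : G) : ⁅g, h⁆ ∈ P G n :=
  (le_sup_right : _ ≤ P G n) (Subgroup.commutator_mem_commutator (Subgroup.mem_top g) (Subgroup.mem_top h))

/-- a subgroup containing all powers and commutators contains P -/
theorem P_le (H : Subgroup G) (hpow : ∀ g : G, g ^ n ∈ H) (hcomm : ∀ g h : G, ⁅g, h⁆ ∈ H) :
    P G n ≤ H := by
  unfold P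
  refine sup_le ?_ ?_
  · rw [Subgroup.closure_le]
    rintro _ ⟨g, rfl⟩
    exact hpow g
  · rw [commutator_def, Subgroup.commutator_le]
    intro g _ h _
    exact hcomm g h

theorem S_le (H : Subgroup G) (hH : IsClosed (H : Set G)) (hpow : ∀ g : G, g ^ n ∈ H)
    (hcomm : ∀ g h : G, ⁅g, h⁆ ∈ H) : powCommClosure G n ≤ H :=
  Subgroup.topologicalClosure_minimal _ (P_le n H hpow hcomm) hH

end

section quotient
set_option linter.unusedSectionVars false
variable {G : Type*} [Group G] [TopologicalSpace G] [IsTopologicalGroup G] (n : ℕ) [NeZero n]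

theorem Q_comm (a b : G ⧸ powCommClosure G n) : a * b = b * a := by
  obtain ⟨g, rfl⟩ := QuotientGroup.mk_surjective a
  obtain ⟨h, rfl⟩ := QuotientGroup.mk_surjective b
  rw [← QuotientGroup.mk_mul, ← QuotientGroup.mk_mul, QuotientGroup.eq]
  have := P_le_S n (comm_mem_P n h⁻¹ g⁻¹)
  simpa [commutatorElement_def, mul_assoc] using this

theorem Q_pow (a : G ⧸ powCommClosure G n) : a ^ n = 1 := by
  obtain ⟨g, rfl⟩ := QuotientGroup.mk_surjective a
  rw [← QuotientGroup.mk_pow, QuotientGroup.eq_one_iff]
  exact P_le_S n (pow_mem_P n g)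

/-- the commutative group structure on the quotient -/
@[reducible] def Q_commGroup : CommGroup (G ⧸ powCommClosure G n) :=
  { (inferInstance : Group (G ⧸ powCommClosure G n)) with mul_comm := Q_comm n }

theorem Q_finite (s : Finset G) (hs : Dense ((Subgroup.closure (s : Set G) : Subgroup G) : Set G)) :
    Finite (G ⧸ powCommClosure G n) := by
  classical
  letI : CommGroup (G ⧸ powCommClosure G n) := Q_commGroup n
  haveI : IsClosed ((powCommClosure G n : Subgroup G) : Set G) := S_closed n
  let H₀ : Subgroup (G ⧸ powCommClosure G n) :=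
    Subgroup.closure ((QuotientGroup.mk : G → G ⧸ powCommClosure G n) '' (s : Set G))
  have hfg : Group.FG H₀ := by
    rw [Group.fg_iff_subgroup_fg]
    exact ⟨s.image QuotientGroup.mk, by simp [H₀]⟩
  have htors : IsMulTorsion H₀ := by
    intro x
    rw [isOfFinOrder_iff_pow_eq_one]
    exact ⟨n, Nat.pos_of_ne_zero (NeZero.ne n), by ext; simp [Q_pow]⟩
  have hfin : Finite H₀ := CommGroup.finite_of_fg_isMulTorsion (G := H₀) htors
  have hfin' : (H₀ : Set (G ⧸ powCommClosure G n)).Finite := Set.toFinite _
  have hclosed : IsClosed (H₀ : Set (G ⧸ powCommClosure G n)) := hfin'.isClosed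
  have hdense : Dense (H₀ : Set (G ⧸ powCommClosure G n)) := by
    have h1 := (QuotientGroup.mk_surjective (s := powCommClosure G n)).denseRange.dense_image
      QuotientGroup.continuous_mk hs
    refine h1.mono ?_
    rintro _ ⟨g, hg, rfl⟩
    have h2 : QuotientGroup.mk' (powCommClosure G n) g ∈
        (Subgroup.closure (s : Set G)).map (QuotientGroup.mk' (powCommClosure G n)) := ⟨g, hg, rfl⟩
    rw [MonoidHom.map_closure] at h2
    exact h2
  have htop : (H₀ : Set (G ⧸ powCommClosure G n)) = Set.univ := by
    rw [← hclosed.closure_eq, hdense.closure_eq]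
  rw [← Set.finite_univ_iff, ← htop]
  exact hfin'

theorem S_open (s : Finset G) (hs : Dense ((Subgroup.closure (s : Set G) : Subgroup G) : Set G)) :
    IsOpen ((powCommClosure G n : Subgroup G) : Set G) := by
  haveI := Q_finite n s hs
  haveI : (powCommClosure G n).FiniteIndex := Subgroup.finiteIndex_of_finite_quotient
  exact Subgroup.isOpen_of_isClosed_of_finiteIndex _ (S_closed n)

end quotient

section main
set_option linter.unusedSectionVars false
variable {G : Type*} [Group G] [TopologicalSpace G] [IsTopologicalGroup G] (n : ℕ) [NeZero n]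

theorem S_le_ker (χ : G →* Multiplicative (ZMod n)) (hχ : IsOpen ((χ.ker : Subgroup G) : Set G)) :
    powCommClosure G n ≤ χ.ker := by
  apply S_le n χ.ker (Subgroup.isClosed_of_isOpen _ hχ)
  · intro g
    rw [MonoidHom.mem_ker, map_pow, pow_n_eq_one]
  · intro g h
    rw [MonoidHom.mem_ker, commutatorElement_def, map_mul, map_mul, map_mul, map_inv, map_inv,
      mul_comm (χ g) (χ h), mul_inv_cancel_right, mul_inv_cancel]

theorem enoughQ : HasEnoughRootsOfUnity (Multiplicative (ZMod n))
    (@Monoid.exponent (G ⧸ powCommClosure G n) _) := by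
  haveI := enough n
  exact HasEnoughRootsOfUnity.of_dvd _ (Monoid.exponent_dvd_of_forall_pow_eq_one (Q_pow n))

/-- the continuous character attached to a character of the quotient -/
def toChar (ψ : (G ⧸ powCommClosure G n) →* (Multiplicative (ZMod n))ˣ)
    (hopen : IsOpen ((powCommClosure G n : Subgroup G) : Set G)) : ContChar G n :=
  ⟨(Units.coeHom (Multiplicative (ZMod n))).comp (ψ.comp (QuotientGroup.mk' (powCommClosure G n))), by
    show IsOpen _
    refine Subgroup.isOpen_mono (H₁ := powCommClosure G n) ?_ hopen
    intro g hg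
    rw [MonoidHom.mem_ker, MonoidHom.comp_apply, MonoidHom.comp_apply]
    have : (QuotientGroup.mk' (powCommClosure G n)) g = 1 := by
      rw [QuotientGroup.mk'_apply, QuotientGroup.eq_one_iff]; exact hg
    rw [this, map_one, map_one]⟩

theorem toChar_apply (ψ : (G ⧸ powCommClosure G n) →* (Multiplicative (ZMod n))ˣ)
    (hopen : IsOpen ((powCommClosure G n : Subgroup G) : Set G)) (g : G) :
    (toChar n ψ hopen).1 g = ((ψ (QuotientGroup.mk g) : (Multiplicative (ZMod n))ˣ) :
      Multiplicative (ZMod n)) := rfl

/-- the character of the quotient attached to a continuous character -/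
def ofChar (χ : ContChar G n) : (G ⧸ powCommClosure G n) →* (Multiplicative (ZMod n))ˣ :=
  (toUnits (G := Multiplicative (ZMod n))).toMonoidHom.comp
    (QuotientGroup.lift (powCommClosure G n) χ.1 (fun _ hg => S_le_ker n χ.1 χ.2 hg))

theorem ofChar_mk (χ : ContChar G n) (g : G) :
    ((ofChar n χ (QuotientGroup.mk g) : (Multiplicative (ZMod n))ˣ) : Multiplicative (ZMod n)) =
      χ.1 g := rfl

theorem toChar_ofChar (χ : ContChar G n)
    (hopen : IsOpen ((powCommClosure G n : Subgroup G) : Set G)) : toChar n (ofChar n χ) hopen = χ := by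
  apply Subtype.ext
  ext g
  rw [toChar_apply, ofChar_mk]

theorem mem_S_iff (s : Finset G) (hs : Dense ((Subgroup.closure (s : Set G) : Subgroup G) : Set G))
    (g : G) : g ∈ powCommClosure G n ↔
      ∀ χ : G →* Multiplicative (ZMod n), IsOpen ((χ.ker : Subgroup G) : Set G) → χ g = 1 := by
  constructor
  · intro hg χ hχ
    exact S_le_ker n χ hχ hg
  · intro h
    by_contra hg
    letI : CommGroup (G ⧸ powCommClosure G n) := Q_commGroup n
    haveI : Finite (G ⧸ powCommClosure G n) := Q_finite n s hs
    haveI := enoughQ (G := G) n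
    have hne : (QuotientGroup.mk g : G ⧸ powCommClosure G n) ≠ 1 := by
      rw [Ne, QuotientGroup.eq_one_iff]; exact hg
    obtain ⟨φ, hφ⟩ := CommGroup.exists_apply_ne_one_of_hasEnoughRootsOfUnity
      (G ⧸ powCommClosure G n) (Multiplicative (ZMod n)) hne
    have hopen := S_open n s hs
    have := h (toChar n φ hopen).1 (toChar n φ hopen).2
    rw [toChar_apply] at this
    apply hφ
    exact Units.ext this

theorem exists_eval (s : Finset G) (hs : Dense ((Subgroup.closure (s : Set G) : Subgroup G) : Set G))
    (F : ContChar G n →* Multiplicative (ZMod n)) :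
    ∃ g : G, ∀ χ : ContChar G n, F χ = (χ.1 : G →* Multiplicative (ZMod n)) g := by
  letI : CommGroup (G ⧸ powCommClosure G n) := Q_commGroup n
  haveI : Finite (G ⧸ powCommClosure G n) := Q_finite n s hs
  haveI := enoughQ (G := G) n
  have hopen := S_open n s hs
  let F' : ((G ⧸ powCommClosure G n) →* (Multiplicative (ZMod n))ˣ) →* (Multiplicative (ZMod n))ˣ :=
    MonoidHom.mk' (fun ψ => toUnits (F (toChar n ψ hopen))) (by
      intro ψ ψ'
      rw [← map_mul, ← map_mul]
      congr 2)
  let q := CommGroup.monoidHomMonoidHomEquiv (G ⧸ powCommClosure G n) (Multiplicative (ZMod n)) F'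
  obtain ⟨g, hg⟩ := QuotientGroup.mk_surjective q
  refine ⟨g, fun χ => ?_⟩
  have h1 := CommGroup.apply_monoidHomMonoidHomEquiv (G := G ⧸ powCommClosure G n)
    (M := Multiplicative (ZMod n)) (ofChar n χ) F'
  have h2 : F' (ofChar n χ) = toUnits (F χ) := by
    show toUnits (F (toChar n (ofChar n χ) hopen)) = _
    rw [toChar_ofChar]
  rw [h2] at h1
  have h3 : ((ofChar n χ q : (Multiplicative (ZMod n))ˣ) : Multiplicative (ZMod n)) = F χ := by
    rw [show q = CommGroup.monoidHomMonoidHomEquiv (G ⧸ powCommClosure G n)
      (Multiplicative (ZMod n)) F' from rfl, h1]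
    rfl
  rw [← h3, ← hg, ofChar_mk]

end main

section final
set_option linter.unusedSectionVars false
variable {G : Type*} [Group G] [TopologicalSpace G] [IsTopologicalGroup G] (n : ℕ) [NeZero n]

theorem P_map (φ : G ≃* G) : (P G n).map φ.toMonoidHom = P G n := by
  unfold P
  rw [Subgroup.map_sup, MonoidHom.map_closure]
  congr 1
  · congr 1
    ext x
    constructor
    · rintro ⟨_, ⟨g, rfl⟩, rfl⟩
      exact ⟨φ g, by simp⟩
    · rintro ⟨g, rfl⟩
      exact ⟨(φ.symm g) ^ n, ⟨φ.symm g, rfl⟩, by simp⟩
  · rw [commutator_def, Subgroup.map_commutator,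
      Subgroup.map_top_of_surjective _ (show Function.Surjective φ.toMonoidHom from φ.surjective)]

theorem S_map (φ : G ≃* G) (h1 : Continuous φ) (h2 : Continuous φ.symm) :
    (powCommClosure G n).map φ.toMonoidHom = powCommClosure G n := by
  let e : G ≃ₜ G := { φ.toEquiv with continuous_toFun := h1, continuous_invFun := h2 }
  apply SetLike.coe_injective
  rw [S_eq, Subgroup.coe_map, Subgroup.topologicalClosure_coe]
  have : (φ.toMonoidHom : G → G) = e := rfl
  rw [this, e.image_closure]
  have h3 : (e '' ((P G n : Subgroup G) : Set G)) = ((P G n).map φ.toMonoidHom : Subgroup G) := by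
    rw [Subgroup.coe_map]; rfl
  rw [h3, P_map]

theorem unique_H (s : Finset G) (hs : Dense ((Subgroup.closure (s : Set G) : Subgroup G) : Set G))
    (H : Subgroup G) [H.Normal] (hH : IsClosed (H : Set G))
    (e : G ⧸ H ≃* (ContChar G n →* Multiplicative (ZMod n))) : H = powCommClosure G n := by
  -- S ≤ H
  have hmk : ∀ g : G, g ∈ H ↔ e (QuotientGroup.mk g) = 1 := by
    intro g
    rw [MulEquiv.map_eq_one_iff, QuotientGroup.eq_one_iff]
  have hle : powCommClosure G n ≤ H := by
    apply S_le n H hH
    · intro g
      rw [hmk, QuotientGroup.mk_pow, map_pow]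
      ext χ
      rw [MonoidHom.pow_apply, pow_n_eq_one, MonoidHom.one_apply]
    · intro g h
      rw [hmk, commutatorElement_def, QuotientGroup.mk_mul, QuotientGroup.mk_mul, QuotientGroup.mk_mul,
        QuotientGroup.mk_inv, QuotientGroup.mk_inv, map_mul, map_mul, map_mul, map_inv, map_inv,
        mul_comm (e _) (e _), mul_inv_cancel_right, mul_inv_cancel]
  -- cardinalities
  haveI : Finite (G ⧸ powCommClosure G n) := Q_finite n s hs
  let ev : (G ⧸ powCommClosure G n) → (ContChar G n →* Multiplicative (ZMod n)) := fun q =>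
    MonoidHom.mk' (fun χ => ((ofChar n χ q : (Multiplicative (ZMod n))ˣ) : Multiplicative (ZMod n)))
      (by
        intro χ χ'
        obtain ⟨g, rfl⟩ := QuotientGroup.mk_surjective q
        rw [ofChar_mk, ofChar_mk, ofChar_mk]
        rfl)
  have hev : ∀ (g : G) (χ : ContChar G n), ev (QuotientGroup.mk g) χ = χ.1 g := fun g χ => rfl
  have hbij : Function.Bijective ev := by
    constructor
    · intro a b hab
      obtain ⟨g, rfl⟩ := QuotientGroup.mk_surjective a
      obtain ⟨h, rfl⟩ := QuotientGroup.mk_surjective b
      rw [QuotientGroup.eq, mem_S_iff n s hs]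
      intro χ hχ
      have := congrArg (fun f => f ⟨χ, hχ⟩) hab
      simp only [hev] at this
      rw [map_mul, map_inv, this, inv_mul_cancel]
    · intro F
      obtain ⟨g, hg⟩ := exists_eval n s hs F
      refine ⟨QuotientGroup.mk g, ?_⟩
      ext χ
      rw [hev, hg]
  have hcard : Nat.card (G ⧸ powCommClosure G n) = Nat.card (G ⧸ H) :=
    (Nat.card_eq_of_bijective ev hbij).trans (Nat.card_congr e.toEquiv).symm
  have hidx : (powCommClosure G n).index = H.index := by
    rw [Subgroup.index_eq_card, Subgroup.index_eq_card, hcard]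
  have hne : (powCommClosure G n).index ≠ 0 := by
    rw [Subgroup.index_eq_card]
    exact Nat.card_pos.ne'
  have hrel := Subgroup.relIndex_mul_index hle
  rw [← hidx] at hrel
  have hone : (powCommClosure G n).relIndex H = 1 := by
    have : (powCommClosure G n).relIndex H * (powCommClosure G n).index =
        1 * (powCommClosure G n).index := by rw [hrel, one_mul]
    exact Nat.eq_of_mul_eq_mul_right (Nat.pos_of_ne_zero hne) this
  rw [Subgroup.relIndex_eq_one] at hone
  exact le_antisymm hone hle

theorem main {G : Type*} [Group G] [TopologicalSpace G] [IsTopologicalGroup G]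
    (s : Finset G) (hs : Dense ((Subgroup.closure (s : Set G) : Subgroup G) : Set G))
    (n : ℕ) [NeZero n] (S : Subgroup G) (hS : S = powCommClosure G n) :
    (∀ φ : G ≃* G, Continuous φ → Continuous φ.symm → S.map φ.toMonoidHom = S) ∧
    (∀ g : G, g ∈ S ↔
        ∀ χ : G →* Multiplicative (ZMod n), IsOpen ((χ.ker : Subgroup G) : Set G) → χ g = 1) ∧
    (∀ F : ContChar G n →* Multiplicative (ZMod n), ∃ g : G,
        ∀ χ : ContChar G n, F χ = (χ.1 : G →* Multiplicative (ZMod n)) g) ∧
    (∀ (H : Subgroup G) [H.Normal], IsClosed (H : Set G) →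
        Nonempty (G ⧸ H ≃* (ContChar G n →* Multiplicative (ZMod n))) → H = S) := by
  subst hS
  refine ⟨fun φ h1 h2 => S_map n φ h1 h2, fun g => mem_S_iff n s hs g,
    fun F => exists_eval n s hs F, ?_⟩
  intro H _ hH ⟨e⟩
  exact unique_H n s hs H hH e

end final

end


open W4c1etcurveeff2 in
/-- Let G be a topological group in which some finite subset generates a dense subgroup, let n ≥ 1, and
let S be the closure of the subgroup generated by all n-th powers and all commutators. Write D for
the group of continuous homomorphisms from G to the discrete cyclic group ℤ/n, that is,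
homomorphisms with open kernel (the first cohomology of G with coefficients in the trivial module
ℤ/n), and D^∨ for its ℤ/n-dual, the group of homomorphisms D → ℤ/n. Then: S is carried onto itself
by every group automorphism of G that is a homeomorphism; an element g of G lies in S exactly when
every element of D kills g, and every element of D^∨ is evaluation at some element of G, so that
evaluation identifies G/S with D^∨; and S is the only closed normal subgroup H of G with G/H
isomorphic to D^∨. (The published statement is for a topologically finitely generated group, calls S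
characteristic and does not restrict the competing subgroups H; this row asks the automorphisms to
be homeomorphisms and H to be closed, which is what the argument uses: for the integers with the
p-adic topology times a cyclic group of prime order q ≠ p, the subgroup qℤ × ℤ/q is normal, not
closed, and has quotient isomorphic to D^∨ ≅ ℤ/q, while S = ℤ × 0.) -/
theorem result
    {G : Type u} [Group G] [TopologicalSpace G] [IsTopologicalGroup G]
    (s : Finset G) (hs : Dense ((Subgroup.closure (s : Set G) : Subgroup G) : Set G))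
    (n : ℕ) [NeZero n] (S : Subgroup G) (hS : S = powCommClosure G n) :
    (∀ φ : G ≃* G, Continuous φ → Continuous φ.symm → S.map φ.toMonoidHom = S) ∧
    (∀ g : G, g ∈ S ↔
        ∀ χ : G →* Multiplicative (ZMod n), IsOpen ((χ.ker : Subgroup G) : Set G) → χ g = 1) ∧
    (∀ F : ContChar G n →* Multiplicative (ZMod n), ∃ g : G,
        ∀ χ : ContChar G n, F χ = (χ.1 : G →* Multiplicative (ZMod n)) g) ∧
    (∀ (H : Subgroup G) [H.Normal], IsClosed (H : Set G) →
        Nonempty (G ⧸ H ≃* (ContChar G n →* Multiplicative (ZMod n))) → H = S) := by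
  classical
  exact main s hs n S hS

end Groth.Agent.S14176
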