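import Groth.Statements.S14177
import Mathlib

set_option autoImplicit false
universe u v w
open scoped nonZeroDivisors
open EtAlg

namespace Groth.Agent.S14177

section
open scoped nonZeroDivisors
open Polynomial

section field
variable {K : Type v} {L : Type w} [Field K] [Field L] [Algebra K L]

theorem fin_sep (n : ℕ) (hn0 : n ≠ 0) (hnK : (n : K) ≠ 0) (f : K) (hf : f ≠ 0) (α : L)
    (hα : α ^ n = algebraMap K L f) (hgen : IntermediateField.adjoin K {α} = ⊤) :
    FiniteDimensional K L ∧ Algebra.IsSeparable K L := by
  have hsep : (X ^ n - C f : K[X]).Separable := separable_X_pow_sub_C f hnK hf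
  have hαint : IsIntegral K α := ⟨X ^ n - C f, monic_X_pow_sub_C f hn0, by simp [hα]⟩
  have hαsep : IsSeparable K α := hsep.of_dvd (minpoly.dvd K α (by simp [hα]))
  have h1 : FiniteDimensional K (IntermediateField.adjoin K {α}) :=
    IntermediateField.adjoin.finiteDimensional hαint
  have h2 : Algebra.IsSeparable K (IntermediateField.adjoin K {α}) :=
    (IntermediateField.isSeparable_adjoin_simple_iff_isSeparable K L).2 hαsep
  rw [hgen] at h1 h2
  exact ⟨Module.Finite.equiv (IntermediateField.topEquiv (F := K) (E := L)).toLinearEquiv,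
    Algebra.IsSeparable.of_algHom K _ (IntermediateField.topEquiv (F := K) (E := L)).symm.toAlgHom⟩

end field


section frac
variable {A : Type u} {K : Type v} [CommRing A] [IsDedekindDomain A] [Field K] [Algebra A K]
  [IsFractionRing A K]

theorem exists_t (n : ℕ) (hn0 : n ≠ 0) (f : K) (hf : f ≠ 0)
    (I : FractionalIdeal A⁰ K) (hI : FractionalIdeal.spanSingleton A⁰ f = I ^ n)
    (𝔭 : Ideal A) [h𝔭 : 𝔭.IsPrime] :
    ∃ (t : K) (c₀ : A), t ≠ 0 ∧ t ^ n * f = algebraMap A K c₀ ∧ c₀ ∉ 𝔭 := by
  have hI0 : I ≠ 0 := by
    rintro rfl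
    rw [zero_pow hn0] at hI
    exact hf ((FractionalIdeal.spanSingleton_eq_zero_iff).1 hI)
  -- find `t ∈ I⁻¹`, `y ∈ I` with `t * y ∉ 𝔭`
  have hex : ∃ t ∈ I⁻¹, ∃ y ∈ I, ∀ a : A, algebraMap A K a = t * y → a ∉ 𝔭 := by
    by_contra hcon
    simp only [not_exists, not_and, not_forall, not_not] at hcon
    have hle : I⁻¹ * I ≤ (𝔭 : FractionalIdeal A⁰ K) := by
      rw [FractionalIdeal.mul_le]
      intro t ht y hy
      obtain ⟨a, ha, ha'⟩ := hcon t ht y hy
      rw [← ha]
      exact FractionalIdeal.mem_coeIdeal_of_mem _ ha'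
    rw [inv_mul_cancel₀ hI0] at hle
    have h1 : (1 : K) ∈ (𝔭 : FractionalIdeal A⁰ K) := hle (FractionalIdeal.one_mem_one _)
    obtain ⟨a, ha, ha'⟩ := (FractionalIdeal.mem_coeIdeal _).1 h1
    have : a = 1 := (IsFractionRing.injective A K) (by rw [ha', map_one])
    rw [this] at ha
    exact h𝔭.ne_top ((Ideal.eq_top_iff_one _).2 ha)
  obtain ⟨t, ht, y, hy, hty⟩ := hex
  -- `J = (t) * I ≤ 1`
  set J : FractionalIdeal A⁰ K := FractionalIdeal.spanSingleton A⁰ t * I with hJ
  have hJ1 : J ≤ 1 := by
    rw [hJ, ← inv_mul_cancel₀ hI0]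
    refine mul_le_mul_left ?_ _
    rw [FractionalIdeal.spanSingleton_le_iff_mem]
    exact ht
  obtain ⟨J₀, hJ₀⟩ := FractionalIdeal.le_one_iff_exists_coeIdeal.1 hJ1
  have hJn : FractionalIdeal.spanSingleton A⁰ (t ^ n * f) = ((J₀ ^ n : Ideal A) : FractionalIdeal A⁰ K) := by
    rw [FractionalIdeal.coeIdeal_pow, hJ₀, hJ, mul_pow, FractionalIdeal.spanSingleton_pow, ← hI,
      FractionalIdeal.spanSingleton_mul_spanSingleton]
  have hmem : t ^ n * f ∈ ((J₀ ^ n : Ideal A) : FractionalIdeal A⁰ K) := by
    rw [← hJn]
    exact FractionalIdeal.mem_spanSingleton_self _ _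
  obtain ⟨c₀, hc₀, hc₀'⟩ := (FractionalIdeal.mem_coeIdeal _).1 hmem
  have hty_mem : t * y ∈ J := by
    rw [hJ]
    exact FractionalIdeal.mul_mem_mul (FractionalIdeal.mem_spanSingleton_self _ _) hy
  rw [← hJ₀] at hty_mem
  obtain ⟨a, ha, ha'⟩ := (FractionalIdeal.mem_coeIdeal _).1 hty_mem
  have ha𝔭 : a ∉ 𝔭 := hty a ha'
  have ht0 : t ≠ 0 := by
    rintro rfl
    rw [zero_mul] at ha'
    have : a = 0 := (IsFractionRing.injective A K) (by rw [ha', map_zero])
    exact ha𝔭 (this ▸ 𝔭.zero_mem)
  refine ⟨t, c₀, ht0, hc₀'.symm, ?_⟩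
  intro hc𝔭
  -- `span {c₀} = J₀ ^ n`
  have hspan : Ideal.span {c₀} = J₀ ^ n := by
    apply FractionalIdeal.coeIdeal_injective (K := K)
    change ((Ideal.span {c₀} : Ideal A) : FractionalIdeal A⁰ K) = ((J₀ ^ n : Ideal A) : FractionalIdeal A⁰ K)
    rw [← hJn, FractionalIdeal.coeIdeal_span_singleton, hc₀']
  have : J₀ ^ n ≤ 𝔭 := by
    rw [← hspan, Ideal.span_singleton_le_iff_mem]
    exact hc𝔭
  exact ha𝔭 (h𝔭.le_of_pow_le this ha)

end frac


section main
attribute [local instance] FractionRing.liftAlgebra FractionRing.isScalarTower_liftAlgebra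
variable {A : Type u} {K : Type v} {L : Type w} [CommRing A] [IsDedekindDomain A]
    [Field K] [Algebra A K] [IsFractionRing A K]
    [Field L] [Algebra K L] [Algebra A L] [IsScalarTower A K L]

theorem sepFrac (B : Type*) [CommRing B] [IsDomain B] [Algebra A B] [Algebra B L] [IsScalarTower A B L]
    [IsFractionRing B L] [Module.IsTorsionFree A B] [Algebra.IsSeparable K L] :
    Algebra.IsSeparable (FractionRing A) (FractionRing B) := by
  have H : RingHom.comp (algebraMap (FractionRing A) (FractionRing B))
      ↑(FractionRing.algEquiv A K).symm.toRingEquiv =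
        RingHom.comp ↑(FractionRing.algEquiv B L).symm.toRingEquiv (algebraMap K L) := by
    apply IsLocalization.ringHom_ext A⁰
    ext
    simp only [RingHom.coe_comp, RingHom.coe_coe,
      AlgEquiv.coe_ringEquiv, Function.comp_apply, AlgEquiv.commutes,
      ← IsScalarTower.algebraMap_apply]
    rw [IsScalarTower.algebraMap_apply A B L, AlgEquiv.commutes, ← IsScalarTower.algebraMap_apply]
  exact Algebra.IsSeparable.of_equiv_equiv _ _ H

theorem adjoin_top (n : ℕ) (hn0 : n ≠ 0) (f : K) (α : L)
    (hα : α ^ n = algebraMap K L f) (hgen : IntermediateField.adjoin K {α} = ⊤)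
    (t : K) (ht : t ≠ 0) : Algebra.adjoin K {algebraMap K L t * α} = ⊤ := by
  have hαint : IsIntegral K α := ⟨X ^ n - C f, monic_X_pow_sub_C f hn0, by simp [hα]⟩
  have h1 : Algebra.adjoin K {α} = ⊤ := by
    rw [← IntermediateField.adjoin_simple_toSubalgebra_of_isAlgebraic hαint.isAlgebraic, hgen]
    rfl
  rw [eq_top_iff, ← h1]
  apply Algebra.adjoin_le
  intro y hy
  rw [Set.mem_singleton_iff] at hy
  rw [hy]
  have h2 : algebraMap K L t * α ∈ Algebra.adjoin K {algebraMap K L t * α} :=
    Algebra.subset_adjoin rfl
  have h3 := Subalgebra.smul_mem _ h2 t⁻¹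
  rw [Algebra.smul_def, ← mul_assoc, ← map_mul, inv_mul_cancel₀ ht, map_one, one_mul] at h3
  exact h3

theorem not_dvd [Module.IsTorsionFree A (integralClosure A L)]
    [IsDedekindDomain (integralClosure A L)] [FiniteDimensional K L] [Algebra.IsSeparable K L]
    (n : ℕ) (hn : IsUnit (n : A)) (hn0 : n ≠ 0) (f : K)
    (α : L) (hα : α ^ n = algebraMap K L f) (hgen : IntermediateField.adjoin K {α} = ⊤)
    (P : Ideal (integralClosure A L)) [hP : P.IsPrime]
    (t : K) (c₀ : A) (ht : t ≠ 0) (htc : t ^ n * f = algebraMap A K c₀)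
    (hc₀ : algebraMap A (integralClosure A L) c₀ ∉ P) :
    ¬ P ∣ differentIdeal A (integralClosure A L) := by
  intro hdvd
  have hle : differentIdeal A (integralClosure A L) ≤ P := Ideal.le_of_dvd hdvd
  have hxn : (algebraMap K L t * α) ^ n = algebraMap A L c₀ := by
    rw [mul_pow, hα, ← map_pow, ← map_mul, htc, ← IsScalarTower.algebraMap_apply]
  have hxint : IsIntegral A (algebraMap K L t * α) :=
    ⟨X ^ n - C c₀, monic_X_pow_sub_C c₀ hn0, by simp [hxn]⟩
  let x : integralClosure A L := ⟨algebraMap K L t * α, hxint⟩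
  have hx : Algebra.adjoin K {algebraMap (integralClosure A L) L x} = ⊤ :=
    adjoin_top n hn0 f α hα hgen t ht
  have hmem := aeval_derivative_mem_differentIdeal A K L x hx
  have hxB : x ^ n = algebraMap A (integralClosure A L) c₀ := by
    apply Subtype.ext
    simpa using hxn
  have hroot : aeval x (X ^ n - C c₀ : A[X]) = 0 := by simp [hxB]
  obtain ⟨h, hh⟩ := minpoly.isIntegrallyClosed_dvd (⟨X ^ n - C c₀, monic_X_pow_sub_C c₀ hn0, hroot⟩ : IsIntegral A x) hroot
  have hder := congrArg (fun p => aeval x (derivative p)) hh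
  simp only [derivative_sub, derivative_X_pow, derivative_C, sub_zero, derivative_mul, map_add,
    map_mul, minpoly.aeval, zero_mul, add_zero, map_pow, aeval_X, map_natCast] at hder
  have h1 : (n : integralClosure A L) * x ^ (n - 1) ∈ P := by
    rw [hder]
    exact P.mul_mem_right _ (hle hmem)
  have hnB : IsUnit (n : integralClosure A L) := by
    simpa using hn.map (algebraMap A (integralClosure A L))
  have h2 : x ^ (n - 1) ∈ P := by
    rcases hP.mem_or_mem h1 with h | h
    · exact absurd (P.eq_top_of_isUnit_mem h hnB) hP.ne_top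
    · exact h
  have h3 : x ^ n ∈ P := by
    have : x ^ n = x ^ (n - 1) * x := by
      rw [← pow_succ, Nat.sub_add_cancel (Nat.one_le_iff_ne_zero.2 hn0)]
    rw [this]
    exact P.mul_mem_right _ h2
  rw [hxB] at h3
  exact hc₀ h3

theorem main
    (n : ℕ) (hn : IsUnit (n : A)) (f : K) (hf : f ≠ 0)
    (I : FractionalIdeal A⁰ K) (hI : FractionalIdeal.spanSingleton A⁰ f = I ^ n)
    (α : L) (hα : α ^ n = algebraMap K L f) (hgen : IntermediateField.adjoin K {α} = ⊤) :
    Algebra.Etale A (integralClosure A L) ∧ Module.Finite A (integralClosure A L) := by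
  have hn0 : n ≠ 0 := by
    rintro rfl
    simp at hn
  have hnK : (n : K) ≠ 0 := by
    have := (hn.map (algebraMap A K)).ne_zero
    simpa using this
  obtain ⟨hfd, hsepKL⟩ := fin_sep n hn0 hnK f hf α hα hgen
  have hfrac : IsFractionRing (integralClosure A L) L :=
    IsIntegralClosure.isFractionRing_of_finite_extension A K L (integralClosure A L)
  have hded : IsDedekindDomain (integralClosure A L) :=
    IsIntegralClosure.isDedekindDomain A K L (integralClosure A L)
  have hfin : Module.Finite A (integralClosure A L) :=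
    IsIntegralClosure.finite A K L (integralClosure A L)
  have hinj : Function.Injective (algebraMap A (integralClosure A L)) := by
    intro a b hab
    have h1 : algebraMap A L a = algebraMap A L b := by
      have := congrArg (algebraMap (integralClosure A L) L) hab
      simpa [← IsScalarTower.algebraMap_apply] using this
    rw [IsScalarTower.algebraMap_apply A K L, IsScalarTower.algebraMap_apply A K L] at h1
    exact IsFractionRing.injective A K ((algebraMap K L).injective h1)
  have hfaith : FaithfulSMul A (integralClosure A L) :=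
    (faithfulSMul_iff_algebraMap_injective _ _).2 hinj
  have htf : Module.IsTorsionFree A (integralClosure A L) := inferInstance
  have hflat : Module.Flat A (integralClosure A L) := inferInstance
  have hft : Algebra.FiniteType A (integralClosure A L) := inferInstance
  have hfp : Algebra.FinitePresentation A (integralClosure A L) :=
    Algebra.FinitePresentation.of_finiteType.1 hft
  have hsepF : Algebra.IsSeparable (FractionRing A) (FractionRing (integralClosure A L)) :=
    sepFrac (K := K) (L := L) (integralClosure A L)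
  have hunr : Algebra.FormallyUnramified A (integralClosure A L) := by
    rw [Algebra.formallyUnramified_iff_forall]
    intro q
    have hP : q.asIdeal.IsPrime := q.2
    rw [← not_dvd_differentIdeal_iff]
    obtain ⟨t, c₀, ht, htc, hc₀⟩ := exists_t n hn0 f hf I hI (q.asIdeal.comap (algebraMap A (integralClosure A L)))
    exact not_dvd n hn hn0 f α hα hgen q.asIdeal t c₀ ht htc hc₀
  exact ⟨Algebra.Etale.of_formallyUnramified_of_flat, hfin⟩

end main


end


/-- Let A be a Dedekind domain with fraction field K, let n be a natural number invertible in A, let f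
be a nonzero element of K whose principal fractional ideal is the n-th power of a fractional ideal I
(the divisor of f is n times a divisor), and let L = K(α) be a field extension of K generated by a
single element α with α^n = f. Then the integral closure of A in L is finite and étale over A. (The
published statement is for the normalisation of an integral smooth curve over a perfect field in
such an extension of its function field; this row states the same for any Dedekind domain, the case
the local argument covers.) -/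
theorem result
    {A : Type u} {K : Type v} {L : Type w} [CommRing A] [IsDedekindDomain A]
    [Field K] [Algebra A K] [IsFractionRing A K]
    [Field L] [Algebra K L] [Algebra A L] [IsScalarTower A K L]
    (n : ℕ) (hn : IsUnit (n : A)) (f : K) (hf : f ≠ 0)
    (I : FractionalIdeal A⁰ K) (hI : FractionalIdeal.spanSingleton A⁰ f = I ^ n)
    (α : L) (hα : α ^ n = algebraMap K L f) (hgen : IntermediateField.adjoin K {α} = ⊤) :
    Algebra.Etale A (integralClosure A L) ∧ Module.Finite A (integralClosure A L) := by
  classical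
  exact main n hn f hf I hI α hα hgen

end Groth.Agent.S14177
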