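import Groth.Statements.S14178
import Mathlib

set_option autoImplicit false
universe u v w
open scoped nonZeroDivisors
open EtAlg

namespace Groth.Agent.S14178

section
open Polynomial nonZeroDivisors

theorem fracIdeal_eq_one_of_pow {A : Type u} {K : Type v} [CommRing A] [IsDomain A]
    [IsIntegrallyClosed A] [Field K] [Algebra A K] [IsFractionRing A K]
    (J : FractionalIdeal A⁰ K) (n : ℕ) (hn : n ≠ 0) (h : J ^ n = 1) : J = 1 := by
  have h1 : J ≤ 1 := by
    intro x hx
    have hxn : x ^ n ∈ J ^ n := by
      rw [← FractionalIdeal.mem_coe, FractionalIdeal.coe_pow]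
      exact Submodule.pow_mem_pow _ hx n
    rw [h] at hxn
    obtain ⟨a, ha⟩ := (FractionalIdeal.mem_one_iff _).mp hxn
    have hint : IsIntegral A x := by
      refine ⟨X ^ n - C a, monic_X_pow_sub_C a hn, ?_⟩
      simp [ha]
    obtain ⟨b, hb⟩ := IsIntegrallyClosed.isIntegral_iff.mp hint
    exact (FractionalIdeal.mem_one_iff _).mpr ⟨b, hb⟩
  apply le_antisymm h1
  obtain ⟨k, rfl⟩ := Nat.exists_eq_succ_of_ne_zero hn
  calc (1 : FractionalIdeal A⁰ K) = J ^ (k + 1) := h.symm
    _ = J * J ^ k := pow_succ' J k
    _ ≤ J * 1 := mul_le_mul_of_nonneg_left (pow_le_one₀ zero_le h1) zero_le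
    _ = J := mul_one J


theorem main {A : Type u} {K : Type v} {L : Type w} [CommRing A] [IsDedekindDomain A]
    [Field K] [Algebra A K] [IsFractionRing A K]
    [Field L] [Algebra K L]
    (n : ℕ) (hn : IsUnit (n : A)) (ζ : K) (hζ : IsPrimitiveRoot ζ n) (f : K) (hf : f ≠ 0)
    (I : (FractionalIdeal A⁰ K)ˣ)
    (hI : FractionalIdeal.spanSingleton A⁰ f = (I : FractionalIdeal A⁰ K) ^ n)
    (hord : orderOf (ClassGroup.mk K I) = n)
    (α : L) (hα : α ^ n = algebraMap K L f) (hgen : IntermediateField.adjoin K {α} = ⊤) :
    IsGalois K L ∧ IsCyclic (L ≃ₐ[K] L) ∧ Module.finrank K L = n := by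
  have hn0 : n ≠ 0 := by
    rintro rfl
    simp at hn
  have hnpos : 0 < n := Nat.pos_of_ne_zero hn0
  have hint : IsIntegral K α := by
    refine ⟨X ^ n - C f, monic_X_pow_sub_C f hn0, ?_⟩
    simp [hα]
  have hfd : FiniteDimensional K L := by
    have h1 : FiniteDimensional K (IntermediateField.adjoin K {α}) :=
      IntermediateField.adjoin.finiteDimensional hint
    rw [hgen] at h1
    exact Module.Finite.equiv (IntermediateField.topEquiv (F := K) (E := L)).toLinearEquiv
  have hd1 : Module.finrank K L = (minpoly K α).natDegree := by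
    rw [← IntermediateField.adjoin.finrank hint, hgen, IntermediateField.finrank_top']
  have hd2 : Module.finrank K L ≤ n := by
    rw [hd1]
    have hdvd : minpoly K α ∣ X ^ n - C f := by
      apply minpoly.dvd
      simp [hα]
    have := natDegree_le_of_dvd hdvd (X_pow_sub_C_ne_zero hnpos f)
    rwa [natDegree_X_pow_sub_C] at this
  have hd3 : 0 < Module.finrank K L := Module.finrank_pos
  -- the norm
  have hc : (Algebra.norm K α) ^ n = f ^ (Module.finrank K L) := by
    rw [← map_pow, hα, Algebra.norm_algebraMap]
  have hc0 : Algebra.norm K α ≠ 0 := by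
    intro h0
    rw [h0, zero_pow hn0] at hc
    exact pow_ne_zero _ hf hc.symm
  -- fractional ideals
  have hJ : ((I : FractionalIdeal A⁰ K) ^ (Module.finrank K L) *
      (FractionalIdeal.spanSingleton A⁰ (Algebra.norm K α))⁻¹) ^ n = 1 := by
    rw [mul_pow, inv_pow, FractionalIdeal.spanSingleton_pow, hc, ← FractionalIdeal.spanSingleton_pow,
      hI, ← pow_mul, ← pow_mul, mul_comm n]
    apply mul_inv_cancel₀
    exact pow_ne_zero _ (Units.ne_zero I)
  have hJ1 := fracIdeal_eq_one_of_pow _ n hn0 hJ
  have hprinc : (I : FractionalIdeal A⁰ K) ^ (Module.finrank K L) =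
      FractionalIdeal.spanSingleton A⁰ (Algebra.norm K α) := by
    have hne : FractionalIdeal.spanSingleton A⁰ (Algebra.norm K α) ≠ 0 := by
      rwa [Ne, FractionalIdeal.spanSingleton_eq_zero_iff]
    calc (I : FractionalIdeal A⁰ K) ^ (Module.finrank K L)
        = ((I : FractionalIdeal A⁰ K) ^ (Module.finrank K L) *
          (FractionalIdeal.spanSingleton A⁰ (Algebra.norm K α))⁻¹) *
          FractionalIdeal.spanSingleton A⁰ (Algebra.norm K α) := by
            rw [mul_assoc, inv_mul_cancel₀ hne, mul_one]
      _ = FractionalIdeal.spanSingleton A⁰ (Algebra.norm K α) := by rw [hJ1, one_mul]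
  have hcls : (ClassGroup.mk K I) ^ (Module.finrank K L) = 1 := by
    rw [← map_pow, ClassGroup.mk_eq_one_iff]
    rw [Units.val_pow_eq_pow_val, hprinc]
    exact ⟨⟨Algebra.norm K α, by simp [FractionalIdeal.coe_spanSingleton]⟩⟩
  have hdvd : n ∣ Module.finrank K L := by
    rw [← hord]
    exact orderOf_dvd_of_pow_eq_one hcls
  have hd : Module.finrank K L = n := le_antisymm hd2 (Nat.le_of_dvd hd3 hdvd)
  have hα' : α ^ (Module.finrank K L) = algebraMap K L f := by rw [hd]; exact hα
  have hgen' : IntermediateField.adjoin K {α} = ⊤ := hgen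
  have hirr : Irreducible (X ^ n - C f) := by
    have := irreducible_X_pow_sub_C_of_root_adjoin_eq_top hα' hgen'
    rwa [hd] at this
  have hK : (primitiveRoots n K).Nonempty := ⟨ζ, (mem_primitiveRoots hnpos).mpr hζ⟩
  have hsplit : IsSplittingField K L (X ^ n - C f) := by
    have hK' : (primitiveRoots (Module.finrank K L) K).Nonempty := by rw [hd]; exact hK
    have := isSplittingField_X_pow_sub_C_of_root_adjoin_eq_top hK' hα' hgen'
    rwa [hd] at this
  have : NeZero n := ⟨hn0⟩
  exact ⟨isGalois_of_isSplittingField_X_pow_sub_C hK hirr L,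
    isCyclic_of_isSplittingField_X_pow_sub_C hK hirr L, hd⟩


end


/-- Let A be a Dedekind domain with fraction field K, let n be a natural number invertible in A such
that K contains a primitive n-th root of unity, let f be a nonzero element of K and I an invertible
fractional ideal of A with (f) = I^n whose class in the ideal class group of A has order exactly n
(the divisor of f is n times a divisor whose class has order n), and let L = K(α) be a field
extension of K generated by a single element α with α^n = f. Then L is Galois over K of degree n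
with cyclic Galois group. (The published statement is for an integral smooth curve over a perfect
field containing a primitive n-th root of unity, with the Picard group of the curve in place of the
class group; this row states it for any Dedekind domain.) -/
theorem result
    {A : Type u} {K : Type v} {L : Type w} [CommRing A] [IsDedekindDomain A]
    [Field K] [Algebra A K] [IsFractionRing A K]
    [Field L] [Algebra K L]
    (n : ℕ) (hn : IsUnit (n : A)) (ζ : K) (hζ : IsPrimitiveRoot ζ n) (f : K) (hf : f ≠ 0)
    (I : (FractionalIdeal A⁰ K)ˣ) (hI : FractionalIdeal.spanSingleton A⁰ f = (I : FractionalIdeal A⁰ K) ^ n)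
    (hord : orderOf (ClassGroup.mk K I) = n)
    (α : L) (hα : α ^ n = algebraMap K L f) (hgen : IntermediateField.adjoin K {α} = ⊤) :
    IsGalois K L ∧ IsCyclic (L ≃ₐ[K] L) ∧ Module.finrank K L = n := by
  classical
  exact main n hn ζ hζ f hf I hI hord α hα hgen

end Groth.Agent.S14178
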