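import Groth.Statements.S14181
import Mathlib

set_option autoImplicit false
universe u
open CategoryTheory
open GalCoh

namespace Groth.Agent.S14181

namespace Aux

open groupCohomology


variable {k G : Type u} [CommRing k] [Group G] (A : Rep.{u} k G) (P : Subgroup G) [P.Normal]

/-- descent of a cocycle whose restriction to P is the coboundary of y -/
lemma descend (x : cocycles₁ A) (y : A) (h2 : ∀ s ∈ P, x s = A.ρ s y - y) :
    ∃ z : cocycles₁ (A.quotientToInvariants P),
      ∀ g : G, ((z (g : G ⧸ P)) : A) = x g - A.ρ g y + y := by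
  have h1 := (mem_cocycles₁_iff x).1 x.2
  refine ⟨⟨fun g => Quotient.liftOn' g (fun g => ⟨x.1 g - A.ρ g y + y, ?_⟩) ?_, ?_⟩, ?_⟩
  · intro s
    calc
      _ = x (s * g) - x s - A.ρ s (A.ρ g y) + (x s + y) := by
        simp [add_eq_of_eq_sub (h2 s s.2), sub_eq_of_eq_add (h1 s g)]
      _ = x (g * (g⁻¹ * s * g)) - A.ρ g (A.ρ (g⁻¹ * s * g) y - y) - A.ρ g y + y := by
        simp only [mul_assoc, mul_inv_cancel_left, map_mul, Module.End.mul_apply, map_sub,
          Representation.self_inv_apply]
        abel
      _ = x g - A.ρ g y + y := by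
        simp [eq_sub_of_add_eq' (h1 g (g⁻¹ * s * g)).symm,
          h2 (g⁻¹ * s * g) (Subgroup.Normal.conj_mem' ‹_› _ s.2 _)]
  · intro g h hgh
    have := congr(A.ρ g $(h2 (g⁻¹ * h) <| QuotientGroup.leftRel_apply.1 hgh))
    simp_all [← sub_eq_add_neg, sub_eq_sub_iff_sub_eq_sub]
  · rw [mem_cocycles₁_iff]
    intro g h
    induction g using QuotientGroup.induction_on with | @H g =>
    induction h using QuotientGroup.induction_on with | @H h =>
    apply Subtype.ext
    simp [← QuotientGroup.mk_mul, h1 g h, sub_add_eq_add_sub, add_assoc]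
  · intro g
    rfl

lemma ext_quot (z z' : cocycles₁ (A.quotientToInvariants P))
    (h : ∀ g : G, ((z (g : G ⧸ P)) : A) = ((z' (g : G ⧸ P)) : A)) : z = z' := by
  apply cocycles₁_ext
  intro g
  induction g using QuotientGroup.induction_on with | @H g =>
  exact Subtype.ext (h g)

variable [Fintype P] (hP : Function.Bijective fun a : A => (Nat.card P : k) • a)

noncomputable def E : A ≃ₗ[k] A :=
  LinearEquiv.ofBijective (LinearMap.lsmul k A (Nat.card P : k)) hP

lemma E_apply (a : A) : E A P hP a = (Nat.card P : k) • a := rfl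

noncomputable def yOf : cocycles₁ A →ₗ[k] A where
  toFun c := - (E A P hP).symm (∑ q : P, c (q : G))
  map_add' c c' := by
    rw [← neg_add, ← map_add, ← Finset.sum_add_distrib]
    rfl
  map_smul' a c := by
    simp only [RingHom.id_apply]
    have h : ∑ q : P, (a • c) (q : G) = a • ∑ q : P, c (q : G) := by
      rw [Finset.smul_sum]
      rfl
    rw [h, map_smul, smul_neg]

lemma yOf_spec (c : cocycles₁ A) (s : G) (hs : s ∈ P) :
    c s = A.ρ s (yOf A P hP c) - yOf A P hP c := by
  have h1 := (mem_cocycles₁_iff c).1 c.2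
  apply (E A P hP).injective
  have hE : ∀ a : A, A.ρ s ((E A P hP).symm a) = (E A P hP).symm (A.ρ s a) := by
    intro a
    apply (E A P hP).injective
    rw [LinearEquiv.apply_symm_apply, E_apply, ← map_smul, ← E_apply A P hP, LinearEquiv.apply_symm_apply]
  show _ = E A P hP (A.ρ s (- (E A P hP).symm (∑ q : P, c (q : G))) - - (E A P hP).symm (∑ q : P, c (q : G)))
  rw [map_neg, hE, map_sub, map_neg, map_neg, LinearEquiv.apply_symm_apply, LinearEquiv.apply_symm_apply]
  rw [map_sum]
  have h3 : ∑ q : P, c ((q : G)) = ∑ q : P, c (s * (q : G)) := by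
    symm
    exact Fintype.sum_equiv (Equiv.mulLeft (⟨s, hs⟩ : P)) _ _ (fun q => rfl)
  have h4 : ∑ q : P, c (s * (q : G)) = ∑ q : P, A.ρ s (c (q : G)) + Nat.card P • c s := by
    simp_rw [h1]
    rw [Finset.sum_add_distrib, Finset.sum_const, Finset.card_univ, Nat.card_eq_fintype_card]
  rw [E_apply, Nat.cast_smul_eq_nsmul]
  rw [neg_sub_neg, eq_sub_iff_add_eq]
  rw [h3, h4]
  abel

variable {k G : Type u} [CommRing k] [Group G] (A : Rep.{u} k G) (P : Subgroup G) [P.Normal]
variable [Fintype P] (hP : Function.Bijective fun a : A => (Nat.card P : k) • a)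

noncomputable def Lfun (c : cocycles₁ A) : cocycles₁ (A.quotientToInvariants P) :=
  Classical.choose (descend A P c (yOf A P hP c) (yOf_spec A P hP c))

lemma Lfun_spec (c : cocycles₁ A) (g : G) :
    ((Lfun A P hP c (g : G ⧸ P)) : A) = c g - A.ρ g (yOf A P hP c) + yOf A P hP c :=
  Classical.choose_spec (descend A P c (yOf A P hP c) (yOf_spec A P hP c)) g

noncomputable def L : cocycles₁ A →ₗ[k] cocycles₁ (A.quotientToInvariants P) where
  toFun := Lfun A P hP
  map_add' c c' := by
    apply ext_quot
    intro g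
    have h1 : (((Lfun A P hP c + Lfun A P hP c') (g : G ⧸ P)) : A) =
        ((Lfun A P hP c (g : G ⧸ P)) : A) + ((Lfun A P hP c' (g : G ⧸ P)) : A) := rfl
    rw [h1, Lfun_spec, Lfun_spec, Lfun_spec, map_add, map_add]
    have h2 : (c + c') g = c g + c' g := rfl
    rw [h2]
    abel
  map_smul' a c := by
    apply ext_quot
    intro g
    have h1 : (((a • Lfun A P hP c) (g : G ⧸ P)) : A) =
        a • ((Lfun A P hP c (g : G ⧸ P)) : A) := rfl
    simp only [RingHom.id_apply]
    rw [h1, Lfun_spec, Lfun_spec, map_smul, map_smul]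
    have h2 : (a • c) g = a • c g := rfl
    rw [h2, smul_add, smul_sub]

theorem main :
    (groupCohomology.mapCocycles₁ (QuotientGroup.mk' P) (Rep.ofHom (A.ρ.quotientToInvariants_lift P)) :
          ModuleCat.of k (groupCohomology.cocycles₁ (A.quotientToInvariants P)) ⟶
            ModuleCat.of k (groupCohomology.cocycles₁ A)) ≫ ModuleCat.ofHom (L A P hP) = 𝟙 _ := by
  apply ModuleCat.hom_ext
  apply LinearMap.ext
  intro x
  apply ext_quot
  intro g
  show ((Lfun A P hP (mapCocycles₁ (QuotientGroup.mk' P) (Rep.ofHom (A.ρ.quotientToInvariants_lift P)) x) (g : G ⧸ P)) : A) = ((x (g : G ⧸ P)) : A)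
  rw [Lfun_spec]
  have hy : yOf A P hP (mapCocycles₁ (QuotientGroup.mk' P) (Rep.ofHom (A.ρ.quotientToInvariants_lift P)) x) = 0 := by
    show - (E A P hP).symm (∑ q : P, (mapCocycles₁ (QuotientGroup.mk' P) (Rep.ofHom (A.ρ.quotientToInvariants_lift P)) x) (q : G)) = 0
    have h0 : ∀ q : P, (mapCocycles₁ (QuotientGroup.mk' P) (Rep.ofHom (A.ρ.quotientToInvariants_lift P)) x) (q : G) = 0 := by
      intro q
      show ((x ((q : G) : G ⧸ P)) : A) = 0
      rw [(QuotientGroup.eq_one_iff (q : G)).2 q.2, cocycles₁_map_one]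
      rfl
    simp only [h0, Finset.sum_const_zero, map_zero, neg_zero]
  rw [hy, map_zero, sub_zero, add_zero]
  rfl


end Aux

/-- Let G be a group with a finite normal subgroup P, k a commutative ring and A a k-linear
representation of G such that multiplication by the order of P is a bijection of A. Then the
inflation map on 1-cocycles (crossed homomorphisms) Z¹(G/P, A^P) → Z¹(G, A) has a k-linear left
inverse. (The published statement is for the inertia group of a Galois cover of smooth curves at a
point, its normal Sylow p-subgroup P and a module of n-torsion with n prime to p; the argument uses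
only that the order of P acts invertibly, which is the hypothesis taken here.) -/
theorem result
    {k G : Type u} [CommRing k] [Group G] (A : Rep.{u} k G) (P : Subgroup G) [P.Normal] [Finite P]
    (hP : Function.Bijective fun a : A => (Nat.card P : k) • a) :
    ∃ r : ModuleCat.of k (groupCohomology.cocycles₁ A) ⟶
        ModuleCat.of k (groupCohomology.cocycles₁ (A.quotientToInvariants P)),
      (groupCohomology.mapCocycles₁ (QuotientGroup.mk' P) (Rep.ofHom (A.ρ.quotientToInvariants_lift P)) :
          ModuleCat.of k (groupCohomology.cocycles₁ (A.quotientToInvariants P)) ⟶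
            ModuleCat.of k (groupCohomology.cocycles₁ A)) ≫ r = 𝟙 _ := by
  classical
  haveI : Fintype P := Fintype.ofFinite P
  exact ⟨ModuleCat.ofHom (Aux.L A P hP), Aux.main A P hP⟩

end Groth.Agent.S14181
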