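import Groth.Statements.S14188
import Groth.Agent.Lib.Helper6.GenFib.Basic

set_option autoImplicit false
universe u
open CategoryTheory CategoryTheory.Limits AlgebraicGeometry
open FlatMor

namespace Groth.Agent.S14188

/-- Let T be an integral scheme with generic point η, let Y and Z be schemes flat over T with Z
separated over T, and let ψ : Y_η → Z be a T-morphism from the generic fibre Y_η = Y ×_T Spec
O_{T,η} (equivalently, an η-morphism Y_η → Z_η). Let gr : Y_η → Y ×_T Z be the graph of ψ, the
morphism whose components are the projection Y_η → Y and ψ, and let Γ ⊆ Y ×_T Z be the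
scheme-theoretic image of gr (the schematic closure of the graph). Then ψ extends to a T-morphism φ
: Y → Z, meaning that the composite Y_η → Y → Z is ψ, if and only if the composite of the inclusion
Γ → Y ×_T Z with the first projection is an isomorphism Γ ≅ Y. -/
theorem result (T Y Z : Scheme.{u}) [IsIntegral T]
    (pY : Y ⟶ T) (pZ : Z ⟶ T) [Flat pY] [Flat pZ] [IsSeparated pZ]
    (ψ : pullback pY (T.fromSpecStalk (genericPoint T)) ⟶ Z)
    (hψ : ψ ≫ pZ = pullback.fst pY (T.fromSpecStalk (genericPoint T)) ≫ pY)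
    (gr : pullback pY (T.fromSpecStalk (genericPoint T)) ⟶ pullback pY pZ)
    (hgr₁ : gr ≫ pullback.fst pY pZ = pullback.fst pY (T.fromSpecStalk (genericPoint T)))
    (hgr₂ : gr ≫ pullback.snd pY pZ = ψ) :
    (∃ φ : Y ⟶ Z, φ ≫ pZ = pY ∧ pullback.fst pY (T.fromSpecStalk (genericPoint T)) ≫ φ = ψ) ↔
      IsIso (gr.imageι ≫ pullback.fst pY pZ) := by
  have hj : IsSchemeTheoreticallyDominant (pullback.fst pY (T.fromSpecStalk (genericPoint T))) :=
    Groth.Agent.Lib.Helper6.GenFib.isSchemeTheoreticallyDominant_fst pY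
  constructor
  · rintro ⟨φ, hφ1, hφ2⟩
    let Γφ : Y ⟶ pullback pY pZ := pullback.lift (𝟙 Y) φ (by rw [Category.id_comp, hφ1])
    have hfst : Γφ ≫ pullback.fst pY pZ = 𝟙 Y := pullback.lift_fst _ _ _
    have hsnd : Γφ ≫ pullback.snd pY pZ = φ := pullback.lift_snd _ _ _
    have hgr : gr = pullback.fst pY (T.fromSpecStalk (genericPoint T)) ≫ Γφ := by
      apply pullback.hom_ext
      · rw [hgr₁, Category.assoc, hfst, Category.comp_id]
      · rw [hgr₂, Category.assoc, hsnd, hφ2]
    have hcl : IsClosedImmersion Γφ := by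
      have : IsClosedImmersion (Γφ ≫ pullback.fst pY pZ) := by rw [hfst]; infer_instance
      exact IsClosedImmersion.of_comp Γφ (pullback.fst pY pZ)
    have hker : gr.ker = Γφ.ker := by
      rw [hgr, Scheme.Hom.ker_comp, hj.ker_eq_bot, Scheme.IdealSheafData.map_bot]
    have hk2 : gr.imageι.ker = Γφ.ker := by
      rw [Scheme.IdealSheafData.ker_subschemeι, hker]
    have he : IsClosedImmersion.lift Γφ gr.imageι hk2.ge ≫ Γφ = gr.imageι :=
      IsClosedImmersion.lift_fac _ _ _
    have hiso : IsIso (IsClosedImmersion.lift Γφ gr.imageι hk2.ge) :=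
      IsClosedImmersion.isIso_of_ker_eq gr.imageι Γφ _ he hk2
    rw [← he, Category.assoc, hfst, Category.comp_id]
    exact hiso
  · intro hiso
    refine ⟨inv (gr.imageι ≫ pullback.fst pY pZ) ≫ gr.imageι ≫ pullback.snd pY pZ, ?_, ?_⟩
    · rw [Category.assoc, Category.assoc, ← pullback.condition, ← Category.assoc gr.imageι,
        IsIso.inv_hom_id_assoc]
    · have h1 : pullback.fst pY (T.fromSpecStalk (genericPoint T)) =
          gr.toImage ≫ (gr.imageι ≫ pullback.fst pY pZ) := by
        rw [← Category.assoc, gr.toImage_imageι, hgr₁]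
      rw [h1, Category.assoc, IsIso.hom_inv_id_assoc, ← Category.assoc, gr.toImage_imageι, hgr₂]

end Groth.Agent.S14188
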