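import Groth.Statements.S14189
import Groth.Agent.Lib.Helper6.GenFib.Basic

set_option autoImplicit false
universe u
open CategoryTheory CategoryTheory.Limits AlgebraicGeometry
open FlatMor

namespace Groth.Agent.S14189

/-- Let T be an integral scheme with generic point η, let Y and Z be schemes flat over T with Z
separated over T, and let ψ : Y_η → Z be a T-morphism from the generic fibre Y_η = Y ×_T Spec
O_{T,η}. Let g : T' → T be flat, surjective and quasi-compact, and let φ' : Y_{T'} → Z_{T'} be a
T'-morphism which agrees with ψ over T' ×_T η, in the sense that on Y_{T'} ×_Y Y_η = Y ×_T T' ×_T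
Spec O_{T,η} the composite of the first projection with φ' and with Z_{T'} → Z equals the composite
of the second projection with ψ. Then ψ extends to a T-morphism φ : Y → Z, one whose composite with
Y_η → Y is ψ. (The published statement is an equivalence and also records that an extension, when it
exists, is unique; the converse direction, that an extension over T base-changes to such a φ' over
any such T', is immediate, and this row states the existence direction only.) -/
theorem result (T Y Z T' : Scheme.{u}) [IsIntegral T]
    (pY : Y ⟶ T) (pZ : Z ⟶ T) [Flat pY] [Flat pZ] [IsSeparated pZ]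
    (ψ : pullback pY (T.fromSpecStalk (genericPoint T)) ⟶ Z)
    (hψ : ψ ≫ pZ = pullback.fst pY (T.fromSpecStalk (genericPoint T)) ≫ pY)
    (g : T' ⟶ T) [Flat g] [Surjective g] [QuasiCompact g]
    (φ' : pullback pY g ⟶ pullback pZ g) (hφ' : φ' ≫ pullback.snd pZ g = pullback.snd pY g)
    (hagree : pullback.fst (pullback.fst pY g) (pullback.fst pY (T.fromSpecStalk (genericPoint T))) ≫ φ' ≫ pullback.fst pZ g =
      pullback.snd (pullback.fst pY g) (pullback.fst pY (T.fromSpecStalk (genericPoint T))) ≫ ψ) :
    ∃ φ : Y ⟶ Z, φ ≫ pZ = pY ∧ pullback.fst pY (T.fromSpecStalk (genericPoint T)) ≫ φ = ψ := by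
  have hj : IsSchemeTheoreticallyDominant (pullback.fst pY (T.fromSpecStalk (genericPoint T))) :=
    Groth.Agent.Lib.Helper6.GenFib.isSchemeTheoreticallyDominant_fst pY
  have hjqc : QuasiCompact (pullback.fst pY (T.fromSpecStalk (genericPoint T))) :=
    Groth.Agent.Lib.Helper6.GenFib.quasiCompact_fst pY
  -- χ : Y_{T'} ⟶ Z
  obtain ⟨χ, hχ⟩ : ∃ χ : pullback pY g ⟶ Z, χ = φ' ≫ pullback.fst pZ g := ⟨_, rfl⟩
  rw [← hχ] at hagree
  have hχZ : χ ≫ pZ = pullback.fst pY g ≫ pY := by
    rw [hχ, Category.assoc, pullback.condition, ← Category.assoc, hφ', pullback.condition]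
  -- Step 1: cocycle condition
  have hcond : pullback.fst (pullback.fst pY g) (pullback.fst pY g) ≫ χ =
      pullback.snd (pullback.fst pY g) (pullback.fst pY g) ≫ χ := by
    have hflat : Flat (pullback.fst (pullback.fst pY g) (pullback.fst pY g) ≫ pullback.fst pY g) :=
      inferInstance
    have hw : IsSchemeTheoreticallyDominant
        (pullback.fst (pullback.fst (pullback.fst pY g) (pullback.fst pY g) ≫ pullback.fst pY g)
          (pullback.fst pY (T.fromSpecStalk (genericPoint T)))) := inferInstance
    apply Groth.Agent.Lib.Helper6.GenFib.ext_of_isSchemeTheoreticallyDominant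
      (pullback.fst (pullback.fst (pullback.fst pY g) (pullback.fst pY g) ≫ pullback.fst pY g)
          (pullback.fst pY (T.fromSpecStalk (genericPoint T)))) pZ
    · rw [Category.assoc, Category.assoc, hχZ, ← Category.assoc, ← Category.assoc,
        pullback.condition]
    · -- both sides equal v ≫ ψ
      have key : ∀ (a : pullback (pullback.fst (pullback.fst pY g) (pullback.fst pY g) ≫
            pullback.fst pY g) (pullback.fst pY (T.fromSpecStalk (genericPoint T))) ⟶ pullback pY g),
          a ≫ pullback.fst pY g = pullback.snd _ _ ≫
            pullback.fst pY (T.fromSpecStalk (genericPoint T)) →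
          a ≫ χ = pullback.snd _ _ ≫ ψ := by
        intro a ha
        have h1 : a = pullback.lift a (pullback.snd _ _) ha ≫
            pullback.fst (pullback.fst pY g) (pullback.fst pY (T.fromSpecStalk (genericPoint T))) :=
          (pullback.lift_fst _ _ _).symm
        have h2 : pullback.lift a (pullback.snd _ _) ha ≫
            pullback.snd (pullback.fst pY g) (pullback.fst pY (T.fromSpecStalk (genericPoint T))) =
            pullback.snd _ _ := pullback.lift_snd _ _ _
        rw [h1, Category.assoc, hagree, ← Category.assoc, h2]
      rw [← Category.assoc, ← Category.assoc, key, key]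
      · have hc : pullback.snd (pullback.fst pY g) (pullback.fst pY g) ≫ pullback.fst pY g =
            pullback.fst (pullback.fst pY g) (pullback.fst pY g) ≫ pullback.fst pY g :=
          pullback.condition.symm
        rw [Category.assoc, hc]
        exact pullback.condition
      · rw [Category.assoc]
        exact pullback.condition
  -- Step 2: descent
  let φ : Y ⟶ Z := EffectiveEpi.desc (pullback.fst pY g) χ
    (fun g₁ g₂ e => by
      have := congrArg (pullback.lift g₁ g₂ e ≫ ·) hcond
      simp only [← Category.assoc, pullback.lift_fst, pullback.lift_snd] at this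
      exact this)
  have hqφ : pullback.fst pY g ≫ φ = χ := EffectiveEpi.fac _ _ _
  refine ⟨φ, ?_, ?_⟩
  · rw [← cancel_epi (pullback.fst pY g), ← Category.assoc, hqφ, hχZ]
  · have hepi : Epi (pullback.snd (pullback.fst pY g)
        (pullback.fst pY (T.fromSpecStalk (genericPoint T)))) :=
      Flat.epi_of_flat_of_surjective _
    rw [← cancel_epi (pullback.snd (pullback.fst pY g)
        (pullback.fst pY (T.fromSpecStalk (genericPoint T)))), ← hagree, ← Category.assoc,
      ← pullback.condition, Category.assoc, hqφ]

end Groth.Agent.S14189
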