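import Groth.Statements.S14192
import Mathlib

set_option autoImplicit false
open PowerSeries
open StackCount

namespace Groth.Agent.S14192

section
open PowerSeries

/-- exponential of a power series without constant term -/
noncomputable def E (A : ℚ⟦X⟧) : ℚ⟦X⟧ := (PowerSeries.exp ℚ).subst A

theorem hasSubst {A : ℚ⟦X⟧} (hA : constantCoeff A = 0) : HasSubst A :=
  HasSubst.of_constantCoeff_zero' hA

theorem constantCoeff_E {A : ℚ⟦X⟧} (hA : constantCoeff A = 0) : constantCoeff (E A) = 1 := by
  have h1 : PowerSeries.exp ℚ = 1 + (PowerSeries.exp ℚ - 1) := by ring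
  unfold E
  rw [h1, subst_add (hasSubst hA), map_add]
  have h2 : (1 : ℚ⟦X⟧).subst A = 1 := by
    rw [← coe_substAlgHom (hasSubst hA), map_one]
  have h3 : constantCoeff ((PowerSeries.exp ℚ - 1).subst A) = 0 := by
    apply constantCoeff_subst_eq_zero hA
    rw [map_sub, constantCoeff_exp, map_one, sub_self]
  rw [h2, h3, map_one, add_zero]

theorem derivative_E {A : ℚ⟦X⟧} (hA : constantCoeff A = 0) :
    derivative ℚ (E A) = E A * derivative ℚ A := by
  unfold E
  rw [derivative_subst (hasSubst hA), derivative_exp]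

theorem E_unique {A G : ℚ⟦X⟧} (hA : constantCoeff A = 0) (hG : constantCoeff G = 1)
    (hd : derivative ℚ G = G * derivative ℚ A) : G = E A := by
  have hE0 : constantCoeff (E A) ≠ 0 := by rw [constantCoeff_E hA]; exact one_ne_zero
  have hinv : E A * (E A)⁻¹ = 1 := PowerSeries.mul_inv_cancel _ hE0
  have hinv' : (E A)⁻¹ * E A = 1 := by rw [mul_comm]; exact hinv
  have h1 : G * (E A)⁻¹ = 1 := by
    apply derivative.ext
    · rw [Derivation.leibniz, derivative_inv', hd, derivative_E hA, Derivation.map_one_eq_zero]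
      simp only [smul_eq_mul]
      have : G * (-(E A)⁻¹ ^ 2 * (E A * derivative ℚ A)) + (E A)⁻¹ * (G * derivative ℚ A)
          = G * derivative ℚ A * (E A)⁻¹ * (1 - (E A)⁻¹ * E A) := by ring
      rw [this, hinv', sub_self, mul_zero]
    · rw [map_mul, constantCoeff_inv, hG, constantCoeff_E hA, map_one]
      norm_num
  calc G = G * ((E A)⁻¹ * E A) := by rw [hinv', mul_one]
    _ = (G * (E A)⁻¹) * E A := by ring
    _ = E A := by rw [h1, one_mul]

theorem E_add {A B : ℚ⟦X⟧} (hA : constantCoeff A = 0) (hB : constantCoeff B = 0) :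
    E (A + B) = E A * E B := by
  symm
  apply E_unique
  · rw [map_add, hA, hB, add_zero]
  · rw [map_mul, constantCoeff_E hA, constantCoeff_E hB, mul_one]
  · rw [Derivation.leibniz, derivative_E hA, derivative_E hB, map_add]
    simp only [smul_eq_mul]
    ring

theorem E_zero : E 0 = 1 := by
  symm
  apply E_unique
  · exact map_zero _
  · exact map_one _
  · rw [Derivation.map_one_eq_zero, map_zero, mul_zero]

theorem E_nsmul {A : ℚ⟦X⟧} (hA : constantCoeff A = 0) (r : ℕ) : E (r • A) = E A ^ r := by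
  induction r with
  | zero => rw [zero_smul, pow_zero, E_zero]
  | succ r ih =>
    rw [succ_nsmul, E_add _ hA, ih, pow_succ]
    rw [map_nsmul, hA, smul_zero]

theorem E_neg_mul {A : ℚ⟦X⟧} (hA : constantCoeff A = 0) : E (-A) * E A = 1 := by
  rw [← E_add _ hA, neg_add_cancel, E_zero]
  rw [map_neg, hA, neg_zero]

theorem E_sum {ι : Type*} (s : Finset ι) (A : ι → ℚ⟦X⟧) (hA : ∀ i ∈ s, constantCoeff (A i) = 0) :
    E (∑ i ∈ s, A i) = ∏ i ∈ s, E (A i) := by
  classical
  induction s using Finset.induction_on with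
  | empty => rw [Finset.sum_empty, Finset.prod_empty, E_zero]
  | insert a s ha ih =>
    rw [Finset.sum_insert ha, Finset.prod_insert ha, E_add, ih]
    · exact fun i hi => hA i (Finset.mem_insert_of_mem hi)
    · exact hA a (Finset.mem_insert_self _ _)
    · rw [map_sum]
      exact Finset.sum_eq_zero fun i hi => hA i (Finset.mem_insert_of_mem hi)

/-- the logarithm series `-log (1 - a X)` -/
noncomputable def L (a : ℚ) : ℚ⟦X⟧ := PowerSeries.mk fun v : ℕ => if v = 0 then (0 : ℚ) else a ^ v / v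

/-- the geometric series -/
noncomputable def geom (a : ℚ) : ℚ⟦X⟧ := PowerSeries.mk fun v : ℕ => a ^ v

theorem constantCoeff_L (a : ℚ) : constantCoeff (L a) = 0 := by
  rw [← coeff_zero_eq_constantCoeff_apply]
  unfold L
  rw [coeff_mk, if_pos rfl]

theorem geom_mul (a : ℚ) : geom a * (1 - C (a) * X) = 1 := by
  ext n
  rw [mul_sub, mul_one, map_sub, mul_comm (C a) X, ← mul_assoc]
  cases n with
  | zero =>
    rw [coeff_mul_C, coeff_zero_mul_X]
    unfold geom
    rw [coeff_mk, pow_zero, zero_mul, sub_zero, coeff_one, if_pos rfl]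
  | succ n =>
    rw [coeff_mul_C, coeff_succ_mul_X]
    unfold geom
    rw [coeff_mk, coeff_mk, coeff_one, if_neg (Nat.succ_ne_zero n), pow_succ, sub_self]

theorem E_L (a : ℚ) : E (L a) = geom a := by
  symm
  apply E_unique (constantCoeff_L a)
  · rw [← coeff_zero_eq_constantCoeff_apply]
    unfold geom
    rw [coeff_mk, pow_zero]
  · ext n
    rw [coeff_derivative, coeff_mul]
    have h1 : ∀ p ∈ Finset.HasAntidiagonal.antidiagonal n,
        coeff p.1 (geom a) * coeff p.2 (derivative ℚ (L a)) = a ^ (n + 1) := by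
      intro p hp
      rw [Finset.HasAntidiagonal.mem_antidiagonal] at hp
      rw [coeff_derivative]
      unfold geom L
      rw [coeff_mk, coeff_mk, if_neg (Nat.succ_ne_zero _)]
      have : ((p.2 + 1 : ℕ) : ℚ) ≠ 0 := by exact_mod_cast Nat.succ_ne_zero p.2
      push_cast at this ⊢
      rw [div_mul_cancel₀ _ this, ← pow_add, ← hp]
      ring
    rw [Finset.sum_congr rfl h1, Finset.sum_const, Finset.Nat.card_antidiagonal]
    unfold geom
    rw [coeff_mk]
    simp only [nsmul_eq_mul]
    push_cast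
    ring

theorem E_L_mul (a : ℚ) : E (L a) * (1 - C a * X) = 1 := by
  rw [E_L, geom_mul]

/-- the series `r • L a` for an integer `r`, split into positive and negative parts -/
noncomputable def rL (r : ℤ) (a : ℚ) : ℚ⟦X⟧ := r.toNat • L a + -((-r).toNat • L a)

theorem constantCoeff_rL (r : ℤ) (a : ℚ) : constantCoeff (rL r a) = 0 := by
  unfold rL
  rw [map_add, map_neg, map_nsmul, map_nsmul, constantCoeff_L, smul_zero, smul_zero, neg_zero,
    add_zero]

theorem coeff_rL (r : ℤ) (a : ℚ) (v : ℕ) :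
    coeff v (rL r a) = if v = 0 then 0 else (r : ℚ) * a ^ v / v := by
  unfold rL L
  rw [map_add, map_neg, map_nsmul, map_nsmul, coeff_mk]
  split_ifs with h
  · simp
  · have h1 : (r : ℚ) = (r.toNat : ℚ) - ((-r).toNat : ℚ) := by
      have := Int.toNat_sub_toNat_neg r
      exact_mod_cast this.symm
    rw [h1]
    simp only [nsmul_eq_mul]
    ring

theorem E_rL_mul (r : ℤ) (a : ℚ) :
    E (rL r a) * (1 - C a * X) ^ r.toNat = (1 - C a * X) ^ (-r).toNat := by
  have hL := constantCoeff_L a
  have h1 : E (rL r a) = E (L a) ^ r.toNat * E (-((-r).toNat • L a)) := by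
    unfold rL
    rw [E_add, E_nsmul hL]
    · rw [map_nsmul, hL, smul_zero]
    · rw [map_neg, map_nsmul, hL, smul_zero, neg_zero]
  have h2 : E (-((-r).toNat • L a)) * E (L a) ^ (-r).toNat = 1 := by
    rw [← E_nsmul hL]
    apply E_neg_mul
    rw [map_nsmul, hL, smul_zero]
  have h3 := E_L_mul a
  calc E (rL r a) * (1 - C a * X) ^ r.toNat
      = (E (L a) * (1 - C a * X)) ^ r.toNat * E (-((-r).toNat • L a)) := by
        rw [h1, mul_pow]; ring
    _ = E (-((-r).toNat • L a)) * (E (L a) * (1 - C a * X)) ^ (-r).toNat := by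
        rw [h3, one_pow, one_pow, one_mul, mul_one]
    _ = (E (-((-r).toNat • L a)) * E (L a) ^ (-r).toNat) * (1 - C a * X) ^ (-r).toNat := by
        rw [mul_pow]; ring
    _ = (1 - C a * X) ^ (-r).toNat := by rw [h2, one_mul]

theorem main (R : LaurentPolynomial ℤ) (q : ℤ) (hq : 1 < q) :
    (PowerSeries.exp ℚ).subst
        (PowerSeries.mk fun v : ℕ => if v = 0 then (0 : ℚ)
          else (R.coeff.sum fun (n : ℤ) (r : ℤ) => (r : ℚ) * (q : ℚ) ^ (n * (v : ℤ))) / (v : ℚ))
      * ∏ n ∈ R.coeff.support, (1 - PowerSeries.C ((q : ℚ) ^ n) * PowerSeries.X) ^ (R.coeff n).toNat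
    = ∏ n ∈ R.coeff.support, (1 - PowerSeries.C ((q : ℚ) ^ n) * PowerSeries.X) ^ (-(R.coeff n)).toNat := by
  have hS : (PowerSeries.mk fun v : ℕ => if v = 0 then (0 : ℚ)
      else (R.coeff.sum fun (n : ℤ) (r : ℤ) => (r : ℚ) * (q : ℚ) ^ (n * (v : ℤ))) / (v : ℚ)) =
      ∑ n ∈ R.coeff.support, rL (R.coeff n) ((q : ℚ) ^ n) := by
    ext v
    rw [coeff_mk, map_sum]
    simp only [coeff_rL]
    split_ifs with h
    · simp
    · rw [Finsupp.sum, Finset.sum_div]
      refine Finset.sum_congr rfl fun n _ => ?_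
      rw [zpow_mul, zpow_natCast]
  show E _ * _ = _
  rw [hS, E_sum _ _ (fun n _ => constantCoeff_rL _ _), ← Finset.prod_mul_distrib]
  exact Finset.prod_congr rfl fun n _ => E_rL_mul _ _


end


/-- Let R = Σ_n r_n X^n be a Laurent polynomial with integer coefficients and q > 1 an integer. In the
ring of formal power series in t over ℚ, the exponential of Σ_{v ≥ 1} R(q^v) t^v / v equals the
finite product Π_n (1 - q^n t)^(-r_n). Stated here with denominators cleared: the exponential series
multiplied by Π_{n : r_n > 0} (1 - q^n t)^(r_n) equals Π_{n : r_n < 0} (1 - q^n t)^(-r_n) (each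
factor 1 - q^n t is a unit, so this is equivalent). -/
theorem result (R : LaurentPolynomial ℤ) (q : ℤ) (hq : 1 < q) :
    (PowerSeries.exp ℚ).subst
        (PowerSeries.mk fun v : ℕ => if v = 0 then (0 : ℚ)
          else (R.coeff.sum fun (n : ℤ) (r : ℤ) => (r : ℚ) * (q : ℚ) ^ (n * (v : ℤ))) / (v : ℚ))
      * ∏ n ∈ R.coeff.support, (1 - PowerSeries.C ((q : ℚ) ^ n) * PowerSeries.X) ^ (R.coeff n).toNat
    = ∏ n ∈ R.coeff.support, (1 - PowerSeries.C ((q : ℚ) ^ n) * PowerSeries.X) ^ (-(R.coeff n)).toNat := by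
  classical
  exact main R q hq

end Groth.Agent.S14192
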