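import Groth.Statements.S14194
import Mathlib

set_option autoImplicit false
universe u
open W4c1btstackcounts
open StackCount

namespace Groth.Agent.S14194

section
open W4c1btstackcounts

section basic
variable {k : Type u} [Field k] {d : ℕ → ℕ}

theorem rankArray_eq (f : (i : ℕ) → Matrix (Fin (d (i + 1))) (Fin (d i)) k) (i n : ℕ) :
    rankArray f i (i + n) = Module.finrank k (iterImage f i n) := by
  unfold rankArray
  rw [if_pos (Nat.le_add_right i n)]
  have h : i + n - i = n := by omega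
  rw [h]

theorem finrank_map_inj {V V' : Type*} [AddCommGroup V] [Module k V] [AddCommGroup V']
    [Module k V'] (φ : V →ₗ[k] V') (hφ : Function.Injective φ) (S : Submodule k V) :
    Module.finrank k (S.map φ) = Module.finrank k S :=
  (LinearEquiv.finrank_eq (Submodule.equivMapOfInjective φ hφ S)).symm

theorem toLin'_gl_injective {m : ℕ} (g : Matrix.GeneralLinearGroup (Fin m) k) :
    Function.Injective (Matrix.toLin' (g : Matrix (Fin m) (Fin m) k)) := by
  intro x y h
  have h1 := congrArg (Matrix.toLin' ((g⁻¹ : Matrix.GeneralLinearGroup (Fin m) k) :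
    Matrix (Fin m) (Fin m) k)) h
  simp only [← LinearMap.comp_apply, ← Matrix.toLin'_mul] at h1
  rw [← Units.val_mul, inv_mul_cancel] at h1
  simpa using h1

theorem iterImage_conj (g : (j : ℕ) → Matrix.GeneralLinearGroup (Fin (d j)) k)
    (f : (i : ℕ) → Matrix (Fin (d (i + 1))) (Fin (d i)) k) (i n : ℕ) :
    iterImage (conj g f) i n =
      (iterImage f i n).map (Matrix.toLin' ((g (i + n) : Matrix.GeneralLinearGroup _ k) :
        Matrix (Fin (d (i + n))) (Fin (d (i + n))) k)) := by
  induction n with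
  | zero =>
    change (⊤ : Submodule k _) = Submodule.map _ ⊤
    rw [Submodule.map_top, eq_comm, LinearMap.range_eq_top]
    intro y
    refine ⟨Matrix.toLin' (((g i)⁻¹ : Matrix.GeneralLinearGroup _ k) : Matrix _ _ k) y, ?_⟩
    rw [← LinearMap.comp_apply, ← Matrix.toLin'_mul, ← Units.val_mul]
    change Matrix.toLin' ((g i * (g i)⁻¹ : Matrix.GeneralLinearGroup _ k) : Matrix _ _ k) y = y
    rw [mul_inv_cancel]
    simp
  | succ n ih =>
    change (iterImage (conj g f) i n).map (Matrix.toLin' (conj g f (i + n))) =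
      ((iterImage f i n).map (Matrix.toLin' (f (i + n)))).map _
    rw [ih, ← Submodule.map_comp, ← Submodule.map_comp]
    congr 1
    unfold conj
    rw [← Matrix.toLin'_mul, ← Matrix.toLin'_mul]
    congr 1
    rw [Matrix.mul_assoc, ← Units.val_mul, inv_mul_cancel]
    simp
    rfl

theorem part1 (g : (j : ℕ) → Matrix.GeneralLinearGroup (Fin (d j)) k)
    (f : (i : ℕ) → Matrix (Fin (d (i + 1))) (Fin (d i)) k) (i j : ℕ) (hij : i ≤ j) :
    rankArray (conj g f) i j = rankArray f i j := by
  obtain ⟨n, rfl⟩ := Nat.exists_eq_add_of_le hij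
  rw [rankArray_eq, rankArray_eq, iterImage_conj]
  exact finrank_map_inj _ (toLin'_gl_injective _) _

end basic

section chain
variable {k : Type u} [Field k] {W : Type*} [AddCommGroup W] [Module k W]

/-- `P` is a chain for `T` -/
def IsCh (T : W →ₗ[k] W) (P : ℕ → Submodule k W) : Prop := ∀ j, (P j).map T ≤ P (j + 1)

theorem IsCh.pow_mem {T : W →ₗ[k] W} {P : ℕ → Submodule k W} (h : IsCh T P) (i n : ℕ) (v : W)
    (hv : v ∈ P i) : (T ^ n) v ∈ P (i + n) := by
  induction n with
  | zero => simpa using hv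
  | succ n ih =>
    rw [pow_succ', Module.End.mul_apply]
    exact h (i + n) (Submodule.mem_map_of_mem ih)

theorem IsCh.map_pow_le {T : W →ₗ[k] W} {P : ℕ → Submodule k W} (h : IsCh T P) (i n : ℕ) :
    (P i).map (T ^ n) ≤ P (i + n) := by
  rintro _ ⟨v, hv, rfl⟩
  exact h.pow_mem i n v hv

/-- rank array of a chain -/
noncomputable def rho (T : W →ₗ[k] W) (P : ℕ → Submodule k W) (i n : ℕ) : ℕ :=
  Module.finrank k ((P i).map (T ^ n))

theorem map_pow_succ (T : W →ₗ[k] W) (S : Submodule k W) (n : ℕ) :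
    S.map (T ^ (n + 1)) = (S.map (T ^ n)).map T := by
  rw [pow_succ', Module.End.mul_eq_comp, Submodule.map_comp]

theorem map_pow_succ' (T : W →ₗ[k] W) (S : Submodule k W) (n : ℕ) :
    S.map (T ^ (n + 1)) = (S.map T).map (T ^ n) := by
  rw [pow_succ, Module.End.mul_eq_comp, Submodule.map_comp]

theorem rho_succ_le {T : W →ₗ[k] W} {P : ℕ → Submodule k W} (h : IsCh T P)
    (hfin : ∀ j, FiniteDimensional k (P j)) (i n : ℕ) :
    rho T P i (n + 1) ≤ rho T P (i + 1) n := by
  unfold rho
  rw [map_pow_succ']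
  have : FiniteDimensional k ((P (i + 1)).map (T ^ n)) := inferInstance
  exact Submodule.finrank_mono (Submodule.map_mono (h i))

theorem finrank_ker_ineq (T : W →ₗ[k] W) (A B : Submodule k W) (hBA : B ≤ A)
    [FiniteDimensional k A] :
    Module.finrank k (A.map T) + Module.finrank k B ≤
      Module.finrank k A + Module.finrank k (B.map T) := by
  have hB : FiniteDimensional k B := Submodule.finiteDimensional_of_le hBA
  have eA := LinearMap.finrank_range_add_finrank_ker (T.domRestrict A)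
  have eB := LinearMap.finrank_range_add_finrank_ker (T.domRestrict B)
  rw [LinearMap.range_domRestrict] at eA eB
  have hle : Module.finrank k (LinearMap.ker (T.domRestrict B)) ≤
      Module.finrank k (LinearMap.ker (T.domRestrict A)) := by
    let Φ : LinearMap.ker (T.domRestrict B) →ₗ[k] LinearMap.ker (T.domRestrict A) :=
      LinearMap.codRestrict _ ((Submodule.inclusion hBA) ∘ₗ (LinearMap.ker (T.domRestrict B)).subtype)
        (by
          intro x
          have hx := x.2
          rw [LinearMap.mem_ker] at hx ⊢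
          exact hx)
    refine LinearMap.finrank_le_finrank_of_injective (f := Φ) ?_
    intro x y hxy
    have h1 := congrArg (fun z => ((z : A) : W)) (congrArg Subtype.val hxy)
    exact Subtype.ext (Subtype.ext h1)
  omega

end chain

section split
variable {k : Type u} [Field k] {W : Type*} [AddCommGroup W] [Module k W]

/-- the complementary chain -/
def Cch (T : W →ₗ[k] W) (P : ℕ → Submodule k W) (s l : ℕ) (lam : W →ₗ[k] k) (j : ℕ) :
    Submodule k W :=
  if j ≤ s + l then P j ⊓ LinearMap.ker (lam ∘ₗ (T ^ (s + l - j))) else P j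

variable {T : W →ₗ[k] W} {P : ℕ → Submodule k W} {s l : ℕ} {lam : W →ₗ[k] k} {w : W}

theorem Cch_le (j : ℕ) : Cch T P s l lam j ≤ P j := by
  unfold Cch
  split_ifs
  · exact inf_le_left
  · exact le_rfl

theorem mem_Cch_of_le {j : ℕ} (hj : j ≤ s + l) (v : W) :
    v ∈ Cch T P s l lam j ↔ v ∈ P j ∧ lam ((T ^ (s + l - j)) v) = 0 := by
  unfold Cch
  rw [if_pos hj, Submodule.mem_inf, LinearMap.mem_ker, LinearMap.comp_apply]

theorem Cch_of_gt {j : ℕ} (hj : s + l < j) : Cch T P s l lam j = P j := by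
  unfold Cch
  rw [if_neg (by omega)]

theorem pow_apply_succ (T : W →ₗ[k] W) (n : ℕ) (v : W) : (T ^ (n + 1)) v = (T ^ n) (T v) := by
  rw [pow_succ, Module.End.mul_apply]

theorem pow_apply_succ' (T : W →ₗ[k] W) (n : ℕ) (v : W) : (T ^ (n + 1)) v = T ((T ^ n) v) := by
  rw [pow_succ', Module.End.mul_apply]

theorem pow_apply_add (T : W →ₗ[k] W) (m n : ℕ) (v : W) : (T ^ (m + n)) v = (T ^ m) ((T ^ n) v) := by
  rw [pow_add, Module.End.mul_apply]

theorem Cch_isCh (hch : IsCh T P) : IsCh T (Cch T P s l lam) := by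
  intro j
  rintro _ ⟨v, hv, rfl⟩
  by_cases hj : j + 1 ≤ s + l
  · rw [SetLike.mem_coe, mem_Cch_of_le (by omega)] at hv
    rw [mem_Cch_of_le hj]
    refine ⟨hch j (Submodule.mem_map_of_mem hv.1), ?_⟩
    rw [← pow_apply_succ, show s + l - (j + 1) + 1 = s + l - j by omega]
    exact hv.2
  · rw [Cch_of_gt (by omega)]
    exact hch j (Submodule.mem_map_of_mem (Cch_le j hv))

theorem pow_w_mem (hch : IsCh T P) (hw : w ∈ P s) {j : ℕ} (hj : s ≤ j) :
    (T ^ (j - s)) w ∈ P j := by
  have := hch.pow_mem s (j - s) w hw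
  rwa [show s + (j - s) = j by omega] at this

theorem pow_w_zero (hkill : (T ^ (l + 1)) w = 0) {m : ℕ} (hm : l < m) : (T ^ m) w = 0 := by
  rw [show m = (m - (l + 1)) + (l + 1) by omega, pow_apply_add, hkill, map_zero]

theorem pow_w_ne (hne : (T ^ l) w ≠ 0) {m : ℕ} (hm : m ≤ l) : (T ^ m) w ≠ 0 := by
  intro h
  apply hne
  rw [show l = (l - m) + m by omega, pow_apply_add, h, map_zero]

theorem Cch_decomp (hch : IsCh T P) (hw : w ∈ P s) (hlam : lam ((T ^ l) w) = 1) {j : ℕ}
    (hsj : s ≤ j) (hj : j ≤ s + l) {v : W} (hv : v ∈ P j) :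
    v - lam ((T ^ (s + l - j)) v) • (T ^ (j - s)) w ∈ Cch T P s l lam j := by
  rw [mem_Cch_of_le hj]
  refine ⟨Submodule.sub_mem _ hv (Submodule.smul_mem _ _ (pow_w_mem hch hw hsj)), ?_⟩
  rw [map_sub, map_smul, map_sub, map_smul, ← pow_apply_add,
    show s + l - j + (j - s) = l by omega, hlam, smul_eq_mul, mul_one, sub_self]

theorem Cch_disj (hlam : lam ((T ^ l) w) = 1) {j : ℕ}
    (hsj : s ≤ j) (hj : j ≤ s + l) {a : k} (ha : a • (T ^ (j - s)) w ∈ Cch T P s l lam j) :
    a = 0 := by
  rw [mem_Cch_of_le hj] at ha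
  have h := ha.2
  rwa [map_smul, map_smul, ← pow_apply_add, show s + l - j + (j - s) = l by omega, hlam,
    smul_eq_mul, mul_one] at h

theorem P_eq_sup (hch : IsCh T P) (hw : w ∈ P s) (hlam : lam ((T ^ l) w) = 1) {j : ℕ}
    (hsj : s ≤ j) (hj : j ≤ s + l) :
    P j = Cch T P s l lam j ⊔ Submodule.span k {(T ^ (j - s)) w} := by
  apply le_antisymm
  · intro v hv
    have h1 := Cch_decomp hch hw hlam hsj hj hv
    have h2 : v = (v - lam ((T ^ (s + l - j)) v) • (T ^ (j - s)) w) +
        lam ((T ^ (s + l - j)) v) • (T ^ (j - s)) w := by abel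
    rw [h2]
    exact Submodule.add_mem_sup h1 (Submodule.smul_mem _ _ (Submodule.mem_span_singleton_self _))
  · refine sup_le (Cch_le j) ?_
    rw [Submodule.span_singleton_le_iff_mem]
    exact pow_w_mem hch hw hsj

theorem rho_zero (T : W →ₗ[k] W) (P : ℕ → Submodule k W) (i : ℕ) :
    rho T P i 0 = Module.finrank k (P i) := by
  unfold rho
  have h : (P i).map (T ^ 0) = P i := by
    rw [pow_zero]
    exact Submodule.map_id _
  rw [h]

theorem rho_split (hch : IsCh T P) (hfin : ∀ j, FiniteDimensional k (P j))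
    (hlow : ∀ j, j < s → P j = ⊥) (hw : w ∈ P s) (hlam : lam ((T ^ l) w) = 1)
    (hkill : (T ^ (l + 1)) w = 0) (i n : ℕ) :
    rho T P i n = rho T (Cch T P s l lam) i n + (if s ≤ i ∧ i + n ≤ s + l then 1 else 0) := by
  have hne : (T ^ l) w ≠ 0 := by
    intro h
    rw [h, map_zero] at hlam
    exact zero_ne_one hlam
  by_cases hi : s ≤ i
  · by_cases hi2 : i ≤ s + l
    · have hP := P_eq_sup hch hw hlam hi hi2
      have hmap : (P i).map (T ^ n) = (Cch T P s l lam i).map (T ^ n) ⊔
          Submodule.span k {(T ^ (n + (i - s))) w} := by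
        conv_lhs => rw [hP]
        rw [Submodule.map_sup, Submodule.map_span, Set.image_singleton, pow_apply_add]
      by_cases hin : i + n ≤ s + l
      · rw [if_pos ⟨hi, hin⟩]
        unfold rho
        rw [hmap]
        have hx0 : (T ^ (n + (i - s))) w ≠ 0 := pow_w_ne hne (by omega)
        have hxC : (T ^ (n + (i - s))) w ∉ (Cch T P s l lam i).map (T ^ n) := by
          intro hmem
          have h1 := (Cch_isCh (s := s) (l := l) (lam := lam) hch).map_pow_le i n hmem
          have h2 : (1 : k) • (T ^ (i + n - s)) w ∈ Cch T P s l lam (i + n) := by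
            rw [one_smul, show i + n - s = n + (i - s) by omega]
            exact h1
          exact one_ne_zero (Cch_disj hlam (by omega) hin h2)
        have hfC : FiniteDimensional k ((Cch T P s l lam i).map (T ^ n)) := by
          have : FiniteDimensional k (Cch T P s l lam i) :=
            Submodule.finiteDimensional_of_le (Cch_le i)
          infer_instance
        have h3 := Submodule.finrank_sup_add_finrank_inf_eq ((Cch T P s l lam i).map (T ^ n))
          (Submodule.span k {(T ^ (n + (i - s))) w})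
        have h4 : (Cch T P s l lam i).map (T ^ n) ⊓ Submodule.span k {(T ^ (n + (i - s))) w} = ⊥ :=
          disjoint_iff.1 ((Submodule.disjoint_span_singleton' hx0).2 hxC)
        rw [h4, finrank_bot, finrank_span_singleton hx0] at h3
        omega
      · rw [if_neg (by omega)]
        unfold rho
        rw [hmap, pow_w_zero hkill (by omega), Submodule.span_singleton_eq_bot.2 rfl, sup_bot_eq,
          add_zero]
    · rw [if_neg (by omega)]
      unfold rho
      rw [Cch_of_gt (by omega)]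
      simp
  · rw [if_neg (by omega)]
    unfold rho
    have h1 : P i = ⊥ := hlow i (by omega)
    have h2 : Cch T P s l lam i = ⊥ := le_bot_iff.1 (h1 ▸ Cch_le i)
    rw [h1, h2]
    simp

end split

section classify
variable {k : Type u} [Field k] {W W' : Type*} [AddCommGroup W] [Module k W]
  [AddCommGroup W'] [Module k W']

/-- the conclusion of the classification -/
def Intertw (T : W →ₗ[k] W) (T' : W' →ₗ[k] W') (P : ℕ → Submodule k W)
    (P' : ℕ → Submodule k W') (E : ℕ → (W →ₗ[k] W')) : Prop :=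
  ∀ j, (∀ v ∈ P j, E j v ∈ P' j) ∧ (∀ v ∈ P j, E j v = 0 → v = 0) ∧
    (∀ v ∈ P j, E (j + 1) (T v) = T' (E j v))

/-- the glued family of maps -/
noncomputable def glue (T : W →ₗ[k] W) (T' : W' →ₗ[k] W') (s l : ℕ) (lam : W →ₗ[k] k) (w : W) (w' : W')
    (EC : ℕ → (W →ₗ[k] W')) (j : ℕ) : W →ₗ[k] W' :=
  if j ≤ s + l then
    (EC j) ∘ₗ (LinearMap.id - (lam ∘ₗ (T ^ (s + l - j))).smulRight ((T ^ (j - s)) w)) +
      (lam ∘ₗ (T ^ (s + l - j))).smulRight ((T' ^ (j - s)) w')
  else EC j

theorem glue_apply_le (T : W →ₗ[k] W) (T' : W' →ₗ[k] W') (s l : ℕ) (lam : W →ₗ[k] k) (w : W) (w' : W')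
    (EC : ℕ → (W →ₗ[k] W')) {j : ℕ} (hj : j ≤ s + l) (v : W) :
    glue T T' s l lam w w' EC j v =
      EC j (v - lam ((T ^ (s + l - j)) v) • (T ^ (j - s)) w) +
        lam ((T ^ (s + l - j)) v) • (T' ^ (j - s)) w' := by
  unfold glue
  rw [if_pos hj]
  simp [LinearMap.smulRight_apply]

theorem glue_apply_gt (T : W →ₗ[k] W) (T' : W' →ₗ[k] W') (s l : ℕ) (lam : W →ₗ[k] k) (w : W) (w' : W')
    (EC : ℕ → (W →ₗ[k] W')) {j : ℕ} (hj : s + l < j) :
    glue T T' s l lam w w' EC j = EC j := by
  unfold glue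
  rw [if_neg (by omega)]

theorem glue_intertw {T : W →ₗ[k] W} {T' : W' →ₗ[k] W'} {P : ℕ → Submodule k W}
    {P' : ℕ → Submodule k W'} {s l : ℕ} {lam : W →ₗ[k] k} {lam' : W' →ₗ[k] k} {w : W} {w' : W'}
    (hch : IsCh T P) (hch' : IsCh T' P')
    (hlow : ∀ j, j < s → P j = ⊥)
    (hw : w ∈ P s) (hw' : w' ∈ P' s)
    (hlam : lam ((T ^ l) w) = 1) (hlam' : lam' ((T' ^ l) w') = 1)
    (hkill : (T ^ (l + 1)) w = 0) (hkill' : (T' ^ (l + 1)) w' = 0)
    (EC : ℕ → (W →ₗ[k] W'))
    (hEC : Intertw T T' (Cch T P s l lam) (Cch T' P' s l lam') EC) :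
    Intertw T T' P P' (glue T T' s l lam w w' EC) := by
  intro j
  by_cases hsj : s ≤ j
  · by_cases hj : j ≤ s + l
    · -- the interesting range
      refine ⟨?_, ?_, ?_⟩
      · intro v hv
        rw [glue_apply_le _ _ _ _ _ _ _ _ hj]
        have hc := Cch_decomp hch hw hlam hsj hj hv
        exact Submodule.add_mem _ (Cch_le j ((hEC j).1 _ hc))
          (Submodule.smul_mem _ _ (pow_w_mem hch' hw' hsj))
      · intro v hv h0
        rw [glue_apply_le _ _ _ _ _ _ _ _ hj] at h0
        have hc := Cch_decomp hch hw hlam hsj hj hv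
        have h1 : (-(lam ((T ^ (s + l - j)) v))) • (T' ^ (j - s)) w' ∈ Cch T' P' s l lam' j := by
          have h2 : (-(lam ((T ^ (s + l - j)) v))) • (T' ^ (j - s)) w' =
              EC j (v - lam ((T ^ (s + l - j)) v) • (T ^ (j - s)) w) := by
            rw [neg_smul]
            exact (eq_neg_of_add_eq_zero_right h0).symm ▸ (by rw [neg_neg])
          rw [h2]
          exact (hEC j).1 _ hc
        have h3 := Cch_disj hlam' hsj hj h1
        have h4 : lam ((T ^ (s + l - j)) v) = 0 := neg_eq_zero.1 h3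
        rw [h4, zero_smul, zero_smul, sub_zero, add_zero] at h0
        rw [h4, zero_smul, sub_zero] at hc
        exact (hEC j).2.1 v hc h0
      · intro v hv
        have hc := Cch_decomp hch hw hlam hsj hj hv
        rw [glue_apply_le _ _ _ _ _ _ _ _ hj, map_add, map_smul]
        have h5 := (hEC j).2.2 _ hc
        by_cases hj1 : j + 1 ≤ s + l
        · rw [glue_apply_le _ _ _ _ _ _ _ _ hj1]
          have e1 : (T ^ (s + l - (j + 1))) (T v) = (T ^ (s + l - j)) v := by
            rw [← pow_apply_succ, show s + l - (j + 1) + 1 = s + l - j by omega]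
          have e2 : (T ^ (j + 1 - s)) w = T ((T ^ (j - s)) w) := by
            rw [← pow_apply_succ', show j + 1 - s = j - s + 1 by omega]
          have e3 : (T' ^ (j + 1 - s)) w' = T' ((T' ^ (j - s)) w') := by
            rw [← pow_apply_succ', show j + 1 - s = j - s + 1 by omega]
          have e4 : T (v - lam ((T ^ (s + l - j)) v) • (T ^ (j - s)) w) =
              T v - lam ((T ^ (s + l - j)) v) • T ((T ^ (j - s)) w) := by
            rw [map_sub, map_smul]
          rw [e1, e2, e3, ← h5, e4]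
        · have hjeq : j = s + l := by omega
          have e2 : T ((T ^ (j - s)) w) = 0 := by
            rw [← pow_apply_succ', show j - s + 1 = l + 1 by omega, hkill]
          have e3 : T' ((T' ^ (j - s)) w') = 0 := by
            rw [← pow_apply_succ', show j - s + 1 = l + 1 by omega, hkill']
          have e4 : T (v - lam ((T ^ (s + l - j)) v) • (T ^ (j - s)) w) = T v := by
            rw [map_sub, map_smul, e2, smul_zero, sub_zero]
          rw [glue_apply_gt _ _ _ _ _ _ _ _ (show s + l < j + 1 by omega), ← h5, e4, e3,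
            smul_zero, add_zero]
    · have hj' : s + l < j := by omega
      have hC : Cch T P s l lam j = P j := Cch_of_gt hj'
      have hC' : Cch T' P' s l lam' j = P' j := Cch_of_gt hj'
      have h := hEC j
      rw [hC, hC'] at h
      rw [glue_apply_gt _ _ _ _ _ _ _ _ hj', glue_apply_gt _ _ _ _ _ _ _ _ (show s + l < j + 1 by omega)]
      exact h
  · have hP : P j = ⊥ := hlow j (by omega)
    refine ⟨?_, ?_, ?_⟩
    · intro v hv
      rw [hP, Submodule.mem_bot] at hv
      rw [hv, map_zero]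
      exact Submodule.zero_mem _
    · intro v hv _
      rw [hP, Submodule.mem_bot] at hv
      exact hv
    · intro v hv
      rw [hP, Submodule.mem_bot] at hv
      rw [hv, map_zero, map_zero, map_zero, map_zero]

theorem eq_bot_of_rho_zero {T : W →ₗ[k] W} {P : ℕ → Submodule k W}
    (hfin : ∀ j, FiniteDimensional k (P j)) (i n : ℕ) (h : rho T P i n = 0) :
    (P i).map (T ^ n) = ⊥ := by
  have : FiniteDimensional k ((P i).map (T ^ n)) := inferInstance
  exact Submodule.finrank_eq_zero.1 h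

theorem classify (T : W →ₗ[k] W) (T' : W' →ₗ[k] W') (R : ℕ) :
    ∀ (N : ℕ) (P : ℕ → Submodule k W) (P' : ℕ → Submodule k W'),
      IsCh T P → IsCh T' P' → (∀ j, FiniteDimensional k (P j)) → (∀ j, FiniteDimensional k (P' j)) →
      (∀ j, R < j → P j = ⊥) →
      (∀ i n, rho T P i n = rho T' P' i n) →
      (∑ j ∈ Finset.range (R + 1), Module.finrank k (P j)) = N →
      ∃ E : ℕ → (W →ₗ[k] W'), Intertw T T' P P' E := by
  intro N
  induction N using Nat.strong_induction_on with
  | _ N ih =>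
    intro P P' hch hch' hfin hfin' hR hrho hN
    by_cases hz : ∀ j, P j = ⊥
    · refine ⟨fun _ => 0, fun j => ⟨?_, ?_, ?_⟩⟩
      · intro v _
        exact Submodule.zero_mem _
      · intro v hv _
        rw [hz j, Submodule.mem_bot] at hv
        exact hv
      · intro v _
        simp
    · have hex : ∃ j, P j ≠ ⊥ := not_forall.1 hz
      classical
      let s := Nat.find hex
      have hs : P s ≠ ⊥ := Nat.find_spec hex
      have hlow : ∀ j, j < s → P j = ⊥ := fun j hj => not_not.1 (Nat.find_min hex hj)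
      have hsR : s ≤ R := by
        by_contra h
        exact hs (hR s (by omega))
      have hex2 : ∃ n, (P s).map (T ^ (n + 1)) = ⊥ := by
        refine ⟨R, ?_⟩
        rw [eq_bot_iff]
        refine (hch.map_pow_le s (R + 1)).trans ?_
        rw [hR (s + (R + 1)) (by omega)]
      let l := Nat.find hex2
      have hl1 : (P s).map (T ^ (l + 1)) = ⊥ := Nat.find_spec hex2
      have hl2 : (P s).map (T ^ l) ≠ ⊥ := by
        rcases Nat.eq_zero_or_pos l with h0 | hpos
        · rw [h0, pow_zero]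
          intro h
          apply hs
          rw [← h]
          exact (Submodule.map_id _).symm
        · have := Nat.find_min hex2 (show l - 1 < l by omega)
          rwa [show l - 1 + 1 = l by omega] at this
      -- transfer to P'
      have hlow' : ∀ j, j < s → P' j = ⊥ := by
        intro j hj
        have h1 : rho T' P' j 0 = 0 := by
          rw [← hrho, rho_zero, hlow j hj, finrank_bot]
        rw [rho_zero] at h1
        exact Submodule.finrank_eq_zero.1 h1
      have hl1' : (P' s).map (T' ^ (l + 1)) = ⊥ := by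
        apply eq_bot_of_rho_zero hfin'
        rw [← hrho]
        unfold rho
        rw [hl1, finrank_bot]
      have hl2' : (P' s).map (T' ^ l) ≠ ⊥ := by
        intro h
        apply hl2
        apply eq_bot_of_rho_zero hfin
        rw [hrho]
        unfold rho
        rw [h, finrank_bot]
      obtain ⟨x, hx, hx0⟩ := (Submodule.ne_bot_iff _).1 hl2
      obtain ⟨w, hw, rfl⟩ := hx
      obtain ⟨x', hx', hx0'⟩ := (Submodule.ne_bot_iff _).1 hl2'
      obtain ⟨w', hw', rfl⟩ := hx'
      have hkill : (T ^ (l + 1)) w = 0 := by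
        have : (T ^ (l + 1)) w ∈ (P s).map (T ^ (l + 1)) := Submodule.mem_map_of_mem hw
        rwa [hl1, Submodule.mem_bot] at this
      have hkill' : (T' ^ (l + 1)) w' = 0 := by
        have : (T' ^ (l + 1)) w' ∈ (P' s).map (T' ^ (l + 1)) := Submodule.mem_map_of_mem hw'
        rwa [hl1', Submodule.mem_bot] at this
      obtain ⟨lam, hlam⟩ := Module.Projective.exists_dual_eq_one k hx0
      obtain ⟨lam', hlam'⟩ := Module.Projective.exists_dual_eq_one k hx0'
      -- the complementary chains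
      have hCfin : ∀ j, FiniteDimensional k (Cch T P s l lam j) := fun j =>
        Submodule.finiteDimensional_of_le (Cch_le j)
      have hCfin' : ∀ j, FiniteDimensional k (Cch T' P' s l lam' j) := fun j =>
        Submodule.finiteDimensional_of_le (Cch_le j)
      have hCR : ∀ j, R < j → Cch T P s l lam j = ⊥ := fun j hj =>
        le_bot_iff.1 ((hR j hj) ▸ Cch_le j)
      have hCrho : ∀ i n, rho T (Cch T P s l lam) i n = rho T' (Cch T' P' s l lam') i n := by
        intro i n
        have h1 := rho_split hch hfin hlow hw hlam hkill i n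
        have h2 := rho_split hch' hfin' hlow' hw' hlam' hkill' i n
        have h3 := hrho i n
        omega
      have hlt : (∑ j ∈ Finset.range (R + 1), Module.finrank k (Cch T P s l lam j)) < N := by
        rw [← hN]
        apply Finset.sum_lt_sum
        · intro j _
          exact Submodule.finrank_mono (Cch_le j)
        · refine ⟨s, Finset.mem_range.2 (by omega), ?_⟩
          have h1 := rho_split hch hfin hlow hw hlam hkill s 0
          rw [rho_zero, rho_zero, if_pos ⟨le_rfl, by omega⟩] at h1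
          omega
      obtain ⟨EC, hEC⟩ := ih _ hlt (Cch T P s l lam) (Cch T' P' s l lam')
        (Cch_isCh hch) (Cch_isCh hch') hCfin hCfin' hCR hCrho rfl
      exact ⟨glue T T' s l lam w w' EC,
        glue_intertw hch hch' hlow hw hw' hlam hlam' hkill hkill' EC hEC⟩

end classify

section model
variable {k : Type u} [Field k] {d : ℕ → ℕ}

/-- the total space -/
abbrev Wsp (k : Type u) (d : ℕ → ℕ) : Type u := (j : ℕ) → Fin (d j) → k

/-- inclusion of the `j`-th space -/
noncomputable def inc (j : ℕ) : (Fin (d j) → k) →ₗ[k] Wsp k d :=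
  LinearMap.single k (fun j => Fin (d j) → k) j

/-- projection to the `j`-th space -/
def prj (j : ℕ) : Wsp k d →ₗ[k] (Fin (d j) → k) := LinearMap.proj j

theorem prj_inc (j : ℕ) (x : Fin (d j) → k) : prj j (inc j x) = x := by
  simp [prj, inc]

theorem inc_injective (j : ℕ) : Function.Injective (inc (k := k) (d := d) j) := by
  intro x y h
  have := congrArg (prj j) h
  rwa [prj_inc, prj_inc] at this

theorem inc_prj_of_mem (j : ℕ) (v : Wsp k d) (hv : v ∈ LinearMap.range (inc (k := k) (d := d) j)) :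
    inc j (prj j v) = v := by
  obtain ⟨x, rfl⟩ := hv
  rw [prj_inc]

/-- the truncated shift operator, as a function -/
def Tfun (f : (i : ℕ) → Matrix (Fin (d (i + 1))) (Fin (d i)) k) (r : ℕ) (v : Wsp k d) :
    (j : ℕ) → Fin (d j) → k
  | 0 => 0
  | j + 1 => if 1 ≤ j ∧ j < r then Matrix.toLin' (f j) (v j) else 0

/-- the truncated shift operator -/
def Top (f : (i : ℕ) → Matrix (Fin (d (i + 1))) (Fin (d i)) k) (r : ℕ) :
    Wsp k d →ₗ[k] Wsp k d where
  toFun := Tfun f r
  map_add' v w := by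
    funext j
    cases j with
    | zero => simp [Tfun]
    | succ j =>
      simp only [Tfun, Pi.add_apply]
      split_ifs
      · rw [map_add]
      · simp
  map_smul' c v := by
    funext j
    cases j with
    | zero => simp [Tfun]
    | succ j =>
      simp only [Tfun, Pi.smul_apply, RingHom.id_apply]
      split_ifs
      · rw [map_smul]
      · simp

theorem Top_inc (f : (i : ℕ) → Matrix (Fin (d (i + 1))) (Fin (d i)) k) (r j : ℕ)
    (hj : 1 ≤ j ∧ j < r) (x : Fin (d j) → k) :
    Top f r (inc j x) = inc (j + 1) (Matrix.toLin' (f j) x) := by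
  funext m
  cases m with
  | zero =>
    change (0 : Fin (d 0) → k) = _
    simp [inc]
  | succ m =>
    change (if 1 ≤ m ∧ m < r then Matrix.toLin' (f m) ((inc j x) m) else 0) = _
    by_cases hm : m = j
    · subst hm
      rw [if_pos hj]
      simp [inc]
    · have h1 : (inc j x) m = 0 := by
        simp [inc, Pi.single_eq_of_ne hm]
      have h2 : (inc (j + 1) (Matrix.toLin' (f j) x)) (m + 1) = 0 := by
        simp [inc, Pi.single_eq_of_ne (show m + 1 ≠ j + 1 by omega)]
      rw [h1, h2, map_zero, ite_self]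

theorem Top_inc_of_not (f : (i : ℕ) → Matrix (Fin (d (i + 1))) (Fin (d i)) k) (r j : ℕ)
    (hj : ¬ (1 ≤ j ∧ j < r)) (x : Fin (d j) → k) :
    Top f r (inc j x) = 0 := by
  funext m
  cases m with
  | zero => rfl
  | succ m =>
    change (if 1 ≤ m ∧ m < r then Matrix.toLin' (f m) ((inc j x) m) else 0) = _
    by_cases hm : m = j
    · subst hm
      rw [if_neg hj]
      rfl
    · have h1 : (inc j x) m = 0 := by
        simp [inc, Pi.single_eq_of_ne hm]
      rw [h1, map_zero, ite_self]
      rfl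

/-- the chain of coordinate subspaces -/
noncomputable def Pch (k : Type u) [Field k] (d : ℕ → ℕ) (r : ℕ) (j : ℕ) : Submodule k (Wsp k d) :=
  if 1 ≤ j ∧ j ≤ r then LinearMap.range (inc j) else ⊥

theorem Pch_fin (r j : ℕ) : FiniteDimensional k (Pch k d r j) := by
  unfold Pch
  by_cases hj : 1 ≤ j ∧ j ≤ r
  · rw [if_pos hj]
    infer_instance
  · rw [if_neg hj]
    infer_instance

theorem Pch_isCh (f : (i : ℕ) → Matrix (Fin (d (i + 1))) (Fin (d i)) k) (r : ℕ) :
    IsCh (Top f r) (Pch k d r) := by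
  intro j
  rintro _ ⟨v, hv, rfl⟩
  unfold Pch at hv ⊢
  by_cases hj : 1 ≤ j ∧ j ≤ r
  · rw [if_pos hj] at hv
    obtain ⟨x, rfl⟩ := hv
    by_cases hj' : j < r
    · rw [if_pos ⟨by omega, by omega⟩]
      change Top f r (inc j x) ∈ _
      rw [Top_inc f r j ⟨hj.1, hj'⟩]
      exact ⟨_, rfl⟩
    · change Top f r (inc j x) ∈ _
      rw [Top_inc_of_not f r j (by omega)]
      exact Submodule.zero_mem _
  · rw [if_neg hj] at hv
    rw [(Submodule.mem_bot k).1 hv]
    change Top f r 0 ∈ _
    rw [map_zero]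
    exact Submodule.zero_mem _

theorem bridge (f : (i : ℕ) → Matrix (Fin (d (i + 1))) (Fin (d i)) k) (r i n : ℕ)
    (hi : 1 ≤ i) (hin : i + n ≤ r) :
    (iterImage f i n).map (inc (i + n)) = (LinearMap.range (inc (k := k) (d := d) i)).map ((Top f r) ^ n) := by
  induction n with
  | zero =>
    change (⊤ : Submodule k _).map (inc i) = _
    rw [Submodule.map_top, pow_zero]
    exact (Submodule.map_id _).symm
  | succ n ih =>
    rw [map_pow_succ, ← ih (by omega)]
    change ((iterImage f i n).map (Matrix.toLin' (f (i + n)))).map (inc (i + n + 1)) = _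
    rw [← Submodule.map_comp, ← Submodule.map_comp]
    congr 1
    apply LinearMap.ext
    intro x
    rw [LinearMap.comp_apply, LinearMap.comp_apply, Top_inc f r (i + n) ⟨by omega, by omega⟩]

theorem rho_eq (f : (i : ℕ) → Matrix (Fin (d (i + 1))) (Fin (d i)) k) (r i n : ℕ)
    (hi : 1 ≤ i) (hin : i + n ≤ r) :
    rho (Top f r) (Pch k d r) i n = rankArray f i (i + n) := by
  rw [rankArray_eq]
  unfold rho Pch
  rw [if_pos ⟨hi, by omega⟩, ← bridge f r i n hi hin]
  exact finrank_map_inj _ (inc_injective _) _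

theorem part2 (f : (i : ℕ) → Matrix (Fin (d (i + 1))) (Fin (d i)) k) (r : ℕ) :
    IsRankArray d r (rankArray f) := by
  have hch := Pch_isCh f r
  have hfin : ∀ j, FiniteDimensional k (Pch k d r j) := fun j => Pch_fin r j
  refine ⟨?_, ?_, ?_, ?_⟩
  · intro j _ _
    have h1 : rankArray f j j = Module.finrank k (iterImage f j 0) := rankArray_eq f j 0
    rw [h1]
    change Module.finrank k (⊤ : Submodule k (Fin (d j) → k)) = d j
    rw [finrank_top]
    simp
  · intro i j hi hij hjr
    obtain ⟨n, rfl⟩ := Nat.exists_eq_add_of_le (show i + 1 ≤ j by omega)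
    have h1 : rankArray f i (i + 1 + n) = rho (Top f r) (Pch k d r) i (n + 1) := by
      rw [show i + 1 + n = i + (n + 1) by omega, rho_eq f r i (n + 1) hi (by omega)]
    rw [h1, ← rho_eq f r (i + 1) n (by omega) hjr]
    exact rho_succ_le hch hfin i n
  · intro i j hi hij hjr
    obtain ⟨n, rfl⟩ := Nat.exists_eq_add_of_le hij
    rw [show i + n + 1 = i + (n + 1) by omega, rankArray_eq, rankArray_eq]
    exact Submodule.finrank_map_le _ _
  · intro i j hi hij hjr
    obtain ⟨n, rfl⟩ := Nat.exists_eq_add_of_le hij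
    obtain ⟨i', rfl⟩ := Nat.exists_eq_add_of_le (show 1 ≤ i by omega)
    have e1 : rankArray f (1 + i') (1 + i' + n + 1) = rho (Top f r) (Pch k d r) (1 + i') (n + 1) := by
      rw [show 1 + i' + n + 1 = (1 + i') + (n + 1) by omega,
        rho_eq f r (1 + i') (n + 1) (by omega) (by omega)]
    have e2 : rankArray f (1 + i' - 1) (1 + i' + n) = rho (Top f r) (Pch k d r) i' (n + 1) := by
      rw [show 1 + i' - 1 = i' by omega, show 1 + i' + n = i' + (n + 1) by omega,
        rho_eq f r i' (n + 1) (by omega) (by omega)]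
    have e3 : rankArray f (1 + i') (1 + i' + n) = rho (Top f r) (Pch k d r) (1 + i') n := by
      rw [rho_eq f r (1 + i') n (by omega) (by omega)]
    have e4 : rankArray f (1 + i' - 1) (1 + i' + n + 1) = rho (Top f r) (Pch k d r) i' (n + 2) := by
      rw [show 1 + i' - 1 = i' by omega, show 1 + i' + n + 1 = i' + (n + 2) by omega,
        rho_eq f r i' (n + 2) (by omega) (by omega)]
    rw [e1, e2, e3, e4]
    unfold rho
    have hBA : (Pch k d r i').map ((Top f r) ^ (n + 1)) ≤ (Pch k d r (1 + i')).map ((Top f r) ^ n) := by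
      rw [map_pow_succ']
      apply Submodule.map_mono
      have := hch i'
      rwa [Nat.add_comm i' 1] at this
    have h5 := finrank_ker_ineq (Top f r) _ _ hBA
    rw [← map_pow_succ, ← map_pow_succ] at h5
    exact h5

theorem rho_zero_of_src {W : Type*} [AddCommGroup W] [Module k W] (T : W →ₗ[k] W)
    (P : ℕ → Submodule k W) (i n : ℕ) (h : P i = ⊥) : rho T P i n = 0 := by
  unfold rho
  rw [h, Submodule.map_bot, finrank_bot]

theorem rho_zero_of_tgt {W : Type*} [AddCommGroup W] [Module k W] {T : W →ₗ[k] W}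
    {P : ℕ → Submodule k W} (hch : IsCh T P) (i n : ℕ) (h : P (i + n) = ⊥) : rho T P i n = 0 := by
  unfold rho
  have : (P i).map (T ^ n) = ⊥ := by
    rw [eq_bot_iff, ← h]
    exact hch.map_pow_le i n
  rw [this, finrank_bot]

theorem Pch_of_not (r j : ℕ) (hj : ¬ (1 ≤ j ∧ j ≤ r)) : Pch k d r j = ⊥ := by
  unfold Pch
  rw [if_neg hj]

theorem Pch_of (r j : ℕ) (hj : 1 ≤ j ∧ j ≤ r) : Pch k d r j = LinearMap.range (inc j) := by
  unfold Pch
  rw [if_pos hj]

theorem part3 (r : ℕ) (f f' : (i : ℕ) → Matrix (Fin (d (i + 1))) (Fin (d i)) k)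
    (h : ∀ i j : ℕ, 1 ≤ i → i ≤ j → j ≤ r → rankArray f i j = rankArray f' i j) :
    ∃ g : (j : ℕ) → Matrix.GeneralLinearGroup (Fin (d j)) k,
      ∀ i : ℕ, 1 ≤ i → i + 1 ≤ r → conj g f i = f' i := by
  classical
  have hch := Pch_isCh f r
  have hch' := Pch_isCh f' r
  have hfin : ∀ j, FiniteDimensional k (Pch k d r j) := fun j => Pch_fin r j
  have hrho : ∀ i n, rho (Top f r) (Pch k d r) i n = rho (Top f' r) (Pch k d r) i n := by
    intro i n
    by_cases h1 : 1 ≤ i ∧ i + n ≤ r
    · rw [rho_eq f r i n h1.1 h1.2, rho_eq f' r i n h1.1 h1.2]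
      exact h i (i + n) h1.1 (by omega) h1.2
    · by_cases h2 : 1 ≤ i ∧ i ≤ r
      · rw [rho_zero_of_tgt hch i n (Pch_of_not r _ (by omega)),
          rho_zero_of_tgt hch' i n (Pch_of_not r _ (by omega))]
      · rw [rho_zero_of_src _ _ i n (Pch_of_not r _ h2), rho_zero_of_src _ _ i n (Pch_of_not r _ h2)]
  obtain ⟨E, hE⟩ := classify (Top f r) (Top f' r) r _ (Pch k d r) (Pch k d r) hch hch' hfin hfin
    (fun j hj => Pch_of_not r j (by omega)) hrho rfl
  -- the induced endomorphisms
  obtain ⟨G, hGdef⟩ : ∃ G : (j : ℕ) → ((Fin (d j) → k) →ₗ[k] (Fin (d j) → k)),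
      ∀ j x, G j x = prj j (E j (inc j x)) := ⟨fun j => prj j ∘ₗ E j ∘ₗ inc j, fun j x => rfl⟩
  have hGinc : ∀ j, 1 ≤ j ∧ j ≤ r → ∀ x, inc j (G j x) = E j (inc j x) := by
    intro j hj x
    rw [hGdef]
    have h1 : E j (inc j x) ∈ Pch k d r j := (hE j).1 _ (by rw [Pch_of r j hj]; exact ⟨x, rfl⟩)
    rw [Pch_of r j hj] at h1
    exact inc_prj_of_mem j _ h1
  have hGinj : ∀ j, 1 ≤ j ∧ j ≤ r → Function.Injective (G j) := by
    intro j hj
    rw [injective_iff_map_eq_zero]
    intro x hx
    have h1 : E j (inc j x) = 0 := by rw [← hGinc j hj x, hx, map_zero]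
    have h2 := (hE j).2.1 (inc j x) (by rw [Pch_of r j hj]; exact ⟨x, rfl⟩) h1
    exact inc_injective j (by rw [h2, map_zero])
  have hunit : ∀ j, 1 ≤ j ∧ j ≤ r → IsUnit (LinearMap.toMatrix' (G j)) := by
    intro j hj
    rw [← Matrix.mulVec_injective_iff_isUnit]
    have h1 : (LinearMap.toMatrix' (G j)).mulVec = G j := by
      funext x
      rw [← Matrix.toLin'_apply, Matrix.toLin'_toMatrix']
    rw [h1]
    exact hGinj j hj
  let g : (j : ℕ) → Matrix.GeneralLinearGroup (Fin (d j)) k := fun j =>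
    if hj : 1 ≤ j ∧ j ≤ r then (hunit j hj).unit else 1
  have hg : ∀ j (hj : 1 ≤ j ∧ j ≤ r), ((g j : Matrix.GeneralLinearGroup (Fin (d j)) k) :
      Matrix (Fin (d j)) (Fin (d j)) k) = LinearMap.toMatrix' (G j) := by
    intro j hj
    simp only [g, dif_pos hj]
    rfl
  refine ⟨g, fun i hi hir => ?_⟩
  have key : LinearMap.toMatrix' (G (i + 1)) * f i = f' i * LinearMap.toMatrix' (G i) := by
    apply Matrix.toLin'.injective
    rw [Matrix.toLin'_mul, Matrix.toLin'_mul, Matrix.toLin'_toMatrix', Matrix.toLin'_toMatrix']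
    apply LinearMap.ext
    intro x
    rw [LinearMap.comp_apply, LinearMap.comp_apply]
    apply inc_injective (i + 1)
    rw [hGinc (i + 1) ⟨by omega, hir⟩, ← Top_inc f r i ⟨hi, by omega⟩,
      (hE i).2.2 (inc i x) (by rw [Pch_of r i ⟨hi, by omega⟩]; exact ⟨x, rfl⟩),
      ← hGinc i ⟨hi, by omega⟩, Top_inc f' r i ⟨hi, by omega⟩]
  unfold conj
  rw [hg (i + 1) ⟨by omega, hir⟩, key, Matrix.mul_assoc, ← hg i ⟨hi, by omega⟩, ← Units.val_mul,
    mul_inv_cancel]
  simp

end model

section construct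
variable {k : Type u} [Field k] {d : ℕ → ℕ}

/-- array extended by `0` in row `0` -/
def ah (a : ℕ → ℕ → ℕ) (i j : ℕ) : ℕ := if i = 0 then 0 else a i j

theorem ah_zero (a : ℕ → ℕ → ℕ) (j : ℕ) : ah a 0 j = 0 := by simp [ah]

theorem ah_pos (a : ℕ → ℕ → ℕ) {i : ℕ} (hi : 1 ≤ i) (j : ℕ) : ah a i j = a i j := by
  unfold ah
  rw [if_neg (by omega)]

theorem ah_mono {a : ℕ → ℕ → ℕ} {r : ℕ} (ha : IsRankArray d r a) {j : ℕ} (hj : j ≤ r)
    {i₁ i₂ : ℕ} (h12 : i₁ ≤ i₂) (h2 : i₂ ≤ j) : ah a i₁ j ≤ ah a i₂ j := by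
  induction i₂, h12 using Nat.le_induction with
  | base => exact le_rfl
  | succ m hm ih =>
    refine (ih (by omega)).trans ?_
    rcases Nat.eq_zero_or_pos m with h0 | hpos
    · rw [h0, ah_zero]
      exact Nat.zero_le _
    · rw [ah_pos a hpos, ah_pos a (show 1 ≤ m + 1 by omega)]
      exact ha.2.1 m j hpos (by omega) hj

theorem ah_conv {a : ℕ → ℕ → ℕ} {r : ℕ} (ha : IsRankArray d r a) {i j : ℕ} (hi : 1 ≤ i)
    (hij : i ≤ j) (hj : j < r) :
    ah a i (j + 1) + ah a (i - 1) j ≤ ah a i j + ah a (i - 1) (j + 1) := by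
  rcases Nat.eq_or_lt_of_le hi with h1 | h1
  · rw [← h1]
    simp only [Nat.sub_self, ah_zero, add_zero]
    rw [ah_pos a le_rfl, ah_pos a le_rfl]
    exact ha.2.2.1 1 j le_rfl (by omega) hj
  · rw [ah_pos a hi, ah_pos a hi, ah_pos a (show 1 ≤ i - 1 by omega),
      ah_pos a (show 1 ≤ i - 1 by omega)]
    exact ha.2.2.2 i j h1 hij hj

/-- the relation defining the matrices -/
def Rel (a : ℕ → ℕ → ℕ) (j t t' : ℕ) : Prop :=
  ∃ i, 1 ≤ i ∧ i ≤ j ∧ ah a (i - 1) j ≤ t ∧ t < ah a i j ∧
    t' = ah a (i - 1) (j + 1) + (t - ah a (i - 1) j) ∧ t' < ah a i (j + 1)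

theorem Rel_bound {a : ℕ → ℕ → ℕ} {r : ℕ} (ha : IsRankArray d r a) {i j t t' : ℕ}
    (hij : i ≤ j) (hj : j < r) (hR : Rel a j t t') (ht : t < ah a i j) :
    t' < ah a i (j + 1) := by
  obtain ⟨i₀, h1, h2, h3, h4, h5, h6⟩ := hR
  have hle : i₀ ≤ i := by
    by_contra hcon
    have := ah_mono ha (show j ≤ r by omega) (show i ≤ i₀ - 1 by omega) (show i₀ - 1 ≤ j by omega)
    omega
  have := ah_mono ha (show j + 1 ≤ r by omega) hle (show i ≤ j + 1 by omega)
  omega

theorem Rel_exists {a : ℕ → ℕ → ℕ} {r : ℕ} (ha : IsRankArray d r a) {i j t' : ℕ}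
    (hi : 1 ≤ i) (hij : i ≤ j) (hj : j < r) (ht' : t' < ah a i (j + 1)) :
    ∃ t, t < ah a i j ∧ Rel a j t t' ∧ ∀ t'', Rel a j t t'' → t'' = t' := by
  classical
  have hex : ∃ i₀, 1 ≤ i₀ ∧ t' < ah a i₀ (j + 1) := ⟨i, hi, ht'⟩
  obtain ⟨hi₀1, hi₀2⟩ := Nat.find_spec hex
  have hi₀le : Nat.find hex ≤ i := Nat.find_min' hex ⟨hi, ht'⟩
  have hlow : ah a (Nat.find hex - 1) (j + 1) ≤ t' := by
    rcases Nat.eq_or_lt_of_le hi₀1 with h1 | h1
    · rw [← h1]
      simp [ah_zero]
    · have := Nat.find_min hex (show Nat.find hex - 1 < Nat.find hex by omega)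
      rw [not_and] at this
      have := this (by omega)
      omega
  generalize Nat.find hex = i₀ at hi₀1 hi₀2 hi₀le hlow
  have hconv := ah_conv ha hi₀1 (show i₀ ≤ j by omega) hj
  have hm1 := ah_mono ha (show j ≤ r by omega) hi₀le hij
  have hm0 := ah_mono ha (show j ≤ r by omega) (show i₀ - 1 ≤ i₀ by omega) (show i₀ ≤ j by omega)
  refine ⟨ah a (i₀ - 1) j + (t' - ah a (i₀ - 1) (j + 1)), by omega, ?_, ?_⟩
  · exact ⟨i₀, hi₀1, by omega, by omega, by omega, by omega, hi₀2⟩
  · rintro t'' ⟨i₁, g1, g2, g3, g4, g5, g6⟩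
    have hi₁ : i₁ = i₀ := by
      rcases Nat.lt_trichotomy i₁ i₀ with hlt | heq | hgt
      · have := ah_mono ha (show j ≤ r by omega) (show i₁ ≤ i₀ - 1 by omega)
          (show i₀ - 1 ≤ j by omega)
        omega
      · exact heq
      · have := ah_mono ha (show j ≤ r by omega) (show i₀ ≤ i₁ - 1 by omega)
          (show i₁ - 1 ≤ j by omega)
        omega
    subst hi₁
    omega

open Classical in
/-- the constructed matrices -/
noncomputable def fmat (k : Type u) [Field k] (d : ℕ → ℕ) (a : ℕ → ℕ → ℕ) (r : ℕ) (j : ℕ) :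
    Matrix (Fin (d (j + 1))) (Fin (d j)) k :=
  fun t' t => if (1 ≤ j ∧ j < r) ∧ Rel a j t.val t'.val then 1 else 0

/-- the coordinate subspace of vectors supported on the first `m` coordinates -/
def Esp (k : Type u) [Field k] (d : ℕ → ℕ) (j m : ℕ) : Submodule k (Fin (d j) → k) where
  carrier := {v | ∀ t : Fin (d j), m ≤ t.val → v t = 0}
  add_mem' := by
    intro v w hv hw t ht
    rw [Pi.add_apply, hv t ht, hw t ht, add_zero]
  zero_mem' := by
    intro t _
    rfl
  smul_mem' := by
    intro c v hv t ht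
    rw [Pi.smul_apply, hv t ht, smul_zero]

theorem mem_Esp (j m : ℕ) (v : Fin (d j) → k) :
    v ∈ Esp k d j m ↔ ∀ t : Fin (d j), m ≤ t.val → v t = 0 := Iff.rfl

/-- extension by zero -/
def extz (k : Type u) [Field k] (d : ℕ → ℕ) (j m : ℕ) : (Fin m → k) →ₗ[k] (Fin (d j) → k) where
  toFun x t := if h : t.val < m then x ⟨t.val, h⟩ else 0
  map_add' x y := by
    funext t
    by_cases h : t.val < m
    · simp [h]
    · simp [h]
  map_smul' c x := by
    funext t
    by_cases h : t.val < m
    · simp [h]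
    · simp [h]

theorem finrank_Esp (j m : ℕ) (hm : m ≤ d j) : Module.finrank k (Esp k d j m) = m := by
  have hinj : Function.Injective (extz k d j m) := by
    intro x y hxy
    funext u
    have := congrFun hxy ⟨u.val, by omega⟩
    simpa [extz] using this
  have hrange : LinearMap.range (extz k d j m) = Esp k d j m := by
    apply le_antisymm
    · rintro _ ⟨x, rfl⟩ t ht
      change (if h : t.val < m then x ⟨t.val, h⟩ else 0) = 0
      rw [dif_neg (by omega)]
    · intro v hv
      refine ⟨fun u => v ⟨u.val, by omega⟩, ?_⟩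
      funext t
      change (if h : t.val < m then v ⟨t.val, _⟩ else 0) = v t
      by_cases h : t.val < m
      · rw [dif_pos h]
      · rw [dif_neg h, hv t (by omega)]
  rw [← hrange, LinearMap.finrank_range_of_inj hinj]
  simp

theorem Esp_top (j : ℕ) : Esp k d j (d j) = ⊤ := by
  rw [eq_top_iff]
  intro v _ t ht
  exact absurd t.2 (by omega)

theorem key_le {a : ℕ → ℕ → ℕ} {r : ℕ} (ha : IsRankArray d r a) {i j : ℕ}
    (hij : i ≤ j) (hj : j < r) :
    (Esp k d j (ah a i j)).map (Matrix.toLin' (fmat k d a r j)) ≤ Esp k d (j + 1) (ah a i (j + 1)) := by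
  rintro _ ⟨v, hv, rfl⟩ t' ht'
  rw [Matrix.toLin'_apply]
  change ∑ t, fmat k d a r j t' t * v t = 0
  apply Finset.sum_eq_zero
  intro t _
  by_cases hvt : v t = 0
  · rw [hvt, mul_zero]
  · have ht : t.val < ah a i j := by
      by_contra hcon
      exact hvt (hv t (by omega))
    have : fmat k d a r j t' t = 0 := by
      unfold fmat
      rw [if_neg]
      rintro ⟨_, hR⟩
      have := Rel_bound ha hij hj hR ht
      omega
    rw [this, zero_mul]

theorem key_ge {a : ℕ → ℕ → ℕ} {r : ℕ} (ha : IsRankArray d r a) {i j : ℕ} (hi : 1 ≤ i)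
    (hij : i ≤ j) (hj : j < r) (hbound : ah a i j ≤ d j) :
    Esp k d (j + 1) (ah a i (j + 1)) ≤ (Esp k d j (ah a i j)).map (Matrix.toLin' (fmat k d a r j)) := by
  classical
  intro v' hv'
  have hsum : v' = ∑ t', v' t' • (Pi.single t' (1 : k) : Fin (d (j + 1)) → k) := by
    funext u
    simp [Finset.sum_apply, Pi.single_apply]
  rw [hsum]
  refine Submodule.sum_mem _ (fun t' _ => ?_)
  by_cases ht' : t'.val < ah a i (j + 1)
  · obtain ⟨t, ht1, ht2, ht3⟩ := Rel_exists ha hi hij hj ht'
    refine Submodule.smul_mem _ _ ⟨Pi.single (⟨t, by omega⟩ : Fin (d j)) 1, ?_, ?_⟩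
    · intro u hu
      rw [Pi.single_apply, if_neg]
      intro hut
      rw [hut] at hu
      simp at hu
      omega
    · rw [Matrix.toLin'_apply, Matrix.mulVec_single_one]
      funext u
      change fmat k d a r j u ⟨t, _⟩ = _
      unfold fmat
      rw [Pi.single_apply]
      by_cases hu : u = t'
      · rw [if_pos hu, if_pos]
        rw [hu]
        exact ⟨⟨by omega, hj⟩, ht2⟩
      · rw [if_neg hu, if_neg]
        rintro ⟨_, hR⟩
        exact hu (Fin.ext (ht3 _ hR))
  · rw [hv' t' (by omega), zero_smul]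
    exact Submodule.zero_mem _

theorem ah_le_d {a : ℕ → ℕ → ℕ} {r : ℕ} (ha : IsRankArray d r a) {i j : ℕ} (hi : 1 ≤ i)
    (hij : i ≤ j) (hj : j ≤ r) : ah a i j ≤ d j := by
  have h1 := ah_mono ha hj hij le_rfl
  rw [ah_pos a (show 1 ≤ j by omega) j, ha.1 j (by omega) hj] at h1
  exact h1

theorem iterImage_fmat {a : ℕ → ℕ → ℕ} {r : ℕ} (ha : IsRankArray d r a) {i : ℕ} (hi : 1 ≤ i)
    (n : ℕ) (hin : i + n ≤ r) :
    iterImage (fmat k d a r) i n = Esp k d (i + n) (ah a i (i + n)) := by
  induction n with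
  | zero =>
    change (⊤ : Submodule k (Fin (d i) → k)) = Esp k d i (ah a i i)
    rw [ah_pos a hi, ha.1 i hi (by omega), Esp_top]
  | succ n ih =>
    change (iterImage (fmat k d a r) i n).map (Matrix.toLin' (fmat k d a r (i + n))) =
      Esp k d (i + n + 1) (ah a i (i + n + 1))
    rw [ih (by omega)]
    exact le_antisymm (key_le ha (by omega) (by omega))
      (key_ge ha hi (by omega) (by omega) (ah_le_d ha hi (by omega) (by omega)))

theorem part4 (r : ℕ) (a : ℕ → ℕ → ℕ) (ha : IsRankArray d r a) :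
    ∃ f : (i : ℕ) → Matrix (Fin (d (i + 1))) (Fin (d i)) k,
      ∀ i j : ℕ, 1 ≤ i → i ≤ j → j ≤ r → rankArray f i j = a i j := by
  refine ⟨fmat k d a r, fun i j hi hij hj => ?_⟩
  obtain ⟨n, rfl⟩ := Nat.exists_eq_add_of_le hij
  rw [rankArray_eq, iterImage_fmat ha hi n hj, finrank_Esp _ _ (ah_le_d ha hi (by omega) hj),
    ah_pos a hi]

theorem main (k : Type u) [Field k] (d : ℕ → ℕ) (r : ℕ) :
    (∀ (g : (j : ℕ) → Matrix.GeneralLinearGroup (Fin (d j)) k)
        (f : (i : ℕ) → Matrix (Fin (d (i + 1))) (Fin (d i)) k) (i j : ℕ),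
        1 ≤ i → i ≤ j → j ≤ r → rankArray (conj g f) i j = rankArray f i j) ∧
    (∀ f : (i : ℕ) → Matrix (Fin (d (i + 1))) (Fin (d i)) k, IsRankArray d r (rankArray f)) ∧
    (∀ f f' : (i : ℕ) → Matrix (Fin (d (i + 1))) (Fin (d i)) k,
        (∀ i j : ℕ, 1 ≤ i → i ≤ j → j ≤ r → rankArray f i j = rankArray f' i j) →
        ∃ g : (j : ℕ) → Matrix.GeneralLinearGroup (Fin (d j)) k,
          ∀ i : ℕ, 1 ≤ i → i + 1 ≤ r → conj g f i = f' i) ∧
    (∀ a : ℕ → ℕ → ℕ, IsRankArray d r a →
        ∃ f : (i : ℕ) → Matrix (Fin (d (i + 1))) (Fin (d i)) k,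
          ∀ i j : ℕ, 1 ≤ i → i ≤ j → j ≤ r → rankArray f i j = a i j) :=
  ⟨fun g f i j _ hij _ => part1 g f i j hij, fun f => part2 f r, fun f f' h => part3 r f f' h,
    fun a ha => part4 r a ha⟩

end construct

end


/-- Let k be a field and d_1, …, d_r sizes (given as a function d on the naturals; only d_1, …, d_r
matter). The group Π_j GL_{d_j}(k) acts on chains of matrices f_i of size d_{i+1} × d_i (1 ≤ i < r)
by f_i ↦ g_{i+1} f_i g_i^(-1). Sending a chain to the array a_{i,j} = dim (f_{j-1} ⋯ f_i)(k^{d_i})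
(1 ≤ i ≤ j ≤ r) is constant on orbits, takes values in the set of admissible arrays (a_{j,j} = d_j;
a_{i,j} ≤ a_{i+1,j} for i < j; a_{i,j+1} ≤ a_{i,j} for j < r; a_{i,j} - a_{i-1,j} ≥ a_{i,j+1} -
a_{i-1,j+1} for 1 < i ≤ j < r), separates orbits, and reaches every admissible array: it is a
bijection from the orbit set onto the admissible arrays. (The published statement also asserts that,
when k is Galois over a subfield, the bijection is compatible with the Galois group acting entrywise
on matrices and trivially on arrays; this row omits that clause.) -/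
theorem result (k : Type u) [Field k] (d : ℕ → ℕ) (r : ℕ) :
    (∀ (g : (j : ℕ) → Matrix.GeneralLinearGroup (Fin (d j)) k)
        (f : (i : ℕ) → Matrix (Fin (d (i + 1))) (Fin (d i)) k) (i j : ℕ),
        1 ≤ i → i ≤ j → j ≤ r → rankArray (conj g f) i j = rankArray f i j) ∧
    (∀ f : (i : ℕ) → Matrix (Fin (d (i + 1))) (Fin (d i)) k, IsRankArray d r (rankArray f)) ∧
    (∀ f f' : (i : ℕ) → Matrix (Fin (d (i + 1))) (Fin (d i)) k,
        (∀ i j : ℕ, 1 ≤ i → i ≤ j → j ≤ r → rankArray f i j = rankArray f' i j) →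
        ∃ g : (j : ℕ) → Matrix.GeneralLinearGroup (Fin (d j)) k,
          ∀ i : ℕ, 1 ≤ i → i + 1 ≤ r → conj g f i = f' i) ∧
    (∀ a : ℕ → ℕ → ℕ, IsRankArray d r a →
        ∃ f : (i : ℕ) → Matrix (Fin (d (i + 1))) (Fin (d i)) k,
          ∀ i j : ℕ, 1 ≤ i → i ≤ j → j ≤ r → rankArray f i j = a i j) := by
  classical
  exact main k d r

end Groth.Agent.S14194
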