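import Groth.Statements.S14195
import Mathlib

set_option autoImplicit false
universe u v
open StackCount

namespace Groth.Agent.S14195

section

open Polynomial

section ap
variable {G : Type u} {A : Type v} [Group G] [Group A] [MulDistribMulAction G A] (g : G) (a : A)

/-- partial twisted products `a * g a * ... * g^(n-1) a` -/
def ap : ℕ → A
  | 0 => 1
  | n + 1 => ap n * (g ^ n) • a

theorem ap_zero : ap g a 0 = 1 := rfl
theorem ap_succ (n : ℕ) : ap g a (n + 1) = ap g a n * (g ^ n) • a := rfl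

theorem ap_one : ap g a 1 = a := by
  rw [ap_succ, ap_zero, pow_zero, one_smul, one_mul]

theorem ap_add (n n' : ℕ) : ap g a (n + n') = ap g a n * (g ^ n) • ap g a n' := by
  induction n' with
  | zero => rw [Nat.add_zero, ap_zero, smul_one, mul_one]
  | succ n' ih =>
    rw [← Nat.add_assoc, ap_succ, ih, ap_succ, smul_mul', mul_assoc, pow_add, mul_smul]

variable (H : Subgroup A) (hH : ∀ (σ : G) (x : A), x ∈ H → σ • x ∈ H) (ha : a ∈ H)

include hH ha in
theorem ap_mem (n : ℕ) : ap g a n ∈ H := by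
  induction n with
  | zero => exact H.one_mem
  | succ n ih => exact H.mul_mem ih (hH _ _ ha)

include hH in
/-- some positive power of `g` acts trivially on a finite stable subgroup -/
theorem exists_pow_trivial (hfin : (H : Set A).Finite) : ∃ d : ℕ, 0 < d ∧ ∀ y ∈ H, (g ^ d) • y = y := by
  have : Finite H := hfin
  let f : H → H := fun y => ⟨g • y.1, hH g y.1 y.2⟩
  have hf : Function.Injective f := by
    intro y y' h
    apply Subtype.ext
    have := congrArg Subtype.val h
    exact MulAction.injective g this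
  let p : Equiv.Perm H := Equiv.ofBijective f (Finite.injective_iff_bijective.1 hf)
  have hp : ∀ (n : ℕ) (y : H), ((p ^ n) y : A) = (g ^ n) • (y : A) := by
    intro n
    induction n with
    | zero => intro y; simp
    | succ n ih =>
      intro y
      rw [pow_succ', Equiv.Perm.mul_apply, pow_succ', mul_smul, ← ih y]
      rfl
  refine ⟨orderOf p, orderOf_pos p, fun y hy => ?_⟩
  have := hp (orderOf p) ⟨y, hy⟩
  rw [pow_orderOf_eq_one] at this
  exact this.symm

include hH ha in
theorem ap_mul_of_trivial (d : ℕ) (hd : ∀ y ∈ H, (g ^ d) • y = y) (j : ℕ) :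
    ap g a (d * j) = ap g a d ^ j := by
  induction j with
  | zero => rw [Nat.mul_zero, ap_zero, pow_zero]
  | succ j ih =>
    have h1 : (g ^ (d * j)) • ap g a d = ap g a d := by
      have : ∀ (i : ℕ), ∀ y ∈ H, (g ^ (d * i)) • y = y := by
        intro i
        induction i with
        | zero => intro y _; simp
        | succ i ihi =>
          intro y hy
          rw [Nat.mul_succ, pow_add, mul_smul, hd y hy, ihi y hy]
      exact this j _ (ap_mem g a H hH ha d)
    rw [Nat.mul_succ, ap_add, ih, h1, pow_succ]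

include hH ha in
/-- a positive period `m`: `g^m` acts trivially on `H` and `ap m = 1` -/
theorem exists_period (hfin : (H : Set A).Finite) :
    ∃ m : ℕ, 0 < m ∧ (∀ y ∈ H, (g ^ m) • y = y) ∧ ap g a m = 1 := by
  have : Finite H := hfin
  obtain ⟨d, hd0, hd⟩ := exists_pow_trivial g H hH hfin
  refine ⟨d * Nat.card H, Nat.mul_pos hd0 Nat.card_pos, ?_, ?_⟩
  · have : ∀ (i : ℕ), ∀ y ∈ H, (g ^ (d * i)) • y = y := by
      intro i
      induction i with
      | zero => intro y _; simp
      | succ i ihi =>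
        intro y hy
        rw [Nat.mul_succ, pow_add, mul_smul, hd y hy, ihi y hy]
    exact this _
  · rw [ap_mul_of_trivial g a H hH ha d hd]
    have h1 : (⟨ap g a d, ap_mem g a H hH ha d⟩ : H) ^ Nat.card H = 1 := pow_card_eq_one'
    exact congrArg Subtype.val h1

theorem ap_add_period (m : ℕ) (hm : ap g a m = 1) (n j : ℕ) : ap g a (n + m * j) = ap g a n := by
  induction j with
  | zero => rw [Nat.mul_zero, Nat.add_zero]
  | succ j ih => rw [Nat.mul_succ, ← Nat.add_assoc, ap_add, hm, smul_one, mul_one, ih]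

end ap


section frob
variable (k : Type u) [Field k] [Finite k]
  (π : AlgebraicClosure k ≃ₐ[k] AlgebraicClosure k)
  (hπ : ∀ x : AlgebraicClosure k, π x = x ^ Nat.card k)

include hπ in
theorem pi_pow (n : ℕ) (x : AlgebraicClosure k) : (π ^ n) x = x ^ (Nat.card k ^ n) := by
  induction n generalizing x with
  | zero => simp
  | succ n ih =>
    rw [pow_succ, AlgEquiv.mul_apply, hπ, ih, ← pow_mul, pow_succ, mul_comm]

include hπ in
/-- approximation of any automorphism by a power of Frobenius on a finite subextension -/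
theorem approx (E : IntermediateField k (AlgebraicClosure k)) [FiniteDimensional k E]
    (σ : AlgebraicClosure k ≃ₐ[k] AlgebraicClosure k) :
    ∃ n : ℕ, ∀ x ∈ E, σ x = (π ^ n) x := by
  have := Fintype.ofFinite k
  have hfinE : Finite E := Module.finite_of_finite k
  have hnorm : Normal k E := inferInstance
  obtain ⟨n, hn⟩ := (FiniteField.bijective_frobeniusAlgEquivOfAlgebraic_pow k E).2
    (σ.restrictNormal E)
  refine ⟨n.1, fun x hx => ?_⟩
  have h1 := AlgEquiv.restrictNormal_commutes σ E ⟨x, hx⟩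
  have h2 : (σ.restrictNormal E) ⟨x, hx⟩ =
      (FiniteField.frobeniusAlgEquivOfAlgebraic k E ^ n.1) ⟨x, hx⟩ := by
    rw [← hn]
  rw [h2] at h1
  have h3 : ((FiniteField.frobeniusAlgEquivOfAlgebraic k E ^ n.1) ⟨x, hx⟩ : E) =
      (⟨x, hx⟩ : E) ^ (Fintype.card k ^ n.1) := by
    rw [AlgEquiv.coe_pow, FiniteField.coe_frobeniusAlgEquivOfAlgebraic_iterate]
  rw [h3] at h1
  rw [pi_pow k π hπ, Nat.card_eq_fintype_card]
  simpa using h1.symm


open Topology in
include hπ in
theorem dense_pow (V : Set (AlgebraicClosure k ≃ₐ[k] AlgebraicClosure k)) (hV : IsOpen V)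
    (σ : AlgebraicClosure k ≃ₐ[k] AlgebraicClosure k) (hσ : σ ∈ V) : ∃ n : ℕ, π ^ n ∈ V := by
  have h1 : (fun τ => σ * τ) ⁻¹' V ∈ 𝓝 (1 : AlgebraicClosure k ≃ₐ[k] AlgebraicClosure k) := by
    apply (continuous_mul_left σ).continuousAt.preimage_mem_nhds
    simpa using hV.mem_nhds hσ
  obtain ⟨E, hE, hsub⟩ := (krullTopology_mem_nhds_one_iff k _ _).1 h1
  obtain ⟨n, hn⟩ := approx k π hπ E σ
  refine ⟨n, ?_⟩
  have h2 : σ⁻¹ * π ^ n ∈ E.fixingSubgroup := by
    rw [IntermediateField.mem_fixingSubgroup_iff]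
    intro x hx
    change σ⁻¹ ((π ^ n) x) = x
    rw [← hn x hx]
    exact σ.symm_apply_apply x
  have h3 := hsub h2
  simpa using h3

section inj
variable {A : Type v} [Group A] [MulDistribMulAction (AlgebraicClosure k ≃ₐ[k] AlgebraicClosure k) A]

omit [Finite k] in
theorem cocycle_one (z : GpH1.OneCocycle (AlgebraicClosure k ≃ₐ[k] AlgebraicClosure k) A) :
    z.1 1 = 1 := by
  have h := z.2 1 1
  rw [one_mul, one_smul] at h
  exact (mul_eq_left.1 h.symm)

omit [Finite k] in
theorem cocycle_pow_eq (z z' : GpH1.OneCocycle (AlgebraicClosure k ≃ₐ[k] AlgebraicClosure k) A)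
    (h : z.1 π = z'.1 π) (n : ℕ) : z.1 (π ^ n) = z'.1 (π ^ n) := by
  induction n with
  | zero => rw [pow_zero, cocycle_one, cocycle_one]
  | succ n ih => rw [pow_succ, z.2, z'.2, ih, h]

include hπ in
theorem inj (z z' : GpH1.OneCocycleLC (AlgebraicClosure k ≃ₐ[k] AlgebraicClosure k) A)
    (h : z.1.1 π = z'.1.1 π) : z = z' := by
  apply Subtype.ext
  apply GpH1.OneCocycle.ext
  intro σ
  have hV : IsOpen ((z.1.1 ⁻¹' {z.1.1 σ}) ∩ (z'.1.1 ⁻¹' {z'.1.1 σ})) :=
    (z.2.isOpen_fiber _).inter (z'.2.isOpen_fiber _)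
  obtain ⟨n, hn⟩ := dense_pow k π hπ _ hV σ ⟨rfl, rfl⟩
  have h1 : z.1.1 (π ^ n) = z.1.1 σ := hn.1
  have h2 : z'.1.1 (π ^ n) = z'.1.1 σ := hn.2
  change z.1.1 σ = z'.1.1 σ
  rw [← h1, ← h2]
  exact cocycle_pow_eq k π z.1 z'.1 h n

end inj

/-- the fixed field of `π^m` -/
noncomputable def Em (m : ℕ) : IntermediateField k (AlgebraicClosure k) :=
  IntermediateField.fixedField (Subgroup.zpowers (π ^ m))

omit [Finite k] in
theorem mem_Em (m : ℕ) (x : AlgebraicClosure k) : x ∈ Em k π m ↔ (π ^ m) x = x := by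
  unfold Em
  rw [IntermediateField.mem_fixedField_iff]
  constructor
  · intro h
    exact h _ (Subgroup.mem_zpowers _)
  · intro h f hf
    have hle : Subgroup.zpowers (π ^ m) ≤ MulAction.stabilizer _ x := by
      rw [Subgroup.zpowers_le]
      exact h
    exact hle hf

include hπ in
theorem Em_eq_rootSet (m : ℕ) (hm : 0 < m) :
    (Em k π m : Set (AlgebraicClosure k)) =
      (X ^ (Nat.card k ^ m) - X : k[X]).rootSet (AlgebraicClosure k) := by
  have := Fintype.ofFinite k
  have hq : 1 < Nat.card k := by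
    rw [Nat.card_eq_fintype_card]
    exact Fintype.one_lt_card
  have hQ : 1 < Nat.card k ^ m := Nat.one_lt_pow hm.ne' hq
  have hne : (X ^ (Nat.card k ^ m) - X : k[X]) ≠ 0 := FiniteField.X_pow_card_sub_X_ne_zero k hQ
  ext x
  rw [SetLike.mem_coe, mem_Em, pi_pow k π hπ, mem_rootSet_of_ne hne]
  simp [sub_eq_zero]

include hπ in
theorem card_Em (m : ℕ) (hm : 0 < m) : Nat.card (Em k π m) = Nat.card k ^ m := by
  have := Fintype.ofFinite k
  have hq : 1 < Nat.card k := by
    rw [Nat.card_eq_fintype_card]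
    exact Fintype.one_lt_card
  have hQ : 1 < Nat.card k ^ m := Nat.one_lt_pow hm.ne' hq
  obtain ⟨p, hp⟩ := CharP.exists k
  have hpp : Fact p.Prime := ⟨CharP.char_is_prime k p⟩
  obtain ⟨r, _, hr⟩ := FiniteField.card k p
  have hdvd : p ∣ Nat.card k ^ m := by
    rw [Nat.card_eq_fintype_card, hr]
    exact dvd_pow (dvd_pow_self p r.ne_zero) hm.ne'
  have hsep : (X ^ (Nat.card k ^ m) - X : k[X]).Separable := galois_poly_separable p _ hdvd
  have hsplit : Splits ((X ^ (Nat.card k ^ m) - X : k[X]).map (algebraMap k (AlgebraicClosure k))) :=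
    IsAlgClosed.splits _
  have h1 := card_rootSet_eq_natDegree hsep hsplit
  rw [FiniteField.X_pow_card_sub_X_natDegree_eq k hQ] at h1
  have h2 : Nat.card (Em k π m) = Nat.card ((Em k π m : Set (AlgebraicClosure k))) := rfl
  rw [h2, Em_eq_rootSet k π hπ m hm, Nat.card_eq_fintype_card, h1]


include hπ in
theorem finite_Em (m : ℕ) (hm : 0 < m) : Finite (Em k π m) := by
  apply Nat.finite_of_card_ne_zero
  rw [card_Em k π hπ m hm]
  have := Fintype.ofFinite k
  exact pow_ne_zero _ (by rw [Nat.card_eq_fintype_card]; exact Fintype.card_ne_zero)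

include hπ in
theorem Em_prop (m : ℕ) (hm : 0 < m) (j : ℕ) (h : ∀ x ∈ Em k π m, (π ^ j) x = x) : m ∣ j := by
  have := Fintype.ofFinite k
  have hfin : Finite (Em k π m) := finite_Em k π hπ m hm
  have hq : 1 < Nat.card k := by
    rw [Nat.card_eq_fintype_card]
    exact Fintype.one_lt_card
  have hfd : FiniteDimensional k (Em k π m) := Module.Finite.of_finite
  have hrank : Module.finrank k (Em k π m) = m := by
    have h1 := Module.natCard_eq_pow_finrank (K := k) (V := Em k π m)
    rw [card_Em k π hπ m hm] at h1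
    exact (Nat.pow_right_injective hq h1).symm
  have hord := FiniteField.orderOf_frobeniusAlgEquivOfAlgebraic k (Em k π m)
  rw [hrank] at hord
  rw [← hord]
  apply orderOf_dvd_of_pow_eq_one
  ext x
  rw [AlgEquiv.coe_pow, FiniteField.coe_frobeniusAlgEquivOfAlgebraic_iterate, AlgEquiv.one_apply]
  have h2 := h x.1 x.2
  rw [pi_pow k π hπ, Nat.card_eq_fintype_card] at h2
  simpa using h2



section surj
variable {A : Type v} [Group A] [MulDistribMulAction (AlgebraicClosure k ≃ₐ[k] AlgebraicClosure k) A]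

omit [Finite k] in
theorem cong_ap (a : A) (m : ℕ) (hm0 : 0 < m) (hapm : ap π a m = 1)
    (hEm : ∀ j : ℕ, (∀ x ∈ Em k π m, (π ^ j) x = x) → m ∣ j)
    (n n' : ℕ) (h : ∀ x ∈ Em k π m, (π ^ n) x = (π ^ n') x) : ap π a n = ap π a n' := by
  wlog hle : n ≤ n' generalizing n n'
  · exact (this n' n (fun x hx => (h x hx).symm) (le_of_not_ge hle)).symm
  obtain ⟨j, rfl⟩ := Nat.exists_eq_add_of_le hle
  have h1 : ∀ x ∈ Em k π m, (π ^ j) x = x := by
    intro x hx
    have h2 := h x hx
    rw [pow_add, AlgEquiv.mul_apply] at h2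
    exact ((π ^ n).injective h2).symm
  obtain ⟨j', rfl⟩ := hEm j h1
  exact (ap_add_period π a m hapm n j').symm

open Topology in
include hπ in
theorem surj (hcont : ∀ a : A, IsOpen {σ : AlgebraicClosure k ≃ₐ[k] AlgebraicClosure k | σ • a = a})
    (a : A) (H : Subgroup A) (hfin : (H : Set A).Finite) (ha : a ∈ H)
    (hH : ∀ (σ : AlgebraicClosure k ≃ₐ[k] AlgebraicClosure k) (x : A), x ∈ H → σ • x ∈ H) :
    ∃ z : GpH1.OneCocycleLC (AlgebraicClosure k ≃ₐ[k] AlgebraicClosure k) A, z.1.1 π = a := by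
  obtain ⟨m, hm0, hmtriv, hapm⟩ := exists_period π a H hH ha hfin
  have hN : {σ : AlgebraicClosure k ≃ₐ[k] AlgebraicClosure k | ∀ y ∈ H, σ • y = y} ∈
      𝓝 (1 : AlgebraicClosure k ≃ₐ[k] AlgebraicClosure k) := by
    have h1 : {σ : AlgebraicClosure k ≃ₐ[k] AlgebraicClosure k | ∀ y ∈ H, σ • y = y} =
        ⋂ y ∈ hfin.toFinset, {σ | σ • y = y} := by
      ext σ
      simp
    rw [h1]
    apply IsOpen.mem_nhds (isOpen_biInter_finset fun y _ => hcont y)
    simp
  obtain ⟨E, hE, hEsub⟩ := (krullTopology_mem_nhds_one_iff k _ _).1 hN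
  have hfinEm : Finite (Em k π m) := finite_Em k π hπ m hm0
  have hfdEm : FiniteDimensional k (Em k π m) := Module.Finite.of_finite
  have hfdE' : FiniteDimensional k (E ⊔ Em k π m : IntermediateField k (AlgebraicClosure k)) :=
    inferInstance
  have hE'E : ∀ x ∈ E, x ∈ (E ⊔ Em k π m : IntermediateField k (AlgebraicClosure k)) :=
    fun x hx => (le_sup_left : E ≤ E ⊔ Em k π m) hx
  have hE'Em : ∀ x ∈ Em k π m, x ∈ (E ⊔ Em k π m : IntermediateField k (AlgebraicClosure k)) :=
    fun x hx => (le_sup_right : Em k π m ≤ E ⊔ Em k π m) hx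
  have hRel := fun σ => approx k π hπ (E ⊔ Em k π m) σ
  choose nσ hnσ using hRel
  have hEm := fun j => Em_prop k π hπ m hm0 j
  -- Z1
  have Z1 : ∀ (σ : AlgebraicClosure k ≃ₐ[k] AlgebraicClosure k) (n : ℕ),
      (∀ x ∈ (E ⊔ Em k π m : IntermediateField k (AlgebraicClosure k)), σ x = (π ^ n) x) →
      ap π a (nσ σ) = ap π a n := by
    intro σ n hn
    apply cong_ap k π a m hm0 hapm hEm
    intro x hx
    rw [← hnσ σ x (hE'Em x hx), hn x (hE'Em x hx)]
  -- action on H
  have Zact : ∀ (σ : AlgebraicClosure k ≃ₐ[k] AlgebraicClosure k) (y : A), y ∈ H →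
      σ • y = (π ^ nσ σ) • y := by
    intro σ y hy
    have h2 : σ⁻¹ * π ^ nσ σ ∈ E.fixingSubgroup := by
      rw [IntermediateField.mem_fixingSubgroup_iff]
      intro x hx
      change σ⁻¹ ((π ^ nσ σ) x) = x
      rw [← hnσ σ x (hE'E x hx)]
      exact σ.symm_apply_apply x
    have h3 := hEsub h2 y hy
    rw [mul_smul, inv_smul_eq_iff] at h3
    exact h3.symm
  have hstab : ∀ (n : ℕ), ∀ x ∈ (E ⊔ Em k π m : IntermediateField k (AlgebraicClosure k)),
      (π ^ n) x ∈ (E ⊔ Em k π m : IntermediateField k (AlgebraicClosure k)) := by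
    intro n x hx
    rw [pi_pow k π hπ]
    exact pow_mem hx _
  refine ⟨⟨⟨fun σ => ap π a (nσ σ), ?_⟩, ?_⟩, ?_⟩
  · -- cocycle
    intro σ τ
    change ap π a (nσ (σ * τ)) = ap π a (nσ σ) * σ • ap π a (nσ τ)
    rw [Z1 (σ * τ) (nσ σ + nσ τ), ap_add, Zact σ _ (ap_mem π a H hH ha _)]
    intro x hx
    rw [AlgEquiv.mul_apply, hnσ τ x hx, hnσ σ _ (hstab _ x hx), pow_add, AlgEquiv.mul_apply]
  · -- locally constant
    rw [IsLocallyConstant.iff_exists_open]
    intro σ
    refine ⟨(fun τ => σ⁻¹ * τ) ⁻¹' ((E ⊔ Em k π m : IntermediateField k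
      (AlgebraicClosure k)).fixingSubgroup : Set (AlgebraicClosure k ≃ₐ[k] AlgebraicClosure k)),
      ?_, ?_, ?_⟩
    · exact (IntermediateField.fixingSubgroup_isOpen _).preimage (continuous_mul_left _)
    · simp
    · intro τ hτ
      change ap π a (nσ τ) = ap π a (nσ σ)
      apply Z1
      intro x hx
      have h4 : (σ⁻¹ * τ) x = x := by
        have := (IntermediateField.mem_fixingSubgroup_iff _ _).1 hτ x hx
        exact this
      change σ⁻¹ (τ x) = x at h4
      have h5 : τ x = σ x := by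
        have h6 := congrArg σ h4
        rwa [show σ (σ⁻¹ (τ x)) = τ x from σ.apply_symm_apply _] at h6
      rw [h5]
      exact hnσ σ x hx
  · change ap π a (nσ π) = a
    rw [Z1 π 1 (fun x _ => by rw [pow_one]), ap_one]

end surj


section main
variable {A : Type v} [Group A] [MulDistribMulAction (AlgebraicClosure k ≃ₐ[k] AlgebraicClosure k) A]

omit [Finite k] in
theorem lc_smul (hcont : ∀ a : A, IsOpen {σ : AlgebraicClosure k ≃ₐ[k] AlgebraicClosure k | σ • a = a})
    (g : A) : IsLocallyConstant (fun σ : AlgebraicClosure k ≃ₐ[k] AlgebraicClosure k => σ • g) := by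
  rw [IsLocallyConstant.iff_exists_open]
  intro σ
  refine ⟨(fun τ => σ⁻¹ * τ) ⁻¹' {ν | ν • g = g}, (hcont g).preimage (continuous_mul_left _), ?_, ?_⟩
  · simp
  · intro τ hτ
    have h1 : (σ⁻¹ * τ) • g = g := hτ
    rw [mul_smul, inv_smul_eq_iff] at h1
    exact h1

include hπ in
theorem main (hcont : ∀ a : A, IsOpen {σ : AlgebraicClosure k ≃ₐ[k] AlgebraicClosure k | σ • a = a})
    (hfin : ∀ a : A, ∃ H : Subgroup A, (H : Set A).Finite ∧ a ∈ H ∧
      ∀ (σ : AlgebraicClosure k ≃ₐ[k] AlgebraicClosure k) (x : A), x ∈ H → σ • x ∈ H) :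
    Function.Bijective
        (fun z : GpH1.OneCocycleLC (AlgebraicClosure k ≃ₐ[k] AlgebraicClosure k) A => z.1 π) ∧
      ∀ z z' : GpH1.OneCocycleLC (AlgebraicClosure k ≃ₐ[k] AlgebraicClosure k) A,
        z.cl = z'.cl ↔ ∃ g : A, z'.1 π = g * z.1 π * (π • g)⁻¹ := by
  refine ⟨⟨fun z z' h => inj k π hπ z z' h, fun a => ?_⟩, fun z z' => ?_⟩
  · obtain ⟨H, hHfin, ha, hH⟩ := hfin a
    exact surj k π hπ hcont a H hHfin ha hH
  · rw [GpH1.OneCocycleLC.cl_eq_cl_iff]
    constructor
    · rintro ⟨c, hc⟩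
      refine ⟨c, ?_⟩
      have := hc π
      change z.1.1 π = c⁻¹ * z'.1.1 π * π • c at this
      change z'.1.1 π = c * z.1.1 π * (π • c)⁻¹
      rw [this]
      group
    · rintro ⟨g, hg⟩
      change z'.1.1 π = g * z.1.1 π * (π • g)⁻¹ at hg
      let w : GpH1.OneCocycleLC (AlgebraicClosure k ≃ₐ[k] AlgebraicClosure k) A :=
        ⟨⟨fun σ => g⁻¹ * z'.1.1 σ * σ • g, by
          intro σ τ
          change g⁻¹ * z'.1.1 (σ * τ) * (σ * τ) • g =
            g⁻¹ * z'.1.1 σ * σ • g * σ • (g⁻¹ * z'.1.1 τ * τ • g)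
          rw [z'.1.2 σ τ, smul_mul', smul_mul', smul_inv', mul_smul]
          group⟩, by
          change IsLocallyConstant (fun σ => g⁻¹ * z'.1.1 σ * σ • g)
          exact ((IsLocallyConstant.const g⁻¹).mul z'.2).mul (lc_smul k hcont g)⟩
      have hw : w = z := by
        apply inj k π hπ
        change g⁻¹ * z'.1.1 π * π • g = z.1.1 π
        rw [hg]
        group
      refine ⟨g, fun σ => ?_⟩
      change z.1.1 σ = g⁻¹ * z'.1.1 σ * σ • g
      rw [← hw]

end main

end frob

end


/-- Let k be a finite field, k̄ an algebraic closure, Γ = Aut(k̄/k) with the Krull topology and π ∈ Γ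
the Frobenius x ↦ x^(#k). Let A be a group on which Γ acts by group automorphisms, with open
stabilisers, such that every element of A lies in a finite Γ-stable subgroup. Then z ↦ z(π) is a
bijection from the locally constant 1-cocycles Γ → A (the continuous cocycles for discrete A) onto
A, and two such cocycles z, z' are cohomologous if and only if z'(π) = g · z(π) · (π g)^(-1) for
some g in A; hence it induces a bijection of the continuous first cohomology set with the quotient
of A by the twisted conjugation g · x = g x (π g)^(-1). (The published statement takes A to be the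
group of k̄-points of a smooth algebraic group over k with its Galois action; this row assumes only
the two properties of that action which the proof uses.) -/
theorem result (k : Type u) [Field k] [Finite k]
    (π : AlgebraicClosure k ≃ₐ[k] AlgebraicClosure k)
    (hπ : ∀ x : AlgebraicClosure k, π x = x ^ Nat.card k)
    (A : Type v) [Group A] [MulDistribMulAction (AlgebraicClosure k ≃ₐ[k] AlgebraicClosure k) A]
    (hcont : ∀ a : A, IsOpen {σ : AlgebraicClosure k ≃ₐ[k] AlgebraicClosure k | σ • a = a})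
    (hfin : ∀ a : A, ∃ H : Subgroup A, (H : Set A).Finite ∧ a ∈ H ∧
      ∀ (σ : AlgebraicClosure k ≃ₐ[k] AlgebraicClosure k) (x : A), x ∈ H → σ • x ∈ H) :
    Function.Bijective
        (fun z : GpH1.OneCocycleLC (AlgebraicClosure k ≃ₐ[k] AlgebraicClosure k) A => z.1 π) ∧
      ∀ z z' : GpH1.OneCocycleLC (AlgebraicClosure k ≃ₐ[k] AlgebraicClosure k) A,
        z.cl = z'.cl ↔ ∃ g : A, z'.1 π = g * z.1 π * (π • g)⁻¹ := by
  classical
  exact main k π hπ hcont hfin

end Groth.Agent.S14195
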