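import Groth.Statements.S14204
import Mathlib
import Groth.Agent.Lib.Lead.PullTensorAll
import Groth.Agent.Lib.Lead.TenSum
import Groth.Agent.Lib.Lead.HZ1

set_option autoImplicit false
universe u
open CategoryTheory CategoryTheory.Limits AlgebraicGeometry
open ASBun

namespace Groth.Agent.S14204

/-- Let X be a scheme over a field k, K a field extension of k, e a K-isomorphism X_K ≅ P^n_K with
O_e(j) the pullback of O(j) along e, and W, W' two O_X-modules with W_K ≅ O_e(j)^{⊕r} and W'_K ≅
O_e(l)^{⊕s} for integers j, l and natural numbers r, s. Then the tensor product W ⊗_{O_X} W'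
satisfies (W ⊗ W')_K ≅ O_e(j + l)^{⊕rs}: the tensor product of absolutely rank-one-isotypical
modules of twisting types O(j) and O(l) is absolutely rank-one-isotypical of type O(j + l), in
particular absolutely split. (The published statement is for the indecomposable modules of types
O(j) and O(l) on a Severi–Brauer variety with K an algebraic closure; the argument uses only the
displayed decompositions.) -/
theorem result (k : Type u) [Field k] {X : Scheme.{u}}
    (f : X ⟶ Spec (CommRingCat.of k)) (n : ℕ)
    (K : Type u) [Field K] [Algebra k K] (e : BrSev.Splitting f K n) (j l : ℤ) (r s : ℕ)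
    (W W' : X.Modules) (hWt : BrSev.IsTwPow e j r W) (hW't : BrSev.IsTwPow e l s W') :
    BrSev.IsTwPow e (j + l) (r * s) (CohB1.tensorMod W W') := by
  classical
  obtain ⟨eW⟩ := hWt
  obtain ⟨eW'⟩ := hW't
  obtain ⟨e1⟩ := Groth.Agent.Lead.PullTensorAll.nonempty_pullback_tensor_iso (BrSev.proj f K) W W'
  obtain ⟨e3⟩ := Groth.Agent.Lead.TenSum.nonempty_tensor_pow_pow (e.twist j) (e.twist l) r s
  obtain ⟨e5⟩ := Groth.Agent.Lead.PullTensorAll.nonempty_tensor_pullback_iso e.iso.hom
    (Twist.twistProjSpace n K j) (Twist.twistProjSpace n K l)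
  obtain ⟨e6⟩ := Groth.Agent.Lead.HZ.pn_add n K j l
  exact Nonempty.intro (e1 ≪≫ Groth.Agent.Lead.TilT.tensorModCongr eW eW' ≪≫ e3 ≪≫
    Sigma.mapIso (fun _ => e5 ≪≫ (Scheme.Modules.pullback e.iso.hom).mapIso e6))

end Groth.Agent.S14204
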