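import Groth.Statements.S14211
import Mathlib
import Groth.Agent.Lib.Lead.CSA20

set_option autoImplicit false
universe u v
open scoped TensorProduct
open Brauer

namespace Groth.Agent.S14211

section
open scoped TensorProduct

open Groth.Agent.Lead.CSA Module MulOpposite Groth.Agent.Helper6.TPow Groth.Agent.Helper6.MatTensor

/-- uniqueness of the division algebra part -/
theorem uniq (k : Type u) [Field k] (A : Type v) [Ring A] [Algebra k A] [Nontrivial A]
    (Q : Type*) [Ring Q] [Nontrivial Q] [Algebra k Q] [FiniteDimensional k Q]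
    (Q' : Type*) [Ring Q'] [Nontrivial Q'] [Algebra k Q']
    (hQ : ∀ x : Q, x ≠ 0 → IsUnit x) (hQ' : ∀ x : Q', x ≠ 0 → IsUnit x) (m m' : ℕ)
    (e : A ≃ₐ[k] Matrix (Fin m) (Fin m) Q) (e' : A ≃ₐ[k] Matrix (Fin m') (Fin m') Q') :
    Nonempty (Q ≃ₐ[k] Q') := by
  have hm : m ≠ 0 := by
    rintro rfl
    have : Subsingleton A := e.toEquiv.subsingleton
    exact not_subsingleton A this
  have hm' : m' ≠ 0 := by
    rintro rfl
    have : Subsingleton A := e'.toEquiv.subsingleton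
    exact not_subsingleton A this
  letI : DivisionRing Q := DivisionRing.ofIsUnitOrEqZero (fun a => by
    by_cases h : a = 0
    · exact Or.inr h
    · exact Or.inl (hQ a h))
  letI : DivisionRing Q' := DivisionRing.ofIsUnitOrEqZero (fun a => by
    by_cases h : a = 0
    · exact Or.inr h
    · exact Or.inl (hQ' a h))
  exact matrix_equiv_imp_equiv k Q Q' m m' hm hm' (e.symm.trans e')

/-- the quaternion algebra tensor itself is split when it is central simple -/
theorem Sp_quat_sq (k : Type u) [Field k] (a b : k)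
    [Algebra.IsCentral k (QuaternionAlgebra k a 0 b)] [IsSimpleRing (QuaternionAlgebra k a 0 b)] :
    Sp k (QuaternionAlgebra k a 0 b ⊗[k] QuaternionAlgebra k a 0 b) := by
  have h := Sp_self_op k (QuaternionAlgebra k a 0 b)
  refine (Sp_congr k ?_).mpr h
  exact Algebra.TensorProduct.congr AlgEquiv.refl QuaternionAlgebra.starAe

theorem Sp_sq_of_matrix (k : Type u) [Field k] (A : Type v) [Ring A] [Algebra k A]
    (Q : Type*) [Ring Q] [Algebra k Q] (m : ℕ) (hm : m ≠ 0)
    (e : A ≃ₐ[k] Matrix (Fin m) (Fin m) Q) (hQ : Sp k (Q ⊗[k] Q)) : Sp k (A ⊗[k] A) := by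
  let e1 : Matrix (Fin m) (Fin m) k ⊗[k] Q ≃ₐ[k] Matrix (Fin m) (Fin m) Q :=
    (matTensor k k Q m).trans (AlgEquiv.mapMatrix (Algebra.TensorProduct.lid k Q))
  let e2 : A ≃ₐ[k] Matrix (Fin m) (Fin m) k ⊗[k] Q := e.trans e1.symm
  let e3 : A ⊗[k] A ≃ₐ[k]
      (Matrix (Fin m) (Fin m) k ⊗[k] Matrix (Fin m) (Fin m) k) ⊗[k] (Q ⊗[k] Q) :=
    (Algebra.TensorProduct.congr e2 e2).trans
      (Algebra.TensorProduct.tensorTensorTensorComm k k k k _ _ _ _)
  refine (Sp_congr k (X := A ⊗[k] A)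
    (Y := (Matrix (Fin m) (Fin m) k ⊗[k] Matrix (Fin m) (Fin m) k) ⊗[k] (Q ⊗[k] Q)) e3).mpr ?_
  exact Sp_tensor k (Sp_tensor k (Sp_matrix k m hm) (Sp_matrix k m hm)) hQ

theorem main (k : Type u) [Field k] (h2 : (2 : k) ≠ 0)
    (A : Type v) [Ring A] [Algebra k A] [Algebra.IsCentral k A] [IsSimpleRing A]
    [FiniteDimensional k A] :
    ((CSAGal.IsPeriod k A 2 ∧ CSAGal.IsIndex k A 2) ↔
      ∃ (a b : k) (m : ℕ), 0 < m ∧ (∀ x : QuaternionAlgebra k a 0 b, x ≠ 0 → IsUnit x) ∧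
        Nonempty (A ≃ₐ[k] Matrix (Fin m) (Fin m) (QuaternionAlgebra k a 0 b))) ∧
    (∀ (a b a' b' : k) (m m' : ℕ),
      (∀ x : QuaternionAlgebra k a 0 b, x ≠ 0 → IsUnit x) →
      (∀ x : QuaternionAlgebra k a' 0 b', x ≠ 0 → IsUnit x) →
      Nonempty (A ≃ₐ[k] Matrix (Fin m) (Fin m) (QuaternionAlgebra k a 0 b)) →
      Nonempty (A ≃ₐ[k] Matrix (Fin m') (Fin m') (QuaternionAlgebra k a' 0 b')) →
      Nonempty (QuaternionAlgebra k a 0 b ≃ₐ[k] QuaternionAlgebra k a' 0 b')) := by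
  refine ⟨⟨?_, ?_⟩, ?_⟩
  · -- (⇒)
    rintro ⟨-, -, m, D, _, _, hm, hfr, ⟨eA⟩⟩
    have : NeZero m := ⟨by omega⟩
    have h4 : finrank k D = 4 := by rw [hfr]; norm_num
    have : FiniteDimensional k D := Module.finite_of_finrank_pos (by rw [h4]; norm_num)
    have : Algebra.IsCentral k D := isCentral_of_matrix_equiv' eA
    obtain ⟨a, b, ⟨φ⟩⟩ := quat_of_div (k := k) (D := D) h2 h4
    refine ⟨a, b, m, hm, ?_, ⟨eA.trans (φ.symm.mapMatrix (m := Fin m))⟩⟩
    intro x hx
    have h1 : φ x ≠ 0 := fun h => hx ((map_eq_zero_iff φ φ.injective).mp h)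
    have h3 : IsUnit (φ x) := (isUnit_iff_ne_zero).mpr h1
    have := h3.map φ.symm
    rwa [φ.symm_apply_apply] at this
  · -- (⇐)
    rintro ⟨a, b, m, hm, hQ, ⟨e⟩⟩
    have hm0 : m ≠ 0 := by omega
    have : NeZero m := ⟨hm0⟩
    have hcen : Algebra.IsCentral k (QuaternionAlgebra k a 0 b) := isCentral_of_matrix_equiv' e
    letI : DivisionRing (QuaternionAlgebra k a 0 b) := DivisionRing.ofIsUnitOrEqZero (fun x => by
      by_cases h : x = 0
      · exact Or.inr h
      · exact Or.inl (hQ x h))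
    have hfrQ : finrank k (QuaternionAlgebra k a 0 b) = 4 := QuaternionAlgebra.finrank_eq_four _ _ _
    constructor
    · -- period
      refine ⟨by norm_num, ?_, ?_⟩
      · show KS k k _
        rw [Sp_iff_KS]
        have e1 : T k A 2 ≃ₐ[k] A ⊗[k] A :=
          (succEquiv k A 1).trans (Algebra.TensorProduct.congr (oneEquiv k A) AlgEquiv.refl)
        refine (Sp_congr k e1).mpr ?_
        exact Sp_sq_of_matrix k A _ m hm0 e (Sp_quat_sq k a b)
      · intro e' he' he'2 hsp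
        have he1 : e' = 1 := by omega
        subst he1
        have hsp' : KS k k (T k A 1) := hsp
        rw [Sp_iff_KS] at hsp'
        obtain ⟨n, hn, ⟨ψ⟩⟩ := (Sp_congr k (oneEquiv k A)).mp hsp'
        obtain ⟨χ⟩ := matrix_equiv_imp_equiv k (QuaternionAlgebra k a 0 b) k m n hm0 hn
          (e.symm.trans ψ)
        have := LinearEquiv.finrank_eq χ.toLinearEquiv
        rw [hfrQ, Module.finrank_self] at this
        omega
    · -- index
      have : IsArtinianRing A := IsArtinianRing.of_finite k A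
      obtain ⟨r, hr, Δ, _, _, _, ⟨w⟩⟩ := IsSimpleRing.exists_algEquiv_matrix_divisionRing_finite k A
      obtain ⟨χ⟩ := matrix_equiv_imp_equiv k Δ (QuaternionAlgebra k a 0 b) r m (NeZero.ne r) hm0
        (w.symm.trans e)
      refine ⟨by norm_num, r, Δ, inferInstance, inferInstance, Nat.pos_of_ne_zero (NeZero.ne r), ?_, ⟨w⟩⟩
      rw [LinearEquiv.finrank_eq χ.toLinearEquiv, hfrQ]
      norm_num
  · -- uniqueness
    rintro a b a' b' m m' hQ hQ' ⟨e⟩ ⟨e'⟩
    exact uniq k A _ _ hQ hQ' m m' e e'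


end


/-- Let k be a field in which 2 ≠ 0 and A a finite-dimensional central simple k-algebra. Then A has
period 2 and index 2 (its Severi–Brauer variety has type (2, 2, 2m)) if and only if A is isomorphic
over k to a matrix algebra M_m(Q), m ≥ 1, over a quaternion algebra Q = (a, b)_k (the k-algebra with
basis 1, i, j, ij, i² = a, j² = b, ij = −ji) which is a division ring; moreover such a quaternion
algebra is unique up to k-isomorphism. -/
theorem result (k : Type u) [Field k] (h2 : (2 : k) ≠ 0)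
    (A : Type v) [Ring A] [Algebra k A] [Algebra.IsCentral k A] [IsSimpleRing A]
    [FiniteDimensional k A] :
    ((CSAGal.IsPeriod k A 2 ∧ CSAGal.IsIndex k A 2) ↔
      ∃ (a b : k) (m : ℕ), 0 < m ∧ (∀ x : QuaternionAlgebra k a 0 b, x ≠ 0 → IsUnit x) ∧
        Nonempty (A ≃ₐ[k] Matrix (Fin m) (Fin m) (QuaternionAlgebra k a 0 b))) ∧
    (∀ (a b a' b' : k) (m m' : ℕ),
      (∀ x : QuaternionAlgebra k a 0 b, x ≠ 0 → IsUnit x) →
      (∀ x : QuaternionAlgebra k a' 0 b', x ≠ 0 → IsUnit x) →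
      Nonempty (A ≃ₐ[k] Matrix (Fin m) (Fin m) (QuaternionAlgebra k a 0 b)) →
      Nonempty (A ≃ₐ[k] Matrix (Fin m') (Fin m') (QuaternionAlgebra k a' 0 b')) →
      Nonempty (QuaternionAlgebra k a 0 b ≃ₐ[k] QuaternionAlgebra k a' 0 b')) := by
  classical
  exact main k h2 A

end Groth.Agent.S14211
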