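import Groth.Statements.S14229
import Groth.Agent.Lib.Helper6.RootCh.Facets

set_option autoImplicit false
universe u v w x
open RootCh RootCh.Facet

namespace Groth.Agent.S14229

/-- For a finite reduced crystallographic root system over a linearly ordered field and a facet F, the
linear subspace spanned by the vectors of F (its affine support, F being a cone) is the span of the
corners of F. -/
theorem result {ι : Type u} {R : Type v} {M : Type w} {N : Type x}
    [Field R] [LinearOrder R] [IsStrictOrderedRing R]
    [AddCommGroup M] [Module R M] [AddCommGroup N] [Module R N] [Finite ι]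
    (P : RootPairing ι R M N) [P.IsRootSystem] [P.IsCrystallographic] [P.IsReduced] (F : RootCh.Facet P) :
    Submodule.span R F.carrier = Submodule.span R F.corners := by
  open Groth.Agent.Lib.Helper6.RCh in
  obtain ⟨b, hb⟩ := cham_nonempty F
  apply le_antisymm
  · rw [Submodule.span_le]
    intro ξ hξ
    rw [eq_sum_fw b ξ]
    apply Submodule.sum_mem
    intro j hj
    by_cases h : F.sgn j = 1
    · exact Submodule.smul_mem _ _ (Submodule.subset_span (by
        rw [corners_eq hb]; exact ⟨j, ⟨hj, h⟩, rfl⟩))
    · have h0 : F.sgn j = 0 := by
        have := (sgn_ne_zero_iff_of_mem_cham hb hj).not.mpr h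
        simpa using this
      have h1 := (mem_carrier_iff hb).mp hξ j hj
      rw [h0, sign_eq_zero_iff] at h1
      rw [h1, zero_smul]
      exact zero_mem _
  · rw [Submodule.span_le, corners_eq hb]
    rintro _ ⟨j, ⟨hj, hs⟩, rfl⟩
    obtain ⟨ξ, hξ⟩ := F.exists_sgnVec_eq
    have hξ' : ξ ∈ F.carrier := hξ
    have h1 : ξ + fw b j ∈ F.carrier := by
      rw [mem_carrier_iff hb]
      intro l hl
      have h2 := (mem_carrier_iff hb).mp hξ' l hl
      rw [map_add, LinearMap.add_apply]
      by_cases hjl : j = l
      · subst hjl
        rw [pair_fw_coroot_self hj, hs]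
        rw [hs, sign_eq_one_iff] at h2
        rw [sign_eq_one_iff]
        linarith
      · rw [pair_fw_coroot_ne hj hl hjl, add_zero]
        exact h2
    have : fw b j = (ξ + fw b j) - ξ := by abel
    rw [this]
    exact Submodule.sub_mem _ (Submodule.subset_span h1) (Submodule.subset_span hξ')

end Groth.Agent.S14229
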