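import Groth.Statements.S14230
import Groth.Agent.Lib.Helper6.RootCh.Facets

set_option autoImplicit false
universe u v w x
open RootCh RootCh.Facet

namespace Groth.Agent.S14230

/-- For a finite reduced crystallographic root system over a linearly ordered field and a facet F, the
vectors of F are exactly the linear combinations of the corners of F in which every corner of F
occurs with a strictly positive coefficient (written with a finitely supported coefficient function
supported inside the set of corners). -/
theorem result {ι : Type u} {R : Type v} {M : Type w} {N : Type x}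
    [Field R] [LinearOrder R] [IsStrictOrderedRing R]
    [AddCommGroup M] [Module R M] [AddCommGroup N] [Module R N] [Finite ι]
    (P : RootPairing ι R M N) [P.IsRootSystem] [P.IsCrystallographic] [P.IsReduced] (F : RootCh.Facet P) :
    F.carrier = {ξ : M | ∃ c : M →₀ R, (c.support : Set M) ⊆ F.corners ∧
      (∀ m ∈ F.corners, 0 < c m) ∧ c.sum (fun m r => r • m) = ξ} := by
  open Groth.Agent.Lib.Helper6.RCh in
  classical
  obtain ⟨b, hb⟩ := cham_nonempty F
  have hcor := corners_eq hb
  ext ξ
  simp only [Set.mem_setOf_eq]
  constructor
  · intro hξ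
    have hsg := (mem_carrier_iff hb).mp hξ
    set T : Finset ι := b.support.filter (fun j => F.sgn j = 1) with hT
    set a : ι → R := fun j => P.toLinearMap ξ (P.coroot j) with ha
    have hTmem : ∀ j, j ∈ T ↔ j ∈ b.support ∧ F.sgn j = 1 := fun j => by simp [hT]
    refine ⟨∑ j ∈ T, Finsupp.single (fw b j) (a j), ?_, ?_, ?_⟩
    · intro x hx
      have := Finsupp.support_finsetSum hx
      rw [Finset.mem_biUnion] at this
      obtain ⟨j, hj, hx⟩ := this
      have := Finsupp.support_single_subset hx
      rw [Finset.mem_singleton] at this
      rw [hcor, this]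
      exact ⟨j, (hTmem j).mp hj, rfl⟩
    · intro m hm
      rw [hcor] at hm
      obtain ⟨j₀, ⟨hj₀, hs₀⟩, rfl⟩ := hm
      rw [Finsupp.finsetSum_apply, Finset.sum_eq_single j₀]
      · rw [Finsupp.single_eq_same]
        have := hsg j₀ hj₀
        rw [hs₀, sign_eq_one_iff] at this
        exact this
      · intro j hj hne
        rw [Finsupp.single_apply, if_neg]
        intro he
        exact hne (fw_injOn b ((hTmem j).mp hj).1 hj₀ he)
      · intro h
        exact (h ((hTmem j₀).mpr ⟨hj₀, hs₀⟩)).elim
    · rw [← Finsupp.sum_finsetSum_index (h := fun (m : M) (r : R) => r • m) (fun _ => zero_smul _ _)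
        (fun _ _ _ => add_smul _ _ _)]
      have : ∀ j ∈ T, (Finsupp.single (fw b j) (a j)).sum (fun m r => r • m) = a j • fw b j := by
        intro j _
        rw [Finsupp.sum_single_index]; simp
      rw [Finset.sum_congr rfl this]
      conv_rhs => rw [eq_sum_fw b ξ]
      rw [hT, Finset.sum_filter]
      refine Finset.sum_congr rfl fun j hj => ?_
      split_ifs with h
      · rfl
      · have h0 : F.sgn j = 0 := by
          have := (sgn_ne_zero_iff_of_mem_cham hb hj).not.mpr h
          simpa using this
        have h1 := hsg j hj
        rw [h0, sign_eq_zero_iff] at h1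
        rw [h1, zero_smul]
  · rintro ⟨c, hsupp, hpos, rfl⟩
    rw [mem_carrier_iff hb]
    intro l hl
    have hval : P.toLinearMap (c.sum fun m r => r • m) (P.coroot l) =
        ∑ m ∈ c.support, c m * P.toLinearMap m (P.coroot l) := by
      rw [Finsupp.sum, map_sum, LinearMap.sum_apply]
      refine Finset.sum_congr rfl fun m _ => ?_
      rw [map_smul, LinearMap.smul_apply, smul_eq_mul]
    rw [hval]
    by_cases h : F.sgn l = 1
    · rw [h, sign_eq_one_iff]
      apply Finset.sum_pos'
      · intro m hm
        have hm' := hsupp hm
        have hc := hpos m hm'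
        rw [hcor] at hm'
        obtain ⟨j, ⟨hj, -⟩, rfl⟩ := hm'
        rw [pair_fw_coroot hj hl]
        split_ifs <;> simp [hc.le]
      · have hmem : fw b l ∈ F.corners := by rw [hcor]; exact ⟨l, ⟨hl, h⟩, rfl⟩
        refine ⟨fw b l, ?_, ?_⟩
        · rw [Finsupp.mem_support_iff]; exact (hpos _ hmem).ne'
        · rw [pair_fw_coroot_self hl, mul_one]; exact hpos _ hmem
    · have h0 : F.sgn l = 0 := by
        have := (sgn_ne_zero_iff_of_mem_cham hb hl).not.mpr h
        simpa using this
      rw [h0, sign_eq_zero_iff]
      apply Finset.sum_eq_zero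
      intro m hm
      have hm' := hsupp hm
      rw [hcor] at hm'
      obtain ⟨j, ⟨hj, hs⟩, rfl⟩ := hm'
      have hne : j ≠ l := by rintro rfl; exact h hs
      rw [pair_fw_coroot_ne hj hl hne, mul_zero]

end Groth.Agent.S14230
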