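import Groth.Statements.S14231
import Groth.Agent.Lib.Helper6.RootCh.Dual

set_option autoImplicit false
universe u v w x
open RootCh RootCh.Facet

namespace Groth.Agent.S14231

/-- For a finite reduced crystallographic root system over a linearly ordered field and a facet F with
dual facet F̌ (the facet of the dual root system with the same sign vector), the corners of F̌ are
exactly the fundamental coweights corresponding to the corners of F, where a fundamental weight and
a fundamental coweight correspond when they are attached to the same simple root of the same base. -/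
theorem result {ι : Type u} {R : Type v} {M : Type w} {N : Type x}
    [Field R] [LinearOrder R] [IsStrictOrderedRing R]
    [AddCommGroup M] [Module R M] [AddCommGroup N] [Module R N] [Finite ι]
    (P : RootPairing ι R M N) [P.IsRootSystem] [P.IsCrystallographic] [P.IsReduced] (F : RootCh.Facet P) :
    F.dualCorners = {y : N | ∃ m ∈ F.corners, RootCh.Corr P m y} := by
  open Groth.Agent.Lib.Helper6.RCh in
  classical
  obtain ⟨b, hb⟩ := cham_nonempty F
  rw [dualCorners_eq hb, corners_eq hb]
  ext y
  simp only [Set.mem_image, Set.mem_setOf_eq]
  constructor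
  · rintro ⟨j, ⟨hj, hs⟩, rfl⟩
    exact ⟨fw b j, ⟨j, ⟨hj, hs⟩, rfl⟩, (corr_fw_iff hj).mpr rfl⟩
  · rintro ⟨_, ⟨j, ⟨hj, hs⟩, rfl⟩, hc⟩
    exact ⟨j, ⟨hj, hs⟩, ((corr_fw_iff hj).mp hc).symm⟩

end Groth.Agent.S14231
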