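import Groth.Statements.S14232
import Groth.Agent.Lib.Helper6.RootCh.Facets

set_option autoImplicit false
universe u v w x
open RootCh RootCh.Facet

namespace Groth.Agent.S14232

/-- For a finite reduced crystallographic root system over a linearly ordered field, a facet F and a
corner m of some Weyl chamber whose closure contains F, there is a facet whose corners are exactly
the corners of F together with m. -/
theorem result {ι : Type u} {R : Type v} {M : Type w} {N : Type x}
    [Field R] [LinearOrder R] [IsStrictOrderedRing R]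
    [AddCommGroup M] [Module R M] [AddCommGroup N] [Module R N] [Finite ι]
    (P : RootPairing ι R M N) [P.IsRootSystem] [P.IsCrystallographic] [P.IsReduced] (F : RootCh.Facet P) (m : M) (hm : m ∈ F.corners') :
    ∃ G : RootCh.Facet P, G.corners = insert m F.corners := by
  open Groth.Agent.Lib.Helper6.RCh in
  classical
  simp only [Facet.corners', Set.mem_iUnion] at hm
  obtain ⟨b, hb, hm⟩ := hm
  rw [baseCorners_eq] at hm
  obtain ⟨j₀, hj₀, rfl⟩ := hm
  refine ⟨stdFacet b ({j | F.sgn j = 1} ∪ {j₀}), ?_⟩
  rw [corners_stdFacet, corners_eq hb]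
  ext x
  simp only [Set.mem_image, Set.mem_setOf_eq, Set.mem_union, Set.mem_singleton_iff, Set.mem_insert_iff]
  constructor
  · rintro ⟨j, ⟨hj, h | rfl⟩, rfl⟩
    · right; exact ⟨j, ⟨hj, h⟩, rfl⟩
    · left; rfl
  · rintro (rfl | ⟨j, ⟨hj, h⟩, rfl⟩)
    · exact ⟨j₀, ⟨hj₀, Or.inr rfl⟩, rfl⟩
    · exact ⟨j, ⟨hj, Or.inl h⟩, rfl⟩

end Groth.Agent.S14232
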