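import Groth.Statements.S14233
import Groth.Agent.Lib.Helper6.RootCh.Facets

set_option autoImplicit false
universe u v w x
open RootCh RootCh.Facet

namespace Groth.Agent.S14233

/-- For a finite reduced crystallographic root system over a linearly ordered field, a facet F and a
corner m of F, there is a facet whose corners are exactly the corners of F other than m. -/
theorem result {ι : Type u} {R : Type v} {M : Type w} {N : Type x}
    [Field R] [LinearOrder R] [IsStrictOrderedRing R]
    [AddCommGroup M] [Module R M] [AddCommGroup N] [Module R N] [Finite ι]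
    (P : RootPairing ι R M N) [P.IsRootSystem] [P.IsCrystallographic] [P.IsReduced] (F : RootCh.Facet P) (m : M) (hm : m ∈ F.corners) :
    ∃ G : RootCh.Facet P, G.corners = F.corners \ {m} := by
  open Groth.Agent.Lib.Helper6.RCh in
  classical
  obtain ⟨b, hb⟩ := cham_nonempty F
  rw [corners_eq hb] at hm
  obtain ⟨j₀, ⟨hj₀, hs₀⟩, rfl⟩ := hm
  refine ⟨stdFacet b ({j | F.sgn j = 1} \ {j₀}), ?_⟩
  rw [corners_stdFacet, corners_eq hb]
  ext x
  simp only [Set.mem_image, Set.mem_setOf_eq, Set.mem_diff, Set.mem_singleton_iff]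
  constructor
  · rintro ⟨j, ⟨hj, h, hne⟩, rfl⟩
    refine ⟨⟨j, ⟨hj, h⟩, rfl⟩, ?_⟩
    intro he
    exact hne (fw_injOn b hj hj₀ he)
  · rintro ⟨⟨j, ⟨hj, h⟩, rfl⟩, hne⟩
    refine ⟨j, ⟨hj, h, ?_⟩, rfl⟩
    rintro rfl
    exact hne rfl

end Groth.Agent.S14233
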