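import Groth.Statements.S14234
import Groth.Agent.Lib.Helper6.RootCh.Dual

set_option autoImplicit false
universe u v w x
open RootCh RootCh.Facet

namespace Groth.Agent.S14234

/-- For a finite reduced crystallographic root system over a linearly ordered field and a facet F, let
R(F) be the parabolic set of roots of F, the roots whose pairing with the vectors of F is not
negative (equivalently, the roots pairing non-negatively with the fundamental coweights
corresponding to the corners of F). Then a fundamental weight is a corner of F if and only if its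
corresponding fundamental coweight pairs non-negatively with every root of R(F). -/
theorem result {ι : Type u} {R : Type v} {M : Type w} {N : Type x}
    [Field R] [LinearOrder R] [IsStrictOrderedRing R]
    [AddCommGroup M] [Module R M] [AddCommGroup N] [Module R N] [Finite ι]
    (P : RootPairing ι R M N) [P.IsRootSystem] [P.IsCrystallographic] [P.IsReduced] (F : RootCh.Facet P) :
    F.corners = {m : M | m ∈ RootCh.fundWeights P ∧
      ∀ y : N, RootCh.Corr P m y → ∀ i ∈ F.parab, 0 ≤ P.root' i y} := by
  open Groth.Agent.Lib.Helper6.RCh in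
  classical
  obtain ⟨b, hb⟩ := cham_nonempty F
  ext m
  simp only [Set.mem_setOf_eq]
  constructor
  · intro hm
    refine ⟨hm.1, ?_⟩
    rw [corners_eq hb] at hm
    obtain ⟨j, ⟨hj, hs⟩, rfl⟩ := hm
    intro y hy i hi
    rw [(corr_fw_iff hj).mp hy]
    change 0 ≤ P.toLinearMap (P.root i) (fcw b j)
    by_cases hpos : b.IsPos i
    · exact root_coeff_nonneg hpos j
    · have h1 : F.sgn i ≠ -1 := hi
      rw [sgn_eq_stdSgn hb] at h1
      by_cases h2 : ∀ l ∈ b.support, P.toLinearMap (P.root i) (fcw b l) ≠ 0 → l ∈ {l | F.sgn l = 0}
      · by_contra hne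
        have h3 : F.sgn j = 0 := h2 j hj (fun h0 => hne (by rw [h0]))
        rw [hs] at h3
        exact one_ne_zero h3
      · rw [stdSgn_of_not h2, if_neg hpos] at h1
        exact (h1 rfl).elim
  · rintro ⟨hm, hcond⟩
    refine ⟨hm, ?_⟩
    obtain ⟨b', i', hi', rfl⟩ := mem_fundWeights_iff.mp hm
    have hy := hcond (fcw b' i') ((corr_fw_iff hi').mpr rfl)
    have key : ∀ i, SignType.sign (P.toLinearMap (fw b' i') (P.coroot i)) =
        SignType.sign (P.toLinearMap (P.root i) (fcw b' i')) := by
      intro i
      have h1 := len_mul_pair_fw_coroot hi' i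
      have h2 := congrArg SignType.sign h1
      rw [sign_mul, sign_mul, sign_pos (len_pos P i), sign_pos (len_pos P i'), one_mul, one_mul] at h2
      exact h2
    intro i
    change SignType.sign (P.toLinearMap (fw b' i') (P.coroot i)) = 0 ∨
      SignType.sign (P.toLinearMap (fw b' i') (P.coroot i)) = F.sgn i
    rw [key]
    have hneg : P.toLinearMap (P.root (ng P i)) (fcw b' i') = - P.toLinearMap (P.root i) (fcw b' i') := by
      rw [root_ng, map_neg, LinearMap.neg_apply]
    rcases h : F.sgn i with _ | _ | _
    · -- zero
      left
      rw [sign_eq_zero_iff]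
      have h1 := hy i (by change F.sgn i ≠ -1; rw [h]; decide)
      have h2 := hy (ng P i) (by change F.sgn (ng P i) ≠ -1; rw [sgn_ng, h]; decide)
      change 0 ≤ P.toLinearMap (P.root i) (fcw b' i') at h1
      change 0 ≤ P.toLinearMap (P.root (ng P i)) (fcw b' i') at h2
      rw [hneg] at h2
      linarith
    · -- neg
      have h2 := hy (ng P i) (by change F.sgn (ng P i) ≠ -1; rw [sgn_ng, h]; decide)
      change 0 ≤ P.toLinearMap (P.root (ng P i)) (fcw b' i') at h2
      rw [hneg] at h2
      rcases lt_or_eq_of_le (neg_nonneg.mp h2) with h3 | h3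
      · right; exact sign_neg h3
      · left; rw [h3]; exact sign_zero
    · -- pos
      have h1 := hy i (by change F.sgn i ≠ -1; rw [h]; decide)
      change 0 ≤ P.toLinearMap (P.root i) (fcw b' i') at h1
      rcases lt_or_eq_of_le h1 with h3 | h3
      · right; exact sign_pos h3
      · left; rw [← h3]; exact sign_zero

end Groth.Agent.S14234
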