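import Groth.Statements.S14265
import Mathlib
import Groth.Agent.Lib.Helper5.RBC.Link
import Groth.Agent.Lib.Helper5.DTenLib.Binders
import Groth.Agent.Lib.Helper5.DTenLib.EvalTen
import Groth.Agent.Lib.Helper5.TBC.PCFin

set_option autoImplicit false
universe u
open CategoryTheory CategoryTheory.Limits MonoidalCategory
attribute [local instance] HasDerivedCategory.standard
open DTen



namespace Groth.Agent.S14265

/-- For a commutative ring `R`, an `R`-algebra `R'` that is perfect as an `R`-module (`R'[0]` is
isomorphic in `D(R)` to a bounded complex of finite projective modules) and objects `K`, `M` of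
`D(R)`, the base change morphism `RHom_R(K, M) ⊗^L_R R' ⟶ RHom_{R'}(K ⊗^L_R R', M ⊗^L_R R')` in
`D(R')` (along the structure map `R → R'`) is an isomorphism. The invertibility of the canonical
comparison `RHom_{R'}(K ⊗^L_R R', M ⊗^L_R R')|_R ⟶ RHom_R(K, (M ⊗^L_R R')|_R)`, through whose
inverse the morphism is defined, is carried as a hypothesis. (The existence of the derived tensor
products on `D(R)` and `D(R')`, of the internal homs `RHom`, of derived base change and of the
restriction-of-scalars comparison for the derived tensor product, with the invertibility of the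
latter's second leg, are assumed as hypotheses; they hold for every ring map.) -/
theorem result (R R' : Type u) [CommRing R] [CommRing R'] [Algebra R R']
    [DTen.HasLTen R] [DTen.HasLTen R'] [DTen.HasRHom R] [DTen.HasRHom R'] [DTen.HasLBase (algebraMap R R')]
    [DTen.HasResTen (algebraMap R R')] [DTen.ResLegIso (algebraMap R R')] (K M : Dual.D R)
    [IsIso (DTen.rhomBC (algebraMap R R') K ((DTen.LBase (algebraMap R R')).obj M))]
    (hR' : DRing.IsPerfectModule R R') :
    IsIso (DTen.bcRHom (algebraMap R R') K M) := by
  haveI := Groth.Agent.Lib.Helper5.DTenLib.hasLTen₃_all R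
  haveI := Groth.Agent.Lib.Helper5.DTenLib.isSymMonoidal_all R
  have hU : DRing.IsPerfect R (Groth.Agent.Lib.Helper5.TBC.aD (algebraMap R R')) := by
    obtain ⟨E, a, b, h1, h2, ⟨e⟩⟩ := hR'
    exact ⟨E, a, b, h1, h2, ⟨e ≪≫ (Groth.Agent.Lib.Helper5.TBC.aDIso R R').symm⟩⟩
  exact Groth.Agent.Lib.Helper5.RBC.isIso_bcRHom_of_isIso_evalTen (algebraMap R R') K M
    (Groth.Agent.Lib.Helper5.DTenLib.isIso_evalTen_of_isPerfect M K _ hU)

end Groth.Agent.S14265
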