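import Groth.Statements.S14294
import Mathlib

set_option autoImplicit false
universe u v
open PtDeg

namespace Groth.Agent.S14294

/-- Let A and G be abelian groups, written additively, and f : A → G a map which is pointed of degree 2,
that is f(x+y+z) + f(x) + f(y) + f(z) = f(x+y) + f(x+z) + f(y+z) for all x, y, z in A. If an integer
n satisfies n·x = 0 for every x in A, then 2n·f(x) = 0 for every x in A, and if moreover n is odd
then n·f(x) = 0 for every x in A. -/
theorem result {A : Type u} {G : Type v} [AddCommGroup A] [AddCommGroup G]
    (f : A → G) (hf : ∀ x y z : A, f (x + y + z) + f x + f y + f z = f (x + y) + f (x + z) + f (y + z))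
    (n : ℤ) (hn : ∀ x : A, n • x = 0) :
    (∀ x : A, (2 * n) • f x = 0) ∧ (Odd n → ∀ x : A, n • f x = 0) := by
  have h0 : f 0 = 0 := by
    have := hf 0 0 0
    simp only [add_zero] at this
    -- f0 + f0 + f0 + f0 = f0 + f0 + f0
    have h : f 0 + (f 0 + f 0 + f 0) = 0 + (f 0 + f 0 + f 0) := by
      rw [zero_add]; exact (by abel : f 0 + (f 0 + f 0 + f 0) = f 0 + f 0 + f 0 + f 0).trans this
    exact add_right_cancel h
  -- B x y = f (x+y) - f x - f y
  set B : A → A → G := fun x y => f (x + y) - f x - f y with hB
  have hBadd : ∀ x y z, B (x + y) z = B x z + B y z := by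
    intro x y z
    simp only [hB]
    have := hf x y z
    have e : f (x + y + z) = f (x + y) + f (x + z) + f (y + z) - f x - f y - f z := by
      rw [← this]; abel
    rw [e]; abel
  have hB0 : ∀ z, B 0 z = 0 := by
    intro z
    simp [hB, h0]
  -- f (k x) = k f x + C(k,2) B x x
  have hBnat : ∀ (k : ℕ) (x z : A), B (k • x) z = k • B x z := by
    intro k x z
    induction k with
    | zero => simp [hB0]
    | succ k ih => rw [succ_nsmul, hBadd, ih, succ_nsmul]
  have hfnat : ∀ (k : ℕ) (x : A), f (k • x) = k • f x + (k.choose 2) • B x x := by
    intro k x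
    induction k with
    | zero => simp [h0]
    | succ k ih =>
      have e1 : f ((k + 1) • x) = f (k • x) + f x + B (k • x) x := by
        rw [succ_nsmul]; simp only [hB]; abel
      rw [e1, ih, hBnat, Nat.choose_succ_succ' k 1, Nat.choose_one_right, succ_nsmul, add_nsmul]
      abel
  -- reduce to natural number m = |n|
  have key : ∀ m : ℕ, (∀ x : A, m • x = 0) →
      (∀ x : A, (2 * m) • f x = 0) ∧ (Odd m → ∀ x : A, m • f x = 0) := by
    intro m hm
    have hmB : ∀ x, m • B x x = 0 := by
      intro x
      rw [← hBnat, hm, hB0]
    have hrel : ∀ x, m • f x + (m.choose 2) • B x x = 0 := by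
      intro x
      rw [← hfnat, hm, h0]
    constructor
    · intro x
      have h2 : 2 * m.choose 2 = (m - 1) * m := by
        rw [Nat.choose_two_right, Nat.mul_div_cancel' (Nat.even_mul_pred_self m).two_dvd, mul_comm]
      have := congrArg (fun t => 2 • t) (hrel x)
      simp only [smul_add, smul_zero, ← mul_smul] at this
      rw [h2, mul_smul (m - 1) m, hmB, smul_zero, add_zero] at this
      exact this
    · intro hodd x
      obtain ⟨t, ht⟩ := hodd
      have hc : m.choose 2 = t * m := by
        rw [Nat.choose_two_right, ht]
        have : (2 * t + 1) * (2 * t + 1 - 1) = 2 * (t * (2 * t + 1)) := by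
          rw [Nat.add_sub_cancel]; ring
        rw [this, Nat.mul_div_cancel_left _ (by norm_num : 0 < 2)]
      have := hrel x
      rw [hc, mul_smul, hmB, smul_zero, add_zero] at this
      exact this
  -- now deal with integer n
  have hm : ∀ x : A, n.natAbs • x = 0 := by
    intro x
    rcases Int.natAbs_eq n with h | h
    · have := hn x
      rw [h] at this
      simpa using this
    · have := hn x
      rw [h, neg_smul, neg_eq_zero] at this
      simpa using this
  obtain ⟨k1, k2⟩ := key n.natAbs hm
  constructor
  · intro x
    rcases Int.natAbs_eq n with h | h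
    · rw [h]
      have := k1 x
      rw [← natCast_zsmul] at this
      simpa using this
    · rw [h, mul_neg, neg_smul, neg_eq_zero]
      have := k1 x
      rw [← natCast_zsmul] at this
      simpa using this
  · intro hodd x
    have hodd' : Odd n.natAbs := Int.natAbs_odd.mpr hodd
    rcases Int.natAbs_eq n with h | h
    · rw [h]
      have := k2 hodd' x
      rw [← natCast_zsmul] at this
      simpa using this
    · rw [h, neg_smul, neg_eq_zero]
      have := k2 hodd' x
      rw [← natCast_zsmul] at this
      simpa using this

end Groth.Agent.S14294
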