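import Groth.Statements.S14295
import Mathlib

set_option autoImplicit false
universe u v
open PtDeg

namespace Groth.Agent.S14295

/-- triangular number `n(n+1)/2` as an integer -/
def T (n : ℤ) : ℤ := n * (n + 1) / 2

theorem two_mul_T (n : ℤ) : 2 * T n = n * (n + 1) := by
  unfold T
  exact Int.mul_ediv_cancel' (Int.even_mul_succ_self n).two_dvd

theorem T_succ (n : ℤ) : T (n + 1) = T n + n + 1 := by
  have h1 := two_mul_T (n + 1)
  have h2 := two_mul_T n
  linarith

theorem T_pred (n : ℤ) : T (n - 1) = T n - n := by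
  have h1 := two_mul_T (n - 1)
  have h2 := two_mul_T n
  linarith

theorem T_pred_eq (n : ℤ) : n * (n - 1) / 2 = T (n - 1) := by
  unfold T
  congr 1
  ring

theorem f_zero {A : Type u} {G : Type v} [AddCommGroup A] [AddCommGroup G]
    (f : A → G) (hf : ∀ x y z : A, f (x + y + z) + f x + f y + f z = f (x + y) + f (x + z) + f (y + z)) :
    f 0 = 0 := by
  have h := hf 0 0 0
  simp only [add_zero] at h
  -- 4 f0 = 3 f0
  have : f 0 + (f 0 + f 0 + f 0) = 0 + (f 0 + f 0 + f 0) := by
    rw [zero_add]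
    calc f 0 + (f 0 + f 0 + f 0) = f 0 + f 0 + f 0 + f 0 := by abel
      _ = f 0 + f 0 + f 0 := h
  exact add_right_cancel this

theorem rec_step {A : Type u} {G : Type v} [AddCommGroup A] [AddCommGroup G]
    (f : A → G) (hf : ∀ x y z : A, f (x + y + z) + f x + f y + f z = f (x + y) + f (x + z) + f (y + z))
    (x : A) (n : ℤ) :
    f ((n + 1) • x) + f ((n - 1) • x) = f (n • x) + f (n • x) + f x + f (-x) := by
  have h := hf (n • x) x (-x)
  have e1 : n • x + x + -x = n • x := by abel
  have e2 : n • x + x = (n + 1) • x := by rw [add_smul, one_smul]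
  have e3 : n • x + -x = (n - 1) • x := by rw [sub_smul, one_smul, sub_eq_add_neg]
  have e4 : x + -x = 0 := by abel
  rw [e1, e2, e3, e4, f_zero f hf, add_zero] at h
  rw [← h]

theorem main {A : Type u} {G : Type v} [AddCommGroup A] [AddCommGroup G]
    (f : A → G) (hf : ∀ x y z : A, f (x + y + z) + f x + f y + f z = f (x + y) + f (x + z) + f (y + z))
    (x : A) (n : ℤ) :
    f (n • x) = T n • f x + T (n - 1) • f (-x) := by
  have h0 : f ((0 : ℤ) • x) = T 0 • f x + T (0 - 1) • f (-x) := by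
    simp [T, f_zero f hf]
  have h1 : f ((1 : ℤ) • x) = T 1 • f x + T (1 - 1) • f (-x) := by
    simp [T]
  have hm1 : f ((-1 : ℤ) • x) = T (-1) • f x + T (-1 - 1) • f (-x) := by
    simp [T]
  -- upward
  have up : ∀ k : ℕ, f ((k : ℤ) • x) = T k • f x + T ((k : ℤ) - 1) • f (-x) ∧
      f (((k : ℤ) + 1) • x) = T ((k : ℤ) + 1) • f x + T ((k : ℤ) + 1 - 1) • f (-x) := by
    intro k
    induction k with
    | zero => exact ⟨by simpa using h0, by simpa using h1⟩
    | succ k ih =>
      obtain ⟨ih1, ih2⟩ := ih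
      refine ⟨by push_cast; exact ih2, ?_⟩
      have hr := rec_step f hf x ((k : ℤ) + 1)
      have e : ((k : ℤ) + 1 - 1) = k := by ring
      rw [e] at hr ih2
      rw [ih1, ih2] at hr
      push_cast
      have key : f (((k : ℤ) + 1 + 1) • x) = (T ((k : ℤ) + 1) • f x + T (k : ℤ) • f (-x)) +
          (T ((k : ℤ) + 1) • f x + T (k : ℤ) • f (-x)) + f x + f (-x) -
          (T (k : ℤ) • f x + T ((k : ℤ) - 1) • f (-x)) := by
        rw [← hr]; abel
      rw [key]
      have t1 : T ((k : ℤ) + 1 + 1) = T (k : ℤ) + 2 * k + 3 := by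
        rw [T_succ, T_succ]; ring
      have t2 : T ((k : ℤ) + 1 + 1 - 1) = T (k : ℤ) + k + 1 := by
        have : ((k : ℤ) + 1 + 1 - 1) = k + 1 := by ring
        rw [this, T_succ]
      have t3 : T ((k : ℤ) + 1) = T (k : ℤ) + k + 1 := T_succ _
      have t4 : T ((k : ℤ) - 1) = T (k : ℤ) - k := T_pred _
      rw [t1, t2, t3, t4]
      module
  -- downward
  have down : ∀ k : ℕ, f ((-(k : ℤ)) • x) = T (-(k : ℤ)) • f x + T (-(k : ℤ) - 1) • f (-x) ∧
      f ((-(k : ℤ) - 1) • x) = T (-(k : ℤ) - 1) • f x + T (-(k : ℤ) - 1 - 1) • f (-x) := by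
    intro k
    induction k with
    | zero => exact ⟨by simpa using h0, by simpa using hm1⟩
    | succ k ih =>
      obtain ⟨ih1, ih2⟩ := ih
      have e0 : (-((k + 1 : ℕ) : ℤ)) = -(k : ℤ) - 1 := by push_cast; ring
      refine ⟨by rw [e0]; exact ih2, ?_⟩
      have hr := rec_step f hf x (-(k : ℤ) - 1)
      have e : (-(k : ℤ) - 1 + 1) = -(k : ℤ) := by ring
      rw [e] at hr
      rw [ih1, ih2] at hr
      rw [e0]
      have key : f ((-(k : ℤ) - 1 - 1) • x) = (T (-(k : ℤ) - 1) • f x + T (-(k : ℤ) - 1 - 1) • f (-x)) +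
          (T (-(k : ℤ) - 1) • f x + T (-(k : ℤ) - 1 - 1) • f (-x)) + f x + f (-x) -
          (T (-(k : ℤ)) • f x + T (-(k : ℤ) - 1) • f (-x)) := by
        rw [← hr]; abel
      rw [key]
      have t1 : T (-(k : ℤ) - 1) = T (-(k : ℤ)) + k := by
        rw [T_pred]; ring
      have t2 : T (-(k : ℤ) - 1 - 1) = T (-(k : ℤ)) + 2 * k + 1 := by
        rw [T_pred, T_pred]; ring
      have t3 : T (-(k : ℤ) - 1 - 1 - 1) = T (-(k : ℤ)) + 3 * k + 3 := by
        rw [T_pred, T_pred, T_pred]; ring
      rw [t3, t2, t1]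
      module
  rcases Int.eq_nat_or_neg n with ⟨k, rfl | rfl⟩
  · exact (up k).1
  · exact (down k).1

/-- Let A and G be abelian groups, written additively, and f : A → G a map which is pointed of degree 2,
that is f(x+y+z) + f(x) + f(y) + f(z) = f(x+y) + f(x+z) + f(y+z) for all x, y, z in A. Then for
every integer n and every x in A one has f(n·x) = (n(n+1)/2)·f(x) + (n(n−1)/2)·f(−x) (the two
coefficients are the integers n(n+1)/2 and n(n−1)/2). -/
theorem result {A : Type u} {G : Type v} [AddCommGroup A] [AddCommGroup G]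
    (f : A → G) (hf : ∀ x y z : A, f (x + y + z) + f x + f y + f z = f (x + y) + f (x + z) + f (y + z))
    (n : ℤ) (x : A) :
    f (n • x) = (n * (n + 1) / 2) • f x + (n * (n - 1) / 2) • f (-x) := by
  rw [T_pred_eq]
  exact main f hf x n

end Groth.Agent.S14295
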