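import Groth.Statements.S14296
import Groth.Agent.S14295
import Mathlib

set_option autoImplicit false
universe u v
open PtDeg

namespace Groth.Agent.S14296

open Groth.Agent.S14295 in
/-- Let G and H be abelian groups, written additively, n an integer such that 2n²·x = 0 for every x in
G, and d : G → H a quadratic map, meaning that d is pointed of degree 2 (d(x+y+z) + d(x) + d(y) +
d(z) = d(x+y) + d(x+z) + d(y+z) for all x, y, z) and even (d(−x) = d(x) for all x). Then d(2n·x) = 0
for every x in G. -/
theorem result {G : Type u} {H : Type v} [AddCommGroup G] [AddCommGroup H]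
    (n : ℤ) (hn : ∀ x : G, (2 * n ^ 2) • x = 0)
    (d : G → H) (hd : ∀ x y z : G, d (x + y + z) + d x + d y + d z = d (x + y) + d (x + z) + d (y + z))
    (heven : ∀ x : G, d (-x) = d x) (x : G) :
    d ((2 * n) • x) = 0 := by
  have d0 : d 0 = 0 := f_zero d hd
  -- d (m • y) = m^2 • d y
  have hsq : ∀ (m : ℤ) (y : G), d (m • y) = (m ^ 2) • d y := by
    intro m y
    rw [main d hd y m, heven, ← add_smul]
    congr 1
    have h1 := two_mul_T m
    have h2 := two_mul_T (m - 1)
    nlinarith
  -- the bilinear form
  let B : G → G → H := fun a b => d (a + b) - d a - d b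
  have Badd : ∀ a b c : G, B (a + b) c = B a c + B b c := by
    intro a b c
    simp only [B]
    have h := hd a b c
    have e : d (a + b + c) = d (a + b) + d (a + c) + d (b + c) - d a - d b - d c := by
      rw [← h]; abel
    rw [e]; abel
  let Bhom : G → (G →+ H) := fun c =>
    { toFun := fun a => B a c
      map_zero' := by simp [B, d0]
      map_add' := fun a b => Badd a b c }
  have Bsmul : ∀ (m : ℤ) (a c : G), B (m • a) c = m • B a c := by
    intro m a c
    exact map_zsmul (Bhom c) m a
  have Bxx : B x x = (2 : ℤ) • d x := by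
    simp only [B]
    have : x + x = (2 : ℤ) • x := by rw [two_smul]
    rw [this, hsq 2 x]
    have : ((2 : ℤ) ^ 2) • d x = (2 : ℤ) • d x + d x + d x := by
      rw [show ((2 : ℤ) ^ 2) = 2 + 1 + 1 by norm_num, add_smul, add_smul, one_smul]
    rw [this]; abel
  calc d ((2 * n) • x) = ((2 * n) ^ 2) • d x := hsq _ _
    _ = (2 * n ^ 2) • ((2 : ℤ) • d x) := by rw [smul_smul]; congr 1; ring
    _ = (2 * n ^ 2) • B x x := by rw [Bxx]
    _ = B ((2 * n ^ 2) • x) x := (Bsmul _ _ _).symm
    _ = B 0 x := by rw [hn]
    _ = 0 := by simp [B, d0]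

end Groth.Agent.S14296
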