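import Groth.Statements.S14305
import Mathlib

set_option autoImplicit false
universe u v
open PtDeg

namespace Groth.Agent.S14305

section


variable {A : Type*} {G : Type*} [AddCommGroup A] [AddCommGroup G]

/-- the full alternating powerset sum with a base point -/
def T (f : A → G) {n : ℕ} (y : Fin n → A) (m : ℕ) (c : A) : G :=
  ∑ I ∈ (Finset.univ : Finset (Fin n)).powerset, ((-1 : ℤ) ^ (m + I.card)) • f (c + ∑ i ∈ I, y i)

theorem sum_powerset_map {α β : Type*} (e : α ↪ β) (s : Finset α) (F : Finset β → G) :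
    ∑ J ∈ (s.map e).powerset, F J = ∑ I ∈ s.powerset, F (I.map e) := by
  classical
  rw [Finset.map_eq_image, Finset.powerset_image, Finset.sum_image]
  · apply Finset.sum_congr rfl
    intro I _
    rw [Finset.map_eq_image]
  · intro I _ J _ h
    exact Finset.image_injective e.injective h

theorem dev_eq (f : A → G) {n : ℕ} (y : Fin n → A) (m : ℕ) :
    ∑ I ∈ ((Finset.univ : Finset (Fin n)).powerset.erase ∅),
        ((-1 : ℤ) ^ (m + I.card)) • f (∑ i ∈ I, y i) =
      T f y m 0 - ((-1 : ℤ) ^ m) • f 0 := by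
  rw [Finset.sum_erase_eq_sub (Finset.empty_mem_powerset _)]
  simp only [T, zero_add, Finset.card_empty, add_zero, Finset.sum_empty]

theorem T_succ (f : A → G) {n : ℕ} (x : Fin (n + 1) → A) (m : ℕ) (c : A) :
    T f x m c = T f (fun i => x (Fin.castSucc i)) m c +
      T f (fun i => x (Fin.castSucc i)) (m + 1) (c + x (Fin.last n)) := by
  classical
  unfold T
  rw [Fin.univ_castSuccEmb, Finset.cons_eq_insert, Finset.sum_powerset_insert (by simp),
    sum_powerset_map, sum_powerset_map]
  congr 1
  · apply Finset.sum_congr rfl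
    intro I _
    rw [Finset.card_map, Finset.sum_map]
    rfl
  · apply Finset.sum_congr rfl
    intro I _
    have hnot : Fin.last n ∉ I.map Fin.castSuccEmb := by simp
    rw [Finset.card_insert_of_notMem hnot, Finset.sum_insert hnot, Finset.card_map,
      Finset.sum_map]
    congr 2
    · ring
    · rw [add_assoc]
      rfl

theorem T_pair (f : A → G) {n : ℕ} (y : Fin n → A) (j : Fin n) (t : A) (m : ℕ) (c : A) :
    T f (Function.update y j t) m c =
      ∑ I ∈ ((Finset.univ : Finset (Fin n)).erase j).powerset,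
        (((-1 : ℤ) ^ (m + I.card)) • f (c + ∑ i ∈ I, y i) -
          ((-1 : ℤ) ^ (m + I.card)) • f (c + (t + ∑ i ∈ I, y i))) := by
  classical
  unfold T
  have hu : (Finset.univ : Finset (Fin n)).powerset =
      (insert j ((Finset.univ : Finset (Fin n)).erase j)).powerset := by
    rw [Finset.insert_erase (Finset.mem_univ j)]
  rw [hu, Finset.sum_powerset_insert (Finset.notMem_erase j _), Finset.sum_sub_distrib,
    sub_eq_add_neg, ← Finset.sum_neg_distrib]
  have hsum : ∀ I ∈ ((Finset.univ : Finset (Fin n)).erase j).powerset,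
      ∑ i ∈ I, Function.update y j t i = ∑ i ∈ I, y i := by
    intro I hI
    apply Finset.sum_congr rfl
    intro i hi
    have hij : i ≠ j := by
      rintro rfl
      exact Finset.notMem_erase i _ (Finset.mem_powerset.1 hI hi)
    rw [Function.update_of_ne hij]
  congr 1
  · apply Finset.sum_congr rfl
    intro I hI
    rw [hsum I hI]
  · apply Finset.sum_congr rfl
    intro I hI
    have hj : j ∉ I := fun h => Finset.notMem_erase j _ (Finset.mem_powerset.1 hI h)
    rw [Finset.card_insert_of_notMem hj, Finset.sum_insert hj, hsum I hI,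
      Function.update_self, ← add_assoc m, pow_succ, mul_neg_one, neg_smul]

theorem T_succ_sign (f : A → G) {n : ℕ} (y : Fin n → A) (m : ℕ) (c : A) :
    T f y (m + 1) c = - T f y m c := by
  unfold T
  rw [← Finset.sum_neg_distrib]
  apply Finset.sum_congr rfl
  intro I _
  rw [add_right_comm, pow_succ, mul_neg_one, neg_smul]

theorem T_key (f : A → G) {n : ℕ} (y : Fin n → A) (j : Fin n) (a b : A) (m : ℕ) :
    T f (Function.update y j a) m b =
      T f (Function.update y j (a + b)) m 0 - T f (Function.update y j b) m 0 := by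
  rw [T_pair, T_pair, T_pair, ← Finset.sum_sub_distrib]
  apply Finset.sum_congr rfl
  intro I _
  have e1 : b + (a + ∑ i ∈ I, y i) = 0 + (a + b + ∑ i ∈ I, y i) := by abel
  have e2 : b + ∑ i ∈ I, y i = 0 + (b + ∑ i ∈ I, y i) := by abel
  rw [e1, e2]
  abel

theorem key (f : A → G) {n : ℕ} (x : Fin (n + 1) → A) (j : Fin n) :
    ∑ I ∈ ((Finset.univ : Finset (Fin (n + 1))).powerset.erase ∅),
        ((-1 : ℤ) ^ (n + 1 + I.card)) • f (∑ i ∈ I, x i) =
      (∑ I ∈ ((Finset.univ : Finset (Fin n)).powerset.erase ∅), ((-1 : ℤ) ^ (n + I.card)) •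
          f (∑ i ∈ I, (Function.update (fun i => x (Fin.castSucc i)) j
            (x (Fin.castSucc j) + x (Fin.last n))) i)) -
        (∑ I ∈ ((Finset.univ : Finset (Fin n)).powerset.erase ∅), ((-1 : ℤ) ^ (n + I.card)) •
          f (∑ i ∈ I, (Function.update (fun i => x (Fin.castSucc i)) j
            (x (Fin.castSucc j))) i)) -
        (∑ I ∈ ((Finset.univ : Finset (Fin n)).powerset.erase ∅), ((-1 : ℤ) ^ (n + I.card)) •
          f (∑ i ∈ I, (Function.update (fun i => x (Fin.castSucc i)) j
            (x (Fin.last n))) i)) := by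
  rw [dev_eq, dev_eq, dev_eq, dev_eq, T_succ, T_succ_sign, T_succ_sign, T_succ_sign, zero_add]
  set y : Fin n → A := fun i => x (Fin.castSucc i) with hy
  have hself : Function.update y j (x (Fin.castSucc j)) = y := Function.update_eq_self j y
  have hk := T_key f y j (x (Fin.castSucc j)) (x (Fin.last n)) n
  rw [hself] at hk ⊢
  rw [neg_neg, hk, pow_succ, mul_neg_one, neg_smul]
  abel

theorem main {A : Type u} {G : Type v} [AddCommGroup A] [AddCommGroup G]
    (f : A → G) (n : ℕ) (hn : 1 ≤ n) :
    (∀ x : Fin (n + 1) → A, ∑ I ∈ ((Finset.univ : Finset (Fin (n + 1))).powerset.erase ∅), ((-1 : ℤ) ^ (n + 1 + I.card)) • f (∑ i ∈ I, x i) = 0) ↔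
      (∀ (j : Fin n) (y : Fin n → A) (a b : A),
        ∑ I ∈ ((Finset.univ : Finset (Fin n)).powerset.erase ∅), ((-1 : ℤ) ^ (n + I.card)) • f (∑ i ∈ I, (Function.update y j (a + b)) i) =
          ∑ I ∈ ((Finset.univ : Finset (Fin n)).powerset.erase ∅), ((-1 : ℤ) ^ (n + I.card)) • f (∑ i ∈ I, (Function.update y j a) i) + ∑ I ∈ ((Finset.univ : Finset (Fin n)).powerset.erase ∅), ((-1 : ℤ) ^ (n + I.card)) • f (∑ i ∈ I, (Function.update y j b) i)) := by
  constructor
  · intro h j y a b
    have hk := key f (Fin.snoc (Function.update y j a) b : Fin (n + 1) → A) j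
    rw [h] at hk
    simp only [Fin.snoc_castSucc, Fin.snoc_last, Function.update_self] at hk
    have e1 : (fun i => Function.update y j a i) = Function.update y j a := rfl
    rw [e1, Function.update_idem, Function.update_idem, Function.update_idem] at hk
    rw [eq_comm, sub_sub, sub_eq_zero] at hk
    exact hk
  · intro h x
    have hk := key f x ⟨0, hn⟩
    rw [hk, h, add_sub_cancel_left, sub_self]


end


/-- Let A and G be abelian groups, written additively, f : A → G a map and n ≥ 1. For k ≥ 0 the k-th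
deviation of f is the map A^k → G, (y_1, …, y_k) ↦ Σ_{∅ ≠ I ⊆ {1,…,k}} (−1)^{k+|I|} f(Σ_{i ∈ I}
y_i). Then f is pointed of degree n, meaning that its (n+1)-st deviation vanishes identically, if
and only if its n-th deviation is additive in each variable separately (with the other variables
fixed). -/
theorem result {A : Type u} {G : Type v} [AddCommGroup A] [AddCommGroup G]
    (f : A → G) (n : ℕ) (hn : 1 ≤ n) :
    (∀ x : Fin (n + 1) → A, ∑ I ∈ ((Finset.univ : Finset (Fin (n + 1))).powerset.erase ∅), ((-1 : ℤ) ^ (n + 1 + I.card)) • f (∑ i ∈ I, x i) = 0) ↔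
      (∀ (j : Fin n) (y : Fin n → A) (a b : A),
        ∑ I ∈ ((Finset.univ : Finset (Fin n)).powerset.erase ∅), ((-1 : ℤ) ^ (n + I.card)) • f (∑ i ∈ I, (Function.update y j (a + b)) i) =
          ∑ I ∈ ((Finset.univ : Finset (Fin n)).powerset.erase ∅), ((-1 : ℤ) ^ (n + I.card)) • f (∑ i ∈ I, (Function.update y j a) i) + ∑ I ∈ ((Finset.univ : Finset (Fin n)).powerset.erase ∅), ((-1 : ℤ) ^ (n + I.card)) • f (∑ i ∈ I, (Function.update y j b) i)) := by
  classical
  exact main f n hn

end Groth.Agent.S14305
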