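import Groth.Statements.S14307
import Mathlib

set_option autoImplicit false
universe u v
open PtDeg

namespace Groth.Agent.S14307

/-- Let A and G be abelian groups, written additively, f : A → G a map and n ≥ 1. If a tuple x ∈ A^n has
some coordinate equal to 0, then the n-th deviation of f at x, namely Σ_{∅ ≠ I ⊆ {1,…,n}}
(−1)^{n+|I|} f(Σ_{i ∈ I} x_i), equals (−1)^{n+1} f(0). -/
theorem result {A : Type u} {G : Type v} [AddCommGroup A] [AddCommGroup G]
    (f : A → G) (n : ℕ) (hn : 1 ≤ n) (x : Fin n → A) (i : Fin n) (hx : x i = 0) :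
    ∑ I ∈ ((Finset.univ : Finset (Fin n)).powerset.erase ∅), ((-1 : ℤ) ^ (n + I.card)) • f (∑ j ∈ I, x j) =
      ((-1 : ℤ) ^ (n + 1)) • f 0 := by
  classical
  set F : Finset (Fin n) → G := fun I => ((-1 : ℤ) ^ (n + I.card)) • f (∑ j ∈ I, x j) with hF
  let g : Finset (Fin n) → Finset (Fin n) := fun I => if i ∈ I then I.erase i else insert i I
  have hins : ∀ I : Finset (Fin n), i ∉ I → F I + F (insert i I) = 0 := by
    intro I hI
    simp only [hF]
    rw [Finset.card_insert_of_notMem hI, Finset.sum_insert hI, hx, zero_add, ← add_assoc,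
      pow_succ, mul_neg_one, neg_smul, add_neg_cancel]
  have hg1 : ∀ I, F I + F (g I) = 0 := by
    intro I
    by_cases hI : i ∈ I
    · simp only [g, if_pos hI]
      have h := hins (I.erase i) (Finset.notMem_erase i I)
      rw [Finset.insert_erase hI] at h
      rw [add_comm]; exact h
    · simp only [g, if_neg hI]
      exact hins I hI
  have hg2 : ∀ I, F I ≠ 0 → g I ≠ I := by
    intro I _ h
    by_cases hI : i ∈ I
    · simp only [g, if_pos hI] at h
      have : i ∈ I.erase i := by rw [h]; exact hI
      exact Finset.notMem_erase i I this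
    · simp only [g, if_neg hI] at h
      exact hI (by rw [← h]; exact Finset.mem_insert_self i I)
  have hg3 : ∀ I, g (g I) = I := by
    intro I
    by_cases hI : i ∈ I
    · simp only [g, if_pos hI, Finset.notMem_erase, if_false, Finset.insert_erase hI]
    · simp only [g, if_neg hI, Finset.mem_insert_self, if_true, Finset.erase_insert hI]
  have htot : ∑ I ∈ (Finset.univ : Finset (Fin n)).powerset, F I = 0 :=
    Finset.sum_ninvolution g hg1 hg2 (fun I => by simp) hg3
  have hmem : (∅ : Finset (Fin n)) ∈ (Finset.univ : Finset (Fin n)).powerset := by simp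
  have h2 := Finset.add_sum_erase _ F hmem
  rw [htot] at h2
  have h3 : ∑ I ∈ ((Finset.univ : Finset (Fin n)).powerset.erase ∅), F I = - F ∅ := by
    rw [eq_neg_iff_add_eq_zero, add_comm]; exact h2
  rw [h3]
  simp only [hF, Finset.card_empty, add_zero, Finset.sum_empty, pow_succ, mul_neg_one, neg_smul]

end Groth.Agent.S14307
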