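import Groth.Statements.S14308
import Mathlib

set_option autoImplicit false
universe u v w x y
open CAlg

namespace Groth.Agent.S14308

theorem result
    {R : Type u} [CommRing R] {A : Type v} {B : Type w} {C : Type x}
    [CommRing A] [CommRing B] [CommRing C] [Algebra R A] [Algebra R B] [Algebra R C]
    (i : A →ₐ[R] B) (j : A →ₐ[R] C)
    (hinj : ∀ t : A, i t = 0 → j t = 0 → t = 0)
    (c : B) (u : C →+* B ⧸ Ideal.span ({c} : Set B))
    (hu : ∀ t : A, u (j t) = Ideal.Quotient.mk (Ideal.span ({c} : Set B)) (i t))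
    (ζ : A) (hiζ : i ζ = c) (hjζ : j ζ = 0)
    {σ τ : Type y}
    (η : MvPolynomial (Option σ) R →ₐ[R] A) (hη : η (MvPolynomial.X none) = ζ)
    (hηU : Function.Surjective ((j.comp η).comp (MvPolynomial.rename (Option.some : σ → Option σ))))
    (a : MvPolynomial τ R →ₐ[R] B) (ha : Function.Surjective a)
    (ηZ : MvPolynomial (Option σ) R →ₐ[R] MvPolynomial τ R)
    (hcomm : ∀ t, a (ηZ t) = i (η t)) (hηZ : Function.Surjective ηZ) :
    Function.Surjective η := by
  intro t
  obtain ⟨P, hP⟩ := hηU (j t)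
  set P' := MvPolynomial.rename (Option.some : σ → Option σ) P with hP'
  have hP2 : j (η P') = j t := hP
  set t' := t - η P' with ht'
  have hjt' : j t' = 0 := by rw [ht', map_sub, hP2, sub_self]
  have hmem : i t' ∈ Ideal.span ({c} : Set B) := by
    rw [← Ideal.Quotient.eq_zero_iff_mem, ← hu, hjt', map_zero]
  obtain ⟨b, hb⟩ := Ideal.mem_span_singleton'.mp hmem
  obtain ⟨Q, rfl⟩ := ha b
  obtain ⟨Q', rfl⟩ := hηZ Q
  rw [hcomm] at hb
  have ht'eq : t' = η (MvPolynomial.X none * Q') := by
    have hsub : t' - η (MvPolynomial.X none * Q') = 0 := by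
      apply hinj
      · rw [map_sub, map_mul, map_mul, hη, hiζ, ← hb]; ring
      · rw [map_sub, map_mul, map_mul, hη, hjζ, hjt']; ring
    exact sub_eq_zero.mp hsub
  refine ⟨P' + MvPolynomial.X none * Q', ?_⟩
  rw [map_add, ← ht'eq, ht']; ring

end Groth.Agent.S14308
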