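import Groth.Statements.S14309
import Mathlib
-- import your own Groth.Agent.* helpers here

set_option autoImplicit false
universe u v w x y
open CAlg

namespace Groth.Agent.S14309

namespace Aux

open MvPolynomial

/-- the `Z = 0` specialization -/
noncomputable def eps (R : Type*) [CommRing R] (σ : Type*) :
    MvPolynomial (Option σ) R →ₐ[R] MvPolynomial σ R :=
  aeval (fun o : Option σ => o.elim 0 X)

lemma sub_rename_eps_mem {R : Type*} [CommRing R] {σ : Type*} (t : MvPolynomial (Option σ) R) :
    t - rename (Option.some : σ → Option σ) (eps R σ t) ∈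
      Ideal.span ({X none} : Set (MvPolynomial (Option σ) R)) := by
  induction t using MvPolynomial.induction_on with
  | C r =>
    simp [eps]
  | add f g hf hg =>
    rw [map_add, map_add]
    have : f + g - (rename some (eps R σ f) + rename some (eps R σ g)) =
      (f - rename some (eps R σ f)) + (g - rename some (eps R σ g)) := by ring
    rw [this]
    exact Ideal.add_mem _ hf hg
  | mul_X f o hf =>
    cases o with
    | none =>
      have : eps R σ (f * X none) = 0 := by
        rw [map_mul]; simp [eps]
      rw [this, map_zero, sub_zero]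
      exact Ideal.mul_mem_left _ _ (Ideal.mem_span_singleton_self _)
    | some s =>
      have : eps R σ (f * X (some s)) = eps R σ f * X s := by
        rw [map_mul]; simp [eps]
      rw [this, map_mul, rename_X, ← sub_mul]
      exact Ideal.mul_mem_right _ _ hf

theorem main
    {R : Type u} [CommRing R] {A : Type v} {B : Type w} {C : Type x}
    [CommRing A] [CommRing B] [CommRing C] [Algebra R A] [Algebra R B] [Algebra R C]
    (i : A →ₐ[R] B) (j : A →ₐ[R] C)
    (hinj : ∀ t : A, i t = 0 → j t = 0 → t = 0)
    (c : B) (hc : c ∈ nonZeroDivisors B)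
    (ζ : A) (hiζ : i ζ = c) (hjζ : j ζ = 0)
    {σ τ ιp ιq ιv : Type y}
    (η : MvPolynomial (Option σ) R →ₐ[R] A) (hη : η (MvPolynomial.X none) = ζ)
    (a : MvPolynomial τ R →ₐ[R] B)
    (ηZ : MvPolynomial (Option σ) R →ₐ[R] MvPolynomial τ R)
    (hcomm : ∀ t, a (ηZ t) = i (η t)) (hηZ : Function.Surjective ηZ)
    (cZ : MvPolynomial τ R) (hcZ : a cZ = c)
    (p : ιp → MvPolynomial σ R)
    (hp : Ideal.span (Set.range p) =
      RingHom.ker ((j.comp η).comp (MvPolynomial.rename (Option.some : σ → Option σ))))
    (q' : ιq → MvPolynomial τ R) (hq' : Ideal.span (Set.range q') = RingHom.ker a)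
    (q : ιq → MvPolynomial (Option σ) R) (hq : ∀ h, ηZ (q h) = q' h)
    (v : ιv → MvPolynomial (Option σ) R) (hv : Ideal.span (Set.range v) = RingHom.ker ηZ)
    (g' : ιp → MvPolynomial τ R)
    (hg' : ∀ h, ηZ (MvPolynomial.rename (Option.some : σ → Option σ) (p h)) + g' h * cZ ∈
      Ideal.span (Set.range q'))
    (g : ιp → MvPolynomial (Option σ) R) (hg : ∀ h, ηZ (g h) = g' h) :
    RingHom.ker η = Ideal.span
      (Set.range (fun h : ιq => MvPolynomial.X none * q h) ∪
        Set.range (fun h : ιv => MvPolynomial.X none * v h) ∪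
        Set.range (fun h : ιp =>
          MvPolynomial.rename (Option.some : σ → Option σ) (p h) + MvPolynomial.X none * g h)) := by
  set J := Ideal.span
      (Set.range (fun h : ιq => MvPolynomial.X none * q h) ∪
        Set.range (fun h : ιv => MvPolynomial.X none * v h) ∪
        Set.range (fun h : ιp =>
          MvPolynomial.rename (Option.some : σ → Option σ) (p h) + MvPolynomial.X none * g h))
    with hJ
  have haZ : a (ηZ (X none)) = c := by rw [hcomm, hη, hiζ]
  -- (⊇)
  have hge : J ≤ RingHom.ker η := by
    rw [hJ, Ideal.span_le]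
    rintro t ((⟨h, rfl⟩ | ⟨h, rfl⟩) | ⟨h, rfl⟩)
    · rw [SetLike.mem_coe, RingHom.mem_ker]
      apply hinj
      · rw [← hcomm, map_mul, map_mul, hq]
        have : a (q' h) = 0 := by
          have : q' h ∈ RingHom.ker a := by rw [← hq']; exact Ideal.subset_span ⟨h, rfl⟩
          exact this
        rw [this, mul_zero]
      · rw [map_mul, map_mul, hη, hjζ, zero_mul]
    · rw [SetLike.mem_coe, RingHom.mem_ker]
      apply hinj
      · rw [← hcomm, map_mul, map_mul]
        have : ηZ (v h) = 0 := by
          have : v h ∈ RingHom.ker ηZ := by rw [← hv]; exact Ideal.subset_span ⟨h, rfl⟩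
          exact this
        rw [this, map_zero, mul_zero]
      · rw [map_mul, map_mul, hη, hjζ, zero_mul]
    · rw [SetLike.mem_coe, RingHom.mem_ker]
      apply hinj
      · rw [← hcomm, map_add, map_mul, hg, map_add, map_mul, haZ, ← hcZ, ← map_mul, ← map_add,
          mul_comm cZ]
        have : ηZ (rename some (p h)) + g' h * cZ ∈ RingHom.ker a := by rw [← hq']; exact hg' h
        exact this
      · rw [map_add, map_add, map_mul, map_mul, hη, hjζ, zero_mul, add_zero]
        have : p h ∈ RingHom.ker ((j.comp η).comp (rename (Option.some : σ → Option σ))) := by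
          rw [← hp]; exact Ideal.subset_span ⟨h, rfl⟩
        exact this
  apply le_antisymm _ hge
  -- (⊆)
  -- Step A : elements of the form `Z * t₂`
  have hA : ∀ t₂ : MvPolynomial (Option σ) R, η (X none * t₂) = 0 → X none * t₂ ∈ J := by
    intro t₂ ht₂
    have h1 : c * i (η t₂) = 0 := by
      have := congrArg i ht₂
      rwa [map_mul, map_mul, hη, hiζ, map_zero] at this
    have h2 : i (η t₂) = 0 := by
      rw [mul_comm] at h1
      exact (mem_nonZeroDivisors_iff_right.mp hc) _ h1
    have h3 : ηZ t₂ ∈ Ideal.span (Set.range q') := by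
      rw [hq', RingHom.mem_ker, hcomm]; exact h2
    -- lift
    have h4 : ∃ t₃ ∈ Ideal.span (Set.range q), ηZ t₃ = ηZ t₂ := by
      have : Ideal.span (Set.range q') = (Ideal.span (Set.range q)).map (ηZ : _ →+* _) := by
        rw [Ideal.map_span]
        congr 1
        ext z
        constructor
        · rintro ⟨h, rfl⟩; exact ⟨q h, ⟨h, rfl⟩, hq h⟩
        · rintro ⟨_, ⟨h, rfl⟩, rfl⟩; exact ⟨h, (hq h).symm⟩
      rw [this, Ideal.mem_map_iff_of_surjective
        (ηZ : MvPolynomial (Option σ) R →+* MvPolynomial τ R) hηZ] at h3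
      exact h3
    obtain ⟨t₃, ht₃, h5⟩ := h4
    have h6 : t₂ - t₃ ∈ Ideal.span (Set.range v) := by
      rw [hv, RingHom.mem_ker, map_sub, h5, sub_self]
    have hq_le : ∀ z ∈ Ideal.span (Set.range q), X none * z ∈ J := by
      intro z hz
      induction hz using Submodule.span_induction with
      | mem z hz =>
        obtain ⟨h, rfl⟩ := hz
        exact Ideal.subset_span (Or.inl (Or.inl ⟨h, rfl⟩))
      | zero => rw [mul_zero]; exact J.zero_mem
      | add z1 z2 _ _ h1 h2 => rw [mul_add]; exact J.add_mem h1 h2
      | smul r z _ hz =>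
        rw [smul_eq_mul, mul_left_comm]; exact J.mul_mem_left _ hz
    have hv_le : ∀ z ∈ Ideal.span (Set.range v), X none * z ∈ J := by
      intro z hz
      induction hz using Submodule.span_induction with
      | mem z hz =>
        obtain ⟨h, rfl⟩ := hz
        exact Ideal.subset_span (Or.inl (Or.inr ⟨h, rfl⟩))
      | zero => rw [mul_zero]; exact J.zero_mem
      | add z1 z2 _ _ h1 h2 => rw [mul_add]; exact J.add_mem h1 h2
      | smul r z _ hz =>
        rw [smul_eq_mul, mul_left_comm]; exact J.mul_mem_left _ hz
    have : X none * t₂ = X none * t₃ + X none * (t₂ - t₃) := by ring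
    rw [this]
    exact J.add_mem (hq_le _ ht₃) (hv_le _ h6)
  -- Step B
  intro t ht
  rw [RingHom.mem_ker] at ht
  set t₀ := eps R σ t with ht₀
  obtain ⟨t₁, ht₁⟩ := Ideal.mem_span_singleton'.mp (sub_rename_eps_mem t)
  -- t = rename t₀ + t₁ * Z
  have hdecomp : t = rename some t₀ + X none * t₁ := by
    rw [mul_comm, ht₁]; ring
  have h1 : t₀ ∈ Ideal.span (Set.range p) := by
    rw [hp, RingHom.mem_ker]
    change j (η (rename some t₀)) = 0
    have := congrArg j ht
    rw [hdecomp, map_add, map_add, map_mul, map_mul, hη, hjζ, zero_mul, add_zero, map_zero] at this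
    exact this
  -- for elements of span p
  have hp_le : ∀ z ∈ Ideal.span (Set.range p), ∃ z', rename some z + X none * z' ∈ J := by
    intro z hz
    induction hz using Submodule.span_induction with
    | mem z hz =>
      obtain ⟨h, rfl⟩ := hz
      exact ⟨g h, Ideal.subset_span (Or.inr ⟨h, rfl⟩)⟩
    | zero => exact ⟨0, by rw [map_zero, mul_zero, add_zero]; exact J.zero_mem⟩
    | add z1 z2 _ _ h1 h2 =>
      obtain ⟨z1', h1⟩ := h1
      obtain ⟨z2', h2⟩ := h2
      refine ⟨z1' + z2', ?_⟩
      have : rename some (z1 + z2) + X none * (z1' + z2') =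
          (rename some z1 + X none * z1') + (rename some z2 + X none * z2') := by
        rw [map_add]; ring
      rw [this]
      exact J.add_mem h1 h2
    | smul r z _ hz =>
      obtain ⟨z', hz'⟩ := hz
      refine ⟨rename some r * z', ?_⟩
      have : rename some (r • z) + X none * (rename some r * z') =
          rename some r * (rename some z + X none * z') := by
        rw [smul_eq_mul, map_mul]; ring
      rw [this]
      exact J.mul_mem_left _ hz'
  obtain ⟨z', hz'⟩ := hp_le t₀ h1
  have h2 : t = (rename some t₀ + X none * z') + X none * (t₁ - z') := by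
    rw [hdecomp]; ring
  have h3 : η (X none * (t₁ - z')) = 0 := by
    have h4 : η (rename some t₀ + X none * z') = 0 := hge hz'
    have := ht
    rw [h2, map_add, h4, zero_add] at this
    exact this
  rw [h2]
  exact J.add_mem hz' (hA _ h3)

end Aux

/-- Let R be a commutative ring; A, B, C commutative R-algebras; i : A → B and j : A → C jointly
injective R-algebra maps; c a non-zero-divisor of B; u : C → B/(c) a ring map with u ∘ j equal to i
followed by reduction modulo c; ζ in A with i ζ = c and j ζ = 0; η : R[X_σ, Z] → A an R-algebra map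
with η(Z) = ζ; a : R[Y_τ] → B a surjective R-algebra map; η_Z : R[X_σ, Z] → R[Y_τ] a surjective
R-algebra map with a ∘ η_Z = i ∘ η. Fix c̃ in R[Y_τ] with a(c̃) = c, a family (p_h) generating the
kernel of the composite R[X_σ] → R[X_σ, Z] → A → C, a family (q'_h) generating the kernel of a
together with lifts q_h along η_Z, a family (v_h) generating the kernel of η_Z, and elements g'_h of
R[Y_τ] with η_Z(p_h) + g'_h c̃ in the ideal (q'_h), together with lifts g_h along η_Z. Then the
kernel of η is the ideal generated by the elements Z q_h, Z v_h and p_h + Z g_h. (The published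
statement is for the rings of cycle classes, with coefficients ℤ[1/6], of a smooth quotient stack, a
smooth closed substack whose normal bundle has top Chern class c a non-zero-divisor, and the open
complement; this row states the ring-theoretic content for any such square of commutative rings in
which A embeds in B × C.) -/
theorem result
    {R : Type u} [CommRing R] {A : Type v} {B : Type w} {C : Type x}
    [CommRing A] [CommRing B] [CommRing C] [Algebra R A] [Algebra R B] [Algebra R C]
    (i : A →ₐ[R] B) (j : A →ₐ[R] C)
    (hinj : ∀ t : A, i t = 0 → j t = 0 → t = 0)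
    (c : B) (hc : c ∈ nonZeroDivisors B) (u : C →+* B ⧸ Ideal.span ({c} : Set B))
    (hu : ∀ t : A, u (j t) = Ideal.Quotient.mk (Ideal.span ({c} : Set B)) (i t))
    (ζ : A) (hiζ : i ζ = c) (hjζ : j ζ = 0)
    {σ τ ιp ιq ιv : Type y}
    (η : MvPolynomial (Option σ) R →ₐ[R] A) (hη : η (MvPolynomial.X none) = ζ)
    (a : MvPolynomial τ R →ₐ[R] B) (ha : Function.Surjective a)
    (ηZ : MvPolynomial (Option σ) R →ₐ[R] MvPolynomial τ R)
    (hcomm : ∀ t, a (ηZ t) = i (η t)) (hηZ : Function.Surjective ηZ)
    (cZ : MvPolynomial τ R) (hcZ : a cZ = c)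
    (p : ιp → MvPolynomial σ R)
    (hp : Ideal.span (Set.range p) =
      RingHom.ker ((j.comp η).comp (MvPolynomial.rename (Option.some : σ → Option σ))))
    (q' : ιq → MvPolynomial τ R) (hq' : Ideal.span (Set.range q') = RingHom.ker a)
    (q : ιq → MvPolynomial (Option σ) R) (hq : ∀ h, ηZ (q h) = q' h)
    (v : ιv → MvPolynomial (Option σ) R) (hv : Ideal.span (Set.range v) = RingHom.ker ηZ)
    (g' : ιp → MvPolynomial τ R)
    (hg' : ∀ h, ηZ (MvPolynomial.rename (Option.some : σ → Option σ) (p h)) + g' h * cZ ∈
      Ideal.span (Set.range q'))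
    (g : ιp → MvPolynomial (Option σ) R) (hg : ∀ h, ηZ (g h) = g' h) :
    RingHom.ker η = Ideal.span
      (Set.range (fun h : ιq => MvPolynomial.X none * q h) ∪
        Set.range (fun h : ιv => MvPolynomial.X none * v h) ∪
        Set.range (fun h : ιp =>
          MvPolynomial.rename (Option.some : σ → Option σ) (p h) + MvPolynomial.X none * g h)) := by
  exact Aux.main i j hinj c hc ζ hiζ hjζ η hη a ηZ hcomm hηZ cZ hcZ p hp q' hq' q hq v hv g' hg' g hg

end Groth.Agent.S14309
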