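import Groth.Statements.S14315
import Mathlib
import Groth.Agent.Lib.Helper3.FibCrit1
import Groth.Agent.Lib.Helper3.FibCrit4
import Groth.Agent.Lib.Helper2.CurveSm.Main
import Groth.Agent.Lib.Helper2.Norm.SmoothBC
import Groth.Agent.Lib.Helper6.Normal.Scheme

set_option autoImplicit false
universe u
open CategoryTheory CategoryTheory.Limits AlgebraicGeometry TopologicalSpace
open Surf

namespace Groth.Agent.S14315

set_option maxHeartbeats 1000000 in
/-- a smooth scheme over a field is normal -/
theorem normal_of_smooth (k : Type u) [Field k] (C : Scheme.{u})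
    (q : C ⟶ Spec (CommRingCat.of k)) [Smooth q] : Pi1.IsNormalScheme C :=
  Groth.Agent.Lib.Helper6.Normal.isNormalScheme_of_smooth q
    (Groth.Agent.Helper2.NormSmooth.isNormalScheme_Spec_of_isField _ (Field.toIsField k))

set_option maxHeartbeats 1000000 in
/-- a dominant morphism from an integral scheme to a smooth integral curve is flat -/
theorem flat_to_curve (k : Type u) [Field k] {Z C : Scheme.{u}} [IsIntegral Z] [IsIntegral C]
    (q : C ⟶ Spec (CommRingCat.of k)) [Smooth q] (hdim : topologicalKrullDim C = 1)
    (g : Z ⟶ C) [IsDominant g] : Flat g := by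
  haveI : IsLocallyNoetherian C := LocallyOfFiniteType.isLocallyNoetherian q
  have hN := normal_of_smooth k C q
  have hdom := Groth.Agent.Lib.Helper4.CurveTop1.map_genericPoint_of_isDominant g
  exact Groth.Agent.Lib.Helper4.DedekindOpen1.flat_of_dominant_dedekind g hdom
    (fun y => Groth.Agent.Lib.Helper2.CurveSm.isDedekindDomain_stalk hdim hN y)

set_option maxHeartbeats 1000000 in
/-- a finite morphism between integral curves of finite type over a field is dominant -/
theorem isDominant_of_finite (k : Type u) [Field k] {C' C : Scheme.{u}} [IsIntegral C']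
    [IsIntegral C] (q' : C' ⟶ Spec (CommRingCat.of k)) [LocallyOfFiniteType q']
    (hdim' : topologicalKrullDim C' = 1) (hdim : topologicalKrullDim C = 1)
    (ψ : C' ⟶ C) [IsFinite ψ] : IsDominant ψ := by
  classical
  let Z₁ : TopologicalSpace.IrreducibleCloseds C :=
    ⟨closure {ψ (genericPoint C')}, isIrreducible_singleton.closure, isClosed_closure⟩
  have h1 : Order.krullDim (TopologicalSpace.IrreducibleCloseds C) ≤ 1 := le_of_eq hdim
  rcases (Order.krullDim_le_one_iff.mp h1) Z₁ with hmin | hmax
  · exfalso
    have hcl : closure ({ψ (genericPoint C')} : Set C) = {ψ (genericPoint C')} := by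
      apply Set.Subset.antisymm _ subset_closure
      intro w hw
      let Z₂ : TopologicalSpace.IrreducibleCloseds C :=
        ⟨closure {w}, isIrreducible_singleton.closure, isClosed_closure⟩
      have hle : Z₂ ≤ Z₁ := by
        show closure ({w} : Set C) ⊆ closure {ψ (genericPoint C')}
        exact closure_minimal (Set.singleton_subset_iff.mpr hw) isClosed_closure
      have hge : Z₁ ≤ Z₂ := hmin hle
      have hzw : ψ (genericPoint C') ∈ closure ({w} : Set C) := hge (subset_closure rfl)
      have e1 : ψ (genericPoint C') ⤳ w := specializes_iff_mem_closure.mpr hw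
      have e2 : w ⤳ ψ (genericPoint C') := specializes_iff_mem_closure.mpr hzw
      have : w = ψ (genericPoint C') := (e2.antisymm e1).eq
      rw [this]
      exact rfl
    have hall : ∀ x : C', ψ x = ψ (genericPoint C') := by
      intro x
      have hx : genericPoint C' ⤳ x := (genericPoint_spec C').specializes trivial
      have h2 : ψ (genericPoint C') ⤳ ψ x := hx.map ψ.continuous
      have h3 : ψ x ∈ closure ({ψ (genericPoint C')} : Set C) :=
        specializes_iff_mem_closure.mp h2
      rw [hcl] at h3
      exact h3
    have hfin : (ψ ⁻¹' {ψ (genericPoint C')}).Finite :=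
      ψ.finite_preimage_singleton (ψ (genericPoint C'))
    have huniv : ψ ⁻¹' {ψ (genericPoint C')} = Set.univ := Set.eq_univ_of_forall hall
    rw [huniv] at hfin
    haveI : Finite C' := Set.finite_univ_iff.mp hfin
    haveI : JacobsonSpace C' := LocallyOfFiniteType.jacobsonSpace q'
    haveI : DiscreteTopology C' := inferInstance
    haveI : Subsingleton C' := PreconnectedSpace.trivial_of_discrete
    have hpos : 0 < Order.krullDim (TopologicalSpace.IrreducibleCloseds C') := by
      have e : topologicalKrullDim C' = Order.krullDim (TopologicalSpace.IrreducibleCloseds C') :=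
        rfl
      rw [← e, hdim']
      exact zero_lt_one
    obtain ⟨x, y, hxy⟩ := Order.krullDim_pos_iff.mp hpos
    obtain ⟨a, ha⟩ := x.isIrreducible'.nonempty
    obtain ⟨-, b, hby, hbx⟩ := SetLike.lt_iff_le_and_exists.mp hxy
    exact hbx (Subsingleton.elim a b ▸ ha)
  · let T : TopologicalSpace.IrreducibleCloseds C :=
      ⟨Set.univ, IrreducibleSpace.isIrreducible_univ C, isClosed_univ⟩
    have hle : Z₁ ≤ T := fun _ _ => trivial
    have hge : T ≤ Z₁ := hmax hle
    rw [isDominant_iff, DenseRange, dense_iff_closure_eq]
    apply Set.eq_univ_of_univ_subset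
    intro c _
    have hc : c ∈ closure ({ψ (genericPoint C')} : Set C) := hge trivial
    exact closure_mono (Set.singleton_subset_iff.mpr (Set.mem_range_self (genericPoint C'))) hc

/-- Let k be an algebraically closed field, S a smooth projective surface over k (integral, proper and
smooth over k, of dimension 2), f : S → C a surjective k-morphism onto a smooth projective curve C
(integral, proper and smooth over k, of dimension 1), and ψ : C' → C a finite k-morphism from
another smooth projective curve C' which is unramified at every point of C' lying over a point of C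
whose fibre of f is not smooth. Then S ×_C C' is smooth over k. (The published statement takes ψ
separable and f the chapter's generically smooth semi-stable fibration with connected fibres over an
algebraically closed field of positive characteristic; this row assumes only f surjective and ψ
finite, over any algebraically closed field.) -/
theorem result (k : Type u) [Field k] [IsAlgClosed k]
    (S : Scheme.{u}) [S.Over (Spec (CommRingCat.of k))] [IsProper (S ↘ (Spec (CommRingCat.of k)))]
    [Smooth (S ↘ (Spec (CommRingCat.of k)))] [IsIntegral S] (hdim : topologicalKrullDim S = 2)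
    (C : Scheme.{u}) [C.Over (Spec (CommRingCat.of k))] [IsProper (C ↘ (Spec (CommRingCat.of k)))]
    [Smooth (C ↘ (Spec (CommRingCat.of k)))] [IsIntegral C] (hdimC : topologicalKrullDim C = 1)
    (f : S ⟶ C) [f.IsOver (Spec (CommRingCat.of k))] [Surjective f]
    (C' : Scheme.{u}) [C'.Over (Spec (CommRingCat.of k))] [IsProper (C' ↘ (Spec (CommRingCat.of k)))]
    [Smooth (C' ↘ (Spec (CommRingCat.of k)))] [IsIntegral C'] (hdimC' : topologicalKrullDim C' = 1)
    (ψ : C' ⟶ C) [ψ.IsOver (Spec (CommRingCat.of k))] [IsFinite ψ]
    (hψ : ∀ c : C', ¬ Smooth (f.fiberToSpecResidueField (ψ.base c)) →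
      ∃ U : C'.Opens, c ∈ U ∧ FormallyUnramified (U.ι ≫ ψ)) :
    Smooth (pullback.snd f ψ ≫ (C' ↘ (Spec (CommRingCat.of k)))) := by
  haveI : IsLocallyNoetherian C :=
    LocallyOfFiniteType.isLocallyNoetherian (C ↘ Spec (CommRingCat.of k))
  have hfS : f ≫ (C ↘ Spec (CommRingCat.of k)) = S ↘ Spec (CommRingCat.of k) :=
    comp_over f (Spec (CommRingCat.of k))
  have hψC : ψ ≫ (C ↘ Spec (CommRingCat.of k)) = C' ↘ Spec (CommRingCat.of k) :=
    comp_over ψ (Spec (CommRingCat.of k))
  haveI : LocallyOfFiniteType f := by
    haveI : LocallyOfFiniteType (f ≫ (C ↘ Spec (CommRingCat.of k))) := by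
      rw [hfS]; infer_instance
    exact locallyOfFiniteType_of_comp f (C ↘ Spec (CommRingCat.of k))
  haveI : LocallyOfFinitePresentation f :=
    LocallyOfFinitePresentation.iff_locallyOfFiniteType.mpr inferInstance
  haveI : IsDominant f := inferInstance
  haveI : Flat f := flat_to_curve k (C ↘ Spec (CommRingCat.of k)) hdimC f
  haveI : LocallyOfFiniteType ψ := inferInstance
  haveI : LocallyOfFinitePresentation ψ :=
    LocallyOfFinitePresentation.iff_locallyOfFiniteType.mpr inferInstance
  haveI : IsDominant ψ :=
    isDominant_of_finite k (C' ↘ Spec (CommRingCat.of k)) hdimC' hdimC ψ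
  haveI : Flat ψ := flat_to_curve k (C ↘ Spec (CommRingCat.of k)) hdimC ψ
  have hcomp : pullback.fst f ψ ≫ (S ↘ Spec (CommRingCat.of k)) =
      pullback.snd f ψ ≫ (C' ↘ Spec (CommRingCat.of k)) := by
    rw [← hfS, ← hψC, ← Category.assoc, ← Category.assoc, pullback.condition]
  refine Groth.Agent.Helper3.FibCrit.of_forall_exists_nhd @Smooth _ fun t => ?_
  by_cases hsm : Smooth (f.fiberToSpecResidueField (ψ.base ((pullback.snd f ψ).base t)))
  · have hpt : f ((pullback.fst f ψ) t) = ψ ((pullback.snd f ψ) t) := by
      rw [← Scheme.Hom.comp_apply, ← Scheme.Hom.comp_apply, pullback.condition]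
    have hs : (pullback.fst f ψ) t ∈ f.smoothLocus :=
      (Groth.Agent.Helper3.FibCrit.smooth_fibre_iff f _).mp hsm _ hpt
    haveI hVs : Smooth ((f.smoothLocus).ι ≫ f) := by
      rw [← Scheme.Hom.smoothLocus_eq_top_iff, ← Scheme.Hom.preimage_smoothLocus_eq]
      exact Scheme.Opens.ι_preimage_self _
    refine ⟨pullback.fst f ψ ⁻¹ᵁ f.smoothLocus, hs, ?_⟩
    have sq := (isPullback_morphismRestrict (pullback.fst f ψ) f.smoothLocus).paste_vert
      (IsPullback.of_hasPullback f ψ)
    haveI : Smooth ((pullback.fst f ψ ⁻¹ᵁ f.smoothLocus).ι ≫ pullback.snd f ψ) :=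
      MorphismProperty.of_isPullback (P := @Smooth) sq hVs
    rw [← Category.assoc]
    infer_instance
  · obtain ⟨U, hcU, hU⟩ := hψ _ hsm
    haveI : Etale (U.ι ≫ ψ) := by
      rw [Etale.iff_flat_and_formallyUnramified]
      exact ⟨inferInstance, hU, inferInstance⟩
    refine ⟨pullback.snd f ψ ⁻¹ᵁ U, hcU, ?_⟩
    have sq := (isPullback_morphismRestrict (pullback.snd f ψ) U).paste_vert
      (IsPullback.of_hasPullback f ψ).flip
    haveI : Etale ((pullback.snd f ψ ⁻¹ᵁ U).ι ≫ pullback.fst f ψ) :=
      MorphismProperty.of_isPullback (P := @Etale) sq inferInstance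
    rw [← hcomp, ← Category.assoc]
    infer_instance

end Groth.Agent.S14315
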