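import Groth.Statements.S14344
import Mathlib
import Groth.Agent.Lib.Helper5.BlowGr.Main
import Groth.Agent.Lib.Helper4.KosH1b

set_option autoImplicit false
universe u
open CategoryTheory AlgebraicGeometry TensorProduct
open QuotLF



namespace Groth.Agent.S14344

/-- Let R be a commutative ring, n ≥ 1, f = (f_1, …, f_n) a Koszul-regular sequence in R generating the
ideal I, and M = R^n / R·f the cokernel of R → R^n, 1 ↦ f (the cokernel of a Koszul-regular section
of a trivial rank-n bundle). If b : B ⟶ Spec R is a blowing-up of Spec R in I (universal property),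
then B is a Quot scheme of rank-(n−1) locally free quotients of M: on R-algebras A there are
bijections, natural in A, between R-morphisms Spec A → B and submodules of A ⊗_R M whose quotient is
finite projective of constant rank n − 1. (This is the affine case with trivial bundle, to which the
general statement reduces; the comparison of the tautological invertible modules and the local
complete intersection property of the projection are not part of this row.) -/
theorem result {R : Type u} [CommRing R] (n : ℕ) (hn : 1 ≤ n)
    (f : Fin n → R) (hf : LCI.IsKoszulRegularSeq R (List.ofFn f))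
    {B : Scheme.{u}} (b : B ⟶ Spec (CommRingCat.of R))
    (hb : BlowUp.IsBlowUp b
      (Spec.map (CommRingCat.ofHom (Ideal.Quotient.mk (Ideal.span (Set.range f))))).ker) :
    ∃ e : ∀ A : CommAlgCat.{u} R,
        (Over.mk (Spec.map (CommRingCat.ofHom (algebraMap R A))) ⟶ Over.mk b) ≃
          (Module.Grassmannian.functor (R := R) (M := (Fin n → R) ⧸ Submodule.span R {f}) (n - 1)).obj A,
      ∀ (A A' : CommAlgCat.{u} R) (φ : A ⟶ A')
        (g : Over.mk (Spec.map (CommRingCat.ofHom (algebraMap R A))) ⟶ Over.mk b)
        (g' : Over.mk (Spec.map (CommRingCat.ofHom (algebraMap R A'))) ⟶ Over.mk b),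
        g'.left = Spec.map (CommRingCat.ofHom φ.hom.toRingHom) ≫ g.left →
          e A' g' = (Module.Grassmannian.functor (R := R) (M := (Fin n → R) ⧸ Submodule.span R {f}) (n - 1)).map φ
            (e A g) := by
  have hH1 : CAlgX.IsH1Regular f :=
    Groth.Agent.Lib.Helper4.KosH1b.isH1Regular_ofFn f
      (Groth.Agent.Lib.Helper4.KosH1.isH1Regular_of_koszul _ hf)
  rw [Groth.Agent.Lib.Helper5.BlowGr.UP.ker_SpecMap_mk] at hb
  exact Groth.Agent.Lib.Helper5.BlowGr.main f hn hH1 b hb

end Groth.Agent.S14344
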