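import Groth.Statements.S6281
import Mathlib

set_option autoImplicit false
universe u
open CAlg

namespace Groth.Agent.S6281

open TensorProduct in
/-- For an R-algebra S and an S-module M, flatness of S over R follows once M is both flat over R and
faithfully flat over S. -/
theorem result {R S : Type u} [CommRing R] [CommRing S] [Algebra R S] (M : Type u) [AddCommGroup M] [Module S M] [Module R M] [IsScalarTower R S M] [Module.Flat R M] [Module.FaithfullyFlat S M] : Module.Flat R S := by
  rw [Module.Flat.iff_lTensor_preserves_injective_linearMap]
  intro N P _ _ _ _ f hf
  have h1 : Function.Injective (f.lTensor M) :=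
    Module.Flat.lTensor_preserves_injective_linearMap f hf
  let g : S ⊗[R] N →ₗ[S] S ⊗[R] P := TensorProduct.AlgebraTensorModule.map (A := S) LinearMap.id f
  have hg : ⇑g = ⇑(f.lTensor S) := by
    ext x
    induction x using TensorProduct.induction_on with
    | zero => simp
    | tmul a b => simp [g]
    | add a b ha hb => simp [ha, hb]
  rw [← hg, ← Module.FaithfullyFlat.lTensor_injective_iff_injective S M]
  have key : ∀ x, (TensorProduct.AlgebraTensorModule.cancelBaseChange R S S M P) (g.lTensor M x) =
      f.lTensor M ((TensorProduct.AlgebraTensorModule.cancelBaseChange R S S M N) x) := by
    intro x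
    induction x using TensorProduct.induction_on with
    | zero => simp
    | tmul a b =>
      induction b using TensorProduct.induction_on with
      | zero => simp
      | tmul s n => simp [g]
      | add a' b' ha hb => simp only [tmul_add, map_add, ha, hb]
    | add a b ha hb => simp only [map_add, ha, hb]
  intro x y hxy
  apply (TensorProduct.AlgebraTensorModule.cancelBaseChange R S S M N).injective
  apply h1
  rw [← key, ← key, hxy]

end Groth.Agent.S6281
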