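import Groth.Statements.S14351
import Groth.Agent.S6281
import Mathlib

set_option autoImplicit false
universe u
open CAlg

namespace Groth.Agent.S14351

open TensorProduct in
/-- For ring maps A → B → C with C faithfully flat over B and C faithfully flat over A, the ring B is
faithfully flat over A. -/
theorem result (A B C : Type u) [CommRing A] [CommRing B]
    [CommRing C] [Algebra A B] [Algebra B C] [Algebra A C] [IsScalarTower A B C]
    [Module.FaithfullyFlat B C] [Module.FaithfullyFlat A C] : Module.FaithfullyFlat A B := by
  have hflat : Module.Flat A B := Groth.Agent.S6281.result (R := A) (S := B) C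
  rw [Module.FaithfullyFlat.iff_flat_and_lTensor_reflects_triviality]
  refine ⟨hflat, fun N _ _ hN => ?_⟩
  have e := TensorProduct.AlgebraTensorModule.cancelBaseChange A B B C N
  have : Subsingleton (C ⊗[B] (B ⊗[A] N)) := inferInstance
  have : Subsingleton (C ⊗[A] N) := e.symm.toEquiv.subsingleton
  exact Module.FaithfullyFlat.lTensor_reflects_triviality A C N

end Groth.Agent.S14351
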