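import Groth.Statements.S14355
import Groth.Agent.Lib.Helper6.SpSeqL.AbutHom

set_option autoImplicit false
universe v u
open CategoryTheory CategoryTheory.Limits
open SpSeqMor

namespace Groth.Agent.S14355

/-- Let φ : E ⟶ E' be a morphism of E_2-cohomological spectral sequences in an abelian category, with
abutments H and H' whose filtrations are finite in each degree, and f a morphism of abutment data
over φ. Fix integers l and a₀. If E_2^{i, l-i} = 0 for i < a₀, E'_2^{i, l-i} = 0 for i > a₀ and
φ_2^{a₀, l-a₀} = 0, then f^l : H^l ⟶ H'^l is zero. (The published statement prints the two vanishing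
hypotheses at positions (i, l); the argument works on the line of total degree l, at positions (i, l
- i), which is the form stated here.) -/
theorem result (C : Type u) [Category.{v} C] [Abelian C]
    (E E' : E₂CohomologicalSpectralSequence C) (φ : E ⟶ E') (H H' : ℤ → C)
    (a : SpSeq.Abutment E H) (a' : SpSeq.Abutment E' H')
    (ha : ∀ n : ℤ, a.IsFinite n) (ha' : ∀ n : ℤ, a'.IsFinite n)
    (f : SpSeqMor.AbutHom φ a a') (l a₀ : ℤ)
    (hE : ∀ i : ℤ, i < a₀ → IsZero ((E.page 2 le_rfl).X (i, l - i)))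
    (hE' : ∀ i : ℤ, a₀ < i → IsZero ((E'.page 2 le_rfl).X (i, l - i)))
    (hφ : (φ.hom 2 le_rfl).f (a₀, l - a₀) = 0) :
    f.hom l = 0 := by
  have hn : (a₀, l - a₀).1 + (a₀, l - a₀).2 = l := by
    show a₀ + (l - a₀) = l
    ring
  have tr : ∀ (i m n : ℤ) (h : m = n),
      IsZero (SpSeq.grPiece (a.fil m) (a.anti m) i) →
        IsZero (SpSeq.grPiece (a.fil n) (a.anti n) i) := by
    intro i m n h; subst h; exact id
  have tr' : ∀ (i m n : ℤ) (h : m = n),
      IsZero (SpSeq.grPiece (a'.fil m) (a'.anti m) i) →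
        IsZero (SpSeq.grPiece (a'.fil n) (a'.anti n) i) := by
    intro i m n h; subst h; exact id
  have fin : ∀ m, m = l → f.hom m = 0 → f.hom l = 0 := by
    intro m h; subst h; exact id
  refine fin _ hn ?_
  apply Groth.Agent.Helper6.SpSeqLib.abutHom_eq_zero f (a₀, l - a₀)
  · -- top
    apply Groth.Agent.Helper6.SpSeqLib.fil_eq_top_of_isZero_gr_below (a.fil _) (a.anti _)
      (ha _).1
    intro i hi
    have h0 : IsZero ((E.page 2 le_rfl).X (i, l - i)) := hE i hi
    have hz := Groth.Agent.Helper6.SpSeqLib.isZero_page_of_le E (i, l - i) 2 le_rfl h0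
      (a.rk (i, l - i)) (a.stat (i, l - i)).1
    have hz' := IsZero.of_iso hz (a.β (i, l - i)).symm
    refine tr i (i + (l - i)) _ ?_ hz'
    rw [hn]; ring
  · -- bot
    apply Groth.Agent.Helper6.SpSeqLib.fil_eq_bot_of_isZero_gr_above (a'.fil _) (a'.anti _)
      (ha' _).2
    intro i hi
    have h0 : IsZero ((E'.page 2 le_rfl).X (i, l - i)) := hE' i hi
    have hz := Groth.Agent.Helper6.SpSeqLib.isZero_page_of_le E' (i, l - i) 2 le_rfl h0
      (a'.rk (i, l - i)) (a'.stat (i, l - i)).1
    have hz' := IsZero.of_iso hz (a'.β (i, l - i)).symm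
    refine tr' i (i + (l - i)) _ ?_ hz'
    rw [hn]; ring
  · intro r hr
    exact Groth.Agent.Helper6.SpSeqLib.hom_f_eq_zero_of_le φ (a₀, l - a₀) 2 le_rfl hφ r hr

end Groth.Agent.S14355
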