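import Groth.Statements.S14357
import Mathlib
import Groth.Agent.Lib.Helper1.P1NotAffine

set_option autoImplicit false
universe u
open AlgebraicGeometry
open Proj

namespace Groth.Agent.S14357

/-- For a field k the projective line over k is not an affine scheme. (The projective line is taken here
as Proj of the polynomial ring in two variables over k with its standard grading; the book builds it
by gluing two affine lines and identifies the two constructions later.) -/
theorem result (k : Type u) [Field k] :
    ¬ IsAffine (CohB1.ProjSpace 1 k) := by
  exact Groth.Agent.Helper1.P1NotAffine.not_isAffine k

end Groth.Agent.S14357
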