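import Groth.Statements.S14358
import Mathlib

set_option autoImplicit false
universe u
open CAlg

namespace Groth.Agent.S14358

/-- Let A be a Noetherian integral domain with fraction field K and let r ∈ K. Then r belongs to A if
and only if, for every nonzero g ∈ A and every associated prime p of the A-module A/(g), the element
r belongs to the local ring A_p inside K, i.e. s r = a in K for some a ∈ A and some s ∈ A outside p. -/
theorem result (A K : Type u)
    [CommRing A] [IsDomain A] [IsNoetherianRing A] [Field K] [Algebra A K] [IsFractionRing A K]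
    (r : K) :
    r ∈ Set.range (algebraMap A K) ↔
      ∀ g : A, g ≠ 0 → ∀ p ∈ associatedPrimes A (A ⧸ Ideal.span {g}),
        ∃ a s : A, s ∉ p ∧ algebraMap A K s * r = algebraMap A K a := by
  constructor
  · rintro ⟨a0, rfl⟩ g _ p hp
    have hpp : p.IsPrime := hp.1
    exact ⟨a0, 1, fun h => hpp.ne_top ((Ideal.eq_top_iff_one p).mpr h), by simp⟩
  · intro h
    obtain ⟨a, ⟨g, hg⟩, hr⟩ := IsLocalization.exists_mk'_eq (nonZeroDivisors A) r
    have hg0 : g ≠ 0 := nonZeroDivisors.ne_zero hg
    have hrg : r * algebraMap A K g = algebraMap A K a := by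
      rw [← hr]; exact IsLocalization.mk'_spec K a ⟨g, hg⟩
    by_contra hnot
    set x : A ⧸ Ideal.span {g} := Ideal.Quotient.mk _ a with hx
    have hx0 : x ≠ 0 := by
      intro hx0
      rw [hx, Ideal.Quotient.eq_zero_iff_mem, Ideal.mem_span_singleton] at hx0
      obtain ⟨c, rfl⟩ := hx0
      apply hnot
      refine ⟨c, ?_⟩
      have hgK : algebraMap A K g ≠ 0 := by
        rw [Ne, IsFractionRing.to_map_eq_zero_iff]; exact hg0
      apply mul_right_cancel₀ hgK
      rw [hrg, map_mul, mul_comm]
    obtain ⟨P, hP, hle⟩ := exists_le_isAssociatedPrime_of_isNoetherianRing A x hx0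
    obtain ⟨a', s, hs, hsr⟩ := h g hg0 P hP
    apply hs
    apply hle
    rw [Submodule.mem_colon_singleton, Submodule.mem_bot, hx]
    have e : s * a = a' * g := by
      apply IsFractionRing.injective A K
      rw [map_mul, map_mul, ← hrg, ← hsr]; ring
    change s • Ideal.Quotient.mk (Ideal.span {g}) a = 0
    rw [Algebra.smul_def, Ideal.Quotient.algebraMap_eq, ← map_mul, e, Ideal.Quotient.eq_zero_iff_mem,
      Ideal.mem_span_singleton]
    exact ⟨a', mul_comm _ _⟩

end Groth.Agent.S14358
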