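import Groth.Statements.S14363
import Mathlib

set_option autoImplicit false
universe u
open CAlg

namespace Groth.Agent.S14363

/-- Let A be a Noetherian ring and 0 → M' → M → M'' → 0 a short exact sequence of A-modules. If a prime
p of A is an associated prime of M'' and is not in the support of M', then p is an associated prime
of M. -/
theorem result (A : Type u) [CommRing A] [IsNoetherianRing A]
    (M' M M'' : Type u) [AddCommGroup M'] [Module A M'] [AddCommGroup M] [Module A M]
    [AddCommGroup M''] [Module A M'']
    (f : M' →ₗ[A] M) (g : M →ₗ[A] M'') (hf : Function.Injective f) (hg : Function.Surjective g)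
    (hfg : Function.Exact f g)
    (p : PrimeSpectrum A) (hp : p.asIdeal ∈ associatedPrimes A M'') (hsupp : p ∉ Module.support A M') :
    p.asIdeal ∈ associatedPrimes A M := by
  rw [Module.notMem_support_iff'] at hsupp
  have hp' := hp
  rw [AssociatedPrimes.mem_iff, isAssociatedPrime_iff] at hp'
  obtain ⟨hprime, x'', hx''⟩ := hp'
  obtain ⟨x, rfl⟩ := hg x''
  -- p • x ⊆ f(M')
  have hfg' : ∀ a ∈ p.asIdeal, ∃ y : M', f y = a • x := by
    intro a ha
    have : a • g x = 0 := by
      rw [hx'', Submodule.mem_colon_singleton, Submodule.mem_bot] at ha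
      exact ha
    rw [← map_smul] at this
    exact (hfg _).mp this
  -- find s ∉ p killing all of f⁻¹(p • x): use finite generation
  have hfgp : p.asIdeal.FG := IsNoetherian.noetherian _
  obtain ⟨t, ht⟩ := hfgp
  choose! y hy using hfg'
  have hkill : ∃ s ∉ p.asIdeal, ∀ a ∈ t, s • y a = 0 := by
    classical
    have hmem : ∀ a ∈ t, a ∈ p.asIdeal := fun a ha => ht ▸ Ideal.subset_span ha
    clear hy ht
    induction t using Finset.induction_on with
    | empty => exact ⟨1, fun h => hprime.ne_top ((Ideal.eq_top_iff_one _).mpr h), by simp⟩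
    | insert a t _ ih =>
      obtain ⟨s, hs, hst⟩ := ih (fun b hb => hmem b (Finset.mem_insert_of_mem hb))
      obtain ⟨s', hs', hs'a⟩ := hsupp (y a)
      refine ⟨s * s', fun h => (hprime.mem_or_mem h).elim hs hs', ?_⟩
      intro b hb
      rcases Finset.mem_insert.mp hb with rfl | hb
      · rw [mul_smul, hs'a, smul_zero]
      · rw [mul_comm, mul_smul, hst b hb, smul_zero]
  obtain ⟨s, hs, hst⟩ := hkill
  rw [AssociatedPrimes.mem_iff, isAssociatedPrime_iff]
  refine ⟨hprime, s • x, ?_⟩
  apply le_antisymm
  · -- p ≤ ann (s x)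
    rw [← ht, Ideal.span_le]
    intro a ha
    have hap : a ∈ p.asIdeal := ht ▸ Ideal.subset_span ha
    rw [SetLike.mem_coe, Submodule.mem_colon_singleton, Submodule.mem_bot, smul_comm, ← hy a hap,
      ← map_smul, hst a ha, map_zero]
  · intro b hb
    rw [Submodule.mem_colon_singleton, Submodule.mem_bot] at hb
    have : (b * s) • g x = 0 := by
      rw [mul_smul, ← map_smul, ← map_smul, hb, map_zero]
    have hbs : b * s ∈ p.asIdeal := by
      rw [hx'', Submodule.mem_colon_singleton, Submodule.mem_bot]; exact this
    exact (hprime.mem_or_mem hbs).resolve_right hs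

end Groth.Agent.S14363
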