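import Groth.Statements.S14372
import Mathlib
import Groth.Agent.Lib.Helper9.GrCI3
-- import your own Groth.Agent.* helpers here

set_option autoImplicit false
universe u
open Fano

namespace Groth.Agent.S14372

open Groth.Agent.Lib.Helper9.GrCI
namespace Aux

open MvPolynomial

/-- fewer than `m` forms of positive degree in `m` variables have a common nontrivial zero -/
theorem exists_common_zero {K : Type u} [Field K] [IsAlgClosed K] {m s : ℕ} (hs : s < m)
    (q : Fin s → MvPolynomial (Fin m) K) (e : Fin s → ℕ) (he : ∀ j, e j ≠ 0)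
    (hq : ∀ j, (q j).IsHomogeneous (e j)) :
    ∃ x : Fin m → K, x ≠ 0 ∧ ∀ j, eval x (q j) = 0 := by
  classical
  by_contra hcon
  push Not at hcon
  set J : Ideal (MvPolynomial (Fin m) K) := Ideal.span (Set.range q) with hJ
  have hJirr : J ≤ irr K m := by
    rw [hJ, Ideal.span_le]
    rintro x ⟨j, rfl⟩
    exact mem_irr_of_homogeneous (1 : Fin m → ℕ) (he j) (hq j)
  have hrad : irr K m ≤ J.radical := by
    rw [← vanishingIdeal_zeroLocus_eq_radical (K := K)]
    unfold irr
    rw [Ideal.span_le]
    rintro _ ⟨i, rfl⟩
    rw [SetLike.mem_coe, mem_vanishingIdeal_iff]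
    intro x hx
    have hx0 : x = 0 := by
      by_contra hne
      obtain ⟨j, hj⟩ := hcon x hne
      exact hj (hx (q j) (Ideal.subset_span ⟨j, rfl⟩))
    rw [hx0]
    simp
  have hmin : irr K m ∈ J.minimalPrimes := by
    refine ⟨⟨inferInstance, hJirr⟩, ?_⟩
    rintro P ⟨hPp, hJP⟩ _
    exact hrad.trans (hPp.radical_le_iff.mpr hJP)
  have hJ' : J = Ideal.span ((Finset.univ.image q : Finset _) : Set (MvPolynomial (Fin m) K)) := by
    rw [hJ, Finset.coe_image, Finset.coe_univ, Set.image_univ]
  rw [hJ'] at hmin
  have h1 := Ideal.height_le_card_of_mem_minimalPrimes_span_finset hmin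
  rw [Groth.Agent.Lib.Helper4.DimFT1.mvPolynomial_height_of_isMaximal K m (irr K m)] at h1
  have h2 : (Finset.univ.image q).card ≤ s := by
    have := Finset.card_image_le (s := (Finset.univ : Finset (Fin s))) (f := q)
    simpa using this
  have h3 : (m : ℕ∞) ≤ (s : ℕ∞) := h1.trans (by exact_mod_cast h2)
  have h4 : m ≤ s := by exact_mod_cast h3
  omega

/-- chain rule for `pderiv` and substitution -/
theorem pderiv_aeval {K : Type u} [Field K] {N m : ℕ} (g : Fin N → MvPolynomial (Fin m) K)
    (j : Fin m) (f : MvPolynomial (Fin N) K) :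
    pderiv j (aeval g f) = ∑ i, aeval g (pderiv i f) * pderiv j (g i) := by
  induction f using MvPolynomial.induction_on with
  | C a => simp
  | add p q hp hq =>
    rw [map_add, map_add, hp, hq, ← Finset.sum_add_distrib]
    apply Finset.sum_congr rfl
    intro i _
    rw [map_add, map_add, add_mul]
  | mul_X p l hp =>
    rw [map_mul, aeval_X, Derivation.leibniz, hp, smul_eq_mul, smul_eq_mul]
    have : ∀ i, aeval g (pderiv i (p * X l)) * pderiv j (g i) =
        g l * (aeval g (pderiv i p) * pderiv j (g i)) +
          (if i = l then aeval g p * pderiv j (g l) else 0) := by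
      intro i
      rw [Derivation.leibniz, pderiv_X, smul_eq_mul, smul_eq_mul, map_add, map_mul, map_mul,
        aeval_X]
      split_ifs with h
      · subst h
        simp only [Pi.single_eq_same, map_one]
        ring
      · rw [Pi.single_eq_of_ne' h]
        simp only [map_zero, mul_zero, zero_mul, add_zero]
        ring
    simp_rw [this]
    rw [Finset.sum_add_distrib, ← Finset.mul_sum, Finset.sum_ite_eq' Finset.univ l,
      if_pos (Finset.mem_univ l)]
    ring


theorem eval_aeval_lin {K : Type u} [Field K] {N m : ℕ} (g : Fin N → MvPolynomial (Fin m) K)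
    (t : Fin m → K) (h : MvPolynomial (Fin N) K) :
    eval t (aeval g h) = eval (fun i => eval t (g i)) h := by
  have := comp_aeval_apply (f := g) (aeval (R := K) t) h
  exact this

theorem main (k : Type u) [Field k] [IsAlgClosed k]
    (n d : ℕ) (hd : 2 ≤ d) (f : MvPolynomial (Fin (n + 1)) k) (hf : f.IsHomogeneous d)
    (U : Submodule k (Fin (n + 1) → k)) (hU : ∀ u ∈ U, MvPolynomial.eval u f = 0)
    (hsm : ∀ u ∈ U, u ≠ 0 → ∃ i : Fin (n + 1), MvPolynomial.eval u (MvPolynomial.pderiv i f) ≠ 0) :
    2 * Module.finrank k ↥U ≤ n + 1 := by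
  classical
  by_contra hcon
  push Not at hcon
  set m := Module.finrank k ↥U with hm
  obtain ⟨U', hU'⟩ := Submodule.exists_isCompl U
  have hdim : m + Module.finrank k ↥U' = n + 1 := by
    have := Submodule.finrank_add_eq_of_isCompl hU'
    rw [Module.finrank_fintype_fun_eq_card, Fintype.card_fin] at this
    exact this
  set s := Module.finrank k ↥U' with hs
  have hsm' : s < m := by omega
  let b : Module.Basis (Fin m) k ↥U := Module.finBasis k ↥U
  let b' : Module.Basis (Fin s) k ↥U' := Module.finBasis k ↥U'
  -- the parametrisation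
  set g : Fin (n + 1) → MvPolynomial (Fin m) k := fun i => ∑ j, C ((b j : Fin (n + 1) → k) i) * X j
    with hg
  have hgeval : ∀ t : Fin m → k, (fun i => eval t (g i)) = ((∑ j, t j • b j : ↥U) :
      Fin (n + 1) → k) := by
    intro t
    ext i
    simp only [hg, map_sum, map_mul, eval_C, eval_X]
    rw [Submodule.coe_sum, Finset.sum_apply]
    apply Finset.sum_congr rfl
    intro j _
    rw [Submodule.coe_smul, Pi.smul_apply, smul_eq_mul, mul_comm]
  have hglin : ∀ i, (g i).IsHomogeneous 1 := by
    intro i
    apply IsHomogeneous.sum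
    intro j _
    have := (isHomogeneous_C (Fin m) ((b j : Fin (n + 1) → k) i)).mul (isHomogeneous_X k j)
    simpa using this
  -- f vanishes identically on the parametrised subspace
  have : Infinite k := IsAlgClosed.instInfinite
  have hfU : aeval g f = 0 := by
    apply MvPolynomial.funext
    intro t
    rw [eval_aeval_lin, hgeval, map_zero]
    exact hU _ (Submodule.coe_mem _)
  -- derivative along U vanishes
  have hstar : ∀ (t : Fin m → k) (j : Fin m),
      ∑ i, eval ((∑ j, t j • b j : ↥U) : Fin (n + 1) → k) (pderiv i f) *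
        (b j : Fin (n + 1) → k) i = 0 := by
    intro t j
    have h1 := congrArg (eval t) (pderiv_aeval g j f)
    rw [hfU, map_zero, map_zero, map_sum] at h1
    rw [h1]
    apply Finset.sum_congr rfl
    intro i _
    rw [map_mul, eval_aeval_lin, hgeval]
    congr 1
    simp only [hg, map_sum, Derivation.leibniz, pderiv_C, pderiv_X, smul_eq_mul, smul_zero,
      add_zero]
    rw [Finset.sum_eq_single j]
    · simp
    · intro l _ hl
      rw [Pi.single_eq_of_ne hl]
      simp
    · intro h
      exact absurd (Finset.mem_univ j) h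
  -- the transversal forms
  set q : Fin s → MvPolynomial (Fin m) k := fun l =>
    ∑ i, C ((b' l : Fin (n + 1) → k) i) * aeval g (pderiv i f) with hq
  have hqh : ∀ l, (q l).IsHomogeneous (d - 1) := by
    intro l
    apply IsHomogeneous.sum
    intro i _
    have h1 : (aeval g (pderiv i f)).IsHomogeneous (1 * (d - 1)) :=
      (hf.pderiv (i := i)).aeval g hglin
    rw [one_mul] at h1
    have := (isHomogeneous_C (Fin m) ((b' l : Fin (n + 1) → k) i)).mul h1
    simpa using this
  obtain ⟨t, ht0, htq⟩ := exists_common_zero hsm' q (fun _ => d - 1) (fun _ => by omega) hqh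
  set ustar : ↥U := ∑ j, t j • b j with hustar
  have hne : (ustar : Fin (n + 1) → k) ≠ 0 := by
    intro h0
    have h1 : ustar = 0 := Subtype.ext h0
    have h2 := Fintype.linearIndependent_iff.mp b.linearIndependent t h1
    exact ht0 (funext h2)
  obtain ⟨i₀, hi₀⟩ := hsm ustar ustar.2 hne
  -- the covector
  set L : (Fin (n + 1) → k) →ₗ[k] k :=
    ∑ i, (eval (ustar : Fin (n + 1) → k) (pderiv i f)) • LinearMap.proj i with hL
  have hLapp : ∀ w, L w = ∑ i, eval (ustar : Fin (n + 1) → k) (pderiv i f) * w i := by
    intro w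
    simp [hL, LinearMap.sum_apply]
  have hLU : ∀ w ∈ U, L w = 0 := by
    intro w hw
    have hrepr := b.sum_repr ⟨w, hw⟩
    have h1 : w = ∑ j, (b.repr ⟨w, hw⟩ j) • (b j : Fin (n + 1) → k) := by
      have := congrArg Subtype.val hrepr
      simp only [Submodule.coe_sum, Submodule.coe_smul] at this
      exact this.symm
    rw [h1, map_sum]
    apply Finset.sum_eq_zero
    intro j _
    rw [map_smul, hLapp, hstar t j, smul_zero]
  have hLU' : ∀ w ∈ U', L w = 0 := by
    intro w hw
    have hrepr := b'.sum_repr ⟨w, hw⟩
    have h1 : w = ∑ l, (b'.repr ⟨w, hw⟩ l) • (b' l : Fin (n + 1) → k) := by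
      have := congrArg Subtype.val hrepr
      simp only [Submodule.coe_sum, Submodule.coe_smul] at this
      exact this.symm
    rw [h1, map_sum]
    apply Finset.sum_eq_zero
    intro l _
    rw [map_smul, hLapp]
    have h2 := htq l
    simp only [hq, map_sum, map_mul, eval_C] at h2
    rw [smul_eq_mul]
    convert mul_zero _
    rw [← h2]
    apply Finset.sum_congr rfl
    intro i _
    rw [eval_aeval_lin, hgeval, mul_comm]
  have hLtop : ∀ w, L w = 0 := by
    intro w
    have hw : w ∈ U ⊔ U' := by rw [hU'.sup_eq_top]; exact Submodule.mem_top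
    obtain ⟨a, ha, a', ha', rfl⟩ := Submodule.mem_sup.mp hw
    rw [map_add, hLU a ha, hLU' a' ha', add_zero]
  apply hi₀
  have := hLtop (Pi.single i₀ 1)
  rw [hLapp] at this
  rw [Finset.sum_eq_single i₀] at this
  · simpa using this
  · intro i _ hi
    rw [Pi.single_eq_of_ne hi, mul_zero]
  · intro h
    exact absurd (Finset.mem_univ i₀) h

end Aux

/-- Over an algebraically closed field k of arbitrary characteristic, let f be a homogeneous form of
degree d ≥ 2 in n + 1 variables and U a linear subspace of k^(n+1) on which f vanishes, such that at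
every nonzero vector of U some partial derivative of f does not vanish (the hypersurface f = 0 in
P^n contains the r-plane P(U), r + 1 = dim U, and is smooth at every point of it). Then 2 · dim U ≤
n + 1, i.e. r ≤ (n − 1)/2. (The published statement assumes the hypersurface smooth everywhere; this
row assumes smoothness only along P(U).) -/
theorem result (k : Type u) [Field k] [IsAlgClosed k]
    (n d : ℕ) (hd : 2 ≤ d) (f : MvPolynomial (Fin (n + 1)) k) (hf : f.IsHomogeneous d)
    (U : Submodule k (Fin (n + 1) → k)) (hU : ∀ u ∈ U, MvPolynomial.eval u f = 0)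
    (hsm : ∀ u ∈ U, u ≠ 0 → ∃ i : Fin (n + 1), MvPolynomial.eval u (MvPolynomial.pderiv i f) ≠ 0) :
    2 * Module.finrank k ↥U ≤ n + 1 := by
  exact Aux.main k n d hd f hf U hU hsm

end Groth.Agent.S14372
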