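import Groth.Statements.S14375
import Mathlib
import Groth.Agent.S2500
import Groth.Agent.S1630

set_option autoImplicit false
universe u
open CategoryTheory CategoryTheory.Limits AlgebraicGeometry
open Variety

namespace Groth.Agent.S14375

section
open CategoryTheory CategoryTheory.Limits AlgebraicGeometry

theorem main (k : Type u) [Field k] [IsAlgClosed k]
    {X Y F : Scheme.{u}} (qX : X ⟶ Spec (CommRingCat.of k)) (qY : Y ⟶ Spec (CommRingCat.of k))
    (qF : F ⟶ Spec (CommRingCat.of k))
    [IrreducibleSpace ↥F] [IrreducibleSpace ↥Y]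
    (f : X ⟶ Y) (hf : f ≫ qY = qX)
    (htriv : ∀ y : ↥Y, ∃ V : Y.Opens, y ∈ V ∧
      ∃ e : (↑(f ⁻¹ᵁ V) : Scheme.{u}) ≅ pullback (V.ι ≫ qY) qF, e.hom ≫ pullback.fst (V.ι ≫ qY) qF = f ∣_ V) :
    IrreducibleSpace ↥X := by
  haveI hgF : GeometricallyIrreducible qF := Groth.Agent.S2500.main qF
  choose V hyV e he using htriv
  haveI : Nonempty ↥Y := inferInstance
  -- each V y is irreducible
  have hVirr : ∀ y, IrreducibleSpace ↥((V y).toScheme) := by
    intro y
    have h1 : IsIrreducible ((V y : Set ↥Y)) :=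
      ⟨⟨y, hyV y⟩, (IrreducibleSpace.isIrreducible_univ ↥Y).isPreirreducible.open_subset (V y).2
        (Set.subset_univ _)⟩
    exact (isIrreducible_iff_irreducibleSpace).mp h1
  -- each preimage is irreducible
  have hpre : ∀ y, IrreducibleSpace ↥((f ⁻¹ᵁ V y).toScheme) := by
    intro y
    haveI := hVirr y
    haveI : IrreducibleSpace ↥(pullback ((V y).ι ≫ qY) qF) := inferInstance
    exact (e y).hom.homeomorph.irreducibleSpace_iff.mpr inferInstance
  -- surjectivity onto V y
  have hsurj : ∀ y (z : ↥Y), z ∈ V y → ∃ x : ↥X, f x = z := by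
    intro y z hz
    haveI : Surjective (pullback.fst ((V y).ι ≫ qY) qF) := inferInstance
    obtain ⟨w, hw⟩ := (pullback.fst ((V y).ι ≫ qY) qF).surjective ⟨z, hz⟩
    refine ⟨(f ⁻¹ᵁ V y).ι ((e y).inv w), ?_⟩
    have h1 : (f ∣_ V y) ((e y).inv w) = ⟨z, hz⟩ := by
      rw [← he y]
      rw [Scheme.Hom.comp_apply]
      have : (e y).hom ((e y).inv w) = w := by
        rw [← Scheme.Hom.comp_apply, Iso.inv_hom_id]; rfl
      rw [this, hw]
    have h2 := congrArg (fun g => g ((e y).inv w)) (morphismRestrict_ι f (V y))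
    simp only [Scheme.Hom.comp_apply] at h2
    rw [← h2, h1]
    rfl
  refine Groth.Agent.S1630.irreducible_of_cover (ι := ↥Y) (fun y => f ⁻¹ᵁ V y) ?_ ?_ ?_
  · ext x
    simp only [TopologicalSpace.Opens.coe_iSup, Set.mem_iUnion, SetLike.mem_coe,
      TopologicalSpace.Opens.coe_top, Set.mem_univ, iff_true]
    exact ⟨f x, hyV (f x)⟩
  · intro y
    exact isIrreducible_iff_irreducibleSpace.mpr (hpre y)
  · intro y y'
    obtain ⟨z, hz1, hz2⟩ := nonempty_preirreducible_inter (V y).2 (V y').2 ⟨y, hyV y⟩ ⟨y', hyV y'⟩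
    obtain ⟨x, rfl⟩ := hsurj y z hz1
    exact ⟨x, hz1, hz2⟩


end


/-- Let k be an algebraically closed field, F an irreducible scheme of finite type over k, and f : X → Y
a k-morphism of schemes of finite type over k with Y irreducible which is locally trivial with fibre
F: every point of Y has an open neighbourhood V such that f⁻¹(V) is isomorphic over V to V ×_k F.
Then X is irreducible. (The published statement is for varieties, i.e. reduced separated schemes;
this row assumes neither.) -/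
theorem result (k : Type u) [Field k] [IsAlgClosed k]
    {X Y F : Scheme.{u}} (qX : X ⟶ Spec (CommRingCat.of k)) (qY : Y ⟶ Spec (CommRingCat.of k))
    (qF : F ⟶ Spec (CommRingCat.of k))
    [LocallyOfFiniteType qX] [QuasiCompact qX] [LocallyOfFiniteType qY] [QuasiCompact qY]
    [LocallyOfFiniteType qF] [QuasiCompact qF] [IrreducibleSpace ↥F] [IrreducibleSpace ↥Y]
    (f : X ⟶ Y) (hf : f ≫ qY = qX)
    (htriv : ∀ y : ↥Y, ∃ V : Y.Opens, y ∈ V ∧
      ∃ e : (↑(f ⁻¹ᵁ V) : Scheme.{u}) ≅ pullback (V.ι ≫ qY) qF, e.hom ≫ pullback.fst (V.ι ≫ qY) qF = f ∣_ V) :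
    IrreducibleSpace ↥X := by
  classical
  exact main k qX qY qF f hf htriv

end Groth.Agent.S14375
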