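import Groth.Statements.S14383
import Groth.Agent.Lib.Helper3.EtaEtale

set_option autoImplicit false
open scoped TensorProduct
open AlgebraicGeometry
universe u
open CAlg

namespace Groth.Agent.S14383

/-- Let V be a discrete valuation ring of characteristic zero with uniformizer ϖ, whose residue field k
is perfect of characteristic p > 0, and let A → R be a homomorphism of V-algebras of finite type,
viewed as a morphism f : Spec R → Spec A of schemes of finite type over Spec V. Say f is η-étale
when there is an open neighbourhood of the closed fibre of Spec R on whose generic fibre f is étale;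
for affine Spec R this means: some a ∈ R with (a) + (ϖ) = R has R[1/(aϖ)] étale over A. First: if f
is η-étale then for some n ≥ 0 the submodule p^n Ω_{R/A} of the module of differentials is contained
in ϖ p^n Ω_{R/A} (that is, p^n Ω_{R/A} vanishes along the closed fibre). Conversely: if the generic
fibres Spec(K ⊗_V A) and Spec(K ⊗_V R) are both smooth over K of the same relative dimension d, K
the fraction field of V, then such an n forces f to be η-étale. (The published statement is for
arbitrary schemes X → Y of finite type over V and also lists an intermediate equivalent condition,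
that the restriction of p^n Ω_{X/Y} to the closed fibre as an abelian sheaf vanishes for some n;
this row is the case of affine schemes and states the other two conditions.) -/
theorem result (V : Type u) [CommRing V] [IsDomain V] [IsDiscreteValuationRing V] [CharZero V]
    (ϖ : V) (hϖ : Irreducible ϖ) (p : ℕ) [Fact p.Prime] [CharP (IsLocalRing.ResidueField V) p]
    [PerfectField (IsLocalRing.ResidueField V)]
    (A : Type u) [CommRing A] [Algebra V A] [Algebra.FiniteType V A]
    (R : Type u) [CommRing R] [Algebra V R] [Algebra.FiniteType V R] [Algebra A R] [IsScalarTower V A R] :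
    ((∃ a : R, Ideal.span {a} ⊔ Ideal.span {algebraMap V R ϖ} = ⊤ ∧
        ((algebraMap R (Localization.Away (a * algebraMap V R ϖ))).comp (algebraMap A R)).Etale) →
      ∃ n : ℕ, Ideal.span {((p : R)) ^ n} • (⊤ : Submodule R (Ω[R⁄A])) ≤
        Ideal.span {algebraMap V R ϖ * (p : R) ^ n} • (⊤ : Submodule R (Ω[R⁄A]))) ∧
    (∀ d : ℕ, SmoothOfRelativeDimension d
        (Spec.map (CommRingCat.ofHom (algebraMap (FractionRing V) (FractionRing V ⊗[V] A)))) →
      SmoothOfRelativeDimension d
        (Spec.map (CommRingCat.ofHom (algebraMap (FractionRing V) (FractionRing V ⊗[V] R)))) →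
      (∃ n : ℕ, Ideal.span {((p : R)) ^ n} • (⊤ : Submodule R (Ω[R⁄A])) ≤
        Ideal.span {algebraMap V R ϖ * (p : R) ^ n} • (⊤ : Submodule R (Ω[R⁄A]))) →
      ∃ a : R, Ideal.span {a} ⊔ Ideal.span {algebraMap V R ϖ} = ⊤ ∧
        ((algebraMap R (Localization.Away (a * algebraMap V R ϖ))).comp (algebraMap A R)).Etale) := by
  classical
  haveI hFT : Algebra.FiniteType A R := Algebra.FiniteType.of_restrictScalars_finiteType V A R
  have hpmem : (p : V) ∈ IsLocalRing.maximalIdeal V := by
    rw [← IsLocalRing.residue_eq_zero_iff, map_natCast]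
    exact CharP.cast_eq_zero _ p
  rw [hϖ.maximalIdeal_eq] at hpmem
  obtain ⟨c, hc⟩ := Ideal.mem_span_singleton'.mp hpmem
  have hpR : (p : R) = algebraMap V R ϖ * algebraMap V R c := by
    rw [← map_mul, mul_comm, hc, map_natCast]
  have hp0 : (p : V) ≠ 0 := Nat.cast_ne_zero.mpr (Fact.out : p.Prime).ne_zero
  constructor
  · rintro ⟨a, hcop, het⟩
    rw [← IsScalarTower.algebraMap_eq A R (Localization.Away (a * algebraMap V R ϖ)),
      RingHom.etale_algebraMap] at het
    haveI := het
    haveI : Subsingleton Ω[Localization.Away (a * algebraMap V R ϖ)⁄A] := inferInstance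
    exact Groth.Agent.Lib.Helper3.EtaEtale.part1 a (algebraMap V R ϖ) (algebraMap V R c)
      (p : R) hpR hcop
  · rintro d hA hR ⟨n, hn⟩
    obtain ⟨a, hcop, hkill⟩ :=
      Groth.Agent.Lib.Helper3.EtaEtale.part2_a (algebraMap V R ϖ) (p : R) n hn
    refine ⟨a, hcop, ?_⟩
    exact Groth.Agent.Lib.Helper3.EtaEtale.part2_b V ϖ hϖ p hp0 A R a n hkill d
      ((HasRingHomProperty.Spec_iff (P := @SmoothOfRelativeDimension d)).mp hA)
      ((HasRingHomProperty.Spec_iff (P := @SmoothOfRelativeDimension d)).mp hR)

end Groth.Agent.S14383
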