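import Groth.Statements.S14384
import Mathlib
-- import your own Groth.Agent.* helpers here

set_option autoImplicit false
universe u
open CAlg

namespace Groth.Agent.S14384

namespace Aux

open KaehlerDifferential

theorem main (V : Type u) [CommRing V] [IsDomain V] [IsDiscreteValuationRing V]
    (ϖ : V) (hϖ : Irreducible ϖ) (p : ℕ) [Fact p.Prime] [CharP (IsLocalRing.ResidueField V) p]
    (R : Type u) [CommRing R] [Algebra V R] (d n : ℕ) (x' : Fin d → R)
    (hx' : Ideal.span {((p : R)) ^ n} • (⊤ : Submodule R (Ω[R⁄V])) ≤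
      Ideal.span {algebraMap V R ϖ * (p : R) ^ n} • (⊤ : Submodule R (Ω[R⁄V])) ⊔
        Submodule.span R (Set.range fun i => KaehlerDifferential.D V R (x' i)))
    (y : Fin d → R) (hy : ∀ i, y i ∈ Subring.closure (Set.range fun r : R => r ^ (p ^ (n + 1)))) :
    Ideal.span {((p : R)) ^ n} • (⊤ : Submodule R (Ω[R⁄V])) ≤
      Ideal.span {algebraMap V R ϖ * (p : R) ^ n} • (⊤ : Submodule R (Ω[R⁄V])) ⊔
        Submodule.span R (Set.range fun i => KaehlerDifferential.D V R (x' i + y i)) := by
  -- p ∈ (ϖ)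
  have hpm : (p : V) ∈ IsLocalRing.maximalIdeal V := by
    rw [← IsLocalRing.residue_eq_zero_iff, map_natCast]
    exact CharP.cast_eq_zero _ p
  rw [hϖ.maximalIdeal_eq, Ideal.mem_span_singleton] at hpm
  obtain ⟨u, hu⟩ := hpm
  have hpR : (p : R) = algebraMap V R ϖ * algebraMap V R u := by
    rw [← map_mul, ← hu, map_natCast]
  set N₀ : Submodule R (Ω[R⁄V]) :=
    Ideal.span {algebraMap V R ϖ * (p : R) ^ n} • (⊤ : Submodule R (Ω[R⁄V])) with hN₀
  have hmemN₀ : ∀ ω : Ω[R⁄V], ((p : R) ^ (n + 1)) • ω ∈ N₀ := by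
    intro ω
    have : ((p : R) ^ (n + 1)) • ω = (algebraMap V R ϖ * (p : R) ^ n) • (algebraMap V R u • ω) := by
      rw [smul_smul, pow_succ]
      congr 1
      generalize (p : R) ^ n = q
      rw [hpR]
      ring
    rw [this]
    exact Submodule.smul_mem_smul (Ideal.mem_span_singleton_self _) Submodule.mem_top
  have hD : ∀ r ∈ Subring.closure (Set.range fun r : R => r ^ (p ^ (n + 1))),
      D V R r ∈ N₀ := by
    intro r hr
    induction hr using Subring.closure_induction with
    | mem x hx =>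
      obtain ⟨s, rfl⟩ := hx
      rw [Derivation.leibniz_pow]
      have : (p ^ (n + 1)) • s ^ (p ^ (n + 1) - 1) • D V R s =
          ((p : R) ^ (n + 1)) • (s ^ (p ^ (n + 1) - 1) • D V R s) := by
        rw [← Nat.cast_pow, Nat.cast_smul_eq_nsmul]
      rw [this]
      exact hmemN₀ _
    | zero => rw [map_zero]; exact N₀.zero_mem
    | one => rw [Derivation.map_one_eq_zero]; exact N₀.zero_mem
    | add a b _ _ ha hb => rw [map_add]; exact N₀.add_mem ha hb
    | neg a _ ha => rw [map_neg]; exact N₀.neg_mem ha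
    | mul a b _ _ ha hb =>
      rw [Derivation.leibniz]
      exact N₀.add_mem (N₀.smul_mem _ hb) (N₀.smul_mem _ ha)
  refine hx'.trans (sup_le le_sup_left ?_)
  rw [Submodule.span_le]
  rintro _ ⟨i, rfl⟩
  have : D V R (x' i) = - D V R (y i) + D V R (x' i + y i) := by
    rw [map_add]; abel
  change D V R (x' i) ∈ _
  rw [this]
  exact Submodule.add_mem_sup (N₀.neg_mem (hD _ (hy i))) (Submodule.subset_span ⟨i, rfl⟩)

end Aux

/-- Let V be a discrete valuation ring of characteristic zero with uniformizer ϖ, whose residue field is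
perfect of characteristic p > 0, let R be a V-algebra of finite type, x'_1, …, x'_d elements of R
defining a morphism f' from Spec R to affine d-space over V, and n ≥ 0 such that p^n Ω_{f'} vanishes
along the closed fibre, written inside Ω_{R/V} as p^n Ω_{R/V} ⊆ ϖ p^n Ω_{R/V} + Σ_i R dx'_i. If y_1,
…, y_d lie in the subring of R generated by the p^(n+1)-th powers of elements of R, then the
morphism f = f' + (y_1, …, y_d) has the same property: p^n Ω_{R/V} ⊆ ϖ p^n Ω_{R/V} + Σ_i R d(x'_i +
y_i). -/
theorem result (V : Type u) [CommRing V] [IsDomain V] [IsDiscreteValuationRing V] [CharZero V]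
    (ϖ : V) (hϖ : Irreducible ϖ) (p : ℕ) [Fact p.Prime] [CharP (IsLocalRing.ResidueField V) p]
    [PerfectField (IsLocalRing.ResidueField V)]
    (R : Type u) [CommRing R] [Algebra V R] [Algebra.FiniteType V R] (d n : ℕ) (x' : Fin d → R)
    (hx' : Ideal.span {((p : R)) ^ n} • (⊤ : Submodule R (Ω[R⁄V])) ≤
      Ideal.span {algebraMap V R ϖ * (p : R) ^ n} • (⊤ : Submodule R (Ω[R⁄V])) ⊔
        Submodule.span R (Set.range fun i => KaehlerDifferential.D V R (x' i)))
    (y : Fin d → R) (hy : ∀ i, y i ∈ Subring.closure (Set.range fun r : R => r ^ (p ^ (n + 1)))) :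
    Ideal.span {((p : R)) ^ n} • (⊤ : Submodule R (Ω[R⁄V])) ≤
      Ideal.span {algebraMap V R ϖ * (p : R) ^ n} • (⊤ : Submodule R (Ω[R⁄V])) ⊔
        Submodule.span R (Set.range fun i => KaehlerDifferential.D V R (x' i + y i)) := by
  exact Aux.main V ϖ hϖ p R d n x' hx' y hy

end Groth.Agent.S14384
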