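import Groth.Statements.S14385
import Groth.Agent.Lib.Helper3.EtaNN
import Groth.Agent.S14383

set_option autoImplicit false
open scoped TensorProduct
open AlgebraicGeometry
universe u
open CAlg

namespace Groth.Agent.S14385

/-- Let V be a discrete valuation ring of characteristic zero with uniformizer ϖ, whose residue field k
is perfect of characteristic p > 0, with fraction field K; let R be a flat V-algebra of finite type
such that the generic fibre Spec(K ⊗_V R) → Spec K is smooth of relative dimension d; and suppose
some d-tuple x' of elements of R defines a morphism f' from Spec R to affine d-space over V which is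
η-étale, meaning that for some a ∈ R with (a) + (ϖ) = R the localisation R[1/(aϖ)] is étale over
V[T_1, …, T_d] via T_i ↦ x'_i (f' is étale on the generic fibre of an open neighbourhood of the
closed fibre). Then there is a d-tuple x in R whose morphism f is η-étale in the same sense and
finite on each fibre: k ⊗_V R is finite over k[T_1, …, T_d] and K ⊗_V R is finite over K[T_1, …,
T_d] via T_i ↦ 1 ⊗ x_i. -/
theorem result (V : Type u) [CommRing V] [IsDomain V] [IsDiscreteValuationRing V] [CharZero V]
    (ϖ : V) (hϖ : Irreducible ϖ) (p : ℕ) [Fact p.Prime] [CharP (IsLocalRing.ResidueField V) p]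
    [PerfectField (IsLocalRing.ResidueField V)]
    (R : Type u) [CommRing R] [Algebra V R] [Module.Flat V R] [Algebra.FiniteType V R] (d : ℕ)
    (hsm : SmoothOfRelativeDimension d
      (Spec.map (CommRingCat.ofHom (algebraMap (FractionRing V) (FractionRing V ⊗[V] R)))))
    (x' : Fin d → R) (hx' : (∃ a : R, Ideal.span {a} ⊔ Ideal.span {algebraMap V R ϖ} = ⊤ ∧
        ((algebraMap R (Localization.Away (a * algebraMap V R ϖ))).comp
          (MvPolynomial.aeval x' : MvPolynomial (Fin d) V →ₐ[V] R).toRingHom).Etale)) :
    ∃ x : Fin d → R, (∃ a : R, Ideal.span {a} ⊔ Ideal.span {algebraMap V R ϖ} = ⊤ ∧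
        ((algebraMap R (Localization.Away (a * algebraMap V R ϖ))).comp
          (MvPolynomial.aeval x : MvPolynomial (Fin d) V →ₐ[V] R).toRingHom).Etale) ∧
      (MvPolynomial.aeval (fun i => (1 : IsLocalRing.ResidueField V) ⊗ₜ[V] x i) :
          MvPolynomial (Fin d) (IsLocalRing.ResidueField V) →ₐ[IsLocalRing.ResidueField V]
            IsLocalRing.ResidueField V ⊗[V] R).toRingHom.Finite ∧
      (MvPolynomial.aeval (fun i => (1 : FractionRing V) ⊗ₜ[V] x i) :
          MvPolynomial (Fin d) (FractionRing V) →ₐ[FractionRing V] FractionRing V ⊗[V] R).toRingHom.Finite := by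
  classical
  obtain ⟨n, y, hdec, hfk, hfK⟩ := Groth.Agent.Lib.Helper3.EtaNN.main V ϖ hϖ p R d hsm x'
    (Groth.Agent.S14383.result V ϖ hϖ p (MvPolynomial (Fin d) V) R).1 hx'
  refine ⟨fun i => x' i + y i, ?_, hfk, hfK⟩
  letI alg'' : Algebra (MvPolynomial (Fin d) V) R :=
    (MvPolynomial.aeval (fun i => x' i + y i) : MvPolynomial (Fin d) V →ₐ[V] R).toRingHom.toAlgebra
  haveI : IsScalarTower V (MvPolynomial (Fin d) V) R :=
    IsScalarTower.of_algebraMap_eq (fun v =>
      ((MvPolynomial.aeval (fun i => x' i + y i) :
        MvPolynomial (Fin d) V →ₐ[V] R).commutes v).symm)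
  have hincl := Groth.Agent.Lib.Helper3.EtaNN.incl_of_decomp (fun i => x' i + y i)
    (fun i => by rw [RingHom.algebraMap_toAlgebra]; simp) _ _ hdec
  have hA : SmoothOfRelativeDimension d (Spec.map (CommRingCat.ofHom
      (algebraMap (FractionRing V) (FractionRing V ⊗[V] MvPolynomial (Fin d) V)))) := by
    haveI h1 : Algebra.IsStandardSmoothOfRelativeDimension d V (MvPolynomial (Fin d) V) := by
      have := Groth.Agent.Lib.Helper5.Grass.PolySmooth.isStandardSmoothOfRelativeDimension_mvPolynomial
        V (Fin d)
      rwa [Nat.card_fin] at this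
    rw [HasRingHomProperty.Spec_iff (P := @SmoothOfRelativeDimension d)]
    refine RingHom.locally_of RingHom.isStandardSmoothOfRelativeDimension_respectsIso _ ?_
    change (algebraMap (FractionRing V)
      (FractionRing V ⊗[V] MvPolynomial (Fin d) V)).IsStandardSmoothOfRelativeDimension d
    rw [RingHom.isStandardSmoothOfRelativeDimension_algebraMap]
    infer_instance
  exact (Groth.Agent.S14383.result V ϖ hϖ p (MvPolynomial (Fin d) V) R).2 d hA hsm ⟨n, hincl⟩

end Groth.Agent.S14385
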