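import Groth.Statements.S14388
import Groth.Statements.S14388
import Mathlib

set_option autoImplicit false
open CategoryTheory CategoryTheory.Limits
universe w v u
open CohDer

namespace Groth.Agent.S14388

section abs

open Pretriangulated

variable {C : Type*} [Category C] [Preadditive C] [HasZeroObject C] [HasShift C ℤ]
  [∀ n : ℤ, (shiftFunctor C n).Additive] [Pretriangulated C]

lemma eq_zero_of_comp_mor₁ (T' : Triangle C) (hT' : T' ∈ distTriang C) {W : C}
    (hW : ∀ g : W⟦(1 : ℤ)⟧ ⟶ T'.obj₃, g = 0) (ψ : W ⟶ T'.obj₁) (h : ψ ≫ T'.mor₁ = 0) :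
    ψ = 0 := by
  obtain ⟨g, hg⟩ := Triangle.coyoneda_exact₁ T' hT' (ψ⟦(1 : ℤ)⟧')
    (by rw [← Functor.map_comp, h, Functor.map_zero])
  rw [hW g, zero_comp] at hg
  apply (shiftFunctor C (1 : ℤ)).map_injective
  rw [hg, Functor.map_zero]

lemma existsUnique_factor (T T' : Triangle C) (hT : T ∈ distTriang C) (hT' : T' ∈ distTriang C)
    (φ : T.obj₂ ⟶ T'.obj₂) (h1 : T.mor₁ ≫ φ = 0) (h2 : φ ≫ T'.mor₂ = 0)
    (hZY : ∀ g : T.obj₁⟦(1 : ℤ)⟧ ⟶ T'.obj₃, g = 0)
    (hXY : ∀ g : T.obj₂⟦(1 : ℤ)⟧ ⟶ T'.obj₃, g = 0)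
    (hZZ : ∀ g : T.obj₁⟦(1 : ℤ)⟧ ⟶ T'.obj₁, g = 0) :
    ∃! L : T.obj₃ ⟶ T'.obj₁, φ = T.mor₂ ≫ L ≫ T'.mor₁ := by
  obtain ⟨ψ, hψ⟩ := Triangle.coyoneda_exact₂ T' hT' φ h2
  have h3 : T.mor₁ ≫ ψ = 0 := by
    apply eq_zero_of_comp_mor₁ T' hT' hZY
    rw [Category.assoc, ← hψ, h1]
  obtain ⟨L, hL⟩ := Triangle.yoneda_exact₂ T hT ψ h3
  refine ⟨L, by rw [hψ, hL, Category.assoc], ?_⟩
  intro L' hL'
  have h4 : T.mor₂ ≫ (L' - L) = 0 := by
    apply eq_zero_of_comp_mor₁ T' hT' hXY
    rw [Category.assoc, Preadditive.sub_comp, Preadditive.comp_sub, ← hL', hψ, hL,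
      Category.assoc, sub_self]
  obtain ⟨D, hD⟩ := Triangle.yoneda_exact₃ T hT (L' - L) h4
  rw [hZZ D, comp_zero] at hD
  exact sub_eq_zero.mp hD

end abs

section tstr

open Pretriangulated Triangulated

variable {C : Type*} [Category C] [Preadditive C] [HasZeroObject C] [HasShift C ℤ]
  [∀ n : ℤ, (shiftFunctor C n).Additive] [Pretriangulated C] [IsTriangulated C] (t : TStructure C)

lemma tstr_result {K K' : C} (f : K ⟶ K') (q : ℤ)
    (h₁ : (t.truncGELT (q - 1) q).map f = 0) (h₂ : (t.truncGELT q (q + 1)).map f = 0) :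
    ∃! L : (t.truncGELT q (q + 1)).obj K ⟶ (t.truncGELT (q - 1) q).obj K',
      (t.truncGELT (q - 1) (q + 1)).map f =
        (t.natTransTruncGEOfLE (q - 1) q (sub_one_lt q).le).app ((t.truncLT (q + 1)).obj K) ≫ L ≫
          (t.truncGE (q - 1)).map
            ((t.natTransTruncLTOfLE q (q + 1) (lt_add_one q).le).app K') := by
  have hab : ((q - 1 : ℤ) : EInt) ≤ ((q : ℤ) : EInt) := by simp
  have hbc : ((q : ℤ) : EInt) ≤ ((q + 1 : ℤ) : EInt) := by simp
  let F := t.triangleω₁δ _ _ _ hab hbc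
  have m1 : (F.obj K').mor₁ = (t.truncGE (q - 1)).map
      ((t.natTransTruncLTOfLE q (q + 1) (lt_add_one q).le).app K') := by
    dsimp [F]
    simp
    rfl
  have m2 : (F.obj K).mor₂ = (t.natTransTruncGEOfLE (q - 1) q (sub_one_lt q).le).app
      ((t.truncLT (q + 1)).obj K) := by
    simp [F]
    rfl
  have f1 : (F.map f).hom₁ = 0 := h₁
  have f2 : (F.map f).hom₂ = (t.truncGELT (q - 1) (q + 1)).map f := rfl
  have f3 : (F.map f).hom₃ = 0 := h₂
  have hT : F.obj K ∈ distTriang C := t.triangleω₁δ_distinguished _ _ _ hab hbc K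
  have hT' : F.obj K' ∈ distTriang C := t.triangleω₁δ_distinguished _ _ _ hab hbc K'
  have i1 : t.IsLE (((t.truncGELT (q - 1) q).obj K)⟦(1 : ℤ)⟧) (q - 2) :=
    t.isLE_shift ((t.truncGELT (q - 1) q).obj K) (q - 1) 1 (q - 2)
  have i2 : t.IsLE (((t.truncGELT (q - 1) (q + 1)).obj K)⟦(1 : ℤ)⟧) (q - 1) :=
    t.isLE_shift ((t.truncGELT (q - 1) (q + 1)).obj K) (q + 1 - 1) 1 (q - 1)
  have i3 : t.IsGE ((t.truncGELT q (q + 1)).obj K') q := inferInstance
  have i4 : t.IsGE ((t.truncGELT (q - 1) q).obj K') (q - 1) := inferInstance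
  have key := existsUnique_factor (F.obj K) (F.obj K') hT hT' ((F.map f).hom₂)
    (by rw [(F.map f).comm₁, f1, zero_comp])
    (by rw [← (F.map f).comm₂, f3, comp_zero])
    (fun g => t.zero_of_isLE_of_isGE g (q - 2) q (by lia) i1 i3)
    (fun g => t.zero_of_isLE_of_isGE g (q - 1) q (by lia) i2 i3)
    (fun g => t.zero_of_isLE_of_isGE g (q - 2) (q - 1) (by lia) i1 i4)
  rw [m1, m2, f2] at key
  exact key

end tstr

section bridge

open DerivedCategory Pretriangulated Triangulated

variable {C : Type u} [Category.{v} C] [Abelian C] [HasDerivedCategory.{w} C]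

lemma eq_zero_of_homologyMap_eq_zero {Y Y' : DerivedCategory C} (q : ℤ)
    [Y.IsGE q] [Y.IsLE q] [Y'.IsGE q] [Y'.IsLE q] (g : Y ⟶ Y')
    (hg : (homologyFunctor C q).map g = 0) : g = 0 := by
  obtain ⟨A, ⟨e⟩⟩ := exists_iso_singleFunctor_obj_of_isGE_of_isLE Y q
  obtain ⟨A', ⟨e'⟩⟩ := exists_iso_singleFunctor_obj_of_isGE_of_isLE Y' q
  obtain ⟨α, hα⟩ := (singleFunctor C q).map_surjective (e.inv ≫ g ≫ e'.hom)
  have h0 : (homologyFunctor C q).map ((singleFunctor C q).map α) = 0 := by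
    rw [hα, Functor.map_comp, Functor.map_comp, hg, zero_comp, comp_zero]
  have hα0 : α = 0 := by
    have nat := NatIso.naturality_1 (singleFunctorCompHomologyFunctorIso C q) α
    dsimp at nat
    rw [← nat, h0, zero_comp, comp_zero]
  subst hα0
  rw [Functor.map_zero] at hα
  have : g = e.hom ≫ (e.inv ≫ g ≫ e'.hom) ≫ e'.inv := by simp
  rw [this, ← hα, zero_comp, comp_zero]

lemma truncGELT_map_eq_zero {K K' : DerivedCategory C} (f : K ⟶ K') (q : ℤ)
    (h : (homologyFunctor C q).map f = 0) :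
    ((TStructure.t (C := C)).truncGELT q (q + 1)).map f = 0 := by
  let t := (TStructure.t (C := C))
  have hmono : Mono ((homologyFunctor C q).map ((t.truncLTι (q + 1)).app K')) := by
    have := (HomologySequence.mono_homologyMap_mor₁_iff _
      (t.triangleLTGE_distinguished (q + 1) K') (q - 1) q (by lia)).2
    apply this
    apply IsZero.eq_of_src
    exact isZero_of_isGE ((t.truncGE (q + 1)).obj K') (q + 1) (q - 1) (by lia)
  have h1 : (homologyFunctor C q).map ((t.truncLT (q + 1)).map f) = 0 := by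
    rw [← cancel_mono ((homologyFunctor C q).map ((t.truncLTι (q + 1)).app K')), zero_comp,
      ← Functor.map_comp]
    have := (t.truncLTι (q + 1)).naturality f
    dsimp at this
    rw [this, Functor.map_comp, h, comp_zero]
  have hepi : Epi ((homologyFunctor C q).map
      ((t.truncGEπ q).app ((t.truncLT (q + 1)).obj K))) := by
    have := (HomologySequence.epi_homologyMap_mor₂_iff _
      (t.triangleLTGE_distinguished q ((t.truncLT (q + 1)).obj K)) q (q + 1) (by lia)).2
    apply this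
    apply IsZero.eq_of_tgt
    exact isZero_of_isLE ((t.truncLT q).obj ((t.truncLT (q + 1)).obj K)) (q - 1) (q + 1) (by lia)
  have h2 : (homologyFunctor C q).map ((t.truncGELT q (q + 1)).map f) = 0 := by
    rw [← cancel_epi ((homologyFunctor C q).map
      ((t.truncGEπ q).app ((t.truncLT (q + 1)).obj K))), comp_zero, ← Functor.map_comp]
    have := (t.truncGEπ q).naturality ((t.truncLT (q + 1)).map f)
    dsimp at this
    dsimp
    rw [← this, Functor.map_comp, h1, zero_comp]
  have : t.IsLE ((t.truncGELT q (q + 1)).obj K) q :=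
    t.isLE_of_le _ (q + 1 - 1) q (by lia)
  have : t.IsLE ((t.truncGELT q (q + 1)).obj K') q :=
    t.isLE_of_le _ (q + 1 - 1) q (by lia)
  exact eq_zero_of_homologyMap_eq_zero q _ h2

end bridge

/-- Let A be an abelian category, D(A) its derived category with the canonical t-structure and
truncation functors τ_{≥a}, τ_{<b}, and write τ_[a,b] = τ_{≥a} ∘ τ_{<b+1}, so that τ_[q,q] K is
H^q(K) placed in degree q. Let f : K → K' be a morphism in D(A) and q an integer such that the
induced maps H^(q-1)(K) → H^(q-1)(K') and H^q(K) → H^q(K') are both zero. Then there is a unique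
morphism L : τ_[q,q] K → τ_[q-1,q-1] K' such that τ_[q-1,q](f) : τ_[q-1,q] K → τ_[q-1,q] K' is the
composite of the canonical projection τ_[q-1,q] K → τ_[q,q] K, the morphism L, and the canonical
inclusion τ_[q-1,q-1] K' → τ_[q-1,q] K'. (Under τ_[n,n] ≅ H^n(−)[−n] the morphism L corresponds to a
morphism L_f[−q] : H^q(K)[−q] → H^(q-1)(K')[1−q].) -/
theorem result {C : Type u} [Category.{v} C] [Abelian C]
    [HasDerivedCategory.{w} C] {K K' : DerivedCategory C} (f : K ⟶ K') (q : ℤ)
    (h₁ : (DerivedCategory.homologyFunctor C (q - 1)).map f = 0)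
    (h₂ : (DerivedCategory.homologyFunctor C q).map f = 0) :
    ∃! L : ((DerivedCategory.TStructure.t (C := C)).truncGELT q (q + 1)).obj K ⟶
        ((DerivedCategory.TStructure.t (C := C)).truncGELT (q - 1) q).obj K',
      ((DerivedCategory.TStructure.t (C := C)).truncGELT (q - 1) (q + 1)).map f =
        ((DerivedCategory.TStructure.t (C := C)).natTransTruncGEOfLE (q - 1) q (sub_one_lt q).le).app
            (((DerivedCategory.TStructure.t (C := C)).truncLT (q + 1)).obj K) ≫ L ≫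
          ((DerivedCategory.TStructure.t (C := C)).truncGE (q - 1)).map
            (((DerivedCategory.TStructure.t (C := C)).natTransTruncLTOfLE q (q + 1) (lt_add_one q).le).app K') := by
  have e1 := truncGELT_map_eq_zero f (q - 1) h₁
  have e2 := truncGELT_map_eq_zero f q h₂
  have hq : q - 1 + 1 = q := by lia
  rw [hq] at e1
  exact tstr_result _ f q e1 e2

end Groth.Agent.S14388
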