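import Groth.Statements.S14389
import Mathlib
import Groth.Prelude.Def_EtLim
import Groth.Agent.Lib.Helper9.FE.EtTr
import Groth.Agent.S0623
-- import your own Groth.Agent.* helpers here

set_option autoImplicit false
open CategoryTheory CategoryTheory.Limits AlgebraicGeometry Opposite
universe u
open EtLim

namespace Groth.Agent.S14389

open CategoryTheory CategoryTheory.Limits AlgebraicGeometry Opposite
open EtLim
namespace Aux
set_option backward.isDefEq.respectTransparency false
set_option linter.style.haveILetI false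
set_option linter.unusedSectionVars false
open H9FE.EtTr

theorem pushCongr_trans {X Y : Scheme.{u}} {a b : X ⟶ Y} (h : a = b) (F : EtCoh.Ab X) :
    (EtCoh.pushCongr h).hom.app F ≫ (EtCoh.pushCongr h.symm).hom.app F = 𝟙 _ := by
  subst h
  rw [pushCongr_rfl_app, Category.comp_id]

theorem main {X Y X' Y' : Scheme.{u}} (f : X ⟶ Y)
    (g : Y' ⟶ Y) (f' : X' ⟶ Y') (g' : X' ⟶ X) (w : g' ≫ f = f' ≫ g) (F : EtCoh.Ab X) (q : ℕ)
    [PreservesFiniteLimits (EtCoh.pull f)] [PreservesFiniteLimits (EtCoh.pull g)]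
    [PreservesFiniteLimits (EtCoh.pull f')] [PreservesFiniteLimits (EtCoh.pull g')]
    (ζ : EtCoh.H Y ((EtCoh.push f).obj F) q) :
    EtCore.Hpull g' F q (EtLim.HofPush f F q ζ) =
      EtLim.HofPush f' ((EtCoh.pull g').obj F) q
        (((EtCoh.HF Y' q).map (EtCoh.baseChange0 f g f' g' w F)).hom
          (EtCore.Hpull g ((EtCoh.push f).obj F) q ζ)) := by
  haveI : PreservesFiniteLimits (EtCoh.pull (g' ≫ f)) := Groth.Agent.S0623.lexPull _
  rw [Hpull_eq_tr, HofPush_eq, HofPush_eq, Hpull_eq_tr, ← tr_comp_right]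
  have e1 := tr_comp g' f (𝟙 ((EtCoh.push f).obj F)) ((EtCoh.pullPushAdj g').unit.app F) q ζ
  have e2 := tr_comp' f' g w.symm ((EtCoh.pullPushAdj g).unit.app ((EtCoh.push f).obj F) ≫
    (EtCoh.push g).map (EtCoh.baseChange0 f g f' g' w F))
    (𝟙 ((EtCoh.push f').obj ((EtCoh.pull g').obj F))) q ζ
  refine e1.trans (Eq.trans ?_ e2.symm)
  congr 2
  have hb : (EtCoh.pullPushAdj g).unit.app ((EtCoh.push f).obj F) ≫
      (EtCoh.push g).map (EtCoh.baseChange0 f g f' g' w F) =
      (EtCoh.push f).map ((EtCoh.pullPushAdj g').unit.app F) ≫ (EtCoh.pushComp f g').hom.app _ ≫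
        (EtCoh.pushCongr w).hom.app _ ≫ (EtCoh.pushComp g f').inv.app _ := by
    unfold EtCoh.baseChange0
    exact ((EtCoh.pullPushAdj g).homEquiv_unit _ _ _).symm.trans (Equiv.apply_symm_apply _ _)
  rw [hb]
  simp only [Category.assoc, CategoryTheory.Functor.map_id, Category.id_comp]
  rw [Iso.inv_hom_id_app_assoc, pushCongr_trans]
  simp
end Aux

/-- For small étale sites of schemes: let g' ≫ f = f' ≫ g be a commutative square of schemes with f : X
→ Y, g : Y' → Y, f' : X' → Y', g' : X' → X, and let F be an abelian sheaf on the small étale site of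
X. For every q and every class ζ in H^q(Y_ét, f_*F), the pullback along g' of the image of ζ under
the canonical map H^q(Y, f_*F) → H^q(X, F) (pull back along f, then apply the counit f⁻¹f_*F → F)
equals the image of g^*ζ ∈ H^q(Y', g⁻¹f_*F) under the map induced by the base-change morphism
g⁻¹f_*F → f'_*g'⁻¹F followed by the canonical map H^q(Y', f'_*g'⁻¹F) → H^q(X', g'⁻¹F). (The
published statement is for a commutative square of topoi with a chosen isomorphism f_*g'_* ≅
g_*f'_*; this row is the square of étale topoi of schemes. Exactness of pullback of abelian sheaves,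
which always holds, is carried as instance hypotheses.) -/
theorem result {X Y X' Y' : Scheme.{u}} (f : X ⟶ Y)
    (g : Y' ⟶ Y) (f' : X' ⟶ Y') (g' : X' ⟶ X) (w : g' ≫ f = f' ≫ g) (F : EtCoh.Ab X) (q : ℕ)
    [PreservesFiniteLimits (EtCoh.pull f)] [PreservesFiniteLimits (EtCoh.pull g)]
    [PreservesFiniteLimits (EtCoh.pull f')] [PreservesFiniteLimits (EtCoh.pull g')]
    (ζ : EtCoh.H Y ((EtCoh.push f).obj F) q) :
    EtCore.Hpull g' F q (EtLim.HofPush f F q ζ) =
      EtLim.HofPush f' ((EtCoh.pull g').obj F) q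
        (((EtCoh.HF Y' q).map (EtCoh.baseChange0 f g f' g' w F)).hom
          (EtCore.Hpull g ((EtCoh.push f).obj F) q ζ)) := by
  exact Aux.main f g f' g' w F q ζ

end Groth.Agent.S14389
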