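import Groth.Statements.S14397
import Mathlib

set_option autoImplicit false
universe u
open DualGr

namespace Groth.Agent.S14397

/-- Let (V, E) with endpoint map E → V × V be a finite multigraph (loops and parallel edges allowed; the
order of the two endpoints is an auxiliary orientation), and let D_1, …, D_n be finite sets of edges
such that every edge lies outside at least one D_i. For each i let Γ_i be the multigraph obtained by
contracting the edges of D_i, and let H₁(Γ, ℤ) → H₁(Γ_i, ℤ) be the map of cycle lattices (integer
edge vectors with zero boundary) given by restriction to the surviving edges. Then the map H₁(Γ, ℤ)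
→ ⊕_i H₁(Γ_i, ℤ) has torsion-free cokernel. (The published statement is about the connected labelled
dual graph of the closed fibre of a nodal curve, smooth outside a normal crossing divisor with
components D_1, …, D_n, over a Noetherian regular strictly local base; Γ_i is the dual graph of the
fibre over the generic point of D_i, the lattices are identified with the character groups of the
toric parts of the Picard schemes of these fibres, and the map is the generization map of character
groups; this row states the assertion about cycle lattices, for any finite multigraph, which is what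
the argument establishes.) -/
theorem result
    {V E : Type u} [Fintype V] [Fintype E] [DecidableEq V] [DecidableEq E]
    (ends : E → V × V) {n : ℕ} (D : Fin n → Finset E) (hcover : ∀ e : E, ∃ i : Fin n, e ∉ D i) :
    IsAddTorsionFree (((i : Fin n) → ↥(DualGr.cycleLattice (DualGr.ctrEnds ends (D i)))) ⧸
      LinearMap.range (LinearMap.pi fun i : Fin n => DualGr.genMap ends (D i))) := by
  classical
  refine ⟨fun k hn x y h => ?_⟩
  obtain ⟨a, rfl⟩ := Submodule.Quotient.mk_surjective _ x
  obtain ⟨b, rfl⟩ := Submodule.Quotient.mk_surjective _ y
  simp only at h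
  rw [← Submodule.Quotient.mk_smul, ← Submodule.Quotient.mk_smul, Submodule.Quotient.eq] at h
  rw [Submodule.Quotient.eq]
  obtain ⟨γ, hγ⟩ := h
  have hnz : (k : ℤ) ≠ 0 := by exact_mod_cast hn
  -- set c = a - b
  have hc : ∀ i, DualGr.genMap ends (D i) γ = k • (a i - b i) := by
    intro i
    have := congrFun hγ i
    simp only [LinearMap.pi_apply] at this
    rw [this]
    simp [smul_sub]
  have hval : ∀ (i : Fin n) (e : E) (he : e ∉ D i), γ.1 e = (k : ℤ) * ((a i - b i).1 ⟨e, he⟩) := by
    intro i e he
    have h1 := congrArg (fun z : ↥(DualGr.cycleLattice (DualGr.ctrEnds ends (D i))) => z.1 ⟨e, he⟩) (hc i)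
    simp only [DualGr.genMap, LinearMap.codRestrict_apply, LinearMap.comp_apply, Submodule.subtype_apply,
      DualGr.resE, LinearMap.coe_mk, AddHom.coe_mk] at h1
    rw [h1]
    simp
  have hdvd : ∀ e, (k : ℤ) ∣ γ.1 e := by
    intro e
    obtain ⟨i, hi⟩ := hcover e
    exact ⟨_, hval i e hi⟩
  let γ' : E → ℤ := fun e => γ.1 e / (k : ℤ)
  have hγ' : γ.1 = (k : ℤ) • γ' := by
    funext e
    simp only [Pi.smul_apply, smul_eq_mul, γ']
    rw [Int.mul_ediv_cancel' (hdvd e)]
  have hmem : γ' ∈ DualGr.cycleLattice ends := by
    have h0 : DualGr.boundaryHom ends γ.1 = 0 := γ.2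
    rw [hγ', map_smul] at h0
    change DualGr.boundaryHom ends γ' = 0
    rcases smul_eq_zero.1 h0 with h1 | h1
    · exact absurd h1 hnz
    · exact h1
  refine ⟨⟨γ', hmem⟩, ?_⟩
  funext i
  simp only [LinearMap.pi_apply]
  apply Subtype.ext
  funext e
  have h2 := hval i e.1 e.2
  have h3 : γ.1 e.1 = (k : ℤ) * γ' e.1 := by
    have := congrFun hγ' e.1
    simpa using this
  rw [h3] at h2
  have h4 := mul_left_cancel₀ hnz h2
  simp only [DualGr.genMap, LinearMap.codRestrict_apply, LinearMap.comp_apply, Submodule.subtype_apply,
      DualGr.resE, LinearMap.coe_mk, AddHom.coe_mk]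
  exact h4

end Groth.Agent.S14397
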