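import Groth.Statements.S14399
import Mathlib
import Groth.Agent.Lib.Helper1.SemiF2
import Groth.Agent.Lib.Helper1.SemiF3

set_option autoImplicit false
universe u
open CategoryTheory AlgebraicGeometry
open SemiFact

namespace Groth.Agent.S14399

/-- Let R be a discrete valuation ring with perfect fraction field K and residue field k, and f : X →
Spec R a nodal curve (proper, flat, locally of finite presentation, geometric fibres connected with
one-dimensional irreducible components and at most ordinary double points) whose special fibre X_k
has split singularities: every closed point of X_k either has an open neighbourhood smooth over k or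
has completed local ring isomorphic over k to k[[u,v]]/(uv). Let L be an invertible O_X-module whose
pullback to the generic fibre X_K is isomorphic to the structure sheaf. If the degree over k of the
restriction of L to every irreducible component of X_k — each taken with its reduced structure, as
an integral curve over k closed-immersed in X over Spec R — is zero, then L is isomorphic to O_X.
(The published lemma states that the multidegree of generically trivial invertible modules is
computed by the multidegree operator on Cartier vertex labellings of the labelled dual graph, and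
its proof records that this multidegree map on generically trivial invertible modules is injective;
this row is that injectivity.) -/
theorem result
    (R : Type u) [CommRing R] [IsDomain R] [IsDiscreteValuationRing R]
    [PerfectField (FractionRing R)]
    {X : Scheme.{u}} (f : X ⟶ Spec (CommRingCat.of R)) [IsProper f]
    (hf : Curv2.IsNodalFamily f)
    (hconn : ∀ (L : Type u) [Field L] (t : Spec (CommRingCat.of L) ⟶ Spec (CommRingCat.of R)),
      ConnectedSpace ↑(Limits.pullback f t))
    (hsplit : ∀ y : ↥(f.fiber (IsLocalRing.closedPoint R)), IsClosed ({y} : Set ↥(f.fiber (IsLocalRing.closedPoint R))) →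
        (∃ W : (f.fiber (IsLocalRing.closedPoint R)).Opens, y ∈ W ∧ Smooth (W.ι ≫ f.fiberToSpecResidueField (IsLocalRing.closedPoint R))) ∨
        @Curv2.IsOrdDoublePt ((Spec (CommRingCat.of R)).residueField (IsLocalRing.closedPoint R)) _ ((f.fiber (IsLocalRing.closedPoint R)).presheaf.stalk y) _ (@Curv2.stalkAlgebra ((Spec (CommRingCat.of R)).residueField (IsLocalRing.closedPoint R)) _ (f.fiber (IsLocalRing.closedPoint R)) ⟨f.fiberToSpecResidueField (IsLocalRing.closedPoint R)⟩ y) _)
    (L : X.Modules) (hL : PicF.IsInvertible L)
    (hgen : Nonempty ((Scheme.Modules.pullback (Limits.pullback.fst f (Neron.genPt R))).obj L ≅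
      Coh.structureModule (Limits.pullback f (Neron.genPt R))))
    (hdeg : ∀ Γ : ArSurf.VertComp R (Over.mk f), ArSurf.inter R (Over.mk f) L Γ = 0) :
    Nonempty (L ≅ Coh.structureModule X) := by
  obtain ⟨hflat, hlfp, hfib⟩ := hf
  haveI := hflat
  obtain ⟨hdim, -⟩ := hfib (IsLocalRing.closedPoint R)
  haveI : IsProper (Over.mk f).hom := ‹IsProper f›
  haveI : Flat (Over.mk f).hom := hflat
  haveI : IsReduced ((Over.mk f).hom.fiber (IsLocalRing.closedPoint R)) := by
    haveI : LocallyOfFiniteType (f.fiberToSpecResidueField (IsLocalRing.closedPoint R)) :=
      MorphismProperty.pullback_snd (P := @LocallyOfFiniteType) f _ inferInstance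
    exact Groth.Agent.Helper1.SemiF.isReduced_of_split
      ((Spec (CommRingCat.of R)).residueField (IsLocalRing.closedPoint R))
      (f.fiber (IsLocalRing.closedPoint R))
      (f.fiberToSpecResidueField (IsLocalRing.closedPoint R)) hsplit
  haveI : ConnectedSpace ((Over.mk f).hom.fiber (IsLocalRing.closedPoint R)) :=
    hconn _ ((Spec (CommRingCat.of R)).fromSpecResidueField (IsLocalRing.closedPoint R))
  exact Groth.Agent.Helper1.SemiF.trivial_of_inter_le R (Over.mk f) hdim
    (Limits.pullback.snd f (Neron.genPt R)) (Limits.pullback.fst f (Neron.genPt R))
    (IsPullback.of_hasPullback f (Neron.genPt R)) L hL hgen (fun Γ => (hdeg Γ).le)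

end Groth.Agent.S14399
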