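import Groth.Statements.S14400
-- import your own Groth.Agent.* helpers here
import Groth.Agent.Lib.Helper7.GalDesc

set_option autoImplicit false
universe u
open CategoryTheory CategoryTheory.Limits AlgebraicGeometry
open Desc

namespace Groth.Agent.S14400

/-- Let K/k be a finite Galois extension of fields, X and Y schemes over k with base changes X_K and
Y_K, and g : X_K ⟶ Y_K a morphism over Spec K. Then g is the base change of a k-morphism f : X ⟶ Y
(that is, g followed by the projection Y_K ⟶ Y is the projection X_K ⟶ X followed by f) if and only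
if g commutes with the action of every k-automorphism σ of K on X_K and on Y_K (the identity on X,
resp. Y, and Spec σ on the factor Spec K). In other words the image of the k-morphisms X ⟶ Y among
the K-morphisms X_K ⟶ Y_K is exactly the set of Galois-invariant ones. -/
theorem result (k : Type u) [Field k] (K : Type u) [Field K]
    [Algebra k K] [FiniteDimensional k K] [IsGalois k K]
    (X Y : Scheme.{u}) [X.Over (Spec (CommRingCat.of k))] [Y.Over (Spec (CommRingCat.of k))]
    (g : Curv2.bc k X K ⟶ Curv2.bc k Y K) (hg : g ≫ Curv2.bcSnd k Y K = Curv2.bcSnd k X K) :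
    (∃ f : X ⟶ Y, f ≫ (Y ↘ Spec (CommRingCat.of k)) = X ↘ Spec (CommRingCat.of k) ∧
        g ≫ Curv2.bcFst k Y K = Curv2.bcFst k X K ≫ f) ↔
      ∀ σ : K ≃ₐ[k] K, Curv2.galAct k X K σ ≫ g = g ≫ Curv2.galAct k Y K σ := by
  have hX1 : ∀ σ : K ≃ₐ[k] K, Curv2.galAct k X K σ ≫ Limits.pullback.fst _ _ =
      Limits.pullback.fst (X ↘ Spec (CommRingCat.of k)) _ := by
    intro σ
    unfold Curv2.galAct Limits.pullback.map
    rw [Limits.pullback.lift_fst, Category.comp_id]
  have hX2 : ∀ σ : K ≃ₐ[k] K, Curv2.galAct k X K σ ≫ Limits.pullback.snd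
      (X ↘ Spec (CommRingCat.of k)) (Spec.map (CommRingCat.ofHom (algebraMap k K))) =
      Limits.pullback.snd _ _ ≫ Spec.map (CommRingCat.ofHom (σ : K →+* K)) := by
    intro σ
    unfold Curv2.galAct Limits.pullback.map
    rw [Limits.pullback.lift_snd]
    rfl
  have hY1 : ∀ σ : K ≃ₐ[k] K, Curv2.galAct k Y K σ ≫ Limits.pullback.fst _ _ =
      Limits.pullback.fst (Y ↘ Spec (CommRingCat.of k)) _ := by
    intro σ
    unfold Curv2.galAct Limits.pullback.map
    rw [Limits.pullback.lift_fst, Category.comp_id]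
  have hY2 : ∀ σ : K ≃ₐ[k] K, Curv2.galAct k Y K σ ≫ Limits.pullback.snd
      (Y ↘ Spec (CommRingCat.of k)) (Spec.map (CommRingCat.ofHom (algebraMap k K))) =
      Limits.pullback.snd _ _ ≫ Spec.map (CommRingCat.ofHom (σ : K →+* K)) := by
    intro σ
    unfold Curv2.galAct Limits.pullback.map
    rw [Limits.pullback.lift_snd]
    rfl
  exact Groth.Agent.Helper7.GalOrb.main14400 (X ↘ Spec (CommRingCat.of k))
    (Y ↘ Spec (CommRingCat.of k)) (Curv2.galAct k X K) hX1 hX2 (Curv2.galAct k Y K) hY1 hY2 g hg

end Groth.Agent.S14400
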