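import Groth.Statements.S14410
import Groth.Statements.S14410
import Mathlib

set_option autoImplicit false
universe u
open CategoryTheory TopologicalSpace
open CohTop

namespace Groth.Agent.S14410


/-- Let X be a topological space and 0 → F₁ → F₂ → F₃ → 0 a short exact sequence of sheaves of abelian
groups on X. If F₁ and F₃ are flasque (every restriction map is surjective), then F₂ is flasque.
(The published statement is for O_X-modules on a ringed space and is an equivalence; this row states
the implication from the outer terms to the middle term, for the underlying abelian sheaves.) -/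
theorem result (X : TopCat.{u})
    (S : ShortComplex (TopCat.Sheaf AddCommGrpCat.{u} X)) (hS : S.ShortExact)
    [S.X₁.IsFlasque] [S.X₃.IsFlasque] : S.X₂.IsFlasque := by
  refine ⟨fun {U V} i => ?_⟩
  rw [AddCommGrpCat.epi_iff_surjective]
  intro s
  -- extend the image of `s` in `F₃`
  have h3 : Function.Surjective (S.X₃.obj.map i).hom :=
    (AddCommGrpCat.epi_iff_surjective _).1 inferInstance
  have h1 : Function.Surjective (S.X₁.obj.map i).hom :=
    (AddCommGrpCat.epi_iff_surjective _).1 inferInstance
  obtain ⟨t, ht⟩ := h3 ((S.g.hom.app V).hom s)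
  have hg : Function.Surjective (S.g.hom.app U).hom := by
    have : Epi (S.g.hom.app (Opposite.op U.unop)) := TopCat.Sheaf.IsFlasque.epi_of_shortExact hS
    exact (AddCommGrpCat.epi_iff_surjective _).1 this
  obtain ⟨s', hs'⟩ := hg t
  have nat_g : ∀ x : S.X₂.obj.obj U, (S.g.hom.app V).hom ((S.X₂.obj.map i).hom x) =
      (S.X₃.obj.map i).hom ((S.g.hom.app U).hom x) := by
    intro x
    have := S.g.hom.naturality i
    exact congrArg (fun φ => φ.hom x) this
  have nat_f : ∀ x : S.X₁.obj.obj U, (S.f.hom.app V).hom ((S.X₁.obj.map i).hom x) =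
      (S.X₂.obj.map i).hom ((S.f.hom.app U).hom x) := by
    intro x
    have := S.f.hom.naturality i
    exact congrArg (fun φ => φ.hom x) this
  have hker : (S.g.hom.app (Opposite.op V.unop)).hom ((S.X₂.obj.map i).hom s' - s) = 0 := by
    change (S.g.hom.app V).hom ((S.X₂.obj.map i).hom s' - s) = 0
    rw [map_sub, nat_g, hs', ht, sub_self]
  obtain ⟨a, ha⟩ := TopCat.Sheaf.sections_exact_of_left_exact hS.1 hS.2 _ hker
  obtain ⟨a', ha'⟩ := h1 a
  refine ⟨s' - (S.f.hom.app U).hom a', ?_⟩
  rw [map_sub, ← nat_f, ha']
  change (S.X₂.obj.map i).hom s' - (S.f.hom.app V).hom a = s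
  have ha2 : (S.f.hom.app V).hom a = (S.X₂.obj.map i).hom s' - s := ha
  rw [ha2]
  abel

end Groth.Agent.S14410
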