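import Groth.Statements.S14413
import Mathlib
import Groth.Agent.Lib.Helper9.CoverRes
-- import your own Groth.Agent.* helpers here

set_option autoImplicit false
universe u
open CategoryTheory CategoryTheory.Limits
open CAlg

namespace Groth.Agent.S14413

open CategoryTheory CategoryTheory.Limits
open Groth.Agent.Helper9.CoverRes
namespace Aux
universe v

variable {C : Type u} [Category.{v} C] [Abelian C] [EnoughProjectives C]

open Classical in
/-- cover by itself if projective, by `Projective.over` otherwise -/
noncomputable def pcov : Cover C where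
  obj K := if Projective K then K else Projective.over K
  π K := if h : Projective K then eqToHom (if_pos h) else eqToHom (if_neg h) ≫ Projective.π K
  epi K := by
    by_cases h : Projective K
    · simp only [dif_pos h]; infer_instance
    · simp only [dif_neg h]; infer_instance

lemma pcov_obj_projective (K : C) : Projective ((pcov (C := C)).obj K) := by
  by_cases h : Projective K
  · simp only [pcov, if_pos h]; exact h
  · simp only [pcov, if_neg h]; infer_instance

lemma isZero_kernel_pcov_π (K : C) (h : Projective K) : IsZero (kernel ((pcov (C := C)).π K)) := by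
  have : Mono ((pcov (C := C)).π K) := by
    simp only [pcov, dif_pos h]; infer_instance
  exact isZero_kernel_of_mono _

lemma isZero_pcov_obj (K : C) (h : IsZero K) : IsZero ((pcov (C := C)).obj K) := by
  have hp : Projective K := h.projective
  simp only [pcov, if_pos hp]; exact h

lemma stepT (m : ℕ) (W : C) (h : HasProjectiveDimensionLT W m) :
    HasProjectiveDimensionLT (kernel ((pcov (C := C)).π W)) (m - 1) := by
  match m, h with
  | 0, h =>
    have hz : IsZero W := isZero_of_hasProjectiveDimensionLT_zero W
    exact (isZero_kernel_pcov_π W hz.projective).hasProjectiveDimensionLT_zero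
  | 1, h =>
    have hp : Projective W := projective_iff_hasProjectiveDimensionLT_one.2 h
    exact (isZero_kernel_pcov_π W hp).hasProjectiveDimensionLT_zero
  | m + 2, h =>
    have hS : (ShortComplex.mk (kernel.ι ((pcov (C := C)).π W)) ((pcov (C := C)).π W)
        (by simp)).ShortExact :=
      { exact := ShortComplex.exact_of_f_is_kernel _ (kernelIsKernel _) }
    have := pcov_obj_projective W
    have h2 : HasProjectiveDimensionLT ((pcov (C := C)).obj W) (m + 1) :=
      hasProjectiveDimensionLT_of_ge _ 1 (m + 1) (by omega)
    exact hS.hasProjectiveDimensionLT_X₁ (m + 1) h2 h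

variable (Z : C)

lemma ker_d (d : ℕ) (hZ : HasProjectiveDimensionLT Z (d + 1)) (n : ℕ) :
    HasProjectiveDimensionLT (kernel ((cx pcov Z).d (n + 1) n)) (d - 1 - n) := by
  induction n with
  | zero =>
    have h1 := stepT (d + 1) Z hZ
    have h2 := stepT _ _ h1
    rw [cx_d_1_0]
    simp only [succ']
    have e : kernel (pcov.π (kernel (pcov.π Z)) ≫ kernel.ι (pcov.π Z)) ≅
        kernel (pcov.π (kernel ((pcov (C := C)).π Z))) := kernelCompMono _ _
    have h2' : HasProjectiveDimensionLT (kernel (pcov.π (kernel ((pcov (C := C)).π Z)))) (d - 1 - 0) := by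
      simpa using h2
    exact hasProjectiveDimensionLT_of_iso e.symm _
  | succ n ih =>
    have h2 := stepT _ _ ih
    have hd : (cx pcov Z).d (n + 2) (n + 1) = _ :=
      ChainComplex.mk'_d (pcov.obj Z) (succ' pcov (pcov.π Z)).1 (succ' pcov (pcov.π Z)).2.1
        (fun f => succ' pcov f) n
    rw [hd]
    simp only [succ']
    have e := kernelIsIsoComp (ChainComplex.mk'XIso (pcov.obj Z) (succ' pcov (pcov.π Z)).1
      (succ' pcov (pcov.π Z)).2.1 (fun f => succ' pcov f) n).hom
      (pcov.π (kernel ((cx pcov Z).d (n + 1) n)) ≫ kernel.ι ((cx pcov Z).d (n + 1) n))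
    have e2 : kernel (pcov.π (kernel ((cx pcov Z).d (n + 1) n)) ≫
        kernel.ι ((cx pcov Z).d (n + 1) n)) ≅ kernel (pcov.π (kernel ((cx (C := C) pcov Z).d (n + 1) n))) :=
      kernelCompMono _ _
    have h3 : d - 1 - (n + 1) = d - 1 - n - 1 := by omega
    rw [h3]
    have := h2
    exact hasProjectiveDimensionLT_of_iso (e ≪≫ e2).symm _


lemma isZero_X (d : ℕ) (hZ : HasProjectiveDimensionLT Z (d + 1)) (i : ℕ) (hi : d < i) :
    IsZero ((cx pcov Z).X i) := by
  match i, hi with
  | 0, hi => omega
  | 1, hi =>
    have hd : d = 0 := by omega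
    subst hd
    have h1 := stepT 1 Z hZ
    have hz : IsZero (kernel ((pcov (C := C)).π Z)) := isZero_of_hasProjectiveDimensionLT_zero _
    exact isZero_pcov_obj _ hz
  | n + 2, hi =>
    have h := ker_d Z d hZ n
    have h0 : d - 1 - n = 0 := by omega
    rw [h0] at h
    have hz : IsZero (kernel ((cx (C := C) pcov Z).d (n + 1) n)) :=
      isZero_of_hasProjectiveDimensionLT_zero _
    have e : (cx pcov Z).X (n + 2) ≅ (succ' pcov ((cx pcov Z).d (n + 1) n)).1 :=
      ChainComplex.mk'XIso (pcov.obj Z) (succ' pcov (pcov.π Z)).1 (succ' pcov (pcov.π Z)).2.1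
        (fun f => succ' pcov f) n
    exact (isZero_pcov_obj _ hz).of_iso e

lemma projective_X (n : ℕ) : Projective ((cx (C := C) pcov Z).X n) := by
  have := X_induction (C := C) pcov Z (fun _ => True) (fun X => Projective X)
    (fun _ _ _ _ => trivial) (fun X Y e h => h.of_iso e)
    (fun K _ => ⟨trivial, pcov_obj_projective K⟩) (fun _ _ => trivial) trivial n
  exact this.2

/-- the resolution -/
noncomputable def res : ProjectiveResolution Z where
  complex := cx pcov Z
  projective := projective_X Z
  π := aug pcov Z
  quasiIso := quasiIso_aug pcov Z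

theorem main (R : Type u) [CommRing R] (M : ModuleCat.{u} R) (d : ℕ) :
    HasProjectiveDimensionLE M d ↔
      ∃ P : ProjectiveResolution M, ∀ i : ℕ, d < i → IsZero (P.complex.X i) := by
  constructor
  · intro h
    exact ⟨res M, fun i hi => isZero_X M d h i hi⟩
  · rintro ⟨P, hP⟩
    let := HasExt.standard (ModuleCat.{u} R)
    refine (hasProjectiveDimensionLT_iff M (d + 1)).2 ?_
    intro i hi Y x
    obtain ⟨f, hf, rfl⟩ := P.extMk_surjective x (i + 1) rfl
    have : f = 0 := (hP i (by omega)).eq_of_src _ _
    subst this
    exact P.extMk_zero _ _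

end Aux

/-- Let R be a commutative ring, M an R-module and d ≥ 0. Then M has projective dimension at most d in
the sense that Ext^i_R(M, N) = 0 for every i > d and every R-module N (Mathlib's Ext-vanishing
definition) if and only if M has a projective resolution of length at most d, i.e. a projective
resolution P whose terms P_i are zero for all i > d (the definition of pd_R(M) ≤ d by resolutions). -/
theorem result (R : Type u) [CommRing R]
    (M : ModuleCat.{u} R) (d : ℕ) :
    HasProjectiveDimensionLE M d ↔
      ∃ P : ProjectiveResolution M, ∀ i : ℕ, d < i → IsZero (P.complex.X i) := by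
  exact Aux.main R M d

end Groth.Agent.S14413
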