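import Groth.Statements.S14416
import Mathlib

set_option autoImplicit false
universe u
open scoped TensorProduct
open CAlg

namespace Groth.Agent.S14416

/-- Let B → A be a ring map with A a finitely generated B-module such that for every prime ideal p of B
the fibre κ(p) ⊗_B A has dimension at most one over the residue field κ(p). Then B → A is
surjective. In scheme language: a finite morphism whose degree at every point of the target is 0 or
1 is a closed immersion. (The published statement assumes the two schemes Noetherian; that
hypothesis plays no role and is dropped here.) -/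
theorem result
    (B A : Type u) [CommRing B] [CommRing A] [Algebra B A] [Module.Finite B A]
    (h : ∀ p : PrimeSpectrum B,
      Module.finrank p.asIdeal.ResidueField (p.asIdeal.ResidueField ⊗[B] A) ≤ 1) :
    Function.Surjective (algebraMap B A) := by
  classical
  let lin : B →ₗ[B] A := Algebra.linearMap B A
  let C := A ⧸ LinearMap.range lin
  have hC : Subsingleton C := by
    rw [← Module.support_eq_empty_iff (R := B), Set.eq_empty_iff_forall_notMem]
    intro p hp
    rw [Module.mem_support_iff_nontrivial_residueField_tensorProduct] at hp
    set κ := p.asIdeal.ResidueField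
    -- surjectivity of `κ ⊗ B → κ ⊗ A`
    have hsurj : Function.Surjective (lin.lTensor κ) := by
      have hfin : Module.Finite κ (κ ⊗[B] A) := inferInstance
      have hle := h p
      have he : ∀ c : κ, c ⊗ₜ[B] (1 : A) = lin.lTensor κ (c ⊗ₜ[B] (1 : B)) := by
        intro c; simp [lin]
      rcases Nat.le_one_iff_eq_zero_or_eq_one.mp hle with h0 | h1
      · have : Subsingleton (κ ⊗[B] A) := Module.finrank_zero_iff.mp h0
        intro v; exact ⟨0, Subsingleton.elim _ _⟩
      · have hnt : Nontrivial (κ ⊗[B] A) := Module.nontrivial_of_finrank_pos (R := κ) (by rw [h1]; exact Nat.one_pos)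
        have hne : ((1 : κ) ⊗ₜ[B] (1 : A)) ≠ 0 := by
          rw [← Algebra.TensorProduct.one_def]; exact one_ne_zero
        have hspan := (finrank_eq_one_iff_of_nonzero' _ hne).mp h1
        intro v
        obtain ⟨c, hc⟩ := hspan v
        refine ⟨c ⊗ₜ[B] (1 : B), ?_⟩
        rw [← he, ← hc, TensorProduct.smul_tmul', smul_eq_mul, mul_one]
    have hsub : Subsingleton (κ ⊗[B] C) := by
      refine ⟨fun x y => ?_⟩
      have hz : ∀ z : κ ⊗[B] C, z = 0 := by
        intro z
        obtain ⟨w, rfl⟩ := LinearMap.lTensor_surjective κ
          (Submodule.mkQ_surjective (LinearMap.range lin)) z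
        obtain ⟨v, rfl⟩ := hsurj w
        rw [← LinearMap.comp_apply, ← LinearMap.lTensor_comp]
        have : (LinearMap.range lin).mkQ ∘ₗ lin = 0 := by
          ext; simp only [LinearMap.coe_comp, Function.comp_apply, Submodule.mkQ_apply,
            LinearMap.zero_apply, Submodule.Quotient.mk_eq_zero]
          exact ⟨1, rfl⟩
        rw [this, LinearMap.lTensor_zero, LinearMap.zero_apply]
      rw [hz x, hz y]
    exact not_subsingleton _ hsub
  intro a
  have : (LinearMap.range lin).mkQ a = 0 := Subsingleton.elim _ _
  rw [Submodule.mkQ_apply, Submodule.Quotient.mk_eq_zero] at this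
  obtain ⟨b, hb⟩ := this
  exact ⟨b, hb⟩

end Groth.Agent.S14416
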