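import Groth.Statements.S14418
import Mathlib

set_option autoImplicit false
universe u
open CategoryTheory
open CAlg

namespace Groth.Agent.S14418

section
open CategoryTheory

variable {B A : Type u} [CommRing B] [CommRing A] (T : ModuleCat.{u} B ⥤ ModuleCat.{u} A) [T.Additive]

theorem zero_of_equiv {M N : Type u} [AddCommGroup M] [Module B M] [AddCommGroup N] [Module B N]
    (e : M ≃ₗ[B] N) (h : Limits.IsZero (T.obj (ModuleCat.of B N))) :
    Limits.IsZero (T.obj (ModuleCat.of B M)) :=
  Limits.IsZero.of_iso h (T.mapIso e.toModuleIso)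

theorem exact_of_exact
    (hex : ∀ S : ShortComplex (ModuleCat.{u} B), S.ShortExact → Module.Finite B S.X₁ →
      Module.Finite B S.X₂ → Module.Finite B S.X₃ → (S.map T).Exact)
    {N₁ N₂ N₃ : Type u} [AddCommGroup N₁] [Module B N₁] [AddCommGroup N₂] [Module B N₂]
    [AddCommGroup N₃] [Module B N₃] [Module.Finite B N₁] [Module.Finite B N₂] [Module.Finite B N₃]
    (f : N₁ →ₗ[B] N₂) (g : N₂ →ₗ[B] N₃)
    (hf : Function.Injective f) (hg : Function.Surjective g) (hfg : Function.Exact f g) :
    Function.Exact (T.map (ModuleCat.ofHom f)).hom (T.map (ModuleCat.ofHom g)).hom := by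
  have hzero : ModuleCat.ofHom f ≫ ModuleCat.ofHom g = 0 := by
    apply ModuleCat.hom_ext
    apply LinearMap.ext
    intro z
    exact hfg.apply_apply_eq_zero z
  let S : ShortComplex (ModuleCat.{u} B) := ShortComplex.mk (ModuleCat.ofHom f) (ModuleCat.ofHom g) hzero
  have hS : S.ShortExact := by
    refine ModuleCat.shortComplex_shortExact S ?_ ?_ ?_
    · exact hfg
    · exact hf
    · exact hg
  have := hex S hS (inferInstanceAs (Module.Finite B N₁)) (inferInstanceAs (Module.Finite B N₂))
    (inferInstanceAs (Module.Finite B N₃))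
  rw [ShortComplex.ShortExact.moduleCat_exact_iff_function_exact] at this
  exact this

variable [IsNoetherianRing B] [IsLocalRing B] [IsLocalRing A] [Algebra B A]
    [IsLocalHom (algebraMap B A)]

theorem zero_prime
    (hlin : ∀ (N : ModuleCat.{u} B) (b : B),
      T.map (ModuleCat.ofHom (b • (LinearMap.id : N →ₗ[B] N))) =
        ModuleCat.ofHom (algebraMap B A b • (LinearMap.id : T.obj N →ₗ[A] T.obj N)))
    (hfin : ∀ N : ModuleCat.{u} B, Module.Finite B N → Module.Finite A (T.obj N))
    (hex : ∀ S : ShortComplex (ModuleCat.{u} B), S.ShortExact → Module.Finite B S.X₁ →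
      Module.Finite B S.X₂ → Module.Finite B S.X₃ → (S.map T).Exact)
    (p : Ideal B) [p.IsPrime] (hp : ¬ p.IsMaximal)
    (ih : ∀ J : Ideal B, p < J → Limits.IsZero (T.obj (ModuleCat.of B (B ⧸ J)))) :
    Limits.IsZero (T.obj (ModuleCat.of B (B ⧸ p))) := by
  rw [ModuleCat.isZero_iff_subsingleton]
  have hfinN : Module.Finite A (T.obj (ModuleCat.of B (B ⧸ p))) :=
    hfin _ (inferInstanceAs (Module.Finite B (B ⧸ p)))
  have hpm : p < IsLocalRing.maximalIdeal B :=
    lt_of_le_of_ne (IsLocalRing.le_maximalIdeal (Ideal.IsPrime.ne_top inferInstance))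
      (fun h => hp (h ▸ IsLocalRing.maximalIdeal.isMaximal B))
  obtain ⟨a, ham, hap⟩ := SetLike.exists_of_lt hpm
  have hαm : algebraMap B A a ∈ IsLocalRing.maximalIdeal A := by
    rw [IsLocalRing.mem_maximalIdeal, mem_nonunits_iff]
    intro hu
    exact (IsLocalRing.mem_maximalIdeal a).mp ham (IsLocalHom.map_nonunit a hu)
  have hsurj : ∀ y : T.obj (ModuleCat.of B (B ⧸ p)), ∃ z : T.obj (ModuleCat.of B (B ⧸ p)),
      algebraMap B A a • z = y := by
    intro y
    let J : Ideal B := p ⊔ Ideal.span {a}
    have hpJ : p < J := by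
      refine lt_of_le_of_ne le_sup_left ?_
      intro h
      apply hap
      rw [h]
      exact Ideal.mem_sup_right (Ideal.subset_span rfl)
    have hJ0 := ih J hpJ
    let f : (B ⧸ p) →ₗ[B] (B ⧸ p) := a • LinearMap.id
    let g : (B ⧸ p) →ₗ[B] (B ⧸ J) := Submodule.mapQ p J LinearMap.id (by
      intro b hb
      exact Ideal.mem_sup_left hb)
    have hf : Function.Injective f := by
      rw [injective_iff_map_eq_zero]
      intro x hx
      obtain ⟨b, rfl⟩ := Ideal.Quotient.mk_surjective x
      have hx' : Ideal.Quotient.mk p (a * b) = 0 := hx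
      rw [Ideal.Quotient.eq_zero_iff_mem] at hx' ⊢
      exact (Ideal.IsPrime.mem_or_mem inferInstance hx').resolve_left hap
    have hg : Function.Surjective g := by
      intro x
      obtain ⟨b, rfl⟩ := Ideal.Quotient.mk_surjective x
      exact ⟨Ideal.Quotient.mk p b, rfl⟩
    have hfg' : Function.Exact f g := by
      intro x
      constructor
      · intro hx
        obtain ⟨b, rfl⟩ := Ideal.Quotient.mk_surjective x
        have hx' : Ideal.Quotient.mk J b = 0 := hx
        rw [Ideal.Quotient.eq_zero_iff_mem] at hx'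
        obtain ⟨c, hc, d, hd, rfl⟩ := Submodule.mem_sup.mp hx'
        obtain ⟨r, rfl⟩ := Ideal.mem_span_singleton'.mp hd
        refine ⟨Ideal.Quotient.mk p r, ?_⟩
        show Ideal.Quotient.mk p (a * r) = Ideal.Quotient.mk p (c + r * a)
        rw [Ideal.Quotient.eq]
        have : a * r - (c + r * a) = -c := by ring
        rw [this]
        exact p.neg_mem hc
      · rintro ⟨z, rfl⟩
        obtain ⟨b, rfl⟩ := Ideal.Quotient.mk_surjective z
        show Ideal.Quotient.mk J (a * b) = 0
        rw [Ideal.Quotient.eq_zero_iff_mem]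
        exact J.mul_mem_right b (Ideal.mem_sup_right (Ideal.subset_span rfl))
    have hE := exact_of_exact T hex f g hf hg hfg'
    have hsub : Subsingleton (T.obj (ModuleCat.of B (B ⧸ J))) :=
      ModuleCat.isZero_iff_subsingleton.mp hJ0
    have hy : (T.map (ModuleCat.ofHom g)).hom y = 0 := Subsingleton.elim _ _
    obtain ⟨z, hz⟩ := (hE y).mp hy
    refine ⟨z, ?_⟩
    rw [← hz]
    have := hlin (ModuleCat.of B (B ⧸ p)) a
    exact (congrArg (fun φ => φ.hom z) this).symm
  have hbot : (⊤ : Submodule A (T.obj (ModuleCat.of B (B ⧸ p)))) = ⊥ := by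
    refine Submodule.eq_bot_of_le_smul_of_le_jacobson_bot (IsLocalRing.maximalIdeal A) ⊤
      (Module.finite_def.mp hfinN) ?_ (IsLocalRing.maximalIdeal_le_jacobson ⊥)
    intro y _
    obtain ⟨z, rfl⟩ := hsurj y
    exact Submodule.smul_mem_smul hαm Submodule.mem_top
  exact ⟨fun x y => by
    have hx : x ∈ (⊤ : Submodule A (T.obj (ModuleCat.of B (B ⧸ p)))) := Submodule.mem_top
    have hy : y ∈ (⊤ : Submodule A (T.obj (ModuleCat.of B (B ⧸ p)))) := Submodule.mem_top
    rw [hbot, Submodule.mem_bot] at hx hy
    rw [hx, hy]⟩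


theorem killed_zero
    (hlin : ∀ (N : ModuleCat.{u} B) (b : B),
      T.map (ModuleCat.ofHom (b • (LinearMap.id : N →ₗ[B] N))) =
        ModuleCat.ofHom (algebraMap B A b • (LinearMap.id : T.obj N →ₗ[A] T.obj N)))
    (hfin : ∀ N : ModuleCat.{u} B, Module.Finite B N → Module.Finite A (T.obj N))
    (hex : ∀ S : ShortComplex (ModuleCat.{u} B), S.ShortExact → Module.Finite B S.X₁ →
      Module.Finite B S.X₂ → Module.Finite B S.X₃ → (S.map T).Exact)
    (h0 : Limits.IsZero (T.obj (ModuleCat.of B (B ⧸ IsLocalRing.maximalIdeal B))))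
    (I : Ideal B) :
    ∀ (M : Type u) [AddCommGroup M] [Module B M] [Module.Finite B M],
      (∀ a ∈ I, ∀ x : M, a • x = 0) → Limits.IsZero (T.obj (ModuleCat.of B M)) := by
  induction I using IsNoetherian.induction with
  | hgt I ih =>
  intro M _ _ hM
  induction hM using IsNoetherianRing.induction_on_isQuotientEquivQuotientPrime B with
  | subsingleton N =>
    intro _
    exact T.map_isZero (ModuleCat.isZero_of_subsingleton _)
  | quotient N p e =>
    intro hI
    refine zero_of_equiv T e ?_
    have hIp : I ≤ p.asIdeal := by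
      intro a ha
      have h1 := hI a ha (e.symm 1)
      rw [← map_smul, LinearEquiv.map_eq_zero_iff] at h1
      have h2 : Ideal.Quotient.mk p.asIdeal (a * 1) = 0 := h1
      rw [Ideal.Quotient.eq_zero_iff_mem, mul_one] at h2
      exact h2
    have hkill : ∀ (J : Ideal B), ∀ a ∈ J, ∀ x : B ⧸ J, a • x = 0 := by
      intro J a ha x
      obtain ⟨b, rfl⟩ := Ideal.Quotient.mk_surjective x
      show Ideal.Quotient.mk J (a * b) = 0
      rw [Ideal.Quotient.eq_zero_iff_mem]
      exact J.mul_mem_right b ha
    rcases lt_or_eq_of_le hIp with hlt | heq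
    · exact ih p.asIdeal hlt (B ⧸ p.asIdeal) (hkill p.asIdeal)
    · by_cases hmax : p.asIdeal.IsMaximal
      · have := IsLocalRing.eq_maximalIdeal hmax
        rw [this]
        exact h0
      · haveI := p.isPrime
        refine zero_prime T hlin hfin hex p.asIdeal hmax ?_
        intro J hJ
        exact ih J (heq ▸ hJ) (B ⧸ J) (hkill J)
  | exact N₁ N₂ N₃ f g hf hg hfg' h₁ h₃ =>
    intro hI
    have hI1 : ∀ a ∈ I, ∀ x : N₁, a • x = 0 := by
      intro a ha x
      apply hf
      rw [map_smul, map_zero]
      exact hI a ha _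
    have hI3 : ∀ a ∈ I, ∀ x : N₃, a • x = 0 := by
      intro a ha x
      obtain ⟨y, rfl⟩ := hg x
      rw [← map_smul, hI a ha y, map_zero]
    have z1 := h₁ hI1
    have z3 := h₃ hI3
    have hE := exact_of_exact T hex f g hf hg hfg'
    rw [ModuleCat.isZero_iff_subsingleton] at z1 z3 ⊢
    refine ⟨fun y y' => ?_⟩
    have key : ∀ y : T.obj (ModuleCat.of B N₂), y = 0 := by
      intro y
      have hy : (T.map (ModuleCat.ofHom g)).hom y = 0 := Subsingleton.elim _ _
      obtain ⟨z, hz⟩ := (hE y).mp hy
      rw [← hz, Subsingleton.elim z 0, map_zero]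
    rw [key y, key y']

theorem main {B A : Type u} [CommRing B] [CommRing A]
    [IsNoetherianRing B] [IsLocalRing B] [IsNoetherianRing A] [IsLocalRing A] [Algebra B A]
    [IsLocalHom (algebraMap B A)] (T : ModuleCat.{u} B ⥤ ModuleCat.{u} A) [T.Additive]
    (hlin : ∀ (N : ModuleCat.{u} B) (b : B),
      T.map (ModuleCat.ofHom (b • (LinearMap.id : N →ₗ[B] N))) =
        ModuleCat.ofHom (algebraMap B A b • (LinearMap.id : T.obj N →ₗ[A] T.obj N)))
    (hfin : ∀ N : ModuleCat.{u} B, Module.Finite B N → Module.Finite A (T.obj N))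
    (hex : ∀ S : ShortComplex (ModuleCat.{u} B), S.ShortExact → Module.Finite B S.X₁ →
      Module.Finite B S.X₂ → Module.Finite B S.X₃ → (S.map T).Exact)
    (h0 : Limits.IsZero (T.obj (ModuleCat.of B (B ⧸ IsLocalRing.maximalIdeal B))))
    (N : ModuleCat.{u} B) [Module.Finite B N] : Limits.IsZero (T.obj N) := by
  have := killed_zero T hlin hfin hex h0 ⊥ N (by
    intro a ha x
    have : a = 0 := ha
    rw [this, zero_smul])
  exact this


end


/-- Let B → A be a local homomorphism of Noetherian local rings, n the maximal ideal of B, and T an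
additive functor from B-modules to A-modules which is B-linear (T applied to multiplication by b ∈ B
is multiplication by the image of b in A), carries finitely generated B-modules to finitely
generated A-modules, and is half-exact on finitely generated modules (every short exact sequence of
finitely generated B-modules goes to a sequence exact at its middle term). If T(B/n) = 0 then T(N) =
0 for every finitely generated B-module N. (The published statement takes T defined on finitely
generated modules only; here T is defined on all B-modules while every hypothesis and the conclusion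
concern finitely generated modules.) -/
theorem result {B A : Type u} [CommRing B] [CommRing A]
    [IsNoetherianRing B] [IsLocalRing B] [IsNoetherianRing A] [IsLocalRing A] [Algebra B A]
    [IsLocalHom (algebraMap B A)] (T : ModuleCat.{u} B ⥤ ModuleCat.{u} A) [T.Additive]
    (hlin : ∀ (N : ModuleCat.{u} B) (b : B),
      T.map (ModuleCat.ofHom (b • (LinearMap.id : N →ₗ[B] N))) =
        ModuleCat.ofHom (algebraMap B A b • (LinearMap.id : T.obj N →ₗ[A] T.obj N)))
    (hfin : ∀ N : ModuleCat.{u} B, Module.Finite B N → Module.Finite A (T.obj N))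
    (hex : ∀ S : ShortComplex (ModuleCat.{u} B), S.ShortExact → Module.Finite B S.X₁ →
      Module.Finite B S.X₂ → Module.Finite B S.X₃ → (S.map T).Exact)
    (h0 : Limits.IsZero (T.obj (ModuleCat.of B (B ⧸ IsLocalRing.maximalIdeal B))))
    (N : ModuleCat.{u} B) [Module.Finite B N] : Limits.IsZero (T.obj N) := by
  classical
  exact main T hlin hfin hex h0 N

end Groth.Agent.S14418
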