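import Groth.Statements.S14421
import Mathlib

set_option autoImplicit false
universe u v
open CategoryTheory
open HomAlg

namespace Groth.Agent.S14421

section aux

variable {A : Type u} [Category.{v} A] [Abelian A]

lemma epi_homologyMap_iff_epi_cyclesMap (K J : CochainComplex A ℤ) (φ : K ⟶ J) (p : ℤ)
    [Epi (φ.f (p - 1))] :
    Epi (HomologicalComplex.homologyMap φ p) ↔ Epi (HomologicalComplex.cyclesMap φ p) := by
  constructor
  · intro h
    rw [HomologicalComplex.epi_homologyMap_iff_up_to_refinements φ (p - 1) p (p + 1)
      (by simp) (by simp)] at h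
    rw [epi_iff_surjective_up_to_refinements]
    intro W y
    obtain ⟨W₁, π₁, hπ₁, x₂, hx₂, y₁, h₁⟩ := h (y ≫ J.iCycles p) (by simp)
    obtain ⟨W₂, π₂, hπ₂, x₁, h₂⟩ := surjective_up_to_refinements_of_epi (φ.f (p - 1)) y₁
    refine ⟨W₂, π₂ ≫ π₁, epi_comp _ _,
      K.liftCycles (π₂ ≫ x₂ + x₁ ≫ K.d (p - 1) p) (p + 1) (by simp) (by simp [hx₂]), ?_⟩
    rw [← cancel_mono (J.iCycles p)]
    simp only [Category.assoc, HomologicalComplex.cyclesMap_i,
      HomologicalComplex.liftCycles_i_assoc, Preadditive.add_comp, h₁, Preadditive.comp_add]
    rw [← φ.comm, ← Category.assoc x₁, ← h₂, Category.assoc]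
  · intro h
    have h1 : Epi (HomologicalComplex.cyclesMap φ p ≫ J.homologyπ p) := epi_comp _ _
    rw [← HomologicalComplex.homologyπ_naturality] at h1
    exact epi_of_epi (K.homologyπ p) _

end aux

/-- Let φ : K → J be a morphism of cochain complexes of modules over a ring which is surjective in
degree p − 1. Then the map induced on cohomology in degree p is surjective if and only if the map
induced on cocycles in degree p is surjective. (Stated for cochain complexes indexed by the
integers; the published statement is for three-term complexes in degrees p − 1, p, p + 1, which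
embed as such complexes.) -/
theorem result {R : Type u} [Ring R]
    (K J : CochainComplex (ModuleCat.{v} R) ℤ) (φ : K ⟶ J) (p : ℤ) [Epi (φ.f (p - 1))] :
    Epi (HomologicalComplex.homologyMap φ p) ↔ Epi (HomologicalComplex.cyclesMap φ p) := by
  exact epi_homologyMap_iff_epi_cyclesMap K J φ p

end Groth.Agent.S14421
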