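import Groth.Statements.S14425
import Groth.Agent.Lib.Helper8.KosReg1

set_option autoImplicit false
universe u
open LocCoh

namespace Groth.Agent.S14425

/-- Let (R, m) be a Noetherian local ring, M a nonzero finitely generated R-module and x_1, …, x_n
elements of m generating the ideal a. Then depth(a, M) = n if and only if x_1, …, x_n is an
M-regular sequence (each x_i a non-zero-divisor on M/(x_1, …, x_{i-1})M; the condition (x)M ≠ M is
automatic here). -/
theorem result {R : Type u} [CommRing R] [IsNoetherianRing R] [IsLocalRing R]
    {M : Type u} [AddCommGroup M] [Module R M] [Module.Finite R M] [Nontrivial M]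
    (xs : List R) (hxs : ∀ x ∈ xs, x ∈ IsLocalRing.maximalIdeal R) :
    LocCoh.idealDepth (Ideal.span {x | x ∈ xs}) M = xs.length ↔ RingTheory.Sequence.IsWeaklyRegular M xs := by
  have hsens := Groth.Agent.Helper8.KoszulLib.koszul_depth_sensitivity M xs hxs
  constructor
  · intro hd
    have hrev : RingTheory.Sequence.IsWeaklyRegular M xs.reverse := by
      apply Groth.Agent.Helper8.KoszulLib.isWeaklyRegular_reverse_of_isZero_homology M xs hxs
      intro j hj
      by_cases hlt : j < -(xs.length : ℤ)
      · exact Groth.Agent.Helper8.KoszulLib.isZero_homology_of_lt _ xs j hlt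
      · push_neg at hlt
        obtain ⟨p, hp⟩ : ∃ p : ℕ, (p : ℤ) = j + xs.length := ⟨(j + xs.length).toNat, by omega⟩
        have hpl : p < xs.length := by omega
        have h1 := hsens.2.1 p (by rw [hd]; exact_mod_cast hpl)
        have hj' : j = (p : ℤ) - xs.length := by omega
        rw [hj']
        exact h1
    haveI : IsNoetherian R M := inferInstance
    exact IsLocalRing.isWeaklyRegular_of_perm_of_subset_maximalIdeal hrev (List.reverse_perm xs)
      (fun r hr => hxs r (List.mem_reverse.mp hr))
  · intro hreg
    apply le_antisymm hsens.1
    exact Groth.Agent.Helper8.Depth.length_le_idealDepth hreg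
      (fun r hr => Ideal.subset_span hr)

end Groth.Agent.S14425
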