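import Groth.Statements.S14436
import Mathlib

set_option autoImplicit false
universe u
open CAlg

namespace Groth.Agent.S14436

/-- Let L/K be a finitely generated field extension which is separable in the sense that it has a
transcendence basis a_1, …, a_n over which L is a (finite) separable extension of K(a_1, …, a_n).
Then dim_L Ω_{L/K} = n, the transcendence degree of L over K. -/
theorem result (K L : Type u) [Field K] [Field L] [Algebra K L]
    (hfg : ∃ s : Finset L, IntermediateField.adjoin K (s : Set L) = ⊤)
    (n : ℕ) (a : Fin n → L) (ha : IsTranscendenceBasis K a)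
    (hsep : Algebra.IsSeparable ↥(IntermediateField.adjoin K (Set.range a)) L) :
    Module.finrank L (Ω[L⁄K]) = n := by
  classical
  let E := IntermediateField.adjoin K (Set.range a)
  let P := MvPolynomial (Fin n) K
  let Fr := FractionRing P
  let e : Fr ≃ₐ[K] E := ha.1.aevalEquivField
  letI algPE : Algebra P E := RingHom.toAlgebra ((e : Fr →+* E).comp (algebraMap P Fr))
  haveI : IsScalarTower K P E := IsScalarTower.of_algebraMap_eq (fun x => by
    change _ = e (algebraMap P Fr (algebraMap K P x))
    rw [← IsScalarTower.algebraMap_apply K P Fr, e.commutes])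
  let e' : Fr ≃ₐ[P] E := AlgEquiv.ofRingEquiv (f := e.toRingEquiv) (fun x => rfl)
  haveI : IsLocalization (nonZeroDivisors P) E :=
    IsLocalization.isLocalization_of_algEquiv (nonZeroDivisors P) e'
  haveI : Algebra.FormallyEtale P E := Algebra.FormallyEtale.of_isLocalization (nonZeroDivisors P)
  letI algPL : Algebra P L := RingHom.toAlgebra ((algebraMap E L).comp (algebraMap P E))
  haveI : IsScalarTower P E L := IsScalarTower.of_algebraMap_eq (fun x => rfl)
  haveI : IsScalarTower K P L := IsScalarTower.of_algebraMap_eq (fun x => by
    change _ = algebraMap E L (algebraMap P E (algebraMap K P x))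
    rw [← IsScalarTower.algebraMap_apply K P E, ← IsScalarTower.algebraMap_apply K E L])
  haveI : Algebra.IsSeparable E L := hsep
  haveI : Algebra.FormallyEtale E L := Algebra.FormallyEtale.of_isSeparable E L
  haveI : Algebra.FormallyEtale P L := Algebra.FormallyEtale.comp P E L
  have e1 := KaehlerDifferential.tensorKaehlerEquivOfFormallyEtale K P L
  rw [← e1.finrank_eq, Module.finrank_baseChange,
    Module.finrank_eq_card_basis (KaehlerDifferential.mvPolynomialBasis K (Fin n)), Fintype.card_fin]

end Groth.Agent.S14436
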