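import Groth.Statements.S14440
import Mathlib
import Groth.Agent.Lib.Helper9.GrCI4
-- import your own Groth.Agent.* helpers here

set_option autoImplicit false
universe u
open ProjDeg

namespace Groth.Agent.S14440

open Groth.Agent.Lib.Helper9.GrCI
namespace Aux

open MvPolynomial

theorem homogSub_eq (K : Type u) [Field K] (N m : ℕ) :
    homogeneousSubmodule (Fin N) K m = weightedHomogeneousSubmodule K (1 : Fin N → ℕ) m := by
  ext x
  rw [mem_homogeneousSubmodule, mem_weightedHomogeneousSubmodule]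
  rfl

theorem coeff_telescope (H Q : PowerSeries ℤ) (h : H * (1 - PowerSeries.X) = Q) (m : ℕ) :
    PowerSeries.coeff m H = ∑ j ∈ Finset.range (m + 1), PowerSeries.coeff j Q := by
  induction m with
  | zero =>
    rw [Finset.sum_range_one, ← h, mul_sub, mul_one, map_sub, PowerSeries.coeff_zero_mul_X,
      sub_zero]
  | succ m ih =>
    rw [Finset.sum_range_succ, ← ih, ← h, mul_sub, mul_one, map_sub, PowerSeries.coeff_succ_mul_X]
    ring

theorem coeff_eventually (Qp : Polynomial ℤ) (H : PowerSeries ℤ)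
    (h : H * (1 - PowerSeries.X) = (Qp : PowerSeries ℤ)) (m : ℕ) (hm : Qp.natDegree ≤ m) :
    PowerSeries.coeff m H = Qp.eval 1 := by
  rw [coeff_telescope H _ h m, Polynomial.eval_eq_sum_range' (Nat.lt_succ_of_le hm)]
  apply Finset.sum_congr rfl
  intro j _
  rw [Polynomial.coeff_coe, one_pow, mul_one]

theorem main (k : Type u) [Field k] (n : ℕ)
    (f : Fin n → MvPolynomial (Fin (n + 1)) k) (d : Fin n → ℕ) (hd : ∀ i, 1 ≤ d i)
    (hf : ∀ i, (f i).IsHomogeneous (d i))
    (hdim : ringKrullDim (MvPolynomial (Fin (n + 1)) k ⧸ Ideal.span (Set.range f)) = 1) :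
    ∃ m₀ : ℕ, ∀ m : ℕ, m₀ ≤ m →
      Module.finrank k ↥(MvPolynomial.homogeneousSubmodule (Fin (n + 1)) k m) -
        Module.finrank k ↥((Ideal.span (Set.range f)).restrictScalars k ⊓
          MvPolynomial.homogeneousSubmodule (Fin (n + 1)) k m) =
      ∏ i : Fin n, d i := by
  have hδ : ∀ i : Fin (n + 1), (1 : Fin (n + 1) → ℕ) i ≠ 0 := fun i => by simp
  have hε : ∀ i, d i ≠ 0 := fun i => by have := hd i; omega
  have hdim' : ringKrullDim (MvPolynomial (Fin (n + 1)) k ⧸ Ideal.span (Set.range f)) +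
      (n : WithBot ℕ∞) ≤ ((n + 1 : ℕ) : WithBot ℕ∞) := by
    rw [hdim]
    push_cast
    rw [add_comm]
  have hreg := weaklyRegular_of_dim (1 : Fin (n + 1) → ℕ) hδ f d hε hf hdim'
  have hid := hilbert_identity' (1 : Fin (n + 1) → ℕ) hδ f d hf hreg
  set H := hser (1 : Fin (n + 1) → ℕ) (Ideal.span (Set.range f)) with hH
  set Qp : Polynomial ℤ := ∏ i : Fin n, ∑ j ∈ Finset.range (d i), Polynomial.X ^ j with hQp
  have h1 : ∏ i : Fin (n + 1), (1 - (PowerSeries.X : PowerSeries ℤ) ^ ((1 : Fin (n + 1) → ℕ) i)) =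
      (1 - PowerSeries.X) ^ (n + 1) := by
    simp
  have hQ : (Qp : PowerSeries ℤ) =
      ∏ i : Fin n, ∑ j ∈ Finset.range (d i), (PowerSeries.X : PowerSeries ℤ) ^ j := by
    rw [hQp, ← Polynomial.coeToPowerSeries.ringHom_apply, map_prod]
    apply Finset.prod_congr rfl
    intro i _
    rw [map_sum]
    apply Finset.sum_congr rfl
    intro j _
    simp
  rw [h1, prod_one_sub_pow (PowerSeries.X : PowerSeries ℤ) d, ← hQ, pow_succ,
    mul_left_comm] at hid
  have hX : (1 - (PowerSeries.X : PowerSeries ℤ)) ≠ 0 := by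
    intro h0
    have := congrArg PowerSeries.constantCoeff h0
    simp at this
  have h2 := mul_left_cancel₀ (pow_ne_zero n hX) hid
  have hev : Qp.eval 1 = ((∏ i : Fin n, d i : ℕ) : ℤ) := by
    rw [hQp, Polynomial.eval_prod]
    push_cast
    apply Finset.prod_congr rfl
    intro i _
    simp [Polynomial.eval_geom_sum]
  refine ⟨Qp.natDegree, fun m hm => ?_⟩
  have h3 := coeff_eventually Qp H h2 m hm
  rw [hev, hH] at h3
  unfold hser at h3
  rw [PowerSeries.coeff_mk] at h3
  have h4 : Module.finrank k ↥(piece (1 : Fin (n + 1) → ℕ) (Ideal.span (Set.range f)) m) =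
      ∏ i : Fin n, d i := by exact_mod_cast h3
  have h5 := finrank_piece_add (1 : Fin (n + 1) → ℕ) hδ (Ideal.span (Set.range f)) m
  rw [homogSub_eq]
  omega

end Aux

/-- Let k be an algebraically closed field and H_1, …, H_n hypersurfaces in P^n given by homogeneous
polynomials f_1, …, f_n of degrees d_1, …, d_n ≥ 1 in S = k[x_0, …, x_n], meeting in finitely many
points, i.e. S/(f_1, …, f_n) has Krull dimension one. Then the intersection multiplicities of the
H_i at the points of H_1 ∩ ⋯ ∩ H_n add up to d_1 ⋯ d_n; stated here in the form established in the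
proof: the Hilbert function of S/(f_1, …, f_n) is eventually the constant Π d_i, i.e. for all large
m, dim_k S_m − dim_k ((f_1, …, f_n) ∩ S_m) = Π d_i (this constant is the degree of O_{H_1} ⊗ ⋯ ⊗
O_{H_n}, the sum of the lengths of its stalks). -/
theorem result (k : Type u) [Field k] [IsAlgClosed k] (n : ℕ)
    (f : Fin n → MvPolynomial (Fin (n + 1)) k) (d : Fin n → ℕ) (hd : ∀ i, 1 ≤ d i)
    (hf : ∀ i, (f i).IsHomogeneous (d i))
    (hdim : ringKrullDim (MvPolynomial (Fin (n + 1)) k ⧸ Ideal.span (Set.range f)) = 1) :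
    ∃ m₀ : ℕ, ∀ m : ℕ, m₀ ≤ m →
      Module.finrank k ↥(MvPolynomial.homogeneousSubmodule (Fin (n + 1)) k m) -
        Module.finrank k ↥((Ideal.span (Set.range f)).restrictScalars k ⊓ MvPolynomial.homogeneousSubmodule (Fin (n + 1)) k m) =
      ∏ i : Fin n, d i := by
  exact Aux.main k n f d hd hf hdim

end Groth.Agent.S14440
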