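import Groth.Statements.S14442
import Mathlib.Tactic

set_option autoImplicit false
universe u
open GrNak

namespace Groth.Agent.S14442

/-- Let R be a commutative ℕ-graded ring with irrelevant ideal R_+ = ⊕_{i>0} R_i, M an ℕ-graded R-module
and N a graded submodule of M (closed under taking homogeneous components). If M = R_+ M + N then N
= M. (The published statement is for finitely generated ℤ-graded modules over a graded quotient of a
polynomial ring, whose degrees are then bounded below; stated here for non-negatively graded modules
over any ℕ-graded commutative ring, where the same lowest-degree argument applies without finite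
generation.) -/
theorem result {R : Type u} [CommRing R] {σ : Type u} [SetLike σ R] [AddSubmonoidClass σ R]
    (𝒜 : ℕ → σ) [GradedRing 𝒜]
    {M : Type u} [AddCommGroup M] [Module R M] {τ : Type u} [SetLike τ M] [AddSubmonoidClass τ M]
    (ℳ : ℕ → τ) [DirectSum.Decomposition ℳ] [SetLike.GradedSMul 𝒜 ℳ]
    (N : Submodule R M) (hN : ∀ x ∈ N, ∀ i : ℕ, (DirectSum.decompose ℳ x i : M) ∈ N)
    (h : (HomogeneousIdeal.irrelevant 𝒜).toIdeal • (⊤ : Submodule R M) ⊔ N = ⊤) :
    N = ⊤ := by
  classical
  -- the degree-`d` projection as an additive map
  let π : ℕ → M →+ M := fun d =>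
    { toFun := fun x => (DirectSum.decompose ℳ x d : M)
      map_zero' := by simp
      map_add' := by intro x y; simp [DirectSum.decompose_add] }
  have hπ : ∀ d x, π d x = (DirectSum.decompose ℳ x d : M) := fun _ _ => rfl
  have key : ∀ d : ℕ, ∀ m ∈ ℳ d, m ∈ N := by
    intro d
    induction d using Nat.strong_induction_on with
    | _ d ih =>
      intro m hmd
      have hm : m ∈ (HomogeneousIdeal.irrelevant 𝒜).toIdeal • (⊤ : Submodule R M) ⊔ N := by
        rw [h]; trivial
      obtain ⟨y, hy, n, hn, rfl⟩ := Submodule.mem_sup.1 hm
      have e1 : π d (y + n) = y + n := DirectSum.decompose_of_mem_same ℳ hmd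
      rw [← e1, map_add]
      refine N.add_mem ?_ (hN n hn d)
      -- the degree-`d` part of an element of `R₊ • ⊤` lies in `N`
      refine Submodule.smul_induction_on hy ?_ ?_
      · intro r hr m' _
        have hr0 : (DirectSum.decompose 𝒜 r 0 : R) = 0 := by
          have := (HomogeneousIdeal.mem_irrelevant_iff 𝒜 r).1 hr
          rwa [GradedRing.proj_apply] at this
        have er : r = ∑ i ∈ (DirectSum.decompose 𝒜 r).support, (DirectSum.decompose 𝒜 r i : R) :=
          (DirectSum.sum_support_decompose 𝒜 r).symm
        have em : m' = ∑ j ∈ (DirectSum.decompose ℳ m').support, (DirectSum.decompose ℳ m' j : M) :=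
          (DirectSum.sum_support_decompose ℳ m').symm
        have e2 : r • m' = ∑ i ∈ (DirectSum.decompose 𝒜 r).support,
            ∑ j ∈ (DirectSum.decompose ℳ m').support,
              (DirectSum.decompose 𝒜 r i : R) • (DirectSum.decompose ℳ m' j : M) := by
          conv_lhs => rw [er, em]
          rw [Finset.sum_smul]
          refine Finset.sum_congr rfl fun i _ => ?_
          rw [Finset.smul_sum]
        rw [e2, map_sum]
        refine N.sum_mem fun i _ => ?_
        rw [map_sum]
        refine N.sum_mem fun j _ => ?_
        have hmem : (DirectSum.decompose 𝒜 r i : R) • (DirectSum.decompose ℳ m' j : M) ∈ ℳ (i + j) :=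
          SetLike.GradedSMul.smul_mem (DirectSum.decompose 𝒜 r i).2 (DirectSum.decompose ℳ m' j).2
        by_cases hij : i + j = d
        · rw [hπ, ← hij, DirectSum.decompose_of_mem_same ℳ hmem]
          by_cases hi : i = 0
          · subst hi
            rw [hr0, zero_smul]
            exact N.zero_mem
          · have hj : j < d := by omega
            exact N.smul_mem _ (ih j hj _ (DirectSum.decompose ℳ m' j).2)
        · rw [hπ, DirectSum.decompose_of_mem_ne ℳ hmem hij]
          exact N.zero_mem
      · intro x y hx hy
        rw [map_add]
        exact N.add_mem hx hy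
  rw [eq_top_iff]
  intro m _
  rw [← DirectSum.sum_support_decompose ℳ m]
  exact N.sum_mem fun i _ => key i _ (DirectSum.decompose ℳ m i).2

end Groth.Agent.S14442
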