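import Groth.Statements.S14445
import Mathlib
import Groth.Prelude.Def_ChGrp
import Groth.Agent.S18858

set_option autoImplicit false
universe u
open NonAbH1

namespace Groth.Agent.S14445

section

open CategoryTheory MonoidalCategory CartesianMonoidalCategory MonObj GrpObj AlgebraicGeometry Limits

variable {S : Scheme.{u}} {G X : Over S} [GrpObj G] (a : AlgGrp.Action G X)

/-- the comparison map for a section -/
noncomputable def Phi {T : Over S} (s : T ⟶ X) : G ⊗ T ⟶ X ⊗ T :=
  lift ((G ◁ s) ≫ a.act) (snd G T)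

theorem lift_Phi {T Z : Over S} (s : T ⟶ X) (u : Z ⟶ G) (t : Z ⟶ T) :
    lift u t ≫ Phi a s = lift (lift u (t ≫ s) ≫ a.act) t := by
  unfold Phi
  rw [comp_lift, lift_snd, lift_whiskerLeft_assoc]

theorem lift_tau {Z : Over S} (u : Z ⟶ G) (x : Z ⟶ X) :
    lift u x ≫ lift a.act (snd G X) = lift (lift u x ≫ a.act) x := by
  rw [comp_lift, lift_snd]

theorem forward (h : NonAbH1.IsPseudoTorsorSch a) {T : Over S} (s : T ⟶ X) : IsIso (Phi a s) := by
  haveI : IsIso (lift a.act (snd G X)) := h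
  set τ := lift a.act (snd G X) with hτ
  have hτfst : τ ≫ fst X X = a.act := lift_fst _ _
  have hτsnd : τ ≫ snd X X = snd G X := lift_snd _ _
  refine ⟨⟨lift (lift (fst X T) (snd X T ≫ s) ≫ inv τ ≫ fst G X) (snd X T), ?_, ?_⟩⟩
  · apply AlgGrp.Action.hom_ext_lift₂
    intro Z u t
    rw [Category.comp_id, ← Category.assoc, lift_Phi, comp_lift, lift_snd]
    congr 1
    rw [← Category.assoc, comp_lift, lift_fst, lift_snd_assoc, ← lift_tau,
      Category.assoc, IsIso.hom_inv_id_assoc, lift_fst]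
  · apply AlgGrp.Action.hom_ext_lift₂
    intro Z y t
    rw [Category.comp_id, ← Category.assoc, comp_lift, lift_snd, ← Category.assoc, comp_lift,
      lift_fst, lift_snd_assoc, lift_Phi]
    congr 1
    set w := lift y (t ≫ s) ≫ inv τ with hw
    have hw2 : w ≫ snd G X = t ≫ s := by
      rw [← hτsnd, hw, Category.assoc, IsIso.inv_hom_id_assoc, lift_snd]
    have hw1 : w ≫ a.act = y := by
      rw [← hτfst, hw, Category.assoc, IsIso.inv_hom_id_assoc, lift_fst]
    have hw3 : lift (w ≫ fst G X) (t ≫ s) = w := by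
      rw [← hw2]; exact lift_comp_fst_snd w
    rw [Category.assoc] at hw3
    rw [hw3, hw1]

theorem lift_tauT {T Z : Over S} (u : Z ⟶ G) (x : Z ⟶ X) (t : Z ⟶ T) :
    lift (lift u x) t ≫ (lift a.act (snd G X) ▷ T) = lift (lift (lift u x ≫ a.act) x) t := by
  rw [lift_whiskerRight, lift_tau]

theorem backward {T : Over S} (s : T ⟶ X) (h : IsIso (Phi a s)) :
    IsIso (lift a.act (snd G X) ▷ T) := by
  haveI := h
  set Φ := Phi a s with hΦ
  have hΦsnd : Φ ≫ snd X T = snd G T := lift_snd _ _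
  have hΨsnd : inv Φ ≫ snd G T = snd X T := by
    rw [← hΦsnd, IsIso.inv_hom_id_assoc]
  -- gam
  let gam : ∀ {Z : Over S}, (Z ⟶ X) → (Z ⟶ T) → (Z ⟶ G) := fun y t => lift y t ≫ inv Φ ≫ fst G T
  have hgam : ∀ {Z : Over S} (y : Z ⟶ X) (t : Z ⟶ T), lift y t ≫ inv Φ = lift (gam y t) t := by
    intro Z y t
    apply CartesianMonoidalCategory.hom_ext
    · rw [lift_fst, Category.assoc]
    · rw [lift_snd, Category.assoc, hΨsnd, lift_snd]
  have F3 : ∀ {Z : Over S} (y : Z ⟶ X) (t : Z ⟶ T), lift (gam y t) (t ≫ s) ≫ a.act = y := by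
    intro Z y t
    have e1 : lift (gam y t) t ≫ Φ = lift y t := by
      rw [← hgam, Category.assoc, IsIso.inv_hom_id, Category.comp_id]
    rw [hΦ, lift_Phi] at e1
    have := congrArg (fun m => m ≫ fst X T) e1
    simpa using this
  have F4 : ∀ {Z : Over S} (u : Z ⟶ G) (t : Z ⟶ T), gam (lift u (t ≫ s) ≫ a.act) t = u := by
    intro Z u t
    change lift (lift u (t ≫ s) ≫ a.act) t ≫ inv Φ ≫ fst G T = u
    rw [← lift_Phi, ← hΦ, Category.assoc, IsIso.hom_inv_id_assoc, lift_fst]
  have hgamnat : ∀ {Z Z' : Over S} (p : Z' ⟶ Z) (y : Z ⟶ X) (t : Z ⟶ T),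
      p ≫ gam y t = gam (p ≫ y) (p ≫ t) := by
    intro Z Z' p y t
    change p ≫ lift y t ≫ inv Φ ≫ fst G T = lift (p ≫ y) (p ≫ t) ≫ inv Φ ≫ fst G T
    rw [← Category.assoc, comp_lift]
  have F5 : ∀ {Z : Over S} (u : Z ⟶ G) (x : Z ⟶ X) (t : Z ⟶ T),
      gam (lift u x ≫ a.act) t = u * gam x t := by
    intro Z u x t
    have hx : lift u x ≫ a.act = lift (u * gam x t) (t ≫ s) ≫ a.act := by
      rw [AlgGrp.Action.lift_mul_act, F3]
    rw [hx, F4]
  -- the inverse
  let W := (X ⊗ X) ⊗ T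
  let y₁ : W ⟶ X := fst (X ⊗ X) T ≫ fst X X
  let x₂ : W ⟶ X := fst (X ⊗ X) T ≫ snd X X
  let t₀ : W ⟶ T := snd (X ⊗ X) T
  let Θ : W ⟶ (G ⊗ X) ⊗ T := lift (lift (gam y₁ t₀ * (gam x₂ t₀)⁻¹) x₂) t₀
  have hΘ : ∀ {Z : Over S} (y x : Z ⟶ X) (t : Z ⟶ T),
      lift (lift y x) t ≫ Θ = lift (lift (gam y t * (gam x t)⁻¹) x) t := by
    intro Z y x t
    simp only [Θ, comp_lift, comp_mul, comp_inv, hgamnat, y₁, x₂, t₀]
    simp
  refine ⟨⟨Θ, ?_, ?_⟩⟩
  · apply AlgGrp.Action.hom_ext_lift₃
    intro Z u x t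
    rw [Category.comp_id, ← Category.assoc, lift_tauT, hΘ, F5, mul_inv_cancel_right]
  · have e : lift (lift y₁ x₂) t₀ = 𝟙 W := by
      simp only [y₁, x₂, t₀]
      rw [← comp_lift, lift_fst_snd, Category.comp_id, lift_fst_snd]
    have hΘ' : Θ = lift (lift (gam y₁ t₀ * (gam x₂ t₀)⁻¹) x₂) t₀ := rfl
    rw [hΘ', lift_tauT]
    have h1 : lift (gam y₁ t₀ * (gam x₂ t₀)⁻¹) x₂ ≫ a.act = y₁ := by
      have hx2 : lift (gam x₂ t₀) (t₀ ≫ s) ≫ a.act = x₂ := F3 x₂ t₀
      obtain ⟨g2, hg2⟩ : ∃ g2, g2 = gam x₂ t₀ := ⟨_, rfl⟩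
      rw [← hg2] at hx2 ⊢
      rw [← hx2, ← AlgGrp.Action.lift_mul_act, inv_mul_cancel_right, F3]
    rw [h1, e]

theorem pullback_map_left_eq {A B : Over S} (m : A ⟶ B) {T : Scheme.{u}} (g : T ⟶ S) :
    ((Over.pullback g).map m).left = (m ▷ Over.mk g).left := by
  apply pullback.hom_ext
  · simp only [CategoryTheory.Over.pullback, Over.homMk_left]
    rw [pullback.lift_fst]
    exact (Over.whiskerRight_left_fst (R := Over.mk g) m).symm
  · simp only [CategoryTheory.Over.pullback, Over.homMk_left]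
    rw [pullback.lift_snd]
    exact (Over.whiskerRight_left_snd (R := Over.mk g) m).symm

theorem main (a : AlgGrp.Action G X) :
    NonAbH1.IsTorsorFor Scheme.fpqcPrecoverage a ↔
      ∃ R ∈ Scheme.fpqcPrecoverage S, ∀ ⦃S' : Scheme.{u}⦄ (f : S' ⟶ S), R f →
        ∃ s : Over.mk f ⟶ X, IsIso (lift ((G ◁ s) ≫ a.act) (snd G (Over.mk f))) := by
  constructor
  · rintro ⟨hpt, R, hR, hsec⟩
    refine ⟨R, hR, ?_⟩
    intro S' f hf
    obtain ⟨s0, hs0⟩ := hsec f hf
    exact ⟨Over.homMk s0 (by simpa using hs0), forward a hpt _⟩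
  · rintro ⟨R, hR, H⟩
    refine ⟨?_, R, hR, ?_⟩
    · have hleft : IsIso (lift a.act (snd G X)).left := by
        refine Groth.Agent.S18858.descends_fpqc_family_over (MorphismProperty.isomorphisms Scheme.{u})
          (lift a.act (snd G X)) R hR ?_
        intro T g hg
        obtain ⟨s, hs⟩ := H g hg
        haveI := backward a s hs
        change IsIso ((Over.pullback g).map (lift a.act (snd G X))).left
        rw [pullback_map_left_eq]
        exact (inferInstance : IsIso ((Over.forget S).map (lift a.act (snd G X) ▷ Over.mk g)))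
      haveI : IsIso ((Over.forget S).map (lift a.act (snd G X))) := hleft
      exact isIso_of_reflects_iso (lift a.act (snd G X)) (Over.forget S)
    · intro S' f hf
      obtain ⟨s, _⟩ := H f hf
      exact ⟨s.left, Over.w s⟩


end


open CategoryTheory MonoidalCategory CartesianMonoidalCategory AlgebraicGeometry in
/-- Let S be a scheme, G a group scheme over S and X an S-scheme with an action of G. Then X is a
G-torsor for the fpqc topology — the morphism G ×_S X → X ×_S X, (g, x) ↦ (gx, x), is an isomorphism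
and X → S acquires sections over the members of some fpqc covering family of S — if and only if
there are an fpqc covering family of S and, for each member S' → S, an S-morphism s : S' → X for
which the G-equivariant S'-morphism G ×_S S' → X ×_S S', (g, t) ↦ (g·s(t), t), is an isomorphism; in
words, X becomes equivariantly isomorphic to the trivial torsor over each member of the covering.
(The published statement is set in any subcanonical site with fibre products, for an invariant arrow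
X → Y; this row is its instance for schemes over S with the fpqc topology and Y = S.) -/
theorem result {S : Scheme.{u}} {G X : Over S} [GrpObj G]
    (a : AlgGrp.Action G X) :
    NonAbH1.IsTorsorFor Scheme.fpqcPrecoverage a ↔
      ∃ R ∈ Scheme.fpqcPrecoverage S, ∀ ⦃S' : Scheme.{u}⦄ (f : S' ⟶ S), R f →
        ∃ s : Over.mk f ⟶ X, IsIso (lift ((G ◁ s) ≫ a.act) (snd G (Over.mk f))) := by
  classical
  exact main a

end Groth.Agent.S14445
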