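import Groth.Statements.S14446
import Groth.Agent.Lib.Helper2.EquivOver

set_option autoImplicit false
open CategoryTheory
universe v₂ u₂ v₃ u₃ v u
open Stk

namespace Groth.Agent.S14446

open Groth.Agent.Helper2

universe v₄ u₄ v₅ u₅

/-- One direction: the prestack condition descends along an equivalence over `C`. -/
theorem isPrestack_of_isEquivOver {C : Type u} [Category.{v} C] (J : GrothendieckTopology C)
    {𝒳 : BasedCategory.{v₂, u₂} C} {𝒴 : BasedCategory.{v₃, u₃} C} (F : 𝒳 ⥤ᵇ 𝒴)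
    (hF : FibCat.IsEquivOver F) (h : Stk.IsPrestack J 𝒴) : Stk.IsPrestack J 𝒳 := by
  refine ⟨isFibGrpd_of_isEquivOver F hF h.1, ?_⟩
  intro U R hR
  obtain ⟨hfull, hfaith⟩ := h.2 R hR
  have e1 := postF_isEquivalence (FibCat.overCat U) F hF
  have e2 := postF_isEquivalence (Stk.sieveCat R) F hF
  have hcomm : Stk.resSieve R 𝒳 ⋙ postF (Stk.sieveCat R) F =
      postF (FibCat.overCat U) F ⋙ Stk.resSieve R 𝒴 := by
    refine CategoryTheory.Functor.ext (fun H => rfl) ?_
    intro H H' α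
    change _ = 𝟙 _ ≫ _ ≫ 𝟙 _
    rw [Category.id_comp, Category.comp_id]
    apply BasedNatTrans.homCategory.ext
    rfl
  have hf1 : (postF (FibCat.overCat U) F ⋙ Stk.resSieve R 𝒴).Full := inferInstance
  have hf2 : (postF (FibCat.overCat U) F ⋙ Stk.resSieve R 𝒴).Faithful := inferInstance
  rw [← hcomm] at hf1 hf2
  refine ⟨?_, ?_⟩
  · exact Functor.Full.of_comp_faithful (Stk.resSieve R 𝒳) (postF (Stk.sieveCat R) F)
  · exact Functor.Faithful.of_comp (Stk.resSieve R 𝒳) (postF (Stk.sieveCat R) F)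

theorem result {C : Type u} [Category.{v} C] (J : GrothendieckTopology C)
    {𝒳 : BasedCategory.{v₂, u₂} C} {𝒴 : BasedCategory.{v₃, u₃} C} (F : 𝒳 ⥤ᵇ 𝒴) (hF : FibCat.IsEquivOver F) :
    Stk.IsPrestack J 𝒳 ↔ Stk.IsPrestack J 𝒴 := by
  constructor
  · intro h
    obtain ⟨G, hG, -, -⟩ := IsEquivOver.exists_inverse F hF
    exact isPrestack_of_isEquivOver J G hG h
  · exact isPrestack_of_isEquivOver J F hF

end Groth.Agent.S14446
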