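import Groth.Statements.S14447
import Mathlib

set_option autoImplicit false
universe w v u
open AlgGrp

namespace Groth.Agent.S14447
open CategoryTheory CategoryTheory.Limits

variable {C : Type u} [Category.{v} C] [HasFiniteProducts C] [HasCoproducts.{w} C]

/-- the discrete-object functor -/
noncomputable abbrev S : Type w ⥤ C := sigmaConst.{w}.obj (⊤_ C)

lemma preservesTerminal : PreservesLimitsOfShape (Discrete.{0} PEmpty) (S (C := C)) := by
  haveI : Unique (⊤_ (Type w)) := (Types.terminalIso.toEquiv).unique
  have hT : IsTerminal ((S (C := C)).obj (⊤_ (Type w))) :=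
    IsTerminal.ofIso terminalIsTerminal (coproductUniqueIso (fun _ : (⊤_ (Type w)) => ⊤_ C)).symm
  haveI : IsIso (terminalComparison (S (C := C))) :=
    (IsTerminal.uniqueUpToIso hT terminalIsTerminal).isIso_hom  -- placeholder
  haveI := preservesTerminal_of_isIso (S (C := C))
  exact preservesLimitsOfShape_pempty_of_preservesTerminal _


variable (I J : Type w)

/-- `∐_P pt ⟶ ∐_I ∐_J pt` for `P = I ⨯ J`. -/
noncomputable def θ' : (S (C := C)).obj (I ⨯ J) ⟶ ∐ fun _ : I => (S (C := C)).obj J :=
  Sigma.desc fun p : (I ⨯ J : Type w) =>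
    Sigma.ι (fun _ : J => ⊤_ C) ((prod.snd : I ⨯ J ⟶ J) p) ≫
      Sigma.ι (fun _ : I => (S (C := C)).obj J) ((prod.fst : I ⨯ J ⟶ I) p)

/-- `∐_I ∐_J pt ⟶ ∐_P pt` for `P = I ⨯ J`. -/
noncomputable def θ : (∐ fun _ : I => (S (C := C)).obj J) ⟶ (S (C := C)).obj (I ⨯ J) :=
  Sigma.desc fun i : I => Sigma.desc fun j : J =>
    Sigma.ι (fun _ : (I ⨯ J : Type w) => ⊤_ C) ((Types.binaryProductIso I J).inv (i, j))

lemma fst_inv (i : I) (j : J) :
    (prod.fst : I ⨯ J ⟶ I) ((Types.binaryProductIso I J).inv (i, j)) = i := by
  have := types_congr_hom (Types.binaryProductIso_inv_comp_fst I J) ((i, j) : I × J)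
  simpa using this

lemma snd_inv (i : I) (j : J) :
    (prod.snd : I ⨯ J ⟶ J) ((Types.binaryProductIso I J).inv (i, j)) = j := by
  have := types_congr_hom (Types.binaryProductIso_inv_comp_snd I J) ((i, j) : I × J)
  simpa using this

lemma inv_fst_snd (p : (I ⨯ J : Type w)) :
    (Types.binaryProductIso I J).inv
      ((prod.fst : I ⨯ J ⟶ I) p, (prod.snd : I ⨯ J ⟶ J) p) = p := by
  have h1 : (Types.binaryProductIso I J).hom p =
      ((prod.fst : I ⨯ J ⟶ I) p, (prod.snd : I ⨯ J ⟶ J) p) := by
    apply Prod.ext
    · exact types_congr_hom (Types.binaryProductIso_hom_comp_fst I J) p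
    · exact types_congr_hom (Types.binaryProductIso_hom_comp_snd I J) p
  rw [← h1]
  simp

lemma θ'_θ : θ' (C := C) I J ≫ θ I J = 𝟙 _ := by
  apply Sigma.hom_ext
  intro p
  simp only [θ', θ, Sigma.ι_desc_assoc, Category.assoc, Sigma.ι_desc, Category.comp_id]
  rw [inv_fst_snd]
  exact (Category.comp_id _).symm

lemma θ_θ' : θ (C := C) I J ≫ θ' I J = 𝟙 _ := by
  apply Sigma.hom_ext
  intro i
  apply Sigma.hom_ext
  intro j
  simp only [θ', θ, Sigma.ι_desc_assoc, Category.assoc, Sigma.ι_desc, Category.comp_id]
  rw [fst_inv, snd_inv]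


lemma prodComparison_eq :
    prodComparison (S (C := C)) I J = θ' I J ≫ Sigma.desc fun i : I =>
      prod.lift (terminal.from ((S (C := C)).obj J) ≫ Sigma.ι (fun _ : I => ⊤_ C) i)
        (𝟙 ((S (C := C)).obj J)) := by
  apply Sigma.hom_ext
  intro p
  apply Limits.prod.hom_ext
  · simp only [θ', Category.assoc, prodComparison_fst, Sigma.ι_desc_assoc, Sigma.ι_desc,
      prod.lift_fst]
    simp [S, sigmaConst]
    rw [show terminal.from (⊤_ C) = 𝟙 _ from Subsingleton.elim _ _, Category.id_comp]
  · simp only [θ', Category.assoc, prodComparison_snd, Sigma.ι_desc_assoc, Sigma.ι_desc,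
      prod.lift_snd]
    simp [S, sigmaConst]
    rw [prod.lift_snd, Category.comp_id]

include I J in
lemma isIso_prodComparison
    (h : ∀ (I : Type w) (U : C), IsIso (Sigma.desc fun i : I =>
      prod.lift (terminal.from U ≫ Sigma.ι (fun _ : I => ⊤_ C) i) (𝟙 U))) :
    IsIso (prodComparison (S (C := C)) I J) := by
  rw [prodComparison_eq]
  haveI := h I ((S (C := C)).obj J)
  haveI : IsIso (θ' (C := C) I J) := ⟨θ I J, θ'_θ I J, θ_θ' I J⟩
  infer_instance

theorem main
    (h : ∀ (I : Type w) (U : C), IsIso (Sigma.desc fun i : I =>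
      prod.lift (terminal.from U ≫ Sigma.ι (fun _ : I => ⊤_ C) i) (𝟙 U))) :
    PreservesFiniteProducts (sigmaConst.{w}.obj (⊤_ C)) := by
  haveI := preservesTerminal (C := C)
  haveI : ∀ {X Y : Type w}, IsIso (prodComparison (S (C := C)) X Y) :=
    fun {X Y} => isIso_prodComparison X Y h
  haveI : PreservesLimitsOfShape (Discrete WalkingPair) (S (C := C)) :=
    preservesBinaryProducts_of_isIso_prodComparison _
  exact PreservesFiniteProducts.of_preserves_binary_and_terminal (S (C := C))

end Groth.Agent.S14447

namespace Groth.Agent.S14447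

open CategoryTheory CategoryTheory.Limits in
/-- Let C be a category with finite products and with all coproducts indexed by sets, and assume that
for every set I and every object U the canonical arrow ∐_{i∈I} U → (∐_{i∈I} pt) × U, whose i-th
component pairs U → pt → ∐_{i∈I} pt (i-th coprojection) with the identity of U, is an isomorphism.
Then the discrete-object functor from sets to C, I ↦ ∐_{i∈I} pt, preserves finite products. (Sets
are the types of one fixed universe, the one indexing the coproducts. The published statement asks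
only for the coproducts of copies of one object; this row assumes that C has all coproducts indexed
by sets, which Mathlib's discrete-object functor sigmaConst requires.) -/
theorem result {C : Type u} [Category.{v} C]
    [HasFiniteProducts C] [HasCoproducts.{w} C]
    (h : ∀ (I : Type w) (U : C), IsIso (Sigma.desc fun i : I =>
      prod.lift (terminal.from U ≫ Sigma.ι (fun _ : I => ⊤_ C) i) (𝟙 U))) :
    PreservesFiniteProducts (sigmaConst.{w}.obj (⊤_ C)) := by
  exact main h

end Groth.Agent.S14447
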