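import Groth.Statements.S14449
import Mathlib
import Groth.Agent.Lib.Helper5.Misc.Recoll
import Groth.Agent.Lib.Helper5.Misc.EtStalkFam
import Groth.Agent.Lib.Helper5.Misc.EtStalkPull
import Groth.Agent.Lib.Helper5.Misc.EtOpenImm
import Groth.Agent.Lib.Helper5.Misc.EtClosedDense
import Groth.Agent.Lib.Helper5.Misc.JContGen
import Groth.Agent.S0623
import Groth.Agent.S0654

set_option autoImplicit false
universe u
open CategoryTheory CategoryTheory.Limits AlgebraicGeometry
open EtCore

open Groth.Agent.Lib.Helper5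

namespace Groth.Agent.S14449

/-- Let X be a scheme, i : Z ⟶ X a closed immersion and j : U ⟶ X an open immersion whose image is the
complement of the image of i. Then the functor from abelian sheaves on the small étale site of X to
the category of triples (G on Z, H on U, φ : G ⟶ i⁻¹ j_* H), sending F to (i⁻¹ F, j⁻¹ F, i⁻¹ of the
unit F ⟶ j_* j⁻¹ F), is an equivalence of categories. The category of triples is the comma category
of the identity functor of Ab(Z) over j_* ⋙ i⁻¹. -/
theorem result {X Z U : Scheme.{u}}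
    (i : Z ⟶ X) [IsClosedImmersion i] (j : U ⟶ X) [IsOpenImmersion j]
    (hZU : Set.range j.base = (Set.range i.base)ᶜ) :
    (EtCore.recollTriple i j).IsEquivalence := by
  haveI : EtShriek.JCont j := Misc.JContGen.jCont j
  haveI : (EtCoh.push i).Full := EtClosedDense.full_pushA i AddCommGrpCat.{u + 1}
  haveI : (EtCoh.push i).Faithful := EtClosedDense.faithful_pushA i AddCommGrpCat.{u + 1}
  haveI : IsIso (EtCoh.pullPushAdj i).counit := inferInstance
  haveI : IsIso (EtCoh.pullPushAdj j).counit := by
    haveI : ∀ F, IsIso ((EtCoh.pullPushAdj j).counit.app F) :=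
      fun F => EtOpenImm.isIso_counit_pullPush j F
    exact NatIso.isIso_of_isIso_app _
  haveI : PreservesFiniteLimits (EtCoh.pull i) := Groth.Agent.S0623.lexPull i
  haveI : PreservesFiniteLimits (EtCoh.pull j) := Groth.Agent.S0623.lexPull j
  have hZU' : Set.range j = (Set.range i)ᶜ := hZU
  have hd : Disjoint (Set.range j.base) (Set.range i.base) := by
    rw [Set.disjoint_left]
    intro a ha hb
    rw [hZU] at ha
    exact ha hb
  have hz : ∀ G : EtCoh.Ab Z, IsZero ((EtCoh.pull j).obj ((EtCoh.push i).obj G)) := fun G =>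
    (Groth.Agent.S0654.isZero_restr_push i j hd G).of_iso ((Groth.Agent.S0623.pullIso j).app _)
  have hcons : ∀ {F F' : EtCoh.Ab X} (φ : F ⟶ F'), IsIso ((EtCoh.pull i).map φ) →
      IsIso ((EtCoh.pull j).map φ) → IsIso φ := by
    intro F F' φ h1 h2
    let P : (↥U ⊕ ↥Z) → EtStalk.GeomPt X := fun s => Sum.elim
      (fun p : ↥U => ⟨(EtStalk.geomPtAt p).Ω, (EtStalk.geomPtAt p).ξ ≫ j⟩)
      (fun z : ↥Z => ⟨(EtStalk.geomPtAt z).Ω, (EtStalk.geomPtAt z).ξ ≫ i⟩) s
    have hcov : ∀ x : X, ∃ s, (P s).ξ (default : Spec (CommRingCat.of (P s).Ω)) = x := by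
      intro x
      by_cases hx : x ∈ Set.range i
      · obtain ⟨z, rfl⟩ := hx
        refine ⟨Sum.inr z, ?_⟩
        change i ((EtStalk.geomPtAt z).ξ default) = i z
        rw [EtStalk.geomPtAt_default]
      · have hx' : x ∈ Set.range j := by rw [hZU']; exact hx
        obtain ⟨p, rfl⟩ := hx'
        refine ⟨Sum.inl p, ?_⟩
        change j ((EtStalk.geomPtAt p).ξ default) = j p
        rw [EtStalk.geomPtAt_default]
    apply EtStalkFam.isIso_of_stalks P hcov
    rintro (p | z)
    · have h3 : IsIso ((EtCoh.pull j ⋙ EtCoh.stalk (EtStalk.geomPtAt p).ξ).map φ) := by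
        rw [Functor.comp_map]
        infer_instance
      exact (NatIso.isIso_map_iff (EtStalkPull.stalkPullIso j (EtStalk.geomPtAt p).ξ) _).1 h3
    · have h3 : IsIso ((EtCoh.pull i ⋙ EtCoh.stalk (EtStalk.geomPtAt z).ξ).map φ) := by
        rw [Functor.comp_map]
        infer_instance
      exact (NatIso.isIso_map_iff (EtStalkPull.stalkPullIso i (EtStalk.geomPtAt z).ξ) _).1 h3
  exact Recoll.isEquivalence (EtCoh.pullPushAdj i) (EtCoh.pullPushAdj j) hz hcons

end Groth.Agent.S14449
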