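import Groth.Statements.S14457
import Mathlib

set_option autoImplicit false
universe u
open CAlg

namespace Groth.Agent.S14457

section
open scoped BigOperators
open Polynomial

/-- derivative of a monic polynomial is a unit in the quotient, for an unramified quotient -/
theorem isUnit_derivative_of_unramified (A : Type u) [CommRing A] (f : A[X])
    [Algebra.FormallyUnramified A (AdjoinRoot f)] :
    IsUnit (AdjoinRoot.mk f (derivative f)) := by
  by_contra hnu
  obtain ⟨M, hM, hdM⟩ := exists_max_ideal_of_mem_nonunits (mem_nonunits_iff.mpr hnu)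
  have hMf : Field (AdjoinRoot f ⧸ M) := Ideal.Quotient.field M
  let k := AdjoinRoot f ⧸ M
  let B := TrivSqZeroExt k k
  let xb : k := Ideal.Quotient.mk M (AdjoinRoot.root f)
  let y : B := TrivSqZeroExt.inl xb + TrivSqZeroExt.inr 1
  have haev : ∀ p : A[X], aeval (TrivSqZeroExt.inl xb : B) p =
      TrivSqZeroExt.inl (Ideal.Quotient.mk M (AdjoinRoot.mk f p)) := by
    intro p
    have h1 : aeval (TrivSqZeroExt.inl xb : B) p =
        (TrivSqZeroExt.inlAlgHom A k k) (aeval xb p) := by
      rw [← Polynomial.aeval_algHom_apply]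
      rfl
    rw [h1]
    have h2 : aeval xb p = Ideal.Quotient.mk M (AdjoinRoot.mk f p) := by
      have : xb = (Ideal.Quotient.mkₐ A M) (AdjoinRoot.root f) := rfl
      rw [this, Polynomial.aeval_algHom_apply, AdjoinRoot.aeval_eq]
      rfl
    rw [h2]
    rfl
  have hy : f.eval₂ (Algebra.ofId A B) y = 0 := by
    have h0 : f.eval₂ (Algebra.ofId A B) y = aeval y f := rfl
    rw [h0]
    have hsq : (TrivSqZeroExt.inr (1 : k) : B) ^ 2 = 0 := by
      rw [pow_two, TrivSqZeroExt.inr_mul_inr]
    rw [Polynomial.aeval_add_of_sq_eq_zero f _ _ hsq, haev, haev, AdjoinRoot.mk_self, map_zero,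
      (Ideal.Quotient.eq_zero_iff_mem).mpr hdM]
    simp
  let g₁ : AdjoinRoot f →ₐ[A] B := (TrivSqZeroExt.inlAlgHom A k k).comp (Ideal.Quotient.mkₐ A M)
  let g₂ : AdjoinRoot f →ₐ[A] B := AdjoinRoot.liftAlgHom f (Algebra.ofId A B) y hy
  have hg : g₁ = g₂ := by
    apply Algebra.FormallyUnramified.ext (TrivSqZeroExt.kerIdeal k k)
      ⟨2, TrivSqZeroExt.kerIdeal_sq k k⟩
    intro z
    rw [Ideal.Quotient.eq]
    show _ ∈ RingHom.ker _
    rw [RingHom.mem_ker, map_sub, sub_eq_zero]
    obtain ⟨p, rfl⟩ := AdjoinRoot.mk_surjective z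
    have e1 : g₂ (AdjoinRoot.mk f p) = aeval y p := rfl
    have e2 : g₁ (AdjoinRoot.mk f p) = TrivSqZeroExt.inl (Ideal.Quotient.mk M (AdjoinRoot.mk f p)) := rfl
    have hsq : (TrivSqZeroExt.inr (1 : k) : B) ^ 2 = 0 := by
      rw [pow_two, TrivSqZeroExt.inr_mul_inr]
    rw [e1, e2, Polynomial.aeval_add_of_sq_eq_zero p _ _ hsq, haev, haev]
    simp
  have h1 := congrArg (fun g : AdjoinRoot f →ₐ[A] B => TrivSqZeroExt.snd (g (AdjoinRoot.root f))) hg
  have e1 : g₂ (AdjoinRoot.root f) = y := AdjoinRoot.liftAlgHom_root f _ _ _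
  have e2 : g₁ (AdjoinRoot.root f) = TrivSqZeroExt.inl xb := rfl
  simp only [e1, e2] at h1
  have h2 : (0 : k) = 1 := by
    have h3 : TrivSqZeroExt.snd y = (1 : k) := by
      show TrivSqZeroExt.snd (TrivSqZeroExt.inl xb + TrivSqZeroExt.inr (1 : k) : B) = 1
      rw [TrivSqZeroExt.snd_add, TrivSqZeroExt.snd_inl, TrivSqZeroExt.snd_inr, zero_add]
    rw [← h3, ← h1, TrivSqZeroExt.snd_inl]
  exact zero_ne_one h2

theorem root_pow (A : Type u) [CommRing A] (a : A) (n : ℕ) :
    (AdjoinRoot.root ((X : A[X]) ^ n - C a)) ^ n = AdjoinRoot.of _ a := by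
  have h := AdjoinRoot.mk_self (f := (X : A[X]) ^ n - C a)
  rw [map_sub, map_pow, AdjoinRoot.mk_X, AdjoinRoot.mk_C, sub_eq_zero] at h
  exact h

theorem deriv_eq (A : Type u) [CommRing A] (a : A) (n : ℕ) :
    AdjoinRoot.mk ((X : A[X]) ^ n - C a) (derivative ((X : A[X]) ^ n - C a)) =
      AdjoinRoot.of _ (n : A) * (AdjoinRoot.root ((X : A[X]) ^ n - C a)) ^ (n - 1) := by
  rw [derivative_sub, derivative_X_pow, derivative_C, sub_zero, map_mul, map_pow, AdjoinRoot.mk_X,
    AdjoinRoot.mk_C]

theorem isUnit_of_isUnit_of (A : Type u) [CommRing A] (a : A) (n : ℕ) (hn : 1 ≤ n) (b : A)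
    (hb : IsUnit (AdjoinRoot.of ((X : A[X]) ^ n - C a) b)) : IsUnit b := by
  rcases subsingleton_or_nontrivial A with hs | hnt
  · exact isUnit_of_subsingleton b
  have hmon : ((X : A[X]) ^ n - C a).Monic := monic_X_pow_sub_C a (by omega)
  let pb := AdjoinRoot.powerBasis' hmon
  have h1 := Algebra.norm_algebraMap_of_basis pb.basis b
  have h2 : IsUnit (Algebra.norm A (algebraMap A (AdjoinRoot ((X : A[X]) ^ n - C a)) b)) :=
    hb.map (Algebra.norm A)
  rw [h1] at h2
  have hc : Fintype.card (Fin pb.dim) ≠ 0 := by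
    rw [Fintype.card_fin]
    show (AdjoinRoot.powerBasis' hmon).dim ≠ 0
    rw [AdjoinRoot.powerBasis'_dim, natDegree_X_pow_sub_C]
    omega
  exact (isUnit_pow_iff hc).mp h2

theorem main (A : Type u) [CommRing A] (a : A) (n : ℕ) (hn : 1 ≤ n) :
    Algebra.Etale A (AdjoinRoot ((X : A[X]) ^ n - C a)) ↔ n = 1 ∨ IsUnit ((n : A) * a) := by
  have hmon : ((X : A[X]) ^ n - C a).Monic := monic_X_pow_sub_C a (by omega)
  constructor
  · intro hE
    by_cases h1 : n = 1
    · exact Or.inl h1
    right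
    have hU := isUnit_derivative_of_unramified A ((X : A[X]) ^ n - C a)
    rw [deriv_eq] at hU
    have hn2 : n - 1 ≠ 0 := by omega
    have hnU : IsUnit (AdjoinRoot.of ((X : A[X]) ^ n - C a) (n : A)) := isUnit_of_mul_isUnit_left hU
    have hxU : IsUnit (AdjoinRoot.root ((X : A[X]) ^ n - C a)) :=
      (isUnit_pow_iff hn2).mp (isUnit_of_mul_isUnit_right hU)
    have haU : IsUnit (AdjoinRoot.of ((X : A[X]) ^ n - C a) a) := by
      rw [← root_pow]
      exact hxU.pow n
    apply isUnit_of_isUnit_of A a n hn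
    rw [map_mul]
    exact hnU.mul haU
  · intro h
    have hU : IsUnit (AdjoinRoot.mk ((X : A[X]) ^ n - C a) (derivative ((X : A[X]) ^ n - C a))) := by
      rw [deriv_eq]
      rcases h with h | h
      · subst h
        simp
      · have hnU : IsUnit (n : A) := isUnit_of_mul_isUnit_left h
        have haU : IsUnit a := isUnit_of_mul_isUnit_right h
        have hxU : IsUnit (AdjoinRoot.root ((X : A[X]) ^ n - C a)) := by
          have h3 : IsUnit ((AdjoinRoot.root ((X : A[X]) ^ n - C a)) ^ n) := by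
            rw [root_pow]
            exact haU.map _
          exact (isUnit_pow_iff (by omega)).mp h3
        exact (hnU.map _).mul (hxU.pow _)
    obtain ⟨q, hq⟩ := hU.exists_right_inv
    obtain ⟨q', rfl⟩ := AdjoinRoot.mk_surjective q
    have hq2 : AdjoinRoot.mk ((X : A[X]) ^ n - C a)
        (derivative ((X : A[X]) ^ n - C a) * q' - 1) = 0 := by
      rw [map_sub, map_mul, hq, map_one, sub_self]
    rw [AdjoinRoot.mk_eq_zero] at hq2
    obtain ⟨r, hr⟩ := hq2
    let P : StandardEtalePair A :=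
      { f := (X : A[X]) ^ n - C a
        monic_f := hmon
        g := 1
        cond := ⟨q', -r, 0, by rw [pow_zero, mul_neg, ← hr]; ring⟩ }
    have e1 : P.Ring ≃ₐ[A] Localization.Away (AdjoinRoot.mk P.f P.g) := P.equivAwayAdjoinRoot
    have hle : Submonoid.powers (AdjoinRoot.mk P.f P.g) ≤ IsUnit.submonoid (AdjoinRoot P.f) := by
      rw [Submonoid.powers_le]
      show IsUnit (AdjoinRoot.mk P.f 1)
      rw [map_one]
      exact isUnit_one
    have e2 : AdjoinRoot P.f ≃ₐ[AdjoinRoot P.f] Localization.Away (AdjoinRoot.mk P.f P.g) :=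
      IsLocalization.atUnits (AdjoinRoot P.f) (Submonoid.powers (AdjoinRoot.mk P.f P.g)) hle
    have e3 : Localization.Away (AdjoinRoot.mk P.f P.g) ≃ₐ[A] AdjoinRoot P.f :=
      (e2.restrictScalars A).symm
    exact Algebra.Etale.of_equiv (e1.trans e3)


end


open Polynomial in
/-- Let A be a commutative ring, a an element of A and n ≥ 1 an integer. The A-algebra A[T]/(T^n − a) is
etale exactly when either n = 1 or the product n·a is a unit of A. (The exponent n is a positive
integer here; for n = 0 the quotient is (A/(1 − a))[T] and the equivalence fails.) -/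
theorem result (A : Type u) [CommRing A] (a : A) (n : ℕ) (hn : 1 ≤ n) :
    Algebra.Etale A (AdjoinRoot ((X : A[X]) ^ n - C a)) ↔ n = 1 ∨ IsUnit ((n : A) * a) := by
  classical
  exact main A a n hn

end Groth.Agent.S14457
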