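import Groth.Statements.S14460
import Mathlib
import Groth.Prelude.Def_FEt
import Groth.Agent.Lib.Helper9.FE.FiberJoint
-- import your own Groth.Agent.* helpers here

set_option autoImplicit false
universe u
open CategoryTheory CategoryTheory.Limits AlgebraicGeometry
open Pi1

namespace Groth.Agent.S14460

open CategoryTheory CategoryTheory.Limits AlgebraicGeometry MorphismProperty
namespace Aux
set_option linter.style.haveILetI false
set_option linter.unusedSectionVars false
set_option backward.isDefEq.respectTransparency false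
open H9FE H9SF

section Free
variable {X : Scheme.{u}} (Y : FEt.Cat X) {G : Type u} [Group G] (ρ : G →* Aut Y)

/-- the graph of the action of `g` -/
noncomputable def gr (g : G) : Y.left ⟶ pullback Y.hom Y.hom :=
  pullback.lift (𝟙 Y.left) (ρ g).hom.left
    ((Category.id_comp Y.hom).trans (Over.w (ρ g).hom.hom).symm)

theorem gr_fst (g : G) : gr Y ρ g ≫ pullback.fst Y.hom Y.hom = 𝟙 _ := pullback.lift_fst _ _ _
theorem gr_snd (g : G) : gr Y ρ g ≫ pullback.snd Y.hom Y.hom = (ρ g).hom.left :=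
  pullback.lift_snd _ _ _

theorem rho_mul_left (g h : G) : (ρ (g * h)).hom.left = (ρ h).hom.left ≫ (ρ g).hom.left := by
  rw [map_mul, Aut.Aut_mul_def]
  rfl

theorem rho_one_left : (ρ 1).hom.left = 𝟙 Y.left := by
  rw [map_one]
  rfl

instance gr_isOpenImmersion (g : G) : IsOpenImmersion (gr Y ρ g) := by
  let one : FEt.Cat Y.left := MorphismProperty.Over.mk ⊤ (𝟙 Y.left) ⟨inferInstance, inferInstance⟩
  let P : FEt.Cat Y.left := MorphismProperty.Over.mk ⊤ (pullback.fst Y.hom Y.hom)
    (FEt.prop.pullback_fst _ _ Y.prop)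
  let i : one ⟶ P := MorphismProperty.Over.homMk (gr Y ρ g) (gr_fst Y ρ g) trivial
  let r : P ⟶ one := MorphismProperty.Over.homMk (pullback.fst Y.hom Y.hom)
    (Category.comp_id _) trivial
  have hir : i ≫ r = 𝟙 one := MorphismProperty.Over.Hom.ext (gr_fst Y ρ g)
  haveI : Mono i := mono_of_mono_fac hir
  exact isOpenImmersion_left i

variable {Ω : Type u} [Field Ω]

/-- a geometric point in the image of the graph of `g` -/
theorem snd_eq_of_mem_range (g : G) (z : Spec (CommRingCat.of Ω) ⟶ pullback Y.hom Y.hom)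
    (p₀ : Spec (CommRingCat.of Ω)) (hz : z p₀ ∈ Set.range (gr Y ρ g)) :
    z ≫ pullback.snd Y.hom Y.hom = (z ≫ pullback.fst Y.hom Y.hom) ≫ (ρ g).hom.left := by
  have hr : Set.range z ⊆ Set.range (gr Y ρ g) := by
    rintro _ ⟨p, rfl⟩
    have : p = p₀ := Subsingleton.elim _ _
    rw [this]; exact hz
  let t := IsOpenImmersion.lift (gr Y ρ g) z hr
  have ht : t ≫ gr Y ρ g = z := IsOpenImmersion.lift_fac _ _ _
  have h1 : z ≫ pullback.snd Y.hom Y.hom = t ≫ (ρ g).hom.left := by
    rw [← ht, Category.assoc, gr_snd]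
  have h2 : z ≫ pullback.fst Y.hom Y.hom = t := by
    rw [← ht, Category.assoc, gr_fst, Category.comp_id]
  rw [h1, h2]

theorem eq_of_comp_eq
    (hfree : ∀ g : G, g ≠ 1 → ∀ (K : Type u) [Field K] (y : Spec (CommRingCat.of K) ⟶ Y.left),
      y ≫ (ρ g).hom.left ≠ y)
    (s : Spec (CommRingCat.of Ω) ⟶ Y.left) (g h : G)
    (hs : s ≫ (ρ g).hom.left = s ≫ (ρ h).hom.left) : g = h := by
  by_contra hne
  have h1 : h⁻¹ * g ≠ 1 := by
    intro h2
    apply hne
    have := congrArg (fun k => h * k) h2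
    simpa using this
  apply hfree _ h1 Ω s
  rw [rho_mul_left, ← Category.assoc, hs, Category.assoc, ← rho_mul_left, inv_mul_cancel,
    rho_one_left, Category.comp_id]

theorem disjoint_range_gr
    (hfree : ∀ g : G, g ≠ 1 → ∀ (K : Type u) [Field K] (y : Spec (CommRingCat.of K) ⟶ Y.left),
      y ≫ (ρ g).hom.left ≠ y) (g h : G) (hgh : g ≠ h) :
    Disjoint (Set.range (gr Y ρ g)) (Set.range (gr Y ρ h)) := by
  rw [Set.disjoint_left]
  intro z hzg hzh
  obtain ⟨Ω, _, _, ζ, hζ⟩ := exists_geomPt (pullback Y.hom Y.hom) z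
  have h1 := snd_eq_of_mem_range Y ρ g ζ _ (by rw [hζ]; exact hzg)
  have h2 := snd_eq_of_mem_range Y ρ h ζ _ (by rw [hζ]; exact hzh)
  exact hgh (eq_of_comp_eq Y ρ hfree _ g h (h1.symm.trans h2))

/-- the orbit map on a geometric fibre -/
noncomputable def orb (s : Spec (CommRingCat.of Ω) ⟶ Y.left) (g : G) :
    FEt.fiberObj (s ≫ Y.hom) Y :=
  ⟨s ≫ (ρ g).hom.left, by
    rw [Category.assoc]
    exact congrArg (s ≫ ·) (Over.w (ρ g).hom.hom)⟩

theorem orb_injective
    (hfree : ∀ g : G, g ≠ 1 → ∀ (K : Type u) [Field K] (y : Spec (CommRingCat.of K) ⟶ Y.left),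
      y ≫ (ρ g).hom.left ≠ y) (s : Spec (CommRingCat.of Ω) ⟶ Y.left) :
    Function.Injective (orb Y ρ s) := fun g h hgh =>
  eq_of_comp_eq Y ρ hfree s g h (congrArg Subtype.val hgh)

theorem main [Finite G] [Nonempty ↥Y.left] (n : ℕ)
    (hn : ∀ (Ω : Type u) [Field Ω] [IsSepClosed Ω] (ξ : Spec (CommRingCat.of Ω) ⟶ X),
      Nat.card (FEt.fiberObj ξ Y) = n)
    (hfree : ∀ g : G, g ≠ 1 → ∀ (K : Type u) [Field K] (y : Spec (CommRingCat.of K) ⟶ Y.left),
      y ≫ (ρ g).hom.left ≠ y) :
    Nat.card G ≤ n ∧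
      (Nat.card G = n ↔ IsIso (Limits.Sigma.desc fun g : G =>
        pullback.lift (𝟙 Y.left) (ρ g).hom.left
          ((Category.id_comp Y.hom).trans (Over.w (ρ g).hom.hom).symm) :
            (∐ fun _ : G => Y.left) ⟶ pullback Y.hom Y.hom)) := by
  obtain ⟨y₀⟩ := ‹Nonempty ↥Y.left›
  obtain ⟨Ω, _, _, ybar, _⟩ := exists_geomPt Y.left y₀
  haveI hfin : ∀ (Ω' : Type u) [Field Ω'] (ξ : Spec (CommRingCat.of Ω') ⟶ X),
      Finite (FEt.fiberObj ξ Y) := fun Ω' _ ξ => Groth.Agent.Helper1.FEtFiber.fiber_finite ξ Y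
  have hle : Nat.card G ≤ n := by
    rw [← hn Ω (ybar ≫ Y.hom)]
    exact Nat.card_le_card_of_injective _ (orb_injective Y ρ hfree ybar)
  refine ⟨hle, ?_⟩
  let m : (∐ fun _ : G => Y.left) ⟶ pullback Y.hom Y.hom := Limits.Sigma.desc (gr Y ρ)
  show Nat.card G = n ↔ IsIso m
  have hrange : ∀ z : ↥(pullback Y.hom Y.hom), z ∈ Set.range m ↔ ∃ g, z ∈ Set.range (gr Y ρ g) := by
    intro z
    constructor
    · rintro ⟨w, rfl⟩
      obtain ⟨⟨g, y⟩, rfl⟩ := (sigmaMk (fun _ : G => Y.left)).surjective w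
      refine ⟨g, y, ?_⟩
      rw [sigmaMk_mk, ← Scheme.Hom.comp_apply, Sigma.ι_desc]
    · rintro ⟨g, y, rfl⟩
      refine ⟨Sigma.ι (fun _ : G => Y.left) g y, ?_⟩
      rw [← Scheme.Hom.comp_apply, Sigma.ι_desc]
  haveI : IsOpenImmersion m := isOpenImmersion_sigmaDesc _ _ (fun g h hgh =>
    disjoint_range_gr Y ρ hfree g h hgh)
  constructor
  · intro hcard
    have hsurj : Function.Surjective m := by
      intro z
      obtain ⟨Ω', _, _, ζ, hζ⟩ := exists_geomPt (pullback Y.hom Y.hom) z
      let s := ζ ≫ pullback.fst Y.hom Y.hom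
      let s' : FEt.fiberObj (s ≫ Y.hom) Y := ⟨ζ ≫ pullback.snd Y.hom Y.hom, by
        rw [Category.assoc, Category.assoc, pullback.condition]⟩
      have hbij : Function.Bijective (orb Y ρ s) :=
        (orb_injective Y ρ hfree s).bijective_of_nat_card_le (by
          rw [hn Ω' (s ≫ Y.hom), hcard])
      obtain ⟨g, hg⟩ := hbij.2 s'
      have hg' : s ≫ (ρ g).hom.left = ζ ≫ pullback.snd Y.hom Y.hom := congrArg Subtype.val hg
      have hζg : s ≫ gr Y ρ g = ζ := by
        apply pullback.hom_ext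
        · rw [Category.assoc, gr_fst]
          exact Category.comp_id _
        · rw [Category.assoc, gr_snd, hg']
      rw [← Set.mem_range, hrange]
      refine ⟨g, s (default : PrimeSpectrum Ω'), ?_⟩
      rw [← hζ]
      exact congrArg (fun k : Spec (CommRingCat.of Ω') ⟶ pullback Y.hom Y.hom =>
        k (default : PrimeSpectrum Ω')) hζg
    exact (isIso_iff_isOpenImmersion_and_epi_base m).mpr
      ⟨inferInstance, (TopCat.epi_iff_surjective _).mpr hsurj⟩
  · intro hiso
    have hsurj : Function.Surjective m :=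
      (ConcreteCategory.bijective_of_isIso m.base).2
    have hbij : Function.Bijective (orb Y ρ ybar) := by
      refine ⟨orb_injective Y ρ hfree ybar, fun s' => ?_⟩
      let ζ : Spec (CommRingCat.of Ω) ⟶ pullback Y.hom Y.hom := pullback.lift ybar s'.1 s'.2.symm
      obtain ⟨g, hg⟩ := (hrange (ζ (default : PrimeSpectrum Ω))).mp (hsurj _)
      have h1 := snd_eq_of_mem_range Y ρ g ζ _ hg
      refine ⟨g, Subtype.ext ?_⟩
      show ybar ≫ (ρ g).hom.left = s'.1
      have h2 : ζ ≫ pullback.snd Y.hom Y.hom = s'.1 := pullback.lift_snd _ _ _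
      have h3 : ζ ≫ pullback.fst Y.hom Y.hom = ybar := pullback.lift_fst _ _ _
      rw [← h2, h1, h3]
    rw [← hn Ω (ybar ≫ Y.hom)]
    exact Nat.card_eq_of_bijective _ hbij

end Free

end Aux

/-- Let Y → X be finite étale with Y nonempty and all geometric fibres of the same cardinality n, and
let a finite group G act on Y over X without fixed points (no point of Y with values in a field is
fixed by a non-identity element). Then G has at most n elements, and it has exactly n elements if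
and only if the morphism from the disjoint union of copies of Y indexed by G to Y ×_X Y, given on
the copy indexed by g by the identity and g, is an isomorphism. (For Y empty the bound fails, since
every finite group acts without fixed points on the empty cover, whose fibres have cardinality 0;
this row assumes Y nonempty.) -/
theorem result {X : Scheme.{u}} (Y : FEt.Cat X)
    [Nonempty ↥Y.left] (n : ℕ)
    (hn : ∀ (Ω : Type u) [Field Ω] [IsSepClosed Ω] (ξ : Spec (CommRingCat.of Ω) ⟶ X), Nat.card (FEt.fiberObj ξ Y) = n)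
    (G : Type u) [Group G] [Finite G] (ρ : G →* Aut Y)
    (hfree : ∀ g : G, g ≠ 1 → ∀ (K : Type u) [Field K] (y : Spec (CommRingCat.of K) ⟶ Y.left),
      y ≫ (ρ g).hom.left ≠ y) :
    Nat.card G ≤ n ∧
      (Nat.card G = n ↔ IsIso (Limits.Sigma.desc fun g : G =>
        pullback.lift (𝟙 Y.left) (ρ g).hom.left
          ((Category.id_comp Y.hom).trans (Over.w (ρ g).hom.hom).symm) : (∐ fun _ : G => Y.left) ⟶ pullback Y.hom Y.hom)) := by
  exact Aux.main Y ρ n hn hfree

end Groth.Agent.S14460
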