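import Groth.Statements.S14461
import Mathlib
import Groth.Prelude.Def_FEt
import Groth.Agent.Lib.Helper9.FE.ClopenCrit
import Groth.Agent.Lib.Helper9.FE.TopClopen
-- import your own Groth.Agent.* helpers here

set_option autoImplicit false
universe u
open CategoryTheory CategoryTheory.Limits AlgebraicGeometry
open Pi1

namespace Groth.Agent.S14461

open CategoryTheory CategoryTheory.Limits AlgebraicGeometry MorphismProperty
namespace Aux
open H9FE H9SF

theorem main {X X₀ : Scheme.{u}} [IsNoetherian X]
    (i : X₀ ⟶ X) [IsClosedImmersion i]
    (h : ∀ Y : FEt.Cat X, Function.Bijective (pullback.fst Y.hom i).continuous.connectedComponentsMap) :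
    (FEt.restrict i).Full ∧ (FEt.restrict i).Faithful := by
  apply restrict_full_faithful_of_clopen
  · intro Y T hT hpT
    exact clopen_inj_of_surjective (pullback.fst Y.hom i).continuous (h Y).2 T hT hpT
  · intro W T' hT'
    haveI : IsFinite W.hom := W.prop.1
    haveI : IsLocallyNoetherian W.left :=
      @LocallyOfFiniteType.isLocallyNoetherian W.left X W.hom inferInstance inferInstance
    haveI : CompactSpace W.left := by
      have := @QuasiCompact.compactSpace_of_compactSpace W.left X W.hom inferInstance inferInstance
      exact this
    haveI : IsNoetherian W.left := {}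
    have hN : TopologicalSpace.NoetherianSpace W.left := inferInstance
    exact @clopen_surj_of_injective _ _ _ _ _ (pullback.fst W.hom i).continuous hN (h W).1 T' hT'

end Aux

/-- Let X be a Noetherian scheme and X₀ → X a closed immersion such that, for every finite étale Y → X,
the projection Y ×_X X₀ → Y induces a bijection on connected components. Then restriction of finite
étale covers from X to X₀ is full and faithful. -/
theorem result {X X₀ : Scheme.{u}} [IsNoetherian X]
    (i : X₀ ⟶ X) [IsClosedImmersion i]
    (h : ∀ Y : FEt.Cat X, Function.Bijective (pullback.fst Y.hom i).continuous.connectedComponentsMap) :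
    (FEt.restrict i).Full ∧ (FEt.restrict i).Faithful := by
  exact Aux.main i h

end Groth.Agent.S14461
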