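import Groth.Statements.S14463
import Mathlib
-- import your own Groth.Agent.* helpers here

set_option autoImplicit false
universe u
open CategoryTheory CategoryTheory.Limits AlgebraicGeometry
open BigSite

namespace Groth.Agent.S14463

open CategoryTheory CategoryTheory.Limits AlgebraicGeometry
namespace Aux
set_option linter.unusedSectionVars false
set_option backward.isDefEq.respectTransparency false
set_option linter.style.haveILetI false

/-- composition of finite `C`-families -/
theorem comp_family (C : MorphismProperty Scheme.{u}) [C.IsStableUnderComposition]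
    [C.RespectsIso]
    (hcoprod : ∀ (κ : Type u) [Finite κ] (A B : κ → Scheme.{u}) (f : ∀ j, A j ⟶ B j),
      (∀ j, C (f j)) → C (Limits.Sigma.map f))
    (κ : Type u) [Finite κ] (N : κ → Type u) (T : (j : κ) → N j → Scheme.{u})
    (V : κ → Scheme.{u}) (U : Scheme.{u}) (ψ : ∀ j, V j ⟶ U) (χ : ∀ j n, T j n ⟶ V j)
    (hψ : C (Limits.Sigma.desc ψ)) (hχ : ∀ j, C (Limits.Sigma.desc (χ j))) :
    C (Limits.Sigma.desc (fun p : Σ j, N j => χ p.1 p.2 ≫ ψ p.1)) := by
  have h : Limits.Sigma.desc (fun p : Σ j, N j => χ p.1 p.2 ≫ ψ p.1) =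
      (sigmaSigmaIso N T).inv ≫ Limits.Sigma.map (fun j => Limits.Sigma.desc (χ j)) ≫ Limits.Sigma.desc ψ := by
    refine Limits.Sigma.hom_ext _ _ fun ⟨j, n⟩ => ?_
    simp
  rw [h]
  exact (MorphismProperty.cancel_left_of_respectsIso C _ _).mpr
    (C.comp_mem _ _ (hcoprod κ _ _ _ hχ) hψ)

/-- local covering datum over a morphism `w : W ⟶ X.left` -/
def LocData {S : Scheme.{u}} (C : MorphismProperty Scheme.{u}) (X : Over S) (R : Sieve X)
    (W : Scheme.{u}) (w : W ⟶ X.left) : Prop :=
  ∃ (κ : Type u) (_ : Finite κ) (V : κ → Over S) (φ : ∀ j, V j ⟶ X)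
    (ψ : ∀ j, (V j).left ⟶ W),
    (∀ j, IsAffine (V j).left) ∧ (∀ j, R.arrows (φ j)) ∧ (∀ j, ψ j ≫ w = (φ j).left) ∧
      C (Limits.Sigma.desc ψ)

section
variable {S : Scheme.{u}} (C : MorphismProperty Scheme.{u}) [C.IsStableUnderComposition]
  [C.IsStableUnderBaseChange]
  (hcoprod : ∀ (κ : Type u) [Finite κ] (A B : κ → Scheme.{u}) (f : ∀ j, A j ⟶ B j),
      (∀ j, C (f j)) → C (Limits.Sigma.map f))
  (haff : ∀ (U : Scheme.{u}) [IsAffine U] (κ : Type u) [Finite κ] (V : κ → U.Opens),
      (∀ j, IsAffineOpen (V j)) → ⨆ j, V j = ⊤ → C (Limits.Sigma.desc fun j => (V j).ι))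
include haff

/-- base change of a local datum -/
theorem locData_pullback {X Y : Over S} (f : Y ⟶ X) (R : Sieve X) (W : Scheme.{u}) [IsAffine W]
    (w : W ⟶ X.left) (W' : Scheme.{u}) [IsAffine W'] (w' : W' ⟶ Y.left) (g : W' ⟶ W)
    (hg : g ≫ w = w' ≫ f.left) (h : LocData C X R W w) :
    LocData C Y (R.pullback f) W' w' := by
  obtain ⟨κ, hκ, V, φ, ψ, hV, hR, hψ, hC⟩ := h
  let P := pullback (Limits.Sigma.desc ψ) g
  haveI : IsAffine P := inferInstance
  let A : κ → P.Opens := fun j =>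
    (pullback.fst (Limits.Sigma.desc ψ) g) ⁻¹ᵁ (Limits.Sigma.ι (fun j => (V j).left) j).opensRange
  have hA : ∀ j, IsAffineOpen (A j) := fun j =>
    (isAffineOpen_opensRange (Limits.Sigma.ι (fun j => (V j).left) j)).preimage _
  have hAtop : ⨆ j, A j = ⊤ := by
    have := (sigmaOpenCover (fun j => (V j).left)).iSup_opensRange
    simp only [A]
    rw [← Scheme.Hom.preimage_iSup]
    erw [this]
    rfl
  have hCA := haff P κ A hA hAtop
  let l : ∀ j, ((A j : Scheme.{u})) ⟶ (V j).left := fun j =>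
    IsOpenImmersion.lift (Limits.Sigma.ι (fun j => (V j).left) j)
      ((A j).ι ≫ pullback.fst (Limits.Sigma.desc ψ) g) (by
        rintro _ ⟨x, rfl⟩
        exact x.2)
  have hl : ∀ j, l j ≫ Limits.Sigma.ι (fun j => (V j).left) j =
      (A j).ι ≫ pullback.fst (Limits.Sigma.desc ψ) g := fun j => IsOpenImmersion.lift_fac _ _ _
  -- the key equation
  have key : ∀ j, l j ≫ (φ j).left =
      ((A j).ι ≫ pullback.snd (Limits.Sigma.desc ψ) g ≫ w') ≫ f.left := by
    intro j
    rw [← hψ j, ← Limits.Sigma.ι_desc ψ j, ← Category.assoc, ← Category.assoc, hl j]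
    simp only [Category.assoc]
    rw [← hg, pullback.condition_assoc]
  let V' : κ → Over S := fun j =>
    Over.mk ((A j).ι ≫ pullback.snd (Limits.Sigma.desc ψ) g ≫ w' ≫ Y.hom)
  let φ' : ∀ j, V' j ⟶ Y := fun j =>
    Over.homMk ((A j).ι ≫ pullback.snd (Limits.Sigma.desc ψ) g ≫ w') (by simp [V'])
  let lo : ∀ j, V' j ⟶ V j := fun j => Over.homMk (l j) (by
    have h1 : (V j).hom = (φ j).left ≫ X.hom := (Over.w (φ j)).symm
    rw [h1, ← Category.assoc, key j]
    simp [V'])
  refine ⟨κ, hκ, V', φ', fun j => (A j).ι ≫ pullback.snd (Limits.Sigma.desc ψ) g,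
    fun j => hA j, fun j => ?_, fun j => by simp [φ'], ?_⟩
  · change R.arrows (φ' j ≫ f)
    have : φ' j ≫ f = lo j ≫ φ j := by
      ext
      simp only [Over.comp_left, φ', lo, Over.homMk_left]
      rw [key j]
    rw [this]
    exact R.downward_closed (hR j) _
  · have : (Limits.Sigma.desc fun j => (A j).ι ≫ pullback.snd (Limits.Sigma.desc ψ) g) =
        (Limits.Sigma.desc fun j => (A j).ι) ≫ pullback.snd (Limits.Sigma.desc ψ) g := by
      refine Limits.Sigma.hom_ext _ _ fun j => ?_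
      simp
    have h2 := C.comp_mem _ _ hCA (C.pullback_snd _ _ hC)
    rw [← this] at h2
    exact h2

include hcoprod

/-- transitivity for local data -/
theorem locData_trans {X : Over S} (S' R : Sieve X) (W : Scheme.{u}) (w : W ⟶ X.left)
    (h : LocData C X S' W w)
    (h2 : ∀ (Y : Over S) (f : Y ⟶ X), S'.arrows f → IsAffine Y.left →
      LocData C Y (R.pullback f) Y.left (𝟙 _)) :
    LocData C X R W w := by
  obtain ⟨κ, hκ, V, φ, ψ, hV, hR, hψ, hC⟩ := h
  have h3 := fun j => h2 (V j) (φ j) (hR j) (hV j)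
  choose N hN T φ' χ hT hR' hχ hC' using h3
  refine ⟨Σ j, N j, inferInstance, fun p => T p.1 p.2, fun p => φ' p.1 p.2 ≫ φ p.1,
    fun p => χ p.1 p.2 ≫ ψ p.1, fun p => hT p.1 p.2, fun p => hR' p.1 p.2, fun p => ?_, ?_⟩
  · rw [Category.assoc, hψ, Over.comp_left, ← hχ, Category.comp_id]
  · exact comp_family C hcoprod κ N (fun j n => (T j n).left) (fun j => (V j).left) W ψ χ hC hC'

/-- a covering datum on an affine scheme gives a local datum over the identity -/
theorem locData_of_cov {V : Over S} [IsAffine V.left] (R : Sieve V)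
    (h : ∃ (ι : Type u) (U : ι → V.left.Opens), (∀ i, IsAffineOpen (U i)) ∧ ⨆ i, U i = ⊤ ∧
      ∀ i, LocData C V R (U i) (U i).ι) : LocData C V R V.left (𝟙 _) := by
  obtain ⟨ι, U, hU, hcov, hloc⟩ := h
  obtain ⟨t, ht⟩ := isCompact_univ.elim_finite_subcover (fun i => (U i : Set V.left))
    (fun i => (U i).isOpen) (by
      intro x _
      have : x ∈ (⨆ i, U i : V.left.Opens) := by rw [hcov]; trivial
      simpa using this)
  let κ0 : Type u := {i // i ∈ t}
  have hcov' : ⨆ i : κ0, U i.1 = ⊤ := by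
    rw [eq_top_iff]
    intro x _
    have := ht (Set.mem_univ x)
    simp only [Set.mem_iUnion, exists_prop] at this
    obtain ⟨i, hi, hx⟩ := this
    exact TopologicalSpace.Opens.mem_iSup.mpr ⟨⟨i, hi⟩, hx⟩
  have hCU := haff V.left κ0 (fun i => U i.1) (fun i => hU i.1) hcov'
  have h3 := fun i : κ0 => hloc i.1
  choose N hN T φ' χ hT hR' hχ hC' using h3
  refine ⟨Σ i : κ0, N i, inferInstance, fun p => T p.1 p.2, fun p => φ' p.1 p.2,
    fun p => χ p.1 p.2 ≫ (U p.1.1).ι, fun p => hT p.1 p.2, fun p => hR' p.1 p.2, fun p => ?_, ?_⟩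
  · rw [Category.comp_id]
    exact hχ p.1 p.2
  · exact comp_family C hcoprod κ0 N (fun j n => (T j n).left) (fun i => (U i.1 : Scheme.{u}))
      V.left (fun i => (U i.1).ι) χ hCU hC'

end

/-- covering sieves -/
def Cov {S : Scheme.{u}} (C : MorphismProperty Scheme.{u}) (X : Over S) (R : Sieve X) : Prop :=
  ∃ (ι : Type u) (U : ι → X.left.Opens), (∀ i, IsAffineOpen (U i)) ∧ ⨆ i, U i = ⊤ ∧
    ∀ i, LocData C X R (U i) (U i).ι

section
variable {S : Scheme.{u}} (C : MorphismProperty Scheme.{u}) [C.IsStableUnderComposition]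
  [C.IsStableUnderBaseChange]
  (hcoprod : ∀ (κ : Type u) [Finite κ] (A B : κ → Scheme.{u}) (f : ∀ j, A j ⟶ B j),
      (∀ j, C (f j)) → C (Limits.Sigma.map f))
  (haff : ∀ (U : Scheme.{u}) [IsAffine U] (κ : Type u) [Finite κ] (V : κ → U.Opens),
      (∀ j, IsAffineOpen (V j)) → ⨆ j, V j = ⊤ → C (Limits.Sigma.desc fun j => (V j).ι))
include haff

theorem cov_top (X : Over S) : Cov C X ⊤ := by
  refine ⟨X.left.affineOpens, fun i => i.1, fun i => i.2, iSup_affineOpens_eq_top _,
    fun i => ?_⟩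
  refine ⟨PUnit.{u+1}, inferInstance,
    fun _ => Over.mk ((⊤ : (i.1 : Scheme.{u}).Opens).ι ≫ i.1.ι ≫ X.hom),
    fun _ => Over.homMk ((⊤ : (i.1 : Scheme.{u}).Opens).ι ≫ i.1.ι) (by simp),
    fun _ => (⊤ : (i.1 : Scheme.{u}).Opens).ι, fun _ => isAffineOpen_top _, fun _ => trivial,
    fun _ => by simp, ?_⟩
  exact haff (i.1 : Scheme.{u}) PUnit.{u+1} (fun _ => ⊤) (fun _ => isAffineOpen_top _) (by simp)

theorem cov_pullback {X Y : Over S} (f : Y ⟶ X) (R : Sieve X) (h : Cov C X R) :
    Cov C Y (R.pullback f) := by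
  obtain ⟨ι, U, hU, hcov, hloc⟩ := h
  refine ⟨{p : ι × Y.left.affineOpens // p.2.1 ≤ f.left ⁻¹ᵁ U p.1}, fun p => p.1.2.1,
    fun p => p.1.2.2, ?_, fun p => ?_⟩
  · rw [eq_top_iff]
    intro y _
    have hy : f.left y ∈ (⨆ i, U i : X.left.Opens) := by rw [hcov]; trivial
    obtain ⟨i, hi⟩ := TopologicalSpace.Opens.mem_iSup.mp hy
    obtain ⟨W, hW, hyW, hWle⟩ := exists_isAffineOpen_mem_and_subset (x := y)
      (U := f.left ⁻¹ᵁ U i) hi
    exact TopologicalSpace.Opens.mem_iSup.mpr ⟨⟨(i, ⟨W, hW⟩), hWle⟩, hyW⟩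
  · haveI : IsAffine (U p.1.1 : Scheme.{u}) := hU p.1.1
    haveI : IsAffine (p.1.2.1 : Scheme.{u}) := p.1.2.2
    exact locData_pullback C haff f R (U p.1.1) (U p.1.1).ι p.1.2.1 p.1.2.1.ι
      (f.left.resLE (U p.1.1) p.1.2.1 p.2) (Scheme.Hom.resLE_comp_ι _ _) (hloc p.1.1)

include hcoprod

theorem cov_trans {X : Over S} (S' R : Sieve X) (h : Cov C X S')
    (h2 : ∀ (Y : Over S) (f : Y ⟶ X), S'.arrows f → Cov C Y (R.pullback f)) : Cov C X R := by
  obtain ⟨ι, U, hU, hcov, hloc⟩ := h
  refine ⟨ι, U, hU, hcov, fun i => ?_⟩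
  refine locData_trans C hcoprod haff S' R _ _ (hloc i) fun Y f hf hY => ?_
  exact locData_of_cov C hcoprod haff _ (h2 Y f hf)

/-- the topology -/
def topology : GrothendieckTopology (Over S) where
  sieves X := {R | Cov C X R}
  top_mem' X := cov_top C haff X
  pullback_stable' _ _ R f h := cov_pullback C haff f R h
  transitive' _ S' h R h2 := cov_trans C hcoprod haff S' R h h2

theorem main : ∃ J : GrothendieckTopology (Over S), ∀ (X : Over S) (R : Sieve X), R ∈ J X ↔
      ∃ (ι : Type u) (U : ι → X.left.Opens), (∀ i, IsAffineOpen (U i)) ∧ ⨆ i, U i = ⊤ ∧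
        ∀ i, ∃ (κ : Type u) (_ : Finite κ) (V : κ → Over S) (φ : ∀ j, V j ⟶ X)
          (ψ : ∀ j, (V j).left ⟶ (U i : Scheme.{u})),
          (∀ j, IsAffine (V j).left) ∧ (∀ j, R.arrows (φ j)) ∧ (∀ j, ψ j ≫ (U i).ι = (φ j).left) ∧
            C (Limits.Sigma.desc ψ) :=
  ⟨topology C hcoprod haff, fun _ _ => Iff.rfl⟩

end

end Aux

/-- Fix a scheme S and a class C of quasi-compact morphisms of schemes which is stable under composition
and base change, closed under finite coproducts, and contains ∐_j V_j → U for every finite affine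
open cover (V_j) of an affine scheme U. Declare a sieve R on an S-scheme X to be covering when X has
an affine open cover (U_i) such that for every i there are finitely many affine S-schemes V_j and
S-morphisms V_j → X in R factoring through U_i with the induced morphism ∐_j V_j → U_i in C. Then
there is a Grothendieck topology on S-schemes whose covering sieves are exactly these. (The
published statement also allows a local property of S-schemes preserved by the class and works on
the S-schemes having it, takes a class of morphisms of S-schemes, and says that covering may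
equivalently be tested with arbitrary rather than affine opens and schemes; this row takes no such
property and a class of morphisms of schemes, and defines covering sieves through affine opens and
affine schemes only.) -/
theorem result (S : Scheme.{u})
    (C : MorphismProperty Scheme.{u}) [C.IsStableUnderComposition] [C.IsStableUnderBaseChange]
    (hqc : ∀ {A B : Scheme.{u}} (f : A ⟶ B), C f → QuasiCompact f)
    (hcoprod : ∀ (κ : Type u) [Finite κ] (A B : κ → Scheme.{u}) (f : ∀ j, A j ⟶ B j),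
      (∀ j, C (f j)) → C (Limits.Sigma.map f))
    (haff : ∀ (U : Scheme.{u}) [IsAffine U] (κ : Type u) [Finite κ] (V : κ → U.Opens),
      (∀ j, IsAffineOpen (V j)) → ⨆ j, V j = ⊤ → C (Limits.Sigma.desc fun j => (V j).ι)) :
    ∃ J : GrothendieckTopology (Over S), ∀ (X : Over S) (R : Sieve X), R ∈ J X ↔
      ∃ (ι : Type u) (U : ι → X.left.Opens), (∀ i, IsAffineOpen (U i)) ∧ ⨆ i, U i = ⊤ ∧
        ∀ i, ∃ (κ : Type u) (_ : Finite κ) (V : κ → Over S) (φ : ∀ j, V j ⟶ X)
          (ψ : ∀ j, (V j).left ⟶ (U i : Scheme.{u})),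
          (∀ j, IsAffine (V j).left) ∧ (∀ j, R.arrows (φ j)) ∧ (∀ j, ψ j ≫ (U i).ι = (φ j).left) ∧
            C (Limits.Sigma.desc ψ) := by
  exact Aux.main C hcoprod haff

end Groth.Agent.S14463
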