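import Groth.Statements.S14465
import Mathlib
import Groth.Agent.S14463
-- import your own Groth.Agent.* helpers here

set_option autoImplicit false
universe v u
open CategoryTheory CategoryTheory.Limits AlgebraicGeometry
open BigSite

namespace Groth.Agent.S14465

open CategoryTheory CategoryTheory.Limits AlgebraicGeometry
namespace Aux
set_option linter.unusedSectionVars false
set_option backward.isDefEq.respectTransparency false
set_option linter.style.haveILetI false

open Groth.Agent.S14463.Aux (LocData Cov)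

section
variable {S : Scheme.{u}} (C : MorphismProperty Scheme.{u}) [C.IsStableUnderBaseChange]
  (F : (Over S)ᵒᵖ ⥤ Type v)
  (hsing : ∀ (X X' : Over S) (f : X' ⟶ X), C f.left → Presieve.IsSheafFor F (Presieve.singleton f))

include hsing in
/-- Claim 2: sieve generated by a `C`-morphism is covering for the finest topology -/
theorem generate_singleton_mem {U W : Over S} (w : W ⟶ U) (hw : C w.left) :
    Sieve.generate (Presieve.singleton w) ∈ Sheaf.finestTopologySingle F U := by
  intro Y g
  rw [← Sieve.pullbackArrows_comm, Presieve.pullback_singleton,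
    ← Presieve.isSheafFor_iff_generate]
  apply hsing
  have h1 : IsPullback (pullback.fst w g) (pullback.snd w g) w g := IsPullback.of_hasPullback w g
  have h2 := h1.map (Over.forget S)
  exact C.of_isPullback h2 hw

variable (hZ : Presieve.IsSheaf (Scheme.zariskiTopology.over S) F)

include hZ in
theorem zar_le : Scheme.zariskiTopology.over S ≤ Sheaf.finestTopologySingle F := by
  intro X R hR Y f
  exact hZ _ ((Scheme.zariskiTopology.over S).pullback_stable f hR)

include hZ hsing in
/-- Claim 3 -/
theorem ofArrows_mem {Uo : Over S} (κ : Type u) (V : κ → Over S) (ψo : ∀ j, V j ⟶ Uo)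
    (hC : C (Limits.Sigma.desc fun j => (ψo j).left)) :
    Sieve.ofArrows V ψo ∈ Sheaf.finestTopologySingle F Uo := by
  let K := Sheaf.finestTopologySingle F
  let Wo : Over S := Over.mk ((Limits.Sigma.desc fun j => (ψo j).left) ≫ Uo.hom)
  let wo : Wo ⟶ Uo := Over.homMk (Limits.Sigma.desc fun j => (ψo j).left)
  have h1 : Sieve.generate (Presieve.singleton wo) ∈ K Uo :=
    generate_singleton_mem C F hsing wo hC
  refine K.transitive h1 _ ?_
  rintro Y h ⟨Y', a, b, ⟨⟩, rfl⟩
  rw [Sieve.pullback_comp]
  apply K.pullback_stable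
  let ιo : ∀ j, V j ⟶ Wo := fun j => Over.homMk (Limits.Sigma.ι (fun j => (V j).left) j) (by
    simp only [Wo, Over.mk_hom, Limits.Sigma.ι_desc_assoc]
    exact Over.w (ψo j))
  have h2 : Sieve.ofArrows V ιo ≤ (Sieve.ofArrows V ψo).pullback wo := by
    rw [Sieve.ofArrows, Sieve.generate_le_iff]
    rintro _ _ ⟨j⟩
    change (Sieve.ofArrows V ψo).arrows (ιo j ≫ wo)
    have : ιo j ≫ wo = ψo j := by
      ext
      simp [ιo, wo]
    rw [this]
    exact Sieve.ofArrows_mk _ _ j
  refine K.superset_covering h2 ?_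
  apply zar_le F hZ
  rw [GrothendieckTopology.mem_over_iff, Sieve.overEquiv_ofArrows]
  exact (sigmaOpenCover (fun j => (V j).left)).mem_grothendieckTopology

include hZ hsing in
/-- Claim 4 -/
theorem cov_mem {X : Over S} (R : Sieve X) (h : Cov C X R) :
    R ∈ Sheaf.finestTopologySingle F X := by
  obtain ⟨ι, U, hU, hcov, hloc⟩ := h
  let K := Sheaf.finestTopologySingle F
  let Uo : ι → Over S := fun i => Over.mk ((U i).ι ≫ X.hom)
  let uo : ∀ i, Uo i ⟶ X := fun i => Over.homMk (U i).ι
  have h1 : Sieve.ofArrows Uo uo ∈ K X := by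
    apply zar_le F hZ
    rw [GrothendieckTopology.mem_over_iff, Sieve.overEquiv_ofArrows]
    exact (X.left.openCoverOfIsOpenCover U (.mk hcov)).mem_grothendieckTopology
  refine K.transitive h1 _ ?_
  rintro Y h ⟨Y', a, b, ⟨i⟩, rfl⟩
  rw [Sieve.pullback_comp]
  apply K.pullback_stable
  obtain ⟨κ, hκ, V, φ, ψ, hV, hR, hψ, hC⟩ := hloc i
  let ψo : ∀ j, V j ⟶ Uo i := fun j => Over.homMk (ψ j) (by
    simp only [Uo, Over.mk_hom]
    rw [← Category.assoc, hψ j]
    exact Over.w (φ j))
  have h2 : Sieve.ofArrows V ψo ≤ R.pullback (uo i) := by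
    rw [Sieve.ofArrows, Sieve.generate_le_iff]
    rintro _ _ ⟨j⟩
    change R.arrows (ψo j ≫ uo i)
    have : ψo j ≫ uo i = φ j := by
      ext
      simp [ψo, uo, hψ j]
    rw [this]
    exact hR j
  exact K.superset_covering h2 (ofArrows_mem C F hsing hZ κ V ψo hC)

end

/-- a quasi-compact scheme has a finite affine open cover (by opens) -/
theorem exists_finite_affine_cover (Y : Scheme.{u}) [CompactSpace Y] :
    ∃ (κ : Type u) (_ : Finite κ) (A : κ → Y.Opens), (∀ l, IsAffineOpen (A l)) ∧ ⨆ l, A l = ⊤ := by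
  obtain ⟨t, ht⟩ := isCompact_univ.elim_finite_subcover (fun i : Y.affineOpens => (i.1 : Set Y))
    (fun i => i.1.isOpen) (by
      intro x _
      have : x ∈ (⨆ i : Y.affineOpens, (i : Y.Opens)) := by
        rw [iSup_affineOpens_eq_top]; trivial
      simpa using this)
  refine ⟨{i // i ∈ t}, inferInstance, fun i => i.1.1, fun i => i.1.2, ?_⟩
  rw [eq_top_iff]
  intro x _
  have := ht (Set.mem_univ x)
  simp only [Set.mem_iUnion, exists_prop] at this
  obtain ⟨i, hi, hx⟩ := this
  exact TopologicalSpace.Opens.mem_iSup.mpr ⟨⟨i, hi⟩, hx⟩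

section
variable {S : Scheme.{u}} (C : MorphismProperty Scheme.{u}) [C.IsStableUnderBaseChange]
  (hqc : ∀ {A B : Scheme.{u}} (f : A ⟶ B), C f → QuasiCompact f)
  (haff : ∀ (U : Scheme.{u}) [IsAffine U] (κ : Type u) [Finite κ] (V : κ → U.Opens),
      (∀ j, IsAffineOpen (V j)) → ⨆ j, V j = ⊤ → C (Limits.Sigma.desc fun j => (V j).ι))
  (hres : ∀ (W X' : Scheme.{u}) [IsAffine W] (f : X' ⟶ W), C f →
      ∀ (κ : Type u) [Finite κ] (A : κ → X'.Opens), (∀ l, IsAffineOpen (A l)) → ⨆ l, A l = ⊤ →
        C (Limits.Sigma.desc fun l => (A l).ι ≫ f))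

include haff in
/-- Zariski covering sieves are covering -/
theorem zar_cov {X : Over S} (R : Sieve X) (hR : R ∈ Scheme.zariskiTopology.over S X) :
    Cov C X R := by
  rw [GrothendieckTopology.mem_over_iff] at hR
  obtain ⟨𝒰, h𝒰⟩ := Scheme.exists_cover_of_mem_grothendieckTopology hR
  have key : ∀ x : X.left, ∃ W : X.left.Opens, IsAffineOpen W ∧ x ∈ W ∧
      (Sieve.overEquiv X R).arrows W.ι := by
    intro x
    obtain ⟨i, y, hy⟩ := 𝒰.exists_eq x
    haveI : IsOpenImmersion (𝒰.f i) := 𝒰.map_prop i
    have hx : x ∈ (𝒰.f i).opensRange := ⟨y, hy⟩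
    obtain ⟨W, hW, hxW, hWle⟩ := exists_isAffineOpen_mem_and_subset hx
    refine ⟨W, hW, hxW, ?_⟩
    have h1 : W.ι = IsOpenImmersion.lift (𝒰.f i) W.ι (by simpa using hWle) ≫ 𝒰.f i :=
      (IsOpenImmersion.lift_fac _ _ _).symm
    rw [h1]
    exact Sieve.downward_closed _ (h𝒰 _ _ (Presieve.ofArrows.mk i)) _
  choose W hW hxW hWR using key
  refine ⟨X.left, W, hW, ?_, fun x => ?_⟩
  · rw [eq_top_iff]
    intro x _
    exact TopologicalSpace.Opens.mem_iSup.mpr ⟨x, hxW x⟩
  · haveI : IsAffine (W x : Scheme.{u}) := hW x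
    refine ⟨PUnit.{u+1}, inferInstance,
      fun _ => Over.mk (((⊤ : (W x : Scheme.{u}).Opens).ι ≫ (W x).ι) ≫ X.hom),
      fun _ => Over.homMk ((⊤ : (W x : Scheme.{u}).Opens).ι ≫ (W x).ι),
      fun _ => (⊤ : (W x : Scheme.{u}).Opens).ι, fun _ => isAffineOpen_top _, fun _ => ?_,
      fun _ => by simp, ?_⟩
    · rw [← Sieve.overEquiv_iff]
      exact Sieve.downward_closed _ (hWR x) _
    · exact haff (W x : Scheme.{u}) PUnit.{u+1} (fun _ => ⊤) (fun _ => isAffineOpen_top _)
        (by simp)

include hqc hres in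
/-- the sieve generated by a `C`-morphism is covering -/
theorem singleton_cov {X X' : Over S} (f : X' ⟶ X) (hf : C f.left) :
    Cov C X (Sieve.generate (Presieve.singleton f)) := by
  refine ⟨X.left.affineOpens, fun i => i.1, fun i => i.2, iSup_affineOpens_eq_top _, fun i => ?_⟩
  haveI : QuasiCompact f.left := hqc _ hf
  let P : X'.left.Opens := f.left ⁻¹ᵁ i.1
  haveI : CompactSpace (P : Scheme.{u}) :=
    isCompact_iff_compactSpace.mp (f.left.isCompact_preimage i.2.isCompact)
  obtain ⟨κ, hκ, A, hA, hAcov⟩ := exists_finite_affine_cover (P : Scheme.{u})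
  have hCr : C (f.left ∣_ i.1) := C.of_isPullback (isPullback_morphismRestrict f.left i.1).flip hf
  have hCd := hres (i.1 : Scheme.{u}) (P : Scheme.{u}) (f.left ∣_ i.1) hCr κ A hA hAcov
  let lo : ∀ l, Over.mk (((A l).ι ≫ P.ι) ≫ X'.hom) ⟶ X' := fun l => Over.homMk ((A l).ι ≫ P.ι)
  refine ⟨κ, hκ, fun l => Over.mk (((A l).ι ≫ P.ι) ≫ X'.hom), fun l => lo l ≫ f,
    fun l => (A l).ι ≫ f.left ∣_ i.1, fun l => hA l, fun l => ?_, fun l => ?_, hCd⟩
  · exact Sieve.downward_closed _ (Sieve.le_generate _ _ _ (Presieve.singleton.mk)) _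
  · simp [lo, P]

include hqc haff hres in
theorem main (J : GrothendieckTopology (Over S))
    (hJ : ∀ (X : Over S) (R : Sieve X), R ∈ J X ↔ Cov C X R)
    (F : (Over S)ᵒᵖ ⥤ Type v) :
    Presieve.IsSheaf J F ↔
      (Presieve.IsSheaf (Scheme.zariskiTopology.over S) F ∧
        ∀ (X X' : Over S) (f : X' ⟶ X), C f.left →
          Presieve.IsSheafFor F (Presieve.singleton f)) := by
  constructor
  · intro h
    refine ⟨Presieve.isSheaf_of_le F ?_ h, fun X X' f hf => ?_⟩
    · intro X R hR
      exact (hJ X R).mpr (zar_cov C haff R hR)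
    · rw [Presieve.isSheafFor_iff_generate]
      exact h _ ((hJ X _).mpr (singleton_cov C hqc hres f hf))
  · rintro ⟨hZ, hsing⟩ X R hR
    have := cov_mem C F hsing hZ R ((hJ X R).mp hR) X (𝟙 X)
    rwa [Sieve.pullback_id] at this

end

end Aux

/-- Fix a scheme S and a class C of quasi-compact morphisms of schemes, stable under composition and
base change, closed under finite coproducts, and containing ∐_j V_j → U for every finite affine open
cover (V_j) of an affine scheme U. Assume moreover that for every morphism f : X' → W in C with W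
affine and every finite affine open cover (A_l) of X', the induced morphism ∐_l A_l → W lies in C.
Let J be the Grothendieck topology on S-schemes whose covering sieves are those admitting
affine-local finite C-covering data (an affine open cover (U_i) of X and, for each i, finitely many
affine S-schemes V_j → X in the sieve factoring through U_i with ∐_j V_j → U_i in C). Then a
presheaf of types on S-schemes is a J-sheaf if and only if it is a sheaf for the big Zariski
topology on S-schemes and satisfies the sheaf condition for every single S-morphism X' → X whose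
underlying morphism of schemes lies in C. (The published statement does not assume the hypothesis on
finite affine open covers of the source of a C-morphism with affine target; its proof uses that
hypothesis, through an unproved equivalence between arbitrary and affine covering data, to see that
the sieve generated by a C-morphism is covering. The hypothesis holds for the classes of fpqc
morphisms, of fppf morphisms and of surjective étale quasi-compact morphisms. The published
statement also allows a local property of S-schemes preserved by the class; this row takes no such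
property and a class of morphisms of schemes.) -/
theorem result (S : Scheme.{u})
    (C : MorphismProperty Scheme.{u}) [C.IsStableUnderComposition] [C.IsStableUnderBaseChange]
    (hqc : ∀ {A B : Scheme.{u}} (f : A ⟶ B), C f → QuasiCompact f)
    (hcoprod : ∀ (κ : Type u) [Finite κ] (A B : κ → Scheme.{u}) (f : ∀ j, A j ⟶ B j),
      (∀ j, C (f j)) → C (Limits.Sigma.map f))
    (haff : ∀ (U : Scheme.{u}) [IsAffine U] (κ : Type u) [Finite κ] (V : κ → U.Opens),
      (∀ j, IsAffineOpen (V j)) → ⨆ j, V j = ⊤ → C (Limits.Sigma.desc fun j => (V j).ι))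
    (hres : ∀ (W X' : Scheme.{u}) [IsAffine W] (f : X' ⟶ W), C f →
      ∀ (κ : Type u) [Finite κ] (A : κ → X'.Opens), (∀ l, IsAffineOpen (A l)) → ⨆ l, A l = ⊤ →
        C (Limits.Sigma.desc fun l => (A l).ι ≫ f))
    (J : GrothendieckTopology (Over S))
    (hJ : ∀ (X : Over S) (R : Sieve X), R ∈ J X ↔
      ∃ (ι : Type u) (U : ι → X.left.Opens), (∀ i, IsAffineOpen (U i)) ∧ ⨆ i, U i = ⊤ ∧
        ∀ i, ∃ (κ : Type u) (_ : Finite κ) (V : κ → Over S) (φ : ∀ j, V j ⟶ X)
          (ψ : ∀ j, (V j).left ⟶ (U i : Scheme.{u})),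
          (∀ j, IsAffine (V j).left) ∧ (∀ j, R.arrows (φ j)) ∧ (∀ j, ψ j ≫ (U i).ι = (φ j).left) ∧
            C (Limits.Sigma.desc ψ))
    (F : (Over S)ᵒᵖ ⥤ Type v) :
    Presieve.IsSheaf J F ↔
      (Presieve.IsSheaf (Scheme.zariskiTopology.over S) F ∧
        ∀ (X X' : Over S) (f : X' ⟶ X), C f.left → Presieve.IsSheafFor F (Presieve.singleton f)) := by
  exact Aux.main C hqc haff hres J hJ F

end Groth.Agent.S14465
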