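import Groth.Statements.S14475
import Mathlib
import Groth.Agent.Lib.Helper5.HypSurf.Ann
import Groth.Agent.Lib.Helper5.HypSurf.FdSmooth
import Groth.Agent.S14477

set_option autoImplicit false
universe u
open CategoryTheory CategoryTheory.Limits KaehlerDifferential
open LocInt



namespace Groth.Agent.S14475

/-- Let A → B be a smooth ring map with Ω_{B/A} of rank n at every prime of B, g ∈ B a nonzerodivisor
and R = B/gB, so that Spec R is a hypersurface of virtual relative dimension n - 1 over Spec A. Let
M be an R-module of flat dimension at most m over A (Tor^A_i(M, P) = 0 for i > m and every A-module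
P) and N an R-module. Then for q ≥ m + n the module Tor^R_q(M, N) (Mathlib's Tor on R-modules,
left-derived in the second variable) is annihilated by the annihilator ideal of the n-th exterior
power of Ω_{R/A}, i.e. it is a module over the closed subscheme Z defined by that ideal. (The
published statement is for a scheme that is locally such a hypersurface, an arbitrary module over it
of tor-dimension at most m over the base, and a bounded complex on a scheme over it; this row is the
affine case with a single module on the hypersurface itself.) -/
theorem result (A B R : Type u) [CommRing A] [CommRing B] [CommRing R]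
    [Algebra A B] [Algebra B R] [Algebra A R] [IsScalarTower A B R] [Algebra.Smooth A B] (n : ℕ)
    (hn : ∀ p : PrimeSpectrum B, Module.rankAtStalk (Ω[B⁄A]) p = n)
    (g : B) (hg : IsSMulRegular B g) (hsurj : Function.Surjective (algebraMap B R))
    (hker : RingHom.ker (algebraMap B R) = Ideal.span {g})
    (m : ℕ) (M N : ModuleCat.{u} R)
    (hM : ∀ (P : ModuleCat.{u} A) (i : ℕ), m < i →
      IsZero (((Tor (ModuleCat.{u} A) i).obj ((ModuleCat.restrictScalars (algebraMap A R)).obj M)).obj P))
    (q : ℕ) (hq : m + n ≤ q) :
    (⋀[R]^n (Ω[R⁄A])).annihilator ≤ Module.annihilator R (((Tor (ModuleCat.{u} R) q).obj M).obj N) := by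
  rw [Groth.Agent.S14477.result A B R n hn g hg hsurj hker, Ideal.span_le]
  rintro _ ⟨φ, rfl⟩
  letI : Module B ↑M := Module.compHom ↑M (algebraMap B R)
  haveI : IsScalarTower B R ↑M := IsScalarTower.of_algebraMap_smul (fun _ _ => rfl)
  letI : Module A ↑M := Module.compHom ↑M (algebraMap A R)
  haveI : IsScalarTower A R ↑M := IsScalarTower.of_algebraMap_smul (fun _ _ => rfl)
  haveI : IsScalarTower A B ↑M := ⟨fun a b x => by
    show algebraMap B R (a • b) • x = algebraMap A R a • (algebraMap B R b • x)
    rw [Algebra.smul_def, map_mul, ← IsScalarTower.algebraMap_apply, mul_smul]⟩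
  have hA : Groth.Agent.Lib.Helper5.TorPro.fdLE m (ModuleCat.of A ↑M) := fun P i hi => hM P i hi
  have hB : Groth.Agent.Lib.Helper5.TorPro.fdLE (m + n) (ModuleCat.of B ↑M) :=
    Groth.Agent.Lib.Helper5.HypSurf.fdLE_of_smooth A B n hn ↑M m hA
  show algebraMap B R (φ (KaehlerDifferential.D A B g)) ∈
    Module.annihilator R (((Tor (ModuleCat.{u} R) q).obj M).obj N)
  rw [Module.mem_annihilator]
  intro t
  exact Groth.Agent.Lib.Helper5.HypSurf.smul_tor B R hg hsurj hker
    (φ.compDer (KaehlerDifferential.D A B)) N (m + n) ↑M hB q hq t

end Groth.Agent.S14475
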