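import Groth.Statements.S14478
import Mathlib

set_option autoImplicit false
universe u
open CharCyc

namespace Groth.Agent.S14478

section
open Module

variable {k : Type*} [Field k] {W : Type*} [AddCommGroup W] [Module k W]

theorem exists_notMem_two (P Q : Submodule k W) (hP : P ≠ ⊤) (hQ : Q ≠ ⊤) :
    ∃ w, w ∉ P ∧ w ∉ Q := by
  obtain ⟨x, hx⟩ : ∃ x, x ∉ P := by
    by_contra h; push Not at h; exact hP (eq_top_iff.2 fun x _ => h x)
  obtain ⟨y, hy⟩ : ∃ y, y ∉ Q := by
    by_contra h; push Not at h; exact hQ (eq_top_iff.2 fun x _ => h x)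
  by_cases hxQ : x ∈ Q
  · by_cases hyP : y ∈ P
    · refine ⟨x + y, ?_, ?_⟩
      · intro h
        exact hx (by simpa using P.sub_mem h hyP)
      · intro h
        exact hy (by simpa using Q.sub_mem h hxQ)
    · exact ⟨y, hyP, hy⟩
  · exact ⟨x, hx, hxQ⟩

theorem common_compl [FiniteDimensional k W] :
    ∀ (d : ℕ) (P Q : Submodule k W), finrank k P + d = finrank k W → finrank k Q = finrank k P →
      ∃ U : Submodule k W, IsCompl P U ∧ IsCompl Q U := by
  intro d
  induction d with
  | zero =>
    intro P Q hP hQ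
    have hPtop : P = ⊤ := Submodule.eq_top_of_finrank_eq (by omega)
    have hQtop : Q = ⊤ := Submodule.eq_top_of_finrank_eq (by omega)
    exact ⟨⊥, hPtop ▸ isCompl_top_bot, hQtop ▸ isCompl_top_bot⟩
  | succ d ih =>
    intro P Q hP hQ
    have hPne : P ≠ ⊤ := by
      rintro rfl
      rw [finrank_top] at hP
      omega
    have hQne : Q ≠ ⊤ := by
      rintro rfl
      rw [finrank_top] at hQ
      omega
    obtain ⟨w, hwP, hwQ⟩ := exists_notMem_two P Q hPne hQne
    have hw0 : w ≠ 0 := by
      rintro rfl
      exact hwP P.zero_mem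
    have hdim : ∀ (S : Submodule k W), w ∉ S →
        finrank k ↥(S ⊔ Submodule.span k {w}) = finrank k S + 1 := by
      intro S hS
      have hdisj : S ⊓ Submodule.span k {w} = ⊥ := by
        rw [Submodule.eq_bot_iff]
        rintro x ⟨hxS, hxw⟩
        obtain ⟨t, rfl⟩ := Submodule.mem_span_singleton.1 hxw
        by_contra hne
        have ht : t ≠ 0 := by
          rintro rfl
          exact hne (zero_smul _ _)
        apply hS
        have := S.smul_mem t⁻¹ hxS
        rwa [smul_smul, inv_mul_cancel₀ ht, one_smul] at this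
      have := Submodule.finrank_sup_add_finrank_inf_eq S (Submodule.span k {w})
      rw [hdisj, finrank_bot, add_zero, finrank_span_singleton hw0] at this
      exact this
    obtain ⟨U', hPU', hQU'⟩ := ih (P ⊔ Submodule.span k {w}) (Q ⊔ Submodule.span k {w})
      (by rw [hdim P hwP]; omega) (by rw [hdim P hwP, hdim Q hwQ, hQ])
    refine ⟨U' ⊔ Submodule.span k {w}, ?_, ?_⟩
    · have hsup : P ⊔ (U' ⊔ Submodule.span k {w}) = ⊤ := by
        rw [sup_comm U', ← sup_assoc]
        exact hPU'.sup_eq_top
      have hU'dim : finrank k ↥(P ⊔ Submodule.span k {w}) + finrank k U' = finrank k W := by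
        have := Submodule.finrank_sup_add_finrank_inf_eq (P ⊔ Submodule.span k {w}) U'
        rw [hPU'.sup_eq_top, hPU'.inf_eq_bot, finrank_top, finrank_bot, add_zero] at this
        exact this.symm
      have hUle : finrank k ↥(U' ⊔ Submodule.span k {w}) ≤ finrank k U' + 1 := by
        have := Submodule.finrank_add_le_finrank_add_finrank U' (Submodule.span k {w})
        rwa [finrank_span_singleton hw0] at this
      have h2 := Submodule.finrank_sup_add_finrank_inf_eq P (U' ⊔ Submodule.span k {w})
      rw [hsup, finrank_top] at h2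
      rw [hdim P hwP] at hU'dim
      have hinf : finrank k ↥(P ⊓ (U' ⊔ Submodule.span k {w})) = 0 := by omega
      refine ⟨disjoint_iff.2 (Submodule.finrank_eq_zero.1 hinf), codisjoint_iff.2 hsup⟩
    · have hsup : Q ⊔ (U' ⊔ Submodule.span k {w}) = ⊤ := by
        rw [sup_comm U', ← sup_assoc]
        exact hQU'.sup_eq_top
      have hU'dim : finrank k ↥(Q ⊔ Submodule.span k {w}) + finrank k U' = finrank k W := by
        have := Submodule.finrank_sup_add_finrank_inf_eq (Q ⊔ Submodule.span k {w}) U'
        rw [hQU'.sup_eq_top, hQU'.inf_eq_bot, finrank_top, finrank_bot, add_zero] at this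
        exact this.symm
      have hUle : finrank k ↥(U' ⊔ Submodule.span k {w}) ≤ finrank k U' + 1 := by
        have := Submodule.finrank_add_le_finrank_add_finrank U' (Submodule.span k {w})
        rwa [finrank_span_singleton hw0] at this
      have h2 := Submodule.finrank_sup_add_finrank_inf_eq Q (U' ⊔ Submodule.span k {w})
      rw [hsup, finrank_top] at h2
      rw [hdim Q hwQ] at hU'dim
      have hinf : finrank k ↥(Q ⊓ (U' ⊔ Submodule.span k {w})) = 0 := by omega
      refine ⟨disjoint_iff.2 (Submodule.finrank_eq_zero.1 hinf), codisjoint_iff.2 hsup⟩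


theorem main (k V : Type u) [Field k] [AddCommGroup V] [Module k V]
    [FiniteDimensional k V] (T : Submodule k (V × Module.Dual k V))
    (hT : Module.finrank k T = Module.finrank k V) :
    ∃ (V₂ : Submodule k V) (h : IsCompl (T.comap (LinearMap.inl k V (Module.Dual k V))) V₂),
      ∀ A₁ : T.comap (LinearMap.inl k V (Module.Dual k V)) →ₗ[k]
          Module.Dual k (T.comap (LinearMap.inl k V (Module.Dual k V))),
        Function.Injective A₁ →
          LinearMap.graph ((Submodule.projectionOnto _ V₂ h).dualMap ∘ₗ A₁ ∘ₗ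
              Submodule.projectionOnto _ V₂ h) ⊓ T = ⊥ := by
  classical
  set V₁ := T.comap (LinearMap.inl k V (Module.Dual k V)) with hV₁
  set P : Submodule k (Module.Dual k V) := T.map (LinearMap.snd k V (Module.Dual k V)) with hP
  -- dimension of P
  let f : T →ₗ[k] Module.Dual k V := (LinearMap.snd k V (Module.Dual k V)).domRestrict T
  have hrange : LinearMap.range f = P := by
    ext φ
    constructor
    · rintro ⟨⟨x, hx⟩, rfl⟩
      exact ⟨x, hx, rfl⟩
    · rintro ⟨x, hx, rfl⟩
      exact ⟨⟨x, hx⟩, rfl⟩
  let g : V₁ →ₗ[k] T :=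
    { toFun := fun v => ⟨(v.1, 0), v.2⟩
      map_add' := by intro a b; apply Subtype.ext; simp
      map_smul' := by intro c a; apply Subtype.ext; simp }
  have hginj : Function.Injective g := by
    intro a b hab
    have := congrArg (fun t : T => t.1.1) hab
    exact Subtype.ext this
  have hgrange : LinearMap.range g = LinearMap.ker f := by
    ext t
    constructor
    · rintro ⟨v, rfl⟩
      rw [LinearMap.mem_ker]
      rfl
    · intro ht
      rw [LinearMap.mem_ker] at ht
      have h2 : t.1.2 = 0 := ht
      have hmem : t.1.1 ∈ V₁ := by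
        rw [hV₁, Submodule.mem_comap]
        have : (LinearMap.inl k V (Module.Dual k V)) t.1.1 = t.1 := by
          apply Prod.ext
          · rfl
          · exact h2.symm
        rw [this]
        exact t.2
      refine ⟨⟨t.1.1, hmem⟩, ?_⟩
      apply Subtype.ext
      apply Prod.ext
      · rfl
      · exact h2.symm
  have hdimP : finrank k P + finrank k V₁ = finrank k V := by
    have h1 := LinearMap.finrank_range_add_finrank_ker (K := k) (V := T) (V₂ := Module.Dual k V) f
    rw [hrange, ← hgrange, LinearMap.finrank_range_of_inj hginj, hT] at h1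
    exact h1
  have hdimAnn := Subspace.finrank_add_finrank_dualAnnihilator_eq V₁
  have hdual : finrank k (Module.Dual k V) = finrank k V := Subspace.dual_finrank_eq
  obtain ⟨U, hPU, hQU⟩ := common_compl (finrank k V₁) P V₁.dualAnnihilator
    (by rw [hdual]; exact hdimP) (by omega)
  set V₂ := U.dualCoannihilator with hV₂
  have hdimU : finrank k U = finrank k V₁ := by
    have := Submodule.finrank_sup_add_finrank_inf_eq V₁.dualAnnihilator U
    rw [hQU.sup_eq_top, hQU.inf_eq_bot, finrank_top, finrank_bot, add_zero, hdual] at this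
    omega
  have hdimV₂ : finrank k U + finrank k V₂ = finrank k V :=
    Subspace.finrank_add_finrank_dualCoannihilator_eq U
  have hdisj : Disjoint V₁ V₂ := by
    rw [Submodule.disjoint_def]
    intro v hv1 hv2
    rw [← Module.forall_dual_apply_eq_zero_iff k]
    intro φ
    have hφ : φ ∈ V₁.dualAnnihilator ⊔ U := by rw [hQU.sup_eq_top]; trivial
    obtain ⟨φ₁, hφ₁, φ₂, hφ₂, rfl⟩ := Submodule.mem_sup.1 hφ
    rw [LinearMap.add_apply, (Submodule.mem_dualAnnihilator φ₁).1 hφ₁ v hv1,
      (Submodule.mem_dualCoannihilator v).1 hv2 φ₂ hφ₂, add_zero]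
  have hcompl : IsCompl V₁ V₂ :=
    (Submodule.isCompl_iff_disjoint V₁ V₂ (by omega)).2 hdisj
  refine ⟨V₂, hcompl, ?_⟩
  intro A₁ hA₁
  rw [Submodule.eq_bot_iff]
  rintro ⟨v, φ⟩ ⟨hgraph, hxT⟩
  rw [SetLike.mem_coe, LinearMap.mem_graph_iff] at hgraph
  simp only at hgraph
  set p := Submodule.projectionOnto V₁ V₂ hcompl with hp
  have hφP : φ ∈ P := ⟨(v, φ), hxT, rfl⟩
  have hUeq : V₂.dualAnnihilator = U := Subspace.dualCoannihilator_dualAnnihilator_eq
  have hφU : φ ∈ U := by
    rw [← hUeq, Submodule.mem_dualAnnihilator]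
    intro w hw
    rw [hgraph]
    simp only [LinearMap.coe_comp, Function.comp_apply, LinearMap.dualMap_apply]
    have : p w = 0 := (Submodule.projectionOnto_apply_eq_zero_iff hcompl).2 hw
    rw [this, map_zero]
  have hφ0 : φ = 0 := by
    have : φ ∈ P ⊓ U := ⟨hφP, hφU⟩
    rw [hPU.inf_eq_bot] at this
    exact (Submodule.mem_bot k).1 this
  have hA0 : A₁ (p v) = 0 := by
    ext y
    have h1 : φ (y : V) = (A₁ (p v)) (p (y : V)) := by
      rw [hgraph]
      simp only [LinearMap.coe_comp, Function.comp_apply, LinearMap.dualMap_apply]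
    rw [Submodule.projectionOnto_apply_left hcompl y, hφ0] at h1
    simpa using h1.symm
  have hpv : p v = 0 := hA₁ (by rw [hA0, map_zero])
  have hv2 : v ∈ V₂ := (Submodule.projectionOnto_apply_eq_zero_iff hcompl).1 hpv
  have hv1 : v ∈ V₁ := by
    rw [hV₁, Submodule.mem_comap]
    have : (LinearMap.inl k V (Module.Dual k V)) v = (v, φ) := by
      rw [hφ0]; rfl
    rw [this]
    exact hxT
  have hv0 : v = 0 := by
    have : v ∈ V₁ ⊓ V₂ := ⟨hv1, hv2⟩
    rw [hcompl.inf_eq_bot] at this
    exact (Submodule.mem_bot k).1 this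
  rw [hv0, hφ0]
  rfl


end


/-- Let V be a finite-dimensional vector space over a field k, let W = V × V^∨ with V^∨ the dual space,
and let T ⊆ W be a subspace with dim T = dim V; put V₁ = V ∩ T, where V sits in W as V × 0. Then
there is a complement V₂ of V₁ in V with the following property: for every injective linear map A₁ :
V₁ → V₁^∨, the map A : V → V^∨ extending A₁ by zero along the decompositions V = V₁ ⊕ V₂ and V^∨ =
V₁^∨ ⊕ V₂^∨ (so A v = A₁(p v) ∘ p, with p : V → V₁ the projection along V₂) has graph Γ ⊆ W with Γ ∩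
T = 0. -/
theorem result (k V : Type u) [Field k] [AddCommGroup V] [Module k V]
    [FiniteDimensional k V] (T : Submodule k (V × Module.Dual k V))
    (hT : Module.finrank k T = Module.finrank k V) :
    ∃ (V₂ : Submodule k V) (h : IsCompl (T.comap (LinearMap.inl k V (Module.Dual k V))) V₂),
      ∀ A₁ : T.comap (LinearMap.inl k V (Module.Dual k V)) →ₗ[k]
          Module.Dual k (T.comap (LinearMap.inl k V (Module.Dual k V))),
        Function.Injective A₁ →
          LinearMap.graph ((Submodule.projectionOnto _ V₂ h).dualMap ∘ₗ A₁ ∘ₗ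
              Submodule.projectionOnto _ V₂ h) ⊓ T = ⊥ := by
  classical
  exact main k V T hT

end Groth.Agent.S14478
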