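import Groth.Statements.S14479
import Mathlib

set_option autoImplicit false
universe u
open CharCyc

namespace Groth.Agent.S14479

section


theorem toMatrix_add_flip {k V : Type u} [Field k] [AddCommGroup V] [Module k V]
    {ι : Type} [Fintype ι] [DecidableEq ι] (b : Module.Basis ι k V) (M : Matrix ι ι k) :
    LinearMap.BilinForm.toMatrix b (Matrix.toBilin b M + (Matrix.toBilin b M).flip) =
      M + M.transpose := by
  apply Matrix.ext
  intro i j
  rw [LinearMap.BilinForm.toMatrix_apply, LinearMap.add_apply, LinearMap.add_apply,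
    LinearMap.BilinForm.flip_apply, Matrix.add_apply, Matrix.transpose_apply,
    ← LinearMap.BilinForm.toMatrix_apply, ← LinearMap.BilinForm.toMatrix_apply,
    LinearMap.BilinForm.toMatrix_toBilin]

theorem main (k V : Type u) [Field k] [AddCommGroup V] [Module k V]
    [FiniteDimensional k V] (h : Even (Module.finrank k V) ∨ ringChar k ≠ 2) :
    ∃ B : LinearMap.BilinForm k V, (B + B.flip).Nondegenerate := by
  classical
  rcases h with h | h
  · obtain ⟨m, hm⟩ := h
    let b₀ := Module.finBasis k V
    let e : Fin (Module.finrank k V) ≃ Fin m ⊕ Fin m :=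
      (finCongr hm).trans finSumFinEquiv.symm
    let b : Module.Basis (Fin m ⊕ Fin m) k V := b₀.reindex e
    let M : Matrix (Fin m ⊕ Fin m) (Fin m ⊕ Fin m) k :=
      Matrix.fromBlocks (0 : Matrix (Fin m) (Fin m) k) (1 : Matrix (Fin m) (Fin m) k)
        (0 : Matrix (Fin m) (Fin m) k) (0 : Matrix (Fin m) (Fin m) k)
    refine ⟨Matrix.toBilin b M, ?_⟩
    apply (LinearMap.BilinForm.nondegenerate_iff_det_ne_zero b).mpr
    rw [toMatrix_add_flip]
    have hJ : M + M.transpose = Matrix.fromBlocks (0 : Matrix (Fin m) (Fin m) k)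
        (1 : Matrix (Fin m) (Fin m) k) (1 : Matrix (Fin m) (Fin m) k)
        (0 : Matrix (Fin m) (Fin m) k) := by
      show Matrix.fromBlocks (0 : Matrix (Fin m) (Fin m) k) (1 : Matrix (Fin m) (Fin m) k)
          (0 : Matrix (Fin m) (Fin m) k) (0 : Matrix (Fin m) (Fin m) k) +
        (Matrix.fromBlocks (0 : Matrix (Fin m) (Fin m) k) (1 : Matrix (Fin m) (Fin m) k)
          (0 : Matrix (Fin m) (Fin m) k) (0 : Matrix (Fin m) (Fin m) k)).transpose = _
      rw [Matrix.fromBlocks_transpose, Matrix.fromBlocks_add]
      simp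
    rw [hJ]
    have hsq : (Matrix.fromBlocks (0 : Matrix (Fin m) (Fin m) k)
        (1 : Matrix (Fin m) (Fin m) k) (1 : Matrix (Fin m) (Fin m) k)
        (0 : Matrix (Fin m) (Fin m) k)) *
        (Matrix.fromBlocks (0 : Matrix (Fin m) (Fin m) k)
        (1 : Matrix (Fin m) (Fin m) k) (1 : Matrix (Fin m) (Fin m) k)
        (0 : Matrix (Fin m) (Fin m) k)) = 1 := by
      rw [Matrix.fromBlocks_multiply]
      simp
    intro hdet
    have := congrArg Matrix.det hsq
    rw [Matrix.det_mul, hdet, zero_mul, Matrix.det_one] at this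
    exact zero_ne_one this
  · let b := Module.finBasis k V
    refine ⟨Matrix.toBilin b 1, ?_⟩
    apply (LinearMap.BilinForm.nondegenerate_iff_det_ne_zero b).mpr
    rw [toMatrix_add_flip, Matrix.transpose_one]
    have h2 : (2 : k) ≠ 0 := Ring.two_ne_zero h
    have : (1 : Matrix (Fin (Module.finrank k V)) (Fin (Module.finrank k V)) k) + 1 =
        (2 : k) • 1 := by
      rw [two_smul]
    rw [this, Matrix.det_smul, Matrix.det_one, mul_one]
    exact pow_ne_zero _ h2


end


/-- Let V be a finite-dimensional vector space over a field k. If dim V is even or the characteristic of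
k is different from 2, there is a bilinear form B on V such that the bilinear form (v, w) ↦ B(v, w)
+ B(w, v) (B plus its transpose, as a map V → V^∨) is nondegenerate. -/
theorem result (k V : Type u) [Field k] [AddCommGroup V] [Module k V]
    [FiniteDimensional k V] (h : Even (Module.finrank k V) ∨ ringChar k ≠ 2) :
    ∃ B : LinearMap.BilinForm k V, (B + B.flip).Nondegenerate := by
  classical
  exact main k V h

end Groth.Agent.S14479
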