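import Groth.Statements.S1449
import Groth.Agent.Lib.Helper2.Sch.FibDeg11


set_option autoImplicit false
universe u
open FlatMor

namespace Groth.Agent.S1449

open AlgebraicGeometry CategoryTheory Limits in
/-- Consider a separated, flat, locally quasi-finite morphism f : X → S which is locally of finite
presentation. Then there are opens S = U_0 ⊇ U_1 ⊇ U_2 ⊇ ... of S with the property that a morphism
from the spectrum of a field to S lands in U_d exactly when the base change of X to that field has
rank (of its ring of global functions over the field) at least d. -/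
theorem result {X S : Scheme.{u}} (f : X ⟶ S) [Flat f] [LocallyOfFinitePresentation f] [IsSeparated f] [LocallyQuasiFinite f] :
    ∃ U : ℕ → S.Opens, Antitone U ∧ U 0 = ⊤ ∧ ∀ (K : Type u) [Field K] (g : Spec (CommRingCat.of K) ⟶ S) (d : ℕ),
      Set.range ⇑g ⊆ (U d : Set ↑S) ↔ (d : Cardinal.{u}) ≤ (letI := ((Scheme.ΓSpecIso (CommRingCat.of K)).inv ≫ (pullback.snd f g).appTop).hom.toAlgebra
        Module.rank K (Γ(pullback f g, ⊤) : Type u)) := by
  classical
  have hopen : ∀ d : ℕ, IsOpen {y : S | ∀ k < d, ¬ Groth.Agent.Helper2.FibDeg.FibDegLE f y k} := by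
    intro d
    rw [isOpen_iff_forall_mem_open]
    intro y hy
    rcases Nat.eq_zero_or_pos d with rfl | hd
    · exact ⟨Set.univ, fun z _ k hk => absurd hk (Nat.not_lt_zero k), isOpen_univ, trivial⟩
    · obtain ⟨O, hyO, hO⟩ := Groth.Agent.Helper2.FibDeg.exists_open_not_fibDegLE' f y (d - 1)
        (hy (d - 1) (by omega))
      refine ⟨O, fun z hz k hk H => hO z hz (H.mono (by omega)), O.2, hyO⟩
  refine ⟨fun d => ⟨_, hopen d⟩, ?_, ?_, ?_⟩
  · intro d d' hdd' y hy k hk
    exact hy k (lt_of_lt_of_le hk hdd')
  · ext y
    simp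
  · intro K _ g d
    have hiff : ∀ k : ℕ, Groth.Agent.Helper2.FibDeg.FibDegLE f (g (IsLocalRing.closedPoint K)) k ↔
        Groth.Agent.Helper2.UBAlg.DegLE (pullback.snd f g) k := by
      intro k
      constructor
      · intro H
        exact H K g (fun z => by congr 1; exact Subsingleton.elim (α := PrimeSpectrum K) _ _) _ _ _
          (IsPullback.of_hasPullback f g).flip
      · intro H
        exact Groth.Agent.Helper2.FibDeg.fibDegLE_of_degLE f g _ _
          (IsPullback.of_hasPullback f g).flip H
    have hrange : Set.range ⇑g ⊆ {y : S | ∀ k < d, ¬ Groth.Agent.Helper2.FibDeg.FibDegLE f y k} ↔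
        ∀ k < d, ¬ Groth.Agent.Helper2.FibDeg.FibDegLE f (g (IsLocalRing.closedPoint K)) k := by
      constructor
      · intro h
        exact h ⟨_, rfl⟩
      · rintro h _ ⟨z, rfl⟩
        have : z = IsLocalRing.closedPoint K := Subsingleton.elim (α := PrimeSpectrum K) _ _
        rw [this]
        exact h
    show Set.range ⇑g ⊆ {y : S | ∀ k < d, ¬ Groth.Agent.Helper2.FibDeg.FibDegLE f y k} ↔ _
    rw [hrange]
    constructor
    · intro h
      rcases Nat.eq_zero_or_pos d with rfl | hd
      · simp
      · have h1 := h (d - 1) (by omega)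
        rw [hiff, ← Groth.Agent.Helper2.FibDeg.le_rank_iff] at h1
        have e : d - 1 + 1 = d := by omega
        rw [e] at h1
        exact h1
    · intro h k hk
      rw [hiff, ← Groth.Agent.Helper2.FibDeg.le_rank_iff]
      refine le_trans ?_ h
      exact_mod_cast hk

end Groth.Agent.S1449
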