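import Groth.Statements.S14496
import Groth.Agent.Lib.Helper6.IndCof.IndAx2

set_option autoImplicit false
universe v
open IndCof

namespace Groth.Agent.S14496

open CategoryTheory CategoryTheory.Limits in
/-- Let C be a small abelian category all of whose objects are Artinian and killed by some power of a
prime p, and A an ind-object of C of cofinite type. Let N be such that p^n A = p^N A for all n ≥ N,
so that the divisible part A_div = ⋂ p^n A equals p^N A. Then A_div is of cofinite type and
divisible (multiplication by p on it is an epimorphism; integers prime to p act invertibly on every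
ind-object here, so this is divisibility by all positive integers); it is the largest divisible
sub-object of A; and A / A_div is the largest quotient of A lying in C: every epimorphism from A
onto an object isomorphic to an object of C vanishes on A_div. (The row takes the stabilization
index N as a hypothesis instead of forming the intersection; that A / A_div itself lies in C is the
statement about A / p^N A and is not repeated here.) -/
theorem result {C : Type v} [SmallCategory C] [Abelian C]
    (hart : ∀ X : C, IsArtinianObject X) (p : ℕ) (hp : p.Prime)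
    (htor : ∀ X : C, ∃ n : ℕ, (p ^ n) • 𝟙 X = 0)
    (A : Ind C) (hA : ∀ n : ℕ, (Ind.yoneda (C := C)).essImage (kernel ((p ^ n) • 𝟙 A))) (N : ℕ)
    (hN : ∀ n : ℕ, N ≤ n → imageSubobject ((p ^ n) • 𝟙 A) = imageSubobject ((p ^ N) • 𝟙 A)) :
    (∀ n : ℕ, (Ind.yoneda (C := C)).essImage
        (kernel ((p ^ n) • 𝟙 ((imageSubobject ((p ^ N) • 𝟙 A) : Subobject A) : Ind C)))) ∧
      Epi (p • 𝟙 ((imageSubobject ((p ^ N) • 𝟙 A) : Subobject A) : Ind C)) ∧
      (∀ D : Subobject A, Epi (p • 𝟙 (D : Ind C)) → D ≤ imageSubobject ((p ^ N) • 𝟙 A)) ∧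
      (∀ (Q : Ind C) (q : A ⟶ Q), Epi q → (Ind.yoneda (C := C)).essImage Q →
        (imageSubobject ((p ^ N) • 𝟙 A)).arrow ≫ q = 0) := by
  have hax := Groth.Agent.Helper6.IndCof.ax_essImage_prime hart p hp.pos htor
  have hcA : Groth.Agent.Helper6.IndCof.Cof (Ind.yoneda (C := C)).essImage p A := hA
  have hN1 : Groth.Agent.Helper6.IndCof.InIm ((p ^ (N + 1)) • 𝟙 A) ((p ^ N) • 𝟙 A) :=
    (Groth.Agent.Helper6.IndCof.imageSubobject_le_iff _ _).1 (hN (N + 1) (Nat.le_succ N)).ge
  refine ⟨?_, ?_, ?_, ?_⟩
  · exact Groth.Agent.Helper6.IndCof.cof_imageSubobject hax p _ hcA hcA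
  · exact Groth.Agent.Helper6.IndCof.epi_smul_imageSubobject p N A hN1
  · intro D hD
    exact Groth.Agent.Helper6.IndCof.le_imageSubobject_of_epi p D hD N
  · intro Q q _ hQ
    obtain ⟨j, hj⟩ := Groth.Agent.Helper6.IndCof.essImage_pow_tor p htor Q hQ
    rw [← hN (N + j) (Nat.le_add_right N j)]
    apply Groth.Agent.Helper6.IndCof.imageSubobject_arrow_comp_eq_zero
    rw [pow_add, mul_smul, hj, smul_zero]

end Groth.Agent.S14496
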