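import Groth.Statements.S14497
import Mathlib

set_option autoImplicit false
universe v u
open IndCof

namespace Groth.Agent.S14497

section
open CategoryTheory CategoryTheory.Limits

variable {V : Type u} [Category.{v} V] [Abelian V]

theorem image_epi_comp {X' X Y : V} (h : X' ⟶ X) [Epi h] (f : X ⟶ Y) :
    imageSubobject (h ≫ f) = imageSubobject f := by
  apply le_antisymm (imageSubobject_comp_le h f)
  have hepi : Epi (Subobject.ofLE _ _ (imageSubobject_comp_le h f)) := inferInstance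
  have hiso : IsIso (Subobject.ofLE _ _ (imageSubobject_comp_le h f)) := isIso_of_mono_of_epi _
  apply Subobject.le_of_comm (inv (Subobject.ofLE _ _ (imageSubobject_comp_le h f)))
  rw [IsIso.inv_comp_eq, Subobject.ofLE_arrow]

theorem nsmul_id_comp {X Y : V} (f : X ⟶ Y) (k : ℕ) : (k • 𝟙 X) ≫ f = f ≫ (k • 𝟙 Y) := by
  simp

theorem I_mul_le (B : V) (a b : ℕ) :
    imageSubobject ((a * b) • 𝟙 B) ≤ imageSubobject (a • 𝟙 B) := by
  have : (a * b) • 𝟙 B = (b • 𝟙 B) ≫ (a • 𝟙 B) := by
    simp only [Preadditive.nsmul_comp, Preadditive.comp_nsmul, Category.id_comp, mul_smul]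
  rw [this]
  exact imageSubobject_comp_le _ _

theorem le_I_of_div (B : V) (S : Subobject B) (k : ℕ) (hk : Epi (k • 𝟙 (S : V))) :
    S ≤ imageSubobject (k • 𝟙 B) := by
  have e1 : S = imageSubobject S.arrow := by
    rw [imageSubobject_mono, Subobject.mk_arrow]
  have e2 : imageSubobject S.arrow = imageSubobject ((k • 𝟙 (S : V)) ≫ S.arrow) :=
    (image_epi_comp _ _).symm
  rw [nsmul_id_comp] at e2
  calc S = imageSubobject (S.arrow ≫ (k • 𝟙 B)) := e1.trans e2
    _ ≤ _ := imageSubobject_comp_le _ _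

theorem I_le_of_coker (B : V) (S : Subobject B) (M : ℕ) (hM : M • 𝟙 (cokernel S.arrow) = 0) :
    imageSubobject (M • 𝟙 B) ≤ S := by
  have h0 : (M • 𝟙 B) ≫ cokernel.π S.arrow = 0 := by
    rw [nsmul_id_comp, hM, comp_zero]
  let l := Abelian.monoLift S.arrow (M • 𝟙 B) h0
  have hl : l ≫ S.arrow = M • 𝟙 B := Abelian.monoLift_comp _ _ _
  exact imageSubobject_le _ l hl

theorem epi_of_image_eq {X Y : V} (S : Subobject Y) (g : X ⟶ (S : V))
    (h : imageSubobject (g ≫ S.arrow) = S) : Epi g := by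
  have hle : imageSubobject (g ≫ S.arrow) ≤ S := le_of_eq h
  have hge : S ≤ imageSubobject (g ≫ S.arrow) := le_of_eq h.symm
  have e : g = factorThruImageSubobject (g ≫ S.arrow) ≫ Subobject.ofLE _ _ hle := by
    rw [← cancel_mono S.arrow, Category.assoc, Subobject.ofLE_arrow, imageSubobject_arrow_comp]
  have hiso : IsIso (Subobject.ofLE _ _ hle) := by
    refine ⟨⟨Subobject.ofLE _ _ hge, ?_, ?_⟩⟩
    · rw [Subobject.ofLE_comp_ofLE, Subobject.ofLE_refl]
    · rw [Subobject.ofLE_comp_ofLE, Subobject.ofLE_refl]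
  rw [e]
  infer_instance

theorem coker_image_killed (B : V) (m : ℕ) :
    m • 𝟙 (cokernel (imageSubobject (m • 𝟙 B)).arrow) = 0 := by
  rw [← cancel_epi (cokernel.π (imageSubobject (m • 𝟙 B)).arrow), comp_zero, ← nsmul_id_comp]
  have : (m • 𝟙 B) ≫ cokernel.π (imageSubobject (m • 𝟙 B)).arrow =
      (factorThruImageSubobject (m • 𝟙 B) ≫ (imageSubobject (m • 𝟙 B)).arrow) ≫
        cokernel.π (imageSubobject (m • 𝟙 B)).arrow := by
    rw [imageSubobject_arrow_comp]
  rw [this, Category.assoc, cokernel.condition, comp_zero]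

theorem div_of_stable (B : V) (m k : ℕ)
    (h : imageSubobject ((m * k) • 𝟙 B) = imageSubobject (m • 𝟙 B)) :
    Epi (k • 𝟙 ((imageSubobject (m • 𝟙 B) : Subobject B) : V)) := by
  apply epi_of_image_eq (imageSubobject (m • 𝟙 B))
  have e1 : (m * k) • 𝟙 B = factorThruImageSubobject (m • 𝟙 B) ≫
      ((k • 𝟙 ((imageSubobject (m • 𝟙 B) : Subobject B) : V)) ≫ (imageSubobject (m • 𝟙 B)).arrow) := by
    rw [nsmul_id_comp, ← Category.assoc, imageSubobject_arrow_comp]
    simp only [Preadditive.nsmul_comp, Preadditive.comp_nsmul, Category.id_comp, mul_smul]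
    rw [smul_comm]
  rw [e1, image_epi_comp] at h
  exact h

theorem main (B : V) :
    ((∀ n : ℕ, 0 < n → ∃ m : ℕ, 0 < m ∧ n ∣ m ∧ ∀ m' : ℕ, 0 < m' → m ∣ m' →
        imageSubobject ((m' / n) • 𝟙 B) = imageSubobject ((m / n) • 𝟙 B)) ↔
      ∃ B' : Subobject B, (∀ k : ℕ, 0 < k → Epi (k • 𝟙 (B' : V))) ∧
        ∃ M : ℕ, 0 < M ∧ M • 𝟙 (cokernel B'.arrow) = 0) ∧
    (∀ B' : Subobject B, (∀ k : ℕ, 0 < k → Epi (k • 𝟙 (B' : V))) →
      (∃ M : ℕ, 0 < M ∧ M • 𝟙 (cokernel B'.arrow) = 0) →
      ∀ D : Subobject B, (∀ k : ℕ, 0 < k → Epi (k • 𝟙 (D : V))) → D ≤ B') := by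
  refine ⟨⟨?_, ?_⟩, ?_⟩
  · intro hML
    obtain ⟨m, hm0, -, hm⟩ := hML 1 Nat.one_pos
    refine ⟨imageSubobject (m • 𝟙 B), ?_, m, hm0, coker_image_killed B m⟩
    intro k hk
    apply div_of_stable
    have := hm (m * k) (Nat.mul_pos hm0 hk) (Dvd.intro _ rfl)
    simpa using this
  · rintro ⟨B', hdiv, M, hM0, hM⟩ n hn
    refine ⟨n * M, Nat.mul_pos hn hM0, Dvd.intro _ rfl, ?_⟩
    rintro m' hm'0 ⟨t, rfl⟩
    have ht : 0 < t := by
      rcases Nat.eq_zero_or_pos t with h | h
      · rw [h] at hm'0; simp at hm'0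
      · exact h
    have e1 : n * M * t / n = M * t := by
      rw [mul_assoc]; exact Nat.mul_div_cancel_left _ hn
    have e2 : n * M / n = M := Nat.mul_div_cancel_left _ hn
    rw [e1, e2]
    apply le_antisymm (I_mul_le B M t)
    exact (I_le_of_coker B B' M hM).trans (le_I_of_div B B' (M * t) (hdiv _ (Nat.mul_pos hM0 ht)))
  · rintro B' hdiv ⟨M, hM0, hM⟩ D hD
    exact (le_I_of_div B D M (hD M hM0)).trans (I_le_of_coker B B' M hM)


end


open CategoryTheory CategoryTheory.Limits in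
/-- Let B be an object of an abelian category and consider the inverse system, indexed by the positive
integers ordered by divisibility, with every term equal to B and transition map from the m-th to the
n-th term (n ∣ m) given by multiplication by m/n. This system is Mittag-Leffler, i.e. for every n
the images in the n-th term of the transition maps are eventually constant, if and only if B has a
divisible sub-object B' (multiplication by every positive integer is an epimorphism of B') with B/B'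
killed by some positive integer. Moreover such a B' is the largest divisible sub-object of B. -/
theorem result
    {V : Type u} [Category.{v} V] [Abelian V] (B : V) :
    ((∀ n : ℕ, 0 < n → ∃ m : ℕ, 0 < m ∧ n ∣ m ∧ ∀ m' : ℕ, 0 < m' → m ∣ m' →
        imageSubobject ((m' / n) • 𝟙 B) = imageSubobject ((m / n) • 𝟙 B)) ↔
      ∃ B' : Subobject B, (∀ k : ℕ, 0 < k → Epi (k • 𝟙 (B' : V))) ∧
        ∃ M : ℕ, 0 < M ∧ M • 𝟙 (cokernel B'.arrow) = 0) ∧
    (∀ B' : Subobject B, (∀ k : ℕ, 0 < k → Epi (k • 𝟙 (B' : V))) →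
      (∃ M : ℕ, 0 < M ∧ M • 𝟙 (cokernel B'.arrow) = 0) →
      ∀ D : Subobject B, (∀ k : ℕ, 0 < k → Epi (k • 𝟙 (D : V))) → D ≤ B') := by
  classical
  exact main B

end Groth.Agent.S14497
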