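import Groth.Statements.S14498
import Mathlib

set_option autoImplicit false
universe v u
open AbDiag

namespace Groth.Agent.S14498

open CategoryTheory CategoryTheory.Limits in
/-- In an abelian category, let 0 → F → W → E' → 0 (maps a, b) and 0 → E → W → F' → G → G' → 0 (maps c,
d, e, g) be exact sequences such that the composite F → W → F' is a monomorphism. Then the composite
E → W → E' is a monomorphism, and there is a short exact sequence 0 → Coker(E → E') → Coker(F → F')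
→ Ker(G → G') → 0 whose first map is induced by d (through the quotient map b) and whose second map
is induced by e. -/
theorem result
    {V : Type u} [Category.{v} V] [Abelian V] {F W E' E F' G G' : V}
    (a : F ⟶ W) (b : W ⟶ E') (c : E ⟶ W) (d : W ⟶ F') (e : F' ⟶ G) (g : G ⟶ G')
    [Mono a] [Epi b] (wab : a ≫ b = 0) (hab : (ShortComplex.mk a b wab).Exact)
    [Mono c] (wcd : c ≫ d = 0) (hcd : (ShortComplex.mk c d wcd).Exact)
    (wde : d ≫ e = 0) (hde : (ShortComplex.mk d e wde).Exact)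
    (weg : e ≫ g = 0) (heg : (ShortComplex.mk e g weg).Exact) [Epi g]
    (hmono : Mono (a ≫ d)) :
    Mono (c ≫ b) ∧
      ∃ (φ : cokernel (c ≫ b) ⟶ cokernel (a ≫ d)) (ψ : cokernel (a ≫ d) ⟶ kernel g)
        (w : φ ≫ ψ = 0),
        b ≫ cokernel.π (c ≫ b) ≫ φ = d ≫ cokernel.π (a ≫ d) ∧
        cokernel.π (a ≫ d) ≫ ψ ≫ kernel.ι g = e ∧
        (ShortComplex.mk φ ψ w).ShortExact := by
  have hmono1 : Mono (c ≫ b) := by
    apply Preadditive.mono_of_cancel_zero
    intro T x hx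
    obtain ⟨T', π, hπ, y, hy⟩ := hab.exact_up_to_refinements (x ≫ c)
      (by rw [Category.assoc]; exact hx)
    have h1 : y ≫ (a ≫ d) = 0 := by
      have : (y ≫ a) ≫ d = 0 := by
        rw [← hy, Category.assoc, Category.assoc, wcd, comp_zero, comp_zero]
      rw [← Category.assoc]; exact this
    have hy0 : y = 0 := zero_of_comp_mono (a ≫ d) h1
    have h3 : (π ≫ x) ≫ c = 0 := by
      rw [Category.assoc, hy, hy0, zero_comp]
    have h4 : π ≫ x = 0 := zero_of_comp_mono c h3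
    exact zero_of_epi_comp π h4
  refine ⟨hmono1, ?_⟩
  -- the map δ : E' ⟶ coker (a ≫ d)
  have hδ0 : a ≫ (d ≫ cokernel.π (a ≫ d)) = 0 := by
    rw [← Category.assoc, cokernel.condition]
  let δ : E' ⟶ cokernel (a ≫ d) := hab.desc (d ≫ cokernel.π (a ≫ d)) hδ0
  have hδ : b ≫ δ = d ≫ cokernel.π (a ≫ d) := hab.g_desc _ hδ0
  have hφ0 : (c ≫ b) ≫ δ = 0 := by
    rw [Category.assoc, hδ, ← Category.assoc, wcd, zero_comp]
  let φ : cokernel (c ≫ b) ⟶ cokernel (a ≫ d) := cokernel.desc (c ≫ b) δ hφ0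
  have hφ : cokernel.π (c ≫ b) ≫ φ = δ := cokernel.π_desc _ _ _
  -- the map ψ
  let e' : F' ⟶ kernel g := kernel.lift g e weg
  have he' : e' ≫ kernel.ι g = e := kernel.lift_ι _ _ _
  have hψ0 : (a ≫ d) ≫ e' = 0 := by
    rw [← cancel_mono (kernel.ι g), Category.assoc, he', Category.assoc, wde, comp_zero, zero_comp]
  let ψ : cokernel (a ≫ d) ⟶ kernel g := cokernel.desc (a ≫ d) e' hψ0
  have hψ : cokernel.π (a ≫ d) ≫ ψ = e' := cokernel.π_desc _ _ _
  have w : φ ≫ ψ = 0 := by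
    rw [← cancel_epi (cokernel.π (c ≫ b)), ← cancel_epi b, comp_zero, comp_zero,
      ← Category.assoc (cokernel.π (c ≫ b)), hφ, ← Category.assoc, hδ, Category.assoc, hψ,
      ← cancel_mono (kernel.ι g), Category.assoc, he', wde, zero_comp]
  refine ⟨φ, ψ, w, ?_, ?_, ?_⟩
  · rw [← Category.assoc, Category.assoc b, hφ, hδ]
  · rw [← Category.assoc, hψ, he']
  · -- short exactness
    have hφmono : Mono φ := by
      apply Preadditive.mono_of_cancel_zero
      intro T z hz
      -- lift z to W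
      obtain ⟨T1, π1, hπ1, w1, hw1⟩ :=
        surjective_up_to_refinements_of_epi (b ≫ cokernel.π (c ≫ b)) z
      -- π1 ≫ z = w1 ≫ b ≫ π
      have h1 : (w1 ≫ d) ≫ cokernel.π (a ≫ d) = 0 := by
        calc (w1 ≫ d) ≫ cokernel.π (a ≫ d) = w1 ≫ (d ≫ cokernel.π (a ≫ d)) := Category.assoc _ _ _
          _ = w1 ≫ (b ≫ δ) := by rw [hδ]
          _ = w1 ≫ b ≫ cokernel.π (c ≫ b) ≫ φ := by rw [hφ]
          _ = (w1 ≫ b ≫ cokernel.π (c ≫ b)) ≫ φ := by simp only [Category.assoc]
          _ = (π1 ≫ z) ≫ φ := by rw [hw1]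
          _ = 0 := by rw [Category.assoc, hz, comp_zero]
      have hexc : (ShortComplex.mk (a ≫ d) (cokernel.π (a ≫ d)) (cokernel.condition _)).Exact :=
        ShortComplex.exact_of_g_is_cokernel _ (cokernelIsCokernel _)
      obtain ⟨T2, π2, hπ2, f2, hf2⟩ := hexc.exact_up_to_refinements (w1 ≫ d) h1
      -- π2 ≫ w1 ≫ d = f2 ≫ a ≫ d
      have h2 : (π2 ≫ w1 - f2 ≫ a) ≫ d = 0 := by
        rw [Preadditive.sub_comp, Category.assoc, hf2, Category.assoc, sub_self]
      obtain ⟨T3, π3, hπ3, ε, hε⟩ := hcd.exact_up_to_refinements _ h2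
      -- π3 ≫ (π2 ≫ w1 - f2 ≫ a) = ε ≫ c
      have h3 : π3 ≫ π2 ≫ w1 ≫ b = ε ≫ c ≫ b := by
        have := congrArg (fun t => t ≫ b) hε
        simp only [Preadditive.comp_sub, Preadditive.sub_comp, Category.assoc, wab, comp_zero,
          sub_zero] at this
        exact this
      have h4 : (π3 ≫ π2 ≫ π1) ≫ z = 0 := by
        calc (π3 ≫ π2 ≫ π1) ≫ z = π3 ≫ π2 ≫ (π1 ≫ z) := by simp only [Category.assoc]
          _ = π3 ≫ π2 ≫ w1 ≫ b ≫ cokernel.π (c ≫ b) := by rw [hw1]
          _ = (π3 ≫ π2 ≫ w1 ≫ b) ≫ cokernel.π (c ≫ b) := by simp only [Category.assoc]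
          _ = (ε ≫ c ≫ b) ≫ cokernel.π (c ≫ b) := by rw [h3]
          _ = ε ≫ ((c ≫ b) ≫ cokernel.π (c ≫ b)) := by simp only [Category.assoc]
          _ = 0 := by rw [cokernel.condition, comp_zero]
      haveI : Epi (π3 ≫ π2 ≫ π1) := epi_comp' hπ3 (epi_comp' hπ2 hπ1)
      exact zero_of_epi_comp _ h4
    have hψepi : Epi ψ := by
      rw [epi_iff_surjective_up_to_refinements]
      intro T t
      have ht : (t ≫ kernel.ι g) ≫ g = 0 := by rw [Category.assoc, kernel.condition, comp_zero]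
      obtain ⟨T1, π1, hπ1, y1, hy1⟩ := heg.exact_up_to_refinements _ ht
      refine ⟨T1, π1, hπ1, y1 ≫ cokernel.π (a ≫ d), ?_⟩
      rw [← cancel_mono (kernel.ι g), Category.assoc, Category.assoc, Category.assoc, hy1,
        ← Category.assoc (cokernel.π (a ≫ d)), hψ, he']
    have hex : (ShortComplex.mk φ ψ w).Exact := by
      rw [ShortComplex.exact_iff_exact_up_to_refinements]
      intro T y hy
      change y ≫ ψ = 0 at hy
      obtain ⟨T1, π1, hπ1, y1, hy1⟩ := surjective_up_to_refinements_of_epi (cokernel.π (a ≫ d)) y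
      have h1 : y1 ≫ e = 0 := by
        rw [← he', ← hψ, ← Category.assoc, ← Category.assoc, ← hy1, Category.assoc,
          Category.assoc, ← Category.assoc y, hy, zero_comp, comp_zero]
      obtain ⟨T2, π2, hπ2, w2, hw2⟩ := hde.exact_up_to_refinements y1 h1
      refine ⟨T2, π2 ≫ π1, epi_comp' hπ2 hπ1, w2 ≫ b ≫ cokernel.π (c ≫ b), ?_⟩
      change (π2 ≫ π1) ≫ y = (w2 ≫ b ≫ cokernel.π (c ≫ b)) ≫ φ
      rw [Category.assoc, hy1, ← Category.assoc, hw2, Category.assoc, Category.assoc,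
        Category.assoc, hφ, hδ]
    exact ShortComplex.ShortExact.mk' hex hφmono hψepi

end Groth.Agent.S14498
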