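import Groth.Statements.S14501
import Mathlib

set_option autoImplicit false
universe u
open IntTh

namespace Groth.Agent.S14501

section


section basic
variable {A : Type u} [CommRing A] {V : Type u} [AddCommGroup V] [Module A V]

noncomputable def rl (P Q : Submodule A V) : ℕ∞ := Module.length A (↥Q ⧸ P.submoduleOf Q)

lemma rl_add {P' P Q : Submodule A V} (h1 : P' ≤ P) (h2 : P ≤ Q) :
    rl P' Q = rl P' P + rl P Q := by
  unfold rl
  have hf : P'.submoduleOf P ≤ (P'.submoduleOf Q).comap (Submodule.inclusion h2) := by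
    intro x hx
    exact hx
  have hg : P'.submoduleOf Q ≤ (P.submoduleOf Q).comap (LinearMap.id) := by
    intro x hx
    exact h1 hx
  refine Module.length_eq_add_of_exact
    (Submodule.mapQ _ _ (Submodule.inclusion h2) hf)
    (Submodule.mapQ _ _ LinearMap.id hg) ?_ ?_ ?_
  · rw [injective_iff_map_eq_zero]
    intro x
    induction x using Submodule.Quotient.induction_on with
    | H x =>
      intro hx
      rw [Submodule.mapQ_apply, Submodule.Quotient.mk_eq_zero] at hx
      rw [Submodule.Quotient.mk_eq_zero]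
      exact hx
  · intro y
    induction y using Submodule.Quotient.induction_on with
    | H y => exact ⟨Submodule.Quotient.mk y, by rw [Submodule.mapQ_apply]; rfl⟩
  · intro y
    induction y using Submodule.Quotient.induction_on with
    | H y =>
      rw [Submodule.mapQ_apply, Submodule.Quotient.mk_eq_zero]
      constructor
      · intro hy
        refine ⟨Submodule.Quotient.mk ⟨y.1, hy⟩, ?_⟩
        rw [Submodule.mapQ_apply]
        rfl
      · rintro ⟨x, hx⟩
        induction x using Submodule.Quotient.induction_on with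
        | H x =>
          rw [Submodule.mapQ_apply, Submodule.Quotient.eq] at hx
          have h3 : ((Submodule.inclusion h2 x - y : ↥Q) : V) ∈ P' := hx
          have h4 : (x : V) - (y : V) ∈ P := h1 h3
          have h5 : (y : V) = (x : V) - ((x : V) - (y : V)) := by abel
          show (y : V) ∈ P
          rw [h5]
          exact P.sub_mem x.2 h4

def Absorbing (N : Submodule A V) : Prop := ∀ x : V, ∃ a : A, a ≠ 0 ∧ a • x ∈ N

lemma absorbing_inf [IsDomain A] {N₁ N₂ : Submodule A V} (h₁ : Absorbing N₁) (h₂ : Absorbing N₂) :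
    Absorbing (N₁ ⊓ N₂) := by
  intro x
  obtain ⟨a, ha, hax⟩ := h₁ x
  obtain ⟨b, hb, hbx⟩ := h₂ x
  refine ⟨a * b, mul_ne_zero ha hb, ?_, ?_⟩
  · rw [mul_comm, mul_smul]; exact N₁.smul_mem b hax
  · rw [mul_smul]; exact N₂.smul_mem a hbx

lemma exists_smul_le [IsDomain A] {N : Submodule A V} (hN : Absorbing N) (M : Submodule A V)
    (hM : M.FG) : ∃ a : A, a ≠ 0 ∧ ∀ x ∈ M, a • x ∈ N := by
  refine Submodule.fg_induction (motive := fun M _ => ∃ a : A, a ≠ 0 ∧ ∀ x ∈ M, a • x ∈ N)
    ?_ ?_ M hM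
  · intro x
    obtain ⟨a, ha, hax⟩ := hN x
    refine ⟨a, ha, ?_⟩
    intro y hy
    obtain ⟨r, rfl⟩ := Submodule.mem_span_singleton.mp hy
    rw [smul_comm]
    exact N.smul_mem r hax
  · rintro M₁ M₂ _ _ ⟨a, ha, h1⟩ ⟨b, hb, h2⟩
    refine ⟨a * b, mul_ne_zero ha hb, ?_⟩
    intro x hx
    obtain ⟨y, hy, z, hz, rfl⟩ := Submodule.mem_sup.mp hx
    rw [smul_add]
    refine N.add_mem ?_ ?_
    · rw [mul_comm, mul_smul]; exact N.smul_mem b (h1 y hy)
    · rw [mul_smul]; exact N.smul_mem a (h2 z hz)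

lemma finiteLength_of_killed [IsNoetherianRing A] [Ring.KrullDimLE 1 A]
    (Q : Type u) [AddCommGroup Q] [Module A Q] [Module.Finite A Q]
    (a : A) (ha : a ∈ nonZeroDivisors A) (hQ : ∀ q : Q, a • q = 0) : IsFiniteLength A Q := by
  obtain ⟨n, s, hs⟩ := Module.Finite.exists_fin (R := A) (M := Q)
  have hk : ∀ i, Submodule.span A {a} ≤ LinearMap.ker (LinearMap.toSpanSingleton A Q (s i)) := by
    intro i
    rw [Submodule.span_le]
    intro x hx
    rw [Set.mem_singleton_iff] at hx
    subst hx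
    simp [hQ]
  let φ : ∀ i : Fin n, (A ⧸ Ideal.span {a}) →ₗ[A] Q := fun i =>
    Submodule.liftQ (Submodule.span A {a}) (LinearMap.toSpanSingleton A Q (s i)) (hk i)
  let Φ : (Fin n → A ⧸ Ideal.span {a}) →ₗ[A] Q := ∑ i, (φ i).comp (LinearMap.proj i)
  have hΦ : Function.Surjective Φ := by
    rw [← LinearMap.range_eq_top, eq_top_iff, ← hs, Submodule.span_le]
    rintro _ ⟨i, rfl⟩
    refine ⟨Pi.single i 1, ?_⟩
    simp only [Φ, LinearMap.sum_apply, LinearMap.comp_apply, LinearMap.proj_apply]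
    rw [Finset.sum_eq_single i]
    · simp only [Pi.single_eq_same, φ]
      have : (1 : A ⧸ Ideal.span {a}) = Submodule.Quotient.mk (1 : A) := rfl
      rw [this, Submodule.liftQ_apply]
      simp
    · intro j _ hj
      rw [Pi.single_eq_of_ne hj, map_zero]
    · intro h; exact absurd (Finset.mem_univ i) h
  have h0 := isFiniteLength_quotient_span_singleton A ha
  have h1 : IsFiniteLength A (Fin n → A ⧸ Ideal.span {a}) := by
    rw [isFiniteLength_iff_isNoetherian_isArtinian] at h0 ⊢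
    obtain ⟨h1, h2⟩ := h0
    exact ⟨inferInstance, inferInstance⟩
  exact h1.of_surjective hΦ

lemma rl_ne_top [IsDomain A] [IsNoetherianRing A] [Ring.KrullDimLE 1 A]
    {N M : Submodule A V} (hN : Absorbing N) (hM : M.FG) : rl N M ≠ ⊤ := by
  unfold rl
  rw [Module.length_ne_top_iff]
  obtain ⟨a, ha, h⟩ := exists_smul_le hN M hM
  haveI : Module.Finite A ↥M := Module.Finite.iff_fg.mpr hM
  refine finiteLength_of_killed _ a (mem_nonZeroDivisors_of_ne_zero ha) ?_
  intro q
  induction q using Submodule.Quotient.induction_on with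
  | H q =>
    rw [← Submodule.Quotient.mk_smul, Submodule.Quotient.mk_eq_zero]
    exact h q.1 q.2

lemma dist_eq {M M' N : Submodule A V} (h : N ≤ M ⊓ M') (h1 : rl N M ≠ ⊤) (h2 : rl N M' ≠ ⊤) :
    (((rl (M ⊓ M') M).toNat : ℤ) - ((rl (M ⊓ M') M').toNat : ℤ)) =
      ((rl N M).toNat : ℤ) - ((rl N M').toNat : ℤ) := by
  have e1 := rl_add h (inf_le_left : M ⊓ M' ≤ M)
  have e2 := rl_add h (inf_le_right : M ⊓ M' ≤ M')
  rw [e1] at h1
  rw [e2] at h2
  have a1 : rl N (M ⊓ M') ≠ ⊤ := fun hh => h1 (by rw [hh, top_add])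
  have a2 : rl (M ⊓ M') M ≠ ⊤ := fun hh => h1 (by rw [hh, add_top])
  have a3 : rl (M ⊓ M') M' ≠ ⊤ := fun hh => h2 (by rw [hh, add_top])
  rw [e1, e2, ENat.toNat_add a1 a2, ENat.toNat_add a1 a3]
  push_cast
  ring

end basic

lemma absorbing_of_lattice {A : Type u} [CommRing A] [IsDomain A] (K : Type u) [Field K] [Algebra A K]
    [IsFractionRing A K] {V : Type u} [AddCommGroup V] [Module K V] [Module A V]
    [IsScalarTower A K V] (M : Submodule A V) [Submodule.IsLattice K M] : Absorbing M := by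
  intro x
  have hx : x ∈ Submodule.span K (M : Set V) := by
    rw [Submodule.IsLattice.span_eq_top]; trivial
  induction hx using Submodule.span_induction with
  | mem x hx => exact ⟨1, one_ne_zero, by rw [one_smul]; exact hx⟩
  | zero => exact ⟨1, one_ne_zero, by rw [smul_zero]; exact M.zero_mem⟩
  | add x y _ _ hx hy =>
    obtain ⟨a, ha, hax⟩ := hx
    obtain ⟨b, hb, hby⟩ := hy
    refine ⟨a * b, mul_ne_zero ha hb, ?_⟩
    rw [smul_add]
    refine M.add_mem ?_ ?_
    · rw [mul_comm, mul_smul]; exact M.smul_mem b hax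
    · rw [mul_smul]; exact M.smul_mem a hby
  | smul k x _ hx =>
    obtain ⟨a, ha, hax⟩ := hx
    obtain ⟨r, s, hs, rfl⟩ := IsFractionRing.div_surjective (A := A) k
    have hs0 : s ≠ 0 := nonZeroDivisors.ne_zero hs
    refine ⟨s * a, mul_ne_zero hs0 ha, ?_⟩
    have hsK : algebraMap A K s ≠ 0 := by
      intro h0
      exact hs0 ((IsFractionRing.injective A K) (by rw [h0, map_zero]))
    have : (s * a) • ((algebraMap A K r / algebraMap A K s) • x) = r • (a • x) := by
      rw [← algebraMap_smul K (s * a), ← algebraMap_smul K r, ← algebraMap_smul K a, smul_smul,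
        smul_smul, map_mul]
      congr 1
      field_simp
    rw [this]
    exact M.smul_mem r hax

theorem main (A : Type u) [CommRing A] [IsDomain A] [IsNoetherianRing A]
    [IsLocalRing A] (hA : ringKrullDim A = 1) (K : Type u) [Field K] [Algebra A K]
    [IsFractionRing A K] (V : Type u) [AddCommGroup V] [Module K V] [Module A V]
    [IsScalarTower A K V] [FiniteDimensional K V]
    (M₁ M₂ M₃ : Submodule A V) [Submodule.IsLattice K M₁] [Submodule.IsLattice K M₂]
    [Submodule.IsLattice K M₃] :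
    ((Module.length A (↥M₁ ⧸ (M₁ ⊓ M₃).submoduleOf M₁)).toNat : ℤ) -
        ((Module.length A (↥M₃ ⧸ (M₁ ⊓ M₃).submoduleOf M₃)).toNat : ℤ) =
      (((Module.length A (↥M₁ ⧸ (M₁ ⊓ M₂).submoduleOf M₁)).toNat : ℤ) -
        ((Module.length A (↥M₂ ⧸ (M₁ ⊓ M₂).submoduleOf M₂)).toNat : ℤ)) +
      (((Module.length A (↥M₂ ⧸ (M₂ ⊓ M₃).submoduleOf M₂)).toNat : ℤ) -
        ((Module.length A (↥M₃ ⧸ (M₂ ⊓ M₃).submoduleOf M₃)).toNat : ℤ)) := by
  haveI : Ring.KrullDimLE 1 A := by
    rw [Ring.krullDimLE_iff, hA]; rfl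
  have hab1 := absorbing_of_lattice K M₁
  have hab2 := absorbing_of_lattice K M₂
  have hab3 := absorbing_of_lattice K M₃
  obtain ⟨N, hN⟩ : ∃ N, N = M₁ ⊓ M₂ ⊓ M₃ := ⟨_, rfl⟩
  have habN : Absorbing N := by
    rw [hN]; exact absorbing_inf (absorbing_inf hab1 hab2) hab3
  have f1 : rl N M₁ ≠ ⊤ := rl_ne_top habN (Submodule.IsLattice.fg (A := K))
  have f2 : rl N M₂ ≠ ⊤ := rl_ne_top habN (Submodule.IsLattice.fg (A := K))
  have f3 : rl N M₃ ≠ ⊤ := rl_ne_top habN (Submodule.IsLattice.fg (A := K))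
  have l1 : N ≤ M₁ := by rw [hN]; exact inf_le_left.trans inf_le_left
  have l2 : N ≤ M₂ := by rw [hN]; exact inf_le_left.trans inf_le_right
  have l3 : N ≤ M₃ := by rw [hN]; exact inf_le_right
  have d13 := dist_eq (le_inf l1 l3) f1 f3
  have d12 := dist_eq (le_inf l1 l2) f1 f2
  have d23 := dist_eq (le_inf l2 l3) f2 f3
  unfold rl at d13 d12 d23
  rw [d13, d12, d23]
  ring


end


/-- Take a one-dimensional Noetherian local domain A with fraction field K, V a finite-dimensional
K-vector space and M₁, M₂, M₃ lattices in V (finitely generated A-submodules spanning V over K).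
Define the distance d(M, M') as length_A(M/(M ∩ M')) − length_A(M'/(M ∩ M')), with the (finite)
lengths read as natural numbers. Then d(M₁, M₃) = d(M₁, M₂) + d(M₂, M₃). -/
theorem result (A : Type u) [CommRing A] [IsDomain A] [IsNoetherianRing A]
    [IsLocalRing A] (hA : ringKrullDim A = 1) (K : Type u) [Field K] [Algebra A K]
    [IsFractionRing A K] (V : Type u) [AddCommGroup V] [Module K V] [Module A V]
    [IsScalarTower A K V] [FiniteDimensional K V]
    (M₁ M₂ M₃ : Submodule A V) [Submodule.IsLattice K M₁] [Submodule.IsLattice K M₂]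
    [Submodule.IsLattice K M₃] :
    ((Module.length A (↥M₁ ⧸ (M₁ ⊓ M₃).submoduleOf M₁)).toNat : ℤ) -
        ((Module.length A (↥M₃ ⧸ (M₁ ⊓ M₃).submoduleOf M₃)).toNat : ℤ) =
      (((Module.length A (↥M₁ ⧸ (M₁ ⊓ M₂).submoduleOf M₁)).toNat : ℤ) -
        ((Module.length A (↥M₂ ⧸ (M₁ ⊓ M₂).submoduleOf M₂)).toNat : ℤ)) +
      (((Module.length A (↥M₂ ⧸ (M₂ ⊓ M₃).submoduleOf M₂)).toNat : ℤ) -
        ((Module.length A (↥M₃ ⧸ (M₂ ⊓ M₃).submoduleOf M₃)).toNat : ℤ)) := by
  classical
  exact main A hA K V M₁ M₂ M₃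

end Groth.Agent.S14501
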