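import Groth.Statements.S14505
import Mathlib
import Groth.Agent.S11857
-- import your own Groth.Agent.* helpers here

set_option autoImplicit false
universe u
open IntTh

namespace Groth.Agent.S14505

open PowerSeries
namespace Aux

open Groth.Agent.S11857.Aux

variable {R : Type u} [CommRing R]

/-- `cz` version of the convolution formula, integer index -/
lemma cz_mul_eq_sum (a c : PowerSeries R) (D : ℕ) (ha : ∀ k, D < k → coeff k a = 0) (n : ℤ) :
    cz (a * c) n = ∑ k ∈ Finset.range (D + 1), coeff k a * cz c (n - (k : ℕ)) := by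
  rcases lt_or_ge n 0 with h | h
  · rw [cz_neg _ h]
    symm
    apply Finset.sum_eq_zero
    intro k _
    rw [cz_neg c (by omega), mul_zero]
  · obtain ⟨m, rfl⟩ : ∃ m : ℕ, n = (m : ℤ) := ⟨n.toNat, by omega⟩
    rw [cz_nat, coeff_mul_eq_sum a c D ha m, Fin.sum_univ_eq_sum_range
      (fun k => coeff k a * cz c ((m : ℤ) - (k : ℕ))) (D + 1)]

/-- geometric series -/
noncomputable def geo (x : R) : PowerSeries R := PowerSeries.mk (fun m => (-x) ^ m)

lemma lin_mul_geo (x : R) : (1 + C x * X) * geo x = 1 := by
  ext n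
  rw [add_mul, one_mul, map_add, mul_assoc, coeff_C_mul]
  cases n with
  | zero => simp [geo]
  | succ n =>
    rw [coeff_succ_X_mul]
    simp only [geo, coeff_mk, coeff_one, Nat.succ_ne_zero, if_false]
    ring

section
variable {d e : ℕ} (α : Fin d → R) (β : Fin e → R)

noncomputable def bser : PowerSeries R := ∏ j : Fin e, (1 + C (β j) * X)

noncomputable def cser : PowerSeries R := bser β * ∏ l : Fin d, geo (α l)

noncomputable def spoly (i : Fin d) : Polynomial R :=
  ∏ l : Fin d, if l ≤ i then 1 else (1 + Polynomial.C (α l) * Polynomial.X)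

noncomputable def sser (i : Fin d) : PowerSeries R :=
  ∏ l : Fin d, if l ≤ i then 1 else (1 + C (α l) * X)

noncomputable def Qser (i : Fin d) : PowerSeries R :=
  bser β * ∏ l : Fin d, if l ≤ i then geo (α l) else 1

lemma coe_lin (x : R) : ((1 + Polynomial.C x * Polynomial.X : Polynomial R) : PowerSeries R) =
    1 + C x * X := by simp

lemma sser_eq_coe (i : Fin d) : sser α i = ((spoly α i : Polynomial R) : PowerSeries R) := by
  unfold sser spoly
  rw [← Polynomial.coeToPowerSeries.ringHom_apply, map_prod]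
  refine Finset.prod_congr rfl fun l _ => ?_
  split_ifs
  · simp
  · rw [Polynomial.coeToPowerSeries.ringHom_apply, coe_lin]

lemma Qser_eq (i : Fin d) : Qser α β i = sser α i * cser α β := by
  unfold Qser sser cser
  rw [mul_left_comm, ← Finset.prod_mul_distrib]
  congr 1
  refine Finset.prod_congr rfl fun l _ => ?_
  split_ifs
  · rw [one_mul]
  · rw [lin_mul_geo]

lemma sser_coeff_zero (i : Fin d) : coeff 0 (sser α i) = 1 := by
  rw [coeff_zero_eq_constantCoeff_apply]
  unfold sser
  rw [map_prod]
  apply Finset.prod_eq_one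
  intro l _
  split_ifs <;> simp

lemma spoly_natDegree (i : Fin d) : (spoly α i).natDegree ≤ d - 1 - i := by
  unfold spoly
  refine (Polynomial.natDegree_prod_le _ _).trans ?_
  calc ∑ l : Fin d, (if l ≤ i then (1 : Polynomial R)
          else (1 + Polynomial.C (α l) * Polynomial.X)).natDegree
      ≤ ∑ l : Fin d, if l ≤ i then 0 else 1 := by
        refine Finset.sum_le_sum fun l _ => ?_
        split_ifs
        · simp
        · refine (Polynomial.natDegree_add_le _ _).trans ?_
          simp only [Polynomial.natDegree_one, zero_le, sup_of_le_right]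
          exact (Polynomial.natDegree_C_mul_le _ _).trans Polynomial.natDegree_X_le
    _ = d - 1 - i := by
        rw [Finset.sum_ite, Finset.sum_const_zero, zero_add, Finset.sum_const, smul_eq_mul, mul_one]
        have : (Finset.univ.filter fun l : Fin d => ¬ l ≤ i) = Finset.Ioi i := by
          ext l; simp
        rw [this, Fin.card_Ioi]

lemma sser_coeff_vanish (i : Fin d) (k : ℕ) (hk : d - 1 - i < k) : coeff k (sser α i) = 0 := by
  rw [sser_eq_coe, Polynomial.coeff_coe]
  exact Polynomial.coeff_eq_zero_of_natDegree_lt ((spoly_natDegree α i).trans_lt hk)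

noncomputable def Tmat : Matrix (Fin d) (Fin d) R :=
  Matrix.of fun i k => if i ≤ k then coeff ((k : ℕ) - (i : ℕ)) (sser α i) else 0

lemma det_Tmat : (Tmat α).det = 1 := by
  rw [Matrix.det_of_isUpperTriangular]
  · apply Finset.prod_eq_one
    intro i _
    simp [Tmat, sser_coeff_zero]
  · intro i j hij
    simp only [id_eq] at hij
    simp [Tmat, not_le.2 hij]

lemma Tmat_mul (i j : Fin d) :
    (Tmat α * Dmat d e (cser α β)) i j = cz (Qser α β i) ((e : ℤ) + (j : ℕ) - (i : ℕ)) := by
  rw [Qser_eq, cz_mul_eq_sum (sser α i) (cser α β) (d - 1 - i) (sser_coeff_vanish α i),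
    Matrix.mul_apply]
  have e0 : ∑ k : Fin d, Tmat α i k * Dmat d e (cser α β) k j =
      ∑ k : Fin d, (fun k : ℕ => (if (i : ℕ) ≤ k then coeff (k - (i : ℕ)) (sser α i) else 0) *
        cz (cser α β) ((e : ℤ) + (j : ℕ) - (k : ℕ))) (k : ℕ) := by
    refine Finset.sum_congr rfl fun k _ => ?_
    simp only [Tmat, Dmat, Matrix.of_apply, Fin.le_def]
  rw [e0, Fin.sum_univ_eq_sum_range
      (fun k => (if (i : ℕ) ≤ k then coeff (k - (i : ℕ)) (sser α i) else 0) *
        cz (cser α β) ((e : ℤ) + (j : ℕ) - (k : ℕ))) d]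
  · have hi : (i : ℕ) < d := i.2
    have e1 : d - 1 - (i : ℕ) + 1 = d - i := by omega
    rw [e1]
    rw [← Finset.sum_filter_add_sum_filter_not (Finset.range d) (fun k => (i : ℕ) ≤ k)]
    have z : ∑ k ∈ (Finset.range d).filter (fun k => ¬ (i : ℕ) ≤ k),
        (if (i : ℕ) ≤ k then coeff (k - (i : ℕ)) (sser α i) else 0) *
        cz (cser α β) ((e : ℤ) + (j : ℕ) - (k : ℕ)) = 0 := by
      apply Finset.sum_eq_zero
      intro k hk
      rw [if_neg (Finset.mem_filter.1 hk).2, zero_mul]
    rw [z, add_zero]
    have hf : (Finset.range d).filter (fun k => (i : ℕ) ≤ k) = Finset.Ico (i : ℕ) d := by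
      ext k; simp [and_comm]
    rw [hf, Finset.sum_Ico_eq_sum_range]
    refine Finset.sum_congr rfl fun m _ => ?_
    rw [if_pos (Nat.le_add_right _ _), Nat.add_sub_cancel_left]
    congr 2
    push_cast
    ring

end

theorem main (R : Type u) [CommRing R] (d e : ℕ)
    (α : Fin d → R) (β : Fin e → R) :
    ∏ i : Fin d, ∏ j : Fin e, (β j - α i) =
      (Matrix.of fun i j : Fin d =>
        if (i : ℕ) ≤ e + (j : ℕ) then
          PowerSeries.coeff (e + (j : ℕ) - (i : ℕ))
            ((∏ j : Fin e, (1 + PowerSeries.C (β j) * PowerSeries.X)) *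
              ∏ l : Fin d, if l ≤ i then PowerSeries.mk (fun m => (-α l) ^ m) else 1)
        else 0).det := by
  have hA : (Matrix.of fun i j : Fin d =>
        if (i : ℕ) ≤ e + (j : ℕ) then
          PowerSeries.coeff (e + (j : ℕ) - (i : ℕ))
            ((∏ j : Fin e, (1 + PowerSeries.C (β j) * PowerSeries.X)) *
              ∏ l : Fin d, if l ≤ i then PowerSeries.mk (fun m => (-α l) ^ m) else 1)
        else 0) = Tmat α * Dmat d e (cser α β) := by
    ext i j
    rw [Tmat_mul, Matrix.of_apply]
    unfold cz Qser bser geo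
    by_cases h : (i : ℕ) ≤ e + j
    · have h' : (0 : ℤ) ≤ (e : ℤ) + (j : ℕ) - (i : ℕ) := by omega
      rw [if_pos h, if_pos h']
      have h2 : ((e : ℤ) + ((j : ℕ) : ℤ) - ((i : ℕ) : ℤ)).toNat = e + j - i := by omega
      rw [h2]
    · have h' : ¬ (0 : ℤ) ≤ (e : ℤ) + (j : ℕ) - (i : ℕ) := by omega
      rw [if_neg h, if_neg h']
  rw [hA, Matrix.det_mul, det_Tmat, one_mul]
  symm
  apply main_aux d e α β (cser α β)
  -- a * c = b
  have h1 : ((∏ i, (1 + Polynomial.C (α i) * Polynomial.X) : Polynomial R) : PowerSeries R) =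
      ∏ i, (1 + C (α i) * X) := by
    rw [← Polynomial.coeToPowerSeries.ringHom_apply, map_prod]
    exact Finset.prod_congr rfl fun l _ => by
      rw [Polynomial.coeToPowerSeries.ringHom_apply, coe_lin]
  have h2 : ((∏ i, (1 + Polynomial.C (β i) * Polynomial.X) : Polynomial R) : PowerSeries R) =
      ∏ i, (1 + C (β i) * X) := by
    rw [← Polynomial.coeToPowerSeries.ringHom_apply, map_prod]
    exact Finset.prod_congr rfl fun l _ => by
      rw [Polynomial.coeToPowerSeries.ringHom_apply, coe_lin]
  rw [h1, h2]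
  unfold cser bser
  rw [mul_left_comm, ← Finset.prod_mul_distrib]
  have : ∏ i, ((1 + C (α i) * X) * geo (α i)) = (1 : PowerSeries R) :=
    Finset.prod_eq_one fun i _ => lin_mul_geo (α i)
  rw [this, mul_one]

end Aux

/-- Let R be a commutative ring, α₁, …, α_d, β₁, …, β_e ∈ R, b(t) = ∏ (1 + β_j t), and for k = 1, …, d
let P_k(t) = b(t)/∏_{i ≤ k} (1 + α_i t) ∈ R⟦t⟧, each factor 1 + α_i t being inverted by its
geometric series; write (P_k)_m for the coefficient of t^m, with (P_k)_m = 0 for m < 0. Then ∏_{i,j}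
(β_j − α_i) = det((P_i)_{e+j−i})_{1 ≤ i,j ≤ d}, the d × d determinant whose i-th row is built from
the coefficients of the i-th partial quotient. (Rows and columns are 0-based in the formal
statement, which does not change j − i; the row of index i inverts the factors of index at most i.
The companion form with every row built from the full quotient b/a is stated separately.) -/
theorem result (R : Type u) [CommRing R] (d e : ℕ)
    (α : Fin d → R) (β : Fin e → R) :
    ∏ i : Fin d, ∏ j : Fin e, (β j - α i) =
      (Matrix.of fun i j : Fin d =>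
        if (i : ℕ) ≤ e + (j : ℕ) then
          PowerSeries.coeff (e + (j : ℕ) - (i : ℕ))
            ((∏ j : Fin e, (1 + PowerSeries.C (β j) * PowerSeries.X)) *
              ∏ l : Fin d, if l ≤ i then PowerSeries.mk (fun m => (-α l) ^ m) else 1)
        else 0).det := by
  exact Aux.main R d e α β

end Groth.Agent.S14505
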