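import Groth.Statements.S14510
import Mathlib
import Groth.Agent.Lib.Helper2.Segre

set_option autoImplicit false
universe u v
open CAlgX

namespace Groth.Agent.S14510

/-- Let k be an algebraically closed field, U, V, W finite-dimensional k-vector spaces with U and V
nonzero, and φ : U ⊗ V → W a linear map which is 1-generic, i.e. φ(u ⊗ v) ≠ 0 for all nonzero u and
v (φ is given here as a bilinear map). Then dim W ≥ dim U + dim V − 1. (Algebraic closedness
matters: complex multiplication ℂ ⊗ ℂ → ℂ over the reals is 1-generic with 2 + 2 − 1 > 2.) -/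
theorem result (k : Type u) [Field k] [IsAlgClosed k]
    (U V W : Type v) [AddCommGroup U] [Module k U] [AddCommGroup V] [Module k V] [AddCommGroup W] [Module k W]
    [Module.Finite k U] [Module.Finite k V] [Module.Finite k W] [Nontrivial U] [Nontrivial V]
    (φ : U →ₗ[k] V →ₗ[k] W) (hφ : ∀ (a : U) (b : V), a ≠ 0 → b ≠ 0 → φ a b ≠ 0) :
    Module.finrank k U + Module.finrank k V ≤ Module.finrank k W + 1 := by
  classical
  by_contra hcon
  rw [not_le] at hcon
  have hm : 0 < Module.finrank k U := Module.finrank_pos
  have hn : 0 < Module.finrank k V := Module.finrank_pos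
  let eU := Module.finBasis k U
  let eV := Module.finBasis k V
  let eW := Module.finBasis k W
  obtain ⟨a, b, ha, hb, hab⟩ := Groth.Agent.Helper2.Segre.exists_rank_one_zero k
    (Module.finrank k U) (Module.finrank k V) hm hn (Module.finrank k W) (by omega)
    (fun t i j => eW.equivFun (φ (eU i) (eV j)) t)
  have hu : eU.equivFun.symm a ≠ 0 := by
    intro h
    exact ha (eU.equivFun.symm.injective (h.trans (map_zero _).symm))
  have hv : eV.equivFun.symm b ≠ 0 := by
    intro h
    exact hb (eV.equivFun.symm.injective (h.trans (map_zero _).symm))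
  apply hφ _ _ hu hv
  apply eW.equivFun.injective
  rw [map_zero]
  funext t
  rw [Module.Basis.equivFun_symm_apply, Module.Basis.equivFun_symm_apply]
  simp only [map_sum, map_smul, LinearMap.sum_apply, LinearMap.smul_apply, Pi.zero_apply]
  have := hab t
  rw [Finset.sum_comm] at this
  rw [← this, Finset.sum_apply]
  refine Finset.sum_congr rfl (fun j _ => ?_)
  rw [Pi.smul_apply, Finset.sum_apply, smul_eq_mul, Finset.mul_sum]
  refine Finset.sum_congr rfl (fun i _ => ?_)
  rw [Pi.smul_apply, smul_eq_mul]
  ring

end Groth.Agent.S14510
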