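import Groth.Statements.S14525
import Mathlib
import Groth.Agent.Lib.Helper1.SurfDual2

set_option autoImplicit false
universe u
open CategoryTheory CategoryTheory.Limits AlgebraicGeometry
open Surf

namespace Groth.Agent.S14525

/-- Let k be an algebraically closed field, X a smooth projective surface over k (integral, smooth over
k, of dimension two, with a closed immersion over k into some projective space), L an invertible
O_X-module with tensor inverse L' such that (L·L) > 0, and M an ample invertible module with tensor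
inverse M'; intersection numbers are the alternating Euler-characteristic sums in the inverses (the
prelude's FGA.intNum, so (L·L) is computed in L', L' and (L·M) in L', M'). Then (L·M) ≠ 0; if (L·M)
> 0 there is c > 0 with dim_k H^0(X, L^{⊗m}) > c·m² for all large m, and if (L·M) < 0 the same holds
for L' in place of L. -/
theorem result (k : Type u) [Field k] [IsAlgClosed k]
    (X : Scheme.{u}) [X.Over (Spec (CommRingCat.of k))] [IsIntegral X] [Smooth (X ↘ (Spec (CommRingCat.of k)))] (hdim : topologicalKrullDim X = 2)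
    (hprojX : ∃ (N : ℕ) (ι : X ⟶ CohB1.ProjSpace N k), IsClosedImmersion ι ∧ ι ≫ CohB1.ProjSpace.toSpec N k = (X ↘ (Spec (CommRingCat.of k))))
    (L L' : X.Modules) (hL : PicF.IsInvertible L) (hLL' : ClSub.IsInverseOf L L')
    (hpos : 0 < FGA.intNum k X 2 ![L', L'] (Coh.structureModule X))
    (M M' : X.Modules) (hM : CohB1.IsAmple M) (hMM' : ClSub.IsInverseOf M M') :
    FGA.intNum k X 2 ![L', M'] (Coh.structureModule X) ≠ 0 ∧
    (0 < FGA.intNum k X 2 ![L', M'] (Coh.structureModule X) →
      ∃ c : ℚ, 0 < c ∧ ∃ m₀ : ℕ, ∀ m : ℕ, m₀ ≤ m →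
        c * (m : ℚ) ^ 2 < (Module.finrank k (Coh.HH X (CohB1.tensorPow L m) 0) : ℚ)) ∧
    (FGA.intNum k X 2 ![L', M'] (Coh.structureModule X) < 0 →
      ∃ c : ℚ, 0 < c ∧ ∃ m₀ : ℕ, ∀ m : ℕ, m₀ ≤ m →
        c * (m : ℚ) ^ 2 < (Module.finrank k (Coh.HH X (CohB1.tensorPow L' m) 0) : ℚ)) := by
  obtain ⟨n, ι, hcl, hι⟩ := hprojX
  haveI := hcl
  haveI : IsProper (CohB1.ProjSpace.toSpec n k) := Groth.Agent.Helper1.VA5.isProper_toSpec n k
  haveI : IsProper (X ↘ Spec (CommRingCat.of k)) := by
    rw [← hι]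
    infer_instance
  have hLL'' : Nonempty (CohB1.tensorMod L L' ≅ Coh.structureModule X) := hLL'
  have hMM'' : Nonempty (CohB1.tensorMod M M' ≅ Coh.structureModule X) := hMM'
  obtain ⟨iL⟩ := hLL''
  obtain ⟨iM⟩ := hMM''
  have iL' : CohB1.tensorMod L' L ≅ Coh.structureModule X :=
    Groth.Agent.Helper1.TildeTens.tensorModComm L' L ≪≫ iL
  have iM' : CohB1.tensorMod M' M ≅ Coh.structureModule X :=
    Groth.Agent.Helper1.TildeTens.tensorModComm M' M ≪≫ iM
  have hL' : PicF.IsInvertible L' :=
    Groth.Agent.Helper1.CurveCart.isInvertible_left_of_tensor_iso hL iL'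
  have hM' : PicF.IsInvertible M' :=
    Groth.Agent.Helper1.CurveCart.isInvertible_left_of_tensor_iso hM.1 iM'
  have e1 : FGA.intNum k X 2 ![L', M'] (Coh.structureModule X) =
      FGA.intNum k X 2 ![L, M] (Coh.structureModule X) :=
    Groth.Agent.Helper1.SurfHodge.intNum_inv_inv k X hdim L L' M M' hL hM.1 iL iM
  have e2 : FGA.intNum k X 2 ![L', L'] (Coh.structureModule X) =
      FGA.intNum k X 2 ![L, L] (Coh.structureModule X) :=
    Groth.Agent.Helper1.SurfHodge.intNum_inv_inv k X hdim L L' L L' hL hL iL iL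
  refine ⟨?_, ?_, ?_⟩
  · intro h0
    have h1 := Groth.Agent.Helper1.SurfHodge.hodge_ample k X hdim M hM L hL
      (by rw [← e1]; exact h0)
    rw [← e2] at h1
    linarith
  · intro hp
    obtain ⟨m₀, hm₀⟩ :=
      Groth.Agent.Helper1.SurfHodge.growth k X hdim L L' hL iL hpos M M' hM iM hp
    exact ⟨1 / 4, by norm_num, m₀, hm₀⟩
  · intro hn
    have hpos' : 0 < FGA.intNum k X 2 ![L, L] (Coh.structureModule X) := by
      rw [← e2]
      exact hpos
    have h1 : FGA.intNum k X 2 ![L, M'] (Coh.structureModule X) =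
        - FGA.intNum k X 2 ![L', M'] (Coh.structureModule X) := by
      rw [Groth.Agent.Helper1.SurfHodge.intNum_symm k X hdim L M' hL hM',
        Groth.Agent.Helper1.SurfHodge.intNum_inverse_right k X hdim M' L' L hM' hL' hL iL',
        Groth.Agent.Helper1.SurfHodge.intNum_symm k X hdim M' L' hM' hL']
    have hp' : 0 < FGA.intNum k X 2 ![L, M'] (Coh.structureModule X) := by
      rw [h1]
      linarith
    obtain ⟨m₀, hm₀⟩ :=
      Groth.Agent.Helper1.SurfHodge.growth k X hdim L' L hL' iL' hpos' M M' hM iM hp'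
    exact ⟨1 / 4, by norm_num, m₀, hm₀⟩

end Groth.Agent.S14525
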