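import Groth.Statements.S14541
import Mathlib
import Groth.Prelude.Def_ChGrp
import Groth.Agent.S18859

set_option autoImplicit false
universe u
open CategoryTheory MonoidalCategory CartesianMonoidalCategory MonObj GrpObj AlgebraicGeometry
open PrincBund

namespace Groth.Agent.S14541

section
open CategoryTheory MonoidalCategory CartesianMonoidalCategory MonObj GrpObj AlgebraicGeometry
open Limits

variable {X : Scheme.{u}}

section Div

variable {G Y : Over X} [GrpObj G] (a : AlgGrp.Action G Y) [hτ : IsIso (lift a.act (snd G Y))]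

/-- the division map of a pseudo-torsor on points: `dv y y₀ • y₀ = y` -/
noncomputable def dv {Z : Over X} (y y₀ : Z ⟶ Y) : Z ⟶ G :=
  lift y y₀ ≫ inv (lift a.act (snd G Y)) ≫ fst G Y

theorem dv_act {Z : Over X} (y y₀ : Z ⟶ Y) : lift (dv a y y₀) y₀ ≫ a.act = y := by
  set τ := lift a.act (snd G Y) with hτdef
  have hτfst : τ ≫ fst Y Y = a.act := lift_fst _ _
  have hτsnd : τ ≫ snd Y Y = snd G Y := lift_snd _ _
  obtain ⟨w, hw⟩ : ∃ w, w = lift y y₀ ≫ inv τ := ⟨_, rfl⟩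
  have hw2 : w ≫ snd G Y = y₀ := by
    rw [← hτsnd, hw, Category.assoc, IsIso.inv_hom_id_assoc, lift_snd]
  have hw1 : w ≫ a.act = y := by
    rw [← hτfst, hw, Category.assoc, IsIso.inv_hom_id_assoc, lift_fst]
  have hw3 : lift (dv a y y₀) y₀ = w := by
    apply CartesianMonoidalCategory.hom_ext
    · rw [lift_fst, hw]; unfold dv; rw [Category.assoc]
    · rw [lift_snd, hw2]
  rw [hw3, hw1]

theorem dv_of_act {Z : Over X} (g : Z ⟶ G) (y₀ : Z ⟶ Y) : dv a (lift g y₀ ≫ a.act) y₀ = g := by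
  unfold dv
  have : lift (lift g y₀ ≫ a.act) y₀ = lift g y₀ ≫ lift a.act (snd G Y) := by
    rw [comp_lift, lift_snd]
  rw [this, Category.assoc, IsIso.hom_inv_id_assoc, lift_fst]

theorem comp_dv {Z Z' : Over X} (w : Z' ⟶ Z) (y y₀ : Z ⟶ Y) :
    w ≫ dv a y y₀ = dv a (w ≫ y) (w ≫ y₀) := by
  unfold dv
  rw [← Category.assoc, comp_lift]

theorem dv_self {Z : Over X} (y₀ : Z ⟶ Y) : dv a y₀ y₀ = 1 := by
  have := dv_of_act a (1 : Z ⟶ G) y₀
  rwa [AlgGrp.Action.lift_one_act] at this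

theorem dv_act_left {Z : Over X} (g : Z ⟶ G) (y y₀ : Z ⟶ Y) :
    dv a (lift g y ≫ a.act) y₀ = g * dv a y y₀ := by
  have h : lift g y ≫ a.act = lift (g * dv a y y₀) y₀ ≫ a.act := by
    rw [AlgGrp.Action.lift_mul_act, dv_act]
  rw [h, dv_of_act]

end Div

section Hom

variable {G H : Over X} [GrpObj G] [GrpObj H] (v : G ⟶ H) [IsMonHom v]

theorem mul_comp_hom {Z : Over X} (g h : Z ⟶ G) : (g * h) ≫ v = (g ≫ v) * (h ≫ v) := by
  rw [Hom.mul_def, Hom.mul_def, Category.assoc, IsMonHom.mul_hom, ← Category.assoc, lift_map]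

theorem one_comp_hom {Z : Over X} : (1 : Z ⟶ G) ≫ v = 1 := by
  rw [Hom.one_def, Hom.one_def, Category.assoc, IsMonHom.one_hom]

end Hom

section Formula

variable {J J' J'' P P' P'' : Over X} [GrpObj J] [GrpObj J'] [GrpObj J'']
  (u : J ⟶ J') [IsMonHom u] (v : J' ⟶ J'') [IsMonHom v]
  (a : AlgGrp.Action J P) (a' : AlgGrp.Action J' P') (a'' : AlgGrp.Action J'' P'')
  [hτ : IsIso (lift a.act (snd J P))] [hτ' : IsIso (lift a'.act (snd J' P'))]
  (q' : P ⟶ P') (hq' : a.act ≫ q' = lift (fst J P ≫ u) (snd J P ≫ q') ≫ a'.act)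
  (q'' : P ⟶ P'') (hq'' : a.act ≫ q'' = lift (fst J P ≫ u ≫ v) (snd J P ≫ q'') ≫ a''.act)

include hq' in
theorem hq'_pt {Z : Over X} (g : Z ⟶ J) (p : Z ⟶ P) :
    (lift g p ≫ a.act) ≫ q' = lift (g ≫ u) (p ≫ q') ≫ a'.act := by
  rw [Category.assoc, hq', ← Category.assoc, comp_lift, lift_fst_assoc, lift_snd_assoc]

include hq'' in
theorem hq''_pt {Z : Over X} (g : Z ⟶ J) (p : Z ⟶ P) :
    (lift g p ≫ a.act) ≫ q'' = lift (g ≫ u ≫ v) (p ≫ q'') ≫ a''.act := by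
  rw [Category.assoc, hq'', ← Category.assoc, comp_lift, lift_fst_assoc, lift_snd_assoc]

/-- the candidate value of `r` at the point `y`, computed with the auxiliary point `p₀` of `P` -/
noncomputable def Rf {Z : Over X} (p₀ : Z ⟶ P) (y : Z ⟶ P') : Z ⟶ P'' :=
  lift (dv a' y (p₀ ≫ q') ≫ v) (p₀ ≫ q'') ≫ a''.act

include hq' hq'' in
theorem Rf_indep {Z : Over X} (p₀ p₁ : Z ⟶ P) (y : Z ⟶ P') :
    Rf v a' a'' q' q'' p₀ y = Rf v a' a'' q' q'' p₁ y := by
  obtain ⟨j, hj⟩ : ∃ j, j = dv a p₁ p₀ := ⟨_, rfl⟩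
  have hp₁ : lift j p₀ ≫ a.act = p₁ := by rw [hj, dv_act]
  obtain ⟨d₁, hd₁⟩ : ∃ d₁, d₁ = dv a' y (p₁ ≫ q') := ⟨_, rfl⟩
  have e1 : p₁ ≫ q' = lift (j ≫ u) (p₀ ≫ q') ≫ a'.act := by
    rw [← hp₁, hq'_pt u a a' q' hq']
  have hd₀ : dv a' y (p₀ ≫ q') = d₁ * (j ≫ u) := by
    have hy : y = lift (d₁ * (j ≫ u)) (p₀ ≫ q') ≫ a'.act := by
      rw [AlgGrp.Action.lift_mul_act, ← e1, hd₁, dv_act]
    conv_lhs => rw [hy]
    rw [dv_of_act]
  have e2 : p₁ ≫ q'' = lift (j ≫ u ≫ v) (p₀ ≫ q'') ≫ a''.act := by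
    rw [← hp₁, hq''_pt u v a a'' q'' hq'']
  unfold Rf
  rw [hd₀, ← hd₁, mul_comp_hom, AlgGrp.Action.lift_mul_act, Category.assoc, ← e2]

theorem comp_Rf {Z Z' : Over X} (w : Z' ⟶ Z) (p₀ : Z ⟶ P) (y : Z ⟶ P') :
    w ≫ Rf v a' a'' q' q'' p₀ y = Rf v a' a'' q' q'' (w ≫ p₀) (w ≫ y) := by
  unfold Rf
  rw [← Category.assoc, comp_lift, ← Category.assoc, comp_dv, Category.assoc, Category.assoc]

theorem Rf_act {Z : Over X} (p₀ : Z ⟶ P) (g' : Z ⟶ J') (y : Z ⟶ P') :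
    Rf v a' a'' q' q'' p₀ (lift g' y ≫ a'.act) =
      lift (g' ≫ v) (Rf v a' a'' q' q'' p₀ y) ≫ a''.act := by
  unfold Rf
  rw [dv_act_left, mul_comp_hom, AlgGrp.Action.lift_mul_act]

theorem Rf_self {Z : Over X} (p : Z ⟶ P) : Rf v a' a'' q' q'' p (p ≫ q') = p ≫ q'' := by
  unfold Rf
  rw [dv_self, one_comp_hom, AlgGrp.Action.lift_one_act]

end Formula

section Glue

theorem glue_arrows {Y W : Scheme.{u}} {κ : Type*} {Q : κ → Scheme.{u}} (π : ∀ k, Q k ⟶ Y)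
    (hπ : Presieve.ofArrows Q π ∈ Scheme.fpqcPrecoverage Y) (x : ∀ k, Q k ⟶ W)
    (hx : ∀ (k l : κ) (Z : Scheme.{u}) (gk : Z ⟶ Q k) (gl : Z ⟶ Q l),
      gk ≫ π k = gl ≫ π l → gk ≫ x k = gl ≫ x l) :
    ∃ m : Y ⟶ W, ∀ k, π k ≫ m = x k := by
  have hs : Presieve.IsSheaf Scheme.fpqcTopology (yoneda.obj W) :=
    GrothendieckTopology.Subcanonical.isSheaf_of_isRepresentable _
  have h1 := hs _ (Precoverage.generate_mem_toGrothendieck hπ)
  rw [← Presieve.isSheafFor_iff_generate, Presieve.isSheafFor_arrows_iff] at h1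
  obtain ⟨m, hm, -⟩ := h1 x (fun k l Z gk gl hkl => hx k l Z gk gl hkl)
  exact ⟨m, hm⟩

variable {σ : Type*} (T : σ → Scheme.{u}) (t : ∀ k, T k ⟶ X)
  (hR : Presieve.ofArrows T t ∈ Scheme.fpqcPrecoverage X)

/-- the members of the pulled back covering, as objects over `X` -/
noncomputable def Wo (Z' : Over X) (k : σ) : Over X := Over.mk (pullback.snd (t k) Z'.hom ≫ Z'.hom)

noncomputable def cov (Z' : Over X) (k : σ) : Wo T t Z' k ⟶ Z' :=
  Over.homMk (pullback.snd (t k) Z'.hom) rfl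

include hR in
theorem cov_mem (Z' : Over X) :
    Presieve.ofArrows (fun k => pullback (t k) Z'.hom) (fun k => pullback.snd (t k) Z'.hom) ∈
      Scheme.fpqcPrecoverage Z'.left := by
  rw [Presieve.ofArrows_pullback]
  exact Precoverage.pullbackArrows_mem Z'.hom hR

include hR in
theorem ext_cover {Z' Y : Over X} (m₁ m₂ : Z' ⟶ Y)
    (h : ∀ k, cov T t Z' k ≫ m₁ = cov T t Z' k ≫ m₂) : m₁ = m₂ := by
  apply Over.OverMorphism.ext
  refine Groth.Agent.S18859.jointly_epi _ (cov_mem T t hR Z') _ _ ?_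
  rintro _ _ ⟨k⟩
  exact congrArg (fun m => m.left) (h k)

include hR in
theorem glue_cover {Z' Y : Over X} (x : ∀ k, Wo T t Z' k ⟶ Y)
    (compat : ∀ (k l : σ) (Zo : Over X) (gk : Zo ⟶ Wo T t Z' k) (gl : Zo ⟶ Wo T t Z' l),
      gk ≫ cov T t Z' k = gl ≫ cov T t Z' l → gk ≫ x k = gl ≫ x l) :
    ∃ m : Z' ⟶ Y, ∀ k, cov T t Z' k ≫ m = x k := by
  obtain ⟨m₀, hm₀⟩ := glue_arrows (fun k => pullback.snd (t k) Z'.hom) (cov_mem T t hR Z')
    (fun k => (x k).left) (by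
      intro k l Z gk gl hkl
      let Zo : Over X := Over.mk (gk ≫ pullback.snd (t k) Z'.hom ≫ Z'.hom)
      let gk' : Zo ⟶ Wo T t Z' k := Over.homMk gk rfl
      let gl' : Zo ⟶ Wo T t Z' l := Over.homMk gl (by
        change gl ≫ pullback.snd (t l) Z'.hom ≫ Z'.hom = gk ≫ pullback.snd (t k) Z'.hom ≫ Z'.hom
        rw [← Category.assoc, ← hkl, Category.assoc])
      have := compat k l Zo gk' gl' (by
        apply Over.OverMorphism.ext
        exact hkl)
      exact congrArg (fun m => m.left) this)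
  have hw : m₀ ≫ Y.hom = Z'.hom := by
    refine Groth.Agent.S18859.jointly_epi _ (cov_mem T t hR Z') _ _ ?_
    rintro _ _ ⟨k⟩
    rw [← Category.assoc, hm₀ k]
    exact Over.w (x k)
  refine ⟨Over.homMk m₀ hw, ?_⟩
  intro k
  apply Over.OverMorphism.ext
  exact hm₀ k

end Glue

theorem main {X : Scheme.{u}}
    {J J' J'' : Over X} [GrpObj J] [GrpObj J'] [GrpObj J''] [IsAffineHom J.hom] [IsAffineHom J'.hom]
    [IsAffineHom J''.hom] (u : J ⟶ J') [IsMonHom u] (v : J' ⟶ J'') [IsMonHom v] {P P' P'' : Over X}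
    (a : AlgGrp.Action J P) (a' : AlgGrp.Action J' P') (a'' : AlgGrp.Action J'' P'')
    (hP : NonAbH1.IsTorsorFor Scheme.fpqcPrecoverage a)
    (hP' : NonAbH1.IsTorsorFor Scheme.fpqcPrecoverage a')
    (hP'' : NonAbH1.IsTorsorFor Scheme.fpqcPrecoverage a'')
    (q' : P ⟶ P') (hq' : a.act ≫ q' = lift (fst J P ≫ u) (snd J P ≫ q') ≫ a'.act)
    (q'' : P ⟶ P'') (hq'' : a.act ≫ q'' = lift (fst J P ≫ u ≫ v) (snd J P ≫ q'') ≫ a''.act) :
    ∃! r : P' ⟶ P'', a'.act ≫ r = lift (fst J' P' ≫ v) (snd J' P' ≫ r) ≫ a''.act ∧ q' ≫ r = q'' := by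
  obtain ⟨hpt, R, hR, hsec⟩ := hP
  obtain ⟨hpt', -⟩ := hP'
  haveI : IsIso (lift a.act (snd J P)) := hpt
  haveI : IsIso (lift a'.act (snd J' P')) := hpt'
  obtain ⟨σ, T, t, rfl⟩ := R.exists_eq_ofArrows
  choose s hs using (fun k => hsec (t k) ⟨k⟩)
  let pt : ∀ (Z' : Over X) (k : σ), Wo T t Z' k ⟶ P := fun Z' k =>
    Over.homMk (pullback.fst (t k) Z'.hom ≫ s k) (by
      change (pullback.fst (t k) Z'.hom ≫ s k) ≫ P.hom = pullback.snd (t k) Z'.hom ≫ Z'.hom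
      rw [Category.assoc, hs]; exact pullback.condition)
  obtain ⟨r, hr⟩ := glue_cover T t hR (Z' := P') (Y := P'')
    (fun k => Rf v a' a'' q' q'' (pt P' k) (cov T t P' k)) (by
      intro k l Zo gk gl hkl
      rw [comp_Rf, comp_Rf, hkl]
      exact Rf_indep u v a a' a'' q' hq' q'' hq'' _ _ _)
  have EV : ∀ (Z' : Over X) (y : Z' ⟶ P') (p₀ : Z' ⟶ P), y ≫ r = Rf v a' a'' q' q'' p₀ y := by
    intro Z' y p₀
    apply ext_cover T t hR
    intro k
    let lam : Wo T t Z' k ⟶ Wo T t P' k :=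
      Over.homMk (pullback.map (t k) Z'.hom (t k) P'.hom (𝟙 _) y.left (𝟙 _) (by simp)
        (by rw [Category.comp_id]; exact (Over.w y).symm)) (by
        change pullback.map _ _ _ _ _ _ _ _ _ ≫ pullback.snd (t k) P'.hom ≫ P'.hom =
          pullback.snd (t k) Z'.hom ≫ Z'.hom
        rw [pullback.lift_snd_assoc, Category.assoc, Over.w y])
    have hlam : lam ≫ cov T t P' k = cov T t Z' k ≫ y := by
      apply Over.OverMorphism.ext
      exact pullback.lift_snd _ _ _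
    rw [← Category.assoc, ← hlam, Category.assoc, hr k, comp_Rf, comp_Rf, hlam]
    exact Rf_indep u v a a' a'' q' hq' q'' hq'' _ _ _
  have hUniq : ∀ (r₁ : P' ⟶ P''),
      a'.act ≫ r₁ = lift (fst J' P' ≫ v) (snd J' P' ≫ r₁) ≫ a''.act → q' ≫ r₁ = q'' →
      ∀ (Z' : Over X) (y : Z' ⟶ P') (p₀ : Z' ⟶ P), y ≫ r₁ = Rf v a' a'' q' q'' p₀ y := by
    intro r₁ heq₁ hq₁ Z' y p₀
    have hy := dv_act a' y (p₀ ≫ q')
    conv_lhs => rw [← hy]
    rw [Category.assoc, heq₁, ← Category.assoc, comp_lift, lift_fst_assoc, lift_snd_assoc,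
      Category.assoc, hq₁]
    rfl
  refine ⟨r, ⟨?_, ?_⟩, ?_⟩
  · apply ext_cover T t hR
    intro k
    obtain ⟨c, hc⟩ : ∃ c, c = cov T t (J' ⊗ P') k := ⟨_, rfl⟩
    rw [← hc]
    have hc' : c = lift (c ≫ fst J' P') (c ≫ snd J' P') := (lift_comp_fst_snd c).symm
    have e1 : c ≫ a'.act ≫ r = lift (c ≫ fst J' P' ≫ v) ((c ≫ snd J' P') ≫ r) ≫ a''.act := by
      conv_lhs => rw [hc']
      rw [← Category.assoc, EV _ _ (pt (J' ⊗ P') k), Rf_act, ← EV, hc, Category.assoc]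
    rw [e1]
    symm
    rw [← Category.assoc, comp_lift]
    simp only [Category.assoc]
  · rw [EV P q' (𝟙 P)]
    have := Rf_self v a' a'' q' q'' (𝟙 P)
    rwa [Category.id_comp, Category.id_comp] at this
  · rintro r₁ ⟨heq₁, hq₁⟩
    apply ext_cover T t hR
    intro k
    rw [hUniq r₁ heq₁ hq₁ _ _ (pt P' k), EV _ _ (pt P' k)]


end


/-- Let X be a scheme, J, J' and J'' group schemes affine over X, with no flatness or finiteness
condition, u : J → J' and v : J' → J'' homomorphisms, P a J-torsor, P' a J'-torsor and P'' a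
J''-torsor, all for the fpqc topology, q' : P → P' an X-morphism compatible with u and q'' : P → P''
an X-morphism compatible with the composite homomorphism J → J' → J''. Then there is exactly one
X-morphism r : P' → P'' compatible with v whose composite with q' is q''. Taking v to be the
identity, the push forward of a torsor along u is unique up to unique isomorphism. -/
theorem result {X : Scheme.{u}}
    {J J' J'' : Over X} [GrpObj J] [GrpObj J'] [GrpObj J''] [IsAffineHom J.hom] [IsAffineHom J'.hom]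
    [IsAffineHom J''.hom] (u : J ⟶ J') [IsMonHom u] (v : J' ⟶ J'') [IsMonHom v] {P P' P'' : Over X}
    (a : AlgGrp.Action J P) (a' : AlgGrp.Action J' P') (a'' : AlgGrp.Action J'' P'')
    (hP : NonAbH1.IsTorsorFor Scheme.fpqcPrecoverage a)
    (hP' : NonAbH1.IsTorsorFor Scheme.fpqcPrecoverage a')
    (hP'' : NonAbH1.IsTorsorFor Scheme.fpqcPrecoverage a'')
    (q' : P ⟶ P') (hq' : a.act ≫ q' = lift (fst J P ≫ u) (snd J P ≫ q') ≫ a'.act)
    (q'' : P ⟶ P'') (hq'' : a.act ≫ q'' = lift (fst J P ≫ u ≫ v) (snd J P ≫ q'') ≫ a''.act) :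
    ∃! r : P' ⟶ P'', a'.act ≫ r = lift (fst J' P' ≫ v) (snd J' P' ≫ r) ≫ a''.act ∧ q' ≫ r = q'' := by
  classical
  exact main u v a a' a'' hP hP' hP'' q' hq' q'' hq''

end Groth.Agent.S14541
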