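import Groth.Statements.S14547
import Mathlib
import Groth.Prelude.Def_ActBC
import Groth.Agent.S18858

set_option autoImplicit false
universe u
open CategoryTheory MonoidalCategory CartesianMonoidalCategory MonObj GrpObj AlgebraicGeometry
open PrincBund

namespace Groth.Agent.S14547

section
open CategoryTheory MonoidalCategory CartesianMonoidalCategory MonObj GrpObj AlgebraicGeometry
open Limits MorphismProperty

theorem isPseudoTorsorSch_of_bc {X X' : Scheme.{u}} (f : X' ⟶ X)
    [Flat f] [Surjective f] [QuasiCompact f]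
    {J P : Over X} [GrpObj J] (a : AlgGrp.Action J P)
    (h : NonAbH1.IsPseudoTorsorSch (a.bc f)) : NonAbH1.IsPseudoTorsorSch a := by
  have key : lift (a.bc f).act (snd _ _) ≫ Functor.LaxMonoidal.μ (Over.pullback f) P P =
      Functor.LaxMonoidal.μ (Over.pullback f) J P ≫ (Over.pullback f).map (lift a.act (snd J P)) := by
    rw [← Functor.Monoidal.lift_μ, comp_lift_assoc, Functor.Monoidal.μ_snd, AlgGrp.Action.bc_act]
  haveI : IsIso (lift (a.bc f).act (snd _ _)) := h
  have h1 : IsIso (Functor.LaxMonoidal.μ (Over.pullback f) J P ≫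
      (Over.pullback f).map (lift a.act (snd J P))) := by
    rw [← key]; infer_instance
  have h2 : IsIso ((Over.pullback f).map (lift a.act (snd J P))) :=
    IsIso.of_isIso_comp_left (Functor.LaxMonoidal.μ (Over.pullback f) J P) _
  have hleft : IsIso (lift a.act (snd J P)).left := by
    refine Groth.Agent.S18858.descends_fpqc_family_over (MorphismProperty.isomorphisms Scheme.{u})
      (lift a.act (snd J P)) (Presieve.singleton f) (Scheme.Hom.singleton_mem_fpqcPrecoverage f) ?_
    rintro T g ⟨⟩
    exact (inferInstance : IsIso ((Over.forget X').map ((Over.pullback f).map (lift a.act (snd J P)))))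
  haveI : IsIso ((Over.forget X).map (lift a.act (snd J P))) := hleft
  exact isIso_of_reflects_iso (lift a.act (snd J P)) (Over.forget X)

theorem isLocallyTrivialFor_of_bc {X X' : Scheme.{u}} (f : X' ⟶ X)
    [Flat f] [Surjective f] [QuasiCompact f] {P : Over X}
    (h : NonAbH1.IsLocallyTrivialFor Scheme.fpqcPrecoverage (Red.bc f P)) :
    NonAbH1.IsLocallyTrivialFor Scheme.fpqcPrecoverage P := by
  obtain ⟨R', hR', hsec⟩ := h
  obtain ⟨σ, Y, g, rfl⟩ := R'.exists_eq_ofArrows
  have hf : Presieve.ofArrows (fun _ : PUnit.{u + 2} => X') (fun _ => f) ∈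
      Scheme.fpqcPrecoverage X := by
    rw [Presieve.ofArrows_pUnit]
    exact Scheme.Hom.singleton_mem_fpqcPrecoverage f
  have hcomp := Precoverage.IsStableUnderComposition.comp_mem_coverings
    (J := Scheme.fpqcPrecoverage) (fun _ : PUnit.{u + 2} => f) hf (σ := fun _ => σ)
    (Y := fun _ j => Y j) (fun _ j => g j) (fun _ => hR')
  refine ⟨_, hcomp, ?_⟩
  rintro T t ⟨⟨i, j⟩⟩
  obtain ⟨s, hs⟩ := hsec (g j) ⟨j⟩
  refine ⟨s ≫ pullback.fst P.hom f, ?_⟩
  have hs' : s ≫ pullback.snd P.hom f = g j := hs
  rw [Category.assoc, pullback.condition, ← Category.assoc, hs']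

theorem main {X X' : Scheme.{u}} (f : X' ⟶ X)
    [Flat f] [Surjective f] [QuasiCompact f]
    {J P : Over X} [GrpObj J] [IsAffineHom J.hom] (a : AlgGrp.Action J P)
    (a' : AlgGrp.Action (Red.bc f J) (Red.bc f P))
    (ha' : Functor.LaxMonoidal.μ (Over.pullback f) J P ≫ (Over.pullback f).map a.act = a'.act) :
    NonAbH1.IsTorsorFor Scheme.fpqcPrecoverage a ↔ NonAbH1.IsTorsorFor Scheme.fpqcPrecoverage a' := by
  have ha : a' = a.bc f := AlgGrp.Action.ext' ha'.symm
  subst ha
  constructor
  · intro h
    exact NonAbH1.isTorsorFor_bc f Scheme.fpqcPrecoverage h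
  · rintro ⟨h1, h2⟩
    exact ⟨isPseudoTorsorSch_of_bc f a h1, isLocallyTrivialFor_of_bc f h2⟩


end


/-- Let f : X' → X be a faithfully flat quasi-compact morphism of schemes, J a group scheme affine over
X with an action a on an X-scheme P, and a' the induced action of the base change J' = J ×_X X' on
P' = P ×_X X'. Then P with a is a J-torsor for the fpqc topology if and only if P' with a' is a
J'-torsor for the fpqc topology. (The published statement allows any morphism X' → X that is
covering for the fpqc topology, and an action of a pregroupoid; this row is the case of a faithfully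
flat quasi-compact X' → X and the trivial pregroupoid.) -/
theorem result {X X' : Scheme.{u}} (f : X' ⟶ X)
    [Flat f] [Surjective f] [QuasiCompact f]
    {J P : Over X} [GrpObj J] [IsAffineHom J.hom] (a : AlgGrp.Action J P)
    (a' : AlgGrp.Action (Red.bc f J) (Red.bc f P))
    (ha' : Functor.LaxMonoidal.μ (Over.pullback f) J P ≫ (Over.pullback f).map a.act = a'.act) :
    NonAbH1.IsTorsorFor Scheme.fpqcPrecoverage a ↔ NonAbH1.IsTorsorFor Scheme.fpqcPrecoverage a' := by
  classical
  exact main f a a' ha'

end Groth.Agent.S14547
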