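import Groth.Statements.S14614
import Mathlib
-- import your own Groth.Agent.* helpers here

set_option autoImplicit false
universe u
open Mor

namespace Groth.Agent.S14614

open CategoryTheory AlgebraicGeometry IsLocalRing
namespace Aux

theorem quot_local (R : Type u) [CommRing R] [IsLocalRing R] (n : ℕ) (hn : n ≠ 0) :
    IsLocalRing (R ⧸ maximalIdeal R ^ n) := by
  have hI : maximalIdeal R ^ n ≠ ⊤ := by
    intro h
    have : maximalIdeal R ^ n ≤ maximalIdeal R := Ideal.pow_le_self hn
    rw [h] at this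
    exact (maximalIdeal.isMaximal R).ne_top (top_le_iff.mp this)
  haveI : Nontrivial (R ⧸ maximalIdeal R ^ n) := Ideal.Quotient.nontrivial_iff.mpr hI
  exact IsLocalRing.of_surjective' (Ideal.Quotient.mk _) Ideal.Quotient.mk_surjective

theorem quot_artinian (R : Type u) [CommRing R] [IsLocalRing R] [IsNoetherianRing R] (n : ℕ)
    (hn : n ≠ 0) :
    @IsArtinianRing (R ⧸ maximalIdeal R ^ n) _ := by
  have hI : maximalIdeal R ^ n ≠ ⊤ := by
    intro h
    have : maximalIdeal R ^ n ≤ maximalIdeal R := Ideal.pow_le_self hn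
    rw [h] at this
    exact (maximalIdeal.isMaximal R).ne_top (top_le_iff.mp this)
  haveI := quot_local R n hn
  haveI := IsLocalHom.of_surjective (Ideal.Quotient.mk (maximalIdeal R ^ n))
    Ideal.Quotient.mk_surjective
  rw [isArtinianRing_iff_isNilpotent_maximalIdeal]
  have : (maximalIdeal R).map (Ideal.Quotient.mk (maximalIdeal R ^ n)) =
      maximalIdeal (R ⧸ maximalIdeal R ^ n) := by
    ext x
    obtain ⟨x, rfl⟩ := Ideal.Quotient.mk_surjective x
    simp [sup_eq_left.mpr (le_maximalIdeal hI)]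
  refine ⟨n, ?_⟩
  rw [← this, ← Ideal.map_pow, Ideal.zero_eq_bot, Ideal.map_eq_bot_iff_le_ker, Ideal.mk_ker]



theorem germ_eq_zero_of_eq {Z : Scheme.{u}} {V : Z.Opens} (t : Γ(Z, V)) {z z' : Z} (hzz : z' = z)
    (hz : z ∈ V) (hz' : z' ∈ V) (h0 : Z.presheaf.germ V z hz t = 0) :
    Z.presheaf.germ V z' hz' t = 0 := by
  subst hzz
  exact h0

theorem mem_pow_of_lifting (S : Scheme.{u}) [IsLocallyNoetherian S]
    {Z : Scheme.{u}} (i : Z ⟶ S) [IsClosedImmersion i]
    (h : ∀ (A : Type u) [CommRing A] [IsArtinianRing A] [IsLocalRing A]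
      (g : Spec (CommRingCat.of A) ⟶ S),
      (∃ t : Spec (CommRingCat.of (IsLocalRing.ResidueField A)) ⟶ Z,
          t ≫ i = Spec.map (CommRingCat.ofHom (IsLocalRing.residue A)) ≫ g) →
        ∃ g' : Spec (CommRingCat.of A) ⟶ Z, g' ≫ i = g)
    (z : Z) (a : S.presheaf.stalk (i z)) (ha : (i.stalkMap z).hom a = 0) (n : ℕ) (hn : n ≠ 0) :
    a ∈ maximalIdeal (S.presheaf.stalk (i z)) ^ n := by
  let R := S.presheaf.stalk (i z)
  let m := maximalIdeal R
  let A := (R ⧸ m ^ n)
  haveI : IsLocalRing A := quot_local R n hn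
  haveI : IsArtinianRing A := quot_artinian R n hn
  let q : R →+* A := Ideal.Quotient.mk (m ^ n)
  haveI : IsLocalHom q := IsLocalHom.of_surjective q Ideal.Quotient.mk_surjective
  let g : Spec (CommRingCat.of A) ⟶ S := Spec.map (CommRingCat.ofHom q) ≫ S.fromSpecStalk (i z)
  let φ : R →+* Z.presheaf.stalk z := (i.stalkMap z).hom
  have hφ : Function.Surjective φ := i.stalkMap_surjective z
  let ρ : R →+* ResidueField A := (residue A).comp q
  have hker : RingHom.ker φ ≤ RingHom.ker ρ := by
    intro b hb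
    rw [RingHom.mem_ker] at hb ⊢
    have hbu : ¬ IsUnit b := by
      intro hu
      have := hu.map φ
      rw [hb] at this
      exact not_isUnit_zero this
    have : ¬ IsUnit (q b) := fun hu => hbu (isUnit_of_map_unit q b hu)
    show residue A (q b) = 0
    rwa [residue_eq_zero_iff, mem_maximalIdeal, mem_nonunits_iff]
  let ψ : Z.presheaf.stalk z →+* ResidueField A := RingHom.liftOfSurjective φ hφ ⟨ρ, hker⟩
  have hψ : ψ.comp φ = ρ := RingHom.liftOfSurjective_comp φ hφ ⟨ρ, hker⟩
  let t : Spec (CommRingCat.of (ResidueField A)) ⟶ Z :=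
    Spec.map (CommRingCat.ofHom ψ) ≫ Z.fromSpecStalk z
  have ht : t ≫ i = Spec.map (CommRingCat.ofHom (residue A)) ≫ g := by
    show (Spec.map (CommRingCat.ofHom ψ) ≫ Z.fromSpecStalk z) ≫ i = _
    rw [Category.assoc, ← Scheme.SpecMap_stalkMap_fromSpecStalk, ← Category.assoc,
      ← Spec.map_comp]
    show _ = Spec.map (CommRingCat.ofHom (residue A)) ≫ Spec.map (CommRingCat.ofHom q) ≫ _
    rw [← Category.assoc, ← Spec.map_comp]
    congr 2
    ext x
    exact congrArg (fun f => f x) hψ
  obtain ⟨g', hg'⟩ := h A g ⟨t, ht⟩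
  have hgcp : g (closedPoint A) = i z := by
    show (Spec.map (CommRingCat.ofHom q) ≫ S.fromSpecStalk (i z)) (closedPoint A) = i z
    show S.fromSpecStalk (i z) (Spec.map (CommRingCat.ofHom q) (closedPoint A)) = i z
    rw [Spec_closedPoint, Scheme.fromSpecStalk_closedPoint]
  have hz' : g' (closedPoint A) = z := by
    apply i.isEmbedding.injective
    have : (g' ≫ i) (closedPoint A) = i z := by rw [hg', hgcp]
    exact this
  obtain ⟨U, hU, s, rfl⟩ := S.presheaf.exists_germ_eq a
  have h0 : Z.presheaf.germ (i ⁻¹ᵁ U) z hU (i.app U s) = 0 := by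
    rw [← ha]
    exact (congrArg (fun f => f.hom s) (Scheme.Hom.germ_stalkMap i U z hU)).symm
  have h0' : Z.presheaf.germ (i ⁻¹ᵁ U) (g' (closedPoint A)) (by rw [hz']; exact hU) (i.app U s) = 0 :=
    germ_eq_zero_of_eq _ hz' hU _ h0
  have hUg : g (closedPoint A) ∈ U := by rw [hgcp]; exact hU
  have e1 := Scheme.germ_stalkClosedPointTo_Spec_fromSpecStalk (X := S) (x := i z)
    (CommRingCat.ofHom q) U hUg
  have key : ∀ (g₁ g₂ : Spec (CommRingCat.of A) ⟶ S) (e : g₁ = g₂) (h1 : g₁ (closedPoint A) ∈ U)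
      (h2 : g₂ (closedPoint A) ∈ U),
      S.presheaf.germ U _ h1 ≫ Scheme.stalkClosedPointTo g₁ =
        S.presheaf.germ U _ h2 ≫ Scheme.stalkClosedPointTo g₂ := by
    rintro g₁ _ rfl _ _
    rfl
  have hUg' : (g' ≫ i) (closedPoint A) ∈ U := by rw [hg']; exact hUg
  have e2 := key (g' ≫ i) g hg' hUg' hUg
  rw [Scheme.stalkClosedPointTo_comp] at e2
  have e3 : S.presheaf.germ U (i z) hU ≫ CommRingCat.ofHom q =
      (i.app U ≫ Z.presheaf.germ (i ⁻¹ᵁ U) (g' (closedPoint A)) (by rw [hz']; exact hU)) ≫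
        Scheme.stalkClosedPointTo g' := by
    refine e1.symm.trans (e2.symm.trans ?_)
    rw [Category.assoc]
    exact Scheme.Hom.germ_stalkMap_assoc i U (g' (closedPoint A)) _ _
  have e4 : q (S.presheaf.germ U (i z) hU s) = (Scheme.stalkClosedPointTo g').hom
      (Z.presheaf.germ (i ⁻¹ᵁ U) (g' (closedPoint A)) (by rw [hz']; exact hU) (i.app U s)) :=
    congrArg (fun f => f.hom s) e3
  rw [← Ideal.Quotient.eq_zero_iff_mem]
  show q _ = 0
  rw [e4, h0']
  exact map_zero _

theorem main (S : Scheme.{u}) [IsLocallyNoetherian S]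
    {Z : Scheme.{u}} (i : Z ⟶ S) [IsClosedImmersion i]
    (h : ∀ (A : Type u) [CommRing A] [IsArtinianRing A] [IsLocalRing A]
      (g : Spec (CommRingCat.of A) ⟶ S),
      (∃ t : Spec (CommRingCat.of (IsLocalRing.ResidueField A)) ⟶ Z,
          t ≫ i = Spec.map (CommRingCat.ofHom (IsLocalRing.residue A)) ≫ g) →
        ∃ g' : Spec (CommRingCat.of A) ⟶ Z, g' ≫ i = g) :
    IsOpenImmersion i := by
  haveI : LocallyOfFinitePresentation i :=
    LocallyOfFinitePresentation.iff_locallyOfFiniteType.mpr inferInstance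
  haveI : Flat i := by
    rw [Flat.iff_flat_stalkMap]
    intro z
    apply RingHom.Flat.of_bijective
    refine ⟨?_, i.stalkMap_surjective z⟩
    rw [injective_iff_map_eq_zero]
    intro a ha
    haveI : IsNoetherianRing (S.presheaf.stalk (i z)) := inferInstance
    have hbot := Ideal.iInf_pow_eq_bot_of_isLocalRing (maximalIdeal (S.presheaf.stalk (i z)))
      (maximalIdeal.isMaximal _).ne_top
    have : a ∈ ⨅ n : ℕ, maximalIdeal (S.presheaf.stalk (i z)) ^ n := by
      rw [Ideal.mem_iInf]
      intro n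
      by_cases hn : n = 0
      · subst hn
        simp
      · exact mem_pow_of_lifting S i h z a ha n hn
    rw [hbot] at this
    exact this
  exact IsOpenImmersion.of_flat_of_mono i

end Aux

open CategoryTheory AlgebraicGeometry in
/-- Let S be a locally Noetherian scheme and i : Z → S a closed immersion with the following property:
for every Artinian local ring A with residue field k and every morphism g : Spec A → S, if the
restriction Spec k → Spec A → S of g factors through i then so does g. Then i is also an open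
immersion, i.e. the closed subscheme Z is open in S as a subscheme. (The published hypothesis is an
equivalence; its other direction always holds, so this row assumes only the implication.) -/
theorem result (S : Scheme.{u}) [IsLocallyNoetherian S]
    {Z : Scheme.{u}} (i : Z ⟶ S) [IsClosedImmersion i]
    (h : ∀ (A : Type u) [CommRing A] [IsArtinianRing A] [IsLocalRing A] (g : Spec (CommRingCat.of A) ⟶ S),
      (∃ t : Spec (CommRingCat.of (IsLocalRing.ResidueField A)) ⟶ Z,
          t ≫ i = Spec.map (CommRingCat.ofHom (IsLocalRing.residue A)) ≫ g) →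
        ∃ g' : Spec (CommRingCat.of A) ⟶ Z, g' ≫ i = g) :
    IsOpenImmersion i := by
  exact Aux.main S i h

end Groth.Agent.S14614
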