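import Groth.Statements.S14622
import Mathlib
import Groth.Agent.Lib.Helper5.Misc.EtSurjPull

set_option autoImplicit false
open CategoryTheory AlgebraicGeometry
universe u
open EtBase

open Groth.Agent.Lib.Helper5

namespace Groth.Agent.S14622

/-- Let g : Y' → Y be a morphism of schemes which is surjective on points. Then for every abelian sheaf
F on the small étale site of Y the unit F → g_* g⁻¹ F of the adjunction between inverse image and
direct image is a monomorphism. -/
theorem result {Y Y' : Scheme.{u}} (g : Y' ⟶ Y) [Surjective g]
    (F : EtCoh.Ab Y) : Mono ((EtCoh.pullPushAdj g).unit.app F) := by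
  haveI : (EtCoh.pull g).Faithful := EtSurjPull.faithful_pull g
  exact (EtCoh.pullPushAdj g).unit_mono_of_L_faithful F

end Groth.Agent.S14622
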