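import Groth.Statements.S14625
import Mathlib
import Groth.Prelude.Def_EtGm
import Groth.Agent.S13507
-- import your own Groth.Agent.* helpers here

set_option autoImplicit false
open CategoryTheory AlgebraicGeometry
universe u
open EtBase

namespace Groth.Agent.S14625

open CategoryTheory AlgebraicGeometry
open CategoryTheory AlgebraicGeometry
namespace Aux
set_option linter.style.haveILetI false
open Polynomial

/-- a strictly henselian local ring in which `n` is invertible contains a root of the `n`-th
cyclotomic polynomial -/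
theorem exists_cyclotomic_root (A : Type u) [CommRing A] [HenselianLocalRing A]
    [IsSepClosed (IsLocalRing.ResidueField A)] (n : ℕ) (hn : 1 ≤ n) (hu : IsUnit (n : A)) :
    ∃ ζ : A, aeval ζ (cyclotomic n ℤ) = 0 := by
  let k := IsLocalRing.ResidueField A
  let res : A →+* k := IsLocalRing.residue A
  have hnk : (n : k) ≠ 0 := by
    have h1 : IsUnit (res (n : A)) := hu.map res
    rw [map_natCast] at h1
    exact h1.ne_zero
  haveI : NeZero (n : k) := ⟨hnk⟩
  have hsep : (cyclotomic n k).Separable := separable_cyclotomic n k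
  have hdeg : (cyclotomic n k).degree ≠ 0 := by
    rw [degree_cyclotomic]
    have : 0 < Nat.totient n := Nat.totient_pos.2 (by omega)
    exact_mod_cast this.ne'
  obtain ⟨a₀, ha₀⟩ := IsSepClosed.exists_root (cyclotomic n k) hdeg hsep
  obtain ⟨a₁, rfl⟩ := IsLocalRing.residue_surjective a₀
  have hmap : (cyclotomic n A).map res = cyclotomic n k := map_cyclotomic n res
  have h1 : (cyclotomic n A).eval a₁ ∈ IsLocalRing.maximalIdeal A := by
    rw [← IsLocalRing.residue_eq_zero_iff]
    have : res ((cyclotomic n A).eval a₁) = ((cyclotomic n A).map res).eval (res a₁) := by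
      rw [Polynomial.eval_map, eval₂_hom]
    rw [show IsLocalRing.residue A ((cyclotomic n A).eval a₁) = res ((cyclotomic n A).eval a₁)
      from rfl, this, hmap]
    exact ha₀
  have h2 : IsUnit ((cyclotomic n A).derivative.eval a₁) := by
    rw [← IsLocalRing.notMem_maximalIdeal, ← IsLocalRing.residue_eq_zero_iff]
    have : res ((cyclotomic n A).derivative.eval a₁) =
        ((cyclotomic n k).derivative).eval (res a₁) := by
      rw [← hmap, derivative_map, Polynomial.eval_map, eval₂_hom]
    rw [show IsLocalRing.residue A ((cyclotomic n A).derivative.eval a₁) =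
      res ((cyclotomic n A).derivative.eval a₁) from rfl, this]
    have h3 := Polynomial.Separable.eval₂_derivative_ne_zero (RingHom.id k) hsep
      (x := res a₁) (by rw [eval₂_id]; exact ha₀)
    rwa [eval₂_id] at h3
  obtain ⟨a, ha, -⟩ := HenselianLocalRing.is_henselian (cyclotomic n A) (cyclotomic.monic n A)
    a₁ h1 h2
  refine ⟨a, ?_⟩
  rw [aeval_def, eval₂_eq_eval_map, map_cyclotomic]
  exact ha

theorem main (A : Type u) [CommRing A]
    (hA : EtCoh.IsStrictlyHenselianLocalRing A) (n : ℕ) (hn : 1 ≤ n) (hu : IsUnit (n : A))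
    (X : Scheme.{u}) (f : X ⟶ Spec (CommRingCat.of A)) :
    Nonempty (EtCoh.mu X n ≅ EtCoh.const X (ZMod n)) := by
  obtain ⟨hH, hS⟩ := hA
  obtain ⟨ζ, hζ⟩ := exists_cyclotomic_root A n hn hu
  let φ : A →+* Γ(X, ⊤) :=
    (f.appTop.hom).comp (Scheme.ΓSpecIso (CommRingCat.of A)).inv.hom
  have h1 : IsUnit ((n : ℕ) : Γ(X, ⊤)) := by
    have := hu.map φ
    rwa [map_natCast] at this
  have h2 : Polynomial.aeval (φ ζ) (Polynomial.cyclotomic n ℤ) = 0 := by
    have h3 := congrArg φ hζ
    rw [map_zero, aeval_def, Polynomial.hom_eval₂] at h3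
    rw [aeval_def]
    have h4 : φ.comp (algebraMap ℤ A) = algebraMap ℤ Γ(X, ⊤) := Subsingleton.elim _ _
    rw [h4] at h3
    exact h3
  exact Groth.Agent.S13507.result X n hn h1 (φ ζ) h2

end Aux

/-- Let A be a strictly henselian local ring, n ≥ 1 an integer invertible in A, and X a scheme over Spec
A. Then the étale sheaf μ_n of n-th roots of unity on X is isomorphic to the constant sheaf with
value ℤ/n. Only the existence of an isomorphism is asserted; it depends on the choice of a primitive
n-th root of unity in A. -/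
theorem result (A : Type u) [CommRing A]
    (hA : EtCoh.IsStrictlyHenselianLocalRing A) (n : ℕ) (hn : 1 ≤ n) (hu : IsUnit (n : A))
    (X : Scheme.{u}) (f : X ⟶ Spec (CommRingCat.of A)) :
    Nonempty (EtCoh.mu X n ≅ EtCoh.const X (ZMod n)) := by
  exact Aux.main A hA n hn hu X f

end Groth.Agent.S14625
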