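import Groth.Statements.S14626
import Mathlib
import Groth.Agent.Lib.Lead.CechCompG1

set_option autoImplicit false
open CategoryTheory CategoryTheory.Limits AlgebraicGeometry
universe u
open EtBase

namespace Groth.Agent.S14626

/-- For the direct image along a morphism of schemes on small étale sites; take a morphism of schemes f
: X → Y and an abelian étale sheaf F on X which is flasque in the Čech sense, i.e. for every étale U
over X and every jointly surjective family of étale U-schemes the Čech cohomology groups of F in
positive degrees vanish. Then the direct image f_*F is flasque in the same sense on Y. The finite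
products of the over categories (the fibre products entering the Čech complexes) are carried as
instance hypotheses. -/
theorem result {X Y : Scheme.{u}} (f : X ⟶ Y)
    [∀ U : X.Etale, HasFiniteProducts (Over U)] [∀ V : Y.Etale, HasFiniteProducts (Over V)]
    (F : EtCoh.Ab X)
    (hF : ∀ (U : X.Etale) (ι : Type (u + 1)) (Uf : ι → Over U),
      (∀ x : ↥(U.left), ∃ (i : ι) (y : ↥((Uf i).left.left)), (Uf i).hom.left.base y = x) →
      ∀ p : ℕ, 0 < p → IsZero (EtCech.cechH Uf F.obj p))
    (V : Y.Etale) (ι : Type (u + 1)) (Vf : ι → Over V)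
    (hV : ∀ x : ↥(V.left), ∃ (i : ι) (y : ↥((Vf i).left.left)), (Vf i).hom.left.base y = x)
    (p : ℕ) (hp : 0 < p) :
    IsZero (EtCech.cechH Vf ((EtCoh.push f).obj F).obj p) := by
  classical
  haveI : PreservesFiniteProducts (Over.post (X := V) (EtCoh.bc f)) := inferInstance
  have e := Groth.Agent.Lead.CechCompG.cechHIso (EtCoh.bc f) Vf F.obj p
  refine IsZero.of_iso (hF ((EtCoh.bc f).obj V) ι
    (fun i => (Over.post (EtCoh.bc f)).obj (Vf i)) ?_ p hp) e
  intro x
  obtain ⟨i, y, hy⟩ := hV ((pullback.fst V.hom f : ((EtCoh.bc f).obj V).left ⟶ V.left) x)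
  have sq := EtCoh.isPullback_bc_map f (Vf i).hom
  obtain ⟨z, hz1, -⟩ := Scheme.Pullback.exists_preimage_pullback
    (f := (pullback.fst V.hom f : ((EtCoh.bc f).obj V).left ⟶ V.left))
    (g := (Vf i).hom.left) x y hy.symm
  refine ⟨i, sq.isoPullback.inv z, ?_⟩
  have h2 : sq.isoPullback.inv ≫ ((EtCoh.bc f).map (Vf i).hom).left = pullback.fst _ _ :=
    sq.isoPullback_inv_fst
  have h3 : (sq.isoPullback.inv ≫ ((EtCoh.bc f).map (Vf i).hom).left) z =
      (pullback.fst (pullback.fst V.hom f) (Vf i).hom.left) z := congrArg (fun φ => φ z) h2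
  exact Eq.trans h3 hz1

end Groth.Agent.S14626
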