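import Groth.Statements.S14628
import Mathlib
import Groth.Prelude.Def_EtBase
import Groth.Prelude.Def_EtCech
import Groth.Agent.Lib.Helper9.FE.EtQcClass
import Groth.Agent.Lib.Helper9.FE.CechCartanG
-- import your own Groth.Agent.* helpers here

set_option autoImplicit false
open CategoryTheory CategoryTheory.Limits AlgebraicGeometry
universe u
open EtBase

namespace Groth.Agent.S14628

open CategoryTheory CategoryTheory.Limits AlgebraicGeometry
namespace Aux
set_option linter.unusedSectionVars false
set_option linter.style.haveILetI false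
set_option backward.isDefEq.respectTransparency false

open Opposite H9FE.CechCartanG H9FE.EtQcClass Groth.Agent.Lib.Helper5
  Groth.Agent.Helper3.CechDeltaG

/-- Čech-flasque: vanishing positive Čech cohomology for all jointly surjective families -/
def Flq {X : Scheme.{u}} [∀ U : X.Etale, HasFiniteProducts (Over U)] (F : EtCoh.Ab X) : Prop :=
  ∀ (U : X.Etale) (ι : Type (u + 1)) (Uf : ι → Over U),
    (∀ x : ↥(U.left), ∃ (i : ι) (y : ↥((Uf i).left.left)), (Uf i).hom.left.base y = x) →
    ∀ p : ℕ, 0 < p → IsZero (EtCech.cechH Uf F.obj p)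

theorem surj {X : Scheme.{u}} [∀ U : X.Etale, HasFiniteProducts (Over U)]
    (S : ShortComplex (EtCoh.Ab X)) (hS : S.ShortExact) (h1 : Flq S.X₁) (W : X.Etale) :
    Function.Surjective (S.g.hom.app (op W)).hom := by
  intro s
  have hT := imageSieve_mem hS s
  rw [EtSiteBasic.mem_smallEtale_iff] at hT
  choose V g y hg hy using hT
  let Y : ULift.{u + 1} W.left → Over W := fun x => Over.mk (g x.down)
  have hsurj : ∀ x : ↥(W.left), ∃ (i : ULift.{u + 1} W.left) (y : ↥((Y i).left.left)),
      (Y i).hom.left.base y = x := fun x => ⟨⟨x⟩, y x, hy x⟩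
  have hY : Sieve.ofArrows (fun i => (Y i).left) (fun i => (Y i).hom) ∈
      X.smallEtaleTopology W :=
    ofArrows_mem (fun i => (Y i).left) (fun i => (Y i).hom) (fun v => ⟨⟨v⟩, y v, hy v⟩)
  exact exists_lift Y hS hY (h1 W _ Y hsurj 1 Nat.one_pos) s (fun i => hg i.down)

theorem main {X : Scheme.{u}}
    [∀ U : X.Etale, HasFiniteProducts (Over U)] (S : ShortComplex (EtCoh.Ab X)) (hS : S.ShortExact)
    (h1 : Flq S.X₁) (h2 : Flq S.X₂)
    (U : X.Etale) (ι : Type (u + 1)) (Uf : ι → Over U)
    (hU : ∀ x : ↥(U.left), ∃ (i : ι) (y : ↥((Uf i).left.left)), (Uf i).hom.left.base y = x)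
    (p : ℕ) (hp : 0 < p) :
    IsZero (EtCech.cechH Uf S.X₃.obj p) := by
  obtain ⟨q, rfl⟩ : ∃ q, p = q + 1 := ⟨p - 1, by omega⟩
  exact isZero_cechH_quotient Uf S.f.hom S.g.hom
    (fun V x => zero_apply V x)
    (fun n a => injective_f hS _)
    (fun n a y hy => exact_sections hS _ y hy)
    (fun n a => surj S hS h1 _) (q + 1)
    (h2 U ι Uf hU (q + 1) (Nat.succ_pos q))
    (h1 U ι Uf hU (q + 2) (Nat.succ_pos _))

end Aux

/-- On the small étale site of a scheme, let 0 → F' → F → F'' → 0 be a short exact sequence of abelian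
étale sheaves on a scheme X. If F' and F are flasque in the Čech sense (for every étale U over X and
every jointly surjective family of étale U-schemes, Čech cohomology in positive degrees vanishes),
then so is F''. The finite products of the over categories (the fibre products entering the Čech
complexes) are carried as instance hypotheses. -/
theorem result {X : Scheme.{u}}
    [∀ U : X.Etale, HasFiniteProducts (Over U)] (S : ShortComplex (EtCoh.Ab X)) (hS : S.ShortExact)
    (h1 : (∀ (U : X.Etale) (ι : Type (u + 1)) (Uf : ι → Over U),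
      (∀ x : ↥(U.left), ∃ (i : ι) (y : ↥((Uf i).left.left)), (Uf i).hom.left.base y = x) →
      ∀ p : ℕ, 0 < p → IsZero (EtCech.cechH Uf S.X₁.obj p)))
    (h2 : (∀ (U : X.Etale) (ι : Type (u + 1)) (Uf : ι → Over U),
      (∀ x : ↥(U.left), ∃ (i : ι) (y : ↥((Uf i).left.left)), (Uf i).hom.left.base y = x) →
      ∀ p : ℕ, 0 < p → IsZero (EtCech.cechH Uf S.X₂.obj p)))
    (U : X.Etale) (ι : Type (u + 1)) (Uf : ι → Over U)
    (hU : ∀ x : ↥(U.left), ∃ (i : ι) (y : ↥((Uf i).left.left)), (Uf i).hom.left.base y = x)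
    (p : ℕ) (hp : 0 < p) :
    IsZero (EtCech.cechH Uf S.X₃.obj p) := by
  exact Aux.main S hS h1 h2 U ι Uf hU p hp

end Groth.Agent.S14628
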