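import Groth.Statements.S14629
import Groth.Agent.Lib.Helper3.SqZeroPic
import Groth.Agent.Lib.Helper4.LinBridge1
import Groth.Agent.Lib.Helper1.RpushLoc1
import Groth.Agent.Lib.Helper1.QcPullGen
import Groth.Agent.Lib.Helper1.IdealModL

set_option autoImplicit false
open CategoryTheory CategoryTheory.Limits AlgebraicGeometry
universe u
open PicF

namespace Groth.Agent.S14629

/-- Let X be a scheme and I a quasi-coherent ideal sheaf of square zero defining the closed subscheme i
: X₀ → X, and suppose H¹(X, I) = 0 for the ideal regarded as an O_X-module (Zariski cohomology).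
Then two invertible O_X-modules with isomorphic pullbacks to X₀ are isomorphic: restriction of
Picard groups along i is injective. (The published statement allows a nilpotent ideal with the same
hypothesis on I alone; its proof treats the square-zero case, which is what is stated.) -/
theorem result (X : Scheme.{u}) (I : X.IdealSheafData)
    (hI : I * I = ⊥) (h1 : Subsingleton (Coh.HH X (ClSub.idealMod I) 1))
    (c d : PicF.Cl X) (hc : PicF.IsInvertibleCl c) (hd : PicF.IsInvertibleCl d)
    (h : PicF.pullCl I.subschemeι c = PicF.pullCl I.subschemeι d) : c = d := by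
  have iso_of_eqvGen : ∀ {Y : Scheme.{u}} {M N : Y.Modules},
      Relation.EqvGen (fun L L' : Y.Modules => Nonempty (L ≅ L')) M N → Nonempty (M ≅ N) := by
    intro Y M N hMN
    induction hMN with
    | rel _ _ h => exact h
    | refl _ => exact ⟨Iso.refl _⟩
    | symm _ _ _ ih => exact ⟨ih.some.symm⟩
    | trans _ _ _ _ _ ih1 ih2 => exact ⟨ih1.some ≪≫ ih2.some⟩
  obtain ⟨L, rfl, hL⟩ := hc
  obtain ⟨L', rfl, hL'⟩ := hd
  have hI2 : I ^ 2 = ⊥ := by rw [pow_two]; exact hI
  have hpull : PicF.cl ((Scheme.Modules.pullback I.subschemeι).obj L) =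
      PicF.cl ((Scheme.Modules.pullback I.subschemeι).obj L') := h
  obtain ⟨e⟩ := iso_of_eqvGen (Quot.eqvGen_exact hpull)
  have : IsIso ((Groth.Agent.Helper3.SqZero.adjf I).unit.app (ClSub.idealMod I)) :=
    Groth.Agent.Helper3.SqZero.isIso_unit_idealMod I hI2
  have h1' := Groth.Agent.Helper1.RpushLoc.subsingleton_HH_of_iso
    (asIso ((Groth.Agent.Helper3.SqZero.adjf I).unit.app (ClSub.idealMod I))) 1 h1
  haveI : (ClSub.idealMod I).IsQuasicoherent :=
    Groth.Agent.Helper1.IdealModL.isQuasicoherent_idealMod I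
  haveI : ((Scheme.Modules.pullback I.subschemeι).obj (ClSub.idealMod I)).IsQuasicoherent :=
    Groth.Agent.Helper1.QcPullGen.isQuasicoherent_pullback _ _
  have hbij : Function.Bijective (Groth.Agent.Lib.Helper4.LinBridge1.lerayAdd I.subschemeι
      ((Scheme.Modules.pullback I.subschemeι).obj (ClSub.idealMod I)) 1) :=
    Groth.Agent.Lib.Helper4.LinBridge1.lerayMap_bijective I.subschemeι.base
      (Coh.toAb ((Scheme.Modules.pullback I.subschemeι).obj (ClSub.idealMod I)))
      (fun q => Groth.Agent.Helper1.RpushZero.rpushAb_isZero I.subschemeι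
        ((Scheme.Modules.pullback I.subschemeι).obj (ClSub.idealMod I)) q) 1
  have h1'' : Subsingleton (Coh.HH I.subscheme
      ((Scheme.Modules.pullback I.subschemeι).obj (ClSub.idealMod I)) 1) := by
    refine ⟨fun a b => ?_⟩
    obtain ⟨a', rfl⟩ := hbij.2 a
    obtain ⟨b', rfl⟩ := hbij.2 b
    have hab : a' = b' := @Subsingleton.elim _ h1' a' b'
    rw [hab]
  obtain ⟨φ⟩ := Groth.Agent.Helper3.SqZero.nonempty_iso_invertible I hI2 h1'' L L' hL hL' e
  exact Quot.sound ⟨φ⟩

end Groth.Agent.S14629
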