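import Groth.Statements.S14631
import Mathlib
import Groth.Agent.Lib.Helper5.Misc.EtSiteBasic

set_option autoImplicit false
open CategoryTheory AlgebraicGeometry
universe u
open EtBase

open Groth.Agent.Lib.Helper5
open CategoryTheory.Limits

namespace Groth.Agent.S14631

/-- Let X be a quasi-separated scheme and U an étale X-scheme. Then there is a jointly surjective family
of étale U-schemes each of which is quasi-compact and quasi-separated, hence of finite presentation,
over X. (Sheaves on the small étale site are therefore determined by their values on étale X-schemes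
of finite presentation; that equivalence is not stated here.) -/
theorem result (X : Scheme.{u})
    [QuasiSeparatedSpace ↥X] (U : X.Etale) :
    ∃ (ι : Type u) (V : ι → Over U), (∀ i, QuasiCompact (V i).left.hom ∧ QuasiSeparated (V i).left.hom) ∧
      ∀ x : ↥(U.left), ∃ (i : ι) (y : ↥((V i).left.left)), (V i).hom.left.base y = x := by
  haveI : Etale U.hom := U.prop
  let W : U.left.affineOpens → X.Etale := fun i => EtSiteBasic.ofEtale (i.1.ι ≫ U.hom)
  let w : ∀ i : U.left.affineOpens, W i ⟶ U := fun i =>
    MorphismProperty.Over.homMk i.1.ι rfl trivial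
  refine ⟨U.left.affineOpens, fun i => Over.mk (w i), fun i => ?_, fun x => ?_⟩
  · change QuasiCompact (i.1.ι ≫ U.hom) ∧ QuasiSeparated (i.1.ι ≫ U.hom)
    haveI : IsAffine (i.1 : U.left.Opens).toScheme := i.2
    haveI : QuasiSeparated (terminal.from X) :=
      (quasiSeparated_iff_quasiSeparatedSpace _).2 ‹_›
    constructor
    · haveI : QuasiCompact ((i.1.ι ≫ U.hom) ≫ terminal.from X) := inferInstance
      exact QuasiCompact.of_comp (i.1.ι ≫ U.hom) (terminal.from X)
    · haveI : QuasiSeparated ((i.1.ι ≫ U.hom) ≫ terminal.from X) := inferInstance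
      exact QuasiSeparated.of_comp (i.1.ι ≫ U.hom) (terminal.from X)
  · obtain ⟨_, ⟨V, hV, rfl⟩, hx, -⟩ := U.left.isBasis_affineOpens.exists_subset_of_mem_open
      (Set.mem_univ x) isOpen_univ
    exact ⟨⟨V, hV⟩, ⟨x, hx⟩, rfl⟩

end Groth.Agent.S14631
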