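import Groth.Statements.S14639
import Mathlib
-- import your own Groth.Agent.* helpers here

set_option autoImplicit false
universe u
open Polynomial
open AlgGrp

namespace Groth.Agent.S14639

namespace Aux

open Polynomial

variable (k : Type u) [Field k] (N : ℕ)

noncomputable abbrev R := AdjoinRoot ((X : k[X]) ^ (N + 1))
noncomputable abbrev uu : R k N := AdjoinRoot.root ((X : k[X]) ^ (N + 1))
noncomputable abbrev II (i : ℕ) : Ideal (R k N) := Ideal.span {uu k N ^ i}

lemma u_pow : uu k N ^ (N + 1) = 0 := by
  have := AdjoinRoot.mk_self (f := (X : k[X]) ^ (N + 1))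
  rwa [map_pow, AdjoinRoot.mk_X] at this

lemma u_nil : IsNilpotent (uu k N) := ⟨N + 1, u_pow k N⟩

lemma II_anti {i j : ℕ} (h : i ≤ j) : II k N j ≤ II k N i := by
  rw [Ideal.span_singleton_le_iff_mem, Ideal.mem_span_singleton]
  exact pow_dvd_pow _ h

lemma II_top : II k N (N + 1) = ⊥ := by
  rw [II, u_pow, Ideal.span_singleton_eq_bot]

lemma II_mul_mem {i j : ℕ} {a b : R k N} (ha : a ∈ II k N i) (hb : b ∈ II k N j) :
    a * b ∈ II k N (i + j) := by
  rw [Ideal.mem_span_singleton] at ha hb ⊢
  rw [pow_add (uu k N) i j]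
  exact mul_dvd_mul ha hb

lemma upow_mem (i : ℕ) : uu k N ^ i ∈ II k N i := Ideal.mem_span_singleton_self _

/-- every element is constant plus multiple of u -/
lemma decomp0 (g : R k N) : ∃ (c : k) (g' : R k N), g = algebraMap k _ c + uu k N * g' := by
  obtain ⟨p, rfl⟩ := AdjoinRoot.mk_surjective g
  refine ⟨p.coeff 0, AdjoinRoot.mk _ p.divX, ?_⟩
  conv_lhs => rw [← Polynomial.divX_mul_X_add p]
  rw [map_add, map_mul, AdjoinRoot.mk_X, AdjoinRoot.mk_C, AdjoinRoot.algebraMap_eq]
  ring

lemma decomp {i : ℕ} {f : R k N} (hf : f ∈ II k N i) :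
    ∃ c : k, f - algebraMap k _ c * uu k N ^ i ∈ II k N (i + 1) := by
  rw [Ideal.mem_span_singleton] at hf
  obtain ⟨g, rfl⟩ := hf
  obtain ⟨c, g', rfl⟩ := decomp0 k N g
  refine ⟨c, ?_⟩
  rw [Ideal.mem_span_singleton]
  exact ⟨g', by ring⟩

/-- the inverse of 1 + u -/
noncomputable def ww : R k N := ↑((u_nil k N).isUnit_one_add.unit⁻¹)

lemma ww_mul : ww k N * (1 + uu k N) = 1 := by
  have := (u_nil k N).isUnit_one_add.unit.inv_mul
  simpa [ww] using this

lemma ww_eq : ww k N = 1 - uu k N * ww k N := by
  have := ww_mul k N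
  linear_combination this

noncomputable def vv : R k N := uu k N * ww k N

lemma vv_pow : vv k N ^ (N + 1) = 0 := by
  rw [vv, mul_pow, u_pow, zero_mul]

noncomputable def sig : R k N →ₐ[k] R k N :=
  AdjoinRoot.liftAlgHom _ (Algebra.ofId k (R k N)) (vv k N) (by
    rw [eval₂_pow, eval₂_X, vv_pow])

lemma sig_u : sig k N (uu k N) = vv k N := AdjoinRoot.liftAlgHom_root _ _ _ _

lemma sig_spec : sig k N (uu k N) * (1 + algebraMap k (R k N) 1 * uu k N) = uu k N := by
  rw [sig_u, map_one, one_mul, vv, mul_assoc, ww_mul, mul_one]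

lemma ww_sub_one_mem : ww k N - 1 ∈ II k N 1 := by
  rw [Ideal.mem_span_singleton, pow_one]
  exact ⟨-ww k N, by linear_combination ww_mul k N⟩

lemma ww_pow_sub_one_mem (i : ℕ) : ww k N ^ i - 1 ∈ II k N 1 := by
  induction i with
  | zero => simp
  | succ i ih =>
    have : ww k N ^ (i + 1) - 1 = ww k N * (ww k N ^ i - 1) + (ww k N - 1) := by ring
    rw [this]
    exact (II k N 1).add_mem ((II k N 1).mul_mem_left _ ih) (ww_sub_one_mem k N)

lemma ww_pow_lin (i : ℕ) : ww k N ^ i - 1 + (i : R k N) * uu k N ∈ II k N 2 := by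
  have hu2 : ∀ a : R k N, uu k N ^ 2 * a ∈ II k N 2 := fun a =>
    (II k N 2).mul_mem_right _ (upow_mem k N 2)
  induction i with
  | zero => simp
  | succ i ih =>
    have e : ww k N ^ (i + 1) - 1 + ((i + 1 : ℕ) : R k N) * uu k N =
        ww k N * (ww k N ^ i - 1 + (i : R k N) * uu k N)
          + uu k N ^ 2 * (ww k N + (i : R k N) * ww k N) := by
      push_cast
      linear_combination (1 - ((i : R k N) + 1) * uu k N) * ww_mul k N
    rw [e]
    exact (II k N 2).add_mem ((II k N 2).mul_mem_left _ ih) (hu2 _)

/-- coarse: σ - 1 raises order -/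
lemma sig_sub_mem_aux : ∀ (j i : ℕ), i + j = N + 1 → ∀ f ∈ II k N i,
    sig k N f - f ∈ II k N (i + 1) := by
  intro j
  induction j with
  | zero =>
    intro i hi f hf
    have : i = N + 1 := by omega
    subst this
    rw [II_top, Ideal.mem_bot] at hf
    subst hf
    simp
  | succ j ih =>
    intro i hi f hf
    obtain ⟨c, hc⟩ := decomp k N hf
    have h1 := ih (i + 1) (by omega) _ hc
    have h2 : sig k N f - f = (sig k N (f - algebraMap k _ c * uu k N ^ i)
        - (f - algebraMap k _ c * uu k N ^ i))
        + algebraMap k _ c * (uu k N ^ i * (ww k N ^ i - 1)) := by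
      rw [map_sub (sig k N), map_mul (sig k N), map_pow (sig k N), sig_u, AlgHom.commutes, vv, mul_pow]
      ring
    rw [h2]
    refine (II k N (i + 1)).add_mem (II_anti k N (by omega) h1) ((II k N (i + 1)).mul_mem_left _ ?_)
    exact II_mul_mem k N (upow_mem k N i) (ww_pow_sub_one_mem k N i)

lemma sig_sub_mem {i : ℕ} {f : R k N} (hf : f ∈ II k N i) : sig k N f - f ∈ II k N (i + 1) := by
  by_cases h : i ≤ N + 1
  · exact sig_sub_mem_aux k N (N + 1 - i) i (by omega) f hf
  · have : f = 0 := by
      have := II_anti k N (show N + 1 ≤ i by omega) hf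
      rwa [II_top, Ideal.mem_bot] at this
    subst this
    simp

/-- precise: leading coefficient -/
lemma sig_sub_lead {i : ℕ} {f : R k N} {c : k}
    (hf : f - algebraMap k _ c * uu k N ^ i ∈ II k N (i + 1)) :
    (sig k N f - f) - algebraMap k _ (-(i : k) * c) * uu k N ^ (i + 1) ∈ II k N (i + 2) := by
  have h1 := sig_sub_mem k N hf
  have h2 : (sig k N f - f) - algebraMap k _ (-(i : k) * c) * uu k N ^ (i + 1) =
      (sig k N (f - algebraMap k _ c * uu k N ^ i) - (f - algebraMap k _ c * uu k N ^ i))
        + algebraMap k _ c * (uu k N ^ i * (ww k N ^ i - 1 + (i : R k N) * uu k N)) := by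
    rw [map_sub (sig k N), map_mul (sig k N), map_pow (sig k N), sig_u, AlgHom.commutes, vv, mul_pow,
      map_mul (algebraMap k (R k N)), map_neg, map_natCast]
    ring
  rw [h2]
  refine (II k N (i + 2)).add_mem h1 ((II k N (i + 2)).mul_mem_left _ ?_)
  exact II_mul_mem k N (upow_mem k N i) (ww_pow_lin k N i)


def ExactOrd (f : R k N) (i : ℕ) : Prop :=
  ∃ c : k, c ≠ 0 ∧ f - algebraMap k _ c * uu k N ^ i ∈ II k N (i + 1)

theorem main [CharZero k] (A : Subalgebra k (R k N))
    (hA : ∀ (a : k) (σ : R k N →ₐ[k] R k N),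
      σ (uu k N) * (1 + algebraMap k (R k N) a * uu k N) = uu k N → A.map σ ≤ A) :
    ∃ n : ℕ, 1 ≤ n ∧ n ≤ N + 1 ∧
      Subalgebra.toSubmodule A =
        Submodule.span k {1} ⊔ (Ideal.span {uu k N ^ n}).restrictScalars k := by
  classical
  have hsig : ∀ f ∈ A, sig k N f ∈ A := fun f hf =>
    hA 1 (sig k N) (sig_spec k N) (Subalgebra.mem_map.mpr ⟨f, hf, rfl⟩)
  let P : ℕ → Prop := fun i =>
    Subalgebra.toSubmodule A ≤ Submodule.span k {1} ⊔ (II k N i).restrictScalars k
  have hP1 : P 1 := by
    intro f _
    obtain ⟨c, g', rfl⟩ := decomp0 k N f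
    refine Submodule.add_mem_sup ?_ ?_
    · rw [Submodule.mem_span_singleton]
      exact ⟨c, by rw [Algebra.smul_def, mul_one]⟩
    · show uu k N * g' ∈ II k N 1
      rw [Ideal.mem_span_singleton, pow_one]
      exact ⟨g', rfl⟩
  set n := Nat.findGreatest P (N + 1) with hn
  have hPn : P n := Nat.findGreatest_spec (m := 1) (by omega) hP1
  have h1n : 1 ≤ n := Nat.le_findGreatest (by omega) hP1
  have hnN : n ≤ N + 1 := Nat.findGreatest_le _
  refine ⟨n, h1n, hnN, ?_⟩
  have hIn : ∀ x ∈ II k N n, x ∈ A := by
    rcases Nat.lt_or_ge N n with hlt | hle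
    · have : n = N + 1 := by omega
      intro x hx
      rw [this, II_top, Ideal.mem_bot] at hx
      subst hx
      exact A.zero_mem
    · have hnP : ¬ P (n + 1) := Nat.findGreatest_is_greatest (P := P) (n := N + 1) (by omega) (by omega)
      simp only [P, SetLike.le_def, not_forall] at hnP
      obtain ⟨f, hfA, hfn⟩ := hnP
      have hfA' : f ∈ A := hfA
      obtain ⟨y, hy, g, hg, hyg⟩ := Submodule.mem_sup.mp (hPn hfA)
      rw [Submodule.mem_span_singleton] at hy
      obtain ⟨c0, rfl⟩ := hy
      have hg' : g ∈ II k N n := hg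
      obtain ⟨c, hc⟩ := decomp k N hg'
      have hc0 : c ≠ 0 := by
        rintro rfl
        rw [map_zero, zero_mul, sub_zero] at hc
        apply hfn
        rw [← hyg]
        exact Submodule.add_mem_sup (Submodule.mem_span_singleton.mpr ⟨c0, rfl⟩) hc
      have hgA : g ∈ A := by
        have : g = f - c0 • (1 : R k N) := by rw [← hyg]; ring
        rw [this]
        exact A.sub_mem hfA' (A.smul_mem A.one_mem _)
      -- build exact order elements
      have hbuild : ∀ j, n ≤ j → ∃ f ∈ A, ExactOrd k N f j := by
        intro j hj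
        induction j, hj using Nat.le_induction with
        | base => exact ⟨g, hgA, c, hc0, hc⟩
        | succ j hj ih =>
          obtain ⟨f, hfA, c, hc0, hc⟩ := ih
          refine ⟨sig k N f - f, A.sub_mem (hsig f hfA) hfA, -(j : k) * c, ?_, sig_sub_lead k N hc⟩
          have : (j : k) ≠ 0 := Nat.cast_ne_zero.mpr (by omega)
          exact mul_ne_zero (neg_ne_zero.mpr this) hc0
      -- downward induction
      have hdown : ∀ d j, j + d = N + 1 → n ≤ j → ∀ x ∈ II k N j, x ∈ A := by
        intro d
        induction d with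
        | zero =>
          intro j hj _ x hx
          have : j = N + 1 := by omega
          rw [this, II_top, Ideal.mem_bot] at hx
          subst hx
          exact A.zero_mem
        | succ d ih =>
          intro j hj hnj x hx
          have hnext := ih (j + 1) (by omega) (by omega)
          obtain ⟨f, hfA, c, hc0, hc⟩ := hbuild j hnj
          have h1 : algebraMap k (R k N) c * uu k N ^ j ∈ A := by
            have : algebraMap k (R k N) c * uu k N ^ j =
                f - (f - algebraMap k (R k N) c * uu k N ^ j) := by ring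
            rw [this]
            exact A.sub_mem hfA (hnext _ hc)
          have h2 : uu k N ^ j ∈ A := by
            have : uu k N ^ j = c⁻¹ • (algebraMap k (R k N) c * uu k N ^ j) := by
              rw [Algebra.smul_def, ← mul_assoc, ← map_mul, inv_mul_cancel₀ hc0, map_one, one_mul]
            rw [this]
            exact A.smul_mem h1 _
          obtain ⟨c', hc'⟩ := decomp k N hx
          have : x = (x - algebraMap k (R k N) c' * uu k N ^ j) + c' • uu k N ^ j := by
            rw [Algebra.smul_def]; ring
          rw [this]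
          exact A.add_mem (hnext _ hc') (A.smul_mem h2 _)
      exact hdown (N + 1 - n) n (by omega) le_rfl
  apply le_antisymm hPn
  refine sup_le ?_ ?_
  · rw [Submodule.span_le, Set.singleton_subset_iff]
    exact A.one_mem
  · intro x hx
    exact hIn x hx

end Aux

/-- Classification of the subalgebras of a truncated polynomial ring that are stable under the unipotent
substitutions, which is the algebraic step behind the classification of curves almost homogeneous
under the additive group in characteristic zero. Let k be a field of characteristic zero, N ≥ 0 and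
R = k[u]/(u^(N+1)). The additive group acts on R through the substitutions u ↦ u/(1 + a u), a in k.
If A is a k-subalgebra of R stable under all these substitutions (stated for every k-algebra
endomorphism σ of R with σ(u)(1 + a u) = u for some a in k), then there is an integer n with 1 ≤ n ≤
N + 1 such that A = k ⊕ (u^n): as a k-subspace, A is the span of 1 plus the ideal generated by u^n.
(In positive characteristic p and for N ≥ p + 1, the subalgebra generated by u^p is stable and not
of this form.) -/
theorem result (k : Type u) [Field k] [CharZero k]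
    (N : ℕ) (A : Subalgebra k (AdjoinRoot ((Polynomial.X : Polynomial k) ^ (N + 1))))
    (hA : ∀ (a : k) (σ : AdjoinRoot ((Polynomial.X : Polynomial k) ^ (N + 1)) →ₐ[k] AdjoinRoot ((Polynomial.X : Polynomial k) ^ (N + 1))),
      σ (AdjoinRoot.root ((Polynomial.X : Polynomial k) ^ (N + 1))) * (1 + algebraMap k (AdjoinRoot ((Polynomial.X : Polynomial k) ^ (N + 1))) a * AdjoinRoot.root ((Polynomial.X : Polynomial k) ^ (N + 1))) = AdjoinRoot.root ((Polynomial.X : Polynomial k) ^ (N + 1)) →
        A.map σ ≤ A) :
    ∃ n : ℕ, 1 ≤ n ∧ n ≤ N + 1 ∧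
      Subalgebra.toSubmodule A =
        Submodule.span k {1} ⊔ (Ideal.span {AdjoinRoot.root ((Polynomial.X : Polynomial k) ^ (N + 1)) ^ n}).restrictScalars k := by
  exact Aux.main k N A hA

end Groth.Agent.S14639
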