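import Groth.Statements.S1467
import Mathlib
import Groth.Statements.S1467
import Groth.Agent.Lib.Helper9.FE.OlivE
import Groth.Agent.Lib.Helper6.WEtStalk.Sch
-- import your own Groth.Agent.* helpers here

set_option autoImplicit false
universe u
open FlatMor

namespace Groth.Agent.S1467

open AlgebraicGeometry CategoryTheory Limits
namespace Aux
set_option backward.isDefEq.respectTransparency false
set_option linter.style.haveILetI false

theorem main {X Y : Scheme.{u}} (f : X ⟶ Y) :
    WeaklyEtale f ↔ ∀ (x : X) (R : Type u) [CommRing R] [IsLocalRing R] [Algebra ↑(X.presheaf.stalk x) R]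
      [IsLocalHom (algebraMap ↑(X.presheaf.stalk x) R)] [Hensel.IsStrictHenselization ↑(X.presheaf.stalk x) R],
      letI : Algebra ↑(Y.presheaf.stalk (f x)) R := ((algebraMap ↑(X.presheaf.stalk x) R).comp (f.stalkMap x).hom).toAlgebra
      ∃ _ : IsLocalHom (algebraMap ↑(Y.presheaf.stalk (f x)) R), Hensel.IsStrictHenselization ↑(Y.presheaf.stalk (f x)) R := by
  constructor
  · intro hf x R _ _ _ _ _
    haveI := hf
    letI : Algebra ↑(Y.presheaf.stalk (f x)) R :=
      ((algebraMap ↑(X.presheaf.stalk x) R).comp (f.stalkMap x).hom).toAlgebra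
    have h1 := Groth.Agent.Lib.Helper6.WEtStalk.weaklyEtale_Spec_map_stalkMap f x
    rw [Helper5.WEt.weaklyEtale_Spec_iff'] at h1
    letI : Algebra (Y.presheaf.stalk (f x)) (X.presheaf.stalk x) := (f.stalkMap x).hom.toAlgebra
    haveI : Algebra.WeaklyEtale (Y.presheaf.stalk (f x)) (X.presheaf.stalk x) := h1
    haveI : IsLocalHom (algebraMap (Y.presheaf.stalk (f x)) (X.presheaf.stalk x)) :=
      (inferInstance : IsLocalHom (f.stalkMap x).hom)
    haveI : IsScalarTower (Y.presheaf.stalk (f x)) (X.presheaf.stalk x) R :=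
      IsScalarTower.of_algebraMap_eq' rfl
    exact H9FE.OlivE.isStrictHenselization_of_weaklyEtale (A := Y.presheaf.stalk (f x))
      (B := X.presheaf.stalk x) (R := R)
  · intro H
    apply Groth.Agent.Lib.Helper6.WEtStalk.weaklyEtale_of_forall_stalkMap
    intro x
    rw [Helper5.WEt.weaklyEtale_Spec_iff']
    letI : Algebra (Y.presheaf.stalk (f x)) (X.presheaf.stalk x) := (f.stalkMap x).hom.toAlgebra
    obtain ⟨R, _, _, _, _, hR⟩ :=
      Groth.Agent.Helper7.SHens.exists_isStrictHenselization (X.presheaf.stalk x)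
    letI : Algebra ↑(Y.presheaf.stalk (f x)) R :=
      ((algebraMap ↑(X.presheaf.stalk x) R).comp (f.stalkMap x).hom).toAlgebra
    obtain ⟨hloc, hsh⟩ := H x R
    haveI : IsScalarTower (Y.presheaf.stalk (f x)) (X.presheaf.stalk x) R :=
      IsScalarTower.of_algebraMap_eq' rfl
    exact H9FE.OlivE.weaklyEtale_of_isStrictHenselization (A := Y.presheaf.stalk (f x))
      (B := X.presheaf.stalk x) (R := R)

end Aux

open AlgebraicGeometry CategoryTheory Limits in
/-- A morphism f : X → Y is weakly étale if and only if, for every point x of X, strict henselizations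
of the local rings at f x and at x coincide under the stalk map: every strict henselization of O_{X,
x} is, through the composite map O_{Y, f x} → O_{X, x} → (strict henselization), a strict
henselization of O_{Y, f x}. -/
theorem result {X Y : Scheme.{u}} (f : X ⟶ Y) :
    WeaklyEtale f ↔ ∀ (x : X) (R : Type u) [CommRing R] [IsLocalRing R] [Algebra ↑(X.presheaf.stalk x) R]
      [IsLocalHom (algebraMap ↑(X.presheaf.stalk x) R)] [Hensel.IsStrictHenselization ↑(X.presheaf.stalk x) R],
      letI : Algebra ↑(Y.presheaf.stalk (f x)) R := ((algebraMap ↑(X.presheaf.stalk x) R).comp (f.stalkMap x).hom).toAlgebra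
      ∃ _ : IsLocalHom (algebraMap ↑(Y.presheaf.stalk (f x)) R), Hensel.IsStrictHenselization ↑(Y.presheaf.stalk (f x)) R := by
  exact Aux.main f

end Groth.Agent.S1467
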