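import Groth.Statements.S14670
import Groth.Agent.Lib.Helper8.FlatReg6
import Groth.Agent.Lib.Helper8.Serre3
import Groth.Agent.Lib.Helper8.RegularLocal

set_option autoImplicit false
universe u
open CAlg

namespace Groth.Agent.S14670

/-- Let R be a regular local ring and S an integral domain containing R as a subring over which it is a
finitely generated module, such that the localization of S at each of its maximal ideals is a
Cohen–Macaulay local ring. Then S is a flat R-module. (The published statement does not require S to
be a domain; in that generality it fails — for a discrete valuation ring R with residue field κ the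
ring R × κ contains R diagonally, is finite over R with Cohen–Macaulay localizations, and is not
flat — and the printed argument needs every maximal ideal of S to have height dim R, which holds
when S is a domain by going down.) -/
theorem result (R S : Type u) [CommRing R] [CommRing S]
    [IsRegularLocalRing R] [IsDomain S] [Algebra R S] [Module.Finite R S]
    (hinj : Function.Injective (algebraMap R S))
    (hCM : ∀ (q : Ideal S) [q.IsMaximal], LocCoh.IsCohenMacaulayLocalRing (Localization.AtPrime q)) :
    Module.Flat R S := by
  classical
  haveI : IsDomain R := Groth.Agent.Helper8.RLR.isDomain R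
  haveI : IsIntegrallyClosed R := Groth.Agent.Helper8.Serre.isIntegrallyClosed_of_isRegularLocalRing R
  haveI : FaithfulSMul R S := (faithfulSMul_iff_algebraMap_injective R S).mpr hinj
  haveI : Algebra.IsIntegral R S := Algebra.IsIntegral.of_finite R S
  haveI : IsNoetherianRing S := IsNoetherianRing.of_finite R S
  haveI : Algebra.HasGoingDown R S := inferInstance
  -- the fibre ring `S / m S` is Artinian
  letI := Ideal.Quotient.field (IsLocalRing.maximalIdeal R)
  haveI : Module.Finite (R ⧸ IsLocalRing.maximalIdeal R)
      (S ⧸ (IsLocalRing.maximalIdeal R).map (algebraMap R S)) :=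
    Module.Finite.of_restrictScalars_finite R _ _
  haveI : IsArtinianRing (S ⧸ (IsLocalRing.maximalIdeal R).map (algebraMap R S)) :=
    IsArtinianRing.of_finite (R ⧸ IsLocalRing.maximalIdeal R) _
  refine Module.flat_of_isLocalized_maximal S S (fun P _ => Localization.AtPrime P)
    (fun P _ => Algebra.linearMap S (Localization.AtPrime P)) (fun q hq => ?_)
  haveI := hq
  haveI : q.IsPrime := hq.isPrime
  have hqm : q.comap (algebraMap R S) = IsLocalRing.maximalIdeal R :=
    IsLocalRing.eq_maximalIdeal (Ideal.isMaximal_comap_of_isIntegral_of_isMaximal q)
  haveI : q.LiesOver (IsLocalRing.maximalIdeal R) := ⟨hqm.symm⟩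
  haveI : IsLocalHom (algebraMap R (Localization.AtPrime q)) := by
    refine ⟨fun x hx => ?_⟩
    rw [IsScalarTower.algebraMap_apply R S (Localization.AtPrime q),
      IsLocalization.AtPrime.isUnit_to_map_iff (Localization.AtPrime q) q] at hx
    have h1 : x ∉ IsLocalRing.maximalIdeal R := by
      rw [← hqm]
      exact hx
    by_contra hu
    exact h1 ((IsLocalRing.mem_maximalIdeal x).mpr hu)
  haveI := hCM q
  refine Groth.Agent.Helper8.FlatReg.miracle_flatness ?_
  -- dimension count
  have h1 : ringKrullDim (Localization.AtPrime q) = q.height :=
    IsLocalization.AtPrime.ringKrullDim_eq_height q (Localization.AtPrime q)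
  have h2 := Ideal.height_eq_height_add_of_liesOver_of_hasGoingDown
    (IsLocalRing.maximalIdeal R) q
  have h3 : (q.map (Ideal.Quotient.mk
      ((IsLocalRing.maximalIdeal R).map (algebraMap R S)))).height = 0 := by
    haveI : (q.map (Ideal.Quotient.mk
        ((IsLocalRing.maximalIdeal R).map (algebraMap R S)))).IsPrime := by
      refine Ideal.map_isPrime_of_surjective Ideal.Quotient.mk_surjective ?_
      rw [Ideal.mk_ker, Ideal.map_le_iff_le_comap, hqm]
    have h4 := Ideal.height_le_ringKrullDim_of_ne_top
      (I := q.map (Ideal.Quotient.mk ((IsLocalRing.maximalIdeal R).map (algebraMap R S))))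
      Ideal.IsPrime.ne_top'
    have h5 : ringKrullDim (S ⧸ (IsLocalRing.maximalIdeal R).map (algebraMap R S)) ≤ 0 :=
      Ring.krullDimLE_iff.mp inferInstance
    have h6 : ((q.map (Ideal.Quotient.mk
      ((IsLocalRing.maximalIdeal R).map (algebraMap R S)))).height : WithBot ℕ∞) ≤ 0 := h4.trans h5
    exact_mod_cast le_antisymm (by exact_mod_cast h6) bot_le
  have h7 : ringKrullDim (Localization.AtPrime q ⧸
      (IsLocalRing.maximalIdeal R).map (algebraMap R (Localization.AtPrime q))) = 0 := by
    have hmap : (IsLocalRing.maximalIdeal R).map (algebraMap R (Localization.AtPrime q)) =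
        ((IsLocalRing.maximalIdeal R).map (algebraMap R S)).map
          (algebraMap S (Localization.AtPrime q)) := by
      rw [Ideal.map_map, ← IsScalarTower.algebraMap_eq]
    rw [hmap]
    have hsurj := IsArtinianRing.localization_surjective
      (Algebra.algebraMapSubmonoid (S ⧸ (IsLocalRing.maximalIdeal R).map (algebraMap R S))
        q.primeCompl)
      (Localization.AtPrime q ⧸ ((IsLocalRing.maximalIdeal R).map (algebraMap R S)).map
          (algebraMap S (Localization.AtPrime q)))
    have h8 := ringKrullDim_le_of_surjective _ hsurj
    have h5 : ringKrullDim (S ⧸ (IsLocalRing.maximalIdeal R).map (algebraMap R S)) ≤ 0 :=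
      Ring.krullDimLE_iff.mp inferInstance
    haveI : Nontrivial (Localization.AtPrime q ⧸
        ((IsLocalRing.maximalIdeal R).map (algebraMap R S)).map
          (algebraMap S (Localization.AtPrime q))) := by
      rw [Ideal.Quotient.nontrivial_iff, ← hmap]
      intro htop
      have hle : (IsLocalRing.maximalIdeal R).map (algebraMap R (Localization.AtPrime q)) ≤
          IsLocalRing.maximalIdeal (Localization.AtPrime q) :=
        ((IsLocalRing.local_hom_TFAE (algebraMap R (Localization.AtPrime q))).out 0 2 rfl rfl).mp
          inferInstance
      exact (IsLocalRing.maximalIdeal.isMaximal (Localization.AtPrime q)).ne_top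
        (top_le_iff.mp (htop ▸ hle))
    exact le_antisymm (h8.trans h5) ringKrullDim_nonneg_of_nontrivial
  rw [h1, h7, add_zero, h2, h3, add_zero, IsLocalRing.maximalIdeal_height_eq_ringKrullDim]

end Groth.Agent.S14670
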