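import Groth.Statements.S14676
import Groth.Agent.Lib.Helper3.All

set_option autoImplicit false
universe u
open CAlg

namespace Groth.Agent.S14676

/-- Let A be a commutative ring which is separated and complete for the I-adic topology of an ideal I,
let P be any polynomial over A (not assumed monic) and a₀ an element of A such that P(a₀) lies in I
and P'(a₀) is a unit modulo I. Then there is a unique a in A congruent to a₀ modulo I with P(a) = 0. -/
theorem result (A : Type u) [CommRing A] (I : Ideal A) [IsAdicComplete I A]
    (P : Polynomial A) (a₀ : A) (h₀ : P.eval a₀ ∈ I)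
    (h₁ : IsUnit (Ideal.Quotient.mk I (P.derivative.eval a₀))) :
    ∃! a : A, a - a₀ ∈ I ∧ P.IsRoot a := by
  classical
  have hloc := isLocalHom_of_le_jacobson_bot I (IsAdicComplete.le_jacobson_bot I)
  -- existence: Newton iteration (as in Mathlib's Henselian instance, which does not use monicity)
  have hex : ∃ a : A, P.IsRoot a ∧ a - a₀ ∈ I := by
    let f := P
    let f' := Polynomial.derivative f
    let c : ℕ → A := fun n => Nat.recOn n a₀ fun _ b => b - f.eval b * Ring.inverse (f'.eval b)
    have hc : ∀ n, c (n + 1) = c n - f.eval (c n) * Ring.inverse (f'.eval (c n)) := by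
      intro n
      simp only [c]
    have hc_mod : ∀ n, c n ≡ a₀ [SMOD I] := by
      intro n
      induction n with
      | zero => rfl
      | succ n ih =>
        rw [hc, sub_eq_add_neg, ← add_zero a₀]
        refine ih.add ?_
        rw [SModEq.zero, Ideal.neg_mem_iff]
        refine I.mul_mem_right _ ?_
        rw [← SModEq.zero] at h₀ ⊢
        exact (ih.eval f).trans h₀
    have hf'c : ∀ n, IsUnit (f'.eval (c n)) := by
      intro n
      apply IsUnit.of_map (Ideal.Quotient.mk I)
      have : Ideal.Quotient.mk I (f'.eval (c n)) = Ideal.Quotient.mk I (f'.eval a₀) :=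
        SModEq.def.mp ((hc_mod n).eval _)
      rw [this]
      exact h₁
    have hfcI : ∀ n, f.eval (c n) ∈ I ^ (n + 1) := by
      intro n
      induction n with
      | zero =>
        rw [zero_add, pow_one]
        exact h₀
      | succ n ih =>
        rw [← Polynomial.taylor_eval_sub (c n), hc, sub_eq_add_neg, sub_eq_add_neg,
          add_neg_cancel_comm]
        rw [Polynomial.eval_eq_sum, Polynomial.sum_over_range' _ _ _ (lt_add_of_pos_right _ zero_lt_two), ←
          Finset.sum_range_add_sum_Ico _ (Nat.le_add_left _ _)]
        swap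
        · intro i
          rw [zero_mul]
        refine Ideal.add_mem _ ?_ ?_
        · rw [← one_add_one_eq_two, Finset.sum_range_succ, Finset.range_one, Finset.sum_singleton,
            Polynomial.taylor_coeff_zero, Polynomial.taylor_coeff_one, pow_zero, pow_one, mul_one, mul_neg,
            mul_left_comm, Ring.mul_inverse_cancel _ (hf'c n), mul_one, add_neg_cancel]
          exact Ideal.zero_mem _
        · refine Submodule.sum_mem _ ?_
          simp only [Finset.mem_Ico]
          rintro i ⟨h2i, _⟩
          have aux : n + 2 ≤ i * (n + 1) := by trans 2 * (n + 1) <;> nlinarith only [h2i]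
          refine Ideal.mul_mem_left _ _ (Ideal.pow_le_pow_right aux ?_)
          rw [pow_mul']
          exact Ideal.pow_mem_pow ((Ideal.neg_mem_iff _).2 <| Ideal.mul_mem_right _ _ ih) _
    have aux : ∀ m n, m ≤ n → c m ≡ c n [SMOD (I ^ m • ⊤ : Ideal A)] := by
      intro m n hmn
      rw [← Ideal.one_eq_top, Ideal.smul_eq_mul, mul_one]
      obtain ⟨k, rfl⟩ := Nat.exists_eq_add_of_le hmn
      clear hmn
      induction k with
      | zero => rw [add_zero]
      | succ k ih =>
        rw [← add_assoc, hc, ← add_zero (c m), sub_eq_add_neg]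
        refine ih.add ?_
        symm
        rw [SModEq.zero, Ideal.neg_mem_iff]
        refine Ideal.mul_mem_right _ _ (Ideal.pow_le_pow_right ?_ (hfcI _))
        rw [add_assoc]
        exact le_self_add
    obtain ⟨a, ha⟩ := IsPrecomplete.prec' c (aux _ _)
    refine ⟨a, ?_, ?_⟩
    · show f.IsRoot a
      suffices ∀ n, f.eval a ≡ 0 [SMOD (I ^ n • ⊤ : Ideal A)] by exact IsHausdorff.haus' _ this
      intro n
      specialize ha n
      rw [← Ideal.one_eq_top, Ideal.smul_eq_mul, mul_one] at ha ⊢
      refine (ha.symm.eval f).trans ?_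
      rw [SModEq.zero]
      exact Ideal.pow_le_pow_right le_self_add (hfcI _)
    · show a - a₀ ∈ I
      specialize ha (0 + 1)
      rw [hc, pow_one, ← Ideal.one_eq_top, Ideal.smul_eq_mul, mul_one, sub_eq_add_neg] at ha
      rw [← SModEq.sub_mem, ← add_zero a₀]
      refine ha.symm.trans (SModEq.rfl.add ?_)
      rw [SModEq.zero, Ideal.neg_mem_iff]
      exact Ideal.mul_mem_right _ _ h₀
  obtain ⟨a, hroot, hmem⟩ := hex
  refine ⟨a, ⟨hmem, hroot⟩, ?_⟩
  rintro b ⟨hbmem, hbroot⟩
  -- uniqueness
  obtain ⟨k, hk⟩ := Polynomial.binomExpansion P a (b - a)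
  have hba : b - a ∈ I := by
    have : b - a = (b - a₀) - (a - a₀) := by ring
    rw [this]
    exact I.sub_mem hbmem hmem
  have e1 : P.eval b = 0 := hbroot
  have e2 : P.eval a = 0 := hroot
  rw [add_sub_cancel, e1, e2, zero_add] at hk
  have hfac : (P.derivative.eval a + k * (b - a)) * (b - a) = 0 := by
    rw [hk]; ring
  have hunit : IsUnit (P.derivative.eval a + k * (b - a)) := by
    apply IsUnit.of_map (Ideal.Quotient.mk I)
    have h1 : Ideal.Quotient.mk I (P.derivative.eval a + k * (b - a)) =
        Ideal.Quotient.mk I (P.derivative.eval a₀) := by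
      rw [Ideal.Quotient.eq]
      have hs : (Polynomial.eval a (Polynomial.derivative P)) - Polynomial.eval a₀ (Polynomial.derivative P) ∈ I := by
        have := Polynomial.sub_dvd_eval_sub a a₀ (Polynomial.derivative P)
        exact Ideal.mem_of_dvd I this hmem
      have : P.derivative.eval a + k * (b - a) - P.derivative.eval a₀ =
          (P.derivative.eval a - P.derivative.eval a₀) + k * (b - a) := by ring
      rw [this]
      exact I.add_mem hs (I.mul_mem_left _ hba)
    rw [h1]
    exact h₁
  have := hunit.mul_right_eq_zero.1 hfac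
  exact sub_eq_zero.1 this

end Groth.Agent.S14676
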