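import Groth.Statements.S14677
import Mathlib

set_option autoImplicit false
universe u
open CAlg

namespace Groth.Agent.S14677

section


variable {A : Type u} [CommRing A] (I : Ideal A)
variable {M N : Type u} [AddCommGroup M] [Module A M] [AddCommGroup N] [Module A N]

theorem map_add_apply (f g : M →ₗ[A] N) (x : AdicCompletion I M) :
    AdicCompletion.map I (f + g) x = AdicCompletion.map I f x + AdicCompletion.map I g x := by
  induction x using AdicCompletion.induction_on with
  | _ a =>
    rw [AdicCompletion.map_mk, AdicCompletion.map_mk, AdicCompletion.map_mk, ← map_add]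
    congr 1

theorem map_smul_apply (c : A) (f : M →ₗ[A] N) (x : AdicCompletion I M) :
    AdicCompletion.map I (c • f) x = c • AdicCompletion.map I f x := by
  induction x using AdicCompletion.induction_on with
  | _ a =>
    rw [AdicCompletion.map_mk, AdicCompletion.map_mk, ← map_smul]
    congr 1

theorem map_sum_apply {ι : Type*} (s : Finset ι) (F : ι → M →ₗ[A] N) (x : AdicCompletion I M) :
    AdicCompletion.map I (∑ i ∈ s, F i) x = ∑ i ∈ s, AdicCompletion.map I (F i) x := by
  classical
  induction s using Finset.induction_on with
  | empty =>
    rw [Finset.sum_empty, Finset.sum_empty, AdicCompletion.map_zero]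
    rfl
  | insert i s hi ih =>
    rw [Finset.sum_insert hi, Finset.sum_insert hi, map_add_apply, ih]


/-- multiplication by `a ∈ J` as a map `M → J M` -/
def mulTo (J : Ideal A) (a : A) (ha : a ∈ J) : M →ₗ[A] ↥(J • (⊤ : Submodule A M)) where
  toFun x := ⟨a • x, Submodule.smul_mem_smul ha Submodule.mem_top⟩
  map_add' x y := Subtype.ext (smul_add a x y)
  map_smul' c x := Subtype.ext (smul_comm a c x)

theorem subtype_comp_mulTo (J : Ideal A) (a : A) (ha : a ∈ J) :
    (J • (⊤ : Submodule A M)).subtype ∘ₗ mulTo (M := M) J a ha = a • LinearMap.id := rfl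

theorem main (A : Type u) [CommRing A] [IsNoetherianRing A] (I J : Ideal A)
    (M : Type u) [AddCommGroup M] [Module A M] [Module.Finite A M] :
    Function.Injective (AdicCompletion.map I (J • (⊤ : Submodule A M)).subtype) ∧
      LinearMap.range (AdicCompletion.map I (J • (⊤ : Submodule A M)).subtype) =
        (J.map (algebraMap A (AdicCompletion I A))) • (⊤ : Submodule (AdicCompletion I A) (AdicCompletion I M)) := by
  classical
  refine ⟨AdicCompletion.map_injective I (Submodule.injective_subtype _), ?_⟩
  have key : ∀ (a : A) (ha : a ∈ J) (y : AdicCompletion I M),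
      AdicCompletion.map I (J • (⊤ : Submodule A M)).subtype
        (AdicCompletion.map I (mulTo (M := M) J a ha) y) = algebraMap A (AdicCompletion I A) a • y := by
    intro a ha y
    rw [AdicCompletion.map_comp_apply, subtype_comp_mulTo, map_smul_apply, AdicCompletion.map_id,
      LinearMap.id_apply, algebraMap_smul]
  apply le_antisymm
  · -- range ⊆ J M^
    obtain ⟨r, a, ha⟩ := Submodule.fg_iff_exists_fin_generating_family.mp (IsNoetherian.noetherian J)
    have haJ : ∀ i, a i ∈ J := fun i => ha ▸ Submodule.subset_span (Set.mem_range_self i)
    let π : (Fin r → M) →ₗ[A] ↥(J • (⊤ : Submodule A M)) :=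
      ∑ i, mulTo (M := M) J (a i) (haJ i) ∘ₗ LinearMap.proj i
    have hπ : Function.Surjective π := by
      rintro ⟨z, hz⟩
      have : ∃ x : Fin r → M, ∑ i, a i • x i = z := by
        refine Submodule.smul_induction_on hz ?_ ?_
        · intro c hc m _
          rw [← ha] at hc
          obtain ⟨l, rfl⟩ := (Submodule.mem_span_range_iff_exists_fun A).mp hc
          refine ⟨fun i => l i • m, ?_⟩
          rw [Finset.sum_smul]
          refine Finset.sum_congr rfl (fun i _ => ?_)
          rw [smul_smul, smul_eq_mul, mul_comm]
        · rintro z₁ z₂ ⟨x₁, rfl⟩ ⟨x₂, rfl⟩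
          refine ⟨x₁ + x₂, ?_⟩
          simp only [Pi.add_apply, smul_add, Finset.sum_add_distrib]
      obtain ⟨x, hx⟩ := this
      refine ⟨x, Subtype.ext ?_⟩
      show ((π x : ↥(J • (⊤ : Submodule A M))) : M) = z
      rw [← hx]
      simp only [π, LinearMap.sum_apply, LinearMap.comp_apply, LinearMap.proj_apply,
        AddSubmonoidClass.coe_finset_sum]
      rfl
    rintro _ ⟨w, rfl⟩
    obtain ⟨z, rfl⟩ := AdicCompletion.map_surjective I hπ w
    rw [map_sum_apply, map_sum]
    refine Submodule.sum_mem _ (fun i _ => ?_)
    rw [← AdicCompletion.map_comp_apply, key]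
    exact Submodule.smul_mem_smul (Ideal.mem_map_of_mem _ (haJ i)) Submodule.mem_top
  · -- J M^ ⊆ range
    rw [Submodule.smul_le]
    intro c hc y _
    refine Submodule.span_induction (p := fun c _ => c • y ∈ LinearMap.range
      (AdicCompletion.map I (J • (⊤ : Submodule A M)).subtype)) ?_ ?_ ?_ ?_ hc
    · rintro _ ⟨a, ha, rfl⟩
      exact ⟨_, key a ha y⟩
    · rw [zero_smul]
      exact Submodule.zero_mem _
    · intro c₁ c₂ _ _ h₁ h₂
      rw [add_smul]
      exact Submodule.add_mem _ h₁ h₂
    · intro d c₁ _ h₁
      rw [smul_eq_mul, mul_smul]
      exact Submodule.smul_mem _ d h₁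


end


/-- Let A be a Noetherian commutative ring, I and J ideals of A and M a finitely generated A-module.
Then the map of I-adic completions induced by the inclusion of the submodule JM into M is injective
with image exactly J·M̂, where M̂ is the I-adic completion of M; that is, the completion of JM is J
times the completion of M. (The published statement does not say that A is Noetherian; its proof
uses exactness of completion on finitely generated modules, which needs it, so this row assumes A
Noetherian.) -/
theorem result (A : Type u) [CommRing A] [IsNoetherianRing A] (I J : Ideal A)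
    (M : Type u) [AddCommGroup M] [Module A M] [Module.Finite A M] :
    Function.Injective (AdicCompletion.map I (J • (⊤ : Submodule A M)).subtype) ∧
      LinearMap.range (AdicCompletion.map I (J • (⊤ : Submodule A M)).subtype) =
        (J.map (algebraMap A (AdicCompletion I A))) • (⊤ : Submodule (AdicCompletion I A) (AdicCompletion I M)) := by
  classical
  exact main A I J M

end Groth.Agent.S14677
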