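import Groth.Statements.S14680
import Mathlib

set_option autoImplicit false
universe u
open CAlg

namespace Groth.Agent.S14680

section


variable {A : Type u} [CommRing A] [IsNoetherianRing A]

/-- L1 -/
theorem subsingleton_of_completions (H : Type u) [AddCommGroup H] [Module A H] [Module.Finite A H]
    (h : ∀ (m : Ideal A) [m.IsMaximal], Subsingleton (AdicCompletion m H)) : Subsingleton H := by
  by_contra hne
  rw [not_subsingleton_iff_nontrivial] at hne
  have hann : Module.annihilator A H ≠ ⊤ := by
    intro h'
    have h1 : (1 : A) ∈ Module.annihilator A H := h' ▸ Submodule.mem_top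
    rw [Module.mem_annihilator] at h1
    obtain ⟨x, y, hxy⟩ := hne
    exact hxy (by rw [← one_smul A x, ← one_smul A y, h1 x, h1 y])
  obtain ⟨m, hm, hle⟩ := Ideal.exists_le_maximal _ hann
  haveI := hm
  have hsub := h m
  -- H = m H
  have htop : (⊤ : Submodule A H) ≤ m • (⊤ : Submodule A H) := by
    intro x _
    have h1 : AdicCompletion.eval m H 1 (AdicCompletion.of m H x) = 0 := by
      rw [Subsingleton.elim (AdicCompletion.of m H x) 0, map_zero]
    rw [AdicCompletion.eval_of, Submodule.mkQ_apply, Submodule.Quotient.mk_eq_zero, pow_one] at h1
    exact h1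
  obtain ⟨r, hr1, hr2⟩ := Submodule.exists_sub_one_mem_and_smul_eq_zero_of_fg_of_le_smul
    m (⊤ : Submodule A H) (Module.finite_def.mp inferInstance) htop
  have hr : r ∈ m := hle (by
    rw [Module.mem_annihilator]
    intro y
    exact hr2 y Submodule.mem_top)
  have h2 : (1 : A) ∈ m := by
    have := m.sub_mem hr hr1
    simpa using this
  exact hm.ne_top ((Ideal.eq_top_iff_one _).mpr h2)

/-- L2 -/
theorem injective_of_completions {N N' : Type u} [AddCommGroup N] [Module A N] [Module.Finite A N]
    [AddCommGroup N'] [Module A N'] [Module.Finite A N'] (h : N →ₗ[A] N')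
    (hh : ∀ (m : Ideal A) [m.IsMaximal], Function.Injective (AdicCompletion.map m h)) :
    Function.Injective h := by
  rw [← LinearMap.ker_eq_bot]
  haveI : Subsingleton (LinearMap.ker h) := by
    apply subsingleton_of_completions (A := A)
    intro m _
    have hι : Function.Injective (AdicCompletion.map m (LinearMap.ker h).subtype) :=
      AdicCompletion.map_injective m (Submodule.injective_subtype _)
    refine ⟨fun x y => ?_⟩
    apply hι
    apply hh m
    rw [AdicCompletion.map_comp_apply, AdicCompletion.map_comp_apply]
    have : h ∘ₗ (LinearMap.ker h).subtype = 0 := by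
      ext z
      exact z.2
    rw [this, AdicCompletion.map_zero]
    rfl
  exact Submodule.eq_bot_of_subsingleton

/-- L3 -/
theorem surjective_of_completions {N N' : Type u} [AddCommGroup N] [Module A N] [Module.Finite A N]
    [AddCommGroup N'] [Module A N'] [Module.Finite A N'] (g : N →ₗ[A] N')
    (hg : ∀ (m : Ideal A) [m.IsMaximal], Function.Surjective (AdicCompletion.map m g)) :
    Function.Surjective g := by
  rw [← LinearMap.range_eq_top]
  haveI : Subsingleton (N' ⧸ LinearMap.range g) := by
    apply subsingleton_of_completions (A := A)
    intro m _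
    have hπ : Function.Surjective (AdicCompletion.map m (LinearMap.range g).mkQ) :=
      AdicCompletion.map_surjective m (Submodule.mkQ_surjective _)
    have hz : ∀ x, AdicCompletion.map m (LinearMap.range g).mkQ x = 0 := by
      intro x
      obtain ⟨y, rfl⟩ := hg m x
      rw [AdicCompletion.map_comp_apply]
      have : (LinearMap.range g).mkQ ∘ₗ g = 0 := by
        ext z
        simp
      rw [this, AdicCompletion.map_zero]
      rfl
    refine ⟨fun x y => ?_⟩
    obtain ⟨x', rfl⟩ := hπ x
    obtain ⟨y', rfl⟩ := hπ y
    rw [hz, hz]
  exact Submodule.Quotient.subsingleton_iff.mp inferInstance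


/-- L4 -/
theorem zero_of_completions {N N' : Type u} [AddCommGroup N] [Module A N] [Module.Finite A N]
    [AddCommGroup N'] [Module A N'] [Module.Finite A N'] (h : N →ₗ[A] N')
    (hh : ∀ (m : Ideal A) [m.IsMaximal], AdicCompletion.map m h = 0) : h = 0 := by
  haveI : Subsingleton (LinearMap.range h) := by
    apply subsingleton_of_completions (A := A)
    intro m _
    have hι : Function.Injective (AdicCompletion.map m (LinearMap.range h).subtype) :=
      AdicCompletion.map_injective m (Submodule.injective_subtype _)
    have hr : Function.Surjective (AdicCompletion.map m h.rangeRestrict) :=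
      AdicCompletion.map_surjective m h.surjective_rangeRestrict
    have hz : ∀ x : AdicCompletion m (LinearMap.range h), x = 0 := by
      intro x
      obtain ⟨y, rfl⟩ := hr x
      apply hι
      rw [AdicCompletion.map_comp_apply, map_zero]
      have : (LinearMap.range h).subtype ∘ₗ h.rangeRestrict = h := by
        ext z
        rfl
      rw [this, hh m]
      rfl
    exact ⟨fun x y => by rw [hz x, hz y]⟩
  ext z
  have : (⟨h z, LinearMap.mem_range_self h z⟩ : LinearMap.range h) = 0 := Subsingleton.elim _ _
  exact congrArg Subtype.val this

/-- L5 -/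
theorem exact_of_completions {M' M M'' : Type u} [AddCommGroup M'] [Module A M'] [Module.Finite A M']
    [AddCommGroup M] [Module A M] [Module.Finite A M]
    [AddCommGroup M''] [Module A M''] [Module.Finite A M''] (f : M' →ₗ[A] M) (g : M →ₗ[A] M'')
    (hh : ∀ (m : Ideal A) [m.IsMaximal],
      Function.Exact (AdicCompletion.map m f) (AdicCompletion.map m g)) :
    Function.Exact f g := by
  have hgf : g ∘ₗ f = 0 := by
    apply zero_of_completions
    intro m _
    rw [← AdicCompletion.map_comp]
    exact (hh m).linearMap_comp_eq_zero
  have hle : LinearMap.range f ≤ LinearMap.ker g := by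
    rintro _ ⟨z, rfl⟩
    exact congrArg (fun φ => φ z) hgf
  let gbar : (M ⧸ LinearMap.range f) →ₗ[A] M'' := (LinearMap.range f).liftQ g hle
  have hgbar : gbar ∘ₗ (LinearMap.range f).mkQ = g := Submodule.liftQ_mkQ _ _ _
  have hπf : (LinearMap.range f).mkQ ∘ₗ f = 0 := by
    ext z
    simp
  have hinj : Function.Injective gbar := by
    apply injective_of_completions
    intro m _
    rw [injective_iff_map_eq_zero]
    intro x hx
    obtain ⟨y, rfl⟩ := AdicCompletion.map_surjective m (Submodule.mkQ_surjective (LinearMap.range f)) x
    rw [AdicCompletion.map_comp_apply, hgbar] at hx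
    obtain ⟨z, rfl⟩ := (hh m y).mp hx
    rw [AdicCompletion.map_comp_apply, hπf, AdicCompletion.map_zero]
    rfl
  refine LinearMap.exact_of_comp_eq_zero_of_ker_le_range hgf ?_
  intro y hy
  have h1 : gbar ((LinearMap.range f).mkQ y) = 0 := by
    have := congrArg (fun φ => φ y) hgbar
    exact this.trans hy
  have h2 := hinj (h1.trans (map_zero gbar).symm)
  exact (Submodule.Quotient.mk_eq_zero _).mp h2

theorem main (A : Type u) [CommRing A] [IsNoetherianRing A]
    (M' M M'' : Type u) [AddCommGroup M'] [Module A M'] [AddCommGroup M] [Module A M] [AddCommGroup M''] [Module A M'']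
    [Module.Finite A M'] [Module.Finite A M] [Module.Finite A M''] (f : M' →ₗ[A] M) (g : M →ₗ[A] M'') :
    (Function.Injective f ∧ Function.Exact f g ∧ Function.Surjective g) ↔
      ∀ (m : Ideal A) [m.IsMaximal],
        Function.Injective (AdicCompletion.map m f) ∧ Function.Exact (AdicCompletion.map m f) (AdicCompletion.map m g) ∧
          Function.Surjective (AdicCompletion.map m g) := by
  constructor
  · rintro ⟨hf, hfg, hg⟩ m _
    exact ⟨AdicCompletion.map_injective m hf, AdicCompletion.map_exact hf hfg hg,
      AdicCompletion.map_surjective m hg⟩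
  · intro h
    exact ⟨injective_of_completions f (fun m _ => (h m).1),
      exact_of_completions f g (fun m _ => (h m).2.1),
      surjective_of_completions g (fun m _ => (h m).2.2)⟩


end


/-- Let A be a Noetherian commutative ring and f : M' → M, g : M → M'' linear maps between finitely
generated A-modules. Then the sequence 0 → M' → M → M'' → 0 is exact — f injective, the image of f
equal to the kernel of g, g surjective — if and only if for every maximal ideal m of A the sequence
of m-adic completions 0 → M'^ → M^ → M''^ → 0 (maps induced by f and g) is exact in the same sense. -/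
theorem result (A : Type u) [CommRing A] [IsNoetherianRing A]
    (M' M M'' : Type u) [AddCommGroup M'] [Module A M'] [AddCommGroup M] [Module A M] [AddCommGroup M''] [Module A M'']
    [Module.Finite A M'] [Module.Finite A M] [Module.Finite A M''] (f : M' →ₗ[A] M) (g : M →ₗ[A] M'') :
    (Function.Injective f ∧ Function.Exact f g ∧ Function.Surjective g) ↔
      ∀ (m : Ideal A) [m.IsMaximal],
        Function.Injective (AdicCompletion.map m f) ∧ Function.Exact (AdicCompletion.map m f) (AdicCompletion.map m g) ∧
          Function.Surjective (AdicCompletion.map m g) := by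
  classical
  exact main A M' M M'' f g

end Groth.Agent.S14680
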