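import Groth.Statements.S14692
import Groth.Agent.Lib.Helper3.Kummer2

set_option autoImplicit false
universe u
open CAlg

namespace Groth.Agent.S14692

/-- Let R be a discrete valuation ring of characteristic zero and residue characteristic p, with
uniformizer π and a primitive p^n-th root of unity ζ (n ≥ 1), and A a Noetherian integrally closed
domain which is a faithfully flat R-algebra, in which πA is a prime ideal and every element that is
a unit modulo π is a unit (as when A is π-adically complete, or local). Let f, g be units of A, j a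
natural number with π^{p^{n−1}(p−1)(j+1)} dividing p (that is, j is less than the valuation of ζ −
1, so that the polynomials ((1 + π^{j}T)^{p^n} − 1)/π^{jp^n} and ((1 + π^{j+1}T)^{p^n} −
1)/π^{(j+1)p^n} have coefficients in R), and f₀ ∈ A with f·g^{p^n} = 1 + π^{j p^n}·f₀; suppose j is
maximal with this property: there is no unit g' of A with f·g'^{p^n} ≡ 1 modulo π^{(j+1)p^n}.
Suppose moreover that the algebra L = A[1/π][Z]/(Z^{p^n} − f) is an integral domain (the
μ_{p^n}-torsor Z^{p^n} = f is connected on the generic fibre) and that, B denoting the integral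
closure of A in L (the normalization of Spec A in that cover), the ideal πB is radical (the
normalization has reduced special fibre). Then f₀ is not congruent modulo πA to a p^n-th power. (The
published statement phrases the hypothesis on j as: the class of the torsor Z^{p^n} = f lies in
H¹(Spec A, G_{π^j,n}) and not in H¹(Spec A, G_{π^{j+1},n}); the conditions on g and g' are its
ring-theoretic form, which is the first assertion of the same lemma; A is there factorial and
π-adically complete, or normal local, which this row keeps only through the consequences used: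
integrally closed, and units lift modulo π.) -/
theorem result
    (R : Type u) [CommRing R] [IsDomain R] [IsDiscreteValuationRing R] [CharZero R]
    (p : ℕ) [Fact p.Prime] [CharP (IsLocalRing.ResidueField R) p] (ϖ : R) (hϖ : Irreducible ϖ)
    (n : ℕ) (hn : 0 < n) (ζ : R) (hζ : IsPrimitiveRoot ζ (p ^ n))
    (A : Type u) [CommRing A] [IsDomain A] [IsNoetherianRing A] [IsIntegrallyClosed A] [Algebra R A]
    [Module.FaithfullyFlat R A]
    (hprime : (Ideal.span {algebraMap R A ϖ}).IsPrime)
    (hlift : ∀ a : A, IsUnit (Ideal.Quotient.mk (Ideal.span {algebraMap R A ϖ}) a) → IsUnit a)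
    (f g : Aˣ) (j : ℕ) (hj : ϖ ^ (p ^ (n - 1) * (p - 1) * (j + 1)) ∣ (p : R)) (f₀ : A)
    (hfg : (f : A) * (g : A) ^ (p ^ n) = 1 + (algebraMap R A ϖ) ^ (j * p ^ n) * f₀)
    (hmax : ∀ (g' : Aˣ) (c : A), (f : A) * (g' : A) ^ (p ^ n) ≠ 1 + (algebraMap R A ϖ) ^ ((j + 1) * p ^ n) * c)
    [IsDomain (AdjoinRoot (Polynomial.X ^ (p ^ n) - Polynomial.C (algebraMap A (Localization.Away (algebraMap R A ϖ)) (f : A))))]
    (hred : (Ideal.span {algebraMap A (integralClosure A (AdjoinRoot (Polynomial.X ^ (p ^ n) - Polynomial.C (algebraMap A (Localization.Away (algebraMap R A ϖ)) (f : A))))) (algebraMap R A ϖ)}).IsRadical)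
    (g₀ : A) : f₀ - g₀ ^ (p ^ n) ∉ Ideal.span {(algebraMap R A ϖ)} := by
  classical
  obtain ⟨n', rfl⟩ := Nat.exists_eq_succ_of_ne_zero hn.ne'
  have hp : p.Prime := Fact.out
  obtain ⟨N', hN⟩ : ∃ N', p ^ (n' + 1) = N' + 1 :=
    ⟨p ^ (n' + 1) - 1, by have := Nat.pow_pos (n := n' + 1) hp.pos; omega⟩
  have hj' : ϖ ^ (p ^ n' * (p - 1) * (j + 1)) ∣ ((p : ℕ) : R) := by
    simpa using hj
  have hdiv : ∀ i, 0 < i → i < N' + 1 →
      (algebraMap R A ϖ) ^ ((j + 1) * (N' + 1 - i)) ∣ (((N' + 1).choose i : ℕ) : A) := by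
    intro i hi hiN
    have h := Groth.Agent.Lib.Helper3.Kummer1.pi_dvd_choose ϖ p n' j hp hj' i (N' + 1 - i) hi
      (by omega) (by omega)
    have := map_dvd (algebraMap R A) h
    rw [hN] at this
    simpa only [map_pow, map_natCast] using this
  choose! ρ hρ using hdiv
  have hpϖ : (algebraMap R A ϖ) ∣ ((p : ℕ) : A) := by
    have h1 : ϖ ∣ ((p : ℕ) : R) := by
      refine dvd_trans (dvd_pow_self ϖ ?_) hj'
      have := hp.two_le
      have h2 : 0 < p ^ n' := Nat.pow_pos (n := n') hp.pos
      have h3 : 0 < p - 1 := by omega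
      exact (Nat.mul_pos (Nat.mul_pos h2 h3) (Nat.succ_pos j)).ne'
    have := map_dvd (algebraMap R A) h1
    simpa only [map_natCast] using this
  -- the domain `L`
  set a : Localization.Away (algebraMap R A ϖ) :=
    algebraMap A (Localization.Away (algebraMap R A ϖ)) (f : A) with ha
  have hϖL : IsUnit (algebraMap A (AdjoinRoot (Polynomial.X ^ (p ^ (n' + 1)) - Polynomial.C a))
      (algebraMap R A ϖ)) := by
    rw [IsScalarTower.algebraMap_apply A (Localization.Away (algebraMap R A ϖ))
      (AdjoinRoot (Polynomial.X ^ (p ^ (n' + 1)) - Polynomial.C a))]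
    exact (IsLocalization.Away.algebraMap_isUnit (algebraMap R A ϖ)).map _
  have hϖ0 : algebraMap R A ϖ ≠ 0 := by
    intro h0
    have h1 := congrArg
      (algebraMap A (AdjoinRoot (Polynomial.X ^ (p ^ (n' + 1)) - Polynomial.C a))) h0
    rw [h1, map_zero] at hϖL
    exact not_isUnit_zero hϖL
  haveI : IsDomain (Localization.Away (algebraMap R A ϖ)) :=
    IsLocalization.isDomain_localization
      (powers_le_nonZeroDivisors_of_noZeroDivisors hϖ0)
  have hinj : Function.Injective (algebraMap (Localization.Away (algebraMap R A ϖ))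
      (AdjoinRoot (Polynomial.X ^ (p ^ (n' + 1)) - Polynomial.C a))) := by
    rw [AdjoinRoot.algebraMap_eq]
    apply AdjoinRoot.of.injective_of_degree_ne_zero
    rw [Polynomial.degree_X_pow_sub_C (Nat.pow_pos (n := n' + 1) hp.pos)]
    exact_mod_cast (Nat.pow_pos (n := n' + 1) hp.pos).ne'
  have hz : (AdjoinRoot.root (Polynomial.X ^ (p ^ (n' + 1)) - Polynomial.C a)) ^ (N' + 1) =
      algebraMap A (AdjoinRoot (Polynomial.X ^ (p ^ (n' + 1)) - Polynomial.C a)) (f : A) := by
    have h := AdjoinRoot.eval₂_root (Polynomial.X ^ (p ^ (n' + 1)) - Polynomial.C a)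
    rw [Polynomial.eval₂_sub, Polynomial.eval₂_pow, Polynomial.eval₂_X, Polynomial.eval₂_C,
      sub_eq_zero] at h
    rw [← hN, h, IsScalarTower.algebraMap_apply A (Localization.Away (algebraMap R A ϖ))
      (AdjoinRoot (Polynomial.X ^ (p ^ (n' + 1)) - Polynomial.C a)), AdjoinRoot.algebraMap_eq]
  have hfg' : (f : A) * (g : A) ^ (N' + 1) = 1 + (algebraMap R A ϖ) ^ (j * (N' + 1)) * f₀ := by
    rw [← hN]; exact hfg
  have hmax' : ∀ (g' : Aˣ) (c : A),
      (f : A) * (g' : A) ^ (N' + 1) ≠ 1 + (algebraMap R A ϖ) ^ ((j + 1) * (N' + 1)) * c := by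
    intro g' c; rw [← hN]; exact hmax g' c
  have key := Groth.Agent.Lib.Helper3.Kummer2.key
    (A := A) (L := AdjoinRoot (Polynomial.X ^ (p ^ (n' + 1)) - Polynomial.C a))
    (Localization.Away (algebraMap R A ϖ)) (algebraMap R A ϖ) hinj ρ p n' j N' hp hN
    (fun i k hi hk hik => by
      have := hρ i hi (by omega)
      rwa [show N' + 1 - i = k by omega] at this)
    hpϖ hlift f g f₀ hfg' hmax' (AdjoinRoot.root _) hz hred g₀
  rw [← hN] at key
  exact key

end Groth.Agent.S14692
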