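import Groth.Statements.S14727
import Mathlib
import Groth.Agent.Lib.Helper3.SemiLocComp

set_option autoImplicit false
universe u
open ValPrufer

namespace Groth.Agent.S14727

/-- Let R be a semilocal ring (finitely many maximal ideals) and I an ideal of R of co-height zero, i.e.
every prime ideal containing I is maximal. Then the canonical map from the I-adic completion of R to
the product, over the maximal ideals m ⊇ I, of the I-adic completions of the local rings R_m
(equivalently their IR_m-adic completions) is bijective; it is the continuous ring isomorphism of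
the source, stated here as bijectivity of the canonical map of completed modules. -/
theorem result
    (R : Type u) [CommRing R] (hR : Finite (MaximalSpectrum R)) (I : Ideal R)
    (hI : ∀ (p : Ideal R), p.IsPrime → I ≤ p → p.IsMaximal) :
    Function.Bijective (LinearMap.pi (fun m : {m : MaximalSpectrum R // I ≤ m.asIdeal} =>
      AdicCompletion.map I (Algebra.linearMap R (Localization.AtPrime m.1.asIdeal)))) := by
  classical
  haveI := hR
  have hJ : ∀ n : ℕ, ∀ p : Ideal R, p.IsPrime → I ^ n ≤ p → I ≤ p :=
    fun n p hp h => hp.le_of_pow_le h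
  have hmem : ∀ (m : MaximalSpectrum R) (n : ℕ) (z : Localization.AtPrime m.asIdeal),
      z ∈ (I ^ n • ⊤ : Submodule R (Localization.AtPrime m.asIdeal)) ↔
        z ∈ (I ^ n).map (algebraMap R (Localization.AtPrime m.asIdeal)) := by
    intro m n z
    rw [Ideal.smul_top_eq_map]
    rfl
  have hmemR : ∀ (n : ℕ) (z : R), z ∈ (I ^ n • ⊤ : Submodule R R) ↔ z ∈ I ^ n := by
    intro n z
    rw [smul_eq_mul, Ideal.mul_top]
  constructor
  · rw [injective_iff_map_eq_zero]
    intro x hx
    obtain ⟨a, rfl⟩ := AdicCompletion.mk_surjective I R x
    apply AdicCompletion.ext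
    intro n
    rw [AdicCompletion.mk_apply_coe, AdicCompletion.val_zero_apply, Submodule.mkQ_apply,
      Submodule.Quotient.mk_eq_zero, hmemR]
    refine Groth.Agent.Helper3.SemiLocComp.mem_of_forall_mem_locIdeal (hJ n) (a n) (fun m => ?_)
    have h1 : AdicCompletion.map I (Algebra.linearMap R (Localization.AtPrime m.1.asIdeal))
        (AdicCompletion.mk I R a) = 0 := congrFun hx m
    have h2 := congrArg (fun z => z.val n) h1
    simp only [AdicCompletion.map_mk, AdicCompletion.mk_apply_coe, AdicCompletion.val_zero_apply,
      Submodule.mkQ_apply, Submodule.Quotient.mk_eq_zero] at h2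
    exact (hmem m.1 n _).mp h2
  · intro y
    choose b hb using fun m => AdicCompletion.mk_surjective I _ (y m)
    choose r hr using fun n => Groth.Agent.Helper3.SemiLocComp.exists_approx hI (hJ n)
      (fun m => (b m) n)
    have hc : ∀ n, r n ≡ r (n + 1) [SMOD (I ^ n • ⊤ : Submodule R R)] := by
      intro n
      rw [SModEq.sub_mem, hmemR]
      refine Groth.Agent.Helper3.SemiLocComp.mem_of_forall_mem_locIdeal (hJ n) _ (fun m => ?_)
      show algebraMap R (Localization.AtPrime m.1.asIdeal) (r n - r (n + 1)) ∈
        (I ^ n).map (algebraMap R (Localization.AtPrime m.1.asIdeal))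
      have e1 := hr n m
      have e2 : algebraMap R (Localization.AtPrime m.1.asIdeal) (r (n + 1)) - (b m) (n + 1) ∈
          (I ^ n).map (algebraMap R (Localization.AtPrime m.1.asIdeal)) :=
        Ideal.map_mono (Ideal.pow_le_pow_right (Nat.le_succ n)) (hr (n + 1) m)
      have e3 : (b m) n - (b m) (n + 1) ∈
          (I ^ n).map (algebraMap R (Localization.AtPrime m.1.asIdeal)) := by
        rw [← hmem]
        exact SModEq.sub_mem.mp ((b m).property (Nat.le_succ n))
      have : algebraMap R (Localization.AtPrime m.1.asIdeal) (r n - r (n + 1)) =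
          (algebraMap R _ (r n) - (b m) n) - (algebraMap R _ (r (n + 1)) - (b m) (n + 1)) +
            ((b m) n - (b m) (n + 1)) := by
        rw [map_sub]; ring
      rw [this]
      exact Ideal.add_mem _ (Ideal.sub_mem _ e1 e2) e3
    refine ⟨AdicCompletion.mk I R (AdicCompletion.AdicCauchySequence.mk I R r hc), funext fun m => ?_⟩
    show AdicCompletion.map I (Algebra.linearMap R (Localization.AtPrime m.1.asIdeal))
        (AdicCompletion.mk I R (AdicCompletion.AdicCauchySequence.mk I R r hc)) = y m
    rw [← hb m]
    apply AdicCompletion.ext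
    intro n
    simp only [AdicCompletion.map_mk, AdicCompletion.mk_apply_coe, Submodule.mkQ_apply]
    rw [Submodule.Quotient.eq, hmem]
    exact hr n m

end Groth.Agent.S14727
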