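import Groth.Statements.S14728
import Mathlib

set_option autoImplicit false
universe u
open ValPrufer

namespace Groth.Agent.S14728

section


/-- elementwise reformulation, forward direction -/
theorem L1_mp (R : Type u) [CommRing R] [IsDomain R] (p : Ideal R) [p.IsPrime]
    (h : ValuationRing (Localization.AtPrime p)) (a b : R) :
    ∃ u : R, u ∉ p ∧ ∃ c : R, a * c = b * u ∨ b * c = a * u := by
  have hinj : Function.Injective (algebraMap R (Localization.AtPrime p)) :=
    IsLocalization.injective _ (Ideal.primeCompl_le_nonZeroDivisors p)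
  obtain ⟨c, hc⟩ := ValuationRing.cond (algebraMap R (Localization.AtPrime p) a)
    (algebraMap R (Localization.AtPrime p) b)
  obtain ⟨⟨c', u⟩, hcu⟩ := IsLocalization.surj p.primeCompl c
  simp only at hcu
  refine ⟨u.1, u.2, c', ?_⟩
  rcases hc with hc | hc
  · left
    apply hinj
    rw [map_mul, map_mul, ← hcu, ← hc]
    ring
  · right
    apply hinj
    rw [map_mul, map_mul, ← hcu, ← hc]
    ring

/-- elementwise reformulation, backward direction -/
theorem L1_mpr (T : Type u) [CommRing T] [IsDomain T] (q : Ideal T) [q.IsPrime]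
    (h : ∀ a b : T, ∃ u : T, u ∉ q ∧ ∃ c : T, a * c = b * u ∨ b * c = a * u) :
    ValuationRing (Localization.AtPrime q) := by
  refine @ValuationRing.mk _ _ _ ⟨fun x y => ?_⟩
  obtain ⟨a, s, rfl⟩ := IsLocalization.exists_mk'_eq q.primeCompl x
  obtain ⟨b, t, rfl⟩ := IsLocalization.exists_mk'_eq q.primeCompl y
  obtain ⟨u, hu, c, hc⟩ := h a b
  let u' : q.primeCompl := ⟨u, hu⟩
  rcases hc with hc | hc
  · refine ⟨IsLocalization.mk' _ (c * s) (u' * t), Or.inl ?_⟩
    rw [← IsLocalization.mk'_mul, IsLocalization.mk'_eq_iff_eq]
    congr 1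
    show (t : T) * (a * (c * s)) = (s * (u * t)) * b
    linear_combination ((s : T) * t) * hc
  · refine ⟨IsLocalization.mk' _ (c * t) (u' * s), Or.inr ?_⟩
    rw [← IsLocalization.mk'_mul, IsLocalization.mk'_eq_iff_eq]
    congr 1
    show (s : T) * (b * (c * t)) = (t * (u * s)) * a
    linear_combination ((s : T) * t) * hc

theorem main
    (R : Type u) [CommRing R] [IsDomain R]
    (hR : ∀ (p : Ideal R) [p.IsPrime], ValuationRing (Localization.AtPrime p))
    (S : Submonoid R) (B : Type u) [CommRing B] [IsDomain B] [Algebra R B] [IsLocalization S B]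
    (I : Ideal R) [I.IsPrime] :
    (∀ (q : Ideal B) [q.IsPrime], ValuationRing (Localization.AtPrime q)) ∧
      (∀ (q : Ideal (R ⧸ I)) [q.IsPrime], ValuationRing (Localization.AtPrime q)) := by
  constructor
  · intro q hq
    apply L1_mpr
    intro a' b'
    obtain ⟨a, s, rfl⟩ := IsLocalization.exists_mk'_eq S a'
    obtain ⟨b, t, rfl⟩ := IsLocalization.exists_mk'_eq S b'
    have hp : (q.comap (algebraMap R B)).IsPrime := Ideal.comap_isPrime _ q
    obtain ⟨u, hu, c, hc⟩ := L1_mp R (q.comap (algebraMap R B)) (hR _) a b
    refine ⟨algebraMap R B u, fun h => hu (Ideal.mem_comap.mpr h), ?_⟩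
    have hsu : IsUnit (algebraMap R B s * algebraMap R B t) :=
      (IsLocalization.map_units B s).mul (IsLocalization.map_units B t)
    have h1 : IsLocalization.mk' B a s * algebraMap R B s = algebraMap R B a :=
      IsLocalization.mk'_spec B a s
    have h2 : IsLocalization.mk' B b t * algebraMap R B t = algebraMap R B b :=
      IsLocalization.mk'_spec B b t
    rcases hc with hc | hc
    · refine ⟨IsLocalization.mk' B (c * s) t, Or.inl ?_⟩
      have h3 : IsLocalization.mk' B (c * s) t * algebraMap R B t =
          algebraMap R B c * algebraMap R B s := by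
        rw [IsLocalization.mk'_spec, map_mul]
      have h4 : algebraMap R B a * algebraMap R B c = algebraMap R B b * algebraMap R B u := by
        rw [← map_mul, ← map_mul, hc]
      apply hsu.mul_left_inj.mp
      linear_combination (IsLocalization.mk' B (c * s) t * algebraMap R B t) * h1 +
        algebraMap R B a * h3 + algebraMap R B s * h4 -
        (algebraMap R B u * algebraMap R B s) * h2
    · refine ⟨IsLocalization.mk' B (c * t) s, Or.inr ?_⟩
      have h3 : IsLocalization.mk' B (c * t) s * algebraMap R B s =
          algebraMap R B c * algebraMap R B t := by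
        rw [IsLocalization.mk'_spec, map_mul]
      have h4 : algebraMap R B b * algebraMap R B c = algebraMap R B a * algebraMap R B u := by
        rw [← map_mul, ← map_mul, hc]
      apply hsu.mul_left_inj.mp
      linear_combination (IsLocalization.mk' B (c * t) s * algebraMap R B s) * h2 +
        algebraMap R B b * h3 + algebraMap R B t * h4 -
        (algebraMap R B u * algebraMap R B t) * h1
  · intro q hq
    apply L1_mpr
    intro a' b'
    obtain ⟨a, rfl⟩ := Ideal.Quotient.mk_surjective a'
    obtain ⟨b, rfl⟩ := Ideal.Quotient.mk_surjective b'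
    have hp : (q.comap (Ideal.Quotient.mk I)).IsPrime := Ideal.comap_isPrime _ q
    obtain ⟨u, hu, c, hc⟩ := L1_mp R (q.comap (Ideal.Quotient.mk I)) (hR _) a b
    refine ⟨Ideal.Quotient.mk I u, fun h => hu (Ideal.mem_comap.mpr h), Ideal.Quotient.mk I c, ?_⟩
    rcases hc with hc | hc
    · left
      rw [← map_mul, ← map_mul, hc]
    · right
      rw [← map_mul, ← map_mul, hc]


end


/-- Let R be a Prüfer domain, i.e. a domain all of whose local rings at primes are valuation rings. (a)
For a multiplicative subset S, any localisation B = S⁻¹R that is a domain (S not containing 0) is a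
Prüfer domain. (b) For a prime ideal I, the quotient R/I is a Prüfer domain. -/
theorem result
    (R : Type u) [CommRing R] [IsDomain R]
    (hR : ∀ (p : Ideal R) [p.IsPrime], ValuationRing (Localization.AtPrime p))
    (S : Submonoid R) (B : Type u) [CommRing B] [IsDomain B] [Algebra R B] [IsLocalization S B]
    (I : Ideal R) [I.IsPrime] :
    (∀ (q : Ideal B) [q.IsPrime], ValuationRing (Localization.AtPrime q)) ∧
      (∀ (q : Ideal (R ⧸ I)) [q.IsPrime], ValuationRing (Localization.AtPrime q)) := by
  classical
  exact main R hR S B I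

end Groth.Agent.S14728
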