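import Groth.Statements.S14730
import Mathlib
import Groth.Agent.S14729
import Groth.Agent.Lib.Helper9.ValDim
-- import your own Groth.Agent.* helpers here

set_option autoImplicit false
universe u
open ValPrufer

namespace Groth.Agent.S14730

namespace Aux

open Groth.Agent.Lib.Helper9.ValDim

theorem main
    (R : Type u) [CommRing R] [IsDomain R]
    (hR : ∀ (p : Ideal R) [p.IsPrime], ValuationRing (Localization.AtPrime p))
    (hfin : Finite (MaximalSpectrum R)) (s : Finset R) :
    ∃ R' : Subring R, (↑s : Set R) ⊆ R' ∧
      (∀ (p : Ideal R') [p.IsPrime], ValuationRing (Localization.AtPrime p)) ∧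
      Finite (MaximalSpectrum R') ∧ ringKrullDim R' < ⊤ := by
  classical
  let L := FractionRing R
  let S : Set L := (algebraMap R L) '' (s : Set R)
  have hSfin : S.Finite := (Finset.finite_toSet s).image _
  let K' : Subfield L := Subfield.closure S
  obtain ⟨hA1, hA2, hA3⟩ := Groth.Agent.S14729.result R L hR hfin K'
  set A : Subring L := (algebraMap R L).range ⊓ K'.toSubring with hAdef
  let R' : Subring R := A.comap (algebraMap R L)
  have hinj : Function.Injective (algebraMap R L) := IsFractionRing.injective R L
  have hmemR' : ∀ r : R, r ∈ R' ↔ algebraMap R L r ∈ K' := by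
    intro r
    change algebraMap R L r ∈ A ↔ _
    rw [hAdef, Subring.mem_inf]
    exact ⟨fun h => h.2, fun h => ⟨⟨r, rfl⟩, h⟩⟩
  -- the ring iso
  let f : R' →+* A := ((algebraMap R L).comp R'.subtype).codRestrict A (fun r => r.2)
  have hfbij : Function.Bijective f := by
    constructor
    · intro a b hab
      have h1 : algebraMap R L a.1 = algebraMap R L b.1 := congrArg Subtype.val hab
      exact Subtype.ext (hinj h1)
    · rintro ⟨x, hx⟩
      have hx' := hx
      rw [hAdef, Subring.mem_inf] at hx'
      obtain ⟨⟨r, hr⟩, hxK⟩ := hx'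
      have hr' : r ∈ R' := by
        rw [hmemR', hr]; exact hxK
      exact ⟨⟨r, hr'⟩, Subtype.ext hr⟩
  let e : R' ≃+* A := RingEquiv.ofBijective f hfbij
  refine ⟨R', ?_, ?_, ?_, ?_⟩
  · intro r hr
    change r ∈ R'
    rw [hmemR']
    exact Subfield.subset_closure ⟨r, hr, rfl⟩
  · intro p hp
    have hsurj : Function.Surjective (e.symm : A →+* R') := e.symm.surjective
    have hs1 := RingHom.surjective_localRingHom_of_surjective (e.symm : A →+* R') hsurj p
    haveI := hA1 (p.comap (e.symm : A →+* R'))
    exact Function.Surjective.valuationRing _ hs1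
  · let g : MaximalSpectrum R' → MaximalSpectrum A := fun m =>
      ⟨m.asIdeal.comap (e.symm : A →+* R'),
        Ideal.comap_isMaximal_of_surjective _ e.symm.surjective (K := m.asIdeal) (H := m.isMaximal)⟩
    have hg : Function.Injective g := by
      intro m m' h
      have h1 : m.asIdeal.comap (e.symm : A →+* R') = m'.asIdeal.comap (e.symm : A →+* R') :=
        congrArg MaximalSpectrum.asIdeal h
      have h2 := Ideal.comap_injective_of_surjective (e.symm : A →+* R') e.symm.surjective h1
      exact MaximalSpectrum.ext h2
    exact Finite.of_injective g hg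
  · -- fraction field of R' is K'
    let φ : R' →+* ↥K' := ((algebraMap R L).comp R'.subtype).codRestrict K'
      (fun r => (hmemR' r.1).mp r.2)
    letI : Algebra R' ↥K' := φ.toAlgebra
    have hφinj : Function.Injective φ := by
      intro a b hab
      have h1 : algebraMap R L a.1 = algebraMap R L b.1 := congrArg Subtype.val hab
      exact Subtype.ext (hinj h1)
    haveI : FaithfulSMul R' ↥K' := (faithfulSMul_iff_algebraMap_injective R' ↥K').mpr hφinj
    haveI : IsFractionRing R' ↥K' := by
      apply IsFractionRing.of_field
      rintro ⟨z, hz⟩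
      obtain ⟨a, b, ha, hb, hb0, hzab⟩ := hA3 z hz
      obtain ⟨⟨ra, hra⟩, haK⟩ := (Subring.mem_inf.mp ha)
      obtain ⟨⟨rb, hrb⟩, hbK⟩ := (Subring.mem_inf.mp hb)
      have hra' : ra ∈ R' := by rw [hmemR', hra]; exact haK
      have hrb' : rb ∈ R' := by rw [hmemR', hrb]; exact hbK
      refine ⟨⟨ra, hra'⟩, ⟨rb, hrb'⟩, ?_⟩
      apply Subtype.ext
      change z = algebraMap R L ra / algebraMap R L rb
      rw [hra, hrb, hzab]
    obtain ⟨d, hd⟩ := exists_trdeg_closure_eq_nat L S hSfin
    have hle : ringKrullDim R' ≤ ((d + 1 : ℕ) : WithBot ℕ∞) := by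
      rw [ringKrullDim_le_iff_isMaximal_height_le]
      intro M hM
      haveI := hM.isPrime
      have hsurj : Function.Surjective (e.symm : A →+* R') := e.symm.surjective
      have hs2 := RingHom.surjective_localRingHom_of_surjective (e.symm : A →+* R') hsurj M
      haveI := hA1 (M.comap (e.symm : A →+* R'))
      haveI : ValuationRing (Localization.AtPrime M) := Function.Surjective.valuationRing _ hs2
      exact height_le_of_valuationRing_localization R' ↥K' d hd M
    exact lt_of_le_of_lt hle (WithBot.coe_lt_coe.mpr (ENat.coe_lt_top _))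

end Aux

/-- Let R be a semilocal Prüfer domain (an integral domain with finitely many maximal ideals whose
localisations at primes are valuation rings). Then R is the increasing union of subrings that are
semilocal Prüfer domains of finite Krull dimension; equivalently, every finite subset of R is
contained in such a subring. -/
theorem result
    (R : Type u) [CommRing R] [IsDomain R]
    (hR : ∀ (p : Ideal R) [p.IsPrime], ValuationRing (Localization.AtPrime p))
    (hfin : Finite (MaximalSpectrum R)) (s : Finset R) :
    ∃ R' : Subring R, (↑s : Set R) ⊆ R' ∧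
      (∀ (p : Ideal R') [p.IsPrime], ValuationRing (Localization.AtPrime p)) ∧
      Finite (MaximalSpectrum R') ∧ ringKrullDim R' < ⊤ := by
  exact Aux.main R hR hfin s

end Groth.Agent.S14730
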