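import Groth.Statements.S14731
import Groth.Agent.Lib.Helper6.SmoothModel

set_option autoImplicit false
universe u
open ValPrufer

namespace Groth.Agent.S14731

/-- In characteristic zero, every field K generated as a field by a finite set is the fraction field of
a subring A of K of finite type and smooth over the integers. -/
theorem result
    (K : Type u) [Field K] [CharZero K] (s : Finset K)
    (hs : Subfield.closure (↑s : Set K) = ⊤) :
    ∃ A : Subring K, Algebra.FiniteType ℤ A ∧ Algebra.Smooth ℤ A ∧ IsFractionRing A K := by
  classical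
  have hs' : IntermediateField.adjoin ℚ (s : Set K) = ⊤ := by
    rw [eq_top_iff]
    intro x _
    have hx : x ∈ Subfield.closure (s : Set K) := by rw [hs]; trivial
    have hle : Subfield.closure (s : Set K) ≤
        (IntermediateField.adjoin ℚ (s : Set K)).toSubfield :=
      Subfield.closure_le.2 (IntermediateField.subset_adjoin _ _)
    exact hle hx
  obtain ⟨A, hft, hsm, hfr⟩ := Groth.Agent.Lib.Helper6.SmoothModel.exists_smooth_model
    (R := ℤ) (F := ℚ) s hs'
  let e : A ≃+* A.toSubring :=
    { toFun := fun x => ⟨x.1, x.2⟩
      invFun := fun x => ⟨x.1, x.2⟩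
      left_inv := fun _ => rfl
      right_inv := fun _ => rfl
      map_mul' := fun _ _ => rfl
      map_add' := fun _ _ => rfl }
  refine ⟨A.toSubring, Algebra.FiniteType.equiv hft e.toIntAlgEquiv,
    Algebra.Smooth.of_equiv e.toIntAlgEquiv, ?_⟩
  haveI : FaithfulSMul A.toSubring K :=
    (faithfulSMul_iff_algebraMap_injective A.toSubring K).2 Subtype.val_injective
  refine IsFractionRing.of_field _ _ fun z => ?_
  obtain ⟨x, y, _, hxy⟩ := IsFractionRing.div_surjective A z
  exact ⟨e x, e y, hxy.symm⟩

end Groth.Agent.S14731
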