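import Groth.Statements.S14732
import Groth.Agent.Lib.Helper6.SmoothModel

set_option autoImplicit false
universe u
open ValPrufer

namespace Groth.Agent.S14732

/-- In characteristic p > 0, a field K that is finitely generated over its prime subfield F (a field
with p elements) is the fraction field of an integral scheme smooth over F; concretely, there is an
F-subalgebra A of K, of finite type and smooth over F, whose fraction field is K. -/
theorem result
    (K : Type u) [Field K] (p : ℕ) [Fact p.Prime] [CharP K p] (s : Finset K)
    (hs : Subfield.closure (↑s : Set K) = ⊤) :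
    ∃ A : Subalgebra (⊥ : Subfield K) K, Algebra.FiniteType (⊥ : Subfield K) A ∧
      Algebra.Smooth (⊥ : Subfield K) A ∧ IsFractionRing A K := by
  classical
  haveI hfin : Finite (⊥ : Subfield K) := by
    letI := ZMod.algebra K p
    rw [Subfield.bot_eq_of_zMod_algebra p]
    have : ((algebraMap (ZMod p) K).fieldRange : Set K).Finite := by
      rw [RingHom.coe_fieldRange]
      exact Set.finite_range _
    exact this.to_subtype
  haveI : PerfectField (⊥ : Subfield K) := inferInstance
  haveI : IsFractionRing (⊥ : Subfield K) (⊥ : Subfield K) :=
    IsFractionRing.of_field _ _ fun z => ⟨z, 1, by simp⟩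
  have hs' : IntermediateField.adjoin (⊥ : Subfield K) (s : Set K) = ⊤ := by
    rw [eq_top_iff]
    intro x _
    have hx : x ∈ Subfield.closure (s : Set K) := by rw [hs]; trivial
    have hle : Subfield.closure (s : Set K) ≤
        (IntermediateField.adjoin (⊥ : Subfield K) (s : Set K)).toSubfield :=
      Subfield.closure_le.2 (IntermediateField.subset_adjoin _ _)
    exact hle hx
  exact Groth.Agent.Lib.Helper6.SmoothModel.exists_smooth_model
    (R := (⊥ : Subfield K)) (F := (⊥ : Subfield K)) s hs'

end Groth.Agent.S14732
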