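import Groth.Statements.S14738
import Mathlib
import Groth.Agent.Lib.Helper9.Prufer.FinSpec
import Groth.Agent.Lib.Helper9.ValEt.Core1
-- import your own Groth.Agent.* helpers here

set_option autoImplicit false
universe u
open ValPrufer

namespace Groth.Agent.S14738

namespace Aux

open Groth.Agent.Helper9

theorem main
    (R : Type u) [CommRing R] [IsDomain R]
    (hR : ∀ (p : Ideal R) [p.IsPrime], ValuationRing (Localization.AtPrime p))
    (hfin : Finite (MaximalSpectrum R)) (hdim : ringKrullDim R < ⊤)
    (m : Ideal R) [hm : m.IsMaximal] :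
    (∃ a : R, ∀ (p : Ideal R), p.IsPrime → (a ∈ p ↔ p = m)) ∧
      ∃ b : R, b ∉ m ∧ IsLocalization.AtPrime (Localization.Away b) m := by
  classical
  have hspec : Finite (PrimeSpectrum R) :=
    Prufer.finite_primeSpectrum_of_semilocal_prufer R hR hfin hdim
  have : Fintype (PrimeSpectrum R) := Fintype.ofFinite _
  have hmp : m.IsPrime := hm.isPrime
  constructor
  · -- prime avoidance
    let m' : PrimeSpectrum R := ⟨m, hmp⟩
    let s : Finset (PrimeSpectrum R) := Finset.univ.filter (· ≠ m')
    have hnot : ¬ ((m : Set R) ⊆ ⋃ i ∈ (↑s : Set (PrimeSpectrum R)), (i.asIdeal : Set R)) := by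
      intro hsub
      rw [Ideal.subset_union_prime (f := fun i : PrimeSpectrum R => i.asIdeal) m' m'
        (fun i _ _ _ => i.2)] at hsub
      obtain ⟨i, hi, hmi⟩ := hsub
      have : m = i.asIdeal := hm.eq_of_le i.2.ne_top hmi
      have hi' : i ≠ m' := (Finset.mem_filter.mp hi).2
      exact hi' (PrimeSpectrum.ext this.symm)
    rw [Set.not_subset] at hnot
    obtain ⟨a, ham, hau⟩ := hnot
    refine ⟨a, fun p hp => ⟨fun hap => ?_, fun h => h ▸ ham⟩⟩
    by_contra hne
    apply hau
    simp only [Set.mem_iUnion]
    refine ⟨⟨p, hp⟩, ?_, hap⟩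
    rw [Finset.mem_coe, Finset.mem_filter]
    exact ⟨Finset.mem_univ _, fun h => hne (congrArg PrimeSpectrum.asIdeal h)⟩
  · obtain ⟨b, hbm, hb⟩ := ValEt.exists_dvd_pow R m
    refine ⟨b, hbm, ?_⟩
    change IsLocalization m.primeCompl (Localization.Away b)
    rw [isLocalization_iff]
    refine ⟨?_, ?_, ?_⟩
    · rintro ⟨y, hy⟩
      obtain ⟨n, c, hc⟩ := hb y hy
      have hu : IsUnit (algebraMap R (Localization.Away b) (b ^ n)) := by
        rw [map_pow]
        exact (IsLocalization.Away.algebraMap_isUnit b).pow n
      rw [hc, map_mul] at hu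
      exact isUnit_of_mul_isUnit_left hu
    · intro z
      obtain ⟨⟨x, ⟨y, hy⟩⟩, h⟩ := IsLocalization.surj (Submonoid.powers b) z
      obtain ⟨n, rfl⟩ := hy
      exact ⟨⟨x, ⟨b ^ n, fun hbn => hbm (hmp.mem_of_pow_mem n hbn)⟩⟩, h⟩
    · intro x y hxy
      obtain ⟨⟨c, hc⟩, h⟩ := IsLocalization.exists_of_eq (M := Submonoid.powers b) hxy
      obtain ⟨n, rfl⟩ := hc
      exact ⟨⟨b ^ n, fun hbn => hbm (hmp.mem_of_pow_mem n hbn)⟩, h⟩

end Aux

/-- Let R be a semilocal Prüfer domain (an integral domain with finitely many maximal ideals whose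
localisations at primes are valuation rings) of finite Krull dimension, and m a maximal ideal of R.
Then there is a ∈ R with V(a) = {m}, i.e. m is the only prime ideal containing a, and there is b ∉ m
such that R[1/b] is the localisation R_m (every element outside m becomes invertible after inverting
b); consequently the spectra of the local rings R_m form a Zariski open covering of Spec R. (The
published remark assumes positive Krull dimension to construct a; for R a field the assertions hold
with a = 0 and b = 1. It also takes b to be the product of the elements a_n chosen in the same way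
for the other maximal ideals n; that choice fails as soon as a non-maximal prime lies in another
maximal ideal but not in m, e.g. for the intersection of two independent rank-two valuation rings of
a field, so this row asserts only that some such b exists.) -/
theorem result
    (R : Type u) [CommRing R] [IsDomain R]
    (hR : ∀ (p : Ideal R) [p.IsPrime], ValuationRing (Localization.AtPrime p))
    (hfin : Finite (MaximalSpectrum R)) (hdim : ringKrullDim R < ⊤)
    (m : Ideal R) [m.IsMaximal] :
    (∃ a : R, ∀ (p : Ideal R), p.IsPrime → (a ∈ p ↔ p = m)) ∧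
      ∃ b : R, b ∉ m ∧ IsLocalization.AtPrime (Localization.Away b) m := by
  exact Aux.main R hR hfin hdim m

end Groth.Agent.S14738
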