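import Groth.Statements.S14739
import Mathlib
import Groth.Agent.Lib.Helper9.Prufer.FinSpec
-- import your own Groth.Agent.* helpers here

set_option autoImplicit false
universe u
open ValPrufer

namespace Groth.Agent.S14739

namespace Aux

open Groth.Agent.Helper9 TopologicalSpace

theorem noeth_of_finite_base (R : Type u) [CommRing R] [Finite (PrimeSpectrum R)]
    (S : Type u) [CommRing S] [Algebra R S] [Algebra.FiniteType R S] :
    NoetherianSpace (PrimeSpectrum S) := by
  have hfib : ∀ p : PrimeSpectrum R,
      NoetherianSpace (PrimeSpectrum.comap (algebraMap R S) ⁻¹' {p}) := by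
    intro p
    have h1 : Algebra.FiniteType p.asIdeal.ResidueField (p.asIdeal.Fiber S) := inferInstance
    have h2 : IsNoetherianRing (p.asIdeal.Fiber S) :=
      Algebra.FiniteType.isNoetherianRing p.asIdeal.ResidueField _
    exact (noetherianSpace_iff_of_homeomorph (PrimeSpectrum.preimageHomeomorphFiber R S p)).mpr
      inferInstance
  have := NoetherianSpace.iUnion (fun p : PrimeSpectrum R =>
    PrimeSpectrum.comap (algebraMap R S) ⁻¹' {p})
  have hcover : (⋃ p : PrimeSpectrum R, PrimeSpectrum.comap (algebraMap R S) ⁻¹' {p}) =
      Set.univ := by
    ext q
    simp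
  rw [hcover, noetherian_univ_iff] at this
  exact this

theorem main
    (R : Type u) [CommRing R] [IsDomain R]
    (hR : ∀ (p : Ideal R) [p.IsPrime], ValuationRing (Localization.AtPrime p))
    (hfin : Finite (MaximalSpectrum R)) (hdim : ringKrullDim R < ⊤)
    (S : Type u) [CommRing S] [Algebra R S] [Algebra.FiniteType R S]
    (M : Submonoid S) (T : Type u) [CommRing T] [Algebra S T] [IsLocalization M T] :
    TopologicalSpace.NoetherianSpace (PrimeSpectrum S) ∧
      TopologicalSpace.NoetherianSpace (PrimeSpectrum T) := by
  have hspec : Finite (PrimeSpectrum R) :=
    Prufer.finite_primeSpectrum_of_semilocal_prufer R hR hfin hdim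
  have h1 := noeth_of_finite_base R S
  exact ⟨h1, (PrimeSpectrum.localization_comap_isInducing T M).noetherianSpace⟩

end Aux

/-- Let R be a semilocal Prüfer domain (an integral domain with finitely many maximal ideals whose
localisations at primes are valuation rings) of finite Krull dimension and S an R-algebra of finite
type. Then Spec S is a Noetherian topological space, and so is Spec T for every localisation T of S.
(The published remark is for a scheme of finite type over R and the spectrum of any
semilocalisation; the affine case with arbitrary localisations is stated.) -/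
theorem result
    (R : Type u) [CommRing R] [IsDomain R]
    (hR : ∀ (p : Ideal R) [p.IsPrime], ValuationRing (Localization.AtPrime p))
    (hfin : Finite (MaximalSpectrum R)) (hdim : ringKrullDim R < ⊤)
    (S : Type u) [CommRing S] [Algebra R S] [Algebra.FiniteType R S]
    (M : Submonoid S) (T : Type u) [CommRing T] [Algebra S T] [IsLocalization M T] :
    TopologicalSpace.NoetherianSpace (PrimeSpectrum S) ∧
      TopologicalSpace.NoetherianSpace (PrimeSpectrum T) := by
  exact Aux.main R hR hfin hdim S M T

end Groth.Agent.S14739
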