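import Groth.Statements.S14743
import Mathlib

set_option autoImplicit false
universe u
open CategoryTheory MonoidalCategory CartesianMonoidalCategory MonObj GrpObj AlgebraicGeometry
open AlgGrp

namespace Groth.Agent.S14743

section
open CategoryTheory MonoidalCategory CartesianMonoidalCategory MonObj GrpObj AlgebraicGeometry

variable {C : Type*} [Category C] [CartesianMonoidalCategory C] [BraidedCategory C]

theorem core (L G B : C) [GrpObj L] [GrpObj G] [GrpObj B]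
    [IsCommMonObj L] [IsCommMonObj G] [IsCommMonObj B]
    (i : L ⟶ G) [IsMonHom i] (π : G ⟶ B) [IsMonHom π]
    (hker : IsPullback i (toUnit L) π η[B])
    (hconst : ∀ f : B ⊗ B ⟶ L, ∃ l : 𝟙_ C ⟶ L, f = toUnit (B ⊗ B) ≫ l)
    (s : B ⟶ G) (hs : s ≫ π = 𝟙 B) :
    ∃ s' : B ⟶ G, IsMonHom s' ∧ s' ≫ π = 𝟙 B := by
  -- the cocycle
  let c : B ⊗ B ⟶ G := (fst B B ≫ s) * (snd B B ≫ s) * (μ[B] ≫ s)⁻¹
  have hcπ : c ≫ π = toUnit (B ⊗ B) ≫ η[B] := by
    show ((fst B B ≫ s) * (snd B B ≫ s) * (μ[B] ≫ s)⁻¹) ≫ π = _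
    rw [MonObj.mul_comp, MonObj.mul_comp, GrpObj.inv_comp]
    simp only [Category.assoc, hs, Category.comp_id]
    rw [← MonObj.mul_eq_mul, mul_inv_cancel, Hom.one_def]
  obtain ⟨c', hc', -⟩ : ∃ c' : B ⊗ B ⟶ L, c' ≫ i = c ∧ c' ≫ toUnit L = toUnit (B ⊗ B) :=
    ⟨hker.lift c (toUnit _) hcπ, hker.lift_fst _ _ _, hker.lift_snd _ _ _⟩
  obtain ⟨l, hl⟩ := hconst c'
  let g₀ : 𝟙_ C ⟶ G := l ≫ i
  have hc : c = toUnit (B ⊗ B) ≫ g₀ := by
    rw [← hc', hl, Category.assoc]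
  have hg₀π : g₀ ≫ π = η[B] := by
    have h1 : i ≫ π = toUnit L ≫ η[B] := hker.w
    show (l ≫ i) ≫ π = _
    rw [Category.assoc, h1, ← Category.assoc]
    have : l ≫ toUnit L = 𝟙 _ := toUnit_unique _ _
    rw [this, Category.id_comp]
  -- key identity on T-points
  have key : ∀ (T : C) (b b' : T ⟶ B), (b ≫ s) * (b' ≫ s) * ((b * b') ≫ s)⁻¹ = toUnit T ≫ g₀ := by
    intro T b b'
    have h1 : lift b b' ≫ c = lift b b' ≫ toUnit (B ⊗ B) ≫ g₀ := by rw [hc]
    rw [← Category.assoc, toUnit_unique (lift b b' ≫ toUnit (B ⊗ B)) (toUnit T)] at h1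
    rw [← h1]
    show _ = lift b b' ≫ ((fst B B ≫ s) * (snd B B ≫ s) * (μ[B] ≫ s)⁻¹)
    rw [MonObj.comp_mul, MonObj.comp_mul, GrpObj.comp_inv]
    simp only [lift_fst_assoc, lift_snd_assoc]
    rw [Hom.mul_def b b', Category.assoc]
  let s' : B ⟶ G := s * (toUnit B ≫ g₀)⁻¹
  have hs'pt : ∀ (T : C) (b : T ⟶ B), b ≫ s' = (b ≫ s) * (toUnit T ≫ g₀)⁻¹ := by
    intro T b
    show b ≫ (s * (toUnit B ≫ g₀)⁻¹) = _
    rw [MonObj.comp_mul, GrpObj.comp_inv, ← Category.assoc, toUnit_unique (b ≫ toUnit B) (toUnit T)]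
  have hmul : ∀ (T : C) (b b' : T ⟶ B), (b * b') ≫ s' = (b ≫ s') * (b' ≫ s') := by
    intro T b b'
    rw [hs'pt, hs'pt, hs'pt]
    have hAA' : (b ≫ s) * (b' ≫ s) = (toUnit T ≫ g₀) * ((b * b') ≫ s) := by
      rw [← key T b b']; group
    calc (b * b') ≫ s * (toUnit T ≫ g₀)⁻¹
        = ((toUnit T ≫ g₀) * ((b * b') ≫ s)) * ((toUnit T ≫ g₀)⁻¹ * (toUnit T ≫ g₀)⁻¹) := by
          rw [mul_comm (toUnit T ≫ g₀) ((b * b') ≫ s)]; group
      _ = ((b ≫ s) * (b' ≫ s)) * ((toUnit T ≫ g₀)⁻¹ * (toUnit T ≫ g₀)⁻¹) := by rw [hAA']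
      _ = b ≫ s * (toUnit T ≫ g₀)⁻¹ * (b' ≫ s * (toUnit T ≫ g₀)⁻¹) := mul_mul_mul_comm _ _ _ _
  refine ⟨s', ?_, ?_⟩
  · have hmulhom : μ[B] ≫ s' = (s' ⊗ₘ s') ≫ μ[G] := by
      have h1 := hmul (B ⊗ B) (fst B B) (snd B B)
      rw [← MonObj.mul_eq_mul] at h1
      rw [h1, Hom.mul_def]
      congr 1
      ext <;> simp
    have honehom : η[B] ≫ s' = η[G] := by
      have h1 := hmul (𝟙_ C) η[B] η[B]
      have h2 : (η[B] * η[B] : 𝟙_ C ⟶ B) = η[B] := by
        rw [MonObj.one_eq_one, _root_.mul_one]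
      rw [h2] at h1
      have h3 : η[B] ≫ s' = 1 := by
        have := congrArg (fun t => t * (η[B] ≫ s')⁻¹) h1
        simp only [mul_inv_cancel] at this
        rw [_root_.mul_assoc, mul_inv_cancel, _root_.mul_one] at this
        exact this.symm
      rw [h3, MonObj.one_eq_one]
    exact ⟨honehom, hmulhom⟩
  · show (s * (toUnit B ≫ g₀)⁻¹) ≫ π = 𝟙 B
    rw [MonObj.mul_comp, GrpObj.inv_comp, Category.assoc, hg₀π, hs, ← Hom.one_def, inv_one, _root_.mul_one]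

theorem main (k : Type u) [Field k] [IsAlgClosed k]
    (L G B : Over (Spec (CommRingCat.of k))) [GrpObj L] [GrpObj G] [GrpObj B]
    [IsCommMonObj L] [IsCommMonObj G] [IsCommMonObj B]
    (i : L ⟶ G) [IsMonHom i] (π : G ⟶ B) [IsMonHom π] (hker : AlgGrp.IsKernel i π)
    (hconst : ∀ f : B ⊗ B ⟶ L, ∃ l : 𝟙_ (Over (Spec (CommRingCat.of k))) ⟶ L, f = toUnit (B ⊗ B) ≫ l)
    (s : B ⟶ G) (hs : s ≫ π = 𝟙 B) :
    ∃ s' : B ⟶ G, IsMonHom s' ∧ s' ≫ π = 𝟙 B :=
  core L G B i π hker hconst s hs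


end


/-- Over an algebraically closed field k let L, G, B be commutative k-group schemes, i : L → G and π : G
→ B homomorphisms with i the kernel of π, and suppose that every k-morphism B × B → L is constant
(factors through a k-point of L). If π admits a section which is a morphism of k-schemes, then it
admits a section which is a homomorphism, so the extension splits. (The published statement is for
algebraic groups, that is, of finite type over k; finiteness plays no role and is not assumed here.) -/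
theorem result (k : Type u) [Field k] [IsAlgClosed k]
    (L G B : Over (Spec (CommRingCat.of k))) [GrpObj L] [GrpObj G] [GrpObj B]
    [IsCommMonObj L] [IsCommMonObj G] [IsCommMonObj B]
    (i : L ⟶ G) [IsMonHom i] (π : G ⟶ B) [IsMonHom π] (hker : AlgGrp.IsKernel i π)
    (hconst : ∀ f : B ⊗ B ⟶ L, ∃ l : 𝟙_ (Over (Spec (CommRingCat.of k))) ⟶ L, f = toUnit (B ⊗ B) ≫ l)
    (s : B ⟶ G) (hs : s ≫ π = 𝟙 B) :
    ∃ s' : B ⟶ G, IsMonHom s' ∧ s' ≫ π = 𝟙 B := by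
  classical
  exact main k L G B i π hker hconst s hs

end Groth.Agent.S14743
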