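import Groth.Statements.S14765
-- import your own Groth.Agent.* helpers here
import Mathlib
import Groth.Agent.Lib.Helper7.GenFib
import Groth.Agent.Lib.Helper7.SubtrLib
import Groth.Agent.Lib.Helper7.ValSurj
import Groth.Agent.Lib.Helper7.VCov3

set_option autoImplicit false
universe u
open CategoryTheory CategoryTheory.Limits AlgebraicGeometry
open Subtr

namespace Groth.Agent.S14765

/-- Let V be a valuation ring and f : X ⟶ Spec V any morphism of schemes. The following are equivalent:
(a) after every base change, every ordered pair of points of the target (a point and a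
specialization of it) lifts to an ordered pair of points of the source; (b) every ordered pair of
points of Spec V lifts to an ordered pair of points of X; (c) every point of Spec V is the image of
a point of X lying in the closure of the generic fibre; (d) the pair formed by the closed point and
the generic point of Spec V lifts to points x, x' of X with x a specialization of x'; (e) there are
a valuation ring W and a morphism Spec W ⟶ X whose composite with f is surjective; (f) there is a
closed subscheme Z of X such that Z ⟶ Spec V is flat and surjective. (The published list also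
contains subtrusiveness and universal subtrusiveness, which add submersiveness for the constructible
topology, and the lifting of arbitrary chains of points; this row omits those items and keeps the
lifting property alone in (a).) -/
theorem result (V : Type u) [CommRing V] [IsDomain V] [ValuationRing V]
    {X : Scheme.{u}} (f : X ⟶ Spec (CommRingCat.of V)) :
    List.TFAE [
      Subtr.UnivSSubtrusive f,
      Subtr.IsSSubtrusive f,
      ∀ y : Spec (CommRingCat.of V), ∃ x : X,
        x ∈ closure (f ⁻¹' {(⟨⊥, Ideal.isPrime_bot⟩ : PrimeSpectrum V)}) ∧ f x = y,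
      ∃ x x' : X, x' ⤳ x ∧ f x = IsLocalRing.closedPoint V ∧
        f x' = (⟨⊥, Ideal.isPrime_bot⟩ : PrimeSpectrum V),
      ∃ (W : Type u) (_ : CommRing W) (_ : IsDomain W) (_ : ValuationRing W)
        (g : Spec (CommRingCat.of W) ⟶ X), Surjective (g ≫ f),
      ∃ (Z : Scheme.{u}) (i : Z ⟶ X), IsClosedImmersion i ∧ Flat (i ≫ f) ∧ Surjective (i ≫ f)] := by
  have h12 : Subtr.UnivSSubtrusive f → Subtr.IsSSubtrusive f :=
    Groth.Agent.Helper7.SubtrLib.isSSubtrusive_of_univ f
  have h23 : Subtr.IsSSubtrusive f → ∀ y : Spec (CommRingCat.of V), ∃ x : X,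
      x ∈ closure (f ⁻¹' {(⟨⊥, Ideal.isPrime_bot⟩ : PrimeSpectrum V)}) ∧ f x = y := by
    intro hb y
    have hηy : (⟨⊥, Ideal.isPrime_bot⟩ : PrimeSpectrum V) ⤳ (y : PrimeSpectrum V) := by
      rw [← PrimeSpectrum.le_iff_specializes]
      exact bot_le (a := (y : PrimeSpectrum V).asIdeal)
    obtain ⟨x, x', hxx, hx, hx'⟩ := hb hηy
    have h1 : x ∈ closure ({x'} : Set X) := specializes_iff_mem_closure.mp hxx
    have h2 : ({x'} : Set X) ⊆ f ⁻¹' {(⟨⊥, Ideal.isPrime_bot⟩ : PrimeSpectrum V)} := by
      intro z hz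
      rw [Set.mem_singleton_iff] at hz
      subst hz
      exact hx'
    exact ⟨x, closure_mono h2 h1, hx⟩
  have h34 : (∀ y : Spec (CommRingCat.of V), ∃ x : X,
      x ∈ closure (f ⁻¹' {(⟨⊥, Ideal.isPrime_bot⟩ : PrimeSpectrum V)}) ∧ f x = y) →
      ∃ x x' : X, x' ⤳ x ∧ f x = IsLocalRing.closedPoint V ∧
        f x' = (⟨⊥, Ideal.isPrime_bot⟩ : PrimeSpectrum V) := by
    intro hc
    obtain ⟨x, hx, hfx⟩ := hc (IsLocalRing.closedPoint V)
    obtain ⟨x', hx', hxx⟩ := Groth.Agent.Helper7.GenFib.exists_specializes_of_mem_closure f hx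
    exact ⟨x, x', hxx, hfx, hx'⟩
  have h45 : (∃ x x' : X, x' ⤳ x ∧ f x = IsLocalRing.closedPoint V ∧
        f x' = (⟨⊥, Ideal.isPrime_bot⟩ : PrimeSpectrum V)) →
      ∃ (W : Type u) (_ : CommRing W) (_ : IsDomain W) (_ : ValuationRing W)
        (g : Spec (CommRingCat.of W) ⟶ X), Surjective (g ≫ f) := by
    rintro ⟨x, x', hxx, hx, hx'⟩
    obtain ⟨W, hW1, hW2, k, hk1, hk2⟩ :=
      Groth.Agent.Helper7.VCov.exists_valuationRing_of_specializes hxx
    refine ⟨W, inferInstance, hW1, hW2, k, ⟨?_⟩⟩
    apply Groth.Agent.Helper7.ValSurj.surjective_of_generic_closed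
      (V := CommRingCat.of V) (W := W)
    · rw [Scheme.Hom.comp_apply, hk1]
      exact hx'
    · rw [Scheme.Hom.comp_apply, hk2]
      exact hx
  have h51 : (∃ (W : Type u) (_ : CommRing W) (_ : IsDomain W) (_ : ValuationRing W)
        (g : Spec (CommRingCat.of W) ⟶ X), Surjective (g ≫ f)) → Subtr.UnivSSubtrusive f := by
    rintro ⟨W, _, _, _, g, hg⟩
    apply Groth.Agent.Helper7.SubtrLib.univSSubtrusive_of_comp g f
    have hflat : Flat (g ≫ f) := by
      obtain ⟨φ, hφ⟩ := Spec.map_surjective (g ≫ f)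
      rw [← hφ, HasRingHomProperty.Spec_iff (P := @Flat)]
      have hinj : Function.Injective φ.hom := by
        rw [RingHom.injective_iff_ker_eq_bot]
        obtain ⟨q, hq⟩ := hg.surj (⟨⊥, Ideal.isPrime_bot⟩ : PrimeSpectrum V)
        rw [← hφ] at hq
        have h1 : Ideal.comap φ.hom (q : PrimeSpectrum W).asIdeal = ⊥ :=
          congrArg PrimeSpectrum.asIdeal hq
        rw [eq_bot_iff, ← h1]
        exact Ideal.comap_mono bot_le
      let _ : Algebra V W := φ.hom.toAlgebra
      exact Groth.Agent.Helper7.ValSurj.flat_of_injective (V := V) (W := W) hinj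
    exact Groth.Agent.Helper7.SubtrLib.univSSubtrusive_of_flat_surjective (g ≫ f)
  have h36 : (∀ y : Spec (CommRingCat.of V), ∃ x : X,
      x ∈ closure (f ⁻¹' {(⟨⊥, Ideal.isPrime_bot⟩ : PrimeSpectrum V)}) ∧ f x = y) →
      ∃ (Z : Scheme.{u}) (i : Z ⟶ X), IsClosedImmersion i ∧ Flat (i ≫ f) ∧ Surjective (i ≫ f) :=
    Groth.Agent.Helper7.GenFib.exists_flat_closed f
  have h61 : (∃ (Z : Scheme.{u}) (i : Z ⟶ X), IsClosedImmersion i ∧ Flat (i ≫ f) ∧
      Surjective (i ≫ f)) → Subtr.UnivSSubtrusive f := by
    rintro ⟨Z, i, _, hflat, hsurj⟩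
    exact Groth.Agent.Helper7.SubtrLib.univSSubtrusive_of_comp i f
      (Groth.Agent.Helper7.SubtrLib.univSSubtrusive_of_flat_surjective (i ≫ f))
  tfae_have 1 → 2 := h12
  tfae_have 2 → 3 := h23
  tfae_have 3 → 4 := h34
  tfae_have 4 → 5 := h45
  tfae_have 5 → 1 := h51
  tfae_have 3 → 6 := h36
  tfae_have 6 → 1 := h61
  tfae_finish

end Groth.Agent.S14765
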