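import Groth.Statements.S14766
-- import your own Groth.Agent.* helpers here
import Mathlib
import Groth.Agent.Lib.Helper7.QuasiFlat.Closure

set_option autoImplicit false
universe u
open CategoryTheory CategoryTheory.Limits AlgebraicGeometry
open Subtr

namespace Groth.Agent.S14766

/-- Let V be a discrete valuation ring and f : X ⟶ Spec V any morphism of schemes. Then the underlying
continuous map of f is a quotient map (f is submersive) if and only if every ordered pair of points
of Spec V lifts to an ordered pair of points of X. -/
theorem result (V : Type u) [CommRing V] [IsDomain V]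
    [IsDiscreteValuationRing V] {X : Scheme.{u}} (f : X ⟶ Spec (CommRingCat.of V)) :
    Topology.IsQuotientMap f ↔ Subtr.IsSSubtrusive f := by
  classical
  let S := Spec (CommRingCat.of V)
  let η : S := (⟨⊥, Ideal.isPrime_bot⟩ : PrimeSpectrum V)
  let s : S := IsLocalRing.closedPoint V
  have hpts : ∀ y : S, y = η ∨ y = s := by
    intro y
    let y0 : PrimeSpectrum V := y
    by_cases h0 : y0.asIdeal = ⊥
    · left
      exact PrimeSpectrum.ext h0
    · right
      have hm : y0.asIdeal.IsMaximal := y0.isPrime.isMaximal h0
      exact PrimeSpectrum.ext (IsLocalRing.eq_maximalIdeal hm)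
  have hηs : η ⤳ s := IsLocalRing.specializes_closedPoint _
  have hne : η ≠ s := by
    intro h
    have h1 : (⊥ : Ideal V) = IsLocalRing.maximalIdeal V := congrArg PrimeSpectrum.asIdeal h
    exact IsDiscreteValuationRing.not_a_field V h1.symm
  have hs_closed : IsClosed ({s} : Set S) := IsLocalRing.isClosed_singleton_closedPoint V
  have hη_not_closed : ¬ IsClosed ({η} : Set S) := by
    intro hc
    have : s ∈ ({η} : Set S) := hηs.mem_closed hc rfl
    exact hne (Set.mem_singleton_iff.mp this).symm
  constructor
  · intro hq y y' hy
    by_cases hyy : y' = y
    · obtain ⟨x, hx⟩ := hq.surjective y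
      exact ⟨x, x, specializes_rfl, hx, by rw [hx, hyy]⟩
    · -- then y' = η and y = s
      have hy'η : y' = η := by
        rcases hpts y' with h | h
        · exact h
        · exfalso
          apply hyy
          rw [h]
          have : y ∈ ({s} : Set S) := (h ▸ hy).mem_closed hs_closed rfl
          exact (Set.mem_singleton_iff.mp this).symm
      have hys : y = s := by
        rcases hpts y with h | h
        · exact absurd (hy'η.trans h.symm) hyy
        · exact h
      subst hy'η hys
      by_contra hcon
      apply hη_not_closed
      rw [hq.isClosed_preimage.symm]
      -- the preimage of η is the range of a quasi-compact open immersion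
      have hopen : IsOpen ({η} : Set S) := by
        have : ({η} : Set S) = ({s} : Set S)ᶜ := by
          ext y
          simp only [Set.mem_singleton_iff, Set.mem_compl_iff]
          constructor
          · intro h hs'
            exact hne (h.symm.trans hs')
          · intro h
            rcases hpts y with h' | h'
            · exact h'
            · exact absurd h' h
        rw [this]
        exact hs_closed.isOpen_compl
      let U : S.Opens := ⟨{η}, hopen⟩
      have hqc : QuasiCompact (f ⁻¹ᵁ U).ι :=
        MorphismProperty.of_isPullback (P := @QuasiCompact)
          (isPullback_morphismRestrict f U) inferInstance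
      have hrange : Set.range (f ⁻¹ᵁ U).ι = f ⁻¹' ({η} : Set S) := by
        rw [Scheme.Opens.range_ι]
        rfl
      rw [← hrange]
      have hpro := Groth.Agent.Helper7.QuasiFlat.isProConstructible_range (f ⁻¹ᵁ U).ι
      rw [← closure_subset_iff_isClosed]
      intro x hx
      obtain ⟨x', hx', hxx⟩ :=
        Groth.Agent.Helper7.ProConsLib.exists_specializes_of_mem_closure_of_isProConstructible
          X hpro hx
      rw [hrange] at hx' ⊢
      rcases hpts (f x) with h | h
      · exact h
      · exact absurd ⟨x, x', hxx, h, hx'⟩ hcon
  · intro hsub
    rw [Topology.isQuotientMap_iff_isClosed]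
    have hsurj : Function.Surjective f := by
      intro y
      obtain ⟨x, _, _, hx, _⟩ := hsub (specializes_refl y)
      exact ⟨x, hx⟩
    refine ⟨hsurj, fun Z => ⟨fun hZ => hZ.preimage f.continuous, fun hZ => ?_⟩⟩
    have hstab : ∀ y y' : S, y' ⤳ y → y' ∈ Z → y ∈ Z := by
      intro y y' hy hy'
      obtain ⟨x, x', hxx, hx, hx'⟩ := hsub hy
      have : x ∈ f ⁻¹' Z := hxx.mem_closed hZ (by change f x' ∈ Z; rw [hx']; exact hy')
      rw [← hx]
      exact this
    by_cases hη : η ∈ Z
    · have : Z = Set.univ := by
        apply Set.eq_univ_of_forall
        intro y
        rcases hpts y with h | h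
        · rw [h]; exact hη
        · rw [h]; exact hstab s η hηs hη
      rw [this]
      exact isClosed_univ
    · by_cases hs : s ∈ Z
      · have : Z = {s} := by
          ext y
          rcases hpts y with h | h
          · rw [h]
            simp only [Set.mem_singleton_iff]
            exact ⟨fun h' => absurd h' hη, fun h' => absurd h' hne⟩
          · rw [h]
            simp only [Set.mem_singleton_iff]
            exact ⟨fun _ => trivial, fun _ => hs⟩
        rw [this]
        exact hs_closed
      · have : Z = ∅ := by
          apply Set.eq_empty_of_forall_notMem
          intro y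
          rcases hpts y with h | h
          · rw [h]; exact hη
          · rw [h]; exact hs
        rw [this]
        exact isClosed_empty

end Groth.Agent.S14766
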