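import Groth.Statements.S14767
-- import your own Groth.Agent.* helpers here
import Mathlib
import Groth.Agent.Lib.Helper7.QuasiFlat.Closure
import Groth.Agent.Lib.Helper7.VCov3
import Groth.Prelude.Def_SGA1

set_option autoImplicit false
universe u
open CategoryTheory CategoryTheory.Limits AlgebraicGeometry
open Subtr

namespace Groth.Agent.S14767

/-- Let f : X ⟶ Y be a quasi-compact morphism of schemes. Then f is universally submersive if and only
if, for every valuation ring V and every morphism Spec V ⟶ Y, the base change X ×_Y Spec V ⟶ Spec V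
is submersive (its underlying continuous map is a quotient map). (The published statement asks
instead that f be universally submersive for the constructible topologies, which holds for
quasi-compact surjective morphisms; both sides here force f to be surjective.) -/
theorem result {X Y : Scheme.{u}} (f : X ⟶ Y) [QuasiCompact f] :
    SGA1.UnivSubmersive f ↔
      ∀ (V : Type u) [CommRing V] [IsDomain V] [ValuationRing V] (g : Spec (CommRingCat.of V) ⟶ Y),
        Topology.IsQuotientMap (pullback.snd f g) := by
  constructor
  · intro h V _ _ _ g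
    exact h _ _ _ (IsPullback.of_hasPullback f g).flip
  · intro h X' Y' i₁ i₂ f' hpb
    change Topology.IsQuotientMap _
    rw [Topology.isQuotientMap_iff_isClosed]
    have hqc : QuasiCompact f' :=
      MorphismProperty.of_isPullback (P := @QuasiCompact) hpb.flip inferInstance
    -- the comparison morphism for a valuation ring mapping to `Y'`
    have key : ∀ (W : CommRingCat.{u}) (_ : IsDomain W) (_ : ValuationRing W) (k : Spec W ⟶ Y'),
        ∃ t : pullback f (k ≫ i₂) ⟶ X', t ≫ f' = pullback.snd f (k ≫ i₂) ≫ k := by
      intro W _ _ k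
      exact ⟨hpb.lift (pullback.snd f (k ≫ i₂) ≫ k) (pullback.fst f (k ≫ i₂))
        (by rw [Category.assoc, ← pullback.condition]), hpb.lift_fst _ _ _⟩
    have hsurj : Function.Surjective f' := by
      intro y
      obtain ⟨W, hW1, hW2, k, -, hk2⟩ :=
        Groth.Agent.Helper7.VCov.exists_valuationRing_of_specializes (specializes_rfl (x := y))
      obtain ⟨t, ht⟩ := key W hW1 hW2 k
      obtain ⟨p, hp⟩ := (h W (k ≫ i₂)).surjective (IsLocalRing.closedPoint W)
      refine ⟨t p, ?_⟩
      rw [← Scheme.Hom.comp_apply, ht, Scheme.Hom.comp_apply]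
      erw [hp]
      exact hk2
    refine ⟨hsurj, fun S => ⟨fun hS => hS.preimage f'.continuous, fun hS => ?_⟩⟩
    have himg : f' '' (f' ⁻¹' S) = S := Set.image_preimage_eq S hsurj
    have hpro : ProCons.IsProConstructible S := by
      rw [← himg]
      exact Groth.Agent.Helper7.ProConsLib.isProConstructible_image f'
        (Groth.Agent.Helper7.QuasiFlat.isProConstructible_of_isClosed X' hS)
    rw [← closure_subset_iff_isClosed]
    intro x hx
    obtain ⟨z, hz, hzx⟩ :=
      Groth.Agent.Helper7.ProConsLib.exists_specializes_of_mem_closure_of_isProConstructible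
        Y' hpro hx
    obtain ⟨W, hW1, hW2, k, hk1, hk2⟩ :=
      Groth.Agent.Helper7.VCov.exists_valuationRing_of_specializes hzx
    obtain ⟨t, ht⟩ := key W hW1 hW2 k
    have hq := h W (k ≫ i₂)
    have hcl : IsClosed (k ⁻¹' S) := by
      rw [← hq.isClosed_preimage]
      have : (pullback.snd f (k ≫ i₂)) ⁻¹' (k ⁻¹' S) = t ⁻¹' (f' ⁻¹' S) := by
        ext p
        change k (pullback.snd f (k ≫ i₂) p) ∈ S ↔ f' (t p) ∈ S
        rw [← Scheme.Hom.comp_apply, ← Scheme.Hom.comp_apply, ht]
      rw [this]
      exact hS.preimage t.continuous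
    have hgc : (⟨⊥, Ideal.isPrime_bot⟩ : PrimeSpectrum W) ⤳ IsLocalRing.closedPoint W :=
      IsLocalRing.specializes_closedPoint _
    have hmem : IsLocalRing.closedPoint W ∈ k ⁻¹' S :=
      hgc.mem_closed hcl (by change k _ ∈ S; rw [hk1]; exact hz)
    change k _ ∈ S at hmem
    rw [hk2] at hmem
    exact hmem

end Groth.Agent.S14767
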