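import Groth.Statements.S1478
import Mathlib
import Groth.Agent.Lib.Lead.IdM5

set_option autoImplicit false
universe u
open FlatMor

namespace Groth.Agent.S1478

section
open CategoryTheory AlgebraicGeometry

open Groth.Agent.Lead.IdM CategoryTheory.Limits Groth.Agent.Lead.FpqcSh

theorem main {X S : Scheme.{u}} (f : X ⟶ S) [IsSeparated f] :
    FormallyUnramified f ↔ IsZero (Omega.sheaf f) := by
  constructor
  · intro hf
    apply isZero_of_flatLocally
    intro y
    obtain ⟨_, ⟨U, hU, rfl⟩, hyU, -⟩ := S.isBasis_affineOpens.exists_subset_of_mem_open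
      (Set.mem_univ (f.base y)) isOpen_univ
    obtain ⟨_, ⟨V, hV, rfl⟩, hyV, hVU⟩ := X.isBasis_affineOpens.exists_subset_of_mem_open
      (show y ∈ (f ⁻¹ᵁ U : X.Opens) from hyU) (f ⁻¹ᵁ U).2
    refine ⟨_, hV.fromSpec, inferInstance, ?_, ?_⟩
    · rw [hV.range_fromSpec]
      exact hyV
    · letI := (f.appLE U V hVU).hom.toAlgebra
      obtain ⟨e⟩ := omega_affine f hU hV hVU
      refine IsZero.of_iso ?_ e
      rw [isZero_tilde_iff]
      have := hf.formallyUnramified_appLE hU hV hVU
      exact this.subsingleton_kaehlerDifferential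
  · intro hz
    refine ⟨fun {U} hU {V} hV e => ?_⟩
    letI := (f.appLE U V e).hom.toAlgebra
    obtain ⟨e2⟩ := omega_affine f hU hV e
    have h1 : IsZero ((Scheme.Modules.pullback hV.fromSpec).obj (Omega.sheaf f)) :=
      (Scheme.Modules.pullback hV.fromSpec).map_isZero hz
    have h2 := (isZero_tilde_iff _).1 (IsZero.of_iso h1 e2.symm)
    exact ⟨h2⟩


end


open AlgebraicGeometry CategoryTheory Limits in
/-- For separated morphisms (where the sheaf of differentials is literally the conormal sheaf of the
closed diagonal): a separated morphism f : X → S is formally unramified if and only if Ω_{X/S}, the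
conormal sheaf of the diagonal, is the zero O_X-module. -/
theorem result {X S : Scheme.{u}} (f : X ⟶ S) [IsSeparated f] :
    FormallyUnramified f ↔ IsZero (Omega.sheaf f) := by
  classical
  exact main f

end Groth.Agent.S1478
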