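import Groth.Statements.S14783
-- import your own Groth.Agent.* helpers here
import Mathlib
import Groth.Agent.Lib.Helper7.Retro
import Groth.Agent.Lib.Helper7.SubtrLib
import Groth.Agent.S19530

set_option autoImplicit false
universe u
open CategoryTheory CategoryTheory.Limits AlgebraicGeometry
open Subtr

namespace Groth.Agent.S14783

/-- Let f : S' ⟶ S be a quasi-compact morphism of schemes every base change of which has the lifting
property for ordered pairs of points, and E ⊆ S any subset. For E to be both locally closed and
retrocompact it is necessary and sufficient that f⁻¹(E) be both. -/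
theorem result {S' S : Scheme.{u}} (f : S' ⟶ S)
    [QuasiCompact f] (hf : Subtr.UnivSSubtrusive f) (E : Set S) :
    (IsLocallyClosed E ∧ IsRetrocompact E) ↔
      (IsLocallyClosed (f ⁻¹' E) ∧ IsRetrocompact (f ⁻¹' E)) := by
  have hsub : Subtr.IsSSubtrusive f := Groth.Agent.Helper7.SubtrLib.isSSubtrusive_of_univ f hf
  have hsurj : Function.Surjective f := by
    intro y
    obtain ⟨x, _, _, hx, _⟩ := hsub (specializes_refl y)
    exact ⟨x, hx⟩
  constructor
  · rintro ⟨h1, h2⟩
    refine ⟨h1.preimage f.continuous, ?_⟩
    apply Groth.Agent.Helper7.Retro.isRetrocompact_of_isProConstructible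
    apply Groth.Agent.Helper7.ProConsLib.isProConstructible_preimage
    exact Groth.Agent.Helper7.Retro.isProConstructible_of_isLocallyClosed_of_isRetrocompact S h1 h2
  · rintro ⟨h1, h2⟩
    have himg : ∀ A : Set S, f '' (f ⁻¹' A) = A := fun A => Set.image_preimage_eq A hsurj
    have hE'pro : ProCons.IsProConstructible (f ⁻¹' E) :=
      Groth.Agent.Helper7.Retro.isProConstructible_of_isLocallyClosed_of_isRetrocompact S' h1 h2
    have hEpro : ProCons.IsProConstructible E := by
      have := Groth.Agent.Helper7.ProConsLib.isProConstructible_image f hE'pro
      rwa [himg] at this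
    refine ⟨?_, ?_⟩
    · rw [isLocallyClosed_iff_isOpen_coborder, coborder, isOpen_compl_iff]
      have hB'closed : IsClosed (closure (f ⁻¹' E) \ f ⁻¹' E) := by
        have := h1.isOpen_coborder
        rwa [coborder, isOpen_compl_iff] at this
      -- the frontier part of E is the image of the frontier part of its preimage
      have hBeq : closure E \ E = f '' (closure (f ⁻¹' E) \ f ⁻¹' E) := by
        apply Set.Subset.antisymm
        · rintro y ⟨hy1, hy2⟩
          obtain ⟨e, he, hey⟩ :=
            Groth.Agent.Helper7.ProConsLib.exists_specializes_of_mem_closure_of_isProConstructible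
              S hEpro hy1
          obtain ⟨x, x', hxx, hx, hx'⟩ := hsub hey
          refine ⟨x, ⟨?_, ?_⟩, hx⟩
          · have h3 : x ∈ closure ({x'} : Set S') := specializes_iff_mem_closure.mp hxx
            refine closure_mono ?_ h3
            intro z hz
            rw [Set.mem_singleton_iff] at hz
            subst hz
            change f z ∈ E
            rw [hx']
            exact he
          · intro hxE
            apply hy2
            rw [← hx]
            exact hxE
        · rintro _ ⟨x, ⟨hx1, hx2⟩, rfl⟩
          refine ⟨?_, hx2⟩
          have h3 : f x ∈ f '' closure (f ⁻¹' E) := ⟨x, hx1, rfl⟩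
          have h4 := image_closure_subset_closure_image f.continuous h3
          rw [himg] at h4
          exact h4
      have hBpro : ProCons.IsProConstructible (closure E \ E) := by
        rw [hBeq]
        exact Groth.Agent.Helper7.ProConsLib.isProConstructible_image f
          (Groth.Agent.Helper7.QuasiFlat.isProConstructible_of_isClosed S' hB'closed)
      rw [← closure_subset_iff_isClosed]
      intro y hy
      obtain ⟨b, ⟨hb1, hb2⟩, hby⟩ :=
        Groth.Agent.Helper7.ProConsLib.exists_specializes_of_mem_closure_of_isProConstructible
          S hBpro hy
      refine ⟨?_, ?_⟩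
      · exact hby.mem_closed isClosed_closure hb1
      · intro hyE
        obtain ⟨e, he, heb⟩ :=
          Groth.Agent.Helper7.ProConsLib.exists_specializes_of_mem_closure_of_isProConstructible
            S hEpro hb1
        -- lift the chain e ⤳ b ⤳ y
        let c : Fin 3 → S := ![e, b, y]
        have hc : ∀ i j : Fin 3, i ≤ j → c i ⤳ c j := by
          intro i j hij
          fin_cases i <;> fin_cases j
          · exact specializes_rfl
          · exact heb
          · exact heb.trans hby
          · exact absurd hij (by decide)
          · exact specializes_rfl
          · exact hby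
          · exact absurd hij (by decide)
          · exact absurd hij (by decide)
          · exact specializes_rfl
        obtain ⟨x, hxchain, hxf⟩ := Groth.Agent.S19530.result f hf 2 c hc
        have hx0 : x 0 ∈ f ⁻¹' E := by
          change f (x 0) ∈ E
          rw [hxf 0]
          exact he
        have hx2 : x 2 ∈ f ⁻¹' E := by
          change f (x 2) ∈ E
          rw [hxf 2]
          exact hyE
        have hx1 : x 1 ∉ f ⁻¹' E := by
          intro h
          apply hb2
          have : f (x 1) ∈ E := h
          rwa [hxf 1] at this
        obtain ⟨O, Z, hO, hZ, hOZ⟩ := h1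
        rw [hOZ] at hx0 hx2 hx1
        apply hx1
        refine ⟨?_, ?_⟩
        · exact (hxchain 1 2 (by decide)).mem_open hO hx2.1
        · exact (hxchain 0 1 (by decide)).mem_closed hZ hx0.2
    · intro U hUc hUo
      have h3 : IsCompact (f ⁻¹' E ∩ f ⁻¹' U) :=
        h2 (QuasiCompact.isCompact_preimage (f := f) U hUo hUc) (hUo.preimage f.continuous)
      have h4 := h3.image f.continuous
      rw [← Set.preimage_inter, himg] at h4
      exact h4

end Groth.Agent.S14783
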