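import Groth.Statements.S14788
-- import your own Groth.Agent.* helpers here
import Mathlib
import Groth.Agent.Lib.Helper7.ProConsLib5

set_option autoImplicit false
universe u
open CategoryTheory CategoryTheory.Limits AlgebraicGeometry
open Subtr

namespace Groth.Agent.S14788

/-- (i) ⇔ (iv): a morphism of schemes f : X ⟶ Y has the lifting property for ordered pairs of points if
and only if, for every pro-constructible subset Z ⊆ Y, the image under f of the closure of f⁻¹(Z) is
the closure of Z. (In the published item (iv) the right-hand side is printed as Z itself; the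
closure is meant, as the case of a non-closed point shows and as the proof uses.) -/
theorem result {X Y : Scheme.{u}} (f : X ⟶ Y) :
    Subtr.IsSSubtrusive f ↔
      ∀ Z : Set Y, ProCons.IsProConstructible Z → f '' closure (f ⁻¹' Z) = closure Z := by
  constructor
  · intro hf Z hZ
    apply subset_antisymm
    · rintro _ ⟨x, hx, rfl⟩
      have h1 : f x ∈ closure (f '' (f ⁻¹' Z)) :=
        image_closure_subset_closure_image f.continuous ⟨x, hx, rfl⟩
      exact closure_mono (Set.image_preimage_subset _ _) h1
    · intro y hy
      obtain ⟨z, hzZ, hz⟩ :=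
        Groth.Agent.Helper7.ProConsLib.exists_specializes_of_mem_closure_of_isProConstructible Y hZ hy
      obtain ⟨x, x', hx, hfx, hfx'⟩ := hf hz
      refine ⟨x, ?_, hfx⟩
      have h1 : x ∈ closure ({x'} : Set X) := specializes_iff_mem_closure.mp hx
      refine closure_mono ?_ h1
      intro a ha
      rw [Set.mem_singleton_iff] at ha
      rw [ha]
      show f x' ∈ Z
      rw [hfx']
      exact hzZ
  · intro h y y' hyy'
    have hsing : ProCons.IsProConstructible ({y'} : Set Y) := by
      apply Groth.Agent.Helper7.ProConsLib.isProConstructible_of_forall_exists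
      intro p
      obtain ⟨U, hpU⟩ := Groth.Agent.Helper7.ProConsLib.exists_affineOpen_mem Y p
      have hs := Groth.Agent.Helper7.ProConsLib.spectralSpace_affineOpen Y U
      refine ⟨_, (U : Y.Opens).2, hs, hpU, ?_⟩
      have ht2 := Groth.Agent.Helper7.t2Space_cons (X := ((U : Y.Opens) : Set Y))
      have ht1 : @T1Space _ (constructibleTopology ((U : Y.Opens) : Set Y)) :=
        @T2Space.t1Space _ (constructibleTopology ((U : Y.Opens) : Set Y)) ht2
      refine @Set.Subsingleton.isClosed _ (constructibleTopology ((U : Y.Opens) : Set Y)) ht1 _ ?_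
      intro a ha b hb
      exact Subtype.ext (ha.trans hb.symm)
    have hy : y ∈ closure ({y'} : Set Y) := specializes_iff_mem_closure.mp hyy'
    rw [← h _ hsing] at hy
    obtain ⟨x, hx, hfx⟩ := hy
    have hpre : ProCons.IsProConstructible (f ⁻¹' ({y'} : Set Y)) :=
      Groth.Agent.Helper7.ProConsLib.isProConstructible_preimage f hsing
    obtain ⟨x', hx', hxx'⟩ :=
      Groth.Agent.Helper7.ProConsLib.exists_specializes_of_mem_closure_of_isProConstructible X hpre hx
    exact ⟨x, x', hxx', hfx, hx'⟩

end Groth.Agent.S14788
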