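import Groth.Statements.S14789
-- import your own Groth.Agent.* helpers here
import Mathlib

set_option autoImplicit false
universe u
open CategoryTheory CategoryTheory.Limits AlgebraicGeometry
open Subtr

namespace Groth.Agent.S14789

/-- Let f : X ⟶ Y be a morphism of schemes with the lifting property for ordered pairs of points, and U
⊆ Y a subset containing every maximal point of Y (every point all of whose generizations are equal
to it). Then the closure of f⁻¹(U) maps onto Y. -/
theorem result {X Y : Scheme.{u}} (f : X ⟶ Y)
    (hf : Subtr.IsSSubtrusive f) (U : Set Y) (hU : ∀ y : Y, (∀ y' : Y, y' ⤳ y → y' = y) → y ∈ U) :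
    f '' closure (f ⁻¹' U) = Set.univ := by
  apply Set.eq_univ_of_forall
  intro y
  obtain ⟨y', hy'⟩ := QuasiSober.sober (isIrreducible_irreducibleComponent (x := y))
    isClosed_irreducibleComponent
  have hgen : closure {y'} = irreducibleComponent y := hy'
  have hyy : y' ⤳ y := by
    rw [specializes_iff_mem_closure, hgen]
    exact mem_irreducibleComponent
  have hmax : ∀ y'' : Y, y'' ⤳ y' → y'' = y' := by
    intro y'' h
    have h1 : closure {y'} ⊆ closure {y''} := specializes_iff_closure_subset.mp h
    have h2 : closure {y''} = irreducibleComponent y :=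
      eq_irreducibleComponent (isIrreducible_singleton.closure).isPreirreducible
        (by rw [← hgen]; exact h1)
    have h3 : y' ⤳ y'' := by
      rw [specializes_iff_mem_closure, hgen, ← h2]
      exact subset_closure rfl
    exact (h.antisymm h3).eq
  have hU' : y' ∈ U := hU y' hmax
  obtain ⟨x, x', hxx, hx, hx'⟩ := hf hyy
  refine ⟨x, ?_, hx⟩
  have : x ∈ closure {x'} := specializes_iff_mem_closure.mp hxx
  refine closure_mono ?_ this
  intro z hz
  rw [Set.mem_singleton_iff] at hz
  subst hz
  change f z ∈ U
  rw [hx']
  exact hU'

end Groth.Agent.S14789
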