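import Groth.Statements.S14797
-- import your own Groth.Agent.* helpers here
import Mathlib
import Groth.Agent.Lib.Helper7.SubmDesc
import Groth.Agent.S4597

set_option autoImplicit false
universe u
open CategoryTheory CategoryTheory.Limits AlgebraicGeometry
open Subtr

namespace Groth.Agent.S14797

/-- Let g : S' ⟶ S be a quasi-compact universally submersive morphism of schemes and f : X ⟶ S an étale
morphism whose base change X ×_S S' ⟶ S' is finite. Then f is finite. (The published statement
treats the properties universally closed, separated and quasi-compact one at a time as well; this
row is the finite case. It assumes g universally subtrusive, using it only through universal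
submersiveness and, for quasi-compactness, through the constructible topology; for quasi-compact g
universal submersiveness suffices by the same proof.) -/
theorem result {X S S' : Scheme.{u}} (g : S' ⟶ S)
    [QuasiCompact g] (hg : SGA1.UnivSubmersive g) (f : X ⟶ S) [Etale f]
    [IsFinite (pullback.snd f g)] : IsFinite f := by
  haveI hsurj : Surjective g := ⟨(Groth.Agent.Helper7.SubmDesc.isQuotientMap hg).surjective⟩
  have hsq : IsPullback (pullback.snd f g) (pullback.fst f g) g f :=
    (IsPullback.of_hasPullback f g).flip
  haveI h1 : UniversallyClosed f :=
    MorphismProperty.DescendsAlong.of_isPullback (P := @UniversallyClosed)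
      (Q := SGA1.UnivSubmersive) hsq hg inferInstance
  haveI h2 : IsSeparated f :=
    MorphismProperty.DescendsAlong.of_isPullback (P := @IsSeparated)
      (Q := SGA1.UnivSubmersive) hsq hg inferInstance
  haveI h3 : QuasiCompact f := (Groth.Agent.S4597.result f g).1 inferInstance inferInstance
  haveI h4 : IsProper f := {}
  haveI h5 : LocallyQuasiFinite f := by
    rw [HasRingHomProperty.iff_appLE (P := @LocallyQuasiFinite)]
    intro U V e
    have h1 := (HasRingHomProperty.iff_appLE (P := @FormallyUnramified)).mp inferInstance U V e
    have h2 := (HasRingHomProperty.iff_appLE (P := @LocallyOfFiniteType)).mp inferInstance U V e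
    algebraize [(f.appLE U V e).hom]
    rw [← RingHom.algebraMap_toAlgebra (f.appLE U V e).hom, RingHom.quasiFinite_algebraMap]
    infer_instance
  exact IsFinite.of_isProper_of_locallyQuasiFinite f

end Groth.Agent.S14797
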