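import Groth.Statements.S14803
import Mathlib
import Groth.Agent.Lib.Helper6.MTreeFin

set_option autoImplicit false
universe u
open Finset
open LabGraph

namespace Groth.Agent.S14803

open Classical in
/-- Let (G, β) be a connected finite multigraph with a multiplicity function, α its matrix (α_{vw} =
#edges(v, w) for v ≠ w, Σ_w β(w) α_{vw} = 0) and Φ(G) = ker β / im α its component group; let m be
the gcd of all the values β(v). Then Φ(G) is finite of order m² · Σ_T Π_v β(v)^{#N_T(v) - 2}, where
T runs over the spanning trees of G and N_T(v) is the set of neighbours of v in T. (The published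
statement gives this order for the Néron component group of a curve's Jacobian, G being the weighted
dual graph of a proper regular model and β its component multiplicities; this row states the
identity for every connected pair (G, β) with a positive multiplicity function.) -/
theorem result {V E : Type u} [Fintype V] [Fintype E] [DecidableEq V] [DecidableEq E]
    (ends : E → V × V) (β : V → ℤ) (hβ : LabGraph.IsMultFn ends β) (hG : LabGraph.Connected ends) :
    (Nat.card (LabGraph.CompGrp ends β) : ℚ) =
      ((univ.gcd β : ℤ) : ℚ) ^ 2 *
        ∑ T ∈ univ.powerset.filter (fun T : Finset E => LabGraph.IsSpanningTree ends T),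
          ∏ v : V, ((β v : ℚ) ^ ((LabGraph.nbrCount ends T v : ℤ) - 2)) := by
  have hconn := ((Groth.Agent.Lib.Helper6.MGraph.connected_iff (ends := ends)).1 hG)
  have htree : ∀ T : Finset E, LabGraph.IsSpanningTree ends T ↔
      Groth.Agent.Lib.Helper6.MTree.IsTreeSet ends T := by
    intro T
    unfold LabGraph.IsSpanningTree DualGr.IsTree DualGr.IsForest Groth.Agent.Lib.Helper6.MTree.IsTreeSet
    rw [Groth.Agent.Lib.Helper6.MGraph.connected_sub_iff, Groth.Agent.Lib.Helper6.MGraph.forest_sub_iff]
    constructor
    · rintro ⟨⟨_, h1⟩, h2⟩
      exact ⟨h1, h2⟩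
    · rintro ⟨h1, h2⟩
      exact ⟨⟨hconn.1, h1⟩, h2⟩
  rw [Groth.Agent.Lib.Helper6.MTree.order_formula ends hconn.1 hconn.2 β hβ]
  congr 1
  apply Finset.sum_congr
  · ext T
    simp only [Finset.mem_filter, Finset.mem_univ, true_and, Finset.mem_powerset, Finset.subset_univ, htree]
  · intro T _
    rfl

end Groth.Agent.S14803
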