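import Groth.Statements.S14804
import Mathlib
import Groth.Agent.Lib.Helper6.MGraphSub

set_option autoImplicit false
universe u
open Finset
open LabGraph

namespace Groth.Agent.S14804

/-- In a connected finite multigraph G, a vertex v belongs to some cycle of G (here: v is an endpoint of
an edge of some circuit, a circuit being a minimal nonempty edge set meeting every vertex in an even
number of edge-ends, which includes loops and pairs of parallel edges) if and only if G has a
spanning tree T such that some edge outside T has v as an endpoint. (The published statement is for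
an arbitrary multigraph; when G is disconnected it has no spanning tree while a vertex may lie on a
cycle, so G is taken connected here, the case of dual graphs for which it is used.) -/
theorem result
    {V E : Type u} [Fintype V] [Fintype E] [DecidableEq V] [DecidableEq E]
    (ends : E → V × V) (hG : LabGraph.Connected ends) (v : V) :
    (∃ C : Finset E, LabGraph.IsCircuit ends C ∧ LabGraph.endCount ends C v ≠ 0) ↔
      ∃ T : Finset E, LabGraph.IsSpanningTree ends T ∧
        ∃ e : E, e ∉ T ∧ ((ends e).1 = v ∨ (ends e).2 = v) := by
  have hconn := ((Groth.Agent.Lib.Helper6.MGraph.connected_iff (ends := ends)).1 hG)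
  have htree : ∀ T : Finset E, LabGraph.IsSpanningTree ends T ↔
      (Nonempty V ∧ ∀ v w, Groth.Agent.Lib.Helper6.MGraph.Reach ends T v w) ∧
        Groth.Agent.Lib.Helper6.MGraph.IsForestSet ends T := by
    intro T
    unfold LabGraph.IsSpanningTree DualGr.IsTree DualGr.IsForest
    rw [Groth.Agent.Lib.Helper6.MGraph.connected_sub_iff, Groth.Agent.Lib.Helper6.MGraph.forest_sub_iff]
  constructor
  · rintro ⟨C, hC, hv⟩
    have : ∃ e₀ ∈ C, (ends e₀).1 = v ∨ (ends e₀).2 = v := by
      by_contra hcon
      push Not at hcon
      apply hv
      unfold LabGraph.endCount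
      apply Finset.sum_eq_zero
      intro e he
      obtain ⟨h1, h2⟩ := hcon e he
      simp [h1, h2]
    obtain ⟨e₀, he₀, hev⟩ := this
    obtain ⟨T, hT0, hTf, hTc⟩ := Groth.Agent.Lib.Helper6.MGraph.exists_spanning_tree ends hconn.2
      (Groth.Agent.Lib.Helper6.MGraph.isForestSet_erase_of_isCircuit ends hC he₀)
    refine ⟨T, (htree T).2 ⟨⟨hconn.1, hTc⟩, hTf⟩, e₀, ?_, hev⟩
    intro he₀T
    apply hTf C _ hC
    intro x hx
    by_cases hxe : x = e₀
    · rw [hxe]; exact he₀T
    · exact hT0 (Finset.mem_erase.2 ⟨hxe, hx⟩)
  · rintro ⟨T, hT, e, heT, hev⟩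
    obtain ⟨⟨_, hTc⟩, hTf⟩ := (htree T).1 hT
    obtain ⟨C, hCsub, hC⟩ := Groth.Agent.Lib.Helper6.MGraph.exists_circuit_of_reach ends
      (hTc (ends e).1 (ends e).2) heT (Or.inl rfl)
    have heC : e ∈ C := by
      by_contra heC
      apply hTf C _ hC
      intro x hx
      rcases Finset.mem_insert.1 (hCsub hx) with rfl | h
      · exact absurd hx heC
      · exact h
    refine ⟨C, hC, ?_⟩
    rw [Groth.Agent.Lib.Helper6.MGraph.endCount_erase ends heC v]
    rcases hev with h | h
    · rw [if_pos h]; omega
    · rw [if_pos h]; omega

end Groth.Agent.S14804
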