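import Groth.Statements.S14807
import Mathlib

set_option autoImplicit false
universe u
open CAlg

namespace Groth.Agent.S14807

/-- Let G be a finite abelian group, written additively, and ℓ a prime number. Every sequence (g_n)_{n ≥
0} of elements of G with ℓ^n · g_n = 0 and ℓ · g_{n+1} = g_n for all n is identically zero; in other
words the inverse limit of the subgroups of ℓ^n-torsion elements, with transition maps
multiplication by ℓ, vanishes. -/
theorem result (G : Type u) [AddCommGroup G] [Finite G]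
    (ℓ : ℕ) (hℓ : ℓ.Prime) (g : ℕ → G) (htor : ∀ n : ℕ, ℓ ^ n • g n = 0)
    (hcomp : ∀ n : ℕ, ℓ • g (n + 1) = g n) (n : ℕ) : g n = 0 := by
  classical
  -- iterate the compatibility
  have hiter : ∀ k m : ℕ, ℓ ^ k • g (m + k) = g m := by
    intro k
    induction k with
    | zero => intro m; simp
    | succ k ih =>
      intro m
      have : m + (k + 1) = (m + k) + 1 := by ring
      rw [this, pow_succ, mul_smul, hcomp, ih]
  have hcard : 0 < Nat.card G := Nat.card_pos
  -- every ℓ-power torsion element is killed by ℓ ^ card G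
  have hkill : ∀ (x : G) (m : ℕ), ℓ ^ m • x = 0 → ℓ ^ (Nat.card G) • x = 0 := by
    intro x m hx
    have h1 : addOrderOf x ∣ ℓ ^ m := addOrderOf_dvd_of_nsmul_eq_zero hx
    obtain ⟨b, _, hb⟩ := (Nat.dvd_prime_pow hℓ).1 h1
    have h2 : addOrderOf x ∣ Nat.card G := addOrderOf_dvd_natCard x
    have h3 : ℓ ^ b ≤ Nat.card G := Nat.le_of_dvd hcard (hb ▸ h2)
    have h4 : b < ℓ ^ b := Nat.lt_pow_self hℓ.one_lt
    have h5 : b ≤ Nat.card G := by omega
    have h6 : addOrderOf x ∣ ℓ ^ (Nat.card G) := by
      rw [hb]; exact pow_dvd_pow ℓ h5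
    exact addOrderOf_dvd_iff_nsmul_eq_zero.1 h6
  rw [← hiter (Nat.card G) n]
  exact hkill _ _ (htor _)

end Groth.Agent.S14807
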