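import Groth.Statements.S14827
import Mathlib

set_option autoImplicit false
universe u
open CategoryTheory MonoidalCategory CartesianMonoidalCategory MonObj GrpObj AlgebraicGeometry
open AbVar

namespace Groth.Agent.S14827

namespace H14827

open CategoryTheory MonoidalCategory CartesianMonoidalCategory MonObj GrpObj

variable {C : Type u} [Category C] [CartesianMonoidalCategory C]

theorem pt_toUnit {X : C} (x : 𝟙_ C ⟶ X) : x ≫ toUnit X = 𝟙 (𝟙_ C) := Subsingleton.elim _ _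

theorem part1 {X A : C} [GrpObj A] (x₁ : 𝟙_ C ⟶ X) (alb : X ⟶ A) :
    x₁ ≫ (alb * (toUnit X ≫ x₁ ≫ alb)⁻¹) = η[A] := by
  rw [MonObj.comp_mul, GrpObj.comp_inv, ← Category.assoc x₁, pt_toUnit, Category.id_comp,
    mul_inv_cancel, MonObj.one_eq_one]

theorem step {X A B : C} [GrpObj A] [GrpObj B] (x₀ x₁ : 𝟙_ C ⟶ X) (alb : X ⟶ A)
    (halb : x₀ ≫ alb = η[A]) (g : X ⟶ B) (hg : x₁ ≫ g = η[B])
    (hu : ∀ g' : X ⟶ B, x₀ ≫ g' = η[B] → ∃! h : A ⟶ B, IsMonHom h ∧ alb ≫ h = g') :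
    ∃! h : A ⟶ B, IsMonHom h ∧ (alb * (toUnit X ≫ x₁ ≫ alb)⁻¹) ≫ h = g := by
  set c := toUnit X ≫ x₁ ≫ alb with hc
  set d := toUnit X ≫ x₀ ≫ g with hd
  set g₀ := g * d⁻¹ with hg₀
  have hg₀pt : x₀ ≫ g₀ = η[B] := by
    rw [hg₀, hd, MonObj.comp_mul, GrpObj.comp_inv, ← Category.assoc x₀, pt_toUnit, Category.id_comp,
      mul_inv_cancel, MonObj.one_eq_one]
  obtain ⟨h, ⟨hh, hcomp⟩, huniq⟩ := hu g₀ hg₀pt
  have hg1 : x₁ ≫ g = 1 := by rw [hg, MonObj.one_eq_one]
  have halb1 : x₀ ≫ alb = 1 := by rw [halb, MonObj.one_eq_one]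
  refine ⟨h, ⟨hh, ?_⟩, ?_⟩
  · rw [MonObj.mul_comp, GrpObj.inv_comp, hcomp, hc, Category.assoc, Category.assoc, hcomp]
    have : x₁ ≫ g₀ = (x₀ ≫ g)⁻¹ := by
      rw [hg₀, hd, MonObj.comp_mul, GrpObj.comp_inv, ← Category.assoc x₁, pt_toUnit,
        Category.id_comp, hg1, _root_.one_mul]
    rw [this, GrpObj.comp_inv, _root_.inv_inv, hg₀, ← hd, inv_mul_cancel_right]
  · rintro h' ⟨hh', hcomp'⟩
    apply huniq h' ⟨hh', ?_⟩
    rw [MonObj.mul_comp, GrpObj.inv_comp] at hcomp'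
    have e1 : alb ≫ h' = g * (c ≫ h') := by
      rw [← hcomp', inv_mul_cancel_right]
    have e2 : x₀ ≫ g = (x₁ ≫ alb ≫ h')⁻¹ := by
      rw [← hcomp', MonObj.comp_mul, GrpObj.comp_inv, ← Category.assoc x₀, halb1,
        MonObj.one_comp, _root_.one_mul, hc, Category.assoc, Category.assoc, ← Category.assoc x₀,
        pt_toUnit, Category.id_comp]
    rw [e1, hg₀, hd, e2, GrpObj.comp_inv, _root_.inv_inv, hc, Category.assoc, Category.assoc]

end H14827

/-- Over a field k (the published statement is over a base scheme S), let X be a proper k-scheme with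
H^0(X, O_X) one-dimensional and a k-rational point x₀, and alb : X → A the Albanese morphism for the
base point x₀ (A an abelian variety — proper, geometrically integral group scheme — with alb(x₀) =
0, universal among pointed morphisms to geometrically reduced, connected, proper group schemes). For
a second k-rational point x₁ let alb' = alb · (constant map with value alb(x₁))⁻¹, i.e. alb followed
by the translation of A by −alb(x₁). Then alb' is the Albanese morphism of X pointed by x₁: alb'(x₁)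
= 0, and every k-morphism g : X → B to an abelian variety B with g(x₁) = 0 equals alb' ≫ h for a
unique homomorphism h : A → B. -/
theorem result (k : Type u) [Field k] (X : Scheme.{u}) [X.Over (Spec (CommRingCat.of k))]
    [IsProper (X ↘ Spec (CommRingCat.of k))] (h0 : Module.finrank k (Coh.HH X (Coh.structureModule X) 0) = 1)
    (x₀ : 𝟙_ (Over (Spec (CommRingCat.of k))) ⟶ Over.mk (X ↘ Spec (CommRingCat.of k)))
    (A : Over (Spec (CommRingCat.of k))) [GrpObj A] [IsProper A.hom] [GeometricallyIntegral A.hom]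
    (alb : Over.mk (X ↘ Spec (CommRingCat.of k)) ⟶ A) (halb : x₀ ≫ alb = η[A])
    (huniv : ∀ (B : Over (Spec (CommRingCat.of k))) [GrpObj B] [IsProper B.hom] [GeometricallyReduced B.hom] [ConnectedSpace ↥B.left]
      (g : Over.mk (X ↘ Spec (CommRingCat.of k)) ⟶ B), x₀ ≫ g = η[B] → ∃! h : A ⟶ B, IsMonHom h ∧ alb ≫ h = g)
    (x₁ : 𝟙_ (Over (Spec (CommRingCat.of k))) ⟶ Over.mk (X ↘ Spec (CommRingCat.of k))) :
    x₁ ≫ (alb * (toUnit (Over.mk (X ↘ Spec (CommRingCat.of k))) ≫ x₁ ≫ alb)⁻¹) = η[A] ∧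
    ∀ (B : Over (Spec (CommRingCat.of k))) [GrpObj B] [IsProper B.hom] [GeometricallyReduced B.hom] [ConnectedSpace ↥B.left]
      (g : Over.mk (X ↘ Spec (CommRingCat.of k)) ⟶ B), x₁ ≫ g = η[B] →
        ∃! h : A ⟶ B, IsMonHom h ∧ (alb * (toUnit (Over.mk (X ↘ Spec (CommRingCat.of k))) ≫ x₁ ≫ alb)⁻¹) ≫ h = g := by
  exact ⟨H14827.part1 x₁ alb, fun B _ _ _ _ g hg => H14827.step x₀ x₁ alb halb g hg (fun g' hg' => huniv B g' hg')⟩

end Groth.Agent.S14827
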