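import Groth.Statements.S14837
import Mathlib
import Groth.Agent.Lib.Helper1.EdgeInj1
import Groth.Agent.Lib.Helper1.RuledPush4

set_option autoImplicit false
universe u
open CategoryTheory CategoryTheory.Limits AlgebraicGeometry
open Coh

namespace Groth.Agent.S14837

/-- Let k be a field and f : X → Y a k-morphism between proper k-schemes which is a fibration (Γ(V, O_Y)
→ Γ(f⁻¹V, O_X) bijective for every open V ⊆ Y). Then H^1(Y, O_Y) injects naturally into H^1(X, O_X)
(edge map of the Leray spectral sequence); stated here as the inequality dim_k H^1(Y, O_Y) ≤ dim_k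
H^1(X, O_X) of finite dimensions. -/
theorem result (k : Type u) [Field k] (X Y : Scheme.{u})
    [X.Over (Spec (CommRingCat.of k))] [Y.Over (Spec (CommRingCat.of k))] [IsProper (X ↘ Spec (CommRingCat.of k))] [IsProper (Y ↘ Spec (CommRingCat.of k))]
    (f : X ⟶ Y) (hf : f ≫ (Y ↘ Spec (CommRingCat.of k)) = X ↘ Spec (CommRingCat.of k)) (hfib : ∀ V : Y.Opens, IsIso (f.app V)) :
    Module.finrank k (Coh.HH Y (Coh.structureModule Y) 1) ≤ Module.finrank k (Coh.HH X (Coh.structureModule X) 1) := by
  haveI : AlgebraicGeometry.IsNoetherian X := Groth.Agent.Helper1.Euler.isNoetherian_of_proper k X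
  haveI : IsIso (Groth.Agent.Helper1.Curve.unitMap f) := by
    apply Groth.Agent.Helper1.TwForm.isIso_of_app_bijective
    intro V
    haveI := hfib V
    have hb : Function.Bijective (f.app V).hom := ConcreteCategory.bijective_of_isIso (f.app V)
    refine ⟨fun a b hab => hb.1 ?_, fun y => ?_⟩
    · rw [Groth.Agent.Helper1.Curve.unitMap_app, Groth.Agent.Helper1.Curve.unitMap_app] at hab
      exact hab
    · obtain ⟨a, ha⟩ := hb.2 y
      exact ⟨a, by rw [Groth.Agent.Helper1.Curve.unitMap_app]; exact ha⟩
  have eO : Coh.structureModule Y ≅ (Coh.push f).obj (Coh.structureModule X) :=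
    asIso (Groth.Agent.Helper1.Curve.unitMap f)
  have e1' := Groth.Agent.Lib.Helper4.HHFin1.HHequiv k eO 1
  have hinj : Function.Injective
      (Groth.Agent.Lib.Helper4.LinBridge1.lerayLin f (Coh.structureModule X) k hf 1) :=
    Groth.Agent.Helper1.EdgeInj.lerayMap_injective_one f.base (Coh.toAb (Coh.structureModule X))
  haveI : Module.Finite k (Coh.HH X (Coh.structureModule X) 1) :=
    Groth.Agent.Lib.Helper4.T2Main1.t2 k X _ (Groth.Agent.Helper7.GeomConn.isCoh_structureModule' X) 1
  rw [e1'.finrank_eq]
  exact LinearMap.finrank_le_finrank_of_injective hinj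

end Groth.Agent.S14837
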