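import Groth.Statements.S14839
import Mathlib
import Mathlib

set_option autoImplicit false
universe u v
open HopfRep

namespace Groth.Agent.S14839

namespace H14839
open TensorProduct

variable {K : Type u} {C : Type v} [Field K] [AddCommGroup C] [Module K C]

/-- right slice -/
noncomputable def R (φ : C →ₗ[K] K) : C ⊗[K] C →ₗ[K] C :=
  (TensorProduct.rid K C).toLinearMap ∘ₗ φ.lTensor C

/-- left slice -/
noncomputable def L (ψ : C →ₗ[K] K) : C ⊗[K] C →ₗ[K] C :=
  (TensorProduct.lid K C).toLinearMap ∘ₗ ψ.rTensor C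

@[simp] lemma R_tmul (φ : C →ₗ[K] K) (a b : C) : R φ (a ⊗ₜ b) = φ b • a := by
  simp [R]

@[simp] lemma L_tmul (ψ : C →ₗ[K] K) (a b : C) : L ψ (a ⊗ₜ b) = ψ a • b := by
  simp [L]

lemma R_lTensor (φ : C →ₗ[K] K) (f : C →ₗ[K] C) (x : C ⊗[K] C) :
    R φ (f.lTensor C x) = R (φ ∘ₗ f) x := by
  induction x using TensorProduct.induction_on with
  | zero => simp
  | tmul a b => simp
  | add x y hx hy => simp [hx, hy]

lemma L_rTensor (ψ : C →ₗ[K] K) (f : C →ₗ[K] C) (x : C ⊗[K] C) :
    L ψ (f.rTensor C x) = L (ψ ∘ₗ f) x := by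
  induction x using TensorProduct.induction_on with
  | zero => simp
  | tmul a b => simp
  | add x y hx hy => simp [hx, hy]

lemma L_lTensor (ψ : C →ₗ[K] K) (f : C →ₗ[K] C) (x : C ⊗[K] C) :
    L ψ (f.lTensor C x) = f (L ψ x) := by
  induction x using TensorProduct.induction_on with
  | zero => simp
  | tmul a b => simp
  | add x y hx hy => simp [hx, hy]

/-- if all right slices of `x` lie in `B` then `x ∈ B ⊗ C`. -/
lemma mem_rTensor_of_R (B : Submodule K C) (x : C ⊗[K] C)
    (h : ∀ φ : C →ₗ[K] K, R φ x ∈ B) : x ∈ LinearMap.range (B.subtype.rTensor C) := by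
  classical
  let ℬ := Module.Basis.ofVectorSpace K C
  have hx : x = ((TensorProduct.equivFinsuppOfBasisRight ℬ) x).sum fun i m ↦ m ⊗ₜ ℬ i := by
    rw [← TensorProduct.equivFinsuppOfBasisRight_symm_apply, LinearEquiv.symm_apply_apply]
  rw [hx]
  refine Submodule.sum_mem _ fun i _ => ?_
  have hi : (TensorProduct.equivFinsuppOfBasisRight ℬ) x i ∈ B := by
    rw [TensorProduct.equivFinsuppOfBasisRight_apply]
    exact h (ℬ.coord i)
  exact ⟨(⟨_, hi⟩ : B) ⊗ₜ ℬ i, by simp⟩

lemma mem_lTensor_of_L (B : Submodule K C) (x : C ⊗[K] C)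
    (h : ∀ ψ : C →ₗ[K] K, L ψ x ∈ B) : x ∈ LinearMap.range (B.subtype.lTensor C) := by
  classical
  let ℬ := Module.Basis.ofVectorSpace K C
  have hx : x = ((TensorProduct.equivFinsuppOfBasisLeft ℬ) x).sum fun i m ↦ ℬ i ⊗ₜ m := by
    rw [← TensorProduct.equivFinsuppOfBasisLeft_symm_apply, LinearEquiv.symm_apply_apply]
  rw [hx]
  refine Submodule.sum_mem _ fun i _ => ?_
  have hi : (TensorProduct.equivFinsuppOfBasisLeft ℬ) x i ∈ B := by
    rw [TensorProduct.equivFinsuppOfBasisLeft_apply]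
    exact h (ℬ.coord i)
  exact ⟨ℬ i ⊗ₜ (⟨_, hi⟩ : B), by simp⟩

lemma inter_le (B : Submodule K C) (x : C ⊗[K] C)
    (h1 : x ∈ LinearMap.range (B.subtype.rTensor C))
    (h2 : x ∈ LinearMap.range (B.subtype.lTensor C)) :
    x ∈ LinearMap.range (TensorProduct.map B.subtype B.subtype) := by
  obtain ⟨p, hp⟩ := LinearMap.exists_leftInverse_of_injective B.subtype (by simp)
  have hp' : ∀ b : B, p b = b := fun b => LinearMap.congr_fun hp b
  set e : C →ₗ[K] C := B.subtype ∘ₗ p with he
  have hes : e ∘ₗ B.subtype = B.subtype := by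
    rw [he, LinearMap.comp_assoc, hp, LinearMap.comp_id]
  have e1 : e.rTensor C x = x := by
    obtain ⟨y, rfl⟩ := h1
    rw [← LinearMap.comp_apply, ← LinearMap.rTensor_comp, hes]
  have e2 : e.lTensor C x = x := by
    obtain ⟨y, rfl⟩ := h2
    rw [← LinearMap.comp_apply, ← LinearMap.lTensor_comp, hes]
  refine ⟨TensorProduct.map p p x, ?_⟩
  rw [← LinearMap.comp_apply, ← TensorProduct.map_comp]
  conv_rhs => rw [← e1, ← e2]
  rw [← LinearMap.comp_apply, LinearMap.rTensor_comp_lTensor]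

variable [Coalgebra K C]

open Coalgebra

noncomputable def r (φ : C →ₗ[K] K) : C →ₗ[K] C := R φ ∘ₗ comul
noncomputable def l (ψ : C →ₗ[K] K) : C →ₗ[K] C := L ψ ∘ₗ comul

lemma r_counit (c : C) : r (counit (R := K) (A := C)) c = c := by
  simp [r, R]

lemma l_counit (c : C) : l (counit (R := K) (A := C)) c = c := by
  simp [l, L]

/-- key identity 1 -/
lemma comul_R (φ : C →ₗ[K] K) (x : C ⊗[K] C) :
    comul (R := K) (R φ x) =
      (R φ).lTensor C (TensorProduct.assoc K C C C (comul.rTensor C x)) := by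
  induction x using TensorProduct.induction_on with
  | zero => simp
  | tmul a b =>
    simp only [R_tmul, map_smul, LinearMap.rTensor_tmul]
    generalize comul (R := K) a = y
    induction y using TensorProduct.induction_on with
    | zero => simp
    | tmul a1 a2 => simp [TensorProduct.tmul_smul]
    | add x y hx hy => simp only [smul_add, add_tmul, map_add, hx, hy]
  | add x y hx hy => simp only [map_add, hx, hy]

lemma comul_r (φ : C →ₗ[K] K) (c : C) :
    comul (R := K) (r φ c) = (r φ).lTensor C (comul c) := by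
  simp only [r, LinearMap.comp_apply, comul_R, coassoc_apply, LinearMap.lTensor_comp]

lemma comul_L (ψ : C →ₗ[K] K) (x : C ⊗[K] C) :
    comul (R := K) (L ψ x) =
      (L ψ).rTensor C ((TensorProduct.assoc K C C C).symm (comul.lTensor C x)) := by
  induction x using TensorProduct.induction_on with
  | zero => simp
  | tmul a b =>
    simp only [L_tmul, map_smul, LinearMap.lTensor_tmul]
    generalize comul (R := K) b = y
    induction y using TensorProduct.induction_on with
    | zero => simp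
    | tmul a1 a2 => simp [TensorProduct.smul_tmul']
    | add x y hx hy => simp only [smul_add, tmul_add, map_add, hx, hy]
  | add x y hx hy => simp only [map_add, hx, hy]

lemma comul_l (ψ : C →ₗ[K] K) (c : C) :
    comul (R := K) (l ψ c) = (l ψ).rTensor C (comul c) := by
  simp only [l, LinearMap.comp_apply, comul_L, coassoc_symm_apply, LinearMap.rTensor_comp]

lemma r_r (φ' φ : C →ₗ[K] K) (c : C) : r φ' (r φ c) = r (φ' ∘ₗ r φ) c := by
  rw [r, LinearMap.comp_apply, comul_r, R_lTensor]; rfl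

lemma l_l (ψ' ψ : C →ₗ[K] K) (c : C) : l ψ' (l ψ c) = l (ψ' ∘ₗ l ψ) c := by
  rw [l, LinearMap.comp_apply, comul_l, L_rTensor]; rfl

lemma l_r (ψ φ : C →ₗ[K] K) (c : C) : l ψ (r φ c) = r φ (l ψ c) := by
  rw [l, LinearMap.comp_apply, comul_r, L_lTensor]; rfl

/-- finiteness of slices -/
lemma fin_R (y : C ⊗[K] C) : ∃ F : Submodule K C, F.FG ∧ ∀ φ : C →ₗ[K] K, R φ y ∈ F := by
  induction y using TensorProduct.induction_on with
  | zero => exact ⟨⊥, Submodule.fg_bot, fun φ => by simp⟩
  | tmul a b =>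
    refine ⟨K ∙ a, Submodule.fg_span_singleton a, fun φ => ?_⟩
    rw [R_tmul]; exact Submodule.smul_mem _ _ (Submodule.mem_span_singleton_self a)
  | add x y hx hy =>
    obtain ⟨F1, h1, h1'⟩ := hx
    obtain ⟨F2, h2, h2'⟩ := hy
    refine ⟨F1 ⊔ F2, h1.sup h2, fun φ => ?_⟩
    rw [map_add]
    exact Submodule.add_mem_sup (h1' φ) (h2' φ)

lemma fin_LR (t : C ⊗[K] (C ⊗[K] C)) :
    ∃ F : Submodule K C, F.FG ∧ ∀ ψ φ : C →ₗ[K] K, L ψ ((R φ).lTensor C t) ∈ F := by
  induction t using TensorProduct.induction_on with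
  | zero => exact ⟨⊥, Submodule.fg_bot, fun ψ φ => by simp⟩
  | tmul a y =>
    obtain ⟨F, hF, hF'⟩ := fin_R y
    refine ⟨F, hF, fun ψ φ => ?_⟩
    rw [LinearMap.lTensor_tmul, L_tmul]
    exact Submodule.smul_mem _ _ (hF' φ)
  | add x y hx hy =>
    obtain ⟨F1, h1, h1'⟩ := hx
    obtain ⟨F2, h2, h2'⟩ := hy
    refine ⟨F1 ⊔ F2, h1.sup h2, fun ψ φ => ?_⟩
    rw [map_add, map_add]
    exact Submodule.add_mem_sup (h1' ψ φ) (h2' ψ φ)

lemma l_r_eq (ψ φ : C →ₗ[K] K) (c : C) :
    l ψ (r φ c) = L ψ ((R φ).lTensor C (comul.lTensor C (comul c))) := by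
  rw [l, LinearMap.comp_apply, comul_r, r, LinearMap.lTensor_comp]; rfl

theorem main [Nontrivial C]
    (hsimple : ∀ B : Submodule K C,
      (∀ b ∈ B, CoalgebraStruct.comul (R := K) b ∈
        LinearMap.range (TensorProduct.map B.subtype B.subtype)) →
        B = ⊥ ∨ B = ⊤) :
    Module.Finite K C := by
  obtain ⟨c, hc⟩ := exists_ne (0 : C)
  set B : Submodule K C :=
    Submodule.span K (Set.range fun p : (C →ₗ[K] K) × (C →ₗ[K] K) => l p.1 (r p.2 c)) with hB
  have hcB : c ∈ B := by
    refine Submodule.subset_span ⟨(counit, counit), ?_⟩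
    simp only [r_counit, l_counit]
  have hr : ∀ φ : C →ₗ[K] K, ∀ b ∈ B, r φ b ∈ B := by
    intro φ b hb
    induction hb using Submodule.span_induction with
    | mem x hx =>
      obtain ⟨⟨ψ, φ0⟩, rfl⟩ := hx
      refine Submodule.subset_span ⟨(ψ, φ ∘ₗ r φ0), ?_⟩
      simp only [← l_r, r_r]
    | zero => simp
    | add x y _ _ hx hy => rw [map_add]; exact B.add_mem hx hy
    | smul a x _ hx => rw [map_smul]; exact B.smul_mem a hx
  have hl : ∀ ψ : C →ₗ[K] K, ∀ b ∈ B, l ψ b ∈ B := by
    intro ψ b hb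
    induction hb using Submodule.span_induction with
    | mem x hx =>
      obtain ⟨⟨ψ0, φ⟩, rfl⟩ := hx
      refine Submodule.subset_span ⟨(ψ ∘ₗ l ψ0, φ), ?_⟩
      simp only [l_l]
    | zero => simp
    | add x y _ _ hx hy => rw [map_add]; exact B.add_mem hx hy
    | smul a x _ hx => rw [map_smul]; exact B.smul_mem a hx
  have hsub : ∀ b ∈ B, CoalgebraStruct.comul (R := K) b ∈
      LinearMap.range (TensorProduct.map B.subtype B.subtype) := by
    intro b hb
    exact inter_le B _ (mem_rTensor_of_R B _ fun φ => hr φ b hb)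
      (mem_lTensor_of_L B _ fun ψ => hl ψ b hb)
  have hBtop : B = ⊤ := by
    rcases hsimple B hsub with h | h
    · exfalso; rw [h] at hcB; exact hc (by simpa using hcB)
    · exact h
  obtain ⟨F, hF, hF'⟩ := fin_LR (comul.lTensor C (comul (R := K) c))
  have hBF : B ≤ F := by
    rw [hB, Submodule.span_le]
    rintro _ ⟨⟨ψ, φ⟩, rfl⟩
    simp only [l_r_eq]
    exact hF' ψ φ
  rw [hBtop, top_le_iff] at hBF
  rw [Module.finite_def, ← hBF]
  exact hF

end H14839

open TensorProduct in
/-- Over a field K, every simple coalgebra is finite-dimensional. Here a subcoalgebra of C is a subspace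
B whose comultiplication lands in the image of B ⊗ B in C ⊗ C, and C is simple when it is nonzero
and its only subcoalgebras are 0 and C. -/
theorem result {K : Type u} {C : Type v} [Field K] [AddCommGroup C]
    [Module K C] [Coalgebra K C] [Nontrivial C]
    (hsimple : ∀ B : Submodule K C,
      (∀ b ∈ B, CoalgebraStruct.comul (R := K) b ∈ LinearMap.range (TensorProduct.map B.subtype B.subtype)) →
        B = ⊥ ∨ B = ⊤) :
    Module.Finite K C := by
  exact H14839.main hsimple

end Groth.Agent.S14839
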