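import Groth.Statements.S1484
-- import your own Groth.Agent.* helpers here
import Mathlib

set_option autoImplicit false
universe u
open FlatMor

namespace Groth.Agent.S1484

/-- Let R be a ring, p_1, …, p_r primes of R none of which is contained in another, k_i ⊆ κ(p_i)
subfields over which κ(p_i) is not algebraic, and J an ideal of R contained in none of the p_i. Then
some x ∈ J has image in κ(p_i) transcendental over k_i for every i. -/
theorem result {R : Type u} [CommRing R] {r : ℕ} (p : Fin r → Ideal R) [∀ i, (p i).IsPrime]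
    (hp : ∀ i j, i ≠ j → ¬ p i ≤ p j) (k : ∀ i, Subfield (p i).ResidueField)
    (hk : ∀ i, ¬ Algebra.IsAlgebraic ↥(k i) (p i).ResidueField) (J : Ideal R) (hJ : ∀ i, ¬ J ≤ p i) :
    ∃ x ∈ J, ∀ i, Transcendental ↥(k i) (algebraMap R (p i).ResidueField x) := by
  classical
  -- elements isolating each prime
  have hx : ∀ i, ∃ x ∈ J, x ∉ p i ∧ ∀ j, j ≠ i → x ∈ p j := by
    intro i
    obtain ⟨a, haJ, hai⟩ := Set.not_subset.mp (hJ i)
    have hb : ∀ j, j ≠ i → ∃ b ∈ p j, b ∉ p i := fun j hj => Set.not_subset.mp (hp j i hj)
    choose! b hbj hbi using hb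
    refine ⟨a * ∏ j ∈ Finset.univ.erase i, b j, J.mul_mem_right _ haJ, ?_, ?_⟩
    · intro hmem
      rcases (inferInstance : (p i).IsPrime).mem_or_mem hmem with h | h
      · exact hai h
      · obtain ⟨j, hj, hjmem⟩ := Ideal.IsPrime.prod_mem_iff.mp h
        exact hbi j (Finset.ne_of_mem_erase hj) hjmem
    · intro j hj
      apply Ideal.mul_mem_left
      have hjmem : j ∈ Finset.univ.erase i := Finset.mem_erase.mpr ⟨hj, Finset.mem_univ j⟩
      rw [← Finset.mul_prod_erase _ _ hjmem]
      exact Ideal.mul_mem_right _ _ (hbj j hj)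
  choose x hxJ hxi hxj using hx
  -- transcendental images
  have hy : ∀ i, ∃ y : R, Transcendental ↥(k i) (algebraMap R (p i).ResidueField y) := by
    intro i
    have h1 := (Algebra.transcendental_iff_not_isAlgebraic).mpr (hk i)
    obtain ⟨t, ht⟩ := (Algebra.transcendental_def).mp h1
    obtain ⟨a, b, hb, rfl⟩ := IsFractionRing.div_surjective (A := R ⧸ p i) t
    obtain ⟨a', rfl⟩ := Ideal.Quotient.mk_surjective a
    obtain ⟨b', rfl⟩ := Ideal.Quotient.mk_surjective b
    by_contra hcon
    have hcon' : ∀ y : R, IsAlgebraic ↥(k i) (algebraMap R (p i).ResidueField y) := by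
      intro y
      by_contra hy
      exact hcon ⟨y, hy⟩
    apply ht
    have ha := hcon' a'
    have hb' := hcon' b'
    rw [IsScalarTower.algebraMap_apply R (R ⧸ p i) (p i).ResidueField] at ha hb'
    exact ha.mul hb'.inv
  choose y hy using hy
  -- the chosen element for each index
  let z : Fin r → R := fun i =>
    if Transcendental ↥(k i) (algebraMap R (p i).ResidueField (x i)) then x i else x i * y i
  have hzJ : ∀ i, z i ∈ J := by
    intro i
    simp only [z]
    split_ifs
    · exact hxJ i
    · exact J.mul_mem_right _ (hxJ i)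
  have hzj : ∀ i j, j ≠ i → z i ∈ p j := by
    intro i j hj
    simp only [z]
    split_ifs
    · exact hxj i j hj
    · exact Ideal.mul_mem_right _ _ (hxj i j hj)
  have hzi : ∀ i, Transcendental ↥(k i) (algebraMap R (p i).ResidueField (z i)) := by
    intro i
    simp only [z]
    split_ifs with h
    · exact h
    · rw [map_mul]
      have hne : algebraMap R (p i).ResidueField (x i) ≠ 0 := by
        rw [Ne, Ideal.algebraMap_residueField_eq_zero]
        exact hxi i
      have halg : IsAlgebraic ↥(k i) (algebraMap R (p i).ResidueField (x i)) := by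
        by_contra hh
        exact h hh
      intro hprod
      apply hy i
      have := halg.inv.mul hprod
      rwa [← mul_assoc, inv_mul_cancel₀ hne, one_mul] at this
  refine ⟨∑ i, z i, J.sum_mem (fun i _ => hzJ i), fun i => ?_⟩
  have hsum : algebraMap R (p i).ResidueField (∑ j, z j) =
      algebraMap R (p i).ResidueField (z i) := by
    rw [map_sum]
    apply Finset.sum_eq_single i
    · intro j _ hj
      rw [Ideal.algebraMap_residueField_eq_zero]
      exact hzj j i (Ne.symm hj)
    · intro h
      exact absurd (Finset.mem_univ i) h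
  rw [hsum]
  exact hzi i

end Groth.Agent.S1484
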