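import Groth.Statements.S14842
import Mathlib
import Groth.Agent.Lib.Helper4.ComodCoeff

set_option autoImplicit false
universe u v
open HopfRep

namespace Groth.Agent.S14842

open TensorProduct in
/-- Over a field K, every simple subcoalgebra D of a coalgebra C is the coefficient space of a simple
comodule. Precisely: there is a subspace E of C contained in D which is a simple subcomodule of the
regular right comodule C (E is nonzero, stable under the coaction, and its only subcomodules are 0
and E) and such that D is the least subspace D' of C with comul(E) inside the image of E ⊗ D'. Here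
a subcoalgebra of C is a subspace B whose comultiplication lands in the image of B ⊗ B, and a simple
subcoalgebra is a nonzero subcoalgebra D whose only subcoalgebras contained in D are 0 and D.
(Stated for right comodules; the published statement is for left comodules.) -/
theorem result {K : Type u} {C : Type v} [Field K]
    [AddCommGroup C] [Module K C] [Coalgebra K C]
    (D : Submodule K C) (hD0 : D ≠ ⊥) (hD : (∀ b ∈ D, CoalgebraStruct.comul (R := K) b ∈ LinearMap.range (TensorProduct.map D.subtype D.subtype)))
    (hDs : ∀ B : Submodule K C, B ≤ D → (∀ b ∈ B, CoalgebraStruct.comul (R := K) b ∈ LinearMap.range (TensorProduct.map B.subtype B.subtype)) → B = ⊥ ∨ B = D) :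
    ∃ E : Submodule K C, E ≤ D ∧ E ≠ ⊥ ∧ HopfRep.IsSubcomod (k := K) (A := C) E ∧
      (∀ E' : Submodule K C, E' ≤ E → HopfRep.IsSubcomod (k := K) (A := C) E' → E' = ⊥ ∨ E' = E) ∧
      IsLeast {D' : Submodule K C |
        ∀ e ∈ E, CoalgebraStruct.comul (R := K) e ∈ LinearMap.range (TensorProduct.map E.subtype D'.subtype)} D := by
  classical
  letI := Groth.Agent.Helper4.Comod.dualModule K C C
  have hDsub : HopfRep.IsSubcomod (k := K) (A := C) D :=
    Groth.Agent.Helper4.Comod.IsSubcoalg.isSubcomod hD
  have hN0 : Groth.Agent.Helper4.Comod.toSubmodule D hDsub ≠ ⊥ := by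
    intro h
    apply hD0
    rw [eq_bot_iff]
    intro b hb
    have : b ∈ Groth.Agent.Helper4.Comod.toSubmodule D hDsub := hb
    rw [h] at this
    exact this
  obtain ⟨T, hTN, hT⟩ := Groth.Agent.Helper4.Comod.exists_simple_le _ hN0
  haveI := hT
  set E : Submodule K C := T.restrictScalars K with hE
  have hED : E ≤ D := fun x hx => hTN hx
  have hE0 : E ≠ ⊥ := by
    intro h
    haveI : Nontrivial T := IsSimpleModule.nontrivial (Groth.Agent.Helper4.Comod.Dual K C) T
    obtain ⟨x, hx⟩ := exists_ne (0 : T)
    apply hx
    have : (x : C) ∈ E := x.2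
    rw [h, Submodule.mem_bot] at this
    exact Subtype.ext this
  have hEsub : HopfRep.IsSubcomod (k := K) (A := C) E :=
    Groth.Agent.Helper4.Comod.isSubcomod_restrictScalars T
  refine ⟨E, hED, hE0, hEsub, ?_, ?_⟩
  · intro E' hE'E hE'
    have hle : Groth.Agent.Helper4.Comod.toSubmodule E' hE' ≤ T := fun x hx => hE'E hx
    rcases (isSimpleModule_iff_isAtom.mp hT).le_iff.mp hle with h | h
    · left
      rw [eq_bot_iff]
      intro x hx
      have : x ∈ Groth.Agent.Helper4.Comod.toSubmodule E' hE' := hx
      rw [h] at this
      exact this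
    · right
      apply le_antisymm hE'E
      intro x hx
      have : x ∈ T := hx
      rw [← h] at this
      exact this
  · letI cE : HopfRep.Comod K C ↥E := ComodSub.Comod.restr (HopfRep.Comod.regular K C) E hEsub
    have hcoe : ∀ w : E, E.subtype.rTensor C (HopfRep.Comod.coact (k := K) (A := C) w) =
        CoalgebraStruct.comul (R := K) (w : C) :=
      fun w => ComodSub.restr_coact_coe (HopfRep.Comod.regular K C) E hEsub w
    have hinj : Function.Injective (E.subtype.rTensor C) := ComodSub.rTensor_subtype_injective E
    have hkey : ∀ (D' : Submodule K C) (w : E),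
        CoalgebraStruct.comul (R := K) (w : C) ∈
          LinearMap.range (TensorProduct.map E.subtype D'.subtype) ↔
        HopfRep.Comod.coact (k := K) (A := C) w ∈ LinearMap.range (D'.subtype.lTensor E) := by
      intro D' w
      constructor
      · rintro ⟨z, hz⟩
        refine ⟨z, hinj ?_⟩
        rw [hcoe, ← hz, ← LinearMap.comp_apply, LinearMap.rTensor_comp_lTensor]
      · rintro ⟨z, hz⟩
        refine ⟨z, ?_⟩
        rw [← hcoe, ← hz, ← LinearMap.comp_apply, LinearMap.rTensor_comp_lTensor]
    have hDmem : ∀ e ∈ E, CoalgebraStruct.comul (R := K) e ∈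
        LinearMap.range (TensorProduct.map E.subtype D.subtype) := by
      intro e he
      rw [Groth.Agent.Helper4.Comod.mem_range_map_subtype_iff]
      exact ⟨hEsub e he,
        ((Groth.Agent.Helper4.Comod.mem_range_map_subtype_iff D D _).mp (hD e (hED he))).2⟩
    haveI : Nontrivial ↥E := Submodule.nontrivial_iff_ne_bot.mpr hE0
    have hcfD : Groth.Agent.Helper4.Comod.cf K C ↥E = D := by
      have hle : Groth.Agent.Helper4.Comod.cf K C ↥E ≤ D := by
        rw [Groth.Agent.Helper4.Comod.cf_le_iff]
        intro w
        exact (hkey D w).mp (hDmem w w.2)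
      rcases hDs _ hle Groth.Agent.Helper4.Comod.isSubcoalg_cf with h | h
      · exact absurd h Groth.Agent.Helper4.Comod.cf_ne_bot
      · exact h
    refine ⟨hDmem, ?_⟩
    intro D' hD'
    rw [← hcfD, Groth.Agent.Helper4.Comod.cf_le_iff]
    intro w
    exact (hkey D' w).mp (hD' w w.2)

end Groth.Agent.S14842
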