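import Groth.Statements.S14843
import Mathlib
import Groth.Agent.Lib.Helper4.ComodSS

set_option autoImplicit false
universe u v
open HopfRep

namespace Groth.Agent.S14843

open TensorProduct in
/-- Over a field K, a coalgebra C is cosemisimple, i.e. C is the internal direct sum of a family of
simple subcoalgebras, if and only if every right C-comodule is completely reducible (every
subcomodule admits a complementary subcomodule). Here a subcoalgebra of C is a subspace B whose
comultiplication lands in the image of B ⊗ B, and a simple subcoalgebra is a nonzero subcoalgebra D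
whose only subcoalgebras contained in D are 0 and D. (Comodules are quantified in the universe of C;
the published statement is for left comodules, and the equivalence of 'direct sum of simple
subcomodules' with 'every subcomodule is a direct summand' is the standard one.) -/
theorem result {K : Type u} {C : Type v} [Field K]
    [AddCommGroup C] [Module K C] [Coalgebra K C] :
    (∃ (ι : Type v) (D : ι → Submodule K C), iSupIndep D ∧ iSup D = ⊤ ∧ ∀ i,
        D i ≠ ⊥ ∧ (∀ b ∈ D i, CoalgebraStruct.comul (R := K) b ∈ LinearMap.range (TensorProduct.map (D i).subtype (D i).subtype)) ∧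
        ∀ B : Submodule K C, B ≤ D i → (∀ b ∈ B, CoalgebraStruct.comul (R := K) b ∈ LinearMap.range (TensorProduct.map B.subtype B.subtype)) → B = ⊥ ∨ B = D i) ↔
      ∀ (V : Type v) [AddCommGroup V] [Module K V] [HopfRep.Comod K C V],
        HopfRep.IsSemisimpleComod K C V := by
  classical
  letI := Groth.Agent.Helper4.Comod.dualModule K C C
  constructor
  · rintro ⟨ι, D, -, hsup, hD⟩ V _ _ _
    letI := Groth.Agent.Helper4.Comod.dualModule K C V
    rw [Groth.Agent.Helper4.Comod.isSemisimpleComod_iff]
    haveI : IsSemisimpleModule (Groth.Agent.Helper4.Comod.Dual K C) C := by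
      refine isSemisimpleModule_of_isSemisimpleModule_submodule' (ι := ι)
        (p := fun i => Groth.Agent.Helper4.Comod.toSubmodule (D i)
          (Groth.Agent.Helper4.Comod.IsSubcoalg.isSubcomod (hD i).2.1))
        (fun i => Groth.Agent.Helper4.Comod.isSemisimpleModule_of_simple_subcoalg (D i)
          (hD i).1 (hD i).2.1 (hD i).2.2) ?_
      rw [eq_top_iff]
      intro x _
      have hx : x ∈ iSup D := by rw [hsup]; trivial
      refine Submodule.iSup_induction D (motive := fun x => x ∈ ⨆ i,
        Groth.Agent.Helper4.Comod.toSubmodule (D i)
          (Groth.Agent.Helper4.Comod.IsSubcoalg.isSubcomod (hD i).2.1)) hx ?_ ?_ ?_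
      · intro i y hy
        exact Submodule.mem_iSup_of_mem i hy
      · exact Submodule.zero_mem _
      · intro y z hy hz
        exact Submodule.add_mem _ hy hz
    exact Groth.Agent.Helper4.Comod.isSemisimpleModule_of_regular
  · intro h
    letI := HopfRep.Comod.regular K C
    haveI : IsSemisimpleModule (Groth.Agent.Helper4.Comod.Dual K C) C :=
      Groth.Agent.Helper4.Comod.isSemisimpleComod_iff.mp (h C)
    refine ⟨↥(isotypicComponents (Groth.Agent.Helper4.Comod.Dual K C) C),
      fun i => i.1.restrictScalars K, ?_, ?_, ?_⟩
    · exact Groth.Agent.Helper4.Comod.iSupIndep_restrictScalars K _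
        ((sSupIndep_iff _).mp (sSupIndep_isotypicComponents (Groth.Agent.Helper4.Comod.Dual K C) C))
    · rw [← Submodule.restrictScalars_iSup, ← sSup_eq_iSup',
        sSup_isotypicComponents (Groth.Agent.Helper4.Comod.Dual K C) C,
        Submodule.restrictScalars_top]
    · intro i
      exact Groth.Agent.Helper4.Comod.isotypicComponents_simple i.1 i.2

end Groth.Agent.S14843
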