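import Groth.Statements.S14846
import Mathlib

set_option autoImplicit false
universe u v w
open Brauer

namespace Groth.Agent.S14846

open TensorProduct

section aux

variable {K : Type u} {L : Type v} [Field K] [Field L] [Algebra K L]
  {A : Type w} [Ring A] [Algebra K A]

/-- the automorphism `γ ⊗ id` -/
noncomputable abbrev σ (γ : L ≃ₐ[K] L) : L ⊗[K] A →ₐ[K] L ⊗[K] A :=
  Algebra.TensorProduct.map (γ : L →ₐ[K] L) (AlgHom.id K A)

lemma σ_tmul (γ : L ≃ₐ[K] L) (l : L) (a : A) : σ (A := A) γ (l ⊗ₜ a) = γ l ⊗ₜ a := by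
  simp [σ]

lemma σ_σ (γ δ : L ≃ₐ[K] L) (x : L ⊗[K] A) : σ γ (σ δ x) = σ (γ * δ) x := by
  induction x using TensorProduct.induction_on with
  | zero => simp
  | tmul l a => simp [σ_tmul]
  | add x y hx hy => simp only [map_add, hx, hy]

lemma σ_one (x : L ⊗[K] A) : σ (1 : L ≃ₐ[K] L) x = x := by
  induction x using TensorProduct.induction_on with
  | zero => simp
  | tmul l a => simp [σ_tmul]
  | add x y hx hy => simp only [map_add, hx, hy]

lemma σ_inv_σ (γ : L ≃ₐ[K] L) (x : L ⊗[K] A) : σ γ⁻¹ (σ γ x) = x := by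
  rw [σ_σ, inv_mul_cancel, σ_one]

lemma σ_σ_inv (γ : L ≃ₐ[K] L) (x : L ⊗[K] A) : σ γ (σ γ⁻¹ x) = x := by
  rw [σ_σ, mul_inv_cancel, σ_one]

/-- coordinates transform by `γ` -/
lemma repr_σ {ι : Type*} (b : Module.Basis ι K A) (γ : L ≃ₐ[K] L) (x : L ⊗[K] A) (i : ι) :
    (Algebra.TensorProduct.basis L b).repr (σ γ x) i =
      γ ((Algebra.TensorProduct.basis L b).repr x i) := by
  induction x using TensorProduct.induction_on with
  | zero => simp
  | tmul l a =>
    simp [σ_tmul, Algebra.TensorProduct.basis_repr_tmul]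
  | add x y hx hy => simp only [map_add, Finsupp.add_apply, hx, hy]

lemma exists_mem_ne_zero (𝔡 : TwoSidedIdeal (L ⊗[K] A)) (hne : 𝔡 ≠ ⊥) : ∃ x ∈ 𝔡, x ≠ 0 := by
  by_contra h
  push Not at h
  apply hne
  rw [eq_bot_iff]
  intro x hx
  rw [TwoSidedIdeal.mem_bot]
  exact h x hx

lemma smul_mem (𝔡 : TwoSidedIdeal (L ⊗[K] A)) (l : L) {x : L ⊗[K] A} (hx : x ∈ 𝔡) : l • x ∈ 𝔡 := by
  rw [Algebra.smul_def]
  exact 𝔡.mul_mem_left _ _ hx

/-- Galois descent: a nonzero Galois-stable two-sided ideal of `L ⊗ A` (`A` simple) is everything. -/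
lemma one_mem_of_stable [IsGalois K L] [IsSimpleRing A] (𝔡 : TwoSidedIdeal (L ⊗[K] A)) (hne : 𝔡 ≠ ⊥)
    (hst : ∀ (γ : L ≃ₐ[K] L) (x : L ⊗[K] A), x ∈ 𝔡 → σ γ x ∈ 𝔡) : (1 : L ⊗[K] A) ∈ 𝔡 := by
  classical
  let b := Module.Free.chooseBasis K A
  let bL := Algebra.TensorProduct.basis L b
  -- minimal support
  obtain ⟨x₀, ⟨hx₀, hx₀0⟩, hmin⟩ := WellFounded.has_min
    (InvImage.wf (fun x : L ⊗[K] A => (bL.repr x).support.card) Nat.lt_wfRel.wf)
    {x | x ∈ 𝔡 ∧ x ≠ 0} (exists_mem_ne_zero 𝔡 hne)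
  have hmin' : ∀ y ∈ 𝔡, (bL.repr y).support.card < (bL.repr x₀).support.card → y = 0 := by
    intro y hy hlt
    by_contra hy0
    exact hmin y ⟨hy, hy0⟩ hlt
  -- normalise
  have hsupp : (bL.repr x₀).support.Nonempty := by
    rw [Finsupp.support_nonempty_iff]
    intro h
    exact hx₀0 (by simpa using h)
  obtain ⟨i₀, hi₀⟩ := hsupp
  rw [Finsupp.mem_support_iff] at hi₀
  set c := bL.repr x₀ i₀ with hc
  set x := c⁻¹ • x₀ with hx
  have hxmem : x ∈ 𝔡 := smul_mem 𝔡 _ hx₀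
  have hreprx : ∀ i, bL.repr x i = c⁻¹ * bL.repr x₀ i := by
    intro i; simp [hx]
  have hxi₀ : bL.repr x i₀ = 1 := by rw [hreprx, ← hc, inv_mul_cancel₀ hi₀]
  have hsuppx : (bL.repr x).support = (bL.repr x₀).support := by
    ext i
    simp only [Finsupp.mem_support_iff, hreprx, ne_eq, mul_eq_zero, inv_eq_zero, hi₀, false_or]
  -- all coordinates are fixed
  have hfixed : ∀ (γ : L ≃ₐ[K] L) (i), γ (bL.repr x i) = bL.repr x i := by
    intro γ i
    have hy : σ γ x - x ∈ 𝔡 := 𝔡.sub_mem (hst γ x hxmem) hxmem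
    have hyrepr : ∀ j, bL.repr (σ γ x - x) j = γ (bL.repr x j) - bL.repr x j := by
      intro j
      rw [map_sub, Finsupp.sub_apply, repr_σ]
    have hsub : (bL.repr (σ γ x - x)).support ⊆ (bL.repr x).support.erase i₀ := by
      intro j hj
      rw [Finsupp.mem_support_iff, hyrepr] at hj
      rw [Finset.mem_erase, Finsupp.mem_support_iff]
      refine ⟨?_, ?_⟩
      · rintro rfl
        rw [hxi₀, map_one, sub_self] at hj
        exact hj rfl
      · intro h0
        rw [h0, map_zero, sub_self] at hj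
        exact hj rfl
    have hlt : (bL.repr (σ γ x - x)).support.card < (bL.repr x₀).support.card := by
      rw [← hsuppx]
      refine lt_of_le_of_lt (Finset.card_le_card hsub) ?_
      exact Finset.card_erase_lt_of_mem (by rw [Finsupp.mem_support_iff, hxi₀]; exact one_ne_zero)
    have h0 := hmin' _ hy hlt
    have := hyrepr i
    rw [h0, map_zero, Finsupp.zero_apply] at this
    exact (sub_eq_zero.mp this.symm)
  -- coordinates lie in K
  have hK : ∀ i, ∃ k : K, algebraMap K L k = bL.repr x i := by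
    intro i
    exact (InfiniteGalois.mem_range_algebraMap_iff_fixed (bL.repr x i)).mpr (fun γ => hfixed γ i)
  choose k hk using hK
  let a : A := ∑ i ∈ (bL.repr x).support, k i • b i
  have hxa : x = (1 : L) ⊗ₜ[K] a := by
    conv_lhs => rw [← bL.linearCombination_repr x, Finsupp.linearCombination_apply, Finsupp.sum]
    simp only [a, TensorProduct.tmul_sum]
    refine Finset.sum_congr rfl (fun i _ => ?_)
    rw [← hk i, Algebra.TensorProduct.basis_apply, TensorProduct.tmul_smul,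
      TensorProduct.smul_tmul', algebraMap_smul, TensorProduct.smul_tmul']
  have hxne : x ≠ 0 := by
    intro h
    have := hxi₀
    rw [h, map_zero, Finsupp.zero_apply] at this
    exact zero_ne_one this
  have ha0 : a ≠ 0 := by
    intro h
    apply hxne
    rw [hxa, h, TensorProduct.tmul_zero]
  -- comap to A
  let 𝔡A : TwoSidedIdeal A := 𝔡.comap (Algebra.TensorProduct.includeRight : A →ₐ[K] L ⊗[K] A)
  have haA : a ∈ 𝔡A := by
    rw [TwoSidedIdeal.mem_comap]
    simpa [← hxa] using hxmem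
  have htop : 𝔡A = ⊤ := by
    rcases eq_bot_or_eq_top 𝔡A with h | h
    · exfalso
      rw [h, TwoSidedIdeal.mem_bot] at haA
      exact ha0 haA
    · exact h
  have h1 : (1 : A) ∈ 𝔡A := htop ▸ TwoSidedIdeal.mem_top _
  rw [TwoSidedIdeal.mem_comap] at h1
  rw [Algebra.TensorProduct.one_def]
  simpa using h1


end aux

open TensorProduct in
/-- Let L/K be a Galois extension with group Γ = Aut_K(L), and A a K-algebra which is a simple ring. If
L ⊗_K A is semisimple, then Γ, acting on L ⊗_K A through the first tensor factor, permutes its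
simple components, i.e. its minimal nonzero two-sided ideals, transitively: any minimal two-sided
ideal is carried onto any other by some γ ⊗ id. -/
theorem result
    {K : Type u} {L : Type v} [Field K] [Field L] [Algebra K L] [IsGalois K L]
    {A : Type w} [Ring A] [Algebra K A] [IsSimpleRing A]
    [IsSemisimpleRing (L ⊗[K] A)]
    (I J : TwoSidedIdeal (L ⊗[K] A)) (hI : IsAtom I) (hJ : IsAtom J) :
    ∃ γ : L ≃ₐ[K] L, (J : Set (L ⊗[K] A)) =
      Algebra.TensorProduct.map (γ : L →ₐ[K] L) (AlgHom.id K A) '' (I : Set (L ⊗[K] A)) := by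
  -- the Galois-stable annihilator ideal
  let 𝔡 : TwoSidedIdeal (L ⊗[K] A) := TwoSidedIdeal.mk'
    {x | ∀ (γ : L ≃ₐ[K] L), ∀ j ∈ J, j * σ γ x = 0}
    (by intro γ j _; simp)
    (by intro x y hx hy γ j hj; rw [map_add, mul_add, hx γ j hj, hy γ j hj, add_zero])
    (by intro x hx γ j hj; rw [map_neg, mul_neg, hx γ j hj, neg_zero])
    (by
      intro x y hy γ j hj
      rw [map_mul, ← mul_assoc]
      exact hy γ _ (J.mul_mem_right _ _ hj))
    (by
      intro x y hx γ j hj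
      rw [map_mul, ← mul_assoc, hx γ j hj, zero_mul])
  have hst : ∀ (γ : L ≃ₐ[K] L) (x : L ⊗[K] A), x ∈ 𝔡 → σ γ x ∈ 𝔡 := by
    intro δ x hx
    rw [TwoSidedIdeal.mem_mk'] at hx ⊢
    intro γ j hj
    rw [σ_σ]
    exact hx _ j hj
  obtain ⟨j₀, hj₀, hj₀0⟩ := exists_mem_ne_zero J hJ.1
  obtain ⟨y₀, hy₀, hy₀0⟩ := exists_mem_ne_zero I hI.1
  have hex : ∃ (γ : L ≃ₐ[K] L), ∃ j ∈ J, ∃ y ∈ I, j * σ γ y ≠ 0 := by
    by_contra hno
    push Not at hno
    have hI𝔡 : y₀ ∈ 𝔡 := by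
      rw [TwoSidedIdeal.mem_mk']
      intro γ j hj
      exact hno γ j hj y₀ hy₀
    have hne : 𝔡 ≠ ⊥ := by
      intro h
      rw [h, TwoSidedIdeal.mem_bot] at hI𝔡
      exact hy₀0 hI𝔡
    have h1 := one_mem_of_stable 𝔡 hne hst
    rw [TwoSidedIdeal.mem_mk'] at h1
    have := h1 1 j₀ hj₀
    rw [map_one, mul_one] at this
    exact hj₀0 this
  obtain ⟨γ, j, hj, y, hy, hz⟩ := hex
  refine ⟨γ, ?_⟩
  set z := j * σ γ y with hzdef
  have hzJ : z ∈ J := J.mul_mem_right _ _ hj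
  let Iγ : TwoSidedIdeal (L ⊗[K] A) := I.comap (σ (A := A) γ⁻¹)
  have hzI : z ∈ Iγ := by
    rw [TwoSidedIdeal.mem_comap, hzdef, map_mul, σ_inv_σ]
    exact I.mul_mem_left _ _ hy
  have hJle : J ≤ Iγ := by
    have h1 : J ⊓ Iγ ≤ J := inf_le_left
    rcases hJ.le_iff.mp h1 with h | h
    · exfalso
      have : z ∈ J ⊓ Iγ := ⟨hzJ, hzI⟩
      rw [h, TwoSidedIdeal.mem_bot] at this
      exact hz this
    · exact h ▸ inf_le_right
  let Jγ : TwoSidedIdeal (L ⊗[K] A) := J.comap (σ (A := A) γ)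
  have hJγle : Jγ ≤ I := by
    intro x hx
    rw [TwoSidedIdeal.mem_comap] at hx
    have := hJle hx
    rw [TwoSidedIdeal.mem_comap, σ_inv_σ] at this
    exact this
  have hJγne : Jγ ≠ ⊥ := by
    intro h
    have : σ γ⁻¹ z ∈ Jγ := by
      rw [TwoSidedIdeal.mem_comap, σ_σ_inv]; exact hzJ
    rw [h, TwoSidedIdeal.mem_bot] at this
    apply hz
    rw [← σ_σ_inv γ z, this, map_zero]
  have hJγ : Jγ = I := by
    rcases hI.le_iff.mp hJγle with h | h
    · exact absurd h hJγne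
    · exact h
  ext x
  simp only [SetLike.mem_coe, Set.mem_image]
  constructor
  · intro hx
    refine ⟨σ γ⁻¹ x, ?_, σ_σ_inv γ x⟩
    rw [← hJγ, TwoSidedIdeal.mem_comap, σ_σ_inv]
    exact hx
  · rintro ⟨y', hy', rfl⟩
    rw [← hJγ, TwoSidedIdeal.mem_comap] at hy'
    exact hy'

end Groth.Agent.S14846
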