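import Groth.Statements.S18812
import Mathlib
import Groth.Agent.Lib.Helper4.Reynolds
import Groth.Agent.Lib.Helper4.Comod

set_option autoImplicit false
universe u v w
open TensorProduct
open HopfRep

namespace Groth.Agent.S18812

/-- Let k be a field and A a commutative Hopf algebra over k, the coordinate ring of an affine group
scheme G. Suppose the inclusion of constants k → A splits as a map of G-representations: there is a
k-linear map α : A → k which is a comodule map from the regular comodule A to the trivial comodule k
and satisfies α(1) = 1. Then every A-comodule, of any dimension, is semisimple: every subcomodule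
has a complementary subcomodule. (The source works with left comodules; this is the right-comodule
form. The converse implication is the easy one and is not part of this row.) -/
theorem result (k : Type u) [Field k] (A : Type v) [CommRing A] [HopfAlgebra k A]
    (α : A →ₗ[k] k) (hα : @Hoch.IsComodHom k _ A _ _ _ A _ _ _ k _ _ (HopfRep.Comod.trivial k A k) α)
    (h1 : α 1 = 1)
    (V : Type w) [AddCommGroup V] [Module k V] [HopfRep.Comod k A V] :
    HopfRep.IsSemisimpleComod k A V := by
  classical
  letI inst1 : HopfRep.Comod k A k := HopfRep.Comod.trivial k A k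
  haveI inst2 : GLin.IsCoactAlg k A k :=
    ⟨by
      change (1 : k) ⊗ₜ[k] (1 : A) = 1
      exact Algebra.TensorProduct.one_def.symm,
     fun f g => by
      change (f * g) ⊗ₜ[k] (1 : A) = (f ⊗ₜ[k] (1 : A)) * (g ⊗ₜ[k] (1 : A))
      rw [Algebra.TensorProduct.tmul_mul_tmul, mul_one]⟩
  haveI inst3 : TameAct.IsHopfMod k A k V :=
    ⟨fun b m => by
      rw [map_smul]
      change _ = TameAct.hmSMul k A k V (b ⊗ₜ[k] (1 : A)) _
      generalize HopfRep.Comod.coact (k := k) (A := A) m = t
      induction t using TensorProduct.induction_on with
      | zero => simp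
      | tmul x a => simp [TensorProduct.smul_tmul']
      | add s t hs ht => simp only [smul_add, map_add, hs, ht]⟩
  intro W hW
  -- a linear projection onto `W`
  obtain ⟨W₀, hW₀⟩ := Submodule.exists_isCompl W
  set e : V →ₗ[k] V := W.projection W₀ hW₀ with he
  have he_mem : ∀ v, e v ∈ W := fun v => Submodule.projection_apply_mem hW₀ v
  have he_id : ∀ w ∈ W, e w = w := fun w hw => Submodule.projection_apply_of_mem_left hW₀ hw
  set lamV := Groth.Agent.Helper4.Conv.lam V α with hlamV
  have hlam1 : HopfRep.Comod.coact (k := k) (A := A) (V := V) ∘ₗ lamV =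
      lamV.rTensor A ∘ₗ Hoch.Ind.coactAux k A V :=
    Groth.Agent.Helper4.Conv.coact_comp_lam V α hα
  have hlam2 : lamV ∘ₗ HopfRep.Comod.coact (k := k) (A := A) = LinearMap.id :=
    Groth.Agent.Helper4.Conv.lam_comp_coact V α h1
  set P : V →ₗ[k] V := lamV ∘ₗ e.rTensor A ∘ₗ HopfRep.Comod.coact (k := k) (A := A) with hP
  -- `P` is a comodule map
  have hPc : Hoch.IsComodHom A P := by
    unfold Hoch.IsComodHom
    rw [hP, ← LinearMap.comp_assoc, hlam1, LinearMap.comp_assoc, ← LinearMap.comp_assoc _ _ (Hoch.Ind.coactAux k A V),
      Groth.Agent.Helper4.HochLib.coactAux_natural, LinearMap.comp_assoc,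
      ← Groth.Agent.Helper4.HochLib.coassoc', LinearMap.rTensor_comp, LinearMap.rTensor_comp,
      LinearMap.comp_assoc, LinearMap.comp_assoc]
  -- `lamV` maps `W ⊗ A` into `W`
  have hlamW : ∀ t : W ⊗[k] A, lamV (W.subtype.rTensor A t) ∈ W := by
    intro t
    induction t using TensorProduct.induction_on with
    | zero => simp
    | tmul w a =>
      rw [LinearMap.rTensor_tmul, hlamV, Groth.Agent.Helper4.Conv.lam_tmul,
        Groth.Agent.Helper4.Conv.cap, LinearMap.comp_apply]
      obtain ⟨s, hs⟩ := hW w w.2
      rw [Submodule.subtype_apply, ← hs]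
      clear hs
      induction s using TensorProduct.induction_on with
      | zero => simp
      | tmul x c =>
        simp only [LinearMap.rTensor_tmul, Submodule.subtype_apply,
          Groth.Agent.Helper4.Conv.capAux_tmul, LinearMap.id_apply,
          Groth.Agent.Helper4.Conv.μB_apply]
        exact W.smul_mem _ x.2
      | add s t hs ht => rw [map_add, map_add]; exact W.add_mem hs ht
    | add s t hs ht => rw [map_add, map_add]; exact W.add_mem hs ht
  -- `P` maps into `W`
  have hPW : ∀ v, P v ∈ W := by
    intro v
    have : e.rTensor A (HopfRep.Comod.coact (k := k) (A := A) v) ∈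
        LinearMap.range (W.subtype.rTensor A) := by
      generalize HopfRep.Comod.coact (k := k) (A := A) v = t
      induction t using TensorProduct.induction_on with
      | zero => simp
      | tmul x a => exact ⟨⟨e x, he_mem x⟩ ⊗ₜ[k] a, by simp⟩
      | add s t hs ht => rw [map_add]; exact Submodule.add_mem _ hs ht
    obtain ⟨t, ht⟩ := this
    rw [hP, LinearMap.comp_apply, LinearMap.comp_apply, ← ht]
    exact hlamW t
  -- `P` is the identity on `W`
  have hPid : ∀ w ∈ W, P w = w := by
    intro w hw
    obtain ⟨t, ht⟩ := hW w hw
    have : e.rTensor A (HopfRep.Comod.coact (k := k) (A := A) w) =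
        HopfRep.Comod.coact (k := k) (A := A) w := by
      rw [← ht]
      clear ht
      induction t using TensorProduct.induction_on with
      | zero => simp
      | tmul x a => simp [he_id x x.2]
      | add s t hs ht => simp only [map_add, hs, ht]
    rw [hP, LinearMap.comp_apply, LinearMap.comp_apply, this]
    exact LinearMap.congr_fun hlam2 w
  refine ⟨LinearMap.ker P, ?_, ?_⟩
  · rw [Groth.Agent.Helper4.Comod.isSubcomod_iff]
    intro l u hu
    rw [LinearMap.mem_ker] at hu ⊢
    rw [(Groth.Agent.Helper4.Comod.isComodHom_iff P).mp hPc l u, hu, map_zero]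
  · have := LinearMap.isCompl_of_proj (f := P.codRestrict W hPW)
      (fun x => Subtype.ext (by simpa using hPid x x.2))
    rwa [LinearMap.ker_codRestrict] at this

end Groth.Agent.S18812
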