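import Groth.Statements.S14847
import Mathlib
import Groth.Agent.Lib.Helper4.HopfTrace
import Groth.Agent.S18812
import Groth.Agent.S14843

set_option autoImplicit false
universe u v
open HopfRep

namespace Groth.Agent.S14847

open TensorProduct in
/-- When K is a field of characteristic zero and G = Spec A is a finite group scheme over K, the
coordinate Hopf algebra A is cosemisimple, i.e. A is the internal direct sum of simple
subcoalgebras. Here a subcoalgebra of A is a subspace B whose comultiplication lands in the image of
B ⊗ B, and a simple subcoalgebra is a nonzero subcoalgebra D whose only subcoalgebras contained in D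
are 0 and D. -/
theorem result {K : Type u} {A : Type v} [Field K] [CharZero K]
    [CommRing A] [HopfAlgebra K A] [Module.Finite K A] :
    ∃ (ι : Type v) (D : ι → Submodule K A), iSupIndep D ∧ iSup D = ⊤ ∧ ∀ i,
        D i ≠ ⊥ ∧ (∀ b ∈ (D i), CoalgebraStruct.comul (R := K) b ∈ LinearMap.range (TensorProduct.map (D i).subtype (D i).subtype)) ∧
        ∀ B : Submodule K A, B ≤ D i → (∀ b ∈ B, CoalgebraStruct.comul (R := K) b ∈ LinearMap.range (TensorProduct.map B.subtype B.subtype)) → B = ⊥ ∨ B = D i := by
  classical
  haveI : Nontrivial A := (Bialgebra.counitAlgHom K A).toRingHom.domain_nontrivial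
  have hpos : 0 < Module.finrank K A := Module.finrank_pos
  have hne : ((Module.finrank K A : ℕ) : K) ≠ 0 := by
    exact_mod_cast hpos.ne'
  let α : A →ₗ[K] K := ((Module.finrank K A : ℕ) : K)⁻¹ • Algebra.trace K A
  have h1 : α 1 = 1 := by
    have ht : Algebra.trace K A 1 = ((Module.finrank K A : ℕ) : K) := by
      have := Algebra.trace_algebraMap (R := K) (S := A) (1 : K)
      simpa using this
    simp only [α, LinearMap.smul_apply, ht, smul_eq_mul]
    exact inv_mul_cancel₀ hne
  have hα : @Hoch.IsComodHom K _ A _ _ _ A _ _ _ K _ _ (HopfRep.Comod.trivial K A K) α := by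
    unfold Hoch.IsComodHom
    ext y
    simp only [LinearMap.comp_apply]
    change α y ⊗ₜ[K] (1 : A) = α.rTensor A (CoalgebraStruct.comul (R := K) y)
    simp only [α, LinearMap.smul_apply, LinearMap.rTensor_smul,
      Groth.Agent.Helper4.HopfTrace.rTensor_trace_comul, TensorProduct.smul_tmul']
  exact (Groth.Agent.S14843.result (K := K) (C := A)).mpr
    (fun V _ _ _ => Groth.Agent.S18812.result K A α hα h1 V)

end Groth.Agent.S14847
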