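import Groth.Statements.S14848
import Mathlib

set_option autoImplicit false
universe u v
open McKay

namespace Groth.Agent.S14848

namespace H14848

open Matrix

theorem sl_pow_eq_one_iff {K : Type*} [Field K] (M : Matrix.SpecialLinearGroup (Fin 2) K) (k : ℕ) :
    M ^ k = 1 ↔ (M : Matrix (Fin 2) (Fin 2) K) ^ k = 1 := by
  rw [← Matrix.SpecialLinearGroup.coe_pow, ← Matrix.SpecialLinearGroup.coe_one]
  exact ⟨fun h => by rw [h], fun h => Subtype.ext h⟩

theorem main {K : Type u} {L : Type v} [Field K] [Field L]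
    [CharZero K] [Algebra K L] (n : ℕ) (hn : 1 ≤ n) (ξ : L) (hξ : IsPrimitiveRoot ξ n) (c : K)
    (hc : algebraMap K L (2 * c) = ξ + ξ⁻¹) :
    ∃ M : Matrix.SpecialLinearGroup (Fin 2) K, orderOf M = n := by
  have hξ0 : ξ ≠ 0 := hξ.ne_zero (by omega)
  by_cases h2 : ξ ^ 2 = 1
  · have hdvd : n ∣ 2 := hξ.dvd_of_pow_eq_one 2 h2
    have : n = 1 ∨ n = 2 := (Nat.dvd_prime Nat.prime_two).mp hdvd
    rcases this with rfl | rfl
    · exact ⟨1, orderOf_one⟩
    · let M2 : Matrix.SpecialLinearGroup (Fin 2) K :=
        ⟨!![-1, 0; 0, -1], by simp [Matrix.det_fin_two]⟩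
      have hM2 : (M2 : Matrix (Fin 2) (Fin 2) K) = !![-1, 0; 0, -1] := rfl
      refine ⟨M2, ?_⟩
      have : Fact (Nat.Prime 2) := ⟨Nat.prime_two⟩
      apply orderOf_eq_prime
      · rw [sl_pow_eq_one_iff, hM2]
        ext i j
        fin_cases i <;> fin_cases j <;> simp [pow_two, Matrix.mul_apply, Fin.sum_univ_two]
      · intro h
        have h' : (M2 : Matrix (Fin 2) (Fin 2) K) = 1 := by rw [h]; rfl
        rw [hM2] at h'
        have := congrFun (congrFun h' 0) 0
        simp at this
        have h3 : (2 : K) = 0 := by linear_combination -this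
        exact two_ne_zero h3
  · -- diagonalizable case
    let M : Matrix.SpecialLinearGroup (Fin 2) K :=
      ⟨!![0, -1; 1, 2 * c], by simp [Matrix.det_fin_two]⟩
    have hM : (M : Matrix (Fin 2) (Fin 2) K) = !![0, -1; 1, 2 * c] := rfl
    refine ⟨M, ?_⟩
    rw [hξ.eq_orderOf]
    rw [orderOf_eq_orderOf_iff]
    intro k
    rw [sl_pow_eq_one_iff, hM]
    let ML : Matrix (Fin 2) (Fin 2) L := !![0, -1; 1, ξ + ξ⁻¹]
    let P : Matrix (Fin 2) (Fin 2) L := !![1, 1; -ξ, -ξ⁻¹]
    let D : Matrix (Fin 2) (Fin 2) L := Matrix.diagonal ![ξ, ξ⁻¹]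
    have hML : ML = (!![0, -1; 1, 2 * c] : Matrix (Fin 2) (Fin 2) K).map (algebraMap K L) := by
      ext i j
      fin_cases i <;> fin_cases j <;> simp [ML, ← hc]
    have hMP : ML * P = P * D := by
      ext i j
      fin_cases i <;> fin_cases j <;> simp [ML, P, D, Matrix.mul_apply, Fin.sum_univ_two] <;>
        field_simp <;> ring
    have hMPk : ∀ k : ℕ, ML ^ k * P = P * D ^ k := by
      intro k
      induction k with
      | zero => simp
      | succ k ih =>
        rw [pow_succ, Matrix.mul_assoc, hMP, ← Matrix.mul_assoc, ih, Matrix.mul_assoc, ← pow_succ]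
    have hdet : P.det ≠ 0 := by
      simp only [P, Matrix.det_fin_two_of]
      intro h
      apply h2
      field_simp at h
      linear_combination h
    have hPinv : P * P⁻¹ = 1 := Matrix.mul_nonsing_inv P (isUnit_iff_ne_zero.mpr hdet)
    have hPinv' : P⁻¹ * P = 1 := Matrix.nonsing_inv_mul P (isUnit_iff_ne_zero.mpr hdet)
    have hDk : D ^ k = Matrix.diagonal ![ξ ^ k, (ξ⁻¹) ^ k] := by
      simp only [D, Matrix.diagonal_pow]
      congr 1
      ext i; fin_cases i <;> simp
    have key : ML ^ k = 1 ↔ ξ ^ k = 1 := by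
      constructor
      · intro h
        have h1 := hMPk k
        rw [h, Matrix.one_mul] at h1
        have h3 : D ^ k = 1 := by
          calc D ^ k = P⁻¹ * (P * D ^ k) := by rw [← Matrix.mul_assoc, hPinv', Matrix.one_mul]
            _ = 1 := by rw [← h1, hPinv']
        rw [hDk] at h3
        have := congrFun (congrFun h3 0) 0
        simpa using this
      · intro h
        have h3 : D ^ k = 1 := by
          rw [hDk, h, inv_pow, h, inv_one]
          ext i j; fin_cases i <;> fin_cases j <;> simp
        calc ML ^ k = (ML ^ k * P) * P⁻¹ := by rw [Matrix.mul_assoc, hPinv, Matrix.mul_one]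
          _ = 1 := by rw [hMPk, h3, Matrix.mul_one, hPinv]
    rw [← key, hML, ← Matrix.map_pow]
    have hinj : Function.Injective (fun A : Matrix (Fin 2) (Fin 2) K => A.map (algebraMap K L)) :=
      Matrix.map_injective (algebraMap K L).injective
    constructor
    · intro h
      rw [h]; simp
    · intro h
      apply hinj
      simp only [h]
      simp

end H14848

/-- Let K be a field of characteristic zero, L an extension field of K and ξ ∈ L a primitive n-th root
of unity (n ≥ 1) with ξ + ξ⁻¹ ∈ K, say ξ + ξ⁻¹ = 2c with c ∈ K (the character of the natural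
two-dimensional representation of the cyclic group of order n takes values in K). Then the cyclic
group of order n is realisable over K as a subgroup of SL(2, K): there is an element of SL(2, K) of
order n. -/
theorem result {K : Type u} {L : Type v} [Field K] [Field L]
    [CharZero K] [Algebra K L] (n : ℕ) (hn : 1 ≤ n) (ξ : L) (hξ : IsPrimitiveRoot ξ n) (c : K)
    (hc : algebraMap K L (2 * c) = ξ + ξ⁻¹) :
    ∃ M : Matrix.SpecialLinearGroup (Fin 2) K, orderOf M = n := by
  exact H14848.main n hn ξ hξ c hc

end Groth.Agent.S14848
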