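import Groth.Statements.S14849
import Mathlib

set_option autoImplicit false
universe u v
open McKay

namespace Groth.Agent.S14849
open Matrix Polynomial

/-- a hom from the quaternion group given `R`, `J` with `R^(2n)=1`, `J*J = R^n`, `J R⁻¹ = R J` -/
theorem exists_hom {G : Type*} [Group G] (n : ℕ) (R J : G) (hR : R ^ (2*n) = 1)
    (hJ : J * J = R ^ n) (hRJ : SemiconjBy J R⁻¹ R) :
    ∃ f : QuaternionGroup n →* G,
      (∀ k : ℤ, f (QuaternionGroup.a (k : ZMod (2*n))) = R ^ k) ∧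
      (∀ k : ℤ, f (QuaternionGroup.xa (k : ZMod (2*n))) = J * R ^ k) := by
  -- the cyclic part
  let φ : ℤ →+ Additive G := zmultiplesHom (Additive G) (Additive.ofMul R)
  have hφ : φ ((2 * n : ℕ) : ℤ) = 0 := by
    simp only [φ, zmultiplesHom_apply, natCast_zsmul]
    rw [← ofMul_pow, hR]; rfl
  let γ : ZMod (2 * n) →+ Additive G := ZMod.lift (2 * n) ⟨φ, hφ⟩
  let g : ZMod (2 * n) → G := fun i => Additive.toMul (γ i)
  have hg_add : ∀ i j, g (i + j) = g i * g j := fun i j => by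
    simp only [g, map_add]; rfl
  have hg_int : ∀ k : ℤ, g (k : ZMod (2 * n)) = R ^ k := fun k => by
    simp only [g, γ, ZMod.lift_coe, φ, zmultiplesHom_apply]
    rw [← ofMul_zpow]; rfl
  have hg_neg : ∀ i, g (-i) = (g i)⁻¹ := fun i => by
    simp only [g, map_neg]; rfl
  have hg_sub : ∀ i j, g (i - j) = g i * (g j)⁻¹ := fun i j => by
    rw [sub_eq_add_neg, hg_add, hg_neg]
  have hg_n : g (n : ZMod (2 * n)) = R ^ n := by
    have := hg_int (n : ℤ)
    simpa using this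
  have hcomm : ∀ i, g i * J = J * (g i)⁻¹ := by
    intro i
    obtain ⟨k, rfl⟩ := ZMod.intCast_surjective i
    rw [hg_int]
    have := (hRJ.zpow_right k).eq
    rw [← this, _root_.inv_zpow]
  refine ⟨MonoidHom.mk' (fun x => match x with
    | QuaternionGroup.a i => g i
    | QuaternionGroup.xa i => J * g i) ?_, fun k => hg_int k, fun k => by
      change J * g _ = _; rw [hg_int]⟩
  rintro (i | i) (j | j)
  · exact hg_add i j
  · change J * g (j - i) = g i * (J * g j)
    rw [← mul_assoc, hcomm, sub_eq_neg_add, hg_add, hg_neg, mul_assoc]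
  · change J * g (i + j) = J * g i * g j
    rw [hg_add, mul_assoc]
  · change g (n + j - i) = J * g i * (J * g j)
    rw [mul_assoc, ← mul_assoc (g i), hcomm, ← mul_assoc, ← mul_assoc, hJ, ← hg_n,
      show (n : ZMod (2 * n)) + j - i = n + (-i + j) by ring, hg_add, hg_add, hg_neg, mul_assoc]


section
variable {K : Type*} [Field K]

/-- the rotation-like matrix with trace `2c` -/
def Rm (c : K) : Matrix.SpecialLinearGroup (Fin 2) K :=
  ⟨!![0, -1; 1, 2*c], by simp [Matrix.det_fin_two_of]⟩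

/-- the reflection-like matrix -/
def Jm (c x y : K) (h : x ^ 2 - (c ^ 2 - 1) * y ^ 2 = -1) : Matrix.SpecialLinearGroup (Fin 2) K :=
  ⟨!![x - c*y, 2*c*(x - c*y) + y; y, -(x - c*y)], by
    simp only [Matrix.det_fin_two_of]; linear_combination (-1 : K) * h⟩

lemma Jm_mul_self (c x y : K) (h : x ^ 2 - (c ^ 2 - 1) * y ^ 2 = -1) :
    ((Jm c x y h * Jm c x y h : Matrix.SpecialLinearGroup (Fin 2) K) : Matrix (Fin 2) (Fin 2) K) = -1 := by
  rw [Matrix.SpecialLinearGroup.coe_mul]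
  simp only [Jm]
  ext i j
  fin_cases i <;> fin_cases j <;> simp [Matrix.mul_apply, Fin.sum_univ_two]
  · linear_combination h
  · ring
  · ring
  · linear_combination h

lemma Jm_semiconj (c x y : K) (h : x ^ 2 - (c ^ 2 - 1) * y ^ 2 = -1) :
    SemiconjBy (Jm c x y h) (Rm c)⁻¹ (Rm c) := by
  unfold SemiconjBy
  apply Subtype.ext
  rw [Matrix.SpecialLinearGroup.coe_mul, Matrix.SpecialLinearGroup.coe_mul,
    Matrix.SpecialLinearGroup.coe_inv]
  simp only [Jm, Rm, Matrix.adjugate_fin_two_of]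
  ext i j
  fin_cases i <;> fin_cases j <;> simp [Matrix.mul_apply, Fin.sum_univ_two] <;> ring

lemma Rm_charpoly (c : K) : ((Rm c : Matrix.SpecialLinearGroup (Fin 2) K) : Matrix (Fin 2) (Fin 2) K).charpoly =
    X ^ 2 - C (2 * c) * X + 1 := by
  rw [Matrix.charpoly_fin_two]
  simp [Rm, Matrix.det_fin_two_of, Matrix.trace_fin_two_of]

end

section
variable {K : Type*} {L : Type*} [Field K] [Field L] [Algebra K L]

lemma root_facts (n : ℕ) (hn : 2 ≤ n) (ξ : L) (hξ : IsPrimitiveRoot ξ (2 * n)) :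
    ξ ^ n = -1 ∧ ξ ≠ ξ⁻¹ ∧ ξ ≠ 0 := by
  have h0 : ξ ≠ 0 := hξ.ne_zero (by omega)
  refine ⟨?_, ?_, h0⟩
  · have h1 : (ξ ^ n) * (ξ ^ n) = 1 := by rw [← pow_add, ← two_mul, hξ.pow_eq_one]
    rcases mul_self_eq_one_iff.mp h1 with h | h
    · exact absurd h (hξ.pow_ne_one_of_pos_of_lt (by omega) (by omega))
    · exact h
  · intro h
    have h2 : ξ ^ 2 = 1 := by
      rw [pow_two]; nth_rewrite 2 [h]; exact mul_inv_cancel₀ h0
    have := (hξ.pow_eq_one_iff_dvd 2).mp h2
    have := Nat.le_of_dvd (by norm_num) this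
    omega

lemma charpoly_dvd (n : ℕ) (hn : 2 ≤ n) (ξ : L) (hξ : IsPrimitiveRoot ξ (2 * n)) (c : K)
    (hc : algebraMap K L (2 * c) = ξ + ξ⁻¹) :
    (X ^ 2 - C (2 * c) * X + 1 : K[X]) ∣ X ^ n + 1 := by
  obtain ⟨h1, h2, h0⟩ := root_facts n hn ξ hξ
  rw [← Polynomial.map_dvd_map' (algebraMap K L)]
  have hp : (X ^ 2 - C (2 * c) * X + 1 : K[X]).map (algebraMap K L) = (X - C ξ) * (X - C ξ⁻¹) := by
    simp only [Polynomial.map_add, Polynomial.map_sub, Polynomial.map_mul, Polynomial.map_pow,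
      Polynomial.map_X, Polynomial.map_C, Polynomial.map_one, hc]
    have : C ξ * C ξ⁻¹ = (1 : L[X]) := by rw [← C_mul, mul_inv_cancel₀ h0, C_1]
    rw [C_add]
    linear_combination (-1 : L[X]) * this
  rw [hp]
  simp only [Polynomial.map_add, Polynomial.map_pow, Polynomial.map_X, Polynomial.map_one]
  apply IsCoprime.mul_dvd
  · apply Polynomial.isCoprime_X_sub_C_of_isUnit_sub
    exact (sub_ne_zero.mpr h2).isUnit
  · rw [Polynomial.dvd_iff_isRoot]
    simp [h1]
  · rw [Polynomial.dvd_iff_isRoot]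
    simp [inv_pow, h1]

lemma Rm_pow (n : ℕ) (hn : 2 ≤ n) (ξ : L) (hξ : IsPrimitiveRoot ξ (2 * n)) (c : K)
    (hc : algebraMap K L (2 * c) = ξ + ξ⁻¹) :
    ((Rm c ^ n : Matrix.SpecialLinearGroup (Fin 2) K) : Matrix (Fin 2) (Fin 2) K) = -1 := by
  obtain ⟨q, hq⟩ := charpoly_dvd n hn ξ hξ c hc
  have h1 := congrArg (Polynomial.aeval ((Rm c : Matrix.SpecialLinearGroup (Fin 2) K) : Matrix (Fin 2) (Fin 2) K)) hq
  rw [← Rm_charpoly, map_mul, Matrix.aeval_self_charpoly, zero_mul] at h1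
  simp only [map_add, map_pow, aeval_X, map_one] at h1
  rw [Matrix.SpecialLinearGroup.coe_pow]
  exact eq_neg_of_add_eq_zero_left h1

/-- the eigenvector -/
lemma Rm_pow_eigen (ξ : L) (h0 : ξ ≠ 0) (c : K) (hc : algebraMap K L (2 * c) = ξ + ξ⁻¹) (k : ℕ) :
    ((((Rm c : Matrix.SpecialLinearGroup (Fin 2) K) : Matrix (Fin 2) (Fin 2) K).map (algebraMap K L)) ^ k) *ᵥ ![1, -ξ] =
      ξ ^ k • ![1, -ξ] := by
  induction k with
  | zero => simp
  | succ k ih =>
    rw [pow_succ, ← Matrix.mulVec_mulVec]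
    have h1 : (((Rm c : Matrix.SpecialLinearGroup (Fin 2) K) : Matrix (Fin 2) (Fin 2) K).map (algebraMap K L)) *ᵥ ![1, -ξ] =
        ξ • ![1, -ξ] := by
      have hc' : (algebraMap K L) 2 * (algebraMap K L) c = ξ + ξ⁻¹ := by rw [← map_mul]; exact hc
      ext i
      fin_cases i
      · simp [Rm, Matrix.mulVec, dotProduct, Fin.sum_univ_two]
      · simp [Rm, Matrix.mulVec, dotProduct, Fin.sum_univ_two, hc']
        field_simp
        ring
    rw [h1, Matrix.mulVec_smul, ih, smul_smul, pow_succ, mul_comm]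

lemma Rm_pow_eq_one (n : ℕ) (ξ : L) (hξ : IsPrimitiveRoot ξ (2 * n)) (h0 : ξ ≠ 0) (c : K)
    (hc : algebraMap K L (2 * c) = ξ + ξ⁻¹) (k : ℕ)
    (hk : (Rm c : Matrix.SpecialLinearGroup (Fin 2) K) ^ k = 1) : 2 * n ∣ k := by
  rw [← hξ.pow_eq_one_iff_dvd]
  have h1 := Rm_pow_eigen ξ h0 c hc k
  have h2 : (((Rm c : Matrix.SpecialLinearGroup (Fin 2) K) : Matrix (Fin 2) (Fin 2) K).map (algebraMap K L)) ^ k = 1 := by
    have := congrArg (fun A : Matrix.SpecialLinearGroup (Fin 2) K => (A : Matrix (Fin 2) (Fin 2) K)) hk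
    simp only [Matrix.SpecialLinearGroup.coe_pow, Matrix.SpecialLinearGroup.coe_one] at this
    rw [← Matrix.map_pow, this]  
    simp
  rw [h2, Matrix.one_mulVec] at h1
  have := congrFun h1 0
  simpa using this.symm

end


/-- Let K be a field of characteristic zero, L an extension field of K, n ≥ 2, and ξ ∈ L a primitive
2n-th root of unity with ξ + ξ⁻¹ = 2c for some c ∈ K. If the Hilbert symbol of -1 and c² - 1 over K
equals 1, i.e. x² - (c² - 1) y² = -1 has a solution in K, then the binary dihedral group of order 4n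
(generators σ, τ with τ² = σⁿ = (τσ)²) is isomorphic to a subgroup of SL(2, K). (The published
statement is an equivalence; this row is the direction realising the group from a solution of the
conic.) -/
theorem result {K : Type u} {L : Type v}
    [Field K] [Field L] [CharZero K] [Algebra K L] (n : ℕ) (hn : 2 ≤ n) (ξ : L)
    (hξ : IsPrimitiveRoot ξ (2 * n)) (c : K) (hc : algebraMap K L (2 * c) = ξ + ξ⁻¹)
    (hsol : ∃ x y : K, x ^ 2 - (c ^ 2 - 1) * y ^ 2 = -1) :
    ∃ f : QuaternionGroup n →* Matrix.SpecialLinearGroup (Fin 2) K, Function.Injective f := by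
  obtain ⟨x, y, hxy⟩ := hsol
  obtain ⟨hξn, hξne, hξ0⟩ := root_facts (L := L) n hn ξ hξ
  have hJJ : Jm c x y hxy * Jm c x y hxy = Rm c ^ n :=
    Subtype.ext ((Jm_mul_self c x y hxy).trans (Rm_pow n hn ξ hξ c hc).symm)
  have hR2n : Rm c ^ (2 * n) = 1 := by
    rw [two_mul, pow_add]
    apply Subtype.ext
    rw [Matrix.SpecialLinearGroup.coe_mul, Rm_pow n hn ξ hξ c hc]
    simp
  obtain ⟨f, hfa, hfxa⟩ := exists_hom n (Rm c) (Jm c x y hxy) hR2n hJJ (Jm_semiconj c x y hxy)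
  refine ⟨f, (injective_iff_map_eq_one f).mpr ?_⟩
  haveI : NeZero (2 * n) := ⟨by omega⟩
  rintro (i | i) hfi
  · have hi : i = ((i.val : ℤ) : ZMod (2 * n)) := by simp
    rw [hi, hfa, zpow_natCast] at hfi
    have hdvd := Rm_pow_eq_one n ξ hξ hξ0 c hc i.val hfi
    have hlt := ZMod.val_lt i
    have h0 : i.val = 0 := Nat.eq_zero_of_dvd_of_lt hdvd hlt
    have h1 : i = 0 := (ZMod.val_eq_zero i).mp h0
    rw [h1]; rfl
  · exfalso
    obtain ⟨k, rfl⟩ := ZMod.intCast_surjective i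
    rw [hfxa] at hfi
    have hJ : Jm c x y hxy = Rm c ^ (-k) := by
      rw [_root_.zpow_neg]; exact eq_inv_of_mul_eq_one_left hfi
    have hcomm : Jm c x y hxy * Rm c = Rm c * Jm c x y hxy := by
      rw [hJ]; exact ((Commute.refl (Rm c)).zpow_left (-k)).eq
    have hs := (Jm_semiconj c x y hxy).eq
    have hinv : (Rm c)⁻¹ = Rm c := mul_left_cancel (hs.trans hcomm.symm)
    have hR2 : Rm c ^ 2 = 1 := by
      rw [pow_two]; nth_rewrite 1 [← hinv]; exact inv_mul_cancel (Rm c)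
    have hdvd := Rm_pow_eq_one n ξ hξ hξ0 c hc 2 hR2
    have := Nat.le_of_dvd (by norm_num) hdvd
    omega

end Groth.Agent.S14849
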