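import Groth.Statements.S14850
import Mathlib
import Groth.Agent.Lib.Helper4.ComodCoeff

set_option autoImplicit false
universe u v
open HopfRep

namespace Groth.Agent.S14850

open TensorProduct in
/-- Over a field K, a nonzero coalgebra C is simple if and only if C is isotypic as a right comodule
over itself, i.e. C is the internal direct sum of the images of a family of injective comodule maps
from one simple right C-comodule E. Here a subcoalgebra of C is a subspace B whose comultiplication
lands in the image of B ⊗ B, and C is simple when its only subcoalgebras are 0 and C. (Stated for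
the right regular comodule; the published statement allows left or right.) -/
theorem result {K : Type u} {C : Type v} [Field K] [AddCommGroup C]
    [Module K C] [Coalgebra K C] [Nontrivial C] :
    (∀ B : Submodule K C, (∀ b ∈ B, CoalgebraStruct.comul (R := K) b ∈ LinearMap.range (TensorProduct.map B.subtype B.subtype)) → B = ⊥ ∨ B = ⊤) ↔
    ∃ (E : Type v) (_ : AddCommGroup E) (_ : Module K E) (_ : HopfRep.Comod K C E),
      HopfRep.IsSimpleComod K C E ∧
      ∃ (ι : Type v) (f : ι → (E →ₗ[K] C)),
        (∀ i, Hoch.IsComodHom C (f i) ∧ Function.Injective (f i)) ∧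
        iSupIndep (fun i => LinearMap.range (f i)) ∧ (⨆ i, LinearMap.range (f i)) = ⊤ := by
  classical
  letI := Groth.Agent.Helper4.Comod.dualModule K C C
  constructor
  · intro hS
    have htop : (⊤ : Submodule (Groth.Agent.Helper4.Comod.Dual K C) C) ≠ ⊥ := top_ne_bot
    obtain ⟨T, -, hT⟩ := Groth.Agent.Helper4.Comod.exists_simple_le _ htop
    haveI := hT
    set E : Submodule K C := T.restrictScalars K with hE
    have hEsub : HopfRep.IsSubcomod (k := K) (A := C) E :=
      Groth.Agent.Helper4.Comod.isSubcomod_restrictScalars T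
    letI cE : HopfRep.Comod K C ↥E := ComodSub.Comod.restr (HopfRep.Comod.regular K C) E hEsub
    letI mE := Groth.Agent.Helper4.Comod.dualModule K C ↥E
    have hTE : Groth.Agent.Helper4.Comod.toSubmodule E hEsub = T := by
      ext x; rfl
    haveI hEs : IsSimpleModule (Groth.Agent.Helper4.Comod.Dual K C) ↥E := by
      have h1 : IsSimpleModule (Groth.Agent.Helper4.Comod.Dual K C)
          ↥(Groth.Agent.Helper4.Comod.toSubmodule E hEsub) := by rw [hTE]; exact hT
      exact Groth.Agent.Helper4.Comod.isSimpleComod_iff.mp
        ((Groth.Agent.Helper4.Comod.isSimpleComod_restr_iff E hEsub).mpr h1)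
    haveI : Nontrivial ↥E := IsSimpleModule.nontrivial (Groth.Agent.Helper4.Comod.Dual K C) ↥E
    have hcf : Groth.Agent.Helper4.Comod.cf K C ↥E = ⊤ := by
      rcases hS _ (Groth.Agent.Helper4.Comod.isSubcoalg_cf (k := K) (C := C) (V := ↥E)) with h | h
      · exact absurd h Groth.Agent.Helper4.Comod.cf_ne_bot
      · exact h
    have hcfD : Groth.Agent.Helper4.Comod.cfD K C ↥E = ⊤ := by
      rw [eq_top_iff]
      intro c _
      rw [Groth.Agent.Helper4.Comod.mem_cfD_iff, hcf]
      trivial
    haveI hss : IsSemisimpleModule (Groth.Agent.Helper4.Comod.Dual K C) C := by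
      have h1 : IsSemisimpleModule (Groth.Agent.Helper4.Comod.Dual K C)
          (Groth.Agent.Helper4.Comod.cfD K C ↥E) := inferInstance
      rw [hcfD] at h1
      exact (Submodule.topEquiv (R := Groth.Agent.Helper4.Comod.Dual K C) (M := C)).isSemisimpleModule_iff.mp h1
    have hiso : IsIsotypicOfType (Groth.Agent.Helper4.Comod.Dual K C) C ↥E := by
      intro m hm
      obtain ⟨e⟩ := Groth.Agent.Helper4.Comod.linearEquiv_of_le_cfD (V := ↥E) m (by rw [hcfD]; exact le_top)
      exact ⟨e.symm⟩
    obtain ⟨ι, ⟨e⟩⟩ := hiso.linearEquiv_finsupp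
    have hfeq : ∀ i : ι, (e.symm.toLinearMap ∘ₗ Finsupp.lsingle i).restrictScalars K =
        (e.symm.restrictScalars K).toLinearMap ∘ₗ (Finsupp.lsingle (R := K) i) := by
      intro i; ext x; rfl
    have hrange : ∀ i : ι, LinearMap.range
        ((e.symm.toLinearMap ∘ₗ Finsupp.lsingle i).restrictScalars K) =
        (LinearMap.range (Finsupp.lsingle (R := K) (M := ↥E) i)).map
          (e.symm.restrictScalars K).toLinearMap := by
      intro i
      rw [hfeq, LinearMap.range_comp]
    refine ⟨↥E, inferInstance, inferInstance, cE, ?_, ι,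
      fun i => (e.symm.toLinearMap ∘ₗ Finsupp.lsingle i).restrictScalars K, ?_, ?_, ?_⟩
    · exact Groth.Agent.Helper4.Comod.isSimpleComod_iff.mpr hEs
    · intro i
      refine ⟨Groth.Agent.Helper4.Comod.isComodHom_restrictScalars _, ?_⟩
      exact e.symm.injective.comp (Finsupp.single_injective i)
    · simp_rw [hrange]
      exact LinearMap.iSupIndep_map _ (e.symm.restrictScalars K).injective
        (iSupIndep_range_lsingle ι K ↥E)
    · simp_rw [hrange]
      rw [← Submodule.map_iSup, Finsupp.iSup_lsingle_range, Submodule.map_top,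
        LinearMap.range_eq_top]
      exact (e.symm.restrictScalars K).surjective
  · rintro ⟨E, iE1, iE2, cE, hsimp, ι, f, hf, -, hsup⟩ B hB
    letI mE := Groth.Agent.Helper4.Comod.dualModule K C E
    haveI hEs : IsSimpleModule (Groth.Agent.Helper4.Comod.Dual K C) E :=
      Groth.Agent.Helper4.Comod.isSimpleComod_iff.mp hsimp
    have hcf : Groth.Agent.Helper4.Comod.cf K C E = ⊤ := by
      rw [eq_top_iff, ← hsup]
      refine iSup_le fun i => ?_
      rintro _ ⟨x, rfl⟩
      rw [Groth.Agent.Helper4.Comod.eq_coeff_of_isComodHom (f i) (hf i).1]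
      exact Groth.Agent.Helper4.Comod.coeff_mem_cf _ x
    by_cases hB0 : B = ⊥
    · exact Or.inl hB0
    · right
      rw [← hcf]
      exact Groth.Agent.Helper4.Comod.eq_cf_of_isSubcoalg_of_le B hB (by rw [hcf]; exact le_top) hB0

end Groth.Agent.S14850
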