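import Groth.Statements.S14851
import Mathlib
import Groth.Agent.Lib.Helper4.ComodCoeff

set_option autoImplicit false
universe u v w w'
open HopfRep

namespace Groth.Agent.S14851

open TensorProduct in
/-- The map E ↦ C(E) from isomorphism classes of simple comodules to simple subcoalgebras is injective,
that is: over a field K, two simple right comodules E, E' over a coalgebra C with the same
coefficient space D (the least subspace D' of C such that the coaction lands in E ⊗ D', resp. E' ⊗
D') are isomorphic as comodules. (The published statement is made for a cosemisimple coalgebra and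
for left comodules; the printed argument for this part uses neither restriction.) -/
theorem result {K : Type u} {C : Type v} [Field K]
    [AddCommGroup C] [Module K C] [Coalgebra K C]
    {E : Type w} [AddCommGroup E] [Module K E] [HopfRep.Comod K C E]
    {E' : Type w'} [AddCommGroup E'] [Module K E'] [HopfRep.Comod K C E']
    (hE : HopfRep.IsSimpleComod K C E) (hE' : HopfRep.IsSimpleComod K C E') (D : Submodule K C)
    (hD : IsLeast {D' : Submodule K C |
      ∀ e : E, HopfRep.Comod.coact (k := K) (A := C) e ∈ LinearMap.range (LinearMap.lTensor E D'.subtype)} D)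
    (hD' : IsLeast {D' : Submodule K C |
      ∀ e : E', HopfRep.Comod.coact (k := K) (A := C) e ∈ LinearMap.range (LinearMap.lTensor E' D'.subtype)} D) :
    ∃ e : E ≃ₗ[K] E', Hoch.IsComodHom C e.toLinearMap := by
  classical
  letI := Groth.Agent.Helper4.Comod.dualModule K C E
  letI := Groth.Agent.Helper4.Comod.dualModule K C E'
  letI := Groth.Agent.Helper4.Comod.dualModule K C C
  have h1 : D = Groth.Agent.Helper4.Comod.cf K C E :=
    Groth.Agent.Helper4.Comod.eq_cf_of_isLeast D hD
  have h2 : D = Groth.Agent.Helper4.Comod.cf K C E' :=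
    Groth.Agent.Helper4.Comod.eq_cf_of_isLeast D hD'
  haveI : Nontrivial E := hE.1
  haveI : IsSimpleModule (Groth.Agent.Helper4.Comod.Dual K C) E :=
    Groth.Agent.Helper4.Comod.isSimpleComod_iff.mp hE
  haveI : IsSimpleModule (Groth.Agent.Helper4.Comod.Dual K C) E' :=
    Groth.Agent.Helper4.Comod.isSimpleComod_iff.mp hE'
  -- a nonzero coefficient map of `E`
  have hne : Groth.Agent.Helper4.Comod.cfD K C E ≠ ⊥ := by
    intro h
    apply Groth.Agent.Helper4.Comod.cf_ne_bot (k := K) (C := C) (V := E)
    rw [← Groth.Agent.Helper4.Comod.cfD_restrictScalars, h]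
    rfl
  have hex : ∃ f : E →ₗ[K] K, Groth.Agent.Helper4.Comod.coeffD (C := C) f ≠ 0 := by
    by_contra hcon
    simp only [not_exists, not_not] at hcon
    apply hne
    rw [Groth.Agent.Helper4.Comod.cfD]
    simp [hcon]
  obtain ⟨f, hf⟩ := hex
  set T := LinearMap.range (Groth.Agent.Helper4.Comod.coeffD (C := C) f) with hT
  have e1 : E ≃ₗ[Groth.Agent.Helper4.Comod.Dual K C] T :=
    LinearEquiv.ofInjective _ (LinearMap.injective_of_ne_zero hf)
  haveI : IsSimpleModule (Groth.Agent.Helper4.Comod.Dual K C) T := IsSimpleModule.congr e1.symm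
  have hTle : T ≤ Groth.Agent.Helper4.Comod.cfD K C E' := by
    intro c hc
    rw [Groth.Agent.Helper4.Comod.mem_cfD_iff, ← h2, h1, ← Groth.Agent.Helper4.Comod.mem_cfD_iff]
    exact le_iSup (fun f : E →ₗ[K] K => LinearMap.range (Groth.Agent.Helper4.Comod.coeffD (C := C) f)) f hc
  obtain ⟨e2⟩ := Groth.Agent.Helper4.Comod.linearEquiv_of_le_cfD (V := E') T hTle
  refine ⟨(e1.trans e2.symm).restrictScalars K, ?_⟩
  exact Groth.Agent.Helper4.Comod.isComodHom_restrictScalars (e1.trans e2.symm).toLinearMap

end Groth.Agent.S14851
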