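import Groth.Statements.S14852
import Mathlib
import Groth.Agent.Lib.Helper4.ComodCoeff

set_option autoImplicit false
universe u v w w'
open HopfRep

namespace Groth.Agent.S14852

open TensorProduct in
/-- Over a field K, let C be a cosemisimple coalgebra and D₁ ≠ D₂ simple subcoalgebras of C. If V is a
right C-comodule whose coaction lands in V ⊗ D₁ and W one whose coaction lands in W ⊗ D₂, then the
only comodule map V → W is zero. Here a subcoalgebra of C is a subspace B whose comultiplication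
lands in the image of B ⊗ B, and a simple subcoalgebra is a nonzero subcoalgebra D whose only
subcoalgebras contained in D are 0 and D; cosemisimple means C is the internal direct sum of a
family of simple subcoalgebras. (The published statement is for quasi-coherent G-sheaves on a scheme
with trivial action of G = Spec C; this row is the statement on spaces of sections to which its
proof reduces.) -/
theorem result {K : Type u} {C : Type v} [Field K]
    [AddCommGroup C] [Module K C] [Coalgebra K C]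
    (hC : ∃ (ι : Type v) (D : ι → Submodule K C), iSupIndep D ∧ iSup D = ⊤ ∧ ∀ i,
        D i ≠ ⊥ ∧ (∀ b ∈ (D i), CoalgebraStruct.comul (R := K) b ∈ LinearMap.range (TensorProduct.map (D i).subtype (D i).subtype)) ∧
        ∀ B : Submodule K C, B ≤ D i → (∀ b ∈ B, CoalgebraStruct.comul (R := K) b ∈ LinearMap.range (TensorProduct.map B.subtype B.subtype)) → B = ⊥ ∨ B = D i)
    (D₁ D₂ : Submodule K C) (hne : D₁ ≠ D₂)
    (h₁ : D₁ ≠ ⊥ ∧ (∀ b ∈ D₁, CoalgebraStruct.comul (R := K) b ∈ LinearMap.range (TensorProduct.map D₁.subtype D₁.subtype)) ∧ ∀ B : Submodule K C, B ≤ D₁ → (∀ b ∈ B, CoalgebraStruct.comul (R := K) b ∈ LinearMap.range (TensorProduct.map B.subtype B.subtype)) → B = ⊥ ∨ B = D₁)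
    (h₂ : D₂ ≠ ⊥ ∧ (∀ b ∈ D₂, CoalgebraStruct.comul (R := K) b ∈ LinearMap.range (TensorProduct.map D₂.subtype D₂.subtype)) ∧ ∀ B : Submodule K C, B ≤ D₂ → (∀ b ∈ B, CoalgebraStruct.comul (R := K) b ∈ LinearMap.range (TensorProduct.map B.subtype B.subtype)) → B = ⊥ ∨ B = D₂)
    {V : Type w} [AddCommGroup V] [Module K V] [HopfRep.Comod K C V]
    {W : Type w'} [AddCommGroup W] [Module K W] [HopfRep.Comod K C W]
    (hV : ∀ v : V, HopfRep.Comod.coact (k := K) (A := C) v ∈ LinearMap.range (LinearMap.lTensor V D₁.subtype))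
    (hW : ∀ w : W, HopfRep.Comod.coact (k := K) (A := C) w ∈ LinearMap.range (LinearMap.lTensor W D₂.subtype))
    (φ : V →ₗ[K] W) (hφ : Hoch.IsComodHom C φ) : φ = 0 := by
  classical
  obtain ⟨h₁0, h₁c, h₁s⟩ := h₁
  obtain ⟨h₂0, h₂c, h₂s⟩ := h₂
  -- the intersection is a subcoalgebra
  have hB : ∀ b ∈ D₁ ⊓ D₂, CoalgebraStruct.comul (R := K) b ∈
      LinearMap.range (TensorProduct.map (D₁ ⊓ D₂).subtype (D₁ ⊓ D₂).subtype) := by
    intro b hb
    rw [Groth.Agent.Helper4.Comod.mem_range_map_subtype_iff]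
    have a1 := (Groth.Agent.Helper4.Comod.mem_range_map_subtype_iff D₁ D₁ _).mp (h₁c b hb.1)
    have a2 := (Groth.Agent.Helper4.Comod.mem_range_map_subtype_iff D₂ D₂ _).mp (h₂c b hb.2)
    constructor
    · rw [Groth.Agent.Helper4.Comod.mem_range_rTensor_subtype_iff]
      intro l
      exact ⟨(Groth.Agent.Helper4.Comod.mem_range_rTensor_subtype_iff D₁ _).mp a1.1 l,
        (Groth.Agent.Helper4.Comod.mem_range_rTensor_subtype_iff D₂ _).mp a2.1 l⟩
    · rw [Groth.Agent.Helper4.Comod.mem_range_lTensor_subtype_iff]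
      intro f
      exact ⟨(Groth.Agent.Helper4.Comod.mem_range_lTensor_subtype_iff D₁ _).mp a1.2 f,
        (Groth.Agent.Helper4.Comod.mem_range_lTensor_subtype_iff D₂ _).mp a2.2 f⟩
  have hbot : D₁ ⊓ D₂ = ⊥ := by
    rcases h₁s _ inf_le_left hB with h | h
    · exact h
    · exfalso
      have hle : D₁ ≤ D₂ := by rw [← h]; exact inf_le_right
      rcases h₂s D₁ hle h₁c with h' | h'
      · exact h₁0 h'
      · exact hne h'
  ext v
  rw [LinearMap.zero_apply]
  have hφ := LinearMap.congr_fun hφ v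
  simp only [LinearMap.comp_apply] at hφ
  have hx : HopfRep.Comod.coact (k := K) (A := C) (φ v) ∈
      LinearMap.range ((D₁ ⊓ D₂).subtype.lTensor W) := by
    rw [Groth.Agent.Helper4.Comod.mem_range_lTensor_subtype_iff]
    intro f
    refine ⟨?_, (Groth.Agent.Helper4.Comod.mem_range_lTensor_subtype_iff D₂ _).mp (hW (φ v)) f⟩
    rw [hφ]
    obtain ⟨z, hz⟩ := hV v
    rw [← hz, ← LinearMap.comp_apply (φ.rTensor C), LinearMap.rTensor_comp_lTensor,
      ← LinearMap.lTensor_comp_rTensor, LinearMap.comp_apply]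
    exact (Groth.Agent.Helper4.Comod.mem_range_lTensor_subtype_iff D₁ _).mp ⟨_, rfl⟩ f
  obtain ⟨z, hz⟩ := hx
  have hsub : (D₁ ⊓ D₂).subtype = 0 := by
    ext x
    have h3 : (x : C) ∈ D₁ ⊓ D₂ := x.2
    have h4 : (x : C) ∈ (⊥ : Submodule K C) := hbot ▸ h3
    exact (Submodule.mem_bot K).mp h4
  rw [hsub, LinearMap.lTensor_zero, LinearMap.zero_apply] at hz
  have := Groth.Agent.Helper4.Comod.act_counit (k := K) (C := C) (φ v)
  rw [Groth.Agent.Helper4.Comod.act_apply, ← hz, map_zero] at this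
  exact this.symm

end Groth.Agent.S14852
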