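import Groth.Statements.S14861
import Mathlib
-- import your own Groth.Agent.* helpers here

set_option autoImplicit false
universe u
open CAlg

namespace Groth.Agent.S14861

namespace Aux

open WittVector

variable (p : ℕ) [hp : Fact p.Prime] {R : Type u} [CommRing R]

/-- truncation of the reduction mod `J` -/
noncomputable def Tr (m : ℕ) (J : Ideal R) : WittVector p R →+* TruncatedWittVector p m (R ⧸ J) :=
  (WittVector.truncate m).comp (WittVector.map (Ideal.Quotient.mk J))

theorem Tr_coeff (m : ℕ) (J : Ideal R) (x : WittVector p R) (i : Fin m) :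
    (Tr p m J x).coeff i = Ideal.Quotient.mk J (x.coeff i) := by
  unfold Tr
  rw [RingHom.comp_apply, WittVector.coeff_truncate, WittVector.map_coeff]

theorem mem_ker_Tr (m : ℕ) (J : Ideal R) (x : WittVector p R) :
    x ∈ RingHom.ker (Tr p m J) ↔ ∀ i < m, x.coeff i ∈ J := by
  rw [RingHom.mem_ker]
  constructor
  · intro h i hi
    have := congrArg (fun y => TruncatedWittVector.coeff ⟨i, hi⟩ y) h
    simp only [Tr_coeff, TruncatedWittVector.coeff_zero] at this
    exact Ideal.Quotient.eq_zero_iff_mem.mp this
  · intro h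
    apply TruncatedWittVector.ext
    intro i
    rw [Tr_coeff, TruncatedWittVector.coeff_zero]
    exact Ideal.Quotient.eq_zero_iff_mem.mpr (h i i.2)

theorem Tr_eq_iff (m : ℕ) (J : Ideal R) (x y : WittVector p R) :
    Tr p m J x = Tr p m J y ↔ ∀ i < m, x.coeff i - y.coeff i ∈ J := by
  constructor
  · intro h i hi
    have := congrArg (fun y => TruncatedWittVector.coeff ⟨i, hi⟩ y) h
    simp only [Tr_coeff] at this
    exact Ideal.Quotient.eq.mp this
  · intro h
    apply TruncatedWittVector.ext
    intro i
    rw [Tr_coeff, Tr_coeff]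
    exact Ideal.Quotient.eq.mpr (h i i.2)

theorem ker_Tr_mono (m : ℕ) {J J' : Ideal R} (h : J ≤ J') :
    RingHom.ker (Tr p m J) ≤ RingHom.ker (Tr p m J') := by
  intro x hx
  rw [mem_ker_Tr] at hx ⊢
  exact fun i hi => h (hx i hi)

theorem span_pow_le {s s' : ℕ} (h : s ≤ s') :
    Ideal.span {(p : R) ^ s'} ≤ Ideal.span {(p : R) ^ s} := by
  rw [Ideal.span_singleton_le_span_singleton]
  exact pow_dvd_pow _ h

/-- F2 -/
theorem ghost_mem (t n : ℕ) (x : WittVector p R)
    (hx : ∀ i ≤ n, x.coeff i ∈ Ideal.span {(p : R) ^ t}) :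
    ghostComponent n x ∈ Ideal.span {(p : R) ^ t} := by
  rw [ghostComponent_apply, aeval_wittPolynomial]
  apply Ideal.sum_mem
  intro i hi
  rw [Finset.mem_range] at hi
  apply Ideal.mul_mem_left
  exact Ideal.pow_mem_of_mem _ (hx i (by omega)) _ (pow_pos hp.out.pos _)

variable (hR : ∀ y : R, (p : R) * y = 0 → y = 0)

include hR in
theorem pow_cancel (k : ℕ) (y : R) (h : (p : R) ^ k * y = 0) : y = 0 := by
  induction k with
  | zero => simpa using h
  | succ k ih =>
    apply ih
    apply hR
    rw [← mul_assoc, ← pow_succ']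
    exact h

include hR in
theorem mem_of_pow_mul_mem (k t : ℕ) (y : R) (h : (p : R) ^ k * y ∈ Ideal.span {(p : R) ^ (k + t)}) :
    y ∈ Ideal.span {(p : R) ^ t} := by
  rw [Ideal.mem_span_singleton'] at h ⊢
  obtain ⟨r, hr⟩ := h
  refine ⟨r, ?_⟩
  have : (p : R) ^ k * (r * (p : R) ^ t - y) = 0 := by
    rw [mul_sub, ← hr, pow_add]; ring
  exact sub_eq_zero.mp (pow_cancel p hR k _ this)

include hR in
/-- F1 -/
theorem coeff_mem (t : ℕ) (ht : 1 ≤ t) (d : WittVector p R) :
    ∀ n, (∀ k ≤ n, ghostComponent k d ∈ Ideal.span {(p : R) ^ (t + k)}) →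
      d.coeff n ∈ Ideal.span {(p : R) ^ t} := by
  intro n
  induction n using Nat.strong_induction_on with
  | _ n ih =>
    intro hw
    have hwn := hw n le_rfl
    rw [ghostComponent_apply, aeval_wittPolynomial, Finset.sum_range_succ, Nat.sub_self,
      pow_zero, pow_one] at hwn
    have hsum : ∑ i ∈ Finset.range n, (p : R) ^ i * d.coeff i ^ p ^ (n - i)
        ∈ Ideal.span {(p : R) ^ (t + n)} := by
      apply Ideal.sum_mem
      intro i hi
      rw [Finset.mem_range] at hi
      have hdi := ih i hi (fun k hk => hw k (by omega))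
      rw [Ideal.mem_span_singleton'] at hdi
      obtain ⟨r, hr⟩ := hdi
      rw [← hr, mul_pow, ← pow_mul, Ideal.mem_span_singleton]
      have hle : t + n ≤ i + t * p ^ (n - i) := by
        have h1 : n - i < p ^ (n - i) := Nat.lt_pow_self hp.out.one_lt
        have h2 : t * (n - i + 1) ≤ t * p ^ (n - i) := Nat.mul_le_mul_left t h1
        have h3 : (n - i) + t ≤ t * (n - i + 1) := by
          have : 1 * (n - i) ≤ t * (n - i) := Nat.mul_le_mul_right _ ht
          rw [Nat.mul_succ]; omega
        omega
      have : (p : R) ^ i * (r ^ p ^ (n - i) * (p : R) ^ (t * p ^ (n - i)))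
          = (p : R) ^ (i + t * p ^ (n - i)) * r ^ p ^ (n - i) := by
        rw [pow_add]; ring
      rw [this]
      exact Dvd.dvd.mul_right (pow_dvd_pow _ hle) _
    have h2 : (p : R) ^ n * d.coeff n ∈ Ideal.span {(p : R) ^ (n + t)} := by
      have := Ideal.sub_mem _ hwn hsum
      rw [add_sub_cancel_left, add_comm t n] at this
      exact this
    exact mem_of_pow_mul_mem p hR n t _ h2

include hR in
/-- Lemma A -/
theorem lemmaA (m u s : ℕ) (d : WittVector p R)
    (hd : ∀ i < m, ((p : WittVector p R) ^ u * d).coeff i ∈ Ideal.span {(p : R) ^ (s + u + m)}) :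
    ∀ i < m, d.coeff i ∈ Ideal.span {(p : R) ^ s} := by
  rcases Nat.eq_zero_or_pos s with rfl | hs
  · intro i _
    rw [pow_zero, Ideal.span_singleton_one]
    trivial
  have hw : ∀ k < m, ghostComponent k d ∈ Ideal.span {(p : R) ^ (s + k)} := by
    intro k hk
    have h1 := ghost_mem p (s + u + m) k _ (fun i hi => hd i (by omega))
    rw [map_mul, map_pow, map_natCast] at h1
    have h2 : (p : R) ^ u * ghostComponent k d ∈ Ideal.span {(p : R) ^ (u + (s + k))} :=
      span_pow_le p (by omega) h1
    exact mem_of_pow_mul_mem p hR u (s + k) _ h2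
  intro i hi
  exact coeff_mem p hR s hs d i (fun k hk => hw k (by omega))

include hR in
theorem main [IsAdicComplete (Ideal.span {(p : R)}) R]
    (a : WittVector p R) (m u : ℕ)
    (h : ∀ s : ℕ, ∃ z : WittVector p R, ∀ i < m,
      ((p : WittVector p R) ^ u * z - a).coeff i ∈ Ideal.span {(p : R) ^ s}) :
    ∃ x : WittVector p R, ∀ i < m, ((p : WittVector p R) ^ u * x - a).coeff i = 0 := by
  choose z hz using h
  -- z' s = z (s + u + m)
  have hz' : ∀ s, (p : WittVector p R) ^ u * z (s + u + m) - a
      ∈ RingHom.ker (Tr p m (Ideal.span {(p : R) ^ (s + u + m)})) := by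
    intro s
    rw [mem_ker_Tr]
    exact hz (s + u + m)
  -- Cauchy
  have hC : ∀ s s', s ≤ s' → ∀ i < m,
      (z (s + u + m)).coeff i - (z (s' + u + m)).coeff i ∈ Ideal.span {(p : R) ^ s} := by
    intro s s' hss'
    have h1 : (p : WittVector p R) ^ u * (z (s + u + m) - z (s' + u + m))
        ∈ RingHom.ker (Tr p m (Ideal.span {(p : R) ^ (s + u + m)})) := by
      have e : (p : WittVector p R) ^ u * (z (s + u + m) - z (s' + u + m))
          = ((p : WittVector p R) ^ u * z (s + u + m) - a)
            - ((p : WittVector p R) ^ u * z (s' + u + m) - a) := by ring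
      rw [e]
      exact Ideal.sub_mem _ (hz' s) (ker_Tr_mono p m (span_pow_le p (by omega)) (hz' s'))
    rw [mem_ker_Tr] at h1
    have h2 := lemmaA p hR m u s _ h1
    have h3 : z (s + u + m) - z (s' + u + m) ∈ RingHom.ker (Tr p m (Ideal.span {(p : R) ^ s})) := by
      rw [mem_ker_Tr]; exact h2
    rw [RingHom.mem_ker, map_sub, sub_eq_zero] at h3
    exact (Tr_eq_iff p m _ _ _).mp h3
  -- limits
  have hL : ∀ i, ∃ L : R, i < m → ∀ s, (z (s + u + m)).coeff i - L ∈ Ideal.span {(p : R) ^ s} := by
    intro i
    by_cases hi : i < m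
    · obtain ⟨L, hL⟩ := IsPrecomplete.prec (I := Ideal.span {(p : R)}) (M := R) inferInstance
        (f := fun s => (z (s + u + m)).coeff i) (by
          intro s s' hss'
          rw [SModEq.sub_mem, smul_eq_mul, Ideal.mul_top, Ideal.span_singleton_pow]
          exact hC s s' hss' i hi)
      refine ⟨L, fun _ s => ?_⟩
      have := hL s
      rw [SModEq.sub_mem, smul_eq_mul, Ideal.mul_top, Ideal.span_singleton_pow] at this
      exact this
    · exact ⟨0, fun h => absurd h hi⟩
  choose L hL using hL
  refine ⟨WittVector.mk p L, ?_⟩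
  intro i hi
  apply IsHausdorff.haus (I := Ideal.span {(p : R)}) (M := R) inferInstance
  intro s
  rw [SModEq.sub_mem, smul_eq_mul, Ideal.mul_top, Ideal.span_singleton_pow, sub_zero]
  have h1 : Tr p m (Ideal.span {(p : R) ^ s}) (WittVector.mk p L)
      = Tr p m (Ideal.span {(p : R) ^ s}) (z (s + u + m)) := by
    rw [Tr_eq_iff]
    intro j hj
    have := hL j hj s
    rw [WittVector.coeff_mk]
    have e : L j - (z (s + u + m)).coeff j = -((z (s + u + m)).coeff j - L j) := by ring
    rw [e]
    exact neg_mem this
  have h2 : (p : WittVector p R) ^ u * WittVector.mk p L - a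
      ∈ RingHom.ker (Tr p m (Ideal.span {(p : R) ^ s})) := by
    rw [RingHom.mem_ker, map_sub, map_mul, h1, ← map_mul, ← map_sub, ← RingHom.mem_ker]
    exact ker_Tr_mono p m (span_pow_le p (by omega)) (hz' s)
  exact (mem_ker_Tr p m _ _).mp h2 i hi

end Aux

/-- Let p be a prime and R a commutative ring without p-torsion which is complete and separated for the
p-adic topology. Let a be a p-typical Witt vector over R and m, u natural numbers. Suppose that for
every s the equation p^u·x = a has a solution in the truncated Witt ring W_m(R/p^s R), i.e. there is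
z ∈ W(R) such that the first m Witt components of p^u·z − a lie in p^s R. Then the equation has a
solution in W_m(R): there is x ∈ W(R) such that the first m Witt components of p^u·x − a vanish.
(The published statement asks only that R have no p-torsion; R is moreover taken p-adically complete
and separated here, which is the standing situation of the surrounding argument and is what the
published proof uses when it passes to the limit over s.) -/
theorem result (p : ℕ) [Fact p.Prime] (R : Type u) [CommRing R]
    (hR : ∀ y : R, (p : R) * y = 0 → y = 0) [IsAdicComplete (Ideal.span {(p : R)}) R]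
    (a : WittVector p R) (m u : ℕ)
    (h : ∀ s : ℕ, ∃ z : WittVector p R, ∀ i < m, ((p : WittVector p R) ^ u * z - a).coeff i ∈ Ideal.span {(p : R) ^ s}) :
    ∃ x : WittVector p R, ∀ i < m, ((p : WittVector p R) ^ u * x - a).coeff i = 0 := by
  exact Aux.main p hR a m u h

end Groth.Agent.S14861
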