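import Groth.Statements.S14862
import Mathlib
import Groth.Agent.S14861
-- import your own Groth.Agent.* helpers here

set_option autoImplicit false
universe u
open CAlg

namespace Groth.Agent.S14862

namespace Aux

open WittVector
open Groth.Agent.S14861.Aux

variable (p : ℕ) [hp : Fact p.Prime] {S : Type u} [CommRing S]
variable (hS : ∀ y : S, (p : S) * y = 0 → y = 0)

include hS in
/-- `p^u t ∈ I_r ⇒ t ∈ I_r` -/
theorem mem_ker_truncate_of_mul [IsAdicComplete (Ideal.span {(p : S)}) S] (u r : ℕ)
    (t : WittVector p S)
    (h : (p : WittVector p S) ^ u * t ∈ RingHom.ker (WittVector.truncate (p := p) (R := S) r)) :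
    t ∈ RingHom.ker (WittVector.truncate (p := p) (R := S) r) := by
  rw [WittVector.mem_ker_truncate] at h ⊢
  intro i hi
  apply IsHausdorff.haus (I := Ideal.span {(p : S)}) (M := S) inferInstance
  intro s
  rw [SModEq.sub_mem, smul_eq_mul, Ideal.mul_top, Ideal.span_singleton_pow, sub_zero]
  exact lemmaA p hS r u s t (fun j hj => by rw [h j hj]; exact zero_mem _) i hi

include hS in
theorem main [IsAdicComplete (Ideal.span {(p : S)}) S] (u : ℕ) :
    (⨅ r : ℕ, ⨅ s : ℕ,
        Ideal.span {(p : WittVector p S) ^ u} ⊔ RingHom.ker (WittVector.truncate (p := p) (R := S) r) ⊔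
          RingHom.ker (WittVector.map (p := p) (Ideal.Quotient.mk (Ideal.span {(p : S) ^ s})))) =
      Ideal.span {(p : WittVector p S) ^ u} := by
  apply le_antisymm
  · intro x hx
    rw [Ideal.mem_iInf] at hx
    -- step 1: for every r, a solution modulo I_r
    have h1 : ∀ r, ∃ y : WittVector p S,
        (p : WittVector p S) ^ u * y - x ∈ RingHom.ker (WittVector.truncate (p := p) (R := S) r) := by
      intro r
      have hr := hx r
      rw [Ideal.mem_iInf] at hr
      have : ∀ s : ℕ, ∃ z : WittVector p S, ∀ i < r,
          ((p : WittVector p S) ^ u * z - x).coeff i ∈ Ideal.span {(p : S) ^ s} := by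
        intro s
        have hrs := hr s
        rw [Submodule.mem_sup] at hrs
        obtain ⟨y1, hy1, w, hw, hyw⟩ := hrs
        rw [Submodule.mem_sup] at hy1
        obtain ⟨y0, hy0, v, hv, hyv⟩ := hy1
        rw [Ideal.mem_span_singleton'] at hy0
        obtain ⟨z, hz⟩ := hy0
        refine ⟨z, ?_⟩
        rw [← mem_ker_Tr]
        have e : (p : WittVector p S) ^ u * z - x = -(v + w) := by
          rw [← hyw, ← hyv, ← hz]; ring
        rw [e]
        apply Ideal.neg_mem_iff _ |>.mpr
        apply Ideal.add_mem
        · rw [mem_ker_Tr]
          intro i hi
          rw [(WittVector.mem_ker_truncate r v).mp hv i hi]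
          exact zero_mem _
        · rw [RingHom.mem_ker] at hw ⊢
          unfold Tr
          rw [RingHom.comp_apply, hw, map_zero]
      obtain ⟨y, hy⟩ := Groth.Agent.S14861.Aux.main p hS x r u this
      exact ⟨y, (WittVector.mem_ker_truncate r _).mpr hy⟩
    choose y hy using h1
    -- compatibility
    have h2 : ∀ r r', r ≤ r' → ∀ i < r, (y r).coeff i = (y r').coeff i := by
      intro r r' hrr' i hi
      have : (p : WittVector p S) ^ u * (y r - y r')
          ∈ RingHom.ker (WittVector.truncate (p := p) (R := S) r) := by
        have e : (p : WittVector p S) ^ u * (y r - y r')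
            = ((p : WittVector p S) ^ u * y r - x) - ((p : WittVector p S) ^ u * y r' - x) := by ring
        rw [e]
        apply Ideal.sub_mem _ (hy r)
        rw [WittVector.mem_ker_truncate]
        intro j hj
        exact (WittVector.mem_ker_truncate r' _).mp (hy r') j (by omega)
      have h3 := mem_ker_truncate_of_mul p hS u r _ this
      rw [RingHom.mem_ker, map_sub, sub_eq_zero] at h3
      have := congrArg (fun t => TruncatedWittVector.coeff ⟨i, hi⟩ t) h3
      simpa only [WittVector.coeff_truncate] using this
    set Y : WittVector p S := WittVector.mk p (fun i => (y (i + 1)).coeff i) with hY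
    have h3 : ∀ r, WittVector.truncate (p := p) (R := S) r Y = WittVector.truncate r (y r) := by
      intro r
      apply TruncatedWittVector.ext
      intro i
      rw [WittVector.coeff_truncate, WittVector.coeff_truncate, hY, WittVector.coeff_mk]
      exact (h2 (i + 1) r (by omega) i (by omega))
    have h4 : (p : WittVector p S) ^ u * Y - x = 0 := by
      have : (p : WittVector p S) ^ u * Y - x
          ∈ ⨅ i : ℕ, RingHom.ker (WittVector.truncate (p := p) (R := S) i) := by
        rw [Ideal.mem_iInf]
        intro r
        rw [RingHom.mem_ker, map_sub, map_mul, h3, ← map_mul, ← map_sub, ← RingHom.mem_ker]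
        exact hy r
      rw [TruncatedWittVector.iInf_ker_truncate] at this
      exact this
    rw [Ideal.mem_span_singleton']
    exact ⟨Y, by rw [mul_comm]; exact sub_eq_zero.mp h4⟩
  · refine le_iInf fun r => le_iInf fun s => ?_
    exact le_sup_left.trans le_sup_left

end Aux

/-- Let p be a prime and S a commutative ring without p-torsion which is complete and separated for the
p-adic topology; write W = W(S) for the p-typical Witt vectors, I_r ⊆ W for the ideal of Witt
vectors whose first r components vanish (the image of the r-th iterate of the Verschiebung) and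
W(p^s S) ⊆ W for the ideal of Witt vectors all of whose components lie in p^s S (the kernel of W(S)
→ W(S/p^s S)). Then for every natural number u the ideal p^u W is closed for the linear topology on
W in which the ideals I_r + W(p^s S) form a neighbourhood basis of zero: the intersection over all r
and s of p^u W + I_r + W(p^s S) equals p^u W. (The published statement asks only that S have no
p-torsion; S is moreover taken p-adically complete and separated here, the case in which the result
is applied and through which the published proof goes.) -/
theorem result (p : ℕ) [Fact p.Prime] (S : Type u) [CommRing S]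
    (hS : ∀ y : S, (p : S) * y = 0 → y = 0) [IsAdicComplete (Ideal.span {(p : S)}) S] (u : ℕ) :
    (⨅ r : ℕ, ⨅ s : ℕ,
        Ideal.span {(p : WittVector p S) ^ u} ⊔ RingHom.ker (WittVector.truncate (p := p) (R := S) r) ⊔
          RingHom.ker (WittVector.map (p := p) (Ideal.Quotient.mk (Ideal.span {(p : S) ^ s})))) =
      Ideal.span {(p : WittVector p S) ^ u} := by
  exact Aux.main p hS u

end Groth.Agent.S14862
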