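import Groth.Statements.S14855
import Mathlib
import Groth.Agent.S14862
import Groth.Agent.Lib.Helper4.Witt2
-- import your own Groth.Agent.* helpers here

set_option autoImplicit false
universe u
open CAlg

namespace Groth.Agent.S14855

namespace Aux
open WittVector

section K1
variable {p : ℕ} [hp : Fact p.Prime] {A : Type u} [CommRing A]

/-- the `r`-truncated, mod `p^s` reduction of Witt vectors: membership in its kernel -/
def KerT (r s : ℕ) (d : WittVector p A) : Prop :=
  ∀ i < r, d.coeff i ∈ Ideal.span {(p : A) ^ s}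

lemma kerT_iff (r s : ℕ) (d : WittVector p A) :
    KerT r s d ↔ (WittVector.truncate (p := p) r)
      (WittVector.map (Ideal.Quotient.mk (Ideal.span {(p : A) ^ s})) d) = 0 := by
  rw [← RingHom.mem_ker, WittVector.mem_ker_truncate]
  unfold KerT
  refine forall₂_congr (fun i _ => ?_)
  rw [WittVector.map_coeff, Ideal.Quotient.eq_zero_iff_mem]

lemma kerT_sub_iff (r s : ℕ) (a b : WittVector p A) :
    KerT r s (a - b) ↔ ∀ i < r, a.coeff i - b.coeff i ∈ Ideal.span {(p : A) ^ s} := by
  rw [kerT_iff, map_sub, map_sub, sub_eq_zero, TruncatedWittVector.ext_iff]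
  constructor
  · intro h i hi
    have := h ⟨i, hi⟩
    rw [WittVector.coeff_truncate, WittVector.coeff_truncate, WittVector.map_coeff,
      WittVector.map_coeff] at this
    exact Ideal.Quotient.eq.mp this
  · intro h i
    rw [WittVector.coeff_truncate, WittVector.coeff_truncate, WittVector.map_coeff,
      WittVector.map_coeff]
    exact Ideal.Quotient.eq.mpr (h i i.2)

lemma kerT_add {r s : ℕ} {a b : WittVector p A} (ha : KerT r s a) (hb : KerT r s b) :
    KerT r s (a + b) := by
  rw [kerT_iff] at *
  rw [map_add, map_add, ha, hb, add_zero]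

lemma kerT_of_mem_span_pow (r s : ℕ) (d : WittVector p A)
    (hd : d ∈ Ideal.span {(p : WittVector p A)} ^ (s * r)) : KerT r s d := by
  rw [kerT_iff, ← RingHom.mem_ker]
  set B := A ⧸ Ideal.span {(p : A) ^ s}
  have hN : ((p : B)) ^ s = 0 := by
    have : ((p : B)) ^ s = Ideal.Quotient.mk (Ideal.span {(p : A) ^ s}) ((p : A) ^ s) := by
      rw [map_pow, map_natCast]
    rw [this, Ideal.Quotient.eq_zero_iff_mem]
    exact Ideal.mem_span_singleton_self _
  apply Groth.Agent.Helper4.Witt.span_pow_le_ker_truncate hN r
  rw [Ideal.span_singleton_pow, Ideal.mem_span_singleton] at hd ⊢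
  obtain ⟨c, rfl⟩ := hd
  exact ⟨WittVector.map _ c, by rw [map_mul, map_pow, map_natCast]⟩

lemma kerT_le_sup (r s : ℕ) (d : WittVector p A) (hd : KerT r s d) :
    d ∈ RingHom.ker (WittVector.truncate (p := p) (R := A) r) ⊔
      RingHom.ker (WittVector.map (p := p) (Ideal.Quotient.mk (Ideal.span {(p : A) ^ s}))) := by
  rw [← WittVector.init_add_tail d r, add_comm]
  refine Submodule.add_mem_sup ?_ ?_
  · rw [WittVector.mem_ker_truncate]
    intro i hi
    simp only [WittVector.tail, WittVector.select, WittVector.coeff_mk, if_neg (not_le.mpr hi)]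
  · rw [RingHom.mem_ker]
    ext i
    rw [WittVector.map_coeff, WittVector.zero_coeff, Ideal.Quotient.eq_zero_iff_mem]
    simp only [WittVector.init, WittVector.select, WittVector.coeff_mk]
    split_ifs with hi
    · exact hd i hi
    · exact Ideal.zero_mem _

end K1

section padic
variable {p : ℕ} [hp : Fact p.Prime]

lemma smodEq_span_iff {A : Type*} [CommRing A] (a x y : A) (n : ℕ) :
    x ≡ y [SMOD (Ideal.span {a} ^ n • ⊤ : Submodule A A)] ↔ x - y ∈ Ideal.span {a ^ n} := by
  rw [SModEq.sub_mem, smul_eq_mul, Ideal.mul_top, Ideal.span_singleton_pow]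

theorem hausdorff_W (R : Type u) [CommRing R] [IsHausdorff (Ideal.span {(p : R)}) R] :
    IsHausdorff (Ideal.span {(p : WittVector p R)}) (WittVector p R) := by
  constructor
  intro x hx
  ext i
  rw [WittVector.zero_coeff]
  apply IsHausdorff.haus' (I := Ideal.span {(p : R)})
  intro s
  have h1 := hx (s * (i + 1))
  rw [smodEq_span_iff, sub_zero, ← Ideal.span_singleton_pow] at h1
  have h2 := kerT_of_mem_span_pow (i + 1) s x h1 i (Nat.lt_succ_self i)
  rw [smodEq_span_iff, sub_zero]
  exact h2

theorem precomplete_W_torsionFree (S : Type u) [CommRing S]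
    (hS : ∀ y : S, (p : S) * y = 0 → y = 0) [IsAdicComplete (Ideal.span {(p : S)}) S] :
    IsPrecomplete (Ideal.span {(p : WittVector p S)}) (WittVector p S) := by
  constructor
  intro f hf
  have hf' : ∀ m n, m ≤ n → f m - f n ∈ Ideal.span {(p : WittVector p S)} ^ m := by
    intro m n hmn
    have := hf hmn
    rwa [smodEq_span_iff, ← Ideal.span_singleton_pow] at this
  -- componentwise limits
  have hK : ∀ (r s m n : ℕ), s * r ≤ m → m ≤ n → ∀ i < r,
      (f m).coeff i - (f n).coeff i ∈ Ideal.span {(p : S) ^ s} := by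
    intro r s m n hm hmn
    rw [← kerT_sub_iff]
    exact kerT_of_mem_span_pow r s _ (Ideal.pow_le_pow_right hm (hf' m n hmn))
  have hL : ∀ i : ℕ, ∃ L : S, ∀ s, (f (s * (i + 1))).coeff i - L ∈ Ideal.span {(p : S) ^ s} := by
    intro i
    have := IsPrecomplete.prec (I := Ideal.span {(p : S)}) (M := S) inferInstance
      (f := fun s => (f (s * (i + 1))).coeff i) (by
        intro s s' hss
        rw [smodEq_span_iff]
        exact hK (i + 1) s _ _ le_rfl (Nat.mul_le_mul_right _ hss) i (Nat.lt_succ_self i))
    obtain ⟨L, hL⟩ := this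
    exact ⟨L, fun s => by have := hL s; rwa [smodEq_span_iff] at this⟩
  choose L hL using hL
  have key : ∀ r s k, s * r ≤ k → KerT r s (f k - WittVector.mk p L) := by
    intro r s k hk
    rw [kerT_sub_iff]
    intro i hi
    have h1 : s * (i + 1) ≤ k := le_trans (Nat.mul_le_mul_left _ hi) hk
    have h2 := hK (i + 1) s _ _ le_rfl h1 i (Nat.lt_succ_self i)
    have h3 := hL i s
    have : (f k).coeff i - (WittVector.mk p L).coeff i =
        -((f (s * (i + 1))).coeff i - (f k).coeff i) + ((f (s * (i + 1))).coeff i - L i) := by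
      rw [WittVector.coeff_mk]; ring
    rw [this]
    exact Ideal.add_mem _ (Ideal.neg_mem_iff _ |>.mpr h2) h3
  refine ⟨WittVector.mk p L, fun n => ?_⟩
  rw [smodEq_span_iff, ← Groth.Agent.S14862.result p S hS n]
  simp only [Submodule.mem_iInf]
  intro r s
  rw [sup_assoc]
  have h1 : f n - WittVector.mk p L = (f n - f (max n (s * r))) + (f (max n (s * r)) - WittVector.mk p L) := by
    ring
  rw [h1]
  refine Submodule.add_mem_sup ?_ ?_
  · have := hf' n (max n (s * r)) (le_max_left _ _)
    rwa [Ideal.span_singleton_pow] at this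
  · exact kerT_le_sup r s _ (key r s _ (le_max_right _ _))

lemma precomplete_of_surjective {A B : Type*} [CommRing A] [CommRing B] (ψ : A →+* B)
    (hψ : Function.Surjective ψ) (a : A) [IsPrecomplete (Ideal.span {a}) A] :
    IsPrecomplete (Ideal.span {ψ a}) B := by
  constructor
  intro f hf
  have h1 : ∀ n, ∃ d : B, f (n + 1) - f n = (ψ a) ^ n * d := by
    intro n
    have := (hf (Nat.le_succ n)).symm
    rw [smodEq_span_iff, Ideal.mem_span_singleton] at this
    exact this
  choose d hd using h1
  choose c hc using fun n => hψ (d n)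
  obtain ⟨g0, hg0⟩ := hψ (f 0)
  set g : ℕ → A := fun n => g0 + ∑ j ∈ Finset.range n, a ^ j * c j with hg
  have hgf : ∀ n, ψ (g n) = f n := by
    intro n
    induction n with
    | zero => simp [hg, hg0]
    | succ n ih =>
      have : g (n + 1) = g n + a ^ n * c n := by
        simp only [hg, Finset.sum_range_succ]; ring
      rw [this, map_add, ih, map_mul, map_pow, hc, ← hd]; ring
  have hgC : ∀ {m n : ℕ}, m ≤ n → g m ≡ g n [SMOD (Ideal.span {a} ^ m • ⊤ : Submodule A A)] := by
    intro m n hmn
    rw [smodEq_span_iff, Ideal.mem_span_singleton]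
    refine ⟨-∑ j ∈ Finset.Ico m n, a ^ (j - m) * c j, ?_⟩
    have : g m - g n = -(∑ j ∈ Finset.range n, a ^ j * c j - ∑ j ∈ Finset.range m, a ^ j * c j) := by
      simp only [hg]; ring
    rw [this, ← Finset.sum_Ico_eq_sub _ hmn, mul_neg, Finset.mul_sum]
    congr 1
    refine Finset.sum_congr rfl (fun j hj => ?_)
    rw [← mul_assoc, ← pow_add, Nat.add_sub_cancel' (Finset.mem_Ico.mp hj).1]
  obtain ⟨L', hL'⟩ := IsPrecomplete.prec (I := Ideal.span {a}) (M := A) inferInstance hgC
  refine ⟨ψ L', fun n => ?_⟩
  have := hL' n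
  rw [smodEq_span_iff, Ideal.mem_span_singleton] at this ⊢
  obtain ⟨e, he⟩ := this
  exact ⟨ψ e, by rw [← hgf n, ← map_sub, he, map_mul, map_pow]⟩

end padic

section completion
variable (P : Type u) [CommRing P] (a : P)

/-- completeness of the completion, as a ring -/
theorem complete_completion :
    IsAdicComplete (Ideal.span {(algebraMap P (AdicCompletion (Ideal.span {a}) P) a)})
      (AdicCompletion (Ideal.span {a}) P) := by
  have h1 : IsAdicComplete (Ideal.span {a}) (AdicCompletion (Ideal.span {a}) P) :=
    AdicCompletion.isAdicComplete ⟨{a}, by simp⟩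
  have h2 : (Ideal.span {a}).map (algebraMap P (AdicCompletion (Ideal.span {a}) P)) =
      Ideal.span {(algebraMap P (AdicCompletion (Ideal.span {a}) P) a)} := by
    rw [Ideal.map_span, Set.image_singleton]
  rw [← h2]
  haveI : IsHausdorff ((Ideal.span {a}).map (algebraMap P (AdicCompletion (Ideal.span {a}) P)))
      (AdicCompletion (Ideal.span {a}) P) := IsHausdorff.map_algebraMap_iff.mpr h1.toIsHausdorff
  haveI : IsPrecomplete ((Ideal.span {a}).map (algebraMap P (AdicCompletion (Ideal.span {a}) P)))
      (AdicCompletion (Ideal.span {a}) P) := IsPrecomplete.map_algebraMap_iff.mpr h1.toIsPrecomplete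
  exact ⟨⟩

/-- torsion-freeness of the completion -/
theorem torsionFree_completion (ha : ∀ y : P, a * y = 0 → y = 0)
    (x : AdicCompletion (Ideal.span {a}) P)
    (hx : algebraMap P (AdicCompletion (Ideal.span {a}) P) a * x = 0) : x = 0 := by
  obtain ⟨c, rfl⟩ := AdicCompletion.mk_surjective (Ideal.span {a}) P x
  apply AdicCompletion.ext_evalₐ
  intro n
  rw [map_zero, AdicCompletion.evalₐ_mk, Ideal.Quotient.eq_zero_iff_mem]
  have h1 := congrArg (AdicCompletion.evalₐ (Ideal.span {a}) (n + 1)) hx
  rw [map_mul, map_zero, AdicCompletion.evalₐ_mk, AdicCompletion.algebraMap_apply,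
    AdicCompletion.evalₐ_of, Algebra.algebraMap_self, RingHom.id_apply, ← map_mul,
    Ideal.Quotient.eq_zero_iff_mem, Ideal.span_singleton_pow, Ideal.mem_span_singleton] at h1
  obtain ⟨z, hz⟩ := h1
  have h2 : c.val (n + 1) = a ^ n * z := by
    have : a * (c.val (n + 1) - a ^ n * z) = 0 := by rw [mul_sub, hz]; ring
    exact sub_eq_zero.mp (ha _ this)
  have h3 := c.property (Nat.le_succ n)
  rw [SModEq.sub_mem, smul_eq_mul, Ideal.mul_top] at h3
  have h4 : c.val (n + 1) ∈ Ideal.span {a} ^ n := by
    rw [h2, Ideal.span_singleton_pow]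
    exact Ideal.mul_mem_right _ _ (Ideal.mem_span_singleton_self _)
  have := Ideal.add_mem _ h3 h4
  rwa [sub_add_cancel] at this

theorem exists_lift {R : Type*} [CommRing R] (φ : P →+* R)
    [IsAdicComplete (Ideal.span {φ a}) R] :
    ∃ Φ : AdicCompletion (Ideal.span {a}) P →+* R,
      ∀ y : P, Φ (algebraMap P (AdicCompletion (Ideal.span {a}) P) y) = φ y := by
  have hker : ∀ n : ℕ, ∀ y ∈ Ideal.span {a} ^ n,
      ((Ideal.Quotient.mk (Ideal.span {φ a} ^ n)).comp φ) y = 0 := by
    intro n y hy
    rw [Ideal.span_singleton_pow, Ideal.mem_span_singleton] at hy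
    obtain ⟨z, rfl⟩ := hy
    rw [RingHom.comp_apply, Ideal.Quotient.eq_zero_iff_mem, map_mul, map_pow,
      Ideal.span_singleton_pow]
    exact Ideal.mul_mem_right _ _ (Ideal.mem_span_singleton_self _)
  set f : (n : ℕ) → AdicCompletion (Ideal.span {a}) P →+* R ⧸ Ideal.span {φ a} ^ n := fun n =>
    (Ideal.Quotient.lift (Ideal.span {a} ^ n) ((Ideal.Quotient.mk (Ideal.span {φ a} ^ n)).comp φ)
      (hker n)).comp (AdicCompletion.evalₐ (Ideal.span {a}) n).toRingHom with hf
  have hfmk : ∀ n (c : AdicCompletion.AdicCauchySequence (Ideal.span {a}) P),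
      f n (AdicCompletion.mk (Ideal.span {a}) P c) =
        Ideal.Quotient.mk (Ideal.span {φ a} ^ n) (φ (c.val n)) := by
    intro n c
    simp only [hf, RingHom.comp_apply, AlgHom.toRingHom_eq_coe, RingHom.coe_coe,
      AdicCompletion.evalₐ_mk, Ideal.Quotient.lift_mk]
  have hcompat : ∀ {m n : ℕ} (hle : m ≤ n),
      (Ideal.Quotient.factorPow (Ideal.span {φ a}) hle).comp (f n) = f m := by
    intro m n hle
    ext x
    obtain ⟨c, rfl⟩ := AdicCompletion.mk_surjective (Ideal.span {a}) P x
    rw [RingHom.comp_apply, hfmk, hfmk, Ideal.Quotient.factorPow, Ideal.Quotient.factor_mk,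
      Ideal.Quotient.eq, ← map_sub]
    have h3 := (c.property hle).symm
    rw [SModEq.sub_mem, smul_eq_mul, Ideal.mul_top, Ideal.span_singleton_pow,
      Ideal.mem_span_singleton] at h3
    obtain ⟨z, hz⟩ := h3
    rw [hz, map_mul, map_pow, Ideal.span_singleton_pow]
    exact Ideal.mul_mem_right _ _ (Ideal.mem_span_singleton_self _)
  refine ⟨IsAdicComplete.liftRingHom (Ideal.span {φ a}) f hcompat, fun y => ?_⟩
  rw [← sub_eq_zero]
  apply IsHausdorff.haus' (I := Ideal.span {φ a})
  intro n
  rw [SModEq.sub_mem, sub_zero, smul_eq_mul, Ideal.mul_top, ← Ideal.Quotient.eq,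
    IsAdicComplete.mk_liftRingHom]
  simp only [hf, RingHom.comp_apply, AlgHom.toRingHom_eq_coe, RingHom.coe_coe,
    AdicCompletion.algebraMap_apply, AdicCompletion.evalₐ_of, Algebra.algebraMap_self,
    RingHom.id_apply, Ideal.Quotient.lift_mk]

end completion

section cover
variable {p : ℕ} [hp : Fact p.Prime]

theorem exists_cover (R : Type u) [CommRing R] [IsAdicComplete (Ideal.span {(p : R)}) R] :
    ∃ (S : Type u) (_ : CommRing S) (_ : IsAdicComplete (Ideal.span {(p : S)}) S) (φ : S →+* R),
      (∀ y : S, (p : S) * y = 0 → y = 0) ∧ Function.Surjective φ := by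
  set P := MvPolynomial R ℤ with hP
  set φ : P →+* R := MvPolynomial.eval₂Hom (Int.castRingHom R) id with hφ
  have hφp : φ (p : P) = (p : R) := map_natCast φ p
  have hφsurj : Function.Surjective φ := fun r => ⟨MvPolynomial.X r, by
    rw [hφ, MvPolynomial.coe_eval₂Hom, MvPolynomial.eval₂_X]; rfl⟩
  haveI : IsAdicComplete (Ideal.span {φ (p : P)}) R := by rw [hφp]; infer_instance
  obtain ⟨Φ, hΦ⟩ := exists_lift P (p : P) φ
  have hap : algebraMap P (AdicCompletion (Ideal.span {(p : P)}) P) (p : P) =
      (p : AdicCompletion (Ideal.span {(p : P)}) P) := map_natCast _ p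
  refine ⟨AdicCompletion (Ideal.span {(p : P)}) P, inferInstance, ?_, Φ, ?_, ?_⟩
  · have := complete_completion P (p : P)
    rwa [hap] at this
  · intro y hy
    refine torsionFree_completion P (p : P) ?_ y (by rw [hap]; exact hy)
    intro z hz
    rcases mul_eq_zero.mp hz with h | h
    · exact absurd h (Nat.cast_ne_zero.mpr hp.out.ne_zero)
    · exact h
  · intro r
    obtain ⟨y, rfl⟩ := hφsurj r
    exact ⟨_, hΦ y⟩

theorem padic_complete (R : Type u) [CommRing R] [IsAdicComplete (Ideal.span {(p : R)}) R] :
    IsAdicComplete (Ideal.span {(p : WittVector p R)}) (WittVector p R) := by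
  haveI := hausdorff_W (p := p) R
  haveI : IsPrecomplete (Ideal.span {(p : WittVector p R)}) (WittVector p R) := by
    obtain ⟨S, _, _, φ, hS, hφ⟩ := exists_cover (p := p) R
    haveI := precomplete_W_torsionFree (p := p) S hS
    have := precomplete_of_surjective (WittVector.map (p := p) φ)
      (WittVector.map_surjective φ hφ) (p : WittVector p S)
    rwa [map_natCast] at this
  exact ⟨⟩

end cover

section Iadic
variable {p : ℕ} [hp : Fact p.Prime]
open Groth.Agent.Helper4.Witt

lemma span_mul_ker_le (R : Type u) [CommRing R] :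
    Ideal.span {(p : WittVector p R)} * RingHom.ker (constantCoeff : WittVector p R →+* R) ≤
      RingHom.ker (constantCoeff : WittVector p R →+* R) *
        RingHom.ker (constantCoeff : WittVector p R →+* R) := by
  rw [Ideal.mul_le]
  intro a ha b hb
  rw [Ideal.mem_span_singleton] at ha
  obtain ⟨c, rfl⟩ := ha
  obtain ⟨b', rfl⟩ := (mem_ker_constantCoeff_iff b).mp hb
  have h1 : (p : WittVector p R) * c * verschiebung b' =
      (verschiebung (1 : WittVector p R) * verschiebung b') * c := by
    rw [verschiebung_mul_verschiebung, one_mul]; ring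
  rw [h1]
  refine Ideal.mul_mem_right _ _ (Ideal.mul_mem_mul ?_ ?_)
  · exact (mem_ker_constantCoeff_iff _).mpr ⟨_, rfl⟩
  · exact (mem_ker_constantCoeff_iff _).mpr ⟨_, rfl⟩

lemma span_pow_mul_ker_le (R : Type u) [CommRing R] (n : ℕ) :
    Ideal.span {(p : WittVector p R)} ^ n * RingHom.ker (constantCoeff : WittVector p R →+* R) ≤
      RingHom.ker (constantCoeff : WittVector p R →+* R) ^ (n + 1) := by
  induction n with
  | zero => simp
  | succ n ih =>
    calc Ideal.span {(p : WittVector p R)} ^ (n + 1) *
          RingHom.ker (constantCoeff : WittVector p R →+* R)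
        = Ideal.span {(p : WittVector p R)} ^ n * (Ideal.span {(p : WittVector p R)} *
          RingHom.ker (constantCoeff : WittVector p R →+* R)) := by rw [pow_succ, mul_assoc]
      _ ≤ Ideal.span {(p : WittVector p R)} ^ n *
          (RingHom.ker (constantCoeff : WittVector p R →+* R) *
          RingHom.ker (constantCoeff : WittVector p R →+* R)) :=
          Ideal.mul_mono_right (span_mul_ker_le R)
      _ = (Ideal.span {(p : WittVector p R)} ^ n *
          RingHom.ker (constantCoeff : WittVector p R →+* R)) *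
          RingHom.ker (constantCoeff : WittVector p R →+* R) := by rw [mul_assoc]
      _ ≤ RingHom.ker (constantCoeff : WittVector p R →+* R) ^ (n + 1) *
          RingHom.ker (constantCoeff : WittVector p R →+* R) := Ideal.mul_mono_left ih
      _ = _ := by rw [← pow_succ]

lemma ker_closed (R : Type u) [CommRing R] [IsHausdorff (Ideal.span {(p : R)}) R]
    (t : WittVector p R)
    (ht : ∀ l : ℕ, ∃ h ∈ RingHom.ker (constantCoeff : WittVector p R →+* R),
      h - t ∈ Ideal.span {(p : WittVector p R) ^ l}) :
    t ∈ RingHom.ker (constantCoeff : WittVector p R →+* R) := by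
  rw [RingHom.mem_ker]
  apply IsHausdorff.haus' (I := Ideal.span {(p : R)})
  intro l
  obtain ⟨h, hh, hht⟩ := ht l
  rw [Ideal.mem_span_singleton] at hht
  obtain ⟨c, hc⟩ := hht
  have := congrArg (constantCoeff : WittVector p R →+* R) hc
  rw [map_sub, RingHom.mem_ker.mp hh, zero_sub, map_mul, map_pow, map_natCast] at this
  rw [smodEq_span_iff, sub_zero, Ideal.mem_span_singleton]
  exact ⟨-constantCoeff c, by rw [mul_neg, ← this, neg_neg]⟩

theorem Iadic_complete (R : Type u) [CommRing R] [IsAdicComplete (Ideal.span {(p : R)}) R] :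
    IsAdicComplete (RingHom.ker (constantCoeff : WittVector p R →+* R)) (WittVector p R) := by
  haveI hpc := padic_complete (p := p) R
  set I := RingHom.ker (constantCoeff : WittVector p R →+* R) with hI
  have hsm : ∀ (x y : WittVector p R) (n : ℕ),
      x ≡ y [SMOD (I ^ n • ⊤ : Submodule (WittVector p R) (WittVector p R))] ↔ x - y ∈ I ^ n := by
    intro x y n
    rw [SModEq.sub_mem, smul_eq_mul, Ideal.mul_top]
  haveI : IsHausdorff I (WittVector p R) := by
    constructor
    intro x hx
    apply IsHausdorff.haus' (I := Ideal.span {(p : WittVector p R)})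
    intro n
    have h1 := hx (n + 1)
    rw [hsm, sub_zero] at h1
    have h2 := (ker_pow_succ_le (p := p) (R := R) n).trans Ideal.mul_le_left h1
    rw [smodEq_span_iff, sub_zero, ← Ideal.span_singleton_pow]
    exact h2
  haveI : IsPrecomplete I (WittVector p R) := by
    constructor
    intro f hf
    -- increments
    have h1 : ∀ k, ∃ i ∈ I, (p : WittVector p R) ^ k * i = f (k + 2) - f (k + 1) := by
      intro k
      have h := (hf (Nat.le_succ (k + 1))).symm
      rw [hsm] at h
      have h2 := ker_pow_succ_le (p := p) (R := R) k h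
      rw [Ideal.span_singleton_pow, Ideal.mem_span_singleton_mul] at h2
      exact h2
    choose i hiI hi using h1
    set h : ℕ → ℕ → WittVector p R := fun n l =>
      ∑ j ∈ Finset.range l, (p : WittVector p R) ^ j * i (n + j) with hh
    clear_value h
    have hhI : ∀ n l, h n l ∈ I := fun n l => by
      rw [hh]
      exact Ideal.sum_mem _ (fun j _ => Ideal.mul_mem_left _ _ (hiI _))
    have hhC : ∀ n {l l' : ℕ}, l ≤ l' → h n l ≡ h n l'
        [SMOD (Ideal.span {(p : WittVector p R)} ^ l • ⊤ :
          Submodule (WittVector p R) (WittVector p R))] := by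
      intro n l l' hll
      rw [smodEq_span_iff, Ideal.mem_span_singleton]
      refine ⟨-∑ j ∈ Finset.Ico l l', (p : WittVector p R) ^ (j - l) * i (n + j), ?_⟩
      rw [← neg_sub (h n l') (h n l)]
      simp only [hh]
      rw [← Finset.sum_Ico_eq_sub _ hll, mul_neg, Finset.mul_sum, neg_inj]
      refine Finset.sum_congr rfl (fun j hj => ?_)
      rw [← mul_assoc, ← pow_add, Nat.add_sub_cancel' (Finset.mem_Ico.mp hj).1]
    have ht : ∀ n, ∃ t : WittVector p R, ∀ l, h n l - t ∈ Ideal.span {(p : WittVector p R) ^ l} := by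
      intro n
      obtain ⟨t, ht⟩ := IsPrecomplete.prec (I := Ideal.span {(p : WittVector p R)})
        (M := WittVector p R) inferInstance (hhC n)
      exact ⟨t, fun l => by have := ht l; rwa [smodEq_span_iff] at this⟩
    choose t ht using ht
    have htI : ∀ n, t n ∈ I := fun n => ker_closed R (t n) (fun l => ⟨h n l, hhI n l, ht n l⟩)
    have hrec : ∀ n l, h n (l + 1) = i n + (p : WittVector p R) * h (n + 1) l := by
      intro n l
      simp only [hh]
      rw [Finset.sum_range_succ', pow_zero, one_mul, add_zero, add_comm, Finset.mul_sum]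
      congr 1
      refine Finset.sum_congr rfl (fun j _ => ?_)
      rw [pow_succ', mul_assoc, show n + (j + 1) = n + 1 + j by ring]
    have htrec : ∀ n, t n = i n + (p : WittVector p R) * t (n + 1) := by
      intro n
      rw [← sub_eq_zero]
      apply IsHausdorff.haus' (I := Ideal.span {(p : WittVector p R)})
      intro l
      rw [smodEq_span_iff, sub_zero]
      rcases l with _ | l
      · rw [pow_zero, Ideal.span_singleton_one]; trivial
      · have e1 := ht n (l + 1)
        have e2 := ht (n + 1) l
        rw [Ideal.mem_span_singleton] at e1 e2 ⊢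
        obtain ⟨c1, hc1⟩ := e1
        obtain ⟨c2, hc2⟩ := e2
        refine ⟨-c1 + c2, ?_⟩
        have : t n - (i n + (p : WittVector p R) * t (n + 1)) =
            -(h n (l + 1) - t n) + (p : WittVector p R) * (h (n + 1) l - t (n + 1)) := by
          rw [hrec]; ring
        rw [this, hc1, hc2]; ring
    have hL : ∀ k, f 1 + t 0 - f (k + 1) = (p : WittVector p R) ^ k * t k := by
      intro k
      induction k with
      | zero => simp
      | succ k ih =>
        have : f 1 + t 0 - f (k + 1 + 1) = (f 1 + t 0 - f (k + 1)) - (f (k + 2) - f (k + 1)) := by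
          ring
        rw [this, ih, ← hi k, htrec k]; ring
    refine ⟨f 1 + t 0, fun n => ?_⟩
    rw [hsm]
    rcases n with _ | k
    · rw [pow_zero, Ideal.one_eq_top]; trivial
    · have : f (k + 1) - (f 1 + t 0) = -((p : WittVector p R) ^ k * t k) := by
        rw [← hL k]; ring
      rw [this]
      refine Ideal.neg_mem_iff _ |>.mpr (span_pow_mul_ker_le R k ?_)
      rw [Ideal.span_singleton_pow]
      exact Ideal.mul_mem_mul (Ideal.mem_span_singleton_self _) (htI k)
  exact ⟨⟩

end Iadic
end Aux

/-- Let p be a prime and R a commutative ring which is complete and separated for the p-adic topology.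
Then the ring W(R) of p-typical Witt vectors of R is complete and separated for its own p-adic
topology, and it is also complete and separated for the adic topology of the ideal I_R, the kernel
of the projection of W(R) onto the zeroth Witt component. -/
theorem result (p : ℕ) [Fact p.Prime] (R : Type u) [CommRing R]
    [IsAdicComplete (Ideal.span {(p : R)}) R] :
    IsAdicComplete (Ideal.span {(p : WittVector p R)}) (WittVector p R) ∧
      IsAdicComplete (RingHom.ker (WittVector.constantCoeff : WittVector p R →+* R)) (WittVector p R) := by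
  exact ⟨Aux.padic_complete R, Aux.Iadic_complete R⟩

end Groth.Agent.S14855
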