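import Groth.Statements.S14858
import Mathlib
import Groth.Agent.S14855
import Groth.Agent.Lib.Helper9.IdemLift
import Groth.Agent.Lib.Helper4.Witt2

set_option autoImplicit false
universe u v
open Disp

namespace Groth.Agent.S14858

/-- Let p be a prime and R a commutative ring which is complete and separated for the p-adic topology;
write W = W(R) for the p-typical Witt vectors and I for the ideal of W generated by the image of the
Verschiebung. Let P be a finitely generated projective W-module and Q a submodule of P which admits
a complement modulo I·P, that is a submodule C with Q + C = P and Q ∩ C = I·P (equivalently I·P ⊆ Q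
and the graded pieces P/Q and Q/I·P of the filtration I·P ⊆ Q ⊆ P are finitely generated projective
R-modules). Then there is a direct sum decomposition P = L ⊕ T by submodules with Q = L + I·T, so
that together with any Frobenius-semilinear operators F and V⁻¹ satisfying the remaining axioms the
pair (P, Q) underlies a 3n-display. -/
theorem result (p : ℕ) [Fact p.Prime] (R : Type u) [CommRing R]
    [IsAdicComplete (Ideal.span {(p : R)}) R]
    (P : Type v) [AddCommGroup P] [Module (WittVector p R) P]
    [Module.Finite (WittVector p R) P] [Module.Projective (WittVector p R) P]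
    (Q : Submodule (WittVector p R) P)
    (hQ : ∃ C : Submodule (WittVector p R) P,
      Q ⊔ C = ⊤ ∧ Q ⊓ C = W4c1extbt610.IV p R • (⊤ : Submodule (WittVector p R) P)) :
    ∃ L T : Submodule (WittVector p R) P, IsCompl L T ∧ Q = L ⊔ W4c1extbt610.IV p R • T := by
  classical
  obtain ⟨C, hsup, hinf⟩ := hQ
  have hI : W4c1extbt610.IV p R =
      RingHom.ker (WittVector.constantCoeff : WittVector p R →+* R) := by
    apply le_antisymm
    · unfold W4c1extbt610.IV
      rw [Ideal.span_le]
      rintro _ ⟨w, rfl⟩
      exact (Groth.Agent.Helper4.Witt.mem_ker_constantCoeff_iff _).mpr ⟨w, rfl⟩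
    · intro a ha
      obtain ⟨w, rfl⟩ := (Groth.Agent.Helper4.Witt.mem_ker_constantCoeff_iff a).mp ha
      exact W4c1extbt610.verschiebung_mem_IV p R w
  have hcomp : IsAdicComplete (W4c1extbt610.IV p R) (WittVector p R) := by
    rw [hI]
    exact (Groth.Agent.S14855.result p R).2
  haveI hH : IsHausdorff (W4c1extbt610.IV p R) (WittVector p R) := hcomp.toIsHausdorff
  haveI hPc : IsPrecomplete (W4c1extbt610.IV p R) (WittVector p R) := hcomp.toIsPrecomplete
  haveI hH' : IsHausdorff (W4c1extbt610.IV p R) P :=
    Groth.Agent.Lib.Helper9.IdemLift.isHausdorff_of_projective (W4c1extbt610.IV p R) P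
  haveI hPc' : IsPrecomplete (W4c1extbt610.IV p R) P :=
    Groth.Agent.Lib.Helper9.IdemLift.isPrecomplete_of_projective (W4c1extbt610.IV p R) P
  -- the surjection Q × C → P
  let g : (Q × C) →ₗ[WittVector p R] P := Q.subtype.coprod C.subtype
  have hg : Function.Surjective g := by
    rw [← LinearMap.range_eq_top]
    show LinearMap.range (Q.subtype.coprod C.subtype) = ⊤
    rw [LinearMap.range_coprod, Submodule.range_subtype, Submodule.range_subtype, hsup]
  obtain ⟨s, hs⟩ := Module.projective_lifting_property g (LinearMap.id : P →ₗ[WittVector p R] P) hg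
  have hsm : ∀ m : P, ((s m).1 : P) + ((s m).2 : P) = m := by
    intro m
    have := LinearMap.congr_fun hs m
    simpa [g, LinearMap.coprod_apply] using this
  let f : Module.End (WittVector p R) P :=
    C.subtype ∘ₗ (LinearMap.snd (WittVector p R) Q C) ∘ₗ s
  have hfm : ∀ m : P, f m = ((s m).2 : P) := fun m => rfl
  have hNQ : W4c1extbt610.IV p R • (⊤ : Submodule (WittVector p R) P) ≤ Q := by
    rw [← hinf]; exact inf_le_left
  have hfQ : ∀ m, f m ∈ W4c1extbt610.IV p R • (⊤ : Submodule (WittVector p R) P) ↔ m ∈ Q := by
    intro m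
    constructor
    · intro h
      rw [← hsm m]
      exact Q.add_mem (s m).1.2 (hNQ (by rw [← hfm]; exact h))
    · intro h
      rw [← hinf, hfm]
      refine ⟨?_, (s m).2.2⟩
      have h1 : ((s m).2 : P) = m - ((s m).1 : P) := by
        rw [eq_sub_iff_add_eq, add_comm]; exact hsm m
      show ((s m).2 : P) ∈ Q
      rw [h1]
      exact Q.sub_mem h (s m).1.2
  have hff : ∀ m, f (f m) - f m ∈ W4c1extbt610.IV p R • (⊤ : Submodule (WittVector p R) P) := by
    intro m
    set c : P := f m with hc
    have hcC : c ∈ C := by rw [hc, hfm]; exact (s m).2.2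
    have h1 : f c - c = - ((s c).1 : P) := by
      rw [hfm c]
      have := hsm c
      rw [sub_eq_iff_eq_add, neg_add_eq_sub, eq_sub_iff_add_eq, add_comm]
      exact this
    rw [h1, ← hinf]
    refine Submodule.neg_mem _ ⟨(s c).1.2, ?_⟩
    have h2 : ((s c).1 : P) = c - ((s c).2 : P) := by
      rw [eq_sub_iff_add_eq]; exact hsm c
    show ((s c).1 : P) ∈ C
    rw [h2]
    exact C.sub_mem hcC (s c).2.2
  exact Groth.Agent.Lib.Helper9.IdemLift.normal_decomp (I := W4c1extbt610.IV p R) Q f hff hfQ

end Groth.Agent.S14858
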