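import Groth.Statements.S14859
import Mathlib

set_option autoImplicit false
universe u v w
open Disp

namespace Groth.Agent.S14859

namespace H14859
open W4c1extbt610

variable {p : ℕ} [Fact p.Prime] {R : Type u} [CommRing R]

theorem mem_IV_iff (r : WittVector p R) : r ∈ IV p R ↔ ∃ w, WittVector.verschiebung w = r := by
  constructor
  · intro h
    unfold IV at h
    induction h using Submodule.span_induction with
    | mem x hx => exact hx
    | zero => exact ⟨0, map_zero _⟩
    | add x y _ _ hx hy =>
      obtain ⟨a, rfl⟩ := hx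
      obtain ⟨b, rfl⟩ := hy
      exact ⟨a + b, map_add _ _ _⟩
    | smul a x _ hx =>
      obtain ⟨b, rfl⟩ := hx
      refine ⟨b * WittVector.frobenius a, ?_⟩
      rw [WittVector.verschiebung_mul_frobenius, smul_eq_mul, mul_comm]
  · rintro ⟨w, rfl⟩
    exact verschiebung_mem_IV p R w

variable {P : Type v} [AddCommGroup P] [Module (WittVector p R) P]

theorem main (D : W4c1extbt610.Display3n p R P)
    (L T : Submodule (WittVector p R) P) (hLT : IsCompl L T)
    (hQ : D.Q = L ⊔ W4c1extbt610.IV p R • T) (hLQ : L ≤ D.Q)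
    (ιL ιT : Type w) (bL : Module.Basis ιL (WittVector p R) L) (bT : Module.Basis ιT (WittVector p R) T) :
    LinearIndependent (WittVector p R)
        (Sum.elim (fun i : ιL => D.Vinv ⟨(bL i : P), hLQ (bL i).2⟩) (fun j : ιT => D.F (bT j : P))) ∧
      Submodule.span (WittVector p R)
        (Set.range (Sum.elim (fun i : ιL => D.Vinv ⟨(bL i : P), hLQ (bL i).2⟩) (fun j : ιT => D.F (bT j : P)))) = ⊤ := by
  set v : ιL ⊕ ιT → P := Sum.elim (fun i : ιL => D.Vinv ⟨(bL i : P), hLQ (bL i).2⟩) (fun j : ιT => D.F (bT j : P)) with hv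
  set S := Submodule.span (WittVector p R) (Set.range v) with hS
  -- F of T lands in S
  have hFT : ∀ t : T, D.F (t : P) ∈ S := by
    have : (⊤ : Submodule (WittVector p R) T) ≤ Submodule.comap (D.F.comp T.subtype) S := by
      rw [← bT.span_eq, Submodule.span_le]
      rintro _ ⟨j, rfl⟩
      show D.F (bT j : P) ∈ S
      exact Submodule.subset_span ⟨Sum.inr j, rfl⟩
    intro t
    exact this (Submodule.mem_top : t ∈ ⊤)
  have hVL : ∀ l : L, D.Vinv ⟨(l : P), hLQ l.2⟩ ∈ S := by
    have : (⊤ : Submodule (WittVector p R) L) ≤ Submodule.comap (D.Vinv.comp (Submodule.inclusion hLQ)) S := by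
      rw [← bL.span_eq, Submodule.span_le]
      rintro _ ⟨i, rfl⟩
      show D.Vinv ⟨(bL i : P), hLQ (bL i).2⟩ ∈ S
      exact Submodule.subset_span ⟨Sum.inl i, rfl⟩
    intro l
    exact this (Submodule.mem_top : l ∈ ⊤)
  have hIT : IV p R • T ≤ D.Q := by
    rw [hQ]; exact le_sup_right
  have hVIT : ∀ x (hx : x ∈ IV p R • T), D.Vinv ⟨x, hIT hx⟩ ∈ S := by
    intro x hx
    induction hx using Submodule.smul_induction_on' with
    | smul r hr t ht =>
      obtain ⟨w, rfl⟩ := (mem_IV_iff r).1 hr
      have := D.Vinv_verschiebung_smul w t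
      rw [this]
      exact S.smul_mem _ (hFT ⟨t, ht⟩)
    | add x hx y hy hx' hy' =>
      have : (⟨x + y, hIT (Submodule.add_mem _ hx hy)⟩ : D.Q) = ⟨x, hIT hx⟩ + ⟨y, hIT hy⟩ := rfl
      rw [this, map_add]
      exact S.add_mem hx' hy'
  have hspan : S = ⊤ := by
    rw [eq_top_iff, ← D.span_range_Vinv, Submodule.span_le]
    rintro _ ⟨q, rfl⟩
    have hq : (q : P) ∈ L ⊔ IV p R • T := hQ ▸ q.2
    obtain ⟨l, hl, t, ht, hlt⟩ := Submodule.mem_sup.1 hq
    have : q = ⟨l, hLQ hl⟩ + ⟨t, hIT ht⟩ := Subtype.ext hlt.symm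
    rw [this, map_add]
    exact S.add_mem (hVL ⟨l, hl⟩) (hVIT t ht)
  refine ⟨?_, hspan⟩
  rcases subsingleton_or_nontrivial (WittVector p R) with hsub | hnt
  · exact linearIndependent_of_subsingleton
  · haveI := D.finite
    let b : Module.Basis (ιL ⊕ ιT) (WittVector p R) P :=
      (bL.prod bT).map (Submodule.prodEquivOfIsCompl L T hLT)
    haveI : Finite (ιL ⊕ ιT) := Module.Finite.finite_basis b
    let φ : P →ₗ[WittVector p R] P := b.constr (WittVector p R) v
    have hφs : Function.Surjective φ := by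
      rw [← LinearMap.range_eq_top, Module.Basis.constr_range]
      exact hspan
    have hφi : Function.Injective φ := OrzechProperty.injective_of_surjective_endomorphism φ hφs
    have hvb : v = φ ∘ b := by
      funext k
      simp [φ, Module.Basis.constr_basis]
    rw [hvb]
    exact b.linearIndependent.map' φ (LinearMap.ker_eq_bot.2 hφi)
end H14859

/-- Let p be a prime, R a commutative ring with p-typical Witt vectors W = W(R), and (P, Q, F, V⁻¹) a
3n-display over R with a normal decomposition P = L ⊕ T, Q = L + I_R·T. Then V⁻¹ ⊕ F : L ⊕ T → P is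
a Frobenius-linear isomorphism; stated here in the case where L and T are free with bases (l_i) and
(t_j): the family consisting of the V⁻¹(l_i) and the F(t_j) is a basis of the W-module P, i.e. it is
linearly independent over W and spans P. -/
theorem result (p : ℕ) [Fact p.Prime] (R : Type u) [CommRing R]
    (P : Type v) [AddCommGroup P] [Module (WittVector p R) P] (D : W4c1extbt610.Display3n p R P)
    (L T : Submodule (WittVector p R) P) (hLT : IsCompl L T)
    (hQ : D.Q = L ⊔ W4c1extbt610.IV p R • T) (hLQ : L ≤ D.Q)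
    (ιL ιT : Type w) (bL : Module.Basis ιL (WittVector p R) L) (bT : Module.Basis ιT (WittVector p R) T) :
    LinearIndependent (WittVector p R)
        (Sum.elim (fun i : ιL => D.Vinv ⟨(bL i : P), hLQ (bL i).2⟩) (fun j : ιT => D.F (bT j : P))) ∧
      Submodule.span (WittVector p R)
        (Set.range (Sum.elim (fun i : ιL => D.Vinv ⟨(bL i : P), hLQ (bL i).2⟩) (fun j : ιT => D.F (bT j : P)))) = ⊤ := by
  exact H14859.main D L T hLT hQ hLQ ιL ιT bL bT

end Groth.Agent.S14859
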