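import Groth.Statements.S14860
import Mathlib
import Groth.Agent.S14855
import Groth.Agent.Lib.Helper8.ProjLift2
import Groth.Agent.Lib.Helper4.Witt2

set_option autoImplicit false
universe u v
open CAlg

namespace Groth.Agent.S14860

/-- Let p be a prime and R a commutative ring in which p is nilpotent; write W = W(R) for the p-typical
Witt vectors and, for n ≥ 0, I_n ⊆ W for the ideal of Witt vectors whose first n components vanish
(the kernel of the truncation W → W_n(R), so W/I_n = W_n(R)). For a W-module P conditions (i) and
(ii) below are equivalent: (i) P is a projective W-module of finite type; (ii) P is separated for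
the filtration by the submodules I_n P, and for every n the W_n(R)-module P/I_n P is finitely
generated and projective. (The published statement is made for every ℤ_(p)-algebra R, the section's
standing convention; over R = ℚ, where W(ℚ) ≅ ℚ^ℕ by the ghost map, the module ⊕_ℕ ℚ satisfies (ii)
but is not finitely generated, and the published proof uses that I_1 is nilpotent in each W_n(R),
which holds when p is nilpotent in R; so p is taken nilpotent here. The third equivalent condition
of the published statement, freeness Zariski-locally on R, is not rendered.) -/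
theorem result (p : ℕ) [Fact p.Prime] (R : Type u) [CommRing R]
    (hp : IsNilpotent (p : R))
    (P : Type v) [AddCommGroup P] [Module (WittVector p R) P] :
    (Module.Finite (WittVector p R) P ∧ Module.Projective (WittVector p R) P) ↔
      ((⨅ n : ℕ, (RingHom.ker (WittVector.truncate (p := p) (R := R) n) • (⊤ : Submodule (WittVector p R) P))) = ⊥ ∧
        ∀ n : ℕ, Module.Finite (WittVector p R ⧸ RingHom.ker (WittVector.truncate (p := p) (R := R) n))
              (P ⧸ (RingHom.ker (WittVector.truncate (p := p) (R := R) n) • (⊤ : Submodule (WittVector p R) P))) ∧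
            Module.Projective (WittVector p R ⧸ RingHom.ker (WittVector.truncate (p := p) (R := R) n))
              (P ⧸ (RingHom.ker (WittVector.truncate (p := p) (R := R) n) • (⊤ : Submodule (WittVector p R) P)))) := by
  classical
  have hp' := hp
  obtain ⟨N, hN⟩ := hp
  have hRc : IsAdicComplete (Ideal.span {(p : R)}) R :=
    Groth.Agent.Helper8.ProjLift.isAdicComplete_of_pow_eq_bot _ N (by
      rw [Ideal.span_singleton_pow, hN]; exact Ideal.span_singleton_eq_bot.mpr rfl)
  have hWc := (Groth.Agent.S14855.result p R).2
  let In : ℕ → Ideal (WittVector p R) :=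
    fun n => RingHom.ker (WittVector.truncate (p := p) (R := R) (n + 1))
  have hInmem : ∀ n (x : WittVector p R), x ∈ In n ↔ ∀ i < n + 1, x.coeff i = 0 :=
    fun n x => WittVector.mem_ker_truncate (n + 1) x
  have hI1 : In 0 = RingHom.ker (WittVector.constantCoeff : WittVector p R →+* R) := by
    ext x
    rw [hInmem, RingHom.mem_ker]
    constructor
    · intro h; exact h 0 (by omega)
    · intro h i hi
      have : i = 0 := by omega
      subst this; exact h
  have hsepW : ∀ a : WittVector p R, (∀ n, a ∈ In n) → a = 0 := by
    intro a ha
    ext k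
    rw [WittVector.zero_coeff]
    exact (hInmem k a).mp (ha k) k (Nat.lt_succ_self k)
  have hcomplW : ∀ a : ℕ → WittVector p R, (∀ n, a (n + 1) - a n ∈ In n) →
      ∃ b, ∀ n, b - a n ∈ In n := by
    intro a ha
    have hco : ∀ n, ∀ i < n + 1, (a (n + 1)).coeff i = (a n).coeff i := by
      intro n i hi
      have h1 : WittVector.truncate (p := p) (n + 1) (a (n + 1)) =
          WittVector.truncate (p := p) (n + 1) (a n) := by
        have := ha n
        rwa [show In n = RingHom.ker (WittVector.truncate (p := p) (R := R) (n + 1)) from rfl,
          RingHom.mem_ker, map_sub, sub_eq_zero] at this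
      have h2 := congrArg (fun t => TruncatedWittVector.coeff ⟨i, hi⟩ t) h1
      simpa [WittVector.coeff_truncate] using h2
    have hconst : ∀ n k, k ≤ n → (a n).coeff k = (a k).coeff k := by
      intro n
      induction n with
      | zero =>
        intro k hk
        have : k = 0 := by omega
        subst this; rfl
      | succ n ih =>
        intro k hk
        rcases Nat.eq_or_lt_of_le hk with h | h
        · subst h; rfl
        · rw [hco n k h]
          exact ih k (by omega)
    refine ⟨WittVector.mk p (fun k => (a k).coeff k), fun n => ?_⟩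
    show WittVector.mk p _ - a n ∈ RingHom.ker (WittVector.truncate (p := p) (R := R) (n + 1))
    rw [RingHom.mem_ker, map_sub, sub_eq_zero]
    ext i
    rw [WittVector.coeff_truncate, WittVector.coeff_truncate, WittVector.coeff_mk]
    exact (hconst n i (Nat.le_of_lt_succ i.2)).symm
  have hle : ∀ n, In n ≤ In 0 := by
    intro n x hx
    rw [hInmem] at hx ⊢
    intro i hi; exact hx i (by omega)
  have hanti : ∀ n, In (n + 1) ≤ In n := by
    intro n x hx
    rw [hInmem] at hx ⊢
    intro i hi; exact hx i (by omega)
  have hpow : ∀ n, ∃ m, In 0 ^ m ≤ In n := by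
    intro n
    obtain ⟨h1, -, h3⟩ := Groth.Agent.Helper4.Witt.topologies_of_isNilpotent (p := p) (R := R) hp'
    obtain ⟨m₁, hm₁⟩ := h3 (n + 1)
    obtain ⟨m₂, hm₂⟩ := h1 m₁
    exact ⟨m₂, by rw [hI1]; exact hm₂.trans hm₁⟩
  constructor
  · rintro ⟨hfin, hproj⟩
    refine ⟨?_, fun n => Groth.Agent.Helper8.ProjLift.quot_facts _ P⟩
    rw [eq_bot_iff]
    intro x hx
    rw [Submodule.mem_iInf] at hx
    have := Groth.Agent.Helper8.ProjLift.sep_of_projective In hsepW P x (fun n => hx (n + 1))
    rw [this]; exact Submodule.zero_mem _
  · rintro ⟨hsep, hq⟩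
    have hsepP : ∀ x : P, (∀ n, x ∈ In n • (⊤ : Submodule (WittVector p R) P)) → x = 0 := by
      intro x hx
      have h0 : x ∈ (⨅ n : ℕ, (RingHom.ker (WittVector.truncate (p := p) (R := R) n) •
          (⊤ : Submodule (WittVector p R) P))) := by
        rw [Submodule.mem_iInf]
        intro n
        have h5 : In n ≤ RingHom.ker (WittVector.truncate (p := p) (R := R) n) := by
          intro y hy
          rw [WittVector.mem_ker_truncate]
          intro i hi
          exact (hInmem n y).mp hy i (by omega)
        exact Submodule.smul_mono h5 le_rfl (hx n)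
      rw [hsep] at h0
      exact (Submodule.mem_bot _).mp h0
    have : IsHausdorff (In 0) (WittVector p R) := by rw [hI1]; exact hWc.toIsHausdorff
    have : IsPrecomplete (In 0) (WittVector p R) := by rw [hI1]; exact hWc.toIsPrecomplete
    have hq1fin : Module.Finite (WittVector p R ⧸ In 0)
        (P ⧸ In 0 • (⊤ : Submodule (WittVector p R) P)) := (hq 1).1
    have hq1proj : Module.Projective (WittVector p R ⧸ In 0)
        (P ⧸ In 0 • (⊤ : Submodule (WittVector p R) P)) := (hq 1).2
    obtain ⟨Pt, i1, i2, hfin, hproj, π, hπs, hπk⟩ :=
      Groth.Agent.Helper8.ProjLift.exists_lift_projective (Ideal.Quotient.mk (In 0))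
        Ideal.Quotient.mk_surjective (In 0)
        (fun x hx => ⟨1, by rw [pow_one]; exact Ideal.Quotient.eq_zero_iff_mem.mp hx⟩)
        (fun y hy => by
          obtain ⟨x, hx, rfl⟩ := hy 1
          rw [pow_one] at hx
          exact Ideal.Quotient.eq_zero_iff_mem.mpr hx)
        (P ⧸ In 0 • (⊤ : Submodule (WittVector p R) P))
    rw [Ideal.mk_ker] at hπk
    let π₀ : Pt →ₗ[WittVector p R] (P ⧸ In 0 • (⊤ : Submodule (WittVector p R) P)) :=
      { toFun := π
        map_add' := map_add π
        map_smul' := fun b x => by
          rw [map_smulₛₗ]; rfl }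
    obtain ⟨α, hα⟩ := Module.projective_lifting_property
      (Submodule.mkQ (In 0 • (⊤ : Submodule (WittVector p R) P))) π₀ (Submodule.mkQ_surjective _)
    have hα' : ∀ z, (Submodule.Quotient.mk (α z) :
        P ⧸ In 0 • (⊤ : Submodule (WittVector p R) P)) = π z :=
      fun z => LinearMap.congr_fun hα z
    have hα1 : ∀ z, α z ∈ In 0 • (⊤ : Submodule (WittVector p R) P) →
        z ∈ In 0 • (⊤ : Submodule (WittVector p R) Pt) := by
      intro z hz
      rw [← hπk, LinearMap.mem_ker, ← hα', Submodule.Quotient.mk_eq_zero]
      exact hz
    have hα2 : ⊤ ≤ LinearMap.range α ⊔ In 0 • (⊤ : Submodule (WittVector p R) P) := by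
      intro x _
      obtain ⟨z, hz⟩ := hπs (Submodule.Quotient.mk x)
      rw [← hα', Submodule.Quotient.eq] at hz
      have h4 : x = α z + -(α z - x) := by abel
      rw [h4]
      exact Submodule.add_mem_sup (LinearMap.mem_range_self α z) (Submodule.neg_mem _ hz)
    have hbij := Groth.Agent.Helper8.ProjLift.bijective_of_filtration (In 0) In α hle hanti hpow
      (fun n => (hq (n + 1)).2) hsepP
      (Groth.Agent.Helper8.ProjLift.sep_of_projective In hsepW Pt)
      (Groth.Agent.Helper8.ProjLift.compl_of_projective In hcomplW Pt) hα1 hα2
    let e := LinearEquiv.ofBijective α hbij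
    exact ⟨Module.Finite.equiv e, Module.Projective.of_equiv e⟩

end Groth.Agent.S14860
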