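import Groth.Statements.S16222
import Mathlib
import Groth.Agent.Lib.Helper9.DieuC
-- import your own Groth.Agent.* helpers here

set_option autoImplicit false
universe u v
open Disp

namespace Groth.Agent.S16222

open Groth.Agent.Lib.Helper9.DieuL
namespace Aux

lemma bot_isRadical_of_perfect (p : ℕ) [Fact p.Prime] (k : Type u) [CommRing k] [CharP k p]
    [PerfectRing k p] : (⊥ : Ideal k).IsRadical := by
  rintro a ⟨n, hn⟩
  rw [Ideal.mem_bot] at hn ⊢
  have h1 : a ^ p ^ n = 0 := by
    have hle : n ≤ p ^ n := (Nat.lt_pow_self (Fact.out : p.Prime).one_lt).le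
    rw [← Nat.sub_add_cancel hle, pow_add, hn, mul_zero]
  have hinj : Function.Injective (iterateFrobenius k p n) := by
    rw [coe_iterateFrobenius]
    exact (bijective_frobenius k p).injective.iterate n
  apply hinj
  rw [iterateFrobenius_def, h1, map_zero]

theorem main (p : ℕ) [Fact p.Prime] (k : Type u) [CommRing k]
    [CharP k p] [PerfectRing k p]
    (M : Type v) [AddCommGroup M] [Module (WittVector p k) M] [Module.Finite (WittVector p k) M] [Module.Projective (WittVector p k) M]
    (F : M →ₛₗ[(WittVector.frobenius : WittVector p k →+* WittVector p k)] M)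
    (V : M →ₛₗ[((WittVector.frobeniusEquiv p k).symm : WittVector p k →+* WittVector p k)] M)
    (hFV : ∀ m : M, F (V m) = (p : WittVector p k) • m) (hVF : ∀ m : M, V (F m) = (p : WittVector p k) • m) :
    ((Ideal.span {(p : WittVector p k)} • (⊤ : Submodule (WittVector p k) M)).comap F =
        Submodule.span (WittVector p k) (Set.range V) ⊔ Ideal.span {(p : WittVector p k)} • (⊤ : Submodule (WittVector p k) M) ∧
      (Ideal.span {(p : WittVector p k)} • (⊤ : Submodule (WittVector p k) M)).comap V =
        Submodule.span (WittVector p k) (Set.range F) ⊔ Ideal.span {(p : WittVector p k)} • (⊤ : Submodule (WittVector p k) M)) ∧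
    Module.Projective (WittVector p k ⧸ Ideal.span {(p : WittVector p k)})
      ((M ⧸ (Ideal.span {(p : WittVector p k)} • (⊤ : Submodule (WittVector p k) M))) ⧸
        Submodule.span (WittVector p k ⧸ Ideal.span {(p : WittVector p k)})
          (Set.range fun m : M => (Ideal.span {(p : WittVector p k)} • (⊤ : Submodule (WittVector p k) M)).mkQ (V m))) := by
  have hrad0 := bot_isRadical_of_perfect p k
  -- torsion freeness
  have hT : ∀ (J : Ideal k), J.IsRadical → ∀ u : M,
      (p : WittVector p k) • u ∈ wittIdeal (p := p) J • (⊤ : Submodule (WittVector p k) M) →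
      u ∈ wittIdeal (p := p) J • (⊤ : Submodule (WittVector p k) M) := by
    intro J hJ u hu
    exact mem_smul_top_of_smul_mem _ (p : WittVector p k)
      (fun c hc => mem_wittIdeal_of_p_mul J hJ c hc) u hu
  have hbot : wittIdeal (p := p) (⊥ : Ideal k) = ⊥ := by
    ext w
    rw [mem_wittIdeal, Ideal.mem_bot, WittVector.ext_iff]
    simp
  have htf : ∀ u : M, (p : WittVector p k) • u = 0 → u = 0 := by
    intro u hu
    have := hT ⊥ hrad0 u (by rw [hu]; exact Submodule.zero_mem _)
    rwa [hbot, Submodule.bot_smul, Submodule.mem_bot] at this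
  refine ⟨⟨?_, ?_⟩, ?_⟩
  · apply le_antisymm
    · intro x hx
      rw [Submodule.mem_comap, mem_pM_iff] at hx
      obtain ⟨y, hy⟩ := hx
      have h1 : (p : WittVector p k) • (x - V y) = 0 := by
        rw [smul_sub, ← hVF x, hy, V_p_smul, sub_self]
      have h2 := htf _ h1
      rw [sub_eq_zero] at h2
      rw [h2]
      exact Submodule.mem_sup_left (Submodule.subset_span ⟨y, rfl⟩)
    · apply sup_le
      · rw [Submodule.span_le]
        rintro _ ⟨m, rfl⟩
        rw [SetLike.mem_coe, Submodule.mem_comap, hFV, mem_pM_iff]
        exact ⟨m, rfl⟩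
      · intro x hx
        rw [mem_pM_iff] at hx
        obtain ⟨y, rfl⟩ := hx
        rw [Submodule.mem_comap, F_p_smul, mem_pM_iff]
        exact ⟨F y, rfl⟩
  · apply le_antisymm
    · intro x hx
      rw [Submodule.mem_comap, mem_pM_iff] at hx
      obtain ⟨y, hy⟩ := hx
      have h1 : (p : WittVector p k) • (x - F y) = 0 := by
        rw [smul_sub, ← hFV x, hy, F_p_smul, sub_self]
      have h2 := htf _ h1
      rw [sub_eq_zero] at h2
      rw [h2]
      exact Submodule.mem_sup_left (Submodule.subset_span ⟨y, rfl⟩)
    · apply sup_le
      · rw [Submodule.span_le]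
        rintro _ ⟨m, rfl⟩
        rw [SetLike.mem_coe, Submodule.mem_comap, hVF, mem_pM_iff]
        exact ⟨m, rfl⟩
      · intro x hx
        rw [mem_pM_iff] at hx
        obtain ⟨y, rfl⟩ := hx
        rw [Submodule.mem_comap, V_p_smul, mem_pM_iff]
        exact ⟨V y, rfl⟩
  · exact projective_mod_V F V hFV hVF (projective_quot _)
      (fun J hJ u hu => Submodule.mem_sup_left (hT J hJ u hu))

end Aux

/-- Let p be a prime and k a perfect ring of characteristic p, so that the Frobenius σ of W = W(k) is
bijective and W has no p-torsion. Let M be a projective Dieudonné module over k: a finitely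
generated projective W-module with a σ-semilinear F : M → M and a σ⁻¹-semilinear V : M → M such that
FV = VF = p. Then the reduction M/pM satisfies the level-one conditions: the preimage of pM under F
is VM + pM, the preimage of pM under V is FM + pM (so Ker F = Im V and Ker V = Im F on M/pM), and
M/VM, that is M/pM divided by the image of V, is a projective module over W/pW, which the first Witt
component identifies with k. -/
theorem result (p : ℕ) [Fact p.Prime] (k : Type u) [CommRing k]
    [CharP k p] [PerfectRing k p]
    (M : Type v) [AddCommGroup M] [Module (WittVector p k) M] [Module.Finite (WittVector p k) M] [Module.Projective (WittVector p k) M]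
    (F : M →ₛₗ[(WittVector.frobenius : WittVector p k →+* WittVector p k)] M)
    (V : M →ₛₗ[((WittVector.frobeniusEquiv p k).symm : WittVector p k →+* WittVector p k)] M)
    (hFV : ∀ m : M, F (V m) = (p : WittVector p k) • m) (hVF : ∀ m : M, V (F m) = (p : WittVector p k) • m) :
    ((Ideal.span {(p : WittVector p k)} • (⊤ : Submodule (WittVector p k) M)).comap F =
        Submodule.span (WittVector p k) (Set.range V) ⊔ Ideal.span {(p : WittVector p k)} • (⊤ : Submodule (WittVector p k) M) ∧
      (Ideal.span {(p : WittVector p k)} • (⊤ : Submodule (WittVector p k) M)).comap V =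
        Submodule.span (WittVector p k) (Set.range F) ⊔ Ideal.span {(p : WittVector p k)} • (⊤ : Submodule (WittVector p k) M)) ∧
    Module.Projective (WittVector p k ⧸ Ideal.span {(p : WittVector p k)})
      ((M ⧸ (Ideal.span {(p : WittVector p k)} • (⊤ : Submodule (WittVector p k) M))) ⧸
        Submodule.span (WittVector p k ⧸ Ideal.span {(p : WittVector p k)})
          (Set.range fun m : M => (Ideal.span {(p : WittVector p k)} • (⊤ : Submodule (WittVector p k) M)).mkQ (V m))) := by
  exact Aux.main p k M F V hFV hVF

end Groth.Agent.S16222
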