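import Groth.Statements.S14863
import Mathlib
import Groth.Prelude.Def_W4c1extbt610Disp
import Groth.Agent.Lib.Helper9.IdemLift
import Groth.Agent.Lib.Helper9.DieuC
import Groth.Agent.S16222
-- import your own Groth.Agent.* helpers here

set_option autoImplicit false
universe u v
open Disp

namespace Groth.Agent.S14863

namespace Aux
open Groth.Agent.Lib.Helper9.IdemLift Groth.Agent.Lib.Helper9.DieuL

section main
variable {p : ℕ} [hp : Fact p.Prime] {k : Type u} [CommRing k] [CharP k p] [PerfectRing k p]
variable {M : Type v} [AddCommGroup M] [Module (WittVector p k) M]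
variable (F : M →ₛₗ[(WittVector.frobenius : WittVector p k →+* WittVector p k)] M)
variable (V : M →ₛₗ[((WittVector.frobeniusEquiv p k).symm : WittVector p k →+* WittVector p k)] M)

lemma verschiebung_eq (w : WittVector p k) :
    WittVector.verschiebung w = (WittVector.frobeniusEquiv p k).symm w * (p : WittVector p k) := by
  have h1 : WittVector.frobenius ((WittVector.frobeniusEquiv p k).symm w) = w :=
    (WittVector.frobeniusEquiv p k).apply_symm_apply w
  conv_lhs => rw [← h1]
  rw [WittVector.verschiebung_frobenius]

lemma IV_eq : W4c1extbt610.IV p k = Ideal.span {(p : WittVector p k)} := by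
  unfold W4c1extbt610.IV
  apply le_antisymm
  · rw [Ideal.span_le]
    rintro _ ⟨w, rfl⟩
    rw [verschiebung_eq]
    exact Ideal.mem_span_singleton'.mpr ⟨_, rfl⟩
  · rw [Ideal.span_le, Set.singleton_subset_iff]
    apply Ideal.subset_span
    refine ⟨WittVector.frobenius 1, ?_⟩
    rw [WittVector.verschiebung_frobenius, one_mul]

/-- the image of `V` as a submodule -/
def QV : Submodule (WittVector p k) M where
  carrier := Set.range V
  add_mem' := by
    rintro _ _ ⟨x, rfl⟩ ⟨y, rfl⟩; exact ⟨x + y, map_add _ _ _⟩
  zero_mem' := ⟨0, map_zero _⟩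
  smul_mem' := by
    rintro c _ ⟨x, rfl⟩
    exact ⟨WittVector.frobenius c • x, V_frob_smul V c x⟩

lemma mem_QV (x : M) : x ∈ QV V ↔ x ∈ Set.range V := Iff.rfl

lemma pM_le_QV (hVF : ∀ m : M, V (F m) = (p : WittVector p k) • m) :
    Ideal.span {(p : WittVector p k)} • (⊤ : Submodule (WittVector p k) M) ≤ QV V := by
  intro x hx
  obtain ⟨y, rfl⟩ := (mem_pM_iff x).mp hx
  exact ⟨F y, hVF y⟩

lemma torsion_free [Module.Projective (WittVector p k) M] (m : M)
    (h : (p : WittVector p k) • m = 0) : m = 0 := by
  have h1 : m ∈ (⊥ : Ideal (WittVector p k)) • (⊤ : Submodule (WittVector p k) M) := by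
    apply mem_smul_top_of_smul_mem ⊥ (p : WittVector p k)
    · intro c hc
      rw [Ideal.mem_bot] at hc ⊢
      rw [mul_comm] at hc
      exact WittVector.eq_zero_of_p_mul_eq_zero c hc
    · rw [h]; exact Submodule.zero_mem _
  rw [Submodule.bot_smul] at h1
  exact (Submodule.mem_bot _).mp h1

lemma V_injective [Module.Projective (WittVector p k) M]
    (hFV : ∀ m : M, F (V m) = (p : WittVector p k) • m) : Function.Injective V := by
  intro x y hxy
  rw [← sub_eq_zero]
  apply torsion_free (p := p) (k := k)
  rw [← hFV, map_sub, hxy, sub_self, map_zero]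

theorem exists_normal [Module.Finite (WittVector p k) M] [Module.Projective (WittVector p k) M]
    (hFV : ∀ m : M, F (V m) = (p : WittVector p k) • m)
    (hVF : ∀ m : M, V (F m) = (p : WittVector p k) • m) :
    ∃ L T : Submodule (WittVector p k) M, IsCompl L T ∧
      QV V = L ⊔ Ideal.span {(p : WittVector p k)} • T := by
  set I : Ideal (WittVector p k) := Ideal.span {(p : WittVector p k)} with hI
  set pM : Submodule (WittVector p k) M := I • (⊤ : Submodule (WittVector p k) M) with hpM
  set Qb : Submodule (WittVector p k ⧸ I) (M ⧸ pM) :=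
    Submodule.span (WittVector p k ⧸ I) (Set.range fun m : M => pM.mkQ (V m)) with hQb
  have hproj : Module.Projective (WittVector p k ⧸ I) ((M ⧸ pM) ⧸ Qb) :=
    (Groth.Agent.S16222.result p k M F V hFV hVF).2
  haveI : IsHausdorff I M := isHausdorff_of_projective I M
  haveI : IsPrecomplete I M := isPrecomplete_of_projective I M
  -- elements of Qb
  have hsmul : ∀ (c : WittVector p k) (x : M),
      (Ideal.Quotient.mk I c) • pM.mkQ (V x) = pM.mkQ (V (WittVector.frobenius c • x)) := by
    intro c x
    rw [V_frob_smul]
    rfl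
  have hQelt : ∀ y ∈ Qb, ∃ x : M, pM.mkQ (V x) = y := by
    intro y hy
    refine Submodule.span_induction ?_ ?_ ?_ ?_ hy
    · rintro _ ⟨m, rfl⟩; exact ⟨m, rfl⟩
    · exact ⟨0, by rw [map_zero, map_zero]⟩
    · rintro _ _ _ _ ⟨x, rfl⟩ ⟨x', rfl⟩
      exact ⟨x + x', by rw [map_add, map_add]⟩
    · rintro c _ _ ⟨x, rfl⟩
      obtain ⟨c', rfl⟩ := Ideal.Quotient.mk_surjective c
      exact ⟨WittVector.frobenius c' • x, (hsmul c' x).symm⟩
  have hQmem : ∀ m : M, pM.mkQ m ∈ Qb ↔ m ∈ QV V := by
    intro m
    constructor
    · intro h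
      obtain ⟨x, hx⟩ := hQelt _ h
      have h1 : m - V x ∈ pM := by
        rw [← Submodule.Quotient.mk_eq_zero, Submodule.Quotient.mk_sub, sub_eq_zero]
        exact hx.symm
      have h2 : m = (m - V x) + V x := by abel
      rw [h2]
      exact Submodule.add_mem _ (pM_le_QV F V hVF h1) ⟨x, rfl⟩
    · rintro ⟨x, rfl⟩
      exact Submodule.subset_span ⟨x, rfl⟩
  -- the idempotent on the quotient
  obtain ⟨s, hs⟩ := Module.projective_lifting_property Qb.mkQ
    (LinearMap.id : ((M ⧸ pM) ⧸ Qb) →ₗ[WittVector p k ⧸ I] ((M ⧸ pM) ⧸ Qb))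
    (Submodule.mkQ_surjective _)
  have hs' : ∀ y, Qb.mkQ (s y) = y := fun y => LinearMap.congr_fun hs y
  let eb : (M ⧸ pM) →ₗ[WittVector p k] (M ⧸ pM) := (s ∘ₗ Qb.mkQ).restrictScalars (WittVector p k)
  have heb : ∀ x, eb x = s (Qb.mkQ x) := fun x => rfl
  obtain ⟨f, hf⟩ := Module.projective_lifting_property pM.mkQ (eb ∘ₗ pM.mkQ)
    (Submodule.mkQ_surjective _)
  have hf' : ∀ m, pM.mkQ (f m) = eb (pM.mkQ m) := fun m => LinearMap.congr_fun hf m
  have hmk0 : ∀ m : M, m ∈ pM ↔ pM.mkQ m = 0 := fun m => by
    rw [Submodule.mkQ_apply, Submodule.Quotient.mk_eq_zero]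
  refine normal_decomp I (QV V) f ?_ ?_
  · intro m
    show f (f m) - f m ∈ pM
    rw [hmk0, map_sub, hf', hf', heb, heb, hs', sub_self]
  · intro m
    show f m ∈ pM ↔ _
    rw [hmk0, hf', heb, ← hQmem]
    constructor
    · intro h
      have h1 := congrArg Qb.mkQ h
      rw [hs', map_zero] at h1
      rwa [Submodule.mkQ_apply, Submodule.Quotient.mk_eq_zero] at h1
    · intro h
      have h1 : Qb.mkQ (pM.mkQ m) = 0 := by
        rw [Submodule.mkQ_apply, Submodule.Quotient.mk_eq_zero]; exact h
      rw [h1, map_zero]

theorem main [Module.Finite (WittVector p k) M] [Module.Projective (WittVector p k) M]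
    (hFV : ∀ m : M, F (V m) = (p : WittVector p k) • m)
    (hVF : ∀ m : M, V (F m) = (p : WittVector p k) • m) :
    ∃ D : W4c1extbt610.Display3n p k M,
      D.F = F ∧ (∀ x : M, x ∈ D.Q ↔ x ∈ Set.range V) ∧
        ∀ (m : M) (h : V m ∈ D.Q), D.Vinv ⟨V m, h⟩ = m := by
  have hinj := V_injective F V hFV
  have hch : ∀ y : QV V, V (Classical.choose y.2) = y := fun y => Classical.choose_spec y.2
  let Vi : QV V →ₛₗ[(WittVector.frobenius : WittVector p k →+* WittVector p k)] M :=
    { toFun := fun y => Classical.choose y.2
      map_add' := fun x y => by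
        apply hinj
        rw [map_add, hch, hch, hch]; rfl
      map_smul' := fun c y => by
        apply hinj
        rw [V_frob_smul, hch, hch]; rfl }
  have hVi : ∀ (m : M) (h : V m ∈ QV V), Vi ⟨V m, h⟩ = m := by
    intro m h
    apply hinj
    exact hch ⟨V m, h⟩
  have hle : W4c1extbt610.IV p k • (⊤ : Submodule (WittVector p k) M) ≤ QV V := by
    rw [IV_eq]; exact pM_le_QV F V hVF
  refine ⟨{ Q := QV V
            F := F
            Vinv := Vi
            finite := inferInstance
            projective := inferInstance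
            IV_smul_le := hle
            exists_normal := by
              rw [IV_eq]; exact exists_normal F V hFV hVF
            span_range_Vinv := by
              rw [eq_top_iff]
              intro m _
              exact Submodule.subset_span ⟨⟨V m, ⟨m, rfl⟩⟩, hVi m _⟩
            Vinv_verschiebung_smul := ?_ }, rfl, fun x => Iff.rfl, hVi⟩
  intro w x
  apply hinj
  refine (hch _).trans ?_
  show WittVector.verschiebung w • x = V (w • F x)
  rw [map_smulₛₗ, hVF, verschiebung_eq, mul_smul]
  rfl

end main
end Aux

/-- Let p be a prime and k a perfect commutative ring of characteristic p, so that the Frobenius σ of W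
= W(k) is an automorphism. Let M be a Dieudonné module over k, that is, a projective W-module of
finite type with a σ-semilinear operator F and a σ⁻¹-semilinear operator V such that FV = VF = p.
Then (M, VM, F, V⁻¹) is a 3n-display over k: there exists a 3n-display structure on the W-module M
whose distinguished submodule is exactly the image of V, whose Frobenius operator is F, and whose
operator V⁻¹ sends V m to m for every m. (The published statement is the equivalence of the category
of 3n-displays over k with that of Dieudonné modules, displays corresponding to topologically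
nilpotent V; this row is the passage from a Dieudonné module to a 3n-display.) -/
theorem result (p : ℕ) [Fact p.Prime] (k : Type u) [CommRing k]
    [CharP k p] [PerfectRing k p]
    (M : Type v) [AddCommGroup M] [Module (WittVector p k) M]
    [Module.Finite (WittVector p k) M] [Module.Projective (WittVector p k) M]
    (F : M →ₛₗ[(WittVector.frobenius : WittVector p k →+* WittVector p k)] M)
    (V : M →ₛₗ[((WittVector.frobeniusEquiv p k).symm : WittVector p k →+* WittVector p k)] M)
    (hFV : ∀ m : M, F (V m) = (p : WittVector p k) • m) (hVF : ∀ m : M, V (F m) = (p : WittVector p k) • m) :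
    ∃ D : W4c1extbt610.Display3n p k M,
      D.F = F ∧ (∀ x : M, x ∈ D.Q ↔ x ∈ Set.range V) ∧
        ∀ (m : M) (h : V m ∈ D.Q), D.Vinv ⟨V m, h⟩ = m := by
  exact Aux.main F V hFV hVF

end Groth.Agent.S14863
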