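import Groth.Statements.S14866
import Mathlib
-- import your own Groth.Agent.* helpers here

set_option autoImplicit false
universe u v w z
open Disp

namespace Groth.Agent.S14866

namespace Aux

section nil
variable (p : ℕ) [hp : Fact p.Prime] {S : Type u} [CommRing S]

theorem constantCoeff_frobeniusPolyAux (n : ℕ) :
    MvPolynomial.constantCoeff (WittVector.frobeniusPolyAux p n) = 0 := by
  have h1 : (WittVector.frobenius (0 : WittVector p ℤ)).coeff n = 0 := by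
    rw [map_zero, WittVector.zero_coeff]
  rw [WittVector.coeff_frobenius, WittVector.frobeniusPoly] at h1
  have h2 : (0 : WittVector p ℤ).coeff = (0 : ℕ → ℤ) := by
    funext k; exact WittVector.zero_coeff p ℤ k
  rw [h2, MvPolynomial.aeval_zero] at h1
  rw [map_add, map_pow, MvPolynomial.constantCoeff_X, map_mul,
    MvPolynomial.constantCoeff_C, zero_pow hp.out.ne_zero, zero_add] at h1
  have h3 : ((p : ℤ) * MvPolynomial.constantCoeff (WittVector.frobeniusPolyAux p n)) = 0 := by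
    simpa using h1
  rcases mul_eq_zero.mp h3 with h | h
  · exact absurd h (by exact_mod_cast hp.out.ne_zero)
  · exact h

theorem aeval_mem_of_constantCoeff_eq_zero (Q : MvPolynomial ℕ ℤ)
    (hQ : MvPolynomial.constantCoeff Q = 0) (G : Ideal S) (x : ℕ → S) (hx : ∀ k, x k ∈ G) :
    MvPolynomial.aeval x Q ∈ G := by
  rw [Q.as_sum, map_sum]
  refine Ideal.sum_mem _ (fun m hm => ?_)
  rw [MvPolynomial.aeval_monomial]
  apply Ideal.mul_mem_left
  have hm0 : m ≠ 0 := by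
    rintro rfl
    rw [MvPolynomial.mem_support_iff] at hm
    exact hm hQ
  obtain ⟨k, hk⟩ : ∃ k, k ∈ m.support := by
    by_contra h
    push_neg at h
    exact hm0 (Finsupp.support_eq_empty.mp (Finset.eq_empty_of_forall_notMem h))
  rw [Finsupp.prod]
  apply Ideal.mem_of_dvd _ (Finset.dvd_prod_of_mem _ hk)
  have : m k ≠ 0 := Finsupp.mem_support_iff.mp hk
  obtain ⟨e, he⟩ := Nat.exists_eq_succ_of_ne_zero this
  rw [he, pow_succ]
  exact Ideal.mul_mem_left _ _ (hx k)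


variable {R : Type u} [CommRing R] (φ : S →+* R)

/-- the `i`-th step of the Frobenius filtration on the kernel of `φ` -/
def G (i : ℕ) : Ideal S :=
  Ideal.span {x | ∃ j ≤ i, ∃ a : S, φ a = 0 ∧ x = (p : S) ^ j * a ^ (p ^ (i - j))}

theorem p_mul_mem_G (i : ℕ) (x : S) (hx : x ∈ G p φ i) : (p : S) * x ∈ G p φ (i + 1) := by
  refine Submodule.span_induction ?_ ?_ ?_ ?_ hx
  · rintro _ ⟨j, hj, a, ha, rfl⟩
    refine Ideal.subset_span ⟨j + 1, Nat.succ_le_succ hj, a, ha, ?_⟩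
    rw [Nat.add_sub_add_right, pow_succ]
    ring
  · rw [mul_zero]; exact zero_mem _
  · intro a b _ _ ha hb
    rw [mul_add]; exact add_mem ha hb
  · intro c a _ ha
    rw [smul_eq_mul, mul_left_comm]
    exact Ideal.mul_mem_left _ _ ha

theorem pow_mem_G (i : ℕ) (x : S) (hx : x ∈ G p φ i) : x ^ p ∈ G p φ (i + 1) := by
  refine Submodule.span_induction ?_ ?_ ?_ ?_ hx
  · rintro _ ⟨j, hj, a, ha, rfl⟩
    have h1 : ((p : S) ^ j * a ^ (p ^ (i - j))) ^ p =
        (p : S) ^ (j * p - j) * ((p : S) ^ j * a ^ (p ^ (i + 1 - j))) := by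
      have h2 : i + 1 - j = (i - j) + 1 := by omega
      have h3 : j * p = (j * p - j) + j := by
        have : j ≤ j * p := Nat.le_mul_of_pos_right j hp.out.pos
        omega
      rw [mul_pow, ← pow_mul, ← pow_mul, h2, pow_succ, ← mul_assoc, ← pow_add, ← h3]
    rw [h1]
    exact Ideal.mul_mem_left _ _ (Ideal.subset_span ⟨j, Nat.le_succ_of_le hj, a, ha, rfl⟩)
  · rw [zero_pow hp.out.ne_zero]; exact zero_mem _
  · intro a b ha _ iha ihb
    obtain ⟨r, hr⟩ := exists_add_pow_prime_eq hp.out a b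
    rw [hr]
    refine add_mem (add_mem iha ihb) ?_
    rw [mul_assoc, mul_assoc]
    exact p_mul_mem_G p φ i _ (Ideal.mul_mem_right _ _ ha)
  · intro c a _ ha
    rw [smul_eq_mul, mul_pow]
    exact Ideal.mul_mem_left _ _ ha

theorem G_eq_bot (r N : ℕ) (hr : (p : S) ^ r = 0) (hN : ∀ a : S, φ a = 0 → a ^ N = 0)
    (i : ℕ) (hi : r + N ≤ i) : G p φ i = ⊥ := by
  rw [eq_bot_iff, G, Ideal.span_le]
  rintro _ ⟨j, hj, a, ha, rfl⟩
  rw [SetLike.mem_coe, Ideal.mem_bot]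
  by_cases hjr : r ≤ j
  · rw [pow_eq_zero_of_le hjr hr, zero_mul]
  · have h1 : N ≤ p ^ (i - j) := by
      have h2 : i - j < p ^ (i - j) := Nat.lt_pow_self hp.out.one_lt
      omega
    rw [pow_eq_zero_of_le h1 (hN a ha), mul_zero]

theorem frobenius_coeff_mem_G (i : ℕ) (x : WittVector p S) (hx : ∀ k, x.coeff k ∈ G p φ i)
    (n : ℕ) : (WittVector.frobenius x).coeff n ∈ G p φ (i + 1) := by
  rw [WittVector.coeff_frobenius, WittVector.frobeniusPoly, map_add, map_pow,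
    MvPolynomial.aeval_X, map_mul, MvPolynomial.aeval_C]
  refine add_mem (pow_mem_G p φ i _ (hx n)) ?_
  have h1 := aeval_mem_of_constantCoeff_eq_zero (WittVector.frobeniusPolyAux p n)
    (constantCoeff_frobeniusPolyAux p n) (G p φ i) x.coeff hx
  have h2 := p_mul_mem_G p φ i _ h1
  simpa using h2

theorem iterate_frobenius_eq_zero (r N : ℕ) (hr : (p : S) ^ r = 0)
    (hN : ∀ a : S, φ a = 0 → a ^ N = 0) (x : WittVector p S)
    (hx : WittVector.map φ x = 0) : (WittVector.frobenius)^[r + N] x = 0 := by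
  have h1 : ∀ i k, ((WittVector.frobenius)^[i] x).coeff k ∈ G p φ i := by
    intro i
    induction i with
    | zero =>
      intro k
      refine Ideal.subset_span ⟨0, le_rfl, x.coeff k, ?_, by simp⟩
      have := congrArg (fun y => WittVector.coeff y k) hx
      simpa [WittVector.map_coeff] using this
    | succ i ih =>
      intro k
      rw [Function.iterate_succ_apply']
      exact frobenius_coeff_mem_G p φ i _ ih k
  ext k
  have h2 := h1 (r + N) k
  rw [G_eq_bot p φ r N hr hN (r + N) le_rfl, Ideal.mem_bot] at h2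
  rw [h2, WittVector.zero_coeff]

end nil


section lin
variable {W : Type u} [CommRing W] (σ : W →+* W)
  {P₁ : Type v} [AddCommGroup P₁] [Module W P₁]
  {P₂ : Type w} [AddCommGroup P₂] [Module W P₂]
  {ι₁ : Type z} (b₁ : Module.Basis ι₁ W P₁)
  (F₁ : P₁ →ₛₗ[σ] P₁) (F₂ : P₂ →ₛₗ[σ] P₂)
  (hF₁ : LinearIndependent W (fun i => F₁ (b₁ i)) ∧
      Submodule.span W (Set.range fun i => F₁ (b₁ i)) = ⊤)

/-- the basis `F₁ b₁` -/
noncomputable def cB : Module.Basis ι₁ W P₁ := Module.Basis.mk hF₁.1 hF₁.2.ge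

/-- the operator `α ↦ F₂ α F₁⁻¹` (linearised) -/
noncomputable def U (α : P₁ →ₗ[W] P₂) : P₁ →ₗ[W] P₂ :=
  (cB σ b₁ F₁ hF₁).constr ℤ (fun i => F₂ (α (b₁ i)))

theorem U_basis (α : P₁ →ₗ[W] P₂) (i : ι₁) :
    U σ b₁ F₁ F₂ hF₁ α (F₁ (b₁ i)) = F₂ (α (b₁ i)) := by
  have h1 : F₁ (b₁ i) = cB σ b₁ F₁ hF₁ i := by
    rw [cB, Module.Basis.mk_apply]
  rw [h1, U, Module.Basis.constr_basis]

theorem U_comp (α : P₁ →ₗ[W] P₂) (x : P₁) :
    U σ b₁ F₁ F₂ hF₁ α (F₁ x) = F₂ (α x) := by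
  have hx : x ∈ Submodule.span W (Set.range b₁) := by rw [b₁.span_eq]; trivial
  refine Submodule.span_induction ?_ ?_ ?_ ?_ hx
  · rintro _ ⟨i, rfl⟩
    exact U_basis σ b₁ F₁ F₂ hF₁ α i
  · simp
  · intro a b _ _ ha hb
    rw [map_add, map_add, map_add, map_add, ha, hb]
  · intro r a _ ha
    rw [map_smulₛₗ, map_smul, map_smul, map_smulₛₗ, ha]

theorem U_sub (α β : P₁ →ₗ[W] P₂) :
    U σ b₁ F₁ F₂ hF₁ (α - β) = U σ b₁ F₁ F₂ hF₁ α - U σ b₁ F₁ F₂ hF₁ β := by
  rw [U, U, U, ← map_sub]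
  congr 1
  funext i
  simp

theorem U_eq_self_iff (α : P₁ →ₗ[W] P₂) :
    U σ b₁ F₁ F₂ hF₁ α = α ↔ ∀ x, F₂ (α x) = α (F₁ x) := by
  constructor
  · intro h x
    rw [← U_comp σ b₁ F₁ F₂ hF₁ α x, h]
  · intro h
    apply (cB σ b₁ F₁ hF₁).ext
    intro i
    have h1 : cB σ b₁ F₁ hF₁ i = F₁ (b₁ i) := by
      rw [cB, Module.Basis.mk_apply]
    rw [h1, U_basis, h]

theorem F₂_mem (𝔠 : Ideal W) (y : P₂) (hy : y ∈ 𝔠 • (⊤ : Submodule W P₂)) :
    F₂ y ∈ (𝔠.map σ) • (⊤ : Submodule W P₂) := by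
  refine Submodule.smul_induction_on hy ?_ ?_
  · intro c hc y _
    rw [map_smulₛₗ]
    exact Submodule.smul_mem_smul (Ideal.mem_map_of_mem σ hc) trivial
  · intro a b ha hb
    rw [map_add]
    exact add_mem ha hb

theorem U_mem (𝔠 : Ideal W) (α : P₁ →ₗ[W] P₂)
    (h : ∀ x, α x ∈ 𝔠 • (⊤ : Submodule W P₂)) (x : P₁) :
    U σ b₁ F₁ F₂ hF₁ α x ∈ (𝔠.map σ) • (⊤ : Submodule W P₂) := by
  have hx : x ∈ Submodule.span W (Set.range (cB σ b₁ F₁ hF₁)) := by
    rw [(cB σ b₁ F₁ hF₁).span_eq]; trivial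
  refine Submodule.span_induction ?_ ?_ ?_ ?_ hx
  · rintro _ ⟨i, rfl⟩
    have h1 : cB σ b₁ F₁ hF₁ i = F₁ (b₁ i) := by
      rw [cB, Module.Basis.mk_apply]
    rw [h1, U_basis]
    exact F₂_mem σ F₂ 𝔠 _ (h _)
  · rw [map_zero]; exact zero_mem _
  · intro a b _ _ ha hb
    rw [map_add]; exact add_mem ha hb
  · intro r a _ ha
    rw [map_smul]; exact Submodule.smul_mem _ _ ha


include b₁ hF₁ in
theorem exists_lift (𝔠 : Ideal W) (h𝔠F : ∀ x ∈ 𝔠, σ x ∈ 𝔠) (m : ℕ)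
    (hm : ∀ x ∈ 𝔠, σ^[m] x = 0) (α₀ : P₁ →ₗ[W] P₂)
    (hα₀ : ∀ x : P₁, F₂ (α₀ x) - α₀ (F₁ x) ∈ 𝔠 • (⊤ : Submodule W P₂)) :
    ∃ α : P₁ →ₗ[W] P₂, (∀ x : P₁, α x - α₀ x ∈ 𝔠 • (⊤ : Submodule W P₂)) ∧
      ∀ x : P₁, F₂ (α x) = α (F₁ x) := by
  set UU := U σ b₁ F₁ F₂ hF₁ with hUU
  set δ : P₁ →ₗ[W] P₂ := UU α₀ - α₀ with hδdef
  have hδ : ∀ x, δ x ∈ 𝔠 • (⊤ : Submodule W P₂) := by
    intro x
    have hx : x ∈ Submodule.span W (Set.range (cB σ b₁ F₁ hF₁)) := by
      rw [(cB σ b₁ F₁ hF₁).span_eq]; trivial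
    refine Submodule.span_induction ?_ ?_ ?_ ?_ hx
    · rintro _ ⟨i, rfl⟩
      have h1 : cB σ b₁ F₁ hF₁ i = F₁ (b₁ i) := by
        rw [cB, Module.Basis.mk_apply]
      rw [h1, hδdef, LinearMap.sub_apply, hUU, U_basis]
      exact hα₀ _
    · rw [map_zero]; exact zero_mem _
    · intro a b _ _ ha hb
      rw [map_add]; exact add_mem ha hb
    · intro r a _ ha
      rw [map_smul]; exact Submodule.smul_mem _ _ ha
  have hmap : 𝔠.map σ ≤ 𝔠 := by
    rw [Ideal.map_le_iff_le_comap]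
    intro x hx
    exact h𝔠F x hx
  have hA : ∀ k x, (UU^[k] δ) x ∈ 𝔠 • (⊤ : Submodule W P₂) := by
    intro k
    induction k with
    | zero => exact hδ
    | succ k ih =>
      intro x
      rw [Function.iterate_succ_apply']
      exact Submodule.smul_mono_left hmap (U_mem σ b₁ F₁ F₂ hF₁ 𝔠 _ ih x)
  have hB : ∀ k x, (UU^[k] δ) x ∈ (Ideal.span (σ^[k] '' (𝔠 : Set W))) • (⊤ : Submodule W P₂) := by
    intro k
    induction k with
    | zero =>
      intro x
      have : Ideal.span (σ^[0] '' (𝔠 : Set W)) = 𝔠 := by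
        rw [Function.iterate_zero, Set.image_id, Ideal.span_eq]
      rw [this]
      exact hδ x
    | succ k ih =>
      intro x
      rw [Function.iterate_succ_apply']
      have h1 := U_mem σ b₁ F₁ F₂ hF₁ _ _ ih x
      rw [Ideal.map_span, Set.image_image] at h1
      have h2 : (fun x => σ (σ^[k] x)) = σ^[k + 1] := by
        funext y
        rw [Function.iterate_succ_apply']
      rw [h2] at h1
      exact h1
  have hzero : UU^[m] δ = 0 := by
    ext x
    have h1 := hB m x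
    have h2 : Ideal.span (σ^[m] '' (𝔠 : Set W)) = ⊥ := by
      rw [eq_bot_iff, Ideal.span_le]
      rintro _ ⟨y, hy, rfl⟩
      rw [hm y hy]
      exact zero_mem _
    rw [h2, Submodule.bot_smul, Submodule.mem_bot] at h1
    rw [h1, LinearMap.zero_apply]
  have hC : ∀ k, UU^[k] (UU α₀) - UU^[k] α₀ = UU^[k] δ := by
    intro k
    induction k with
    | zero => rfl
    | succ k ih =>
      rw [Function.iterate_succ_apply', Function.iterate_succ_apply',
        Function.iterate_succ_apply', hUU, ← U_sub, ← hUU, ih]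
  have hD : ∀ k x, (UU^[k] α₀ - α₀) x ∈ 𝔠 • (⊤ : Submodule W P₂) := by
    intro k
    induction k with
    | zero =>
      intro x
      rw [Function.iterate_zero, id, sub_self, LinearMap.zero_apply]
      exact zero_mem _
    | succ k ih =>
      intro x
      have h1 : UU^[k + 1] α₀ - α₀ = UU^[k] δ + (UU^[k] α₀ - α₀) := by
        rw [← hC k, ← Function.iterate_succ_apply]
        abel
      rw [h1, LinearMap.add_apply]
      exact add_mem (hA k x) (ih x)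
  refine ⟨UU^[m] α₀, ?_, ?_⟩
  · intro x
    have := hD m x
    rwa [LinearMap.sub_apply] at this
  · rw [← U_eq_self_iff σ b₁ F₁ F₂ hF₁]
    have h1 := hC m
    rw [hzero, sub_eq_zero, ← Function.iterate_succ_apply, Function.iterate_succ_apply'] at h1
    exact h1

include b₁ hF₁ in
theorem unique_lift (𝔠 : Ideal W) (m : ℕ)
    (hm : ∀ x ∈ 𝔠, σ^[m] x = 0) (α β : P₁ →ₗ[W] P₂)
    (hαβ : ∀ x : P₁, α x - β x ∈ 𝔠 • (⊤ : Submodule W P₂))
    (hα : ∀ x : P₁, F₂ (α x) = α (F₁ x)) (hβ : ∀ x : P₁, F₂ (β x) = β (F₁ x)) : α = β := by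
  set UU := U σ b₁ F₁ F₂ hF₁ with hUU
  have hα' : UU α = α := (U_eq_self_iff σ b₁ F₁ F₂ hF₁ α).mpr hα
  have hβ' : UU β = β := (U_eq_self_iff σ b₁ F₁ F₂ hF₁ β).mpr hβ
  have hfix : UU (α - β) = α - β := by rw [hUU, U_sub, ← hUU, hα', hβ']
  have hB : ∀ k x, (α - β) x ∈ (Ideal.span (σ^[k] '' (𝔠 : Set W))) • (⊤ : Submodule W P₂) := by
    intro k
    induction k with
    | zero =>
      intro x
      have : Ideal.span (σ^[0] '' (𝔠 : Set W)) = 𝔠 := by
        rw [Function.iterate_zero, Set.image_id, Ideal.span_eq]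
      rw [this, LinearMap.sub_apply]
      exact hαβ x
    | succ k ih =>
      intro x
      have h1 := U_mem σ b₁ F₁ F₂ hF₁ _ _ ih x
      rw [← hUU, hfix, Ideal.map_span, Set.image_image] at h1
      have h2 : (fun x => σ (σ^[k] x)) = σ^[k + 1] := by
        funext y
        rw [Function.iterate_succ_apply']
      rw [h2] at h1
      exact h1
  have h2 : Ideal.span (σ^[m] '' (𝔠 : Set W)) = ⊥ := by
    rw [eq_bot_iff, Ideal.span_le]
    rintro _ ⟨y, hy, rfl⟩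
    rw [hm y hy]
    exact zero_mem _
  rw [← sub_eq_zero]
  ext x
  have h1 := hB m x
  rw [h2, Submodule.bot_smul, Submodule.mem_bot] at h1
  rw [h1, LinearMap.zero_apply]

end lin


theorem main66 (p : ℕ) [Fact p.Prime] (S R : Type u)
    [CommRing S] [CommRing R] (φ : S →+* R) (hφ : Function.Surjective φ) (hp : IsNilpotent (p : S))
    (N : ℕ) (hN : ∀ a : S, φ a = 0 → a ^ N = 0)
    (P₁ : Type v) [AddCommGroup P₁] [Module (WittVector p S) P₁]
    (P₂ : Type w) [AddCommGroup P₂] [Module (WittVector p S) P₂]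
    (ι₁ ι₂ : Type z) [Finite ι₁] [Finite ι₂]
    (b₁ : Module.Basis ι₁ (WittVector p S) P₁) (b₂ : Module.Basis ι₂ (WittVector p S) P₂)
    (F₁ : P₁ →ₛₗ[(WittVector.frobenius : WittVector p S →+* WittVector p S)] P₁)
    (F₂ : P₂ →ₛₗ[(WittVector.frobenius : WittVector p S →+* WittVector p S)] P₂)
    (hF₁ : LinearIndependent (WittVector p S) (fun i => F₁ (b₁ i)) ∧
      Submodule.span (WittVector p S) (Set.range fun i => F₁ (b₁ i)) = ⊤)
    (hF₂ : LinearIndependent (WittVector p S) (fun i => F₂ (b₂ i)) ∧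
      Submodule.span (WittVector p S) (Set.range fun i => F₂ (b₂ i)) = ⊤)
    (𝔠 : Ideal (WittVector p S)) (h𝔠 : 𝔠 ≤ RingHom.ker (WittVector.map (p := p) φ))
    (h𝔠F : ∀ x ∈ 𝔠, WittVector.frobenius x ∈ 𝔠)
    (α₀ : P₁ →ₗ[WittVector p S] P₂)
    (hα₀ : ∀ x : P₁, F₂ (α₀ x) - α₀ (F₁ x) ∈ 𝔠 • (⊤ : Submodule (WittVector p S) P₂)) :
    ∃ α : P₁ →ₗ[WittVector p S] P₂,
      (∀ x : P₁, α x - α₀ x ∈ 𝔠 • (⊤ : Submodule (WittVector p S) P₂)) ∧ ∀ x : P₁, F₂ (α x) = α (F₁ x) := by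
  obtain ⟨r, hr⟩ := hp
  exact exists_lift WittVector.frobenius b₁ F₁ F₂ hF₁ 𝔠 h𝔠F (r + N)
    (fun x hx => iterate_frobenius_eq_zero p φ r N hr hN x (RingHom.mem_ker.mp (h𝔠 hx))) α₀ hα₀

theorem main65 (p : ℕ) [Fact p.Prime] (S R : Type u)
    [CommRing S] [CommRing R] (φ : S →+* R) (hφ : Function.Surjective φ) (hp : IsNilpotent (p : S))
    (N : ℕ) (hN : ∀ a : S, φ a = 0 → a ^ N = 0)
    (P₁ : Type v) [AddCommGroup P₁] [Module (WittVector p S) P₁]
    (P₂ : Type w) [AddCommGroup P₂] [Module (WittVector p S) P₂]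
    (ι₁ ι₂ : Type z) [Finite ι₁] [Finite ι₂]
    (b₁ : Module.Basis ι₁ (WittVector p S) P₁) (b₂ : Module.Basis ι₂ (WittVector p S) P₂)
    (F₁ : P₁ →ₛₗ[(WittVector.frobenius : WittVector p S →+* WittVector p S)] P₁)
    (F₂ : P₂ →ₛₗ[(WittVector.frobenius : WittVector p S →+* WittVector p S)] P₂)
    (hF₁ : LinearIndependent (WittVector p S) (fun i => F₁ (b₁ i)) ∧
      Submodule.span (WittVector p S) (Set.range fun i => F₁ (b₁ i)) = ⊤)
    (hF₂ : LinearIndependent (WittVector p S) (fun i => F₂ (b₂ i)) ∧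
      Submodule.span (WittVector p S) (Set.range fun i => F₂ (b₂ i)) = ⊤)
    (α₀ : P₁ →ₗ[WittVector p S] P₂)
    (hα₀ : ∀ x : P₁, F₂ (α₀ x) - α₀ (F₁ x) ∈
      RingHom.ker (WittVector.map (p := p) φ) • (⊤ : Submodule (WittVector p S) P₂)) :
    ∃! α : P₁ →ₗ[WittVector p S] P₂,
      (∀ x : P₁, α x - α₀ x ∈ RingHom.ker (WittVector.map (p := p) φ) • (⊤ : Submodule (WittVector p S) P₂)) ∧
        ∀ x : P₁, F₂ (α x) = α (F₁ x) := by
  obtain ⟨r, hr⟩ := hp
  have hstab : ∀ x ∈ RingHom.ker (WittVector.map (p := p) φ),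
      WittVector.frobenius x ∈ RingHom.ker (WittVector.map (p := p) φ) := by
    intro x hx
    rw [RingHom.mem_ker] at hx ⊢
    rw [(WittVector.frobenius_isPoly p).map φ x, hx, map_zero]
  have hm : ∀ x ∈ RingHom.ker (WittVector.map (p := p) φ),
      (WittVector.frobenius)^[r + N] x = 0 := fun x hx =>
    iterate_frobenius_eq_zero p φ r N hr hN x (RingHom.mem_ker.mp hx)
  obtain ⟨α, hα1, hα2⟩ := exists_lift WittVector.frobenius b₁ F₁ F₂ hF₁ _ hstab (r + N) hm α₀ hα₀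
  refine ⟨α, ⟨hα1, hα2⟩, ?_⟩
  rintro β ⟨hβ1, hβ2⟩
  refine unique_lift WittVector.frobenius b₁ F₁ F₂ hF₁ _ (r + N) hm β α ?_ hβ2 hα2
  intro x
  have : β x - α x = (β x - α₀ x) - (α x - α₀ x) := by abel
  rw [this]
  exact sub_mem (hβ1 x) (hα1 x)

end Aux

/-- Let p be a prime and S → R a surjective homomorphism of commutative rings with kernel 𝔞, with p
nilpotent in S and with a^N = 0 for every a ∈ 𝔞 for one exponent N; let P_1, P_2 be free
W(S)-modules of finite rank with Frobenius-semilinear endomorphisms F_1, F_2 each carrying a basis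
to a basis. Let 𝔠 be an ideal of W(S) contained in W(𝔞) = ker(W(S) → W(R)) and stable under the
Frobenius of W(S), and let α_0 : P_1 → P_2 be a W(S)-linear map with F_2 α_0 ≡ α_0 F_1 modulo 𝔠·P_2.
Then there is a W(S)-linear map α : P_1 → P_2 with F_2 α = α F_1 which is congruent to α_0 modulo
𝔠·P_2. (The published statement has P_1, P_2 finitely generated projective; this row takes them free
with given finite bases.) -/
theorem result (p : ℕ) [Fact p.Prime] (S R : Type u)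
    [CommRing S] [CommRing R] (φ : S →+* R) (hφ : Function.Surjective φ) (hp : IsNilpotent (p : S))
    (N : ℕ) (hN : ∀ a : S, φ a = 0 → a ^ N = 0)
    (P₁ : Type v) [AddCommGroup P₁] [Module (WittVector p S) P₁]
    (P₂ : Type w) [AddCommGroup P₂] [Module (WittVector p S) P₂]
    (ι₁ ι₂ : Type z) [Finite ι₁] [Finite ι₂]
    (b₁ : Module.Basis ι₁ (WittVector p S) P₁) (b₂ : Module.Basis ι₂ (WittVector p S) P₂)
    (F₁ : P₁ →ₛₗ[(WittVector.frobenius : WittVector p S →+* WittVector p S)] P₁)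
    (F₂ : P₂ →ₛₗ[(WittVector.frobenius : WittVector p S →+* WittVector p S)] P₂)
    (hF₁ : LinearIndependent (WittVector p S) (fun i => F₁ (b₁ i)) ∧
      Submodule.span (WittVector p S) (Set.range fun i => F₁ (b₁ i)) = ⊤)
    (hF₂ : LinearIndependent (WittVector p S) (fun i => F₂ (b₂ i)) ∧
      Submodule.span (WittVector p S) (Set.range fun i => F₂ (b₂ i)) = ⊤)
    (𝔠 : Ideal (WittVector p S)) (h𝔠 : 𝔠 ≤ RingHom.ker (WittVector.map (p := p) φ))
    (h𝔠F : ∀ x ∈ 𝔠, WittVector.frobenius x ∈ 𝔠)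
    (α₀ : P₁ →ₗ[WittVector p S] P₂)
    (hα₀ : ∀ x : P₁, F₂ (α₀ x) - α₀ (F₁ x) ∈ 𝔠 • (⊤ : Submodule (WittVector p S) P₂)) :
    ∃ α : P₁ →ₗ[WittVector p S] P₂,
      (∀ x : P₁, α x - α₀ x ∈ 𝔠 • (⊤ : Submodule (WittVector p S) P₂)) ∧ ∀ x : P₁, F₂ (α x) = α (F₁ x) := by
  exact Aux.main66 p S R φ hφ hp N hN P₁ P₂ ι₁ ι₂ b₁ b₂ F₁ F₂ hF₁ hF₂ 𝔠 h𝔠 h𝔠F α₀ hα₀

end Groth.Agent.S14866
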