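import Groth.Statements.S14867
import Mathlib
import Groth.Agent.S14855
import Groth.Agent.Lib.Helper8.ProjLift1

set_option autoImplicit false
universe u
open CAlg

namespace Groth.Agent.S14867

/-- Let p be a prime and S → R a surjective homomorphism of commutative rings such that every element of
its kernel 𝔞 is nilpotent and p is nilpotent in S; write J = W(𝔞) for the kernel of the induced
surjection W(S) → W(R) of rings of p-typical Witt vectors. Then finitely generated projective
modules lift along W(S) → W(R), uniquely up to isomorphism: for every finitely generated projective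
W(R)-module P there is a finitely generated projective W(S)-module P̃ together with a surjection P̃
→ P, semilinear over W(S) → W(R), whose kernel is J·P̃ (that is, an isomorphism W(R) ⊗_{W(S)} P̃ ≅
P); and for any two such pairs (P̃_1, π_1), (P̃_2, π_2) there is a W(S)-linear isomorphism P̃_1 ≅
P̃_2 compatible with π_1 and π_2. -/
theorem result (p : ℕ) [Fact p.Prime] (S R : Type u)
    [CommRing S] [CommRing R] (φ : S →+* R) (hφ : Function.Surjective φ)
    (hnil : ∀ a : S, φ a = 0 → IsNilpotent a) (hp : IsNilpotent (p : S))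
    (P : Type u) [AddCommGroup P] [Module (WittVector p R) P]
    [Module.Finite (WittVector p R) P] [Module.Projective (WittVector p R) P] :
    (∃ (P' : Type u) (_ : AddCommGroup P') (_ : Module (WittVector p S) P'),
        Module.Finite (WittVector p S) P' ∧ Module.Projective (WittVector p S) P' ∧
          ∃ π : P' →ₛₗ[WittVector.map (p := p) φ] P, Function.Surjective π ∧
            LinearMap.ker π = RingHom.ker (WittVector.map (p := p) φ) • (⊤ : Submodule (WittVector p S) P')) ∧
      ∀ (P₁ : Type u) [AddCommGroup P₁] [Module (WittVector p S) P₁]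
        [Module.Finite (WittVector p S) P₁] [Module.Projective (WittVector p S) P₁]
        (P₂ : Type u) [AddCommGroup P₂] [Module (WittVector p S) P₂]
        [Module.Finite (WittVector p S) P₂] [Module.Projective (WittVector p S) P₂]
        (π₁ : P₁ →ₛₗ[WittVector.map (p := p) φ] P) (π₂ : P₂ →ₛₗ[WittVector.map (p := p) φ] P),
        Function.Surjective π₁ →
          LinearMap.ker π₁ = RingHom.ker (WittVector.map (p := p) φ) • (⊤ : Submodule (WittVector p S) P₁) →
        Function.Surjective π₂ →
          LinearMap.ker π₂ = RingHom.ker (WittVector.map (p := p) φ) • (⊤ : Submodule (WittVector p S) P₂) →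
        ∃ e : P₁ ≃ₗ[WittVector p S] P₂, ∀ x : P₁, π₂ (e x) = π₁ x := by
  classical
  obtain ⟨N, hN⟩ := hp
  have hNR : (p : R) ^ N = 0 := by
    have := congrArg φ hN
    simpa using this
  have hS : IsAdicComplete (Ideal.span {(p : S)}) S :=
    Groth.Agent.Helper8.ProjLift.isAdicComplete_of_pow_eq_bot _ N (by
      rw [Ideal.span_singleton_pow, hN]; exact Ideal.span_singleton_eq_bot.mpr rfl)
  have hR : IsAdicComplete (Ideal.span {(p : R)}) R :=
    Groth.Agent.Helper8.ProjLift.isAdicComplete_of_pow_eq_bot _ N (by
      rw [Ideal.span_singleton_pow, hNR]; exact Ideal.span_singleton_eq_bot.mpr rfl)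
  have hWS := (Groth.Agent.S14855.result p S).2
  have hWR := (Groth.Agent.S14855.result p R).2
  set IS := RingHom.ker (WittVector.constantCoeff : WittVector p S →+* S) with hIS
  set IR := RingHom.ker (WittVector.constantCoeff : WittVector p R →+* R) with hIR
  set ψ : WittVector p S →+* WittVector p R := WittVector.map (p := p) φ with hψdef
  have hψ : Function.Surjective ψ := WittVector.map_surjective φ hφ
  have hcc : ∀ x : WittVector p S,
      WittVector.constantCoeff (ψ x) = φ (WittVector.constantCoeff x) := fun x => rfl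
  have hnil' : ∀ x, ψ x = 0 → ∃ n : ℕ, x ^ n ∈ IS := by
    intro x hx
    have h1 : φ (WittVector.constantCoeff x) = 0 := by rw [← hcc, hx, map_zero]
    obtain ⟨n, hn⟩ := hnil _ h1
    exact ⟨n, by rw [hIS, RingHom.mem_ker, map_pow, hn]⟩
  have hmapI : ∀ k : ℕ, ∀ x ∈ IS ^ k, ψ x ∈ IR ^ k := by
    intro k x hx
    have h1 : IS.map ψ ≤ IR := by
      rw [Ideal.map_le_iff_le_comap]
      intro y hy
      rw [Ideal.mem_comap, hIR, RingHom.mem_ker, hcc, (RingHom.mem_ker).mp hy, map_zero]
    have h2 : ψ x ∈ (IS ^ k).map ψ := Ideal.mem_map_of_mem ψ hx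
    rw [Ideal.map_pow] at h2
    exact Ideal.pow_right_mono h1 k h2
  have hcl : ∀ y : WittVector p R, (∀ k : ℕ, ∃ x ∈ IS ^ k, ψ x = y) → y = 0 := by
    intro y hy
    apply IsHausdorff.haus (hWR.toIsHausdorff)
    intro k
    rw [SModEq.zero, smul_eq_mul, Ideal.mul_top]
    obtain ⟨x, hx, rfl⟩ := hy k
    exact hmapI k x hx
  have : IsHausdorff IS (WittVector p S) := hWS.toIsHausdorff
  have : IsPrecomplete IS (WittVector p S) := hWS.toIsPrecomplete
  refine ⟨?_, ?_⟩
  · obtain ⟨Pt, i1, i2, hfin, hproj, π, hπs, hπk⟩ :=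
      Groth.Agent.Helper8.ProjLift.exists_lift_projective ψ hψ IS hnil' hcl P
    exact ⟨Pt, i1, i2, hfin, hproj, π, hπs, hπk⟩
  · intro P₁ _ _ _ _ P₂ _ _ _ _ π₁ π₂ h₁ k₁ h₂ k₂
    letI : Module (WittVector p S) P := Module.compHom P ψ
    have hJ : RingHom.ker ψ ≤ Ideal.jacobson (⊥ : Ideal (WittVector p S)) := by
      intro x hx
      rw [Ideal.mem_jacobson_bot]
      intro y
      have hx0 : φ (WittVector.constantCoeff x) = 0 := by
        rw [← hcc, (RingHom.mem_ker).mp hx, map_zero]
      have hnil0 : IsNilpotent (WittVector.constantCoeff x) := hnil _ hx0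
      have hu : IsUnit (WittVector.constantCoeff (x * y + 1)) := by
        rw [map_add, map_mul, map_one]
        exact IsNilpotent.isUnit_add_one ((Commute.all _ _).isNilpotent_mul_right hnil0)
      obtain ⟨u, hu'⟩ := hu
      have hw' : (x * y + 1) * WittVector.teichmuller p (↑u⁻¹ : S) - 1 ∈ IS := by
        rw [hIS, RingHom.mem_ker, map_sub, map_mul, map_one, ← hu']
        have h0 : WittVector.constantCoeff (WittVector.teichmuller p (↑u⁻¹ : S)) = (↑u⁻¹ : S) :=
          WittVector.teichmuller_coeff_zero p _
        rw [h0, Units.mul_inv, sub_self]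
      have hmem := IsAdicComplete.le_jacobson_bot IS hw'
      have h7 := (Ideal.mem_jacobson_bot.mp hmem) 1
      rw [mul_one, sub_add_cancel] at h7
      exact isUnit_of_mul_isUnit_left h7
    let π₁' : P₁ →ₗ[WittVector p S] P :=
      { toFun := π₁
        map_add' := map_add π₁
        map_smul' := fun b x => by
          rw [map_smulₛₗ]; rfl }
    let π₂' : P₂ →ₗ[WittVector p S] P :=
      { toFun := π₂
        map_add' := map_add π₂
        map_smul' := fun b x => by
          rw [map_smulₛₗ]; rfl }
    have k₁' : LinearMap.ker π₁' = RingHom.ker ψ • (⊤ : Submodule (WittVector p S) P₁) := by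
      rw [← k₁]; ext x; rfl
    have k₂' : LinearMap.ker π₂' = RingHom.ker ψ • (⊤ : Submodule (WittVector p S) P₂) := by
      rw [← k₂]; ext x; rfl
    obtain ⟨e, he⟩ := Groth.Agent.Helper8.ProjLift.exists_equiv_of_ker_eq (RingHom.ker ψ) hJ
      π₁' π₂' h₁ k₁' h₂ k₂'
    exact ⟨e, he⟩

end Groth.Agent.S14867
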