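import Groth.Statements.S14868
import Mathlib

set_option autoImplicit false
universe u v w
open Disp

namespace Groth.Agent.S14868

namespace H14868
open W4c1extbt610

variable {p : ℕ} [Fact p.Prime] {R : Type u} [CommRing R]

theorem versch_inj : Function.Injective (WittVector.verschiebung : WittVector p R → WittVector p R) := by
  intro a b h
  ext n
  have := congrArg (fun x => x.coeff (n+1)) h
  simpa [WittVector.verschiebung_coeff_succ] using this

theorem F_eq {P : Type v} [AddCommGroup P] [Module (WittVector p R) P] (D : Display3n p R P) (x : P) :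
    D.F x = D.Vinv ⟨WittVector.verschiebung (1 : WittVector p R) • x,
      D.IV_smul_le (Submodule.smul_mem_smul (verschiebung_mem_IV p R 1) Submodule.mem_top)⟩ := by
  rw [D.Vinv_verschiebung_smul, one_smul]

theorem V1_mul (b : WittVector p R) :
    WittVector.verschiebung (1 : WittVector p R) * b = WittVector.verschiebung (WittVector.frobenius b) := by
  rw [← WittVector.verschiebung_mul_frobenius, one_mul]

theorem main (P₁ : Type v) [AddCommGroup P₁] [Module (WittVector p R) P₁]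
    (P₂ : Type w) [AddCommGroup P₂] [Module (WittVector p R) P₂]
    (D₁ : W4c1extbt610.Display3n p R P₁) (D₂ : W4c1extbt610.Display3n p R P₂)
    (B : P₁ →ₗ[WittVector p R] P₂ →ₗ[WittVector p R] WittVector p R)
    (hB : ∀ (y₁ : D₁.Q) (y₂ : D₂.Q),
      WittVector.verschiebung (B (D₁.Vinv y₁) (D₂.Vinv y₂)) = B (y₁ : P₁) (y₂ : P₂)) :
    (∀ (y₁ : D₁.Q) (x₂ : P₂), B (D₁.Vinv y₁) (D₂.F x₂) = WittVector.frobenius (B (y₁ : P₁) x₂)) ∧
      (∀ (x₁ : P₁) (x₂ : P₂),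
        B (D₁.F x₁) (D₂.F x₂) = (p : WittVector p R) * WittVector.frobenius (B x₁ x₂)) ∧
      (∀ (x₁ : P₁) (y₂ : D₂.Q), B (D₁.F x₁) (D₂.Vinv y₂) = WittVector.frobenius (B x₁ (y₂ : P₂))) ∧
      ∀ (y₁ : D₁.Q) (y₂ : D₂.Q), B (y₁ : P₁) (y₂ : P₂) ∈ W4c1extbt610.IV p R := by
  refine ⟨?_, ?_, ?_, ?_⟩
  · intro y₁ x₂
    apply versch_inj
    rw [F_eq, hB]
    simp only [map_smul, smul_eq_mul]
    rw [V1_mul]
  · intro x₁ x₂
    apply versch_inj
    rw [F_eq, F_eq, hB]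
    simp only [map_smul, smul_eq_mul, LinearMap.smul_apply]
    rw [V1_mul, V1_mul, WittVector.frobenius_verschiebung, mul_comm]
  · intro x₁ y₂
    apply versch_inj
    rw [F_eq, hB]
    simp only [map_smul, smul_eq_mul, LinearMap.smul_apply]
    rw [V1_mul]
  · intro y₁ y₂
    rw [← hB]
    exact verschiebung_mem_IV p R _
end H14868

/-- Let p be a prime, R a commutative ring, W = W(R) its ring of p-typical Witt vectors with Frobenius σ
and Verschiebung V, and let (P_1, Q_1, F, V⁻¹) and (P_2, Q_2, F, V⁻¹) be 3n-displays over R. A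
bilinear form of 3n-displays is a W-bilinear map ( , ) : P_1 × P_2 → W such that V((V⁻¹y_1, V⁻¹y_2))
= (y_1, y_2) for all y_1 ∈ Q_1 and y_2 ∈ Q_2. For such a form the following relations hold: (V⁻¹y_1,
F x_2) = σ((y_1, x_2)) for y_1 ∈ Q_1, x_2 ∈ P_2; (F x_1, F x_2) = p·σ((x_1, x_2)) for x_1 ∈ P_1, x_2
∈ P_2; (F x_1, V⁻¹y_2) = σ((x_1, y_2)) for x_1 ∈ P_1, y_2 ∈ Q_2; and (y_1, y_2) lies in the ideal
I_R = V W for y_1 ∈ Q_1, y_2 ∈ Q_2. -/
theorem result (p : ℕ) [Fact p.Prime] (R : Type u) [CommRing R]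
    (P₁ : Type v) [AddCommGroup P₁] [Module (WittVector p R) P₁]
    (P₂ : Type w) [AddCommGroup P₂] [Module (WittVector p R) P₂]
    (D₁ : W4c1extbt610.Display3n p R P₁) (D₂ : W4c1extbt610.Display3n p R P₂)
    (B : P₁ →ₗ[WittVector p R] P₂ →ₗ[WittVector p R] WittVector p R)
    (hB : ∀ (y₁ : D₁.Q) (y₂ : D₂.Q),
      WittVector.verschiebung (B (D₁.Vinv y₁) (D₂.Vinv y₂)) = B (y₁ : P₁) (y₂ : P₂)) :
    (∀ (y₁ : D₁.Q) (x₂ : P₂), B (D₁.Vinv y₁) (D₂.F x₂) = WittVector.frobenius (B (y₁ : P₁) x₂)) ∧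
      (∀ (x₁ : P₁) (x₂ : P₂),
        B (D₁.F x₁) (D₂.F x₂) = (p : WittVector p R) * WittVector.frobenius (B x₁ x₂)) ∧
      (∀ (x₁ : P₁) (y₂ : D₂.Q), B (D₁.F x₁) (D₂.Vinv y₂) = WittVector.frobenius (B x₁ (y₂ : P₂))) ∧
      ∀ (y₁ : D₁.Q) (y₂ : D₂.Q), B (y₁ : P₁) (y₂ : P₂) ∈ W4c1extbt610.IV p R := by
  exact H14868.main P₁ P₂ D₁ D₂ B hB

end Groth.Agent.S14868
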