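import Groth.Statements.S14869
import Mathlib

set_option autoImplicit false
universe u v w
open CAlg

namespace Groth.Agent.S14869

open TensorProduct in

theorem exists_one_tmul_eq {S R : Type*} [CommRing S] [CommRing R] [Algebra S R]
    (hSR : Function.Surjective (algebraMap S R))
    (N : Type*) [AddCommGroup N] [Module S N] (z : R ⊗[S] N) : ∃ n : N, (1 : R) ⊗ₜ[S] n = z := by
  induction z using TensorProduct.induction_on with
  | zero => exact ⟨0, by simp⟩
  | tmul r n =>
    obtain ⟨s, rfl⟩ := hSR r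
    refine ⟨s • n, ?_⟩
    rw [TensorProduct.tmul_smul, TensorProduct.smul_tmul', Algebra.smul_def, mul_one]
  | add x y hx hy =>
    obtain ⟨a, rfl⟩ := hx
    obtain ⟨b, rfl⟩ := hy
    exact ⟨a + b, by rw [TensorProduct.tmul_add]⟩

open TensorProduct in
/-- Let S → R be a surjective homomorphism of commutative rings, let π : P_1 → P_2 be a surjective
homomorphism of S-modules with P_2 projective, and let π̄ : R ⊗_S P_1 → R ⊗_S P_2 be its base
change. Then every R-linear section σ̄ of π̄ lifts to a section of π: there is an S-linear map σ :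
P_2 → P_1 with π ∘ σ = id whose base change R ⊗_S σ is σ̄. -/
theorem result (S R : Type u) [CommRing S] [CommRing R] [Algebra S R]
    (hSR : Function.Surjective (algebraMap S R))
    (P₁ : Type v) [AddCommGroup P₁] [Module S P₁]
    (P₂ : Type w) [AddCommGroup P₂] [Module S P₂] [Module.Projective S P₂]
    (π : P₁ →ₗ[S] P₂) (hπ : Function.Surjective π)
    (σ' : R ⊗[S] P₂ →ₗ[R] R ⊗[S] P₁) (hσ' : (π.baseChange R).comp σ' = LinearMap.id) :
    ∃ σ : P₂ →ₗ[S] P₁, π.comp σ = LinearMap.id ∧ σ.baseChange R = σ' := by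
  classical
  -- the comparison map to the fibre product
  let Φ : P₁ →ₗ[S] (R ⊗[S] P₁) × P₂ :=
    LinearMap.prod ((TensorProduct.mk S R P₁) 1) π
  let Ψ : P₂ →ₗ[S] (R ⊗[S] P₁) × P₂ :=
    LinearMap.prod ((σ'.restrictScalars S).comp ((TensorProduct.mk S R P₂) 1)) LinearMap.id
  have hπσ : ∀ z, (π.baseChange R) (σ' z) = z := fun z => by
    have := congrArg (fun φ => φ z) hσ'
    simpa using this
  have hex : Function.Exact (LinearMap.lTensor R (LinearMap.ker π).subtype) (LinearMap.lTensor R π) :=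
    lTensor_exact R (LinearMap.exact_subtype_ker_map π) hπ
  have hrange : ∀ m : P₂, Ψ m ∈ LinearMap.range Φ := by
    intro m
    obtain ⟨x₀, hx₀⟩ := hπ m
    have h1 : (LinearMap.lTensor R π) (σ' (1 ⊗ₜ m) - 1 ⊗ₜ x₀) = 0 := by
      rw [map_sub, LinearMap.lTensor_tmul, hx₀]
      have := hπσ (1 ⊗ₜ m)
      rw [LinearMap.baseChange_eq_ltensor] at this
      rw [this, sub_self]
    obtain ⟨z, hz⟩ := (hex _).1 h1
    obtain ⟨k, rfl⟩ := exists_one_tmul_eq hSR _ z
    rw [LinearMap.lTensor_tmul] at hz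
    refine ⟨x₀ + k, ?_⟩
    have hΦ : Φ (x₀ + k) = ((1 : R) ⊗ₜ[S] (x₀ + (k : P₁)), π (x₀ + k)) := rfl
    have hΨ : Ψ m = (σ' (1 ⊗ₜ m), m) := rfl
    rw [hΦ, hΨ, Prod.mk.injEq]
    constructor
    · rw [Submodule.subtype_apply] at hz
      rw [TensorProduct.tmul_add, hz]; abel
    · rw [map_add, hx₀, LinearMap.map_coe_ker, add_zero]
  obtain ⟨σ, hσ⟩ := Module.projective_lifting_property Φ.rangeRestrict
    (Ψ.codRestrict (LinearMap.range Φ) hrange) (LinearMap.surjective_rangeRestrict Φ)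
  have hσ' : ∀ m, Φ (σ m) = Ψ m := fun m => by
    have := congrArg (fun φ => (φ m : (R ⊗[S] P₁) × P₂)) hσ
    simpa using this
  have hσ1 : ∀ m, (1 : R) ⊗ₜ[S] σ m = σ' (1 ⊗ₜ m) := fun m => by
    have := congrArg Prod.fst (hσ' m)
    exact this
  have hσ2 : ∀ m, π (σ m) = m := fun m => by
    have := congrArg Prod.snd (hσ' m)
    exact this
  refine ⟨σ, LinearMap.ext hσ2, ?_⟩
  apply LinearMap.ext
  intro z
  induction z using TensorProduct.induction_on with
  | zero => simp
  | tmul r m =>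
    rw [LinearMap.baseChange_tmul]
    have : r ⊗ₜ[S] m = r • ((1 : R) ⊗ₜ[S] m) := by
      rw [TensorProduct.smul_tmul', smul_eq_mul, mul_one]
    rw [this, map_smul, ← hσ1, TensorProduct.smul_tmul', smul_eq_mul, mul_one]
  | add x y hx hy => rw [map_add, map_add, hx, hy]

end Groth.Agent.S14869
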