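import Groth.Statements.S14877
import Groth.Agent.Lib.Helper2.Sch.LocTrivPrincipal
import Groth.Agent.Lib.Helper2.Sch.TorsorMap
import Groth.Agent.Lib.Helper2.EtaleLocal


set_option autoImplicit false
universe u
open CategoryTheory MonoidalCategory CartesianMonoidalCategory MonObj GrpObj AlgebraicGeometry CategoryTheory.Limits
open AlgGrp

namespace Groth.Agent.S14877

/-- Over an algebraically closed field k of characteristic zero, let G be an algebraic group (a smooth
k-group scheme of finite type) acting on a variety P (reduced, separated, of finite type over k),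
and let π : P → X be a geometric quotient by this action onto a variety X: π is invariant,
surjective and open, the map (g, p) ↦ (g·p, p) from G × P to P ×_X P is surjective on points, and
for every open U of X the sections of O_X over U are exactly the invariant sections of O_P over
π⁻¹U. Suppose the bundle is locally isotrivial: every point of X has an open neighbourhood U with a
finite étale surjective morphism U' → U and a morphism s : U' → P lifting U' → U → X such that (u,
g) ↦ g·s(u) exhibits U' × G as the fibre product U' ×_X P. Then the bundle is principal: (g, p) ↦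
(g·p, p) is an isomorphism of G × P onto P ×_X P, and π is flat. (The published definition of an
étale covering asks only for a finite étale morphism; this row also requires it to be surjective,
since an empty cover would make every bundle isotrivial.) -/
theorem result (k : Type u) [Field k] [IsAlgClosed k] [CharZero k]
    (G P X : Over (Spec (CommRingCat.of k))) [GrpObj G] [Smooth G.hom] [QuasiCompact G.hom]
    [LocallyOfFiniteType P.hom] [QuasiCompact P.hom] [IsSeparated P.hom] [IsReduced P.left]
    [LocallyOfFiniteType X.hom] [QuasiCompact X.hom] [IsSeparated X.hom] [IsReduced X.left]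
    (a : AlgGrp.Action G P) (π : P ⟶ X) (hinv : GIT.IsInvariant a π)
    (hq : Function.Surjective π.left.base ∧ IsOpenMap π.left.base ∧
      Function.Surjective (GIT.PsiY a π hinv).base ∧
      ∀ U : X.left.Opens, Function.Injective (π.left.app U) ∧
        Set.range (π.left.app U) = {f | GIT.IsInvSection a π U f})
    (hli : ∀ x : ↥X.left, ∃ (U : X.left.Opens) (_ : x ∈ U) (U' : Scheme.{u}) (φ : U' ⟶ ↑U)
      (_ : IsFinite φ) (_ : Etale φ) (_ : Surjective φ) (s : Over.mk (φ ≫ U.ι ≫ X.hom) ⟶ P),
      s.left ≫ π.left = φ ≫ U.ι ∧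
      IsPullback (fst (Over.mk (φ ≫ U.ι ≫ X.hom)) G).left (lift (snd (Over.mk (φ ≫ U.ι ≫ X.hom)) G) (fst (Over.mk (φ ≫ U.ι ≫ X.hom)) G ≫ s) ≫ a.act).left
        (φ ≫ U.ι) π.left) :
    IsIso (GIT.PsiY a π hinv) ∧ Flat π.left := by
  classical
  choose U hxU U' φ hfin het hsurj s hs hpb using hli
  -- the covering family
  let V : ↥X.left → Over (Spec (CommRingCat.of k)) := fun x => Over.mk (φ x ≫ (U x).ι ≫ X.hom)
  let c : ∀ x, V x ⟶ X := fun x => Over.homMk (φ x ≫ (U x).ι) (by simp [V])
  have hpb' : ∀ x, IsPullback (fst (V x) G) (lift (snd (V x) G) (fst (V x) G ≫ s x) ≫ a.act)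
      (c x) π := fun x =>
    Groth.Agent.Helper2.TorsorMap.over_isPullback_of_left _ _ _ _ (hpb x)
  have hR : Presieve.ofArrows (fun x => (V x).left) (fun x => (c x).left) ∈
      Scheme.fppfPrecoverage X.left := by
    unfold Scheme.fppfPrecoverage
    rw [Scheme.ofArrows_mem_precoverage_iff]
    refine ⟨fun x => ⟨x, ?_⟩, fun x => ⟨?_, ?_⟩⟩
    · haveI := hsurj x
      obtain ⟨u', hu'⟩ := (φ x).surjective ⟨x, hxU x⟩
      refine ⟨u', ?_⟩
      change (φ x ≫ (U x).ι) u' = x
      rw [Scheme.Hom.comp_apply, hu']
      rfl
    · haveI := het x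
      change Flat (φ x ≫ (U x).ι)
      infer_instance
    · haveI := het x
      change LocallyOfFinitePresentation (φ x ≫ (U x).ι)
      infer_instance
  have hcov : Sieve.generate (Presieve.ofArrows V c) ∈ AlgSp.J (Spec (CommRingCat.of k)) X := by
    rw [AlgSp.J_eq, GrothendieckTopology.mem_over_iff]
    refine GrothendieckTopology.superset_covering _ ?_
      (Precoverage.generate_mem_toGrothendieck hR)
    rintro Z f ⟨Y', e, f', ⟨x⟩, rfl⟩
    rw [Sieve.overEquiv_iff]
    refine ⟨V x, Over.homMk e ?_, c x, ⟨x⟩, ?_⟩
    · change e ≫ (V x).hom = (e ≫ (c x).left) ≫ X.hom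
      rw [Category.assoc, Over.w (c x)]
    · apply Over.OverMorphism.ext
      rfl
  have pb := Groth.Agent.Helper2.LocTrivPrincipal.isPullback_act a π hinv V c hcov s hpb'
  have pbL := Groth.Agent.Lib.Helper4.GrpKer2.isPullback_left pb
  refine ⟨?_, ?_⟩
  · have e : GIT.PsiY a π hinv = pbL.isoPullback.hom := by
      apply pullback.hom_ext
      · rw [pbL.isoPullback_hom_fst]; exact pullback.lift_fst _ _ _
      · rw [pbL.isoPullback_hom_snd]; exact pullback.lift_snd _ _ _
    rw [e]
    infer_instance
  · apply IsZariskiLocalAtTarget.of_iSup_eq_top (P := @Flat) U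
    · exact eq_top_iff.2 (fun x _ => TopologicalSpace.Opens.mem_iSup.2 ⟨x, hxU x⟩)
    · intro x
      haveI := het x
      haveI := hsurj x
      have sqR := isPullback_morphismRestrict π.left (U x)
      have hw := (hpb x).w
      obtain ⟨A, hA⟩ : ∃ A, A = (fst (V x) G).left := ⟨_, rfl⟩
      obtain ⟨B, hB⟩ : ∃ B, B = (lift (snd (V x) G) (fst (V x) G ≫ s x) ≫ a.act).left := ⟨_, rfl⟩
      have hpbx := hpb x
      rw [← hA, ← hB] at hpbx hw
      obtain ⟨B', hB', hB''⟩ : ∃ B' : (V x ⊗ G).left ⟶ ↑(π.left ⁻¹ᵁ U x),
          B' ≫ (π.left ⁻¹ᵁ U x).ι = B ∧ B' ≫ (π.left ∣_ U x) = A ≫ φ x :=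
        ⟨sqR.lift (A ≫ φ x) B (by rw [Category.assoc]; exact hw), sqR.lift_snd _ _ _,
          sqR.lift_fst _ _ _⟩
      rw [← hB'] at hpbx
      have sq' := IsPullback.of_bot hpbx hB''.symm sqR
      haveI : Flat A := by
        rw [hA]
        exact MorphismProperty.of_isPullback (P := @Flat)
          (IsPullback.of_hasPullback (V x).hom G.hom).flip inferInstance
      haveI : Flat B' := MorphismProperty.of_isPullback (P := @Flat) sq' inferInstance
      haveI : Surjective B' := MorphismProperty.of_isPullback (P := @Surjective) sq' inferInstance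
      haveI : Flat (B' ≫ (π.left ∣_ U x)) := by
        rw [hB'']; infer_instance
      exact Groth.Agent.Helper2.EtaleLocal.flat_of_flat_comp_of_surjective B' (π.left ∣_ U x)

end Groth.Agent.S14877
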