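import Groth.Statements.S14879
import Mathlib
import Groth.Agent.Lib.Helper5.LinAlg.BlockLaplace

set_option autoImplicit false
universe u
open Finset
open AlgGrp

open Groth.Agent.Helper5.BlockLaplace

namespace Groth.Agent.S14879

/-- Let k be a field of characteristic zero, n = p + r with p, r ≥ 1, M an n × n matrix over k, A a set
of p row indices and B a set of r row indices, both listed increasingly. For a permutation π of the
indices, with permutation matrix P_π, let Y_A(M·P_π) be the minor of M·P_π on the rows A and the
first p columns, and Z_B(M·P_π) the minor on the rows B and the last r columns. Then the sum over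
all π of sign(π)·Y_A(M·P_π)·Z_B(M·P_π) equals p!·r!·(−1)^N·det M when B is the complement of A,
where N is the number of pairs (a, b) with a in A, b outside A and b < a, and equals 0 otherwise.
Taking det M = 1 this says that the pairing (f, h) ↦ Σ_π sign(π) f(π) h(π) between the spans of the
left p-minors and of the right r-minors is invariant under left translation by matrices of
determinant one and pairs Y_A with the signed complementary minor to p!·r!. (The published statement
asserts that the two families of minors are dual bases for this pairing, that is, the value 1 in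
place of p!·r!; the p!·r! permutations preserving the two column blocks each contribute the same
signed term, so this row carries that factor, which is 1 only for n = 2.) -/
theorem result (k : Type u) [Field k] [CharZero k]
    (p r : ℕ) (hp : 1 ≤ p) (hr : 1 ≤ r) (M : Matrix (Fin (p + r)) (Fin (p + r)) k)
    (A : Finset (Fin (p + r))) (hA : A.card = p) (B : Finset (Fin (p + r))) (hB : B.card = r) :
    ∑ π : Equiv.Perm (Fin (p + r)), (((Equiv.Perm.sign π : ℤˣ) : ℤ) : k) *
      ((M * π.permMatrix k).submatrix (A.orderEmbOfFin hA) (Fin.castAdd r)).det *
      ((M * π.permMatrix k).submatrix (B.orderEmbOfFin hB) (Fin.natAdd p)).det =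
    if B = Aᶜ then ((p.factorial * r.factorial : ℕ) : k) *
      (-1 : k) ^ ((A ×ˢ Aᶜ).filter (fun ab => ab.2 < ab.1)).card * M.det else 0 := by
  classical
  set N : Matrix (Fin (p + r)) (Fin (p + r)) k := M.submatrix (rowSel A hA B hB) id with hN
  have hterm : ∀ π : Equiv.Perm (Fin (p + r)),
      (((Equiv.Perm.sign π : ℤˣ) : ℤ) : k) *
      ((M * π.permMatrix k).submatrix (A.orderEmbOfFin hA) (Fin.castAdd r)).det *
      ((M * π.permMatrix k).submatrix (B.orderEmbOfFin hB) (Fin.natAdd p)).det =
      (((Equiv.Perm.sign π : ℤˣ) : ℤ) : k) *
      (Matrix.of fun x y => N (Fin.castAdd r x) (π.symm (Fin.castAdd r y))).det *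
      (Matrix.of fun x y => N (Fin.natAdd p x) (π.symm (Fin.natAdd p y))).det := by
    intro π
    have e1 : (M * π.permMatrix k).submatrix (A.orderEmbOfFin hA) (Fin.castAdd r) =
        Matrix.of fun x y => N (Fin.castAdd r x) (π.symm (Fin.castAdd r y)) := by
      ext x y
      rw [Equiv.Perm.permMatrix, PEquiv.mul_toMatrix_toPEquiv]
      simp [hN, rowSel_castAdd]
    have e2 : (M * π.permMatrix k).submatrix (B.orderEmbOfFin hB) (Fin.natAdd p) =
        Matrix.of fun x y => N (Fin.natAdd p x) (π.symm (Fin.natAdd p y)) := by
      ext x y
      rw [Equiv.Perm.permMatrix, PEquiv.mul_toMatrix_toPEquiv]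
      simp [hN, rowSel_natAdd]
    rw [e1, e2]
  simp_rw [hterm]
  rw [sum_sign_blocks]
  split_ifs with hBA
  · subst hBA
    have hNe : N = M.submatrix (rowPerm A hA hB) id := by
      rw [hN]; rfl
    rw [hNe, Matrix.det_permute, sign_rowPerm]
    push_cast
    ring
  · obtain ⟨i, j, hij, hrow⟩ := exists_rowSel_eq_of_ne A hA B hB hBA
    have : N.det = 0 := by
      refine Matrix.det_zero_of_row_eq hij ?_
      ext c
      simp [hN, hrow]
    rw [this, mul_zero]

end Groth.Agent.S14879
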