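import Groth.Statements.S1488
import Groth.Agent.Lib.Helper2.SmLift.Smooth


set_option autoImplicit false
universe u
open FlatMor

namespace Groth.Agent.S1488

open AlgebraicGeometry CategoryTheory Limits in
/-- A morphism f : X → S is smooth if and only if it is locally of finite presentation and formally
smooth, i.e. has the lifting property against first order thickenings of affine schemes (rings in
the same universe). -/
theorem result {X S : Scheme.{u}} (f : X ⟶ S) :
    Smooth f ↔ LocallyOfFinitePresentation f ∧ MoreMor.IsFormallySmoothHom f := by
  exact Groth.Agent.Helper2.SmLift.smooth_iff_lfp_and_isFormallySmoothHom f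

end Groth.Agent.S1488
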