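import Groth.Statements.S14886
import Groth.Agent.Lib.Helper2.Sch.AssocBundle
import Groth.Agent.Lib.Helper2.Sch.CubeDescent


set_option autoImplicit false
universe u
open CategoryTheory MonoidalCategory CartesianMonoidalCategory MonObj GrpObj AlgebraicGeometry CategoryTheory.Limits
open AlgGrp

namespace Groth.Agent.S14886

/-- Over an algebraically closed field k of characteristic zero, let G be a connected algebraic group (a
smooth connected k-group scheme of finite type) and H an algebraic subgroup (a smooth closed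
subgroup scheme, j : H → G). Let π : G → B be the quotient of G by H (a geometric quotient for the
action h·g = g·h⁻¹ which is a principal H-bundle: (h, g) ↦ (g·h⁻¹, g) is an isomorphism H × G ≅ G
×_B G and π is flat). Let X and Y be varieties (reduced, separated, of finite type over k) with
H-actions, in each of which every finite set of points lies in an affine open subset, and let qX : G
× X → QX, qY : G × Y → QY and qXY : G × (X × Y) → QXY be the associated bundles G_H(X), G_H(Y) and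
G_H(X × Y): geometric quotients (invariant, surjective, open, fibre-pair map surjective on points,
sections = invariant sections) which are principal H-bundles, for the actions h·(g, x) = (g·h⁻¹,
h·x), h·(g, y) = (g·h⁻¹, h·y) and h·(g, x, y) = (g·h⁻¹, h·x, h·y), with QX, QY, QXY varieties over B
= G/H through pX, pY, pXY satisfying p ∘ q = π ∘ pr₁. Let fX : QXY → QX and fY : QXY → QY be the
morphisms over B induced by the projections, fX ∘ qXY = qX ∘ (id × pr₁) and fY ∘ qXY = qY ∘ (id ×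
pr₂). Then the square formed by fX, fY, pX, pY is cartesian: G_H(X × Y) is the fibre product of
G_H(X) and G_H(Y) over G/H. -/
theorem result (k : Type u) [Field k] [IsAlgClosed k] [CharZero k]
    (G H : Over (Spec (CommRingCat.of k))) [GrpObj G] [Smooth G.hom] [QuasiCompact G.hom]
    [ConnectedSpace ↥G.left] [GrpObj H] (j : H ⟶ G) [IsMonHom j] [IsClosedImmersion j.left] [Smooth H.hom]
    (B : Over (Spec (CommRingCat.of k))) [LocallyOfFiniteType B.hom] [QuasiCompact B.hom] [IsSeparated B.hom] [IsReduced B.left]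
    (r : AlgGrp.Action H G) (hr : ∀ (T : Over (Spec (CommRingCat.of k))) (h : T ⟶ H) (g : T ⟶ G),
      lift h g ≫ r.act = g * (h ≫ j)⁻¹)
    (π : G ⟶ B) (hπinv : GIT.IsInvariant r π)
    (hπ : (Function.Surjective π.left.base ∧ IsOpenMap π.left.base ∧
      Function.Surjective (GIT.PsiY r π hπinv).base ∧
      (∀ U : B.left.Opens, Function.Injective (π.left.app U) ∧
        Set.range (π.left.app U) = {f | GIT.IsInvSection r π U f}) ∧
      IsIso (GIT.PsiY r π hπinv) ∧ Flat π.left))
    (X Y : Over (Spec (CommRingCat.of k))) [LocallyOfFiniteType X.hom] [QuasiCompact X.hom] [IsSeparated X.hom] [IsReduced X.left] [LocallyOfFiniteType Y.hom] [QuasiCompact Y.hom] [IsSeparated Y.hom] [IsReduced Y.left]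
    (hFX : ∀ F : Finset ↥X.left, ∃ U : X.left.Opens, IsAffineOpen U ∧ (↑F : Set ↥X.left) ⊆ (U : Set ↥X.left))
    (hFY : ∀ F : Finset ↥Y.left, ∃ U : Y.left.Opens, IsAffineOpen U ∧ (↑F : Set ↥Y.left) ⊆ (U : Set ↥Y.left))
    (aX : AlgGrp.Action H X) (aY : AlgGrp.Action H Y)
    (b : AlgGrp.Action H (G ⊗ X))
    (hb : ∀ (T : Over (Spec (CommRingCat.of k))) (h : T ⟶ H) (g : T ⟶ G) (x : T ⟶ X),
      lift h (lift g x) ≫ b.act = lift (g * (h ≫ j)⁻¹) (lift h x ≫ aX.act))
    (c : AlgGrp.Action H (G ⊗ Y))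
    (hc : ∀ (T : Over (Spec (CommRingCat.of k))) (h : T ⟶ H) (g : T ⟶ G) (x : T ⟶ Y),
      lift h (lift g x) ≫ c.act = lift (g * (h ≫ j)⁻¹) (lift h x ≫ aY.act))
    (d : AlgGrp.Action H (G ⊗ (X ⊗ Y)))
    (hd : ∀ (T : Over (Spec (CommRingCat.of k))) (h : T ⟶ H) (g : T ⟶ G) (x : T ⟶ X) (y : T ⟶ Y),
      lift h (lift g (lift x y)) ≫ d.act = lift (g * (h ≫ j)⁻¹) (lift (lift h x ≫ aX.act) (lift h y ≫ aY.act)))
    (QX QY QXY : Over (Spec (CommRingCat.of k))) [LocallyOfFiniteType QX.hom] [QuasiCompact QX.hom] [IsSeparated QX.hom] [IsReduced QX.left] [LocallyOfFiniteType QY.hom] [QuasiCompact QY.hom] [IsSeparated QY.hom] [IsReduced QY.left] [LocallyOfFiniteType QXY.hom] [QuasiCompact QXY.hom] [IsSeparated QXY.hom] [IsReduced QXY.left]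
    (qX : G ⊗ X ⟶ QX) (hqXinv : GIT.IsInvariant b qX) (hqX : (Function.Surjective qX.left.base ∧ IsOpenMap qX.left.base ∧
      Function.Surjective (GIT.PsiY b qX hqXinv).base ∧
      (∀ U : QX.left.Opens, Function.Injective (qX.left.app U) ∧
        Set.range (qX.left.app U) = {f | GIT.IsInvSection b qX U f}) ∧
      IsIso (GIT.PsiY b qX hqXinv) ∧ Flat qX.left))
    (qY : G ⊗ Y ⟶ QY) (hqYinv : GIT.IsInvariant c qY) (hqY : (Function.Surjective qY.left.base ∧ IsOpenMap qY.left.base ∧
      Function.Surjective (GIT.PsiY c qY hqYinv).base ∧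
      (∀ U : QY.left.Opens, Function.Injective (qY.left.app U) ∧
        Set.range (qY.left.app U) = {f | GIT.IsInvSection c qY U f}) ∧
      IsIso (GIT.PsiY c qY hqYinv) ∧ Flat qY.left))
    (qXY : G ⊗ (X ⊗ Y) ⟶ QXY) (hqXYinv : GIT.IsInvariant d qXY) (hqXY : (Function.Surjective qXY.left.base ∧ IsOpenMap qXY.left.base ∧
      Function.Surjective (GIT.PsiY d qXY hqXYinv).base ∧
      (∀ U : QXY.left.Opens, Function.Injective (qXY.left.app U) ∧
        Set.range (qXY.left.app U) = {f | GIT.IsInvSection d qXY U f}) ∧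
      IsIso (GIT.PsiY d qXY hqXYinv) ∧ Flat qXY.left))
    (pX : QX ⟶ B) (hpX : qX ≫ pX = fst G X ≫ π) (pY : QY ⟶ B) (hpY : qY ≫ pY = fst G Y ≫ π)
    (pXY : QXY ⟶ B) (hpXY : qXY ≫ pXY = fst G (X ⊗ Y) ≫ π)
    (fX : QXY ⟶ QX) (hfX : qXY ≫ fX = (G ◁ fst X Y) ≫ qX) (hfXp : fX ≫ pX = pXY)
    (fY : QXY ⟶ QY) (hfY : qXY ≫ fY = (G ◁ snd X Y) ≫ qY) (hfYp : fY ≫ pY = pXY) :
    IsPullback fX.left fY.left pX.left pY.left := by
  classical
  obtain ⟨hπs, -, -, -, hπiso, hπflat⟩ := hπ
  obtain ⟨hqXs, -, -, -, hqXiso, hqXflat⟩ := hqX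
  obtain ⟨hqYs, -, -, -, hqYiso, hqYflat⟩ := hqY
  obtain ⟨hqXYs, -, -, -, hqXYiso, hqXYflat⟩ := hqXY
  haveI : LocallyOfFiniteType G.hom := inferInstance
  have pbπ := Groth.Agent.Helper2.AssocBundle.isPullback_of_isIso_psiY r π hπinv hπiso
  have pbX := Groth.Agent.Helper2.AssocBundle.isPullback_of_isIso_psiY b qX hqXinv hqXiso
  have pbY := Groth.Agent.Helper2.AssocBundle.isPullback_of_isIso_psiY c qY hqYinv hqYiso
  have pbXY := Groth.Agent.Helper2.AssocBundle.isPullback_of_isIso_psiY d qXY hqXYinv hqXYiso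
  have covπ := Groth.Agent.Helper2.AssocBundle.isCov_of_flat_surjective π hπs hπflat
  have covX := Groth.Agent.Helper2.AssocBundle.isCov_of_flat_surjective qX hqXs hqXflat
  have covY := Groth.Agent.Helper2.AssocBundle.isCov_of_flat_surjective qY hqYs hqYflat
  have covXY := Groth.Agent.Helper2.AssocBundle.isCov_of_flat_surjective qXY hqXYs hqXYflat
  have heX : b.act ≫ fst G X = (H ◁ fst G X) ≫ r.act := by
    apply Groth.Agent.Helper2.AssocBundle.hom_ext_lift₃'
    intro T h g x
    rw [← Category.assoc, hb, lift_fst, lift_whiskerLeft_assoc, lift_fst, hr]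
  have heY : c.act ≫ fst G Y = (H ◁ fst G Y) ≫ r.act := by
    apply Groth.Agent.Helper2.AssocBundle.hom_ext_lift₃'
    intro T h g x
    rw [← Category.assoc, hc, lift_fst, lift_whiskerLeft_assoc, lift_fst, hr]
  have heXY : d.act ≫ fst G (X ⊗ Y) = (H ◁ fst G (X ⊗ Y)) ≫ r.act := by
    apply Groth.Agent.Helper2.AssocBundle.hom_ext_lift₃'
    intro T h g xy
    have e : xy = lift (xy ≫ fst X Y) (xy ≫ snd X Y) := by
      apply CartesianMonoidalCategory.hom_ext <;> simp
    rw [e, ← Category.assoc, hd, lift_fst, lift_whiskerLeft_assoc, lift_fst, hr]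
  have sq1 := Groth.Agent.Helper2.TorsorMap.isPullback_of_equivariant b r qX covX pbX π pbπ
    (fst G X) heX pX hpX
  have sq2 := Groth.Agent.Helper2.TorsorMap.isPullback_of_equivariant c r qY covY pbY π pbπ
    (fst G Y) heY pY hpY
  have sq3 := Groth.Agent.Helper2.TorsorMap.isPullback_of_equivariant d r qXY covXY pbXY π pbπ
    (fst G (X ⊗ Y)) heXY pXY hpXY
  have sq3' : IsPullback ((G ◁ fst X Y) ≫ fst G X) qXY π (fX ≫ pX) := by
    rw [whiskerLeft_fst, hfXp]; exact sq3
  have main := Groth.Agent.Helper2.CubeDescent.isPullback_of_cube (G ◁ fst X Y) (G ◁ snd X Y)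
    (fst G X) (fst G Y) (Groth.Agent.Helper2.CubeDescent.isPullback_whiskerLeft_prod G X Y)
    qXY qX qY π covπ fX fY pX pY hfX hfY (hfXp.trans hfYp.symm) sq1 sq2 sq3'
  exact Groth.Agent.Lib.Helper4.GrpKer2.isPullback_left main

end Groth.Agent.S14886
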