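import Groth.Statements.S14888
import Mathlib
import Groth.Agent.Lib.Helper1.FinSpec2

set_option autoImplicit false
universe u
open CategoryTheory AlgebraicGeometry
open CAlg

namespace Groth.Agent.S14888

/-- Let R be a valuation ring whose spectrum is finite (finite height) and let f : X → Spec R be locally
of finite type with locally quasi-finite fibres. For every x ∈ X the canonical morphism Spec O_{X,x}
→ X is an open immersion, and the composite Spec O_{X,x} → Spec R is locally of finite type; in
particular O_{X,x} is finitely generated as an R-algebra. (The published statement takes X
quasi-finite over Spec R; the assertions are local at x, so this row assumes only that X is locally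
of finite type with discrete fibres.) -/
theorem result
    (R : Type u) [CommRing R] [IsDomain R] [ValuationRing R] [Finite (PrimeSpectrum R)]
    {X : Scheme.{u}} (f : X ⟶ Spec (CommRingCat.of R)) [LocallyOfFiniteType f] [LocallyQuasiFinite f]
    (x : X) :
    IsOpenImmersion (X.fromSpecStalk x) ∧ LocallyOfFiniteType (X.fromSpecStalk x ≫ f) := by
  haveI : Finite ↥(AlgebraicGeometry.Spec (CommRingCat.of R)) :=
    (inferInstance : Finite (PrimeSpectrum R))
  haveI : AlgebraicGeometry.IsOpenImmersion (X.fromSpecStalk x) :=
    Groth.Agent.Helper1.FinSpec.isOpenImmersion_fromSpecStalk_of_finite f x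
  exact ⟨inferInstance, inferInstance⟩

end Groth.Agent.S14888
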