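import Groth.Statements.S1489
import Mathlib
import Groth.Agent.Lib.Helper2.Formal.EtaleHom

open Groth.Agent.Helper2.FormalLib

set_option autoImplicit false
universe u
open FlatMor

namespace Groth.Agent.S1489

open AlgebraicGeometry CategoryTheory Limits in
/-- A morphism f : X → S is étale if and only if it is locally of finite presentation and formally
étale, i.e. has the unique lifting property against first order thickenings of affine schemes (rings
in the same universe). -/
theorem result {X S : Scheme.{u}} (f : X ⟶ S) :
    Etale f ↔ LocallyOfFinitePresentation f ∧ MoreMor.IsFormallyEtaleHom f := by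
  rw [isFormallyEtaleHom_iff_locFEt]
  constructor
  · intro h
    refine ⟨inferInstance, ?_⟩
    intro U V hU hV hUV
    have := (f.etale_appLE hV hU hUV).toAlgebra
    exact this.formallyEtale
  · rintro ⟨h1, h2⟩
    constructor
    intro V hV U hU e
    have hfp := f.finitePresentation_appLE hV hU e
    have hfe := h2 U V hU hV e
    letI := (f.appLE V U e).hom.toAlgebra
    exact ⟨hfe, hfp⟩

end Groth.Agent.S1489
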