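import Groth.Statements.S14891
import Mathlib

set_option autoImplicit false
universe u
open CAlg

namespace Groth.Agent.S14891

section aux
open IsLocalRing Valuation


variable {K L Γ₀ Γ₁ : Type u} [Field K] [Field L] [Algebra K L]
    [LinearOrderedCommGroupWithZero Γ₀] [LinearOrderedCommGroupWithZero Γ₁]
    (vK : Valuation K Γ₀) (vL : Valuation L Γ₁) [vK.HasExtension vL]

/-- Step A: a nonzero polynomial in residually independent integral elements has the valuation of
an element of `K`. -/
lemma stepA {J : Type*} (y : J → vL.valuationSubring)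
    (hy : AlgebraicIndependent (ResidueField vK.valuationSubring)
      (fun j => residue vL.valuationSubring (y j)))
    (q : MvPolynomial J K) (hq : q ≠ 0) :
    ∃ a : K, a ≠ 0 ∧ vL (MvPolynomial.aeval (fun j => (y j : L)) q) = vL (algebraMap K L a) := by
  classical
  have hsupp : q.support.Nonempty := MvPolynomial.support_nonempty.mpr hq  -- ?
  obtain ⟨β₀, hβ₀, hmax⟩ := Finset.exists_max_image q.support (fun β => vK (q.coeff β)) hsupp
  set a := q.coeff β₀ with ha
  have ha0 : a ≠ 0 := MvPolynomial.mem_support_iff.mp hβ₀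
  refine ⟨a, ha0, ?_⟩
  set q' : MvPolynomial J K := MvPolynomial.C a⁻¹ * q with hq'
  have hcoeff : ∀ β, vK (q'.coeff β) ≤ 1 := by
    intro β
    rw [hq', MvPolynomial.coeff_C_mul, map_mul, map_inv₀]
    by_cases hβ : β ∈ q.support
    · have := hmax β hβ
      have hva : vK a ≠ 0 := (Valuation.ne_zero_iff vK).mpr ha0
      rw [inv_mul_le_iff₀ (zero_lt_iff.mpr hva), mul_one]
      exact this
    · rw [MvPolynomial.notMem_support_iff.mp hβ, map_zero, mul_zero]
      exact zero_le_one
  -- lift to the valuation ring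
  have hlift : q' ∈ Set.range (MvPolynomial.map (vK.valuationSubring.subtype : vK.valuationSubring →+* K)) := by
    rw [MvPolynomial.mem_range_map_iff_coeffs_subset]
    intro c hc
    rw [Finset.mem_coe, MvPolynomial.mem_coeffs_iff] at hc
    obtain ⟨β, -, rfl⟩ := hc
    exact ⟨⟨q'.coeff β, hcoeff β⟩, rfl⟩
  obtain ⟨q₀, hq₀⟩ := hlift
  -- reduce
  set qbar := MvPolynomial.map (residue vK.valuationSubring) q₀ with hqbar
  have hqbar0 : qbar ≠ 0 := by
    intro h
    have h1 : qbar.coeff β₀ = 0 := by rw [h, MvPolynomial.coeff_zero]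
    rw [hqbar, MvPolynomial.coeff_map] at h1
    have h2 : ((q₀.coeff β₀ : vK.valuationSubring) : K) = 1 := by
      have := congrArg (MvPolynomial.coeff β₀) hq₀
      rw [MvPolynomial.coeff_map] at this
      rw [ValuationSubring.subtype_apply] at this
      rw [this, hq', MvPolynomial.coeff_C_mul, ← ha, inv_mul_cancel₀ ha0]
    have h3 : q₀.coeff β₀ = 1 := Subtype.ext h2
    rw [h3, map_one] at h1
    exact one_ne_zero h1
  have hne := (algebraicIndependent_iff.mp hy) qbar
  have hval : MvPolynomial.aeval (fun j => residue vL.valuationSubring (y j)) qbar ≠ 0 :=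
    fun h => hqbar0 (hne h)
  -- compare with the residue of `aeval y q₀`
  have hcomp : MvPolynomial.aeval (fun j => residue vL.valuationSubring (y j)) qbar =
      residue vL.valuationSubring (MvPolynomial.aeval y q₀) := by
    rw [hqbar, MvPolynomial.aeval_def, MvPolynomial.eval₂_map, MvPolynomial.aeval_def,
      MvPolynomial.hom_eval₂]
    rfl
  rw [hcomp] at hval
  have hunit : IsUnit (MvPolynomial.aeval y q₀ : vL.valuationSubring) := by
    by_contra hnu
    exact hval ((residue_eq_zero_iff _).mpr hnu)
  have hv1 : vL ((MvPolynomial.aeval y q₀ : vL.valuationSubring) : L) = 1 :=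
    (Valuation.valuationSubring.integers vL).one_of_isUnit hunit
  -- transport to `L`
  have htr : ((MvPolynomial.aeval y q₀ : vL.valuationSubring) : L) =
      MvPolynomial.aeval (fun j => (y j : L)) q' := by
    rw [← hq₀]
    have h1 : ((MvPolynomial.aeval y q₀ : vL.valuationSubring) : L) =
        (vL.valuationSubring.subtype : vL.valuationSubring →+* L) (MvPolynomial.aeval y q₀) := rfl
    rw [h1, MvPolynomial.aeval_def, MvPolynomial.hom_eval₂, MvPolynomial.aeval_def,
      MvPolynomial.eval₂_map]
    rfl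
  rw [htr, hq', map_mul, MvPolynomial.aeval_C, map_mul] at hv1
  have hva : vL (algebraMap K L a) ≠ 0 := by
    rw [Valuation.ne_zero_iff]
    exact (map_ne_zero_iff _ (algebraMap K L).injective).mpr ha0
  rw [map_inv₀, map_inv₀] at hv1
  have := (inv_mul_eq_one₀ hva).mp hv1
  exact this.symm

variable (K) in
/-- the subgroup we quotient by -/
noncomputable abbrev Hgrp : Subgroup Lˣ :=
  vL.valuationSubring.unitGroup ⊔ (Units.map (algebraMap K L).toMonoidHom).range

/-- evaluation at `Sum.elim x y` via iterated polynomials -/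
lemma heval {I J : Type*} (x : I → L) (y : J → L) (p : MvPolynomial (I ⊕ J) K) :
    MvPolynomial.aeval (Sum.elim x y) p =
      MvPolynomial.eval₂ (MvPolynomial.aeval y : MvPolynomial J K →ₐ[K] L).toRingHom x
        (MvPolynomial.sumAlgEquiv K I J p) := by
  have : (MvPolynomial.aeval (Sum.elim x y) : MvPolynomial (I ⊕ J) K →ₐ[K] L).toRingHom =
      (MvPolynomial.eval₂Hom (MvPolynomial.aeval y : MvPolynomial J K →ₐ[K] L).toRingHom x).comp
        (MvPolynomial.sumAlgEquiv K I J).toAlgHom.toRingHom := by
    apply MvPolynomial.ringHom_ext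
    · intro r
      simp
    · rintro (i | j) <;> simp
  exact RingHom.congr_fun this p

lemma mk_prod {I : Type*} (x : I → Lˣ) (α : I →₀ ℕ) :
    (QuotientAddGroup.mk (Additive.ofMul (α.prod fun i n => x i ^ n)) :
      Additive Lˣ ⧸ (Hgrp K vL).toAddSubgroup) =
    Finsupp.linearCombination ℤ
      (fun i => (QuotientAddGroup.mk (Additive.ofMul (x i)) :
        Additive Lˣ ⧸ (Hgrp K vL).toAddSubgroup)) (α.mapRange (Nat.cast : ℕ → ℤ) rfl) := by
  rw [Finsupp.linearCombination_apply, Finsupp.sum_mapRange_index (by intro i; simp)]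
  rw [Finsupp.prod, Finsupp.sum, ofMul_prod, ← QuotientAddGroup.mk'_apply, map_sum]
  refine Finset.sum_congr rfl fun i _ => ?_
  rw [ofMul_pow, map_nsmul, natCast_zsmul]
  rfl

lemma stepB {I : Type*} (x : I → Lˣ)
    (hx : LinearIndependent ℤ (fun i => (QuotientAddGroup.mk (Additive.ofMul (x i)) :
      Additive Lˣ ⧸ (Hgrp K vL).toAddSubgroup)))
    (α α' : I →₀ ℕ) (a a' : K) (ha : a ≠ 0) (ha' : a' ≠ 0)
    (h : vL (algebraMap K L a * ((α.prod fun i n => x i ^ n : Lˣ) : L)) =
      vL (algebraMap K L a' * ((α'.prod fun i n => x i ^ n : Lˣ) : L))) : α = α' := by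
  set u : Lˣ := α.prod fun i n => x i ^ n with hu
  set u' : Lˣ := α'.prod fun i n => x i ^ n with hu'
  set b : Lˣ := Units.map (algebraMap K L).toMonoidHom (Units.mk0 a ha) with hb
  set b' : Lˣ := Units.map (algebraMap K L).toMonoidHom (Units.mk0 a' ha') with hb'
  have hbv : (b : L) = algebraMap K L a := rfl
  have hbv' : (b' : L) = algebraMap K L a' := rfl
  rw [← hbv, ← hbv', ← Units.val_mul, ← Units.val_mul] at h
  have hw : (b * u) * (b' * u')⁻¹ ∈ vL.valuationSubring.unitGroup := by
    rw [Valuation.mem_unitGroup_iff, Units.val_mul, map_mul, Units.val_inv_eq_inv_val, map_inv₀, h]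
    apply mul_inv_cancel₀
    rw [Valuation.ne_zero_iff]
    exact Units.ne_zero _
  have hH : u * u'⁻¹ ∈ Hgrp K vL := by
    have h1 : u * u'⁻¹ = ((b * u) * (b' * u')⁻¹) * (b' * b⁻¹) := by
      ext
      simp only [Units.val_mul, Units.val_inv_eq_inv_val, mul_inv]
      have := b.ne_zero
      have := b'.ne_zero
      have := u'.ne_zero
      field_simp
    rw [h1]
    apply Subgroup.mul_mem
    · exact Subgroup.mem_sup_left hw
    · apply Subgroup.mem_sup_right
      exact Subgroup.mul_mem _ ⟨_, rfl⟩ (Subgroup.inv_mem _ ⟨_, rfl⟩)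
  have hq : (QuotientAddGroup.mk (Additive.ofMul u) : Additive Lˣ ⧸ (Hgrp K vL).toAddSubgroup) =
      QuotientAddGroup.mk (Additive.ofMul u') := by
    rw [eq_comm, QuotientAddGroup.eq]
    change u'⁻¹ * u ∈ Hgrp K vL
    rwa [mul_comm]
  rw [hu, hu', mk_prod, mk_prod] at hq
  have := hx hq
  exact Finsupp.mapRange_injective _ rfl Nat.cast_injective this

lemma main {I J : Type*} (x : I → Lˣ) (y : J → vL.valuationSubring)
    (hx : LinearIndependent ℤ (fun i => (QuotientAddGroup.mk (Additive.ofMul (x i)) :
      Additive Lˣ ⧸ (Hgrp K vL).toAddSubgroup)))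
    (hy : AlgebraicIndependent (ResidueField vK.valuationSubring)
      (fun j => residue vL.valuationSubring (y j))) :
    AlgebraicIndependent K (Sum.elim (fun i => (x i : L)) (fun j => (y j : L))) := by
  classical
  rw [algebraicIndependent_iff]
  intro p hp
  by_contra hp0
  set P := MvPolynomial.sumAlgEquiv K I J p with hP
  have hP0 : P ≠ 0 := fun h =>
    hp0 ((MvPolynomial.sumAlgEquiv K I J).injective (by rw [← hP, h, map_zero]))
  rw [heval, ← hP, MvPolynomial.eval₂_eq] at hp
  have hA : ∀ d ∈ P.support, ∃ a : K, a ≠ 0 ∧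
      vL (MvPolynomial.aeval (fun j => (y j : L)) (P.coeff d)) = vL (algebraMap K L a) :=
    fun d hd => stepA vK vL y hy _ (MvPolynomial.mem_support_iff.mp hd)
  choose! a ha0 hav using hA
  set t : (I →₀ ℕ) → L := fun d =>
    (MvPolynomial.aeval (fun j => (y j : L)) : MvPolynomial J K →ₐ[K] L).toRingHom (P.coeff d) *
      ∏ i ∈ d.support, (x i : L) ^ d i with ht
  have htv : ∀ d ∈ P.support, vL (t d) =
      vL (algebraMap K L (a d) * ((d.prod fun i n => x i ^ n : Lˣ) : L)) := by
    intro d hd
    rw [ht]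
    simp only
    rw [map_mul, map_mul, ← hav d hd]
    congr 2
    rw [Finsupp.prod, Units.coe_prod]
    simp
  have hinj : ∀ d ∈ P.support, ∀ d' ∈ P.support, vL (t d) = vL (t d') → d = d' := by
    intro d hd d' hd' h
    rw [htv d hd, htv d' hd'] at h
    exact stepB vL x hx d d' (a d) (a d') (ha0 d hd) (ha0 d' hd') h
  obtain ⟨d₀, hd₀, hmax⟩ := Finset.exists_max_image P.support (fun d => vL (t d))
    (MvPolynomial.support_nonempty.mpr hP0)
  have hsum := Valuation.map_sum_eq_of_lt vL hd₀ (f := t) (fun i hi =>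
    lt_of_le_of_ne (hmax i (Finset.mem_sdiff.1 hi).1) (fun h =>
      (Finset.mem_sdiff.1 hi).2 (Finset.mem_singleton.2 (hinj _ (Finset.mem_sdiff.1 hi).1 _ hd₀ h))))
  rw [hp, map_zero, htv d₀ hd₀] at hsum
  have : vL (algebraMap K L (a d₀) * ((d₀.prod fun i n => x i ^ n : Lˣ) : L)) ≠ 0 := by
    rw [Valuation.ne_zero_iff]
    apply mul_ne_zero
    · exact (map_ne_zero_iff _ (algebraMap K L).injective).mpr (ha0 d₀ hd₀)
    · exact Units.ne_zero _
  exact this hsum.symm


end aux

open IsLocalRing Valuation in

/-- Let L/K be an extension of valued fields, i.e. v_L is a valuation on L whose restriction to K is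
equivalent to v_K. Write E for the rational rank of the quotient of value groups |L^×|/|K^×| — here
the rank of the abelian group L^× modulo the subgroup generated by the units of the valuation ring
of v_L and the image of K^× — and F for the transcendence degree of the residue field of v_L over
that of v_K. Then E + F ≤ tr.deg(L/K) (an inequality of cardinals). -/
theorem result
    {K L Γ₀ Γ₁ : Type u} [Field K] [Field L] [Algebra K L]
    [LinearOrderedCommGroupWithZero Γ₀] [LinearOrderedCommGroupWithZero Γ₁]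
    (vK : Valuation K Γ₀) (vL : Valuation L Γ₁) [vK.HasExtension vL] :
    Module.rank ℤ (Additive Lˣ ⧸ Subgroup.toAddSubgroup
        (vL.valuationSubring.unitGroup ⊔ (Units.map (algebraMap K L).toMonoidHom).range)) +
      Algebra.trdeg (IsLocalRing.ResidueField vK.valuationSubring)
        (IsLocalRing.ResidueField vL.valuationSubring) ≤ Algebra.trdeg K L := by
  conv_lhs => rw [Module.rank_def, Algebra.trdeg]
  rw [Cardinal.ciSup_add_ciSup _ Cardinal.bddAbove_of_small _ Cardinal.bddAbove_of_small]
  apply ciSup_le'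
  rintro ⟨s, hs⟩
  apply ciSup_le'
  rintro ⟨t, ht⟩
  have hx : ∀ i : s, ∃ u : Lˣ, (QuotientAddGroup.mk (Additive.ofMul u) :
      Additive Lˣ ⧸ (Hgrp K vL).toAddSubgroup) = i.1 := by
    intro i
    obtain ⟨w, hw⟩ := QuotientAddGroup.mk_surjective i.1
    exact ⟨Additive.toMul w, hw⟩
  choose x hx' using hx
  have hy : ∀ j : t, ∃ w : vL.valuationSubring, residue vL.valuationSubring w = j.1 :=
    fun j => IsLocalRing.residue_surjective j.1
  choose y hy' using hy
  have hmain := main vK vL x y (by
      have : (fun i : s => (QuotientAddGroup.mk (Additive.ofMul (x i)) :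
        Additive Lˣ ⧸ (Hgrp K vL).toAddSubgroup)) = fun i : s => id i.1 := by
        funext i; exact hx' i
      rw [this]; exact hs) (by
      have : (fun j : t => residue vL.valuationSubring (y j)) = fun j : t => id j.1 := by
        funext j; exact hy' j
      rw [this]; exact ht)
  have := hmain.cardinalMk_le_trdeg
  simpa using this

end Groth.Agent.S14891
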