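import Groth.Statements.S14893
import Mathlib
import Groth.Agent.S14892
-- import your own Groth.Agent.* helpers here

set_option autoImplicit false
universe u
open CAlg

namespace Groth.Agent.S14893

namespace Aux

/-- (1) a totally ordered poset of finite Krull dimension is finite -/
lemma finite_of_total_of_krullDim_le {α : Type*} [PartialOrder α]
    (htot : ∀ a b : α, a ≤ b ∨ b ≤ a) (n : ℕ) (h : Order.krullDim α ≤ (n : WithBot ℕ∞)) :
    Finite α := by
  classical
  by_contra hfin
  rw [not_finite_iff_infinite] at hfin
  obtain ⟨S, hS⟩ := Infinite.exists_subset_card_eq α (n + 2)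
  letI : LinearOrder α :=
    { ‹PartialOrder α› with
      le_total := htot
      toDecidableLE := Classical.decRel _ }
  let e := Finset.orderEmbOfFin S hS
  let p : LTSeries α := LTSeries.mk (n + 1) (fun i => e i) (fun i j hij => e.strictMono hij)
  have h1 := Order.LTSeries.length_le_krullDim p
  have h2 : ((n + 1 : ℕ) : WithBot ℕ∞) ≤ (n : WithBot ℕ∞) := h1.trans h
  have h3 : n + 1 ≤ n := by exact_mod_cast h2
  omega

/-- (2) trdeg of a finitely generated field over its prime field is finite -/
lemma exists_trdeg_eq_nat (L : Type u) [Field L] (T : Set L) (hT : T.Finite)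
    (hgen : Subfield.closure T = ⊤) :
    ∃ d : ℕ, Algebra.trdeg (⊥ : Subfield L) L = d := by
  have halg : Algebra.IsAlgebraic (Algebra.adjoin (⊥ : Subfield L) T) L := by
    constructor
    intro x
    have hx : x ∈ Subfield.closure T := by rw [hgen]; trivial
    rw [Subfield.mem_closure_iff] at hx
    obtain ⟨y, hy, z, hz, rfl⟩ := hx
    have hsub : ∀ w ∈ Subring.closure T, w ∈ Algebra.adjoin (⊥ : Subfield L) T := by
      intro w hw
      have : Subring.closure T ≤ (Algebra.adjoin (⊥ : Subfield L) T).toSubring :=
        Subring.closure_le.mpr Algebra.subset_adjoin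
      exact this hw
    by_cases hz0 : z = 0
    · rw [hz0, div_zero]; exact isAlgebraic_zero
    · refine ⟨Polynomial.C (⟨z, hsub z hz⟩ : Algebra.adjoin (⊥ : Subfield L) T) * Polynomial.X
        - Polynomial.C ⟨y, hsub y hy⟩, ?_, ?_⟩
      · intro h
        have := congrArg (fun p => Polynomial.coeff p 1) h
        simp at this
        exact hz0 (congrArg Subtype.val this)
      · simp only [map_sub, map_mul, Polynomial.aeval_C, Polynomial.aeval_X]
        change z * (y / z) - y = 0
        field_simp
        ring
  obtain ⟨u, -, hu, hbasis⟩ := exists_isTranscendenceBasis_between (R := (⊥ : Subfield L))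
    (∅ : Set L) T (Set.empty_subset _) (by
      rw [AlgebraicIndepOn]
      exact algebraicIndependent_empty_type)
  have hufin : u.Finite := hT.subset hu
  have hcard := hbasis.cardinalMk_eq_trdeg
  haveI := hufin.fintype
  refine ⟨Fintype.card u, ?_⟩
  rw [← hcard, Cardinal.mk_fintype]


section main
variable (R : Type u) [CommRing R] [IsDomain R] [ValuationRing R]

local notation "K" => FractionRing R

/-- the subfield generated by a finite subset -/
noncomputable def KT (T : Finset R) : Subfield K :=
  Subfield.closure ((algebraMap R K) '' (T : Set R))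

/-- the subring -/
noncomputable def FT (T : Finset R) : Subring R :=
  (KT R T).toSubring.comap (algebraMap R K)

lemma mem_FT (T : Finset R) (r : R) : r ∈ FT R T ↔ algebraMap R K r ∈ KT R T := Iff.rfl

lemma FT_mono : Monotone (FT R) := by
  intro T T' h r hr
  rw [mem_FT] at hr ⊢
  exact Subfield.closure_mono (Set.image_mono (by exact_mod_cast h)) hr

lemma mem_FT_self (T : Finset R) (r : R) (hr : r ∈ T) : r ∈ FT R T := by
  rw [mem_FT]
  exact Subfield.subset_closure ⟨r, by exact_mod_cast hr, rfl⟩

instance (T : Finset R) : ValuationRing (FT R T) := by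
  haveI : PreValuationRing (FT R T) := by
    constructor
    intro a b
    have hinj := IsFractionRing.injective R K
    obtain ⟨c, hc | hc⟩ := ValuationRing.cond (a : R) (b : R)
    · by_cases ha : (a : R) = 0
      · refine ⟨0, Or.inl ?_⟩
        apply Subtype.ext
        rw [ha, zero_mul] at hc
        simp [← hc]
      · have hcK : algebraMap R K c = algebraMap R K b / algebraMap R K a := by
          rw [eq_div_iff (fun h => ha (hinj (by rw [h, map_zero]))), ← map_mul, mul_comm, hc]
        have hcm : c ∈ FT R T := by
          rw [mem_FT, hcK]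
          exact (KT R T).div_mem b.2 a.2
        exact ⟨⟨c, hcm⟩, Or.inl (Subtype.ext hc)⟩
    · by_cases hb : (b : R) = 0
      · refine ⟨0, Or.inr ?_⟩
        apply Subtype.ext
        rw [hb, zero_mul] at hc
        simp [← hc]
      · have hcK : algebraMap R K c = algebraMap R K a / algebraMap R K b := by
          rw [eq_div_iff (fun h => hb (hinj (by rw [h, map_zero]))), ← map_mul, mul_comm, hc]
        have hcm : c ∈ FT R T := by
          rw [mem_FT, hcK]
          exact (KT R T).div_mem a.2 b.2
        exact ⟨⟨c, hcm⟩, Or.inr (Subtype.ext hc)⟩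
  exact ValuationRing.mk


lemma mem_V (x : K) : x ∈ (ValuationRing.valuation R K).valuationSubring ↔
    ∃ a : R, algebraMap R K a = x := by
  rw [← ValuationRing.mem_integer_iff]
  rfl

lemma finite_spec (T : Finset R) : Finite (PrimeSpectrum (FT R T)) := by
  classical
  let L := ↥(KT R T)
  let V : ValuationSubring K := (ValuationRing.valuation R K).valuationSubring
  let AT : ValuationSubring L := V.comap (KT R T).subtype
  let g : {r // r ∈ T} → L := fun r =>
    ⟨algebraMap R K r.1, Subfield.subset_closure ⟨r.1, by exact_mod_cast r.2, rfl⟩⟩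
  have hfin : (Set.range g).Finite := Set.finite_range g
  have hgen : Subfield.closure (Set.range g) = ⊤ := by
    rw [eq_top_iff]
    rintro ⟨x, hx⟩ -
    refine Subfield.closure_induction (s := (algebraMap R K) '' (T : Set R))
      (p := fun k hk => (⟨k, hk⟩ : L) ∈ Subfield.closure (Set.range g)) ?_ ?_ ?_ ?_ ?_ ?_ hx
    · rintro k ⟨r, hr, rfl⟩
      exact Subfield.subset_closure ⟨⟨r, by exact_mod_cast hr⟩, rfl⟩
    · exact (Subfield.closure (Set.range g)).one_mem
    · intro a b ha hb h1 h2
      exact (Subfield.closure (Set.range g)).add_mem h1 h2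
    · intro a ha h1
      exact (Subfield.closure (Set.range g)).neg_mem h1
    · intro a ha h1
      exact (Subfield.closure (Set.range g)).inv_mem h1
    · intro a b ha hb h1 h2
      exact (Subfield.closure (Set.range g)).mul_mem h1 h2
  obtain ⟨d, hd⟩ := exists_trdeg_eq_nat L (Set.range g) hfin hgen
  have hdim := Groth.Agent.S14892.result L AT d hd
  let f1 : FT R T →+* L :=
    ((algebraMap R K).comp (FT R T).subtype).codRestrict (KT R T) (fun r => r.2)
  have hf1 : ∀ r, f1 r ∈ AT := by
    intro r
    rw [ValuationSubring.mem_comap]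
    exact (mem_V R _).mpr ⟨r.1, rfl⟩
  let f2 : FT R T →+* AT := f1.codRestrict AT hf1
  have hbij : Function.Bijective f2 := by
    constructor
    · intro a b hab
      have h1 : algebraMap R K a.1 = algebraMap R K b.1 :=
        congrArg (fun z : AT => ((z : L) : K)) hab
      exact Subtype.ext (IsFractionRing.injective R K h1)
    · rintro ⟨⟨x, hxL⟩, hxA⟩
      rw [ValuationSubring.mem_comap] at hxA
      obtain ⟨a, ha⟩ := (mem_V R _).mp hxA
      have ha' : a ∈ FT R T := by
        rw [mem_FT]
        change algebraMap R K a = x at ha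
        rw [ha]; exact hxL
      refine ⟨⟨a, ha'⟩, ?_⟩
      apply Subtype.ext
      apply Subtype.ext
      exact ha
  let e : FT R T ≃+* AT := RingEquiv.ofBijective f2 hbij
  have hdim' : ringKrullDim (FT R T) ≤ ((d + 1 : ℕ) : WithBot ℕ∞) := by
    rw [ringKrullDim_eq_of_ringEquiv e]; exact hdim
  apply finite_of_total_of_krullDim_le _ (d + 1) hdim'
  intro p q
  rcases Std.Total.total (r := (· ≤ ·)) p.asIdeal q.asIdeal with h | h
  · left; exact h
  · right; exact h

theorem main :
    ∃ (ι : Type u) (_ : Preorder ι) (_ : IsDirected ι (fun a b ↦ a ≤ b)) (_ : Nonempty ι)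
      (F : ι → Subring R), Monotone F ∧ (⨆ i, F i) = ⊤ ∧
        ∀ i, ValuationRing (F i) ∧ Finite (PrimeSpectrum (F i)) := by
  refine ⟨Finset R, inferInstance, inferInstance, inferInstance, FT R, FT_mono R, ?_, ?_⟩
  · rw [eq_top_iff]
    intro r _
    exact (le_iSup (FT R) {r}) (mem_FT_self R {r} r (Finset.mem_singleton_self r))
  · intro T
    exact ⟨inferInstance, finite_spec R T⟩

end main

end Aux

/-- Every valuation ring R is a filtered union of subrings which are valuation rings with finite
spectrum (finite height): there is a nonempty directed index type and a monotone family of such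
subrings of R whose supremum is R. -/
theorem result
    (R : Type u) [CommRing R] [IsDomain R] [ValuationRing R] :
    ∃ (ι : Type u) (_ : Preorder ι) (_ : IsDirected ι (fun a b ↦ a ≤ b)) (_ : Nonempty ι)
      (F : ι → Subring R), Monotone F ∧ (⨆ i, F i) = ⊤ ∧
        ∀ i, ValuationRing (F i) ∧ Finite (PrimeSpectrum (F i)) := by
  exact Aux.main R

end Groth.Agent.S14893
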