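import Groth.Statements.S14896
import Mathlib
-- import your own Groth.Agent.* helpers here

set_option autoImplicit false
universe u
open CAlg

namespace Groth.Agent.S14896

namespace Aux

/-- In a ring with finite spectrum, the localization at a prime is a localization away from an
element. -/
theorem exists_away_equiv (B : Type*) [CommRing B] [Finite (PrimeSpectrum B)] (P : Ideal B)
    [P.IsPrime] (S : Type*) [CommRing S] [Algebra B S] [IsLocalization.AtPrime S P] :
    ∃ g : B, Nonempty (Localization.Away g ≃ₐ[B] S) := by
  let P' : PrimeSpectrum B := ⟨P, inferInstance⟩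
  let U : Set (PrimeSpectrum B) := {Q | Q ≤ P'}
  have hU : IsOpen U := by
    rw [← isClosed_compl_iff]
    have : Uᶜ = ⋃ Q ∈ Uᶜ, closure {Q} := by
      ext Q'
      simp only [Set.mem_iUnion]
      constructor
      · intro h; exact ⟨Q', h, subset_closure rfl⟩
      · rintro ⟨Q, hQ, hQ'⟩
        rw [← specializes_iff_mem_closure, ← PrimeSpectrum.le_iff_specializes] at hQ'
        intro h; exact hQ (le_trans hQ' h)
    rw [this]
    exact (Set.toFinite _).isClosed_biUnion fun _ _ => isClosed_closure
  obtain ⟨_, ⟨g, rfl⟩, hPg, hgU⟩ :=
    PrimeSpectrum.isTopologicalBasis_basic_opens.exists_subset_of_mem_open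
      (show P' ∈ U from le_refl P') hU
  have hgP : g ∉ P := hPg
  have h₁ : Submonoid.powers g ≤ P.primeCompl := Submonoid.powers_le.mpr hgP
  have h₂ : ∀ r ∈ P.primeCompl, IsUnit (algebraMap B (Localization.Away g) r) := by
    intro r hr
    by_contra hnu
    obtain ⟨m, hm, hrm⟩ := exists_max_ideal_of_mem_nonunits hnu
    have hmp : m.IsPrime := hm.isPrime
    let Q : PrimeSpectrum B := ⟨m.comap (algebraMap B (Localization.Away g)), inferInstance⟩
    have hgQ : Q ∈ (PrimeSpectrum.basicOpen g : Set (PrimeSpectrum B)) := by
      intro hg
      have hu : IsUnit (algebraMap B (Localization.Away g) g) :=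
        IsLocalization.Away.algebraMap_isUnit g
      exact hm.ne_top (Ideal.eq_top_of_isUnit_mem _ hg hu)
    have hQP : Q ≤ P' := hgU hgQ
    exact hr (hQP hrm)
  have : IsLocalization P.primeCompl (Localization.Away g) :=
    IsLocalization.of_le (Submonoid.powers g) P.primeCompl h₁ h₂
  exact ⟨g, ⟨IsLocalization.algEquiv P.primeCompl (Localization.Away g) S⟩⟩

theorem main
    {K L Γ₀ Γ₁ : Type u} [Field K] [Field L] [Algebra K L] [FiniteDimensional K L]
    [LinearOrderedCommGroupWithZero Γ₀] [LinearOrderedCommGroupWithZero Γ₁]
    (vK : Valuation K Γ₀) (vL : Valuation L Γ₁) [vK.HasExtension vL]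
    [Finite (PrimeSpectrum vK.valuationSubring)]
    (B : Type u) [CommRing B] [Algebra vK.valuationSubring B] [Algebra.Etale vK.valuationSubring B]
    [Algebra B vL.valuationSubring] [IsScalarTower vK.valuationSubring B vL.valuationSubring]
    (P : Ideal B) [P.IsPrime] [IsLocalization.AtPrime vL.valuationSubring P] :
    Algebra.Etale vK.valuationSubring vL.valuationSubring := by
  have : Finite (PrimeSpectrum B) :=
    Algebra.QuasiFinite.finite_primeSpectrum (R := vK.valuationSubring) (S := B)
  obtain ⟨g, ⟨e⟩⟩ := exists_away_equiv B P vL.valuationSubring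
  have h1 : Algebra.Etale B (Localization.Away g) := Algebra.Etale.of_isLocalizationAway g
  have h2 : Algebra.Etale vK.valuationSubring (Localization.Away g) :=
    Algebra.Etale.comp vK.valuationSubring B (Localization.Away g)
  exact Algebra.Etale.of_equiv (e.restrictScalars vK.valuationSubring)

end Aux

/-- Let L/K be a finite extension of valued fields, v_L extending v_K, with K° = the valuation ring of
v_K having finite spectrum (finite height), and L° the valuation ring of v_L. If L° is local-étale
over K°, i.e. L° is the localization at a prime ideal of some étale K°-algebra B compatibly with the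
K°-algebra structures, then L° is étale over K°. (For valued fields of finite height 'unramified' in
the local-étale sense is thus the same as K° → L° étale; the published lemma phrases the hypothesis
as 'L/K unramified'.) -/
theorem result
    {K L Γ₀ Γ₁ : Type u} [Field K] [Field L] [Algebra K L] [FiniteDimensional K L]
    [LinearOrderedCommGroupWithZero Γ₀] [LinearOrderedCommGroupWithZero Γ₁]
    (vK : Valuation K Γ₀) (vL : Valuation L Γ₁) [vK.HasExtension vL]
    [Finite (PrimeSpectrum vK.valuationSubring)]
    (B : Type u) [CommRing B] [Algebra vK.valuationSubring B] [Algebra.Etale vK.valuationSubring B]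
    [Algebra B vL.valuationSubring] [IsScalarTower vK.valuationSubring B vL.valuationSubring]
    (P : Ideal B) [P.IsPrime] [IsLocalization.AtPrime vL.valuationSubring P] :
    Algebra.Etale vK.valuationSubring vL.valuationSubring := by
  exact Aux.main vK vL B P

end Groth.Agent.S14896
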