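import Groth.Statements.S14951
import Mathlib
import Groth.Agent.Lib.Helper4.Milnor

set_option autoImplicit false
universe u
open TensorProduct
open EtAlg

namespace Groth.Agent.S14951

/-- Let B' = B ×_A A' be a fibre product of commutative rings with A' → A surjective and D' a
commutative B'-algebra. The kernel of the ring map D' → (B ⊗_{B'} D') × (A' ⊗_{B'} D') has square
zero: if x, y ∈ D' both satisfy 1 ⊗ x = 0 = 1 ⊗ y in B ⊗_{B'} D' and in A' ⊗_{B'} D', then x y = 0.
(The published statement also records that this map is surjective onto the compatible pairs.) -/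
theorem result (B' B A' A : Type u) [CommRing B'] [CommRing B] [CommRing A'] [CommRing A]
    [Algebra B' B] [Algebra B' A'] [Algebra B A] [Algebra A' A] [Algebra B' A] [IsScalarTower B' B A] [IsScalarTower B' A' A]
    (hsq : EtMil.IsFibreSquare B' B A' A)
    (D' : Type u) [CommRing D'] [Algebra B' D'] (x y : D')
    (hx : ((1 : B) ⊗ₜ[B'] x : B ⊗[B'] D') = 0) (hx' : ((1 : A') ⊗ₜ[B'] x : A' ⊗[B'] D') = 0)
    (hy : ((1 : B) ⊗ₜ[B'] y : B ⊗[B'] D') = 0) (hy' : ((1 : A') ⊗ₜ[B'] y : A' ⊗[B'] D') = 0) : x * y = 0 := by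
  have hx1 := Groth.Agent.Helper4.Milnor.mem_ker_smul_top D' hsq x hx
  have key : ∀ j : B', algebraMap B' B j = 0 → j • y = 0 :=
    fun j hj => Groth.Agent.Helper4.Milnor.ker_smul_eq_zero D' hsq y hy' j hj
  refine Submodule.smul_induction_on (p := fun z => z * y = 0) hx1 ?_ ?_
  · intro j hj d _
    rw [smul_mul_assoc, ← mul_smul_comm, key j hj, mul_zero]
  · intro a b ha hb
    rw [add_mul, ha, hb, add_zero]

end Groth.Agent.S14951
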