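import Groth.Statements.S14955
import Mathlib
import Groth.Agent.Lib.Helper4.Milnor

set_option autoImplicit false
universe u
open TensorProduct
open EtAlg

namespace Groth.Agent.S14955

/-- Let B' = B ×_A A' be a fibre product of commutative rings with A' → A surjective. Then the square is
also a pushout of commutative rings: the canonical map B ⊗_{B'} A' → A is an isomorphism. -/
theorem result (B' B A' A : Type u) [CommRing B'] [CommRing B] [CommRing A'] [CommRing A]
    [Algebra B' B] [Algebra B' A'] [Algebra B A] [Algebra A' A] [Algebra B' A] [IsScalarTower B' B A] [IsScalarTower B' A' A]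
    (hsq : EtMil.IsFibreSquare B' B A' A) : Algebra.IsPushout B' B A' A := by
  constructor
  rw [IsBaseChange, IsTensorProduct]
  set φ := TensorProduct.lift
    (((Algebra.linearMap B <| Module.End B (A' →ₗ[B'] A)).flip
      (IsScalarTower.toAlgHom B' A' A).toLinearMap).restrictScalars B') with hφ
  have hφ1 : ∀ a' : A', φ ((1 : B) ⊗ₜ[B'] a') = algebraMap A' A a' := by
    intro a'
    simp [φ]
  constructor
  · rw [injective_iff_map_eq_zero]
    intro t ht
    obtain ⟨a', rfl⟩ := Groth.Agent.Helper4.Milnor.exists_one_tmul A' hsq t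
    rw [hφ1] at ht
    obtain ⟨j, hj1, hj2⟩ := Groth.Agent.Helper4.Milnor.exists_ker hsq a' ht
    have : a' = j • (1 : A') := by rw [Algebra.smul_def, mul_one, hj2]
    rw [this, ← TensorProduct.smul_tmul, Algebra.smul_def, hj1, zero_mul, TensorProduct.zero_tmul]
  · intro a
    obtain ⟨a', rfl⟩ := hsq.1 a
    exact ⟨(1 : B) ⊗ₜ[B'] a', hφ1 a'⟩

end Groth.Agent.S14955
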