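import Groth.Statements.S14959
import Mathlib
import Groth.Agent.Lib.Lead.CIU6
import Groth.Agent.Lib.Lead.PBQc
import Groth.Agent.Lib.Lead.PinchAlg
import Groth.Agent.Lib.Helper1.CohACC
import Groth.Agent.Lib.Helper1.QcAbel
import Groth.Agent.Lib.Helper8.ExtScal

set_option autoImplicit false
universe u
open AlgebraicGeometry CategoryTheory CategoryTheory.Limits
open Pinch

namespace Groth.Agent.S14959

section
open AlgebraicGeometry CategoryTheory CategoryTheory.Limits

open Scheme.Modules Groth.Agent.Helper1 Groth.Agent.Lead.CIU TensorProduct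

variable {X Y : Scheme.{u}}

/-- the sections of a zero pullback: the base-changed module of sections vanishes -/
theorem subsingleton_tensor_of_isZero_pullback (f : X ⟶ Y) (G : Y.Modules) [G.IsQuasicoherent]
    (hz : IsZero ((Scheme.Modules.pullback f).obj G)) {V : Y.Opens} (hV : IsAffineOpen V)
    {V' : X.Opens} (hV' : IsAffineOpen V') (hle : V' ≤ f ⁻¹ᵁ V) :
    letI := (f.appLE V V' hle).hom.toAlgebra
    Subsingleton (Γ(X, V') ⊗[Γ(Y, V)] Γ(G, V)) := by
  letI := (f.appLE V V' hle).hom.toAlgebra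
  have e := Groth.Agent.Lead.PB.restrictPullbackTildeIso f G hV hV' hle
  -- the restriction is zero
  have h1 : IsZero (((Scheme.Modules.pullback f).obj G).restrict hV'.fromSpec) := by
    apply CohACC.isZero_of_sections
    intro O s
    exact QcAbel.sections_eq_zero_of_isZero hz (hV'.fromSpec ''ᵁ O) s
  have h2 := h1.of_iso e.symm
  -- hence the module `P` with `tilde P = 0` is trivial
  have h3 : ∀ (P : ModuleCat.{u} Γ(X, V')), IsZero (tilde P) → Subsingleton P := by
    intro P hP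
    haveI : IsIso ((tilde.adjunction (R := Γ(X, V'))).unit.app P) := NatIso.isIso_app_of_isIso _ P
    have hinj := injective_of_isIso_moduleCat ((tilde.adjunction (R := Γ(X, V'))).unit.app P)
    constructor
    intro a b
    apply hinj
    have h0 : ∀ z : (moduleSpecΓFunctor.obj (tilde P) : ModuleCat.{u} Γ(X, V')), z = 0 :=
      fun z => QcAbel.sections_eq_zero_of_isZero hP ⊤ z
    rw [h0 (((tilde.adjunction (R := Γ(X, V'))).unit.app P) a),
      h0 (((tilde.adjunction (R := Γ(X, V'))).unit.app P) b)]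
  have h4 := h3 _ h2
  have h5 : Subsingleton (Γ(X, V') ⊗[Γ(Y, V)]
      (moduleSpecΓFunctor.obj (G.restrict hV.fromSpec) : ModuleCat.{u} Γ(Y, V))) :=
    @Equiv.subsingleton _ _ (Groth.Agent.Helper8.extScalEquiv (R := Γ(Y, V)) (S := Γ(X, V'))
      (moduleSpecΓFunctor.obj (G.restrict hV.fromSpec))).symm.toEquiv h4
  exact @Equiv.subsingleton _ _ (TensorProduct.congr (LinearEquiv.refl Γ(Y, V) Γ(X, V'))
    (Groth.Agent.Lead.FLF.sectionsLinearEquiv hV G)).symm.toEquiv h5

theorem main {X X' Y Y' : Scheme.{u}} (f : X ⟶ Y) (u : Y' ⟶ Y) (w : X' ⟶ X) (g : X' ⟶ Y')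
    (hP : IsPullback w g f u) [IsAffineHom f] [IsClosedImmersion u]
    (hM : ∀ V ∈ Y.affineOpens,
      RingHom.ker (f.app V).hom ⊓ RingHom.ker (u.app V).hom = ⊥ ∧
      ∀ a ∈ Ideal.map (f.app V).hom (RingHom.ker (u.app V).hom),
        ∃ i ∈ RingHom.ker (u.app V).hom, (f.app V).hom i = a)
    (G : Y.Modules) [G.IsQuasicoherent]
    (h1 : IsZero ((Scheme.Modules.pullback u).obj G))
    (h2 : IsZero ((Scheme.Modules.pullback f).obj G)) :
    IsZero G := by
  refine CohACC.isZero_of_affine_cover G (fun V : Y.affineOpens => V.1) (fun V => V.2) ?_ ?_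
  · rw [eq_top_iff]
    intro y _
    obtain ⟨_, ⟨V, hV, rfl⟩, hyV, -⟩ :=
      Y.isBasis_affineOpens.exists_subset_of_mem_open (Set.mem_univ y) isOpen_univ
    exact TopologicalSpace.Opens.mem_iSup.2 ⟨⟨V, hV⟩, hyV⟩
  · rintro ⟨V, hV⟩ s
    have hV' : IsAffineOpen (f ⁻¹ᵁ V) := hV.preimage f
    letI := (f.appLE V (f ⁻¹ᵁ V) le_rfl).hom.toAlgebra
    have hsub := subsingleton_tensor_of_isZero_pullback f G h2 hV hV' le_rfl
    have hI : ∀ m : Γ(G, V), m ∈ (RingHom.ker (u.app V).hom) •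
        (⊤ : Submodule Γ(Y, V) Γ(G, V)) := by
      intro m
      apply mem_smul_top_of_unit_app_eq_zero G u hV m
      exact QcAbel.sections_eq_zero_of_isZero h1 (u ⁻¹ᵁ V) _
    obtain ⟨hm1, hm2⟩ := hM V hV
    have halg : algebraMap Γ(Y, V) Γ(X, f ⁻¹ᵁ V) = (f.app V).hom := by
      show (f.appLE V (f ⁻¹ᵁ V) le_rfl).hom = (f.app V).hom
      rw [← Scheme.Hom.app_eq_appLE]
    haveI := Groth.Agent.Lead.PinchAlg.subsingleton_of_pinch (A := Γ(Y, V))
      (B := Γ(X, f ⁻¹ᵁ V)) (M := Γ(G, V)) (RingHom.ker (u.app V).hom)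
      (by rw [halg]; exact hm1) (by rw [halg]; exact hm2) hI hsub
    exact Subsingleton.elim _ _


end


/-- Let w : X' → X, g : X' → Y', f : X → Y, u : Y' → Y be a cartesian square of schemes with f affine
and u a closed immersion which is a pinching square: for every affine open V of Y, with I(V) the
kernel of Γ(V, O_Y) → Γ(u⁻¹V, O_Y'), the kernel of Γ(V, O_Y) → Γ(f⁻¹V, O_X) meets I(V) in 0 and the
ideal generated by the image of I(V) in Γ(f⁻¹V, O_X) consists of images of elements of I(V)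
(equivalently Γ(V, O_Y) is the fibre product of Γ(u⁻¹V, O_Y') and Γ(f⁻¹V, O_X) over Γ(h⁻¹V, O_X'),
i.e. O_Y = u_*O_Y' ×_{h_*O_X'} f_*O_X). If G is a quasi-coherent O_Y-module whose pullbacks u*G and
f*G are zero, then G = 0. -/
theorem result {X X' Y Y' : Scheme.{u}} (f : X ⟶ Y) (u : Y' ⟶ Y) (w : X' ⟶ X) (g : X' ⟶ Y')
    (hP : IsPullback w g f u) [IsAffineHom f] [IsClosedImmersion u]
    (hM : ∀ V ∈ Y.affineOpens,
      RingHom.ker (f.app V).hom ⊓ RingHom.ker (u.app V).hom = ⊥ ∧
      ∀ a ∈ Ideal.map (f.app V).hom (RingHom.ker (u.app V).hom),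
        ∃ i ∈ RingHom.ker (u.app V).hom, (f.app V).hom i = a)
    (G : Y.Modules) [G.IsQuasicoherent]
    (h1 : IsZero ((Scheme.Modules.pullback u).obj G)) (h2 : IsZero ((Scheme.Modules.pullback f).obj G)) :
    IsZero G := by
  classical
  exact main f u w g hP hM G h1 h2

end Groth.Agent.S14959
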