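import Groth.Statements.S1496
import Mathlib
import Groth.Agent.Lib.Helper1.VA6
import Groth.Agent.Lib.Helper1.CompAmple

set_option autoImplicit false
universe u
attribute [local instance] HasDerivedCategory.standard
open FlatMor

namespace Groth.Agent.S1496

open AlgebraicGeometry CategoryTheory Limits in
/-- Let S be a scheme carrying an ample invertible sheaf and f : X → S a morphism. Then f is a closed
immersion into some projective space over S (f factors as a closed immersion X → Pⁿ_S followed by
the projection Pⁿ_S → S, for some n) if and only if f is proper and X carries an ample invertible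
sheaf; and the latter holds if and only if f is proper and some O_X-module is ample relative to f. -/
theorem result {X S : Scheme.{u}} (hS : ∃ N : S.Modules, CohB1.IsAmple N) (f : X ⟶ S) :
    ((∃ (n : ℕ) (i : X ⟶ CohB1.ProjSpaceOver n S), IsClosedImmersion i ∧ i ≫ pullback.snd (CohB1.ProjSpace.toSpec n (ULift.{u} ℤ)) (specULiftZIsTerminal.from S) = f) ↔
      (IsProper f ∧ ∃ L : X.Modules, CohB1.IsAmple L)) ∧
    ((IsProper f ∧ ∃ L : X.Modules, CohB1.IsAmple L) ↔ (IsProper f ∧ ∃ L : X.Modules, RelAmple.IsRelAmple f L)) := by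
  obtain ⟨N, hN⟩ := hS
  have hcS : CompactSpace S := hN.2.1
  -- basic facts on projective space over `S`
  have hbase : ∀ n : ℕ, IsProper (CohB1.ProjSpaceOver.toBase n S) := by
    intro n
    have h0 : IsProper (CohB1.ProjSpace.toSpec n (ULift.{u} ℤ)) :=
      Groth.Agent.Helper1.VA5.isProper_toSpec n _
    have : IsProper (pullback.snd (CohB1.ProjSpace.toSpec n (ULift.{u} ℤ))
      (specULiftZIsTerminal.from S)) := inferInstance
    exact this
  -- relatively ample gives ample
  have hrel : ∀ (L : X.Modules), QuasiCompact f → RelAmple.IsRelAmple f L →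
      ∃ L' : X.Modules, CohB1.IsAmple L' := by
    intro L hqc hL
    obtain ⟨n₀, -, hn₀⟩ := Groth.Agent.Helper1.CompAmple.isAmple_tensor_pullback_pow f hN hL
    exact ⟨_, hn₀ n₀ le_rfl⟩
  -- ample gives relatively ample
  have hamp : ∀ (L : X.Modules), QuasiCompact f → CohB1.IsAmple L → RelAmple.IsRelAmple f L := by
    intro L hqc hL
    refine ⟨hqc, fun V => ?_⟩
    exact Groth.Agent.Helper1.AmpleLib.isAmple_restrict_of_isCompact hL _
      (f.isCompact_preimage V.2.isCompact)
  refine ⟨⟨?_, ?_⟩, ⟨?_, ?_⟩⟩
  · rintro ⟨n, i, hi, hif⟩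
    have hif' : i ≫ CohB1.ProjSpaceOver.toBase n S = f := hif
    have := hbase n
    subst hif'
    refine ⟨inferInstance, ?_⟩
    have hqc : QuasiCompact (i ≫ CohB1.ProjSpaceOver.toBase n S) := inferInstance
    have h1 := Groth.Agent.Helper1.PullAmple.isRelAmple_pullback_of_isEmbedding i
      (CohB1.ProjSpaceOver.toBase n S) i.isEmbedding
      (Groth.Agent.Helper1.VA5.isRelAmple_twistOver n S)
    exact hrel _ hqc h1
  · rintro ⟨hprop, L, hL⟩
    obtain ⟨n₀, hn₀⟩ := Groth.Agent.Helper1.VA4.exists_veryAmple_powers' f hL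
    obtain ⟨n, i, hi, hif, -⟩ := hn₀ n₀ le_rfl
    refine ⟨n, i, ?_, hif⟩
    have hif' : i ≫ CohB1.ProjSpaceOver.toBase n S = f := hif
    have := hbase n
    subst hif'
    have hsep : IsSeparated (CohB1.ProjSpaceOver.toBase n S) := inferInstance
    have : IsProper i := IsProper.of_comp i (CohB1.ProjSpaceOver.toBase n S)
    exact IsClosedImmersion.of_isPreimmersion i i.isClosedMap.isClosed_range
  · rintro ⟨hprop, L, hL⟩
    exact ⟨hprop, L, hamp L inferInstance hL⟩
  · rintro ⟨hprop, L, hL⟩
    exact ⟨hprop, hrel L inferInstance hL⟩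

end Groth.Agent.S1496
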