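import Groth.Statements.S14962
import Mathlib
import Groth.Agent.Lib.Lead.CIU6
import Groth.Agent.Lib.Lead.PBQc
import Groth.Agent.Lib.Lead.PinchFin
import Groth.Agent.Lib.Helper1.AffFin
import Groth.Agent.Lib.Helper8.ExtScal

set_option autoImplicit false
universe u
open AlgebraicGeometry CategoryTheory CategoryTheory.Limits
open Pinch

namespace Groth.Agent.S14962

section
open AlgebraicGeometry CategoryTheory CategoryTheory.Limits

open Scheme.Modules Groth.Agent.Helper1 Groth.Agent.Lead.CIU TensorProduct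

variable {X Y : Scheme.{u}}

/-- the sections of a finite type pullback: the base-changed module of sections is finite -/
theorem finite_tensor_of_isFT_pullback (f : X ⟶ Y) (G : Y.Modules) [G.IsQuasicoherent]
    (hft : CohB1.IsFT ((Scheme.Modules.pullback f).obj G)) {V : Y.Opens} (hV : IsAffineOpen V)
    {V' : X.Opens} (hV' : IsAffineOpen V') (hle : V' ≤ f ⁻¹ᵁ V) :
    letI := (f.appLE V V' hle).hom.toAlgebra
    Module.Finite Γ(X, V') (Γ(X, V') ⊗[Γ(Y, V)] Γ(G, V)) := by
  letI := (f.appLE V V' hle).hom.toAlgebra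
  have e := Groth.Agent.Lead.PB.restrictPullbackTildeIso f G hV hV' hle
  haveI hq : ((Scheme.Modules.pullback f).obj G).IsQuasicoherent :=
    Groth.Agent.Lead.PB.isQuasicoherent_pullback f G
  have hfin : Module.Finite Γ(X, V')
      Γ(((Scheme.Modules.pullback f).obj G).restrict hV'.fromSpec, ⊤) :=
    AffFin.finite_restrict _ hq hft hV'.fromSpec
  set P : ModuleCat.{u} Γ(X, V') := (ModuleCat.extendScalars (f.appLE V V' hle).hom).obj
    (moduleSpecΓFunctor.obj (G.restrict hV.fromSpec)) with hP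
  have e1 := ((moduleSpecΓFunctor (R := Γ(X, V'))).mapIso e).toLinearEquiv
  haveI : IsIso ((tilde.adjunction (R := Γ(X, V'))).unit.app P) := NatIso.isIso_app_of_isIso _ P
  have e2 := (asIso ((tilde.adjunction (R := Γ(X, V'))).unit.app P)).toLinearEquiv
  have h1 : Module.Finite Γ(X, V') P := by
    haveI : Module.Finite Γ(X, V') (moduleSpecΓFunctor.obj
      (((Scheme.Modules.pullback f).obj G).restrict hV'.fromSpec) : ModuleCat.{u} Γ(X, V')) := hfin
    exact Module.Finite.equiv (e1.trans e2.symm)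
  have h2 : Module.Finite Γ(X, V') (Γ(X, V') ⊗[Γ(Y, V)]
      (moduleSpecΓFunctor.obj (G.restrict hV.fromSpec) : ModuleCat.{u} Γ(Y, V))) :=
    (Module.Finite.equiv_iff
      (Groth.Agent.Helper8.extScalEquiv (R := Γ(Y, V)) (S := Γ(X, V'))
        (moduleSpecΓFunctor.obj (G.restrict hV.fromSpec)))).1 h1
  exact (Module.Finite.equiv_iff
    (TensorProduct.AlgebraTensorModule.congr (LinearEquiv.refl Γ(X, V') Γ(X, V'))
      (Groth.Agent.Lead.FLF.sectionsLinearEquiv hV G))).1 h2

theorem finite_quot_of_finite_tensor {A B' M : Type*} [CommRing A] [CommRing B'] [Algebra A B']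
    [AddCommGroup M] [Module A M]
    (hs : Function.Surjective (algebraMap A B')) (h : Module.Finite B' (B' ⊗[A] M)) :
    Module.Finite A (M ⧸ (RingHom.ker (algebraMap A B')) • (⊤ : Submodule A M)) := by
  haveI : Module.Finite A B' := Module.Finite.of_surjective (Algebra.linearMap A B') hs
  haveI : Module.Finite A (B' ⊗[A] M) := Module.Finite.trans B' _
  have hf : Function.Surjective (Algebra.ofId A B') := hs
  have hker : RingHom.ker (Algebra.ofId A B') = RingHom.ker (algebraMap A B') := by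
    ext a; rfl
  let e1 : (A ⧸ RingHom.ker (Algebra.ofId A B')) ≃ₗ[A] B' :=
    (Ideal.quotientKerAlgEquivOfSurjective hf).toLinearEquiv
  let e2 := TensorProduct.quotTensorEquivQuotSMul M (RingHom.ker (Algebra.ofId A B'))
  let e3 : B' ⊗[A] M ≃ₗ[A] (A ⧸ RingHom.ker (Algebra.ofId A B')) ⊗[A] M :=
    TensorProduct.congr e1.symm (LinearEquiv.refl A M)
  rw [← hker]
  exact Module.Finite.equiv (e3.trans e2)

theorem main {X X' Y Y' : Scheme.{u}} (f : X ⟶ Y) (u : Y' ⟶ Y) (w : X' ⟶ X) (g : X' ⟶ Y')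
    (hP : IsPullback w g f u) [IsAffineHom f] [IsClosedImmersion u]
    (hM : ∀ V ∈ Y.affineOpens,
      RingHom.ker (f.app V).hom ⊓ RingHom.ker (u.app V).hom = ⊥ ∧
      ∀ a ∈ Ideal.map (f.app V).hom (RingHom.ker (u.app V).hom),
        ∃ i ∈ RingHom.ker (u.app V).hom, (f.app V).hom i = a)
    (G : Y.Modules) [G.IsQuasicoherent] :
    SheafOfModules.IsFiniteType G ↔
      SheafOfModules.IsFiniteType ((Scheme.Modules.pullback u).obj G) ∧
        SheafOfModules.IsFiniteType ((Scheme.Modules.pullback f).obj G) := by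
  constructor
  · intro h
    exact ⟨Groth.Agent.Lead.PB.isFT_pullback u G h, Groth.Agent.Lead.PB.isFT_pullback f G h⟩
  · rintro ⟨hu, hf⟩
    apply Groth.Agent.Lead.FLF.isFT_of_ft_sections
    intro V hV
    have hfin1 := finite_tensor_of_isFT_pullback u G hu hV (hV.preimage u) le_rfl
    have hfin2 := finite_tensor_of_isFT_pullback f G hf hV (hV.preimage f) le_rfl
    obtain ⟨hm1, hm2⟩ := hM V hV
    letI algB : Algebra Γ(Y, V) Γ(X, f ⁻¹ᵁ V) := (f.appLE V (f ⁻¹ᵁ V) le_rfl).hom.toAlgebra
    letI algB' : Algebra Γ(Y, V) Γ(Y', u ⁻¹ᵁ V) := (u.appLE V (u ⁻¹ᵁ V) le_rfl).hom.toAlgebra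
    have halg : algebraMap Γ(Y, V) Γ(X, f ⁻¹ᵁ V) = (f.app V).hom := by
      show (f.appLE V (f ⁻¹ᵁ V) le_rfl).hom = (f.app V).hom
      rw [← Scheme.Hom.app_eq_appLE]
    have halg' : algebraMap Γ(Y, V) Γ(Y', u ⁻¹ᵁ V) = (u.app V).hom := by
      show (u.appLE V (u ⁻¹ᵁ V) le_rfl).hom = (u.app V).hom
      rw [← Scheme.Hom.app_eq_appLE]
    have hsurj : Function.Surjective (algebraMap Γ(Y, V) Γ(Y', u ⁻¹ᵁ V)) := by
      rw [halg']; exact u.app_surjective V hV
    have hQ := finite_quot_of_finite_tensor (M := Γ(G, V)) hsurj hfin1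
    rw [halg'] at hQ
    exact Groth.Agent.Lead.PinchAlg.finite_of_pinch (A := Γ(Y, V)) (B := Γ(X, f ⁻¹ᵁ V))
      (M := Γ(G, V)) (RingHom.ker (u.app V).hom)
      (by rw [halg]; exact hm1) (by rw [halg]; exact hm2) hQ hfin2


end


/-- Let w : X' → X, g : X' → Y', f : X → Y, u : Y' → Y be a cartesian square of schemes with f affine
and u a closed immersion which is a pinching square: for every affine open V of Y, with I(V) the
kernel of Γ(V, O_Y) → Γ(u⁻¹V, O_Y'), the kernel of Γ(V, O_Y) → Γ(f⁻¹V, O_X) meets I(V) in 0 and the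
ideal generated by the image of I(V) in Γ(f⁻¹V, O_X) consists of images of elements of I(V)
(equivalently Γ(V, O_Y) is the fibre product of Γ(u⁻¹V, O_Y') and Γ(f⁻¹V, O_X) over Γ(h⁻¹V, O_X'),
i.e. O_Y = u_*O_Y' ×_{h_*O_X'} f_*O_X). A quasi-coherent O_Y-module G is of finite type if and only
if u*G and f*G are of finite type. (The published clause is for flat modules of finite type;
flatness descends separately and the finiteness part does not use it.) -/
theorem result {X X' Y Y' : Scheme.{u}} (f : X ⟶ Y) (u : Y' ⟶ Y) (w : X' ⟶ X) (g : X' ⟶ Y')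
    (hP : IsPullback w g f u) [IsAffineHom f] [IsClosedImmersion u]
    (hM : ∀ V ∈ Y.affineOpens,
      RingHom.ker (f.app V).hom ⊓ RingHom.ker (u.app V).hom = ⊥ ∧
      ∀ a ∈ Ideal.map (f.app V).hom (RingHom.ker (u.app V).hom),
        ∃ i ∈ RingHom.ker (u.app V).hom, (f.app V).hom i = a)
    (G : Y.Modules) [G.IsQuasicoherent] :
    SheafOfModules.IsFiniteType G ↔
      SheafOfModules.IsFiniteType ((Scheme.Modules.pullback u).obj G) ∧
        SheafOfModules.IsFiniteType ((Scheme.Modules.pullback f).obj G) := by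
  classical
  exact main f u w g hP hM G

end Groth.Agent.S14962
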