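import Groth.Statements.S14963
import Mathlib

set_option autoImplicit false
universe u v w
open TensorProduct
open Brauer

namespace Groth.Agent.S14963

open TensorProduct

namespace H14963

section A
variable (R : Type u) [CommRing R] (S : Type v) [CommRing S] [Algebra R S]
  (hS : Function.Surjective (PrimeSpectrum.comap (algebraMap R S)))

include hS in
theorem lemmaA (C : Type w) [AddCommGroup C] [Module R C] [Module.Finite R C]
    (h0 : Subsingleton (S ⊗[R] C)) : Subsingleton C := by
  by_contra hne
  rw [not_subsingleton_iff_nontrivial] at hne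
  obtain ⟨p, hp⟩ := Module.nonempty_support_of_nontrivial (R := R) (M := C)
  rw [Module.mem_support_iff_nontrivial_residueField_tensorProduct] at hp
  have hT : Nontrivial (p.asIdeal.ResidueField ⊗[R] S) :=
    (PrimeSpectrum.nontrivial_iff_mem_rangeComap p).mpr (hS p)
  have hinj : Function.Injective
      (Algebra.linearMap p.asIdeal.ResidueField (p.asIdeal.ResidueField ⊗[R] S)) :=
    (algebraMap p.asIdeal.ResidueField (p.asIdeal.ResidueField ⊗[R] S)).injective
  have hnt := TensorProduct.nontrivial_of_linearMap_injective_of_flat_right p.asIdeal.ResidueField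
    (p.asIdeal.ResidueField ⊗[R] S) (p.asIdeal.ResidueField ⊗[R] C) _ hinj
  have e := AlgebraTensorModule.distribBaseChange R p.asIdeal.ResidueField S C
  have hsub : Subsingleton (p.asIdeal.ResidueField ⊗[R] (S ⊗[R] C)) := by
    constructor
    intro x y
    have h0' : ∀ z : p.asIdeal.ResidueField ⊗[R] (S ⊗[R] C), z = 0 := by
      intro z
      induction z with
      | zero => rfl
      | tmul a b => rw [Subsingleton.elim b 0, tmul_zero]
      | add a b ha hb => rw [ha, hb, add_zero]
    rw [h0' x, h0' y]
  have := e.symm.injective.subsingleton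
  exact not_subsingleton _ this

end A
end H14963

namespace H14963
section B
variable (R : Type u) [CommRing R] (S : Type v) [CommRing S] [Algebra R S]
  (hS : Function.Surjective (PrimeSpectrum.comap (algebraMap R S)))

include hS in
theorem surj_descent {P Q : Type w} [AddCommGroup P] [Module R P] [AddCommGroup Q] [Module R Q]
    [Module.Finite R Q] (μ : P →ₗ[R] Q)
    (h : Function.Surjective (AlgebraTensorModule.lTensor S S μ)) : Function.Surjective μ := by
  rw [← LinearMap.range_eq_top, ← Submodule.Quotient.subsingleton_iff]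
  apply lemmaA R S hS
  constructor
  have h0' : ∀ z : S ⊗[R] (Q ⧸ LinearMap.range μ), z = 0 := by
    intro z
    obtain ⟨y, rfl⟩ := LinearMap.lTensor_surjective S (LinearMap.range μ).mkQ_surjective z
    obtain ⟨x, rfl⟩ := h y
    rw [AlgebraTensorModule.coe_lTensor, ← LinearMap.comp_apply, ← LinearMap.lTensor_comp]
    have : (LinearMap.range μ).mkQ ∘ₗ μ = 0 := by
      ext x; simp
    rw [this, LinearMap.lTensor_zero, LinearMap.zero_apply]
  intro x y
  rw [h0' x, h0' y]

include hS in
theorem bij_descent {P Q : Type w} [AddCommGroup P] [Module R P] [AddCommGroup Q] [Module R Q]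
    [Module.Finite R P] [Module.Finite R Q] [Module.Projective R Q] (μ : P →ₗ[R] Q)
    (h : Function.Bijective (AlgebraTensorModule.lTensor S S μ)) : Function.Bijective μ := by
  have hsurj := surj_descent R S hS μ h.2
  refine ⟨?_, hsurj⟩
  obtain ⟨σ, hσ⟩ := Module.projective_lifting_property μ LinearMap.id hsurj
  -- π : P → ker μ
  let π : P →ₗ[R] LinearMap.ker μ := LinearMap.codRestrict _ (LinearMap.id - σ ∘ₗ μ) (by
    intro x
    have := LinearMap.congr_fun hσ (μ x)
    simp only [LinearMap.comp_apply, LinearMap.id_apply] at this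
    simp [this])
  have hπι : π ∘ₗ (LinearMap.ker μ).subtype = LinearMap.id := by
    ext x
    simp [π]
  have hfin : Module.Finite R (LinearMap.ker μ) := by
    refine Module.Finite.of_surjective π ?_
    intro x
    exact ⟨x.1, LinearMap.congr_fun hπι x⟩
  have hsub : Subsingleton (LinearMap.ker μ) := by
    apply lemmaA R S hS
    constructor
    have h0' : ∀ z : S ⊗[R] (LinearMap.ker μ), z = 0 := by
      intro z
      have h1 : (LinearMap.lTensor S μ) ((LinearMap.lTensor S (LinearMap.ker μ).subtype) z) = 0 := by
        rw [← LinearMap.comp_apply, ← LinearMap.lTensor_comp]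
        have : μ ∘ₗ (LinearMap.ker μ).subtype = 0 := by
          ext x; simp
        rw [this, LinearMap.lTensor_zero, LinearMap.zero_apply]
      have h2 : (LinearMap.lTensor S (LinearMap.ker μ).subtype) z = 0 := by
        apply h.1
        rw [AlgebraTensorModule.coe_lTensor, h1, map_zero]
      have h3 : (LinearMap.lTensor S π) ((LinearMap.lTensor S (LinearMap.ker μ).subtype) z) = z := by
        rw [← LinearMap.comp_apply, ← LinearMap.lTensor_comp, hπι, LinearMap.lTensor_id,
          LinearMap.id_apply]
      rw [← h3, h2, map_zero]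
    intro x y
    rw [h0' x, h0' y]
  rw [← LinearMap.ker_eq_bot]
  exact (Submodule.subsingleton_iff_eq_bot).mp hsub

end B
end H14963

namespace H14963
section C
variable (R : Type u) [CommRing R] (S : Type v) [CommRing S] [Algebra R S]
  (B : Type w) [Ring B] [Algebra R B]

noncomputable def alpha : S ⊗[R] (B ⊗[R] Bᵐᵒᵖ) ≃ₗ[S] (S ⊗[R] B) ⊗[S] (S ⊗[R] B)ᵐᵒᵖ :=
  (AlgebraTensorModule.distribBaseChange R S B Bᵐᵒᵖ) ≪≫ₗ
   AlgebraTensorModule.congr (LinearEquiv.refl S _)
    (((MulOpposite.opLinearEquiv R).symm.baseChange R S _ _) ≪≫ₗ MulOpposite.opLinearEquiv S)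

theorem alpha_tmul (s : S) (b : B) (c : Bᵐᵒᵖ) :
    alpha R S B (s ⊗ₜ (b ⊗ₜ c)) = (s ⊗ₜ b) ⊗ₜ MulOpposite.op (1 ⊗ₜ c.unop) := by
  simp [alpha]

/-- the comparison map `S ⊗ End_R B → End_S (S ⊗ B)` -/
noncomputable def beta : S ⊗[R] (B →ₗ[R] B) →ₗ[S] (S ⊗[R] B →ₗ[S] S ⊗[R] B) :=
  LinearMap.liftBaseChange S (LinearMap.baseChangeHom R S B B)

theorem beta_bij [Module.Finite R B] [Module.Projective R B] :
    Function.Bijective (beta R S B) := by
  have h : ⇑(beta R S B) = ⇑(LinearMap.liftBaseChangeEquiv S (R := R) (M := B) (N := S ⊗[R] B)) ∘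
      ⇑(lTensorHomEquivHomLTensor R B S B) := by
    ext x : 1
    induction x with
    | zero => simp
    | add a b ha hb => simp only [map_add, Function.comp_apply] at ha hb ⊢; rw [ha, hb]
    | tmul s f =>
      apply TensorProduct.AlgebraTensorModule.curry_injective
      ext t
      simp [beta, TensorProduct.smul_tmul']
  rw [h]
  exact (LinearEquiv.bijective _).comp (LinearEquiv.bijective _)

end C
end H14963

namespace H14963
section D
variable (R : Type u) [CommRing R] (S : Type v) [CommRing S] [Algebra R S]
  (B : Type w) [Ring B] [Algebra R B]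

theorem square :
    (AlgHom.mulLeftRight S (S ⊗[R] B)).toLinearMap ∘ₗ (alpha R S B).toLinearMap =
    (beta R S B) ∘ₗ
      (AlgebraTensorModule.lTensor S S (AlgHom.mulLeftRight R B).toLinearMap) := by
  apply TensorProduct.AlgebraTensorModule.curry_injective
  apply LinearMap.ext; intro s
  apply TensorProduct.ext'
  intro b c
  apply TensorProduct.AlgebraTensorModule.curry_injective
  apply LinearMap.ext; intro t
  apply LinearMap.ext; intro x
  simp [alpha_tmul, beta, TensorProduct.smul_tmul']

end D
end H14963

namespace H14963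
section E
variable (R : Type u) [CommRing R] (S : Type v) [CommRing S] [Algebra R S]
  (hS : Function.Surjective (PrimeSpectrum.comap (algebraMap R S)))
  (B : Type w) [Ring B] [Algebra R B]

include hS in
theorem ann_nilpotent [FaithfulSMul S (S ⊗[R] B)] (a : R) (ha : ∀ b : B, a • b = 0) :
    IsNilpotent a := by
  have h1 : algebraMap R S a = 0 := by
    apply FaithfulSMul.algebraMap_injective S (S ⊗[R] B)
    rw [map_zero, Algebra.TensorProduct.algebraMap_apply, Algebra.algebraMap_self,
      RingHom.id_apply]
    have : (algebraMap R S a) ⊗ₜ[R] (1 : B) = (1 : S) ⊗ₜ[R] (a • (1 : B)) := by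
      rw [Algebra.algebraMap_eq_smul_one, TensorProduct.smul_tmul]
    rw [this, ha, tmul_zero]
  rw [nilpotent_iff_mem_prime]
  intro J hJ
  obtain ⟨q, hq⟩ := hS ⟨J, hJ⟩
  have : J = q.asIdeal.comap (algebraMap R S) := by
    rw [← PrimeSpectrum.comap_asIdeal, hq]
  rw [this, Ideal.mem_comap, h1]
  exact zero_mem _

include hS in
theorem faithful [Module.Finite R B] [Module.Projective R B] [FaithfulSMul S (S ⊗[R] B)] :
    FaithfulSMul R B := by
  rw [faithfulSMul_iff_algebraMap_injective, injective_iff_map_eq_zero]
  intro r hr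
  have hrb : ∀ b : B, r • b = 0 := by
    intro b
    rw [Algebra.smul_def, hr, zero_mul]
  let τ : Ideal R := Ideal.span (Set.range (fun (p : (B →ₗ[R] R) × B) => p.1 p.2))
  have hrτ : ∀ t ∈ τ, r * t = 0 := by
    intro t ht
    induction ht using Submodule.span_induction with
    | mem x hx =>
      obtain ⟨⟨f, b⟩, rfl⟩ := hx
      change r * f b = 0
      rw [← smul_eq_mul, ← map_smul, hrb, map_zero]
    | zero => simp
    | add x y _ _ hx hy => rw [mul_add, hx, hy, add_zero]
    | smul c x _ hx => rw [smul_eq_mul, mul_left_comm, hx, mul_zero]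
  have hle : (⊤ : Submodule R B) ≤ τ • ⊤ := by
    intro b _
    obtain ⟨s, hs⟩ := (Module.projective_def' (R := R) (P := B)).mp inferInstance
    have hb : b = Finsupp.linearCombination R id (s b) := by
      have := LinearMap.congr_fun hs b
      simpa using this.symm
    rw [hb, Finsupp.linearCombination_apply]
    refine Submodule.sum_mem _ ?_
    intro x _
    refine Submodule.smul_mem_smul ?_ Submodule.mem_top
    apply Ideal.subset_span
    exact ⟨(Finsupp.lapply x ∘ₗ s, b), rfl⟩
  obtain ⟨a, ha1, ha2⟩ := Submodule.exists_sub_one_mem_and_smul_eq_zero_of_fg_of_le_smul τ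
    (⊤ : Submodule R B) Module.Finite.fg_top hle
  have hanil : IsNilpotent a := ann_nilpotent R S hS B a (fun b => ha2 b Submodule.mem_top)
  have hunit : IsUnit (a - 1) := by
    have h1 := hanil.isUnit_one_sub
    have h2 : a - 1 = -(1 - a) := by ring
    rw [h2]
    exact h1.neg
  have htop : τ = ⊤ := Ideal.eq_top_of_isUnit_mem _ ha1 hunit
  have := hrτ 1 (htop ▸ Submodule.mem_top)
  simpa using this

end E
end H14963

namespace H14963
theorem main (R : Type u) [CommRing R]
    (S : Type v) [CommRing S] [Algebra R S]
    (hS : Function.Surjective (PrimeSpectrum.comap (algebraMap R S)))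
    (B : Type w) [Ring B] [Algebra R B] [Module.Finite R B] [Module.Projective R B]
    [IsAzumaya S (S ⊗[R] B)] : IsAzumaya R B := by
  have hfaith : FaithfulSMul R B := faithful R S hS B
  refine { bij := ?_ }
  have hbij : Function.Bijective (AlgHom.mulLeftRight S (S ⊗[R] B)) := IsAzumaya.bij
  have hsq := square R S B
  have h2 : Function.Bijective
      (AlgebraTensorModule.lTensor S S (AlgHom.mulLeftRight R B).toLinearMap) := by
    have h3 : Function.Bijective
        ((beta R S B) ∘ₗ
      (AlgebraTensorModule.lTensor S S (AlgHom.mulLeftRight R B).toLinearMap)) := by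
      rw [← hsq]
      exact hbij.comp (alpha R S B).bijective
    rw [LinearMap.coe_comp] at h3
    exact (Function.Bijective.of_comp_iff' (beta_bij R S B) _).mp h3
  have hfinop : Module.Finite R Bᵐᵒᵖ := Module.Finite.equiv (MulOpposite.opLinearEquiv R)
  have hfinE : Module.Finite R (B →ₗ[R] B) := Module.Finite.equiv (dualTensorHomEquiv R B B)
  have hprojE : Module.Projective R (B →ₗ[R] B) :=
    Module.Projective.of_equiv (dualTensorHomEquiv R B B)
  exact bij_descent R S hS (AlgHom.mulLeftRight R B).toLinearMap h2
end H14963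

/-- Let R → S be a ring homomorphism with Spec S → Spec R surjective and B an R-algebra which is
finitely generated and projective as an R-module. If S ⊗_R B is an Azumaya S-algebra, then B is an
Azumaya R-algebra. (The published statement is for a surjective morphism of schemes X → Y and a
finite locally free O_Y-algebra; this row is the case of affine X and Y. The converse direction,
base change, is omitted.) -/
theorem result (R : Type u) [CommRing R]
    (S : Type v) [CommRing S] [Algebra R S]
    (hS : Function.Surjective (PrimeSpectrum.comap (algebraMap R S)))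
    (B : Type w) [Ring B] [Algebra R B] [Module.Finite R B] [Module.Projective R B]
    [IsAzumaya S (S ⊗[R] B)] : IsAzumaya R B := by
  exact H14963.main R S hS B

end Groth.Agent.S14963
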