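import Groth.Statements.S14966
import Mathlib

set_option autoImplicit false
universe u
open EtAlg

namespace Groth.Agent.S14966

/-- Let A → A' be an injective homomorphism of commutative rings and let I ⊆ A be the conductor, i.e.
the annihilator of the A-module A'/A. Then the conductor square formed by A → A/I, A → A', A/I →
A'/IA' and A' → A'/IA' is a fibre product square of rings with A' → A'/IA' surjective: A = A/I
×_{A'/IA'} A'. (The published Lemma is for the conductor square of a finite modification of schemes;
this row is the underlying statement for one injective ring map, which needs no finiteness.) -/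
theorem result (A A' : Type u) [CommRing A] [CommRing A'] [Algebra A A']
    (hinj : Function.Injective (algebraMap A A')) :
    EtMil.IsFibreSquare A (A ⧸ Module.annihilator A (A' ⧸ LinearMap.range (Algebra.linearMap A A'))) A'
      (A' ⧸ Ideal.map (algebraMap A A') (Module.annihilator A (A' ⧸ LinearMap.range (Algebra.linearMap A A')))) := by
  set I := Module.annihilator A (A' ⧸ LinearMap.range (Algebra.linearMap A A')) with hI
  -- membership in the conductor
  have hmemI : ∀ a : A, a ∈ I ↔ ∀ x : A', ∃ c : A, algebraMap A A' c = algebraMap A A' a * x := by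
    intro a
    rw [hI, Module.mem_annihilator]
    constructor
    · intro h x
      have h1 := h (Submodule.Quotient.mk x)
      rw [← Submodule.Quotient.mk_smul, Submodule.Quotient.mk_eq_zero] at h1
      obtain ⟨c, hc⟩ := h1
      refine ⟨c, ?_⟩
      rw [Algebra.smul_def] at hc
      exact hc
    · intro h m
      obtain ⟨x, rfl⟩ := Submodule.Quotient.mk_surjective _ m
      rw [← Submodule.Quotient.mk_smul, Submodule.Quotient.mk_eq_zero]
      obtain ⟨c, hc⟩ := h x
      refine ⟨c, ?_⟩
      rw [Algebra.smul_def]
      exact hc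
  -- the extended ideal is the image of the conductor
  have hmap : ∀ y ∈ Ideal.map (algebraMap A A') I, ∃ i ∈ I, algebraMap A A' i = y := by
    intro y hy
    refine Submodule.span_induction ?_ ?_ ?_ ?_ hy
    · rintro _ ⟨i, hi, rfl⟩
      exact ⟨i, hi, rfl⟩
    · exact ⟨0, I.zero_mem, map_zero _⟩
    · rintro x y _ _ ⟨i, hi, rfl⟩ ⟨i', hi', rfl⟩
      exact ⟨i + i', I.add_mem hi hi', map_add _ _ _⟩
    · rintro a x _ ⟨i, hi, rfl⟩
      obtain ⟨c, hc⟩ := (hmemI i).mp hi a
      refine ⟨c, ?_, ?_⟩
      · rw [hmemI]
        intro x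
        obtain ⟨c', hc'⟩ := (hmemI i).mp hi (a * x)
        refine ⟨c', ?_⟩
        rw [hc', hc]; ring
      · rw [hc, smul_eq_mul]; ring
  refine ⟨Ideal.Quotient.mk_surjective, ?_⟩
  intro b a' hba
  obtain ⟨a, rfl⟩ := Ideal.Quotient.mk_surjective b
  rw [Ideal.Quotient.algebraMap_quotient_map_quotient] at hba
  change Ideal.Quotient.mk _ (algebraMap A A' a) = Ideal.Quotient.mk _ a' at hba
  rw [Ideal.Quotient.eq] at hba
  obtain ⟨i, hi, hia⟩ := hmap _ hba
  refine ⟨a - i, ⟨?_, ?_⟩, ?_⟩
  · change Ideal.Quotient.mk I (a - i) = Ideal.Quotient.mk I a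
    rw [Ideal.Quotient.eq]
    simpa using I.neg_mem hi
  · rw [map_sub, hia]; ring
  · rintro y ⟨_, hy2⟩
    apply hinj
    rw [hy2, map_sub, hia]; ring

end Groth.Agent.S14966
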