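import Groth.Statements.S14967
import Mathlib

set_option autoImplicit false
universe u v w
open TensorProduct
open Brauer

namespace Groth.Agent.S14967

open TensorProduct

namespace H14967

section desc
variable (R : Type u) [CommRing R] (S : Type v) [CommRing S] [Algebra R S]
  [Module.FaithfullyFlat R S]

theorem fp_descent (M : Type w) [AddCommGroup M] [Module R M]
    [Module.FinitePresentation S (S ⊗[R] M)] : Module.FinitePresentation R M := by
  have : Module.Finite R M := Module.Finite.of_finite_tensorProduct_of_faithfullyFlat S
  obtain ⟨n, f, hf⟩ := Module.Finite.exists_fin' R M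
  refine Module.finitePresentation_of_surjective f hf ?_
  rw [← Module.Finite.iff_fg]
  have hsurj : Function.Surjective (AlgebraTensorModule.lTensor S S f) :=
    LinearMap.lTensor_surjective S hf
  have hfg : (LinearMap.ker (AlgebraTensorModule.lTensor S S f)).FG :=
    Module.FinitePresentation.fg_ker _ hsurj
  have : Module.Finite S (S ⊗[R] LinearMap.ker f) := by
    rw [Module.Finite.equiv_iff (LinearMap.tensorKerEquiv S S f), Module.Finite.iff_fg]
    exact hfg
  exact Module.Finite.of_finite_tensorProduct_of_faithfullyFlat S

end desc

end H14967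

namespace H14967
section main
variable (R : Type u) [CommRing R] (S : Type v) [CommRing S] [Algebra R S]
  (B : Type w) [Ring B] [Algebra R B]

noncomputable def alpha : S ⊗[R] (B ⊗[R] Bᵐᵒᵖ) ≃ₗ[S] (S ⊗[R] B) ⊗[S] (S ⊗[R] B)ᵐᵒᵖ :=
  (AlgebraTensorModule.distribBaseChange R S B Bᵐᵒᵖ) ≪≫ₗ
   AlgebraTensorModule.congr (LinearEquiv.refl S _)
    (((MulOpposite.opLinearEquiv R).symm.baseChange R S _ _) ≪≫ₗ MulOpposite.opLinearEquiv S)

theorem alpha_tmul (s : S) (b : B) (c : Bᵐᵒᵖ) :
    alpha R S B (s ⊗ₜ (b ⊗ₜ c)) = (s ⊗ₜ b) ⊗ₜ MulOpposite.op (1 ⊗ₜ c.unop) := by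
  simp [alpha]

end main
end H14967

namespace H14967
section main2
variable (R : Type u) [CommRing R] (S : Type v) [CommRing S] [Algebra R S]
  (B : Type w) [Ring B] [Algebra R B]

theorem square [Module.Flat R S] [Module.FinitePresentation R B] :
    (AlgHom.mulLeftRight S (S ⊗[R] B)).toLinearMap ∘ₗ (alpha R S B).toLinearMap =
    (Module.FinitePresentation.isBaseChange_map R B B S).equiv.toLinearMap ∘ₗ
      (AlgebraTensorModule.lTensor S S (AlgHom.mulLeftRight R B).toLinearMap) := by
  apply TensorProduct.AlgebraTensorModule.curry_injective
  apply LinearMap.ext; intro s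
  apply TensorProduct.ext'
  intro b c
  apply TensorProduct.AlgebraTensorModule.curry_injective
  apply LinearMap.ext; intro t
  apply LinearMap.ext; intro x
  simp [alpha_tmul, IsBaseChange.equiv_tmul, TensorProduct.smul_tmul']

end main2
end H14967

namespace H14967
open Module in
theorem main (R : Type u) [CommRing R]
    (S : Type v) [CommRing S] [Algebra R S] [Module.FaithfullyFlat R S]
    (B : Type w) [Ring B] [Algebra R B] [IsAzumaya S (S ⊗[R] B)] : IsAzumaya R B := by
  have hfin : Module.Finite R B := Module.Finite.of_finite_tensorProduct_of_faithfullyFlat S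
  have hfpS : Module.FinitePresentation S (S ⊗[R] B) :=
    Module.finitePresentation_of_projective S _
  have hfp : Module.FinitePresentation R B := fp_descent R S B
  have hflat : Module.Flat R B := Module.Flat.of_flat_tensorProduct R B S
  have hproj : Module.Projective R B := Module.Flat.projective_of_finitePresentation
  have hfaith : FaithfulSMul R B := by
    rw [faithfulSMul_iff_algebraMap_injective]
    have hinj : Function.Injective (algebraMap S (S ⊗[R] B)) :=
      FaithfulSMul.algebraMap_injective S (S ⊗[R] B)
    have h1 : LinearMap.lTensor S (Algebra.linearMap R B) =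
        Algebra.linearMap S (S ⊗[R] B) ∘ₗ (AlgebraTensorModule.rid R S S).toLinearMap := by
      ext; simp
    apply (Module.FaithfullyFlat.lTensor_injective_iff_injective R S (Algebra.linearMap R B)).mp
    rw [h1]
    simpa using! hinj
  refine { bij := ?_ }
  have hbij : Function.Bijective (AlgHom.mulLeftRight S (S ⊗[R] B)) := IsAzumaya.bij
  have hsq := square R S B
  have h2 : Function.Bijective
      (AlgebraTensorModule.lTensor S S (AlgHom.mulLeftRight R B).toLinearMap) := by
    have h3 : Function.Bijective
        ((Module.FinitePresentation.isBaseChange_map R B B S).equiv.toLinearMap ∘ₗ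
      (AlgebraTensorModule.lTensor S S (AlgHom.mulLeftRight R B).toLinearMap)) := by
      rw [← hsq]
      exact hbij.comp (alpha R S B).bijective
    rw [LinearMap.coe_comp] at h3
    exact (Function.Bijective.of_comp_iff' (LinearEquiv.bijective _) _).mp h3
  constructor
  · apply (Module.FaithfullyFlat.lTensor_injective_iff_injective R S
      (AlgHom.mulLeftRight R B).toLinearMap).mp
    exact h2.1
  · apply (Module.FaithfullyFlat.lTensor_surjective_iff_surjective R S
      (AlgHom.mulLeftRight R B).toLinearMap).mp
    exact h2.2
end H14967

/-- Let R → S be a faithfully flat homomorphism of commutative rings and B an R-algebra, with no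
finiteness assumption. If S ⊗_R B is an Azumaya S-algebra then B is an Azumaya R-algebra. (The
published statement is for a flat surjective morphism of schemes X → Y and a quasi-coherent
O_Y-algebra; this row is the case of affine X and Y, where flat and surjective means faithfully
flat. The converse, base change, is omitted.) -/
theorem result (R : Type u) [CommRing R]
    (S : Type v) [CommRing S] [Algebra R S] [Module.FaithfullyFlat R S]
    (B : Type w) [Ring B] [Algebra R B] [IsAzumaya S (S ⊗[R] B)] : IsAzumaya R B := by
  exact H14967.main R S B

end Groth.Agent.S14967
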