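import Groth.Statements.S14973
import Mathlib

set_option autoImplicit false
universe u v
open Diff16

namespace Groth.Agent.S14973

section
variable {B : Type*} [CommRing B] {L : Type*} [Ring L] (f : B →+* L)

/-- iterated commutator filtration -/
def Gf : ℕ → Set L
  | 0 => {x | ∀ b : B, f b * x = x * f b}
  | (i + 1) => {x | ∀ b : B, f b * x - x * f b ∈ Gf i}

theorem Gf_left_mul (i : ℕ) : ∀ x ∈ Gf f i, ∀ u : B, f u * x ∈ Gf f i := by
  induction i with
  | zero =>
    intro x hx u b
    have hx' : ∀ b : B, f b * x = x * f b := hx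
    rw [← mul_assoc, ← map_mul, mul_comm b u, map_mul, mul_assoc, hx' b, mul_assoc]
  | succ i ih =>
    intro x hx u b
    have hx' : ∀ b : B, f b * x - x * f b ∈ Gf f i := hx
    have : f b * (f u * x) - f u * x * f b = f u * (f b * x - x * f b) := by
      rw [mul_sub, ← mul_assoc, ← mul_assoc, ← map_mul, ← map_mul, mul_comm b u, mul_assoc]
    rw [this]
    exact ih _ (hx' b) u

theorem F_le_Gf (F : ℕ → AddSubgroup L)
    (h0 : ∀ x ∈ F 0, ∀ b : B, f b * x = x * f b)
    (hS : ∀ (i : ℕ), ∀ x ∈ F (i + 1), ∀ b : B, f b * x - x * f b ∈ F i) (i : ℕ) :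
    ∀ x ∈ F i, x ∈ Gf f i := by
  induction i with
  | zero => exact fun x hx b => h0 x hx b
  | succ i ih => exact fun x hx b => ih _ (hS i x hx b)

/-- right multiplication: kernel -/
theorem Gf_ker (m : B) (i : ℕ) : ∀ y ∈ Gf f i, y * f m = 0 → f (m ^ (i + 1)) * y = 0 := by
  induction i with
  | zero =>
    intro y hy h
    have hy' : ∀ b : B, f b * y = y * f b := hy
    rw [zero_add, pow_one, hy', h]
  | succ i ih =>
    intro y hy h
    have hy' : ∀ b : B, f b * y - y * f b ∈ Gf f i := hy
    have h1 : f m * y - y * f m = f m * y := by rw [h, sub_zero]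
    have h2 : (f m * y - y * f m) * f m = 0 := by
      rw [sub_mul, mul_assoc, h, mul_zero, zero_mul, sub_zero]
    have h3 := ih _ (hy' m) h2
    rw [h1] at h3
    rw [pow_succ, map_mul, mul_assoc]
    exact h3

theorem Gf_ore (m : B) (i : ℕ) : ∀ y ∈ Gf f i, ∃ z : L, f (m ^ (i + 1)) * y = z * f m := by
  induction i with
  | zero =>
    intro y hy
    have hy' : ∀ b : B, f b * y = y * f b := hy
    exact ⟨y, by rw [zero_add, pow_one, hy']⟩
  | succ i ih =>
    intro y hy
    have hy' : ∀ b : B, f b * y - y * f b ∈ Gf f i := hy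
    obtain ⟨z, hz⟩ := ih _ (hy' m)
    refine ⟨f (m ^ (i + 1)) * y + z, ?_⟩
    rw [add_mul, ← hz, pow_succ, map_mul, mul_assoc, mul_assoc, ← mul_add]
    congr 1
    abel

theorem filt_result (F : ℕ → AddSubgroup L)
    (hex : ∀ x : L, ∃ i : ℕ, x ∈ F i)
    (h0 : ∀ x ∈ F 0, ∀ b : B, f b * x = x * f b)
    (hS : ∀ (i : ℕ), ∀ x ∈ F (i + 1), ∀ b : B, f b * x - x * f b ∈ F i)
    (M : Submonoid B) :
    (∀ (x : L) (m u : B), m ∈ M → u ∈ M → f u * x * f m = 0 → ∃ u' ∈ M, f u' * x = 0) ∧
    (∀ (x : L) (m : B), m ∈ M → ∃ e ∈ M, ∃ y : L, f e * x = y * f m) := by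
  constructor
  · intro x m u hm hu h
    obtain ⟨i, hi⟩ := hex x
    have hxG := F_le_Gf f F h0 hS i x hi
    have hy := Gf_left_mul f i x hxG u
    have := Gf_ker f m i _ hy h
    refine ⟨m ^ (i + 1) * u, M.mul_mem (M.pow_mem hm _) hu, ?_⟩
    rw [map_mul, mul_assoc]
    exact this
  · intro x m hm
    obtain ⟨i, hi⟩ := hex x
    have hxG := F_le_Gf f F h0 hS i x hi
    obtain ⟨z, hz⟩ := Gf_ore f m i x hxG
    exact ⟨m ^ (i + 1), M.pow_mem hm _, z, hz⟩
end

/-- In ring form. Let B be a commutative ring, L a ring with a ring homomorphism f from B, and L_0, L_1,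
L_2, … additive subgroups of L exhausting L such that for every b in B, f(b) commutes with every
element of L_0 and, for each i, the commutator f(b) x - x f(b) of f(b) with an element x of L_(i+1)
lies in L_i. Let M be a multiplicative subset of B. Then M acts invertibly on the right of the left
localisation of L at M (L viewed as a B-module through left multiplication): in elementwise terms,
(a) if x is in L and m, u are in M with f(u) x f(m) = 0, then f(u') x = 0 for some u' in M; (b) for
every x in L and m in M there are e in M and y in L with f(e) x = y f(m). (The published statement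
assumes a filtration satisfying all the axioms of a filtered ring of differential operators on an
affine scheme; this row assumes only an exhaustive family of additive subgroups on which commutators
with the image of B lower the index.) -/
theorem result
    {B : Type u} [CommRing B] {L : Type v} [Ring L] (f : B →+* L) (F : ℕ → AddSubgroup L)
    (hex : ∀ x : L, ∃ i : ℕ, x ∈ F i)
    (h0 : ∀ x ∈ F 0, ∀ b : B, f b * x = x * f b)
    (hS : ∀ (i : ℕ), ∀ x ∈ F (i + 1), ∀ b : B, f b * x - x * f b ∈ F i)
    (M : Submonoid B) :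
    (∀ (x : L) (m u : B), m ∈ M → u ∈ M → f u * x * f m = 0 → ∃ u' ∈ M, f u' * x = 0) ∧
    (∀ (x : L) (m : B), m ∈ M → ∃ e ∈ M, ∃ y : L, f e * x = y * f m) := by
  exact filt_result f F hex h0 hS M

end Groth.Agent.S14973
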