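import Groth.Statements.S14984
import Mathlib

set_option autoImplicit false
universe u v w
open HopfRep

namespace Groth.Agent.S14984

/-- Let `R` be a commutative ring, `A` a commutative Hopf algebra over `R`, flat as an `R`-module, `B` a
commutative `R`-algebra with a coaction of `A` that is an algebra map (an action of `G = Spec A` on
`X = Spec B`), and `C = B^A` the ring of invariants. If the action base-changed along `R → C` — the
`C`-Hopf algebra `C ⊗ A` coacting on `C ⊗ B` — is tame, i.e. there is a `C`-linear comodule map `β :
C ⊗ A → C ⊗ B` (regular coaction on the source, base-changed coaction on the target) with `β 1 = 1`,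
then the original action is tame: there is an `R`-linear comodule map `α : A → B` with `α 1 = 1`.
(The converse is the case `S = C` of stability of tameness under base change. The published lemma
also lists, as a third equivalent condition, tameness of the action of `C ⊗ A` on `B` itself over
`C`; that condition is not stated here.) -/
theorem result
    (R : Type u) (A : Type v) (B : Type w)
    [CommRing R] [CommRing A] [HopfAlgebra R A] [Module.Flat R A]
    [CommRing B] [Algebra R B] [HopfRep.Comod R A B] [GLin.IsCoactAlg R A B]
    (h : ∃ β : TensorProduct R ↥(GLin.invariants R A B) A →ₗ[↥(GLin.invariants R A B)]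
        TensorProduct R ↥(GLin.invariants R A B) B,
      @Hoch.IsComodHom ↥(GLin.invariants R A B) _ (TensorProduct R ↥(GLin.invariants R A B) A) _ _ _
        (TensorProduct R ↥(GLin.invariants R A B) A) _ _
        (HopfRep.Comod.regular ↥(GLin.invariants R A B) (TensorProduct R ↥(GLin.invariants R A B) A))
        (TensorProduct R ↥(GLin.invariants R A B) B) _ _
        (CoactBr.Comod.baseChange R ↥(GLin.invariants R A B) A B) β ∧ β 1 = 1) :
    ∃ α : A →ₗ[R] B, Hoch.IsComodHom A α ∧ α 1 = 1 := by
  obtain ⟨β, hβ, hβ1⟩ := h
  -- multiplication `C ⊗ B → B`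
  let m : TensorProduct R ↥(GLin.invariants R A B) B →ₗ[R] B :=
    TensorProduct.lift ((LinearMap.mul R B) ∘ₗ (GLin.invariants R A B).val.toLinearMap)
  have hm : ∀ (c : ↥(GLin.invariants R A B)) (b : B), m (c ⊗ₜ[R] b) = (c : B) * b := fun c b => by
    simp [m]
  let m₂ : TensorProduct ↥(GLin.invariants R A B) (TensorProduct R ↥(GLin.invariants R A B) B)
      (TensorProduct R ↥(GLin.invariants R A B) A) →ₗ[R] TensorProduct R B A :=
    m.rTensor A ∘ₗ ((TensorProduct.AlgebraTensorModule.cancelBaseChange R ↥(GLin.invariants R A B)
      ↥(GLin.invariants R A B) (TensorProduct R ↥(GLin.invariants R A B) B) A).restrictScalars R).toLinearMap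
  have hm₂ : ∀ (x : TensorProduct R ↥(GLin.invariants R A B) B) (c : ↥(GLin.invariants R A B)) (a : A),
      m₂ (x ⊗ₜ[↥(GLin.invariants R A B)] (c ⊗ₜ[R] a)) = m (c • x) ⊗ₜ[R] a := fun x c a => by
    simp [m₂]
  -- fact 1
  have fact1 : ∀ x : TensorProduct R ↥(GLin.invariants R A B) B,
      HopfRep.Comod.coact (k := R) (A := A) (m x) =
        m₂ ((CoactBr.Comod.baseChange R ↥(GLin.invariants R A B) A B).coact x) := by
    intro x
    induction x using TensorProduct.induction_on with
    | zero => simp
    | tmul c b =>
      rw [hm, GLin.IsCoactAlg.coact_mul (k := R) (A := A), CoactBr.baseChange_coact_tmul]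
      have hc : HopfRep.Comod.coact (k := R) (A := A) (c : B) = (c : B) ⊗ₜ[R] (1 : A) := c.2
      rw [hc]
      generalize HopfRep.Comod.coact (k := R) (A := A) b = t
      induction t using TensorProduct.induction_on with
      | zero => simp
      | tmul b₀ b₁ =>
        simp only [Algebra.TensorProduct.tmul_mul_tmul, one_mul,
          TensorProduct.AlgebraTensorModule.tensorTensorTensorComm_tmul, hm₂,
          TensorProduct.smul_tmul', smul_eq_mul, mul_one, hm]
      | add s t hs ht => simp only [mul_add, TensorProduct.tmul_add, map_add, hs, ht]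
    | add x y hx hy => simp only [map_add, hx, hy]
  refine ⟨m ∘ₗ β.restrictScalars R ∘ₗ TensorProduct.mk R ↥(GLin.invariants R A B) A 1, ?_, ?_⟩
  · unfold Hoch.IsComodHom at hβ ⊢
    ext a
    simp only [LinearMap.comp_apply, TensorProduct.mk_apply, LinearMap.coe_restrictScalars]
    rw [fact1]
    have h2 := LinearMap.congr_fun hβ ((1 : ↥(GLin.invariants R A B)) ⊗ₜ[R] a)
    simp only [LinearMap.comp_apply] at h2
    rw [h2]
    change m₂ (β.rTensor _ (Coalgebra.comul (R := ↥(GLin.invariants R A B))
      ((1 : ↥(GLin.invariants R A B)) ⊗ₜ[R] a))) = _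
    rw [TensorProduct.comul_tmul]
    change m₂ (β.rTensor _ (TensorProduct.AlgebraTensorModule.tensorTensorTensorComm R
      ↥(GLin.invariants R A B) R ↥(GLin.invariants R A B) ↥(GLin.invariants R A B)
      ↥(GLin.invariants R A B) A A
      (((1 : ↥(GLin.invariants R A B)) ⊗ₜ[↥(GLin.invariants R A B)] (1 : ↥(GLin.invariants R A B)))
        ⊗ₜ[R] Coalgebra.comul (R := R) a))) = _
    generalize Coalgebra.comul (R := R) a = t
    induction t using TensorProduct.induction_on with
    | zero => simp
    | tmul x y =>
      simp only [TensorProduct.AlgebraTensorModule.tensorTensorTensorComm_tmul,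
        LinearMap.rTensor_tmul, hm₂, one_smul, LinearMap.comp_apply, TensorProduct.mk_apply,
        LinearMap.coe_restrictScalars]
    | add s t hs ht => simp only [TensorProduct.tmul_add, map_add, hs, ht]
  · simp only [LinearMap.comp_apply, TensorProduct.mk_apply, LinearMap.coe_restrictScalars]
    rw [← Algebra.TensorProduct.one_def, hβ1, Algebra.TensorProduct.one_def, hm]
    simp

end Groth.Agent.S14984
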