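import Groth.Statements.S14994
import Mathlib
import Groth.Agent.Lib.Helper4.TF2
set_option linter.style.haveILetI false

set_option autoImplicit false
universe u
open CAlg

namespace Groth.Agent.S14994

/-- Let A be a Noetherian integrally closed domain, M a finitely generated torsion-free A-module, N a
submodule of M and ι : M → M** the canonical map to the double dual. Write N** → M** for the double
dual of the inclusion N → M. Then every m ∈ M whose image ι(m) lies in the image of N** is a torsion
element modulo N: some nonzero a ∈ A satisfies a·m ∈ N. In other words the preimage of N** under ι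
is contained in the saturation of N in M (the preimage of the torsion submodule of M/N), and the two
coincide when M/N is torsion-free. (The published statement asserts equality of the preimage with
the saturation for every N; for N = xA inside M = A = k[x] the saturation is all of M while N** has
image xA = N under the identification M** = M, so only the inclusion stated here holds, and it is
the inclusion later used, for saturated N, where the two sides agree.) -/
theorem result (A : Type u) [CommRing A] [IsDomain A]
    [IsNoetherianRing A] [IsIntegrallyClosed A]
    (M : Type u) [AddCommGroup M] [Module A M] [Module.Finite A M] [NoZeroSMulDivisors A M]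
    (N : Submodule A M) :
    (LinearMap.range N.subtype.dualMap.dualMap).comap (Module.Dual.eval A M) ≤
      (Submodule.torsion A (M ⧸ N)).comap N.mkQ := by
  intro m hm
  rw [Submodule.mem_comap] at hm ⊢
  obtain ⟨η, hη⟩ := hm
  let Q := M ⧸ N
  let T := Submodule.torsion A Q
  let π : M →ₗ[A] (Q ⧸ T) := T.mkQ ∘ₗ N.mkQ
  have hπN : ∀ n : N, π (n : M) = 0 := by
    intro n
    have : N.mkQ (n : M) = 0 := by
      rw [Submodule.mkQ_apply]
      exact (Submodule.Quotient.mk_eq_zero N).mpr n.2
    simp only [π, LinearMap.coe_comp, Function.comp_apply, this, map_zero]
  have hinj : Function.Injective (Module.Dual.eval A (Q ⧸ T)) :=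
    (Groth.Agent.Helper4.TF.eval_injective_iff A (Q ⧸ T)).mpr inferInstance
  have h0 : π m = 0 := by
    apply hinj
    rw [map_zero]
    ext ψ
    rw [Module.Dual.eval_apply, LinearMap.zero_apply]
    have h1 := LinearMap.congr_fun hη (ψ ∘ₗ π)
    rw [Module.Dual.eval_apply] at h1
    rw [← LinearMap.comp_apply, ← h1]
    simp only [LinearMap.dualMap_apply']
    have h2 : N.subtype.dualMap (ψ ∘ₗ π) = 0 := by
      ext n
      simp [hπN]
    rw [LinearMap.comp_apply, h2, map_zero]
  have h3 : N.mkQ m ∈ T := by
    rw [← Submodule.Quotient.mk_eq_zero T]
    exact h0
  exact h3

end Groth.Agent.S14994
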