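import Groth.Statements.S14997
import Mathlib

set_option autoImplicit false
open HilbPol

namespace Groth.Agent.S14997

namespace H14997

lemma lex_lt_of {ℓ : ℕ} (u v u' v' : Fin ℓ → ℚ)
    (H : ∀ j, (∀ i < j, u i = v i) → u' j - v' j = u j - v j)
    (h : toLex u < toLex v) : toLex u' < toLex v' := by
  obtain ⟨j, hj, hlt⟩ := h
  refine ⟨j, fun i hi => ?_, ?_⟩
  · have := H i (fun i' hi' => hj i' (hi'.trans hi))
    have h2 : u i = v i := hj i hi
    show u' i = v' i
    linarith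
  · have := H j (fun i hi => hj i hi)
    show u' j < v' j
    have h2 : u j < v j := hlt
    linarith

lemma lex_iff {ℓ : ℕ} (u v u' v' : Fin ℓ → ℚ)
    (H : ∀ j, (∀ i < j, u i = v i) → u' j - v' j = u j - v j) :
    toLex u ≤ toLex v ↔ toLex u' ≤ toLex v' := by
  have H' : ∀ j, (∀ i < j, v i = u i) → v' j - u' j = v j - u j := by
    intro j hj
    have := H j (fun i hi => (hj i hi).symm)
    linarith
  rcases lt_trichotomy (toLex u) (toLex v) with h | h | h
  · exact ⟨fun _ => (lex_lt_of u v u' v' H h).le, fun _ => h.le⟩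
  · have huv : u = v := toLex.injective h
    have : u' = v' := by
      funext j
      have := H j (fun i _ => by rw [huv])
      rw [huv] at this
      linarith
    rw [huv, this]
    exact ⟨fun _ => le_refl _, fun _ => le_refl _⟩
  · have h2 := lex_lt_of v u v' u' H' h
    exact ⟨fun h3 => absurd h3 (not_le.mpr h), fun h3 => absurd h3 (not_le.mpr h2)⟩

end H14997

namespace H14997
open Polynomial

lemma coeff_delta (P : ℚ[X]) (d : ℕ) (hP : P.natDegree = d) (a : ℚ) (n : ℕ) (hn : n < d) :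
    (P - P.comp (X - C a)).coeff n =
      -∑ m ∈ Finset.range (d - n), P.coeff (n + 1 + m) * ((-a) ^ (m + 1) * ((n + 1 + m).choose n : ℚ)) := by
  have h1 : (X - C a : ℚ[X]) = X + C (-a) := by rw [C_neg]; ring
  rw [h1, comp, eval₂_eq_sum_range, hP, coeff_sub, finsetSum_coeff]
  simp only [coeff_C_mul, coeff_X_add_C_pow]
  rw [Finset.range_eq_Ico, ← Finset.sum_Ico_consecutive _ (Nat.zero_le (n+1)) (by omega : n + 1 ≤ d + 1),
    Finset.sum_Ico_eq_sum_range _ (n+1) (d+1), ← Finset.range_eq_Ico, Finset.sum_range_succ]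
  have h2 : ∑ x ∈ Finset.range n, P.coeff x * ((-a) ^ (x - n) * (x.choose n : ℚ)) = 0 := by
    apply Finset.sum_eq_zero
    intro x hx
    rw [Finset.mem_range] at hx
    rw [Nat.choose_eq_zero_of_lt hx]
    simp
  rw [h2]
  have h3 : d + 1 - (n + 1) = d - n := by omega
  rw [h3]
  simp only [Nat.sub_self, pow_zero, Nat.choose_self, Nat.cast_one, mul_one, zero_add]
  have h4 : ∀ m, n + 1 + m - n = m + 1 := by intro m; omega
  simp only [h4]
  ring

end H14997

namespace H14997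
open Polynomial

/-- `α_i(R) = i! * coeff_i R`. -/
noncomputable def al (R : ℚ[X]) (i : ℕ) : ℚ := R.coeff i * (i.factorial : ℚ)

lemma al_delta (P : ℚ[X]) (d : ℕ) (hP : P.natDegree = d) (a : ℚ) (n : ℕ) (hn : n < d) :
    al (P - P.comp (X - C a)) n =
      -∑ m ∈ Finset.range (d - n), al P (n + 1 + m) * ((-a) ^ (m + 1) / ((m + 1).factorial : ℚ)) := by
  unfold al
  rw [coeff_delta P d hP a n hn, neg_mul, Finset.sum_mul]
  congr 1
  apply Finset.sum_congr rfl
  intro m _
  have h1 : ((n + 1 + m).choose n : ℚ) * (n.factorial : ℚ) * ((m + 1).factorial : ℚ)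
      = ((n + 1 + m).factorial : ℚ) := by
    have := Nat.add_choose_mul_factorial_mul_factorial (m + 1) n
    have h2 : m + 1 + n = n + 1 + m := by omega
    rw [h2] at this
    have h4 : (n + 1 + m).choose n * n.factorial * (m + 1).factorial = (n + 1 + m).factorial := by
      rw [← this]; ring
    exact_mod_cast h4
  have h3 : ((m + 1).factorial : ℚ) ≠ 0 := by positivity
  rw [← h1]
  field_simp

lemma al_delta_top (P : ℚ[X]) (d : ℕ) (hP : P.natDegree = d) (a : ℚ) (hd : 0 < d) :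
    al (P - P.comp (X - C a)) (d - 1) = a * al P d := by
  rw [al_delta P d hP a (d - 1) (by omega)]
  have : d - (d - 1) = 1 := by omega
  rw [this]
  have h2 : d - 1 + 1 + 0 = d := by omega
  simp [h2]
  ring

/-- normalized coefficient `s_P(t) = α_{d-t}(P)/α_d(P)` -/
noncomputable def sN (P : ℚ[X]) (d t : ℕ) : ℚ := al P (d - t) / al P d

lemma sN_zero (P : ℚ[X]) (d : ℕ) (hP : P.natDegree = d) (hP0 : P ≠ 0) : sN P d 0 = 1 := by
  unfold sN al
  have h1 : P.coeff d ≠ 0 := by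
    rw [← hP]
    exact leadingCoeff_ne_zero.mpr hP0
  have h2 : (d.factorial : ℚ) ≠ 0 := by positivity
  simp only [Nat.sub_zero]
  field_simp

lemma key_formula (P : ℚ[X]) (d : ℕ) (hP : P.natDegree = d) (hP0 : P ≠ 0) (a : ℚ) (ha : a ≠ 0)
    (j : ℕ) (hj : j + 2 ≤ d) :
    al (P - P.comp (X - C a)) (d - 1 - 1 - j) / al (P - P.comp (X - C a)) (d - 1) =
      ∑ m ∈ Finset.range (j + 2),
        (-((-a) ^ (m + 1) / ((m + 1).factorial : ℚ)) / a) * sN P d (j + 1 - m) := by
  rw [al_delta_top P d hP a (by omega), al_delta P d hP a (d - 1 - 1 - j) (by omega)]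
  have h1 : d - (d - 1 - 1 - j) = j + 2 := by omega
  rw [h1, neg_div, Finset.sum_div, ← Finset.sum_neg_distrib]
  apply Finset.sum_congr rfl
  intro m hm
  rw [Finset.mem_range] at hm
  unfold sN
  have h2 : d - 1 - 1 - j + 1 + m = d - (j + 1 - m) := by omega
  rw [h2]
  have h3 : al P d ≠ 0 := by
    unfold al
    have h1 : P.coeff d ≠ 0 := by
      rw [← hP]
      exact leadingCoeff_ne_zero.mpr hP0
    have h2 : (d.factorial : ℚ) ≠ 0 := by positivity
    exact mul_ne_zero h1 h2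
  field_simp

end H14997

namespace H14997
open Polynomial

theorem main (d ℓ : ℕ) (hℓ : ℓ + 1 ≤ d) (a : ℚ) (ha : a ≠ 0)
    (P Q : ℚ[X]) (hP : P.natDegree = d) (hQ : Q.natDegree = d) (hP0 : P ≠ 0) (hQ0 : Q ≠ 0) :
    toLex (fun j : Fin ℓ => ((P).coeff (d - 1 - (j : ℕ)) * (Nat.factorial (d - 1 - (j : ℕ)) : ℚ)) / ((P).coeff (d) * (Nat.factorial (d) : ℚ))) ≤ toLex (fun j : Fin ℓ => ((Q).coeff (d - 1 - (j : ℕ)) * (Nat.factorial (d - 1 - (j : ℕ)) : ℚ)) / ((Q).coeff (d) * (Nat.factorial (d) : ℚ))) ↔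
      toLex (fun j : Fin ℓ => ((P - P.comp (X - C a)).coeff ((d - 1) - 1 - (j : ℕ)) * (Nat.factorial ((d - 1) - 1 - (j : ℕ)) : ℚ)) / ((P - P.comp (X - C a)).coeff ((d - 1)) * (Nat.factorial ((d - 1)) : ℚ))) ≤
        toLex (fun j : Fin ℓ => ((Q - Q.comp (X - C a)).coeff ((d - 1) - 1 - (j : ℕ)) * (Nat.factorial ((d - 1) - 1 - (j : ℕ)) : ℚ)) / ((Q - Q.comp (X - C a)).coeff ((d - 1)) * (Nat.factorial ((d - 1)) : ℚ))) := by
  apply lex_iff
  intro j hj
  have hjd : (j : ℕ) + 2 ≤ d := by have := j.2; omega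
  have hu : ∀ (R : ℚ[X]) (i : Fin ℓ), (R.coeff (d - 1 - (i : ℕ)) * (Nat.factorial (d - 1 - (i : ℕ)) : ℚ)) /
      (R.coeff d * (Nat.factorial d : ℚ)) = sN R d ((i : ℕ) + 1) := by
    intro R i
    unfold sN al
    have : d - ((i : ℕ) + 1) = d - 1 - (i : ℕ) := by omega
    rw [this]
  have hu' : ∀ (R : ℚ[X]), ((R - R.comp (X - C a)).coeff ((d - 1) - 1 - (j : ℕ)) *
      (Nat.factorial ((d - 1) - 1 - (j : ℕ)) : ℚ)) /
      ((R - R.comp (X - C a)).coeff (d - 1) * (Nat.factorial (d - 1) : ℚ)) =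
      al (R - R.comp (X - C a)) (d - 1 - 1 - j) / al (R - R.comp (X - C a)) (d - 1) := by
    intro R
    rfl
  have heq : ∀ t, t ≤ (j : ℕ) → sN P d t = sN Q d t := by
    intro t ht
    rcases Nat.eq_zero_or_pos t with h0 | h0
    · rw [h0, sN_zero P d hP hP0, sN_zero Q d hQ hQ0]
    · have hlt : t - 1 < ℓ := by have := j.2; omega
      have h1 := hj ⟨t - 1, hlt⟩ (by
        rw [Fin.lt_def]
        show t - 1 < (j : ℕ)
        omega)
      have h3 := hu P ⟨t - 1, hlt⟩
      have h4 := hu Q ⟨t - 1, hlt⟩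
      simp only at h1 h3 h4
      rw [h3, h4] at h1
      have h2 : t - 1 + 1 = t := by omega
      simp only [h2] at h1
      exact h1
  have hpeel : ∀ R : ℚ[X], ∑ m ∈ Finset.range ((j : ℕ) + 2),
        (-((-a) ^ (m + 1) / ((m + 1).factorial : ℚ)) / a) * sN R d ((j : ℕ) + 1 - m) =
      ∑ m ∈ Finset.range ((j : ℕ) + 1),
        (-((-a) ^ (m + 1 + 1) / ((m + 1 + 1).factorial : ℚ)) / a) * sN R d ((j : ℕ) + 1 - (m + 1)) +
      (-((-a) ^ (0 + 1) / ((0 + 1).factorial : ℚ)) / a) * sN R d ((j : ℕ) + 1 - 0) := by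
    intro R
    rw [Finset.sum_range_succ']
  rw [hu' P, hu' Q, hu P, hu Q, key_formula P d hP hP0 a ha j hjd, key_formula Q d hQ hQ0 a ha j hjd,
    hpeel P, hpeel Q]
  have h1 : ∀ m ∈ Finset.range ((j : ℕ) + 1),
      (-((-a) ^ (m + 1 + 1) / ((m + 1 + 1).factorial : ℚ)) / a) * sN P d ((j : ℕ) + 1 - (m + 1)) =
      (-((-a) ^ (m + 1 + 1) / ((m + 1 + 1).factorial : ℚ)) / a) * sN Q d ((j : ℕ) + 1 - (m + 1)) := by
    intro m hm
    rw [Finset.mem_range] at hm
    rw [heq _ (by omega)]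
  rw [Finset.sum_congr rfl h1]
  simp only [zero_add, pow_one, Nat.factorial_one, Nat.cast_one, div_one, Nat.sub_zero, neg_neg]
  rw [div_self ha]
  ring

end H14997

open Polynomial in
/-- Let d and ℓ be natural numbers with ℓ + 1 ≤ d, let a be a nonzero rational number and let P, Q be
polynomials with rational coefficients, both of degree exactly d. For a polynomial R of degree e
write R(m) = Σ_i α_i(R) m^i / i! (so α_i(R) = i! · coeff_i(R)) and let r_ℓ(R) ∈ ℚ^ℓ be the vector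
(α_{e−1}(R)/α_e(R), …, α_{e−ℓ}(R)/α_e(R)) of the ℓ coefficients after the leading one of the reduced
polynomial R/α_e(R), ordered lexicographically. The polynomials P(m) − P(m − a) and Q(m) − Q(m − a)
have degree d − 1, and r_ℓ(P) ≤ r_ℓ(Q) lexicographically if and only if r_ℓ(P(m) − P(m − a)) ≤
r_ℓ(Q(m) − Q(m − a)) lexicographically (hence the same with strict inequalities, by exchanging P and
Q). When P and Q are the Hilbert polynomials of pure d-dimensional coherent sheaves E → F on a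
polarized projective scheme and D is a hypersurface section of degree a containing no associated
point of E or F, the Hilbert polynomials of E|_D and F|_D are P(m) − P(m − a) and Q(m) − Q(m − a),
and the two sides are the comparisons of the ℓ-truncated reduced Hilbert polynomials p_ℓ(E) ≥ p_ℓ(F)
and p_ℓ(E|_D) ≥ p_ℓ(F|_D). (The published statement is phrased for the sheaves; this row is the
statement about their Hilbert polynomials that the displayed coefficient formula yields.) -/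
theorem result (d ℓ : ℕ) (hℓ : ℓ + 1 ≤ d) (a : ℚ) (ha : a ≠ 0)
    (P Q : ℚ[X]) (hP : P.natDegree = d) (hQ : Q.natDegree = d) (hP0 : P ≠ 0) (hQ0 : Q ≠ 0) :
    toLex (fun j : Fin ℓ => ((P).coeff (d - 1 - (j : ℕ)) * (Nat.factorial (d - 1 - (j : ℕ)) : ℚ)) / ((P).coeff (d) * (Nat.factorial (d) : ℚ))) ≤ toLex (fun j : Fin ℓ => ((Q).coeff (d - 1 - (j : ℕ)) * (Nat.factorial (d - 1 - (j : ℕ)) : ℚ)) / ((Q).coeff (d) * (Nat.factorial (d) : ℚ))) ↔
      toLex (fun j : Fin ℓ => ((P - P.comp (X - C a)).coeff ((d - 1) - 1 - (j : ℕ)) * (Nat.factorial ((d - 1) - 1 - (j : ℕ)) : ℚ)) / ((P - P.comp (X - C a)).coeff ((d - 1)) * (Nat.factorial ((d - 1)) : ℚ))) ≤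
        toLex (fun j : Fin ℓ => ((Q - Q.comp (X - C a)).coeff ((d - 1) - 1 - (j : ℕ)) * (Nat.factorial ((d - 1) - 1 - (j : ℕ)) : ℚ)) / ((Q - Q.comp (X - C a)).coeff ((d - 1)) * (Nat.factorial ((d - 1)) : ℚ))) := by
  exact H14997.main d ℓ hℓ a ha P Q hP hQ hP0 hQ0

end Groth.Agent.S14997
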