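import Groth.Statements.S15004
import Mathlib
import Groth.Agent.Lib.Helper5.Incidence

set_option autoImplicit false
universe u v
open Harb

open Groth.Agent.Helper5.Incidence

namespace Groth.Agent.S15004

/-- Let C be a finite family of d curves, recorded as an incidence relation between a type of points and
a finite index type, such that any two distinct curves of the family meet in exactly h points; for a
point p write r_p for the number of curves of the family through p. Then for every curve C_i of the
family, Σ_{p ∈ C_i} (r_p − 1) = h (d − 1), the sum being finitely supported. (The published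
statement is for a transversal arrangement of curves on a geometrically ruled surface with invariant
e, all numerically equivalent to a C₀ + b f, where any two of the curves meet transversally in h =
2ab − a²e points; only this common pairwise intersection count enters the proof, and this row states
the identity for an abstract incidence relation.) -/
theorem result (P : Type u) (ι : Type v) [Fintype ι]
    (inc : P → ι → Prop) (h : ℕ)
    (hfin : ∀ i j : ι, i ≠ j → {p : P | inc p i ∧ inc p j}.Finite)
    (hcount : ∀ i j : ι, i ≠ j → {p : P | inc p i ∧ inc p j}.ncard = h) (i : ι) :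
    ∑ᶠ p ∈ {p : P | inc p i}, (Nat.card {j : ι // inc p j} - 1) = h * (Fintype.card ι - 1) := by
  classical
  have hUfin : (⋃ j ∈ ((Finset.univ.erase i : Finset ι) : Set ι),
      {p : P | inc p i ∧ inc p j}).Finite := by
    refine Set.Finite.biUnion (Finset.finite_toSet _) ?_
    intro j hj
    exact hfin i j (Finset.ne_of_mem_erase (Finset.mem_coe.mp hj)).symm
  have hkey : ∀ p, inc p i → Nat.card {j : ι // inc p j} - 1 =
      ∑ j ∈ Finset.univ.erase i, if inc p j then 1 else 0 := by
    intro p hp
    rw [card_eq, Finset.sum_boole, Finset.filter_erase,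
      Finset.card_erase_of_mem (by simp [hp])]
    simp
  have hT : ∀ p, p ∈ hUfin.toFinset ↔ inc p i ∧ ∃ j, j ≠ i ∧ inc p j := by
    intro p
    simp only [Set.Finite.mem_toFinset, Set.mem_iUnion, Finset.coe_erase, Finset.coe_univ,
      Set.mem_diff, Set.mem_univ, Set.mem_singleton_iff, true_and, Set.mem_setOf_eq, exists_prop]
    constructor
    · rintro ⟨j, hj, h1, h2⟩
      exact ⟨h1, j, hj, h2⟩
    · rintro ⟨h1, j, hj, h2⟩
      exact ⟨j, hj, h1, h2⟩
  rw [finsum_mem_eq_sum_of_inter_support_eq (t := hUfin.toFinset)]
  · rw [Finset.sum_congr rfl (fun p hp => hkey p ((hT p).mp hp).1), Finset.sum_comm]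
    have : ∀ j ∈ Finset.univ.erase i,
        ∑ p ∈ hUfin.toFinset, (if inc p j then 1 else 0) = h := by
      intro j hj
      have hji : j ≠ i := Finset.ne_of_mem_erase hj
      rw [Finset.sum_boole, ← hcount i j hji.symm,
        Set.ncard_eq_toFinset_card _ (hfin i j hji.symm)]
      simp only [Nat.cast_id]
      congr 1
      ext p
      simp only [Finset.mem_filter, hT, Set.Finite.mem_toFinset, Set.mem_setOf_eq]
      constructor
      · rintro ⟨⟨h1, _⟩, h2⟩
        exact ⟨h1, h2⟩
      · rintro ⟨h1, h2⟩
        exact ⟨⟨h1, j, hji, h2⟩, h2⟩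
    rw [Finset.sum_congr rfl this, Finset.sum_const, Finset.card_erase_of_mem (Finset.mem_univ _),
      Finset.card_univ, smul_eq_mul, mul_comm]
  · ext p
    simp only [Set.mem_inter_iff, Set.mem_setOf_eq, Function.mem_support, ne_eq, Finset.mem_coe, hT]
    constructor
    · rintro ⟨h1, h2⟩
      refine ⟨⟨h1, ?_⟩, h2⟩
      have h3 : 2 ≤ Nat.card {j : ι // inc p j} := by omega
      obtain ⟨a, b, hab, ha, hb⟩ := (two_le_iff inc p).mp h3
      by_cases hai : a = i
      · exact ⟨b, fun hbi => hab (hai.trans hbi.symm), hb⟩
      · exact ⟨a, hai, ha⟩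
    · rintro ⟨⟨h1, _⟩, h2⟩
      exact ⟨h1, h2⟩

end Groth.Agent.S15004
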