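import Groth.Statements.S15005
import Mathlib
import Groth.Agent.Lib.Helper5.Incidence

set_option autoImplicit false
universe u v
open Harb

open Groth.Agent.Helper5.Incidence

namespace Groth.Agent.S15005

/-- Let C be a finite family of d curves, recorded as an incidence relation between a type of points and
a finite index type, such that any two distinct curves of the family meet in exactly h points; let
t_k be the number of k-fold points (points lying on exactly k curves of the family). Then f₂ − f₁ =
Σ_{k ≥ 2} k(k − 1) t_k equals h d(d − 1), where f_i = Σ_{k ≥ 2} k^i t_k. (The published statement is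
for a transversal arrangement of curves on a geometrically ruled surface with invariant e, all
numerically equivalent to a C₀ + b f, where any two of the curves meet transversally in h = 2ab −
a²e points; only this common pairwise intersection count enters the proof, and this row states the
identity for an abstract incidence relation.) -/
theorem result (P : Type u) (ι : Type v) [Fintype ι]
    (inc : P → ι → Prop) (h : ℕ)
    (hfin : ∀ i j : ι, i ≠ j → {p : P | inc p i ∧ inc p j}.Finite)
    (hcount : ∀ i j : ι, i ≠ j → {p : P | inc p i ∧ inc p j}.ncard = h) :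
    ∑ k ∈ Finset.Icc 2 (Fintype.card ι), k * (k - 1) * Nat.card {p : P // Nat.card {j : ι // inc p j} = k} =
      h * (Fintype.card ι * (Fintype.card ι - 1)) := by
  classical
  have hmfin := mult_finite hfin
  have hT : ∀ p, p ∈ hmfin.toFinset ↔ 2 ≤ Nat.card {j : ι // inc p j} := fun p => by
    rw [Set.Finite.mem_toFinset]; rfl
  have hr_le : ∀ p, Nat.card {j : ι // inc p j} ≤ Fintype.card ι := by
    intro p; rw [card_eq]; exact Finset.card_le_univ _
  have step1 : ∀ k ∈ Finset.Icc 2 (Fintype.card ι),
      k * (k - 1) * Nat.card {p : P // Nat.card {j : ι // inc p j} = k} =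
      ∑ p ∈ hmfin.toFinset with Nat.card {j : ι // inc p j} = k, k * (k-1) := by
    intro k hk
    rw [Finset.sum_const, smul_eq_mul, mul_comm]
    congr 1
    apply Nat.subtype_card
    intro p
    rw [Finset.mem_filter, hT]
    constructor
    · exact fun h => h.2
    · intro h; exact ⟨by rw [h]; exact (Finset.mem_Icc.mp hk).1, h⟩
  rw [Finset.sum_congr rfl step1, Finset.sum_fiberwise_of_maps_to'
    (g := fun p => Nat.card {j : ι // inc p j}) (f := fun k => k * (k-1))]
  swap
  · intro p hp; exact Finset.mem_Icc.mpr ⟨(hT p).mp hp, hr_le p⟩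
  have step2 : ∀ p ∈ hmfin.toFinset,
      Nat.card {j : ι // inc p j} * (Nat.card {j : ι // inc p j} - 1) =
      ∑ x ∈ (Finset.univ : Finset ι).offDiag, if inc p x.1 ∧ inc p x.2 then 1 else 0 := by
    intro p _
    rw [card_eq, Finset.sum_boole, Nat.mul_sub_one, ← Finset.offDiag_card]
    simp only [Nat.cast_id]
    congr 1
    ext ⟨a, b⟩
    simp only [Finset.mem_offDiag, Finset.mem_filter, Finset.mem_univ, true_and]
    tauto
  rw [Finset.sum_congr rfl step2, Finset.sum_comm]
  have step3 : ∀ x ∈ (Finset.univ : Finset ι).offDiag,
      ∑ p ∈ hmfin.toFinset, (if inc p x.1 ∧ inc p x.2 then 1 else 0) = h := by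
    intro x hx
    have hx' : x.1 ≠ x.2 := (Finset.mem_offDiag.mp hx).2.2
    rw [Finset.sum_boole, ← hcount x.1 x.2 hx', Set.ncard_eq_toFinset_card _ (hfin x.1 x.2 hx')]
    simp only [Nat.cast_id]
    congr 1
    ext p
    simp only [Finset.mem_filter, hT, Set.Finite.mem_toFinset, Set.mem_setOf_eq]
    constructor
    · exact fun h => h.2
    · intro h; exact ⟨(two_le_iff inc p).mpr ⟨x.1, x.2, hx', h.1, h.2⟩, h⟩
  rw [Finset.sum_congr rfl step3, Finset.sum_const, Finset.offDiag_card, Finset.card_univ,
    smul_eq_mul, Nat.mul_sub_one, mul_comm]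

end Groth.Agent.S15005
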