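import Groth.Statements.S15006
import Mathlib
import Groth.Agent.Lib.Helper5.Incidence

set_option autoImplicit false
universe u v
open Harb

open Groth.Agent.Helper5.Incidence

namespace Groth.Agent.S15006

/-- Let C be a finite family of d ≥ 2 curves, recorded as an incidence relation between a type of points
and a finite index type, such that any two distinct curves of the family meet in exactly h ≥ 1
points and no point lies on every curve of the family. Then f₀ ≥ d: the number of multiple points
(points lying on at least two of the curves) is at least the number of curves. (The published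
statement is for a transversal arrangement of d ≥ 4 curves on a geometrically ruled surface with
invariant e ≥ 4, all numerically equivalent to a C₀ + b f with a ≥ 1 and b ≥ ae and with no point
common to all of them, satisfying in addition either a ≥ 2, or a = 1 with some four of the curves
having no point in common, where any two of the curves meet transversally in h = 2ab − a²e ≥ 1
points; only d ≥ 2, h ≥ 1 and the absence of a common point enter the proof, and this row states the
bound for an abstract incidence relation.) -/
theorem result (P : Type u) (ι : Type v) [Fintype ι]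
    (inc : P → ι → Prop) (h : ℕ) (hh : 0 < h) (hd : 2 ≤ Fintype.card ι)
    (hfin : ∀ i j : ι, i ≠ j → {p : P | inc p i ∧ inc p j}.Finite)
    (hcount : ∀ i j : ι, i ≠ j → {p : P | inc p i ∧ inc p j}.ncard = h)
    (hnone : ∀ p : P, ∃ i : ι, ¬ inc p i) :
    Fintype.card ι ≤ Nat.card {p : P // 2 ≤ Nat.card {j : ι // inc p j}} := by
  classical
  have hmfin := mult_finite hfin
  change Fintype.card ι ≤ Nat.card (mult inc)
  rw [Nat.card_eq_card_finite_toFinset hmfin]
  have hT : ∀ p, p ∈ hmfin.toFinset ↔ 2 ≤ Nat.card {j : ι // inc p j} := fun p => by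
    rw [Set.Finite.mem_toFinset]; rfl
  -- pairwise intersections inside T
  have hpair : ∀ a b : ι, a ≠ b →
      (hmfin.toFinset.filter (fun q => inc q a ∧ inc q b)).card = h := by
    intro a b hab
    rw [← hcount a b hab, Set.ncard_eq_toFinset_card _ (hfin a b hab)]
    congr 1
    ext p
    simp only [Finset.mem_filter, hT, Set.Finite.mem_toFinset, Set.mem_setOf_eq]
    constructor
    · exact fun h => h.2
    · intro h; exact ⟨(two_le_iff inc p).mpr ⟨a, b, hab, h.1, h.2⟩, h⟩
  -- each curve has more than h multiple points
  have hbig : ∀ a : ι, h < (hmfin.toFinset.filter (fun q => inc q a)).card := by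
    intro a
    by_contra hle
    push Not at hle
    have hall : ∀ k : ι, k ≠ a → ∀ q ∈ hmfin.toFinset, inc q a → inc q k := by
      intro k hk q hq hqa
      have hsub : hmfin.toFinset.filter (fun q => inc q a ∧ inc q k) ⊆
          hmfin.toFinset.filter (fun q => inc q a) := by
        intro x hx
        rw [Finset.mem_filter] at hx ⊢
        exact ⟨hx.1, hx.2.1⟩
      have heq := Finset.eq_of_subset_of_card_le hsub (by rw [hpair a k hk.symm]; exact hle)
      have : q ∈ hmfin.toFinset.filter (fun q => inc q a ∧ inc q k) := by
        rw [heq, Finset.mem_filter]; exact ⟨hq, hqa⟩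
      exact (Finset.mem_filter.mp this).2.2
    obtain ⟨b, hb⟩ := Fintype.exists_ne_of_one_lt_card (Nat.lt_of_succ_le hd) a
    have hne : {p : P | inc p a ∧ inc p b}.Nonempty := by
      rw [← Set.ncard_pos (hfin a b hb.symm), hcount a b hb.symm]; exact hh
    obtain ⟨q, hqa, hqb⟩ := hne
    have hqT : q ∈ hmfin.toFinset := (hT q).mpr ((two_le_iff inc q).mpr ⟨a, b, hb.symm, hqa, hqb⟩)
    obtain ⟨k, hk⟩ := hnone q
    by_cases hka : k = a
    · exact hk (hka ▸ hqa)
    · exact hk (hall k hka q hqT hqa)
  -- the incidence vectors
  let v : ι → (hmfin.toFinset → ℚ) := fun i p => if inc p.1 i then 1 else 0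
  suffices hli : LinearIndependent ℚ v by
    have := hli.fintype_card_le_finrank
    rwa [Module.finrank_fintype_fun_eq_card, Fintype.card_coe] at this
  have gram : ∀ a b : ι, ∑ p : hmfin.toFinset, v a p * v b p =
      (h : ℚ) + if a = b then (((hmfin.toFinset.filter (fun q => inc q a)).card : ℚ) - h) else 0 := by
    intro a b
    have e1 : ∑ p : hmfin.toFinset, v a p * v b p =
        ∑ q ∈ hmfin.toFinset, (if inc q a ∧ inc q b then (1 : ℚ) else 0) := by
      rw [← Finset.sum_coe_sort hmfin.toFinset (fun q => (if inc q a ∧ inc q b then (1 : ℚ) else 0))]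
      apply Finset.sum_congr rfl
      intro p _
      show (if inc p.1 a then (1:ℚ) else 0) * (if inc p.1 b then 1 else 0) = _
      split_ifs <;> simp_all
    rw [e1, Finset.sum_boole]
    split_ifs with hab
    · subst hab
      simp only [and_self]
      ring
    · rw [hpair a b hab]; simp
  rw [Fintype.linearIndependent_iff]
  intro c hc
  have E : ∀ j : ι, (h : ℚ) * (∑ i, c i) +
      c j * (((hmfin.toFinset.filter (fun q => inc q j)).card : ℚ) - h) = 0 := by
    intro j
    have h1 : ∀ p : hmfin.toFinset, (∑ i, c i * v i p) * v j p = 0 := by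
      intro p
      have := congrFun hc p
      simp only [Finset.sum_apply, Pi.smul_apply, smul_eq_mul, Pi.zero_apply] at this
      rw [this, zero_mul]
    have h2 : ∑ p : hmfin.toFinset, (∑ i, c i * v i p) * v j p = 0 :=
      Finset.sum_eq_zero (fun p _ => h1 p)
    have h3 : ∑ p : hmfin.toFinset, (∑ i, c i * v i p) * v j p =
        ∑ i, c i * ∑ p : hmfin.toFinset, v i p * v j p := by
      simp only [Finset.sum_mul, Finset.mul_sum]
      rw [Finset.sum_comm]
      apply Finset.sum_congr rfl
      intro i _
      apply Finset.sum_congr rfl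
      intro p _
      ring
    rw [h3] at h2
    simp only [gram, mul_add, Finset.sum_add_distrib, mul_ite, mul_zero, Finset.sum_ite_eq',
      Finset.mem_univ, if_true] at h2
    rw [← Finset.sum_mul] at h2
    linarith
  have hsum : (h : ℚ) * (∑ i, c i)^2 +
      ∑ j, c j ^ 2 * (((hmfin.toFinset.filter (fun q => inc q j)).card : ℚ) - h) = 0 := by
    have : ∑ j, c j * ((h : ℚ) * (∑ i, c i) +
        c j * (((hmfin.toFinset.filter (fun q => inc q j)).card : ℚ) - h)) = 0 :=
      Finset.sum_eq_zero (fun j _ => by rw [E j, mul_zero])
    rw [← this]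
    simp only [mul_add, Finset.sum_add_distrib]
    congr 1
    · rw [← Finset.sum_mul, pow_two]; ring
    · apply Finset.sum_congr rfl; intro j _; ring
  have hpos : ∀ j : ι, 0 < (((hmfin.toFinset.filter (fun q => inc q j)).card : ℚ) - h) := by
    intro j
    have := hbig j
    have : (h : ℚ) < ((hmfin.toFinset.filter (fun q => inc q j)).card : ℚ) := by exact_mod_cast this
    linarith
  have hnn : ∀ j ∈ (Finset.univ : Finset ι),
      0 ≤ c j ^ 2 * (((hmfin.toFinset.filter (fun q => inc q j)).card : ℚ) - h) :=
    fun j _ => mul_nonneg (sq_nonneg _) (hpos j).le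
  have hsum0 : ∑ j, c j ^ 2 * (((hmfin.toFinset.filter (fun q => inc q j)).card : ℚ) - h) = 0 := by
    have h1 := Finset.sum_nonneg hnn
    have h2 : 0 ≤ (h : ℚ) * (∑ i, c i)^2 := mul_nonneg (by positivity) (sq_nonneg _)
    linarith
  intro j
  have := (Finset.sum_eq_zero_iff_of_nonneg hnn).mp hsum0 j (Finset.mem_univ _)
  rcases mul_eq_zero.mp this with h1 | h1
  · exact pow_eq_zero_iff (two_ne_zero) |>.mp h1
  · exact absurd h1 (hpos j).ne'

end Groth.Agent.S15006
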