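import Groth.Statements.S15007
import Mathlib
import Groth.Agent.Lib.Helper5.Incidence

set_option autoImplicit false
universe u v
open Harb

open Groth.Agent.Helper5.Incidence

namespace Groth.Agent.S15007

/-- Let C be a finite family of d ≥ 2 curves, recorded as an incidence relation between a type of points
and a finite index type, such that any two distinct curves of the family meet in exactly h ≥ 1
points and no point lies on every curve of the family. Then f₀ ≥ h + 2: the number of multiple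
points (points lying on at least two of the curves) is at least h + 2. (The published claim reads f₀
≥ 2ab − a²e + 2 for a transversal arrangement of d ≥ 4 curves on a geometrically ruled surface with
invariant e ≥ 4, all numerically equivalent to a C₀ + b f with a ≥ 1 and b ≥ ae and with no point
common to all of them, satisfying in addition either a ≥ 2, or a = 1 with some four of the curves
having no point in common, where any two of the curves meet transversally in h = 2ab − a²e ≥ 1
points; only d ≥ 2, h ≥ 1 and the absence of a common point enter the proof, and this row states the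
bound for an abstract incidence relation.) -/
theorem result (P : Type u) (ι : Type v) [Fintype ι]
    (inc : P → ι → Prop) (h : ℕ) (hh : 0 < h) (hd : 2 ≤ Fintype.card ι)
    (hfin : ∀ i j : ι, i ≠ j → {p : P | inc p i ∧ inc p j}.Finite)
    (hcount : ∀ i j : ι, i ≠ j → {p : P | inc p i ∧ inc p j}.ncard = h)
    (hnone : ∀ p : P, ∃ i : ι, ¬ inc p i) :
    h + 2 ≤ Nat.card {p : P // 2 ≤ Nat.card {j : ι // inc p j}} := by
  classical
  have hmfin := mult_finite hfin
  change h + 2 ≤ Nat.card (mult inc)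
  rw [_root_.Nat.card_coe_set_eq]
  obtain ⟨i₁, i₂, h12⟩ := Fintype.one_lt_card_iff.mp (Nat.lt_of_succ_le hd)
  have hA := hcount i₁ i₂ h12
  have hAne : {p : P | inc p i₁ ∧ inc p i₂}.Nonempty := by
    rw [← Set.ncard_pos (hfin i₁ i₂ h12), hA]; exact hh
  obtain ⟨p, hp1, hp2⟩ := hAne
  obtain ⟨i₃, hp3⟩ := hnone p
  have h31 : i₃ ≠ i₁ := fun e => hp3 (e ▸ hp1)
  have h32 : i₃ ≠ i₂ := fun e => hp3 (e ▸ hp2)
  have hq1 : ∃ q, inc q i₃ ∧ inc q i₁ ∧ ¬ inc q i₂ := by
    by_contra hcon
    push Not at hcon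
    have hsub : {q : P | inc q i₃ ∧ inc q i₁} ⊆ {q : P | inc q i₁ ∧ inc q i₂} :=
      fun q hq => ⟨hq.2, hcon q hq.1 hq.2⟩
    have heq := Set.eq_of_subset_of_ncard_le hsub
      (by rw [hA, hcount i₃ i₁ h31]) (hfin i₁ i₂ h12)
    have : p ∈ {q : P | inc q i₃ ∧ inc q i₁} := by rw [heq]; exact ⟨hp1, hp2⟩
    exact hp3 this.1
  have hq2 : ∃ q, inc q i₃ ∧ inc q i₂ ∧ ¬ inc q i₁ := by
    by_contra hcon
    push Not at hcon
    have hsub : {q : P | inc q i₃ ∧ inc q i₂} ⊆ {q : P | inc q i₁ ∧ inc q i₂} :=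
      fun q hq => ⟨hcon q hq.1 hq.2, hq.2⟩
    have heq := Set.eq_of_subset_of_ncard_le hsub
      (by rw [hA, hcount i₃ i₂ h32]) (hfin i₁ i₂ h12)
    have : p ∈ {q : P | inc q i₃ ∧ inc q i₂} := by rw [heq]; exact ⟨hp1, hp2⟩
    exact hp3 this.1
  obtain ⟨q₁, hq13, hq11, hq12⟩ := hq1
  obtain ⟨q₂, hq23, hq22, hq21⟩ := hq2
  have hq1A : q₁ ∉ {p : P | inc p i₁ ∧ inc p i₂} := fun hx => hq12 hx.2
  have hq2A : q₂ ∉ insert q₁ {p : P | inc p i₁ ∧ inc p i₂} := by
    intro hx
    rcases Set.mem_insert_iff.mp hx with hx | hx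
    · exact hq21 (hx ▸ hq11)
    · exact hq21 hx.1
  have hcard : (insert q₂ (insert q₁ {p : P | inc p i₁ ∧ inc p i₂})).ncard = h + 2 := by
    rw [Set.ncard_insert_of_notMem hq2A ((hfin i₁ i₂ h12).insert _),
      Set.ncard_insert_of_notMem hq1A (hfin i₁ i₂ h12), hA]
  rw [← hcard]
  apply Set.ncard_le_ncard _ hmfin
  intro x hx
  rcases Set.mem_insert_iff.mp hx with hx | hx
  · exact (two_le_iff inc x).mpr ⟨i₃, i₂, h32, hx ▸ hq23, hx ▸ hq22⟩
  rcases Set.mem_insert_iff.mp hx with hx | hx
  · exact (two_le_iff inc x).mpr ⟨i₃, i₁, h31, hx ▸ hq13, hx ▸ hq11⟩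
  · exact (two_le_iff inc x).mpr ⟨i₁, i₂, h12, hx.1, hx.2⟩

end Groth.Agent.S15007
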