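import Groth.Statements.S15011
import Mathlib
import Groth.Agent.Lib.Helper9.SubQuotLen
import Groth.Agent.Lib.Helper9.SubQuotLen2
-- import your own Groth.Agent.* helpers here

set_option autoImplicit false
universe u
open TFCurv

namespace Groth.Agent.S15011

open Groth.Agent.Helper9.SubQuotLen
namespace Aux

section general
variable {O : Type u} [CommRing O] {M : Type u} [AddCommGroup M] [Module O M]

theorem sqLen_top' (A : Submodule O M) :
    sqLen A ⊤ = Module.length O (M ⧸ A) := by
  unfold sqLen
  refine (Submodule.Quotient.equiv (A.submoduleOf ⊤) A Submodule.topEquiv ?_).length_eq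
  ext x
  constructor
  · rintro ⟨y, hy, rfl⟩
    exact hy
  · intro hx
    exact ⟨⟨x, trivial⟩, hx, rfl⟩

/-- Herbrand-type lemma: for `F ⊆ M` of finite colength and `ξ` injective with `ξ F ⊆ F`,
`length (M / ξ M) = length (F / ξ F)`. -/
theorem herbrand (ξ : M →ₗ[O] M) (hinj : Function.Injective ξ) (F : Submodule O M)
    (hF : F.map ξ ≤ F) (hfin : sqLen F ⊤ ≠ ⊤) :
    sqLen (LinearMap.range ξ) ⊤ = sqLen (F.map ξ) F := by
  have h2 := sqLen_add (A := F.map ξ) (B := LinearMap.range ξ) (C := ⊤)
    (by rw [LinearMap.range_eq_map]; exact Submodule.map_mono le_top) le_top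
  have h3 : sqLen (F.map ξ) (LinearMap.range ξ) = sqLen F ⊤ := by
    rw [LinearMap.range_eq_map]
    exact sqLen_map ξ le_top (by
      rw [LinearMap.ker_eq_bot.mpr hinj]; exact le_trans inf_le_left bot_le)
  have h5 := sqLen_add hF (le_top : F ≤ ⊤)
  rw [h3, h5] at h2
  apply ENat.add_right_injective_of_ne_top hfin
  show _ + _ = _ + _
  rw [← h2, add_comm]

end general


section onedim
variable {O : Type u} [CommRing O] [IsDomain O] [IsNoetherianRing O]

theorem krullDimLE_one_of_eq (hdim : ringKrullDim O = 1) : Ring.KrullDimLE 1 O := by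
  rw [Ring.krullDimLE_iff, hdim]
  rfl

theorem isArtinianRing_quot [Ring.KrullDimLE 1 O] (a : O) (ha : a ≠ 0) :
    IsArtinianRing (O ⧸ Ideal.span {a}) := by
  rw [isArtinianRing_iff_isNoetherianRing_krullDimLE_zero]
  refine ⟨inferInstance, Ring.KrullDimLE.mk₀ ?_⟩
  intro I hI
  have h1 : (I.comap (Ideal.Quotient.mk (Ideal.span {a}))).IsPrime := Ideal.comap_isPrime _ _
  have h2 : I.comap (Ideal.Quotient.mk (Ideal.span {a})) ≠ ⊥ := by
    intro h
    have : a ∈ I.comap (Ideal.Quotient.mk (Ideal.span {a})) := by
      rw [Ideal.mem_comap]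
      have : Ideal.Quotient.mk (Ideal.span {a}) a = 0 :=
        Ideal.Quotient.eq_zero_iff_mem.mpr (Ideal.mem_span_singleton_self a)
      rw [this]
      exact zero_mem _
    rw [h] at this
    exact ha this
  have h3 := h1.isMaximal_of_ne_bot h2
  have h4 := Ideal.map_comap_of_surjective _ (Ideal.Quotient.mk_surjective (I := Ideal.span {a})) I
  rw [← h4]
  rcases Ideal.map_eq_top_or_isMaximal_of_surjective _
    (Ideal.Quotient.mk_surjective (I := Ideal.span {a})) h3 with h5 | h5
  · exfalso
    rw [h4] at h5
    exact hI.ne_top h5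
  · exact h5

/-- a finitely generated torsion module over a one-dimensional noetherian domain has finite
length -/
theorem length_ne_top_of_torsion [Ring.KrullDimLE 1 O] {T : Type u} [AddCommGroup T] [Module O T]
    [Module.Finite O T] (htors : ∀ t : T, ∃ a : O, a ≠ 0 ∧ a • t = 0) :
    Module.length O T ≠ ⊤ := by
  classical
  obtain ⟨S, hS⟩ := (Module.Finite.fg_top : (⊤ : Submodule O T).FG)
  choose f hf0 hf using htors
  set a : O := ∏ s ∈ S, f s with ha
  have ha0 : a ≠ 0 := Finset.prod_ne_zero_iff.mpr (fun s _ => hf0 s)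
  have hkill : ∀ t : T, a • t = 0 := by
    intro t
    have ht : t ∈ Submodule.span O (S : Set T) := by rw [hS]; trivial
    refine Submodule.span_induction ?_ ?_ ?_ ?_ ht
    · intro s hs
      obtain ⟨b, hb⟩ := Finset.dvd_prod_of_mem f hs
      rw [ha, hb, mul_comm, mul_smul, hf, smul_zero]
    · exact smul_zero _
    · intro x y _ _ hx hy
      rw [smul_add, hx, hy, add_zero]
    · intro c x _ hx
      rw [smul_comm, hx, smul_zero]
  have htb : Module.IsTorsionBy O T a := hkill
  letI := htb.module
  haveI := isArtinianRing_quot a ha0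
  haveI : Module.Finite (O ⧸ Ideal.span {a}) T := Module.Finite.of_restrictScalars_finite O _ T
  haveI : IsArtinian (O ⧸ Ideal.span {a}) T := isArtinian_of_fg_of_artinian' 
  haveI : IsArtinian O T :=
    isArtinian_of_surjective_algebraMap (R := O ⧸ Ideal.span {a}) Ideal.Quotient.mk_surjective
  exact Module.length_ne_top

end onedim

section rank
variable {O : Type u} [CommRing O] [IsDomain O] {K : Type u} [Field K] [Algebra O K]
  [IsFractionRing O K] {M : Type u} [AddCommGroup M] [Module O M]

open TensorProduct

theorem mk_injective [NoZeroSMulDivisors O M] :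
    Function.Injective (TensorProduct.mk O K M 1) := by
  rw [← LinearMap.ker_eq_bot, LinearMap.ker_eq_bot']
  intro m hm
  obtain ⟨c, hc⟩ := (IsLocalizedModule.eq_zero_iff (nonZeroDivisors O)
    (TensorProduct.mk O K M 1)).mp hm
  rcases smul_eq_zero.mp hc with h | h
  · exact absurd h (nonZeroDivisors.coe_ne_zero c)
  · exact h

theorem exists_free_sub [Module.Finite O M] [NoZeroSMulDivisors O M] (n : ℕ)
    (hn : Module.finrank K (K ⊗[O] M) = n) :
    ∃ φ : (Fin n → O) →ₗ[O] M, Function.Injective φ ∧
      ∀ m : M, ∃ a : O, a ≠ 0 ∧ a • m ∈ LinearMap.range φ := by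
  classical
  set ι : M →ₗ[O] K ⊗[O] M := TensorProduct.mk O K M 1 with hι
  have hιinj : Function.Injective ι := mk_injective
  have hspan : ⊤ ≤ Submodule.span K (Set.range ι) := by
    intro z hz
    clear hz
    induction z using TensorProduct.induction_on with
    | zero => exact zero_mem _
    | tmul c m =>
      have : c ⊗ₜ[O] m = c • ι m := by
        rw [hι, TensorProduct.mk_apply, TensorProduct.smul_tmul', smul_eq_mul, mul_one]
      rw [this]
      exact Submodule.smul_mem _ _ (Submodule.subset_span ⟨m, rfl⟩)
    | add x y hx hy => exact add_mem hx hy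
  let b := Module.Basis.ofSpan hspan
  haveI : Fintype ↥((linearIndepOn_empty K id).extend (Set.empty_subset (Set.range ι))) :=
    FiniteDimensional.fintypeBasisIndex b
  have hcard : Fintype.card ↥((linearIndepOn_empty K id).extend
      (Set.empty_subset (Set.range ι))) = n := by
    rw [← Module.finrank_eq_card_basis b, hn]
  let e := (Fintype.equivFinOfCardEq hcard).symm
  let b' : Module.Basis (Fin n) K (K ⊗[O] M) := b.reindex e.symm
  have hb' : ∀ i, ∃ m : M, ι m = b' i := by
    intro i
    have h1 : b' i ∈ Set.range b := ⟨e i, by simp [b']⟩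
    exact Module.Basis.ofSpan_subset hspan h1
  choose m hm using hb'
  refine ⟨Fintype.linearCombination O m, ?_, ?_⟩
  · rw [← LinearMap.ker_eq_bot, LinearMap.ker_eq_bot']
    intro c hc
    have h1 : ι (Fintype.linearCombination O m c) = 0 := by rw [hc, map_zero]
    rw [Fintype.linearCombination_apply, map_sum] at h1
    have h2 : ∑ i, (algebraMap O K (c i)) • b' i = 0 := by
      rw [← h1]
      refine Finset.sum_congr rfl (fun i _ => ?_)
      rw [map_smul, hm, algebraMap_smul]
    have h3 := Fintype.linearIndependent_iff.mp b'.linearIndependent _ h2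
    funext i
    exact (IsFractionRing.injective O K) (by rw [h3 i, Pi.zero_apply, map_zero])
  · intro x
    obtain ⟨s, hs⟩ := IsLocalization.exist_integer_multiples_of_finset (nonZeroDivisors O)
      (Finset.univ.image (fun i => b'.repr (ι x) i))
    have hs' : ∀ i, ∃ a : O, algebraMap O K a = (s : O) • b'.repr (ι x) i := by
      intro i
      exact hs _ (Finset.mem_image_of_mem _ (Finset.mem_univ i))
    choose a ha using hs'
    refine ⟨s, nonZeroDivisors.coe_ne_zero s, a, ?_⟩
    apply hιinj
    rw [Fintype.linearCombination_apply, map_sum, map_smul]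
    conv_rhs => rw [← b'.sum_repr (ι x), Finset.smul_sum]
    refine Finset.sum_congr rfl (fun i _ => ?_)
    rw [map_smul, hm, ← algebraMap_smul K (a i), ha, smul_assoc]


theorem length_pi_quot (n : ℕ) (x : O) :
    Module.length O ((Fin n → O) ⧸ LinearMap.range (LinearMap.lsmul O (Fin n → O) x)) =
      n * Module.length O (O ⧸ Ideal.span {x}) := by
  have h1 : LinearMap.range (LinearMap.lsmul O (Fin n → O) x) =
      Submodule.pi Set.univ (fun _ : Fin n => (Ideal.span {x} : Submodule O O)) := by
    ext c
    simp only [LinearMap.mem_range, LinearMap.lsmul_apply, Submodule.mem_pi, Set.mem_univ,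
      forall_true_left]
    constructor
    · rintro ⟨d, rfl⟩ i
      exact Ideal.mem_span_singleton.mpr ⟨d i, by simp⟩
    · intro h
      choose d hd using fun i => Ideal.mem_span_singleton.mp (h i)
      exact ⟨d, by funext i; simp [hd i]⟩
  rw [h1, (Submodule.quotientPi (fun _ : Fin n => (Ideal.span {x} : Submodule O O))).length_eq,
    Module.length_pi_of_fintype]
  simp

theorem length_quot_smul_gen [IsNoetherianRing O] [Ring.KrullDimLE 1 O] [Module.Finite O M]
    [NoZeroSMulDivisors O M] {P : Type u} [AddCommGroup P] [Module O P]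
    (φ : P →ₗ[O] M) (hφ : Function.Injective φ)
    (htors : ∀ m : M, ∃ a : O, a ≠ 0 ∧ a • m ∈ LinearMap.range φ) (x : O)
    (hx : x ≠ 0) :
    Module.length O (M ⧸ LinearMap.range (LinearMap.lsmul O M x)) =
      Module.length O (P ⧸ LinearMap.range (LinearMap.lsmul O P x)) := by
  have hinj : Function.Injective (LinearMap.lsmul O M x) := by
    intro a b hab
    exact smul_right_injective M hx hab
  have hcomm : (LinearMap.lsmul O M x).comp φ = φ.comp (LinearMap.lsmul O P x) := by
    ext c
    simp
  have hF : (LinearMap.range φ).map (LinearMap.lsmul O M x) ≤ LinearMap.range φ := by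
    rintro _ ⟨_, ⟨c, rfl⟩, rfl⟩
    exact ⟨x • c, by simp⟩
  have hfin : sqLen (LinearMap.range φ) ⊤ ≠ ⊤ := by
    rw [sqLen_top']
    apply length_ne_top_of_torsion
    intro t
    obtain ⟨m, rfl⟩ := Submodule.Quotient.mk_surjective _ t
    obtain ⟨a, ha0, ha⟩ := htors m
    refine ⟨a, ha0, ?_⟩
    rw [← Submodule.Quotient.mk_smul, Submodule.Quotient.mk_eq_zero]
    exact ha
  have h1 := herbrand (LinearMap.lsmul O M x) hinj (LinearMap.range φ) hF hfin
  rw [sqLen_top'] at h1
  rw [h1, ← sqLen_top']
  have h2 : (LinearMap.range φ).map (LinearMap.lsmul O M x) =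
      (LinearMap.range (LinearMap.lsmul O P x)).map φ := by
    rw [LinearMap.range_eq_map, LinearMap.range_eq_map, ← Submodule.map_comp,
      ← Submodule.map_comp, hcomm]
  rw [h2]
  conv_lhs => rw [LinearMap.range_eq_map φ]
  exact sqLen_map φ le_top (by
    rw [LinearMap.ker_eq_bot.mpr hφ]; exact le_trans inf_le_left bot_le)

theorem length_quot_smul [IsNoetherianRing O] [Ring.KrullDimLE 1 O] [Module.Finite O M]
    [NoZeroSMulDivisors O M] (n : ℕ) (hn : Module.finrank K (K ⊗[O] M) = n) (x : O)
    (hx : x ≠ 0) :
    Module.length O (M ⧸ LinearMap.range (LinearMap.lsmul O M x)) =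
      n * Module.length O (O ⧸ Ideal.span {x}) := by
  obtain ⟨φ, hφ, htors⟩ := exists_free_sub (K := K) n hn
  rw [length_quot_smul_gen φ hφ htors x hx, length_pi_quot]

theorem length_self_quot (x : O) :
    Module.length O (O ⧸ LinearMap.range (LinearMap.lsmul O O x)) =
      Module.length O (O ⧸ Ideal.span {x}) := by
  have h1 : LinearMap.range (LinearMap.lsmul O O x) = (Ideal.span {x} : Submodule O O) := by
    ext c
    rw [LinearMap.mem_range, Ideal.mem_span_singleton]
    constructor
    · rintro ⟨d, rfl⟩
      exact ⟨d, by simp⟩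
    · rintro ⟨d, rfl⟩
      exact ⟨d, by simp⟩
  exact (Submodule.quotEquivOfEq _ _ h1).length_eq

/-- the normalisation has the same colength of `x` as `O` -/
theorem length_normalization_quot [IsNoetherianRing O] [Ring.KrullDimLE 1 O]
    (hfin : Module.Finite O ↥(integralClosure O K)) (x : O) (hx : x ≠ 0) :
    Module.length O (↥(integralClosure O K) ⧸
        LinearMap.range (LinearMap.lsmul O ↥(integralClosure O K) x)) =
      Module.length O (O ⧸ Ideal.span {x}) := by
  haveI : NoZeroSMulDivisors O ↥(integralClosure O K) := by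
    refine ⟨fun {c z} h => ?_⟩
    by_cases hc : c = 0
    · exact Or.inl hc
    · right
      have h1 : algebraMap O K c * (z : K) = 0 := by
        have := congrArg Subtype.val h
        rwa [Subalgebra.coe_smul, Algebra.smul_def, ZeroMemClass.coe_zero] at this
      rcases mul_eq_zero.mp h1 with h2 | h2
      · exact absurd ((map_eq_zero_iff _ (IsFractionRing.injective O K)).mp h2) hc
      · exact Subtype.ext h2
  rw [← length_self_quot]
  refine length_quot_smul_gen (Algebra.linearMap O ↥(integralClosure O K)) ?_ ?_ x hx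
  · intro a b hab
    have := congrArg Subtype.val hab
    exact IsFractionRing.injective O K this
  · intro z
    obtain ⟨⟨a, s⟩, has⟩ := IsLocalization.surj (nonZeroDivisors O) (z : K)
    refine ⟨s, nonZeroDivisors.coe_ne_zero s, a, ?_⟩
    apply Subtype.ext
    rw [Subalgebra.coe_smul, Algebra.smul_def, mul_comm]
    exact has.symm

end rank


section avoid
variable {O : Type u} [CommRing O] [IsLocalRing O] [Infinite (IsLocalRing.ResidueField O)]
  {E : Type u} [AddCommGroup E] [Module O E]

/-- over a local ring with infinite residue field a module is not a finite union of proper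
submodules -/
theorem exists_notMem_of_ne_top {ι : Type*} (p : ι → Submodule O E) (s : Finset ι)
    (hp : ∀ i ∈ s, p i ≠ ⊤) : ∃ v : E, ∀ i ∈ s, v ∉ p i := by
  by_contra hcon
  push_neg at hcon
  have hcov : ⋃ i ∈ s, (p i : Set E) = Set.univ := by
    rw [Set.eq_univ_iff_forall]
    intro v
    obtain ⟨i, hi, hv⟩ := hcon v
    exact Set.mem_biUnion hi hv
  obtain ⟨j, hj, hfi⟩ := Submodule.exists_finiteIndex_of_cover hcov
  haveI : Finite (E ⧸ p j) := AddSubgroup.finite_quotient_of_finiteIndex
  obtain ⟨v, hv⟩ : ∃ v : E, v ∉ p j := by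
    by_contra h
    push_neg at h
    exact hp j hj (eq_top_iff.mpr fun v _ => h v)
  let σ := Function.surjInv (IsLocalRing.residue_surjective (R := O))
  have hσ : ∀ c, IsLocalRing.residue O (σ c) = c :=
    Function.surjInv_eq (IsLocalRing.residue_surjective (R := O))
  obtain ⟨c, c', hcc', hf⟩ := Finite.exists_ne_map_eq_of_infinite
    (fun c : IsLocalRing.ResidueField O => (Submodule.Quotient.mk (σ c • v) : E ⧸ p j))
  have h1 : (σ c - σ c') • v ∈ p j := by
    rw [sub_smul]
    exact (Submodule.Quotient.eq _).mp hf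
  have h2 : IsUnit (σ c - σ c') := by
    by_contra hnu
    have h3 : σ c - σ c' ∈ IsLocalRing.maximalIdeal O := hnu
    rw [← IsLocalRing.residue_eq_zero_iff, map_sub, hσ, hσ, sub_eq_zero] at h3
    exact hcc' h3
  obtain ⟨w, hw⟩ := h2
  apply hv
  have h4 := (p j).smul_mem (↑w⁻¹ : O) h1
  rwa [← hw, ← mul_smul, Units.inv_mul, one_smul] at h4

end avoid


section normalization
variable {O : Type u} [CommRing O] [IsDomain O] [IsNoetherianRing O]
  {K : Type u} [Field K] [Algebra O K] [IsFractionRing O K]

theorem isFractionRing_normalization : IsFractionRing ↥(integralClosure O K) K :=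
  integralClosure.isFractionRing_of_finite_extension K K

theorem isDedekindDomain_normalization [Ring.KrullDimLE 1 O]
    (hfin : Module.Finite O ↥(integralClosure O K)) :
    IsDedekindDomain ↥(integralClosure O K) := by
  haveI := isFractionRing_normalization (O := O) (K := K)
  haveI : Ring.DimensionLEOne O := ⟨fun hp hprime => hprime.isMaximal_of_ne_bot hp⟩
  haveI : IsIntegrallyClosed ↥(integralClosure O K) :=
    integralClosure.isIntegrallyClosedOfFiniteExtension K
  haveI : IsNoetherianRing ↥(integralClosure O K) := IsNoetherianRing.of_finite O _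
  rw [isDedekindDomain_iff _ K]
  refine ⟨inferInstance, inferInstance, inferInstance, ?_⟩
  intro x hx
  exact (isIntegrallyClosed_iff K).mp inferInstance hx


theorem maximalIdeal_ne_bot [IsLocalRing O] (hdim : ringKrullDim O = 1) :
    IsLocalRing.maximalIdeal O ≠ ⊥ := by
  intro h
  have h1 := ringKrullDim_eq_zero_of_isField (IsLocalRing.isField_iff_maximalIdeal_eq.mpr h)
  rw [hdim] at h1
  exact one_ne_zero h1

theorem exists_reduction [IsLocalRing O] (hdim : ringKrullDim O = 1)
    [Infinite (IsLocalRing.ResidueField O)] (hfin : Module.Finite O ↥(integralClosure O K)) :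
    ∃ x ∈ IsLocalRing.maximalIdeal O, x ≠ 0 ∧
      Ideal.span {algebraMap O ↥(integralClosure O K) x} =
        (IsLocalRing.maximalIdeal O).map (algebraMap O ↥(integralClosure O K)) := by
  classical
  haveI := krullDimLE_one_of_eq hdim
  haveI := isDedekindDomain_normalization (O := O) (K := K) hfin
  set I := (IsLocalRing.maximalIdeal O).map (algebraMap O ↥(integralClosure O K)) with hI
  have hinj : Function.Injective (algebraMap O ↥(integralClosure O K)) := by
    intro a b hab
    exact IsFractionRing.injective O K (congrArg Subtype.val hab)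
  have hI0 : I ≠ ⊥ := by
    rw [hI, Ne, Ideal.map_eq_bot_iff_of_injective hinj]
    exact maximalIdeal_ne_bot hdim
  let s : Finset (Ideal ↥(integralClosure O K)) :=
    (UniqueFactorizationMonoid.normalizedFactors I).toFinset
  have hmax : ∀ P : Ideal ↥(integralClosure O K), P.IsMaximal → P ∈ s := by
    intro P hP
    rw [Multiset.mem_toFinset, Ideal.mem_normalizedFactors_iff hI0]
    refine ⟨hP.isPrime, ?_⟩
    rw [hI, Ideal.map_le_iff_le_comap]
    have h1 : (P.comap (algebraMap O ↥(integralClosure O K))).IsMaximal :=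
      Ideal.isMaximal_comap_of_isIntegral_of_isMaximal P
    rw [IsLocalRing.eq_maximalIdeal h1]
  have hs : ∀ P ∈ s, P ≠ ⊤ := by
    intro P hP
    rw [Multiset.mem_toFinset, Ideal.mem_normalizedFactors_iff hI0] at hP
    exact hP.1.ne_top
  let p : Ideal ↥(integralClosure O K) → Submodule O ↥(IsLocalRing.maximalIdeal O) := fun P =>
    Submodule.comap (IsLocalRing.maximalIdeal O).subtype
      ((P * I).comap (algebraMap O ↥(integralClosure O K)))
  have hp : ∀ P ∈ s, p P ≠ ⊤ := by
    intro P hP htop
    have h1 : I ≤ P * I := by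
      rw [hI, Ideal.map_le_iff_le_comap]
      intro y hy
      have : (⟨y, hy⟩ : ↥(IsLocalRing.maximalIdeal O)) ∈ p P := by rw [htop]; trivial
      exact this
    have h2 : P * I = ⊤ * I := by
      rw [Ideal.top_mul]
      exact le_antisymm Ideal.mul_le_right h1
    exact hs P hP (mul_right_cancel₀ hI0 h2)
  obtain ⟨v, hv⟩ := exists_notMem_of_ne_top p s hp
  have hvI : algebraMap O ↥(integralClosure O K) (v : O) ∈ I := Ideal.mem_map_of_mem _ v.2
  have hvP : ∀ P ∈ s, algebraMap O ↥(integralClosure O K) (v : O) ∉ P * I := fun P hP h =>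
    hv P hP h
  refine ⟨v, v.2, ?_, ?_⟩
  · intro h0
    obtain ⟨P₀, hP₀⟩ := Ideal.exists_maximal ↥(integralClosure O K)
    apply hvP P₀ (hmax P₀ hP₀)
    rw [h0, map_zero]
    exact zero_mem _
  · have h1 : Ideal.span {algebraMap O ↥(integralClosure O K) (v : O)} ≤ I :=
      (Ideal.span_singleton_le_iff_mem _).mpr hvI
    obtain ⟨J, hJ⟩ := Ideal.dvd_iff_le.mpr h1
    by_cases hJtop : J = ⊤
    · rw [hJ, hJtop, Ideal.mul_top]
    · exfalso
      obtain ⟨P, hPmax, hJP⟩ := Ideal.exists_le_maximal J hJtop
      apply hvP P (hmax P hPmax)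
      have h2 : Ideal.span {algebraMap O ↥(integralClosure O K) (v : O)} ≤ P * I := by
        rw [hJ, mul_comm]
        exact Ideal.mul_mono_left hJP
      exact h2 (Ideal.mem_span_singleton_self _)

end normalization


section final
variable {O : Type u} [CommRing O] [IsLocalRing O] {M : Type u} [AddCommGroup M] [Module O M]

theorem spanFinrank_le_length [Module.Finite O M] :
    ((⊤ : Submodule O M).spanFinrank : ℕ∞) ≤
      Module.length O (M ⧸ (IsLocalRing.maximalIdeal O) • (⊤ : Submodule O M)) := by
  have h1 := IsLocalRing.spanFinrank_eq_finrank_quotient (⊤ : Submodule O M)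
    Module.Finite.fg_top
  haveI : Module.Finite (O ⧸ IsLocalRing.maximalIdeal O)
      (↥(⊤ : Submodule O M) ⧸ (IsLocalRing.maximalIdeal O) • (⊤ : Submodule O ↥(⊤ : Submodule O M))) :=
    Module.Finite.of_restrictScalars_finite O _ _
  letI : Field (O ⧸ IsLocalRing.maximalIdeal O) := Ideal.Quotient.field _
  have h2 := Module.length_eq_finrank (O ⧸ IsLocalRing.maximalIdeal O)
    (↥(⊤ : Submodule O M) ⧸ (IsLocalRing.maximalIdeal O) • (⊤ : Submodule O ↥(⊤ : Submodule O M)))
  have h3 := Module.length_eq_of_surjective (S := O) (R := O ⧸ IsLocalRing.maximalIdeal O)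
    (M := (↥(⊤ : Submodule O M) ⧸ (IsLocalRing.maximalIdeal O) • (⊤ : Submodule O ↥(⊤ : Submodule O M))))
    Ideal.Quotient.mk_surjective
  rw [h1, ← h2, ← h3]
  refine le_of_eq (LinearEquiv.length_eq ?_)
  refine Submodule.Quotient.equiv _ _ Submodule.topEquiv ?_
  rw [Submodule.map_smul'', Submodule.map_top, LinearEquiv.range]


theorem range_lsmul_le (x : O) (hx : x ∈ IsLocalRing.maximalIdeal O) :
    LinearMap.range (LinearMap.lsmul O M x) ≤
      (IsLocalRing.maximalIdeal O) • (⊤ : Submodule O M) := by
  rintro _ ⟨m, rfl⟩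
  exact Submodule.smul_mem_smul hx trivial

end final

theorem main (O : Type u) [CommRing O] [IsDomain O] [IsNoetherianRing O] [IsLocalRing O] (hdim : ringKrullDim O = 1) [IsAlgClosed (IsLocalRing.ResidueField O)] (K : Type u) [Field K] [Algebra O K] [IsFractionRing O K] (hfin : Module.Finite O ↥(integralClosure O K)) (M : Type u) [AddCommGroup M] [Module O M] [Module.Finite O M] [NoZeroSMulDivisors O M] (n : ℕ) (hn : Module.finrank K (TensorProduct O K M) = n) : ((⊤ : Submodule O M).spanFinrank : ℕ∞) ≤ (n : ℕ∞) * Module.length O (↥(integralClosure O K) ⧸ (IsLocalRing.maximalIdeal O) • (⊤ : Submodule O ↥(integralClosure O K))) := by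
  haveI := krullDimLE_one_of_eq hdim
  obtain ⟨x, hxm, hx0, hx⟩ := exists_reduction (K := K) hdim hfin
  have h1 : LinearMap.range (LinearMap.lsmul O ↥(integralClosure O K) x) =
      (IsLocalRing.maximalIdeal O) • (⊤ : Submodule O ↥(integralClosure O K)) := by
    rw [Ideal.smul_top_eq_map, ← hx]
    ext z
    rw [LinearMap.mem_range, Submodule.restrictScalars_mem, Ideal.mem_span_singleton]
    constructor
    · rintro ⟨w, rfl⟩
      exact ⟨w, by rw [LinearMap.lsmul_apply, Algebra.smul_def]⟩
    · rintro ⟨w, rfl⟩
      exact ⟨w, by rw [LinearMap.lsmul_apply, Algebra.smul_def]⟩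
  rw [← h1, length_normalization_quot hfin x hx0, ← length_quot_smul (K := K) n hn x hx0]
  refine spanFinrank_le_length.trans ?_
  exact Module.length_le_of_surjective
    (Submodule.factor (range_lsmul_le x hxm)) (Submodule.factor_surjective _)

end Aux

/-- Let O be a one-dimensional Noetherian local domain with maximal ideal m and algebraically closed
residue field, whose integral closure O~ in its fraction field K is a finite O-module; put e =
length(O~/m O~), the multiplicity of O. Then a finitely generated torsion-free O-module of rank n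
can be generated by at most n·e elements. -/
theorem result (O : Type u) [CommRing O] [IsDomain O] [IsNoetherianRing O] [IsLocalRing O] (hdim : ringKrullDim O = 1) [IsAlgClosed (IsLocalRing.ResidueField O)] (K : Type u) [Field K] [Algebra O K] [IsFractionRing O K] (hfin : Module.Finite O ↥(integralClosure O K)) (M : Type u) [AddCommGroup M] [Module O M] [Module.Finite O M] [NoZeroSMulDivisors O M] (n : ℕ) (hn : Module.finrank K (TensorProduct O K M) = n) : ((⊤ : Submodule O M).spanFinrank : ℕ∞) ≤ (n : ℕ∞) * Module.length O (↥(integralClosure O K) ⧸ (IsLocalRing.maximalIdeal O) • (⊤ : Submodule O ↥(integralClosure O K))) := by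
  exact Aux.main O hdim K hfin M n hn

end Groth.Agent.S15011
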