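import Groth.Statements.S15009
import Mathlib
import Groth.Agent.S15011
-- import your own Groth.Agent.* helpers here

set_option autoImplicit false
universe u
open TFCurv

namespace Groth.Agent.S15009

open Matrix
namespace Aux

open Groth.Agent.S15011.Aux

section embed
variable {O : Type u} [CommRing O] [IsDomain O] {K : Type u} [Field K] [Algebra O K]
  [IsFractionRing O K] {M : Type u} [AddCommGroup M] [Module O M]

open TensorProduct

theorem exists_embedding [Module.Finite O M] [NoZeroSMulDivisors O M] (n : ℕ)
    (hn : Module.finrank K (K ⊗[O] M) = n) :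
    ∃ ψ : M →ₗ[O] (Fin n → K), Function.Injective ψ ∧
      Submodule.span K (Set.range ψ) = ⊤ := by
  let b : Module.Basis (Fin n) K (K ⊗[O] M) := Module.finBasisOfFinrankEq K _ hn
  set ι : M →ₗ[O] K ⊗[O] M := TensorProduct.mk O K M 1 with hι
  have hspan : Submodule.span K (Set.range ι) = ⊤ := by
    rw [eq_top_iff]
    intro z hz
    clear hz
    induction z using TensorProduct.induction_on with
    | zero => exact zero_mem _
    | tmul c m =>
      have : c ⊗ₜ[O] m = c • ι m := by
        rw [hι, TensorProduct.mk_apply, TensorProduct.smul_tmul', smul_eq_mul, mul_one]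
      rw [this]
      exact Submodule.smul_mem _ _ (Submodule.subset_span ⟨m, rfl⟩)
    | add x y hx hy => exact add_mem hx hy
  refine ⟨(b.equivFun.restrictScalars O).toLinearMap.comp ι, ?_, ?_⟩
  · exact (b.equivFun.injective).comp mk_injective
  · have h1 : Set.range ((b.equivFun.restrictScalars O).toLinearMap.comp ι) =
        b.equivFun.toLinearMap '' Set.range ι := by
      rw [← Set.range_comp]
      rfl
    rw [h1, ← Submodule.map_span, hspan, Submodule.map_top, LinearEquiv.range]

end embed


section norm
variable {O : Type u} [CommRing O] [IsDomain O] [IsNoetherianRing O] [IsLocalRing O]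
  {K : Type u} [Field K] [Algebra O K] [IsFractionRing O K]

theorem finite_maximals (hdim : ringKrullDim O = 1)
    (hfin : Module.Finite O ↥(integralClosure O K)) :
    {P : Ideal ↥(integralClosure O K) | P.IsMaximal}.Finite := by
  classical
  haveI := krullDimLE_one_of_eq hdim
  haveI := isDedekindDomain_normalization (O := O) (K := K) hfin
  set I := (IsLocalRing.maximalIdeal O).map (algebraMap O ↥(integralClosure O K)) with hI
  have hinj : Function.Injective (algebraMap O ↥(integralClosure O K)) := by
    intro a b hab
    exact IsFractionRing.injective O K (congrArg Subtype.val hab)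
  have hI0 : I ≠ ⊥ := by
    rw [hI, Ne, Ideal.map_eq_bot_iff_of_injective hinj]
    exact maximalIdeal_ne_bot hdim
  refine Set.Finite.subset
    (UniqueFactorizationMonoid.normalizedFactors I).toFinset.finite_toSet ?_
  intro P hP
  have hP' : P.IsMaximal := hP
  rw [Finset.mem_coe, Multiset.mem_toFinset, Ideal.mem_normalizedFactors_iff hI0]
  refine ⟨hP'.isPrime, ?_⟩
  rw [hI, Ideal.map_le_iff_le_comap]
  have h1 : (P.comap (algebraMap O ↥(integralClosure O K))).IsMaximal :=
    Ideal.isMaximal_comap_of_isIntegral_of_isMaximal P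
  rw [IsLocalRing.eq_maximalIdeal h1]

theorem isPID_normalization (hdim : ringKrullDim O = 1)
    (hfin : Module.Finite O ↥(integralClosure O K)) :
    IsPrincipalIdealRing ↥(integralClosure O K) := by
  haveI := krullDimLE_one_of_eq hdim
  haveI := isDedekindDomain_normalization (O := O) (K := K) hfin
  exact IsPrincipalIdealRing.of_finite_maximals (finite_maximals hdim hfin)

end norm


section select
variable {O : Type u} [CommRing O] [IsLocalRing O] [Infinite (IsLocalRing.ResidueField O)]
  {A : Type u} [CommRing A] [Algebra O A] {M : Type u} [AddCommGroup M] [Module O M]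

/-- coordinatewise reduction modulo `P` -/
def red (n : ℕ) (P : Ideal A) (v : Fin n → A) : Fin n → A ⧸ P :=
  fun i => Ideal.Quotient.mk P (v i)

theorem red_add (n : ℕ) (P : Ideal A) (v w : Fin n → A) :
    red n P (v + w) = red n P v + red n P w := by
  funext i; simp [red]

theorem red_zero (n : ℕ) (P : Ideal A) : red n P (0 : Fin n → A) = 0 := by
  funext i; simp [red]

theorem red_smul (n : ℕ) (P : Ideal A) (a : A) (v : Fin n → A) :
    red n P (a • v) = (Ideal.Quotient.mk P a) • red n P v := by
  funext i; simp [red]

theorem red_osmul (n : ℕ) (P : Ideal A) (c : O) (v : Fin n → A) :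
    red n P (c • v) = (Ideal.Quotient.mk P (algebraMap O A c)) • red n P v := by
  funext i; simp [red, Algebra.smul_def]

theorem red_surjective (n : ℕ) (P : Ideal A) : Function.Surjective (red n P) := by
  intro y
  choose v hv using fun i => Ideal.Quotient.mk_surjective (y i)
  exact ⟨v, funext hv⟩

variable {n : ℕ} (β : M →ₗ[O] (Fin n → A))

/-- the submodule of elements whose reduction lies in a given span -/
def bad (P : Ideal A) (S : Submodule (A ⧸ P) (Fin n → A ⧸ P)) : Submodule O M where
  carrier := {m | red n P (β m) ∈ S}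
  add_mem' := by
    intro a b ha hb
    show red n P (β (a + b)) ∈ S
    rw [map_add, red_add]
    exact S.add_mem ha hb
  zero_mem' := by
    show red n P (β 0) ∈ S
    rw [map_zero, red_zero]
    exact S.zero_mem
  smul_mem' := by
    intro c a ha
    show red n P (β (c • a)) ∈ S
    rw [map_smul, red_osmul]
    exact S.smul_mem _ ha

theorem bad_ne_top (hβ : Submodule.span A (Set.range β) = ⊤) (P : Ideal A) (hP : P.IsMaximal)
    {j : ℕ} (hj : j < n) (u : Fin j → (Fin n → A ⧸ P)) :
    bad β P (Submodule.span (A ⧸ P) (Set.range u)) ≠ ⊤ := by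
  intro htop
  letI := Ideal.Quotient.field P
  have h1 : ∀ v : Fin n → A, red n P v ∈ Submodule.span (A ⧸ P) (Set.range u) := by
    intro v
    have hv : v ∈ Submodule.span A (Set.range β) := by rw [hβ]; trivial
    refine Submodule.span_induction ?_ ?_ ?_ ?_ hv
    · rintro _ ⟨m, rfl⟩
      have : m ∈ bad β P (Submodule.span (A ⧸ P) (Set.range u)) := by rw [htop]; trivial
      exact this
    · rw [red_zero]; exact zero_mem _
    · intro x y _ _ hx hy
      rw [red_add]; exact add_mem hx hy
    · intro a x _ hx
      rw [red_smul]; exact Submodule.smul_mem _ _ hx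
  have h2 : Submodule.span (A ⧸ P) (Set.range u) = ⊤ := by
    rw [eq_top_iff]
    intro y _
    obtain ⟨v, rfl⟩ := red_surjective n P y
    exact h1 v
  have h3 := finrank_range_le_card (R := A ⧸ P) u
  rw [Set.finrank, h2, finrank_top, Module.finrank_fin_fun, Fintype.card_fin] at h3
  omega

theorem exists_independent (hβ : Submodule.span A (Set.range β) = ⊤)
    (hs : {P : Ideal A | P.IsMaximal}.Finite) (j : ℕ) (hj : j ≤ n) :
    ∃ m : Fin j → M, ∀ P : Ideal A, P.IsMaximal →
      LinearIndependent (A ⧸ P) (fun i => red n P (β (m i))) := by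
  induction j with
  | zero =>
    exact ⟨Fin.elim0, fun P _ => linearIndependent_empty_type⟩
  | succ j ih =>
    obtain ⟨m, hm⟩ := ih (Nat.le_of_succ_le hj)
    obtain ⟨m', hm'⟩ := exists_notMem_of_ne_top
      (fun P : Ideal A => bad β P (Submodule.span (A ⧸ P)
        (Set.range (fun i => red n P (β (m i)))))) hs.toFinset (by
        intro P hP
        rw [Set.Finite.mem_toFinset] at hP
        exact bad_ne_top β hβ P hP (Nat.lt_of_succ_le hj) _)
    refine ⟨Fin.cons m' m, fun P hP => ?_⟩
    letI := Ideal.Quotient.field P
    have h1 : (fun i => red n P (β ((Fin.cons m' m : Fin (j + 1) → M) i))) =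
        Fin.cons (red n P (β m')) (fun i => red n P (β (m i))) := by
      funext i
      refine Fin.cases ?_ (fun i => ?_) i
      · simp
      · simp
    rw [h1, linearIndependent_fin_cons]
    refine ⟨hm P hP, ?_⟩
    exact hm' P ((Set.Finite.mem_toFinset hs).mpr hP)

theorem exists_unit_det (hβ : Submodule.span A (Set.range β) = ⊤)
    (hs : {P : Ideal A | P.IsMaximal}.Finite) :
    ∃ m : Fin n → M, IsUnit (Matrix.of (fun i => β (m i))).det := by
  obtain ⟨m, hm⟩ := exists_independent β hβ hs n le_rfl
  refine ⟨m, ?_⟩
  by_contra hnu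
  obtain ⟨P, hP, hdet⟩ := exists_max_ideal_of_mem_nonunits hnu
  letI := Ideal.Quotient.field P
  have h1 := hm P hP
  have h2 : (fun i => red n P (β (m i))) =
      ((Matrix.of (fun i => β (m i))).map (Ideal.Quotient.mk P)).row := by
    funext i k
    rfl
  rw [h2, Matrix.linearIndependent_rows_iff_isUnit, Matrix.isUnit_iff_isUnit_det,
    ← RingHom.mapMatrix_apply, ← RingHom.map_det] at h1
  rw [Ideal.Quotient.eq_zero_iff_mem.mpr hdet] at h1
  exact not_isUnit_zero h1

end select


section lattice
variable {A : Type u} [CommRing A] [IsDomain A] {K : Type u} [Field K] [Algebra A K]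
  [IsFractionRing A K]

theorem finrank_lattice (n : ℕ) (L : Submodule A (Fin n → K)) [Module.Free A L]
    [Module.Finite A L] (hL : Submodule.span K (L : Set (Fin n → K)) = ⊤) :
    Module.finrank A L = n := by
  let w := Module.finBasis A L
  set wv : Fin (Module.finrank A L) → (Fin n → K) := fun j => ((w j : L) : Fin n → K) with hwv
  have h1 : LinearIndependent A wv :=
    w.linearIndependent.map' L.subtype (Submodule.ker_subtype L)
  have h2 : LinearIndependent K wv := (LinearIndependent.iff_fractionRing A K).mp h1
  have h3 := h2.fintype_card_le_finrank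
  rw [Fintype.card_fin, Module.finrank_fin_fun] at h3
  have h4 : (L : Set (Fin n → K)) ⊆ Submodule.span K (Set.range wv) := by
    intro x hx
    have h5 : (⟨x, hx⟩ : L) ∈ Submodule.span A (Set.range w) := by
      rw [w.span_eq]; trivial
    have h6 : x ∈ (Submodule.span A (Set.range w)).map L.subtype := ⟨⟨x, hx⟩, h5, rfl⟩
    rw [Submodule.map_span, ← Set.range_comp] at h6
    exact Submodule.span_le_restrictScalars A K _ h6
  have h7 : Submodule.span K (Set.range wv) = ⊤ := by
    rw [eq_top_iff, ← hL]
    exact Submodule.span_le.mpr h4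
  have h8 := finrank_range_le_card (R := K) wv
  rw [Set.finrank, h7, finrank_top, Module.finrank_fin_fun, Fintype.card_fin] at h8
  omega

end lattice


section construct
variable {O : Type u} [CommRing O] {K : Type u} [Field K] [Algebra O K]
  {M : Type u} [AddCommGroup M] [Module O M]

theorem final_construct (n : ℕ) (β : M →ₗ[O] (Fin n → ↥(integralClosure O K)))
    (hβ : Function.Injective β) (m : Fin n → M)
    (hB : IsUnit (Matrix.of (fun i => β (m i))).det) :
    ∃ M' : Submodule O (Fin n → K),
      Submodule.pi Set.univ (fun _ : Fin n => (1 : Submodule O K)) ≤ M' ∧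
      M' ≤ Submodule.pi Set.univ
        (fun _ : Fin n => (Subalgebra.toSubmodule (integralClosure O K))) ∧
      Nonempty (M ≃ₗ[O] ↥M') := by
  classical
  set B : Matrix (Fin n) (Fin n) ↥(integralClosure O K) := Matrix.of (fun i => β (m i)) with hBdef
  let θ : M →ₗ[O] (Fin n → K) :=
    (((Algebra.linearMap ↥(integralClosure O K) K).compLeft (Fin n)).restrictScalars O).comp
      (((Matrix.vecMulLinear B⁻¹).restrictScalars O).comp β)
  have hθ_apply : ∀ x i, θ x i = ((β x ᵥ* B⁻¹) i : K) := fun x i => rfl
  have hθinj : Function.Injective θ := by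
    intro x y hxy
    apply hβ
    have h1 : β x ᵥ* B⁻¹ = β y ᵥ* B⁻¹ := by
      funext i
      have := congrFun hxy i
      rw [hθ_apply, hθ_apply] at this
      exact Subtype.val_injective this
    have h2 := congrArg (fun v => v ᵥ* B) h1
    simp only [Matrix.vecMul_vecMul, Matrix.nonsing_inv_mul B hB, Matrix.vecMul_one] at h2
    exact h2
  have hθm : ∀ i, θ (m i) = Pi.single i 1 := by
    intro i
    funext k
    rw [hθ_apply]
    have h1 : β (m i) ᵥ* B⁻¹ = (B * B⁻¹) i := by
      rw [Matrix.mul_apply_eq_vecMul]
      rfl
    rw [h1, Matrix.mul_nonsing_inv B hB, Matrix.one_apply, Pi.single_apply]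
    split_ifs with h1 h2 h2
    · rfl
    · exact absurd h1.symm h2
    · exact absurd h2.symm h1
    · rfl
  refine ⟨LinearMap.range θ, ?_, ?_, ⟨LinearEquiv.ofInjective θ hθinj⟩⟩
  · intro c hc
    have hc' : ∀ i, ∃ a : O, algebraMap O K a = c i := fun i =>
      Submodule.mem_one.mp (hc i (Set.mem_univ i))
    choose a ha using hc'
    refine ⟨∑ i, a i • m i, ?_⟩
    rw [map_sum]
    funext k
    rw [Finset.sum_apply]
    simp only [map_smul, hθm, Pi.smul_apply, Pi.single_apply]
    rw [Finset.sum_eq_single k]
    · rw [if_pos rfl, ← ha k, Algebra.smul_def, mul_one]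
    · intro b _ hb
      rw [if_neg hb.symm, smul_zero]
    · intro h
      exact absurd (Finset.mem_univ k) h
  · rintro _ ⟨x, rfl⟩ i _
    rw [hθ_apply]
    exact ((β x ᵥ* B⁻¹) i).2

end construct


theorem main (O : Type u) [CommRing O] [IsDomain O] [IsNoetherianRing O] [IsLocalRing O] (hdim : ringKrullDim O = 1) [IsAlgClosed (IsLocalRing.ResidueField O)] (K : Type u) [Field K] [Algebra O K] [IsFractionRing O K] (hfin : Module.Finite O ↥(integralClosure O K)) (M : Type u) [AddCommGroup M] [Module O M] [Module.Finite O M] [NoZeroSMulDivisors O M] (n : ℕ) (hn : Module.finrank K (TensorProduct O K M) = n) : ∃ M' : Submodule O (Fin n → K), Submodule.pi Set.univ (fun _ : Fin n => (1 : Submodule O K)) ≤ M' ∧ M' ≤ Submodule.pi Set.univ (fun _ : Fin n => (Subalgebra.toSubmodule (integralClosure O K))) ∧ Nonempty (M ≃ₗ[O] ↥M') := by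
  classical
  obtain ⟨ψ, hψinj, hψspan⟩ := exists_embedding (K := K) n hn
  haveI := isFractionRing_normalization (O := O) (K := K)
  haveI := isPID_normalization (K := K) hdim hfin
  -- the lattice generated over the normalisation
  set L : Submodule ↥(integralClosure O K) (Fin n → K) :=
    Submodule.span ↥(integralClosure O K) (Set.range ψ) with hL
  obtain ⟨S, hS⟩ := (Module.Finite.fg_top : (⊤ : Submodule O M).FG)
  have hLfg : L.FG := by
    refine ⟨S.image ψ, ?_⟩
    apply le_antisymm
    · exact Submodule.span_mono (by
        rw [Finset.coe_image]; exact Set.image_subset_range _ _)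
    · rw [hL, Submodule.span_le]
      rintro _ ⟨x, rfl⟩
      have hx : x ∈ Submodule.span O (S : Set M) := by rw [hS]; trivial
      refine Submodule.span_induction ?_ ?_ ?_ ?_ hx
      · intro s hs
        exact Submodule.subset_span (by
          rw [Finset.coe_image]; exact Set.mem_image_of_mem _ hs)
      · rw [map_zero]; exact zero_mem _
      · intro a b _ _ ha hb
        rw [map_add]; exact add_mem ha hb
      · intro c a _ ha
        rw [map_smul, ← algebraMap_smul ↥(integralClosure O K) c (ψ a)]
        exact Submodule.smul_mem _ _ ha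
  haveI : Module.Finite ↥(integralClosure O K) L := Module.Finite.iff_fg.mpr hLfg
  haveI : Module.IsTorsionFree ↥(integralClosure O K) L := by
    apply Module.IsTorsionFree.of_smul_eq_zero
    intro a x hax
    by_cases ha : a = 0
    · exact Or.inl ha
    · right
      apply Subtype.ext
      funext i
      have h1 := congrFun (congrArg Subtype.val hax) i
      simp only [Submodule.coe_smul, Pi.smul_apply, ZeroMemClass.coe_zero, Pi.zero_apply] at h1
      rw [Algebra.smul_def] at h1
      rcases mul_eq_zero.mp h1 with h2 | h2
      · exact absurd (Subtype.ext h2) ha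
      · exact h2
  have hLspan : Submodule.span K (L : Set (Fin n → K)) = ⊤ := by
    rw [eq_top_iff, ← hψspan]
    exact Submodule.span_mono Submodule.subset_span
  have hr : Module.finrank ↥(integralClosure O K) L = n := finrank_lattice n L hLspan
  let w : Module.Basis (Fin n) ↥(integralClosure O K) L := Module.finBasisOfFinrankEq _ _ hr
  have hmemL : ∀ x : M, ψ x ∈ L := fun x => Submodule.subset_span ⟨x, rfl⟩
  let β : M →ₗ[O] (Fin n → ↥(integralClosure O K)) :=
    { toFun := fun x => w.equivFun ⟨ψ x, hmemL x⟩
      map_add' := by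
        intro a b
        have : (⟨ψ (a + b), hmemL (a + b)⟩ : L) = ⟨ψ a, hmemL a⟩ + ⟨ψ b, hmemL b⟩ :=
          Subtype.ext (map_add ψ a b)
        rw [this, map_add]
      map_smul' := by
        intro c a
        have : (⟨ψ (c • a), hmemL (c • a)⟩ : L) =
            (algebraMap O ↥(integralClosure O K) c) • ⟨ψ a, hmemL a⟩ := by
          apply Subtype.ext
          rw [Submodule.coe_smul, algebraMap_smul]
          exact map_smul ψ c a
        rw [this, map_smul, algebraMap_smul]
        rfl }
  have hβ_apply : ∀ x, β x = w.equivFun ⟨ψ x, hmemL x⟩ := fun x => rfl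
  have hβinj : Function.Injective β := by
    intro a b hab
    rw [hβ_apply, hβ_apply] at hab
    have := w.equivFun.injective hab
    exact hψinj (congrArg Subtype.val this)
  have hβspan : Submodule.span ↥(integralClosure O K) (Set.range β) = ⊤ := by
    have h1 : Set.range β = w.equivFun.toLinearMap ''
        (((↑) : L → (Fin n → K)) ⁻¹' (Set.range ψ)) := by
      ext v
      constructor
      · rintro ⟨x, rfl⟩
        exact ⟨⟨ψ x, hmemL x⟩, ⟨x, rfl⟩, rfl⟩
      · rintro ⟨⟨y, hy⟩, ⟨x, hx⟩, rfl⟩
        refine ⟨x, ?_⟩
        rw [hβ_apply]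
        have : (⟨ψ x, hmemL x⟩ : L) = ⟨y, hy⟩ := Subtype.ext hx
        rw [this]
        rfl
    rw [h1, ← Submodule.map_span, Submodule.span_span_coe_preimage, Submodule.map_top,
      LinearEquiv.range]
  obtain ⟨m, hm⟩ := exists_unit_det β hβspan (finite_maximals hdim hfin)
  exact final_construct n β hβinj m hm

end Aux

/-- Let O be a one-dimensional Noetherian local domain with algebraically closed residue field whose
integral closure O~ in its fraction field K is a finite O-module. A finitely generated torsion-free
O-module M of rank n (that is, K ⊗ M has K-dimension n) is isomorphic to an O-submodule M' of K^n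
with O^n ⊆ M' ⊆ O~^n. -/
theorem result (O : Type u) [CommRing O] [IsDomain O] [IsNoetherianRing O] [IsLocalRing O] (hdim : ringKrullDim O = 1) [IsAlgClosed (IsLocalRing.ResidueField O)] (K : Type u) [Field K] [Algebra O K] [IsFractionRing O K] (hfin : Module.Finite O ↥(integralClosure O K)) (M : Type u) [AddCommGroup M] [Module O M] [Module.Finite O M] [NoZeroSMulDivisors O M] (n : ℕ) (hn : Module.finrank K (TensorProduct O K M) = n) : ∃ M' : Submodule O (Fin n → K), Submodule.pi Set.univ (fun _ : Fin n => (1 : Submodule O K)) ≤ M' ∧ M' ≤ Submodule.pi Set.univ (fun _ : Fin n => (Subalgebra.toSubmodule (integralClosure O K))) ∧ Nonempty (M ≃ₗ[O] ↥M') := by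
  exact Aux.main O hdim K hfin M n hn

end Groth.Agent.S15009
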