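import Groth.Statements.S15010
import Mathlib
-- import your own Groth.Agent.* helpers here

set_option autoImplicit false
universe u
open TFCurv

namespace Groth.Agent.S15010

namespace Aux

variable {O : Type u} [CommRing O] [IsDomain O] {K : Type u} [Field K] [Algebra O K] [IsFractionRing O K]
  {n : ℕ}

/-- the standard vectors lie in a lattice containing `O^n` -/
theorem e_mem (M : Submodule O (Fin n → K))
    (hM1 : Submodule.pi Set.univ (fun _ : Fin n => (1 : Submodule O K)) ≤ M) (j : Fin n) :
    (Pi.single j (1 : K) : Fin n → K) ∈ M := by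
  apply hM1
  rw [Submodule.mem_pi]
  intro i _
  by_cases h : i = j
  · subst h; rw [Pi.single_eq_same]; exact Submodule.one_le.mp le_rfl
  · rw [Pi.single_eq_of_ne h]; exact zero_mem _

/-- an `O`-linear map between lattices is given by the matrix of images of the standard vectors -/
theorem map_eq_mulVec (M N : Submodule O (Fin n → K))
    (hM1 : Submodule.pi Set.univ (fun _ : Fin n => (1 : Submodule O K)) ≤ M)
    (φ : ↥M →ₗ[O] ↥N) (x : ↥M) :
    ((φ x : ↥N) : Fin n → K)
      = (Matrix.of fun i j => ((φ ⟨Pi.single j 1, e_mem M hM1 j⟩ : ↥N) : Fin n → K) i).mulVec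
        (x : Fin n → K) := by
  classical
  set AK : Matrix (Fin n) (Fin n) K :=
    Matrix.of fun i j => ((φ ⟨Pi.single j 1, e_mem M hM1 j⟩ : ↥N) : Fin n → K) i with hAK
  obtain ⟨d, hd⟩ := IsLocalization.exist_integer_multiples (nonZeroDivisors O) (Finset.univ : Finset (Fin n))
    (fun j => (x : Fin n → K) j)
  choose a ha using fun j => hd j (Finset.mem_univ j)
  have hd0 : algebraMap O K (d : O) ≠ 0 := by
    intro h
    exact nonZeroDivisors.coe_ne_zero d ((IsFractionRing.injective O K) (by rw [h, map_zero]))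
  -- d • x = Σ a_j • e_j in M
  have hx : (d : O) • x = ∑ j, a j • (⟨Pi.single j 1, e_mem M hM1 j⟩ : ↥M) := by
    apply Subtype.ext
    rw [Submodule.coe_smul, Submodule.coe_sum]
    ext i
    rw [Finset.sum_apply, Pi.smul_apply]
    simp only [Submodule.coe_smul, Pi.smul_apply]
    rw [Finset.sum_eq_single i]
    · rw [Pi.single_eq_same, ← ha i, Algebra.smul_def, mul_one]
    · intro j _ hj
      rw [Pi.single_eq_of_ne hj.symm, smul_zero]
    · intro h; exact absurd (Finset.mem_univ _) h
  have h1 : (d : O) • ((φ x : ↥N) : Fin n → K) = (d : O) • AK.mulVec (x : Fin n → K) := by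
    have : (d : O) • ((φ x : ↥N) : Fin n → K) = ((φ ((d : O) • x) : ↥N) : Fin n → K) := by
      rw [map_smul, Submodule.coe_smul]
    rw [this, hx, map_sum, Submodule.coe_sum]
    have hx' := congrArg (fun y : ↥M => (y : Fin n → K)) hx
    simp only [Submodule.coe_smul, Submodule.coe_sum] at hx'
    have : (d : O) • AK.mulVec (x : Fin n → K) = AK.mulVec ((d : O) • (x : Fin n → K)) := by
      rw [Algebra.smul_def, Algebra.smul_def]
      ext i
      simp only [Matrix.mulVec, dotProduct, Pi.mul_apply, Finset.mul_sum, Pi.algebraMap_apply]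
      apply Finset.sum_congr rfl
      intro j _
      ring
    rw [this, hx', Matrix.mulVec_sum]
    apply Finset.sum_congr rfl
    intro j _
    rw [map_smul, Submodule.coe_smul]
    ext i
    rw [Pi.smul_apply, Algebra.smul_def, Algebra.smul_def]
    simp only [Matrix.mulVec, dotProduct, Pi.mul_apply, Pi.algebraMap_apply]
    rw [Finset.sum_eq_single j]
    · rw [Pi.single_eq_same, mul_one, hAK, Matrix.of_apply, mul_comm]
    · intro b _ hb
      rw [Pi.single_eq_of_ne hb, mul_zero, mul_zero]
    · intro h; exact absurd (Finset.mem_univ _) h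
  ext i
  have := congrFun h1 i
  rw [Pi.smul_apply, Pi.smul_apply, Algebra.smul_def, Algebra.smul_def] at this
  exact mul_left_cancel₀ hd0 this

theorem main (M N : Submodule O (Fin n → K))
    (hM1 : Submodule.pi Set.univ (fun _ : Fin n => (1 : Submodule O K)) ≤ M)
    (hM2 : M ≤ Submodule.pi Set.univ (fun _ : Fin n => (Subalgebra.toSubmodule (integralClosure O K))))
    (hN1 : Submodule.pi Set.univ (fun _ : Fin n => (1 : Submodule O K)) ≤ N)
    (hN2 : N ≤ Submodule.pi Set.univ (fun _ : Fin n => (Subalgebra.toSubmodule (integralClosure O K))))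
    (φ : ↥M ≃ₗ[O] ↥N) :
    ∃ A : Matrix (Fin n) (Fin n) ↥(integralClosure O K), IsUnit A ∧
      ∀ x : ↥M, ((φ x : ↥N) : Fin n → K)
        = (A.map (algebraMap ↥(integralClosure O K) K)).mulVec (x : Fin n → K) := by
  classical
  set A : Matrix (Fin n) (Fin n) ↥(integralClosure O K) := Matrix.of fun i j =>
    ⟨((φ ⟨Pi.single j 1, e_mem M hM1 j⟩ : ↥N) : Fin n → K) i,
      (Submodule.mem_pi.mp (hN2 (φ ⟨Pi.single j 1, e_mem M hM1 j⟩).2)) i trivial⟩ with hA
  set B : Matrix (Fin n) (Fin n) ↥(integralClosure O K) := Matrix.of fun i j =>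
    ⟨((φ.symm ⟨Pi.single j 1, e_mem N hN1 j⟩ : ↥M) : Fin n → K) i,
      (Submodule.mem_pi.mp (hM2 (φ.symm ⟨Pi.single j 1, e_mem N hN1 j⟩).2)) i trivial⟩ with hB
  have hAK : A.map (algebraMap ↥(integralClosure O K) K)
      = Matrix.of fun i j => ((φ.toLinearMap ⟨Pi.single j 1, e_mem M hM1 j⟩ : ↥N) : Fin n → K) i := by
    ext i j; rfl
  have hBK : B.map (algebraMap ↥(integralClosure O K) K)
      = Matrix.of fun i j => ((φ.symm.toLinearMap ⟨Pi.single j 1, e_mem N hN1 j⟩ : ↥M) : Fin n → K) i := by
    ext i j; rfl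
  have hφ : ∀ x : ↥M, ((φ x : ↥N) : Fin n → K)
      = (A.map (algebraMap ↥(integralClosure O K) K)).mulVec (x : Fin n → K) := by
    intro x
    rw [hAK]
    exact map_eq_mulVec M N hM1 φ.toLinearMap x
  have hψ : ∀ y : ↥N, ((φ.symm y : ↥M) : Fin n → K)
      = (B.map (algebraMap ↥(integralClosure O K) K)).mulVec (y : Fin n → K) := by
    intro y
    rw [hBK]
    exact map_eq_mulVec N M hN1 φ.symm.toLinearMap y
  refine ⟨A, ?_, hφ⟩
  have hAB : A * B = 1 := by
    apply Matrix.map_injective (f := algebraMap ↥(integralClosure O K) K) Subtype.val_injective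
    show (A * B).map (algebraMap ↥(integralClosure O K) K) = (1 : Matrix (Fin n) (Fin n) ↥(integralClosure O K)).map (algebraMap ↥(integralClosure O K) K)
    rw [Matrix.map_mul, Matrix.map_one _ (map_zero _) (map_one _)]
    ext i j
    have h1 := hψ ⟨Pi.single j 1, e_mem N hN1 j⟩
    have h2 := hφ (φ.symm ⟨Pi.single j 1, e_mem N hN1 j⟩)
    rw [LinearEquiv.apply_symm_apply, h1, Matrix.mulVec_mulVec] at h2
    simp only at h2
    have h3 := congrFun h2 i
    rw [Matrix.mulVec_single_one, Matrix.col_apply] at h3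
    rw [← h3, Matrix.one_apply, Pi.single_apply]
  exact (Matrix.isUnit_iff_isUnit_det A).mpr (Matrix.isUnit_det_of_right_inverse hAB)

end Aux

/-- Let O be a one-dimensional Noetherian local domain with algebraically closed residue field whose
integral closure O~ in its fraction field K is a finite O-module. If M and N are O-submodules of K^n
with O^n ⊆ M ⊆ O~^n and O^n ⊆ N ⊆ O~^n, then every O-linear isomorphism M → N is the restriction of
x ↦ A·x for an invertible n × n matrix A with entries in O~. -/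
theorem result (O : Type u) [CommRing O] [IsDomain O] [IsNoetherianRing O] [IsLocalRing O] (hdim : ringKrullDim O = 1) [IsAlgClosed (IsLocalRing.ResidueField O)] (K : Type u) [Field K] [Algebra O K] [IsFractionRing O K] (hfin : Module.Finite O ↥(integralClosure O K)) (n : ℕ) (M N : Submodule O (Fin n → K)) (hM1 : Submodule.pi Set.univ (fun _ : Fin n => (1 : Submodule O K)) ≤ M) (hM2 : M ≤ Submodule.pi Set.univ (fun _ : Fin n => (Subalgebra.toSubmodule (integralClosure O K)))) (hN1 : Submodule.pi Set.univ (fun _ : Fin n => (1 : Submodule O K)) ≤ N) (hN2 : N ≤ Submodule.pi Set.univ (fun _ : Fin n => (Subalgebra.toSubmodule (integralClosure O K)))) (φ : ↥M ≃ₗ[O] ↥N) : ∃ A : Matrix (Fin n) (Fin n) ↥(integralClosure O K), IsUnit A ∧ ∀ x : ↥M, ((φ x : ↥N) : Fin n → K) = (A.map (algebraMap ↥(integralClosure O K) K)).mulVec (x : Fin n → K) := by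
  exact Aux.main M N hM1 hM2 hN1 hN2 φ

end Groth.Agent.S15010
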