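import Groth.Statements.S15035
import Mathlib
import Groth.Statements.S15035
import Groth.Agent.S15009
import Groth.Agent.Lib.Helper8.TF7
-- import your own Groth.Agent.* helpers here

set_option autoImplicit false
universe u
open TFCurv

namespace Groth.Agent.S15035

open CategoryTheory
namespace Aux
set_option linter.unusedSectionVars false
set_option linter.style.haveILetI false
open TensorProduct

section DualLattice
variable {O : Type u} [CommRing O] [IsDomain O] {K : Type u} [Field K] [Algebra O K]
  [IsFractionRing O K]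

/-- the standard pairing on `K^m` -/
def pair {m : ℕ} (x y : Fin m → K) : K := ∑ i, x i * y i

theorem pair_add_left {m : ℕ} (x x' y : Fin m → K) : pair (x + x') y = pair x y + pair x' y := by
  simp only [pair, Pi.add_apply, add_mul, Finset.sum_add_distrib]

theorem pair_add_right {m : ℕ} (x y y' : Fin m → K) : pair x (y + y') = pair x y + pair x y' := by
  simp only [pair, Pi.add_apply, mul_add, Finset.sum_add_distrib]

theorem pair_smul_left {m : ℕ} (c : O) (x y : Fin m → K) : pair (c • x) y = c • pair x y := by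
  simp only [pair, Pi.smul_apply, smul_mul_assoc, Finset.smul_sum]

theorem pair_smul_right {m : ℕ} (c : O) (x y : Fin m → K) : pair x (c • y) = c • pair x y := by
  simp only [pair, Pi.smul_apply, mul_smul_comm, Finset.smul_sum]

theorem pair_zero_left {m : ℕ} (y : Fin m → K) : pair (0 : Fin m → K) y = 0 := by
  simp only [pair, Pi.zero_apply, zero_mul, Finset.sum_const_zero]

theorem pair_single {m : ℕ} (x : Fin m → K) (i : Fin m) (a : K) :
    pair x (Pi.single i a) = x i * a := by
  unfold pair
  rw [Finset.sum_eq_single i]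
  · rw [Pi.single_eq_same]
  · intro j _ hji
    rw [Pi.single_eq_of_ne hji, mul_zero]
  · intro h
    exact absurd (Finset.mem_univ i) h

/-- the dual lattice with respect to `ω = 1` -/
def Ld {m : ℕ} (N : Submodule O (Fin m → K)) : Submodule O (Fin m → K) where
  carrier := {x | ∀ y ∈ N, pair x y ∈ (1 : Submodule O K)}
  add_mem' := by
    intro a b ha hb y hy
    rw [pair_add_left]
    exact add_mem (ha y hy) (hb y hy)
  zero_mem' := by
    intro y hy
    rw [pair_zero_left]
    exact zero_mem _
  smul_mem' := by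
    intro c x hx y hy
    rw [pair_smul_left]
    exact Submodule.smul_mem _ c (hx y hy)

theorem mem_Ld {m : ℕ} (N : Submodule O (Fin m → K)) (x : Fin m → K) :
    x ∈ Ld N ↔ ∀ y ∈ N, pair x y ∈ (1 : Submodule O K) := Iff.rfl

theorem single_mem_pi_one {m : ℕ} (i : Fin m) :
    (Pi.single i (1 : K) : Fin m → K) ∈
      Submodule.pi Set.univ (fun _ : Fin m => (1 : Submodule O K)) := by
  rw [Submodule.mem_pi]
  intro j _
  by_cases hji : j = i
  · subst hji
    rw [Pi.single_eq_same]
    exact Submodule.mem_one.mpr ⟨1, map_one _⟩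
  · rw [Pi.single_eq_of_ne hji]
    exact zero_mem _

theorem Ld_le_pi_one {m : ℕ} (N : Submodule O (Fin m → K))
    (h1 : Submodule.pi Set.univ (fun _ : Fin m => (1 : Submodule O K)) ≤ N) :
    Ld N ≤ Submodule.pi Set.univ (fun _ : Fin m => (1 : Submodule O K)) := by
  intro x hx
  rw [Submodule.mem_pi]
  intro i _
  have := hx _ (h1 (single_mem_pi_one (O := O) i))
  rwa [pair_single, mul_one] at this

theorem cond_mul (A : Submodule O K) (x : K) (hx : x ∈ ((1 : Submodule O K).colon A) • (1 : Submodule O K))
    (z : K) (hz : z ∈ A) : x * z ∈ (1 : Submodule O K) := by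
  refine Submodule.smul_induction_on (p := fun x => x * z ∈ (1 : Submodule O K)) hx
    (fun a ha n hn => ?_) (fun x y hx hy => ?_)
  · obtain ⟨b, rfl⟩ := Submodule.mem_one.mp hn
    have h1 : a • z ∈ (1 : Submodule O K) := Submodule.mem_colon.mp ha z hz
    have h2 : (a • algebraMap O K b) * z = b • (a • z) := by
      rw [smul_mul_assoc, ← Algebra.smul_def, smul_comm]
    show (a • algebraMap O K b) * z ∈ (1 : Submodule O K)
    rw [h2]
    exact Submodule.smul_mem _ b h1
  · show (x + y) * z ∈ (1 : Submodule O K)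
    rw [add_mul]
    exact add_mem hx hy

theorem pi_cond_le_Ld {m : ℕ} (A : Submodule O K) (N : Submodule O (Fin m → K))
    (h2 : N ≤ Submodule.pi Set.univ (fun _ : Fin m => A)) :
    Submodule.pi Set.univ (fun _ : Fin m => ((1 : Submodule O K).colon A) • (1 : Submodule O K))
      ≤ Ld N := by
  intro x hx y hy
  rw [Submodule.mem_pi] at hx
  have hy' := h2 hy
  rw [Submodule.mem_pi] at hy'
  unfold pair
  exact Submodule.sum_mem _ (fun i _ => cond_mul A (x i) (hx i trivial) (y i) (hy' i trivial))

/-- `x ↦ ⟨x, -⟩` -/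
def toHom {m : ℕ} (N : Submodule O (Fin m → K)) :
    ↥(Ld N) →ₗ[O] (↥N →ₗ[O] ↥(1 : Submodule O K)) where
  toFun x :=
    { toFun := fun y => ⟨pair x.1 y.1, x.2 y.1 y.2⟩
      map_add' := fun y y' => Subtype.ext (pair_add_right _ _ _)
      map_smul' := fun c y => Subtype.ext (pair_smul_right _ _ _) }
  map_add' x x' := by
    apply LinearMap.ext
    intro y
    exact Subtype.ext (pair_add_left _ _ _)
  map_smul' c x := by
    apply LinearMap.ext
    intro y
    exact Subtype.ext (pair_smul_left _ _ _)

theorem toHom_apply {m : ℕ} (N : Submodule O (Fin m → K)) (x : ↥(Ld N)) (y : ↥N) :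
    ((toHom N x y : ↥(1 : Submodule O K)) : K) = pair x.1 y.1 := rfl

theorem smul_cancel (d : O) (hd : d ≠ 0) (a b : K) (h : d • a = d • b) : a = b := by
  rw [Algebra.smul_def, Algebra.smul_def] at h
  exact mul_left_cancel₀ (fun h0 => hd ((map_eq_zero_iff _ (IsFractionRing.injective O K)).mp h0)) h

theorem toHom_bijective {m : ℕ} (N : Submodule O (Fin m → K))
    (h1 : Submodule.pi Set.univ (fun _ : Fin m => (1 : Submodule O K)) ≤ N) :
    Function.Bijective (toHom N) := by
  have he : ∀ i : Fin m, (Pi.single i (1 : K) : Fin m → K) ∈ N :=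
    fun i => h1 (single_mem_pi_one (O := O) i)
  constructor
  · rw [injective_iff_map_eq_zero]
    intro x hx
    apply Subtype.ext
    funext i
    have h2 := congrArg (fun φ : ↥N →ₗ[O] ↥(1 : Submodule O K) => ((φ ⟨_, he i⟩ : ↥(1 : Submodule O K)) : K)) hx
    simp only [toHom_apply, pair_single, mul_one, LinearMap.zero_apply, ZeroMemClass.coe_zero] at h2
    exact h2
  · intro φ
    let x : Fin m → K := fun i => ((φ ⟨_, he i⟩ : ↥(1 : Submodule O K)) : K)
    have key : ∀ (y : Fin m → K) (hy : y ∈ N), ((φ ⟨y, hy⟩ : ↥(1 : Submodule O K)) : K) = pair x y := by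
      intro y hy
      obtain ⟨d, hd⟩ := IsLocalization.exist_integer_multiples_of_finite (nonZeroDivisors O) y
      choose b hb using hd
      have hd0 : (d : O) ≠ 0 := nonZeroDivisors.coe_ne_zero d
      have hsum : (d : O) • (⟨y, hy⟩ : ↥N) = ∑ i, b i • (⟨_, he i⟩ : ↥N) := by
        apply Subtype.ext
        rw [Submodule.coe_smul, Submodule.coe_sum]
        funext j
        rw [Finset.sum_apply, Pi.smul_apply]
        simp only [Submodule.coe_smul, Pi.smul_apply]
        rw [Finset.sum_eq_single j]
        · rw [Pi.single_eq_same, ← hb j, Algebra.smul_def, mul_one]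
        · intro i _ hij
          rw [Pi.single_eq_of_ne (Ne.symm hij), smul_zero]
        · intro h
          exact absurd (Finset.mem_univ j) h
      have h3 := congrArg (fun z : ↥N => ((φ z : ↥(1 : Submodule O K)) : K)) hsum
      simp only [map_smul, map_sum, Submodule.coe_smul, Submodule.coe_sum] at h3
      apply smul_cancel (d : O) hd0
      rw [h3]
      unfold pair
      rw [Finset.smul_sum]
      apply Finset.sum_congr rfl
      intro i _
      show b i • x i = (d : O) • (x i * y i)
      rw [← mul_smul_comm, ← hb i, Algebra.smul_def, mul_comm]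
    have hx : x ∈ Ld N := by
      intro y hy
      rw [← key y hy]
      exact (φ ⟨y, hy⟩).2
    refine ⟨⟨x, hx⟩, ?_⟩
    apply LinearMap.ext
    rintro ⟨y, hy⟩
    apply Subtype.ext
    rw [toHom_apply]
    exact (key y hy).symm

end DualLattice

section Main
open Groth.Agent.Helper8.TF

variable (O : Type u) [CommRing O] [IsDomain O] (K : Type u) [Field K] [Algebra O K]
  [IsFractionRing O K]

theorem exists_ne_zero_mem_colon (hfin : Module.Finite O ↥(integralClosure O K)) :
    ∃ c : O, c ≠ 0 ∧
      c ∈ (1 : Submodule O K).colon (Subalgebra.toSubmodule (integralClosure O K)) := by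
  have hfg : (Subalgebra.toSubmodule (integralClosure O K)).FG := Module.Finite.iff_fg.mp hfin
  obtain ⟨s, hs⟩ := hfg
  obtain ⟨d, hd⟩ := IsLocalization.exist_integer_multiples_of_finset (nonZeroDivisors O) s
  refine ⟨d, nonZeroDivisors.coe_ne_zero d, ?_⟩
  rw [Submodule.mem_colon]
  intro z hz
  rw [← hs] at hz
  refine Submodule.span_induction (p := fun z _ => (d : O) • z ∈ (1 : Submodule O K))
    ?_ ?_ ?_ ?_ hz
  · intro a ha
    obtain ⟨r, hr⟩ := hd a ha
    exact Submodule.mem_one.mpr ⟨r, hr⟩
  · rw [smul_zero]; exact zero_mem _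
  · intro x y _ _ hx hy
    rw [smul_add]; exact add_mem hx hy
  · intro r x _ hx
    rw [smul_comm]; exact Submodule.smul_mem _ r hx

theorem finrank_sandwich (m : ℕ) (c : O) (hc0 : c ≠ 0) (I : Ideal O) (hc : c ∈ I)
    (L : Submodule O (Fin m → K)) [Module.Finite O ↥L]
    (h1 : Submodule.pi Set.univ (fun _ : Fin m => I • (1 : Submodule O K)) ≤ L) :
    Module.finrank O ↥L = m := by
  apply le_antisymm
  · apply Module.finrank_le_of_rank_le
    have h2 : Module.rank O ↥L ≤ Module.rank O (Fin m → K) :=
      LinearMap.rank_le_of_injective L.subtype (Submodule.injective_subtype L)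
    have h3 : Module.rank K (Fin m → K) = Module.rank O (Fin m → K) :=
      IsFractionRing.rank_right_eq (R := O) (S := K) (N := Fin m → K)
    rw [← h3, rank_fin_fun] at h2
    exact h2
  · have hv : ∀ i : Fin m, (Pi.single i (algebraMap O K c) : Fin m → K) ∈ L := fun i => h1 (by
      rw [Submodule.mem_pi]
      intro j _
      by_cases hji : j = i
      · subst hji
        rw [Pi.single_eq_same]
        have : algebraMap O K c = c • (1 : K) := by rw [Algebra.smul_def, mul_one]
        rw [this]
        exact Submodule.smul_mem_smul hc (Submodule.mem_one.mpr ⟨1, map_one _⟩)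
      · rw [Pi.single_eq_of_ne hji]
        exact zero_mem _)
    let v : Fin m → ↥L := fun i => ⟨_, hv i⟩
    have hli : LinearIndependent O v := by
      rw [Fintype.linearIndependent_iff]
      intro g hg i
      have h4 := congrArg (fun z : ↥L => (z : Fin m → K) i) hg
      simp only [v, Submodule.coe_sum, Submodule.coe_smul, Finset.sum_apply, Pi.smul_apply,
        ZeroMemClass.coe_zero, Pi.zero_apply] at h4
      rw [Finset.sum_eq_single i] at h4
      · rw [Pi.single_eq_same, Algebra.smul_def, mul_eq_zero] at h4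
        rcases h4 with h4 | h4
        · exact (map_eq_zero_iff _ (IsFractionRing.injective O K)).mp h4
        · exact absurd ((map_eq_zero_iff _ (IsFractionRing.injective O K)).mp h4) hc0
      · intro j _ hji
        rw [Pi.single_eq_of_ne (Ne.symm hji), smul_zero]
      · intro h
        exact absurd (Finset.mem_univ i) h
    have := hli.fintype_card_le_finrank
    rwa [Fintype.card_fin] at this

theorem main [LocCoh.IsGorensteinLocalRing O] (hdim : ringKrullDim O = 1)
    [IsAlgClosed (IsLocalRing.ResidueField O)]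
    (hfin : Module.Finite O ↥(integralClosure O K))
    (M : Type u) [AddCommGroup M] [Module O M] [Module.Finite O M] [NoZeroSMulDivisors O M]
    (n : ℕ) (hn : Module.finrank K (TensorProduct O K M) = n) :
    ∃ M'' : Submodule O (Fin n → K),
      Submodule.pi Set.univ (fun _ : Fin n => (((1 : Submodule O K).colon
        (Subalgebra.toSubmodule (integralClosure O K))) • (1 : Submodule O K))) ≤ M'' ∧
      M'' ≤ Submodule.pi Set.univ (fun _ : Fin n => (1 : Submodule O K)) ∧
      Nonempty (M ≃ₗ[O] ↥M'') := by
  obtain ⟨ω, hω⟩ : ∃ ω : Submodule O K, ω = 1 := ⟨_, rfl⟩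
  have hωinj : HasInjectiveDimensionLT (ModuleCat.of O ↥ω) 2 := by
    rw [hω]
    exact hasInjectiveDimensionLT_one (O := O) (K := K) hdim
  have hωfg : ω.FG := by
    rw [hω, Submodule.one_eq_span]
    exact Submodule.fg_span_singleton 1
  have hω1 : (1 : Submodule O K) ≤ ω := hω ▸ le_rfl
  haveI : Module.Finite O (M →ₗ[O] ↥ω) := finite_hom ω hωfg M
  haveI : NoZeroSMulDivisors O (M →ₗ[O] ↥ω) := noZeroSMulDivisors_hom ω M
  obtain ⟨n', hn'⟩ : ∃ n', Module.finrank K (TensorProduct O K (M →ₗ[O] ↥ω)) = n' := ⟨_, rfl⟩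
  obtain ⟨N', hN1, hN2, ⟨e₁⟩⟩ :=
    Groth.Agent.S15009.Aux.main O hdim K hfin (M →ₗ[O] ↥ω) n' hn'
  have hbij := applyₗ_bijective hdim ω hωinj hωfg hω1 hfin M
  subst hω
  let e₀ : M ≃ₗ[O] ((M →ₗ[O] ↥(1 : Submodule O K)) →ₗ[O] ↥(1 : Submodule O K)) :=
    LinearEquiv.ofBijective LinearMap.applyₗ hbij
  let e₂ : ((M →ₗ[O] ↥(1 : Submodule O K)) →ₗ[O] ↥(1 : Submodule O K)) ≃ₗ[O]
      (↥N' →ₗ[O] ↥(1 : Submodule O K)) :=
    LinearEquiv.arrowCongr e₁ (LinearEquiv.refl O ↥(1 : Submodule O K))
  let e₃ : ↥(Ld N') ≃ₗ[O] (↥N' →ₗ[O] ↥(1 : Submodule O K)) :=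
    LinearEquiv.ofBijective (toHom N') (toHom_bijective N' hN1)
  let e : M ≃ₗ[O] ↥(Ld N') := (e₀.trans e₂).trans e₃.symm
  have hC := pi_cond_le_Ld (Subalgebra.toSubmodule (integralClosure O K)) N' hN2
  have h1 := Ld_le_pi_one N' hN1
  haveI : Module.Finite O ↥(Ld N') := Module.Finite.equiv e
  obtain ⟨c, hc0, hc⟩ := exists_ne_zero_mem_colon O K hfin
  have hr1 : Module.finrank O ↥(Ld N') = n' := finrank_sandwich O K n' c hc0 _ hc (Ld N') hC
  have hr2 : Module.finrank K (TensorProduct O K M) = Module.finrank O M :=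
    (TensorProduct.isBaseChange O M K).finrank_eq
  have hr3 : Module.finrank O M = Module.finrank O ↥(Ld N') := LinearEquiv.finrank_eq e
  have hnn : n' = n := by rw [← hr1, ← hr3, ← hr2, hn]
  subst hnn
  exact ⟨Ld N', hC, h1, ⟨e⟩⟩

end Main

end Aux

/-- Let O be a one-dimensional Gorenstein local domain with algebraically closed residue field whose
integral closure O~ in its fraction field K is a finite O-module, and C ⊆ O the conductor of O in
O~. Then every finitely generated torsion-free O-module of rank n is isomorphic to an O-submodule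
M'' of K^n with C^n ⊆ M'' ⊆ O^n. (For a general O the published statement places M'' between (O~*)^n
and ω^n for the canonical ideal ω; only the Gorenstein case ω = O, O~* = C is stated.) -/
theorem result (O : Type u) [CommRing O] [IsDomain O] [LocCoh.IsGorensteinLocalRing O] (hdim : ringKrullDim O = 1) [IsAlgClosed (IsLocalRing.ResidueField O)] (K : Type u) [Field K] [Algebra O K] [IsFractionRing O K] (hfin : Module.Finite O ↥(integralClosure O K)) (M : Type u) [AddCommGroup M] [Module O M] [Module.Finite O M] [NoZeroSMulDivisors O M] (n : ℕ) (hn : Module.finrank K (TensorProduct O K M) = n) : ∃ M'' : Submodule O (Fin n → K), Submodule.pi Set.univ (fun _ : Fin n => (((1 : Submodule O K).colon (Subalgebra.toSubmodule (integralClosure O K))) • (1 : Submodule O K))) ≤ M'' ∧ M'' ≤ Submodule.pi Set.univ (fun _ : Fin n => (1 : Submodule O K)) ∧ Nonempty (M ≃ₗ[O] ↥M'') := by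
  exact Aux.main O K hdim hfin M n hn

end Groth.Agent.S15035
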