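import Groth.Statements.S15012
import Mathlib
import Groth.Statements.S15012
import Groth.Agent.S15035
-- import your own Groth.Agent.* helpers here

set_option autoImplicit false
universe u
open TFCurv

namespace Groth.Agent.S15012

open CategoryTheory
namespace Aux
set_option linter.unusedSectionVars false
set_option linter.style.haveILetI false
set_option linter.unusedVariables false
open TensorProduct
open Groth.Agent.Helper8.TF
open Groth.Agent.S15035.Aux

section Residue
variable {O : Type u} [CommRing O] [IsLocalRing O] [IsAlgClosed (IsLocalRing.ResidueField O)]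
  {A : Type u} [CommRing A] [Algebra O A] [Algebra.IsIntegral O A]

theorem exists_sub_mem (m' : Ideal A) [hm : m'.IsMaximal] (a : A) :
    ∃ o : O, a - algebraMap O A o ∈ m' := by
  letI : Field (A ⧸ m') := Ideal.Quotient.field m'
  have hcomap : (m'.comap (algebraMap O A)) = IsLocalRing.maximalIdeal O := by
    haveI : (m'.comap (algebraMap O A)).IsMaximal :=
      Ideal.isMaximal_comap_of_isIntegral_of_isMaximal (R := O) m'
    exact IsLocalRing.eq_maximalIdeal inferInstance
  let φ : IsLocalRing.ResidueField O →+* A ⧸ m' :=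
    Ideal.Quotient.lift (IsLocalRing.maximalIdeal O)
      ((Ideal.Quotient.mk m').comp (algebraMap O A)) (by
        intro x hx
        rw [← hcomap] at hx
        exact Ideal.Quotient.eq_zero_iff_mem.mpr hx)
  have hφ : ∀ x : O, φ (IsLocalRing.residue O x) = Ideal.Quotient.mk m' (algebraMap O A x) :=
    fun x => rfl
  letI : Algebra (IsLocalRing.ResidueField O) (A ⧸ m') := φ.toAlgebra
  haveI : Algebra.IsIntegral (IsLocalRing.ResidueField O) (A ⧸ m') := by
    constructor
    intro z
    obtain ⟨a', rfl⟩ := Ideal.Quotient.mk_surjective z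
    obtain ⟨p, hp, hpa⟩ := Algebra.IsIntegral.isIntegral (R := O) a'
    refine ⟨p.map (IsLocalRing.residue O), hp.map _, ?_⟩
    rw [Polynomial.eval₂_map]
    have h1 : (algebraMap (IsLocalRing.ResidueField O) (A ⧸ m')).comp (IsLocalRing.residue O) =
        (Ideal.Quotient.mk m').comp (algebraMap O A) := by
      ext x
      exact hφ x
    rw [h1, ← Polynomial.hom_eval₂, hpa, map_zero]
  have hsurj := (IsAlgClosed.algebraMap_bijective_of_isIntegral
    (k := IsLocalRing.ResidueField O) (K := A ⧸ m')).2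
  obtain ⟨y, hy⟩ := hsurj (Ideal.Quotient.mk m' a)
  obtain ⟨o, rfl⟩ := IsLocalRing.residue_surjective y
  refine ⟨o, ?_⟩
  rw [← Ideal.Quotient.eq]
  exact hy.symm.trans (hφ o)

variable {W : Type u} [AddCommGroup W] [Module O W] [Module A W] [IsScalarTower O A W]

theorem isCoatom_restrictScalars (Q : Submodule A W) (hQ : IsCoatom Q) :
    IsCoatom (Q.restrictScalars O) := by
  haveI : IsSimpleModule A (W ⧸ Q) := isSimpleModule_iff_isCoatom.mpr hQ
  haveI hmax : (Module.annihilator A (W ⧸ Q)).IsMaximal := IsSimpleModule.annihilator_isMaximal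
  constructor
  · intro h
    apply hQ.1
    rw [eq_top_iff]
    intro w _
    have : w ∈ Q.restrictScalars O := by rw [h]; trivial
    exact this
  · intro X hX
    have hstab : ∀ (a : A) (x : W), x ∈ X → a • x ∈ X := by
      intro a x hx
      obtain ⟨o, ho⟩ := exists_sub_mem (O := O) (Module.annihilator A (W ⧸ Q)) a
      have h1 : (a - algebraMap O A o) • x ∈ Q := by
        have := Module.mem_annihilator.mp ho (Submodule.Quotient.mk x)
        rwa [← Submodule.Quotient.mk_smul, Submodule.Quotient.mk_eq_zero] at this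
      have h2 : a • x = (a - algebraMap O A o) • x + o • x := by
        rw [sub_smul, algebraMap_smul, sub_add_cancel]
      rw [h2]
      exact X.add_mem ((le_of_lt hX) h1) (X.smul_mem o hx)
    let XA : Submodule A W :=
      { carrier := X
        add_mem' := X.add_mem
        zero_mem' := X.zero_mem
        smul_mem' := fun a x hx => hstab a x hx }
    have hlt : Q < XA := by
      rw [lt_iff_le_and_ne]
      constructor
      · intro w hw
        exact (le_of_lt hX) hw
      · intro heq
        apply lt_irrefl (Q.restrictScalars O)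
        refine lt_of_lt_of_le hX ?_
        intro w hw
        have : w ∈ XA := hw
        rw [← heq] at this
        exact this
    have htop := hQ.2 XA hlt
    rw [eq_top_iff]
    intro w _
    have : w ∈ XA := by rw [htop]; trivial
    exact this

end Residue

section Lattice
variable (O : Type u) [CommRing O] [IsDomain O] (K : Type u) [Field K] [Algebra O K]
  [IsFractionRing O K]

/-- `Õ^n` as an `Õ`-submodule of `K^n` -/
def FA (n : ℕ) : Submodule ↥(integralClosure O K) (Fin n → K) where
  carrier := {y | ∀ i, y i ∈ integralClosure O K}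
  add_mem' := fun ha hb i => add_mem (ha i) (hb i)
  zero_mem' := fun i => zero_mem _
  smul_mem' := fun a y hy i => by
    show (a • y) i ∈ integralClosure O K
    rw [Pi.smul_apply, Subalgebra.smul_def, smul_eq_mul]
    exact mul_mem a.2 (hy i)

theorem mem_FA (n : ℕ) (y : Fin n → K) : y ∈ FA O K n ↔ ∀ i, y i ∈ integralClosure O K := Iff.rfl

abbrev FO (n : ℕ) : Submodule O (Fin n → K) :=
  Submodule.pi Set.univ (fun _ : Fin n => Subalgebra.toSubmodule (integralClosure O K))

abbrev PO (n : ℕ) : Submodule O (Fin n → K) :=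
  Submodule.pi Set.univ (fun _ : Fin n => (1 : Submodule O K))

abbrev Icond : Ideal O :=
  (1 : Submodule O K).colon (Subalgebra.toSubmodule (integralClosure O K))

abbrev Cs : Submodule O K := (Icond O K) • (1 : Submodule O K)

abbrev Cn (n : ℕ) : Submodule O (Fin n → K) :=
  Submodule.pi Set.univ (fun _ : Fin n => Cs O K)

theorem mem_FO (n : ℕ) (y : Fin n → K) : y ∈ FO O K n ↔ ∀ i, y i ∈ integralClosure O K := by
  simp only [Submodule.mem_pi, Set.mem_univ, true_implies, Subalgebra.mem_toSubmodule]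

theorem FA_restrict (n : ℕ) : (FA O K n).restrictScalars O = FO O K n := by
  ext y
  rw [Submodule.restrictScalars_mem, mem_FA, mem_FO]

theorem mem_Cs_iff (x : K) : x ∈ Cs O K ↔ ∃ r ∈ Icond O K, algebraMap O K r = x := by
  constructor
  · intro hx
    refine Submodule.smul_induction_on (p := fun x => ∃ r ∈ Icond O K, algebraMap O K r = x) hx
      (fun a ha n hn => ?_) (fun x y hx hy => ?_)
    · obtain ⟨b, rfl⟩ := Submodule.mem_one.mp hn
      refine ⟨a * b, Ideal.mul_mem_right b _ ha, ?_⟩
      rw [map_mul, Algebra.smul_def]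
    · obtain ⟨r, hr, rfl⟩ := hx
      obtain ⟨r', hr', rfl⟩ := hy
      exact ⟨r + r', add_mem hr hr', map_add _ _ _⟩
  · rintro ⟨r, hr, rfl⟩
    have : algebraMap O K r = r • (1 : K) := by rw [Algebra.smul_def, mul_one]
    rw [this]
    exact Submodule.smul_mem_smul hr (Submodule.mem_one.mpr ⟨1, map_one _⟩)

theorem Cs_mul (x a : K) (hx : x ∈ Cs O K) (ha : a ∈ integralClosure O K) : x * a ∈ Cs O K := by
  obtain ⟨r, hr, rfl⟩ := (mem_Cs_iff O K x).mp hx
  have h1 : r • a ∈ (1 : Submodule O K) := Submodule.mem_colon.mp hr a ha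
  obtain ⟨r', hr'⟩ := Submodule.mem_one.mp h1
  rw [mem_Cs_iff]
  refine ⟨r', ?_, ?_⟩
  · rw [Submodule.mem_colon]
    intro z hz
    have h2 : r' • z = r • (a * z) := by
      rw [Algebra.smul_def, hr', Algebra.smul_def, Algebra.smul_def, mul_assoc]
    rw [h2]
    have hz' : z ∈ integralClosure O K := hz
    have haz : a * z ∈ integralClosure O K := mul_mem ha hz'
    exact Submodule.mem_colon.mp hr (a * z) haz
  · rw [hr', Algebra.smul_def]

theorem Cs_le_one : Cs O K ≤ 1 := by
  intro x hx
  obtain ⟨r, -, rfl⟩ := (mem_Cs_iff O K x).mp hx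
  exact Submodule.mem_one.mpr ⟨r, rfl⟩

theorem one_le_Ot : (1 : Submodule O K) ≤ Subalgebra.toSubmodule (integralClosure O K) := by
  intro x hx
  obtain ⟨r, rfl⟩ := Submodule.mem_one.mp hx
  exact Subalgebra.algebraMap_mem _ r

theorem Cn_le_PO (n : ℕ) : Cn O K n ≤ PO O K n := by
  intro y hy
  rw [Submodule.mem_pi] at hy ⊢
  exact fun i hi => Cs_le_one O K (hy i hi)

theorem PO_le_FO (n : ℕ) : PO O K n ≤ FO O K n := by
  intro y hy
  rw [Submodule.mem_pi] at hy ⊢
  exact fun i hi => one_le_Ot O K (hy i hi)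

theorem exists_equiv_map_eq [IsNoetherianRing O] [IsLocalRing O] (hdim : ringKrullDim O = 1)
    (hfin : Module.Finite O ↥(integralClosure O K)) (n : ℕ)
    (G : Submodule ↥(integralClosure O K) (Fin n → K)) (hfg : G.FG)
    (hspan : Submodule.span K (G : Set (Fin n → K)) = ⊤) :
    ∃ s : (Fin n → K) ≃ₗ[K] (Fin n → K), ∀ y, y ∈ G ↔ s y ∈ FA O K n := by
  classical
  haveI := Groth.Agent.S15011.Aux.isFractionRing_normalization (O := O) (K := K)
  haveI := Groth.Agent.S15009.Aux.isPID_normalization (K := K) hdim hfin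
  haveI : Module.Finite ↥(integralClosure O K) G := Module.Finite.iff_fg.mpr hfg
  haveI : Module.IsTorsionFree ↥(integralClosure O K) G := by
    apply Module.IsTorsionFree.of_smul_eq_zero
    intro a x hax
    by_cases ha : a = 0
    · exact Or.inl ha
    · right
      apply Subtype.ext
      funext i
      have h1 := congrFun (congrArg Subtype.val hax) i
      simp only [Submodule.coe_smul, Pi.smul_apply, ZeroMemClass.coe_zero, Pi.zero_apply] at h1
      rw [Algebra.smul_def] at h1
      rcases mul_eq_zero.mp h1 with h2 | h2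
      · exact absurd (Subtype.ext h2) ha
      · exact h2
  have hr : Module.finrank ↥(integralClosure O K) G = n :=
    Groth.Agent.S15009.Aux.finrank_lattice n G hspan
  let w : Module.Basis (Fin n) ↥(integralClosure O K) G := Module.finBasisOfFinrankEq _ _ hr
  let bv : Fin n → (Fin n → K) := fun i => ((w i : G) : Fin n → K)
  have hGsub : (G : Set (Fin n → K)) ⊆ Submodule.span K (Set.range bv) := by
    intro x hx
    have h5 : (⟨x, hx⟩ : G) ∈ Submodule.span ↥(integralClosure O K) (Set.range w) := by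
      rw [w.span_eq]; trivial
    have h6 : x ∈ (Submodule.span ↥(integralClosure O K) (Set.range w)).map G.subtype :=
      ⟨⟨x, hx⟩, h5, rfl⟩
    rw [Submodule.map_span, ← Set.range_comp] at h6
    exact Submodule.span_le_restrictScalars ↥(integralClosure O K) K _ h6
  have htop : ⊤ ≤ Submodule.span K (Set.range bv) := by
    rw [← hspan]
    exact Submodule.span_le.mpr hGsub
  let B : Module.Basis (Fin n) K (Fin n → K) :=
    basisOfTopLeSpanOfCardEqFinrank bv htop (by rw [Fintype.card_fin, Module.finrank_fin_fun])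
  have hB : ∀ i, B i = bv i := fun i => by
    show (basisOfTopLeSpanOfCardEqFinrank bv htop _) i = bv i
    rw [coe_basisOfTopLeSpanOfCardEqFinrank]
  let s : (Fin n → K) ≃ₗ[K] (Fin n → K) := B.equiv (Pi.basisFun K (Fin n)) (Equiv.refl _)
  have hs : ∀ i, s (bv i) = Pi.single i (1 : K) := by
    intro i
    rw [← hB i]
    show (B.equiv (Pi.basisFun K (Fin n)) (Equiv.refl _)) (B i) = _
    rw [Module.Basis.equiv_apply, Equiv.refl_apply, Pi.basisFun_apply]
  have hcomb : ∀ c : Fin n → ↥(integralClosure O K),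
      s (∑ i, (c i : K) • bv i) = fun i => (c i : K) := by
    intro c
    rw [map_sum]
    funext j
    rw [Finset.sum_apply]
    simp only [map_smul, hs, Pi.smul_apply, smul_eq_mul]
    rw [Finset.sum_eq_single j]
    · rw [Pi.single_eq_same, mul_one]
    · intro i _ hij
      rw [Pi.single_eq_of_ne (Ne.symm hij), mul_zero]
    · intro h
      exact absurd (Finset.mem_univ j) h
  have hmemG : ∀ c : Fin n → ↥(integralClosure O K), (∑ i, (c i : K) • bv i) ∈ G := by
    intro c
    refine Submodule.sum_mem _ (fun i _ => ?_)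
    have : (c i : K) • bv i = c i • bv i := (Subalgebra.smul_def _ _).symm
    rw [this]
    exact G.smul_mem (c i) (w i).2
  refine ⟨s, fun y => ⟨fun hy => ?_, fun hy => ?_⟩⟩
  · have h1 : y = ∑ i, ((w.repr ⟨y, hy⟩ i : ↥(integralClosure O K)) : K) • bv i := by
      have h2 := w.sum_repr ⟨y, hy⟩
      have h3 := congrArg (Subtype.val : G → (Fin n → K)) h2
      rw [Submodule.coe_sum] at h3
      exact h3.symm.trans (Finset.sum_congr rfl (fun i _ => by
        rw [Submodule.coe_smul, Subalgebra.smul_def]))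
    rw [h1, hcomb]
    intro i
    exact (w.repr ⟨y, hy⟩ i).2
  · let c : Fin n → ↥(integralClosure O K) := fun i => ⟨s y i, hy i⟩
    have h1 : s (∑ i, (c i : K) • bv i) = s y := by
      rw [hcomb]
    rw [← s.injective h1]
    exact hmemG c

end Lattice

section Step
variable (O : Type u) [CommRing O] [IsDomain O] [IsNoetherianRing O] [IsLocalRing O]
  [IsAlgClosed (IsLocalRing.ResidueField O)]
  (K : Type u) [Field K] [Algebra O K] [IsFractionRing O K]

abbrev sO {n : ℕ} (s : (Fin n → K) ≃ₗ[K] (Fin n → K)) : (Fin n → K) →ₗ[O] (Fin n → K) :=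
  (s.toLinearMap).restrictScalars O

theorem sum_single {n : ℕ} (z : Fin n → K) : z = ∑ i, z i • (Pi.single i (1 : K) : Fin n → K) := by
  funext j
  rw [Finset.sum_apply]
  simp only [Pi.smul_apply, smul_eq_mul]
  rw [Finset.sum_eq_single j]
  · rw [Pi.single_eq_same, mul_one]
  · intro i _ hij
    rw [Pi.single_eq_of_ne (Ne.symm hij), mul_zero]
  · intro h
    exact absurd (Finset.mem_univ j) h

theorem single_mem_Cn {n : ℕ} (c : O) (hc : c ∈ Icond O K) (i : Fin n) :
    (Pi.single i (algebraMap O K c) : Fin n → K) ∈ Cn O K n := by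
  rw [Submodule.mem_pi]
  intro j _
  by_cases hji : j = i
  · subst hji
    rw [Pi.single_eq_same]
    exact (mem_Cs_iff O K _).mpr ⟨c, hc, rfl⟩
  · rw [Pi.single_eq_of_ne hji]
    exact zero_mem _

theorem span_eq_top_of_Cn_le (hfin : Module.Finite O ↥(integralClosure O K)) {n : ℕ}
    (S : Set (Fin n → K)) (hS : ((Cn O K n : Submodule O (Fin n → K)) : Set (Fin n → K)) ⊆ S) :
    Submodule.span K S = ⊤ := by
  obtain ⟨c, hc0, hc⟩ := exists_ne_zero_mem_colon O K hfin
  have hcK : algebraMap O K c ≠ 0 := (map_ne_zero_iff _ (IsFractionRing.injective O K)).mpr hc0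
  rw [eq_top_iff]
  intro y _
  have hy : y = ∑ i, (y i / algebraMap O K c) • (Pi.single i (algebraMap O K c) : Fin n → K) := by
    funext j
    rw [Finset.sum_apply]
    simp only [Pi.smul_apply, smul_eq_mul]
    rw [Finset.sum_eq_single j]
    · rw [Pi.single_eq_same, div_mul_cancel₀ _ hcK]
    · intro i _ hij
      rw [Pi.single_eq_of_ne (Ne.symm hij), mul_zero]
    · intro h
      exact absurd (Finset.mem_univ j) h
  rw [hy]
  exact Submodule.sum_mem _ (fun i _ => Submodule.smul_mem _ _
    (Submodule.subset_span (hS (single_mem_Cn O K c hc i))))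

theorem finite_FA (n : ℕ) : Module.Finite ↥(integralClosure O K) ↥(FA O K n) := by
  let ι : (Fin n → ↥(integralClosure O K)) →ₗ[↥(integralClosure O K)] ↥(FA O K n) :=
    { toFun := fun c => ⟨fun i => (c i : K), fun i => (c i).2⟩
      map_add' := fun c d => rfl
      map_smul' := fun a c => rfl }
  have hsurj : Function.Surjective ι := by
    intro y
    exact ⟨fun i => ⟨y.1 i, y.2 i⟩, rfl⟩
  exact Module.Finite.of_surjective ι hsurj

theorem up_step (hdim : ringKrullDim O = 1) (hfin : Module.Finite O ↥(integralClosure O K))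
    (n : ℕ) (L : Submodule O (Fin n → K)) (hCL : Cn O K n ≤ L) (hLF : L ≤ FO O K n)
    (hne : Submodule.span ↥(integralClosure O K) (L : Set (Fin n → K)) ≠ FA O K n) :
    ∃ s : (Fin n → K) ≃ₗ[K] (Fin n → K), L.map (sO O K s) ≤ FO O K n ∧
      Cn O K n ≤ L.map (sO O K s) ∧
      relLen (L.map (sO O K s)) (FO O K n) + 1 = relLen L (FO O K n) := by
  classical
  haveI := Groth.Agent.S15011.Aux.isFractionRing_normalization (O := O) (K := K)
  haveI := Groth.Agent.S15009.Aux.isPID_normalization (K := K) hdim hfin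
  haveI : Module.Finite ↥(integralClosure O K) ↥(FA O K n) := finite_FA O K n
  haveI : IsNoetherian ↥(integralClosure O K) ↥(FA O K n) :=
    isNoetherian_of_isNoetherianRing_of_finite _ _
  set GA := Submodule.span ↥(integralClosure O K) (L : Set (Fin n → K)) with hGA
  have hGA_le : GA ≤ FA O K n :=
    Submodule.span_le.mpr (fun y hy => (mem_FA O K n y).mpr ((mem_FO O K n y).mp (hLF hy)))
  let GA' : Submodule ↥(integralClosure O K) ↥(FA O K n) := GA.comap (FA O K n).subtype
  have hGA'ne : GA' ≠ ⊤ := by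
    intro h
    apply hne
    apply le_antisymm hGA_le
    intro y hy
    have : (⟨y, hy⟩ : ↥(FA O K n)) ∈ GA' := by rw [h]; trivial
    exact this
  obtain ⟨Q, hQ, hGQ⟩ := (eq_top_or_exists_le_coatom GA').resolve_left hGA'ne
  let G'A : Submodule ↥(integralClosure O K) (Fin n → K) := Q.map (FA O K n).subtype
  have hG'le : G'A ≤ FA O K n := by
    rintro _ ⟨x, -, rfl⟩
    exact x.2
  have hmemG' : ∀ (y : Fin n → K) (hy : y ∈ FA O K n), y ∈ G'A ↔ (⟨y, hy⟩ : ↥(FA O K n)) ∈ Q := by
    intro y hy
    constructor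
    · rintro ⟨x, hx, hxy⟩
      have : x = ⟨y, hy⟩ := Subtype.ext hxy
      rwa [← this]
    · intro h
      exact ⟨⟨y, hy⟩, h, rfl⟩
  have hLG' : ∀ y ∈ L, y ∈ G'A := by
    intro y hy
    have h1 : y ∈ GA := Submodule.subset_span hy
    exact (hmemG' y (hGA_le h1)).mpr (hGQ h1)
  have hG'fg : G'A.FG := (IsNoetherian.noetherian Q).map _
  have hG'span : Submodule.span K (G'A : Set (Fin n → K)) = ⊤ :=
    span_eq_top_of_Cn_le O K hfin _ (fun y hy => hLG' y (hCL hy))
  obtain ⟨s, hs⟩ := exists_equiv_map_eq O K hdim hfin n G'A hG'fg hG'span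
  refine ⟨s, ?_, ?_, ?_⟩
  · rintro _ ⟨y, hy, rfl⟩
    rw [mem_FO]
    exact (mem_FA O K n _).mp ((hs y).mp (hLG' y hy))
  · intro z hz
    refine ⟨s.symm z, hCL ?_, s.apply_symm_apply z⟩
    have hu : ∀ i : Fin n, s.symm (Pi.single i (1 : K)) ∈ FA O K n := by
      intro i
      apply hG'le
      rw [hs, s.apply_symm_apply, mem_FA]
      intro j
      by_cases hji : j = i
      · subst hji
        rw [Pi.single_eq_same]
        exact one_mem _
      · rw [Pi.single_eq_of_ne hji]
        exact zero_mem _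
    rw [Submodule.mem_pi] at hz ⊢
    intro j _
    have h1 : s.symm z = ∑ i, z i • s.symm (Pi.single i (1 : K)) := by
      conv_lhs => rw [sum_single K z]
      rw [map_sum]
      exact Finset.sum_congr rfl (fun i _ => map_smul _ _ _)
    rw [h1, Finset.sum_apply]
    refine Submodule.sum_mem _ (fun i _ => ?_)
    rw [Pi.smul_apply, smul_eq_mul]
    exact Cs_mul O K _ _ (hz i trivial) ((mem_FA O K n _).mp (hu i) j)
  · let G' : Submodule O (Fin n → K) := G'A.restrictScalars O
    have hLG'O : L ≤ G' := hLG'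
    have hG'F : G' ≤ FO O K n := by
      intro y hy
      rw [mem_FO]
      exact (mem_FA O K n y).mp (hG'le hy)
    have hmapG' : G'.map (sO O K s) = FO O K n := by
      ext z
      constructor
      · rintro ⟨y, hy, rfl⟩
        rw [mem_FO]
        exact (mem_FA O K n _).mp ((hs y).mp hy)
      · intro hz
        refine ⟨s.symm z, (hs _).mpr ?_, s.apply_symm_apply z⟩
        rw [s.apply_symm_apply, mem_FA]
        exact (mem_FO O K n z).mp hz
    have h1 : relLen L (FO O K n) = relLen L G' + relLen G' (FO O K n) := relLen_add hLG'O hG'F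
    have h2 : relLen (L.map (sO O K s)) (FO O K n) = relLen L G' := by
      have := relLen_map (sO O K s) s.injective L G'
      rw [hmapG'] at this
      exact this
    have h3 : relLen G' (FO O K n) = 1 := by
      haveI : Algebra.IsIntegral O ↥(integralClosure O K) := inferInstance
      have hQO : IsCoatom (Q.restrictScalars O) := isCoatom_restrictScalars (O := O) Q hQ
      let f : ↥(FO O K n) ≃ₗ[O] ↥(FA O K n) :=
        { toFun := fun y => ⟨y.1, (mem_FA O K n _).mpr ((mem_FO O K n _).mp y.2)⟩
          map_add' := fun a b => rfl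
          map_smul' := fun c a => rfl
          invFun := fun y => ⟨y.1, (mem_FO O K n _).mpr ((mem_FA O K n _).mp y.2)⟩
          left_inv := fun y => rfl
          right_inv := fun y => rfl }
      have hf : (Submodule.comap (FO O K n).subtype G').map (f : ↥(FO O K n) →ₗ[O] ↥(FA O K n)) =
          Q.restrictScalars O := by
        ext x
        constructor
        · rintro ⟨y, hy, rfl⟩
          have hy' : (y : Fin n → K) ∈ G'A := hy
          exact (hmemG' _ _).mp hy'
        · intro hx
          refine ⟨f.symm x, ?_, f.apply_symm_apply x⟩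
          show ((f.symm x : ↥(FO O K n)) : Fin n → K) ∈ G'A
          exact (hmemG' x.1 x.2).mpr hx
      have e := Submodule.Quotient.equiv (Submodule.comap (FO O K n).subtype G')
        (Q.restrictScalars O) f hf
      unfold relLen
      rw [e.length_eq]
      exact Module.length_eq_one_iff.mpr (isSimpleModule_iff_isCoatom.mpr hQO)
    rw [h2, h1, h3]

end Step

section Final
variable (O : Type u) [CommRing O] [IsDomain O] [IsNoetherianRing O] [IsLocalRing O]
  [IsAlgClosed (IsLocalRing.ResidueField O)]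
  (K : Type u) [Field K] [Algebra O K] [IsFractionRing O K]

theorem exists_smul_mem_Cn (hfin : Module.Finite O ↥(integralClosure O K)) {n : ℕ}
    (y : Fin n → K) : ∃ d : O, d ≠ 0 ∧ d • y ∈ Cn O K n := by
  obtain ⟨c, hc0, hc⟩ := exists_ne_zero_mem_colon O K hfin
  obtain ⟨b, hb⟩ := IsLocalization.exist_integer_multiples_of_finite (nonZeroDivisors O) y
  refine ⟨c * b, mul_ne_zero hc0 (nonZeroDivisors.ne_zero b.2), ?_⟩
  rw [Submodule.mem_pi]
  intro i _
  obtain ⟨r, hr⟩ := hb i
  rw [mem_Cs_iff]
  refine ⟨c * r, Ideal.mul_mem_right r _ hc, ?_⟩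
  rw [Pi.smul_apply, map_mul, hr, mul_smul, Algebra.smul_def c]

theorem isLocalizedModule_subtype (hfin : Module.Finite O ↥(integralClosure O K)) {n : ℕ}
    (L : Submodule O (Fin n → K)) (hCL : Cn O K n ≤ L) :
    IsLocalizedModule (nonZeroDivisors O) L.subtype where
  map_units s := (isLocalizedModule_id (R := O) (S := nonZeroDivisors O) (Fin n → K) K).map_units s
  surj y := by
    obtain ⟨d, hd0, hd⟩ := exists_smul_mem_Cn O K hfin y
    exact ⟨(⟨d • y, hCL hd⟩, ⟨d, mem_nonZeroDivisors_of_ne_zero hd0⟩), rfl⟩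
  exists_of_eq h := ⟨1, by rw [Subtype.ext h]⟩

theorem span_eq_FA {n : ℕ} (L₀ : Submodule O (Fin n → K)) (hPL₀ : PO O K n ≤ L₀)
    (hL₀F : L₀ ≤ FO O K n) :
    Submodule.span ↥(integralClosure O K) (L₀ : Set (Fin n → K)) = FA O K n := by
  classical
  apply le_antisymm
  · exact Submodule.span_le.mpr (fun y hy => (mem_FA O K n y).mpr ((mem_FO O K n y).mp (hL₀F hy)))
  · intro y hy
    rw [sum_single K y]
    refine Submodule.sum_mem _ (fun i _ => ?_)
    have h1 : (Pi.single i (1 : K) : Fin n → K) ∈ L₀ := by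
      apply hPL₀
      rw [Submodule.mem_pi]
      intro j _
      by_cases hji : j = i
      · subst hji
        rw [Pi.single_eq_same]
        exact Submodule.mem_one.mpr ⟨1, map_one _⟩
      · rw [Pi.single_eq_of_ne hji]
        exact zero_mem _
    have h2 : y i • (Pi.single i (1 : K) : Fin n → K) =
        (⟨y i, hy i⟩ : ↥(integralClosure O K)) • (Pi.single i (1 : K) : Fin n → K) := by
      rw [Subalgebra.smul_def]
    rw [h2]
    exact Submodule.smul_mem _ _ (Submodule.subset_span h1)

theorem relLen_eq_of_equiv (hfin : Module.Finite O ↥(integralClosure O K)) {n : ℕ}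
    (L L₀ : Submodule O (Fin n → K)) (hCL : Cn O K n ≤ L) (hLF : L ≤ FO O K n)
    (hPL₀ : PO O K n ≤ L₀) (hL₀F : L₀ ≤ FO O K n)
    (hspan : Submodule.span ↥(integralClosure O K) (L : Set (Fin n → K)) = FA O K n)
    (φ : ↥L ≃ₗ[O] ↥L₀) : relLen L (FO O K n) = relLen L₀ (FO O K n) := by
  haveI := isLocalizedModule_subtype O K hfin L hCL
  haveI := isLocalizedModule_subtype O K hfin L₀ ((Cn_le_PO O K n).trans hPL₀)
  let gO : (Fin n → K) →ₗ[O] (Fin n → K) :=
    IsLocalizedModule.map (nonZeroDivisors O) L.subtype L₀.subtype φ.toLinearMap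
  have hg : ∀ y : ↥L, gO (y : Fin n → K) = (φ y : Fin n → K) := fun y =>
    IsLocalizedModule.map_apply (nonZeroDivisors O) L.subtype L₀.subtype φ.toLinearMap y
  have hginj : Function.Injective gO :=
    IsLocalizedModule.map_injective (nonZeroDivisors O) L.subtype L₀.subtype φ.toLinearMap
      φ.injective
  let gK : (Fin n → K) →ₗ[K] (Fin n → K) :=
    LinearMap.extendScalarsOfIsLocalization (nonZeroDivisors O) K gO
  have hgK : ∀ y, gK y = gO y := fun y => rfl
  have hmapL : L.map gO = L₀ := by
    ext z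
    constructor
    · rintro ⟨y, hy, rfl⟩
      rw [hg ⟨y, hy⟩]
      exact (φ ⟨y, hy⟩).2
    · intro hz
      refine ⟨(φ.symm ⟨z, hz⟩ : Fin n → K), (φ.symm ⟨z, hz⟩).2, ?_⟩
      rw [hg, φ.apply_symm_apply]
  have hspan₀ := span_eq_FA O K L₀ hPL₀ hL₀F
  let gA : (Fin n → K) →ₗ[↥(integralClosure O K)] (Fin n → K) :=
    gK.restrictScalars ↥(integralClosure O K)
  have hgA : ∀ y, gA y = gO y := fun y => rfl
  have hmapFA : (FA O K n).map gA = FA O K n := by
    have h1 : (Submodule.span ↥(integralClosure O K) (L : Set (Fin n → K))).map gA =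
        Submodule.span ↥(integralClosure O K) (L₀ : Set (Fin n → K)) := by
      rw [Submodule.map_span]
      congr 1
      ext z
      constructor
      · rintro ⟨y, hy, rfl⟩
        rw [hgA, hg ⟨y, hy⟩]
        exact (φ ⟨y, hy⟩).2
      · intro hz
        refine ⟨(φ.symm ⟨z, hz⟩ : Fin n → K), (φ.symm ⟨z, hz⟩).2, ?_⟩
        rw [hgA, hg, φ.apply_symm_apply]
    rw [hspan, hspan₀] at h1
    exact h1
  have hmapF : (FO O K n).map gO = FO O K n := by
    ext z
    constructor
    · rintro ⟨y, hy, rfl⟩
      have h1 : gA y ∈ (FA O K n).map gA := ⟨y, (mem_FA O K n y).mpr ((mem_FO O K n y).mp hy), rfl⟩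
      rw [hmapFA] at h1
      exact (mem_FO O K n _).mpr ((mem_FA O K n _).mp h1)
    · intro hz
      have h1 : z ∈ (FA O K n).map gA := by
        rw [hmapFA]
        exact (mem_FA O K n z).mpr ((mem_FO O K n z).mp hz)
      obtain ⟨y, hy, hyz⟩ := h1
      exact ⟨y, (mem_FO O K n y).mpr ((mem_FA O K n y).mp hy), hyz⟩
  have := relLen_map gO hginj L (FO O K n)
  rw [hmapL, hmapF] at this
  exact this.symm

theorem relLen_Cn_PO (n : ℕ) :
    relLen (Cn O K n) (PO O K n) = (n : ℕ∞) * Module.length O (O ⧸ Icond O K) := by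
  classical
  let m : (Fin n → O) →ₗ[O] (Fin n → K) := (Algebra.linearMap O K).compLeft (Fin n)
  have hm : ∀ r i, m r i = algebraMap O K (r i) := fun r i => rfl
  have hmem : ∀ r, m r ∈ PO O K n := by
    intro r
    rw [Submodule.mem_pi]
    intro i _
    exact Submodule.mem_one.mpr ⟨r i, rfl⟩
  let e0 : (Fin n → O) →ₗ[O] ↥(PO O K n) := m.codRestrict _ hmem
  have he0 : ∀ r i, ((e0 r : ↥(PO O K n)) : Fin n → K) i = algebraMap O K (r i) := fun r i => rfl
  have hinj : Function.Injective e0 := by
    intro r r' h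
    funext i
    have := congrFun (congrArg Subtype.val h) i
    exact IsFractionRing.injective O K this
  have hsurj : Function.Surjective e0 := by
    intro y
    have hy := y.2
    rw [Submodule.mem_pi] at hy
    choose r hr using fun i => Submodule.mem_one.mp (hy i trivial)
    exact ⟨r, Subtype.ext (funext hr)⟩
  let e : (Fin n → O) ≃ₗ[O] ↥(PO O K n) := LinearEquiv.ofBijective e0 ⟨hinj, hsurj⟩
  have he : ∀ r i, ((e r : ↥(PO O K n)) : Fin n → K) i = algebraMap O K (r i) := fun r i => rfl
  have hmap : (Submodule.pi Set.univ (fun _ : Fin n => (Icond O K : Submodule O O))).map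
      (e : (Fin n → O) →ₗ[O] ↥(PO O K n)) = Submodule.comap (PO O K n).subtype (Cn O K n) := by
    ext y
    constructor
    · rintro ⟨r, hr, rfl⟩
      show ((e r : ↥(PO O K n)) : Fin n → K) ∈ Cn O K n
      rw [SetLike.mem_coe, Submodule.mem_pi] at hr
      rw [Submodule.mem_pi]
      intro i _
      exact (mem_Cs_iff O K _).mpr ⟨r i, hr i trivial, (he r i).symm⟩
    · intro hy
      have hy' : (y : Fin n → K) ∈ Cn O K n := hy
      rw [Submodule.mem_pi] at hy'
      choose r hr hr' using fun i => (mem_Cs_iff O K _).mp (hy' i trivial)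
      refine ⟨r, ?_, Subtype.ext (funext hr')⟩
      rw [SetLike.mem_coe, Submodule.mem_pi]
      exact fun i _ => hr i
  have E := Submodule.Quotient.equiv _ _ e hmap
  unfold relLen
  rw [← E.length_eq, (Submodule.quotientPi _).length_eq, Module.length_pi_of_fintype]
  rw [Finset.sum_const, Finset.card_univ, Fintype.card_fin, nsmul_eq_mul]

theorem relLen_Cn_FO_ne_top (hdim : ringKrullDim O = 1)
    (hfin : Module.Finite O ↥(integralClosure O K)) (n : ℕ) :
    relLen (Cn O K n) (FO O K n) ≠ ⊤ := by
  obtain ⟨c, hc0, hc⟩ := exists_ne_zero_mem_colon O K hfin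
  haveI : Module.Finite ↥(integralClosure O K) ↥(FA O K n) := finite_FA O K n
  haveI : Module.Finite O ↥(FA O K n) := Module.Finite.trans ↥(integralClosure O K) _
  let f : ↥(FO O K n) ≃ₗ[O] ↥(FA O K n) :=
    { toFun := fun y => ⟨y.1, (mem_FA O K n _).mpr ((mem_FO O K n _).mp y.2)⟩
      map_add' := fun a b => rfl
      map_smul' := fun c a => rfl
      invFun := fun y => ⟨y.1, (mem_FO O K n _).mpr ((mem_FA O K n _).mp y.2)⟩
      left_inv := fun y => rfl
      right_inv := fun y => rfl }
  haveI : Module.Finite O ↥(FO O K n) := Module.Finite.equiv f.symm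
  unfold relLen
  rw [Module.length_ne_top_iff]
  refine isFiniteLength_of_smul_eq_zero hdim _ c hc0 ?_
  intro t
  obtain ⟨y, rfl⟩ := Submodule.Quotient.mk_surjective _ t
  rw [← Submodule.Quotient.mk_smul, Submodule.Quotient.mk_eq_zero]
  show ((c • y : ↥(FO O K n)) : Fin n → K) ∈ Cn O K n
  rw [Submodule.mem_pi]
  intro i _
  have hyi : (y : Fin n → K) i ∈ integralClosure O K := (mem_FO O K n _).mp y.2 i
  have h1 : algebraMap O K c ∈ Cs O K := (mem_Cs_iff O K _).mpr ⟨c, hc, rfl⟩
  have h2 := Cs_mul O K _ _ h1 hyi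
  rw [Submodule.coe_smul, Pi.smul_apply, Algebra.smul_def]
  exact h2

theorem enat_cancel (x : ℕ∞) (r j : ℕ) (h : x + 1 = (r : ℕ∞) + ((j + 1 : ℕ) : ℕ∞)) :
    x = (r : ℕ∞) + (j : ℕ∞) := by
  induction x using ENat.recTopCoe with
  | top =>
    exfalso
    rw [top_add] at h
    exact ENat.coe_ne_top _ (by rw [Nat.cast_add]; exact h.symm)
  | coe k =>
    norm_cast at h ⊢
    omega

theorem enat_absurd (a : ℕ∞) (r j : ℕ)
    (h : (r : ℕ∞) = a + ((r : ℕ∞) + ((j + 1 : ℕ) : ℕ∞))) : False := by
  induction a using ENat.recTopCoe with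
  | top =>
    rw [top_add] at h
    exact ENat.coe_ne_top _ h
  | coe k =>
    norm_cast at h
    omega

end Final

theorem main (O : Type u) [CommRing O] [IsDomain O] [LocCoh.IsGorensteinLocalRing O]
    (hdim : ringKrullDim O = 1) [IsAlgClosed (IsLocalRing.ResidueField O)]
    (K : Type u) [Field K] [Algebra O K] [IsFractionRing O K]
    (hfin : Module.Finite O ↥(integralClosure O K))
    (M : Type u) [AddCommGroup M] [Module O M] [Module.Finite O M] [NoZeroSMulDivisors O M]
    (n : ℕ) (hn : Module.finrank K (TensorProduct O K M) = n) :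
    ∃ M' : Submodule O (Fin n → K), Cn O K n ≤ M' ∧ M' ≤ FO O K n ∧ Nonempty (M ≃ₗ[O] ↥M') ∧
      relLen (Cn O K n) M' = (n : ℕ∞) * Module.length O (O ⧸ Icond O K) := by
  obtain ⟨L₂, hCL₂, hL₂P, ⟨e₂⟩⟩ := Groth.Agent.S15035.Aux.main O K hdim hfin M n hn
  obtain ⟨L₀, hPL₀, hL₀F, ⟨e₀⟩⟩ := Groth.Agent.S15009.Aux.main O hdim K hfin M n hn
  have hT : relLen (Cn O K n) (FO O K n) ≠ ⊤ := relLen_Cn_FO_ne_top O K hdim hfin n
  have hTsplit : relLen (Cn O K n) (FO O K n) =
      relLen (Cn O K n) (PO O K n) + relLen (PO O K n) (FO O K n) :=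
    relLen_add (Cn_le_PO O K n) (PO_le_FO O K n)
  have hρtop : relLen (PO O K n) (FO O K n) ≠ ⊤ := by
    intro h
    apply hT
    rw [hTsplit, h, add_top]
  obtain ⟨r, hr⟩ := ENat.ne_top_iff_exists.mp hρtop
  have key : ∀ j : ℕ, ∀ L : Submodule O (Fin n → K), Cn O K n ≤ L → L ≤ FO O K n →
      Nonempty (M ≃ₗ[O] ↥L) → relLen L (FO O K n) = (r : ℕ∞) + (j : ℕ∞) →
      ∃ L' : Submodule O (Fin n → K), Cn O K n ≤ L' ∧ L' ≤ FO O K n ∧ Nonempty (M ≃ₗ[O] ↥L') ∧
        relLen L' (FO O K n) = (r : ℕ∞) := by
    intro j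
    induction j with
    | zero =>
      intro L h1 h2 h3 h4
      refine ⟨L, h1, h2, h3, ?_⟩
      rw [h4, Nat.cast_zero, add_zero]
    | succ j ih =>
      intro L h1 h2 h3 h4
      obtain ⟨e⟩ := h3
      have hne : Submodule.span ↥(integralClosure O K) (L : Set (Fin n → K)) ≠ FA O K n := by
        intro hspan
        have h5 := relLen_eq_of_equiv O K hfin L L₀ h1 h2 hPL₀ hL₀F hspan (e.symm.trans e₀)
        have h6 : relLen (PO O K n) (FO O K n) =
            relLen (PO O K n) L₀ + relLen L₀ (FO O K n) := relLen_add hPL₀ hL₀F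
        rw [← h5, h4, ← hr] at h6
        exact enat_absurd _ r j h6
      obtain ⟨s, hs1, hs2, hs3⟩ := up_step O K hdim hfin n L h1 h2 hne
      refine ih (L.map (sO O K s)) hs2 hs1
        ⟨e.trans (Submodule.equivMapOfInjective (sO O K s) s.injective L)⟩ ?_
      rw [h4] at hs3
      exact enat_cancel _ r j hs3
  -- starting point
  have h7 : relLen (Cn O K n) (FO O K n) =
      relLen (Cn O K n) L₂ + relLen L₂ (FO O K n) :=
    relLen_add hCL₂ (hL₂P.trans (PO_le_FO O K n))
  have h8 : relLen L₂ (FO O K n) = relLen L₂ (PO O K n) + relLen (PO O K n) (FO O K n) :=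
    relLen_add hL₂P (PO_le_FO O K n)
  have h9 : relLen L₂ (PO O K n) ≠ ⊤ := by
    intro h
    apply hT
    rw [h7, h8, h, top_add, add_top]
  obtain ⟨j, hj⟩ := ENat.ne_top_iff_exists.mp h9
  have h10 : relLen L₂ (FO O K n) = (r : ℕ∞) + (j : ℕ∞) := by
    rw [h8, ← hj, ← hr, add_comm]
  obtain ⟨L', hL'1, hL'2, hL'3, hL'4⟩ :=
    key j L₂ hCL₂ (hL₂P.trans (PO_le_FO O K n)) ⟨e₂⟩ h10
  refine ⟨L', hL'1, hL'2, hL'3, ?_⟩
  have h11 : relLen (Cn O K n) (FO O K n) = relLen (Cn O K n) L' + relLen L' (FO O K n) :=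
    relLen_add hL'1 hL'2
  rw [hTsplit, hL'4, ← hr, relLen_Cn_PO] at h11
  exact (ENat.add_left_injective_of_ne_top (ENat.coe_ne_top r) h11).symm


end Aux

/-- Let O be a one-dimensional Gorenstein local domain with algebraically closed residue field whose
integral closure O~ in its fraction field K is a finite O-module, and let C ⊆ O be the conductor of
O in O~. Every finitely generated torsion-free O-module of rank n is isomorphic to an O-submodule M'
of K^n with C^n ⊆ M' ⊆ O~^n and length(M'/C^n) = n · length(O/C); that is, every isomorphism class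
of rank-n torsion-free modules is represented by a submodule of (O~/C)^n of the same length as
(O/C)^n. -/
theorem result (O : Type u) [CommRing O] [IsDomain O] [LocCoh.IsGorensteinLocalRing O] (hdim : ringKrullDim O = 1) [IsAlgClosed (IsLocalRing.ResidueField O)] (K : Type u) [Field K] [Algebra O K] [IsFractionRing O K] (hfin : Module.Finite O ↥(integralClosure O K)) (M : Type u) [AddCommGroup M] [Module O M] [Module.Finite O M] [NoZeroSMulDivisors O M] (n : ℕ) (hn : Module.finrank K (TensorProduct O K M) = n) : ∃ M' : Submodule O (Fin n → K), Submodule.pi Set.univ (fun _ : Fin n => (((1 : Submodule O K).colon (Subalgebra.toSubmodule (integralClosure O K))) • (1 : Submodule O K))) ≤ M' ∧ M' ≤ Submodule.pi Set.univ (fun _ : Fin n => (Subalgebra.toSubmodule (integralClosure O K))) ∧ Nonempty (M ≃ₗ[O] ↥M') ∧ Module.length O (↥M' ⧸ Submodule.comap M'.subtype (Submodule.pi Set.univ (fun _ : Fin n => (((1 : Submodule O K).colon (Subalgebra.toSubmodule (integralClosure O K))) • (1 : Submodule O K))))) = (n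 : ℕ∞) * Module.length O (O ⧸ ((1 : Submodule O K).colon (Subalgebra.toSubmodule (integralClosure O K)))) := by
  exact Aux.main O hdim K hfin M n hn

end Groth.Agent.S15012
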