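import Groth.Statements.S15013
import Mathlib
-- import your own Groth.Agent.* helpers here

set_option autoImplicit false
universe u
open CategoryTheory
open TFCurv

namespace Groth.Agent.S15013

open CategoryTheory
namespace Aux

open TensorProduct in
theorem exists_injective_to_free (O : Type u) [CommRing O] [IsDomain O] (K : Type u) [Field K]
    [Algebra O K] [IsFractionRing O K] (M : Type u) [AddCommGroup M] [Module O M]
    [Module.Finite O M] [NoZeroSMulDivisors O M] :
    ∃ (n : ℕ) (f : M →ₗ[O] (Fin n → O)), Function.Injective f := by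
  classical
  let V := K ⊗[O] M
  let n := Module.finrank K V
  let b : Module.Basis (Fin n) K V := Module.finBasis K V
  let j : M →ₗ[O] V := TensorProduct.mk O K M 1
  have hloc : IsLocalizedModule (nonZeroDivisors O) j :=
    (isLocalizedModule_iff_isBaseChange (nonZeroDivisors O) K j).mpr
      (TensorProduct.isBaseChange O M K)
  have hj : Function.Injective j := by
    rw [injective_iff_map_eq_zero]
    intro m hm
    obtain ⟨c, hc⟩ := (IsLocalizedModule.eq_zero_iff (nonZeroDivisors O) j).mp hm
    have hc' : (c : O) • m = 0 := hc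
    rcases eq_zero_or_eq_zero_of_smul_eq_zero hc' with h | h
    · exact absurd h (nonZeroDivisors.coe_ne_zero c)
    · exact h
  let ψ₀ : M →ₗ[O] (Fin n → K) := (b.equivFun.toLinearMap.restrictScalars O) ∘ₗ j
  have hψ₀ : Function.Injective ψ₀ := by
    intro x y h
    exact hj (b.equivFun.injective h)
  obtain ⟨T, hT⟩ := (Module.Finite.fg_top : (⊤ : Submodule O M).FG)
  obtain ⟨s, hs⟩ := IsLocalization.exist_integer_multiples (nonZeroDivisors O) (T ×ˢ Finset.univ)
    (fun p : M × Fin n => ψ₀ p.1 p.2)
  let ι : (Fin n → O) →ₗ[O] (Fin n → K) := (Algebra.linearMap O K).compLeft (Fin n)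
  have hι : Function.Injective ι := by
    intro x y h
    funext i
    exact IsFractionRing.injective O K (congrFun h i)
  let ψ : M →ₗ[O] (Fin n → K) := (s : O) • ψ₀
  have hψ : Function.Injective ψ := by
    rw [injective_iff_map_eq_zero]
    intro m hm
    have h1 : ψ₀ ((s : O) • m) = 0 := by rw [map_smul]; exact hm
    have h2 := (injective_iff_map_eq_zero ψ₀).mp hψ₀ _ h1
    rcases eq_zero_or_eq_zero_of_smul_eq_zero h2 with h | h
    · exact absurd h (nonZeroDivisors.coe_ne_zero s)
    · exact h
  have hrange : LinearMap.range ψ ≤ LinearMap.range ι := by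
    rw [LinearMap.range_eq_map, ← hT, Submodule.map_span, Submodule.span_le]
    rintro _ ⟨m, hm, rfl⟩
    have : ∀ i : Fin n, ∃ a : O, algebraMap O K a = (s : O) • ψ₀ m i := by
      intro i
      exact hs (m, i) (Finset.mem_product.mpr ⟨hm, Finset.mem_univ i⟩)
    choose a ha using this
    exact ⟨a, funext fun i => ha i⟩
  refine ⟨n, (LinearEquiv.ofInjective ι hι).symm.toLinearMap ∘ₗ
    (ψ.codRestrict (LinearMap.range ι) (fun m => hrange ⟨m, rfl⟩)), ?_⟩
  intro x y h
  have h1 := (LinearEquiv.ofInjective ι hι).symm.injective h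
  have h2 := congrArg Subtype.val h1
  exact hψ h2


theorem main (O : Type u) [CommRing O] [IsDomain O] (K : Type u) [Field K] [Algebra O K]
    [IsFractionRing O K] (ω : Submodule O K)
    (hωinj : HasInjectiveDimensionLT (ModuleCat.of O ↥ω) 2) (M : Type u) [AddCommGroup M]
    [Module O M] [Module.Finite O M] [NoZeroSMulDivisors O M] (i : ℕ) (hi : 1 ≤ i) :
    Subsingleton (Abelian.Ext (ModuleCat.of O M) (ModuleCat.of O ↥ω) i) := by
  rcases Nat.lt_or_ge i 2 with h2 | h2
  · obtain rfl : i = 1 := by omega
    obtain ⟨n, f, hf⟩ := exists_injective_to_free O K M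
    let g : (Fin n → O) →ₗ[O] ((Fin n → O) ⧸ LinearMap.range f) := (LinearMap.range f).mkQ
    let S : ShortComplex (ModuleCat.{u} O) :=
      ShortComplex.mk (ModuleCat.ofHom f) (ModuleCat.ofHom g) (by
        ext x
        simp [g])
    have hmono : Mono S.f := (ModuleCat.mono_iff_injective _).mpr hf
    have hepi : Epi S.g := (ModuleCat.epi_iff_surjective _).mpr (Submodule.mkQ_surjective _)
    have hS : S.ShortExact := by
      refine ⟨?_⟩
      · rw [ShortComplex.ShortExact.moduleCat_exact_iff_function_exact]
        intro y
        constructor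
        · intro hy
          have : y ∈ LinearMap.range f := by
            have := (Submodule.Quotient.mk_eq_zero (LinearMap.range f)).mp hy
            exact this
          exact this
        · rintro ⟨x, rfl⟩
          exact (Submodule.Quotient.mk_eq_zero (LinearMap.range f)).mpr ⟨x, rfl⟩
    refine ⟨fun x y => ?_⟩
    have key : ∀ x : Abelian.Ext (ModuleCat.of O M) (ModuleCat.of O ↥ω) 1, x = 0 := by
      intro x
      have h0 : hS.extClass.comp x (rfl : 1 + 1 = 2) = 0 :=
        Abelian.Ext.eq_zero_of_hasInjectiveDimensionLT _ 2 le_rfl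
      obtain ⟨x₂, hx₂⟩ := Abelian.Ext.contravariant_sequence_exact₁ hS _ x rfl h0
      have : x₂ = 0 := Abelian.Ext.eq_zero_of_projective x₂
      rw [← hx₂, this, Abelian.Ext.comp_zero]
    rw [key x, key y]
  · exact HasInjectiveDimensionLT.subsingleton _ 2 i h2 _

end Aux

/-- Let O be a one-dimensional Noetherian local domain with algebraically closed residue field whose
integral closure O~ in its fraction field K is a finite O-module, and let w be a canonical ideal of
O, taken here as a nonzero finitely generated O-submodule of K whose injective dimension as an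
O-module is at most one. Then Ext^i_O(M, w) vanishes for all i ≥ 1 and every finitely generated
torsion-free O-module M. -/
theorem result (O : Type u) [CommRing O] [IsDomain O] [IsNoetherianRing O] [IsLocalRing O] (hdim : ringKrullDim O = 1) [IsAlgClosed (IsLocalRing.ResidueField O)] (K : Type u) [Field K] [Algebra O K] [IsFractionRing O K] (hfin : Module.Finite O ↥(integralClosure O K)) (ω : Submodule O K) (hω0 : ω ≠ ⊥) (hωfg : ω.FG) (hωinj : HasInjectiveDimensionLT (ModuleCat.of O ↥ω) 2) (M : Type u) [AddCommGroup M] [Module O M] [Module.Finite O M] [NoZeroSMulDivisors O M] (i : ℕ) (hi : 1 ≤ i) : Subsingleton (Abelian.Ext (ModuleCat.of O M) (ModuleCat.of O ↥ω) i) := by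
  exact Aux.main O K ω hωinj M i hi

end Groth.Agent.S15013
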