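import Groth.Statements.S15017
import Mathlib

set_option autoImplicit false
open TFCurv

namespace Groth.Agent.S15017

/-- Let Γ be a numerical semigroup (a submonoid of (ℕ, +) with finite complement), Γ ≠ ℕ, with conductor
c (every n ≥ c lies in Γ, c − 1 does not). If Γ is symmetric (for x < c, x is a gap exactly when c −
1 − x ∈ Γ) and has multiplicity greater than 2 (neither 1 nor 2 lies in Γ), then Γ is generated by
its elements smaller than c: every minimal generator of Γ is less than the conductor. -/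
theorem result (Γ : AddSubmonoid ℕ) (c : ℕ) (hc : ∀ n : ℕ, c ≤ n → n ∈ Γ) (hc0 : c ≠ 0) (hc1 : c - 1 ∉ Γ) (hsymm : ∀ x : ℕ, x < c → (x ∉ Γ ↔ c - 1 - x ∈ Γ)) (he : (1 : ℕ) ∉ Γ ∧ (2 : ℕ) ∉ Γ) : AddSubmonoid.closure {γ : ℕ | γ ∈ Γ ∧ γ < c} = Γ := by
  classical
  obtain ⟨h1, h2⟩ := he
  have hcΓ : c ∈ Γ := hc c le_rfl
  -- c ≥ 4
  have hc3 : 3 ≤ c := by
    by_contra hlt
    have : c = 1 ∨ c = 2 := by omega
    rcases this with rfl | rfl
    · exact h1 hcΓ
    · exact h2 hcΓ
  -- c - 2 ∈ Γ and c - 3 ∈ Γ by symmetry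
  have hsym' : ∀ x : ℕ, x < c → c - 1 - x ∉ Γ → x ∈ Γ := by
    intro x hx hn
    by_contra hxn
    exact hn ((hsymm x hx).1 hxn)
  have hc2Γ : c - 2 ∈ Γ := by
    apply hsym' (c - 2) (by omega)
    have : c - 1 - (c - 2) = 1 := by omega
    rw [this]; exact h1
  have hc3Γ : c - 3 ∈ Γ := by
    apply hsym' (c - 3) (by omega)
    have : c - 1 - (c - 3) = 2 := by omega
    rw [this]; exact h2
  -- multiplicity
  have hexm : ∃ m : ℕ, 0 < m ∧ m ∈ Γ := ⟨c, by omega, hcΓ⟩
  set m := Nat.find hexm with hm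
  have hmpos : 0 < m := (Nat.find_spec hexm).1
  have hmΓ : m ∈ Γ := (Nat.find_spec hexm).2
  have hmmin : ∀ x : ℕ, 0 < x → x < m → x ∉ Γ := fun x hx0 hxm hxΓ =>
    Nat.find_min hexm hxm ⟨hx0, hxΓ⟩
  have hm3 : 3 ≤ m := by
    by_contra hlt
    have : m = 1 ∨ m = 2 := by omega
    rcases this with h | h
    · exact h1 (h ▸ hmΓ)
    · exact h2 (h ▸ hmΓ)
  -- m < c: c - 2 is positive and in Γ
  have hmc : m < c := by
    have : m ≤ c - 2 := Nat.find_min' hexm ⟨by omega, hc2Γ⟩
    omega
  -- smallest element of Γ not divisible by m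
  have hexs : ∃ s : ℕ, s ∈ Γ ∧ ¬ m ∣ s := by
    by_cases hd : m ∣ c - 2
    · refine ⟨c - 3, hc3Γ, fun hd3 => ?_⟩
      have : m ∣ (c - 2) - (c - 3) := Nat.dvd_sub hd hd3
      have e : (c - 2) - (c - 3) = 1 := by omega
      rw [e] at this
      have := Nat.le_of_dvd one_pos this
      omega
    · exact ⟨c - 2, hc2Γ, hd⟩
  set s := Nat.find hexs with hs
  have hsΓ : s ∈ Γ := (Nat.find_spec hexs).1
  have hsnd : ¬ m ∣ s := (Nat.find_spec hexs).2
  have hsmin : ∀ x : ℕ, x ∈ Γ → x < s → m ∣ x := by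
    intro x hxΓ hxs
    by_contra hnd
    exact Nat.find_min hexs hxs ⟨hxΓ, hnd⟩
  have hsc : s < c := by
    by_cases hd : m ∣ c - 2
    · have : s ≤ c - 3 := Nat.find_min' hexs ⟨hc3Γ, fun hd3 => by
        have : m ∣ (c - 2) - (c - 3) := Nat.dvd_sub hd hd3
        have e : (c - 2) - (c - 3) = 1 := by omega
        rw [e] at this
        have := Nat.le_of_dvd one_pos this
        omega⟩
      omega
    · have : s ≤ c - 2 := Nat.find_min' hexs ⟨hc2Γ, hd⟩
      omega
  have hs0 : 0 < s := by
    rcases Nat.eq_zero_or_pos s with h | h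
    · exact absurd (h ▸ dvd_zero m) hsnd
    · exact h
  have hsm : m < s := by
    have h1' : m ≤ s := Nat.find_min' hexm ⟨hs0, hsΓ⟩
    rcases Nat.lt_or_eq_of_le h1' with h | h
    · exact h
    · exact absurd (h ▸ dvd_refl m) hsnd
  have hsmΓ : s - m ∉ Γ := by
    intro hΓ
    have hd := hsmin (s - m) hΓ (by omega)
    apply hsnd
    have : s = (s - m) + m := by omega
    rw [this]
    exact Dvd.dvd.add hd (dvd_refl m)
  -- main induction
  apply le_antisymm
  · rw [AddSubmonoid.closure_le]
    intro γ hγ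
    exact hγ.1
  · intro n hn
    induction n using Nat.strong_induction_on with
    | _ n ih =>
      by_cases hnc : n < c
      · exact AddSubmonoid.subset_closure ⟨hn, hnc⟩
      · have hnc' : c ≤ n := not_lt.1 hnc
        have hmG : m ∈ AddSubmonoid.closure {γ : ℕ | γ ∈ Γ ∧ γ < c} :=
          AddSubmonoid.subset_closure ⟨hmΓ, hmc⟩
        by_cases hnm : n - m ∈ Γ
        · have h1 := ih (n - m) (by omega) hnm
          have e : n = (n - m) + m := by omega
          rw [e]
          exact AddSubmonoid.add_mem _ h1 hmG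
        · -- then n - m < c and n = c - 1 + m
          have hlt : n - m < c := by
            by_contra hge
            exact hnm (hc _ (not_lt.1 hge))
          have h3 : c - 1 - (n - m) ∈ Γ := (hsymm (n - m) hlt).1 hnm
          have h4 : c - 1 - (n - m) = 0 := by
            by_contra hne
            exact hmmin _ (Nat.pos_of_ne_zero hne) (by omega) h3
          have hn' : n = c - 1 + m := by omega
          -- n = a + s with a = c - 1 - s + m
          have haΓ : c - 1 - s + m ∈ Γ := by
            apply hsym' _ (by omega)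
            have e : c - 1 - (c - 1 - s + m) = s - m := by omega
            rw [e]
            exact hsmΓ
          have e : n = (c - 1 - s + m) + s := by omega
          rw [e]
          exact AddSubmonoid.add_mem _
            (AddSubmonoid.subset_closure ⟨haΓ, by omega⟩)
            (AddSubmonoid.subset_closure ⟨hsΓ, hsc⟩)

end Groth.Agent.S15017
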