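import Groth.Statements.S15019
import Mathlib

set_option autoImplicit false
open TFCurv

namespace Groth.Agent.S15019

/-- Let Γ be a numerical semigroup (a submonoid of (ℕ, +) with finite complement), Γ ≠ ℕ, with conductor
c (every n ≥ c lies in Γ, c − 1 does not), let e be its multiplicity (the least nonzero element of
Γ), and let S ⊆ ℕ be a Γ-module in normal form: 0 ∈ S and γ + s ∈ S for all γ ∈ Γ, s ∈ S. Then the
set of gaps n of S with S ∪ {n} again a Γ-module (n + γ ∈ S for every nonzero γ ∈ Γ) has at most e −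
1 elements, and so does the set of nonzero s ∈ S with S ∖ {s} again a Γ-module (s − γ ∉ S for every
nonzero γ ∈ Γ with γ ≤ s). -/
theorem result (Γ : AddSubmonoid ℕ) (c : ℕ) (hc : ∀ n : ℕ, c ≤ n → n ∈ Γ) (hc0 : c ≠ 0) (hc1 : c - 1 ∉ Γ) (e : ℕ) (he : e ∈ Γ) (he0 : e ≠ 0) (hemin : ∀ γ : ℕ, γ ∈ Γ → γ ≠ 0 → e ≤ γ) (S : Set ℕ) (hS0 : (0 : ℕ) ∈ S) (hS : ∀ γ : ℕ, γ ∈ Γ → ∀ s : ℕ, s ∈ S → γ + s ∈ S) : {n : ℕ | n ∉ S ∧ ∀ γ : ℕ, γ ∈ Γ → γ ≠ 0 → n + γ ∈ S}.encard ≤ ((e - 1 : ℕ) : ℕ∞) ∧ {s : ℕ | s ∈ S ∧ s ≠ 0 ∧ ∀ γ : ℕ, γ ∈ Γ → γ ≠ 0 → γ ≤ s → s - γ ∉ S}.encard ≤ ((e - 1 : ℕ) : ℕ∞) := by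
  have hΓS : ∀ γ ∈ Γ, γ ∈ S := fun γ hγ => by simpa using hS γ hγ 0 hS0
  have hke : ∀ k : ℕ, k * e ∈ Γ := by
    intro k
    induction k with
    | zero => simp
    | succ k ih => rw [Nat.succ_mul]; exact Γ.add_mem ih he
  have hepos : 0 < e := Nat.pos_of_ne_zero he0
  have htarget : ((Finset.Ico 1 e : Finset ℕ) : Set ℕ).encard = ((e - 1 : ℕ) : ℕ∞) := by
    rw [Set.encard_coe_eq_coe_finsetCard, Nat.card_Ico]
  constructor
  · rw [← htarget]
    apply Set.encard_le_encard_of_injOn (f := fun n => n % e)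
    · rintro n ⟨hnS, hn⟩
      simp only [Finset.coe_Ico, Set.mem_Ico]
      refine ⟨?_, Nat.mod_lt _ hepos⟩
      by_contra hcon
      have h0 : n % e = 0 := by omega
      apply hnS
      apply hΓS
      have := hke (n / e)
      rwa [Nat.div_mul_cancel (Nat.dvd_of_mod_eq_zero h0)] at this
    · rintro n ⟨hnS, hn⟩ n' ⟨hn'S, hn'⟩ heq
      simp only at heq
      by_contra hne
      rcases Nat.lt_or_gt_of_ne hne with hlt | hlt
      · apply hn'S
        have hd : e ∣ n' - n := (Nat.modEq_iff_dvd' hlt.le).mp heq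
        obtain ⟨k, hk⟩ := hd
        have hk0 : k ≠ 0 := by rintro rfl; omega
        have h1 := hn (k * e) (hke k) (by positivity)
        have : n + k * e = n' := by rw [mul_comm, ← hk]; omega
        rwa [this] at h1
      · apply hnS
        have hd : e ∣ n - n' := (Nat.modEq_iff_dvd' hlt.le).mp heq.symm
        obtain ⟨k, hk⟩ := hd
        have hk0 : k ≠ 0 := by rintro rfl; omega
        have h1 := hn' (k * e) (hke k) (by positivity)
        have : n' + k * e = n := by rw [mul_comm, ← hk]; omega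
        rwa [this] at h1
  · rw [← htarget]
    apply Set.encard_le_encard_of_injOn (f := fun n => n % e)
    · rintro s ⟨hsS, hs0, hs⟩
      simp only [Finset.coe_Ico, Set.mem_Ico]
      refine ⟨?_, Nat.mod_lt _ hepos⟩
      by_contra hcon
      have h0 : s % e = 0 := by omega
      have h1 := hke (s / e)
      rw [Nat.div_mul_cancel (Nat.dvd_of_mod_eq_zero h0)] at h1
      have := hs s h1 hs0 le_rfl
      rw [Nat.sub_self] at this
      exact this hS0
    · rintro s ⟨hsS, hs0, hs⟩ s' ⟨hs'S, hs'0, hs'⟩ heq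
      simp only at heq
      by_contra hne
      rcases Nat.lt_or_gt_of_ne hne with hlt | hlt
      · have hd : e ∣ s' - s := (Nat.modEq_iff_dvd' hlt.le).mp heq
        obtain ⟨k, hk⟩ := hd
        have hk0 : k ≠ 0 := by rintro rfl; omega
        have hle : k * e ≤ s' := by rw [mul_comm, ← hk]; omega
        have h1 := hs' (k * e) (hke k) (by positivity) hle
        have : s' - k * e = s := by rw [mul_comm, ← hk]; omega
        rw [this] at h1
        exact h1 hsS
      · have hd : e ∣ s - s' := (Nat.modEq_iff_dvd' hlt.le).mp heq.symm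
        obtain ⟨k, hk⟩ := hd
        have hk0 : k ≠ 0 := by rintro rfl; omega
        have hle : k * e ≤ s := by rw [mul_comm, ← hk]; omega
        have h1 := hs (k * e) (hke k) (by positivity) hle
        have : s - k * e = s' := by rw [mul_comm, ← hk]; omega
        rw [this] at h1
        exact h1 hs'S

end Groth.Agent.S15019
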