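import Groth.Statements.S15022
import Groth.Agent.Lib.Helper8.TFV3

set_option autoImplicit false
universe u
open CategoryTheory
open TFCurv

namespace Groth.Agent.S15022

/-- Let k be an algebraically closed field and A ≠ k[[t]] a k-subalgebra of k[[t]] that is closed in the
t-adic topology and over which k[[t]] is a finite module (as for the complete local ring of a
unibranch curve singularity inside its normalisation), and let Γ ⊆ ℕ be the set of t-orders of the
nonzero elements of A (its value semigroup); let c be the conductor of Γ (every n ≥ c lies in Γ, c −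
1 does not) and suppose A is not Gorenstein. If w is an A-submodule of k[[t]] with 1 ∈ w whose
injective dimension as an A-module is at most one (a canonical ideal of A placed between A and
k[[t]]), then the value set of w is the dual of Γ: a natural number n is the t-order of some element
of w exactly when n ≥ c or c − 1 − n is a gap of Γ. (The published statement does not exclude the
Gorenstein case; this row assumes that A is not Gorenstein.) -/
theorem result (k : Type u) [Field k] [IsAlgClosed k] (A : Subalgebra k (PowerSeries k)) (hA : Module.Finite ↥A (PowerSeries k)) (hcl : ∀ f : PowerSeries k, (∀ n : ℕ, ∃ g ∈ A, (n : ℕ∞) ≤ PowerSeries.order (f - g)) → f ∈ A) (hsing : A ≠ ⊤) (Γ : Set ℕ) (hΓ : ∀ n : ℕ, n ∈ Γ ↔ ∃ f ∈ A, PowerSeries.order f = n) (c : ℕ) (hc : ∀ n : ℕ, c ≤ n → n ∈ Γ) (hc0 : c ≠ 0) (hc1 : c - 1 ∉ Γ) (hG : ¬ LocCoh.IsGorensteinLocalRing ↥A) (ω : Submodule ↥A (PowerSeries k)) (hω1 : (1 : PowerSeries k) ∈ ω) (hωfg : ω.FG) (hωinj : HasInjectiveDimensionLT (ModuleCat.of ↥A ↥ω) 2) (n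 : ℕ) : (∃ f ∈ ω, PowerSeries.order f = n) ↔ (c ≤ n ∨ c - 1 - n ∉ Γ) := by
  have hfg : (1 : Submodule ↥A (PowerSeries k)).FG := by
    rw [Submodule.one_eq_span]; exact Submodule.fg_span_singleton _
  have h1 : (1 : PowerSeries k) ∈ (1 : Submodule ↥A (PowerSeries k)) :=
    Submodule.one_le.mp le_rfl
  have h := Groth.Agent.Helper8.TFV.main_S19528 A hA hcl Γ hΓ c hc hc0 hc1 ω hω1 hωfg hωinj
    1 hfg h1 n
  constructor
  · rintro ⟨f, hf, hfo⟩
    have h2 : ∀ m ∈ (1 : Submodule ↥A (PowerSeries k)), f * m ∈ ω := by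
      intro m hm
      obtain ⟨a, rfl⟩ := Submodule.mem_one.mp hm
      have : f * (algebraMap ↥A (PowerSeries k) a) = a • f := by
        rw [Subalgebra.smul_def, smul_eq_mul, mul_comm]; rfl
      rw [this]
      exact ω.smul_mem a hf
    rcases h.mp ⟨f, hfo, h2⟩ with h3 | h3
    · exact Or.inl h3
    · right
      intro hΓn
      apply h3
      obtain ⟨g, hg, hgo⟩ := (hΓ _).mp hΓn
      exact ⟨g, Submodule.mem_one.mpr ⟨⟨g, hg⟩, rfl⟩, hgo⟩
  · intro hr
    have h3 : c ≤ n ∨ ¬ ∃ m ∈ (1 : Submodule ↥A (PowerSeries k)),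
        PowerSeries.order m = ((c - 1 - n : ℕ) : ℕ∞) := by
      rcases hr with h4 | h4
      · exact Or.inl h4
      · right
        rintro ⟨m, hm, hmo⟩
        apply h4
        obtain ⟨a, rfl⟩ := Submodule.mem_one.mp hm
        exact (hΓ _).mpr ⟨a, a.2, hmo⟩
    obtain ⟨u, huo, hu⟩ := h.mpr h3
    refine ⟨u, ?_, huo⟩
    have := hu 1 h1
    rwa [mul_one] at this

end Groth.Agent.S15022
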