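import Groth.Statements.S15149
import Mathlib
import Groth.Agent.Lib.Helper9.SubQuotLen
import Groth.Agent.Lib.Helper9.SubQuotLen2
-- import your own Groth.Agent.* helpers here

set_option autoImplicit false
universe u
open HilbZeta

namespace Groth.Agent.S15149

open Groth.Agent.Helper9.SubQuotLen
namespace Aux

variable {k : Type u} [Field k] {s : ℕ}

theorem finite_finrank_iff_length {M : Type*} [AddCommGroup M] [Module k M] (d : ℕ) :
    (Module.Finite k M ∧ Module.finrank k M = d) ↔ Module.length k M = d := by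
  constructor
  · rintro ⟨h1, h2⟩
    rw [Module.length_eq_finrank, h2]
  · intro h
    have hne : Module.length k M ≠ ⊤ := by rw [h]; exact ENat.coe_ne_top d
    rw [Module.length_ne_top_iff, isFiniteLength_iff_isNoetherian_isArtinian] at hne
    haveI := hne.1
    have hfin : Module.Finite k M := inferInstance
    refine ⟨hfin, ?_⟩
    rw [Module.length_eq_finrank] at h
    exact_mod_cast h

theorem sqLen_top {M : Type u} [AddCommGroup M] [Module k M] (A : Submodule k M) :
    sqLen A ⊤ = Module.length k (M ⧸ A) := by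
  unfold sqLen
  refine (Submodule.Quotient.equiv (A.submoduleOf ⊤) A Submodule.topEquiv ?_).length_eq
  ext x
  constructor
  · rintro ⟨y, hy, rfl⟩
    exact hy
  · intro hx
    exact ⟨⟨x, trivial⟩, hx, rfl⟩

variable (R : Subalgebra k (Fin s → PowerSeries k))

/-- image of an ideal of `R` in the ambient product, as a `k`-subspace -/
noncomputable def img (I : Ideal ↥R) : Submodule k (Fin s → PowerSeries k) :=
  (I.restrictScalars k).map R.val.toLinearMap

theorem mem_img {I : Ideal ↥R} {f : Fin s → PowerSeries k} :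
    f ∈ img R I ↔ ∃ h : f ∈ R, (⟨f, h⟩ : ↥R) ∈ I := by
  constructor
  · rintro ⟨y, hy, rfl⟩
    exact ⟨y.2, hy⟩
  · rintro ⟨h, hf⟩
    exact ⟨⟨f, h⟩, hf, rfl⟩

theorem img_le (I : Ideal ↥R) : img R I ≤ Subalgebra.toSubmodule R := by
  intro f hf
  obtain ⟨h, -⟩ := (mem_img R).mp hf
  exact h

theorem img_eq_image (I : Ideal ↥R) :
    (img R I : Set (Fin s → PowerSeries k)) = Subtype.val '' (I : Set ↥R) := by
  ext f
  constructor
  · rintro ⟨y, hy, rfl⟩
    exact ⟨y, hy, rfl⟩
  · rintro ⟨y, hy, rfl⟩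
    exact ⟨y, hy, rfl⟩

theorem length_quot_eq (I : Ideal ↥R) :
    Module.length k (↥R ⧸ I) = sqLen (img R I) (Subalgebra.toSubmodule R) := by
  have h1 : Module.length k (↥R ⧸ I) = Module.length k (↥R ⧸ I.restrictScalars k) :=
    (Submodule.Quotient.restrictScalarsEquiv k I).length_eq.symm
  have h2 : LinearMap.ker R.val.toLinearMap = ⊥ := by
    rw [LinearMap.ker_eq_bot]
    exact Subtype.val_injective
  have h3 := sqLen_map R.val.toLinearMap (A := I.restrictScalars k) (B := ⊤) le_top (by
    rw [h2]; exact le_trans inf_le_left bot_le)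
  have h4 : (⊤ : Submodule k ↥R).map R.val.toLinearMap = Subalgebra.toSubmodule R := by
    ext x
    constructor
    · rintro ⟨y, -, rfl⟩
      exact y.2
    · intro hx
      exact ⟨⟨x, hx⟩, trivial, rfl⟩
  rw [h4] at h3
  rw [h1, ← sqLen_top]
  exact h3.symm

/-- the tuple with `x` in the `j`-th place and `1` elsewhere -/
noncomputable def xi (j : Fin s) : Fin s → PowerSeries k := Pi.mulSingle j PowerSeries.X

theorem xi_same (j : Fin s) : (xi j : Fin s → PowerSeries k) j = PowerSeries.X := by
  simp [xi]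

theorem xi_ne {i j : Fin s} (h : i ≠ j) : (xi j : Fin s → PowerSeries k) i = 1 := by
  simp [xi, h]

noncomputable def mulXi (j : Fin s) :
    (Fin s → PowerSeries k) →ₗ[k] (Fin s → PowerSeries k) :=
  LinearMap.mulLeft k (xi j)

theorem mulXi_apply (j : Fin s) (f : Fin s → PowerSeries k) : mulXi j f = xi j * f := rfl

theorem mulXi_injective (j : Fin s) : Function.Injective (mulXi (k := k) j) := by
  intro f g h
  funext i
  have hi := congrFun h i
  simp only [mulXi_apply, Pi.mul_apply] at hi
  by_cases hij : i = j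
  · subst hij
    rw [xi_same] at hi
    exact mul_left_cancel₀ PowerSeries.X_ne_zero hi
  · rw [xi_ne hij, one_mul, one_mul] at hi
    exact hi

theorem mem_range_mulXi (j : Fin s) (f : Fin s → PowerSeries k) :
    f ∈ LinearMap.range (mulXi j) ↔ PowerSeries.constantCoeff (f j) = 0 := by
  constructor
  · rintro ⟨g, rfl⟩
    simp [mulXi_apply, xi_same]
  · intro h
    obtain ⟨g, hg⟩ := PowerSeries.X_dvd_iff.mpr h
    refine ⟨Function.update f j g, ?_⟩
    funext i
    simp only [mulXi_apply, Pi.mul_apply]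
    by_cases hij : i = j
    · subst hij
      rw [xi_same, Function.update_self, hg]
    · rw [xi_ne hij, one_mul, Function.update_of_ne hij]

theorem sqLen_range_top (j : Fin s) :
    sqLen (LinearMap.range (mulXi (k := k) j)) ⊤ = 1 := by
  rw [sqLen_top]
  let ε : (Fin s → PowerSeries k) →ₗ[k] k :=
    (PowerSeries.coeff 0).comp (LinearMap.proj j)
  have hε : Function.Surjective ε := by
    intro a
    refine ⟨fun _ => PowerSeries.C a, ?_⟩
    simp [ε]
  have hker : LinearMap.ker ε = LinearMap.range (mulXi j) := by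
    ext f
    rw [mem_range_mulXi, LinearMap.mem_ker]
    simp [ε]
  rw [← hker, (LinearMap.quotKerEquivOfSurjective ε hε).length_eq]
  rw [Module.length_eq_finrank, Module.finrank_self]
  rfl

theorem key_gen {M : Type u} [AddCommGroup M] [Module k M] (ξ : M →ₗ[k] M)
    (hinj : Function.Injective ξ) (hrange : sqLen (LinearMap.range ξ) ⊤ = 1)
    (R' A : Submodule k M) (hfin : Module.Finite k (M ⧸ R'))
    (hA : A ≤ R') (hξA : A.map ξ ≤ R') :
    sqLen (A.map ξ) R' = sqLen A R' + 1 := by
  have h1 := sqLen_add hA (le_top : R' ≤ ⊤)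
  have h2 := sqLen_add (A := A.map ξ) (B := LinearMap.range ξ) (C := ⊤)
    (by rw [LinearMap.range_eq_map]; exact Submodule.map_mono le_top) le_top
  have h3 : sqLen (A.map ξ) (LinearMap.range ξ) = sqLen A ⊤ := by
    rw [LinearMap.range_eq_map]
    exact sqLen_map ξ le_top (by
      rw [LinearMap.ker_eq_bot.mpr hinj]; exact le_trans inf_le_left bot_le)
  have h5 := sqLen_add hξA (le_top : R' ≤ ⊤)
  have hδ : sqLen R' ⊤ ≠ ⊤ := by
    rw [sqLen_top, Module.length_eq_finrank]
    exact ENat.coe_ne_top _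
  rw [h3, hrange, h1] at h2
  rw [h2] at h5
  apply ENat.add_left_injective_of_ne_top hδ
  show _ + _ = _ + _
  rw [← h5]
  ring

theorem key (R' : Submodule k (Fin s → PowerSeries k))
    (hfin : Module.Finite k ((Fin s → PowerSeries k) ⧸ R'))
    (j : Fin s) (A : Submodule k (Fin s → PowerSeries k))
    (hA : A ≤ R') (hξA : A.map (mulXi j) ≤ R') :
    sqLen (A.map (mulXi j)) R' = sqLen A R' + 1 := by
  have h0 := key_gen (mulXi (k := k) j) (mulXi_injective j) (sqLen_range_top j)
  exact h0 R' A hfin hA hξA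


variable {R}

/-- conductor elements supported on one branch lie in `R` -/
theorem single_mem (c : Fin s → ℕ)
    (hc : ∀ f : Fin s → PowerSeries k,
      (∀ g : Fin s → PowerSeries k, g * f ∈ R) ↔ ∀ i, ((c i : ℕ) : ℕ∞) ≤ (f i).order)
    (j : Fin s) (g : PowerSeries k) (hg : PowerSeries.X ^ (c j) ∣ g) :
    Pi.single j g ∈ R := by
  have h1 := (hc (Pi.single j g)).mpr (fun i => ?_) 1
  · simpa using h1
  · by_cases h : i = j
    · subst h
      rw [Pi.single_eq_same]
      exact PowerSeries.nat_le_order g (c i) (fun m hm => PowerSeries.X_pow_dvd_iff.mp hg m hm)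
    · rw [Pi.single_eq_of_ne h, PowerSeries.order_zero]
      exact le_top

theorem xi_mul_eq (j : Fin s) (f : Fin s → PowerSeries k) :
    xi j * f = f + Pi.single j ((PowerSeries.X - 1) * f j) := by
  funext i
  simp only [Pi.mul_apply, Pi.add_apply]
  by_cases h : i = j
  · subst h
    rw [xi_same, Pi.single_eq_same]
    ring
  · rw [xi_ne h, Pi.single_eq_of_ne h]
    ring

/-- `ξ f ∈ R` if `f ∈ R` and the `j`-th component is in the conductor range -/
theorem xi_mul_mem (c : Fin s → ℕ)
    (hc : ∀ f : Fin s → PowerSeries k,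
      (∀ g : Fin s → PowerSeries k, g * f ∈ R) ↔ ∀ i, ((c i : ℕ) : ℕ∞) ≤ (f i).order)
    (j : Fin s) (f : Fin s → PowerSeries k) (hf : f ∈ R) (hfj : PowerSeries.X ^ (c j) ∣ f j) :
    xi j * f ∈ R := by
  rw [xi_mul_eq]
  exact R.add_mem hf (single_mem c hc j _ (Dvd.dvd.mul_left hfj _))

/-- division by `ξ` stays in `R` -/
theorem exists_xi_mul_eq (c : Fin s → ℕ)
    (hc : ∀ f : Fin s → PowerSeries k,
      (∀ g : Fin s → PowerSeries k, g * f ∈ R) ↔ ∀ i, ((c i : ℕ) : ℕ∞) ≤ (f i).order)
    (j : Fin s) (h : Fin s → PowerSeries k) (hh : h ∈ R)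
    (hhj : PowerSeries.X ^ (c j + 1) ∣ h j) :
    ∃ f ∈ R, h = xi j * f := by
  obtain ⟨g, hg⟩ := hhj
  have hg' : h j = PowerSeries.X * (PowerSeries.X ^ (c j) * g) := by rw [hg]; ring
  refine ⟨h + Pi.single j ((1 - PowerSeries.X) * (PowerSeries.X ^ (c j) * g)), ?_, ?_⟩
  · refine R.add_mem hh (single_mem c hc j _ ?_)
    exact Dvd.dvd.mul_left (Dvd.intro _ rfl) _
  · funext i
    simp only [Pi.mul_apply, Pi.add_apply]
    by_cases hi : i = j
    · subst hi
      rw [xi_same, Pi.single_eq_same, hg']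
      ring
    · rw [xi_ne hi, Pi.single_eq_of_ne hi]
      ring


theorem span_image_mul (a : PowerSeries k) (T : Set (PowerSeries k)) :
    Ideal.span ((fun x => a * x) '' T) = Ideal.span {a} * Ideal.span T := by
  rw [Ideal.span_mul_span', Set.singleton_mul]

variable (R)

/-- the evaluation maps -/
noncomputable abbrev ev (i : Fin s) : ↥R →ₐ[k] PowerSeries k :=
  (Pi.evalAlgHom k (fun _ : Fin s => PowerSeries k) i).comp R.val

variable {R}

theorem core (hfin : Module.Finite k ((Fin s → PowerSeries k) ⧸ Subalgebra.toSubmodule R))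
    (j : Fin s) (I J : Ideal ↥R)
    (hset : Subtype.val '' (J : Set ↥R) =
      (fun f => xi j * f) '' (Subtype.val '' (I : Set ↥R))) :
    Module.length k (↥R ⧸ J) = Module.length k (↥R ⧸ I) + 1 ∧
      ∀ i, Ideal.map (ev R i) J = Ideal.span {(xi j : Fin s → PowerSeries k) i} * Ideal.map (ev R i) I := by
  have ha : img R J = (img R I).map (mulXi j) := by
    apply SetLike.coe_injective
    rw [Submodule.map_coe, img_eq_image, img_eq_image, hset]
    rfl
  constructor
  · rw [length_quot_eq, length_quot_eq, ha]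
    have h0 := key (Subalgebra.toSubmodule R) hfin j (img R I) (img_le R I)
    exact h0 (by rw [← ha]; exact img_le R J)
  · intro i
    show Ideal.span (ev R i '' (J : Set ↥R)) = _ * Ideal.span (ev R i '' (I : Set ↥R))
    rw [← span_image_mul]
    congr 1
    have h1 : ∀ K : Ideal ↥R, ev R i '' (K : Set ↥R) =
        (fun f : Fin s → PowerSeries k => f i) '' (Subtype.val '' (K : Set ↥R)) := by
      intro K
      rw [Set.image_image]
      rfl
    rw [h1, h1, hset, Set.image_image, Set.image_image, Set.image_image, Set.image_image]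
    rfl


variable (R)

/-- `ξ · I ∩ R` as an ideal -/
noncomputable def mulIdeal (j : Fin s) (I : Ideal ↥R) : Ideal ↥R where
  carrier := {r | ∃ f ∈ I, (r : Fin s → PowerSeries k) = xi j * (f : Fin s → PowerSeries k)}
  add_mem' := by
    rintro r₁ r₂ ⟨f₁, hf₁, h₁⟩ ⟨f₂, hf₂, h₂⟩
    refine ⟨f₁ + f₂, I.add_mem hf₁ hf₂, ?_⟩
    push_cast
    rw [h₁, h₂, mul_add]
  zero_mem' := ⟨0, I.zero_mem, by simp⟩
  smul_mem' := by
    rintro t r ⟨f, hf, h⟩
    refine ⟨t * f, I.mul_mem_left t hf, ?_⟩
    simp only [smul_eq_mul, MulMemClass.coe_mul, h]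
    ring

/-- `ξ⁻¹ J ∩ R` as an ideal -/
noncomputable def divIdeal (j : Fin s) (J : Ideal ↥R) : Ideal ↥R where
  carrier := {r | ∃ h ∈ J, (h : Fin s → PowerSeries k) = xi j * (r : Fin s → PowerSeries k)}
  add_mem' := by
    rintro r₁ r₂ ⟨f₁, hf₁, h₁⟩ ⟨f₂, hf₂, h₂⟩
    refine ⟨f₁ + f₂, J.add_mem hf₁ hf₂, ?_⟩
    push_cast
    rw [h₁, h₂, mul_add]
  zero_mem' := ⟨0, J.zero_mem, by simp⟩
  smul_mem' := by
    rintro t r ⟨f, hf, h⟩
    refine ⟨t * f, J.mul_mem_left t hf, ?_⟩
    simp only [smul_eq_mul, MulMemClass.coe_mul, h]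
    ring

variable {R}

theorem hset_mulIdeal (j : Fin s) (I : Ideal ↥R)
    (hI : ∀ f ∈ I, xi j * (f : Fin s → PowerSeries k) ∈ R) :
    Subtype.val '' (mulIdeal R j I : Set ↥R) =
      (fun f => xi j * f) '' (Subtype.val '' (I : Set ↥R)) := by
  ext x
  constructor
  · rintro ⟨r, ⟨f, hf, h⟩, rfl⟩
    exact ⟨f, ⟨f, hf, rfl⟩, h.symm⟩
  · rintro ⟨_, ⟨f, hf, rfl⟩, rfl⟩
    exact ⟨⟨_, hI f hf⟩, ⟨f, hf, rfl⟩, rfl⟩

theorem hset_divIdeal (j : Fin s) (J : Ideal ↥R)
    (hJ : ∀ h ∈ J, ∃ f ∈ R, (h : Fin s → PowerSeries k) = xi j * f) :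
    Subtype.val '' (J : Set ↥R) =
      (fun f => xi j * f) '' (Subtype.val '' (divIdeal R j J : Set ↥R)) := by
  ext x
  constructor
  · rintro ⟨h, hh, rfl⟩
    obtain ⟨f, hf, hhf⟩ := hJ h hh
    exact ⟨f, ⟨⟨f, hf⟩, ⟨h, hh, hhf⟩, rfl⟩, hhf.symm⟩
  · rintro ⟨_, ⟨r, ⟨h, hh, hhr⟩, rfl⟩, rfl⟩
    exact ⟨h, hh, hhr⟩

theorem dvd_of_type (i : Fin s) (I : Ideal ↥R) (a : ℕ)
    (ha : Ideal.map (ev R i) I = Ideal.span {PowerSeries.X ^ a}) (f : ↥R) (hf : f ∈ I) :
    PowerSeries.X ^ a ∣ (f : Fin s → PowerSeries k) i := by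
  rw [← Ideal.mem_span_singleton, ← ha]
  exact Ideal.mem_map_of_mem (ev R i) hf

theorem main (R : Subalgebra k (Fin s → PowerSeries k))
    (hfin : Module.Finite k ((Fin s → PowerSeries k) ⧸ Subalgebra.toSubmodule R))
    (c : Fin s → ℕ)
    (hc : ∀ f : Fin s → PowerSeries k,
      (∀ g : Fin s → PowerSeries k, g * f ∈ R) ↔ ∀ i, ((c i : ℕ) : ℕ∞) ≤ (f i).order)
    (j : Fin s) (d : ℕ) (a : Fin s → ℕ) (hj : c j ≤ a j) :
    (∀ I ∈ {I : Ideal ↥R | Module.Finite k (↥R ⧸ I) ∧ Module.finrank k (↥R ⧸ I) = d ∧ (∀ i : Fin s, Ideal.map ((Pi.evalAlgHom k (fun _ : Fin s => PowerSeries k) i).comp R.val) I = Ideal.span {PowerSeries.X ^ (a i)})},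
      ∃ J ∈ {I : Ideal ↥R | Module.Finite k (↥R ⧸ I) ∧ Module.finrank k (↥R ⧸ I) = d + 1 ∧ (∀ i : Fin s, Ideal.map ((Pi.evalAlgHom k (fun _ : Fin s => PowerSeries k) i).comp R.val) I = Ideal.span {PowerSeries.X ^ ((Function.update a j (a j + 1)) i)})},
        (Subtype.val '' (J : Set ↥R)) = (fun f => Pi.mulSingle j PowerSeries.X * f) '' (Subtype.val '' (I : Set ↥R))) ∧
    (∀ J ∈ {I : Ideal ↥R | Module.Finite k (↥R ⧸ I) ∧ Module.finrank k (↥R ⧸ I) = d + 1 ∧ (∀ i : Fin s, Ideal.map ((Pi.evalAlgHom k (fun _ : Fin s => PowerSeries k) i).comp R.val) I = Ideal.span {PowerSeries.X ^ ((Function.update a j (a j + 1)) i)})},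
      ∃ I ∈ {I : Ideal ↥R | Module.Finite k (↥R ⧸ I) ∧ Module.finrank k (↥R ⧸ I) = d ∧ (∀ i : Fin s, Ideal.map ((Pi.evalAlgHom k (fun _ : Fin s => PowerSeries k) i).comp R.val) I = Ideal.span {PowerSeries.X ^ (a i)})},
        (Subtype.val '' (J : Set ↥R)) = (fun f => Pi.mulSingle j PowerSeries.X * f) '' (Subtype.val '' (I : Set ↥R))) := by
  constructor
  · rintro I ⟨hIfin, hId, hIa⟩
    have hlen : Module.length k (↥R ⧸ I) = d := (finite_finrank_iff_length d).mp ⟨hIfin, hId⟩
    have hI : ∀ f ∈ I, xi j * (f : Fin s → PowerSeries k) ∈ R := by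
      intro f hf
      refine xi_mul_mem c hc j _ f.2 ?_
      exact (pow_dvd_pow _ hj).trans (dvd_of_type j I (a j) (hIa j) f hf)
    have hset := hset_mulIdeal j I hI
    obtain ⟨h1, h2⟩ := core hfin j I (mulIdeal R j I) hset
    refine ⟨mulIdeal R j I, ?_, hset⟩
    rw [hlen] at h1
    obtain ⟨h3, h4⟩ := (finite_finrank_iff_length (M := ↥R ⧸ mulIdeal R j I) (d + 1)).mpr
      (by rw [h1]; rfl)
    refine ⟨h3, h4, fun i => ?_⟩
    have h5 := h2 i
    rw [show Ideal.map (ev R i) I = Ideal.span {PowerSeries.X ^ (a i)} from hIa i,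
      Ideal.span_singleton_mul_span_singleton] at h5
    rw [show Ideal.map ((Pi.evalAlgHom k (fun _ : Fin s => PowerSeries k) i).comp R.val)
      (mulIdeal R j I) = _ from h5]
    by_cases hij : i = j
    · subst hij
      rw [xi_same, Function.update_self, pow_succ']
    · rw [xi_ne hij, Function.update_of_ne hij, one_mul]
  · rintro J ⟨hJfin, hJd, hJa⟩
    have hlen : Module.length k (↥R ⧸ J) = (d + 1 : ℕ) :=
      (finite_finrank_iff_length (d + 1)).mp ⟨hJfin, hJd⟩
    have hJ : ∀ h ∈ J, ∃ f ∈ R, (h : Fin s → PowerSeries k) = xi j * f := by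
      intro h hh
      refine exists_xi_mul_eq c hc j _ h.2 ?_
      have h1 := dvd_of_type j J _ (hJa j) h hh
      rw [Function.update_self] at h1
      exact (pow_dvd_pow _ (Nat.succ_le_succ hj)).trans h1
    have hset := hset_divIdeal j J hJ
    obtain ⟨h1, h2⟩ := core hfin j (divIdeal R j J) J hset
    refine ⟨divIdeal R j J, ?_, hset⟩
    rw [hlen] at h1
    have h3 : Module.length k (↥R ⧸ divIdeal R j J) = d := by
      apply ENat.add_left_injective_of_ne_top ENat.one_ne_top
      show _ + 1 = _ + 1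
      rw [← h1]
      rfl
    obtain ⟨h4, h5⟩ := (finite_finrank_iff_length (M := ↥R ⧸ divIdeal R j J) d).mpr h3
    refine ⟨h4, h5, fun i => ?_⟩
    have h6 := h2 i
    rw [show Ideal.map (ev R i) J = _ from hJa i] at h6
    show Ideal.map (ev R i) (divIdeal R j J) = _
    by_cases hij : i = j
    · subst hij
      rw [xi_same, Function.update_self, pow_succ',
        ← Ideal.span_singleton_mul_span_singleton] at h6
      exact ((Ideal.span_singleton_mul_right_inj PowerSeries.X_ne_zero).mp h6).symm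
    · rw [xi_ne hij, Function.update_of_ne hij, Ideal.span_singleton_one, Ideal.top_mul] at h6
      exact h6.symm

end Aux

/-- Let k be a field, s a natural number and R a k-subalgebra of the product of s copies of the power
series ring k[[x]], of finite codimension δ over k and local with residue field k (all components of
an element of R have the same constant term); write v_i for the x-adic order of the i-th component
of an s-tuple, and let c = (c_1, …, c_s) be the conductor exponents, so that an s-tuple f satisfies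
f·g ∈ R for every s-tuple g exactly when v_i(f) ≥ c_i for all i (over an algebraically closed field
such an R is precisely the completed local ring of a reduced curve singularity having s branches
sitting inside its normalisation, δ is its delta invariant and the conductor ideal is generated by
the x_i^{c_i}). Fix a branch j, a colength d and a branch-length vector a = (a_1, …, a_s) with a_j ≥
c_j, and let ξ be the s-tuple with x in the j-th place and 1 elsewhere. Call an ideal I of R of type
(d, a) when it has colength d and, for every i, the ideal of k[[x]] generated by the i-th components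
of its elements is (x^{a_i}). Then multiplication by ξ is a bijection from the ideals of type (d, a)
onto the ideals of type (d + 1, a + e_j), where a + e_j is a with its j-th entry raised by one: for
every ideal I of type (d, a) the set ξ·I is (the image of) an ideal of type (d + 1, a + e_j), and
every ideal of type (d + 1, a + e_j) is ξ·I for some ideal I of type (d, a). (The published
statement is the equality, in the Grothendieck ring of varieties, of the classes of the two
corresponding branch-length strata of the punctual Hilbert scheme; this row states the bijection on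
ideals underlying it, which is what the argument establishes; the published statement is over an
algebraically closed field, and this row allows any field.) -/
theorem result (k : Type u) [Field k] (s : ℕ)
    (R : Subalgebra k (Fin s → PowerSeries k))
    (hfin : Module.Finite k ((Fin s → PowerSeries k) ⧸ Subalgebra.toSubmodule R))
    (hloc : ∀ f ∈ R, ∀ i j : Fin s, PowerSeries.constantCoeff (f i) = PowerSeries.constantCoeff (f j))
    (c : Fin s → ℕ)
    (hc : ∀ f : Fin s → PowerSeries k,
      (∀ g : Fin s → PowerSeries k, g * f ∈ R) ↔ ∀ i, ((c i : ℕ) : ℕ∞) ≤ (f i).order)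
    (j : Fin s) (d : ℕ) (a : Fin s → ℕ) (hj : c j ≤ a j) :
    (∀ I ∈ {I : Ideal ↥R | Module.Finite k (↥R ⧸ I) ∧ Module.finrank k (↥R ⧸ I) = d ∧ (∀ i : Fin s, Ideal.map ((Pi.evalAlgHom k (fun _ : Fin s => PowerSeries k) i).comp R.val) I = Ideal.span {PowerSeries.X ^ (a i)})},
      ∃ J ∈ {I : Ideal ↥R | Module.Finite k (↥R ⧸ I) ∧ Module.finrank k (↥R ⧸ I) = d + 1 ∧ (∀ i : Fin s, Ideal.map ((Pi.evalAlgHom k (fun _ : Fin s => PowerSeries k) i).comp R.val) I = Ideal.span {PowerSeries.X ^ ((Function.update a j (a j + 1)) i)})},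
        (Subtype.val '' (J : Set ↥R)) = (fun f => Pi.mulSingle j PowerSeries.X * f) '' (Subtype.val '' (I : Set ↥R))) ∧
    (∀ J ∈ {I : Ideal ↥R | Module.Finite k (↥R ⧸ I) ∧ Module.finrank k (↥R ⧸ I) = d + 1 ∧ (∀ i : Fin s, Ideal.map ((Pi.evalAlgHom k (fun _ : Fin s => PowerSeries k) i).comp R.val) I = Ideal.span {PowerSeries.X ^ ((Function.update a j (a j + 1)) i)})},
      ∃ I ∈ {I : Ideal ↥R | Module.Finite k (↥R ⧸ I) ∧ Module.finrank k (↥R ⧸ I) = d ∧ (∀ i : Fin s, Ideal.map ((Pi.evalAlgHom k (fun _ : Fin s => PowerSeries k) i).comp R.val) I = Ideal.span {PowerSeries.X ^ (a i)})},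
        (Subtype.val '' (J : Set ↥R)) = (fun f => Pi.mulSingle j PowerSeries.X * f) '' (Subtype.val '' (I : Set ↥R))) := by
  exact Aux.main R hfin c hc j d a hj

end Groth.Agent.S15149
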