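import Groth.Statements.S15023
import Mathlib
import Groth.Agent.Lib.Helper9.SubQuotLen
import Groth.Agent.Lib.Helper9.SubQuotLen2
import Groth.Agent.S15149
import Groth.Agent.S15009
-- import your own Groth.Agent.* helpers here

set_option autoImplicit false
universe u
open TFCurv

namespace Groth.Agent.S15023

open Groth.Agent.Helper9.SubQuotLen
namespace Aux

variable {k : Type u} [Field k]

section cond
variable (A : Subalgebra k (PowerSeries k))

/-- a common multiplier into `A` -/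
theorem exists_conductor_elt (hA : Module.Finite ↥A (PowerSeries k))
    (hbir : ∀ f : PowerSeries k, ∃ a ∈ A, a ≠ 0 ∧ a * f ∈ A) :
    ∃ a ∈ A, a ≠ 0 ∧ ∀ f : PowerSeries k, a * f ∈ A := by
  classical
  obtain ⟨S, hS⟩ := (Module.Finite.fg_top : (⊤ : Submodule ↥A (PowerSeries k)).FG)
  choose g hgA hg0 hg using hbir
  refine ⟨∏ s ∈ S, g s, Subalgebra.prod_mem _ (fun s _ => hgA s),
    Finset.prod_ne_zero_iff.mpr (fun s _ => hg0 s), ?_⟩
  intro f
  have hf : f ∈ Submodule.span ↥A (S : Set (PowerSeries k)) := by rw [hS]; trivial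
  refine Submodule.span_induction ?_ ?_ ?_ ?_ hf
  · intro s hs
    obtain ⟨b, hb⟩ := Finset.dvd_prod_of_mem g hs
    have hbA : (∏ s ∈ S.erase s, g s) ∈ A := Subalgebra.prod_mem _ (fun s _ => hgA s)
    rw [← Finset.mul_prod_erase S g hs, mul_comm (g s), mul_assoc]
    exact A.mul_mem hbA (hg s)
  · rw [mul_zero]; exact A.zero_mem
  · intro x y _ _ hx hy
    rw [mul_add]; exact A.add_mem hx hy
  · intro c x _ hx
    have : (∏ s ∈ S, g s) * (c • x) = (c : PowerSeries k) * ((∏ s ∈ S, g s) * x) := by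
      rw [Subalgebra.smul_def]; ring
    rw [this]
    exact A.mul_mem c.2 hx

theorem exists_conductor (hA : Module.Finite ↥A (PowerSeries k))
    (hbir : ∀ f : PowerSeries k, ∃ a ∈ A, a ≠ 0 ∧ a * f ∈ A) :
    ∃ c₀ : ℕ, ∀ f : PowerSeries k, PowerSeries.X ^ c₀ * f ∈ A := by
  obtain ⟨a, haA, ha0, ha⟩ := exists_conductor_elt A hA hbir
  obtain ⟨n, u, hu⟩ := IsDiscreteValuationRing.eq_unit_mul_pow_irreducible ha0
    (PowerSeries.X_irreducible (R := k))
  refine ⟨n, fun f => ?_⟩
  have h1 : PowerSeries.X ^ n * f = a * ((↑u⁻¹ : PowerSeries k) * f) := by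
    rw [hu, mul_comm (u : PowerSeries k), mul_assoc, ← mul_assoc (u : PowerSeries k),
      Units.mul_inv, one_mul]
  rw [h1]
  exact ha _

end cond


section dims
open Groth.Agent.S15149.Aux

/-- multiplication by `X^j` as a `k`-linear map -/
noncomputable def mulX (j : ℕ) : PowerSeries k →ₗ[k] PowerSeries k :=
  LinearMap.mulLeft k (PowerSeries.X ^ j)

theorem mulX_apply (j : ℕ) (f : PowerSeries k) : mulX j f = PowerSeries.X ^ j * f := rfl

theorem mulX_injective (j : ℕ) : Function.Injective (mulX (k := k) j) := by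
  intro f g h
  exact mul_left_cancel₀ (pow_ne_zero j PowerSeries.X_ne_zero) h

theorem sqLen_range_mulX_one : sqLen (LinearMap.range (mulX (k := k) 1)) ⊤ = 1 := by
  rw [sqLen_top]
  let ε : PowerSeries k →ₗ[k] k := PowerSeries.coeff 0
  have hε : Function.Surjective ε := by
    intro a
    exact ⟨PowerSeries.C a, by simp [ε]⟩
  have hker : LinearMap.ker ε = LinearMap.range (mulX 1) := by
    ext f
    rw [LinearMap.mem_ker, LinearMap.mem_range]
    constructor
    · intro h
      obtain ⟨g, hg⟩ := PowerSeries.X_dvd_iff.mpr (by simpa [ε] using h)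
      exact ⟨g, by rw [mulX_apply, pow_one, hg]⟩
    · rintro ⟨g, rfl⟩
      simp [ε, mulX_apply]
  rw [← hker, (LinearMap.quotKerEquivOfSurjective ε hε).length_eq]
  rw [Module.length_eq_finrank, Module.finrank_self]
  rfl

theorem sqLen_map_top_gen {M : Type u} [AddCommGroup M] [Module k M] (ξ : M →ₗ[k] M)
    (hinj : Function.Injective ξ) (hrange : sqLen (LinearMap.range ξ) ⊤ = 1)
    (B : Submodule k M) : sqLen (B.map ξ) ⊤ = sqLen B ⊤ + 1 := by
  have h2 := sqLen_add (A := B.map ξ) (B := LinearMap.range ξ)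
    (C := ⊤) (by rw [LinearMap.range_eq_map]; exact Submodule.map_mono le_top) le_top
  have h3 : sqLen (B.map ξ) (LinearMap.range ξ) = sqLen B ⊤ := by
    rw [LinearMap.range_eq_map]
    exact sqLen_map ξ le_top (by
      rw [LinearMap.ker_eq_bot.mpr hinj]; exact le_trans inf_le_left bot_le)
  rw [h2, h3, hrange]

theorem sqLen_map_pow_gen {M : Type u} [AddCommGroup M] [Module k M] (ξ : M →ₗ[k] M)
    (hinj : Function.Injective ξ) (hrange : sqLen (LinearMap.range ξ) ⊤ = 1)
    (B : Submodule k M) (j : ℕ) : sqLen (B.map (ξ ^ j)) ⊤ = sqLen B ⊤ + j := by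
  induction j with
  | zero =>
    rw [pow_zero, Module.End.one_eq_id, Submodule.map_id]
    simp
  | succ j ih =>
    rw [pow_succ', Module.End.mul_eq_comp, Submodule.map_comp,
      sqLen_map_top_gen ξ hinj hrange, ih]
    push_cast
    ring

theorem mulX_eq_pow (j : ℕ) : mulX (k := k) j = (mulX 1) ^ j := by
  induction j with
  | zero =>
    ext f
    simp [mulX_apply]
  | succ j ih =>
    rw [pow_succ', ← ih]
    ext f
    simp only [mulX_apply, Module.End.mul_apply, pow_succ, pow_one]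
    ring

theorem sqLen_map_mulX (B : Submodule k (PowerSeries k)) (j : ℕ) :
    sqLen (B.map (mulX j)) ⊤ = sqLen B ⊤ + j := by
  rw [mulX_eq_pow]
  have h0 := sqLen_map_pow_gen (mulX (k := k) 1) (mulX_injective 1) sqLen_range_mulX_one
  exact h0 B j

end dims


section semigroup
variable (A : Subalgebra k (PowerSeries k)) (Γ : Set ℕ)
  (hΓ : ∀ n : ℕ, n ∈ Γ ↔ ∃ f ∈ A, PowerSeries.order f = n)
  (hmono : ∀ f : PowerSeries k, f ∈ A ↔ ∀ n : ℕ, PowerSeries.coeff n f ≠ 0 → n ∈ Γ)

include hmono in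
theorem X_pow_mem {γ : ℕ} (hγ : γ ∈ Γ) : (PowerSeries.X : PowerSeries k) ^ γ ∈ A := by
  rw [hmono]
  intro n hn
  rw [PowerSeries.coeff_X_pow] at hn
  by_cases h : n = γ
  · rw [h]; exact hγ
  · rw [if_neg h] at hn
    exact absurd rfl hn

include hΓ in
theorem mem_of_conductor (c₀ : ℕ) (hc₀ : ∀ f : PowerSeries k, PowerSeries.X ^ c₀ * f ∈ A)
    {n : ℕ} (hn : c₀ ≤ n) : n ∈ Γ := by
  rw [hΓ]
  refine ⟨PowerSeries.X ^ n, ?_, PowerSeries.order_X_pow n⟩
  have : (PowerSeries.X : PowerSeries k) ^ n = PowerSeries.X ^ c₀ * PowerSeries.X ^ (n - c₀) := by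
    rw [← pow_add]; congr 1; omega
  rw [this]
  exact hc₀ _

include hΓ in
theorem compl_finite (c₀ : ℕ) (hc₀ : ∀ f : PowerSeries k, PowerSeries.X ^ c₀ * f ∈ A) :
    Γᶜ.Finite := by
  refine Set.Finite.subset (Finset.range c₀).finite_toSet ?_
  intro n hn
  rw [Finset.coe_range, Set.mem_Iio]
  by_contra h
  exact hn (mem_of_conductor A Γ hΓ c₀ hc₀ (not_lt.mp h))

open Groth.Agent.S15149.Aux in
include hmono in
theorem sqLen_A_le (hfin : Γᶜ.Finite) :
    sqLen (Subalgebra.toSubmodule A) ⊤ ≤ (Γᶜ.ncard : ℕ∞) := by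
  classical
  rw [sqLen_top]
  set s := hfin.toFinset with hs
  let v : s → (PowerSeries k ⧸ Subalgebra.toSubmodule A) :=
    fun g => Submodule.Quotient.mk (PowerSeries.X ^ (g : ℕ))
  have hspan : Submodule.span k (Set.range v) = ⊤ := by
    rw [eq_top_iff]
    intro q _
    obtain ⟨f, rfl⟩ := Submodule.Quotient.mk_surjective _ q
    have h1 : f - ∑ g : s, PowerSeries.coeff (g : ℕ) f • (PowerSeries.X : PowerSeries k) ^ (g : ℕ) ∈
        Subalgebra.toSubmodule A := by
      rw [Subalgebra.mem_toSubmodule, hmono]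
      intro n hn
      by_contra hnΓ
      apply hn
      have hns : n ∈ s := by rw [hs, Set.Finite.mem_toFinset]; exact hnΓ
      rw [map_sub, map_sum, Finset.sum_eq_single (⟨n, hns⟩ : s)]
      · simp [PowerSeries.coeff_X_pow]
      · intro g _ hg
        have : (g : ℕ) ≠ n := fun h => hg (Subtype.ext h)
        simp [PowerSeries.coeff_X_pow, this.symm]
      · intro h
        exact absurd (Finset.mem_univ _) h
    have h2 : (Submodule.Quotient.mk f : PowerSeries k ⧸ Subalgebra.toSubmodule A) =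
        ∑ g : s, PowerSeries.coeff (g : ℕ) f • v g := by
      rw [← sub_eq_zero]
      have : (Submodule.Quotient.mk f : PowerSeries k ⧸ Subalgebra.toSubmodule A) -
          ∑ g : s, PowerSeries.coeff (g : ℕ) f • v g =
          Submodule.Quotient.mk (f - ∑ g : s, PowerSeries.coeff (g : ℕ) f •
            (PowerSeries.X : PowerSeries k) ^ (g : ℕ)) := by
        rw [Submodule.Quotient.mk_sub]
        congr 1
        have h5 : (Submodule.Quotient.mk (∑ g : s, PowerSeries.coeff (g : ℕ) f •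
            (PowerSeries.X : PowerSeries k) ^ (g : ℕ)) :
              PowerSeries k ⧸ Subalgebra.toSubmodule A) =
            (Subalgebra.toSubmodule A).mkQ (∑ g : s, PowerSeries.coeff (g : ℕ) f •
            (PowerSeries.X : PowerSeries k) ^ (g : ℕ)) := rfl
        rw [h5, map_sum]
        refine Finset.sum_congr rfl (fun g _ => ?_)
        rw [map_smul]
        rfl
      rw [this, Submodule.Quotient.mk_eq_zero]
      exact h1
    rw [h2]
    exact Submodule.sum_mem _ (fun g _ => Submodule.smul_mem _ _ (Submodule.subset_span ⟨g, rfl⟩))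
  haveI : Module.Finite k (PowerSeries k ⧸ Subalgebra.toSubmodule A) :=
    ⟨by
      rw [← hspan]
      exact Submodule.fg_span (Set.finite_range v)⟩
  rw [Module.length_eq_finrank]
  have h3 := finrank_range_le_card (R := k) v
  rw [Set.finrank, hspan, finrank_top, Fintype.card_coe] at h3
  have h4 : s.card = Γᶜ.ncard := (Set.ncard_eq_toFinset_card Γᶜ hfin).symm
  rw [← h4]
  exact_mod_cast h3

end semigroup


section lattice
open Groth.Agent.S15149.Aux

theorem sqLen_map_bij_gen {M : Type u} [AddCommGroup M] [Module k M] (e : M →ₗ[k] M)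
    (hinj : Function.Injective e) (hsurj : Function.Surjective e) (B : Submodule k M) :
    sqLen (B.map e) ⊤ = sqLen B ⊤ := by
  have h1 := sqLen_map e (A := B) (B := ⊤) le_top (by
    rw [LinearMap.ker_eq_bot.mpr hinj]; exact le_trans inf_le_left bot_le)
  rw [Submodule.map_top, LinearMap.range_eq_top.mpr hsurj] at h1
  exact h1

variable (A : Subalgebra k (PowerSeries k)) (Γ : Set ℕ)
  (hΓ : ∀ n : ℕ, n ∈ Γ ↔ ∃ f ∈ A, PowerSeries.order f = n)
  (hmono : ∀ f : PowerSeries k, f ∈ A ↔ ∀ n : ℕ, PowerSeries.coeff n f ≠ 0 → n ∈ Γ)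
  (c₀ : ℕ) (hc₀ : ∀ f : PowerSeries k, PowerSeries.X ^ c₀ * f ∈ A)
  (M₁ : Submodule ↥A (PowerSeries k)) (ε : PowerSeries k) (hε : ε ∈ M₁) (hεu : IsUnit ε)

include hc₀ hε hεu in
theorem X_pow_mul_mem (h : PowerSeries k) : PowerSeries.X ^ c₀ * h ∈ M₁ := by
  obtain ⟨u, rfl⟩ := hεu
  have h1 : PowerSeries.X ^ c₀ * h =
      (⟨PowerSeries.X ^ c₀ * (h * (↑u⁻¹ : PowerSeries k)), hc₀ _⟩ : ↥A) • (u : PowerSeries k) := by
    rw [Subalgebra.smul_def]
    show _ = PowerSeries.X ^ c₀ * (h * (↑u⁻¹ : PowerSeries k)) * (u : PowerSeries k)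
    rw [mul_assoc, mul_assoc, Units.inv_mul, mul_one]
  rw [h1]
  exact M₁.smul_mem _ hε

include hmono hε hεu in
theorem sqLen_M₁_le (hfin : Γᶜ.Finite) :
    sqLen (M₁.restrictScalars k) ⊤ ≤ (Γᶜ.ncard : ℕ∞) := by
  obtain ⟨u, rfl⟩ := hεu
  have hinj : Function.Injective (LinearMap.mulLeft k (u : PowerSeries k)) := by
    intro f g hfg
    have := congrArg (fun z => (↑u⁻¹ : PowerSeries k) * z) hfg
    simpa [← mul_assoc] using this
  have hsurj : Function.Surjective (LinearMap.mulLeft k (u : PowerSeries k)) := by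
    intro f
    exact ⟨(↑u⁻¹ : PowerSeries k) * f, by simp [← mul_assoc]⟩
  have h0 := sqLen_map_bij_gen (LinearMap.mulLeft k (u : PowerSeries k)) hinj hsurj
  have h1 := h0 (Subalgebra.toSubmodule A)
  have h2 : (Subalgebra.toSubmodule A).map (LinearMap.mulLeft k (u : PowerSeries k)) ≤
      M₁.restrictScalars k := by
    rintro _ ⟨a, ha, rfl⟩
    have h3 : (LinearMap.mulLeft k (u : PowerSeries k)) a = (⟨a, ha⟩ : ↥A) • (u : PowerSeries k) := by
      rw [Subalgebra.smul_def]
      exact mul_comm _ _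
    rw [h3]
    exact M₁.smul_mem _ hε
  calc sqLen (M₁.restrictScalars k) ⊤
      ≤ sqLen ((Subalgebra.toSubmodule A).map (LinearMap.mulLeft k (u : PowerSeries k))) ⊤ :=
        sqLen_le_of_le h2 le_top le_rfl
    _ = sqLen (Subalgebra.toSubmodule A) ⊤ := h1
    _ ≤ _ := sqLen_A_le A Γ hmono hfin


include hmono in
theorem conductor_bound (hfin : Γᶜ.Finite) (ℓ : ℕ)
    (hℓ : sqLen (M₁.restrictScalars k) ⊤ = (ℓ : ℕ∞)) (c₁ : ℕ)
    (hc₁ : ∀ h : PowerSeries k, PowerSeries.X ^ c₁ * h ∈ M₁)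
    (hmin : ∀ n < c₁, ¬ ∀ h : PowerSeries k, PowerSeries.X ^ n * h ∈ M₁) :
    c₁ ≤ Γᶜ.ncard + ℓ := by
  classical
  rcases Nat.eq_zero_or_eq_succ_pred c₁ with h0 | hsucc
  · omega
  set x := c₁ - 1 with hx
  have hc₁x : c₁ = x + 1 := hsucc
  have hmx := hmin x (by omega)
  -- no element of `M₁` of order exactly `x`
  have hP : ∀ F ∈ M₁, (∀ m < x, PowerSeries.coeff m F = 0) → PowerSeries.coeff x F = 0 := by
    intro F hF hlow
    by_contra ha
    apply hmx
    obtain ⟨G, rfl⟩ := PowerSeries.X_pow_dvd_iff.mpr hlow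
    have hG0 : PowerSeries.constantCoeff G ≠ 0 := by
      rw [PowerSeries.coeff_X_pow_mul', if_pos le_rfl, Nat.sub_self] at ha
      simpa using ha
    have hG := PowerSeries.eq_X_mul_shift_add_const G
    set G' : PowerSeries k := PowerSeries.mk fun p => PowerSeries.coeff (p + 1) G with hG'
    have h1 : PowerSeries.X ^ x * G = PowerSeries.X ^ c₁ * G' +
        (PowerSeries.constantCoeff G) • PowerSeries.X ^ x := by
      conv_lhs => rw [hG]
      rw [hc₁x, pow_succ, PowerSeries.smul_eq_C_mul]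
      ring
    have h2 : (PowerSeries.constantCoeff G) • (PowerSeries.X : PowerSeries k) ^ x ∈
        M₁.restrictScalars k := by
      have : (PowerSeries.constantCoeff G) • (PowerSeries.X : PowerSeries k) ^ x =
          PowerSeries.X ^ x * G - PowerSeries.X ^ c₁ * G' := by rw [h1]; ring
      rw [this]
      exact sub_mem hF (hc₁ G')
    have h3 : (PowerSeries.X : PowerSeries k) ^ x ∈ M₁.restrictScalars k := by
      have := (M₁.restrictScalars k).smul_mem (PowerSeries.constantCoeff G)⁻¹ h2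
      rwa [smul_smul, inv_mul_cancel₀ hG0, one_smul] at this
    intro h
    have hh := PowerSeries.eq_X_mul_shift_add_const h
    set h' : PowerSeries k := PowerSeries.mk fun p => PowerSeries.coeff (p + 1) h with hh'
    have h4 : PowerSeries.X ^ x * h = PowerSeries.X ^ c₁ * h' +
        (PowerSeries.constantCoeff h) • PowerSeries.X ^ x := by
      conv_lhs => rw [hh]
      rw [hc₁x, pow_succ, PowerSeries.smul_eq_C_mul]
      ring
    rw [h4]
    exact add_mem (hc₁ h') ((M₁.restrictScalars k).smul_mem _ h3)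
  -- the independent family
  set sin := (Finset.range (x + 1)).filter (fun γ => γ ∈ Γ) with hsin
  set sout := (Finset.range (x + 1)).filter (fun γ => ¬ γ ∈ Γ) with hsout
  have hmemsin : ∀ γ : sin, (γ : ℕ) ∈ Γ ∧ (γ : ℕ) ≤ x := by
    intro γ
    have h := Finset.mem_filter.mp γ.2
    have h2 := Finset.mem_range.mp h.1
    exact ⟨h.2, by omega⟩
  have hcard : sin.card + sout.card = x + 1 := by
    rw [hsin, hsout, Finset.card_filter_add_card_filter_not, Finset.card_range]
  have hout : sout.card ≤ Γᶜ.ncard := by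
    rw [Set.ncard_eq_toFinset_card Γᶜ hfin]
    apply Finset.card_le_card
    intro γ hγ
    rw [hsout, Finset.mem_filter] at hγ
    rw [Set.Finite.mem_toFinset]
    exact hγ.2
  obtain ⟨hfinQ, hfinrank⟩ := (finite_finrank_iff_length
    (M := PowerSeries k ⧸ M₁.restrictScalars k) ℓ).mpr (by rw [← sqLen_top]; exact hℓ)
  let v : sin → (PowerSeries k ⧸ M₁.restrictScalars k) :=
    fun γ => Submodule.Quotient.mk (PowerSeries.X ^ (x - (γ : ℕ)))
  have hli : LinearIndependent k v := by
    rw [Fintype.linearIndependent_iff]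
    intro a ha
    by_contra hne
    push_neg at hne
    set f : PowerSeries k := ∑ γ : sin, a γ • (PowerSeries.X : PowerSeries k) ^ (x - (γ : ℕ)) with hf
    have hfM : f ∈ M₁.restrictScalars k := by
      rw [← Submodule.Quotient.mk_eq_zero, ← ha]
      show (M₁.restrictScalars k).mkQ f = _
      rw [hf, map_sum]
      refine Finset.sum_congr rfl (fun γ _ => ?_)
      rw [map_smul]
      rfl
    have hT : (Finset.univ.filter (fun γ : sin => a γ ≠ 0)).Nonempty := by
      obtain ⟨γ, hγ⟩ := hne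
      exact ⟨γ, by simp [hγ]⟩
    obtain ⟨γ₀, hγ₀T, hγ₀max⟩ := Finset.exists_max_image _ (fun γ : sin => (γ : ℕ)) hT
    have haγ₀ : a γ₀ ≠ 0 := by simpa using hγ₀T
    have hγ₀Γ : (γ₀ : ℕ) ∈ Γ := (hmemsin γ₀).1
    have hγ₀x : (γ₀ : ℕ) ≤ x := (hmemsin γ₀).2
    have hFM : PowerSeries.X ^ (γ₀ : ℕ) * f ∈ M₁ := by
      have : PowerSeries.X ^ (γ₀ : ℕ) * f =
          (⟨PowerSeries.X ^ (γ₀ : ℕ), X_pow_mem A Γ hmono hγ₀Γ⟩ : ↥A) • f := by
        rw [Subalgebra.smul_def, smul_eq_mul]
      rw [this]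
      exact M₁.smul_mem _ hfM
    have hcoeff : ∀ m, PowerSeries.coeff m (PowerSeries.X ^ (γ₀ : ℕ) * f) =
        ∑ γ : sin, if m = (γ₀ : ℕ) + (x - (γ : ℕ)) then a γ else 0 := by
      intro m
      rw [hf, Finset.mul_sum, map_sum]
      refine Finset.sum_congr rfl (fun γ _ => ?_)
      rw [mul_smul_comm, ← pow_add, map_smul, PowerSeries.coeff_X_pow, smul_eq_mul]
      split_ifs <;> simp
    have hγle : ∀ γ : sin, a γ ≠ 0 → (γ : ℕ) ≤ (γ₀ : ℕ) := by
      intro γ hγ
      exact hγ₀max γ (by simp [hγ])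
    have hγx : ∀ γ : sin, (γ : ℕ) ≤ x := fun γ => (hmemsin γ).2
    have hlow : ∀ m < x, PowerSeries.coeff m (PowerSeries.X ^ (γ₀ : ℕ) * f) = 0 := by
      intro m hm
      rw [hcoeff]
      refine Finset.sum_eq_zero (fun γ _ => ?_)
      split_ifs with h
      · by_contra hane
        have := hγle γ hane
        have := hγx γ
        omega
      · rfl
    have hx' := hP _ hFM hlow
    rw [hcoeff, Finset.sum_eq_single γ₀] at hx'
    · rw [if_pos (by omega)] at hx'
      exact haγ₀ hx'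
    · intro γ _ hγ
      split_ifs with h
      · by_contra hane
        have h1 := hγle γ hane
        have h2 := hγx γ
        have : (γ : ℕ) = (γ₀ : ℕ) := by omega
        exact hγ (Subtype.ext this)
      · rfl
    · intro h
      exact absurd (Finset.mem_univ _) h
  have h5 := hli.fintype_card_le_finrank
  rw [Fintype.card_coe, hfinrank] at h5
  omega

/-- multiplication by `X^j` as an `A`-linear map -/
noncomputable def mulXA (j : ℕ) : PowerSeries k →ₗ[↥A] PowerSeries k :=
  LinearMap.mulLeft ↥A (PowerSeries.X ^ j)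

theorem mulXA_apply (j : ℕ) (f : PowerSeries k) : mulXA A j f = PowerSeries.X ^ j * f := rfl

theorem mulXA_injective (j : ℕ) : Function.Injective (mulXA A j) := by
  intro f g h
  exact mul_left_cancel₀ (pow_ne_zero j PowerSeries.X_ne_zero) h

include hΓ hmono hc₀ hε hεu in
theorem exists_lattice : ∃ M' : Submodule ↥A (PowerSeries k),
    (Ideal.span {(PowerSeries.X : PowerSeries k) ^ (2 * Γᶜ.ncard)}).restrictScalars ↥A ≤ M' ∧
    Nonempty (M₁ ≃ₗ[↥A] ↥M') ∧
    Module.finrank k (PowerSeries k ⧸ M'.restrictScalars k) = Γᶜ.ncard := by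
  have hfin := compl_finite A Γ hΓ c₀ hc₀
  have hle := sqLen_M₁_le A Γ hmono M₁ ε hε hεu hfin
  have hne : sqLen (M₁.restrictScalars k) ⊤ ≠ ⊤ :=
    ne_top_of_le_ne_top (ENat.coe_ne_top _) hle
  obtain ⟨ℓ, hℓ⟩ := ENat.ne_top_iff_exists.mp hne
  have hℓδ : ℓ ≤ Γᶜ.ncard := by
    rw [← hℓ] at hle
    exact_mod_cast hle
  have hex : ∃ n, ∀ h : PowerSeries k, PowerSeries.X ^ n * h ∈ M₁ :=
    ⟨c₀, X_pow_mul_mem A c₀ hc₀ M₁ ε hε hεu⟩
  classical
  have hcb := conductor_bound A Γ hmono M₁ hfin ℓ hℓ.symm (Nat.find hex) (Nat.find_spec hex)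
    (fun n hn => Nat.find_min hex hn)
  set c₁ := Nat.find hex with hc₁def
  have hc₁ : ∀ h : PowerSeries k, PowerSeries.X ^ c₁ * h ∈ M₁ := Nat.find_spec hex
  set δ := Γᶜ.ncard with hδ
  set j := δ - ℓ with hj
  refine ⟨M₁.map (mulXA A j), ?_, ⟨Submodule.equivMapOfInjective _ (mulXA_injective A j) M₁⟩, ?_⟩
  · intro f hf
    rw [Submodule.restrictScalars_mem, Ideal.mem_span_singleton'] at hf
    obtain ⟨g, rfl⟩ := hf
    refine ⟨PowerSeries.X ^ c₁ * (PowerSeries.X ^ (δ + ℓ - c₁) * g), hc₁ _, ?_⟩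
    rw [mulXA_apply, ← mul_assoc, ← mul_assoc, ← pow_add, ← pow_add, mul_comm g]
    congr 2
    omega
  · have h1 : (M₁.map (mulXA A j)).restrictScalars k = (M₁.restrictScalars k).map (mulX j) := by
      ext f
      constructor
      · rintro ⟨g, hg, rfl⟩
        exact ⟨g, hg, rfl⟩
      · rintro ⟨g, hg, rfl⟩
        exact ⟨g, hg, rfl⟩
    have h2 := sqLen_map_mulX (M₁.restrictScalars k) j
    rw [← h1, ← hℓ, sqLen_top] at h2
    have h3 : ((ℓ : ℕ∞) + (j : ℕ∞)) = ((δ : ℕ) : ℕ∞) := by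
      rw [← Nat.cast_add]
      congr 1
      omega
    rw [h3] at h2
    exact ((finite_finrank_iff_length δ).mpr h2).2


end lattice

section final
open TensorProduct

variable (A : Subalgebra k (PowerSeries k)) (Γ : Set ℕ)

/-- an injective linear map from a finite torsion free module of rank one to the base domain -/
theorem exists_embedding_gen {O : Type u} [CommRing O] [IsDomain O] {K : Type u} [Field K]
    [Algebra O K] [IsFractionRing O K] (M : Type u) [AddCommGroup M] [Module O M]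
    [Module.Finite O M] [NoZeroSMulDivisors O M]
    (hrk : Module.finrank K (TensorProduct O K M) = 1) :
    ∃ θ : M →ₗ[O] O, Function.Injective θ ∧ ∃ m, θ m ≠ 0 := by
  classical
  obtain ⟨ψ, hψinj, hψspan⟩ := Groth.Agent.S15009.Aux.exists_embedding (O := O)
    (K := K) (M := M) 1 hrk
  -- compose with evaluation
  set ψ₀ : M →ₗ[O] K := (LinearMap.proj 0).comp ψ with hψ₀
  have hψ₀inj : Function.Injective ψ₀ := by
    intro x y hxy
    apply hψinj
    funext i
    rw [Subsingleton.elim i 0]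
    exact hxy
  have hfg : (LinearMap.range ψ₀).FG := by
    rw [LinearMap.range_eq_map]
    exact (Module.Finite.fg_top).map ψ₀
  obtain ⟨b, hb, hI⟩ := FractionalIdeal.isFractional_of_fg (S := nonZeroDivisors O) hfg
  have hb0 : b ≠ 0 := nonZeroDivisors.ne_zero hb
  set ι : O →ₗ[O] K := Algebra.linearMap O K with hι
  have hιinj : Function.Injective ι := IsFractionRing.injective O K
  set ψ₁ : M →ₗ[O] K := ψ₀.comp (LinearMap.lsmul O M b) with hψ₁
  have hψ₁inj : Function.Injective ψ₁ := by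
    intro x y hxy
    have h1 : b • x = b • y := hψ₀inj hxy
    exact smul_right_injective M hb0 h1
  have hrange : ∀ m, ψ₁ m ∈ LinearMap.range ι := by
    intro m
    obtain ⟨a, ha⟩ := hI (ψ₀ m) ⟨m, rfl⟩
    refine ⟨a, ?_⟩
    rw [hψ₁, LinearMap.comp_apply, LinearMap.lsmul_apply, map_smul]
    exact ha
  set θ₀ : M →ₗ[O] O := ((LinearEquiv.ofInjective ι hιinj).symm.toLinearMap).comp
    (LinearMap.codRestrict (LinearMap.range ι) ψ₁ hrange) with hθ₀
  have hθ₀inj : Function.Injective θ₀ := by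
    intro x y hxy
    have h1 := (LinearEquiv.ofInjective ι hιinj).symm.injective hxy
    have h2 : ψ₁ x = ψ₁ y := congrArg Subtype.val h1
    exact hψ₁inj h2
  refine ⟨θ₀, hθ₀inj, ?_⟩
  by_contra hall
  push_neg at hall
  have hM : ∀ m : M, m = 0 := by
    intro m
    apply hθ₀inj
    rw [map_zero]
    exact hall m
  have : Set.range ψ ⊆ {0} := by
    rintro _ ⟨m, rfl⟩
    rw [hM m, map_zero]
    rfl
  have h2 : Submodule.span K (Set.range ψ) = ⊥ := by
    rw [Submodule.span_eq_bot]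
    intro x hx
    exact this hx
  rw [h2] at hψspan
  exact bot_ne_top hψspan

/-- an injective `A`-linear map from a rank one torsion free module into `k[[t]]` -/
theorem exists_embedding_ps (M : Type u) [AddCommGroup M] [Module ↥A M] [Module.Finite ↥A M]
    [NoZeroSMulDivisors ↥A M]
    (hrk : Module.finrank (FractionRing ↥A) (TensorProduct ↥A (FractionRing ↥A) M) = 1) :
    ∃ θ : M →ₗ[↥A] PowerSeries k, Function.Injective θ ∧ ∃ m, θ m ≠ 0 := by
  have h0 := exists_embedding_gen (O := ↥A) (K := FractionRing ↥A) M hrk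
  obtain ⟨θ₀, hθ₀inj, m₀, hm₀⟩ := h0
  refine ⟨(Algebra.linearMap ↥A (PowerSeries k)).comp θ₀, ?_, m₀, ?_⟩
  · intro x y hxy
    apply hθ₀inj
    exact Subtype.ext hxy
  · intro h
    apply hm₀
    exact Subtype.ext h

/-- normalise a nonzero submodule to contain a unit -/
theorem exists_unit_model (I : Submodule ↥A (PowerSeries k)) (hI : ∃ f ∈ I, f ≠ 0) :
    ∃ M₁ : Submodule ↥A (PowerSeries k), Nonempty (I ≃ₗ[↥A] M₁) ∧ ∃ ε ∈ M₁, IsUnit ε := by
  classical
  have hex : ∃ n : ℕ, ∃ f ∈ I, f ≠ 0 ∧ PowerSeries.order f = n := by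
    obtain ⟨f, hf, hf0⟩ := hI
    refine ⟨(PowerSeries.order f).toNat, f, hf, hf0, ?_⟩
    rw [ENat.coe_toNat]
    exact ((PowerSeries.order_finite_iff_ne_zero).mpr hf0).ne
  set v := Nat.find hex with hv
  obtain ⟨f₀, hf₀I, hf₀0, hf₀v⟩ := Nat.find_spec hex
  have hdiv : ∀ f ∈ I, PowerSeries.X ^ v ∣ f := by
    intro f hf
    by_cases hf0 : f = 0
    · rw [hf0]; exact dvd_zero _
    rw [PowerSeries.X_pow_dvd_iff]
    intro m hm
    apply PowerSeries.coeff_of_lt_order
    have h1 : (PowerSeries.order f).toNat = PowerSeries.order f := by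
      rw [ENat.coe_toNat]
      exact ((PowerSeries.order_finite_iff_ne_zero).mpr hf0).ne
    have h2 : v ≤ (PowerSeries.order f).toNat :=
      Nat.find_min' hex ⟨f, hf, hf0, h1.symm⟩
    rw [← h1]
    exact_mod_cast lt_of_lt_of_le hm h2
  refine ⟨I.comap (mulXA A v), ?_, ?_⟩
  · have h1 : (I.comap (mulXA A v)).map (mulXA A v) = I := by
      apply Submodule.map_comap_eq_self
      intro f hf
      obtain ⟨g, rfl⟩ := hdiv f hf
      exact ⟨g, rfl⟩
    exact ⟨((Submodule.equivMapOfInjective _ (mulXA_injective A v) (I.comap (mulXA A v))).trans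
      (LinearEquiv.ofEq _ _ h1)).symm⟩
  · obtain ⟨g, rfl⟩ := hdiv f₀ hf₀I
    refine ⟨g, hf₀I, ?_⟩
    rw [PowerSeries.isUnit_iff_constantCoeff, isUnit_iff_ne_zero]
    intro hg0
    have hg : g ≠ 0 := by
      rintro rfl
      exact hf₀0 (mul_zero _)
    have h3 : PowerSeries.order (PowerSeries.X ^ v * g) = v + PowerSeries.order g := by
      rw [PowerSeries.order_mul, PowerSeries.order_X_pow]
    rw [hf₀v] at h3
    have h4 : PowerSeries.order g = 0 := by
      have hfin : PowerSeries.order g ≠ ⊤ := ((PowerSeries.order_finite_iff_ne_zero).mpr hg).ne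
      lift PowerSeries.order g to ℕ using hfin with n hn
      have : v = v + n := by exact_mod_cast h3
      have : n = 0 := by omega
      rw [this]; rfl
    have h5 := (PowerSeries.order_eq_nat (n := 0)).mp (by exact_mod_cast h4)
    exact h5.1 (by simpa using hg0)

theorem main (hA : Module.Finite ↥A (PowerSeries k))
    (hbir : ∀ f : PowerSeries k, ∃ a ∈ A, a ≠ 0 ∧ a * f ∈ A)
    (hΓ : ∀ n : ℕ, n ∈ Γ ↔ ∃ f ∈ A, PowerSeries.order f = n)
    (hmono : ∀ f : PowerSeries k, f ∈ A ↔ ∀ n : ℕ, PowerSeries.coeff n f ≠ 0 → n ∈ Γ)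
    (M : Type u) [AddCommGroup M] [Module ↥A M] [Module.Finite ↥A M] [NoZeroSMulDivisors ↥A M]
    (hrk : Module.finrank (FractionRing ↥A) (TensorProduct ↥A (FractionRing ↥A) M) = 1) :
    ∃ M' : Submodule ↥A (PowerSeries k),
      (Ideal.span {(PowerSeries.X : PowerSeries k) ^ (2 * Γᶜ.ncard)}).restrictScalars ↥A ≤ M' ∧
      Nonempty (M ≃ₗ[↥A] ↥M') ∧
      Module.finrank k (PowerSeries k ⧸ M'.restrictScalars k) = Γᶜ.ncard := by
  obtain ⟨c₀, hc₀⟩ := exists_conductor A hA hbir
  obtain ⟨θ, hθinj, m₀, hm₀⟩ := exists_embedding_ps A M hrk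
  obtain ⟨M₁, ⟨e₁⟩, ε, hε, hεu⟩ := exists_unit_model A (LinearMap.range θ)
    ⟨θ m₀, ⟨m₀, rfl⟩, hm₀⟩
  obtain ⟨M', h1, ⟨e₂⟩, h3⟩ := exists_lattice A Γ hΓ hmono c₀ hc₀ M₁ ε hε hεu
  exact ⟨M', h1, ⟨((LinearEquiv.ofInjective θ hθinj).trans e₁).trans e₂⟩, h3⟩

end final


end Aux

/-- Let k be an algebraically closed field and A ≠ k[[t]] a k-subalgebra of k[[t]] that is closed in the
t-adic topology, over which k[[t]] is a finite module, and such that every power series is carried
into A by multiplication with some nonzero element of A (so k[[t]] lies in the fraction field of A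
and is its normalisation, as for the complete local ring of a unibranch curve singularity), and let
Γ ⊆ ℕ be the set of t-orders of the nonzero elements of A (its value semigroup); assume moreover
that A is the monomial ring of Γ (a power series lies in A exactly when all its exponents lie in Γ),
and let δ be the number of gaps of Γ. Then every finitely generated torsion-free A-module of rank
one is isomorphic to an A-submodule M' of k[[t]] with t^{2δ} k[[t]] ⊆ M' and dim_k(k[[t]]/M') = δ,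
equivalently dim_k(M'/t^{2δ}k[[t]]) = δ: every isomorphism class of rank-one torsion-free modules is
represented by a δ-dimensional A-stable subspace of k[[t]]/t^{2δ}k[[t]]. -/
theorem result (k : Type u) [Field k] [IsAlgClosed k] (A : Subalgebra k (PowerSeries k)) (hA : Module.Finite ↥A (PowerSeries k)) (hcl : ∀ f : PowerSeries k, (∀ n : ℕ, ∃ g ∈ A, (n : ℕ∞) ≤ PowerSeries.order (f - g)) → f ∈ A) (hsing : A ≠ ⊤) (hbir : ∀ f : PowerSeries k, ∃ a ∈ A, a ≠ 0 ∧ a * f ∈ A) (Γ : Set ℕ) (hΓ : ∀ n : ℕ, n ∈ Γ ↔ ∃ f ∈ A, PowerSeries.order f = n) (hmono : ∀ f : PowerSeries k, f ∈ A ↔ ∀ n : ℕ, PowerSeries.coeff n f ≠ 0 → n ∈ Γ) (M : Type u) [AddCommGroup M] [Module ↥A M] [Module.Finite ↥A M] [NoZeroSMulDivisors ↥A M] (hrk : Module.finrank (FractionRing ↥A) (TensorProduct ↥A (FractionRing ↥A) M) = 1) : ∃ M' : Submodule ↥A (PowerSeries k), (Ideal.span {(PowerSeries.X : PowerSeries k) ^ (2 * Γᶜ.ncard)}).restrictScalars ↥A ≤ M' ∧ Nonempty (M ≃ₗ[↥A] ↥M') ∧ Module.finrank k (PowerSeries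 k ⧸ M'.restrictScalars k) = Γᶜ.ncard := by
  exact Aux.main A Γ hA hbir hΓ hmono M hrk

end Groth.Agent.S15023
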