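import Groth.Statements.S15024
import Mathlib
import Groth.Agent.Lib.Helper1.TorOne2

set_option autoImplicit false
universe u
open CategoryTheory
open TFCurv

namespace Groth.Agent.S15024

/-- Let O be a one-dimensional Noetherian local domain with algebraically closed residue field whose
integral closure O~ in its fraction field K is a finite O-module, M a finitely generated
torsion-free O-module and f : O^n → M an injective O-linear map whose cokernel T has finite length.
Then Tor_1^O(O~, M) and Tor_1^O(O~, T) are isomorphic (existence of an isomorphism only), and O~ ⊗_O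
f : O~ ⊗ O^n → O~ ⊗ M is injective, so that 0 → O~^n → O~ ⊗ M → O~ ⊗ T → 0 is exact. -/
theorem result (O : Type u) [CommRing O] [IsDomain O] [IsNoetherianRing O] [IsLocalRing O] (hdim : ringKrullDim O = 1) [IsAlgClosed (IsLocalRing.ResidueField O)] (K : Type u) [Field K] [Algebra O K] [IsFractionRing O K] (hfin : Module.Finite O ↥(integralClosure O K)) (M : Type u) [AddCommGroup M] [Module O M] [Module.Finite O M] [NoZeroSMulDivisors O M] (n : ℕ) (f : (Fin n → O) →ₗ[O] M) (hf : Function.Injective f) (hT : IsFiniteLength O (M ⧸ LinearMap.range f)) : Nonempty (((Tor (ModuleCat.{u} O) 1).obj (ModuleCat.of O ↥(integralClosure O K))).obj (ModuleCat.of O M) ≅ ((Tor (ModuleCat.{u} O) 1).obj (ModuleCat.of O ↥(integralClosure O K))).obj (ModuleCat.of O (M ⧸ LinearMap.range f))) ∧ Function.Injective (LinearMap.lTensor ↥(integralClosure O K) f) := by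
  classical
  have hO : ¬ IsField O := fun h => by
    have := ringKrullDim_eq_zero_of_isField h
    rw [hdim] at this
    exact one_ne_zero this
  have hnz := Groth.Agent.Helper1.TorOne2.noZeroSMulDivisors_integralClosure (O := O) K
  obtain ⟨a, ha, hat⟩ := Groth.Agent.Helper1.TorOne2.exists_ne_zero_smul_eq_zero hO _ hT
  obtain ⟨h, hhf, hfh⟩ := Groth.Agent.Helper1.TorOne2.exists_pseudo_inverse f hf a hat
  have hinj : Function.Injective (LinearMap.lTensor ↥(integralClosure O K) f) := by
    rw [injective_iff_map_eq_zero]
    intro x hx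
    have h1 : (LinearMap.lTensor ↥(integralClosure O K) h)
        ((LinearMap.lTensor ↥(integralClosure O K) f) x) = a • x := by
      rw [← LinearMap.comp_apply, ← LinearMap.lTensor_comp, hhf, LinearMap.lTensor_smul,
        LinearMap.lTensor_id]
      rfl
    rw [hx, map_zero] at h1
    exact Groth.Agent.Helper1.TorOne2.smul_tensor_pi_eq_zero _ n a ha x h1.symm
  refine ⟨?_, hinj⟩
  let S := Groth.Agent.Helper1.TorOne2.scOfInj f
  have hS : S.ShortExact := Groth.Agent.Helper1.TorOne2.scOfInj_shortExact f hf
  have h1 : Limits.IsZero (((Tor (ModuleCat.{u} O) 1).obj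
      (ModuleCat.of O ↥(integralClosure O K))).obj S.X₁) :=
    Groth.Agent.Helper1.TorL.isZero_tor_succ_of_flat_right (ModuleCat.of O (Fin n → O)) 0 _
  have hm : Mono (MonoidalCategory.whiskerLeft (ModuleCat.of O ↥(integralClosure O K)) S.f) :=
    (ModuleCat.mono_iff_injective _).mpr hinj
  have := Groth.Agent.Helper1.TorOne2.isIso_tor_one_map_g
    (ModuleCat.of O ↥(integralClosure O K)) S hS h1 hm
  exact ⟨asIso (((Tor (ModuleCat.{u} O) 1).obj (ModuleCat.of O ↥(integralClosure O K))).map S.g)⟩

end Groth.Agent.S15024
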