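import Groth.Statements.S15025
import Mathlib
import Groth.Agent.Lib.Helper1.TorOne2

set_option autoImplicit false
universe u
open CategoryTheory
open TFCurv

namespace Groth.Agent.S15025

/-- Let O be a one-dimensional Noetherian local domain with algebraically closed residue field whose
integral closure O~ in its fraction field K is a finite O-module, M a finitely generated
torsion-free O-module and g : M → O^n an injective O-linear map whose cokernel T' has finite length.
Then the torsion submodule of O~ ⊗_O M is O-linearly isomorphic to Tor_1^O(O~, T') (existence of an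
isomorphism only). -/
theorem result (O : Type u) [CommRing O] [IsDomain O] [IsNoetherianRing O] [IsLocalRing O] (hdim : ringKrullDim O = 1) [IsAlgClosed (IsLocalRing.ResidueField O)] (K : Type u) [Field K] [Algebra O K] [IsFractionRing O K] (hfin : Module.Finite O ↥(integralClosure O K)) (M : Type u) [AddCommGroup M] [Module O M] [Module.Finite O M] [NoZeroSMulDivisors O M] (n : ℕ) (g : M →ₗ[O] (Fin n → O)) (hg : Function.Injective g) (hT : IsFiniteLength O ((Fin n → O) ⧸ LinearMap.range g)) : Nonempty (↥(Submodule.torsion O (TensorProduct O ↥(integralClosure O K) M)) ≃ₗ[O] ↑(((Tor (ModuleCat.{u} O) 1).obj (ModuleCat.of O ↥(integralClosure O K))).obj (ModuleCat.of O ((Fin n → O) ⧸ LinearMap.range g)))) := by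
  classical
  have hO : ¬ IsField O := fun h => by
    have := ringKrullDim_eq_zero_of_isField h
    rw [hdim] at this
    exact one_ne_zero this
  have hnz := Groth.Agent.Helper1.TorOne2.noZeroSMulDivisors_integralClosure (O := O) K
  obtain ⟨a, ha, hat⟩ := Groth.Agent.Helper1.TorOne2.exists_ne_zero_smul_eq_zero hO _ hT
  obtain ⟨h, hhg, hgh⟩ := Groth.Agent.Helper1.TorOne2.exists_pseudo_inverse g hg a hat
  have hker : LinearMap.ker (LinearMap.lTensor ↥(integralClosure O K) g) =
      Submodule.torsion O (TensorProduct O ↥(integralClosure O K) M) := by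
    ext x
    rw [LinearMap.mem_ker, Submodule.mem_torsion_iff]
    constructor
    · intro hx
      have h1 : (LinearMap.lTensor ↥(integralClosure O K) h)
          ((LinearMap.lTensor ↥(integralClosure O K) g) x) = a • x := by
        rw [← LinearMap.comp_apply, ← LinearMap.lTensor_comp, hhg, LinearMap.lTensor_smul,
          LinearMap.lTensor_id]
        rfl
      rw [hx, map_zero] at h1
      exact ⟨⟨a, mem_nonZeroDivisors_of_ne_zero ha⟩, h1.symm⟩
    · rintro ⟨b, hb⟩
      refine Groth.Agent.Helper1.TorOne2.smul_tensor_pi_eq_zero _ n (b : O)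
        (nonZeroDivisors.ne_zero b.2) _ ?_
      rw [← map_smul]
      have : (b : O) • x = 0 := hb
      rw [this, map_zero]
  let S := Groth.Agent.Helper1.TorOne2.scOfInj g
  have hS : S.ShortExact := Groth.Agent.Helper1.TorOne2.scOfInj_shortExact g hg
  have h2 : Limits.IsZero (((Tor (ModuleCat.{u} O) 1).obj
      (ModuleCat.of O ↥(integralClosure O K))).obj S.X₂) :=
    Groth.Agent.Helper1.TorL.isZero_tor_succ_of_flat_right (ModuleCat.of O (Fin n → O)) 0 _
  obtain ⟨e⟩ := Groth.Agent.Helper1.TorOne2.nonempty_tor_one_iso_kernel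
    (ModuleCat.of O ↥(integralClosure O K)) S hS h2
  let e2 := ModuleCat.kernelIsoKer
    (MonoidalCategory.whiskerLeft (ModuleCat.of O ↥(integralClosure O K)) S.f)
  let e3 : LinearMap.ker (LinearMap.lTensor ↥(integralClosure O K) g) ≃ₗ[O]
      ↑(((Tor (ModuleCat.{u} O) 1).obj (ModuleCat.of O ↥(integralClosure O K))).obj
        (ModuleCat.of O ((Fin n → O) ⧸ LinearMap.range g))) :=
    (e ≪≫ e2).symm.toLinearEquiv
  exact ⟨(LinearEquiv.ofEq _ _ hker.symm).trans e3⟩

end Groth.Agent.S15025
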