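import Groth.Statements.S1503
import Mathlib
import Groth.Agent.Lib.Helper5.DRing.RelPC2

set_option autoImplicit false
universe u
attribute [local instance] HasDerivedCategory.standard
open FlatMor

namespace Groth.Agent.S1503

open AlgebraicGeometry CategoryTheory Limits in
/-- Let f : X → S with S locally Noetherian. Then f is pseudo-coherent (affine-locally: pseudo-coherent
ring maps) if and only if f is locally of finite type. -/
theorem result {X S : Scheme.{u}} (f : X ⟶ S) [IsLocallyNoetherian S] :
    MoreMor.IsPseudoCoherentMor f ↔ LocallyOfFiniteType f := by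
  constructor
  · intro h
    rw [HasRingHomProperty.iff_appLE (P := @LocallyOfFiniteType)]
    intro U V e
    have h1 : @MoreMor.IsPseudoCoherentHom Γ(S, U.1) Γ(X, V.1) _ _ (f.appLE U.1 V.1 e).hom.toAlgebra :=
      h V.1 U.1 V.2 U.2 e
    let _ := (f.appLE U.1 V.1 e).hom.toAlgebra
    obtain ⟨n, φ, hφ, -⟩ := h1
    show @Algebra.FiniteType _ _ _ _ (f.appLE U.1 V.1 e).hom.toAlgebra
    exact Algebra.FiniteType.of_surjective φ hφ
  · intro h U V hU hV hUV
    let _ := (f.appLE V U hUV).hom.toAlgebra
    have : IsNoetherianRing Γ(S, V) := IsLocallyNoetherian.component_noetherian ⟨V, hV⟩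
    have hft : (f.appLE V U hUV).hom.FiniteType :=
      HasRingHomProperty.appLE (P := @LocallyOfFiniteType) f h ⟨V, hV⟩ ⟨U, hU⟩ hUV
    have : Algebra.FiniteType Γ(S, V) Γ(X, U) := hft
    exact Groth.Agent.Helper5.PCHom.s7067 _ _

end Groth.Agent.S1503
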