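import Groth.Statements.S15034
import Mathlib
-- import your own Groth.Agent.* helpers here

set_option autoImplicit false
universe u
open TFCurv

namespace Groth.Agent.S15034

open PowerSeries
namespace Aux

variable {k : Type u} [Field k]

lemma le_order_iff_dvd (n : ℕ) (φ : PowerSeries k) : (n : ℕ∞) ≤ order φ ↔ X ^ n ∣ φ := by
  rw [order_eq_emultiplicity_X, pow_dvd_iff_le_emultiplicity]

/-- closedness hypothesis -/
def Closed (A : Subalgebra k (PowerSeries k)) : Prop :=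
  ∀ f : PowerSeries k, (∀ n : ℕ, ∃ g ∈ A, (n : ℕ∞) ≤ PowerSeries.order (f - g)) → f ∈ A

lemma inv_mem (A : Subalgebra k (PowerSeries k)) (hcl : Closed A) (c : PowerSeries k)
    (hc : c ∈ A) (hc0 : constantCoeff c = 0) : (1 + c)⁻¹ ∈ A := by
  apply hcl
  intro n
  refine ⟨∑ j ∈ Finset.range n, (-c)^j, ?_, ?_⟩
  · exact Subalgebra.sum_mem _ (fun j _ => Subalgebra.pow_mem _ (Subalgebra.neg_mem _ hc) j)
  · rw [le_order_iff_dvd]
    have hu : (1 + c) * (1 + c)⁻¹ = 1 := PowerSeries.mul_inv_cancel _ (by simp [hc0])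
    have h1 : (1 + c) * ∑ j ∈ Finset.range n, (-c)^j = 1 - (-c)^n := by
      have := mul_neg_geom_sum (-c) n
      simpa using this
    have h2 : (1 + c)⁻¹ - ∑ j ∈ Finset.range n, (-c)^j = (1 + c)⁻¹ * (-c)^n := by
      have : (1 + c)⁻¹ - ∑ j ∈ Finset.range n, (-c)^j
          = (1 + c)⁻¹ * (1 - (1 + c) * ∑ j ∈ Finset.range n, (-c)^j) := by
        rw [mul_sub, ← mul_assoc, mul_comm _ (1 + c), hu]; ring
      rw [this, h1]; ring
    rw [h2]
    have : X ∣ -c := by rw [X_dvd_iff]; simp [hc0]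
    exact Dvd.dvd.mul_left (pow_dvd_pow_of_dvd this n) _

lemma mem_jacobson (A : Subalgebra k (PowerSeries k)) (hcl : Closed A) (a : A)
    (ha0 : constantCoeff (a : PowerSeries k) = 0) : a ∈ Ideal.jacobson (⊥ : Ideal A) := by
  rw [Ideal.mem_jacobson_bot]
  intro y
  have hmem := inv_mem A hcl (a * y : A).1 (a * y).2 (by simp [ha0])
  refine IsUnit.of_mul_eq_one ⟨_, hmem⟩ ?_
  apply Subtype.ext
  have : (1 + (a * y : A).1) * (1 + (a * y : A).1)⁻¹ = 1 :=
    PowerSeries.mul_inv_cancel _ (by simp [ha0])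
  simp only [Subalgebra.coe_mul, Subalgebra.coe_add, Subalgebra.coe_one] at this ⊢
  rw [add_comm]; exact this

lemma exists_pos_order (A : Subalgebra k (PowerSeries k))
    (hA : Module.Finite ↥A (PowerSeries k)) : ∃ a ∈ A, a ≠ 0 ∧ constantCoeff a = 0 := by
  by_contra hne
  push_neg at hne
  have hbot : A = ⊥ := by
    rw [eq_bot_iff]
    intro f hf
    have h1 : f - algebraMap k (PowerSeries k) (constantCoeff f) ∈ A :=
      A.sub_mem hf (A.algebraMap_mem _)
    have h2 : f - algebraMap k (PowerSeries k) (constantCoeff f) = 0 := by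
      by_contra h
      apply hne _ h1 h
      simp
    rw [Algebra.mem_bot]
    exact ⟨constantCoeff f, (sub_eq_zero.mp h2).symm⟩
  subst hbot
  have : Module.Finite k (PowerSeries k) :=
    Module.Finite.trans (⊥ : Subalgebra k (PowerSeries k)) _
  have hint : Algebra.IsIntegral k (PowerSeries k) := inferInstance
  have hf : IsField (PowerSeries k) := isField_of_isIntegral_of_isField' (Field.toIsField k)
  obtain ⟨b, hb⟩ := hf.mul_inv_cancel (X_ne_zero (R := k))
  have := congrArg constantCoeff hb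
  simp at this

lemma approx (A : Subalgebra k (PowerSeries k)) (N : Submodule ↥A (PowerSeries k)) (c' : ℕ)
    (hN : ∀ n, c' ≤ n → ∃ ν ∈ N, order ν = n) (f : PowerSeries k) (hf : X ^ c' ∣ f) (m : ℕ) :
    ∃ ν ∈ N, X ^ (c' + m) ∣ f - ν := by
  induction m with
  | zero => exact ⟨0, N.zero_mem, by simpa using hf⟩
  | succ m ih =>
    obtain ⟨ν, hν, hdvd⟩ := ih
    obtain ⟨ν', hν', hord⟩ := hN (c' + m) (Nat.le_add_right _ _)
    rw [order_eq_nat] at hord
    obtain ⟨hne, hlt⟩ := hord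
    set g := f - ν with hg
    set b : k := coeff (c' + m) g / coeff (c' + m) ν' with hb
    refine ⟨ν + (algebraMap k ↥A b) • ν', N.add_mem hν (N.smul_mem _ hν'), ?_⟩
    have hsm : (algebraMap k ↥A b) • ν' = C b * ν' := by
      rw [Subalgebra.smul_def]
      rfl
    rw [hsm, X_pow_dvd_iff]
    intro i hi
    rw [X_pow_dvd_iff] at hdvd
    have : f - (ν + C b * ν') = g - C b * ν' := by rw [hg]; ring
    rw [this, map_sub, coeff_C_mul]
    rcases Nat.lt_succ_iff_lt_or_eq.mp (by omega : i < (c' + m) + 1) with h | h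
    · rw [hdvd i h, hlt i h]; simp
    · subst h
      rw [hb]; field_simp; simp

lemma pow_dvd_mem (A : Subalgebra k (PowerSeries k)) (hA : Module.Finite ↥A (PowerSeries k))
    (hcl : Closed A) (N : Submodule ↥A (PowerSeries k)) (c' : ℕ)
    (hN : ∀ n, c' ≤ n → ∃ ν ∈ N, order ν = n) (f : PowerSeries k) (hf : X ^ c' ∣ f) :
    f ∈ N := by
  obtain ⟨a, haA, ha_ne, ha0⟩ := exists_pos_order A hA
  set e := (order a).toNat with he
  have hea : ((e : ℕ) : ℕ∞) = order a := coe_toNat_order ha_ne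
  obtain ⟨u, hu⟩ : X ^ e ∣ a := X_pow_order_dvd
  have hu0 : constantCoeff u ≠ 0 := by
    intro h0
    have h1 : X ∣ u := X_dvd_iff.mpr h0
    have h2 : X ^ (e + 1) ∣ a := by
      rw [hu, pow_succ]; exact mul_dvd_mul_left _ h1
    rw [← le_order_iff_dvd, ← hea] at h2
    have : e + 1 ≤ e := by exact_mod_cast h2
    omega
  have huinv : u * u⁻¹ = 1 := PowerSeries.mul_inv_cancel _ hu0
  let P : Submodule ↥A (PowerSeries k) :=
    (⊤ : Submodule ↥A (PowerSeries k)).map (LinearMap.mulLeft ↥A (X ^ c' : PowerSeries k))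
  have hPfg : P.FG := Submodule.FG.map _ Module.Finite.fg_top
  let I : Ideal ↥A := Ideal.span {(⟨a, haA⟩ : ↥A)}
  have hIJ : I ≤ Ideal.jacobson ⊥ := by
    rw [Ideal.span_le, Set.singleton_subset_iff]
    exact mem_jacobson A hcl ⟨a, haA⟩ ha0
  have hNN : P ≤ N ⊔ I • P := by
    rintro _ ⟨g, -, rfl⟩
    obtain ⟨ν, hν, hdvd⟩ := approx A N c' hN (X ^ c' * g) (Dvd.intro _ rfl) e
    obtain ⟨h', hh'⟩ := hdvd
    have hmem : (X ^ c' * g - ν) ∈ I • P := by
      have h3 : X ^ c' * g - ν = (⟨a, haA⟩ : ↥A) • (X ^ c' * (u⁻¹ * h')) := by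
        rw [Subalgebra.smul_def]
        change _ = a * _
        rw [hh', hu, pow_add]
        calc X ^ c' * X ^ e * h' = X ^ c' * X ^ e * (u * u⁻¹) * h' := by rw [huinv, mul_one]
          _ = _ := by ring
      rw [h3]
      exact Submodule.smul_mem_smul (Ideal.mem_span_singleton_self _) ⟨_, trivial, rfl⟩
    have : (LinearMap.mulLeft ↥A (X ^ c' : PowerSeries k)) g = ν + (X ^ c' * g - ν) := by
      simp
    rw [this]
    exact Submodule.add_mem_sup hν hmem
  have hPN : P ≤ N := Submodule.le_of_le_smul_of_le_jacobson_bot hPfg hIJ hNN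
  obtain ⟨g, rfl⟩ := hf
  exact hPN ⟨g, trivial, rfl⟩

theorem main (k : Type u) [Field k] (A : Subalgebra k (PowerSeries k))
    (hA : Module.Finite ↥A (PowerSeries k))
    (hcl : ∀ f : PowerSeries k, (∀ n : ℕ, ∃ g ∈ A, (n : ℕ∞) ≤ PowerSeries.order (f - g)) → f ∈ A)
    (M N : Submodule ↥A (PowerSeries k))
    (hM1 : (1 : PowerSeries k) ∈ M)
    (ΓM ΓN : Set ℕ) (hΓM : ∀ n : ℕ, n ∈ ΓM ↔ ∃ f ∈ M, PowerSeries.order f = n)
    (hΓN : ∀ n : ℕ, n ∈ ΓN ↔ ∃ f ∈ N, PowerSeries.order f = n) :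
    (∀ n : ℕ, (∃ u : PowerSeries k, PowerSeries.order u = n ∧ ∀ m ∈ M, u * m ∈ N) →
      ∀ a ∈ ΓM, n + a ∈ ΓN) ∧
    ∀ c' : ℕ, (∀ n : ℕ, c' ≤ n → ∃ u : PowerSeries k, PowerSeries.order u = n ∧
      ∀ m ∈ M, u * m ∈ N) ↔ (∀ n : ℕ, c' ≤ n → ∀ a ∈ ΓM, n + a ∈ ΓN) := by
  have part1 : ∀ n : ℕ, (∃ u : PowerSeries k, PowerSeries.order u = n ∧ ∀ m ∈ M, u * m ∈ N) →
      ∀ a ∈ ΓM, n + a ∈ ΓN := by
    rintro n ⟨u, hu, hmul⟩ a ha
    obtain ⟨f, hfM, hf⟩ := (hΓM a).mp ha
    exact (hΓN _).mpr ⟨u * f, hmul f hfM, by rw [order_mul, hu, hf]; push_cast; rfl⟩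
  refine ⟨part1, fun c' => ⟨fun h n hn => part1 n (h n hn), fun h n hn => ?_⟩⟩
  refine ⟨X ^ n, order_X_pow n, fun m _ => ?_⟩
  apply pow_dvd_mem A hA hcl N c' ?_ _ (Dvd.dvd.mul_right (pow_dvd_pow X hn) m)
  intro n' hn'
  have h0 : (0 : ℕ) ∈ ΓM := (hΓM 0).mpr ⟨1, hM1, by simp⟩
  have := (hΓN _).mp (h n' hn' 0 h0)
  simpa using this

end Aux

/-- Let k be an algebraically closed field and A ≠ k[[t]] a k-subalgebra of k[[t]] that is closed in the
t-adic topology and over which k[[t]] is a finite module (as for the complete local ring of a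
unibranch curve singularity inside its normalisation), and let Γ ⊆ ℕ be the set of t-orders of the
nonzero elements of A (its value semigroup). Let M, N be finitely generated A-submodules of k[[t]]
containing 1 (rank-one torsion-free modules in normal form), with value sets Γ(M), Γ(N) (orders of
their nonzero elements); the A-linear maps M → N are the multiplications by power series u with uM ⊆
N. Then the order of every such nonzero u satisfies n + Γ(M) ⊆ Γ(N), and although the set of these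
orders can be smaller than S = {n | n + Γ(M) ⊆ Γ(N)}, the two sets have the same conductor: for
every c', all integers n ≥ c' are orders of multipliers exactly when all n ≥ c' lie in S. -/
theorem result (k : Type u) [Field k] [IsAlgClosed k] (A : Subalgebra k (PowerSeries k)) (hA : Module.Finite ↥A (PowerSeries k)) (hcl : ∀ f : PowerSeries k, (∀ n : ℕ, ∃ g ∈ A, (n : ℕ∞) ≤ PowerSeries.order (f - g)) → f ∈ A) (hsing : A ≠ ⊤) (Γ : Set ℕ) (hΓ : ∀ n : ℕ, n ∈ Γ ↔ ∃ f ∈ A, PowerSeries.order f = n) (M N : Submodule ↥A (PowerSeries k)) (hMfg : M.FG) (hNfg : N.FG) (hM1 : (1 : PowerSeries k) ∈ M) (hN1 : (1 : PowerSeries k) ∈ N) (ΓM ΓN : Set ℕ) (hΓM : ∀ n : ℕ, n ∈ ΓM ↔ ∃ f ∈ M, PowerSeries.order f = n) (hΓN : ∀ n : ℕ, n ∈ ΓN ↔ ∃ f ∈ N, PowerSeries.order f = n) : (∀ n : ℕ, (∃ u : PowerSeries k, PowerSeries.order u = n ∧ ∀ m ∈ M, u * m ∈ N) → ∀ a ∈ ΓM, n + a ∈ ΓN) ∧ ∀ c' : ℕ, (∀ n : ℕ, c' ≤ n → ∃ u : PowerSeries k, PowerSeries.order u = n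 ∧ ∀ m ∈ M, u * m ∈ N) ↔ (∀ n : ℕ, c' ≤ n → ∀ a ∈ ΓM, n + a ∈ ΓN) := by
  exact Aux.main k A hA hcl M N hM1 ΓM ΓN hΓM hΓN

end Groth.Agent.S15034
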