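import Groth.Statements.S15036
import Mathlib

set_option autoImplicit false
open TFCurv

namespace Groth.Agent.S15036

section

open Classical in
theorem count_insert (S : Set ℕ) (s : ℕ) (hs : s ∉ S) (x : ℕ) :
    Nat.count (fun m => m ∈ insert s S) x = Nat.count (fun m => m ∈ S) x + if s < x then 1 else 0 := by
  induction x with
  | zero => simp
  | succ x ih =>
    rw [Nat.count_succ, Nat.count_succ, ih]
    by_cases hxs : x = s
    · subst hxs
      have h1 : x ∈ insert x S := Set.mem_insert _ _
      simp [h1, hs]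
    · by_cases hxS : x ∈ S
      · have h1 : x ∈ insert s S := Set.mem_insert_of_mem _ hxS
        simp only [h1, hxS, if_true]
        by_cases h2 : s < x
        · have : s < x + 1 := by omega
          simp [h2, this]
        · have : ¬ s < x + 1 := by omega
          simp [h2, this]
      · have h1 : x ∉ insert s S := by
          intro h
          rcases Set.mem_insert_iff.1 h with h | h
          · exact hxs h
          · exact hxS h
        simp only [h1, hxS, if_false]
        by_cases h2 : s < x
        · have : s < x + 1 := by omega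
          simp [h2, this]
        · have : ¬ s < x + 1 := by omega
          simp [h2, this]

open Classical in
theorem main (Γ : AddSubmonoid ℕ) (c : ℕ) (hc : ∀ n : ℕ, c ≤ n → n ∈ Γ) (hc0 : c ≠ 0)
    (hc1 : c - 1 ∉ Γ) (S : Set ℕ) (hS0 : (0 : ℕ) ∈ S)
    (hS : ∀ γ : ℕ, γ ∈ Γ → ∀ s : ℕ, s ∈ S → γ + s ∈ S) (cS : ℕ)
    (hcS : ∀ n : ℕ, cS ≤ n → n ∈ S) (hcS0 : cS ≠ 0) (hcS1 : cS - 1 ∉ S) (s : ℕ) (hs : s ∉ S)
    (hs' : ∀ γ : ℕ, γ ∈ Γ → γ ≠ 0 → s + γ ∈ S) :
    (∀ i : ℕ, Nat.nth (fun m => m ∈ S) i ≤ Nat.nth (fun m => m ∈ insert s S) i + 1) ↔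
      s + 1 = cS := by
  have hSinf : (Set.ofPred (fun m => m ∈ S)).Infinite := by
    apply Set.Infinite.mono (s := Set.Ici cS)
    · intro n hn
      exact hcS n hn
    · exact Set.Ici_infinite cS
  have hTinf : (Set.ofPred (fun m => m ∈ insert s S)).Infinite := by
    apply Set.Infinite.mono (s := Set.Ici cS)
    · intro n hn
      exact Set.mem_insert_of_mem _ (hcS n hn)
    · exact Set.Ici_infinite cS
  -- reformulation of the condition through counting functions
  have hreform : (∀ i : ℕ, Nat.nth (fun m => m ∈ S) i ≤ Nat.nth (fun m => m ∈ insert s S) i + 1) ↔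
      ∀ x, x ∈ insert s S →
        Nat.count (fun m => m ∈ insert s S) x < Nat.count (fun m => m ∈ S) (x + 2) := by
    constructor
    · intro h x hx
      have := h (Nat.count (fun m => m ∈ insert s S) x)
      rw [Nat.nth_count (p := fun m => m ∈ insert s S) hx] at this
      rw [Nat.lt_nth_iff_count_lt hSinf]
      omega
    · intro h i
      have hmem : Nat.nth (fun m => m ∈ insert s S) i ∈ insert s S :=
        Nat.nth_mem_of_infinite hTinf i
      have := h _ hmem
      rw [Nat.count_nth_of_infinite hTinf, Nat.lt_nth_iff_count_lt hSinf] at this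
      omega
  rw [hreform]
  have hcount2 : ∀ x, Nat.count (fun m => m ∈ S) (x + 2) =
      Nat.count (fun m => m ∈ S) x + (if x ∈ S then 1 else 0) + (if x + 1 ∈ S then 1 else 0) := by
    intro x
    rw [show x + 2 = (x + 1) + 1 from rfl, Nat.count_succ, Nat.count_succ]
  constructor
  · intro h
    -- everything above s is in S
    have hall : ∀ n, s + 1 + n ∈ S := by
      intro n
      induction n with
      | zero =>
        have := h s (Set.mem_insert _ _)
        rw [count_insert S s hs, hcount2] at this
        simp only [lt_irrefl, if_false, hs, add_zero] at this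
        by_contra hn
        simp [hn] at this
      | succ n ih =>
        have := h (s + 1 + n) (Set.mem_insert_of_mem _ ih)
        rw [count_insert S s hs, hcount2] at this
        have hlt : s < s + 1 + n := by omega
        simp only [hlt, if_true, ih] at this
        by_contra hn
        have e : s + 1 + n + 1 = s + 1 + (n + 1) := by ring
        rw [e] at this
        simp [hn] at this
    have h1 : cS ≤ s + 1 := by
      by_contra hlt
      push Not at hlt
      apply hcS1
      have := hall (cS - 1 - (s + 1))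
      have e : s + 1 + (cS - 1 - (s + 1)) = cS - 1 := by omega
      rwa [e] at this
    have h2 : s < cS := by
      by_contra hle
      push Not at hle
      exact hs (hcS s hle)
    omega
  · intro hcs x hx
    rw [count_insert S s hs, hcount2]
    rcases Set.mem_insert_iff.1 hx with rfl | hxS
    · have : x + 1 ∈ S := hcS _ (by omega)
      simp [hs, this]
    · by_cases hlt : s < x
      · have h1 : x + 1 ∈ S := hcS _ (by omega)
        simp [hlt, hxS, h1]
      · simp only [hlt, if_false, hxS, if_true]
        split_ifs <;> omega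


end


/-- Let Γ be a numerical semigroup (a submonoid of (ℕ, +) with finite complement), Γ ≠ ℕ, with conductor
c (every n ≥ c lies in Γ, c − 1 does not); let S ⊆ ℕ be a Γ-module in normal form (0 ∈ S, γ + s ∈ S
for γ ∈ Γ, s ∈ S) with conductor c(S) (all n ≥ c(S) in S, c(S) − 1 ∉ S), and let s be a gap of S
such that S ∪ {s} is again a Γ-module. Enumerate S increasingly as s_0 < s_1 < ⋯ and put τ_i(S) =
s_i + ℓ(S), where ℓ counts the gaps of Γ filled; since ℓ(S ∪ {s}) = ℓ(S) + 1, the termwise
comparison τ(S) ≤ τ(S ∪ {s}) says that the i-th element of S is at most one more than the i-th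
element of S ∪ {s} for every i. This holds if and only if s = c(S) − 1, the largest gap of S. -/
theorem result (Γ : AddSubmonoid ℕ) (c : ℕ) (hc : ∀ n : ℕ, c ≤ n → n ∈ Γ) (hc0 : c ≠ 0) (hc1 : c - 1 ∉ Γ) (S : Set ℕ) (hS0 : (0 : ℕ) ∈ S) (hS : ∀ γ : ℕ, γ ∈ Γ → ∀ s : ℕ, s ∈ S → γ + s ∈ S) (cS : ℕ) (hcS : ∀ n : ℕ, cS ≤ n → n ∈ S) (hcS0 : cS ≠ 0) (hcS1 : cS - 1 ∉ S) (s : ℕ) (hs : s ∉ S) (hs' : ∀ γ : ℕ, γ ∈ Γ → γ ≠ 0 → s + γ ∈ S) : (∀ i : ℕ, Nat.nth (fun m => m ∈ S) i ≤ Nat.nth (fun m => m ∈ insert s S) i + 1) ↔ s + 1 = cS := by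
  classical
  exact main Γ c hc hc0 hc1 S hS0 hS cS hcS hcS0 hcS1 s hs hs'

end Groth.Agent.S15036
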