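import Groth.Statements.S15037
import Mathlib

set_option autoImplicit false
open TFCurv

namespace Groth.Agent.S15037

section

open Classical

/-- counting elements and gaps -/
theorem count_add_count_not (S : Set ℕ) (x : ℕ) :
    Nat.count (fun m => m ∈ S) x + Nat.count (fun m => m ∉ S) x = x := by
  induction x with
  | zero => simp
  | succ x ih =>
    rw [Nat.count_succ, Nat.count_succ]
    by_cases h : x ∈ S
    · simp only [h, if_true, not_true, if_false]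
      omega
    · simp only [h, if_false, not_false_iff, if_true]
      omega

theorem count_gap_const (S : Set ℕ) (cS : ℕ) (hcS : ∀ n, cS ≤ n → n ∈ S) (k : ℕ) :
    Nat.count (fun m => m ∉ S) (cS + k) = Nat.count (fun m => m ∉ S) cS := by
  induction k with
  | zero => rfl
  | succ k ih =>
    rw [← add_assoc, Nat.count_succ, ih]
    have : cS + k ∈ S := hcS _ (by omega)
    simp [this]

theorem count_gap_le (S : Set ℕ) (cS : ℕ) (hcS : ∀ n, cS ≤ n → n ∈ S) (x : ℕ) :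
    Nat.count (fun m => m ∉ S) x ≤ Nat.count (fun m => m ∉ S) cS := by
  by_cases h : x ≤ cS
  · exact Nat.count_monotone _ h
  · push Not at h
    obtain ⟨k, rfl⟩ : ∃ k, x = cS + k := ⟨x - cS, by omega⟩
    rw [count_gap_const S cS hcS]

theorem ncard_compl (S : Set ℕ) (cS : ℕ) (hcS : ∀ n, cS ≤ n → n ∈ S) :
    Sᶜ.ncard = Nat.count (fun m => m ∉ S) cS := by
  rw [Nat.count_eq_card_filter_range]
  have : Sᶜ = ↑((Finset.range cS).filter (fun m => m ∉ S)) := by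
    ext n
    simp only [Set.mem_compl_iff, Finset.coe_filter, Finset.mem_range, Set.mem_setOf_eq]
    constructor
    · intro hn
      refine ⟨?_, hn⟩
      by_contra hle
      exact hn (hcS n (by omega))
    · intro hn
      exact hn.2
  rw [this, Set.ncard_coe_finset]

theorem ncard_below (S : Set ℕ) (cS : ℕ) :
    (S ∩ Set.Iio cS).ncard = Nat.count (fun m => m ∈ S) cS := by
  rw [Nat.count_eq_card_filter_range]
  have : S ∩ Set.Iio cS = ↑((Finset.range cS).filter (fun m => m ∈ S)) := by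
    ext n
    simp only [Set.mem_inter_iff, Set.mem_Iio, Finset.coe_filter, Finset.mem_range,
      Set.mem_setOf_eq]
    exact and_comm
  rw [this, Set.ncard_coe_finset]

theorem inf_of (S : Set ℕ) (cS : ℕ) (hcS : ∀ n, cS ≤ n → n ∈ S) :
    (Set.ofPred (fun m => m ∈ S)).Infinite := by
  apply Set.Infinite.mono (s := Set.Ici cS)
  · intro n hn
    exact hcS n hn
  · exact Set.Ici_infinite cS

theorem nth_eq (S : Set ℕ) (cS : ℕ) (hcS : ∀ n, cS ≤ n → n ∈ S) (i : ℕ) :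
    Nat.nth (fun m => m ∈ S) i = i + Nat.count (fun m => m ∉ S) (Nat.nth (fun m => m ∈ S) i) := by
  have h1 := count_add_count_not S (Nat.nth (fun m => m ∈ S) i)
  rw [Nat.count_nth_of_infinite (inf_of S cS hcS)] at h1
  omega

theorem nth_large (S : Set ℕ) (cS : ℕ) (hcS : ∀ n, cS ≤ n → n ∈ S) (k : ℕ) :
    Nat.nth (fun m => m ∈ S) (Nat.count (fun m => m ∈ S) cS + k) =
      Nat.count (fun m => m ∈ S) cS + k + Nat.count (fun m => m ∉ S) cS := by
  have hmem : cS + k ∈ S := hcS _ (by omega)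
  have h1 := Nat.nth_count (p := fun m => m ∈ S) hmem
  have h2 := count_add_count_not S (cS + k)
  rw [count_gap_const S cS hcS] at h2
  have h3 := count_add_count_not S cS
  have h4 : Nat.count (fun m => m ∈ S) (cS + k) = Nat.count (fun m => m ∈ S) cS + k := by omega
  rw [h4] at h1
  rw [h1]
  omega

theorem main (Γ : AddSubmonoid ℕ) (c : ℕ) (hc : ∀ n : ℕ, c ≤ n → n ∈ Γ) (hc0 : c ≠ 0)
    (hc1 : c - 1 ∉ Γ) (S : Set ℕ) (hS0 : (0 : ℕ) ∈ S)
    (hS : ∀ γ : ℕ, γ ∈ Γ → ∀ s : ℕ, s ∈ S → γ + s ∈ S) (cS : ℕ)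
    (hcS : ∀ n : ℕ, cS ≤ n → n ∈ S) (hcS1 : cS = 0 ∨ cS - 1 ∉ S) (S' : Set ℕ)
    (hS'0 : (0 : ℕ) ∈ S') (hS' : ∀ γ : ℕ, γ ∈ Γ → ∀ s : ℕ, s ∈ S' → γ + s ∈ S') (cS' : ℕ)
    (hcS' : ∀ n : ℕ, cS' ≤ n → n ∈ S') (hcS'1 : cS' = 0 ∨ cS' - 1 ∉ S') :
    (∀ i : ℕ, Nat.nth (fun m => m ∈ S) i + S'ᶜ.ncard ≤ Nat.nth (fun m => m ∈ S') i + Sᶜ.ncard) ↔
      ((S' ∩ Set.Iio cS').ncard ≤ (S ∩ Set.Iio cS).ncard ∧
        ∀ i : ℕ, i < (S' ∩ Set.Iio cS').ncard →
          Nat.nth (fun m => m ∈ S) i + S'ᶜ.ncard ≤ Nat.nth (fun m => m ∈ S') i + Sᶜ.ncard) := by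
  rw [ncard_compl S cS hcS, ncard_compl S' cS' hcS', ncard_below, ncard_below]
  set r := Nat.count (fun m => m ∈ S) cS with hr
  set r' := Nat.count (fun m => m ∈ S') cS' with hr'
  set δ := Nat.count (fun m => m ∉ S) cS with hδ
  set δ' := Nat.count (fun m => m ∉ S') cS' with hδ'
  constructor
  · intro h
    refine ⟨?_, fun i _ => h i⟩
    by_contra hlt
    push Not at hlt
    have h1 := h r
    have h2 := nth_large S cS hcS 0
    rw [add_zero] at h2
    rw [← hr, ← hδ] at h2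
    rw [h2] at h1
    set y := Nat.nth (fun m => m ∈ S') r with hy
    have hyS' : y ∈ S' := Nat.nth_mem_of_infinite (inf_of S' cS' hcS') r
    have hylt : y < cS' := Nat.nth_lt_of_lt_count hlt
    have h3 := nth_eq S' cS' hcS' r
    rw [← hy] at h3
    have hcS'0 : cS' ≠ 0 := by omega
    have hgap : cS' - 1 ∉ S' := by
      rcases hcS'1 with h0 | h0
      · exact absurd h0 hcS'0
      · exact h0
    have hy2 : y ≤ cS' - 1 := by omega
    have h4 : Nat.count (fun m => m ∉ S') y ≤ Nat.count (fun m => m ∉ S') (cS' - 1) :=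
      Nat.count_monotone _ hy2
    have h5 : Nat.count (fun m => m ∉ S') cS' = Nat.count (fun m => m ∉ S') (cS' - 1) + 1 := by
      conv_lhs => rw [show cS' = (cS' - 1) + 1 by omega]
      rw [Nat.count_succ]
      simp [hgap]
    omega
  · rintro ⟨-, h⟩ i
    by_cases hi : i < r'
    · exact h i hi
    · push Not at hi
      obtain ⟨k, rfl⟩ : ∃ k, i = r' + k := ⟨i - r', by omega⟩
      have h1 := nth_large S' cS' hcS' k
      rw [← hr', ← hδ'] at h1
      rw [h1]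
      have h2 := nth_eq S cS hcS (r' + k)
      have h3 := count_gap_le S cS hcS (Nat.nth (fun m => m ∈ S) (r' + k))
      omega


end


/-- Let Γ be a numerical semigroup (a submonoid of (ℕ, +) with finite complement), Γ ≠ ℕ, with conductor
c (every n ≥ c lies in Γ, c − 1 does not); let S and S' ⊆ ℕ be Γ-modules in normal form with
conductors c(S), c(S'), let δ(S), δ(S') be their numbers of gaps and r(S), r(S') their numbers of
elements below the conductor, and enumerate them increasingly as s_i, s'_i (i ≥ 0). With τ_i(S) =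
s_i + ℓ(S) and ℓ(S) = δ(Γ) − δ(S), the termwise order τ(S) ≤ τ(S') reads s_i + δ(S') ≤ s'_i + δ(S)
for all i. It holds if and only if r(S') ≤ r(S) and s_i + δ(S') ≤ s'_i + δ(S) for all i < r(S')
(beyond r(S) the entries τ_i(S) = i + δ(Γ) are the largest possible). -/
theorem result (Γ : AddSubmonoid ℕ) (c : ℕ) (hc : ∀ n : ℕ, c ≤ n → n ∈ Γ) (hc0 : c ≠ 0) (hc1 : c - 1 ∉ Γ) (S : Set ℕ) (hS0 : (0 : ℕ) ∈ S) (hS : ∀ γ : ℕ, γ ∈ Γ → ∀ s : ℕ, s ∈ S → γ + s ∈ S) (cS : ℕ) (hcS : ∀ n : ℕ, cS ≤ n → n ∈ S) (hcS1 : cS = 0 ∨ cS - 1 ∉ S) (S' : Set ℕ) (hS'0 : (0 : ℕ) ∈ S') (hS' : ∀ γ : ℕ, γ ∈ Γ → ∀ s : ℕ, s ∈ S' → γ + s ∈ S') (cS' : ℕ) (hcS' : ∀ n : ℕ, cS' ≤ n → n ∈ S') (hcS'1 : cS' = 0 ∨ cS' - 1 ∉ S') : (∀ i : ℕ, Nat.nth (fun m => m ∈ S) i + S'ᶜ.ncard ≤ Nat.nth (fun m => m ∈ S') i + Sᶜ.ncard) ↔ ((S' ∩ Set.Iio cS').ncard ≤ (S ∩ Set.Iio cS).ncard ∧ ∀ i : ℕ, i < (S' ∩ Set.Iio cS').ncard → Nat.nth (fun m => m ∈ S) i + S'ᶜ.ncard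 ≤ Nat.nth (fun m => m ∈ S') i + Sᶜ.ncard) := by
  classical
  exact main Γ c hc hc0 hc1 S hS0 hS cS hcS hcS1 S' hS'0 hS' cS' hcS' hcS'1

end Groth.Agent.S15037
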