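import Groth.Statements.S15038
import Mathlib

set_option autoImplicit false
open TFCurv

namespace Groth.Agent.S15038

section


theorem add_mul_mem (Γ : AddSubmonoid ℕ) {e : ℕ} (he : e ∈ Γ) {x : ℕ} (hx : x ∈ Γ) (k : ℕ) :
    x + k * e ∈ Γ := by
  induction k with
  | zero => simpa using hx
  | succ k ih =>
    have : x + (k + 1) * e = (x + k * e) + e := by ring
    rw [this]
    exact Γ.add_mem ih he

theorem main (Γ : AddSubmonoid ℕ) (c : ℕ) (hc : ∀ n : ℕ, c ≤ n → n ∈ Γ) (hc0 : c ≠ 0)
    (hc1 : c - 1 ∉ Γ) (hsymm : ∀ x : ℕ, x < c → (x ∉ Γ ↔ c - 1 - x ∈ Γ)) (e : ℕ) (he : e ∈ Γ)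
    (he0 : e ≠ 0) (hemin : ∀ γ : ℕ, γ ∈ Γ → γ ≠ 0 → e ≤ γ) (he2 : 2 < e) :
    ∃ G : Finset ℕ, G.card ≤ e - 1 ∧ AddSubmonoid.closure (↑G : Set ℕ) = Γ := by
  classical
  set F := c - 1 with hF
  -- Apery elements
  have hex : ∀ i : ℕ, ∃ γ, γ ∈ Γ ∧ γ % e = i % e := by
    intro i
    refine ⟨i + c * e, hc _ ?_, by simp⟩
    have : c * 1 ≤ c * e := Nat.mul_le_mul_left c (by omega)
    omega
  let w : ℕ → ℕ := fun i => Nat.find (hex i)
  have hwΓ : ∀ i, w i ∈ Γ := fun i => (Nat.find_spec (hex i)).1
  have hwmod : ∀ i, w i % e = i % e := fun i => (Nat.find_spec (hex i)).2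
  have hwmin : ∀ i γ, γ ∈ Γ → γ % e = i % e → w i ≤ γ := fun i γ h1 h2 =>
    Nat.find_min' (hex i) ⟨h1, h2⟩
  -- an Apery element is the least element of its class
  have hapery : ∀ γ, γ ∈ Γ → e ≤ γ → γ - e ∉ Γ → γ = w γ := by
    intro γ hγ hge hn
    apply le_antisymm _ (hwmin γ γ hγ rfl)
    by_contra hlt
    push Not at hlt
    -- w γ < γ, same class: γ = w γ + k e with k ≥ 1
    have hmod := hwmod γ
    have hdvd : e ∣ γ - w γ := (Nat.modEq_iff_dvd' hlt.le).1 hmod
    obtain ⟨k, hk⟩ := hdvd
    have hk1 : 1 ≤ k := by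
      rcases Nat.eq_zero_or_pos k with h0 | h0
      · rw [h0, mul_zero] at hk
        omega
      · exact h0
    apply hn
    have : γ - e = w γ + (k - 1) * e := by
      have h1 : γ = w γ + e * k := by omega
      have h2 : e * k = (k - 1) * e + e := by
        obtain ⟨k', rfl⟩ : ∃ k', k = k' + 1 := ⟨k - 1, by omega⟩
        simp
        ring
      omega
    rw [this]
    exact add_mul_mem Γ he (hwΓ γ) _
  -- the generating set
  let I : Finset ℕ := (Finset.range e).filter (fun i => i ≠ 0 ∧ i ≠ F % e)
  let G : Finset ℕ := insert e (I.image w)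
  have hIcard : I.card ≤ e - 2 := by
    have hsub : I ⊆ ((Finset.range e).erase 0).erase (F % e) := by
      intro i hi
      simp only [I, Finset.mem_filter, Finset.mem_range] at hi
      simp only [Finset.mem_erase, Finset.mem_range]
      exact ⟨hi.2.2, hi.2.1, hi.1⟩
    by_cases hF0 : F % e = 0
    · -- then F % e = 0 is already erased; use a cruder count
      have hsub2 : I ⊆ (Finset.range e).erase 0 := fun i hi =>
        Finset.mem_of_mem_erase (hsub hi)
      -- F % e = 0 means e ∣ F; but F ∉ Γ and multiples of e are in Γ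
      exfalso
      apply hc1
      have hdvd : e ∣ F := Nat.dvd_of_mod_eq_zero hF0
      obtain ⟨k, hk⟩ := hdvd
      have := add_mul_mem Γ he Γ.zero_mem k
      rw [zero_add, mul_comm] at this
      rw [hk]
      exact this
    · have h1 : (((Finset.range e).erase 0).erase (F % e)).card = e - 2 := by
        rw [Finset.card_erase_of_mem, Finset.card_erase_of_mem, Finset.card_range]
        · omega
        · simp; omega
        · simp only [Finset.mem_erase, Finset.mem_range]
          exact ⟨hF0, Nat.mod_lt _ (by omega)⟩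
      calc I.card ≤ _ := Finset.card_le_card hsub
        _ = e - 2 := h1
  have hGcard : G.card ≤ e - 1 := by
    calc G.card ≤ (I.image w).card + 1 := Finset.card_insert_le _ _
      _ ≤ I.card + 1 := by
        have := Finset.card_image_le (s := I) (f := w)
        omega
      _ ≤ e - 1 := by omega
  refine ⟨G, hGcard, ?_⟩
  have hGΓ : ∀ g ∈ G, g ∈ Γ := by
    intro g hg
    simp only [G, Finset.mem_insert, Finset.mem_image] at hg
    rcases hg with rfl | ⟨i, _, rfl⟩
    · exact he
    · exact hwΓ i
  apply le_antisymm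
  · rw [AddSubmonoid.closure_le]
    intro g hg
    exact hGΓ g hg
  · -- strong induction
    have hFn : F ∉ Γ := hc1
    have hwcongr : ∀ i j, i % e = j % e → w i = w j := by
      intro i j hij
      apply le_antisymm
      · exact hwmin i (w j) (hwΓ j) (by rw [hwmod, hij])
      · exact hwmin j (w i) (hwΓ i) (by rw [hwmod, hij])
    have hmulmem : ∀ k, e * k ∈ Γ := by
      intro k
      have := add_mul_mem Γ he Γ.zero_mem k
      rwa [zero_add, mul_comm] at this
    intro γ hγ
    induction γ using Nat.strong_induction_on with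
    | _ γ ih =>
    by_cases hγ0 : γ = 0
    · rw [hγ0]
      exact zero_mem _
    have hge : e ≤ γ := hemin γ hγ hγ0
    have heG : e ∈ AddSubmonoid.closure (↑G : Set ℕ) :=
      AddSubmonoid.subset_closure (Finset.mem_insert_self _ _)
    by_cases hsub : γ - e ∈ Γ
    · have := ih (γ - e) (by omega) hsub
      have h2 := add_mem this heG
      rwa [Nat.sub_add_cancel hge] at h2
    have hγw : γ = w γ := hapery γ hγ hge hsub
    have hilt : γ % e < e := Nat.mod_lt _ (by omega)
    by_cases hi0 : γ % e = 0
    · exfalso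
      obtain ⟨k, hk⟩ := Nat.dvd_of_mod_eq_zero hi0
      apply hsub
      have hk1 : 1 ≤ k := by
        rcases Nat.eq_zero_or_pos k with h0 | h0
        · rw [h0, mul_zero] at hk
          omega
        · exact h0
      have : γ - e = e * (k - 1) := by
        rw [hk, Nat.mul_sub, mul_one]
      rw [this]
      exact hmulmem _
    by_cases hiF : γ % e = F % e
    · -- γ = F + e
      have hγF : γ = F + e := by
        have h1 : F < γ := by
          by_contra hle
          push Not at hle
          apply hFn
          have hdvd : e ∣ F - γ := (Nat.modEq_iff_dvd' hle).1 hiF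
          obtain ⟨k, hk⟩ := hdvd
          have : F = γ + k * e := by rw [mul_comm]; omega
          rw [this]
          exact add_mul_mem Γ he hγ k
        have h2 : F + e ≤ γ := by
          have hdvd : e ∣ γ - F := (Nat.modEq_iff_dvd' h1.le).1 hiF.symm
          obtain ⟨k, hk⟩ := hdvd
          have hk1 : 1 ≤ k := by
            rcases Nat.eq_zero_or_pos k with h0 | h0
            · rw [h0, mul_zero] at hk
              omega
            · exact h0
          have : e * 1 ≤ e * k := Nat.mul_le_mul_left e hk1
          omega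
        by_contra hne
        apply hsub
        apply hc
        omega
      -- pick an index in I
      obtain ⟨j, hjI⟩ : ∃ j, j ∈ I := by
        by_cases h1 : F % e = 1
        · refine ⟨2, ?_⟩
          simp only [I, Finset.mem_filter, Finset.mem_range]
          exact ⟨he2, by omega, by omega⟩
        · refine ⟨1, ?_⟩
          simp only [I, Finset.mem_filter, Finset.mem_range]
          exact ⟨by omega, by omega, fun h => h1 h.symm⟩
      have hj := hjI
      simp only [I, Finset.mem_filter, Finset.mem_range] at hj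
      have hwjG : w j ∈ AddSubmonoid.closure (↑G : Set ℕ) :=
        AddSubmonoid.subset_closure
          (Finset.mem_insert_of_mem (Finset.mem_image_of_mem w hjI))
      have hwj0 : w j ≠ 0 := by
        intro h0
        have := hwmod j
        rw [h0, Nat.zero_mod, Nat.mod_eq_of_lt hj.1] at this
        exact hj.2.1 this.symm
      have hwje : e ≤ w j := hemin _ (hwΓ j) hwj0
      have hxn : w j - e ∉ Γ := by
        intro hx
        have := hwmin j (w j - e) hx (by
          rw [← hwmod j]
          conv_rhs => rw [← Nat.sub_add_cancel hwje]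
          simp)
        omega
      have hxc : w j - e < c := by
        by_contra hle
        exact hxn (hc _ (by omega))
      have hmem := (hsymm (w j - e) hxc).1 hxn
      have hrew : F - (w j - e) = γ - w j := by omega
      rw [hrew] at hmem
      have hle : w j ≤ γ := by omega
      have := ih (γ - w j) (by omega) hmem
      have h3 := add_mem hwjG this
      rwa [Nat.add_sub_cancel' hle] at h3
    · -- generic Apery element
      have : γ % e ∈ I := by
        simp only [I, Finset.mem_filter, Finset.mem_range]
        exact ⟨hilt, hi0, hiF⟩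
      have hmem : w (γ % e) ∈ G := Finset.mem_insert_of_mem (Finset.mem_image_of_mem w this)
      have heq : w (γ % e) = w γ := hwcongr _ _ (Nat.mod_mod _ _)
      rw [hγw, ← heq]
      exact AddSubmonoid.subset_closure hmem


end


/-- Let Γ be a numerical semigroup (a submonoid of (ℕ, +) with finite complement), Γ ≠ ℕ, with conductor
c (every n ≥ c lies in Γ, c − 1 does not). If Γ is symmetric (for x < c, x is a gap exactly when c −
1 − x ∈ Γ) and its multiplicity e, the least nonzero element of Γ, is greater than 2, then Γ is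
generated as an additive monoid by at most e − 1 elements. -/
theorem result (Γ : AddSubmonoid ℕ) (c : ℕ) (hc : ∀ n : ℕ, c ≤ n → n ∈ Γ) (hc0 : c ≠ 0) (hc1 : c - 1 ∉ Γ) (hsymm : ∀ x : ℕ, x < c → (x ∉ Γ ↔ c - 1 - x ∈ Γ)) (e : ℕ) (he : e ∈ Γ) (he0 : e ≠ 0) (hemin : ∀ γ : ℕ, γ ∈ Γ → γ ≠ 0 → e ≤ γ) (he2 : 2 < e) : ∃ G : Finset ℕ, G.card ≤ e - 1 ∧ AddSubmonoid.closure (↑G : Set ℕ) = Γ := by
  classical
  exact main Γ c hc hc0 hc1 hsymm e he he0 hemin he2

end Groth.Agent.S15038
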