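import Groth.Statements.S15047
import Mathlib
import Mathlib
import Groth.Agent.S1156

set_option autoImplicit false
universe u
open TensorProduct
open Desc

open TensorProduct

namespace Groth.Agent.S15047

/-- Let A → A' be a faithfully flat homomorphism of commutative rings and M, N any A-modules. An
A'-linear map f : A' ⊗_A M → A' ⊗_A N whose two base changes to A' ⊗_A A' (along a ↦ a ⊗ 1 and a ↦ 1
⊗ a) coincide is the base change of a unique A-linear map h : M → N. Since (A' ⊗_A A') ⊗_A M is
generated over A' ⊗_A A' by the elements 1 ⊗ m, the agreement of the two base changes is stated on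
these generators: for every m, the two images of f (1 ⊗ m) in (A' ⊗_A A') ⊗_A N agree. Equivalently,
the sequence Hom_A(M, N) → Hom_{A'}(A' ⊗ M, A' ⊗ N) ⇉ Hom_{A' ⊗ A'}(A' ⊗ A' ⊗ M, A' ⊗ A' ⊗ N) is an
equalizer diagram. -/
theorem result (A A' : Type u) [CommRing A] [CommRing A'] [Algebra A A']
    [Module.FaithfullyFlat A A'] (M N : Type u) [AddCommGroup M] [Module A M] [AddCommGroup N] [Module A N]
    (f : A' ⊗[A] M →ₗ[A'] A' ⊗[A] N)
    (hf : ∀ m : M,
      LinearMap.rTensor N (Algebra.TensorProduct.includeLeft : A' →ₐ[A] A' ⊗[A] A').toLinearMap (f (1 ⊗ₜ[A] m)) =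
        LinearMap.rTensor N (Algebra.TensorProduct.includeRight : A' →ₐ[A] A' ⊗[A] A').toLinearMap (f (1 ⊗ₜ[A] m))) :
    ∃! h : M →ₗ[A] N, h.baseChange A' = f := by
  have hinj : Function.Injective (TensorProduct.mk A A' N 1) :=
    Module.FaithfullyFlat.tensorProduct_mk_injective (A := A) (B := A') N
  -- translation of the two maps through associativity
  have h1 : ∀ y : A' ⊗[A] N, TensorProduct.assoc A A' A' N
      (LinearMap.rTensor N (Algebra.TensorProduct.includeLeft : A' →ₐ[A] A' ⊗[A] A').toLinearMap y) =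
      LinearMap.lTensor A' (TensorProduct.mk A A' N 1) y := by
    intro y
    induction y using TensorProduct.induction_on with
    | zero => simp
    | add y z hy hz => simp only [map_add, hy, hz]
    | tmul a n => simp
  have h2 : ∀ y : A' ⊗[A] N, TensorProduct.assoc A A' A' N
      (LinearMap.rTensor N (Algebra.TensorProduct.includeRight : A' →ₐ[A] A' ⊗[A] A').toLinearMap y) =
      TensorProduct.mk A A' (A' ⊗[A] N) 1 y := by
    intro y
    induction y using TensorProduct.induction_on with
    | zero => simp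
    | add y z hy hz => simp only [map_add, hy, hz]
    | tmul a n => simp
  have hmem : ∀ m : M, ∃ n : N, (1 : A') ⊗ₜ[A] n = f (1 ⊗ₜ[A] m) := by
    intro m
    have := Groth.Agent.S1156.result A A' N (f (1 ⊗ₜ[A] m)) (by
      rw [← h1, ← h2, hf m])
    obtain ⟨n, hn⟩ := this
    exact ⟨n, hn⟩
  choose h0 hh0 using hmem
  let h : M →ₗ[A] N :=
    { toFun := h0
      map_add' := by
        intro m m'
        apply hinj
        show (1 : A') ⊗ₜ[A] h0 (m + m') = 1 ⊗ₜ[A] (h0 m + h0 m')
        simp only [tmul_add, hh0, map_add]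
      map_smul' := by
        intro a m
        apply hinj
        show (1 : A') ⊗ₜ[A] h0 (a • m) = 1 ⊗ₜ[A] ((RingHom.id A) a • h0 m)
        simp only [RingHom.id_apply, tmul_smul, hh0, LinearMap.map_smul_of_tower] }
  refine ⟨h, ?_, ?_⟩
  · apply LinearMap.ext
    intro y
    induction y using TensorProduct.induction_on with
    | zero => simp
    | add y z hy hz => simp only [map_add, hy, hz]
    | tmul a m =>
      rw [LinearMap.baseChange_tmul]
      show a ⊗ₜ[A] h0 m = f (a ⊗ₜ[A] m)
      have : a ⊗ₜ[A] m = a • ((1 : A') ⊗ₜ[A] m) := by rw [smul_tmul', smul_eq_mul, mul_one]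
      rw [this, f.map_smul, ← hh0, smul_tmul', smul_eq_mul, mul_one]
  · intro h' hh'
    apply LinearMap.ext
    intro m
    apply hinj
    show (1 : A') ⊗ₜ[A] h' m = 1 ⊗ₜ[A] h0 m
    rw [hh0, ← hh', LinearMap.baseChange_tmul]

end Groth.Agent.S15047
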