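import Groth.Statements.S15060
import Mathlib
import Groth.Agent.Lib.Helper9.LT.Basic
-- import your own Groth.Agent.* helpers here

set_option autoImplicit false
universe u
open LubinTate

namespace Groth.Agent.S15060

namespace Aux

open MvPowerSeries Finsupp Groth.Agent.Helper9.LT

section

variable {O : Type u} [CommRing O]

theorem coeff_single_powerSeries_subst {τ : Type*} (A : MvPowerSeries τ O)
    (hA0 : constantCoeff A = 0) (g : PowerSeries O) (hg0 : g.constantCoeff = 0) (t : τ) :
    coeff (single t 1) (PowerSeries.subst A g) = PowerSeries.coeff 1 g * coeff (single t 1) A := by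
  rw [PowerSeries.subst_def, coeff_single_subst (fun _ : Unit => A) (fun _ => hA0) g hg0 t]
  simp [PowerSeries.coeff]

/-- one-variable form of the functional equation -/
theorem LTEq_iff_unit (π : O) (q : ℕ) (f : PowerSeries O)
    (hf : f = π • PowerSeries.X + PowerSeries.X ^ q) (Φ : PowerSeries O)
    (hΦ0 : Φ.constantCoeff = 0) :
    (PowerSeries.subst Φ f = PowerSeries.subst f Φ) ↔ LTEq (σ := Unit) π q Φ := by
  rw [subst_f π q f hf Φ hΦ0, LTEq, PowerSeries.subst_def]
  have : (fun _ : Unit => f) = gv π q := by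
    funext i
    rw [hf, gv]
    rfl
  rw [this]

theorem unique_unit [IsDomain O] (π : O) (hπ0 : π ≠ 0) (hπu : ¬ IsUnit π) (q : ℕ) (hq : 2 ≤ q)
    (f : PowerSeries O) (hf : f = π • PowerSeries.X + PowerSeries.X ^ q)
    (Φ Ψ : PowerSeries O) (hΦ0 : Φ.constantCoeff = 0) (hΨ0 : Ψ.constantCoeff = 0)
    (hΦ : PowerSeries.subst Φ f = PowerSeries.subst f Φ)
    (hΨ : PowerSeries.subst Ψ f = PowerSeries.subst f Ψ)
    (hlin : PowerSeries.coeff 1 Φ = PowerSeries.coeff 1 Ψ) : Φ = Ψ :=
  LT_unique (σ := Unit) π hπ0 hπu hq Φ Ψ hΦ0 hΨ0 ((LTEq_iff_unit π q f hf Φ hΦ0).mp hΦ)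
    ((LTEq_iff_unit π q f hf Ψ hΨ0).mp hΨ) (fun _ => hlin)

theorem main_aux [IsDomain O] (π : O) (hπ0 : π ≠ 0) (hπu : ¬ IsUnit π) (q : ℕ) (hq : 2 ≤ q)
    (f : PowerSeries O) (hf : f = π • PowerSeries.X + PowerSeries.X ^ q)
    (F : MvPowerSeries (Fin 2) O) (hF0 : constantCoeff F = 0)
    (hFX : coeff (single 0 1) F = 1) (hFY : coeff (single 1 1) F = 1)
    (hF : PowerSeries.subst F f =
        MvPowerSeries.subst (fun i : Fin 2 => PowerSeries.subst (MvPowerSeries.X i : MvPowerSeries (Fin 2) O) f) F)
    (α β : O) (gα gβ gαβ gs : PowerSeries O)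
    (hα0 : gα.constantCoeff = 0) (hα1 : gα.coeff 1 = α) (hαf : PowerSeries.subst gα f = PowerSeries.subst f gα)
    (hβ0 : gβ.constantCoeff = 0) (hβ1 : gβ.coeff 1 = β) (hβf : PowerSeries.subst gβ f = PowerSeries.subst f gβ)
    (hαβ0 : gαβ.constantCoeff = 0) (hαβ1 : gαβ.coeff 1 = α * β)
    (hαβf : PowerSeries.subst gαβ f = PowerSeries.subst f gαβ)
    (hs0 : gs.constantCoeff = 0) (hs1 : gs.coeff 1 = α + β) (hsf : PowerSeries.subst gs f = PowerSeries.subst f gs) :
    PowerSeries.subst gβ gα = gαβ ∧ F.subst ![gα, gβ] = gs := by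
  have hq0 : q ≠ 0 := by omega
  have hf0 : f.constantCoeff = 0 := by
    rw [hf]; simp [hq0]
  have hfS : PowerSeries.HasSubst f := PowerSeries.HasSubst.of_constantCoeff_zero' hf0
  have hαS : PowerSeries.HasSubst gα := PowerSeries.HasSubst.of_constantCoeff_zero' hα0
  have hβS : PowerSeries.HasSubst gβ := PowerSeries.HasSubst.of_constantCoeff_zero' hβ0
  have hFS : PowerSeries.HasSubst F := PowerSeries.HasSubst.of_constantCoeff_zero hF0
  constructor
  · have h0 : (PowerSeries.subst gβ gα).constantCoeff = 0 :=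
      PowerSeries.constantCoeff_subst_eq_zero hβ0 gα hα0
    refine unique_unit π hπ0 hπu q hq f hf _ _ h0 hαβ0 ?_ hαβf ?_
    · rw [← PowerSeries.subst_comp_subst_apply hαS hβS, hαf,
        PowerSeries.subst_comp_subst_apply hfS hβS, hβf,
        ← PowerSeries.subst_comp_subst_apply hβS hfS]
    · have := coeff_single_powerSeries_subst (τ := Unit) gβ hβ0 gα hα0 ()
      rw [hαβ1, ← hα1, ← hβ1]
      exact this
  · set ab : Fin 2 → MvPowerSeries Unit O := ![gα, gβ] with hab
    have hab0 : ∀ i, constantCoeff (ab i) = 0 := by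
      intro i; fin_cases i
      · exact hα0
      · exact hβ0
    have habS : HasSubst ab := hasSubst_of_constantCoeff_zero hab0
    have h0 : constantCoeff (subst ab F) = 0 := constantCoeff_subst_eq_zero habS hab0 hF0
    set fv : Fin 2 → MvPowerSeries (Fin 2) O := fun i => PowerSeries.subst (X i : MvPowerSeries (Fin 2) O) f with hfv
    have hfv0 : ∀ i, constantCoeff (fv i) = 0 := fun i =>
      PowerSeries.constantCoeff_subst_eq_zero (by simp) f hf0
    have hfvS : HasSubst fv := hasSubst_of_constantCoeff_zero hfv0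
    have hfconst : HasSubst (fun _ : Unit => f) := PowerSeries.hasSubst_iff.mp hfS
    refine unique_unit π hπ0 hπu q hq f hf (subst ab F) gs h0 hs0 ?_ hsf ?_
    · -- f ∘ F[ab] = F[ab] ∘ f
      rw [← subst_powerSeries_subst ab habS F hFS f, hF, subst_comp_subst_apply hfvS habS,
        PowerSeries.subst_def f, subst_comp_subst_apply habS hfconst]
      congr 1
      funext i
      show subst ab (PowerSeries.subst (X i) f) = PowerSeries.subst f (ab i)
      have hXS : PowerSeries.HasSubst (X i : MvPowerSeries (Fin 2) O) :=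
        PowerSeries.HasSubst.of_constantCoeff_zero (by simp)
      rw [subst_powerSeries_subst ab habS _ hXS f, subst_X habS]
      fin_cases i
      · exact hαf
      · exact hβf
    · have := coeff_single_subst ab hab0 F hF0 ()
      rw [Fin.sum_univ_two, hFX, hFY, one_mul, one_mul] at this
      rw [hs1, ← hα1, ← hβ1]
      exact this

theorem two_le_card (O : Type u) [CommRing O] [IsLocalRing O] [Finite (IsLocalRing.ResidueField O)] :
    2 ≤ Nat.card (IsLocalRing.ResidueField O) := by
  have := Finite.one_lt_card (α := IsLocalRing.ResidueField O)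
  omega

end

end Aux

/-- Let O be a discrete valuation ring with finite residue field of cardinality q, π a uniformizer of O,
f = πT + T^q ∈ O[[T]], and F a one-dimensional formal group law over O for which f is an
endomorphism, f(F(X,Y)) = F(f(X), f(Y)). For α ∈ O write [α] for a power series with zero constant
term and linear coefficient α commuting with f (it is unique). Then for all α, β ∈ O and all such
series [α], [β], [αβ], [α+β] one has [α]([β](T)) = [αβ](T) and F([α](T), [β](T)) = [α+β](T): the map
α ↦ [α] is a ring homomorphism from O to the endomorphisms of F with their formal-group addition and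
composition. (The published statement is for the ring of integers of a finite extension of ℚ_p or of
𝔽_q((X)); completeness is not used and any discrete valuation ring with finite residue field is
allowed here.) -/
theorem result (O : Type u) [CommRing O] [IsDomain O] [IsDiscreteValuationRing O]
    [Finite (IsLocalRing.ResidueField O)] (π : O) (hπ : Irreducible π) (f : PowerSeries O)
    (hf : f = π • PowerSeries.X + PowerSeries.X ^ Nat.card (IsLocalRing.ResidueField O))
    (F : FormalGroup O)
    (hF : PowerSeries.subst F.toPowerSeries f =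
        MvPowerSeries.subst (fun i : Fin 2 => PowerSeries.subst (MvPowerSeries.X i : MvPowerSeries (Fin 2) O) f)
          F.toPowerSeries)
    (α β : O) (gα gβ gαβ gs : PowerSeries O)
    (hα0 : gα.constantCoeff = 0) (hα1 : gα.coeff 1 = α) (hαf : PowerSeries.subst gα f = PowerSeries.subst f gα)
    (hβ0 : gβ.constantCoeff = 0) (hβ1 : gβ.coeff 1 = β) (hβf : PowerSeries.subst gβ f = PowerSeries.subst f gβ)
    (hαβ0 : gαβ.constantCoeff = 0) (hαβ1 : gαβ.coeff 1 = α * β)
    (hαβf : PowerSeries.subst gαβ f = PowerSeries.subst f gαβ)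
    (hs0 : gs.constantCoeff = 0) (hs1 : gs.coeff 1 = α + β) (hsf : PowerSeries.subst gs f = PowerSeries.subst f gs) :
    PowerSeries.subst gβ gα = gαβ ∧ F.toPowerSeries.subst ![gα, gβ] = gs := by
  exact Aux.main_aux π hπ.ne_zero hπ.not_isUnit _ (Aux.two_le_card O) f hf F.toPowerSeries F.zero_constantCoeff F.lin_coeff_X F.lin_coeff_Y hF α β gα gβ gαβ gs hα0 hα1 hαf hβ0 hβ1 hβf hαβ0 hαβ1 hαβf hs0 hs1 hsf

end Groth.Agent.S15060
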