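import Groth.Statements.S15049
import Mathlib
import Groth.Agent.Lib.Helper9.LT.Exist
import Groth.Agent.S15060
-- import your own Groth.Agent.* helpers here

set_option autoImplicit false
universe u
open LubinTate

namespace Groth.Agent.S15049

namespace Aux

open MvPowerSeries Finsupp Groth.Agent.Helper9.LT

section closure

variable {σ τ : Type*} [Finite σ] [Finite τ] {O : Type u} [CommRing O]

/-- the variables satisfy the functional equation -/
theorem LTEq_X (π : O) {q : ℕ} (hq0 : q ≠ 0) (t : τ) : LTEq π q (X t : MvPowerSeries τ O) := by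
  unfold LTEq
  rw [subst_X (hasSubst_gv π hq0), gv]

/-- the functional equation is stable under substitution -/
theorem LTEq_subst (π : O) {q : ℕ} (hq0 : q ≠ 0) (F : MvPowerSeries σ O) (hF : LTEq π q F)
    (a : σ → MvPowerSeries τ O) (ha0 : ∀ s, constantCoeff (a s) = 0)
    (ha : ∀ s, LTEq π q (a s)) : LTEq π q (subst a F) := by
  have haS : HasSubst a := hasSubst_of_constantCoeff_zero ha0
  unfold LTEq at hF ⊢
  have h1 := congrArg (subst a) hF
  rw [subst_add haS, subst_smul haS, subst_pow haS, subst_comp_subst_apply (hasSubst_gv π hq0) haS] at h1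
  rw [h1, subst_comp_subst_apply haS (hasSubst_gv π hq0)]
  congr 1
  funext s
  rw [gv, subst_add haS, subst_smul haS, subst_pow haS, subst_X haS]
  exact ha s

end closure

section main

variable {O : Type u} [CommRing O]

theorem coeff_single_subst_two {τ : Type*} (Φ : MvPowerSeries (Fin 2) O) (hΦ0 : constantCoeff Φ = 0)
    (h0 : coeff (single 0 1) Φ = 1) (h1 : coeff (single 1 1) Φ = 1)
    (a : Fin 2 → MvPowerSeries τ O) (ha0 : ∀ s, constantCoeff (a s) = 0) (t : τ) :
    coeff (single t 1) (subst a Φ) = coeff (single t 1) (a 0) + coeff (single t 1) (a 1) := by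
  rw [coeff_single_subst a ha0 Φ hΦ0 t, Fin.sum_univ_two, h0, h1, one_mul, one_mul]

omit [CommRing O] in
theorem forall_vec_two {τ : Type*} {P : MvPowerSeries τ O → Prop} (x y : MvPowerSeries τ O)
    (hx : P x) (hy : P y) : ∀ s : Fin 2, P (![x, y] s) := by
  intro s
  fin_cases s
  · exact hx
  · exact hy

theorem main (O : Type u) [CommRing O] [IsDomain O] [IsDiscreteValuationRing O]
    [Finite (IsLocalRing.ResidueField O)] (π : O) (hπ : Irreducible π) (f : PowerSeries O)
    (hf : f = π • PowerSeries.X + PowerSeries.X ^ Nat.card (IsLocalRing.ResidueField O)) :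
    ∃ F : FormalGroup O, F.IsComm ∧
      PowerSeries.subst F.toPowerSeries f =
        MvPowerSeries.subst (fun i : Fin 2 => PowerSeries.subst (MvPowerSeries.X i : MvPowerSeries (Fin 2) O) f) F.toPowerSeries ∧
      ∀ G : MvPowerSeries (Fin 2) O, G.constantCoeff = 0 → G.coeff (Finsupp.single 0 1) = 1 →
        G.coeff (Finsupp.single 1 1) = 1 →
        PowerSeries.subst G f =
        MvPowerSeries.subst (fun i : Fin 2 => PowerSeries.subst (MvPowerSeries.X i : MvPowerSeries (Fin 2) O) f) G →
        G = F.toPowerSeries := by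
  set q := Nat.card (IsLocalRing.ResidueField O) with hqdef
  have hq2 : 2 ≤ q := Groth.Agent.S15060.Aux.two_le_card O
  have hq0 : q ≠ 0 := by omega
  obtain ⟨Φ, hΦ0, hΦ1, hΦE⟩ := exists_LT_dvr O π hπ (σ := Fin 2)
    ((X 0 : MvPowerSeries (Fin 2) O) + X 1) (by simp)
  have h0 : coeff (single 0 1) Φ = 1 := by
    rw [hΦ1 0, map_add, coeff_X, coeff_X, if_pos rfl, if_neg, add_zero]
    intro h
    have := Finsupp.single_left_injective (one_ne_zero) h
    exact absurd this (by decide)
  have h1 : coeff (single 1 1) Φ = 1 := by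
    rw [hΦ1 1, map_add, coeff_X, coeff_X, if_pos rfl, if_neg, zero_add]
    intro h
    have := Finsupp.single_left_injective (one_ne_zero) h
    exact absurd this (by decide)
  have huniq : ∀ {τ : Type} [Finite τ] (Ψ₁ Ψ₂ : MvPowerSeries τ O), constantCoeff Ψ₁ = 0 →
      constantCoeff Ψ₂ = 0 → LTEq π q Ψ₁ → LTEq π q Ψ₂ →
      (∀ s, coeff (single s 1) Ψ₁ = coeff (single s 1) Ψ₂) → Ψ₁ = Ψ₂ :=
    fun Ψ₁ Ψ₂ h1 h2 e1 e2 hl => LT_unique π hπ.ne_zero hπ.not_isUnit hq2 Ψ₁ Ψ₂ h1 h2 e1 e2 hl
  -- facts about substitution into Φ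
  have hsub0 : ∀ {τ : Type} [Finite τ] (a : Fin 2 → MvPowerSeries τ O),
      (∀ s, constantCoeff (a s) = 0) → constantCoeff (subst a Φ) = 0 :=
    fun a ha0 => constantCoeff_subst_eq_zero (hasSubst_of_constantCoeff_zero ha0) ha0 hΦ0
  have hsubE : ∀ {τ : Type} [Finite τ] (a : Fin 2 → MvPowerSeries τ O),
      (∀ s, constantCoeff (a s) = 0) → (∀ s, LTEq π q (a s)) → LTEq π q (subst a Φ) :=
    fun a ha0 ha => LTEq_subst π hq0 Φ hΦE a ha0 ha
  have hX0 : ∀ {τ : Type} (t : τ), constantCoeff (X t : MvPowerSeries τ O) = 0 := fun t => by simp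
  let F : FormalGroup O :=
    { toPowerSeries := Φ
      zero_constantCoeff := hΦ0
      lin_coeff_X := h0
      lin_coeff_Y := h1
      assoc := by
        have hA1 : constantCoeff (subst ![(X 0 : MvPowerSeries (Fin 3) O), X 1] Φ) = 0 :=
          hsub0 _ (forall_vec_two (P := fun x => constantCoeff x = 0) _ _ (hX0 0) (hX0 1))
        have hA2 : constantCoeff (subst ![(X 1 : MvPowerSeries (Fin 3) O), X 2] Φ) = 0 :=
          hsub0 _ (forall_vec_two (P := fun x => constantCoeff x = 0) _ _ (hX0 1) (hX0 2))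
        have hA1E : LTEq π q (subst ![(X 0 : MvPowerSeries (Fin 3) O), X 1] Φ) :=
          hsubE _ (forall_vec_two (P := fun x => constantCoeff x = 0) _ _ (hX0 0) (hX0 1))
            (forall_vec_two (P := LTEq π q) _ _ (LTEq_X π hq0 0) (LTEq_X π hq0 1))
        have hA2E : LTEq π q (subst ![(X 1 : MvPowerSeries (Fin 3) O), X 2] Φ) :=
          hsubE _ (forall_vec_two (P := fun x => constantCoeff x = 0) _ _ (hX0 1) (hX0 2))
            (forall_vec_two (P := LTEq π q) _ _ (LTEq_X π hq0 1) (LTEq_X π hq0 2))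
        have hL0 := forall_vec_two (P := fun x => constantCoeff x = 0) _ _ hA1 (hX0 (2 : Fin 3))
        have hR0 := forall_vec_two (P := fun x => constantCoeff x = 0) _ _ (hX0 (0 : Fin 3)) hA2
        refine huniq _ _ (hsub0 _ hL0) (hsub0 _ hR0)
          (hsubE _ hL0 (forall_vec_two (P := LTEq π q) _ _ hA1E (LTEq_X π hq0 2)))
          (hsubE _ hR0 (forall_vec_two (P := LTEq π q) _ _ (LTEq_X π hq0 0) hA2E)) ?_
        intro t
        rw [coeff_single_subst_two Φ hΦ0 h0 h1 _ hL0 t, coeff_single_subst_two Φ hΦ0 h0 h1 _ hR0 t]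
        simp only [Matrix.cons_val_zero, Matrix.cons_val_one]
        rw [coeff_single_subst_two Φ hΦ0 h0 h1 _
            (forall_vec_two (P := fun x => constantCoeff x = 0) _ _ (hX0 0) (hX0 1)) t,
          coeff_single_subst_two Φ hΦ0 h0 h1 _
            (forall_vec_two (P := fun x => constantCoeff x = 0) _ _ (hX0 1) (hX0 2)) t]
        simp only [Matrix.cons_val_zero, Matrix.cons_val_one]
        rw [add_assoc] }
  refine ⟨F, ⟨?_⟩, ?_, ?_⟩
  · -- commutativity
    have hc0 := forall_vec_two (P := fun x => constantCoeff x = 0) _ _ (hX0 (1 : Fin 2)) (hX0 (0 : Fin 2))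
    show Φ = subst ![(X 1 : MvPowerSeries (Fin 2) O), X 0] Φ
    refine huniq _ _ hΦ0 (hsub0 _ hc0) hΦE
      (hsubE _ hc0 (forall_vec_two (P := LTEq π q) _ _ (LTEq_X π hq0 1) (LTEq_X π hq0 0))) ?_
    have hne01 : (single (0 : Fin 2) 1 : Fin 2 →₀ ℕ) ≠ single 1 1 := fun h =>
      absurd (Finsupp.single_left_injective one_ne_zero h) (by decide)
    rw [Fin.forall_fin_two]
    constructor
    · rw [coeff_single_subst_two Φ hΦ0 h0 h1 _ hc0 0]
      simp only [Matrix.cons_val_zero, Matrix.cons_val_one]
      rw [coeff_X, coeff_X, if_neg hne01, if_pos rfl, zero_add]; exact h0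
    · rw [coeff_single_subst_two Φ hΦ0 h0 h1 _ hc0 1]
      simp only [Matrix.cons_val_zero, Matrix.cons_val_one]
      rw [coeff_X, coeff_X, if_pos rfl, if_neg hne01.symm, add_zero]; exact h1
  · exact (LTEq_iff π q f hf Φ hΦ0).mpr hΦE
  · intro G hG0 hG1 hG2 hGE
    refine huniq G Φ hG0 hΦ0 ((LTEq_iff π q f hf G hG0).mp hGE) hΦE ?_
    rw [Fin.forall_fin_two]
    exact ⟨hG1.trans h0.symm, hG2.trans h1.symm⟩

end main

end Aux

/-- Let O be a discrete valuation ring with finite residue field of cardinality q, π a uniformizer of O,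
and f = πT + T^q ∈ O[[T]]. Then there is a one-dimensional commutative formal group law F(X,Y) over
O for which f is an endomorphism, f(F(X,Y)) = F(f(X), f(Y)); and F is the unique power series in
O[[X,Y]] with zero constant term and linear part X + Y satisfying this identity. (The published
statement is for the ring of integers of a finite extension of ℚ_p or of 𝔽_q((X)); completeness is
not used and any discrete valuation ring with finite residue field is allowed here.) -/
theorem result (O : Type u) [CommRing O] [IsDomain O] [IsDiscreteValuationRing O]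
    [Finite (IsLocalRing.ResidueField O)] (π : O) (hπ : Irreducible π) (f : PowerSeries O)
    (hf : f = π • PowerSeries.X + PowerSeries.X ^ Nat.card (IsLocalRing.ResidueField O)) :
    ∃ F : FormalGroup O, F.IsComm ∧
      PowerSeries.subst F.toPowerSeries f =
        MvPowerSeries.subst (fun i : Fin 2 => PowerSeries.subst (MvPowerSeries.X i : MvPowerSeries (Fin 2) O) f) F.toPowerSeries ∧
      ∀ G : MvPowerSeries (Fin 2) O, G.constantCoeff = 0 → G.coeff (Finsupp.single 0 1) = 1 →
        G.coeff (Finsupp.single 1 1) = 1 →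
        PowerSeries.subst G f =
        MvPowerSeries.subst (fun i : Fin 2 => PowerSeries.subst (MvPowerSeries.X i : MvPowerSeries (Fin 2) O) f) G →
        G = F.toPowerSeries := by
  exact Aux.main O π hπ f hf

end Groth.Agent.S15049
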