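import Groth.Statements.S15050
import Mathlib
import Groth.Agent.Lib.Helper9.LT.Exist
import Groth.Agent.S15060
-- import your own Groth.Agent.* helpers here

set_option autoImplicit false
universe u
open LubinTate

namespace Groth.Agent.S15050

namespace Aux

open MvPowerSeries Finsupp Groth.Agent.Helper9.LT

theorem main (O : Type u) [CommRing O] [IsDomain O] [IsDiscreteValuationRing O]
    [Finite (IsLocalRing.ResidueField O)] (π : O) (hπ : Irreducible π) (f : PowerSeries O)
    (hf : f = π • PowerSeries.X + PowerSeries.X ^ Nat.card (IsLocalRing.ResidueField O)) (α : O) :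
    ∃! g : PowerSeries O, g.constantCoeff = 0 ∧ g.coeff 1 = α ∧
      PowerSeries.subst g f = PowerSeries.subst f g := by
  obtain ⟨Φ, hΦ0, hΦ1, hΦE⟩ := exists_LT_dvr O π hπ (σ := Unit) (α • (PowerSeries.X : PowerSeries O))
    (by
      rw [MvPowerSeries.smul_eq_C_mul, map_mul]
      have : constantCoeff (PowerSeries.X : PowerSeries O) = 0 := PowerSeries.constantCoeff_X
      rw [this, mul_zero])
  have hq := Groth.Agent.S15060.Aux.two_le_card O
  refine ⟨Φ, ⟨hΦ0, ?_, ?_⟩, ?_⟩
  · have := hΦ1 ()
    rw [map_smul, smul_eq_mul] at this
    show coeff (single () 1) Φ = α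
    rw [this]
    have h1 : coeff (single () 1) (PowerSeries.X : PowerSeries O) = 1 := PowerSeries.coeff_one_X
    rw [h1, mul_one]
  · exact (Groth.Agent.S15060.Aux.LTEq_iff_unit π _ f hf Φ hΦ0).mpr hΦE
  · rintro g ⟨hg0, hg1, hgf⟩
    refine Groth.Agent.S15060.Aux.unique_unit π hπ.ne_zero hπ.not_isUnit _ hq f hf g Φ hg0 hΦ0 hgf
      ((Groth.Agent.S15060.Aux.LTEq_iff_unit π _ f hf Φ hΦ0).mpr hΦE) ?_
    rw [hg1]
    have := hΦ1 ()
    rw [map_smul, smul_eq_mul] at this
    have h1 : coeff (single () 1) (PowerSeries.X : PowerSeries O) = 1 := PowerSeries.coeff_one_X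
    rw [h1, mul_one] at this
    exact this.symm

end Aux

/-- Let O be a discrete valuation ring with finite residue field of cardinality q, π a uniformizer of O,
and f = πT + T^q ∈ O[[T]]. For every α ∈ O there is a unique power series g = [α] ∈ O[[T]] with zero
constant term and linear coefficient α which commutes with f under substitution, g(f(T)) = f(g(T)).
(The published statement is for the ring of integers of a finite extension of ℚ_p or of 𝔽_q((X));
completeness is not used and any discrete valuation ring with finite residue field is allowed here.) -/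
theorem result (O : Type u) [CommRing O] [IsDomain O] [IsDiscreteValuationRing O]
    [Finite (IsLocalRing.ResidueField O)] (π : O) (hπ : Irreducible π) (f : PowerSeries O)
    (hf : f = π • PowerSeries.X + PowerSeries.X ^ Nat.card (IsLocalRing.ResidueField O)) (α : O) :
    ∃! g : PowerSeries O, g.constantCoeff = 0 ∧ g.coeff 1 = α ∧
      PowerSeries.subst g f = PowerSeries.subst f g := by
  exact Aux.main O π hπ f hf α

end Groth.Agent.S15050
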