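import Groth.Statements.S15051
import Mathlib
import Groth.Agent.Lib.Helper9.LT.Basic
-- import your own Groth.Agent.* helpers here

set_option autoImplicit false
universe u
open LubinTate

namespace Groth.Agent.S15051

namespace Aux

open MvPowerSeries Finsupp Groth.Agent.Helper9.LT

section

variable {O : Type u} [CommRing O]

/-- linear coefficient of `g(A)` -/
theorem coeff_single_powerSeries_subst {τ : Type*} (A : MvPowerSeries τ O)
    (hA0 : constantCoeff A = 0) (g : PowerSeries O) (hg0 : g.constantCoeff = 0) (t : τ) :
    coeff (single t 1) (PowerSeries.subst A g) = PowerSeries.coeff 1 g * coeff (single t 1) A := by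
  rw [PowerSeries.subst_def, coeff_single_subst (fun _ : Unit => A) (fun _ => hA0) g hg0 t]
  simp [PowerSeries.coeff]

theorem main_aux [IsDomain O] (π : O) (hπ0 : π ≠ 0) (hπu : ¬ IsUnit π) (q : ℕ) (hq : 2 ≤ q)
    (f : PowerSeries O) (hf : f = π • PowerSeries.X + PowerSeries.X ^ q)
    (F : MvPowerSeries (Fin 2) O) (hF0 : constantCoeff F = 0)
    (hFX : coeff (single 0 1) F = 1) (hFY : coeff (single 1 1) F = 1)
    (hF : PowerSeries.subst F f =
        MvPowerSeries.subst (fun i : Fin 2 => PowerSeries.subst (MvPowerSeries.X i : MvPowerSeries (Fin 2) O) f) F)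
    (g : PowerSeries O) (hg0 : g.constantCoeff = 0)
    (hgf : PowerSeries.subst g f = PowerSeries.subst f g) :
    PowerSeries.subst F g =
      MvPowerSeries.subst (fun i : Fin 2 => PowerSeries.subst (MvPowerSeries.X i : MvPowerSeries (Fin 2) O) g) F := by
  have hq0 : q ≠ 0 := by omega
  have hf0 : f.constantCoeff = 0 := by
    rw [hf]; simp [hq0]
  -- notation
  set fv : Fin 2 → MvPowerSeries (Fin 2) O := fun i => PowerSeries.subst (X i : MvPowerSeries (Fin 2) O) f with hfv
  set gw : Fin 2 → MvPowerSeries (Fin 2) O := fun i => PowerSeries.subst (X i : MvPowerSeries (Fin 2) O) g with hgw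
  have hfv0 : ∀ i, constantCoeff (fv i) = 0 := fun i =>
    PowerSeries.constantCoeff_subst_eq_zero (by simp) f hf0
  have hgw0 : ∀ i, constantCoeff (gw i) = 0 := fun i =>
    PowerSeries.constantCoeff_subst_eq_zero (by simp) g hg0
  have hfvS : HasSubst fv := hasSubst_of_constantCoeff_zero hfv0
  have hgwS : HasSubst gw := hasSubst_of_constantCoeff_zero hgw0
  have hFS : PowerSeries.HasSubst F := PowerSeries.HasSubst.of_constantCoeff_zero hF0
  have hgS : PowerSeries.HasSubst g := PowerSeries.HasSubst.of_constantCoeff_zero' hg0
  have hfS : PowerSeries.HasSubst f := PowerSeries.HasSubst.of_constantCoeff_zero' hf0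
  have hΦ1 : constantCoeff (PowerSeries.subst F g) = 0 :=
    PowerSeries.constantCoeff_subst_eq_zero hF0 g hg0
  have hΦ2 : constantCoeff (subst gw F) = 0 :=
    constantCoeff_subst_eq_zero hgwS hgw0 hF0
  apply LT_unique π hπ0 hπu hq _ _ hΦ1 hΦ2
  · -- E(Φ1)
    rw [← LTEq_iff π q f hf _ hΦ1]
    show PowerSeries.subst (PowerSeries.subst F g) f = subst fv (PowerSeries.subst F g)
    rw [← PowerSeries.subst_comp_subst_apply hgS hFS, hgf,
      PowerSeries.subst_comp_subst_apply hfS hFS, hF,
      subst_powerSeries_subst fv hfvS F hFS g]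
  · -- E(Φ2)
    rw [← LTEq_iff π q f hf _ hΦ2]
    show PowerSeries.subst (subst gw F) f = subst fv (subst gw F)
    rw [← subst_powerSeries_subst gw hgwS F hFS f, hF, subst_comp_subst_apply hfvS hgwS,
      subst_comp_subst_apply hgwS hfvS]
    congr 1
    funext i
    show subst gw (PowerSeries.subst (X i) f) = subst fv (PowerSeries.subst (X i) g)
    have hXS : PowerSeries.HasSubst (X i : MvPowerSeries (Fin 2) O) :=
      PowerSeries.HasSubst.of_constantCoeff_zero (by simp)
    rw [subst_powerSeries_subst gw hgwS _ hXS f, subst_powerSeries_subst fv hfvS _ hXS g,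
      subst_X hgwS, subst_X hfvS]
    show PowerSeries.subst (PowerSeries.subst (X i) g) f = PowerSeries.subst (PowerSeries.subst (X i) f) g
    rw [← PowerSeries.subst_comp_subst_apply hgS hXS, ← PowerSeries.subst_comp_subst_apply hfS hXS, hgf]
  · -- linear coefficients
    intro t
    rw [coeff_single_powerSeries_subst F hF0 g hg0 t,
      coeff_single_subst gw hgw0 F hF0 t, Fin.sum_univ_two, hFX, hFY, one_mul, one_mul]
    show _ = coeff (single t 1) (PowerSeries.subst (X 0) g) + coeff (single t 1) (PowerSeries.subst (X 1) g)
    rw [coeff_single_powerSeries_subst _ (by simp) g hg0 t,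
      coeff_single_powerSeries_subst _ (by simp) g hg0 t, ← mul_add]
    congr 1
    fin_cases t
    · simp [hFX, coeff_X, Finsupp.single_eq_single_iff]
    · simp [hFY, coeff_X, Finsupp.single_eq_single_iff]

theorem two_le_card (O : Type u) [CommRing O] [IsLocalRing O] [Finite (IsLocalRing.ResidueField O)] :
    2 ≤ Nat.card (IsLocalRing.ResidueField O) := by
  have := Finite.one_lt_card (α := IsLocalRing.ResidueField O)
  omega

theorem main (O : Type u) [CommRing O] [IsDomain O] [IsDiscreteValuationRing O]
    [Finite (IsLocalRing.ResidueField O)] (π : O) (hπ : Irreducible π) (f : PowerSeries O)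
    (hf : f = π • PowerSeries.X + PowerSeries.X ^ Nat.card (IsLocalRing.ResidueField O))
    (F : FormalGroup O)
    (hF : PowerSeries.subst F.toPowerSeries f =
        MvPowerSeries.subst (fun i : Fin 2 => PowerSeries.subst (MvPowerSeries.X i : MvPowerSeries (Fin 2) O) f) F.toPowerSeries)
    (g : PowerSeries O) (hg0 : g.constantCoeff = 0)
    (hgf : PowerSeries.subst g f = PowerSeries.subst f g) :
    PowerSeries.subst F.toPowerSeries g =
      MvPowerSeries.subst (fun i : Fin 2 => PowerSeries.subst (MvPowerSeries.X i : MvPowerSeries (Fin 2) O) g)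
        F.toPowerSeries :=
  main_aux π hπ.ne_zero hπ.not_isUnit _ (two_le_card O) f hf F.toPowerSeries F.zero_constantCoeff
    F.lin_coeff_X F.lin_coeff_Y hF g hg0 hgf

end

end Aux

/-- Let O be a discrete valuation ring with finite residue field of cardinality q, π a uniformizer of O,
and f = πT + T^q ∈ O[[T]]; let F be a one-dimensional formal group law over O for which f is an
endomorphism, f(F(X,Y)) = F(f(X), f(Y)), and g ∈ O[[T]] a power series with zero constant term which
commutes with f, g(f(T)) = f(g(T)). Then g is an endomorphism of F, that is g(F(X,Y)) = F(g(X),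
g(Y)); so α ↦ [α] maps O into the endomorphisms of the Lubin–Tate formal group. (The published
statement is for the ring of integers of a finite extension of ℚ_p or of 𝔽_q((X)); completeness is
not used and any discrete valuation ring with finite residue field is allowed here.) -/
theorem result (O : Type u) [CommRing O] [IsDomain O] [IsDiscreteValuationRing O]
    [Finite (IsLocalRing.ResidueField O)] (π : O) (hπ : Irreducible π) (f : PowerSeries O)
    (hf : f = π • PowerSeries.X + PowerSeries.X ^ Nat.card (IsLocalRing.ResidueField O))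
    (F : FormalGroup O)
    (hF : PowerSeries.subst F.toPowerSeries f =
        MvPowerSeries.subst (fun i : Fin 2 => PowerSeries.subst (MvPowerSeries.X i : MvPowerSeries (Fin 2) O) f) F.toPowerSeries)
    (g : PowerSeries O) (hg0 : g.constantCoeff = 0)
    (hgf : PowerSeries.subst g f = PowerSeries.subst f g) :
    PowerSeries.subst F.toPowerSeries g =
      MvPowerSeries.subst (fun i : Fin 2 => PowerSeries.subst (MvPowerSeries.X i : MvPowerSeries (Fin 2) O) g)
        F.toPowerSeries := by
  exact Aux.main O π hπ f hf F hF g hg0 hgf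

end Groth.Agent.S15051
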