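import Groth.Statements.S15052
import Mathlib
import Groth.Agent.Lib.Helper9.LT.Log
import Groth.Agent.S15049
-- import your own Groth.Agent.* helpers here

set_option autoImplicit false
universe u
open LubinTate

namespace Groth.Agent.S15052

namespace Aux

open MvPowerSeries Finsupp Groth.Agent.Helper9.LT

section gen

variable {K : Type u} [Field K] (c : K) (q : ℕ)

theorem constantCoeff_u {τ : Type*} (hq : 2 ≤ q) (s : τ) :
    constantCoeff (C c + (X s : MvPowerSeries τ K) ^ (q - 1)) = c := by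
  have : q - 1 ≠ 0 := by omega
  simp [this]

theorem gv_log_unique {τ : Type*} [Finite τ] (hq : 2 ≤ q) (hc0 : c ≠ 0)
    (hc : ∀ m, 1 ≤ m → c ^ m ≠ 1) (Λ₁ Λ₂ : MvPowerSeries τ K)
    (h10 : constantCoeff Λ₁ = 0) (h20 : constantCoeff Λ₂ = 0)
    (hlin : ∀ t, coeff (single t 1) Λ₁ = coeff (single t 1) Λ₂)
    (h1 : subst (gv c q) Λ₁ = c • Λ₁) (h2 : subst (gv c q) Λ₂ = c • Λ₂) : Λ₁ = Λ₂ := by
  have hq0 : q ≠ 0 := by omega
  refine sub_eq_zero.mp (log_unique c (gv c q) (fun s => C c + X s ^ (q - 1)) (gv_eq c hq0)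
    (constantCoeff_u c q hq) (hasSubst_gv c hq0) hc0 hc (Λ₁ - Λ₂) ?_ ?_ ?_)
  · rw [map_sub, h10, h20, sub_zero]
  · intro s; rw [map_sub, hlin s, sub_self]
  · rw [subst_sub (hasSubst_gv c hq0), h1, h2, smul_sub]

theorem gv_log_exists (hq : 2 ≤ q) (hc0 : c ≠ 0) (hc : ∀ m, 1 ≤ m → c ^ m ≠ 1) :
    ∃ ℓ : PowerSeries K, ℓ.constantCoeff = 0 ∧ ℓ.coeff 1 = 1 ∧
      subst (gv (σ := Unit) c q) ℓ = c • ℓ := by
  have hq0 : q ≠ 0 := by omega
  obtain ⟨Λ, h0, h1, hE⟩ := log_exists c (gv (σ := Unit) c q) (fun s => C c + X s ^ (q - 1))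
    (gv_eq c hq0) (constantCoeff_u c q hq) (hasSubst_gv c hq0) hc0 hc (X ()) (by simp)
  refine ⟨Λ, h0, ?_, hE⟩
  have := h1 ()
  rw [coeff_X, if_pos rfl] at this
  exact this

theorem subst_log {τ : Type*} [Finite τ] (hq0 : q ≠ 0) (ℓ : PowerSeries K)
    (hℓ : subst (gv (σ := Unit) c q) ℓ = c • ℓ)
    (A : MvPowerSeries τ K) (hA0 : constantCoeff A = 0) (hA : LTEq c q A) :
    subst (gv c q) (PowerSeries.subst A ℓ) = c • PowerSeries.subst A ℓ := by
  have hAS : PowerSeries.HasSubst A := PowerSeries.HasSubst.of_constantCoeff_zero hA0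
  have hAc : HasSubst (fun _ : Unit => A) := PowerSeries.hasSubst_iff.mp hAS
  rw [subst_powerSeries_subst (gv c q) (hasSubst_gv c hq0) A hAS ℓ, ← hA]
  have h2 : (fun s : Unit => subst (fun _ : Unit => A) (gv (σ := Unit) c q s)) =
      fun _ => c • A + A ^ q := by
    funext s
    rw [gv, subst_add hAc, subst_smul hAc, subst_pow hAc, subst_X hAc]
  rw [PowerSeries.subst_def, ← h2, ← subst_comp_subst_apply (hasSubst_gv c hq0) hAc, hℓ,
    subst_smul hAc, PowerSeries.subst_def]

end gen

section mapLT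

variable {O : Type u} [CommRing O] {K : Type u} [CommRing K] (φ : O →+* K)

theorem LTEq_map {σ : Type*} [Finite σ] (π : O) (q : ℕ) (hq0 : q ≠ 0) (Φ : MvPowerSeries σ O)
    (h : LTEq π q Φ) : LTEq (φ π) q (MvPowerSeries.map φ Φ) := by
  unfold LTEq at h ⊢
  have h1 := congrArg (MvPowerSeries.map φ) h
  rw [map_subst (hasSubst_gv π hq0), map_add, map_pow, smul_eq_C_mul, map_mul, map_C,
    ← smul_eq_C_mul] at h1
  rw [h1]
  congr 1
  funext s
  rw [gv, gv, map_add, map_pow, smul_eq_C_mul, map_mul, map_C, map_X, ← smul_eq_C_mul]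

end mapLT


section main

open LubinTate

theorem main (O : Type u) [CommRing O] [IsDomain O] [IsDiscreteValuationRing O]
    [Finite (IsLocalRing.ResidueField O)] (K : Type u) [Field K] [Algebra O K] [IsFractionRing O K]
    (π : O) (hπ : Irreducible π) (f : PowerSeries O)
    (hf : f = π • PowerSeries.X + PowerSeries.X ^ Nat.card (IsLocalRing.ResidueField O))
    (F : FormalGroup O)
    (hF : PowerSeries.subst F.toPowerSeries f =
        MvPowerSeries.subst (fun i : Fin 2 => PowerSeries.subst (MvPowerSeries.X i : MvPowerSeries (Fin 2) O) f) F.toPowerSeries) :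
    ∃ ℓ : PowerSeries K, (ℓ.constantCoeff = 0 ∧ ℓ.coeff 1 = 1 ∧
      PowerSeries.subst (PowerSeries.map (algebraMap O K) f) ℓ = algebraMap O K π • ℓ) ∧
      (∀ ℓ' : PowerSeries K, ℓ'.constantCoeff = 0 → ℓ'.coeff 1 = 1 →
        PowerSeries.subst (PowerSeries.map (algebraMap O K) f) ℓ' = algebraMap O K π • ℓ' → ℓ' = ℓ) ∧
      PowerSeries.subst ((F.toPowerSeries).map (algebraMap O K)) ℓ =
        PowerSeries.subst (MvPowerSeries.X (0 : Fin 2) : MvPowerSeries (Fin 2) K) ℓ +
          PowerSeries.subst (MvPowerSeries.X (1 : Fin 2) : MvPowerSeries (Fin 2) K) ℓ ∧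
      (∀ (α : O) (g : PowerSeries O), g.constantCoeff = 0 → g.coeff 1 = α →
        PowerSeries.subst g f = PowerSeries.subst f g →
        PowerSeries.subst (PowerSeries.map (algebraMap O K) g) ℓ = algebraMap O K α • ℓ) := by
  set q := Nat.card (IsLocalRing.ResidueField O) with hqdef
  have hq2 : 2 ≤ q := Groth.Agent.S15060.Aux.two_le_card O
  have hq0 : q ≠ 0 := by omega
  set φ : O →+* K := algebraMap O K with hφ
  have hinj : Function.Injective φ := IsFractionRing.injective O K
  set c : K := φ π with hcdef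
  have hc0 : c ≠ 0 := by
    intro h
    exact hπ.ne_zero (hinj (by rw [map_zero]; exact h))
  have hc : ∀ m, 1 ≤ m → c ^ m ≠ 1 := by
    intro m hm h
    rw [hcdef, ← map_pow, ← map_one φ] at h
    exact hπ.not_isUnit (IsUnit.of_pow_eq_one (hinj h) (by omega))
  -- the series f over K
  have hfK : (fun _ : Unit => PowerSeries.map φ f) = gv (σ := Unit) c q := by
    funext s
    rw [hf, gv, map_add, map_pow, PowerSeries.smul_eq_C_mul, map_mul,
      PowerSeries.map_C, PowerSeries.map_X, ← PowerSeries.smul_eq_C_mul]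
    rfl
  have hsub : ∀ ℓ : PowerSeries K, PowerSeries.subst (PowerSeries.map φ f) ℓ =
      subst (gv (σ := Unit) c q) ℓ := by
    intro ℓ
    rw [PowerSeries.subst_def, hfK]
  obtain ⟨ℓ, hℓ0, hℓ1, hℓE⟩ := gv_log_exists c q hq2 hc0 hc
  have hlinℓ : ∀ {τ : Type} (A : MvPowerSeries τ K), constantCoeff A = 0 → ∀ t : τ,
      coeff (single t 1) (PowerSeries.subst A ℓ) = coeff (single t 1) A := by
    intro τ A hA0 t
    rw [Groth.Agent.S15060.Aux.coeff_single_powerSeries_subst A hA0 ℓ hℓ0 t, hℓ1, one_mul]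
  refine ⟨ℓ, ⟨hℓ0, hℓ1, (hsub ℓ).trans hℓE⟩, ?_, ?_, ?_⟩
  · intro ℓ' h0 h1 hE
    rw [hsub ℓ'] at hE
    exact gv_log_unique c q hq2 hc0 hc ℓ' ℓ h0 hℓ0 (fun _ => h1.trans hℓ1.symm) hE hℓE
  · -- additivity
    have hFE : LTEq π q F.toPowerSeries := (LTEq_iff π q f hf _ F.zero_constantCoeff).mp hF
    have hFKE := LTEq_map φ π q hq0 _ hFE
    have hFK0 : constantCoeff (MvPowerSeries.map φ F.toPowerSeries) = 0 := by
      rw [← coeff_zero_eq_constantCoeff_apply, coeff_map, coeff_zero_eq_constantCoeff_apply,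
        F.zero_constantCoeff, map_zero]
    have hX0 : ∀ i : Fin 2, constantCoeff (X i : MvPowerSeries (Fin 2) K) = 0 := fun i => by simp
    have hS0 : ∀ (A : MvPowerSeries (Fin 2) K), constantCoeff A = 0 →
        constantCoeff (PowerSeries.subst A ℓ) = 0 := fun A hA0 =>
      PowerSeries.constantCoeff_subst_eq_zero hA0 ℓ hℓ0
    refine gv_log_unique c q hq2 hc0 hc _ _ (hS0 _ hFK0) ?_ ?_
      (subst_log c q hq0 ℓ hℓE _ hFK0 hFKE) ?_
    · rw [map_add, hS0 _ (hX0 0), hS0 _ (hX0 1), add_zero]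
    · intro t
      rw [map_add, hlinℓ _ hFK0 t, hlinℓ _ (hX0 0) t, hlinℓ _ (hX0 1) t, coeff_map]
      have hne01 : (single (0 : Fin 2) 1 : Fin 2 →₀ ℕ) ≠ single 1 1 := fun h =>
        absurd (Finsupp.single_left_injective one_ne_zero h) (by decide)
      revert t
      rw [Fin.forall_fin_two]
      constructor
      · rw [F.lin_coeff_X, map_one, coeff_X, coeff_X, if_pos rfl, if_neg hne01, add_zero]
      · rw [F.lin_coeff_Y, map_one, coeff_X, coeff_X, if_pos rfl, if_neg hne01.symm, zero_add]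
    · rw [subst_add (hasSubst_gv c hq0), subst_log c q hq0 ℓ hℓE _ (hX0 0) (Groth.Agent.S15049.Aux.LTEq_X c hq0 0),
        subst_log c q hq0 ℓ hℓE _ (hX0 1) (Groth.Agent.S15049.Aux.LTEq_X c hq0 1), smul_add]
  · intro α g hg0 hg1 hgf
    have hgE : LTEq (σ := Unit) π q g :=
      (Groth.Agent.S15060.Aux.LTEq_iff_unit π q f hf g hg0).mp hgf
    have hgKE := LTEq_map φ π q hq0 _ hgE
    have hgK0 : constantCoeff (MvPowerSeries.map φ g) = 0 := by
      rw [← coeff_zero_eq_constantCoeff_apply, coeff_map, coeff_zero_eq_constantCoeff_apply]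
      exact (congrArg φ hg0).trans (map_zero φ)
    refine gv_log_unique c q hq2 hc0 hc (PowerSeries.subst (MvPowerSeries.map φ g) ℓ) _
      (PowerSeries.constantCoeff_subst_eq_zero hgK0 ℓ hℓ0) ?_ ?_
      (subst_log c q hq0 ℓ hℓE _ hgK0 hgKE) ?_
    · rw [smul_eq_C_mul, map_mul, show constantCoeff ℓ = 0 from hℓ0, mul_zero]
    · intro t
      rw [hlinℓ _ hgK0 t, coeff_map, map_smul, smul_eq_mul]
      have h1 : coeff (single t 1) ℓ = 1 := hℓ1
      have h2 : coeff (single t 1) g = α := hg1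
      rw [h1, h2, mul_one]
    · rw [subst_smul (hasSubst_gv c hq0), hℓE, smul_comm]

end main

end Aux

/-- Let O be a discrete valuation ring with finite residue field of cardinality q, π a uniformizer of O,
and f = πT + T^q ∈ O[[T]]; let K be the fraction field of O and F a one-dimensional formal group law
over O for which f is an endomorphism, f(F(X,Y)) = F(f(X), f(Y)). Then there is a unique power
series ℓ ∈ K[[T]] with zero constant term and linear coefficient 1 such that ℓ(f(T)) = π·ℓ(T); this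
logarithm is a homomorphism to the additive formal group, ℓ(F(T,S)) = ℓ(T) + ℓ(S), and it is
O-linear in the sense that ℓ(g(T)) = α·ℓ(T) for every α ∈ O and every series g ∈ O[[T]] with zero
constant term and linear coefficient α commuting with f. (The published statement is for the ring of
integers of a finite extension of ℚ_p; completeness is not used and any discrete valuation ring with
finite residue field is allowed here.) -/
theorem result (O : Type u) [CommRing O] [IsDomain O] [IsDiscreteValuationRing O]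
    [Finite (IsLocalRing.ResidueField O)] (K : Type u) [Field K] [Algebra O K] [IsFractionRing O K]
    (π : O) (hπ : Irreducible π) (f : PowerSeries O)
    (hf : f = π • PowerSeries.X + PowerSeries.X ^ Nat.card (IsLocalRing.ResidueField O))
    (F : FormalGroup O)
    (hF : PowerSeries.subst F.toPowerSeries f =
        MvPowerSeries.subst (fun i : Fin 2 => PowerSeries.subst (MvPowerSeries.X i : MvPowerSeries (Fin 2) O) f) F.toPowerSeries) :
    ∃ ℓ : PowerSeries K, (ℓ.constantCoeff = 0 ∧ ℓ.coeff 1 = 1 ∧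
      PowerSeries.subst (PowerSeries.map (algebraMap O K) f) ℓ = algebraMap O K π • ℓ) ∧
      (∀ ℓ' : PowerSeries K, ℓ'.constantCoeff = 0 → ℓ'.coeff 1 = 1 →
        PowerSeries.subst (PowerSeries.map (algebraMap O K) f) ℓ' = algebraMap O K π • ℓ' → ℓ' = ℓ) ∧
      PowerSeries.subst ((F.toPowerSeries).map (algebraMap O K)) ℓ =
        PowerSeries.subst (MvPowerSeries.X (0 : Fin 2) : MvPowerSeries (Fin 2) K) ℓ +
          PowerSeries.subst (MvPowerSeries.X (1 : Fin 2) : MvPowerSeries (Fin 2) K) ℓ ∧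
      (∀ (α : O) (g : PowerSeries O), g.constantCoeff = 0 → g.coeff 1 = α →
        PowerSeries.subst g f = PowerSeries.subst f g →
        PowerSeries.subst (PowerSeries.map (algebraMap O K) g) ℓ = algebraMap O K α • ℓ) := by
  exact Aux.main O K π hπ f hf F hF

end Groth.Agent.S15052
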