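import Groth.Statements.S15057
import Mathlib
import Mathlib

set_option autoImplicit false
universe u
open CategoryTheory CategoryTheory.Limits
open Desc

open CategoryTheory Limits Opposite Simplicial TensorProduct

namespace Groth.Agent.S15057

variable (R A : Type u) [CommRing R] [CommRing A] [Algebra R A]

/-- the structure map as a morphism of commutative rings -/
abbrev f : CommRingCat.of R ⟶ CommRingCat.of A := CommRingCat.ofHom (algebraMap R A)

/-- the Čech conerve -/
noncomputable abbrev N : CosimplicialObject CommRingCat.{u} := (Arrow.mk (f R A)).cechConerve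

/-- the terms of the Čech conerve -/
noncomputable abbrev T (n : ℕ) : CommRingCat.{u} :=
  widePushout (CommRingCat.of R) (fun _ : Fin (n + 1) => CommRingCat.of A) (fun _ => f R A)

noncomputable abbrev hd (n : ℕ) : CommRingCat.of R ⟶ T R A n := WidePushout.head _

noncomputable abbrev ι (n : ℕ) (j : Fin (n + 1)) : CommRingCat.of A ⟶ T R A n :=
  WidePushout.ι (fun _ : Fin (n + 1) => f R A) j

lemma f_ι (n : ℕ) (j : Fin (n + 1)) : f R A ≫ ι R A n j = hd R A n :=
  WidePushout.arrow_ι (fun _ : Fin (n + 1) => f R A) j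

noncomputable instance (n : ℕ) : Algebra R (T R A n) := (hd R A n).hom.toAlgebra

lemma algebraMap_T (n : ℕ) (r : R) : algebraMap R (T R A n) r = (hd R A n).hom r := rfl

/-- the coface maps -/
noncomputable abbrev δ (n : ℕ) (i : Fin (n + 2)) : T R A n ⟶ T R A (n + 1) := (N R A).δ i

lemma hd_δ (n : ℕ) (i : Fin (n + 2)) : hd R A n ≫ δ R A n i = hd R A (n + 1) :=
  WidePushout.head_desc _ _ _ _

lemma ι_δ (n : ℕ) (i : Fin (n + 2)) (j : Fin (n + 1)) :
    ι R A n j ≫ δ R A n i = ι R A (n + 1) (i.succAbove j) :=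
  WidePushout.ι_desc _ _ _ _ _


/-- coface maps as algebra homomorphisms -/
noncomputable def δA (n : ℕ) (i : Fin (n + 2)) : T R A n →ₐ[R] T R A (n + 1) where
  toRingHom := (δ R A n i).hom
  commutes' r := by
    change (hd R A n ≫ δ R A n i).hom r = (hd R A (n + 1)).hom r
    rw [hd_δ]

/-- the coprojections as algebra homomorphisms -/
noncomputable def ιA (n : ℕ) (j : Fin (n + 1)) : A →ₐ[R] T R A n where
  toRingHom := (ι R A n j).hom
  commutes' r := by
    change (f R A ≫ ι R A n j).hom r = (hd R A n).hom r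
    rw [f_ι]

lemma δA_ιA (n : ℕ) (i : Fin (n + 2)) (j : Fin (n + 1)) (a : A) :
    δA R A n i (ιA R A n j a) = ιA R A (n + 1) (i.succAbove j) a := by
  change (ι R A n j ≫ δ R A n i).hom a = (ι R A (n + 1) (i.succAbove j)).hom a
  rw [ι_δ]

/-- algebra homomorphisms out of a term of the conerve agree if they agree on the coprojections -/
lemma algHom_ext (n : ℕ) {B : Type u} [CommRing B] [Algebra R B] (g g' : T R A n →ₐ[R] B)
    (h : ∀ j a, g (ιA R A n j a) = g' (ιA R A n j a)) : g = g' := by
  have key : CommRingCat.ofHom g.toRingHom = CommRingCat.ofHom g'.toRingHom := by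
    apply WidePushout.hom_ext
    · intro j
      ext a
      exact h j a
    · ext r
      change g (algebraMap R (T R A n) r) = g' (algebraMap R (T R A n) r)
      rw [AlgHom.commutes, AlgHom.commutes]
  ext t
  exact congrArg (fun m => m.hom t) key

/-- the components of the extra codegeneracy -/
noncomputable def σcomp (n : ℕ) (j : Fin (n + 2)) : CommRingCat.of A ⟶ CommRingCat.of (A ⊗[R] T R A n) :=
  Fin.cases (CommRingCat.ofHom (Algebra.TensorProduct.includeLeft (R := R) (S := R)
      (A := A) (B := T R A n)).toRingHom)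
    (fun j' => CommRingCat.ofHom ((Algebra.TensorProduct.includeRight (R := R) (A := A)
      (B := T R A n)).comp (ιA R A n j')).toRingHom) j

lemma σ_compat (n : ℕ) (j : Fin (n + 2)) :
    f R A ≫ σcomp R A n j = CommRingCat.ofHom (algebraMap R (A ⊗[R] T R A n)) := by
  ext r
  refine Fin.cases ?_ (fun j' => ?_) j
  · exact AlgHom.commutes (Algebra.TensorProduct.includeLeft (R := R) (S := R)
      (A := A) (B := T R A n)) r
  · exact AlgHom.commutes ((Algebra.TensorProduct.includeRight (R := R) (A := A)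
      (B := T R A n)).comp (ιA R A n j')) r

/-- the extra codegeneracy as a morphism of commutative rings -/
noncomputable def σhom (n : ℕ) : T R A (n + 1) ⟶ CommRingCat.of (A ⊗[R] T R A n) :=
  WidePushout.desc (CommRingCat.ofHom (algebraMap R (A ⊗[R] T R A n))) (σcomp R A n)
    (σ_compat R A n)

/-- the extra codegeneracy `T (n+1) ⟶ A ⊗ T n` -/
noncomputable def σ (n : ℕ) : T R A (n + 1) →ₐ[R] A ⊗[R] T R A n where
  toRingHom := (σhom R A n).hom
  commutes' r := by
    have : hd R A (n + 1) ≫ σhom R A n = CommRingCat.ofHom (algebraMap R (A ⊗[R] T R A n)) :=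
      WidePushout.head_desc _ _ _ _
    exact congrArg (fun m => m.hom r) this

lemma σ_ι_zero (n : ℕ) (a : A) : σ R A n (ιA R A (n + 1) 0 a) = a ⊗ₜ[R] 1 := by
  have : ι R A (n + 1) 0 ≫ σhom R A n = σcomp R A n 0 := WidePushout.ι_desc _ _ _ _ _
  exact congrArg (fun m => m.hom a) this

lemma σ_ι_succ (n : ℕ) (j : Fin (n + 1)) (a : A) :
    σ R A n (ιA R A (n + 1) j.succ a) = 1 ⊗ₜ[R] ιA R A n j a := by
  have : ι R A (n + 1) j.succ ≫ σhom R A n = σcomp R A n j.succ := WidePushout.ι_desc _ _ _ _ _
  exact congrArg (fun m => m.hom a) this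


/-- base-changed cofaces -/
noncomputable def D (n : ℕ) (i : Fin (n + 2)) : A ⊗[R] T R A n →ₐ[R] A ⊗[R] T R A (n + 1) :=
  Algebra.TensorProduct.map (AlgHom.id R A) (δA R A n i)

/-- the contraction -/
noncomputable def h (n : ℕ) : A ⊗[R] T R A (n + 1) →ₐ[R] A ⊗[R] T R A n :=
  Algebra.TensorProduct.lift Algebra.TensorProduct.includeLeft (σ R A n)
    (fun _ _ => Commute.all _ _)

lemma σ_δ_zero (n : ℕ) :
    (σ R A n).comp (δA R A n 0) = Algebra.TensorProduct.includeRight := by
  apply algHom_ext
  intro j a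
  change σ R A n (δA R A n 0 (ιA R A n j a)) = 1 ⊗ₜ[R] ιA R A n j a
  rw [δA_ιA, Fin.succAbove_zero, σ_ι_succ]

lemma σ_δ_succ (m : ℕ) (i : Fin (m + 2)) :
    (σ R A (m + 1)).comp (δA R A (m + 1) i.succ) = (D R A m i).comp (σ R A m) := by
  apply algHom_ext
  intro j a
  change σ R A (m + 1) (δA R A (m + 1) i.succ (ιA R A (m + 1) j a)) =
    D R A m i (σ R A m (ιA R A (m + 1) j a))
  rw [δA_ιA]
  refine Fin.cases ?_ (fun j' => ?_) j
  · rw [Fin.succ_succAbove_zero, σ_ι_zero, σ_ι_zero]
    simp [D]
  · rw [Fin.succ_succAbove_succ, σ_ι_succ, σ_ι_succ]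
    simp [D, δA_ιA]

lemma h_D_zero (n : ℕ) : (h R A n).comp (D R A n 0) = AlgHom.id R _ := by
  apply Algebra.TensorProduct.ext'
  intro a t
  have h1 := DFunLike.congr_fun (σ_δ_zero R A n) t
  simp only [AlgHom.comp_apply] at h1
  simp [h, D, h1]

lemma h_D_succ (m : ℕ) (i : Fin (m + 2)) :
    (h R A (m + 1)).comp (D R A (m + 1) i.succ) = (D R A m i).comp (h R A m) := by
  apply Algebra.TensorProduct.ext'
  intro a t
  have h1 := DFunLike.congr_fun (σ_δ_succ R A m i) t
  simp only [AlgHom.comp_apply] at h1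
  simp [h]
  simp only [D] at h1 ⊢
  simp [h1]


/-- the Amitsur differential -/
noncomputable def dL (n : ℕ) : T R A n →ₗ[R] T R A (n + 1) :=
  ∑ i : Fin (n + 2), ((-1 : ℤ) ^ (i : ℕ)) • (δA R A n i).toLinearMap

/-- the base-changed Amitsur differential -/
noncomputable def DL (n : ℕ) : A ⊗[R] T R A n →ₗ[R] A ⊗[R] T R A (n + 1) :=
  ∑ i : Fin (n + 2), ((-1 : ℤ) ^ (i : ℕ)) • (D R A n i).toLinearMap

lemma lTensor_dL (n : ℕ) : (dL R A n).lTensor A = DL R A n := by
  apply TensorProduct.ext'
  intro a t
  simp only [dL, DL, LinearMap.lTensor_tmul, LinearMap.sum_apply, LinearMap.smul_apply,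
    TensorProduct.tmul_sum, AlgHom.toLinearMap_apply]
  refine Finset.sum_congr rfl fun i _ => ?_
  rw [TensorProduct.tmul_smul]
  simp [D]

lemma homotopy (m : ℕ) (x : A ⊗[R] T R A (m + 1)) :
    h R A (m + 1) (DL R A (m + 1) x) = x - DL R A m (h R A m x) := by
  simp only [DL, LinearMap.sum_apply, LinearMap.smul_apply, AlgHom.toLinearMap_apply, map_sum,
    map_zsmul]
  rw [Fin.sum_univ_succ]
  have h0 := DFunLike.congr_fun (h_D_zero R A (m + 1)) x
  simp only [AlgHom.comp_apply, AlgHom.id_apply] at h0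
  simp only [Fin.val_zero, pow_zero, one_smul, h0]
  rw [sub_eq_add_neg, ← Finset.sum_neg_distrib]
  congr 1
  refine Finset.sum_congr rfl fun i _ => ?_
  have hi := DFunLike.congr_fun (h_D_succ R A m i) x
  simp only [AlgHom.comp_apply] at hi
  rw [hi, Fin.val_succ, pow_succ, mul_neg_one, neg_smul]


/-- the forgetful functor to abelian groups -/
abbrev G : CommRingCat.{u} ⥤ AddCommGrpCat.{u} :=
  forget₂ CommRingCat RingCat ⋙ forget₂ RingCat AddCommGrpCat

/-- the Amitsur complex of the statement -/
noncomputable abbrev K : CochainComplex AddCommGrpCat.{u} ℕ :=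
  AlgebraicTopology.AlternatingCofaceMapComplex.obj (N R A ⋙ G)

/-- evaluation of morphisms at an element, as an additive map -/
def evalAt {X Y : AddCommGrpCat.{u}} (x : X) : (X ⟶ Y) →+ Y where
  toFun φ := φ.hom x
  map_zero' := rfl
  map_add' _ _ := rfl

lemma hom_sum_apply {X Y : AddCommGrpCat.{u}} {ι : Type*} (s : Finset ι) (φ : ι → (X ⟶ Y)) (x : X) :
    (∑ i ∈ s, φ i).hom x = ∑ i ∈ s, (φ i).hom x := map_sum (evalAt x) φ s

lemma hom_zsmul_apply {X Y : AddCommGrpCat.{u}} (c : ℤ) (φ : X ⟶ Y) (x : X) :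
    (c • φ).hom x = c • φ.hom x := map_zsmul (evalAt x) c φ

lemma K_d (n : ℕ) (t : T R A n) : ((K R A).d n (n + 1)).hom t = dL R A n t := by
  have hR : (K R A).d n (n + 1) =
      ∑ j : Fin (n + 2), (-1 : ℤ) ^ (j : ℕ) • CosimplicialObject.δ (N R A ⋙ G) j := by
    exact CochainComplex.of_d (V := AddCommGrpCat.{u}) _
      (AlgebraicTopology.AlternatingCofaceMapComplex.objD (N R A ⋙ G)) n
  rw [hR]
  simp only [dL, LinearMap.sum_apply, LinearMap.smul_apply, AlgHom.toLinearMap_apply]
  refine (hom_sum_apply _ _ _).trans ?_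
  refine Finset.sum_congr rfl fun j _ => ?_
  refine (hom_zsmul_apply _ _ _).trans ?_
  rfl


lemma dL_comp (m : ℕ) (t : T R A m) : dL R A (m + 1) (dL R A m t) = 0 := by
  rw [← K_d, ← K_d]
  have := (K R A).d_comp_d m (m + 1) (m + 2)
  exact congrArg (fun φ => φ.hom t) this

variable [Module.FaithfullyFlat R A]

lemma exact_dL (m : ℕ) : Function.Exact (dL R A m) (dL R A (m + 1)) := by
  apply Module.FaithfullyFlat.lTensor_reflects_exact R A
  rw [lTensor_dL, lTensor_dL]
  intro y
  constructor
  · intro hy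
    refine ⟨h R A m y, ?_⟩
    have := homotopy R A m y
    rw [hy, map_zero] at this
    exact (sub_eq_zero.1 this.symm).symm
  · rintro ⟨z, rfl⟩
    rw [← lTensor_dL, ← lTensor_dL, ← LinearMap.comp_apply, ← LinearMap.lTensor_comp]
    have : (dL R A (m + 1)).comp (dL R A m) = 0 := by
      ext t
      exact dL_comp R A m t
    rw [this, LinearMap.lTensor_zero, LinearMap.zero_apply]

theorem main (n : ℕ) (hn : 0 < n) : (K R A).ExactAt n := by
  obtain ⟨m, rfl⟩ : ∃ m, n = m + 1 := ⟨n - 1, by omega⟩
  rw [(K R A).exactAt_iff' m (m + 1) (m + 2) (by simp) (by simp), ShortComplex.ab_exact_iff]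
  intro x hx
  have hx' : dL R A (m + 1) x = 0 := (K_d R A (m + 1) x).symm.trans hx
  obtain ⟨y, hy⟩ := (exact_dL R A m x).1 hx'
  exact ⟨y, (K_d R A m y).trans hy⟩

end Groth.Agent.S15057

namespace Groth.Agent.S15057

/-- Let R → A be a faithfully flat homomorphism of commutative rings. The Amitsur complex A → A ⊗_R A →
A ⊗_R A ⊗_R A → ⋯, whose differential is the alternating sum of the maps inserting a unit in each
tensor slot, is realised here as the alternating coface complex (of underlying abelian groups) of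
the Čech conerve of R → A in the category of commutative rings, whose degree-n term is the
(n+1)-fold coproduct of A under R, i.e. the (n+1)-fold tensor power over R. Then this complex is
exact in every degree n ≥ 1. (Exactness at the start, namely that R → A is injective with image the
equaliser of the two maps A → A ⊗_R A, is the degree-0 statement and is not part of this row.) -/
theorem result (R A : Type u) [CommRing R] [CommRing A] [Algebra R A] [Module.FaithfullyFlat R A]
    (n : ℕ) (hn : 0 < n) :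
    (AlgebraicTopology.AlternatingCofaceMapComplex.obj
      ((Arrow.mk (CommRingCat.ofHom (algebraMap R A))).cechConerve ⋙ forget₂ CommRingCat RingCat ⋙
        forget₂ RingCat AddCommGrpCat)).ExactAt n := by
  exact main R A n hn

end Groth.Agent.S15057
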