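import Groth.Statements.S15058
import Mathlib

set_option autoImplicit false
universe u
open FmlGrp

namespace Groth.Agent.S15058

section
open PowerSeries

variable {R : Type u} [CommRing R]

theorem hasSubst_pair (a b : PowerSeries R) (ha : PowerSeries.constantCoeff a = 0)
    (hb : PowerSeries.constantCoeff b = 0) :
    MvPowerSeries.HasSubst (![a, b] : Fin 2 → PowerSeries R) := by
  apply MvPowerSeries.hasSubst_of_constantCoeff_zero
  intro s
  fin_cases s
  · exact ha
  · exact hb

theorem prod_pair (d : Fin 2 →₀ ℕ) (a : Fin 2 → PowerSeries R) :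
    (d.prod fun s e => (a s) ^ e) = a 0 ^ d 0 * a 1 ^ d 1 := by
  rw [Finsupp.prod_fintype _ _ (fun i => pow_zero _), Fin.prod_univ_two]

theorem pow_congr_mod (g g' : PowerSeries R) (n : ℕ) (hg : (X : PowerSeries R) ∣ g)
    (hg' : (X : PowerSeries R) ∣ g')
    (h : (X : PowerSeries R) ^ n ∣ g - g') (k : ℕ) (hk : 1 ≤ k) :
    (X : PowerSeries R) ^ (n + (k - 1)) ∣ g ^ k - g' ^ k := by
  have e : g ^ k - g' ^ k = (∑ i ∈ Finset.range k, g ^ i * g' ^ (k - 1 - i)) * (g - g') :=
    (geom_sum₂_mul g g' k).symm
  rw [e, pow_add, mul_comm (X ^ n)]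
  apply mul_dvd_mul _ h
  apply Finset.dvd_sum
  intro i hi
  have hi' : i < k := Finset.mem_range.mp hi
  have : (X : PowerSeries R) ^ (k - 1) = X ^ i * X ^ (k - 1 - i) := by
    rw [← pow_add]; congr 1; omega
  rw [this]
  exact mul_dvd_mul (pow_dvd_pow_of_dvd hg i) (pow_dvd_pow_of_dvd hg' _)

theorem K (T : MvPowerSeries (Fin 2) R) (hT : ∀ d : Fin 2 →₀ ℕ, d 0 + d 1 ≤ 1 → MvPowerSeries.coeff d T = 0)
    (g g' : PowerSeries R) (hg : PowerSeries.constantCoeff g = 0)
    (hg' : PowerSeries.constantCoeff g' = 0) (n : ℕ)
    (h : ∀ m < n, PowerSeries.coeff m g = PowerSeries.coeff m g') :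
    ∀ m ≤ n, PowerSeries.coeff m (MvPowerSeries.subst (![X, g] : Fin 2 → PowerSeries R) T)
      = PowerSeries.coeff m (MvPowerSeries.subst (![X, g'] : Fin 2 → PowerSeries R) T) := by
  intro m hm
  have hXg : (X : PowerSeries R) ∣ g := by
    rw [PowerSeries.X_dvd_iff]; exact hg
  have hXg' : (X : PowerSeries R) ∣ g' := by
    rw [PowerSeries.X_dvd_iff]; exact hg'
  have hdiff : (X : PowerSeries R) ^ n ∣ g - g' := by
    rw [PowerSeries.X_pow_dvd_iff]
    intro m hm
    rw [map_sub, h m hm, sub_self]
  show MvPowerSeries.coeff (Finsupp.single () m) _ = MvPowerSeries.coeff (Finsupp.single () m) _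
  rw [MvPowerSeries.coeff_subst (hasSubst_pair X g (by simp) hg),
    MvPowerSeries.coeff_subst (hasSubst_pair X g' (by simp) hg')]
  apply finsum_congr
  intro d
  by_cases hd : d 0 + d 1 ≤ 1
  · rw [hT d hd]; simp
  · congr 1
    rw [prod_pair, prod_pair]
    simp only [Matrix.cons_val_zero, Matrix.cons_val_one]
    show PowerSeries.coeff m (X ^ d 0 * g ^ d 1) = PowerSeries.coeff m (X ^ d 0 * g' ^ d 1)
    have key : (X : PowerSeries R) ^ (n + 1) ∣ X ^ d 0 * g ^ d 1 - X ^ d 0 * g' ^ d 1 := by
      rcases Nat.eq_zero_or_pos (d 1) with h1 | h1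
      · rw [h1]; simp
      · rw [← mul_sub]
        have := pow_congr_mod g g' n hXg hXg' hdiff (d 1) h1
        have h2 : (X : PowerSeries R) ^ (d 0 + (n + (d 1 - 1))) ∣ X ^ d 0 * (g ^ d 1 - g' ^ d 1) := by
          rw [pow_add]; exact mul_dvd_mul_left _ this
        exact (pow_dvd_pow _ (by omega)).trans h2
    rw [PowerSeries.X_pow_dvd_iff] at key
    have := key m (by omega)
    rw [map_sub, sub_eq_zero] at this
    exact this

theorem small_cases (d : Fin 2 →₀ ℕ) (hd : d 0 + d 1 ≤ 1) :
    d = 0 ∨ d = Finsupp.single 0 1 ∨ d = Finsupp.single 1 1 := by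
  rcases Nat.eq_zero_or_pos (d 0) with h0 | h0
  · rcases Nat.eq_zero_or_pos (d 1) with h1 | h1
    · left; ext i; fin_cases i <;> simp [h0, h1]
    · right; right; ext i
      fin_cases i
      · simp [h0]
      · simp; omega
  · right; left; ext i
    fin_cases i
    · simp; omega
    · simp; omega

/-- the tail `T = F - X₀ - X₁` -/
noncomputable def tail (F : FormalGroup R) : MvPowerSeries (Fin 2) R :=
  F.toPowerSeries - MvPowerSeries.X 0 - MvPowerSeries.X 1

theorem tail_small (F : FormalGroup R) (d : Fin 2 →₀ ℕ) (hd : d 0 + d 1 ≤ 1) :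
    MvPowerSeries.coeff d (tail F) = 0 := by
  classical
  unfold tail
  rcases small_cases d hd with rfl | rfl | rfl
  · have := F.zero_constantCoeff
    simp [MvPowerSeries.coeff_X, this]
  · have := F.lin_coeff_X
    rw [map_sub, map_sub, this, MvPowerSeries.coeff_X, MvPowerSeries.coeff_X]
    have hne : (Finsupp.single (0 : Fin 2) 1 : Fin 2 →₀ ℕ) ≠ Finsupp.single 1 1 := by
      intro h
      have := congrArg (fun f => f 0) h
      simp at this
    simp [hne]
  · have := F.lin_coeff_Y
    rw [map_sub, map_sub, this, MvPowerSeries.coeff_X, MvPowerSeries.coeff_X]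
    have hne : (Finsupp.single (1 : Fin 2) 1 : Fin 2 →₀ ℕ) ≠ Finsupp.single 0 1 := by
      intro h
      have := congrArg (fun f => f 0) h
      simp at this
    simp [hne]

theorem phi_eq (F : FormalGroup R) (g : PowerSeries R) (hg : PowerSeries.constantCoeff g = 0) :
    MvPowerSeries.subst (![X, g] : Fin 2 → PowerSeries R) F.toPowerSeries =
      X + g + MvPowerSeries.subst (![X, g] : Fin 2 → PowerSeries R) (tail F) := by
  have hs := hasSubst_pair X g (by simp) hg
  have : F.toPowerSeries = MvPowerSeries.X 0 + MvPowerSeries.X 1 + tail F := by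
    unfold tail; ring
  conv_lhs => rw [this]
  rw [← MvPowerSeries.coe_substAlgHom hs, map_add, map_add]
  simp only [MvPowerSeries.coe_substAlgHom]
  rw [MvPowerSeries.subst_X hs, MvPowerSeries.subst_X hs]
  rfl

theorem K2 (F : FormalGroup R) (g g' : PowerSeries R) (hg : PowerSeries.constantCoeff g = 0)
    (hg' : PowerSeries.constantCoeff g' = 0) (n : ℕ)
    (h : ∀ m < n, PowerSeries.coeff m g = PowerSeries.coeff m g') :
    ∀ m ≤ n, PowerSeries.coeff m (MvPowerSeries.subst (![X, g] : Fin 2 → PowerSeries R) F.toPowerSeries)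
      - PowerSeries.coeff m (MvPowerSeries.subst (![X, g'] : Fin 2 → PowerSeries R) F.toPowerSeries)
      = PowerSeries.coeff m g - PowerSeries.coeff m g' := by
  intro m hm
  rw [phi_eq F g hg, phi_eq F g' hg', map_add, map_add, map_add, map_add,
    K (tail F) (tail_small F) g g' hg hg' n h m hm]
  ring

/-- `Φ g = F(X, g)` -/
noncomputable def Phi (F : FormalGroup R) (g : PowerSeries R) : PowerSeries R :=
  MvPowerSeries.subst (![X, g] : Fin 2 → PowerSeries R) F.toPowerSeries

noncomputable def G (F : FormalGroup R) : ℕ → PowerSeries R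
  | 0 => 0
  | n + 1 => G F n - PowerSeries.C (PowerSeries.coeff (n + 1) (Phi F (G F n))) * X ^ (n + 1)

theorem G_const (F : FormalGroup R) (n : ℕ) : PowerSeries.constantCoeff (G F n) = 0 := by
  induction n with
  | zero => simp [G]
  | succ n ih =>
    rw [G, map_sub, ih, map_mul, map_pow, PowerSeries.constantCoeff_X]
    simp

theorem G_step (F : FormalGroup R) (n m : ℕ) (hm : m ≤ n) :
    PowerSeries.coeff m (G F (n + 1)) = PowerSeries.coeff m (G F n) := by
  rw [G, map_sub, PowerSeries.coeff_C_mul, PowerSeries.coeff_X_pow]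
  have : m ≠ n + 1 := by omega
  simp [this]

theorem G_stable (F : FormalGroup R) (m n : ℕ) (hmn : m ≤ n) :
    PowerSeries.coeff m (G F n) = PowerSeries.coeff m (G F m) := by
  induction n with
  | zero =>
    have : m = 0 := by omega
    rw [this]
  | succ n ih =>
    rcases Nat.lt_or_ge m (n + 1) with h | h
    · rw [G_step F n m (by omega), ih (by omega)]
    · have : m = n + 1 := by omega
      rw [this]

theorem Phi_zero (F : FormalGroup R) : Phi F 0 = X := by
  unfold Phi
  exact F.add_zero (σ := Unit) (f := (X : PowerSeries R)) (PowerSeries.HasSubst.X')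

theorem G_inv (F : FormalGroup R) (n : ℕ) : ∀ m ≤ n, PowerSeries.coeff m (Phi F (G F n)) = 0 := by
  induction n with
  | zero =>
    intro m hm
    have : m = 0 := by omega
    subst this
    simp [G, Phi_zero]
  | succ n ih =>
    intro m hm
    have key := K2 F (G F (n + 1)) (G F n) (G_const F _) (G_const F _) (n + 1)
      (fun m hm => G_step F n m (by omega)) m hm
    rcases Nat.lt_or_ge m (n + 1) with h | h
    · rw [G_step F n m (by omega), sub_self, sub_eq_zero] at key
      unfold Phi
      rw [key]
      exact ih m (by omega)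
    · have hmn : m = n + 1 := by omega
      subst hmn
      have e : PowerSeries.coeff (n + 1) (G F (n + 1)) - PowerSeries.coeff (n + 1) (G F n)
          = - PowerSeries.coeff (n + 1) (Phi F (G F n)) := by
        rw [G, map_sub, PowerSeries.coeff_C_mul, PowerSeries.coeff_X_pow]
        simp
      rw [e] at key
      unfold Phi at key ⊢
      linear_combination key

/-- the limit -/
noncomputable def gLim (F : FormalGroup R) : PowerSeries R :=
  PowerSeries.mk fun m => PowerSeries.coeff m (G F m)

theorem gLim_const (F : FormalGroup R) : PowerSeries.constantCoeff (gLim F) = 0 := by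
  rw [← PowerSeries.coeff_zero_eq_constantCoeff_apply, gLim, PowerSeries.coeff_mk,
    PowerSeries.coeff_zero_eq_constantCoeff_apply, G_const]

theorem Phi_gLim (F : FormalGroup R) : Phi F (gLim F) = 0 := by
  ext n
  have key := K2 F (gLim F) (G F n) (gLim_const F) (G_const F _) (n + 1)
    (fun m hm => by rw [gLim, PowerSeries.coeff_mk, G_stable F m n (by omega)]) n (by omega)
  have e : PowerSeries.coeff n (gLim F) = PowerSeries.coeff n (G F n) := by
    rw [gLim, PowerSeries.coeff_mk]
  rw [e, sub_self, sub_eq_zero] at key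
  unfold Phi
  rw [key]
  have := G_inv F n n le_rfl
  unfold Phi at this
  rw [this]; simp

theorem subst_pair (F : FormalGroup R) (g y : PowerSeries R) (hg : PowerSeries.constantCoeff g = 0)
    (hy : PowerSeries.constantCoeff y = 0) :
    PowerSeries.subst y (MvPowerSeries.subst (![X, g] : Fin 2 → PowerSeries R) F.toPowerSeries) =
      MvPowerSeries.subst (![y, g.subst y] : Fin 2 → PowerSeries R) F.toPowerSeries := by
  have hy' : PowerSeries.HasSubst y := PowerSeries.HasSubst.of_constantCoeff_zero' hy
  rw [PowerSeries.subst_def, MvPowerSeries.subst_comp_subst_apply (hasSubst_pair X g (by simp) hg) hy'.const]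
  congr 1
  funext s
  fin_cases s
  · show PowerSeries.subst y (X : PowerSeries R) = y
    exact PowerSeries.subst_X hy'
  · rfl

theorem main (F : FormalGroup R) :
    ∃ g : PowerSeries R, g.constantCoeff = 0 ∧
      F.toPowerSeries.subst ![PowerSeries.X, g] = (0 : PowerSeries R) ∧
      F.toPowerSeries.subst ![g, PowerSeries.X] = (0 : PowerSeries R) ∧
      ∀ k : PowerSeries R, k.constantCoeff = 0 →
        (F.toPowerSeries.subst ![PowerSeries.X, k] = (0 : PowerSeries R) ∨
          F.toPowerSeries.subst ![k, PowerSeries.X] = (0 : PowerSeries R)) → k = g := by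
  obtain ⟨g, hgdef⟩ : ∃ g, g = gLim F := ⟨_, rfl⟩
  have hg : PowerSeries.constantCoeff g = 0 := by rw [hgdef]; exact gLim_const F
  have h1 : F.toPowerSeries.subst ![PowerSeries.X, g] = (0 : PowerSeries R) := by
    rw [hgdef]; exact Phi_gLim F
  have hgs : PowerSeries.HasSubst g := PowerSeries.HasSubst.of_constantCoeff_zero' hg
  have hgg : PowerSeries.constantCoeff (g.subst g) = 0 :=
    PowerSeries.constantCoeff_subst_eq_zero hg g hg
  have h2 : F.toPowerSeries.subst ![g, g.subst g] = (0 : PowerSeries R) := by
    rw [← subst_pair F g g hg hg, h1]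
    rw [← PowerSeries.coe_substAlgHom hgs, map_zero]
  -- points
  let px : F.Point Unit := ⟨(X : PowerSeries R), PowerSeries.HasSubst.X'⟩
  let pg : F.Point Unit := ⟨g, hgs⟩
  let ph : F.Point Unit := ⟨g.subst g, PowerSeries.HasSubst.of_constantCoeff_zero' hgg⟩
  have a1 : px + pg = 0 := Subtype.ext h1
  have a2 : pg + ph = 0 := Subtype.ext h2
  have a3 : px = ph := left_neg_eq_right_neg a1 a2
  have a4 : pg + px = 0 := by rw [a3]; exact a2
  refine ⟨g, hg, h1, congrArg Subtype.val a4, ?_⟩
  intro k hk hor
  let pk : F.Point Unit := ⟨k, PowerSeries.HasSubst.of_constantCoeff_zero' hk⟩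
  rcases hor with h | h
  · have b1 : px + pk = 0 := Subtype.ext h
    have : pg = pk := left_neg_eq_right_neg a4 b1
    exact (congrArg Subtype.val this).symm
  · have b1 : pk + px = 0 := Subtype.ext h
    have : pk = pg := left_neg_eq_right_neg b1 a1
    exact congrArg Subtype.val this


end


/-- Let R be a commutative ring and F(X,Y) ∈ R[[X,Y]] a one-dimensional formal group law (zero constant
term, linear part X + Y, associative). Then there is a power series g(X) ∈ R[[X]] with zero constant
term which is a two-sided inverse for F, F(X, g(X)) = 0 = F(g(X), X), and it is unique: every power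
series with zero constant term which is a right inverse or a left inverse equals g. (The published
text proves this for formal group laws of any finite dimension with coefficients in a complete
Noetherian local ring; the argument is a formal degree-by-degree construction, and this row states
the one-dimensional case over an arbitrary commutative ring.) -/
theorem result (R : Type u) [CommRing R] (F : FormalGroup R) :
    ∃ g : PowerSeries R, g.constantCoeff = 0 ∧
      F.toPowerSeries.subst ![PowerSeries.X, g] = (0 : PowerSeries R) ∧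
      F.toPowerSeries.subst ![g, PowerSeries.X] = (0 : PowerSeries R) ∧
      ∀ k : PowerSeries R, k.constantCoeff = 0 →
        (F.toPowerSeries.subst ![PowerSeries.X, k] = (0 : PowerSeries R) ∨
          F.toPowerSeries.subst ![k, PowerSeries.X] = (0 : PowerSeries R)) → k = g := by
  classical
  exact main F

end Groth.Agent.S15058
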