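import Groth.Statements.S15062
import Groth.Agent.Lib.Helper2.Hopf.UnitUniversal


set_option autoImplicit false
universe u
open scoped TensorProduct
open Hopf

namespace Groth.Agent.S15062

/-- Let R be a henselian Noetherian local ring and A a commutative Hopf algebra over R which is finite
and flat as an R-module (a finite flat R-group G = Spec A, not assumed commutative); let e ∈ A be an
idempotent with ε(e) = 1 such that A/(1 − e) is a local ring, so that G⁰ = Spec A/(1 − e) is the
connected component of the unit section, and let B ⊆ A be the subalgebra of functions invariant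
under right translation by G⁰: the equaliser of a ↦ (id ⊗ π)(Δ a) and a ↦ a ⊗ 1 into A ⊗_R A/(1 − e)
(so Spec B = G^ét). Then: (2) for every commutative Hopf algebra C over R which is finite étale over
R (a finite étale R-group H) and every bialgebra homomorphism φ : C → A (a homomorphism G → H), the
image of φ lies in B — the homomorphism factors (necessarily uniquely, A being faithfully flat over
B) through G → G^ét; (3) for every commutative Hopf algebra D over R which is finite and flat over R
and a local ring (a connected finite flat R-group H) and every bialgebra homomorphism ψ : A → D (a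
homomorphism H → G), ψ(e) = 1, i.e. ψ kills the ideal (1 − e) and the homomorphism factors
(uniquely) through G⁰ → G. -/
theorem result (R : Type u) [CommRing R] [HenselianLocalRing R] [IsNoetherianRing R]
    (A : Type u) [CommRing A] [HopfAlgebra R A] [Module.Finite R A] [Module.Flat R A]
    (e : A) (he : IsIdempotentElem e) (hε : Bialgebra.counitAlgHom R A e = 1)
    [IsLocalRing (A ⧸ Ideal.span ({1 - e} : Set A))] :
    (∀ (C : Type u) [CommRing C] [HopfAlgebra R C] [Module.Finite R C] [Algebra.Etale R C] (φ : C →ₐc[R] A) (c : C),
        φ c ∈ (AlgHom.equalizer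
          ((Algebra.TensorProduct.map (AlgHom.id R A) (Ideal.Quotient.mkₐ R (Ideal.span ({1 - e} : Set A)))).comp
            (Bialgebra.comulAlgHom R A))
          (Algebra.TensorProduct.includeLeft : A →ₐ[R] A ⊗[R] (A ⧸ Ideal.span ({1 - e} : Set A))))) ∧
      ∀ (D : Type u) [CommRing D] [HopfAlgebra R D] [Module.Finite R D] [Module.Flat R D] [IsLocalRing D]
        (ψ : A →ₐc[R] D), ψ e = 1 := by
  classical
  refine ⟨?_, ?_⟩
  · intro C _ _ _ _ φ c
    rw [AlgHom.mem_equalizer]
    have hχ := Groth.Agent.Helper2.HopfLib.etale_hom_trivial_on_unitComponent (R := R) (A := A)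
      (e := e) hε φ
    have hχ' : ∀ x : C, Ideal.Quotient.mk (Ideal.span ({1 - e} : Set A)) (φ x) =
        algebraMap R (A ⧸ Ideal.span ({1 - e} : Set A)) (Coalgebra.counit (R := R) x) := by
      intro x
      have := congrArg (fun F : C →ₐ[R] (A ⧸ Ideal.span ({1 - e} : Set A)) => F x) hχ
      simpa [Algebra.ofId_apply] using this
    rw [AlgHom.comp_apply, Bialgebra.comulAlgHom_apply,
      ← CoalgHomClass.map_comp_comul_apply φ c, ← (Coalgebra.Repr.arbitrary R c).eq]
    simp only [map_sum, TensorProduct.map_tmul, Algebra.TensorProduct.map_tmul, AlgHom.id_apply,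
      Ideal.Quotient.mkₐ_eq_mk]
    have h1 : ∀ i ∈ (Coalgebra.Repr.arbitrary R c).index,
        (φ ((Coalgebra.Repr.arbitrary R c).left i) ⊗ₜ[R]
          Ideal.Quotient.mk (Ideal.span ({1 - e} : Set A))
            (φ ((Coalgebra.Repr.arbitrary R c).right i)) : A ⊗[R] (A ⧸ Ideal.span ({1 - e} : Set A))) =
        (Algebra.TensorProduct.includeLeft : A →ₐ[R] A ⊗[R] (A ⧸ Ideal.span ({1 - e} : Set A)))
          (φ (Coalgebra.counit (R := R) ((Coalgebra.Repr.arbitrary R c).right i) •
            (Coalgebra.Repr.arbitrary R c).left i)) := by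
      intro i _
      rw [hχ', Algebra.algebraMap_eq_smul_one, TensorProduct.tmul_smul, map_smul, map_smul,
        Algebra.TensorProduct.includeLeft_apply]
    refine (Finset.sum_congr rfl h1).trans ?_
    rw [← map_sum, ← map_sum]
    congr 2
    have := congrArg (TensorProduct.lift ((LinearMap.lsmul R C).flip))
      (Coalgebra.sum_tmul_counit_eq (R := R) (Coalgebra.Repr.arbitrary R c))
    simpa only [map_sum, TensorProduct.lift.tmul, LinearMap.flip_apply, LinearMap.lsmul_apply,
      one_smul] using this
  · intro D _ _ _ _ _ ψ
    refine Groth.Agent.Helper2.HopfLib.idem_eq_one_of_aug (Bialgebra.counitAlgHom R D) (ψ e)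
      (he.map ψ) ?_
    have h2 : Bialgebra.counitAlgHom R D (ψ e) = Bialgebra.counitAlgHom R A e :=
      CoalgHomClass.counit_comp_apply ψ e
    rw [h2, hε]

end Groth.Agent.S15062
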