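import Groth.Statements.S15067
import Groth.Agent.Lib.Helper2.Hopf.KernelTorsor


set_option autoImplicit false
universe u
open scoped TensorProduct
open Hopf

namespace Groth.Agent.S15067

/-- Let R be a henselian Noetherian local ring, A and A'' commutative Hopf algebras over R which are
finite and flat as R-modules (finite flat R-groups G = Spec A, G'' = Spec A''), and A'' → A an
R-algebra homomorphism compatible with the comultiplications and counits (a homomorphism π : G →
G'') making A a faithfully flat A''-module (π faithfully flat). Let J ⊆ A be the ideal generated by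
the image of the augmentation ideal of A'', so that G' = Spec A/J is the kernel of π and 1 → G' → G
→ G'' → 1 is an exact sequence of finite flat R-groups. Then: (2) if A'' and A/J are local rings
(G'' and G' connected), A is a local ring (G is connected); (3) if A'' and A/J are étale over R (G''
and G' finite étale), A is étale over R (G is finite étale). -/
theorem result (R : Type u) [CommRing R] [HenselianLocalRing R] [IsNoetherianRing R]
    (A A'' : Type u) [CommRing A] [HopfAlgebra R A] [Module.Finite R A] [Module.Flat R A]
    [CommRing A''] [HopfAlgebra R A''] [Module.Finite R A''] [Module.Flat R A'']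
    [Algebra A'' A] [IsScalarTower R A'' A] [Module.FaithfullyFlat A'' A]
    (hΔ : (Bialgebra.comulAlgHom R A).comp (IsScalarTower.toAlgHom R A'' A) =
      (Algebra.TensorProduct.map (IsScalarTower.toAlgHom R A'' A) (IsScalarTower.toAlgHom R A'' A)).comp
        (Bialgebra.comulAlgHom R A''))
    (hε : (Bialgebra.counitAlgHom R A).comp (IsScalarTower.toAlgHom R A'' A) = Bialgebra.counitAlgHom R A'') :
    ((IsLocalRing A'' ∧
        IsLocalRing (A ⧸ (RingHom.ker (Bialgebra.counitAlgHom R A'')).map (algebraMap A'' A))) → IsLocalRing A) ∧
      ((Algebra.Etale R A'' ∧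
        Algebra.Etale R (A ⧸ (RingHom.ker (Bialgebra.counitAlgHom R A'')).map (algebraMap A'' A))) →
        Algebra.Etale R A) := by
  constructor
  · rintro ⟨h1, h2⟩
    haveI := h1
    haveI := h2
    haveI : Module.Finite A'' A := Module.Finite.of_restrictScalars_finite R A'' A
    haveI : Algebra.IsIntegral A'' A := inferInstance
    refine Groth.Agent.Helper2.HopfLib.isLocalRing_of_quotient_local (A'' := A'') (A := A)
      ((RingHom.ker (Bialgebra.counitAlgHom R A'')).map (algebraMap A'' A)) ?_
    apply Ideal.map_mono
    apply IsLocalRing.le_maximalIdeal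
    intro h
    have h3 : (1 : A'') ∈ RingHom.ker (Bialgebra.counitAlgHom R A'') := by rw [h]; trivial
    rw [RingHom.mem_ker, map_one] at h3
    exact one_ne_zero h3
  · rintro ⟨h1, h2⟩
    haveI := h1
    haveI : Algebra.Etale R (A ⧸ Groth.Agent.Helper2.HopfLib.kerIdeal R A A'') := h2
    exact Groth.Agent.Helper2.HopfLib.etale_of_etale_kernel_quotient hΔ hε

end Groth.Agent.S15067
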