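import Groth.Statements.S15078
import Mathlib
-- import your own Groth.Agent.* helpers here

set_option autoImplicit false
universe u v
open MovLem

namespace Groth.Agent.S15078

namespace Aux
open Polynomial

section prodlem
variable {R : Type*} [CommRing R]

lemma prod_deg {ι : Type*} [DecidableEq ι] (s : Finset ι) (f : ι → R[X]) (a : ι → ℕ)
    (h : ∀ i ∈ s, (f i).natDegree ≤ a i) :
    (∏ i ∈ s, f i).natDegree ≤ ∑ i ∈ s, a i ∧
      (∏ i ∈ s, f i).coeff (∑ i ∈ s, a i) = ∏ i ∈ s, (f i).coeff (a i) := by
  induction s using Finset.induction_on with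
  | empty => simp
  | insert i s hi ih =>
    have h1 := ih (fun j hj => h j (Finset.mem_insert_of_mem hj))
    have h0 := h i (Finset.mem_insert_self i s)
    rw [Finset.prod_insert hi, Finset.sum_insert hi, Finset.prod_insert hi]
    exact ⟨natDegree_mul_le_of_le h0 h1.1, by rw [coeff_mul_add_eq_of_natDegree_le h0 h1.1, h1.2]⟩

end prodlem

section main
variable {k : Type u} [Field k] {r : ℕ} {K : Type v} [Field K] [Algebra k K]

/-- the substitution -/
noncomputable def L (g : Fin r → K) (N : ℕ) (i : Fin r) : Polynomial (MvPolynomial (Fin r) K) :=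
  Polynomial.C (MvPolynomial.X i) + Polynomial.C (MvPolynomial.C (g i)) * Polynomial.X ^ N

noncomputable def Φ (g : Fin r → K) (N : ℕ) :
    MvPolynomial (Fin r) k →ₐ[k] Polynomial (MvPolynomial (Fin r) K) :=
  MvPolynomial.aeval (L g N)

lemma L_deg (g : Fin r → K) (N : ℕ) (i : Fin r) : (L g N i).natDegree ≤ N := by
  unfold L
  refine (natDegree_add_le _ _).trans (max_le ?_ ?_)
  · simp
  · exact (natDegree_C_mul_le _ _).trans (by simp)

lemma L_coeff (g : Fin r → K) (N : ℕ) (hN : 0 < N) (i : Fin r) :
    (L g N i).coeff N = MvPolynomial.C (g i) := by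
  unfold L
  rw [coeff_add, coeff_C, if_neg hN.ne', zero_add, coeff_C_mul, coeff_X_pow, if_pos rfl, mul_one]

lemma Φ_monomial (g : Fin r → K) (N : ℕ) (hN : 0 < N) (α : Fin r →₀ ℕ) (c : k) :
    (Φ (k := k) g N (MvPolynomial.monomial α c)).natDegree ≤ N * α.degree ∧
    (Φ (k := k) g N (MvPolynomial.monomial α c)).coeff (N * α.degree) =
      MvPolynomial.C (MvPolynomial.aeval g (MvPolynomial.monomial α c)) := by
  have h1 : Φ (k := k) g N (MvPolynomial.monomial α c) =
      Polynomial.C (MvPolynomial.C (algebraMap k K c)) * ∏ i, (L g N i) ^ (α i) := by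
    unfold Φ
    rw [MvPolynomial.aeval_monomial, Finsupp.prod_fintype _ _ (fun i => pow_zero _)]
    congr 1
  have h2 := prod_deg (Finset.univ : Finset (Fin r)) (fun i => (L g N i) ^ (α i))
    (fun i => α i * N) (fun i _ => natDegree_pow_le_of_le _ (L_deg g N i))
  have h3 : ∑ i, α i * N = N * α.degree := by
    rw [Finsupp.degree_eq_sum, Finset.mul_sum]
    exact Finset.sum_congr rfl (fun i _ => mul_comm _ _)
  rw [h3] at h2
  rw [h1]
  refine ⟨(natDegree_C_mul_le _ _).trans h2.1, ?_⟩
  rw [coeff_C_mul, h2.2, MvPolynomial.aeval_monomial,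
    Finsupp.prod_fintype _ _ (fun i => pow_zero _), map_mul, map_prod]
  congr 1
  refine Finset.prod_congr rfl (fun i _ => ?_)
  rw [coeff_pow_of_natDegree_le (L_deg g N i), L_coeff g N hN, map_pow]

lemma Φ_deg (g : Fin r → K) (N : ℕ) (hN : 0 < N) (p : MvPolynomial (Fin r) k) (e : ℕ)
    (he : p.totalDegree ≤ e) :
    (Φ (k := k) g N p).natDegree ≤ N * e ∧
    (Φ (k := k) g N p).coeff (N * e) =
      MvPolynomial.C (MvPolynomial.aeval g (MvPolynomial.homogeneousComponent e p)) := by
  have hp : Φ (k := k) g N p =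
      ∑ α ∈ p.support, Φ (k := k) g N (MvPolynomial.monomial α (MvPolynomial.coeff α p)) := by
    conv_lhs => rw [p.as_sum]
    rw [map_sum]
  have hdeg : ∀ α ∈ p.support, α.degree ≤ e := by
    intro α hα
    refine le_trans ?_ he
    have := MvPolynomial.le_totalDegree hα
    rw [Finsupp.degree_eq_sum]
    rwa [Finsupp.sum_fintype _ _ (fun _ => rfl)] at this
  rw [hp]
  constructor
  · refine natDegree_sum_le_of_forall_le _ _ (fun α hα => ?_)
    exact (Φ_monomial g N hN α _).1.trans (Nat.mul_le_mul_left _ (hdeg α hα))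
  · rw [finset_sum_coeff, MvPolynomial.homogeneousComponent_apply, map_sum, map_sum,
      Finset.sum_filter]
    refine Finset.sum_congr rfl (fun α hα => ?_)
    split_ifs with h
    · rw [← h]; exact (Φ_monomial g N hN α _).2
    · apply coeff_eq_zero_of_natDegree_lt
      refine lt_of_le_of_lt (Φ_monomial g N hN α _).1 ?_
      exact Nat.mul_lt_mul_of_pos_left (lt_of_le_of_ne (hdeg α hα) h) hN

end main

lemma homog_top_ne_zero {k : Type u} [Field k] {r : ℕ} (p : MvPolynomial (Fin r) k) (hp : p ≠ 0) :
    MvPolynomial.homogeneousComponent p.totalDegree p ≠ 0 := by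
  have hne : p.support.Nonempty := by
    rwa [Finset.nonempty_iff_ne_empty, Ne, MvPolynomial.support_eq_empty]
  obtain ⟨α, hα, hd⟩ := Finset.exists_mem_eq_sup p.support hne (fun s => s.sum fun _ e => e)
  intro h0
  have h1 := MvPolynomial.coeff_homogeneousComponent p.totalDegree p α
  rw [h0, MvPolynomial.coeff_zero] at h1
  have h2 : α.degree = p.totalDegree := by
    rw [Finsupp.degree_eq_sum, MvPolynomial.totalDegree, hd,
      Finsupp.sum_fintype _ _ (fun _ => rfl)]
  rw [if_pos h2] at h1
  exact (MvPolynomial.mem_support_iff.mp hα) h1.symm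

theorem main {k : Type u} [Field k] (r : ℕ)
    (f : Polynomial (MvPolynomial (Fin r) k)) (hf : f ≠ 0) :
    ∃ h : MvPolynomial (Fin r) k, h ≠ 0 ∧ ∃ s₀ : ℕ, ∀ N : ℕ, s₀ ≤ N →
      ∀ (K : Type v) [Field K] [Algebra k K] (g : Fin r → K), MvPolynomial.aeval g h ≠ 0 →
        ∃ c : K, c ≠ 0 ∧
          (Polynomial.eval₂ (Φ (k := k) g N).toRingHom Polynomial.X f).leadingCoeff
            = MvPolynomial.C c := by
  classical
  have hT : f.support.Nonempty := by
    rwa [Finset.nonempty_iff_ne_empty, Ne, Polynomial.support_eq_empty]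
  obtain ⟨j1, hj1, hd⟩ := Finset.exists_mem_eq_sup f.support hT
    (fun j => (f.coeff j).totalDegree)
  set d := f.support.sup (fun j => (f.coeff j).totalDegree) with hddef
  have hT' : (f.support.filter (fun j => (f.coeff j).totalDegree = d)).Nonempty :=
    ⟨j1, Finset.mem_filter.mpr ⟨hj1, hd.symm⟩⟩
  set j0 := (f.support.filter (fun j => (f.coeff j).totalDegree = d)).max' hT' with hj0def
  have hj0mem := Finset.max'_mem _ hT'
  rw [← hj0def, Finset.mem_filter] at hj0mem
  have hj0max : ∀ j ∈ f.support, (f.coeff j).totalDegree = d → j ≤ j0 := fun j hj hjd =>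
    Finset.le_max' _ j (Finset.mem_filter.mpr ⟨hj, hjd⟩)
  have hdmax : ∀ j ∈ f.support, (f.coeff j).totalDegree ≤ d := fun j hj =>
    Finset.le_sup (f := fun j => (f.coeff j).totalDegree) hj
  refine ⟨MvPolynomial.homogeneousComponent d (f.coeff j0), ?_, f.natDegree + 1, ?_⟩
  · rw [← hj0mem.2]
    exact homog_top_ne_zero _ (Polynomial.mem_support_iff.mp hj0mem.1)
  intro N hN K _ _ g hne
  refine ⟨_, hne, ?_⟩
  have hN0 : 0 < N := by omega
  set P := Polynomial.eval₂ (Φ (k := k) g N).toRingHom Polynomial.X f with hP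
  have key : ∀ n, N * d + j0 ≤ n → P.coeff n = if n = N * d + j0 then
      MvPolynomial.C (MvPolynomial.aeval g (MvPolynomial.homogeneousComponent d (f.coeff j0)))
      else 0 := by
    intro n hn
    rw [hP, Polynomial.eval₂_eq_sum, Polynomial.sum, finset_sum_coeff]
    rw [Finset.sum_eq_single j0]
    · rw [coeff_mul_X_pow', if_pos (by omega)]
      have h1 := Φ_deg (k := k) g N hN0 (f.coeff j0) d hj0mem.2.le
      split_ifs with hn'
      · rw [hn', Nat.add_sub_cancel]; exact h1.2
      · apply coeff_eq_zero_of_natDegree_lt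
        refine lt_of_le_of_lt h1.1 ?_
        omega
    · intro j hj hjne
      rw [coeff_mul_X_pow']
      split_ifs with hjn
      · apply coeff_eq_zero_of_natDegree_lt
        have h1 := (Φ_deg (k := k) g N hN0 (f.coeff j) _ le_rfl).1
        refine lt_of_le_of_lt h1 ?_
        have hjle : j ≤ f.natDegree := Polynomial.le_natDegree_of_mem_supp _ hj
        rcases lt_or_eq_of_le (hdmax j hj) with hlt | heq
        · have : N * (f.coeff j).totalDegree + N ≤ N * d := by
            calc N * (f.coeff j).totalDegree + N = N * ((f.coeff j).totalDegree + 1) := by ring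
              _ ≤ N * d := Nat.mul_le_mul_left _ hlt
          omega
        · have := hj0max j hj heq
          rw [heq]
          omega
      · rfl
    · intro h; exact absurd hj0mem.1 h
  have hdeg : P.natDegree = N * d + j0 := by
    apply natDegree_eq_of_le_of_coeff_ne_zero
    · rw [natDegree_le_iff_coeff_eq_zero]
      intro n hn
      rw [key n hn.le, if_neg hn.ne']
    · rw [key _ le_rfl, if_pos rfl]
      intro h0
      exact hne (MvPolynomial.C_injective _ _ (by rw [h0, map_zero]))
  rw [Polynomial.leadingCoeff, hdeg, key _ le_rfl, if_pos rfl]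

end Aux

/-- Let k be an infinite perfect field, r, m ≥ 1, and let f be a nonzero polynomial in the variable t
with coefficients in the polynomial ring k[x_1, …, x_r]. Then there are a nonzero polynomial h in
k[x_1, …, x_r] and an integer s₀ such that for every s ≥ s₀, every field K over k and every point g
of K^r with h(g) ≠ 0, the polynomial obtained from f by the substitution x_i ↦ x_i + t^{s(m+1)} g_i,
t ↦ t has as leading coefficient in t a nonzero constant of K; in particular, after dividing by that
constant it is monic in t over K[x_1, …, x_r]. (The published statement asks for a nonempty open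
subset of affine r-space over k, independent of s, such that this holds at each of its points g with
residue field K = k(g); the locus h ≠ 0 used here is such an open subset, and every nonempty open
subset contains one of this form.) -/
theorem result
    {k : Type u} [Field k] [Infinite k] [PerfectField k] (r m : ℕ) (hr : 1 ≤ r) (hm : 1 ≤ m)
    (f : Polynomial (MvPolynomial (Fin r) k)) (hf : f ≠ 0) :
    ∃ h : MvPolynomial (Fin r) k, h ≠ 0 ∧ ∃ s₀ : ℕ, ∀ s : ℕ, s₀ ≤ s →
      ∀ (K : Type v) [Field K] [Algebra k K] (g : Fin r → K), MvPolynomial.aeval g h ≠ 0 →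
        ∃ c : K, c ≠ 0 ∧
          (Polynomial.eval₂ (MvPolynomial.aeval (fun i : Fin r => Polynomial.C (MvPolynomial.X i) + Polynomial.C (MvPolynomial.C (g i)) * Polynomial.X ^ (s * (m + 1))) : MvPolynomial (Fin r) k →ₐ[k] Polynomial (MvPolynomial (Fin r) K)).toRingHom Polynomial.X f).leadingCoeff = MvPolynomial.C c := by
  obtain ⟨h, hh, s₀, hs⟩ := Aux.main.{u, v} r f hf
  refine ⟨h, hh, max s₀ 1, fun s hs0 K _ _ g hg => ?_⟩
  have hle : s₀ ≤ s * (m + 1) := by
    have h1 : s₀ ≤ s := le_trans (le_max_left _ _) hs0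
    nlinarith
  exact hs (s * (m + 1)) hle K g hg

end Groth.Agent.S15078
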