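import Groth.Statements.S15081
import Mathlib
import Groth.Agent.Lib.Helper5.Shuffle.Basic

set_option autoImplicit false
open W4c2movlemaddchow

open Groth.Agent.Helper5.Shuffle W4c2movlemaddchow

namespace Groth.Agent.S15081

/-- Let r, s, t ≥ 1. For an (r, s+t)-shuffle τ' of r+s+t letters and an (s, t)-shuffle σ' of the last
s+t letters, the composite τ' ∘ (id × σ'), where id × σ' fixes the first r letters and acts as σ' on
the last s+t, is an (r, s, t)-shuffle, and (τ', σ') ↦ τ' ∘ (id × σ') is a bijection from such pairs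
onto the set of all (r, s, t)-shuffles. (Shuffles are permutations monotone on each consecutive
block; composites apply the right-hand factor first.) -/
theorem result (r s t : ℕ) (hr : 1 ≤ r) (hs : 1 ≤ s) (ht : 1 ≤ t) :
    Set.BijOn
      (fun p : Equiv.Perm (Fin (r + s + t)) × Equiv.Perm (Fin (s + t)) =>
        p.1 * W4c2movlemaddchow.extLeft r s t p.2)
      ({τ | W4c2movlemaddchow.IsShuffle₂ r (s + t) ((finCongr (Nat.add_assoc r s t)).permCongr τ)} ×ˢ
        {σ | W4c2movlemaddchow.IsShuffle₂ s t σ})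
      {ν | W4c2movlemaddchow.IsShuffle₃ r s t ν} := by
  have key := bijOn_mul_ext (ιL r s t) (κL r s t) (Fin.castAdd t) (Fin.natAdd s)
    (ιL_injective r s t) (extLeft r s t) (extLeft_ιL r s t) (extLeft_κL r s t)
    (extLeft_mul r s t) (extLeft_one r s t)
  have e1 : ∀ j : Fin s, ιL r s t (Fin.castAdd t j) = Fin.castAdd t (Fin.natAdd r j) := by
    intro j
    apply Fin.ext
    rw [ιL_val]
    simp
  have e2 : ∀ l : Fin t, ιL r s t (Fin.natAdd s l) = Fin.natAdd (r + s) l := by
    intro l
    apply Fin.ext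
    rw [ιL_val]
    simp [Nat.add_assoc]
  have hS : ({τ : Equiv.Perm (Fin (r + s + t)) |
      IsShuffle₂ r (s + t) ((finCongr (Nat.add_assoc r s t)).permCongr τ)} ×ˢ
        {σ : Equiv.Perm (Fin (s + t)) | IsShuffle₂ s t σ}) =
      ({τ : Equiv.Perm (Fin (r + s + t)) | Monotone (fun x => τ (ιL r s t x)) ∧
          Monotone (fun y => τ (κL r s t y))} ×ˢ
        {σ : Equiv.Perm (Fin (s + t)) | Monotone (fun i => σ (Fin.castAdd t i)) ∧
          Monotone (fun j => σ (Fin.natAdd s j))}) := by
    congr 1
    ext τ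
    simp only [Set.mem_ofPred_eq, IsShuffle₂, Equiv.permCongr_apply]
    have h1 : Monotone (fun i : Fin r => (finCongr (Nat.add_assoc r s t))
        (τ ((finCongr (Nat.add_assoc r s t)).symm (Fin.castAdd (s + t) i)))) ↔
        Monotone (fun y => τ (κL r s t y)) := by
      simp only [← κL_eq]
      exact Iff.rfl
    have h2 : Monotone (fun j : Fin (s + t) => (finCongr (Nat.add_assoc r s t))
        (τ ((finCongr (Nat.add_assoc r s t)).symm (Fin.natAdd r j)))) ↔
        Monotone (fun x => τ (ιL r s t x)) := by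
      exact Iff.rfl
    rw [h1, h2, and_comm]
  have hT : {ν : Equiv.Perm (Fin (r + s + t)) | IsShuffle₃ r s t ν} =
      {ν | Monotone (fun i => ν (ιL r s t (Fin.castAdd t i))) ∧
        Monotone (fun j => ν (ιL r s t (Fin.natAdd s j))) ∧
        Monotone (fun y => ν (κL r s t y))} := by
    ext ν
    simp only [Set.mem_ofPred_eq, IsShuffle₃, e1, e2, κL]
    tauto
  rw [hS, hT]
  exact key

end Groth.Agent.S15081
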