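import Groth.Statements.S15082
import Mathlib
import Groth.Agent.Lib.Helper5.Shuffle.Basic
import Groth.Agent.S15080
import Groth.Agent.S15081

set_option autoImplicit false
open W4c2movlemaddchow

namespace S15082aux
open Equiv

theorem sum_eq {N a : ℕ} (ext : Perm (Fin a) → Perm (Fin N))
    (hsign : ∀ σ, Perm.sign (ext σ) = Perm.sign σ)
    (P : Perm (Fin N) → Prop) [DecidablePred P] (Q : Perm (Fin a) → Prop) [DecidablePred Q]
    (T : Perm (Fin N) → Prop) [DecidablePred T]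
    (h : Set.BijOn (fun p : Perm (Fin N) × Perm (Fin a) => p.1 * ext p.2)
      ({τ | P τ} ×ˢ {σ | Q σ}) {ν | T ν}) :
    (∑ ν ∈ Finset.univ.filter T, MonoidAlgebra.single ν (((Perm.sign ν : ℤˣ) : ℤ)) :
        MonoidAlgebra ℤ (Perm (Fin N))) =
      ∑ τ ∈ Finset.univ.filter P, ∑ σ ∈ Finset.univ.filter Q,
        MonoidAlgebra.single (τ * ext σ) (((Perm.sign τ : ℤˣ) : ℤ) * ((Perm.sign σ : ℤˣ) : ℤ)) := by
  rw [← Finset.sum_product']
  symm
  refine Finset.sum_nbij (fun p : Perm (Fin N) × Perm (Fin a) => p.1 * ext p.2) ?_ ?_ ?_ ?_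
  · rintro ⟨τ, σ⟩ hp
    simp only [Finset.mem_product, Finset.mem_filter, Finset.mem_univ, true_and] at hp
    simp only [Finset.mem_filter, Finset.mem_univ, true_and]
    exact h.mapsTo (Set.mk_mem_prod hp.1 hp.2)
  · rintro ⟨τ, σ⟩ hp ⟨τ', σ'⟩ hp' heq
    simp only [Finset.coe_product, Finset.coe_filter, Finset.mem_univ, true_and] at hp hp'
    exact h.injOn hp hp' heq
  · intro ν hν
    simp only [Finset.coe_filter, Finset.mem_univ, true_and] at hν
    obtain ⟨p, hp, rfl⟩ := h.surjOn hν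
    refine ⟨p, ?_, rfl⟩
    simp only [Finset.coe_product, Finset.coe_filter, Finset.mem_univ, true_and]
    exact hp
  · rintro ⟨τ, σ⟩ _
    simp only [Perm.sign_mul, hsign, Units.val_mul]

end S15082aux

open Groth.Agent.Helper5.Shuffle W4c2movlemaddchow S15082aux

namespace Groth.Agent.S15082

/-- Let r, s, t ≥ 1. In the group ring ℤ[S_{r+s+t}] the element Σ_ν sgn(ν) ν, summed over all (r, s,
t)-shuffles ν, equals Σ_τ Σ_σ sgn(τ) sgn(σ) τ ∘ (σ × id), summed over (r+s, t)-shuffles τ and (r,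
s)-shuffles σ of the first r+s letters, and also equals Σ_{τ'} Σ_{σ'} sgn(τ') sgn(σ') τ' ∘ (id ×
σ'), summed over (r, s+t)-shuffles τ' and (s, t)-shuffles σ' of the last s+t letters. (Shuffles are
permutations monotone on each consecutive block; composites apply the right-hand factor first.) -/
theorem result (r s t : ℕ) (hr : 1 ≤ r) (hs : 1 ≤ s) (ht : 1 ≤ t) :
    ((∑ ν ∈ Finset.univ.filter (W4c2movlemaddchow.IsShuffle₃ r s t),
        MonoidAlgebra.single ν (((Equiv.Perm.sign ν : ℤˣ) : ℤ)) :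
          MonoidAlgebra ℤ (Equiv.Perm (Fin (r + s + t)))) =
      ∑ τ ∈ Finset.univ.filter (W4c2movlemaddchow.IsShuffle₂ (r + s) t),
        ∑ σ ∈ Finset.univ.filter (W4c2movlemaddchow.IsShuffle₂ r s),
          MonoidAlgebra.single (τ * W4c2movlemaddchow.extRight (r + s) t σ)
            (((Equiv.Perm.sign τ : ℤˣ) : ℤ) * ((Equiv.Perm.sign σ : ℤˣ) : ℤ))) ∧
    ((∑ ν ∈ Finset.univ.filter (W4c2movlemaddchow.IsShuffle₃ r s t),
        MonoidAlgebra.single ν (((Equiv.Perm.sign ν : ℤˣ) : ℤ)) :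
          MonoidAlgebra ℤ (Equiv.Perm (Fin (r + s + t)))) =
      ∑ τ ∈ Finset.univ.filter (fun τ : Equiv.Perm (Fin (r + s + t)) =>
          W4c2movlemaddchow.IsShuffle₂ r (s + t) ((finCongr (Nat.add_assoc r s t)).permCongr τ)),
        ∑ σ ∈ Finset.univ.filter (W4c2movlemaddchow.IsShuffle₂ s t),
          MonoidAlgebra.single (τ * W4c2movlemaddchow.extLeft r s t σ)
            (((Equiv.Perm.sign τ : ℤˣ) : ℤ) * ((Equiv.Perm.sign σ : ℤˣ) : ℤ))) := by
  refine ⟨?_, ?_⟩
  · exact sum_eq (extRight (r + s) t) (sign_extRight _ _) _ _ _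
      (Groth.Agent.S15080.result r s t hr hs ht)
  · exact sum_eq (extLeft r s t) (sign_extLeft r s t) _ _ _
      (Groth.Agent.S15081.result r s t hr hs ht)

end Groth.Agent.S15082
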