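import Groth.Statements.S15083
import Mathlib

set_option autoImplicit false
universe u
open MovLem

namespace Groth.Agent.S15083

section
open Matrix Polynomial

variable {K : Type u} [Field K] {n : Type} [Fintype n] [DecidableEq n]

def HasPath (A : Matrix n n K) : Prop :=
  ∃ N : Matrix n n K[X], N.det = 1 ∧ N.map (evalRingHom (0 : K)) = 1 ∧
    N.map (evalRingHom (1 : K)) = A

theorem hasPath_mul {A B : Matrix n n K} (hA : HasPath A) (hB : HasPath B) :
    HasPath (A * B) := by
  obtain ⟨N₁, d₁, z₁, o₁⟩ := hA
  obtain ⟨N₂, d₂, z₂, o₂⟩ := hB
  refine ⟨N₁ * N₂, by rw [det_mul, d₁, d₂, one_mul], ?_, ?_⟩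
  · rw [Matrix.map_mul, z₁, z₂, one_mul]
  · rw [Matrix.map_mul, o₁, o₂]

theorem hasPath_one : HasPath (1 : Matrix n n K) :=
  ⟨1, det_one, Matrix.map_one _ (map_zero _) (map_one _), Matrix.map_one _ (map_zero _) (map_one _)⟩

theorem map_transvection (f : K[X] →+* K) (i j : n) (c : K[X]) :
    (transvection i j c).map f = transvection i j (f c) := by
  ext a b
  rw [Matrix.map_apply, transvection, transvection, Matrix.add_apply, Matrix.add_apply, map_add,
    Matrix.one_apply, Matrix.one_apply, Matrix.single_apply, Matrix.single_apply]
  congr 1
  · split_ifs <;> simp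
  · split_ifs <;> simp

theorem hasPath_transvection (i j : n) (hij : i ≠ j) (c : K) : HasPath (transvection i j c) := by
  refine ⟨transvection i j (C c * X), det_transvection_of_ne i j hij _, ?_, ?_⟩
  · rw [map_transvection]
    simp
  · rw [map_transvection]
    simp

def H (i j : n) (s : K) : n → K := fun k => if k = i then s else if k = j then s⁻¹ else 1

theorem H_eq (i j : n) (hij : i ≠ j) (s : K) (hs : s ≠ 0) :
    diagonal (H i j s) = transvection j i (s⁻¹ - 1) * transvection i j 1 *
      transvection j i (s - 1) * transvection i j (-s⁻¹) := by
  have e1 : ∀ x, (transvection j i (s⁻¹ - 1) : Matrix n n K) x i =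
      (if x = i then 1 else 0) + (if x = j then s⁻¹ - 1 else 0) := by
    intro x
    rw [transvection, Matrix.add_apply, Matrix.one_apply, Matrix.single_apply]
    congr 1
    by_cases hx : x = j
    · simp [hx]
    · simp [hx, Ne.symm hx]
  have e2 : ∀ x y, y ≠ i → (transvection j i (s⁻¹ - 1) : Matrix n n K) x y =
      if x = y then 1 else 0 := by
    intro x y hy
    rw [transvection, Matrix.add_apply, Matrix.one_apply, Matrix.single_apply]
    simp [Ne.symm hy]
  ext x y
  rw [Matrix.diagonal_apply]
  by_cases hyj : y = j
  · rw [hyj]
    simp only [mul_transvection_apply_same, mul_transvection_apply_of_ne i j _ i hij,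
      mul_transvection_apply_of_ne j i _ j (Ne.symm hij), e1, e2 _ j (Ne.symm hij)]
    unfold H
    by_cases hxj : x = j
    · have hxi : x ≠ i := by rw [hxj]; exact Ne.symm hij
      rw [if_pos hxj, if_pos hxj, if_neg hxi, if_neg hxi, if_pos hxj]
      field_simp
      ring
    · by_cases hxi : x = i
      · rw [if_neg hxj, if_neg hxj, if_pos hxi]
        field_simp
        ring
      · simp only [if_neg hxj, if_neg hxi]
        ring
  · by_cases hyi : y = i
    · rw [hyi]
      simp only [mul_transvection_apply_same, mul_transvection_apply_of_ne i j _ i hij,
        mul_transvection_apply_of_ne j i _ j (Ne.symm hij), e1, e2 _ j (Ne.symm hij)]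
      unfold H
      by_cases hxi : x = i
      · have hxj : x ≠ j := by rw [hxi]; exact hij
        rw [if_pos hxi, if_pos hxi, if_pos hxi, if_neg hxj, if_neg hxj]
        ring
      · by_cases hxj : x = j
        · rw [if_neg hxi, if_neg hxi, if_pos hxj, if_pos hxj]
          field_simp
          ring
        · rw [if_neg hxi, if_neg hxi, if_neg hxj, if_neg hxj]
          ring
    · rw [mul_transvection_apply_of_ne _ _ _ y hyj, mul_transvection_apply_of_ne _ _ _ y hyi,
        mul_transvection_apply_of_ne _ _ _ y hyj, e2 x y hyi]
      unfold H
      by_cases hxy : x = y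
      · rw [if_pos hxy, if_pos hxy, hxy, if_neg hyi, if_neg hyj]
      · rw [if_neg hxy, if_neg hxy]

theorem hasPath_H (i j : n) (hij : i ≠ j) (s : K) (hs : s ≠ 0) : HasPath (diagonal (H i j s)) := by
  rw [H_eq i j hij s hs]
  exact hasPath_mul (hasPath_mul (hasPath_mul (hasPath_transvection j i (Ne.symm hij) _)
    (hasPath_transvection i j hij _)) (hasPath_transvection j i (Ne.symm hij) _))
    (hasPath_transvection i j hij _)

theorem prod_H (i j : n) (hij : i ≠ j) (s : K) (hs : s ≠ 0) : ∏ k, H i j s k = 1 := by
  rw [← det_diagonal, H_eq i j hij s hs, det_mul, det_mul, det_mul,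
    det_transvection_of_ne _ _ hij, det_transvection_of_ne _ _ (Ne.symm hij),
    det_transvection_of_ne _ _ hij, det_transvection_of_ne _ _ (Ne.symm hij)]
  norm_num

open Classical in
theorem hasPath_diag : ∀ (m : ℕ) (D : n → K), (∏ k, D k = 1) →
    (Finset.univ.filter (fun k => D k ≠ 1)).card = m → HasPath (diagonal D) := by
  intro m
  induction m using Nat.strong_induction_on with
  | _ m ih =>
    intro D hprod hcard
    by_cases hall : ∀ k, D k = 1
    · have : diagonal D = (1 : Matrix n n K) := by
        rw [← diagonal_one]
        congr 1
        funext k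
        exact hall k
      rw [this]
      exact hasPath_one
    · obtain ⟨i, hi⟩ : ∃ i, D i ≠ 1 := by
        by_contra hcon
        apply hall
        intro k
        by_contra hk
        exact hcon ⟨k, hk⟩
      obtain ⟨j, hji, hj⟩ : ∃ j, j ≠ i ∧ D j ≠ 1 := by
        by_contra hcon
        have hall' : ∀ j, j ≠ i → D j = 1 := by
          intro j hji
          by_contra hj
          exact hcon ⟨j, hji, hj⟩
        have : ∏ k, D k = D i :=
          Finset.prod_eq_single i (fun b _ hb => hall' b hb) (fun h => absurd (Finset.mem_univ i) h)
        rw [this] at hprod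
        exact hi hprod
      have hDi0 : D i ≠ 0 := by
        intro h0
        have : ∏ k, D k = 0 := Finset.prod_eq_zero (Finset.mem_univ i) h0
        rw [this] at hprod
        exact zero_ne_one hprod
      let D' : n → K := fun k => if k = i then 1 else if k = j then D j * D i else D k
      have hDD' : ∀ k, D k = D' k * H i j (D i) k := by
        intro k
        show D k = (if k = i then 1 else if k = j then D j * D i else D k) *
          (if k = i then D i else if k = j then (D i)⁻¹ else 1)
        by_cases hki : k = i
        · subst hki
          simp
        · by_cases hkj : k = j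
          · subst hkj
            simp [hki]
            field_simp
          · simp [hki, hkj]
      have hdiag : diagonal D = diagonal D' * diagonal (H i j (D i)) := by
        rw [diagonal_mul_diagonal]
        congr 1
        funext k
        exact hDD' k
      have hprod' : ∏ k, D' k = 1 := by
        have : ∏ k, D k = (∏ k, D' k) * ∏ k, H i j (D i) k := by
          rw [← Finset.prod_mul_distrib]
          exact Finset.prod_congr rfl (fun k _ => hDD' k)
        rw [prod_H i j (Ne.symm hji) (D i) hDi0, mul_one] at this
        rw [← this]
        exact hprod
      have hsub : Finset.univ.filter (fun k => D' k ≠ 1) ⊆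
          (Finset.univ.filter (fun k => D k ≠ 1)).erase i := by
        intro k hk
        rw [Finset.mem_filter] at hk
        have hk2 : D' k ≠ 1 := hk.2
        have hki : k ≠ i := by
          intro h
          apply hk2
          show (if k = i then 1 else if k = j then D j * D i else D k) = 1
          rw [if_pos h]
        rw [Finset.mem_erase, Finset.mem_filter]
        refine ⟨hki, Finset.mem_univ k, ?_⟩
        by_cases hkj : k = j
        · rw [hkj]
          exact hj
        · intro hDk
          apply hk2
          show (if k = i then 1 else if k = j then D j * D i else D k) = 1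
          rw [if_neg hki, if_neg hkj, hDk]
      have hlt : (Finset.univ.filter (fun k => D' k ≠ 1)).card < m := by
        have h1 := Finset.card_le_card hsub
        have hmem : i ∈ Finset.univ.filter (fun k => D k ≠ 1) :=
          Finset.mem_filter.mpr ⟨Finset.mem_univ i, hi⟩
        rw [Finset.card_erase_of_mem hmem, hcard] at h1
        have hpos : 0 < m := by
          rw [← hcard]
          exact Finset.card_pos.mpr ⟨i, hmem⟩
        omega
      rw [hdiag]
      exact hasPath_mul (ih _ hlt D' hprod' rfl) (hasPath_H i j (Ne.symm hji) (D i) hDi0)

theorem main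
    (K : Type u) [Field K] (r : ℕ) (hr : 1 ≤ r)
    (A : Matrix.SpecialLinearGroup (Fin (r + 1)) K) :
    ∃ M : Matrix.SpecialLinearGroup (Fin (r + 1)) (Polynomial K),
      Matrix.SpecialLinearGroup.map (Polynomial.evalRingHom (0 : K)) M = 1 ∧
      Matrix.SpecialLinearGroup.map (Polynomial.evalRingHom (1 : K)) M = A := by
  have hA : HasPath (A.1) := by
    apply diagonal_transvection_induction HasPath A.1
    · intro D hD
      rw [det_diagonal, A.2] at hD
      exact hasPath_diag _ D hD rfl
    · intro t
      exact hasPath_transvection t.i t.j t.hij t.c
    · intro A B hA hB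
      exact hasPath_mul hA hB
  obtain ⟨N, hd, h0, h1⟩ := hA
  refine ⟨⟨N, hd⟩, ?_, ?_⟩
  · apply Subtype.ext
    exact h0
  · apply Subtype.ext
    exact h1


end


/-- Let K be a field and r ≥ 1. For every element A of the special linear group SL_{r+1}(K) there is an
algebraic path in SL_{r+1} from the identity to A defined over K: a matrix M of determinant 1 with
entries in the polynomial ring K[y] such that M(0) is the identity matrix and M(1) = A. (The
published statement takes K to be the function field of SL_{r+1} over the ground field, A its
generic point viewed as a K-rational point, and the parameter space to be the projective line minus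
the point 1, with endpoints 0 and ∞; this row gives the path for an arbitrary K-point A on the
affine line with endpoints 0 and 1, which is what the published construction provides before
composing with the coordinate change y ↦ y/(y − 1).) -/
theorem result
    (K : Type u) [Field K] (r : ℕ) (hr : 1 ≤ r)
    (A : Matrix.SpecialLinearGroup (Fin (r + 1)) K) :
    ∃ M : Matrix.SpecialLinearGroup (Fin (r + 1)) (Polynomial K),
      Matrix.SpecialLinearGroup.map (Polynomial.evalRingHom (0 : K)) M = 1 ∧
      Matrix.SpecialLinearGroup.map (Polynomial.evalRingHom (1 : K)) M = A := by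
  classical
  exact main K r hr A

end Groth.Agent.S15083
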