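import Groth.Statements.S15084
import Mathlib

set_option autoImplicit false
universe u
open MovLem

namespace Groth.Agent.S15084

/-- Let A be a Noetherian integrally closed domain with fraction field K, let B be a domain with
fraction field L, and let A → B be an injective ring homomorphism, with K → L the induced map of
fraction fields, such that Spec B → Spec A is surjective (every prime ideal of A is the contraction
of a prime ideal of B). If a ∈ K is such that its image in L lies in B, then a ∈ A. (The published
statement: for a surjective morphism f : Y → X of normal integral separated schemes of finite type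
over a perfect field and a Cartier divisor D on X, if f^*D is effective then D is effective; a
Cartier divisor is locally the divisor of a nonzero rational function a, effectivity of div(a) on a
normal scheme means that a is a regular function, and this row is that local statement, which is
what the published proof establishes.) -/
theorem result
    (A B K L : Type u) [CommRing A] [IsDomain A] [IsNoetherianRing A] [IsIntegrallyClosed A]
    [CommRing B] [IsDomain B] [Field K] [Field L]
    [Algebra A B] [Algebra A K] [IsFractionRing A K] [Algebra B L] [IsFractionRing B L]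
    [Algebra K L] [Algebra A L] [IsScalarTower A K L] [IsScalarTower A B L]
    (hinj : Function.Injective (algebraMap A B))
    (hsurj : ∀ p : Ideal A, p.IsPrime → ∃ q : Ideal B, q.IsPrime ∧ q.comap (algebraMap A B) = p)
    (a : K) (ha : algebraMap K L a ∈ (algebraMap B L).range) :
    a ∈ (algebraMap A K).range := by
  classical
  obtain ⟨c, d, hd, rfl⟩ := IsFractionRing.div_surjective (A := A) a
  have hd0 : d ≠ 0 := nonZeroDivisors.ne_zero hd
  have hinjK : Function.Injective (algebraMap A K) := IsFractionRing.injective A K
  have hinjL : Function.Injective (algebraMap B L) := IsFractionRing.injective B L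
  have hdK : algebraMap A K d ≠ 0 := fun h => hd0 (hinjK (by rw [h, map_zero]))
  by_contra hnot
  -- c ∉ (d)
  have hcI : c ∉ Ideal.span {d} := by
    intro hc
    obtain ⟨e, he⟩ := Ideal.mem_span_singleton'.1 hc
    apply hnot
    refine ⟨e, ?_⟩
    rw [← he, map_mul, mul_div_assoc, div_self hdK, mul_one]
  let I : Ideal A := Ideal.span {d}
  let J : Ideal A := (I : Submodule A A).colon {c}
  have hJ : ∀ s : A, s ∈ J ↔ s * c ∈ I := fun s => by
    simp only [J, Submodule.mem_colon_singleton, smul_eq_mul]
  have hJtop : J ≠ ⊤ := by
    intro h
    have : (1 : A) ∈ J := h ▸ Submodule.mem_top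
    rw [hJ, one_mul] at this
    exact hcI this
  have : Nontrivial (A ⧸ J) := Ideal.Quotient.nontrivial_iff.2 hJtop
  obtain ⟨P, hP⟩ := associatedPrimes.nonempty A (A ⧸ J)
  obtain ⟨hPprime, m, hPm⟩ := (isAssociatedPrime_iff).1 hP
  obtain ⟨s, rfl⟩ := Ideal.Quotient.mk_surjective m
  have hPmem : ∀ r : A, r ∈ P ↔ d ∣ r * s * c := by
    intro r
    rw [hPm, Submodule.mem_colon_singleton, Submodule.mem_bot]
    have : r • (Ideal.Quotient.mk J) s = Ideal.Quotient.mk J (r * s) := by
      rw [map_mul]; rfl
    rw [this, Ideal.Quotient.eq_zero_iff_mem, hJ]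
    exact Ideal.mem_span_singleton
  have hsc : ¬ d ∣ s * c := by
    intro h
    apply hPprime.ne_top
    rw [Ideal.eq_top_iff_one, hPmem, one_mul]
    exact h
  have hdP : d ∈ P := by
    rw [hPmem]
    exact ⟨s * c, by ring⟩
  -- the element b = s c / d
  set b : K := algebraMap A K (s * c) / algebraMap A K d with hb
  have hbt : ∀ t e : A, t * s * c = d * e → b * algebraMap A K t = algebraMap A K e := by
    intro t e hte
    rw [hb, div_mul_eq_mul_div, div_eq_iff hdK, ← map_mul, ← map_mul]
    congr 1
    rw [mul_comm e d, ← hte]
    ring
  by_cases hcase : ∀ t ∈ P, ∀ e : A, t * s * c = d * e → e ∈ P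
  · -- b is integral
    let N : Submodule A K := Submodule.map (Algebra.linearMap A K) P
    have hN : N ≠ ⊥ := by
      intro h
      have : algebraMap A K d ∈ N := ⟨d, hdP, rfl⟩
      rw [h, Submodule.mem_bot] at this
      exact hdK this
    have hN' : N.FG := Submodule.FG.map _ ((isNoetherianRing_iff_ideal_fg A).1 inferInstance P)
    have hbN : ∀ n ∈ N, b • n ∈ N := by
      rintro _ ⟨t, ht, rfl⟩
      obtain ⟨e, he⟩ := (hPmem t).1 ht
      refine ⟨e, hcase t ht e he, ?_⟩
      rw [smul_eq_mul]
      exact (hbt t e he).symm
    have hint : IsIntegral A b := isIntegral_of_smul_mem_submodule N hN hN' b hbN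
    obtain ⟨b', hb'⟩ := IsIntegrallyClosed.isIntegral_iff.1 hint
    apply hsc
    refine ⟨b', ?_⟩
    apply hinjK
    rw [map_mul (algebraMap A K) d b', hb', hb, mul_div_cancel₀ _ hdK]
  · push Not at hcase
    obtain ⟨t, ht, e, hte, heP⟩ := hcase
    obtain ⟨q, hq, hqP⟩ := hsurj P hPprime
    obtain ⟨β, hβ⟩ := ha
    apply heP
    rw [← hqP, Ideal.mem_comap]
    have key : algebraMap A B e = algebraMap A B t * algebraMap A B s * β := by
      apply hinjL
      rw [map_mul, map_mul, hβ, ← IsScalarTower.algebraMap_apply, ← IsScalarTower.algebraMap_apply,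
        ← IsScalarTower.algebraMap_apply, IsScalarTower.algebraMap_apply A K L e,
        ← hbt t e hte, IsScalarTower.algebraMap_apply A K L t,
        IsScalarTower.algebraMap_apply A K L s, hb, ← map_mul, ← map_mul, ← map_mul]
      congr 1
      simp only [map_mul]
      field_simp
    rw [key]
    have htq : algebraMap A B t ∈ q := by
      rw [← Ideal.mem_comap, hqP]; exact ht
    exact q.mul_mem_right _ (q.mul_mem_right _ htq)

end Groth.Agent.S15084
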