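import Groth.Statements.S15104
import Mathlib
import Groth.Agent.Lib.Helper1.RedF3

set_option autoImplicit false
universe u
open CategoryTheory CategoryTheory.Limits AlgebraicGeometry
open Models

namespace Groth.Agent.S15104

/-- Let R be a discrete valuation ring with algebraically closed residue field k and fraction field K, C
a smooth proper curve over K with H⁰(C, O_C) = K and dim_K H¹(C, O_C) = g ≥ 2, and X → Spec R a
minimal regular model of C: a regular proper model none of whose vertical prime divisors is an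
exceptional curve of the first kind. Let Γ₁, …, Γ_n enumerate the irreducible components of the
closed fibre, with multiplicities r_i having gcd 1, and suppose the closed fibre is not reduced
(some r_i ≥ 2). Then dim_k H¹((X_k)_red, O) < g, the left side computed as the R-length of H¹(X, O_X
/ I) for I the ideal sheaf of the reduced closed fibre. (The published lemma states this for any
regular model with gcd(r_i) = 1; its proof uses, in the last step, that the component added last is
not an exceptional curve, the standing hypothesis of the result it serves, and the inequality fails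
after blowing up a node of a reduced semi-stable fibre, so minimality is assumed here.) -/
theorem result
    (R : Type u) [CommRing R] [IsDomain R] [IsDiscreteValuationRing R]
    (hk : IsAlgClosed (IsLocalRing.ResidueField R))
    (C : Scheme.{u}) (fC : C ⟶ (Spec (CommRingCat.of (FractionRing R)))) [IsProper fC] [Smooth fC]
    (hC0 : Models.hRank (FractionRing R) C fC (Coh.structureModule C) 0 = 1)
    (g : ℕ) (hg2 : 2 ≤ g) (hg : Models.curveGenus (FractionRing R) C fC = g)
    (X : Scheme.{u}) (p : X ⟶ (Spec (CommRingCat.of R))) (hX : Models.IsMinimalModel R X p C fC)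
    {n : ℕ} (Γ : Fin n → ArSurf.VertComp R (Over.mk p)) (hΓ : Models.IsComponentList R (Over.mk p) Γ)
    (hgcd : Models.multGcd R (Over.mk p) Γ = 1) (hnr : ∃ i, 2 ≤ Models.mult R (Over.mk p) (Γ i)) :
    Models.lengthH R (Over.mk p) (ClSub.quotMod (Models.redFibreIdeal R (Over.mk p))) 1 < g := by
  classical
  obtain ⟨hRPM, hnoexc⟩ := hX
  obtain ⟨⟨hflat, hlft, hqc, g', H⟩, hp, hreg⟩ := id hRPM
  haveI := hlft
  haveI := hp
  haveI : Flat p := hflat
  haveI : IsLocallyNoetherian (Over.mk p).left :=
    LocallyOfFiniteType.isLocallyNoetherian (Y := Spec (CommRingCat.of R)) p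
  haveI : Flat (Over.mk p).hom := hflat
  haveI : IsProper (Over.mk p).hom := hp
  have hinj := hΓ.1
  have hcov := Groth.Agent.Helper1.SpFib.cover_of_isComponentList R (Over.mk p) Γ hΓ
  obtain ⟨hb, hH0⟩ := Groth.Agent.Helper1.RedF.isIso_appTop_of_hRank (FractionRing R) C fC hC0
  have hint : IsIntegral C :=
    Groth.Agent.Helper1.RedF.isIntegral_of_bijective (FractionRing R) C fC hb
  have hdim : topologicalKrullDim C = 1 := by
    apply le_antisymm
    · exact Groth.Agent.Helper1.RedF.dim_generic_le R (Over.mk p) fC g' H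
        (Groth.Agent.Helper1.RedF.krullDim_closedFibre_le R (Over.mk p) Γ hcov)
    · exact Groth.Agent.Helper1.RedF.one_le_dim_of_H1 (FractionRing R) C fC
        (by rw [hg]; omega)
  have hC : Curve.IsSmoothProperCurve (FractionRing R) C fC :=
    ⟨inferInstance, inferInstance, hint, hdim⟩
  obtain ⟨L, hL⟩ := Groth.Agent.Helper1.PicV.exists_inverse_family R (Over.mk p) hreg Γ hinj hcov
  have hred := Groth.Agent.Helper1.RedF.redFibreIdeal_eq_prod R (Over.mk p) hreg Γ hinj hcov
  obtain ⟨s, a, ha0, hal, -, hfld⟩ := Groth.Agent.Helper1.GenF.exists_field_chain R C X fC p hC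
    hH0 hRPM Γ hΓ L hL (fun j => Models.mult R (Over.mk p) (Γ j)) 1 hgcd (fun j => one_mul _)
  have hF1 := hfld 0
  rw [ha0] at hF1
  have hFm := hfld (Fin.last s)
  rw [hal] at hFm
  have hk1 : Groth.Agent.Helper1.RedF.hh R (Over.mk p) Γ (fun _ => 1) 0 = 1 :=
    Groth.Agent.Helper1.RedF.lengthH_zero_eq_one R (Over.mk p) hk hp _ hF1
  have hkm : Groth.Agent.Helper1.RedF.hh R (Over.mk p) Γ
      (fun j => Models.mult R (Over.mk p) (Γ j)) 0 = 1 :=
    Groth.Agent.Helper1.RedF.lengthH_zero_eq_one R (Over.mk p) hk hp _ hFm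
  have key := Groth.Agent.Helper1.RedF.h1_le R C X fC p hC hH0 hRPM Γ hΓ L hL
    (fun i => hnoexc (Γ i)) hgcd hk1
  have hne : (fun j => Models.mult R (Over.mk p) (Γ j)) ≠ (fun _ => 1) := by
    obtain ⟨i, hi⟩ := hnr
    intro h
    have h2 : Models.mult R (Over.mk p) (Γ i) = 1 := congrFun h i
    omega
  have hlt := key.2 hne
  have hgen := Groth.Agent.Helper1.GenF.genus_eq_mul_chi R C X fC p hC hH0 hRPM Γ hΓ L hL
    (fun j => Models.mult R (Over.mk p) (Γ j)) 1 one_pos (fun j => one_mul _)
  rw [hg] at hgen
  change (1 : ℤ) - (g : ℤ) = ((1 : ℕ) : ℤ) *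
    ((Groth.Agent.Helper1.RedF.hh R (Over.mk p) Γ
        (fun j => Models.mult R (Over.mk p) (Γ j)) 0 : ℤ) -
      (Groth.Agent.Helper1.RedF.hh R (Over.mk p) Γ
        (fun j => Models.mult R (Over.mk p) (Γ j)) 1 : ℤ)) at hgen
  rw [hkm] at hgen
  have hred1 : Groth.Agent.Helper1.RedF.hh R (Over.mk p) Γ (fun _ => 1) 1 =
      Models.lengthH R (Over.mk p) (ClSub.quotMod (Models.redFibreIdeal R (Over.mk p))) 1 := by
    show Models.lengthH R (Over.mk p) (ClSub.quotMod (∏ j, (Γ j).ι.ker ^ (1 : ℕ))) 1 = _
    simp only [pow_one]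
    rw [← hred]
  rw [hred1] at hlt
  push_cast at hgen
  omega

end Groth.Agent.S15104
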