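import Groth.Statements.S15115
import Mathlib
import Groth.Agent.Lib.Helper9.IntegralReynolds
import Groth.Agent.Lib.Helper9.LinRedIntegral

set_option autoImplicit false
universe u
open HopfRep

namespace Groth.Agent.S15115

namespace Aux

open TensorProduct Groth.Agent.Helper9

lemma slice_smul_left {k : Type u} [CommRing k] {H : Type u} [AddCommGroup H] [Module k H]
    {A : Type u} [CommRing A] [Algebra k A]
    {M : Type u} [AddCommGroup M] [Module k M] [Module A M] [IsScalarTower k A M]
    (c : H →ₗ[k] k) (a : A) (x : M ⊗[k] H) :
    slice c (a • x) = a • slice c x := by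
  induction x using TensorProduct.induction_on with
  | zero => simp
  | tmul m h => rw [TensorProduct.smul_tmul', slice_tmul, slice_tmul, smul_comm]
  | add x y hx hy => simp only [smul_add, map_add, hx, hy]

section
variable {k : Type u} [Field k]
    {H : Type u} [CommRing H] [HopfAlgebra k H]
    {A : Type u} [CommRing A] [Algebra k A]
    {M : Type u} [AddCommGroup M] [Module k M] [Module A M] [IsScalarTower k A M] [HopfRep.Comod k H M]
    {A' : Type u} [CommRing A'] [Algebra k A'] [Algebra A A'] [IsScalarTower k A A']
    {N : Type u} [AddCommGroup N] [Module k N] [Module A N] [Module A' N]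
    [IsScalarTower k A N] [IsScalarTower A A' N] [IsScalarTower k A' N] [HopfRep.Comod k H N]

/-- the natural map -/
noncomputable abbrev L (φ : M →ₗ[A] N) (P : Submodule A M) : A' ⊗[A] P →ₗ[A] N :=
  TensorProduct.lift (((Algebra.lsmul A A N : A' →ₐ[A] Module.End A N).toLinearMap).compl₂ (φ ∘ₗ P.subtype))

lemma L_tmul (φ : M →ₗ[A] N) (P : Submodule A M) (a' : A') (p : P) :
    L φ P (a' ⊗ₜ[A] p) = a' • φ (p : M) := by
  simp [L]

lemma smul_L (φ : M →ₗ[A] N) (P : Submodule A M) (a' : A') (t : A' ⊗[A] P) :
    a' • L φ P t = L φ P (a' • t) := by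
  induction t using TensorProduct.induction_on with
  | zero => simp
  | tmul b' p => rw [TensorProduct.smul_tmul', L_tmul, L_tmul, smul_smul, smul_eq_mul]
  | add x y hx hy => simp only [smul_add, map_add, hx, hy]

theorem main (c : H →ₗ[k] k) (hc1 : c 1 = 1)
    (hc : ∀ a, slice c (Coalgebra.comul (R := k) a) = c a • (1 : H))
    (hlin : ∀ (a : A) (m : M), HopfRep.Comod.coact (k := k) (A := H) (a • m) = a • HopfRep.Comod.coact (k := k) (A := H) m)
    (φ : M →ₗ[A] N) (hφ : IsBaseChange A' φ)
    (hcomp : ∀ m : M, HopfRep.Comod.coact (k := k) (A := H) (φ m) =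
      LinearMap.rTensor H (φ.restrictScalars k) (HopfRep.Comod.coact (k := k) (A := H) m))
    (hlinN : ∀ (a' : A') (n : N), HopfRep.Comod.coact (k := k) (A := H) (a' • n) = a' • HopfRep.Comod.coact (k := k) (A := H) n)
    (P : Submodule A M) (hP : (P : Set M) = (HopfRep.fixedPts k H M : Set M)) :
    Function.Injective (L (A' := A') φ P) ∧
      Set.range (L (A' := A') φ P) = (HopfRep.fixedPts k H N : Set N) := by
  have hPmem : ∀ m : M, m ∈ P ↔ m ∈ HopfRep.fixedPts k H M := by
    intro m
    rw [← SetLike.mem_coe, hP, SetLike.mem_coe]
  -- A-linear Reynolds operator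
  let EA : M →ₗ[A] M :=
    { toFun := IntegralReynolds.R c
      map_add' := fun x y => map_add _ x y
      map_smul' := fun a m => by
        simp only [RingHom.id_apply]
        rw [IntegralReynolds.R_apply, hlin, slice_smul_left, ← IntegralReynolds.R_apply] }
  have hEP : ∀ m, EA m ∈ P := fun m => (hPmem _).mpr (IntegralReynolds.R_mem_fixedPts c hc m)
  let r : M →ₗ[A] P := EA.codRestrict P hEP
  have hr : r ∘ₗ P.subtype = LinearMap.id := by
    apply LinearMap.ext
    intro p
    apply Subtype.ext
    show IntegralReynolds.R c (p : M) = p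
    exact IntegralReynolds.R_of_mem_fixedPts c hc1 _ ((hPmem _).mp p.2)
  constructor
  · -- injectivity
    have hL : ∀ t, L (A' := A') φ P t = hφ.equiv (P.subtype.lTensor A' t) := by
      intro t
      induction t using TensorProduct.induction_on with
      | zero => simp
      | tmul a' p => rw [L_tmul, LinearMap.lTensor_tmul, IsBaseChange.equiv_tmul]; rfl
      | add x y hx hy => simp only [map_add, hx, hy]
    have hinj : Function.Injective (P.subtype.lTensor A') := by
      apply Function.LeftInverse.injective (g := r.lTensor A')
      intro t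
      rw [← LinearMap.comp_apply, ← LinearMap.lTensor_comp, hr, LinearMap.lTensor_id,
        LinearMap.id_apply]
    intro t₁ t₂ h12
    rw [hL, hL] at h12
    exact hinj (hφ.equiv.injective h12)
  · apply Set.eq_of_subset_of_subset
    · rintro _ ⟨t, rfl⟩
      rw [SetLike.mem_coe]
      induction t using TensorProduct.induction_on with
      | zero => rw [map_zero]; exact zero_mem _
      | tmul a' p =>
        rw [L_tmul]
        show HopfRep.Comod.coact (k := k) (A := H) (a' • φ (p : M)) = (a' • φ (p : M)) ⊗ₜ[k] (1 : H)
        have hp : HopfRep.Comod.coact (k := k) (A := H) (p : M) = (p : M) ⊗ₜ[k] (1 : H) :=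
          (hPmem _).mp p.2
        rw [hlinN, hcomp, hp, LinearMap.rTensor_tmul, TensorProduct.smul_tmul']
        rfl
      | add x y hx hy => rw [map_add]; exact add_mem hx hy
    · intro n hn
      rw [SetLike.mem_coe] at hn
      have hall : ∀ n : N, IntegralReynolds.R c n ∈ Set.range (L (A' := A') φ P) := by
        intro n
        refine hφ.inductionOn n (fun n => IntegralReynolds.R c n ∈ Set.range (L (A' := A') φ P))
          ?_ ?_ ?_ ?_
        · exact ⟨0, by simp⟩
        · intro m
          refine ⟨(1 : A') ⊗ₜ[A] (⟨EA m, hEP m⟩ : P), ?_⟩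
          rw [L_tmul, one_smul, IntegralReynolds.R_apply, hcomp, slice_rTensor]
          rfl
        · rintro a' n ⟨t, ht⟩
          refine ⟨a' • t, ?_⟩
          rw [← smul_L, ht, IntegralReynolds.R_apply, IntegralReynolds.R_apply, hlinN,
            slice_smul_left]
        · rintro n₁ n₂ ⟨t₁, ht₁⟩ ⟨t₂, ht₂⟩
          exact ⟨t₁ + t₂, by rw [map_add, map_add, ht₁, ht₂]⟩
      have := hall n
      rwa [IntegralReynolds.R_of_mem_fixedPts c hc1 n hn] at this

end

end Aux

open TensorProduct in
/-- Let k be an algebraically closed field, H a finite-dimensional commutative Hopf algebra over k all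
of whose finite-dimensional comodules are semisimple (a finite linearly reductive group scheme G
over k), A a commutative k-algebra, and M an A-module with an H-coaction that is A-linear (G acts on
M by A-module maps, A carrying the trivial action). Let A' be a commutative A-algebra and N = A' ⊗_A
M its base change, exhibited by an A-linear map φ : M → N, with the induced coaction: A'-linear and
compatible with φ. Then invariants commute with this base change: writing M^G for the A-submodule of
coinvariant elements of M, the natural map A' ⊗_A M^G → N, a' ⊗ m ↦ a' φ(m), is injective and its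
image is exactly the set of coinvariant elements of N. (The published statement is the isomorphism
ρ^* π_* F → π'_* σ^* F for a tame Deligne–Mumford stack with coarse moduli space π and any base
change ρ of the coarse space; this row is the statement about invariants to which its proof reduces
it, for modules that need not be finitely generated.) -/
theorem result (k : Type u) [Field k] [IsAlgClosed k]
    (H : Type u) [CommRing H] [HopfAlgebra k H] [Module.Finite k H] (hred : HopfRep.IsLinearlyReductive k H)
    (A : Type u) [CommRing A] [Algebra k A]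
    (M : Type u) [AddCommGroup M] [Module k M] [Module A M] [IsScalarTower k A M] [HopfRep.Comod k H M]
    (hlin : ∀ (a : A) (m : M), HopfRep.Comod.coact (k := k) (A := H) (a • m) = a • HopfRep.Comod.coact (k := k) (A := H) m)
    (A' : Type u) [CommRing A'] [Algebra k A'] [Algebra A A'] [IsScalarTower k A A']
    (N : Type u) [AddCommGroup N] [Module k N] [Module A N] [Module A' N]
    [IsScalarTower k A N] [IsScalarTower A A' N] [IsScalarTower k A' N] [HopfRep.Comod k H N]
    (φ : M →ₗ[A] N) (hφ : IsBaseChange A' φ)
    (hcomp : ∀ m : M, HopfRep.Comod.coact (k := k) (A := H) (φ m) =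
      LinearMap.rTensor H (φ.restrictScalars k) (HopfRep.Comod.coact (k := k) (A := H) m))
    (hlinN : ∀ (a' : A') (n : N), HopfRep.Comod.coact (k := k) (A := H) (a' • n) = a' • HopfRep.Comod.coact (k := k) (A := H) n)
    (P : Submodule A M) (hP : (P : Set M) = (HopfRep.fixedPts k H M : Set M)) :
    Function.Injective (TensorProduct.lift (((Algebra.lsmul A A N : A' →ₐ[A] Module.End A N).toLinearMap).compl₂ (φ ∘ₗ P.subtype))) ∧
      Set.range (TensorProduct.lift (((Algebra.lsmul A A N : A' →ₐ[A] Module.End A N).toLinearMap).compl₂ (φ ∘ₗ P.subtype))) =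
        (HopfRep.fixedPts k H N : Set N) := by
  obtain ⟨c, hc1, hc⟩ := Groth.Agent.Helper9.LinRedIntegral.exists_integral hred
  exact Aux.main c hc1 hc hlin φ hφ hcomp hlinN P hP

end Groth.Agent.S15115
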