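import Groth.Statements.S15116
import Mathlib

set_option autoImplicit false
universe u v
open NRGIT

namespace Groth.Agent.S15116

/-- Let k be a characteristic-zero field and A a commutative k-algebra, graded by the integers with all
pieces of positive degree zero, and D a k-derivation of A that raises degrees by a fixed positive
integer l. If no maximal ideal of A contains both every piece of negative degree and the image of D,
then there is f with D f = 1. (The published statement is for an affine variety with an action of
the semidirect product of the additive and multiplicative groups, the multiplicative group acting on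
the coordinate ring with non-positive weights and on the Lie algebra of the additive group with
positive weight: the derivation is a generator of that Lie algebra, the maximal ideals containing
the pieces of negative degree are the limit points under the multiplicative group, and a limit point
has trivial additive stabiliser exactly when the image of D is not contained in its ideal; this row
keeps only this algebraic content, for any such graded algebra. The first assertion of the published
lemma, that every point has a limit in the variety under the multiplicative group as t → 0, is not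
part of this row.) -/
theorem result (k : Type u) [Field k] [CharZero k]
    (A : Type v) [CommRing A] [Algebra k A] (𝒜 : ℤ → Submodule k A) [GradedAlgebra 𝒜]
    (hpos : ∀ i : ℤ, 0 < i → 𝒜 i = ⊥)
    (D : Derivation k A A) (l : ℤ) (hl : 0 < l)
    (hD : ∀ (i : ℤ) (a : A), a ∈ 𝒜 i → D a ∈ 𝒜 (i + l))
    (hfree : ∀ m : Ideal A, m.IsMaximal → (∀ i : ℤ, i < 0 → (𝒜 i : Set A) ⊆ m) → ∃ a : A, D a ∉ m) :
    ∃ f : A, D f = 1 := by
  classical
  set π : ℤ → A →+ A := fun e => GradedRing.proj 𝒜 e with hπ
  have hπmem : ∀ e x, π e x ∈ 𝒜 e := fun e x => SetLike.coe_mem _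
  have hpos' : ∀ (i : ℤ) (a : A), 0 < i → π i a = 0 := by
    intro i a hi
    have := hπmem i a
    rw [hpos i hi] at this
    exact (Submodule.mem_bot k).1 this
  have hD0 : ∀ a ∈ 𝒜 0, D a = 0 := by
    intro a ha
    have := hD 0 a ha
    rw [zero_add, hpos l hl] at this
    exact (Submodule.mem_bot k).1 this
  -- key formula
  have hmul : ∀ (a y : A) (j : ℤ), y ∈ 𝒜 j → π 0 (a * y) = π (-j) a * y := by
    intro a y j hy
    have := DirectSum.coe_decompose_mul_add_of_right_mem 𝒜 (i := -j) (j := j) (a := a) hy
    rw [neg_add_cancel] at this
    exact this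
  have hmul0 : ∀ (a y : A) (j : ℤ), y ∈ 𝒜 j → j ≠ 0 → π 0 (a * y) = 0 := by
    intro a y j hy hj
    rcases lt_or_gt_of_ne hj with h | h
    · rw [hmul a y j hy, hpos' (-j) a (by omega), zero_mul]
    · rw [hpos j h] at hy
      rw [(Submodule.mem_bot k).1 hy, mul_zero, map_zero]
  let P : A → Prop := fun x => ∀ a : A, ∃ f, D f = π 0 (a * x)
  set J : Ideal A := Ideal.span ((⋃ i : {i : ℤ // i < 0}, (𝒜 i : Set A)) ∪ Set.range D) with hJ
  have hJtop : J = ⊤ := by
    by_contra hne
    obtain ⟨m, hm, hJm⟩ := Ideal.exists_le_maximal J hne
    obtain ⟨a, ha⟩ := hfree m hm (fun i hi x hx =>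
      hJm (Ideal.subset_span (Or.inl (Set.mem_iUnion.2 ⟨⟨i, hi⟩, hx⟩))))
    exact ha (hJm (Ideal.subset_span (Or.inr ⟨a, rfl⟩)))
  have hP : ∀ x ∈ J, P x := by
    intro x hx
    induction hx using Submodule.span_induction with
    | mem x hx =>
      rcases hx with hx | ⟨c, rfl⟩
      · obtain ⟨⟨i, hi⟩, hx⟩ := Set.mem_iUnion.1 hx
        intro a
        refine ⟨0, ?_⟩
        rw [map_zero, hmul0 a x i hx (by omega)]
      · intro a
        refine ⟨π 0 a * π (-l) c, ?_⟩
        have hc : c = ∑ d ∈ (DirectSum.decompose 𝒜 c).support, π d c :=
          (DirectSum.sum_support_decompose 𝒜 c).symm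
        have hterm : ∀ d : ℤ, π 0 (a * D (π d c)) = if d = -l then π 0 a * D (π (-l) c) else 0 := by
          intro d
          split_ifs with h
          · subst h
            have := hmul a (D (π (-l) c)) (-l + l) (hD _ _ (hπmem _ _))
            rw [this, show -(-l + l) = (0 : ℤ) by ring]
          · exact hmul0 a _ (d + l) (hD _ _ (hπmem _ _)) (by omega)
        have h1 : π 0 (a * D c) = π 0 a * D (π (-l) c) := by
          conv_lhs => rw [hc, map_sum, Finset.mul_sum, map_sum]
          simp_rw [hterm]
          rw [Finset.sum_ite_eq']
          split_ifs with hmem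
          · rfl
          · have : π (-l) c = 0 := by
              have := DFinsupp.notMem_support_iff.1 hmem
              show ((DirectSum.decompose 𝒜 c (-l) : 𝒜 (-l)) : A) = 0
              rw [this]; rfl
            rw [this, map_zero, mul_zero]
        rw [h1, Derivation.leibniz, hD0 _ (hπmem 0 a), smul_zero, add_zero, smul_eq_mul]
    | zero => intro a; exact ⟨0, by simp⟩
    | add x y _ _ hx hy =>
      intro a
      obtain ⟨f, hf⟩ := hx a
      obtain ⟨g, hg⟩ := hy a
      exact ⟨f + g, by rw [map_add, hf, hg, mul_add, map_add]⟩
    | smul b x _ hx =>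
      intro a
      obtain ⟨f, hf⟩ := hx (a * b)
      exact ⟨f, by rw [hf, smul_eq_mul, mul_assoc]⟩
  have h1 : (1 : A) ∈ J := by rw [hJtop]; trivial
  obtain ⟨f, hf⟩ := hP 1 h1 1
  refine ⟨f, ?_⟩
  rw [hf, mul_one]
  exact DirectSum.decompose_of_mem_same 𝒜 (SetLike.GradedOne.one_mem)

end Groth.Agent.S15116
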