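import Groth.Statements.S15117
import Mathlib

set_option autoImplicit false
universe u v w
open TensorProduct
open NRGIT

namespace Groth.Agent.S15117

namespace Aux

open TensorProduct

section
variable {k : Type u} [Field k] {A B : Type v} [CommRing A] [CommRing B] [Bialgebra k A] [Bialgebra k B]
variable {W : Type w} [AddCommGroup W] [Module k W]

lemma idA (π : A →ₗ[k] B) (a : A) (x : W ⊗[k] A) :
    (π.rTensor A).lTensor W (TensorProduct.assoc k W A A (x ⊗ₜ[k] a)) =
      TensorProduct.assoc k W B A ((π.lTensor W x) ⊗ₜ[k] a) := by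
  induction x using TensorProduct.induction_on with
  | zero => simp
  | tmul m a' => simp
  | add x y hx hy => simp only [map_add, TensorProduct.add_tmul, hx, hy]

lemma idB (π : A →ₗ[k] B) (ρ : W →ₗ[k] W ⊗[k] A) (z : W ⊗[k] A) :
    (π.rTensor A).lTensor W (TensorProduct.assoc k W A A (ρ.rTensor A z)) =
      TensorProduct.assoc k W B A ((π.lTensor W ∘ₗ ρ).rTensor A z) := by
  induction z using TensorProduct.induction_on with
  | zero => simp
  | tmul m a => simp [idA]
  | add x y hx hy => simp only [map_add, hx, hy]

lemma idC (V : Submodule k W) (y : V ⊗[k] A) :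
    TensorProduct.assoc k W B A
        ((((TensorProduct.mk k W B).flip (1 : B)) ∘ₗ V.subtype).rTensor A y) =
      (TensorProduct.mk k B A (1 : B)).lTensor W (V.subtype.rTensor A y) := by
  induction y using TensorProduct.induction_on with
  | zero => simp
  | tmul m a => simp
  | add x y hx hy => simp only [map_add, hx, hy]

end

theorem main (k : Type u) [Field k]
    (A B : Type v) [CommRing A] [CommRing B] [Bialgebra k A] [Bialgebra k B] (π : A →ₐc[k] B)
    (W : Type w) [AddCommGroup W] [Module k W] [HopfRep.Comod k A W]
    (V : Submodule k W) (hV : HopfRep.IsSubcomod (k := k) (A := A) V)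
    (hfix : ∀ v ∈ V, (π.toLinearMap.lTensor W) (HopfRep.Comod.coact (k := k) (A := A) v) = v ⊗ₜ[k] (1 : B))
    (v : W) (hv : v ∈ V) :
    HopfRep.Comod.coact (k := k) (A := A) v ∈
      Submodule.span k {x : W ⊗[k] A | ∃ w ∈ V, ∃ a : A,
        (π.toLinearMap.rTensor A) (Coalgebra.comul (R := k) a) = (1 : B) ⊗ₜ[k] a ∧ x = w ⊗ₜ[k] a} := by
  obtain ⟨y, hy⟩ := hV v hv
  set f1 : A →ₗ[k] B ⊗[k] A := π.toLinearMap.rTensor A ∘ₗ CoalgebraStruct.comul (R := k) (A := A)
    with hf1
  set f2 : A →ₗ[k] B ⊗[k] A := TensorProduct.mk k B A (1 : B) with hf2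
  -- key equality in W ⊗ (B ⊗ A)
  have hkey : f1.lTensor W (HopfRep.Comod.coact (k := k) (A := A) v) =
      f2.lTensor W (HopfRep.Comod.coact (k := k) (A := A) v) := by
    have hco := LinearMap.congr_fun (HopfRep.Comod.coassoc (k := k) (A := A) (V := W)) v
    simp only [LinearMap.comp_apply, LinearEquiv.coe_coe] at hco
    rw [hf1, LinearMap.lTensor_comp, LinearMap.comp_apply, ← hco, idB]
    have h2 : (π.toLinearMap.lTensor W ∘ₗ HopfRep.Comod.coact (k := k) (A := A)) ∘ₗ V.subtype =
        ((TensorProduct.mk k W B).flip (1 : B)) ∘ₗ V.subtype := by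
      apply LinearMap.ext
      intro w
      exact hfix w w.2
    rw [← hy, ← LinearMap.comp_apply, ← LinearMap.rTensor_comp, h2, idC]
  -- move to V ⊗ A
  have hinj : Function.Injective (V.subtype.rTensor (B ⊗[k] A)) :=
    Module.Flat.rTensor_preserves_injective_linearMap V.subtype V.injective_subtype
  have hker : (f1 - f2).lTensor V y = 0 := by
    apply hinj
    rw [map_zero, ← LinearMap.comp_apply, LinearMap.rTensor_comp_lTensor,
      ← LinearMap.lTensor_comp_rTensor, LinearMap.comp_apply, hy, LinearMap.lTensor_sub,
      LinearMap.sub_apply, hkey, sub_self]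
  have hex := Module.Flat.lTensor_exact V (LinearMap.exact_subtype_ker_map (f1 - f2))
  obtain ⟨z, hz⟩ := (hex y).mp hker
  rw [← hy, ← hz]
  clear hz
  -- now induct on z
  induction z using TensorProduct.induction_on with
  | zero => simp
  | tmul w a =>
    apply Submodule.subset_span
    refine ⟨w, w.2, a.1, ?_, by simp⟩
    have ha : (f1 - f2) a.1 = 0 := a.2
    rw [LinearMap.sub_apply, sub_eq_zero] at ha
    exact ha
  | add x y hx hy => 
    simp only [map_add]
    exact Submodule.add_mem _ hx hy

end Aux

/-- Let k be a field, π : A → B a map of commutative bialgebras over k, W a right A-comodule and V ⊆ W a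
subcomodule all of whose elements are coinvariant for the B-coaction induced through π. Then the
coaction of every v ∈ V lies in V ⊗ A' ⊆ W ⊗ A, where A' ⊆ A is the set of elements a with (π ⊗
id)(Δ a) = 1 ⊗ a, i.e. coinvariant for the coaction of B on A through π on the left factor; the row
states membership in the span of the pure tensors w ⊗ a with w ∈ V and a ∈ A'. (The published
statement is for a linear algebraic group H over an algebraically closed field of characteristic
zero, a normal subgroup N and an H-stable space V of N-invariant sections of a linearised line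
bundle, with the coaction landing in O(H)^N ⊗ V, where O(H)^N is the ring of functions on H
invariant under N acting by right multiplication; this row is the comodule form, for any bialgebra
map over a field, where normality of N is not needed.) -/
theorem result (k : Type u) [Field k]
    (A B : Type v) [CommRing A] [CommRing B] [Bialgebra k A] [Bialgebra k B] (π : A →ₐc[k] B)
    (W : Type w) [AddCommGroup W] [Module k W] [HopfRep.Comod k A W]
    (V : Submodule k W) (hV : HopfRep.IsSubcomod (k := k) (A := A) V)
    (hfix : ∀ v ∈ V, (π.toLinearMap.lTensor W) (HopfRep.Comod.coact (k := k) (A := A) v) = v ⊗ₜ[k] (1 : B))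
    (v : W) (hv : v ∈ V) :
    HopfRep.Comod.coact (k := k) (A := A) v ∈
      Submodule.span k {x : W ⊗[k] A | ∃ w ∈ V, ∃ a : A,
        (π.toLinearMap.rTensor A) (Coalgebra.comul (R := k) a) = (1 : B) ⊗ₜ[k] a ∧ x = w ⊗ₜ[k] a} := by
  exact Aux.main k A B π W V hV hfix v hv

end Groth.Agent.S15117
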