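import Groth.Statements.S15121
import Mathlib
-- import your own Groth.Agent.* helpers here

set_option autoImplicit false
universe u v w
open InvQ

namespace Groth.Agent.S15121

namespace Aux
open DirectSum

section
variable {k : Type u} [Field k] {A : Type v} [CommRing A] [Algebra k A]
  {Λ : Type w} [AddCommGroup Λ] [DecidableEq Λ] (𝒜 : Λ → Submodule k A) [GradedAlgebra 𝒜]

/-- degree zero part of `r * x` for `x` homogeneous of degree `v`. -/
lemma proj_zero_mul (r : A) {x : A} {v : Λ} (hx : x ∈ 𝒜 v) :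
    (decompose 𝒜 (r * x) 0 : A) = (decompose 𝒜 r (-v) : A) * x := by
  have := coe_decompose_mul_add_of_right_mem 𝒜 (i := -v) (j := v) (a := r) hx
  rwa [neg_add_cancel] at this

omit [DecidableEq Λ] [GradedAlgebra 𝒜] in
lemma mem_of_eq {j j' : Λ} (h : j = j') {x : A} (hx : x ∈ 𝒜 j) : x ∈ 𝒜 j' := h ▸ hx

omit [DecidableEq Λ] [GradedAlgebra 𝒜] in
lemma mul_eq_zero_of_pos (hpos : ∀ w : Λ, 𝒜 w ≠ ⊥ → 𝒜 (-w) ≠ ⊥ → w = 0)
    {v : Λ} (hv : v ≠ 0) {x y : A} (hx : x ∈ 𝒜 v) (hy : y ∈ 𝒜 (-v)) : y * x = 0 := by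
  by_cases hx0 : x = 0
  · rw [hx0, mul_zero]
  by_cases hy0 : y = 0
  · rw [hy0, zero_mul]
  exfalso
  apply hv
  apply hpos v
  · intro h; rw [h, Submodule.mem_bot] at hx; exact hx0 hx
  · intro h; rw [h, Submodule.mem_bot] at hy; exact hy0 hy

theorem main (hpos : ∀ w : Λ, 𝒜 w ≠ ⊥ → 𝒜 (-w) ≠ ⊥ → w = 0)
    (δ : Derivation k A A)
    (d : Λ) (hhom : ∀ (w : Λ) (a : A), a ∈ 𝒜 w → δ a ∈ 𝒜 (w + d)) (hd : 𝒜 d = ⊥)
    (hfix : ∀ m : Ideal A, m.IsMaximal → (∀ w : Λ, w ≠ 0 → (𝒜 w : Set A) ⊆ m) → ¬ (Set.range δ ⊆ m)) :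
    ∃ s ∈ 𝒜 (-d), δ s = 1 := by
  classical
  -- the ideal
  set I : Ideal A := Ideal.span ((⋃ w : {w : Λ // w ≠ 0}, (𝒜 w.1 : Set A)) ∪ Set.range δ) with hI
  have hItop : I = ⊤ := by
    by_contra hne
    obtain ⟨m, hm, hle⟩ := Ideal.exists_le_maximal I hne
    refine hfix m hm ?_ ?_
    · intro w hw x hx
      exact hle (Ideal.subset_span (Or.inl (Set.mem_iUnion.mpr ⟨⟨w, hw⟩, hx⟩)))
    · intro x hx
      exact hle (Ideal.subset_span (Or.inr hx))
  -- the target submodule
  let J : Submodule k A := (𝒜 (-d)).map (δ : A →ₗ[k] A)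
  -- the key claim
  have key : ∀ a ∈ I, ∀ r : A, (decompose 𝒜 (r * a) 0 : A) ∈ J := by
    intro a ha
    refine Submodule.span_induction ?_ ?_ ?_ ?_ ha
    · rintro x (hx | hx) r
      · obtain ⟨⟨w, hw⟩, hxw⟩ := Set.mem_iUnion.mp hx
        rw [proj_zero_mul 𝒜 r hxw, mul_eq_zero_of_pos 𝒜 hpos hw hxw (SetLike.coe_mem _)]
        exact J.zero_mem
      · obtain ⟨c, rfl⟩ := hx
        -- decompose c
        have hc : c = ∑ i ∈ (decompose 𝒜 c).support, (decompose 𝒜 c i : A) :=
          (sum_support_decompose 𝒜 c).symm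
        rw [hc, map_sum, Finset.mul_sum, decompose_sum, DFinsupp.finsetSum_apply,
          AddSubmonoidClass.coe_finsetSum]
        refine Submodule.sum_mem _ fun i _ => ?_
        have hδi : δ (decompose 𝒜 c i : A) ∈ 𝒜 (i + d) := hhom i _ (SetLike.coe_mem _)
        rw [proj_zero_mul 𝒜 r hδi]
        by_cases hid : i + d = 0
        · -- the main term
          have hi : i = -d := eq_neg_of_add_eq_zero_left hid
          have hr0 : δ (decompose 𝒜 r (-(i + d)) : A) = 0 := by
            have h1 : (decompose 𝒜 r (-(i + d)) : A) ∈ 𝒜 0 :=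
              mem_of_eq 𝒜 (by rw [hid, neg_zero]) (SetLike.coe_mem _)
            have h2 := hhom 0 _ h1
            rw [zero_add, hd, Submodule.mem_bot] at h2
            exact h2
          refine ⟨(decompose 𝒜 r (-(i + d)) : A) * (decompose 𝒜 c i : A), ?_, ?_⟩
          · have h1 : (decompose 𝒜 r (-(i + d)) : A) ∈ 𝒜 0 :=
              mem_of_eq 𝒜 (by rw [hid, neg_zero]) (SetLike.coe_mem _)
            have h2 : (decompose 𝒜 c i : A) ∈ 𝒜 (-d) :=
              mem_of_eq 𝒜 hi (SetLike.coe_mem _)
            exact mem_of_eq 𝒜 (zero_add _) (SetLike.mul_mem_graded h1 h2)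
          · show δ _ = _
            rw [Derivation.leibniz, hr0, smul_zero, add_zero, smul_eq_mul]
        · rw [mul_eq_zero_of_pos 𝒜 hpos hid hδi (SetLike.coe_mem _)]
          exact J.zero_mem
    · intro r
      rw [mul_zero, decompose_zero]
      exact J.zero_mem
    · intro a b _ _ ha hb r
      rw [mul_add, decompose_add]
      exact J.add_mem (ha r) (hb r)
    · intro s a _ ha r
      rw [smul_eq_mul, ← mul_assoc]
      exact ha (r * s)
  have h1 := key 1 (hItop ▸ Submodule.mem_top) 1
  rw [mul_one, decompose_of_mem_same 𝒜 (SetLike.GradedOne.one_mem)] at h1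
  obtain ⟨s, hs, hs1⟩ := h1
  exact ⟨s, hs, hs1⟩

end
end Aux

/-- Let k be a field of characteristic zero and A a commutative k-algebra graded by a finitely generated
free abelian group Λ (the character group of a torus acting on Spec A) whose grading monoid is
positive: if the pieces of degrees w and −w are both non-zero then w = 0. Let δ be a locally
nilpotent k-derivation of A (an action of the additive group) that is homogeneous of degree d, with
the piece of degree d equal to zero (the graded condition on the Lie algebra weight). Suppose that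
no maximal ideal of A contains both all graded pieces of non-zero degree and the image of δ (every
torus-fixed closed point has trivial stabiliser under the additive group). Then δ has a homogeneous
slice: some s of degree −d with δ s = 1. (The published statement is for the coordinate ring of an
affine variety over an algebraically closed field of characteristic zero and concludes moreover that
the quotient map by the additive group is a trivial principal bundle, which follows from the slice
by a standard argument not restated here; this row keeps the algebraic content, for any such graded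
algebra.) -/
theorem result
    (k : Type u) [Field k] [CharZero k]
    (A : Type v) [CommRing A] [Algebra k A]
    (Λ : Type w) [AddCommGroup Λ] [DecidableEq Λ] [Module.Free ℤ Λ] [Module.Finite ℤ Λ]
    (𝒜 : Λ → Submodule k A) [GradedAlgebra 𝒜]
    (hpos : ∀ w : Λ, 𝒜 w ≠ ⊥ → 𝒜 (-w) ≠ ⊥ → w = 0)
    (δ : Derivation k A A) (hnil : ∀ a : A, ∃ n : ℕ, ((δ : A →ₗ[k] A) ^ n) a = 0)
    (d : Λ) (hhom : ∀ (w : Λ) (a : A), a ∈ 𝒜 w → δ a ∈ 𝒜 (w + d)) (hd : 𝒜 d = ⊥)
    (hfix : ∀ m : Ideal A, m.IsMaximal → (∀ w : Λ, w ≠ 0 → (𝒜 w : Set A) ⊆ m) → ¬ (Set.range δ ⊆ m)) :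
    ∃ s ∈ 𝒜 (-d), δ s = 1 := by
  exact Aux.main 𝒜 hpos δ d hhom hd hfix

end Groth.Agent.S15121
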