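import Groth.Statements.S15123
import Mathlib
import Groth.Agent.Lib.Helper9.TorusGrade
-- import your own Groth.Agent.* helpers here

set_option autoImplicit false
universe u v w
open InvQ

namespace Groth.Agent.S15123

namespace Aux
open TensorProduct Groth.Agent.Helper9 Groth.Agent.Helper9.TorusGrade

section
variable {k : Type u} [Field k] {Λ : Type v} [AddCommGroup Λ]
  {R : Type w} [CommRing R] [Algebra k R]
  [HopfRep.Comod k (AddMonoidAlgebra k Λ) R] [GLin.IsCoactAlg k (AddMonoidAlgebra k Λ) R]

theorem closed_of_fixed (x : R →ₐ[k] k)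
    (hfix : GLin.IsFixedPt k (AddMonoidAlgebra k Λ) x) :
    GLin.IsClosedOrbit k (AddMonoidAlgebra k Λ) x := by
  unfold GLin.IsClosedOrbit
  have hmax : (RingHom.ker x).IsMaximal :=
    RingHom.ker_isMaximal_of_surjective x (fun c => ⟨algebraMap k R c, by simp⟩)
  have hprime : (RingHom.ker x).IsPrime := hmax.isPrime
  have hrange : Set.range (PrimeSpectrum.comap
      (GLin.orbitHom k (AddMonoidAlgebra k Λ) x).toRingHom) = {⟨RingHom.ker x, hprime⟩} := by
    ext p
    simp only [Set.mem_range, Set.mem_singleton_iff]
    have hcomap : ∀ q : PrimeSpectrum (AddMonoidAlgebra k Λ),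
        PrimeSpectrum.comap (GLin.orbitHom k (AddMonoidAlgebra k Λ) x).toRingHom q =
          ⟨RingHom.ker x, hprime⟩ := by
      intro q
      apply PrimeSpectrum.ext
      ext f
      show GLin.orbitHom k (AddMonoidAlgebra k Λ) x f ∈ q.asIdeal ↔ f ∈ RingHom.ker x
      have hf : GLin.orbitHom k (AddMonoidAlgebra k Λ) x f =
          algebraMap k (AddMonoidAlgebra k Λ) (x f) := by
        have := congrArg (fun φ : R →ₐ[k] AddMonoidAlgebra k Λ => φ f) hfix
        exact this
      rw [hf, RingHom.mem_ker]
      constructor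
      · intro hmem
        by_contra hne
        apply q.isPrime.ne_top
        rw [Ideal.eq_top_iff_one]
        have := q.asIdeal.mul_mem_left (algebraMap k (AddMonoidAlgebra k Λ) (x f)⁻¹) hmem
        rwa [← map_mul, inv_mul_cancel₀ hne, map_one] at this
      · intro h0
        rw [h0, map_zero]
        exact Ideal.zero_mem _
    constructor
    · rintro ⟨q, rfl⟩
      exact hcomap q
    · intro hp
      obtain ⟨q⟩ : Nonempty (PrimeSpectrum (AddMonoidAlgebra k Λ)) := inferInstance
      exact ⟨q, (hcomap q).trans hp.symm⟩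
  rw [hrange]
  exact (PrimeSpectrum.isClosed_singleton_iff_isMaximal _).mpr hmax

theorem fixed_of_closed (hpos : Pos k Λ R) (x : R →ₐ[k] k)
    (hcl : GLin.IsClosedOrbit k (AddMonoidAlgebra k Λ) x) :
    GLin.IsFixedPt k (AddMonoidAlgebra k Λ) x := by
  classical
  set φ := GLin.orbitHom k (AddMonoidAlgebra k Λ) x with hφ
  let z : R →ₐ[k] k := x.comp (Ealg hpos)
  have hz : ∀ f, z f = (φ f).coeff 0 := by
    intro f
    rw [hφ, coeff_orbitHom]
    rfl
  have hker : RingHom.ker φ ≤ RingHom.ker z := by
    intro f hf
    rw [RingHom.mem_ker] at hf ⊢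
    rw [hz, hf]
    rfl
  have hzprime : (RingHom.ker z).IsPrime := RingHom.ker_isPrime _
  let pz : PrimeSpectrum R := ⟨RingHom.ker z, hzprime⟩
  have hmem : pz ∈ closure (Set.range (PrimeSpectrum.comap φ.toRingHom)) := by
    rw [PrimeSpectrum.closure_range_comap, PrimeSpectrum.mem_zeroLocus]
    exact hker
  rw [hcl.closure_eq] at hmem
  obtain ⟨q, hq⟩ := hmem
  -- all nonzero-weight components vanish at x
  have hvan : ∀ (a : Λ), a ≠ 0 → ∀ f : R, x (comp (k := k) a f) = 0 := by
    intro a ha f
    by_contra hne
    set f' := comp (k := k) a f with hf'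
    have hf'mem := comp_mem (k := k) a f
    have h1 : f' ∈ RingHom.ker z := by
      rw [RingHom.mem_ker]
      show x (Ealg hpos f') = 0
      rw [Ealg_of_mem_eigenspace hpos a ha f' hf'mem, map_zero]
    have h2 : f' ∈ (PrimeSpectrum.comap φ.toRingHom q).asIdeal := by
      rw [hq]; exact h1
    have h3 : φ f' ∈ q.asIdeal := h2
    rw [hφ, orbitHom_of_mem x a f' hf'mem] at h3
    apply q.isPrime.ne_top
    rw [Ideal.eq_top_iff_one]
    have := q.asIdeal.mul_mem_left ((x f')⁻¹ • AddMonoidAlgebra.single (-a) (1 : k)) h3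
    have e : ((x f')⁻¹ • AddMonoidAlgebra.single (-a) (1 : k)) *
        (x f' • AddMonoidAlgebra.single a (1 : k)) = (1 : AddMonoidAlgebra k Λ) := by
      rw [smul_mul_smul_comm, inv_mul_cancel₀ hne, one_smul, AddMonoidAlgebra.single_mul_single,
        neg_add_cancel, mul_one]
      rfl
    rwa [e] at this
  -- hence x is fixed
  apply AlgHom.ext
  intro f
  show φ f = algebraMap k (AddMonoidAlgebra k Λ) (x f)
  have hx0 : x f = x (comp (k := k) (0 : Λ) f) := by
    conv_lhs => rw [← sum_comp (k := k) (Λ := Λ) f]
    rw [map_sum]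
    by_cases h0 : (0 : Λ) ∈ (wcomp (bas k Λ) f).support
    · rw [Finset.sum_eq_single_of_mem 0 h0]
      intro a _ ha
      exact hvan a ha f
    · have : comp (k := k) (0 : Λ) f = 0 := Finsupp.notMem_support_iff.mp h0
      rw [this, map_zero]
      apply Finset.sum_eq_zero
      intro a ha
      have hne : a ≠ 0 := by
        rintro rfl
        exact h0 ha
      exact hvan a hne f
  apply AddMonoidAlgebra.ext
  apply Finsupp.ext
  intro a
  rw [hφ, coeff_orbitHom]
  show _ = (AddMonoidAlgebra.single (0 : Λ) (x f)).coeff a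
  rw [AddMonoidAlgebra.coeff_single, Finsupp.single_apply]
  by_cases ha : a = 0
  · subst ha
    rw [if_pos rfl, hx0]
  · rw [if_neg (Ne.symm ha)]
    exact hvan a ha f

theorem main (hpos : Pos k Λ R) (x : R →ₐ[k] k) :
    GLin.IsClosedOrbit k (AddMonoidAlgebra k Λ) x ↔ GLin.IsFixedPt k (AddMonoidAlgebra k Λ) x :=
  ⟨fixed_of_closed hpos x, closed_of_fixed x⟩

end
end Aux

/-- Let k be an algebraically closed field of characteristic zero, Λ a finitely generated free abelian
group and k[Λ] its group algebra, the coordinate Hopf algebra of the torus with character group Λ.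
Let R be a reduced finitely generated commutative k-algebra with a multiplicative coaction of k[Λ]
(an action of the torus on the affine variety Spec R), and suppose the grading monoid is positive:
if R has a non-zero eigenvector of weight w and one of weight −w then w = 0. Then for every k-point
x of Spec R, the orbit of x is closed if and only if x is a fixed point. (The published statement
also asserts that the fixed-point subvariety is affine and is a good quotient for the action; only
the description of the closed orbits is stated here.) -/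
theorem result
    (k : Type u) [Field k] [IsAlgClosed k] [CharZero k]
    (Λ : Type v) [AddCommGroup Λ] [Module.Free ℤ Λ] [Module.Finite ℤ Λ]
    (R : Type w) [CommRing R] [Algebra k R] [Algebra.FiniteType k R] [IsReduced R]
    [HopfRep.Comod k (AddMonoidAlgebra k Λ) R] [GLin.IsCoactAlg k (AddMonoidAlgebra k Λ) R]
    (hpos : ∀ w : Λ, HopfRep.eigenspace k (AddMonoidAlgebra k Λ) R (AddMonoidAlgebra.single w 1) ≠ ⊥ →
      HopfRep.eigenspace k (AddMonoidAlgebra k Λ) R (AddMonoidAlgebra.single (-w) 1) ≠ ⊥ → w = 0)
    (x : R →ₐ[k] k) :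
    GLin.IsClosedOrbit k (AddMonoidAlgebra k Λ) x ↔ GLin.IsFixedPt k (AddMonoidAlgebra k Λ) x := by
  exact Aux.main hpos x

end Groth.Agent.S15123
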