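import Groth.Statements.S15124
import Mathlib
import Groth.Agent.Lib.Helper9.TorusGrade
-- import your own Groth.Agent.* helpers here

set_option autoImplicit false
universe u v w
open InvQ

namespace Groth.Agent.S15124

namespace Aux
open TensorProduct Groth.Agent.Helper9 Groth.Agent.Helper9.TorusGrade

section
variable {k : Type u} [Field k] {Λ : Type v} [AddCommGroup Λ]
  {R : Type w} [CommRing R] [Algebra k R]
  [HopfRep.Comod k (AddMonoidAlgebra k Λ) R] [GLin.IsCoactAlg k (AddMonoidAlgebra k Λ) R]

theorem main (hpos : Pos k Λ R) :
    Function.Bijective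
      ((Ideal.Quotient.mkₐ k (Ideal.span {f : R | ∃ w : Λ, w ≠ 0 ∧
          f ∈ HopfRep.eigenspace k (AddMonoidAlgebra k Λ) R (AddMonoidAlgebra.single w 1)})).comp
        (GLin.invariants k (AddMonoidAlgebra k Λ) R).val) := by
  classical
  set I : Ideal R := Ideal.span {f : R | ∃ w : Λ, w ≠ 0 ∧
          f ∈ HopfRep.eigenspace k (AddMonoidAlgebra k Λ) R (AddMonoidAlgebra.single w 1)} with hI
  have hIker : I ≤ RingHom.ker (Ealg hpos) := by
    rw [hI, Ideal.span_le]
    rintro f ⟨w, hw, hf⟩
    exact Ealg_of_mem_eigenspace hpos w hw f hf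
  constructor
  · rw [injective_iff_map_eq_zero]
    intro f hf
    have h1 : (f : R) ∈ I := by
      rw [← Ideal.Quotient.eq_zero_iff_mem]
      exact hf
    have h2 : Ealg hpos (f : R) = 0 := hIker h1
    rw [Ealg_of_mem hpos _ f.2] at h2
    exact Subtype.ext h2
  · intro y
    obtain ⟨r, rfl⟩ := Ideal.Quotient.mk_surjective y
    refine ⟨⟨Ealg hpos r, Ealg_mem hpos r⟩, ?_⟩
    show Ideal.Quotient.mk I (Ealg hpos r) = Ideal.Quotient.mk I r
    rw [Ideal.Quotient.eq]
    have h1 : Ealg hpos r - r = - ∑ a ∈ (wcomp (bas k Λ) r).support.erase 0, comp (k := k) a r := by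
      have e : Ealg hpos r - r =
          comp (k := k) (0 : Λ) r - ∑ a ∈ (wcomp (bas k Λ) r).support, comp (k := k) a r := by
        rw [Ealg_apply, sum_comp]
      rw [e]
      by_cases h0 : (0 : Λ) ∈ (wcomp (bas k Λ) r).support
      · rw [← Finset.add_sum_erase _ _ h0]
        ring
      · rw [Finset.erase_eq_of_notMem h0]
        have : comp (k := k) (0 : Λ) r = 0 := Finsupp.notMem_support_iff.mp h0
        rw [this, zero_sub]
    rw [h1]
    apply I.neg_mem
    apply I.sum_mem
    intro a ha
    apply Ideal.subset_span
    exact ⟨a, (Finset.mem_erase.mp ha).1, comp_mem a r⟩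

end
end Aux

/-- Let k be an algebraically closed field of characteristic zero, Λ a finitely generated free abelian
group with group algebra k[Λ] (the coordinate Hopf algebra of a torus T), and R a reduced finitely
generated commutative k-algebra with a multiplicative coaction of k[Λ] (an action of T on the affine
variety X = Spec R) whose grading monoid is positive: if R has non-zero eigenvectors of weights w
and −w then w = 0. Let I be the ideal of R generated by all eigenvectors of non-zero weight (the
ideal of the fixed-point subscheme X^T). Then the composite of the inclusion of the ring of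
invariants R^T into R with the projection R → R/I is bijective: the fixed-point subscheme maps
isomorphically onto the affine quotient Spec R^T. (The published statement phrases this as: X^T is
affine and X → X^T is a good quotient; the good-quotient property itself is not restated here.) -/
theorem result
    (k : Type u) [Field k] [IsAlgClosed k] [CharZero k]
    (Λ : Type v) [AddCommGroup Λ] [Module.Free ℤ Λ] [Module.Finite ℤ Λ]
    (R : Type w) [CommRing R] [Algebra k R] [Algebra.FiniteType k R] [IsReduced R]
    [HopfRep.Comod k (AddMonoidAlgebra k Λ) R] [GLin.IsCoactAlg k (AddMonoidAlgebra k Λ) R]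
    (hpos : ∀ w : Λ, HopfRep.eigenspace k (AddMonoidAlgebra k Λ) R (AddMonoidAlgebra.single w 1) ≠ ⊥ →
      HopfRep.eigenspace k (AddMonoidAlgebra k Λ) R (AddMonoidAlgebra.single (-w) 1) ≠ ⊥ → w = 0) :
    Function.Bijective
      ((Ideal.Quotient.mkₐ k (Ideal.span {f : R | ∃ w : Λ, w ≠ 0 ∧
          f ∈ HopfRep.eigenspace k (AddMonoidAlgebra k Λ) R (AddMonoidAlgebra.single w 1)})).comp
        (GLin.invariants k (AddMonoidAlgebra k Λ) R).val) := by
  exact Aux.main hpos

end Groth.Agent.S15124
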