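import Groth.Statements.S15126
import Mathlib
import Groth.Agent.Lib.Helper5.Misc.FormalSec

set_option autoImplicit false
universe u
open Formal

open Groth.Agent.Helper5.FormalSec

namespace Groth.Agent.S15126

/-- Affine case. Let k be a field, n > 0, and R a commutative algebra over the power series ring
k[[z_1,…,z_n]]; for a commutative k-algebra Q regard Q[[z_1,…,z_n]] as a k[[z]]-algebra
coefficientwise. Then the functor Q ↦ Hom_{k[[z]]-alg}(R, Q[[z]]) on commutative k-algebras is
corepresentable: there exist a commutative k-algebra P and a k[[z]]-algebra homomorphism u : R →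
P[[z]] such that every k[[z]]-algebra homomorphism R → Q[[z]] arises from u by applying a unique
k-algebra homomorphism P → Q coefficientwise. If moreover R is countably generated as a
k[[z]]-algebra, P may be taken countably generated over k. (The published statement is for an adic
formal scheme Y over the formal disc Spf k[[z]], asserting that the sheaf of sections of Y over the
disc is a scheme, affine over the fibre of Y at the origin, and of pro-finite type when Y is; this
row is the case Y = Spf R, to which the published argument reduces, stated for the underlying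
algebra R; k is algebraically closed there, which is not used.) -/
theorem result
    (k : Type u) [Field k] (n : ℕ) (hn : 0 < n)
    (R : Type u) [CommRing R] [Algebra (MvPowerSeries (Fin n) k) R] :
    ∃ (P : Type u) (_ : CommRing P) (_ : Algebra k P)
      (u : R →ₐ[MvPowerSeries (Fin n) k] MvPowerSeries (Fin n) P),
      (∀ (Q : Type u) [CommRing Q] [Algebra k Q]
          (f : R →ₐ[MvPowerSeries (Fin n) k] MvPowerSeries (Fin n) Q),
          ∃! g : P →ₐ[k] Q,
            (MvPowerSeries.map (σ := Fin n) (g : P →+* Q)).comp (u : R →+* MvPowerSeries (Fin n) P) =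
              (f : R →+* MvPowerSeries (Fin n) Q)) ∧
      ((∃ s : Set R, s.Countable ∧ Algebra.adjoin (MvPowerSeries (Fin n) k) s = ⊤) →
        ∃ t : Set P, t.Countable ∧ Algebra.adjoin k t = ⊤) := by
  refine ⟨P k (Fin n) R, inferInstance, inferInstance, u k (Fin n) R, ?_, ?_⟩
  · intro Q _ _ f
    refine ⟨classify f, ?_, ?_⟩
    · ext r ν
      simp only [RingHom.coe_comp, RingHom.coe_coe, Function.comp_apply, MvPowerSeries.coeff_map,
        coeff_u, classify_gen]
    · intro g' hg'
      apply algHom_ext_gen
      intro r ν
      rw [classify_gen]
      have := congrArg (fun φ => MvPowerSeries.coeff ν (φ r)) hg'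
      simp only [RingHom.coe_comp, RingHom.coe_coe, Function.comp_apply, MvPowerSeries.coeff_map,
        coeff_u] at this
      exact this
  · rintro ⟨s, hs, hadj⟩
    refine ⟨(fun x : R × (Fin n →₀ ℕ) => gen k (Fin n) R x.1 x.2) '' (s ×ˢ Set.univ),
      (hs.prod Set.countable_univ).image _, ?_⟩
    rw [eq_top_iff]
    set T := Algebra.adjoin k
      ((fun x : R × (Fin n →₀ ℕ) => gen k (Fin n) R x.1 x.2) '' (s ×ˢ Set.univ)) with hT
    have hgen : ∀ (r : R) (ν : Fin n →₀ ℕ), gen k (Fin n) R r ν ∈ T := by
      intro r
      have hr : r ∈ Algebra.adjoin (MvPowerSeries (Fin n) k) s := by rw [hadj]; trivial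
      induction hr using Algebra.adjoin_induction with
      | mem r hr =>
        intro ν
        exact Algebra.subset_adjoin ⟨(r, ν), ⟨hr, Set.mem_univ _⟩, rfl⟩
      | algebraMap φ =>
        intro ν
        rw [gen_algebraMap]
        exact T.algebraMap_mem _
      | add r r' _ _ h1 h2 =>
        intro ν
        rw [gen_add]
        exact add_mem (h1 ν) (h2 ν)
      | mul r r' _ _ h1 h2 =>
        intro ν
        rw [gen_mul]
        exact sum_mem fun x _ => mul_mem (h1 x.1) (h2 x.2)
    intro p _
    obtain ⟨p, rfl⟩ := Ideal.Quotient.mk_surjective p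
    exact mk_mem_adjoin T hgen p

end Groth.Agent.S15126
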