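import Groth.Statements.S15134
import Groth.Agent.Lib.Helper3.SchlK

set_option autoImplicit false
universe u v
open CategoryTheory
open ArtFun

namespace Groth.Agent.S15134

/-- Let k be a field and F a functor on local Artinian k-algebras with residue field k with F(k) a
point. If F satisfies (H2') — the comparison map F(A₁ ×_k A₂) → F(A₁) × F(A₂) is bijective for every
pair of objects — then F satisfies condition (L): for every small extension f : B → A with kernel J,
writing P = B ×_k B, Q = A ×_k A, r : P → Q for the map induced by f, and C = P/K with K the ideal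
of P consisting of the pairs (b, b) with b ∈ J, every element of F(Q) whose two images in F(A) agree
lifts along F(C) → F(Q). Here P and Q are pinned as fibre products over k, K is described through
the two projections, and the two inequalities on K (it lies in the maximal ideal of P and is killed
by r), which always hold, are taken as hypotheses so that the quotient object and the factored map
can be named. -/
theorem result
    {k : Type u} [Field k] (F : ArtFun.Art k k ⥤ Type v) (h0 : ArtFun.H0 F)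
    (h2' : ∀ ⦃P A' A'' : ArtFun.Art k k⦄ (p' : P ⟶ A') (p'' : P ⟶ A'')
      (h : ArtFun.Art.IsFibreProd p' p'' (ArtFun.Art.toBase A') (ArtFun.Art.toBase A'')),
      Function.Bijective (ArtFun.cmp F h))
    ⦃B A : ArtFun.Art k k⦄ (f : B ⟶ A) (hf : ArtFun.Art.IsSmallExt f)
    ⦃P : ArtFun.Art k k⦄ (p₁ p₂ : P ⟶ B)
    (hP : ArtFun.Art.IsFibreProd p₁ p₂ (ArtFun.Art.toBase B) (ArtFun.Art.toBase B))
    ⦃Q : ArtFun.Art k k⦄ (q₁ q₂ : Q ⟶ A)
    (hQ : ArtFun.Art.IsFibreProd q₁ q₂ (ArtFun.Art.toBase A) (ArtFun.Art.toBase A))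
    (r : P ⟶ Q) (hr₁ : r ≫ q₁ = p₁ ≫ f) (hr₂ : r ≫ q₂ = p₂ ≫ f)
    (hK : Ideal.span {z : P | p₁ z = p₂ z ∧ f (p₁ z) = 0} ≤ IsLocalRing.maximalIdeal P)
    (hKr : Ideal.span {z : P | p₁ z = p₂ z ∧ f (p₁ z) = 0} ≤ RingHom.ker r.toAlgHom)
    (y : F.obj Q) (hy : F.map q₁ y = F.map q₂ y) :
    ∃ z : F.obj (ArtFun.Art.quot P (Ideal.span {z : P | p₁ z = p₂ z ∧ f (p₁ z) = 0}) hK),
      F.map (ArtFun.Art.quotFactor hK r hKr) z = y := by
  open Groth.Agent.Helper3.ArtFunLib in
  -- the common image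
  set u := F.map q₁ y with hu
  -- diagonals
  obtain ⟨ΔA, hΔA₁, hΔA₂⟩ := Groth.Agent.Helper3.ArtFunLib.IsFibreProd.exists_lift hQ (𝟙 A) (𝟙 A) rfl
  obtain ⟨ΔB, hΔB₁, hΔB₂⟩ := Groth.Agent.Helper3.ArtFunLib.IsFibreProd.exists_lift hP (𝟙 B) (𝟙 B) rfl
  have hyΔ : y = F.map ΔA u := by
    apply (h2' q₁ q₂ hQ).1
    apply ArtFun.FibProd.ext
    · change F.map q₁ y = F.map q₁ (F.map ΔA u)
      rw [← map_comp_app, hΔA₁, map_id_app]
    · change F.map q₂ y = F.map q₂ (F.map ΔA u)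
      rw [← map_comp_app, hΔA₂, map_id_app]
      exact hy.symm
  set K := Ideal.span {z : P | p₁ z = p₂ z ∧ f (p₁ z) = 0} with hKdef
  -- the diagonal of `B` followed by the projection kills `ker f`
  have hΔB₁' : ∀ b : B, p₁ (ΔB b) = b := fun b => by
    change (ΔB ≫ p₁) b = b
    rw [hΔB₁]; rfl
  have hΔB₂' : ∀ b : B, p₂ (ΔB b) = b := fun b => by
    change (ΔB ≫ p₂) b = b
    rw [hΔB₂]; rfl
  have hker : RingHom.ker f.toAlgHom ≤
      RingHom.ker (ΔB ≫ ArtFun.Art.quotMk P K hK).toAlgHom := by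
    intro b hb
    rw [RingHom.mem_ker] at hb ⊢
    change Ideal.Quotient.mk K (ΔB b) = 0
    refine (Ideal.Quotient.eq_zero_iff_mem (I := K)).2 (Ideal.subset_span ⟨?_, ?_⟩)
    · rw [hΔB₁', hΔB₂']
    · rw [hΔB₁']; exact hb
  have hfb := quotFactor_bijective_of_ker_eq (ker_le_maximalIdeal f) f hf.1 rfl
  haveI := isIso_of_bijective _ hfb
  let δ : A ⟶ ArtFun.Art.quot P K hK :=
    inv (ArtFun.Art.quotFactor (ker_le_maximalIdeal f) f le_rfl) ≫
      ArtFun.Art.quotFactor (ker_le_maximalIdeal f) (ΔB ≫ ArtFun.Art.quotMk P K hK) hker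
  have hfδ : f ≫ δ = ΔB ≫ ArtFun.Art.quotMk P K hK := by
    have e1 : f = ArtFun.Art.quotMk B _ (ker_le_maximalIdeal f) ≫
        ArtFun.Art.quotFactor (ker_le_maximalIdeal f) f le_rfl :=
      (ArtFun.Art.quotMk_quotFactor _ f le_rfl).symm
    conv_lhs => rw [e1]
    rw [Category.assoc, ← Category.assoc (ArtFun.Art.quotFactor (ker_le_maximalIdeal f) f le_rfl),
      IsIso.hom_inv_id, Category.id_comp, ArtFun.Art.quotMk_quotFactor]
  have hδΔ : δ ≫ ArtFun.Art.quotFactor hK r hKr = ΔA := by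
    -- cancel the surjection `f`
    apply ArtFun.Art.hom_ext
    apply AlgHom.ext
    intro a
    obtain ⟨b, rfl⟩ := hf.1 a
    have e2 : (f ≫ δ ≫ ArtFun.Art.quotFactor hK r hKr) b = (f ≫ ΔA) b := by
      rw [← Category.assoc, hfδ, Category.assoc, ArtFun.Art.quotMk_quotFactor]
      apply hQ.inj
      · change (ΔB ≫ r ≫ q₁) b = (f ≫ ΔA ≫ q₁) b
        rw [hr₁, ← Category.assoc, hΔB₁, hΔA₁]; rfl
      · change (ΔB ≫ r ≫ q₂) b = (f ≫ ΔA ≫ q₂) b
        rw [hr₂, ← Category.assoc, hΔB₂, hΔA₂]; rfl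
    exact e2
  refine ⟨F.map δ u, ?_⟩
  rw [← map_comp_app, hδΔ, ← hyΔ]

end Groth.Agent.S15134
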