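import Groth.Statements.S15135
import Mathlib

set_option autoImplicit false
universe u v
open Deform

namespace Groth.Agent.S15135

/-- For R-modules M ⊆ N, the first-order embedded deformations of M in N are in canonical bijection with
Hom_R(M, N/M). Writing N ⊗ k[ε] = N ⊕ εN as N × N (the pair (x, y) standing for x + εy), such a
deformation is an R-submodule L of N × N which is stable under multiplication by ε (if (x, y) ∈ L
then (0, x) ∈ L), reduces to M (x ∈ M exactly when (x, y) ∈ L for some y) and is flat over the dual
numbers, flatness being stated elementwise as: (0, y) ∈ L only if y ∈ M (for a submodule reducing to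
M this is the equality of the kernel and the image of ε on L, i.e. flatness over k[ε] when R is an
algebra over a field k). To φ : M → N/M corresponds the submodule of all (x, y) with x ∈ M and y ≡
φ(x) mod M. The first clause says this rule defines exactly one submodule for each φ; the second
says that a submodule has the three properties precisely when its membership is given by this rule
for some φ. (The published statement is a linear isomorphism t_G ≅ Hom_R(M, N/M) for the functor G
of flat deformations of M inside N ⊗ A over local Artinian algebras A; this row states only the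
underlying bijection, and the obstruction half is not stated here.) -/
theorem result
    (R : Type u) [CommRing R] (N : Type v) [AddCommGroup N] [Module R N] (M : Submodule R N) :
    (∀ φ : M →ₗ[R] (N ⧸ M), ∃! L : Submodule R (N × N),
        ∀ x y : N, (x, y) ∈ L ↔ ∃ h : x ∈ M, Submodule.Quotient.mk y = φ ⟨x, h⟩) ∧
    (∀ L : Submodule R (N × N),
      ((∀ x y : N, (x, y) ∈ L → ((0 : N), x) ∈ L) ∧
        (∀ x : N, x ∈ M ↔ ∃ y : N, (x, y) ∈ L) ∧
        (∀ y : N, ((0 : N), y) ∈ L → y ∈ M)) ↔
      ∃ φ : M →ₗ[R] (N ⧸ M), ∀ x y : N, (x, y) ∈ L ↔ ∃ h : x ∈ M, Submodule.Quotient.mk y = φ ⟨x, h⟩) := by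
  constructor
  · intro φ
    refine ⟨{ carrier := {p : N × N | ∃ h : p.1 ∈ M, Submodule.Quotient.mk p.2 = φ ⟨p.1, h⟩}
              add_mem' := ?_
              zero_mem' := ?_
              smul_mem' := ?_ }, ?_, ?_⟩
    · rintro ⟨x, y⟩ ⟨x', y'⟩ ⟨h, e⟩ ⟨h', e'⟩
      refine ⟨M.add_mem h h', ?_⟩
      show Submodule.Quotient.mk (y + y') = φ ⟨x + x', _⟩
      rw [Submodule.Quotient.mk_add, e, e', ← map_add]
      rfl
    · refine ⟨M.zero_mem, ?_⟩
      show Submodule.Quotient.mk (0 : N) = φ ⟨0, _⟩
      rw [Submodule.Quotient.mk_zero]
      exact (map_zero φ).symm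
    · rintro c ⟨x, y⟩ ⟨h, e⟩
      refine ⟨M.smul_mem c h, ?_⟩
      show Submodule.Quotient.mk (c • y) = φ ⟨c • x, _⟩
      rw [Submodule.Quotient.mk_smul, e, ← map_smul]
      rfl
    · intro x y
      exact Iff.rfl
    · intro L' hL'
      ext ⟨x, y⟩
      rw [hL' x y]
      exact Iff.rfl
  · intro L
    constructor
    · rintro ⟨ha, hb, hc⟩
      have hwd : ∀ x y y' : N, (x, y) ∈ L → (x, y') ∈ L →
          (Submodule.Quotient.mk y : N ⧸ M) = Submodule.Quotient.mk y' := by
        intro x y y' h1 h2
        rw [Submodule.Quotient.eq]
        apply hc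
        have := L.sub_mem h1 h2
        simpa using this
      have hex : ∀ x : M, ∃ y : N, ((x : N), y) ∈ L := fun x => (hb x).mp x.2
      have hφ : ∀ (x : M) (y : N), ((x : N), y) ∈ L →
          (Submodule.Quotient.mk (Classical.choose (hex x)) : N ⧸ M) = Submodule.Quotient.mk y :=
        fun x y hy => hwd _ _ _ (Classical.choose_spec (hex x)) hy
      refine ⟨{ toFun := fun x => Submodule.Quotient.mk (Classical.choose (hex x))
                map_add' := ?_
                map_smul' := ?_ }, ?_⟩
      · intro x x'
        have h1 := Classical.choose_spec (hex x)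
        have h2 := Classical.choose_spec (hex x')
        have h3 := L.add_mem h1 h2
        rw [← Submodule.Quotient.mk_add]
        exact hφ (x + x') _ h3
      · intro c x
        have h1 := Classical.choose_spec (hex x)
        have h3 := L.smul_mem c h1
        rw [RingHom.id_apply, ← Submodule.Quotient.mk_smul]
        exact hφ (c • x) _ h3
      · intro x y
        constructor
        · intro hxy
          have hxM : x ∈ M := (hb x).mpr ⟨y, hxy⟩
          exact ⟨hxM, (hφ ⟨x, hxM⟩ y hxy).symm⟩
        · rintro ⟨hxM, e⟩
          have h1 := Classical.choose_spec (hex ⟨x, hxM⟩)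
          have e' : (Submodule.Quotient.mk y : N ⧸ M) =
              Submodule.Quotient.mk (Classical.choose (hex ⟨x, hxM⟩)) := e
          rw [Submodule.Quotient.eq] at e'
          obtain ⟨z, hz⟩ := (hb _).mp e'
          have h2 := ha _ _ hz
          have h3 := L.add_mem h1 h2
          simpa using h3
    · rintro ⟨φ, hφ⟩
      refine ⟨?_, ?_, ?_⟩
      · intro x y hxy
        obtain ⟨hxM, _⟩ := (hφ x y).mp hxy
        rw [hφ]
        refine ⟨M.zero_mem, ?_⟩
        have : (⟨0, M.zero_mem⟩ : M) = 0 := rfl
        rw [this, map_zero, Submodule.Quotient.mk_eq_zero]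
        exact hxM
      · intro x
        constructor
        · intro hxM
          obtain ⟨y, hy⟩ := Submodule.Quotient.mk_surjective M (φ ⟨x, hxM⟩)
          exact ⟨y, (hφ x y).mpr ⟨hxM, hy⟩⟩
        · rintro ⟨y, hy⟩
          exact ((hφ x y).mp hy).1
      · intro y hy
        obtain ⟨h0, e⟩ := (hφ 0 y).mp hy
        have : (⟨0, h0⟩ : M) = 0 := rfl
        rw [this, map_zero, Submodule.Quotient.mk_eq_zero] at e
        exact e

end Groth.Agent.S15135
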