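import Groth.Statements.S15148
import Mathlib
import Groth.Agent.Lib.Helper9.SubQuotLen
import Groth.Agent.Lib.Helper9.SubQuotLen2
import Groth.Agent.S15149
-- import your own Groth.Agent.* helpers here

set_option autoImplicit false
universe u
open HilbZeta

namespace Groth.Agent.S15148

open Groth.Agent.Helper9.SubQuotLen
namespace Aux

open Groth.Agent.S15149.Aux

variable {k : Type u} [Field k] {s : ℕ}

/-- tuples whose `i`-th component is divisible by `x^{a_i}` -/
noncomputable def P (a : Fin s → ℕ) : Submodule k (Fin s → PowerSeries k) where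
  carrier := {f | ∀ i, PowerSeries.X ^ (a i) ∣ f i}
  add_mem' := fun hf hg i => dvd_add (hf i) (hg i)
  zero_mem' := fun i => dvd_zero _
  smul_mem' := fun t f hf i => by
    rw [Pi.smul_apply, Algebra.smul_def]
    exact Dvd.dvd.mul_left (hf i) _

theorem mem_P {a : Fin s → ℕ} {f : Fin s → PowerSeries k} :
    f ∈ P a ↔ ∀ i, PowerSeries.X ^ (a i) ∣ f i := Iff.rfl

theorem sqLen_P_top (a : Fin s → ℕ) :
    sqLen (P (k := k) a) ⊤ = ((∑ i, a i : ℕ) : ℕ∞) := by
  rw [sqLen_top]
  let φ : (Fin s → PowerSeries k) →ₗ[k] ((Σ i : Fin s, Fin (a i)) → k) :=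
    LinearMap.pi (fun p => (PowerSeries.coeff (p.2 : ℕ)).comp (LinearMap.proj p.1))
  have hφ : Function.Surjective φ := by
    intro t
    refine ⟨fun i => PowerSeries.mk fun m => if h : m < a i then t ⟨i, ⟨m, h⟩⟩ else 0, ?_⟩
    funext p
    obtain ⟨i, m, hm⟩ := p
    simp [φ, hm]
  have hker : LinearMap.ker φ = P a := by
    ext f
    rw [LinearMap.mem_ker, mem_P]
    constructor
    · intro h i
      rw [PowerSeries.X_pow_dvd_iff]
      intro m hm
      exact congrFun h ⟨i, ⟨m, hm⟩⟩
    · intro h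
      funext p
      obtain ⟨i, m, hm⟩ := p
      exact PowerSeries.X_pow_dvd_iff.mp (h i) m hm
  rw [← hker, (LinearMap.quotKerEquivOfSurjective φ hφ).length_eq, Module.length_eq_finrank,
    Module.finrank_fintype_fun_eq_card, Fintype.card_sigma]
  simp


variable {R : Subalgebra k (Fin s → PowerSeries k)}

theorem img_le_P (I : Ideal ↥R) (a : Fin s → ℕ)
    (ha : ∀ i : Fin s, Ideal.map (ev R i) I = Ideal.span {PowerSeries.X ^ (a i)}) :
    img R I ≤ P a := by
  intro f hf i
  obtain ⟨h, hfI⟩ := (mem_img R).mp hf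
  exact dvd_of_type i I (a i) (ha i) ⟨f, h⟩ hfI

theorem single_mem_img (c : Fin s → ℕ)
    (hc : ∀ f : Fin s → PowerSeries k,
      (∀ g : Fin s → PowerSeries k, g * f ∈ R) ↔ ∀ i, ((c i : ℕ) : ℕ∞) ≤ (f i).order)
    (I : Ideal ↥R) (i : Fin s) (y : PowerSeries k) (hy : y ∈ Ideal.map (ev R i) I) :
    ∀ u : PowerSeries k, PowerSeries.X ^ (c i) ∣ u → Pi.single i (u * y) ∈ img R I := by
  refine Submodule.span_induction (p := fun y _ => ∀ u : PowerSeries k,
    PowerSeries.X ^ (c i) ∣ u → Pi.single i (u * y) ∈ img R I) ?_ ?_ ?_ ?_ hy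
  · rintro _ ⟨f, hf, rfl⟩ u hu
    have h1 : Pi.single i u ∈ R := single_mem c hc i u hu
    have h2 : (⟨Pi.single i u, h1⟩ : ↥R) * f ∈ I := I.mul_mem_left _ hf
    have h3 : (Pi.single i (u * (ev R i) f) : Fin s → PowerSeries k) =
        ((⟨Pi.single i u, h1⟩ : ↥R) * f : ↥R) := by
      funext l
      simp only [MulMemClass.coe_mul, Pi.mul_apply]
      by_cases hl : l = i
      · subst hl
        rw [Pi.single_eq_same, Pi.single_eq_same]
        rfl
      · rw [Pi.single_eq_of_ne hl, Pi.single_eq_of_ne hl, zero_mul]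
    rw [h3]
    exact (mem_img R).mpr ⟨_, h2⟩
  · intro u _
    rw [mul_zero, Pi.single_zero]
    exact zero_mem _
  · intro x y _ _ hx hy u hu
    rw [mul_add, Pi.single_add]
    exact add_mem (hx u hu) (hy u hu)
  · intro b x _ hx u hu
    rw [smul_eq_mul, ← mul_assoc]
    exact hx (u * b) (Dvd.dvd.mul_right hu b)

theorem P_le_img (c : Fin s → ℕ)
    (hc : ∀ f : Fin s → PowerSeries k,
      (∀ g : Fin s → PowerSeries k, g * f ∈ R) ↔ ∀ i, ((c i : ℕ) : ℕ∞) ≤ (f i).order)
    (I : Ideal ↥R) (a : Fin s → ℕ)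
    (ha : ∀ i : Fin s, Ideal.map (ev R i) I = Ideal.span {PowerSeries.X ^ (a i)}) :
    P (fun i => a i + c i) ≤ img R I := by
  intro g hg
  rw [← Finset.univ_sum_single g]
  refine Submodule.sum_mem _ (fun i _ => ?_)
  obtain ⟨w, hw⟩ := hg i
  have h1 : g i = (PowerSeries.X ^ (c i) * w) * PowerSeries.X ^ (a i) := by
    rw [hw, pow_add]; ring
  rw [h1]
  refine single_mem_img c hc I i _ ?_ _ (Dvd.intro _ rfl)
  rw [ha i]
  exact Ideal.mem_span_singleton_self _

theorem c_eq_zero_of_eq (c : Fin s → ℕ) (I : Ideal ↥R) (a : Fin s → ℕ)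
    (ha : ∀ i : Fin s, Ideal.map (ev R i) I = Ideal.span {PowerSeries.X ^ (a i)})
    (heq : img R I = P (fun i => a i + c i)) (i : Fin s) : c i = 0 := by
  have h1 : Ideal.map (ev R i) I ≤ Ideal.span {PowerSeries.X ^ (a i + c i)} := by
    apply Ideal.span_le.mpr
    rintro _ ⟨f, hf, rfl⟩
    have h2 : (f : Fin s → PowerSeries k) ∈ P (fun i => a i + c i) := by
      rw [← heq]
      exact (mem_img R).mpr ⟨f.2, hf⟩
    exact Ideal.mem_span_singleton.mpr (h2 i)
  rw [ha i, Ideal.span_singleton_le_span_singleton] at h1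
  have h3 := (pow_dvd_pow_iff PowerSeries.X_ne_zero PowerSeries.X_prime.not_unit).mp h1
  omega

theorem eq_top_of_c_eq_zero (c : Fin s → ℕ)
    (hc : ∀ f : Fin s → PowerSeries k,
      (∀ g : Fin s → PowerSeries k, g * f ∈ R) ↔ ∀ i, ((c i : ℕ) : ℕ∞) ≤ (f i).order)
    (h0 : ∀ i, c i = 0) : R = ⊤ := by
  rw [eq_top_iff]
  intro g _
  have h1 := (hc 1).mpr (fun i => by rw [h0 i]; exact bot_le) g
  simpa using h1

theorem main (R : Subalgebra k (Fin s → PowerSeries k))
    (hfin : Module.Finite k ((Fin s → PowerSeries k) ⧸ Subalgebra.toSubmodule R))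
    (c : Fin s → ℕ)
    (hc : ∀ f : Fin s → PowerSeries k,
      (∀ g : Fin s → PowerSeries k, g * f ∈ R) ↔ ∀ i, ((c i : ℕ) : ℕ∞) ≤ (f i).order)
    (I : Ideal ↥R) (hI : Module.Finite k (↥R ⧸ I)) (a : Fin s → ℕ)
    (ha : (∀ i : Fin s, Ideal.map ((Pi.evalAlgHom k (fun _ : Fin s => PowerSeries k) i).comp R.val) I = Ideal.span {PowerSeries.X ^ (a i)})) :
    (∑ i, a i) ≤ Module.finrank k (↥R ⧸ I) + Module.finrank k ((Fin s → PowerSeries k) ⧸ Subalgebra.toSubmodule R) ∧
    Module.finrank k (↥R ⧸ I) + Module.finrank k ((Fin s → PowerSeries k) ⧸ Subalgebra.toSubmodule R) ≤ (∑ i, a i) + ∑ i, c i ∧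
    (R ≠ ⊤ → Module.finrank k (↥R ⧸ I) + Module.finrank k ((Fin s → PowerSeries k) ⧸ Subalgebra.toSubmodule R) < (∑ i, a i) + ∑ i, c i) := by
  have htot : sqLen (img R I) ⊤ = ((Module.finrank k (↥R ⧸ I) +
      Module.finrank k ((Fin s → PowerSeries k) ⧸ Subalgebra.toSubmodule R) : ℕ) : ℕ∞) := by
    rw [sqLen_add (img_le R I) le_top, ← length_quot_eq, sqLen_top, Module.length_eq_finrank,
      Module.length_eq_finrank]
    push_cast
    rfl
  have h1 : sqLen (P (k := k) a) ⊤ ≤ sqLen (img R I) ⊤ :=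
    sqLen_le_of_le (img_le_P I a ha) le_top le_rfl
  have h2 : sqLen (img R I) ⊤ ≤ sqLen (P (k := k) (fun i => a i + c i)) ⊤ :=
    sqLen_le_of_le (P_le_img c hc I a ha) le_top le_rfl
  rw [htot, sqLen_P_top] at h1 h2
  rw [Finset.sum_add_distrib] at h2
  refine ⟨by exact_mod_cast h1, by exact_mod_cast h2, fun hR => ?_⟩
  have h3 := sqLen_add (P_le_img c hc I a ha) (le_top : img R I ≤ ⊤)
  rw [htot, sqLen_P_top, Finset.sum_add_distrib] at h3
  have h4 : sqLen (P (k := k) (fun i => a i + c i)) (img R I) ≠ 0 := by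
    intro h0
    apply hR
    apply eq_top_of_c_eq_zero c hc
    apply c_eq_zero_of_eq c I a ha
    apply le_antisymm _ (P_le_img c hc I a ha)
    -- from length zero
    unfold sqLen at h0
    rw [Module.length_eq_zero_iff] at h0
    intro f hf
    have h5 : (Submodule.Quotient.mk ⟨f, hf⟩ :
        ↥(img R I) ⧸ (P (k := k) (fun i => a i + c i)).submoduleOf (img R I)) = 0 :=
      Subsingleton.elim _ _
    rw [Submodule.Quotient.mk_eq_zero] at h5
    exact h5
  have h5 : (1 : ℕ∞) ≤ sqLen (P (k := k) (fun i => a i + c i)) (img R I) :=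
    Order.one_le_iff_pos.mpr (pos_iff_ne_zero.mpr h4)
  have h6 : ((Module.finrank k (↥R ⧸ I) +
      Module.finrank k ((Fin s → PowerSeries k) ⧸ Subalgebra.toSubmodule R) : ℕ) : ℕ∞) + 1 ≤
      ((∑ i, a i + ∑ i, c i : ℕ) : ℕ∞) := by
    rw [h3, add_comm]
    exact add_le_add_left h5 _
  have h7 : Module.finrank k (↥R ⧸ I) +
      Module.finrank k ((Fin s → PowerSeries k) ⧸ Subalgebra.toSubmodule R) + 1 ≤
      ∑ i, a i + ∑ i, c i := by exact_mod_cast h6
  omega

end Aux

/-- Let k be a field, s a natural number and R a k-subalgebra of the product of s copies of the power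
series ring k[[x]], of finite codimension δ over k and local with residue field k (all components of
an element of R have the same constant term); write v_i for the x-adic order of the i-th component
of an s-tuple, and let c = (c_1, …, c_s) be the conductor exponents, so that an s-tuple f satisfies
f·g ∈ R for every s-tuple g exactly when v_i(f) ≥ c_i for all i (over an algebraically closed field
such an R is precisely the completed local ring of a reduced curve singularity having s branches
sitting inside its normalisation, δ is its delta invariant and the conductor ideal is generated by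
the x_i^{c_i}), and put C = c_1 + ⋯ + c_s. Let I be an ideal of R of finite colength d with
branch-length vector a (for every i the ideal of k[[x]] generated by the i-th components of the
elements of I is (x^{a_i})). Then −δ ≤ d − Σ a_i ≤ C − δ, and the second inequality is strict when R
is not the whole product (the singularity is not smooth). (The published statement is over an
algebraically closed field; this row allows any field.) -/
theorem result (k : Type u) [Field k] (s : ℕ)
    (R : Subalgebra k (Fin s → PowerSeries k))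
    (hfin : Module.Finite k ((Fin s → PowerSeries k) ⧸ Subalgebra.toSubmodule R))
    (hloc : ∀ f ∈ R, ∀ i j : Fin s, PowerSeries.constantCoeff (f i) = PowerSeries.constantCoeff (f j))
    (c : Fin s → ℕ)
    (hc : ∀ f : Fin s → PowerSeries k,
      (∀ g : Fin s → PowerSeries k, g * f ∈ R) ↔ ∀ i, ((c i : ℕ) : ℕ∞) ≤ (f i).order)
    (I : Ideal ↥R) (hI : Module.Finite k (↥R ⧸ I)) (a : Fin s → ℕ)
    (ha : (∀ i : Fin s, Ideal.map ((Pi.evalAlgHom k (fun _ : Fin s => PowerSeries k) i).comp R.val) I = Ideal.span {PowerSeries.X ^ (a i)})) :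
    (∑ i, a i) ≤ Module.finrank k (↥R ⧸ I) + Module.finrank k ((Fin s → PowerSeries k) ⧸ Subalgebra.toSubmodule R) ∧
    Module.finrank k (↥R ⧸ I) + Module.finrank k ((Fin s → PowerSeries k) ⧸ Subalgebra.toSubmodule R) ≤ (∑ i, a i) + ∑ i, c i ∧
    (R ≠ ⊤ → Module.finrank k (↥R ⧸ I) + Module.finrank k ((Fin s → PowerSeries k) ⧸ Subalgebra.toSubmodule R) < (∑ i, a i) + ∑ i, c i) := by
  exact Aux.main R hfin c hc I hI a ha

end Groth.Agent.S15148
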