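import Groth.Statements.S15152
import Mathlib
-- import your own Groth.Agent.* helpers here

set_option autoImplicit false
universe u
open HilbZeta

namespace Groth.Agent.S15152

namespace Aux

open Polynomial

variable {k : Type u} [Field k] {s : ℕ}

section gen
/-- the product of polynomial rings is a finitely generated algebra -/
theorem single_mem_adjoin (i : Fin s) (p : Polynomial k) :
    (Pi.single i p : Fin s → Polynomial k) ∈ Algebra.adjoin k
      (Set.range (fun i : Fin s => (Pi.single i 1 : Fin s → Polynomial k)) ∪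
        Set.range (fun i : Fin s => (Pi.single i X : Fin s → Polynomial k))) := by
  induction p using Polynomial.induction_on' with
  | add p q hp hq =>
    rw [Pi.single_add]
    exact add_mem hp hq
  | monomial n a =>
    have h1 : (Pi.single i (monomial n a) : Fin s → Polynomial k) =
        a • ((Pi.single i 1 : Fin s → Polynomial k) * (Pi.single i X) ^ n) := by
      funext j
      by_cases hj : j = i
      · subst hj
        simp [← Polynomial.C_mul_X_pow_eq_monomial, Polynomial.smul_eq_C_mul]
      · simp [Pi.single_eq_of_ne hj]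
    rw [h1]
    refine Subalgebra.smul_mem _ (mul_mem ?_ (pow_mem ?_ n)) a
    · exact Algebra.subset_adjoin (Or.inl ⟨i, rfl⟩)
    · exact Algebra.subset_adjoin (Or.inr ⟨i, rfl⟩)

theorem top_fg : (⊤ : Subalgebra k (Fin s → Polynomial k)).FG := by
  rw [Subalgebra.fg_def]
  refine ⟨Set.range (fun i : Fin s => (Pi.single i 1 : Fin s → Polynomial k)) ∪
        Set.range (fun i : Fin s => (Pi.single i X : Fin s → Polynomial k)),
    (Set.finite_range _).union (Set.finite_range _), ?_⟩
  rw [eq_top_iff]
  intro g _
  rw [← Finset.univ_sum_single g]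
  exact sum_mem (fun i _ => single_mem_adjoin i (g i))

end gen

section main
variable (R : Subalgebra k (Fin s → PowerSeries k))
  (hloc : ∀ f ∈ R, ∀ i j : Fin s, PowerSeries.constantCoeff (f i) = PowerSeries.constantCoeff (f j))
  (c : Fin s → ℕ)
  (hc : ∀ f : Fin s → PowerSeries k,
      (∀ g : Fin s → PowerSeries k, g * f ∈ R) ↔ ∀ i, ((c i : ℕ) : ℕ∞) ≤ (f i).order)
  (A : Subalgebra k (Fin s → Polynomial k))
  (hA : ∀ g : Fin s → Polynomial k, g ∈ A ↔ (fun i => ((g i : Polynomial k) : PowerSeries k)) ∈ R)

include hc hA in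
theorem cond (g : Fin s → Polynomial k) (hg : ∀ i, X ^ c i ∣ g i) : g ∈ A := by
  rw [hA]
  have h1 : ∀ i, ((c i : ℕ) : ℕ∞) ≤ ((g i : PowerSeries k)).order := by
    intro i
    obtain ⟨q, hq⟩ := hg i
    apply PowerSeries.le_order
    intro m hm
    rw [Polynomial.coeff_coe, hq, Polynomial.coeff_X_pow_mul']
    have : m < c i := by exact_mod_cast hm
    rw [if_neg (by omega)]
  have h2 := (hc (fun i => (g i : PowerSeries k))).mpr h1 1
  simpa using h2

include hc hA in
theorem finite_over : Module.Finite ↥A (Fin s → Polynomial k) := by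
  classical
  refine ⟨(Submodule.fg_def).mpr ⟨{1} ∪ Set.range (fun p : (Σ i : Fin s, Fin (c i)) =>
    (Pi.single p.1 (X ^ (p.2 : ℕ)) : Fin s → Polynomial k)),
    (Set.finite_singleton _).union (Set.finite_range _), ?_⟩⟩
  rw [eq_top_iff]
  intro g _
  set T : Set (Fin s → Polynomial k) := {1} ∪ Set.range (fun p : (Σ i : Fin s, Fin (c i)) =>
    (Pi.single p.1 (X ^ (p.2 : ℕ)) : Fin s → Polynomial k)) with hT
  -- elements of the conductor
  have hC : ∀ g : Fin s → Polynomial k, (∀ i, X ^ c i ∣ g i) → g ∈ Submodule.span ↥A T := by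
    intro g hg
    have h1 : g = (⟨g, cond R c hc A hA g hg⟩ : ↥A) • (1 : Fin s → Polynomial k) := by
      rw [Subalgebra.smul_def, smul_eq_mul, mul_one]
    rw [h1]
    exact Submodule.smul_mem _ _ (Submodule.subset_span (Or.inl rfl))
  have hk : ∀ (a : k) (x : Fin s → Polynomial k), x ∈ Submodule.span ↥A T →
      a • x ∈ Submodule.span ↥A T := by
    intro a x hx
    rw [← algebraMap_smul ↥A a x]
    exact Submodule.smul_mem _ _ hx
  rw [← Finset.univ_sum_single g]
  refine sum_mem (fun i _ => ?_)
  have h2 : g i = g i %ₘ (X ^ c i) + X ^ c i * (g i /ₘ (X ^ c i)) :=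
    (Polynomial.modByMonic_add_div (g i) (X ^ c i)).symm
  rw [h2, Pi.single_add]
  refine add_mem ?_ ?_
  · -- low degree part
    have hdeg : (g i %ₘ (X ^ c i)).degree < (c i : WithBot ℕ) := by
      have := Polynomial.degree_modByMonic_lt (g i) (Polynomial.monic_X_pow (R := k) (c i))
      rwa [Polynomial.degree_X_pow] at this
    set r := g i %ₘ (X ^ c i) with hr
    have h3 : r = ∑ n : Fin (c i), (r.coeff (n : ℕ)) • (X : Polynomial k) ^ (n : ℕ) := by
      ext m
      rw [Polynomial.finsetSum_coeff]
      simp only [Polynomial.coeff_smul, Polynomial.coeff_X_pow, smul_eq_mul, mul_ite, mul_one,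
        mul_zero]
      by_cases hm : m < c i
      · rw [Finset.sum_eq_single (⟨m, hm⟩ : Fin (c i))]
        · simp
        · intro b _ hb
          have : m ≠ (b : ℕ) := fun h => hb (Fin.ext h.symm)
          rw [if_neg this]
        · intro h; exact absurd (Finset.mem_univ _) h
      · rw [Polynomial.coeff_eq_zero_of_degree_lt (lt_of_lt_of_le hdeg (by exact_mod_cast not_lt.mp hm))]
        symm
        refine Finset.sum_eq_zero (fun b _ => ?_)
        have : m ≠ (b : ℕ) := by
          have := b.2
          omega
        rw [if_neg this]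
    rw [h3]
    have h4 : (Pi.single i (∑ n : Fin (c i), (r.coeff (n : ℕ)) • (X : Polynomial k) ^ (n : ℕ)) :
        Fin s → Polynomial k) = ∑ n : Fin (c i), (r.coeff (n : ℕ)) •
          (Pi.single i (X ^ (n : ℕ)) : Fin s → Polynomial k) := by
      funext j
      by_cases hj : j = i
      · subst hj
        simp [Finset.sum_apply]
      · simp [Pi.single_eq_of_ne hj, Finset.sum_apply]
    rw [h4]
    refine sum_mem (fun n _ => hk _ _ (Submodule.subset_span (Or.inr ⟨⟨i, n⟩, rfl⟩)))
  · apply hC
    intro j
    by_cases hj : j = i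
    · subst hj
      rw [Pi.single_eq_same]
      exact Dvd.intro _ rfl
    · rw [Pi.single_eq_of_ne hj]
      exact dvd_zero _

include hc hA in
theorem finiteType : Algebra.FiniteType k ↥A := by
  haveI := finite_over R c hc A hA
  exact ⟨fg_of_fg_of_fg k ↥A (Fin s → Polynomial k) top_fg Module.Finite.fg_top
    Subtype.val_injective⟩

include hloc hA in
theorem idem (e : Fin s → Polynomial k) (heA : e ∈ A) (he : e * e = e) : e = 0 ∨ e = 1 := by
  have h1 : ∀ i, e i = 0 ∨ e i = 1 := by
    intro i
    have : IsIdempotentElem (e i) := congrFun he i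
    exact IsIdempotentElem.iff_eq_zero_or_one.mp this
  have h2 : ∀ i j, (e i).coeff 0 = (e j).coeff 0 := by
    intro i j
    have := hloc _ ((hA e).mp heA) i j
    simpa [Polynomial.coeff_zero_eq_eval_zero] using this
  rcases Nat.eq_zero_or_pos s with hs | hs
  · subst hs
    left
    funext i
    exact i.elim0
  · let i₀ : Fin s := ⟨0, hs⟩
    rcases h1 i₀ with h0 | h0
    · left
      funext j
      rcases h1 j with hj | hj
      · exact hj
      · exfalso
        have := h2 i₀ j
        rw [h0, hj] at this
        simp at this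
    · right
      funext j
      rcases h1 j with hj | hj
      · exfalso
        have := h2 i₀ j
        rw [h0, hj] at this
        simp at this
      · exact hj

include hc hA in
theorem prod_mem : ∃ N : ℕ, ∀ g : Fin N → (Fin s → Polynomial k),
      (∀ n, g n ∈ A ∧ ∀ i, (g n i).coeff 0 = 0) → ∀ p : Fin s → Polynomial k, p * ∏ n, g n ∈ A := by
  refine ⟨∑ i, c i, fun g hg p => cond R c hc A hA _ (fun i => ?_)⟩
  rw [Pi.mul_apply, Finset.prod_apply]
  refine Dvd.dvd.mul_left ?_ _
  have h1 : (X : Polynomial k) ^ (∑ i, c i) ∣ ∏ n : Fin (∑ i, c i), g n i := by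
    have h2 : ∏ _n : Fin (∑ i, c i), (X : Polynomial k) ∣ ∏ n : Fin (∑ i, c i), g n i :=
      Finset.prod_dvd_prod_of_dvd _ _ (fun n _ => Polynomial.X_dvd_iff.mpr ((hg n).2 i))
    simpa using h2
  exact dvd_trans (pow_dvd_pow _ (Finset.single_le_sum (fun _ _ => Nat.zero_le _)
    (Finset.mem_univ i))) h1

include hc hA in
theorem approx (f : Fin s → PowerSeries k) (hf : f ∈ R) (N : ℕ) :
    ∃ g ∈ A, ∀ i : Fin s, (N : ℕ∞) ≤ (f i - ((g i : Polynomial k) : PowerSeries k)).order := by
  set M := N + ∑ i, c i with hM
  have hord : ∀ i, ((M : ℕ) : ℕ∞) ≤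
      (f i - ((PowerSeries.trunc M (f i) : Polynomial k) : PowerSeries k)).order := by
    intro i
    apply PowerSeries.le_order
    intro m hm
    have hm' : m < M := by exact_mod_cast hm
    rw [map_sub, Polynomial.coeff_coe, PowerSeries.coeff_trunc, if_pos hm', sub_self]
  refine ⟨fun i => PowerSeries.trunc M (f i), ?_, fun i => le_trans (by exact_mod_cast (by omega)) (hord i)⟩
  rw [hA]
  have h1 : ∀ i, ((c i : ℕ) : ℕ∞) ≤
      (f i - ((PowerSeries.trunc M (f i) : Polynomial k) : PowerSeries k)).order := by
    intro i
    refine le_trans ?_ (hord i)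
    have : c i ≤ M := by
      have := Finset.single_le_sum (f := c) (fun _ _ => Nat.zero_le _) (Finset.mem_univ i)
      omega
    exact_mod_cast this
  have h2 := (hc (fun i => f i - ((PowerSeries.trunc M (f i) : Polynomial k) : PowerSeries k))).mpr h1 1
  rw [one_mul] at h2
  have h3 : (fun i => ((PowerSeries.trunc M (f i) : Polynomial k) : PowerSeries k)) =
      f - (fun i => f i - ((PowerSeries.trunc M (f i) : Polynomial k) : PowerSeries k)) := by
    funext i
    simp
  rw [h3]
  exact R.sub_mem hf h2

include hc hA in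
theorem pow_mem (N : ℕ) : ∃ M : ℕ, ∀ g : ↥A,
    (∀ i : Fin s, Polynomial.X ^ M ∣ (g : Fin s → Polynomial k) i) →
      g ∈ (Ideal.span {h : ↥A | ∀ i : Fin s, ((h : Fin s → Polynomial k) i).coeff 0 = 0}) ^ N := by
  set K := ∑ i, c i with hK
  refine ⟨N * (K + 1), fun g hg => ?_⟩
  rcases Nat.eq_zero_or_pos N with hN | hN
  · subst hN
    rw [pow_zero, Ideal.one_eq_top]
    trivial
  choose q hq using hg
  have hcK : ∀ i, c i ≤ K + 1 := by
    intro i
    have := Finset.single_le_sum (f := c) (fun _ _ => Nat.zero_le _) (Finset.mem_univ i)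
    omega
  set U : Fin s → Polynomial k := fun _ => X ^ (K + 1) with hU
  have hUA : U ∈ A := cond R c hc A hA U (fun i => pow_dvd_pow _ (hcK i))
  have hUqA : U * q ∈ A := cond R c hc A hA (U * q) (fun i => by
    rw [Pi.mul_apply]
    exact Dvd.dvd.mul_right (pow_dvd_pow _ (hcK i)) _)
  have hg' : g = (⟨U, hUA⟩ : ↥A) ^ (N - 1) * ⟨U * q, hUqA⟩ := by
    apply Subtype.ext
    funext i
    show (g : Fin s → Polynomial k) i = (U ^ (N - 1) * (U * q)) i
    rw [hq i, Pi.mul_apply, Pi.pow_apply, Pi.mul_apply, hU]
    simp only
    rw [← mul_assoc, ← pow_mul, ← pow_add]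
    congr 2
    obtain ⟨N', rfl⟩ : ∃ N', N = N' + 1 := ⟨N - 1, by omega⟩
    simp only [Nat.add_sub_cancel]
    ring
  have h0 : ∀ m : ℕ, (X ^ (K + 1) : Polynomial k).coeff 0 = 0 := by
    intro _
    rw [Polynomial.coeff_X_pow, if_neg (by omega)]
  have hUm : (⟨U, hUA⟩ : ↥A) ∈ Ideal.span {h : ↥A | ∀ i : Fin s,
      ((h : Fin s → Polynomial k) i).coeff 0 = 0} := by
    apply Ideal.subset_span
    intro i
    exact h0 0
  have hUqm : (⟨U * q, hUqA⟩ : ↥A) ∈ Ideal.span {h : ↥A | ∀ i : Fin s,
      ((h : Fin s → Polynomial k) i).coeff 0 = 0} := by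
    apply Ideal.subset_span
    intro i
    show ((U * q) i).coeff 0 = 0
    rw [Pi.mul_apply, Polynomial.mul_coeff_zero, h0 0, zero_mul]
  rw [hg']
  have h6 := Ideal.mul_mem_mul (Ideal.pow_mem_pow hUm (N - 1)) hUqm
  rw [← pow_succ] at h6
  have h5 : N - 1 + 1 = N := by omega
  rw [h5] at h6
  exact h6


end main

end Aux

/-- Let k be a field, s a natural number and R a k-subalgebra of the product of s copies of the power
series ring k[[x]], of finite codimension δ over k and local with residue field k (all components of
an element of R have the same constant term); write v_i for the x-adic order of the i-th component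
of an s-tuple, and let c = (c_1, …, c_s) be the conductor exponents, so that an s-tuple f satisfies
f·g ∈ R for every s-tuple g exactly when v_i(f) ≥ c_i for all i (over an algebraically closed field
such an R is precisely the completed local ring of a reduced curve singularity having s branches
sitting inside its normalisation, δ is its delta invariant and the conductor ideal is generated by
the x_i^{c_i}). Let A be the k-subalgebra of the product of s polynomial rings k[x] consisting of
the tuples whose image in the power series product lies in R, and m₀ its ideal of tuples with zero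
constant terms. Then: A is of finite type over k and has no idempotents besides 0 and 1; the product
of polynomial rings is a finite A-module, and for some N every product of N elements of m₀
multiplies all of it into A; every element of R is approximated to any x-adic order by elements of
A; and for every N there is an M such that every element of A whose components are all divisible by
x^M lies in m₀^N. In words: Y = Spec A is a connected affine curve whose normalisation is the
disjoint union of s affine lines and is an isomorphism away from the origin, and the completed local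
ring of Y at the origin is R, compatibly with the inclusion of the polynomial product in the power
series product. (The published statement asserts the existence of such a curve Y and is over an
algebraically closed field; this row names Y and allows any field.) -/
theorem result (k : Type u) [Field k] (s : ℕ)
    (R : Subalgebra k (Fin s → PowerSeries k))
    (hfin : Module.Finite k ((Fin s → PowerSeries k) ⧸ Subalgebra.toSubmodule R))
    (hloc : ∀ f ∈ R, ∀ i j : Fin s, PowerSeries.constantCoeff (f i) = PowerSeries.constantCoeff (f j))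
    (c : Fin s → ℕ)
    (hc : ∀ f : Fin s → PowerSeries k,
      (∀ g : Fin s → PowerSeries k, g * f ∈ R) ↔ ∀ i, ((c i : ℕ) : ℕ∞) ≤ (f i).order)
    (A : Subalgebra k (Fin s → Polynomial k))
    (hA : ∀ g : Fin s → Polynomial k, g ∈ A ↔ (fun i => ((g i : Polynomial k) : PowerSeries k)) ∈ R) :
    Algebra.FiniteType k ↥A ∧
    (∀ e ∈ A, e * e = e → e = 0 ∨ e = 1) ∧
    Module.Finite ↥A (Fin s → Polynomial k) ∧
    (∃ N : ℕ, ∀ g : Fin N → (Fin s → Polynomial k),
      (∀ n, g n ∈ A ∧ ∀ i, (g n i).coeff 0 = 0) → ∀ p : Fin s → Polynomial k, p * ∏ n, g n ∈ A) ∧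
    (∀ f ∈ R, ∀ N : ℕ, ∃ g ∈ A, ∀ i : Fin s, (N : ℕ∞) ≤ (f i - ((g i : Polynomial k) : PowerSeries k)).order) ∧
    (∀ N : ℕ, ∃ M : ℕ, ∀ g : ↥A, (∀ i : Fin s, Polynomial.X ^ M ∣ (g : Fin s → Polynomial k) i) →
      g ∈ (Ideal.span {h : ↥A | ∀ i : Fin s, ((h : Fin s → Polynomial k) i).coeff 0 = 0}) ^ N) := by
  exact ⟨Aux.finiteType R c hc A hA, fun e heA he => Aux.idem R hloc A hA e heA he, Aux.finite_over R c hc A hA, Aux.prod_mem R c hc A hA, fun f hf N => Aux.approx R c hc A hA f hf N, fun N => Aux.pow_mem R c hc A hA N⟩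

end Groth.Agent.S15152
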