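import Groth.Statements.S15159
import Mathlib
import Groth.Agent.Lib.Helper5.LinAlg.NumCrit

set_option autoImplicit false
open CAlg

open Groth.Agent.Helper5.NumCrit

namespace Groth.Agent.S15159

/-- Let W be a finite-dimensional complex vector space with an involution s, H a finite-dimensional
complex vector space and q : H → H → W a nonzero bilinear map with q(x)(y) = s(q(y)(x)). Write V^⊥ =
{x | q(x)(y) = 0 for all y ∈ V} and call V totally isotropic when q vanishes on V × V. The pair (H,
q) is semistable (dim V + dim V^⊥ ≤ dim H for every nonzero totally isotropic subspace V),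
respectively stable (strict inequality), if and only if the line of q is semistable, respectively
stable, for the action of SL(H), the latter being expressed through one-parameter subgroups: for
every decomposition H = ⊕_i H_i into subspaces with integer weights m_i such that Σ_i m_i dim H_i =
0 and some nonzero H_i has nonzero weight, there are indices i, j with q(H_i, H_j) ≠ 0 and m_i + m_j
≤ 0, respectively m_i + m_j < 0. (The published statement speaks of semistability and stability of
the point of the projective space of such forms under SL(H); this row states the numerical condition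
on one-parameter subgroups to which that is equivalent and which the published argument verifies.) -/
theorem result
    (W : Type) [AddCommGroup W] [Module ℂ W] [FiniteDimensional ℂ W]
    (s : W →ₗ[ℂ] W) (hs : s ∘ₗ s = LinearMap.id)
    (H : Type) [AddCommGroup H] [Module ℂ H] [FiniteDimensional ℂ H]
    (q : H →ₗ[ℂ] H →ₗ[ℂ] W) (hq : ∀ x y : H, q x y = s (q y x)) (hq0 : q ≠ 0) :
    ((∀ V : Submodule ℂ H, V ≠ ⊥ → (∀ x ∈ V, ∀ y ∈ V, q x y = 0) →
        Module.finrank ℂ V + Module.finrank ℂ ↥(⨅ (y : H) (_ : y ∈ V), LinearMap.ker (q.flip y) : Submodule ℂ H) ≤ Module.finrank ℂ H) ↔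
      (∀ (ι : Type) [Fintype ι] [DecidableEq ι] (Hs : ι → Submodule ℂ H) (m : ι → ℤ),
        DirectSum.IsInternal Hs → (∑ i, m i * (Module.finrank ℂ (Hs i) : ℤ)) = 0 →
        (∃ i, m i ≠ 0 ∧ Hs i ≠ ⊥) →
        ∃ i j, (∃ x ∈ Hs i, ∃ y ∈ Hs j, q x y ≠ 0) ∧ m i + m j ≤ 0)) ∧
    ((∀ V : Submodule ℂ H, V ≠ ⊥ → (∀ x ∈ V, ∀ y ∈ V, q x y = 0) →
        Module.finrank ℂ V + Module.finrank ℂ ↥(⨅ (y : H) (_ : y ∈ V), LinearMap.ker (q.flip y) : Submodule ℂ H) < Module.finrank ℂ H) ↔
      (∀ (ι : Type) [Fintype ι] [DecidableEq ι] (Hs : ι → Submodule ℂ H) (m : ι → ℤ),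
        DirectSum.IsInternal Hs → (∑ i, m i * (Module.finrank ℂ (Hs i) : ℤ)) = 0 →
        (∃ i, m i ≠ 0 ∧ Hs i ≠ ⊥) →
        ∃ i j, (∃ x ∈ Hs i, ∃ y ∈ Hs j, q x y ≠ 0) ∧ m i + m j < 0)) := by
  have hsym : ∀ x y, q x y = 0 → q y x = 0 := by
    intro x y h
    rw [hq y x, h, map_zero]
  have hHpos : 0 < Module.finrank ℂ H := by
    rw [Module.finrank_pos_iff]
    by_contra hnt
    rw [not_nontrivial_iff_subsingleton] at hnt
    apply hq0
    ext x y
    rw [Subsingleton.elim x 0, map_zero]
    simp
  have hperp : ∀ V : Submodule ℂ H,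
      (⨅ (y : H) (_ : y ∈ V), LinearMap.ker (q.flip y) : Submodule ℂ H) = perp q V := fun _ => rfl
  refine ⟨⟨?_, ?_⟩, ⟨?_, ?_⟩⟩
  · intro hA ι _ _ Hs m hint hsum hex
    by_contra hcon
    push Not at hcon
    refine ss_dir q Hs hint m ?_ hHpos hsum ?_
    · intro V hV0 hV
      have := hA V hV0 hV
      rwa [hperp] at this
    · intro i j hij
      exact hcon i j hij
  · intro hB V hV0 hV
    rw [hperp]
    exact ss_conv q hsym hq0 (fun Hs m hint hsum hex => hB (Fin 3) Hs m hint hsum hex) V hV0 hV
  · intro hA ι _ _ Hs m hint hsum hex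
    by_contra hcon
    push Not at hcon
    refine st_dir q Hs hint m ?_ hsum hex ?_
    · intro V hV0 hV
      have := hA V hV0 hV
      rwa [hperp] at this
    · intro i j hij
      exact hcon i j hij
  · intro hB V hV0 hV
    rw [hperp]
    exact st_conv q hsym hq0 (fun Hs m hint hsum hex => hB (Fin 3) Hs m hint hsum hex) V hV0 hV

end Groth.Agent.S15159
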