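import Groth.Statements.S15164
import Mathlib

set_option autoImplicit false
universe u v
open BddFin

namespace Groth.Agent.S15164

/-- Let K be a field of characteristic p > 2, V a finite-dimensional K-vector space and q a quadratic
form on V that does not represent zero (q x = 0 only for x = 0). Then the group of K-linear
automorphisms of V preserving q has no element of order p: if g preserves q and g ^ p = 1 then g =
1. (Non-degeneracy of q, also assumed in the published statement, follows from anisotropy since 2 is
invertible, so it is not repeated here.) -/
theorem result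
    (K : Type u) [Field K] (p : ℕ) [Fact p.Prime] [CharP K p] (hp : p ≠ 2)
    (V : Type v) [AddCommGroup V] [Module K V] [FiniteDimensional K V]
    (q : QuadraticForm K V) (hq : q.Anisotropic)
    (g : V ≃ₗ[K] V) (hg : ∀ x : V, q (g x) = q x) (hgp : g ^ p = 1) : g = 1 := by
  have h2 : (2 : K) ≠ 0 := by
    intro h
    have h' : ((2 : ℕ) : K) = 0 := by exact_mod_cast h
    rw [CharP.cast_eq_zero_iff K p 2] at h'
    have := (Nat.prime_dvd_prime_iff_eq (Fact.out : p.Prime) Nat.prime_two).mp h'
    exact hp this
  -- the endomorphism attached to g
  have hGp : (g : Module.End K V) ^ p = 1 := by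
    have := congrArg (LinearEquiv.automorphismGroup.toLinearMapMonoidHom (R := K) (M := V)) hgp
    rwa [map_pow, map_one] at this
  have hNp : ((g : Module.End K V) - 1) ^ p = 0 := by
    have hpoly : ((Polynomial.X : Polynomial K) - 1) ^ p = Polynomial.X ^ p - 1 := by
      rw [sub_pow_char, one_pow]
    have := congrArg (Polynomial.aeval (g : Module.End K V)) hpoly
    simp only [map_pow, map_sub, Polynomial.aeval_X, map_one] at this
    rw [this, hGp, sub_self]
  -- key: the kernel of N^2 equals the kernel of N
  have key : ∀ u : V, ((g : Module.End K V) - 1) (((g : Module.End K V) - 1) u) = 0 →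
      ((g : Module.End K V) - 1) u = 0 := by
    intro u hu
    have hw : ((g : Module.End K V) - 1) u = g u - u := rfl
    rw [hw] at hu ⊢
    have hgw : g (g u - u) = g u - u := by
      have : ((g : Module.End K V) - 1) (g u - u) = g (g u - u) - (g u - u) := rfl
      rw [this] at hu
      exact sub_eq_zero.mp hu
    have hgu : g u = u + (g u - u) := by abel
    have e1 : q (u + (g u - u)) = q u := by rw [← hgu]; exact hg u
    have e2 : q (u + ((g u - u) + (g u - u))) = q u := by
      have : u + ((g u - u) + (g u - u)) = g (g u) := by
        have h3 : g (g u) = g (u + (g u - u)) := by rw [← hgu]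
        rw [h3, map_add, hgw]; abel
      rw [this, hg, hg]
    rw [QuadraticMap.map_add q] at e1 e2
    rw [QuadraticMap.polar_add_right] at e2
    have e3 : q ((g u - u) + (g u - u)) = 4 * q (g u - u) := by
      rw [← two_smul K (g u - u), QuadraticMap.map_smul]
      simp only [smul_eq_mul]; ring
    rw [e3] at e2
    have e4 : 2 * q (g u - u) = 0 := by linear_combination e2 - 2 * e1
    have e5 : q (g u - u) = 0 := (mul_eq_zero.mp e4).resolve_left h2
    exact hq _ e5
  have step : ∀ k : ℕ, ((g : Module.End K V) - 1) ^ (k + 1) = 0 → ((g : Module.End K V) - 1) = 0 := by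
    intro k
    induction k with
    | zero => intro h; simpa using h
    | succ k ih =>
      intro h
      apply ih
      apply LinearMap.ext
      intro x
      rw [pow_succ', Module.End.mul_apply]
      apply key
      have := LinearMap.congr_fun h x
      rw [pow_succ', pow_succ', Module.End.mul_apply, Module.End.mul_apply] at this
      exact this
  have hN : ((g : Module.End K V) - 1) = 0 := by
    have hp1 : p = (p - 1) + 1 := (Nat.succ_pred_eq_of_pos (Fact.out : p.Prime).pos).symm
    rw [hp1] at hNp
    exact step _ hNp
  apply LinearEquiv.ext
  intro x
  have := LinearMap.congr_fun hN x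
  have h5 : ((g : Module.End K V) - 1) x = g x - x := rfl
  rw [h5] at this
  exact sub_eq_zero.mp this

end Groth.Agent.S15164
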