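import Groth.Statements.S15166
import Mathlib

set_option autoImplicit false
universe u v
open Polynomial
open BddFin

namespace Groth.Agent.S15166

section
open Polynomial

section step1
variable {K : Type u} [Field K] {V : Type v} [AddCommGroup V] [Module K V]

theorem polar_inv (q : QuadraticForm K V) (f : V →ₗ[K] V) (hf : ∀ x, q (f x) = q x) (x y : V) :
    QuadraticMap.polar q (f x) (f y) = QuadraticMap.polar q x y := by
  simp only [QuadraticMap.polar, ← map_add, hf]

/-- F1 -/
theorem drop_factor (h2 : (2 : K) ≠ 0) (q : QuadraticForm K V) (hq : q.Anisotropic)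
    (f : V →ₗ[K] V) (hf : ∀ x, q (f x) = q x) (lam : K) (hl : lam ^ 2 ≠ 1) (h : K[X])
    (hJ : aeval f ((X - C lam) * h) = 0) : aeval f h = 0 := by
  ext w
  have h1 : f (aeval f h w) = lam • aeval f h w := by
    have := LinearMap.congr_fun hJ w
    rw [map_mul, map_sub, aeval_X, aeval_C, Module.End.mul_apply, LinearMap.sub_apply,
      LinearMap.zero_apply, sub_eq_zero] at this
    rw [this]; rfl
  have h3 : q (aeval f h w) = lam ^ 2 * q (aeval f h w) := by
    conv_lhs => rw [← hf, h1, QuadraticMap.map_smul, smul_eq_mul, ← pow_two]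
  have h4 : q (aeval f h w) = 0 := by
    have : (lam ^ 2 - 1) * q (aeval f h w) = 0 := by rw [sub_mul, one_mul, ← h3, sub_self]
    rcases mul_eq_zero.1 this with h5 | h5
    · exact absurd (sub_eq_zero.1 h5) hl
    · exact h5
  rw [LinearMap.zero_apply]
  exact hq _ h4

/-- F2/F3 -/
theorem drop_square (h2 : (2 : K) ≠ 0) (q : QuadraticForm K V) (hq : q.Anisotropic)
    (f : V →ₗ[K] V) (hf : ∀ x, q (f x) = q x) (e : K) (he : e ^ 2 = 1) (h : K[X])
    (hJ : aeval f ((X - C e) * ((X - C e) * h)) = 0) : aeval f ((X - C e) * h) = 0 := by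
  ext w
  obtain ⟨v', hv'⟩ : ∃ v', v' = aeval f h w := ⟨_, rfl⟩
  obtain ⟨u, hu⟩ : ∃ u, u = f v' - e • v' := ⟨_, rfl⟩
  have hu' : aeval f ((X - C e) * h) w = u := by
    rw [map_mul, map_sub, aeval_X, aeval_C, Module.End.mul_apply, LinearMap.sub_apply, hu, hv']
    rfl
  have hfu : f u = e • u := by
    have := LinearMap.congr_fun hJ w
    rw [map_mul, Module.End.mul_apply, hu', map_sub, aeval_X, aeval_C, LinearMap.sub_apply,
      LinearMap.zero_apply, sub_eq_zero] at this
    rw [this]; rfl
  have hfv : f v' = u + e • v' := by rw [hu]; abel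
  have he0 : e ≠ 0 := by
    rintro rfl
    rw [zero_pow (by norm_num)] at he
    exact zero_ne_one he
  have h1 : QuadraticMap.polar q u v' = e * QuadraticMap.polar q u u + QuadraticMap.polar q u v' := by
    conv_lhs => rw [← polar_inv q f hf, hfu, hfv, QuadraticMap.polar_add_right,
      QuadraticMap.polar_smul_left, QuadraticMap.polar_smul_left, QuadraticMap.polar_smul_right,
      smul_eq_mul, smul_eq_mul, smul_eq_mul, ← mul_assoc, ← pow_two, he, one_mul]
  have h3 : QuadraticMap.polar q u u = 0 := by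
    have : e * QuadraticMap.polar q u u = 0 := by
      have := h1
      rw [right_eq_add] at this
      exact this
    exact (mul_eq_zero.1 this).resolve_left he0
  rw [QuadraticMap.polar_self, two_nsmul, ← two_mul] at h3
  have h4 : q u = 0 := (mul_eq_zero.1 h3).resolve_left h2
  rw [hu', LinearMap.zero_apply]
  exact hq _ h4

theorem prod_reduce (h2 : (2 : K) ≠ 0) (q : QuadraticForm K V) (hq : q.Anisotropic)
    (f : V →ₗ[K] V) (hf : ∀ x, q (f x) = q x) (s : Multiset K) :
    ∀ h : K[X], aeval f ((s.map fun a => X - C a).prod * h) = 0 →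
      aeval f ((X - C 1) * ((X - C (-1)) * h)) = 0 := by
  induction s using Multiset.induction_on with
  | empty =>
    intro h hh
    rw [Multiset.map_zero, Multiset.prod_zero, one_mul] at hh
    rw [map_mul, map_mul, hh, mul_zero, mul_zero]
  | cons a s ih =>
    intro h hh
    rw [Multiset.map_cons, Multiset.prod_cons] at hh
    have h1 : aeval f ((s.map fun a => X - C a).prod * ((X - C a) * h)) = 0 := by
      rw [← hh]; congr 1; ring
    have h3 := ih _ h1
    by_cases ha : a ^ 2 = 1
    · have ha' : (a - 1) * (a + 1) = 0 := by ring_nf; rw [ha]; ring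
      rcases mul_eq_zero.1 ha' with h4 | h4
      · have ha1 : a = 1 := sub_eq_zero.1 h4
        subst ha1
        have h5 : aeval f ((X - C 1) * ((X - C 1) * ((X - C (-1)) * h))) = 0 := by
          rw [← h3]; congr 1; ring
        exact drop_square h2 q hq f hf 1 (by norm_num) _ h5
      · have ha1 : a = -1 := eq_neg_of_add_eq_zero_left h4
        subst ha1
        have h5 : aeval f ((X - C (-1)) * ((X - C (-1)) * ((X - C 1) * h))) = 0 := by
          rw [← h3]; congr 1; ring
        have h6 := drop_square h2 q hq f hf (-1) (by norm_num) _ h5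
        rw [← h6]; congr 1; ring
    · have h5 : aeval f ((X - C a) * ((X - C 1) * ((X - C (-1)) * h))) = 0 := by
        rw [← h3]; congr 1; ring
      exact drop_factor h2 q hq f hf a ha _ h5

theorem sq_eq_one (h2 : (2 : K) ≠ 0) (q : QuadraticForm K V) (hq : q.Anisotropic)
    (f : V →ₗ[K] V) (hf : ∀ x, q (f x) = q x) (n : ℕ) (hn : n ≠ 0)
    (hsplit : (X ^ n - 1 : K[X]).Splits) (hfn : f ^ n = 1) : f * f = 1 := by
  have hmonic : (X ^ n - 1 : K[X]).Monic := monic_X_pow_sub_C 1 hn
  have h1 := hsplit.eq_prod_roots_of_monic hmonic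
  have h3 : aeval f (((X ^ n - 1 : K[X]).roots.map fun a => X - C a).prod * 1) = 0 := by
    rw [mul_one, ← h1, map_sub, map_pow, aeval_X, map_one, hfn, sub_self]
  have h4 := prod_reduce h2 q hq f hf _ 1 h3
  rw [mul_one, map_mul, map_sub, map_sub, aeval_X, aeval_C, aeval_C, map_one, map_neg, map_one] at h4
  have h5 : (f - 1) * (f - -1) = f * f - 1 := by noncomm_ring
  rw [h5, sub_eq_zero] at h4
  exact h4

end step1

section step3
variable {K : Type u} [Field K]

theorem comm_of_invol {V : Type v} [AddCommGroup V] [Module K V] (S : Set (Module.End K V))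
    (hinv : ∀ f ∈ S, f * f = 1) (hmul : ∀ f ∈ S, ∀ g ∈ S, f * g ∈ S) :
    ∀ f ∈ S, ∀ g ∈ S, f * g = g * f := by
  intro f hf g hg
  have h1 := hinv _ (hmul f hf g hg)
  symm
  calc g * f = (f * f) * (g * f) * (g * g) := by rw [hinv f hf, hinv g hg, one_mul, mul_one]
    _ = f * ((f * g) * (f * g)) * g := by simp only [mul_assoc]
    _ = f * g := by rw [h1, mul_one]

theorem card_le (h2 : (2 : K) ≠ 0) : ∀ n : ℕ, ∀ (V : Type v) [AddCommGroup V] [Module K V]
    [FiniteDimensional K V], Module.finrank K V = n → ∀ S : Set (Module.End K V), S.Finite →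
    (∀ f ∈ S, f * f = 1) → (∀ f ∈ S, ∀ g ∈ S, f * g ∈ S) → S.ncard ≤ 2 ^ n := by
  intro n
  induction n using Nat.strong_induction_on with
  | _ n ih =>
  intro V _ _ _ hV S hSfin hinv hmul
  classical
  by_cases hB : ∃ f₀ ∈ S, f₀ ≠ 1 ∧ f₀ ≠ -1
  swap
  · push Not at hB
    have hsub : S ⊆ {1, -1} := by
      intro f hf
      by_cases h1 : f = 1
      · exact Or.inl h1
      · exact Or.inr (hB f hf h1)
    rcases Nat.eq_zero_or_pos n with hn | hn
    · subst hn
      have hss : Subsingleton V := Module.finrank_zero_iff.1 hV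
      have : S ⊆ {1} := fun f _ => Subsingleton.elim _ _
      calc S.ncard ≤ ({1} : Set (Module.End K V)).ncard := Set.ncard_le_ncard this
        _ = 1 := Set.ncard_singleton _
        _ ≤ 2 ^ 0 := by norm_num
    · calc S.ncard ≤ ({1, -1} : Set (Module.End K V)).ncard := Set.ncard_le_ncard hsub
        _ ≤ 2 := by
          have := Set.ncard_insert_le (1 : Module.End K V) {-1}
          rw [Set.ncard_singleton] at this
          exact this
        _ = 2 ^ 1 := by norm_num
        _ ≤ 2 ^ n := Nat.pow_le_pow_right (by norm_num) hn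
  · obtain ⟨f₀, hf₀S, hf₀1, hf₀m⟩ := hB
    have hcommS := comm_of_invol S hinv hmul
    have hf₀sq : ∀ x, f₀ (f₀ x) = x := fun x => by
      have := LinearMap.congr_fun (hinv f₀ hf₀S) x
      simpa using this
    obtain ⟨P, hP⟩ : ∃ P : Submodule K V, P = LinearMap.ker (f₀ - 1) := ⟨_, rfl⟩
    obtain ⟨M, hM⟩ : ∃ M : Submodule K V, M = LinearMap.ker (f₀ + 1) := ⟨_, rfl⟩
    have hmemP : ∀ x, x ∈ P ↔ f₀ x = x := fun x => by
      rw [hP, LinearMap.mem_ker, LinearMap.sub_apply, Module.End.one_apply, sub_eq_zero]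
    have hmemM : ∀ x, x ∈ M ↔ f₀ x = -x := fun x => by
      rw [hM, LinearMap.mem_ker, LinearMap.add_apply, Module.End.one_apply, add_eq_zero_iff_eq_neg]
    have hcompl : IsCompl P M := by
      constructor
      · rw [Submodule.disjoint_def]
        intro x hxP hxM
        have h3 : x = -x := ((hmemP x).1 hxP).symm.trans ((hmemM x).1 hxM)
        have h4 : (2 : K) • x = 0 := by
          rw [two_smul]; nth_rewrite 1 [h3]; exact neg_add_cancel x
        exact (smul_eq_zero.1 h4).resolve_left h2
      · rw [codisjoint_iff, eq_top_iff]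
        intro x _
        have hx : x = (2 : K)⁻¹ • (x + f₀ x) + (2 : K)⁻¹ • (x - f₀ x) := by
          rw [← smul_add]
          have : x + f₀ x + (x - f₀ x) = (2 : K) • x := by rw [two_smul]; abel
          rw [this, smul_smul, inv_mul_cancel₀ h2, one_smul]
        rw [hx]
        refine Submodule.add_mem_sup (Submodule.smul_mem _ _ ?_) (Submodule.smul_mem _ _ ?_)
        · rw [hmemP, map_add, hf₀sq, add_comm]
        · rw [hmemM, map_sub, hf₀sq]; abel
    have hPlt : P < ⊤ := by
      rw [lt_top_iff_ne_top]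
      intro h
      apply hf₀1
      ext x
      exact (hmemP x).1 (h ▸ Submodule.mem_top)
    have hMlt : M < ⊤ := by
      rw [lt_top_iff_ne_top]
      intro h
      apply hf₀m
      ext x
      exact (hmemM x).1 (h ▸ Submodule.mem_top)
    have hdim : Module.finrank K P + Module.finrank K M = n := by
      rw [Submodule.finrank_add_eq_of_isCompl hcompl, hV]
    have hPn : Module.finrank K P < n := hV ▸ Submodule.finrank_lt hPlt.ne
    have hMn : Module.finrank K M < n := hV ▸ Submodule.finrank_lt hMlt.ne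
    have hinvP : ∀ f ∈ S, ∀ x ∈ P, f x ∈ P := by
      intro f hf x hx
      rw [hmemP] at hx ⊢
      have := LinearMap.congr_fun (hcommS f₀ hf₀S f hf) x
      simp only [Module.End.mul_apply] at this
      rw [this, hx]
    have hinvM : ∀ f ∈ S, ∀ x ∈ M, f x ∈ M := by
      intro f hf x hx
      rw [hmemM] at hx ⊢
      have := LinearMap.congr_fun (hcommS f₀ hf₀S f hf) x
      simp only [Module.End.mul_apply] at this
      rw [this, hx, map_neg]
    -- restriction maps
    let rP : Module.End K V → Module.End K P := fun f =>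
      if h : ∀ x ∈ P, f x ∈ P then f.restrict h else 0
    let rM : Module.End K V → Module.End K M := fun f =>
      if h : ∀ x ∈ M, f x ∈ M then f.restrict h else 0
    have hrP : ∀ f ∈ S, ∀ x : P, ((rP f x : P) : V) = f x := by
      intro f hf x
      simp only [rP, dif_pos (hinvP f hf)]
      rfl
    have hrM : ∀ f ∈ S, ∀ x : M, ((rM f x : M) : V) = f x := by
      intro f hf x
      simp only [rM, dif_pos (hinvM f hf)]
      rfl
    have hmulP : ∀ f ∈ S, ∀ g ∈ S, rP f * rP g = rP (f * g) := by
      intro f hf g hg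
      ext x
      rw [Module.End.mul_apply, hrP f hf, hrP g hg, hrP _ (hmul f hf g hg), Module.End.mul_apply]
    have hmulM : ∀ f ∈ S, ∀ g ∈ S, rM f * rM g = rM (f * g) := by
      intro f hf g hg
      ext x
      rw [Module.End.mul_apply, hrM f hf, hrM g hg, hrM _ (hmul f hf g hg), Module.End.mul_apply]
    have h1S : ∀ f ∈ S, rP (f * f) = 1 ∧ rM (f * f) = 1 := by
      intro f hf
      constructor
      · ext x
        rw [hrP _ (hmul f hf f hf), hinv f hf]; rfl
      · ext x
        rw [hrM _ (hmul f hf f hf), hinv f hf]; rfl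
    have ihP := ih _ hPn P rfl (rP '' S) (hSfin.image _)
      (by rintro _ ⟨f, hf, rfl⟩; rw [hmulP f hf f hf]; exact (h1S f hf).1)
      (by rintro _ ⟨f, hf, rfl⟩ _ ⟨g, hg, rfl⟩; rw [hmulP f hf g hg]; exact ⟨_, hmul f hf g hg, rfl⟩)
    have ihM := ih _ hMn M rfl (rM '' S) (hSfin.image _)
      (by rintro _ ⟨f, hf, rfl⟩; rw [hmulM f hf f hf]; exact (h1S f hf).2)
      (by rintro _ ⟨f, hf, rfl⟩ _ ⟨g, hg, rfl⟩; rw [hmulM f hf g hg]; exact ⟨_, hmul f hf g hg, rfl⟩)
    have hinj : Set.InjOn (fun f => (rP f, rM f)) S := by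
      intro f hf g hg hfg
      simp only [Prod.mk.injEq] at hfg
      ext x
      have hx : x ∈ P ⊔ M := by rw [hcompl.sup_eq_top]; trivial
      obtain ⟨a, ha, b, hb, rfl⟩ := Submodule.mem_sup.1 hx
      rw [map_add, map_add]
      have e1 : f a = g a := by
        rw [← hrP f hf ⟨a, ha⟩, ← hrP g hg ⟨a, ha⟩, hfg.1]
      have e2 : f b = g b := by
        rw [← hrM f hf ⟨b, hb⟩, ← hrM g hg ⟨b, hb⟩, hfg.2]
      rw [e1, e2]
    calc S.ncard ≤ ((rP '' S) ×ˢ (rM '' S)).ncard :=
          Set.ncard_le_ncard_of_injOn (fun f => (rP f, rM f))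
            (fun f hf => ⟨⟨f, hf, rfl⟩, ⟨f, hf, rfl⟩⟩) hinj
            ((hSfin.image _).prod (hSfin.image _))
      _ = (rP '' S).ncard * (rM '' S).ncard := Set.ncard_prod
      _ ≤ 2 ^ Module.finrank K P * 2 ^ Module.finrank K M := Nat.mul_le_mul ihP ihM
      _ = 2 ^ n := by rw [← pow_add, hdim]

end step3

theorem main
    (K : Type u) [Field K] (hK : ∀ n : ℕ, 0 < n → (X ^ n - 1 : K[X]).Splits) (h2 : (2 : K) ≠ 0)
    (V : Type v) [AddCommGroup V] [Module K V] [FiniteDimensional K V]
    (q : QuadraticForm K V) (hq : q.Anisotropic)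
    (G : Subgroup (V ≃ₗ[K] V)) [Finite G] (hG : ∀ g ∈ G, ∀ x : V, q (g x) = q x) :
    (∀ g ∈ G, ∀ h ∈ G, g * h = h * g) ∧ Nat.card G ≤ 2 ^ Module.finrank K V := by
  classical
  let φ : (V ≃ₗ[K] V) →* Module.End K V := LinearEquiv.automorphismGroup.toLinearMapMonoidHom
  have hφ : ∀ g x, φ g x = g x := fun g x => rfl
  have hφinj : Function.Injective φ := by
    intro g h hgh
    ext x
    rw [← hφ, hgh, hφ]
  have hsq : ∀ g ∈ G, g * g = 1 := by
    intro g hg
    have hord : 0 < orderOf (⟨g, hg⟩ : G) := orderOf_pos _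
    have hpow : g ^ orderOf (⟨g, hg⟩ : G) = 1 := by
      have := pow_orderOf_eq_one (⟨g, hg⟩ : G)
      exact congrArg Subtype.val this
    have h1 : φ g ^ orderOf (⟨g, hg⟩ : G) = 1 := by rw [← map_pow, hpow, map_one]
    have h3 := sq_eq_one h2 q hq (φ g) (fun x => hG g hg x) _ hord.ne' (hK _ hord) h1
    apply hφinj
    rw [map_mul, h3, map_one]
  refine ⟨?_, ?_⟩
  · intro g hg h hh
    have h1 := hsq _ (G.mul_mem hg hh)
    symm
    calc h * g = (g * g) * (h * g) * (h * h) := by rw [hsq g hg, hsq h hh, one_mul, mul_one]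
      _ = g * ((g * h) * (g * h)) * h := by simp only [mul_assoc]
      _ = g * h := by rw [h1, mul_one]
  · let S : Set (Module.End K V) := (fun g : G => φ g) '' Set.univ
    have hSfin : S.Finite := Set.finite_univ.image _
    have hcard : S.ncard = Nat.card G := by
      rw [Set.ncard_image_of_injective _ (fun a b hab => Subtype.ext (hφinj hab)), Set.ncard_univ]
    rw [← hcard]
    refine card_le h2 _ V rfl S hSfin ?_ ?_
    · rintro _ ⟨g, _, rfl⟩
      show φ g * φ g = 1
      rw [← map_mul, hsq _ g.2, map_one]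
    · rintro _ ⟨g, _, rfl⟩ _ ⟨h, _, rfl⟩
      exact ⟨g * h, trivial, by simp [map_mul]⟩


end


/-- Let K be a field of characteristic different from 2 such that K contains all roots of unity (for
every n ≥ 1 the polynomial X^n − 1 splits into linear factors over K), V a finite-dimensional
K-vector space and q a quadratic form on V that does not represent zero. Then every finite subgroup
of the group of K-linear automorphisms of V preserving q is abelian and has order at most 2 ^ (dim
V). (The published statement also covers perfect fields of characteristic 2; this row is the case of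
characteristic ≠ 2.) -/
theorem result
    (K : Type u) [Field K] (hK : ∀ n : ℕ, 0 < n → (X ^ n - 1 : K[X]).Splits) (h2 : (2 : K) ≠ 0)
    (V : Type v) [AddCommGroup V] [Module K V] [FiniteDimensional K V]
    (q : QuadraticForm K V) (hq : q.Anisotropic)
    (G : Subgroup (V ≃ₗ[K] V)) [Finite G] (hG : ∀ g ∈ G, ∀ x : V, q (g x) = q x) :
    (∀ g ∈ G, ∀ h ∈ G, g * h = h * g) ∧ Nat.card G ≤ 2 ^ Module.finrank K V := by
  classical
  exact main K hK h2 V q hq G hG

end Groth.Agent.S15166
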