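import Groth.Statements.S15167
import Mathlib
import Groth.Agent.Lib.Lead.Kum1
import Groth.Agent.Lib.Lead.Dense3

set_option autoImplicit false
universe u v
open Polynomial
open BddFin

namespace Groth.Agent.S15167

section
open Polynomial Module TensorProduct
open Groth.Agent.Lead.Kum Groth.Agent.Lead.Dense Groth.Agent.Lead.RedN Groth.Agent.Lead.CSA Groth.Agent.Lead.MatAut

theorem main
    (K : Type u) [Field K] (hK : ∀ n : ℕ, 0 < n → (X ^ n - 1 : K[X]).Splits)
    (A : Type v) [Ring A] [Algebra K A] [Algebra.IsCentral K A] [IsSimpleRing A] [FiniteDimensional K A]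
    (n : ℕ) (hn : Module.finrank K A = n ^ 2)
    (x : A) (hx : IsUnit x) (hxm : ∃ m : ℕ, 0 < m ∧ x ^ m ∈ (algebraMap K A).range) :
    ∃ r : ℕ, 0 < r ∧ r ∣ n ∧ ∃ s : Multiset K, minpoly K x = (s.map fun a : K => X ^ r - C a).prod := by
  classical
  obtain ⟨m, hm, c, hc⟩ := hxm
  have hint : IsIntegral K x := IsIntegral.of_finite K x
  have hc0 : c ≠ 0 := by
    rintro rfl
    rw [map_zero] at hc
    have h1 : IsUnit (x ^ m) := hx.pow m
    rw [← hc] at h1
    exact not_isUnit_zero h1
  obtain ⟨μ, hμ⟩ : ∃ μ, μ = minpoly K x := ⟨_, rfl⟩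
  have hμmonic : μ.Monic := hμ ▸ minpoly.monic hint
  have hμdvd : μ ∣ X ^ m - C c := by
    rw [hμ]
    apply minpoly.dvd
    simp only [map_sub, map_pow, aeval_X, aeval_C]
    rw [hc, sub_self]
  have hμ0 : μ ≠ 0 := hμmonic.ne_zero
  have hμunit : ¬ IsUnit μ := by
    rw [hμ]
    exact minpoly.not_isUnit K x
  -- the factors
  let F := UniqueFactorizationMonoid.normalizedFactors μ
  have hFirr : ∀ π ∈ F, Irreducible π := fun π hπ =>
    UniqueFactorizationMonoid.irreducible_of_normalized_factor π hπ
  have hFmonic : ∀ π ∈ F, π.Monic := by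
    intro π hπ
    have h1 := UniqueFactorizationMonoid.normalize_normalized_factor π hπ
    rw [← h1]
    exact Polynomial.monic_normalize (hFirr π hπ).ne_zero
  have hFdvd : ∀ π ∈ F, π ∣ X ^ m - C c := fun π hπ =>
    (UniqueFactorizationMonoid.dvd_of_mem_normalizedFactors hπ).trans hμdvd
  have hFprod : F.prod = μ := by
    have h1 := UniqueFactorizationMonoid.prod_normalizedFactors_eq hμ0
    rw [h1, hμmonic.normalize_eq_self]
  obtain ⟨π₀, hπ₀⟩ : ∃ π₀, π₀ ∈ F := by
    obtain ⟨p, hp⟩ := UniqueFactorizationMonoid.exists_mem_normalizedFactors hμ0 hμunit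
    exact ⟨p, hp⟩
  let r := π₀.natDegree
  have hr : 0 < r := (hFirr π₀ hπ₀).natDegree_pos
  have hdeg : ∀ ρ : K[X], Irreducible ρ → ρ.Monic → ρ ∣ X ^ m - C c → ρ.natDegree = r :=
    fun ρ h1 h2 h3 => natDegree_eq_of_dvd hK ρ π₀ h1 h2 (hFirr π₀ hπ₀) (hFmonic π₀ hπ₀) m hm c hc0
      h3 (hFdvd π₀ hπ₀)
  have hshape : ∀ π ∈ F, π = X ^ r - C (-π.coeff 0) := by
    intro π hπ
    obtain ⟨a, ha⟩ := eq_X_pow_sub_C hK π (hFirr π hπ) (hFmonic π hπ) m hm c hc0 (hFdvd π hπ)
    rw [hdeg π (hFirr π hπ) (hFmonic π hπ) (hFdvd π hπ)] at ha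
    have h1 : π.coeff 0 = -a := by
      rw [ha, coeff_sub, coeff_X_pow, coeff_C_zero, if_neg hr.ne, zero_sub]
    rw [h1, neg_neg]
    exact ha
  refine ⟨r, hr, ?_, F.map (fun π => -π.coeff 0), ?_⟩
  · -- r ∣ n
    obtain ⟨d, hd, ⟨θ⟩⟩ := exists_splitting_algClosure K A
    have hdd : d = n := by
      have h1 : finrank K A = d * d := finrank_of_splitting θ
      rw [hn, pow_two] at h1
      exact (Nat.mul_self_inj.mp h1).symm
    subst hdd
    obtain ⟨χ, hχ⟩ := exists_charpoly_descent θ x
    obtain ⟨ρ, hρ⟩ : ∃ ρ : A →ₐ[K] Matrix (Fin d) (Fin d) (AlgebraicClosure K), ρ = rhoOf θ :=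
      ⟨_, rfl⟩
    rw [← rhoOf_apply, ← hρ] at hχ
    have hχmonic : χ.Monic := by
      apply Polynomial.monic_of_injective (algebraMap K (AlgebraicClosure K)).injective
      rw [hχ]
      exact Matrix.charpoly_monic _
    have hχdeg : χ.natDegree = d := by
      rw [← natDegree_map (algebraMap K (AlgebraicClosure K)), hχ,
        Matrix.charpoly_natDegree_eq_dim, Fintype.card_fin]
    have hχ0 : χ ≠ 0 := hχmonic.ne_zero
    let G := UniqueFactorizationMonoid.normalizedFactors χ
    have hGirr : ∀ q ∈ G, Irreducible q := fun q hq =>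
      UniqueFactorizationMonoid.irreducible_of_normalized_factor q hq
    have hGmonic : ∀ q ∈ G, q.Monic := by
      intro q hq
      have h1 := UniqueFactorizationMonoid.normalize_normalized_factor q hq
      rw [← h1]
      exact Polynomial.monic_normalize (hGirr q hq).ne_zero
    have hGprod : G.prod = χ := by
      have h1 := UniqueFactorizationMonoid.prod_normalizedFactors_eq hχ0
      rw [h1, hχmonic.normalize_eq_self]
    have hGdeg : ∀ q ∈ G, q.natDegree = r := by
      intro q hq
      apply hdeg q (hGirr q hq) (hGmonic q hq)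
      refine dvd_trans ?_ hμdvd
      -- q ∣ μ
      have hdeg0 : (q.map (algebraMap K (AlgebraicClosure K))).degree ≠ 0 := by
        rw [degree_map]
        exact ((hGirr q hq).degree_pos).ne'
      obtain ⟨l, hl⟩ := IsAlgClosed.exists_root (q.map (algebraMap K (AlgebraicClosure K))) hdeg0
      have hlroot : aeval l q = 0 := by
        rwa [IsRoot.def, eval_map_algebraMap] at hl
      have hqmin : q = minpoly K l :=
        minpoly.eq_of_irreducible_of_monic (hGirr q hq) hlroot (hGmonic q hq)
      have hlχ : (ρ x).charpoly.IsRoot l := by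
        rw [← hχ, IsRoot.def, eval_map_algebraMap]
        obtain ⟨q', hq'⟩ := UniqueFactorizationMonoid.dvd_of_mem_normalizedFactors hq
        rw [hq', map_mul, hlroot, zero_mul]
      have hann : aeval (ρ x) (μ.map (algebraMap K (AlgebraicClosure K))) = 0 := by
        rw [aeval_map_algebraMap, aeval_algHom_apply, hμ, minpoly.aeval, map_zero]
      have h3 := isRoot_of_isRoot_charpoly (ρ x) l hlχ _ hann
      rw [IsRoot.def, eval_map_algebraMap] at h3
      rw [hqmin]
      exact minpoly.dvd K l h3
    have hsum : χ.natDegree = G.card * r := by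
      rw [← hGprod, Polynomial.natDegree_multiset_prod_of_monic _ hGmonic]
      have h1 : G.map natDegree = G.map (fun _ => r) :=
        Multiset.map_congr rfl (fun q hq => hGdeg q hq)
      rw [h1, Multiset.map_const', Multiset.sum_replicate, smul_eq_mul]
    rw [hχdeg] at hsum
    exact ⟨G.card, by rw [hsum, mul_comm]⟩
  · rw [← hμ, ← hFprod, Multiset.map_map]
    congr 1
    conv_lhs => rw [← Multiset.map_id F]
    exact Multiset.map_congr rfl (fun π hπ => hshape π hπ)


end


/-- Let K be a field such that K contains all roots of unity (for every n ≥ 1 the polynomial X^n − 1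
splits into linear factors over K), A a central simple K-algebra of dimension n ^ 2, and x an
invertible element of A some power x ^ m (m ≥ 1) of which lies in K. Then there are a positive
integer r dividing n and elements a_i of K such that the minimal polynomial of x over K is the
product of the polynomials X ^ r − a_i. -/
theorem result
    (K : Type u) [Field K] (hK : ∀ n : ℕ, 0 < n → (X ^ n - 1 : K[X]).Splits)
    (A : Type v) [Ring A] [Algebra K A] [Algebra.IsCentral K A] [IsSimpleRing A] [FiniteDimensional K A]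
    (n : ℕ) (hn : Module.finrank K A = n ^ 2)
    (x : A) (hx : IsUnit x) (hxm : ∃ m : ℕ, 0 < m ∧ x ^ m ∈ (algebraMap K A).range) :
    ∃ r : ℕ, 0 < r ∧ r ∣ n ∧ ∃ s : Multiset K, minpoly K x = (s.map fun a : K => X ^ r - C a).prod := by
  classical
  exact main K hK A n hn x hx hxm

end Groth.Agent.S15167
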