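import Groth.Statements.S15168
import Mathlib
import Groth.Agent.Lib.Lead.CSA13

set_option autoImplicit false
universe u v
open Polynomial
open BddFin

namespace Groth.Agent.S15168

section
open Polynomial

open Groth.Agent.Lead.CSA Module IntermediateField

/-- roots of unity of an extension lie in `K` -/
theorem root_of_unity_mem {K : Type u} [Field K] (hK : ∀ n : ℕ, 0 < n → (X ^ n - 1 : K[X]).Splits)
    {E : Type*} [Field E] [Algebra K E] (m : ℕ) (hm : 0 < m) (z : E) (hz : z ^ m = 1) :
    ∃ ζ : K, algebraMap K E ζ = z := by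
  have hne : (X ^ m - 1 : K[X]) ≠ 0 := (monic_X_pow_sub_C (1 : K) hm.ne').ne_zero
  have hroot : ((X ^ m - 1 : K[X]).map (algebraMap K E)).IsRoot z := by
    simp [hz]
  obtain ⟨ζ, hζ⟩ := (hK m hm).mem_range_of_isRoot hne hroot
  exact ⟨ζ, hζ⟩

/-- Step A in a field: if `y^m = c` then `y^r ∈ K` where `r` is the degree of its minimal polynomial -/
theorem pow_natDegree_mem {K : Type u} [Field K] (hK : ∀ n : ℕ, 0 < n → (X ^ n - 1 : K[X]).Splits)
    (f : K[X]) (hf : Irreducible f) (hmon : f.Monic) (m : ℕ) (hm : 0 < m) (c : K) (hc : c ≠ 0)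
    (hdvd : f ∣ X ^ m - C c) :
    ∃ b : K, f ∣ X ^ f.natDegree - C b := by
  let E := AlgebraicClosure K
  let g := f.map (algebraMap K E)
  have hg : g.Splits := IsAlgClosed.splits g
  have hgmon : g.Monic := hmon.map _
  have hroots : ∀ y ∈ g.roots, y ^ m = algebraMap K E c := by
    intro y hy
    have h1 : g.IsRoot y := (mem_roots hgmon.ne_zero).mp hy
    have h2 : g ∣ (X ^ m - C c : K[X]).map (algebraMap K E) := Polynomial.map_dvd _ hdvd
    have h3 := h1.dvd h2
    simpa [sub_eq_zero] using h3
  have hcard : g.roots.card = f.natDegree := by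
    rw [← hg.natDegree_eq_card_roots, natDegree_map]
  have hdeg : 0 < f.natDegree := hf.natDegree_pos
  obtain ⟨y₀, hy₀⟩ : ∃ y, y ∈ g.roots := by
    apply Multiset.card_pos_iff_exists_mem.mp
    rw [hcard]; exact hdeg
  have hy₀m := hroots y₀ hy₀
  have hy₀ne : y₀ ≠ 0 := by
    rintro rfl
    rw [zero_pow hm.ne'] at hy₀m
    exact hc ((map_eq_zero _).mp hy₀m.symm)
  have hkey : ∀ s : Multiset E, (∀ y ∈ s, y ^ m = algebraMap K E c) →
      ∃ ζ : K, s.prod = algebraMap K E ζ * y₀ ^ s.card := by
    intro s
    induction s using Multiset.induction_on with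
    | empty => intro _; exact ⟨1, by simp⟩
    | cons a s ih =>
      intro h
      obtain ⟨ζ, hζ⟩ := ih (fun y hy => h y (Multiset.mem_cons_of_mem hy))
      have ha := h a (Multiset.mem_cons_self a s)
      obtain ⟨ξ, hξ⟩ := root_of_unity_mem hK m hm (a / y₀) (by
        rw [div_pow, ha, hy₀m, div_self]
        exact (_root_.map_ne_zero _).mpr hc)
      refine ⟨ξ * ζ, ?_⟩
      have ha' : a = algebraMap K E ξ * y₀ := by
        rw [hξ, div_mul_cancel₀ _ hy₀ne]
      rw [Multiset.prod_cons, Multiset.card_cons, hζ, map_mul, pow_succ]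
      rw [ha']
      ring
  obtain ⟨ζ, hζ⟩ := hkey g.roots hroots
  have hζne : ζ ≠ 0 := by
    rintro rfl
    rw [map_zero, zero_mul] at hζ
    have : (0 : E) ∈ g.roots := by
      rw [Multiset.prod_eq_zero_iff] at hζ
      exact hζ
    have h0 := hroots 0 this
    rw [zero_pow hm.ne'] at h0
    exact hc ((map_eq_zero _).mp h0.symm)
  have hc0 : g.coeff 0 = (-1) ^ g.natDegree * g.roots.prod :=
    hg.coeff_zero_eq_prod_roots_of_monic hgmon
  rw [hζ, hcard, natDegree_map, coeff_map] at hc0
  set r := f.natDegree with hr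
  -- y₀ ^ r = algebraMap b
  let b : K := (-1) ^ r * f.coeff 0 / ζ
  have hb : y₀ ^ r = algebraMap K E b := by
    have hζ' : algebraMap K E ζ ≠ 0 := (_root_.map_ne_zero _).mpr hζne
    have : algebraMap K E b = (-1) ^ r * algebraMap K E (f.coeff 0) / algebraMap K E ζ := by
      show algebraMap K E ((-1) ^ r * f.coeff 0 / ζ) = _
      rw [map_div₀, map_mul, map_pow, map_neg, map_one]
    rw [this, hc0]
    have h1 : ((-1 : E) ^ r) * ((-1) ^ r) = 1 := by
      rw [← mul_pow, neg_mul_neg, one_mul, one_pow]
    rw [eq_div_iff hζ']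
    linear_combination (-(y₀ ^ r * algebraMap K E ζ)) * h1
  refine ⟨b, ?_⟩
  have hmin : f = minpoly K y₀ := by
    apply minpoly.eq_of_irreducible_of_monic hf _ hmon
    have h1 : g.IsRoot y₀ := (mem_roots hgmon.ne_zero).mp hy₀
    rw [aeval_def, ← eval_map]
    exact h1
  rw [hmin]
  apply minpoly.dvd
  simp [hb]

theorem finrank_adjoin_eq {K : Type u} [Field K] {A : Type v} [DivisionRing A] [Algebra K A]
    [FiniteDimensional K A] (x : A) :
    finrank K (Algebra.adjoin K ({x} : Set A)) = (minpoly K x).natDegree := by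
  set L := Algebra.adjoin K ({x} : Set A) with hL
  have hcomm : ∀ a ∈ L, ∀ b ∈ L, a * b = b * a := by
    intro a ha b hb
    have hs : ∀ a ∈ ({x} : Set A), ∀ b ∈ ({x} : Set A), a * b = b * a := by
      rintro a rfl b rfl; rfl
    exact Set.centralizer_centralizer_comm_of_comm hs a
        (Algebra.adjoin_le_centralizer_centralizer K _ ha) b
        (Algebra.adjoin_le_centralizer_centralizer K _ hb)
  letI : Field L := fieldSub L hcomm
  let x' : L := ⟨x, Algebra.subset_adjoin (Set.mem_singleton x)⟩
  have hint : IsIntegral K x' := Algebra.IsIntegral.isIntegral x'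
  have h1 : finrank K K⟮x'⟯ = (minpoly K x').natDegree := IntermediateField.adjoin.finrank hint
  have h2 : minpoly K x' = minpoly K x := by
    have := minpoly.algHom_eq L.val Subtype.val_injective x'
    exact this.symm
  have h3 : K⟮x'⟯ = ⊤ := by
    apply IntermediateField.toSubalgebra_injective
    rw [IntermediateField.adjoin_simple_toSubalgebra_of_isAlgebraic hint.isAlgebraic, IntermediateField.top_toSubalgebra]
    have := Algebra.adjoin_adjoin_coe_preimage (R := K) (s := ({x} : Set A))
    have hpre : ({x'} : Set L) = Subtype.val ⁻¹' {x} := by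
      ext y
      constructor
      · rintro rfl; rfl
      · intro h; exact Subtype.ext h
    rw [hpre]
    exact this
  rw [← h2, ← h1, h3]
  exact (IntermediateField.finrank_top' (F := K) (E := L)).symm

theorem main
    (K : Type u) [Field K] (hK : ∀ n : ℕ, 0 < n → (X ^ n - 1 : K[X]).Splits)
    (A : Type v) [DivisionRing A] [Algebra K A] [Algebra.IsCentral K A] [FiniteDimensional K A]
    (n : ℕ) (hn : Module.finrank K A = n ^ 2)
    (x : A) (hxm : ∃ m : ℕ, 0 < m ∧ x ^ m ∈ (algebraMap K A).range) :
    x ^ n ∈ (algebraMap K A).range := by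
  obtain ⟨m, hm, c, hc⟩ := hxm
  have hnpos : 0 < n := by
    by_contra h
    have h0 : n = 0 := by omega
    rw [h0] at hn
    have : 0 < finrank K A := Module.finrank_pos
    omega
  by_cases hx0 : x = 0
  · rw [hx0, zero_pow hnpos.ne']
    exact ⟨0, map_zero _⟩
  have hc0 : c ≠ 0 := by
    rintro rfl
    rw [map_zero] at hc
    exact hx0 (pow_eq_zero_iff hm.ne' |>.mp hc.symm)
  have hint : IsIntegral K x := Algebra.IsIntegral.isIntegral x
  set f := minpoly K x with hf
  have hirr : Irreducible f := minpoly.irreducible hint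
  have hmon : f.Monic := minpoly.monic hint
  have hdvd : f ∣ X ^ m - C c := by
    apply minpoly.dvd
    simp [hc]
  obtain ⟨b, hb⟩ := pow_natDegree_mem hK f hirr hmon m hm c hc0 hdvd
  have hxr : x ^ f.natDegree = algebraMap K A b := by
    obtain ⟨q, hq⟩ := hb
    have := congrArg (aeval x) hq
    rw [map_mul, minpoly.aeval, zero_mul] at this
    simpa [sub_eq_zero] using this
  -- r ∣ n
  set L := Algebra.adjoin K ({x} : Set A) with hL
  have hcomm : ∀ a ∈ L, ∀ b ∈ L, a * b = b * a := by
    intro a ha b hb
    have hs : ∀ a ∈ ({x} : Set A), ∀ b ∈ ({x} : Set A), a * b = b * a := by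
      rintro a rfl b rfl; rfl
    exact Set.centralizer_centralizer_comm_of_comm hs a
        (Algebra.adjoin_le_centralizer_centralizer K _ ha) b
        (Algebra.adjoin_le_centralizer_centralizer K _ hb)
  have hLr : finrank K L = f.natDegree := finrank_adjoin_eq x
  have hsim : IsSimpleRing L := isSimpleRing_subalgebra L
  have hcen := finrank_centralizer (k := K) (A := A) L
  set Cz := Subalgebra.centralizer K (L : Set A) with hCz
  have hLC : L ≤ Cz := by
    intro a ha
    rw [Subalgebra.mem_centralizer_iff]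
    intro g hg
    exact hcomm g hg a ha
  letI : Field L := fieldSub L hcomm
  letI : Module L Cz := Module.compHom Cz (Subalgebra.inclusion hLC).toRingHom
  have : IsScalarTower K L Cz := by
    constructor
    intro a l z
    show (Subalgebra.inclusion hLC (a • l)) * z = a • ((Subalgebra.inclusion hLC l) * z)
    rw [map_smul, smul_mul_assoc]
  have htower := Module.finrank_mul_finrank K L Cz
  rw [← htower, hn, hLr] at hcen
  have hdvdn : f.natDegree ∣ n := by
    have : f.natDegree ^ 2 ∣ n ^ 2 := ⟨finrank L Cz, by rw [hcen]; ring⟩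
    exact (Nat.pow_dvd_pow_iff (by norm_num)).mp this
  obtain ⟨t, ht⟩ := hdvdn
  rw [ht, pow_mul, hxr, ← map_pow]
  exact ⟨b ^ t, rfl⟩


end


/-- Let K be a field such that K contains all roots of unity (for every n ≥ 1 the polynomial X^n − 1
splits into linear factors over K), A a central division algebra of dimension n ^ 2 over K, and x an
element of A some power x ^ m (m ≥ 1) of which lies in K. Then x ^ n lies in K; that is, the order
of the class of x in the quotient of the unit group of A by that of K divides n. -/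
theorem result
    (K : Type u) [Field K] (hK : ∀ n : ℕ, 0 < n → (X ^ n - 1 : K[X]).Splits)
    (A : Type v) [DivisionRing A] [Algebra K A] [Algebra.IsCentral K A] [FiniteDimensional K A]
    (n : ℕ) (hn : Module.finrank K A = n ^ 2)
    (x : A) (hxm : ∃ m : ℕ, 0 < m ∧ x ^ m ∈ (algebraMap K A).range) :
    x ^ n ∈ (algebraMap K A).range := by
  classical
  exact main K hK A n hn x hxm

end Groth.Agent.S15168
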