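import Groth.Statements.S1517
-- import your own Groth.Agent.* helpers here
import Mathlib.RingTheory.TwoSidedIdeal.Operations
import Mathlib.RingTheory.Ideal.Span

set_option autoImplicit false
universe u
open Brauer

namespace Groth.Agent.S1517

/-- Let A be a ring with no nontrivial two-sided ideals and M a nonzero right ideal, viewed as a right
A-module with endomorphism ring A'. Then every A'-linear endomorphism of M is right multiplication
by exactly one element of A; that is, the natural map from A to the bicommutant of M is a bijection. -/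
theorem result (A : Type u) [Ring A] [IsSimpleRing A]
    (M : Submodule Aᵐᵒᵖ A) (hM : M ≠ ⊥)
    (g : Module.End (Module.End Aᵐᵒᵖ M) M) :
    ∃! a : A, ∀ m : M, (g m : A) = (m : A) * a := by
  classical
  have hMr : ∀ (m : A), m ∈ M → ∀ b : A, m * b ∈ M := by
    intro m hm b
    have := M.smul_mem (MulOpposite.op b) hm
    simpa using this
  let Lx : M → Module.End Aᵐᵒᵖ M := fun x =>
    { toFun := fun m => ⟨(x : A) * (m : A), hMr x x.2 m⟩
      map_add' := fun m₁ m₂ => Subtype.ext (by simp [mul_add])
      map_smul' := fun r m => Subtype.ext (by simp [mul_assoc]) }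
  have hg : ∀ x m : M, (g ⟨(x : A) * (m : A), hMr x x.2 m⟩ : A) = (x : A) * (g m : A) := by
    intro x m
    have h1 := g.map_smul (Lx x) m
    have h2 : (Lx x) • m = ⟨(x : A) * (m : A), hMr x x.2 m⟩ := rfl
    have h3 : (Lx x) • (g m) = ⟨(x : A) * (g m : A), hMr x x.2 (g m)⟩ := rfl
    rw [h2, h3] at h1
    exact congrArg Subtype.val h1
  set L : Ideal A := Ideal.span (M : Set A) with hL
  have hL2 : L.IsTwoSided := ⟨fun {a} b ha => by
    induction ha using Submodule.span_induction with
    | mem x hx => exact Ideal.subset_span (hMr x hx b)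
    | zero => simp
    | add x y _ _ hx hy => rw [add_mul]; exact L.add_mem hx hy
    | smul r x _ hx => rw [smul_eq_mul, mul_assoc]; exact L.mul_mem_left r hx⟩
  obtain ⟨x0, hx0M, hx0⟩ := Submodule.exists_mem_ne_zero_of_ne_bot hM
  have h1 : (1 : A) ∈ L := by
    have := IsSimpleRing.one_mem_of_ne_zero_mem L.toTwoSided hx0
      (Ideal.mem_toTwoSided.mpr (Ideal.subset_span hx0M))
    exact Ideal.mem_toTwoSided.mp this
  have hP : ∀ x : A, x ∈ L → ∃ a : A, ∀ m : M,
      (m : A) * a = (g ⟨(m : A) * x, hMr m m.2 x⟩ : A) := by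
    intro x hx
    induction hx using Submodule.span_induction with
    | mem x hx =>
      exact ⟨(g ⟨x, hx⟩ : A), fun m => (hg m ⟨x, hx⟩).symm⟩
    | zero =>
      refine ⟨0, fun m => ?_⟩
      have : (⟨(m : A) * 0, hMr m m.2 0⟩ : M) = 0 := Subtype.ext (mul_zero _)
      rw [this, map_zero, mul_zero]; rfl
    | add x y _ _ hx hy =>
      obtain ⟨a1, h1⟩ := hx
      obtain ⟨a2, h2⟩ := hy
      refine ⟨a1 + a2, fun m => ?_⟩
      have : (⟨(m : A) * (x + y), hMr m m.2 (x + y)⟩ : M) =
          ⟨(m : A) * x, hMr m m.2 x⟩ + ⟨(m : A) * y, hMr m m.2 y⟩ := Subtype.ext (mul_add _ _ _)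
      rw [this, map_add, mul_add, h1, h2]; rfl
    | smul r x _ hx =>
      obtain ⟨a, ha⟩ := hx
      refine ⟨r * a, fun m => ?_⟩
      have h := ha ⟨(m : A) * r, hMr m m.2 r⟩
      have : (⟨(m : A) * (r • x), hMr m m.2 (r • x)⟩ : M) =
          ⟨((m : A) * r) * x, hMr _ (hMr m m.2 r) x⟩ :=
        Subtype.ext (by simp [smul_eq_mul, mul_assoc])
      rw [this, ← mul_assoc]
      exact h
  obtain ⟨a, ha⟩ := hP 1 h1
  refine ⟨a, fun m => ?_, fun a' ha' => ?_⟩
  · rw [ha m]
    congr 2
    exact Subtype.ext (mul_one _).symm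
  · have hd : ∀ m : M, (m : A) * (a' - a) = 0 := by
      intro m
      rw [mul_sub, ← ha' m, ha m, sub_eq_zero]
      congr 2
      exact Subtype.ext (mul_one _).symm
    have hQ : ∀ x : A, x ∈ L → x * (a' - a) = 0 := by
      intro x hx
      induction hx using Submodule.span_induction with
      | mem x hx => exact hd ⟨x, hx⟩
      | zero => simp
      | add x y _ _ hx hy => rw [add_mul, hx, hy, add_zero]
      | smul r x _ hx => rw [smul_eq_mul, mul_assoc, hx, mul_zero]
    have := hQ 1 h1
    rw [one_mul] at this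
    exact sub_eq_zero.mp this

end Groth.Agent.S1517
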