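import Groth.Statements.S15170
import Mathlib
import Groth.Agent.Lib.Helper5.PAlg

set_option autoImplicit false
universe u v
open BddFin



namespace Groth.Agent.S15170

/-- (2) ⇒ (3): let K be a field with char K = p > 0 and A a central division K-algebra with dim_K A = p
^ 2. If v, u in A satisfy v ^ p ∈ K, u ^ p ∈ K and v * u - u * v = 1, then some Galois extension L
of K with [L : K] = p admits a K-algebra embedding into A (so A has a Galois subfield of degree p
over K). -/
theorem result
    (K : Type u) [Field K] (p : ℕ) [Fact p.Prime] [CharP K p]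
    (A : Type v) [DivisionRing A] [Algebra K A] [Algebra.IsCentral K A] [FiniteDimensional K A]
    (hA : Module.finrank K A = p ^ 2) (v u : A) (hv : v ^ p ∈ (algebraMap K A).range)
    (hu : u ^ p ∈ (algebraMap K A).range) (hvu : v * u - u * v = 1) :
    ∃ (L : Type v) (_ : Field L) (_ : Algebra K L), IsGalois K L ∧ Module.finrank K L = p ∧
      Nonempty (L →ₐ[K] A) := by
  obtain ⟨a, c, ha, hnot⟩ := Helper5.PAlg.exists_AS_of_weyl hA v u hvu
  refine ⟨Algebra.adjoin K {a}, Helper5.PAlg.adjoinField (K := K) a, inferInstance, ?_, ?_, ?_⟩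
  · exact Helper5.PAlg.isGalois_adjoin a c ha
  · exact Helper5.PAlg.finrank_adjoin_singleton hA a hnot
  · exact ⟨(Algebra.adjoin K {a}).val⟩

end Groth.Agent.S15170
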