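import Groth.Statements.S15172
import Mathlib

set_option autoImplicit false
universe u v
open Polynomial
open BddFin

theorem additive_aux (L : Type*) [Field L] (p : ℕ) [Fact p.Prime] [CharP L p] (s : Finset L)
    (h0 : (0 : L) ∈ s) (hadd : ∀ a ∈ s, ∀ b ∈ s, a + b ∈ s) :
    ((∏ a ∈ s, (X - C a) : L[X]).map (C : L →+* L[X])).comp (X + C X) =
      C (∏ a ∈ s, (X - C a) : L[X]) + (∏ a ∈ s, (X - C a) : L[X]).map (C : L →+* L[X]) := by
  classical
  set f : L[X] := ∏ a ∈ s, (X - C a) with hf
  have hneg : ∀ a ∈ s, -a ∈ s := by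
    intro a ha
    have hn : ∀ n : ℕ, (n : L) * a ∈ s := by
      intro n
      induction n with
      | zero => simpa using h0
      | succ n ih =>
        have : ((n + 1 : ℕ) : L) * a = (n : L) * a + a := by push_cast; ring
        rw [this]; exact hadd _ ih _ ha
    have := hn (p - 1)
    have hp1 : ((p - 1 : ℕ) : L) = -1 := by
      have hp : 1 ≤ p := (Fact.out : p.Prime).one_le
      rw [Nat.cast_sub hp, CharP.cast_eq_zero]; simp
    rw [hp1] at this; simpa using this
  have hsub : ∀ a ∈ s, ∀ b ∈ s, b - a ∈ s := fun a ha b hb => by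
    rw [sub_eq_add_neg]; exact hadd _ hb _ (hneg a ha)
  have hfm : f.Monic := monic_prod_of_monic _ _ (fun a _ => monic_X_sub_C a)
  have hfd : f.natDegree = s.card := by
    rw [hf, natDegree_prod_of_monic _ _ (fun a _ => monic_X_sub_C a)]; simp
  set F1 := (f.map (C : L →+* L[X])).comp (X + C X) with hF1
  set F3 := f.map (C : L →+* L[X]) with hF3
  have hF3m : F3.Monic := hfm.map _
  have hF3d : F3.natDegree = s.card := by rw [hF3, hfm.natDegree_map, hfd]
  have hF1m : F1.Monic :=
    hF3m.comp (monic_X_add_C _) (by rw [natDegree_X_add_C]; exact one_ne_zero)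
  have hF1d : F1.natDegree = s.card := by
    rw [hF1, natDegree_comp, natDegree_X_add_C, mul_one, hF3d]
  set G := F1 - F3 - C f with hG
  suffices hG0 : G = 0 by
    have : F1 = G + (C f + F3) := by rw [hG]; ring
    rw [this, hG0, zero_add]
  have hcard : 0 < s.card := Finset.card_pos.mpr ⟨0, h0⟩
  by_contra hne
  have hdeg : G.degree < s.card := by
    have h1 : (F1 - F3).degree < F1.degree :=
      degree_sub_lt (by rw [degree_eq_natDegree hF1m.ne_zero, degree_eq_natDegree hF3m.ne_zero,
        hF1d, hF3d]) hF1m.ne_zero (by rw [hF1m.leadingCoeff, hF3m.leadingCoeff])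
    rw [degree_eq_natDegree hF1m.ne_zero, hF1d] at h1
    refine lt_of_le_of_lt (degree_sub_le _ _) (max_lt h1 ?_)
    exact lt_of_le_of_lt degree_C_le (by exact_mod_cast hcard)
  have hnat : G.natDegree < (s.map ⟨(C : L → L[X]), C_injective⟩).card := by
    rw [Finset.card_map]
    exact (natDegree_lt_iff_degree_lt hne).mpr hdeg
  apply hne
  refine eq_zero_of_natDegree_lt_card_of_eval_eq_zero' G _ ?_ hnat
  intro r hr
  rw [Finset.mem_map] at hr
  obtain ⟨a, ha, rfl⟩ := hr
  simp only [Function.Embedding.coeFn_mk]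
  rw [hG, eval_sub, eval_sub, eval_C, hF1, eval_comp, hF3, eval_map, eval_add, eval_X, eval_C,
    eval_map]
  have e1 : eval₂ (C : L →+* L[X]) (C a + X) f = ∏ b ∈ s, (C a + X - C b) := by
    rw [hf, eval₂_finset_prod]
    refine Finset.prod_congr rfl (fun b _ => ?_)
    rw [eval₂_sub, eval₂_X, eval₂_C]
  have e2 : eval₂ (C : L →+* L[X]) (C a) f = 0 := by
    rw [hf, eval₂_finset_prod]
    refine Finset.prod_eq_zero ha ?_
    rw [eval₂_sub, eval₂_X, eval₂_C, sub_self]
  have e3 : ∏ b ∈ s, (C a + X - C b) = f := by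
    rw [hf]
    refine Finset.prod_nbij' (fun b => b - a) (fun b => b + a) ?_ ?_ ?_ ?_ ?_
    · intro b hb; exact hsub a ha b hb
    · intro b hb; exact hadd b hb a ha
    · intro b _; ring
    · intro b _; ring
    · intro b _
      rw [C_sub]; ring
  rw [e1, e2, e3]; ring

namespace Groth.Agent.S15172

/-- Let L be a field of characteristic p > 0 and s a finite subset of L containing 0 and closed under
addition (a finite additive subgroup). Then the polynomial f = ∏_{a ∈ s} (X - a) is additive: f (x +
y) = f x + f y for all x, y in any commutative L-algebra (equivalently, as an identity of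
polynomials in two variables). -/
theorem result
    (L : Type u) [Field L] (p : ℕ) [Fact p.Prime] [CharP L p] (s : Finset L) (h0 : (0 : L) ∈ s)
    (hadd : ∀ a ∈ s, ∀ b ∈ s, a + b ∈ s) (R : Type v) [CommRing R] [Algebra L R] (x y : R) :
    aeval (x + y) (∏ a ∈ s, (X - C a)) = aeval x (∏ a ∈ s, (X - C a)) + aeval y (∏ a ∈ s, (X - C a)) := by
  have haux := additive_aux L p s h0 hadd
  have h2 := congrArg (eval₂ ((aeval x : L[X] →ₐ[L] R) : L[X] →+* R) y) haux
  rw [eval₂_comp, eval₂_map, eval₂_add, eval₂_add, eval₂_X, eval₂_C, eval₂_C, eval₂_map] at h2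
  have hcomp : (((aeval x : L[X] →ₐ[L] R) : L[X] →+* R).comp (C : L →+* L[X])) = algebraMap L R := by
    ext a
    simp
  rw [hcomp] at h2
  simp only [RingHom.coe_coe, aeval_X] at h2
  rw [aeval_def (x + y), aeval_def y, add_comm x y]
  exact h2

end Groth.Agent.S15172
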