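import Groth.Statements.S15173
import Mathlib

set_option autoImplicit false
universe u v
open Polynomial
open BddFin

namespace Groth.Agent.S15173

section
open Polynomial

theorem exists_finset (K : Type u) [Field K] (p : ℕ) [Fact p.Prime] [CharP K p]
    (hK : ∀ n : ℕ, 0 < n → (X ^ n - 1 : K[X]).Splits) (N : ℕ) :
    ∃ C : Finset K, N + 1 ≤ C.card := by
  classical
  have hn0 : 0 < N * p + 1 := Nat.succ_pos _
  have hcast : ((N * p + 1 : ℕ) : K) ≠ 0 := by
    push_cast
    rw [CharP.cast_eq_zero K p, mul_zero, zero_add]
    exact one_ne_zero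
  have hsep : (X ^ (N * p + 1) - 1 : K[X]).Separable :=
    (X_pow_sub_one_separable_iff).2 hcast
  have hcard : (X ^ (N * p + 1) - 1 : K[X]).roots.card = N * p + 1 := by
    rw [splits_iff_card_roots.1 (hK _ hn0)]
    exact natDegree_X_pow_sub_C (R := K) (n := N * p + 1) (r := 1)
  refine ⟨(X ^ (N * p + 1) - 1 : K[X]).roots.toFinset, ?_⟩
  rw [Multiset.toFinset_card_of_nodup (nodup_roots hsep), hcard]
  have : 1 ≤ p := (Fact.out : p.Prime).one_lt.le
  nlinarith

theorem main
    (K : Type u) [Field K] (p : ℕ) [Fact p.Prime] [CharP K p] (hK : ∀ n : ℕ, 0 < n → (X ^ n - 1 : K[X]).Splits)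
    (A : Type v) [DivisionRing A] [Algebra K A] [Algebra.IsCentral K A] [FiniteDimensional K A]
    (w : A) (hw : w ^ p ∈ (algebraMap K A).range) (hwK : w ∉ (algebraMap K A).range) (N : ℕ) :
    ∃ H : Subgroup Aˣ, (Units.map (algebraMap K A : K →* A)).range ≤ H ∧
      N < ((Units.map (algebraMap K A : K →* A)).range).relIndex H := by
  classical
  have hpp : p.Prime := Fact.out
  have hinj : Function.Injective (algebraMap K A) := (algebraMap K A).injective
  have hcharA : CharP A p := charP_of_injective_algebraMap hinj p
  obtain ⟨a0, ha0⟩ := hw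
  -- independence of 1, w
  have hindep : ∀ α β : K, algebraMap K A α + algebraMap K A β * w = 0 → α = 0 ∧ β = 0 := by
    intro α β h
    by_cases hβ : β = 0
    · subst hβ
      rw [map_zero, zero_mul, add_zero] at h
      exact ⟨hinj (by rw [h, map_zero]), rfl⟩
    · exfalso
      apply hwK
      refine ⟨-(β⁻¹ * α), ?_⟩
      have h1 : algebraMap K A β * w = - algebraMap K A α := eq_neg_of_add_eq_zero_right h
      have h2 : w = algebraMap K A β⁻¹ * (algebraMap K A β * w) := by
        rw [← mul_assoc, ← map_mul, inv_mul_cancel₀ hβ, map_one, one_mul]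
      rw [h2, h1, map_neg, map_mul, mul_neg]
  have hne : ∀ c : K, (1 : A) + algebraMap K A c * w ≠ 0 := by
    intro c h
    have := hindep 1 c (by rw [map_one]; exact h)
    exact one_ne_zero this.1
  obtain ⟨u, hu⟩ : ∃ u : K → Aˣ, ∀ c, ((u c : Aˣ) : A) = 1 + algebraMap K A c * w :=
    ⟨fun c => Units.mk0 _ (hne c), fun c => rfl⟩
  obtain ⟨C, hC⟩ := exists_finset K p hK N
  obtain ⟨Z, hZ⟩ : ∃ Z : Subgroup Aˣ, Z = (Units.map (algebraMap K A : K →* A)).range := ⟨_, rfl⟩
  have hZmem : ∀ x : Aˣ, x ∈ Z ↔ ∃ k : K, (x : A) = algebraMap K A k := by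
    intro x
    rw [hZ, MonoidHom.mem_range]
    constructor
    · rintro ⟨k, rfl⟩; exact ⟨k, rfl⟩
    · rintro ⟨k, hk⟩
      have hk0 : k ≠ 0 := by
        rintro rfl
        rw [map_zero] at hk
        exact x.ne_zero hk
      exact ⟨Units.mk0 k hk0, Units.ext hk.symm⟩
  have hZn : Z.Normal := by
    refine ⟨fun z hz g => ?_⟩
    obtain ⟨k, hk⟩ := (hZmem z).1 hz
    have : g * z * g⁻¹ = z := by
      apply Units.ext
      rw [Units.val_mul, Units.val_mul, hk, ← Algebra.commutes k (g : A), mul_assoc,
        ← Units.val_mul, mul_inv_cancel, Units.val_one, mul_one]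
    rw [this]; exact hz
  -- commuting
  have hcommA : ∀ c c' : K, Commute ((1 : A) + algebraMap K A c * w) (1 + algebraMap K A c' * w) := by
    intro c c'
    have h1 : ∀ (k : K) (x : A), Commute (algebraMap K A k) x := fun k x => Algebra.commutes k x
    have h2 : Commute (algebraMap K A c * w) (algebraMap K A c' * w) :=
      ((h1 c _).mul_left (((h1 c' w).symm).mul_right (Commute.refl w)))
    exact ((Commute.one_left _).add_left ((Commute.one_right _).add_right h2))
  let S : Set Aˣ := u '' (C : Set K)
  have hcomm : ∀ x ∈ S, ∀ y ∈ S, x * y = y * x := by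
    rintro _ ⟨c, _, rfl⟩ _ ⟨c', _, rfl⟩
    apply Units.ext
    rw [Units.val_mul, Units.val_mul, hu, hu]
    exact hcommA c c'
  have hSfin : Finite S := (C.finite_toSet.image u).to_subtype
  obtain ⟨M, hM⟩ : ∃ M : Subgroup Aˣ, M = Subgroup.closure S := ⟨_, rfl⟩
  have hfgM : Group.FG M := by rw [hM]; exact Group.closure_finite_fg S
  have hSM : ∀ c ∈ C, u c ∈ M := fun c hc => by
    rw [hM]; exact Subgroup.subset_closure ⟨c, hc, rfl⟩
  have hMcomm : ∀ x y : M, x * y = y * x := by
    subst hM
    intro x y
    exact (Subgroup.isMulCommutative_closure hcomm).is_comm.comm x y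
  let instM : CommGroup M := { (inferInstance : Group M) with mul_comm := hMcomm }
  -- p-th powers
  have hupow : ∀ c, (u c) ^ p ∈ Z := by
    intro c
    rw [hZmem]
    refine ⟨1 + c ^ p * a0, ?_⟩
    rw [Units.val_pow_eq_pow_val, hu, add_pow_char_of_commute p (Commute.one_left _), one_pow,
      (show Commute (algebraMap K A c) w from Algebra.commutes c w).mul_pow, ← ha0, map_add, map_one, map_mul, map_pow]
  have hT : ∀ x : M, x ^ p ∈ Z.subgroupOf M := by
    let T : Subgroup M := (Z.subgroupOf M).comap (powMonoidHom p : M →* M)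
    have hTtop : T = ⊤ := by
      rw [eq_top_iff]
      have h1 : Subgroup.closure (((↑) : M → Aˣ) ⁻¹' S) = ⊤ := by
        subst hM; exact Subgroup.closure_closure_coe_preimage
      rw [← h1, Subgroup.closure_le]
      rintro x ⟨c, hc, hcx⟩
      show x ^ p ∈ Z.subgroupOf M
      rw [Subgroup.mem_subgroupOf, Subgroup.coe_pow, ← hcx]
      exact hupow c
    intro x
    have : x ∈ T := by rw [hTtop]; trivial
    exact this
  have hZ'n : (Z.subgroupOf M).Normal := inferInstance
  have htors : IsMulTorsion (M ⧸ Z.subgroupOf M) := by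
    intro q
    induction q using QuotientGroup.induction_on with
    | H x =>
      refine isOfFinOrder_iff_pow_eq_one.2 ⟨p, hpp.pos, ?_⟩
      rw [← QuotientGroup.mk_pow]
      exact (QuotientGroup.eq_one_iff _).2 (hT x)
  have hfin : Finite (M ⧸ Z.subgroupOf M) := CommGroup.finite_of_fg_isMulTorsion _ htors
  refine ⟨Z ⊔ M, ?_, ?_⟩
  · rw [← hZ]; exact le_sup_left
  · rw [← hZ, Subgroup.relIndex_sup_left, Subgroup.relIndex, Subgroup.index]
    let f : C → M ⧸ Z.subgroupOf M := fun c => QuotientGroup.mk ⟨u c, hSM c c.2⟩
    have hf : Function.Injective f := by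
      intro c c' hcc
      have h1 : (⟨u c, hSM c c.2⟩ : M)⁻¹ * ⟨u c', hSM c' c'.2⟩ ∈ Z.subgroupOf M :=
        QuotientGroup.eq.1 hcc
      rw [Subgroup.mem_subgroupOf] at h1
      obtain ⟨k, hk⟩ := (hZmem _).1 h1
      have h2 : ((u c' : Aˣ) : A) = (u c : A) * algebraMap K A k := by
        rw [← hk]
        simp only [Subgroup.coe_mul, Subgroup.coe_inv, Units.val_mul]
        rw [← mul_assoc, ← Units.val_mul, mul_inv_cancel, Units.val_one, one_mul]
      rw [hu, hu] at h2
      have h3 : algebraMap K A (1 - k) + algebraMap K A (c' - c * k) * w = 0 := by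
        have h4 : (1 + algebraMap K A c * w) * algebraMap K A k
            = algebraMap K A k + algebraMap K A (c * k) * w := by
          rw [add_mul, one_mul, mul_assoc, ← Algebra.commutes k w, ← mul_assoc, ← map_mul]
        rw [h4] at h2
        rw [map_sub, map_sub, map_one, sub_mul]
        have : algebraMap K A c' * w = algebraMap K A k + algebraMap K A (c * k) * w - 1 := by
          rw [← h2]; abel
        rw [this]; abel
      obtain ⟨h5, h6⟩ := hindep _ _ h3
      have hk1 : k = 1 := (sub_eq_zero.1 h5).symm
      rw [hk1, mul_one] at h6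
      exact Subtype.ext (sub_eq_zero.1 h6).symm
    have := Nat.card_le_card_of_injective f hf
    rw [Nat.card_eq_finsetCard] at this
    omega


end


/-- Let K be a field of characteristic p > 0 such that K contains all roots of unity (for every n ≥ 1
the polynomial X^n − 1 splits into linear factors over K), and A a finite-dimensional central
division algebra over K. If A contains an element w not in K with w ^ p in K, then the quotient of
the unit group of A by that of K has unbounded finite subgroups: for every N there is a subgroup H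
of the units of A containing the units of K as a subgroup of finite index greater than N. (The
published statement assumes only that some element of A is inseparable over K and passes at once to
a purely inseparable subfield of degree p; this row assumes an element generating such a subfield
directly, which is what the rest of the printed argument uses.) -/
theorem result
    (K : Type u) [Field K] (p : ℕ) [Fact p.Prime] [CharP K p] (hK : ∀ n : ℕ, 0 < n → (X ^ n - 1 : K[X]).Splits)
    (A : Type v) [DivisionRing A] [Algebra K A] [Algebra.IsCentral K A] [FiniteDimensional K A]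
    (w : A) (hw : w ^ p ∈ (algebraMap K A).range) (hwK : w ∉ (algebraMap K A).range) (N : ℕ) :
    ∃ H : Subgroup Aˣ, (Units.map (algebraMap K A : K →* A)).range ≤ H ∧
      N < ((Units.map (algebraMap K A : K →* A)).range).relIndex H := by
  classical
  exact main K p hK A w hw hwK N

end Groth.Agent.S15173
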