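import Groth.Statements.S15177
import Mathlib
import Groth.Agent.Lib.Helper9.ActRep
import Groth.Agent.Lib.Helper9.Comod4
import Groth.Agent.S7987
-- import your own Groth.Agent.* helpers here

set_option autoImplicit false
universe u v
open BddFin

namespace Groth.Agent.S15177

namespace Aux
open TensorProduct Groth.Agent.Helper9 Groth.Agent.Helper9.ActRep Polynomial

section
variable {K : Type u} [Field K] {A : Type v} [CommRing A] [HopfAlgebra K A]

omit [HopfAlgebra K A] in
lemma counit_slice [Bialgebra K A] (φ : A →ₗ[K] K) (y : A ⊗[K] A) :
    CoalgebraStruct.counit (R := K) (A := A) (slice φ y) =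
      φ (TensorProduct.lid K A ((CoalgebraStruct.counit (R := K) (A := A)).rTensor A y)) := by
  induction y using TensorProduct.induction_on with
  | zero => simp
  | tmul b c => simp [mul_comm]
  | add x y hx hy => simp only [map_add, hx, hy]

lemma eq_id_of_pow {V : Type v} [AddCommGroup V] [Module K V] [Module.Finite K V]
    (u : Module.End K V) (n : ℕ) (hn : (n : K) ≠ 0) (hnil : IsNilpotent (u - 1)) (hpow : u ^ n = 1) :
    u = 1 := by
  have hss : u.IsSemisimple := by
    apply Module.End.isSemisimple_of_squarefree_aeval_eq_zero (p := (X ^ n - 1 : K[X]))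
    · exact (Polynomial.X_pow_sub_one_separable_iff.mpr hn).squarefree
    · simp [hpow]
  have hss' : (u - algebraMap K (Module.End K V) 1).IsSemisimple :=
    Module.End.isSemisimple_sub_algebraMap_iff.mpr hss
  rw [map_one] at hss'
  have := Module.End.eq_zero_of_isNilpotent_isSemisimple hnil hss'
  exact sub_eq_zero.mp this

theorem main [Algebra.FiniteType K A] (hU : HopfRep.IsUnipotent K A)
    (g : WithConv (A →ₐ[K] K)) (hcop : ((orderOf g : ℕ) : K) ≠ 0) : g = 1 := by
  have hgn : g ^ orderOf g = 1 := pow_orderOf_eq_one g
  have hid : ∀ (V : Type v) [AddCommGroup V] [Module K V] [HopfRep.Comod K A V] [Module.Finite K V],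
      HopfRep.Comod.act K A V g.ofConv = LinearMap.id := by
    intro V _ _ _ _
    have hnil : IsNilpotent (actRep K A V g - 1) := Groth.Agent.S7987.result K A hU g.ofConv V
    have hpow : (actRep K A V g) ^ orderOf g = 1 := by rw [← map_pow, hgn, map_one]
    exact eq_id_of_pow _ _ hcop hnil hpow
  apply WithConv.ext
  apply AlgHom.ext
  intro a
  obtain ⟨W, hWfin, haW, hW⟩ := exists_finite_subcomod_mem (k := K) (C := A) (V := A) a
  let _ := subComod W hW
  have h1 := hid W
  have h2 := LinearMap.congr_fun h1 ⟨a, haW⟩
  have h3 : slice g.ofConv.toLinearMap (CoalgebraStruct.comul (R := K) (A := A) a) = a := by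
    have h4 := congrArg W.subtype h2
    rw [act_eq_slice, ← slice_rTensor] at h4
    have h5 : W.subtype.rTensor A (HopfRep.Comod.coact (k := K) (A := A) (⟨a, haW⟩ : W)) =
        CoalgebraStruct.comul (R := K) (A := A) a := subtype_rTensor_subCoact W hW ⟨a, haW⟩
    rw [h5] at h4
    exact h4
  have h6 := congrArg (CoalgebraStruct.counit (R := K) (A := A)) h3
  rw [counit_slice] at h6
  have h7 : (CoalgebraStruct.counit (R := K) (A := A)).rTensor A
      (CoalgebraStruct.comul (R := K) (A := A) a) = (1 : K) ⊗ₜ[K] a := by
    simp
  rw [h7, TensorProduct.lid_tmul, one_smul] at h6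
  exact h6

end
end Aux

/-- Let K be a field and Γ a unipotent linear algebraic group over K, given here by its coordinate Hopf
algebra A (a finitely generated, formally smooth commutative Hopf algebra over K all of whose
non-zero finite-dimensional comodules have a non-zero fixed vector). Then the group Γ(K) of K-points
(K-algebra maps A → K under convolution) has no non-trivial element of finite order coprime to the
characteristic of K: an element of finite order whose order is non-zero in K is the identity. -/
theorem result
    (K : Type u) [Field K] (A : Type v) [CommRing A] [HopfAlgebra K A] [Algebra.FiniteType K A]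
    [Algebra.FormallySmooth K A] (hU : HopfRep.IsUnipotent K A)
    (g : WithConv (A →ₐ[K] K)) (hg : IsOfFinOrder g) (hcop : ((orderOf g : ℕ) : K) ≠ 0) : g = 1 := by
  exact Aux.main hU g hcop

end Groth.Agent.S15177
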