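import Groth.Statements.S15179
import Groth.Agent.Lib.Helper6.PLine.Final

set_option autoImplicit false
universe u
attribute [local instance] MvPolynomial.gradedAlgebra
open BddFin

namespace Groth.Agent.S15179

/-- Let K be a field such that K contains all roots of unity (for every n ≥ 1 the polynomial X^n − 1
splits into linear factors over K). Let q be an irreducible binary quadratic form over K with
non-zero discriminant, so that its zero locus in the projective line over K is a single closed point
with separable quadratic residue field over K (a pair of distinct conjugate geometric points), and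
let U be the complement of that point: the affine curve whose coordinate ring is the ring of
degree-0 fractions f / q ^ k (f a binary form of degree 2k). Then for every finite group G of
K-automorphisms of U (K-linear ring automorphisms of its coordinate ring), every g ∈ G satisfies g ^
2 = 1 and G has at most 4 elements. -/
theorem result
    (K : Type u) [Field K] (hK : ∀ n : ℕ, 0 < n → (Polynomial.X ^ n - 1 : Polynomial K).Splits)
    (q : MvPolynomial (Fin 2) K) (hq : q.IsHomogeneous 2) (hirr : Irreducible q)
    (hdisc : (q.coeff (Finsupp.single 0 1 + Finsupp.single 1 1)) ^ 2 -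
      4 * q.coeff (Finsupp.single 0 2) * q.coeff (Finsupp.single 1 2) ≠ 0)
    (G : Subgroup (HomogeneousLocalization.Away (MvPolynomial.homogeneousSubmodule (Fin 2) K) q ≃+* HomogeneousLocalization.Away (MvPolynomial.homogeneousSubmodule (Fin 2) K) q)) [Finite G]
    (hG : ∀ g ∈ G, ∀ (k : K) (z : HomogeneousLocalization.Away (MvPolynomial.homogeneousSubmodule (Fin 2) K) q), g (k • z) = k • g z) :
    (∀ g ∈ G, g ^ 2 = 1) ∧ Nat.card G ≤ 4 := by
  classical
  have hq' : q ∈ MvPolynomial.homogeneousSubmodule (Fin 2) K 2 :=
    (MvPolynomial.mem_homogeneousSubmodule _ _).mpr hq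
  have ha : Groth.Agent.Helper6.PLine.cA q ≠ 0 := Groth.Agent.Helper6.PLine.cA_ne_zero hq' hirr
  have hroot : ∀ r : K, r ^ 2 + Groth.Agent.Helper6.PLine.sP q * r
      + Groth.Agent.Helper6.PLine.mP q ≠ 0 := by
    intro r hr
    apply Groth.Agent.Helper6.PLine.no_root hq' hirr r
    have : Groth.Agent.Helper6.PLine.cA q * r ^ 2 + Groth.Agent.Helper6.PLine.cB q * r
        + Groth.Agent.Helper6.PLine.cC q
        = Groth.Agent.Helper6.PLine.cA q * (r ^ 2 + Groth.Agent.Helper6.PLine.sP q * r
          + Groth.Agent.Helper6.PLine.mP q) := by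
      rw [Groth.Agent.Helper6.PLine.sP, Groth.Agent.Helper6.PLine.mP]
      field_simp
    rw [this, hr, mul_zero]
  haveI : Fact (Irreducible (Groth.Agent.Helper6.PLine.qpoly (Groth.Agent.Helper6.PLine.sP q)
      (Groth.Agent.Helper6.PLine.mP q))) :=
    ⟨Groth.Agent.Helper6.PLine.qpoly_irreducible _ _ hroot⟩
  have hD : Groth.Agent.Helper6.PLine.sP q ^ 2 - 4 * Groth.Agent.Helper6.PLine.mP q ≠ 0 := by
    rw [Groth.Agent.Helper6.PLine.disc_sP_mP ha]
    exact div_ne_zero hdisc (pow_ne_zero _ ha)
  have hle : G ≤ Groth.Agent.Helper6.PLine.linAut q := fun g hg => hG g hg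
  exact ⟨fun g hg => Groth.Agent.Helper6.PLine.main_exponent hq' ha hD hK G hle g hg,
    Groth.Agent.Helper6.PLine.main_card hq' ha hD hK G hle⟩

end Groth.Agent.S15179
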