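import Groth.Statements.S15184
import Mathlib
import Groth.Agent.Lib.Lead.CSA22

set_option autoImplicit false
universe u v
open BddFin

namespace Groth.Agent.S15184

section


open Groth.Agent.Lead.CSA Module Polynomial

variable {K : Type u} [Field K] {A : Type v} [DivisionRing A] [Algebra K A]

theorem sep_deriv (u : A) (hsep : IsSeparable K u) : aeval u (derivative (minpoly K u)) ≠ 0 := by
  obtain ⟨a, b, hab⟩ := hsep
  have := congrArg (aeval u) hab
  rw [map_add, map_mul, map_mul, minpoly.aeval, mul_zero, zero_add, map_one] at this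
  intro h
  rw [h, mul_zero] at this
  exact zero_ne_one this

variable [FiniteDimensional K A] [Algebra.IsCentral K A]

theorem exists_not_mem (n : ℕ) (hn : 1 < n) (hA : finrank K A = n) :
    ∃ u : A, u ∉ (algebraMap K A).range := by
  by_contra h
  push Not at h
  have : (⊥ : Subalgebra K A) = ⊤ := by
    rw [eq_top_iff]
    intro y _
    obtain ⟨c, hc⟩ := h y
    rw [Algebra.mem_bot]
    exact ⟨c, hc⟩
  have h1 : finrank K (⊥ : Subalgebra K A) = 1 := Subalgebra.finrank_bot
  rw [this, (Subalgebra.topEquiv (R := K) (A := A)).toLinearEquiv.finrank_eq, hA] at h1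
  omega

theorem exists_not_commute (u : A) (hu : u ∉ (algebraMap K A).range) : ∃ v : A, v * u ≠ u * v := by
  by_contra h
  push Not at h
  apply hu
  have : u ∈ Subalgebra.center K A := by
    rw [Subalgebra.mem_center_iff]
    exact h
  obtain ⟨c, hc⟩ := Algebra.IsCentral.out this
  exact ⟨c, hc⟩

/-- final step: from θ to an inseparable element -/
theorem finish {p : ℕ} [CharP K p] (hp : p.Prime) (hA : finrank K A = p ^ 2) (u θ : A)
    (hu : u ∉ (algebraMap K A).range) (h1 : θ ^ p * u = u * θ ^ p) (h2 : θ * u ≠ u * θ) :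
    ∃ v : A, ¬ IsSeparable K v := by
  refine ⟨θ, ?_⟩
  have hθK : θ ∉ (algebraMap K A).range := by
    rintro ⟨c, rfl⟩
    exact h2 (Algebra.commutes c u)
  exact not_isSeparable_of_pow_mem hp hA θ hθK (pow_mem_of_commute hp hA u θ hu h1 h2)

theorem case2 [CharP K 2] (hA : finrank K A = 2 ^ 2) : ∃ v : A, ¬ IsSeparable K v := by
  by_contra hall
  push Not at hall
  have hp : Nat.Prime 2 := Nat.prime_two
  obtain ⟨u, hu⟩ := exists_not_mem (K := K) (A := A) 4 (by norm_num) (by rw [hA]; norm_num)
  have hint : IsIntegral K u := Algebra.IsIntegral.isIntegral u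
  set f := minpoly K u with hf
  have hmon : f.Monic := minpoly.monic hint
  have hdeg : f.natDegree = 2 := by
    rw [hf, ← finrank_adjoin_eq]; exact finrank_adjoin_prime hp hA u hu
  obtain ⟨a₁, ha₁⟩ : ∃ a : K, a = f.coeff 1 := ⟨_, rfl⟩
  obtain ⟨a₀, ha₀⟩ : ∃ a : K, a = f.coeff 0 := ⟨_, rfl⟩
  have hfexp : f = X ^ 2 + C a₁ * X + C a₀ := by
    rw [f.as_sum_range' 3 (by omega)]
    have h2 : f.coeff 2 = 1 := by rw [← hdeg]; exact hmon.coeff_natDegree
    simp only [Finset.sum_range_succ, Finset.sum_range_zero, zero_add, h2, ← ha₁, ← ha₀,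
      ← C_mul_X_pow_eq_monomial, pow_zero, pow_one, mul_one, map_one, one_mul]
    ring
  have hquad : u * u + a₁ • u + a₀ • (1 : A) = 0 := by
    have := minpoly.aeval K u
    rw [← hf, hfexp] at this
    simpa [pow_two, Algebra.smul_def] using this
  have hder : aeval u (derivative f) = (2 : K) • u + a₁ • (1 : A) := by
    rw [hfexp]
    simp only [derivative_add, derivative_X_pow, derivative_mul, derivative_C, derivative_X,
      zero_mul, zero_add, mul_one, add_zero, map_add, map_mul, aeval_X, aeval_C, map_pow,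
      map_natCast]
    simp only [Algebra.smul_def, map_ofNat]
    norm_num
  have hsep := sep_deriv u (hall u)
  rw [← hf, hder] at hsep
  have h20 : (2 : K) = 0 := by
    have := CharP.cast_eq_zero K 2
    exact_mod_cast this
  rw [h20, zero_smul, zero_add] at hsep
  -- b = -a₁ - u
  set b : A := -(a₁ • (1 : A)) - u with hb
  have hbu : b ≠ u := by
    intro h
    apply hsep
    have : a₁ • (1 : A) = -((2 : K) • u) := by
      rw [two_smul]
      have h' : -(a₁ • (1 : A)) - u = u := h
      rw [eq_neg_iff_add_eq_zero]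
      rw [← sub_eq_zero] at h'
      rw [← neg_eq_zero, ← h']
      abel
    rw [this, h20, zero_smul, neg_zero]
  have hbmem : b ∈ Algebra.adjoin K ({u} : Set A) := by
    apply Subalgebra.sub_mem
    · exact Subalgebra.neg_mem _ (Subalgebra.smul_mem _ (Subalgebra.one_mem _) _)
    · exact Algebra.subset_adjoin (Set.mem_singleton u)
  have hroot : aeval b f = 0 := by
    rw [hfexp]
    have : aeval b (X ^ 2 + C a₁ * X + C a₀ : K[X]) = b * b + a₁ • b + a₀ • (1 : A) := by
      simp [pow_two, Algebra.smul_def]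
    rw [this, ← hquad, hb]
    simp only [add_mul, mul_add, sub_mul, mul_sub, neg_mul, mul_neg, smul_mul_assoc,
      mul_smul_comm, one_mul, mul_one, smul_add, smul_sub, smul_neg, mul_assoc]
    module
  obtain ⟨θ, h1, h2⟩ := exists_theta_of_root hp hA u b hu hbmem hbu hroot
  obtain ⟨v, hv⟩ := finish hp hA u θ hu h1 h2
  exact hv (hall v)

theorem case3 [CharP K 3] (hA : finrank K A = 3 ^ 2) : ∃ v : A, ¬ IsSeparable K v := by
  by_contra hall
  push Not at hall
  have hp : Nat.Prime 3 := Nat.prime_three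
  obtain ⟨u, hu⟩ := exists_not_mem (K := K) (A := A) 9 (by norm_num) (by rw [hA]; norm_num)
  have hint : IsIntegral K u := Algebra.IsIntegral.isIntegral u
  set f := minpoly K u with hf
  have hmon : f.Monic := minpoly.monic hint
  have hdeg : f.natDegree = 3 := by
    rw [hf, ← finrank_adjoin_eq]; exact finrank_adjoin_prime hp hA u hu
  obtain ⟨a₂, ha₂⟩ : ∃ a : K, a = f.coeff 2 := ⟨_, rfl⟩
  obtain ⟨a₁, ha₁⟩ : ∃ a : K, a = f.coeff 1 := ⟨_, rfl⟩
  obtain ⟨a₀, ha₀⟩ : ∃ a : K, a = f.coeff 0 := ⟨_, rfl⟩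
  have hfexp : f = X ^ 3 + C a₂ * X ^ 2 + C a₁ * X + C a₀ := by
    rw [f.as_sum_range' 4 (by omega)]
    have h3 : f.coeff 3 = 1 := by rw [← hdeg]; exact hmon.coeff_natDegree
    simp only [Finset.sum_range_succ, Finset.sum_range_zero, zero_add, h3, ← ha₂, ← ha₁, ← ha₀,
      ← C_mul_X_pow_eq_monomial, pow_zero, pow_one, mul_one, map_one, one_mul]
    ring
  have haeval : ∀ z : A, aeval z f = cub a₂ a₁ a₀ z := by
    intro z
    rw [hfexp]
    unfold cub
    simp [pow_succ, Algebra.smul_def, mul_assoc]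
  have hcubu : cub a₂ a₁ a₀ u = 0 := by rw [← haeval]; exact minpoly.aeval K u
  have hder : aeval u (derivative f) = (3 : K) • (u * u) + (2 * a₂) • u + a₁ • (1 : A) := by
    rw [hfexp]
    simp only [derivative_add, derivative_X_pow, derivative_mul, derivative_C, derivative_X,
      zero_mul, zero_add, mul_one, add_zero, map_add, map_mul, aeval_X, aeval_C, map_pow,
      map_natCast]
    simp only [Algebra.smul_def, map_mul, map_ofNat]
    norm_num
    rw [pow_two, ← mul_assoc, ← mul_assoc (algebraMap K A a₂), Algebra.commutes a₂ (2 : A)]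
  have hsep := sep_deriv u (hall u)
  rw [← hf, hder] at hsep
  -- a conjugate w ≠ u
  obtain ⟨v, hv⟩ := exists_not_commute u hu
  have hv0 : v ≠ 0 := by
    rintro rfl
    simp at hv
  set w := v * u * v⁻¹ with hw
  have hwv : w * v = v * u := by
    rw [hw, mul_assoc, inv_mul_cancel₀ hv0, mul_one]
  have hcubw : cub a₂ a₁ a₀ w = 0 := cub_conj a₂ a₁ a₀ u w v hv0 hwv hcubu
  have hδ : w - u ≠ 0 := by
    intro h
    apply hv
    rw [sub_eq_zero] at h
    rw [← hwv, h]
  set b := (w - u) * w * (w - u)⁻¹ with hb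
  have hbδ : b * (w - u) = (w - u) * w := by
    rw [hb, mul_assoc, inv_mul_cancel₀ hδ, mul_one]
  have hcubb : cub a₂ a₁ a₀ b = 0 := cub_conj a₂ a₁ a₀ w b (w - u) hδ hbδ hcubw
  have hR := rel_R1 a₂ a₁ a₀ u w b hδ hbδ hcubu hcubw
  have hbu : b ≠ u := by
    intro h
    apply hsep
    rw [h] at hR
    rw [← hR]
    simp only [smul_add]
    module
  have hroot : aeval b f = 0 := by rw [haeval]; exact hcubb
  by_cases hcomm : u * b = b * u
  · have hbmem : b ∈ Algebra.adjoin K ({u} : Set A) := mem_adjoin_of_commute hp hA u hu b hcomm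
    obtain ⟨θ, h1, h2⟩ := exists_theta_of_root hp hA u b hu hbmem hbu hroot
    obtain ⟨v, hv⟩ := finish hp hA u θ hu h1 h2
    exact hv (hall v)
  · obtain ⟨h1, h2, h3⟩ := wedderburn_rel a₂ a₁ a₀ u b hcubu hcubb hR
    set θ := u * b - b * u with hθ
    set c := -(a₂ • (1 : A)) - u - b with hc
    have hθ0 : θ ≠ 0 := by
      intro h
      apply hcomm
      rw [← sub_eq_zero]; exact h
    have hcube : θ ^ 3 * u = u * θ ^ 3 := by
      have : θ ^ 3 = θ * θ * θ := by rw [pow_succ, pow_two]
      rw [this, mul_assoc, h1, mul_assoc θ θ, ← mul_assoc θ b, h2, mul_assoc θ, mul_assoc c,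
        ← mul_assoc θ c, h3]
      simp only [mul_assoc]
    have hnc : θ * u ≠ u * θ := by
      intro h
      rw [h1] at h
      have : (b - u) * θ = 0 := by rw [sub_mul, h, sub_self]
      rcases mul_eq_zero.mp this with h' | h'
      · exact hbu (sub_eq_zero.mp h')
      · exact hθ0 h'
    obtain ⟨v, hv⟩ := finish hp hA u θ hu hcube hnc
    exact hv (hall v)

theorem main
    (K : Type u) [Field K] (p : ℕ) [Fact p.Prime] [CharP K p]
    (A : Type v) [DivisionRing A] [Algebra K A] [Algebra.IsCentral K A] [FiniteDimensional K A]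
    (hA : Module.finrank K A = p ^ 2) (hp : p = 2 ∨ p = 3) :
    ∃ v : A, ¬ IsSeparable K v := by
  rcases hp with rfl | rfl
  · exact case2 hA
  · exact case3 hA


end


/-- Let K be a field with char K = p > 0 and A a central division K-algebra with dim_K A = p ^ 2. If p =
2 or p = 3, then some element of A is not separable over K. -/
theorem result
    (K : Type u) [Field K] (p : ℕ) [Fact p.Prime] [CharP K p]
    (A : Type v) [DivisionRing A] [Algebra K A] [Algebra.IsCentral K A] [FiniteDimensional K A]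
    (hA : Module.finrank K A = p ^ 2) (hp : p = 2 ∨ p = 3) :
    ∃ v : A, ¬ IsSeparable K v := by
  classical
  exact main K p A hA hp

end Groth.Agent.S15184
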