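import Groth.Statements.S15185
import Mathlib
import Groth.Agent.S15168

set_option autoImplicit false
universe u v
open Polynomial
open BddFin

namespace Groth.Agent.S15185

section
open Polynomial

open scoped TensorProduct
open Module

theorem main
    (K : Type u) [Field K] (p : ℕ) [Fact p.Prime] [CharP K p] (hK : ∀ n : ℕ, 0 < n → (X ^ n - 1 : K[X]).Splits)
    (A : Type v) [DivisionRing A] [Algebra K A] [Algebra.IsCentral K A] [FiniteDimensional K A]
    (n n' m : ℕ) (hA : Module.finrank K A = n ^ 2) (hn : n = n' * p ^ m) (hn' : ¬ p ∣ n')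
    (N : A →* K) (hN : CSAGal.IsRedNorm K A N)
    (x : A) (hx : x ≠ 0) (hxr : ∃ r : ℕ, 0 < r ∧ x ^ r ∈ (algebraMap K A).range)
    (hNx : ∃ b : K, b ≠ 0 ∧ N x = b ^ (p ^ m)) :
    x ^ n' ∈ (algebraMap K A).range := by
  have hp : p.Prime := Fact.out
  obtain ⟨c, hc⟩ := Groth.Agent.S15168.result K hK A n hA x hxr
  obtain ⟨b, hb0, hb⟩ := hNx
  have hc0 : c ≠ 0 := by
    rintro rfl
    rw [map_zero] at hc
    exact hx (eq_zero_of_pow_eq_zero hc.symm)
  set y := x ^ n' with hy
  have hyc : y ^ (p ^ m) = algebraMap K A c := by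
    rw [hy, ← pow_mul, ← hn, hc]
  have hNy : N y = b ^ (p ^ m * n') := by
    rw [hy, map_pow, hb, ← pow_mul]
  -- use the splitting
  obtain ⟨K', _, _, _, n₀, φ, hφ⟩ := hN
  have hn₀ : n₀ = n := by
    have h1 : finrank K' (K' ⊗[K] A) = finrank K A := Module.finrank_baseChange
    have h2 : finrank K' (K' ⊗[K] A) = n₀ * n₀ := by
      rw [LinearEquiv.finrank_eq φ.toLinearEquiv, Module.finrank_matrix]
      simp
    have : n₀ ^ 2 = n ^ 2 := by rw [← hA, ← h1, h2, pow_two]
    exact Nat.pow_left_injective (by norm_num : (2 : ℕ) ≠ 0) this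
  subst hn₀
  -- det relation
  have hdet : (algebraMap K K' (N y)) ^ (p ^ m) = algebraMap K K' c ^ n₀ := by
    rw [hφ y, ← Matrix.det_pow, ← map_pow]
    have : (1 : K') ⊗ₜ[K] y ^ (p ^ m) = (1 : K') ⊗ₜ[K] (y ^ (p ^ m)) := by
      rw [Algebra.TensorProduct.tmul_pow, one_pow]
    rw [this, hyc]
    have h2 : (1 : K') ⊗ₜ[K] (algebraMap K A c) = algebraMap K' (K' ⊗[K] A) (algebraMap K K' c) := by
      rw [Algebra.TensorProduct.algebraMap_apply]
      simp only [Algebra.algebraMap_self, RingHom.id_apply]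
      rw [Algebra.algebraMap_eq_smul_one, Algebra.algebraMap_eq_smul_one (R := K) (A := K'),
        TensorProduct.smul_tmul]
    rw [h2, φ.commutes, Matrix.algebraMap_eq_diagonal, Matrix.det_diagonal]
    simp
  have hrel : (b ^ (p ^ m * n')) ^ (p ^ m) = c ^ n₀ := by
    apply (algebraMap K K').injective
    rw [map_pow, map_pow (algebraMap K K') c, ← hNy]
    exact hdet
  -- ζ = b^{p^m} / c
  set ζ := b ^ (p ^ m) / c with hζ
  have hζ1 : (ζ ^ n') ^ (p ^ m) = 1 := by
    rw [hζ, div_pow, div_pow, ← pow_mul, ← pow_mul, ← pow_mul, ← hn, ← hrel, ← pow_mul]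
    rw [mul_assoc, ← hn, mul_comm (p ^ m) n₀]
    exact div_self (pow_ne_zero _ hb0)
  have hζn : ζ ^ n' = 1 := by
    apply iterateFrobenius_inj K p m
    rw [iterateFrobenius_def, iterateFrobenius_def, hζ1, one_pow]
  -- η with η^{p^m} = ζ
  have hcop : Nat.Coprime (p ^ m) n' := by
    apply Nat.Coprime.pow_left
    exact (Nat.Prime.coprime_iff_not_dvd hp).mpr hn'
  have hn'pos : 0 < n' := by
    rcases Nat.eq_zero_or_pos n' with h | h
    · exact absurd (h ▸ dvd_zero p) hn'
    · exact h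
  obtain ⟨a, ha⟩ : ∃ a : ℕ, a * p ^ m ≡ 1 [MOD n'] := by
    by_cases h1 : n' = 1
    · exact ⟨0, by rw [h1]; exact Nat.modEq_one⟩
    · obtain ⟨a, -, ha⟩ := Nat.exists_mul_mod_eq_one_of_coprime hcop (by omega)
      refine ⟨a, ?_⟩
      show a * p ^ m % n' = 1 % n'
      rw [mul_comm, ha, Nat.mod_eq_of_lt (by omega)]
  set η := ζ ^ a with hη
  have hηζ : η ^ (p ^ m) = ζ := by
    rw [hη, ← pow_mul]
    have h1 : ζ ^ (a * p ^ m) = ζ ^ (a * p ^ m % n') := (pow_eq_pow_mod _ hζn)
    have h2 : ζ ^ 1 = ζ ^ (1 % n') := (pow_eq_pow_mod _ hζn)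
    rw [h1, ha, ← h2, pow_one]
  -- c = (b/η)^{p^m}
  have hζ0 : ζ ≠ 0 := div_ne_zero (pow_ne_zero _ hb0) hc0
  have hη0 : η ≠ 0 := pow_ne_zero _ hζ0
  have hcβ : c = (b / η) ^ (p ^ m) := by
    rw [div_pow, hηζ, hζ]
    field_simp
  have : CharP A p := charP_of_injective_algebraMap (algebraMap K A).injective p
  have hzero : (y - algebraMap K A (b / η)) ^ (p ^ m) = 0 := by
    rw [sub_pow_char_pow_of_commute (p := p) (h := (Algebra.commutes (b / η) y).symm), hyc, ← map_pow, ← hcβ, sub_self]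
  have := eq_zero_of_pow_eq_zero hzero
  rw [sub_eq_zero] at this
  exact ⟨b / η, this.symm⟩


end


/-- Let K be a field of characteristic p > 0 such that K contains all roots of unity (for every n ≥ 1
the polynomial X^n − 1 splits into linear factors over K), A a central division algebra of dimension
n ^ 2 over K, and write n = n' · p ^ m with n' prime to p; let N be the reduced norm of A. Consider
the kernel of the homomorphism from the units of A modulo those of K to Kˣ/(Kˣ)^(p^m) induced by N.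
Every element of finite order of that kernel has order dividing n': if x ≠ 0 in A has x ^ r in K for
some r ≥ 1 and N x is a (p ^ m)-th power of a non-zero element of K, then x ^ n' lies in K. -/
theorem result
    (K : Type u) [Field K] (p : ℕ) [Fact p.Prime] [CharP K p] (hK : ∀ n : ℕ, 0 < n → (X ^ n - 1 : K[X]).Splits)
    (A : Type v) [DivisionRing A] [Algebra K A] [Algebra.IsCentral K A] [FiniteDimensional K A]
    (n n' m : ℕ) (hA : Module.finrank K A = n ^ 2) (hn : n = n' * p ^ m) (hn' : ¬ p ∣ n')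
    (N : A →* K) (hN : CSAGal.IsRedNorm K A N)
    (x : A) (hx : x ≠ 0) (hxr : ∃ r : ℕ, 0 < r ∧ x ^ r ∈ (algebraMap K A).range)
    (hNx : ∃ b : K, b ≠ 0 ∧ N x = b ^ (p ^ m)) :
    x ^ n' ∈ (algebraMap K A).range := by
  classical
  exact main K p hK A n n' m hA hn hn' N hN x hx hxr hNx

end Groth.Agent.S15185
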