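import Groth.Statements.S15229
import Groth.Agent.Lib.Helper6.DivPow

set_option autoImplicit false
open Finset
open W4c2rk2extmaps

namespace Groth.Agent.S15229

/-- In a commutative ℚ-algebra R let θ, η be elements and g a natural number, and put c_k = (4θ)^k / k!.
Suppose θ^(g+1) = 0 and that η satisfies the relation η^(g+1) = Σ_{i=1}^{g+1} (-1)^(i-1) c_i
η^(g+1-i). Then η^(g+k) θ^(g-k) = c_k η^g θ^(g-k) for every 1 ≤ k ≤ g. (The published statement
concerns the first Chern class η of the tautological line bundle on a projective bundle P(U) over a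
g-dimensional Jacobian, with c_k the Chern classes of U, which are (4θ)^k / k!; there θ^(g+1)
vanishes for dimension reasons and the displayed relation is the projective-bundle relation, and the
printed argument derives the identity from exactly these three inputs, which is the form stated
here.) -/
theorem result (R : Type*) [CommRing R] [Algebra ℚ R]
    (θ η : R) (g : ℕ) (c : ℕ → R) (hc : ∀ k : ℕ, c k = ((Nat.factorial k : ℚ)⁻¹) • ((4 : R) * θ) ^ k)
    (hθ : θ ^ (g + 1) = 0)
    (hrel : η ^ (g + 1) = ∑ i ∈ Finset.Ico 1 (g + 2), (-1 : R) ^ (i - 1) * c i * η ^ (g + 1 - i))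
    (k : ℕ) (hk1 : 1 ≤ k) (hkg : k ≤ g) :
    η ^ (g + k) * θ ^ (g - k) = c k * η ^ g * θ ^ (g - k) := by
  -- c i = a i • θ^i
  have hc' : ∀ i : ℕ, c i = (((Nat.factorial i : ℚ)⁻¹) * (4 : ℚ) ^ i) • θ ^ i := by
    intro i
    rw [hc i, mul_pow, ← smul_smul]
    congr 1
    have : ((4 : ℚ) ^ i) • θ ^ i = (algebraMap ℚ R ((4 : ℚ) ^ i)) * θ ^ i := Algebra.smul_def _ _
    rw [this, map_pow, map_ofNat]
  have h0 : c 0 = 1 := by rw [hc 0]; simp
  -- strong induction
  have Q : ∀ j : ℕ, j ≤ g → η ^ (g + j) * θ ^ (g - j) = c j * η ^ g * θ ^ (g - j) := by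
    intro j
    induction j using Nat.strong_induction_on with
    | _ j ih =>
      intro hjg
      rcases Nat.eq_zero_or_pos j with hj0 | hjpos
      · subst hj0; rw [h0]; simp
      · -- expand
        have hsplit : η ^ (g + j) = η ^ (g + 1) * η ^ (j - 1) := by
          rw [← pow_add]; congr 1; omega
        rw [hsplit, hrel, Finset.sum_mul, Finset.sum_mul]
        rw [← Finset.sum_Ico_consecutive _ (by omega : 1 ≤ j + 1) (by omega : j + 1 ≤ g + 2)]
        have hbig : ∑ i ∈ Finset.Ico (j + 1) (g + 2),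
            (-1 : R) ^ (i - 1) * c i * η ^ (g + 1 - i) * η ^ (j - 1) * θ ^ (g - j) = 0 := by
          apply Finset.sum_eq_zero
          intro i hi
          have hi1 : j + 1 ≤ i := (Finset.mem_Ico.mp hi).1
          have hz : θ ^ i * θ ^ (g - j) = 0 := by
            rw [← pow_add]
            have : i + (g - j) = (g + 1) + (i - j - 1) := by omega
            rw [this, pow_add, hθ, zero_mul]
          rw [hc' i]
          calc (-1 : R) ^ (i - 1) * ((((Nat.factorial i : ℚ)⁻¹) * (4 : ℚ) ^ i) • θ ^ i) * η ^ (g + 1 - i) * η ^ (j - 1) * θ ^ (g - j)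
              = (-1 : R) ^ (i - 1) * η ^ (g + 1 - i) * η ^ (j - 1) *
                  ((((Nat.factorial i : ℚ)⁻¹) * (4 : ℚ) ^ i) • (θ ^ i * θ ^ (g - j))) := by
                simp only [Algebra.smul_def]; ring
            _ = 0 := by rw [hz, smul_zero, mul_zero]
        have hsmall : ∀ i ∈ Finset.Ico 1 (j + 1),
            (-1 : R) ^ (i - 1) * c i * η ^ (g + 1 - i) * η ^ (j - 1) * θ ^ (g - j)
              = ((-1 : R) ^ (i - 1) * c i * c (j - i)) * (η ^ g * θ ^ (g - j)) := by
          intro i hi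
          obtain ⟨hi1, hi2⟩ := Finset.mem_Ico.mp hi
          have hij : i ≤ j := by omega
          have hIH := ih (j - i) (by omega) (by omega)
          have e1 : θ ^ i * θ ^ (g - j) = θ ^ (g - (j - i)) := by
            rw [← pow_add]; congr 1; omega
          have e2 : η ^ (g + 1 - i) * η ^ (j - 1) = η ^ (g + (j - i)) := by
            rw [← pow_add]; congr 1; omega
          rw [hc' i]
          calc (-1 : R) ^ (i - 1) * ((((Nat.factorial i : ℚ)⁻¹) * (4 : ℚ) ^ i) • θ ^ i) * η ^ (g + 1 - i) * η ^ (j - 1) * θ ^ (g - j)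
              = (-1 : R) ^ (i - 1) * ((((Nat.factorial i : ℚ)⁻¹) * (4 : ℚ) ^ i) •
                  ((η ^ (g + 1 - i) * η ^ (j - 1)) * (θ ^ i * θ ^ (g - j)))) := by
                simp only [Algebra.smul_def]; ring
            _ = (-1 : R) ^ (i - 1) * ((((Nat.factorial i : ℚ)⁻¹) * (4 : ℚ) ^ i) •
                  (c (j - i) * η ^ g * θ ^ (g - (j - i)))) := by rw [e1, e2, hIH]
            _ = (-1 : R) ^ (i - 1) * ((((Nat.factorial i : ℚ)⁻¹) * (4 : ℚ) ^ i) •
                  (c (j - i) * η ^ g * (θ ^ i * θ ^ (g - j)))) := by rw [e1]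
            _ = ((-1 : R) ^ (i - 1) * ((((Nat.factorial i : ℚ)⁻¹) * (4 : ℚ) ^ i) • θ ^ i) * c (j - i)) * (η ^ g * θ ^ (g - j)) := by
                simp only [Algebra.smul_def]; ring
        rw [hbig, add_zero, Finset.sum_congr rfl hsmall, ← Finset.sum_mul]
        have hy : ∀ k : ℕ, c k = ((Nat.factorial k : ℚ)⁻¹) • ((4 : R) * θ) ^ k := hc
        rw [Groth.Agent.Helper6.DivPow.alt_sum ((4 : R) * θ) c hy j hjpos]
        ring
  exact Q k hkg

end Groth.Agent.S15229
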