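import Groth.Statements.S15235
import Groth.Agent.Lib.Helper6.MLSys

set_option autoImplicit false
universe u
open CategoryTheory Opposite
open HomAlg3

namespace Groth.Agent.S15235

/-- Let (G_j) be an inverse system of abelian groups indexed by the natural numbers, with transition
maps G_{j+1} → G_j, and let j₀ be a natural number such that the transition map G_{j+1} → G_j is
surjective for every j ≥ j₀. Then: (a) the system satisfies the Mittag-Leffler condition; (b) the
evaluation map from the inverse limit (realised as the set of compatible families) to G_{j₀} is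
surjective; (c) if in addition the transition maps G_{j+1} → G_j are injective for every j ≥ j₀,
that evaluation map is bijective. (The published statement indexes the system by the negative
integers and assumes j₀ ≥ 1; this row indexes it by the natural numbers and allows j₀ = 0, which
changes nothing.) -/
theorem result (G : ℕᵒᵖ ⥤ AddCommGrpCat.{u})
    (j₀ : ℕ) (hs : ∀ j : ℕ, j₀ ≤ j → Function.Surjective (G.map (homOfLE (Nat.le_succ j)).op).hom) :
    (G ⋙ forget AddCommGrpCat.{u}).IsMittagLeffler ∧
      Function.Surjective (fun s : (G ⋙ forget AddCommGrpCat.{u}).sections => s.1 (op j₀)) ∧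
      ((∀ j : ℕ, j₀ ≤ j → Function.Injective (G.map (homOfLE (Nat.le_succ j)).op).hom) →
        Function.Bijective (fun s : (G ⋙ forget AddCommGrpCat.{u}).sections => s.1 (op j₀))) := by
  have hs' : ∀ j : ℕ, j₀ ≤ j → Function.Surjective
      (Groth.Agent.Lib.Helper6.MLSys.T G (j+1) j (Nat.le_succ j)) := fun j hj => hs j hj
  refine ⟨Groth.Agent.Lib.Helper6.MLSys.mittagLeffler j₀ hs',
    Groth.Agent.Lib.Helper6.MLSys.sections_surj j₀ hs', fun hi => ?_⟩
  have hi' : ∀ j : ℕ, j₀ ≤ j → Function.Injective
      (Groth.Agent.Lib.Helper6.MLSys.T G (j+1) j (Nat.le_succ j)) := fun j hj => hi j hj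
  exact ⟨Groth.Agent.Lib.Helper6.MLSys.sections_inj j₀ hi',
    Groth.Agent.Lib.Helper6.MLSys.sections_surj j₀ hs'⟩

end Groth.Agent.S15235
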