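import Groth.Statements.S15251
import Mathlib
import Groth.Agent.Lib.Helper2.AlgSt.FpAlg

set_option autoImplicit false
open CategoryTheory AlgebraicGeometry
universe u
open AlgSt

namespace Groth.Agent.S15251

/-- Let S be a scheme and f : 𝒳 → 𝒴 a 1-morphism of stacks in groupoids over the category of schemes
over S. If 𝒴 is a Deligne–Mumford stack and for every scheme U over S and every 1-morphism g : U → 𝒴
the 2-fibre product U ×_𝒴 𝒳 is a Deligne–Mumford stack, then 𝒳 is a Deligne–Mumford stack. All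
stacks here are for the étale topology on schemes over S; an algebraic stack is a stack in groupoids
whose diagonal is representable by algebraic spaces and which has a smooth surjective atlas from a
scheme, and a Deligne–Mumford stack is an algebraic stack with an étale surjective atlas from a
scheme. (The published statement asks the fibre-product condition only for affine schemes U and uses
Deligne–Mumford stacks whose diagonal is moreover separated and quasi-compact; this row asks the
condition for every scheme U over S and uses Deligne–Mumford stacks with no condition on the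
diagonal beyond representability by algebraic spaces.) -/
theorem result {S : Scheme.{u}} {𝒳 𝒴 : AlgSt.Cat S}
    (h𝒳 : Stk.IsStack (QuotSh.J Scheme.etalePrecoverage S) 𝒳)
    (h𝒴 : AlgSt.IsDM Scheme.etalePrecoverage 𝒴) (f : 𝒳 ⥤ᵇ 𝒴)
    (hf : ∀ (U : Over S) (g : FibCat.overCat U ⥤ᵇ 𝒴),
      AlgSt.IsDM Scheme.etalePrecoverage (FibCat.fp g f)) :
    AlgSt.IsDM Scheme.etalePrecoverage 𝒳 := by
  have h𝒴g := h𝒴.1.isStack.1
  refine ⟨⟨h𝒳, ?_, ?_⟩, ?_⟩
  · exact Groth.Agent.Helper2.AlgStLib.repByAlgSp1_diag_toSelf_of_forall_fp h𝒳.1 h𝒴g f h𝒴.1.diag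
      (fun U g => (hf U g).1.diag)
  · obtain ⟨V, v, hv1, hv2⟩ := h𝒴.1.atlas
    obtain ⟨W, w, hw1, hw2⟩ := (hf V v).1.atlas
    have hfp : FibCat.IsFibGrpd (FibCat.fp v f).p := (hf V v).1.isStack.1
    have := Groth.Agent.Helper2.AlgStLib.smooth_surjective_comp
      (Groth.Agent.Helper2.FibCatLib.isFibGrpd_overCat W) hfp w (FibCat.fpSnd v f) ⟨hw1, hw2⟩
      ⟨Groth.Agent.Helper2.AlgStLib.repByAlgSpWith_fpSnd _ v f hv1,
        Groth.Agent.Helper2.AlgStLib.repByAlgSpWith_fpSnd _ v f hv2⟩
    exact ⟨W, BasedFunctor.comp w (FibCat.fpSnd v f), this.1, this.2⟩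
  · obtain ⟨V, v, hv1, hv2⟩ := Groth.Agent.Helper2.AlgStLib.hasAtlas_isEtaleMor_iff.1 h𝒴.2
    obtain ⟨W, w, hw1, hw2⟩ := Groth.Agent.Helper2.AlgStLib.hasAtlas_isEtaleMor_iff.1 (hf V v).2
    have hfp : FibCat.IsFibGrpd (FibCat.fp v f).p := (hf V v).1.isStack.1
    have := Groth.Agent.Helper2.AlgStLib.locP_surjective_comp @Etale
      (Groth.Agent.Helper2.AlgStLib.atlasLocal_of_fppf
        (Groth.Agent.Helper2.AlgStLib.isLocalOnBase_fppf_of_fpqc
          (Groth.Agent.Helper2.AlgSpBasic.isLocalOnBase_fpqc_locP @Etale)))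
      (Groth.Agent.Helper2.FibCatLib.isFibGrpd_overCat W) hfp w (FibCat.fpSnd v f) ⟨hw1, hw2⟩
      ⟨Groth.Agent.Helper2.AlgStLib.repByAlgSpWith_fpSnd _ v f hv1,
        Groth.Agent.Helper2.AlgStLib.repByAlgSpWith_fpSnd _ v f hv2⟩
    exact Groth.Agent.Helper2.AlgStLib.hasAtlas_isEtaleMor_iff.2
      ⟨W, BasedFunctor.comp w (FibCat.fpSnd v f), this.1, this.2⟩

end Groth.Agent.S15251
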