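import Groth.Statements.S15254
import Groth.Agent.Lib.Helper2.Jets.Vanish


set_option autoImplicit false
universe u
open CategoryTheory CategoryTheory.Limits AlgebraicGeometry TopologicalSpace
open W4c2seshadripos

namespace Groth.Agent.S15254

/-- Let X be an integral scheme proper over a field k (the published statement: a projective variety), x
a closed point of X with ideal sheaf m_x, and L an ample invertible O_X-module. Then there is m₀
such that for every m ≥ m₀, every i > 1 and every a ≥ 0 the cohomology group H^i(X, m_x^a ⊗ L^{⊗m})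
vanishes (here m_x^a ⊗ L^{⊗m} = m_x^a · L^{⊗m}, the ideal sheaf m_x^a being taken as an O_X-module). -/
theorem result (k : Type u) [Field k] (X : Scheme.{u})
    [X.Over (Spec (CommRingCat.of k))] [IsProper (X ↘ (Spec (CommRingCat.of k)))] [IsIntegral X]
    (x : X) (hx : IsClosed ({x} : Set X)) (L : X.Modules) (hL : CohB1.IsAmple L) :
    ∃ m₀ : ℕ, ∀ m : ℕ, m₀ ≤ m → ∀ i : ℕ, 1 < i → ∀ a : ℕ,
      Subsingleton (Coh.HH X (CohB1.tensorMod (ClSub.idealMod ((W4c2seshadripos.pointIdeal x hx) ^ a))
        (CohB1.tensorPow L m)) i) := by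
  have hO : Coh.IsCoh (Coh.structureModule X) :=
    Groth.Agent.Helper1.InvQc.isCoh_of_isInvertible _
      (Groth.Agent.Helper1.TwForm.isInvertible_tensorPow hL.1 0)
  obtain ⟨m₀, h⟩ := Groth.Agent.Helper1.SerreAmple.serre_vanishing k
    (X ↘ Spec (CommRingCat.of k)) hL (Coh.structureModule X) hO
  refine ⟨m₀, fun m hm i hi a => ?_⟩
  obtain ⟨n, rfl⟩ : ∃ n, i = n + 1 := ⟨i - 1, by omega⟩
  exact Groth.Agent.Helper2.JetsVanish.subsingleton_HH_ideal_twist k x hx hL.1 m a n (by omega)
    (h m hm (n + 1) (by omega))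

end Groth.Agent.S15254
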