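import Groth.Statements.S1527
import Mathlib
import Groth.Agent.Lib.Helper1.Dv36
import Groth.Agent.Lib.Helper4.ZeroDim2
import Groth.Agent.Lib.Helper1.GlobGen
import Groth.Agent.Lib.Helper1.FtGen

set_option autoImplicit false
universe u
open CategoryTheory CategoryTheory.Limits AlgebraicGeometry
open Variety

namespace Groth.Agent.S1527

/-- On a proper scheme over a field, a coherent module whose support has dimension at most zero is
globally generated (a quotient of a free module). -/
theorem result (k : Type u) [Field k] (X : Scheme.{u}) [X.Over (Spec (CommRingCat.of k))] [IsProper (X ↘ (Spec (CommRingCat.of k)))]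
    (F : X.Modules) (hF : Coh.IsCoh F) (hsupp : topologicalKrullDim (CohB1.support F) ≤ 0) :
    Curv2.IsGloballyGenerated F := by
  haveI : AlgebraicGeometry.IsLocallyNoetherian X :=
    AlgebraicGeometry.LocallyOfFiniteType.isLocallyNoetherian (X ↘ (Spec (CommRingCat.of k)))
  have hcl : IsClosed (CohB1.support F) := Groth.Agent.Helper1.FtGen.isClosed_support F hF.2
  have h0 : ∀ x ∈ CohB1.support F, IsClosed ({x} : Set X) := fun x hx =>
    Groth.Agent.Helper1.Dv.isClosed_singleton_of_dim_le_zero _ hcl hsupp x hx
  rw [Groth.Agent.Helper1.GlobGen.isGloballyGenerated_iff]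
  apply CategoryTheory.Preadditive.epi_of_cancel_zero
  intro N' g' hg
  let N : X.Modules := N'
  let g : F ⟶ N := g'
  apply AlgebraicGeometry.Scheme.Modules.hom_ext (f := g) (g := 0)
  intro U
  ext t
  change g.app U t = 0
  obtain ⟨s, hs⟩ := Groth.Agent.Lib.Helper4.ZeroDim2.exists_extension F hF.2 h0
    (le_top : U ≤ ⊤) t
  rw [← hs, Groth.Agent.Helper1.QcExt.app_res,
    Groth.Agent.Helper1.GlobGen.app_top_eq_zero_of_gen_comp g hg s, map_zero]

end Groth.Agent.S1527
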