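import Groth.Statements.S15285
import Mathlib

set_option autoImplicit false
universe v v' u u'
open PicCat


namespace Groth.Agent.S15285
open CategoryTheory MonoidalCategory

section
variable {M : Type u} [Category.{v} M] [MonoidalCategory M]

/-- the endomorphism of `X` induced by an endomorphism of the unit. -/
def wmap (X : M) (φ : 𝟙_ M ⟶ 𝟙_ M) : X ⟶ X := (λ_ X).inv ≫ (φ ▷ X) ≫ (λ_ X).hom

lemma wmap_bijective (X : M) [(tensorRight X).IsEquivalence] : Function.Bijective (wmap X) := by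
  constructor
  · intro φ φ' h
    unfold wmap at h
    rw [cancel_epi, cancel_mono] at h
    exact (tensorRight X).map_injective h
  · intro g
    obtain ⟨φ, hφ⟩ := (tensorRight X).map_surjective ((λ_ X).hom ≫ g ≫ (λ_ X).inv)
    refine ⟨φ, ?_⟩
    have hφ' : φ ▷ X = (λ_ X).hom ≫ g ≫ (λ_ X).inv := hφ
    unfold wmap
    rw [hφ']
    simp

end

variable {C : Type u} [Category.{v} C] [MonoidalCategory C]
    {D : Type u'} [Category.{v'} D] [MonoidalCategory D]

open Functor in
lemma map_wmap (F : C ⥤ D) [F.LaxMonoidal] [IsIso (LaxMonoidal.ε F)] (X : C)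
    (φ : 𝟙_ C ⟶ 𝟙_ C) :
    F.map (wmap X φ) =
      wmap (F.obj X) (LaxMonoidal.ε F ≫ F.map φ ≫ inv (LaxMonoidal.ε F)) := by
  unfold wmap
  rw [← cancel_epi (λ_ (F.obj X)).hom]
  simp only [Iso.hom_inv_id_assoc]
  have h1 : (λ_ (F.obj X)).hom ≫ F.map ((λ_ X).inv ≫ φ ▷ X ≫ (λ_ X).hom) =
      (LaxMonoidal.ε F ≫ F.map φ) ▷ F.obj X ≫ LaxMonoidal.μ F (𝟙_ C) X ≫ F.map (λ_ X).hom := by
    rw [LaxMonoidal.left_unitality]
    simp only [Category.assoc, ← F.map_comp, Iso.hom_inv_id_assoc]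
    rw [F.map_comp, ← LaxMonoidal.μ_natural_left_assoc, comp_whiskerRight, Category.assoc]
  rw [h1, LaxMonoidal.left_unitality, ← comp_whiskerRight_assoc]
  simp


theorem main [IsGroupoid C] [IsGroupoid D]
    (hC : ∀ X : C, (tensorLeft X).IsEquivalence ∧ (tensorRight X).IsEquivalence)
    (hD : ∀ X : D, (tensorLeft X).IsEquivalence ∧ (tensorRight X).IsEquivalence)
    (F : C ⥤ D) [F.LaxMonoidal] [F.EssSurj]
    (h0 : ∀ X Y : C, Nonempty (F.obj X ≅ F.obj Y) → Nonempty (X ≅ Y))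
    (h1 : Function.Bijective (fun φ : 𝟙_ C ⟶ 𝟙_ C => F.map φ)) :
    F.IsEquivalence := by
  haveI : IsIso (Functor.LaxMonoidal.ε F) := IsGroupoid.all_isIso _
  haveI : F.Faithful := by
    refine ⟨fun {X Y} f g hfg => ?_⟩
    haveI : IsIso g := IsGroupoid.all_isIso _
    haveI := (hC X).2
    haveI := (hD (F.obj X)).2
    obtain ⟨φ, hφ⟩ := (wmap_bijective X).2 (f ≫ inv g)
    have h2 : F.map (wmap X φ) = 𝟙 _ := by
      rw [hφ, F.map_comp, hfg, ← F.map_comp, IsIso.hom_inv_id, F.map_id]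
    rw [map_wmap] at h2
    have h3 : wmap (F.obj X) (𝟙 _) = 𝟙 (F.obj X) := by simp [wmap]
    rw [← h3] at h2
    have h4 := (wmap_bijective (F.obj X)).1 h2
    have h5 : F.map φ = F.map (𝟙 _) := by
      rw [F.map_id]
      have := congrArg (fun t => inv (Functor.LaxMonoidal.ε F) ≫ t ≫ Functor.LaxMonoidal.ε F) h4
      simpa using this
    have h6 : φ = 𝟙 _ := h1.1 h5
    rw [h6] at hφ
    have h7 : wmap X (𝟙 _) = 𝟙 X := by simp [wmap]
    rw [h7] at hφ
    have h8 := congrArg (fun t => t ≫ g) hφ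
    simpa using h8.symm
  haveI : F.Full := by
    refine ⟨fun {X Y} g => ?_⟩
    haveI : IsIso g := IsGroupoid.all_isIso _
    obtain ⟨σ⟩ := h0 X Y ⟨asIso g⟩
    haveI := (hC X).2
    haveI := (hD (F.obj X)).2
    obtain ⟨ψ, hψ⟩ := (wmap_bijective (F.obj X)).2 (g ≫ inv (F.map σ.hom))
    obtain ⟨φ, hφ⟩ := h1.2 (inv (Functor.LaxMonoidal.ε F) ≫ ψ ≫ Functor.LaxMonoidal.ε F)
    have hφ' : F.map φ = inv (Functor.LaxMonoidal.ε F) ≫ ψ ≫ Functor.LaxMonoidal.ε F := hφ
    refine ⟨wmap X φ ≫ σ.hom, ?_⟩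
    rw [F.map_comp, map_wmap, hφ']
    have h2 : Functor.LaxMonoidal.ε F ≫ (inv (Functor.LaxMonoidal.ε F) ≫ ψ ≫
        Functor.LaxMonoidal.ε F) ≫ inv (Functor.LaxMonoidal.ε F) = ψ := by simp
    rw [h2, hψ]
    simp
  exact { }

end Groth.Agent.S15285

namespace Groth.Agent.S15285

open CategoryTheory MonoidalCategory in
/-- Let C and D be Picard categories (monoidal groupoids in which tensoring on either side with any
object is an equivalence of categories) and F : C ⥤ D a lax monoidal functor. If F induces a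
bijection on isomorphism classes of objects (it is essentially surjective, and F X ≅ F Y only when X
≅ Y) and a bijection on endomorphisms of the unit object, then F is an equivalence of categories. -/
theorem result
    {C : Type u} [Category.{v} C] [MonoidalCategory C] [IsGroupoid C]
    {D : Type u'} [Category.{v'} D] [MonoidalCategory D] [IsGroupoid D]
    (hC : ∀ X : C, (tensorLeft X).IsEquivalence ∧ (tensorRight X).IsEquivalence)
    (hD : ∀ X : D, (tensorLeft X).IsEquivalence ∧ (tensorRight X).IsEquivalence)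
    (F : C ⥤ D) [F.LaxMonoidal] [F.EssSurj]
    (h0 : ∀ X Y : C, Nonempty (F.obj X ≅ F.obj Y) → Nonempty (X ≅ Y))
    (h1 : Function.Bijective (fun φ : 𝟙_ C ⟶ 𝟙_ C => F.map φ)) :
    F.IsEquivalence := by
  exact main hC hD F h0 h1

end Groth.Agent.S15285
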