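import Groth.Statements.S15298
import Mathlib
-- import your own Groth.Agent.* helpers here

set_option autoImplicit false
universe u
open CAlg

namespace Groth.Agent.S15298

namespace Aux

open PowerSeries

variable {k A : Type u} [Field k] [CommRing A] [Algebra k A] (x : A)

lemma haus_of_mem {I : Ideal A} [IsHausdorff I A] {y : A} (h : ∀ n, y ∈ I ^ n) : y = 0 := by
  apply IsHausdorff.haus' (I := I) y
  intro n
  rw [SModEq.zero, smul_eq_mul, Ideal.mul_top]
  exact h n

/-- Lemma T -/
lemma evalT {B : Type u} [CommRing B] (s : B →+* A) (n : ℕ) (P : Polynomial B) :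
    P.eval₂ s x - (trunc n (P : PowerSeries B)).eval₂ s x ∈ Ideal.span {x} ^ n := by
  have hdvd : (Polynomial.X : Polynomial B) ^ n ∣ P - trunc n (P : PowerSeries B) := by
    rw [Polynomial.X_pow_dvd_iff]
    intro d hd
    rw [Polynomial.coeff_sub, coeff_trunc, if_pos hd, Polynomial.coeff_coe, sub_self]
  obtain ⟨Q, hQ⟩ := hdvd
  rw [← Polynomial.eval₂_sub, hQ, Polynomial.eval₂_mul, Polynomial.eval₂_pow, Polynomial.eval₂_X,
    Ideal.span_singleton_pow]
  exact Ideal.mul_mem_right _ _ (Ideal.mem_span_singleton_self _)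

variable {B : Type u} [CommRing B] [Algebra k B] (s : B →ₐ[k] A)

/-- the truncated evaluation maps -/
noncomputable def fn (n : ℕ) : PowerSeries B →ₐ[k] A ⧸ Ideal.span {x} ^ n where
  toFun p := Ideal.Quotient.mk _ ((trunc n p).eval₂ (s : B →+* A) x)
  map_one' := by
    cases n with
    | zero =>
      have : Subsingleton (A ⧸ Ideal.span {x} ^ 0) := by
        rw [Ideal.Quotient.subsingleton_iff, pow_zero, Ideal.one_eq_top]
      exact Subsingleton.elim _ _
    | succ n => rw [trunc_one, Polynomial.eval₂_one, map_one]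
  map_mul' p q := by
    rw [← map_mul, ← Polynomial.eval₂_mul, ← trunc_trunc_mul_trunc, ← Polynomial.coe_mul]
    rw [Ideal.Quotient.eq]
    have := evalT x (s : B →+* A) n (trunc n p * trunc n q)
    rw [← neg_sub]
    exact neg_mem this
  map_zero' := by rw [map_zero, Polynomial.eval₂_zero, map_zero]
  map_add' p q := by rw [map_add, Polynomial.eval₂_add, map_add]
  commutes' c := by
    cases n with
    | zero =>
      have : Subsingleton (A ⧸ Ideal.span {x} ^ 0) := by
        rw [Ideal.Quotient.subsingleton_iff, pow_zero, Ideal.one_eq_top]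
      exact Subsingleton.elim _ _
    | succ n =>
      have : algebraMap k (PowerSeries B) c = C (algebraMap k B c) := PowerSeries.algebraMap_apply
      rw [this, trunc_C, Polynomial.eval₂_C]
      change Ideal.Quotient.mk _ (s (algebraMap k B c)) = _
      rw [AlgHom.commutes]
      rfl

lemma fn_apply (n : ℕ) (p : PowerSeries B) :
    fn x s n p = Ideal.Quotient.mk _ ((trunc n p).eval₂ (s : B →+* A) x) := rfl

lemma fn_compat {m n : ℕ} (hle : m ≤ n) :
    (Ideal.Quotient.factorₐ k (Ideal.pow_le_pow_right hle)).comp (fn x s n) = fn x s m := by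
  ext p
  rw [AlgHom.comp_apply, fn_apply, fn_apply, Ideal.Quotient.factorₐ_apply_mk, Ideal.Quotient.eq,
    ← trunc_trunc_of_le p hle]
  exact evalT x (s : B →+* A) m (trunc n p)

variable [IsAdicComplete (Ideal.span {x}) A]

noncomputable def ee : PowerSeries B →ₐ[k] A :=
  IsAdicComplete.liftAlgHom (Ideal.span {x}) (fn x s) (fun hle => fn_compat x s hle)

lemma ee_sub_mem (n : ℕ) (p : PowerSeries B) :
    ee x s p - (trunc n p).eval₂ (s : B →+* A) x ∈ Ideal.span {x} ^ n := by
  rw [← Ideal.Quotient.eq]
  have := IsAdicComplete.mk_liftAlgHom (Ideal.span {x}) (fn x s) (fun hle => fn_compat x s hle) n p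
  exact this

lemma ee_X : ee x s (PowerSeries.X : PowerSeries B) = x := by
  rw [← sub_eq_zero]
  apply haus_of_mem (I := Ideal.span {x})
  intro n
  have h2 := ee_sub_mem x s (n + 2) (PowerSeries.X : PowerSeries B)
  rw [trunc_X, Polynomial.eval₂_X] at h2
  exact Ideal.pow_le_pow_right (by omega) h2

lemma ee_sub_const (p : PowerSeries B) :
    ee x s p - s (constantCoeff p) ∈ Ideal.span {x} := by
  have h1 := ee_sub_mem x s 1 p
  rw [trunc_one_left, Polynomial.eval₂_C, pow_one, coeff_zero_eq_constantCoeff_apply] at h1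
  exact h1


section final

variable {k A : Type u} [Field k] [CommRing A] [Algebra k A] (x : A)
  [IsAdicComplete (Ideal.span {x}) A]
  (s : (A ⧸ Ideal.span {x}) →ₐ[k] A)
  (hs : ∀ b, Ideal.Quotient.mk (Ideal.span {x}) (s b) = b)

include hs

lemma mk_ee (p : PowerSeries (A ⧸ Ideal.span {x})) :
    Ideal.Quotient.mk (Ideal.span {x}) (ee x s p) = constantCoeff p := by
  have := ee_sub_const x s p
  rw [← Ideal.Quotient.eq, hs] at this
  exact this

lemma ee_inj (hx : x ∈ nonZeroDivisors A) : Function.Injective (ee x s) := by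
  rw [injective_iff_map_eq_zero]
  intro p hp
  ext i
  rw [map_zero]
  induction i using Nat.strong_induction_on with
  | _ i ih =>
    have hdvd : (PowerSeries.X : PowerSeries (A ⧸ Ideal.span {x})) ^ i ∣ p := by
      rw [PowerSeries.X_pow_dvd_iff]
      exact ih
    obtain ⟨q, rfl⟩ := hdvd
    rw [map_mul, map_pow, ee_X] at hp
    have hq : ee x s q = 0 := by
      have hxi : x ^ i ∈ nonZeroDivisors A := pow_mem hx i
      exact (mul_left_mem_nonZeroDivisors_eq_zero_iff hxi).mp hp
    have h0 : constantCoeff q = 0 := by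
      rw [← mk_ee x s hs, hq, map_zero]
    have := PowerSeries.coeff_X_pow_mul q i 0
    rw [zero_add] at this
    rw [this, coeff_zero_eq_constantCoeff_apply, h0]

lemma exists_next (y : A) : ∃ c : A, y - s (Ideal.Quotient.mk (Ideal.span {x}) y) = x * c := by
  have : y - s (Ideal.Quotient.mk (Ideal.span {x}) y) ∈ Ideal.span {x} := by
    rw [← Ideal.Quotient.eq, hs]
  rw [Ideal.mem_span_singleton'] at this
  obtain ⟨c, hc⟩ := this
  exact ⟨c, by rw [← hc, mul_comm]⟩

noncomputable def aseq (a : A) : ℕ → A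
  | 0 => a
  | (n + 1) => (exists_next x s hs (aseq a n)).choose

lemma aseq_succ (a : A) (n : ℕ) :
    aseq x s hs a n - s (Ideal.Quotient.mk (Ideal.span {x}) (aseq x s hs a n)) =
      x * aseq x s hs a (n + 1) :=
  (exists_next x s hs (aseq x s hs a n)).choose_spec

lemma ee_surj : Function.Surjective (ee x s) := by
  intro a
  let p : PowerSeries (A ⧸ Ideal.span {x}) :=
    PowerSeries.mk fun i => Ideal.Quotient.mk (Ideal.span {x}) (aseq x s hs a i)
  refine ⟨p, ?_⟩
  have hsum : ∀ n, a - ∑ i ∈ Finset.range n,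
      s (Ideal.Quotient.mk (Ideal.span {x}) (aseq x s hs a i)) * x ^ i = x ^ n * aseq x s hs a n := by
    intro n
    induction n with
    | zero => simp [aseq]
    | succ n ih =>
      rw [Finset.sum_range_succ, ← sub_sub, ih, pow_succ, mul_assoc, ← aseq_succ x s hs a n]
      ring
  rw [← sub_eq_zero]
  apply haus_of_mem (I := Ideal.span {x})
  intro n
  have h1 := ee_sub_mem x s n p
  rw [eval₂_trunc_eq_sum_range] at h1
  have h2 : a - ∑ i ∈ Finset.range n,
      s (Ideal.Quotient.mk (Ideal.span {x}) (aseq x s hs a i)) * x ^ i ∈ Ideal.span {x} ^ n := by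
    rw [hsum n, Ideal.span_singleton_pow]
    exact Ideal.mul_mem_right _ _ (Ideal.mem_span_singleton_self _)
  have h3 : ∀ i, (s : (A ⧸ Ideal.span {x}) →+* A) (coeff i p) =
      s (Ideal.Quotient.mk (Ideal.span {x}) (aseq x s hs a i)) := by
    intro i
    simp only [p, coeff_mk]
    rfl
  simp only [h3] at h1
  have : ee x s p - a = (ee x s p - ∑ i ∈ Finset.range n,
      s (Ideal.Quotient.mk (Ideal.span {x}) (aseq x s hs a i)) * x ^ i) -
      (a - ∑ i ∈ Finset.range n,
      s (Ideal.Quotient.mk (Ideal.span {x}) (aseq x s hs a i)) * x ^ i) := by ring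
  rw [this]
  exact sub_mem h1 h2

end final

theorem main (k A : Type u) [Field k]
    [CommRing A] [Algebra k A] (x : A) (hx : x ∈ nonZeroDivisors A)
    [IsAdicComplete (Ideal.span {x}) A] [Algebra.FormallySmooth k (A ⧸ Ideal.span {x})] :
    ∃ e : PowerSeries (A ⧸ Ideal.span {x}) ≃ₐ[k] A,
      e PowerSeries.X = x ∧
      ∀ f : PowerSeries (A ⧸ Ideal.span {x}),
        Ideal.Quotient.mk (Ideal.span {x}) (e f) = PowerSeries.constantCoeff f := by
  obtain ⟨s, hs⟩ := Algebra.FormallySmooth.exists_mkₐ_comp_eq_of_isAdicComplete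
    (R := k) (A := A ⧸ Ideal.span {x}) (S := A) (I := Ideal.span {x}) (AlgHom.id k _)
  have hs' : ∀ b, Ideal.Quotient.mk (Ideal.span {x}) (s b) = b := fun b => by
    have := congrArg (fun φ => φ b) hs
    simpa using this
  refine ⟨AlgEquiv.ofBijective (ee x s) ⟨ee_inj x s hs' hx, ee_surj x s hs'⟩, ?_, ?_⟩
  · exact ee_X x s
  · intro f
    exact mk_ee x s hs' f

end Aux

/-- Let k be a field, A a Noetherian k-algebra and x a non-zero-divisor of A such that A is separated
and complete for the (x)-adic topology, and assume that B = A/xA is formally smooth over k. Then A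
is a power series ring over B in the variable x: there is a k-algebra isomorphism e : B[[T]] ≅ A
with e(T) = x whose reduction modulo x is the constant-coefficient map, i.e. e(f) ≡ f(0) mod x for
every power series f. -/
theorem result (k A : Type u) [Field k]
    [CommRing A] [Algebra k A] [IsNoetherianRing A] (x : A) (hx : x ∈ nonZeroDivisors A)
    [IsAdicComplete (Ideal.span {x}) A] [Algebra.FormallySmooth k (A ⧸ Ideal.span {x})] :
    ∃ e : PowerSeries (A ⧸ Ideal.span {x}) ≃ₐ[k] A,
      e PowerSeries.X = x ∧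
      ∀ f : PowerSeries (A ⧸ Ideal.span {x}),
        Ideal.Quotient.mk (Ideal.span {x}) (e f) = PowerSeries.constantCoeff f := by
  exact Aux.main k A x hx

end Groth.Agent.S15298
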