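import Groth.Statements.S15300
import Mathlib
import Groth.Prelude.Def_Formal2
import Groth.Agent.Lib.Helper9.FE.MLHomology
-- import your own Groth.Agent.* helpers here

set_option autoImplicit false
universe u
open HomAlg3

namespace Groth.Agent.S15300

open CategoryTheory CategoryTheory.Limits Opposite
namespace Aux
set_option autoImplicit false
set_option linter.unusedSectionVars false
set_option linter.style.haveILetI false
open H9FE.MLHomology

variable (K : ℕᵒᵖ ⥤ HomologicalComplex AddCommGrpCat.{u} (ComplexShape.up ℤ))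

/-- transition map of the tower -/
noncomputable abbrev tr (n : ℕ) : K.obj (op (n + 1)) ⟶ K.obj (op n) :=
  K.map (homOfLE (Nat.le_succ n)).op

lemma map_eq_of_succ (r : ℤ) (y : ∀ n, (K.obj (op n)).X r)
    (hy : ∀ n, ((tr K n).f r) (y (n + 1)) = y n) (i j : ℕ) (h : i ≤ j) :
    ((K.map (homOfLE h).op).f r) (y j) = y i := by
  induction j, h using Nat.le_induction with
  | base =>
    have : (homOfLE (le_refl i)).op = 𝟙 (op i) := Subsingleton.elim _ _
    rw [this, K.map_id]; rfl
  | succ j hij ih =>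
    have e : (homOfLE (hij.trans (Nat.le_succ j))).op =
        (homOfLE (Nat.le_succ j)).op ≫ (homOfLE hij).op := Subsingleton.elim _ _
    rw [e, K.map_comp]
    change ((K.map (homOfLE hij).op).f r) (((tr K j).f r) (y (j + 1))) = y i
    rw [hy j, ih]

lemma Lx_ext (r : ℤ) (x x' : (limit K).X r)
    (h : ∀ n : ℕ, ((limit.π K (op n)).f r) x = ((limit.π K (op n)).f r) x') : x = x' := by
  have hl := isLimitOfPreserves (HomologicalComplex.eval AddCommGrpCat.{u} (ComplexShape.up ℤ) r)
    (limit.isLimit K)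
  exact Concrete.isLimit_ext _ hl x x' (fun j => h j.unop)

lemma Lx_exists (r : ℤ) (y : ∀ n, (K.obj (op n)).X r)
    (hy : ∀ n, ((tr K n).f r) (y (n + 1)) = y n) :
    ∃ x : (limit K).X r, ∀ n : ℕ, ((limit.π K (op n)).f r) x = y n := by
  have hl := isLimitOfPreserves (HomologicalComplex.eval AddCommGrpCat.{u} (ComplexShape.up ℤ) r)
    (limit.isLimit K)
  have hl' := isLimitOfPreserves (forget AddCommGrpCat.{u}) hl
  let s : ((K ⋙ HomologicalComplex.eval _ _ r) ⋙ forget AddCommGrpCat).sections :=
    ⟨fun j => y j.unop, fun {j j'} f => by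
      have h : j'.unop ≤ j.unop := f.unop.le
      have hf : f = (homOfLE h).op := Subsingleton.elim _ _
      rw [hf]
      exact map_eq_of_succ K r y hy _ _ h⟩
  refine ⟨(Types.isLimitEquivSections hl').symm s, fun i => ?_⟩
  exact Types.isLimitEquivSections_symm_apply hl' s (op i)

lemma pi_tr (r : ℤ) (n : ℕ) (x : (limit K).X r) :
    ((tr K n).f r) (((limit.π K (op (n + 1))).f r) x) = ((limit.π K (op n)).f r) x := by
  have := limit.w K (homOfLE (Nat.le_succ n)).op
  rw [← this]; rfl

/-- solving `y n - t (y (n+1)) = e n` in a tower with surjective transition maps -/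
lemma exists_towerDiff (r : ℤ)
    (hK : ∀ n : ℕ, Function.Surjective ((tr K n).f r).hom)
    (e : ∀ n, (K.obj (op n)).X r) :
    ∃ y : ∀ n, (K.obj (op n)).X r, ∀ n, y n - ((tr K n).f r) (y (n + 1)) = e n := by
  let y : ∀ n, (K.obj (op n)).X r := fun n =>
    Nat.rec (motive := fun n => (K.obj (op n)).X r) 0
      (fun n yn => Classical.choose (hK n (yn - e n))) n
  refine ⟨y, fun n => ?_⟩
  have h : ((tr K n).f r) (y (n + 1)) = y n - e n := Classical.choose_spec (hK n (y n - e n))
  rw [h]; abel


lemma exists_cycle' (L : HomologicalComplex AddCommGrpCat.{u} (ComplexShape.up ℤ)) (q p : ℤ)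
    (hqp : q + 1 = p) (x : L.X q) (hx : L.d q p x = 0) : ∃ z : L.cycles q, L.iCycles q z = x := by
  apply exists_cycle
  have : (ComplexShape.up ℤ).next q = p := (ComplexShape.up ℤ).next_eq' hqp
  rw [this]; exact hx

/-- product of the terms of the tower -/
abbrev P (r : ℤ) : Type u := ∀ n : ℕ, (K.obj (op n)).X r

/-- `y ↦ (d (y n - t (y (n+1))))` -/
noncomputable def Dd (q p : ℤ) : P K q →+ P K p where
  toFun y := fun n => (K.obj (op n)).d q p (y n - ((tr K n).f q) (y (n + 1)))
  map_zero' := by ext n; simp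
  map_add' x y := by
    ext n
    simp only [Pi.add_apply]
    rw [← map_add]
    congr 1
    rw [map_add]; abel

/-- the group of families `y` with `y n - t (y (n+1))` a cycle for all `n` -/
noncomputable def S (q p : ℤ) : AddSubgroup (P K q) := (Dd K q p).ker

lemma mem_S (q p : ℤ) (y : P K q) :
    y ∈ S K q p ↔ ∀ n, (K.obj (op n)).d q p (y n - ((tr K n).f q) (y (n + 1))) = 0 := by
  change Dd K q p y = 0 ↔ _
  exact funext_iff

lemma d_compat (q p : ℤ) (y : S K q p) (n : ℕ) :
    ((tr K n).f p) ((K.obj (op (n + 1))).d q p (y.1 (n + 1))) = (K.obj (op n)).d q p (y.1 n) := by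
  have h := (mem_S K q p y.1).1 y.2 n
  rw [map_sub, sub_eq_zero] at h
  rw [h, f_d]

/-- the element of the limit complex with components `d (y n)` -/
noncomputable def xOf (q p : ℤ) (y : S K q p) : (limit K).X p :=
  Classical.choose (Lx_exists K p (fun n => (K.obj (op n)).d q p (y.1 n)) (d_compat K q p y))

lemma xOf_spec (q p : ℤ) (y : S K q p) (n : ℕ) :
    ((limit.π K (op n)).f p) (xOf K q p y) = (K.obj (op n)).d q p (y.1 n) :=
  Classical.choose_spec (Lx_exists K p (fun n => (K.obj (op n)).d q p (y.1 n)) (d_compat K q p y)) n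

lemma d_xOf (q p p' : ℤ) (y : S K q p) : (limit K).d p p' (xOf K q p y) = 0 := by
  apply Lx_ext K
  intro n
  rw [f_d, xOf_spec, map_zero]
  exact ConcreteCategory.congr_hom ((K.obj (op n)).d_comp_d q p p') (y.1 n)

/-- the cycle of the limit complex with components `d (y n)` -/
noncomputable def zOf (q p : ℤ) (y : S K q p) : (limit K).cycles p :=
  Classical.choose (exists_cycle' (limit K) p (p + 1) rfl (xOf K q p y) (d_xOf K q p (p + 1) y))

lemma zOf_spec (q p : ℤ) (y : S K q p) : (limit K).iCycles p (zOf K q p y) = xOf K q p y :=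
  Classical.choose_spec
    (exists_cycle' (limit K) p (p + 1) rfl (xOf K q p y) (d_xOf K q p (p + 1) y))

lemma zOf_add (q p : ℤ) (y y' : S K q p) : zOf K q p (y + y') = zOf K q p y + zOf K q p y' := by
  apply iC_injective
  rw [map_add, zOf_spec, zOf_spec, zOf_spec]
  apply Lx_ext K
  intro n
  rw [map_add, xOf_spec, xOf_spec, xOf_spec]
  exact map_add _ _ _

/-- `α : S → H^p(lim K)` -/
noncomputable def α (q p : ℤ) :
    S K q p →+ ((HomologicalComplex.homologyFunctor AddCommGrpCat.{u} (ComplexShape.up ℤ) p).obj (limit K)) :=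
  AddMonoidHom.mk' (fun y => (limit K).homologyπ p (zOf K q p y)) (fun y y' => by
    rw [zOf_add]; exact map_add _ _ _)

lemma α_apply (q p : ℤ) (y : S K q p) : α K q p y = (limit K).homologyπ p (zOf K q p y) := rfl

/-- the cycle `y n - t (y (n+1))` of `K_n` -/
noncomputable def cOf (q p : ℤ) (hqp : q + 1 = p) (y : S K q p) (n : ℕ) : (K.obj (op n)).cycles q :=
  Classical.choose (exists_cycle' (K.obj (op n)) q p hqp (y.1 n - ((tr K n).f q) (y.1 (n + 1)))
    ((mem_S K q p y.1).1 y.2 n))

lemma cOf_spec (q p : ℤ) (hqp : q + 1 = p) (y : S K q p) (n : ℕ) :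
    (K.obj (op n)).iCycles q (cOf K q p hqp y n) = y.1 n - ((tr K n).f q) (y.1 (n + 1)) :=
  Classical.choose_spec (exists_cycle' (K.obj (op n)) q p hqp (y.1 n - ((tr K n).f q) (y.1 (n + 1)))
    ((mem_S K q p y.1).1 y.2 n))

lemma cOf_add (q p : ℤ) (hqp : q + 1 = p) (y y' : S K q p) (n : ℕ) :
    cOf K q p hqp (y + y') n = cOf K q p hqp y n + cOf K q p hqp y' n := by
  apply iC_injective
  rw [map_add, cOf_spec, cOf_spec, cOf_spec]
  change (y.1 n + y'.1 n) - ((tr K n).f q) (y.1 (n + 1) + y'.1 (n + 1)) = _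
  rw [map_add]; abel

/-- the tower of cohomology groups in degree `q` -/
abbrev Hq (q : ℤ) (n : ℕ) : Type u := (K.obj (op n)).homology q

/-- transition maps of the tower of cohomology groups -/
noncomputable abbrev Ht (q : ℤ) (n : ℕ) : Hq K q (n + 1) →+ Hq K q n :=
  (HomologicalComplex.homologyMap (tr K n) q).hom

/-- `β₀ : S → ∏ H^q(K_n)` -/
noncomputable def β₀ (q p : ℤ) (hqp : q + 1 = p) : S K q p →+ (∀ n, Hq K q n) :=
  AddMonoidHom.mk' (fun y n => (K.obj (op n)).homologyπ q (cOf K q p hqp y n)) (fun y y' => by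
    ext n
    simp only [Pi.add_apply]
    rw [cOf_add, map_add])

/-- `β : S → lim¹ H^q(K_n)` -/
noncomputable def β (q p : ℤ) (hqp : q + 1 = p) :
    S K q p →+ Formal2.limOne (Hq K q) (Ht K q) :=
  (QuotientAddGroup.mk' _).comp (β₀ K q p hqp)


lemma post_π_apply' (n : ℤ)
    (c : ((HomologicalComplex.homologyFunctor AddCommGrpCat.{u} (ComplexShape.up ℤ) n).obj (limit K)))
    (i : ℕ) :
    (limit.π (K ⋙ HomologicalComplex.homologyFunctor _ _ n) (op i)).hom
      ((limit.post K (HomologicalComplex.homologyFunctor _ _ n)).hom c) =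
      HomologicalComplex.homologyMap (limit.π K (op i)) n c := by
  have := limit.post_π K (HomologicalComplex.homologyFunctor AddCommGrpCat.{u} _ n) (op i)
  exact ConcreteCategory.congr_hom this c

lemma limH_ext (n : ℤ) (a b : ↑(limit (K ⋙ HomologicalComplex.homologyFunctor _ _ n)))
    (h : ∀ i : ℕ, (limit.π (K ⋙ HomologicalComplex.homologyFunctor _ _ n) (op i)).hom a =
      (limit.π (K ⋙ HomologicalComplex.homologyFunctor _ _ n) (op i)).hom b) : a = b :=
  Concrete.limit_ext _ a b (fun j => h j.unop)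

lemma cyclesMap_zOf (q p : ℤ) (y : S K q p) (n : ℕ) :
    HomologicalComplex.cyclesMap (limit.π K (op n)) p (zOf K q p y) =
      (K.obj (op n)).toCycles q p (y.1 n) := by
  apply iC_injective
  rw [iCycles_cyclesMap, zOf_spec, xOf_spec, iCycles_toCycles]

lemma α_mem_ker (q p : ℤ) (y : S K q p) :
    α K q p y ∈ (limit.post K (HomologicalComplex.homologyFunctor _ _ p)).hom.ker := by
  change (limit.post K (HomologicalComplex.homologyFunctor _ _ p)).hom (α K q p y) = 0
  apply limH_ext
  intro n
  rw [post_π_apply', α_apply, homologyMap_homologyπ, cyclesMap_zOf, homologyπ_toCycles]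
  exact (map_zero _).symm

lemma α_surj (q p : ℤ) (hqp : q + 1 = p)
    (c : ((HomologicalComplex.homologyFunctor AddCommGrpCat.{u} (ComplexShape.up ℤ) p).obj (limit K)))
    (hc : c ∈ (limit.post K (HomologicalComplex.homologyFunctor _ _ p)).hom.ker) :
    ∃ y : S K q p, α K q p y = c := by
  replace hc : (limit.post K (HomologicalComplex.homologyFunctor _ _ p)).hom c = 0 := hc
  obtain ⟨z, rfl⟩ := hπ_surjective (limit K) p c
  have h1 : ∀ n : ℕ, ∃ y : (K.obj (op n)).X q, (K.obj (op n)).toCycles q p y =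
      HomologicalComplex.cyclesMap (limit.π K (op n)) p z := by
    intro n
    apply exists_of_homologyπ_eq_zero _ q p hqp
    rw [← homologyMap_homologyπ]
    refine (post_π_apply' K p _ n).symm.trans ?_
    rw [hc]; exact map_zero _
  choose y hy using h1
  have hdy : ∀ n, (K.obj (op n)).d q p (y n) = ((limit.π K (op n)).f p) ((limit K).iCycles p z) := by
    intro n
    rw [← iCycles_toCycles, hy, iCycles_cyclesMap]
  have hyS : y ∈ S K q p := by
    rw [mem_S]
    intro n
    rw [map_sub, ← f_d, hdy, hdy, pi_tr, sub_self]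
  refine ⟨⟨y, hyS⟩, ?_⟩
  rw [α_apply]
  congr 1
  apply iC_injective
  rw [zOf_spec]
  apply Lx_ext K
  intro n
  rw [xOf_spec, hdy]

lemma β_surj (q p : ℤ) (hqp : q + 1 = p)
    (hK : ∀ n : ℕ, Function.Surjective ((tr K n).f q).hom) :
    Function.Surjective (β K q p hqp) := by
  intro c
  obtain ⟨h, rfl⟩ := QuotientAddGroup.mk_surjective c
  have h1 : ∀ n : ℕ, ∃ e : (K.obj (op n)).cycles q, (K.obj (op n)).homologyπ q e = h n :=
    fun n => hπ_surjective _ q (h n)
  choose e he using h1
  obtain ⟨y, hy⟩ := exists_towerDiff K q hK (fun n => (K.obj (op n)).iCycles q (e n))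
  have hyS : y ∈ S K q p := by
    rw [mem_S]
    intro n
    rw [hy, d_iCycles]
  refine ⟨⟨y, hyS⟩, ?_⟩
  change (QuotientAddGroup.mk (β₀ K q p hqp ⟨y, hyS⟩) : Formal2.limOne (Hq K q) (Ht K q)) = _
  congr 1
  funext n
  change (K.obj (op n)).homologyπ q (cOf K q p hqp ⟨y, hyS⟩ n) = h n
  rw [← he]
  congr 1
  apply iC_injective
  rw [cOf_spec]
  exact hy n


lemma ker_α_le (q p : ℤ) (hqp : q + 1 = p) (y : S K q p) (hy : α K q p y = 0) :
    β K q p hqp y = 0 := by
  rw [α_apply] at hy
  obtain ⟨w, hw⟩ := exists_of_homologyπ_eq_zero (limit K) q p hqp _ hy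
  -- components of `w`
  have hdw : ∀ n, (K.obj (op n)).d q p (((limit.π K (op n)).f q) w) =
      (K.obj (op n)).d q p (y.1 n) := by
    intro n
    rw [← f_d, ← iCycles_toCycles, hw, zOf_spec, xOf_spec]
  have h1 : ∀ n : ℕ, ∃ W : (K.obj (op n)).cycles q,
      (K.obj (op n)).iCycles q W = y.1 n - ((limit.π K (op n)).f q) w := by
    intro n
    apply exists_cycle' _ q p hqp
    rw [map_sub, hdw, sub_self]
  choose W hW using h1
  change (QuotientAddGroup.mk (β₀ K q p hqp y) : Formal2.limOne (Hq K q) (Ht K q)) = 0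
  rw [QuotientAddGroup.eq_zero_iff]
  refine ⟨fun n => (K.obj (op n)).homologyπ q (W n), ?_⟩
  funext n
  change (K.obj (op n)).homologyπ q (W n) -
    (HomologicalComplex.homologyMap (tr K n) q).hom ((K.obj (op (n + 1))).homologyπ q (W (n + 1))) =
    (K.obj (op n)).homologyπ q (cOf K q p hqp y n)
  have e : (HomologicalComplex.homologyMap (tr K n) q).hom
      ((K.obj (op (n + 1))).homologyπ q (W (n + 1))) =
      (K.obj (op n)).homologyπ q (HomologicalComplex.cyclesMap (tr K n) q (W (n + 1))) :=
    homologyMap_homologyπ (tr K n) q (W (n + 1))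
  rw [e, ← map_sub]
  congr 1
  apply iC_injective
  rw [map_sub, iCycles_cyclesMap, hW, hW, cOf_spec, map_sub, pi_tr]
  abel

lemma ker_β_le (q' q p : ℤ) (hq : q' + 1 = q) (hqp : q + 1 = p)
    (hK : ∀ n : ℕ, Function.Surjective ((tr K n).f q').hom)
    (y : S K q p) (hy : β K q p hqp y = 0) : α K q p y = 0 := by
  replace hy : (QuotientAddGroup.mk (β₀ K q p hqp y) : Formal2.limOne (Hq K q) (Ht K q)) = 0 := hy
  rw [QuotientAddGroup.eq_zero_iff] at hy
  obtain ⟨h, hh⟩ := hy
  have hh' : ∀ n, h n - (HomologicalComplex.homologyMap (tr K n) q).hom (h (n + 1)) =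
      (K.obj (op n)).homologyπ q (cOf K q p hqp y n) := fun n => congrFun hh n
  have h1 : ∀ n : ℕ, ∃ W : (K.obj (op n)).cycles q, (K.obj (op n)).homologyπ q W = h n :=
    fun n => hπ_surjective _ q (h n)
  choose W hW using h1
  have h2 : ∀ n : ℕ, ∃ b : (K.obj (op n)).X q', (K.obj (op n)).toCycles q' q b =
      cOf K q p hqp y n - (W n - HomologicalComplex.cyclesMap (tr K n) q (W (n + 1))) := by
    intro n
    apply exists_of_homologyπ_eq_zero _ q' q hq
    rw [map_sub, map_sub, ← homologyMap_homologyπ, hW, hW, ← hh' n]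
    exact sub_self _
  choose b hb using h2
  obtain ⟨v, hv⟩ := exists_towerDiff K q' hK b
  -- the compatible family
  have hcomp : ∀ n, ((tr K n).f q)
      (y.1 (n + 1) - (K.obj (op (n + 1))).iCycles q (W (n + 1)) -
        (K.obj (op (n + 1))).d q' q (v (n + 1))) =
      y.1 n - (K.obj (op n)).iCycles q (W n) - (K.obj (op n)).d q' q (v n) := by
    intro n
    have e1 : (K.obj (op n)).d q' q (b n) =
        (y.1 n - ((tr K n).f q) (y.1 (n + 1))) -
          ((K.obj (op n)).iCycles q (W n) -
            ((tr K n).f q) ((K.obj (op (n + 1))).iCycles q (W (n + 1)))) := by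
      rw [← iCycles_toCycles, hb, map_sub, map_sub, cOf_spec, iCycles_cyclesMap]
    have e2 : (K.obj (op n)).d q' q (b n) =
        (K.obj (op n)).d q' q (v n) - ((tr K n).f q) ((K.obj (op (n + 1))).d q' q (v (n + 1))) := by
      rw [← hv n, map_sub, f_d]
    rw [map_sub, map_sub]
    have e3 := e1.symm.trans e2
    have key : ∀ (a b c d e f : (K.obj (op n)).X q),
        (a - b) - (c - d) = e - f → b - d - f = a - c - e := by
      intro a b c d e f h
      have : b - d - f - (a - c - e) = -((a - b) - (c - d) - (e - f)) := by abel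
      rw [← sub_eq_zero, this, h, sub_self, neg_zero]
    exact key _ _ _ _ _ _ e3
  obtain ⟨w', hw'⟩ := Lx_exists K q (fun n => y.1 n - (K.obj (op n)).iCycles q (W n) -
        (K.obj (op n)).d q' q (v n)) hcomp
  rw [α_apply]
  have : zOf K q p y = (limit K).toCycles q p w' := by
    apply iC_injective
    rw [zOf_spec, iCycles_toCycles]
    apply Lx_ext K
    intro n
    rw [xOf_spec, f_d, hw', map_sub, map_sub, d_iCycles]
    have : (K.obj (op n)).d q p ((K.obj (op n)).d q' q (v n)) = 0 :=
      ConcreteCategory.congr_hom ((K.obj (op n)).d_comp_d q' q p) (v n)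
    rw [this]; abel
  rw [this]
  exact homologyπ_toCycles _ _ _ _


/-- `α` corestricted to the kernel of the comparison map -/
noncomputable def α' (q p : ℤ) :
    S K q p →+ (limit.post K (HomologicalComplex.homologyFunctor _ _ p)).hom.ker :=
  (α K q p).codRestrict _ (α_mem_ker K q p)

lemma α'_surj (q p : ℤ) (hqp : q + 1 = p) : Function.Surjective (α' K q p) := by
  rintro ⟨c, hc⟩
  obtain ⟨y, hy⟩ := α_surj K q p hqp c hc
  exact ⟨y, Subtype.ext hy⟩

lemma ker_eq (q' q p : ℤ) (hq : q' + 1 = q) (hqp : q + 1 = p)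
    (hK : ∀ n : ℕ, Function.Surjective ((tr K n).f q').hom) :
    (α' K q p).ker = (β K q p hqp).ker := by
  ext y
  rw [AddMonoidHom.mem_ker, AddMonoidHom.mem_ker]
  constructor
  · intro h
    apply ker_α_le K q p hqp y
    exact congrArg Subtype.val h
  · intro h
    exact Subtype.ext (ker_β_le K q' q p hq hqp hK y h)

/-- the Milnor isomorphism -/
noncomputable def milnor (q' q p : ℤ) (hq : q' + 1 = q) (hqp : q + 1 = p)
    (hK' : ∀ n : ℕ, Function.Surjective ((tr K n).f q').hom)
    (hK : ∀ n : ℕ, Function.Surjective ((tr K n).f q).hom) :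
    (limit.post K (HomologicalComplex.homologyFunctor _ _ p)).hom.ker ≃+
      Formal2.limOne (Hq K q) (Ht K q) :=
  (QuotientAddGroup.quotientKerEquivOfSurjective (α' K q p) (α'_surj K q p hqp)).symm.trans
    ((QuotientAddGroup.quotientAddEquivOfEq (ker_eq K q' q p hq hqp hK')).trans
      (QuotientAddGroup.quotientKerEquivOfSurjective (β K q p hqp) (β_surj K q p hqp hK)))

lemma step (q p : ℤ) (hqp : q + 1 = p)
    (hK : ∀ n : ℕ, Function.Surjective ((tr K n).f q).hom)
    (h : ∀ n, Hq K p n) (hh : ∀ n, Ht K p n (h (n + 1)) = h n)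
    (n : ℕ) (z : (K.obj (op n)).cycles p) (hz : (K.obj (op n)).homologyπ p z = h n) :
    ∃ z' : (K.obj (op (n + 1))).cycles p, (K.obj (op (n + 1))).homologyπ p z' = h (n + 1) ∧
      HomologicalComplex.cyclesMap (tr K n) p z' = z := by
  obtain ⟨ζ, hζ⟩ := hπ_surjective (K.obj (op (n + 1))) p (h (n + 1))
  have h0 : (K.obj (op n)).homologyπ p (HomologicalComplex.cyclesMap (tr K n) p ζ - z) = 0 := by
    rw [map_sub, ← homologyMap_homologyπ, hζ, hz]
    exact sub_eq_zero.2 (hh n)
  obtain ⟨b, hb⟩ := exists_of_homologyπ_eq_zero _ q p hqp _ h0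
  obtain ⟨b', hb'⟩ := hK n b
  refine ⟨ζ - (K.obj (op (n + 1))).toCycles q p b', ?_, ?_⟩
  · rw [map_sub, hζ, homologyπ_toCycles, sub_zero]
  · rw [map_sub, cyclesMap_toCycles]
    have : ((tr K n).f q) b' = b := hb'
    rw [this, hb]; abel

theorem post_surj (q p : ℤ) (hqp : q + 1 = p)
    (hK : ∀ n : ℕ, Function.Surjective ((tr K n).f q).hom) :
    Function.Surjective (limit.post K (HomologicalComplex.homologyFunctor _ _ p)).hom := by
  intro hh
  let h : ∀ n, Hq K p n := fun n =>
    (limit.π (K ⋙ HomologicalComplex.homologyFunctor _ _ p) (op n)).hom hh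
  have hcomp : ∀ n, Ht K p n (h (n + 1)) = h n := by
    intro n
    have := limit.w (K ⋙ HomologicalComplex.homologyFunctor AddCommGrpCat.{u} _ p)
      (homOfLE (Nat.le_succ n)).op
    exact ConcreteCategory.congr_hom this hh
  -- compatible cycles
  let ζ : ∀ n, {z : (K.obj (op n)).cycles p // (K.obj (op n)).homologyπ p z = h n} := fun n =>
    Nat.rec (motive := fun n => {z : (K.obj (op n)).cycles p // (K.obj (op n)).homologyπ p z = h n})
      ⟨Classical.choose (hπ_surjective (K.obj (op 0)) p (h 0)),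
        Classical.choose_spec (hπ_surjective (K.obj (op 0)) p (h 0))⟩
      (fun n z => ⟨Classical.choose (step K q p hqp hK h hcomp n z.1 z.2),
        (Classical.choose_spec (step K q p hqp hK h hcomp n z.1 z.2)).1⟩) n
  have hζ : ∀ n, HomologicalComplex.cyclesMap (tr K n) p (ζ (n + 1)).1 = (ζ n).1 := fun n =>
    (Classical.choose_spec (step K q p hqp hK h hcomp n (ζ n).1 (ζ n).2)).2
  obtain ⟨x, hx⟩ := Lx_exists K p (fun n => (K.obj (op n)).iCycles p (ζ n).1) (by
    intro n
    rw [← iCycles_cyclesMap, hζ])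
  have hdx : (limit K).d p (p + 1) x = 0 := by
    apply Lx_ext K
    intro n
    rw [f_d, hx, d_iCycles, map_zero]
  obtain ⟨z, hz⟩ := exists_cycle' (limit K) p (p + 1) rfl x hdx
  refine ⟨(limit K).homologyπ p z, ?_⟩
  apply limH_ext
  intro n
  refine (post_π_apply' K p _ n).trans ?_
  rw [homologyMap_homologyπ]
  have : HomologicalComplex.cyclesMap (limit.π K (op n)) p z = (ζ n).1 := by
    apply iC_injective
    rw [iCycles_cyclesMap, hz, hx]
  rw [this]
  exact (ζ n).2

theorem main
    (hK : ∀ (n : ℕ) (q : ℤ), Function.Surjective ((K.map (homOfLE (Nat.le_succ n)).op).f q).hom)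
    (p q : ℤ) (hqp : q + 1 = p) :
    Function.Surjective (limit.post K (HomologicalComplex.homologyFunctor _ _ p)).hom ∧
      Nonempty ((limit.post K (HomologicalComplex.homologyFunctor _ _ p)).hom.ker ≃+
        Formal2.limOne (fun n => (K.obj (op n)).homology q)
          (fun n => (HomologicalComplex.homologyMap (K.map (homOfLE (Nat.le_succ n)).op) q).hom)) :=
  ⟨post_surj K q p hqp (fun n => hK n q),
    ⟨milnor K (q - 1) q p (by ring) hqp (fun n => hK n (q - 1)) (fun n => hK n q)⟩⟩

end Aux

open CategoryTheory CategoryTheory.Limits Opposite in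
/-- For abelian groups, let (A_n)_n be a tower of cochain complexes of abelian groups, indexed by the
natural numbers, all of whose transition maps A_{n+1}^p → A_n^p are surjective. Then for every p
there is a short exact sequence 0 → lim¹_n h^(p-1)(A_n) → h^p(lim_n A_n) → lim_n h^p(A_n) → 0: the
comparison map h^p(lim A_n) → lim h^p(A_n) is surjective and its kernel is isomorphic to lim¹ of the
tower of the (p-1)-st cohomology groups (existence of an isomorphism only). (The published statement
is made in an axiomatic setting that also covers quasi-coherent sheaves; this row is the case of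
abelian groups.) -/
theorem result
    (K : ℕᵒᵖ ⥤ HomologicalComplex AddCommGrpCat.{u} (ComplexShape.up ℤ))
    (hK : ∀ (n : ℕ) (q : ℤ), Function.Surjective ((K.map (homOfLE (Nat.le_succ n)).op).f q).hom)
    (p q : ℤ) (hqp : q + 1 = p) :
    Function.Surjective (limit.post K (HomologicalComplex.homologyFunctor _ _ p)).hom ∧
      Nonempty ((limit.post K (HomologicalComplex.homologyFunctor _ _ p)).hom.ker ≃+
        Formal2.limOne (fun n => (K.obj (op n)).homology q)
          (fun n => (HomologicalComplex.homologyMap (K.map (homOfLE (Nat.le_succ n)).op) q).hom)) := by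
  exact Aux.main K hK p q hqp

end Groth.Agent.S15300
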