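import Groth.Statements.S15307
import Groth.Statements.S15307
import Mathlib
import Groth.Agent.Lib.Helper3.MLLim
import Groth.Agent.Lib.Helper3.RDTwo

set_option autoImplicit false
universe u
open HomAlg3

namespace Groth.Agent.S15307

section stepA

open CategoryTheory CategoryTheory.Limits Opposite Groth.Agent.Helper3.MLLim

variable (I : ℕᵒᵖ ⥤ AddCommGrpCat.{u}) (n : ℕ)

/-- the subgroup of `I_n` which is everything in degrees `m ≤ k` and zero above -/
def S (k m : ℕ) : AddSubgroup (I.obj (op n)) where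
  carrier := {a | k < m → a = 0}
  zero_mem' := fun _ => rfl
  add_mem' := fun {a b} ha hb h => by rw [ha h, hb h, add_zero]
  neg_mem' := fun {a} ha h => by rw [ha h, neg_zero]

lemma S_succ (k m : ℕ) : S I n k (m + 1) ≤ S I n k m := fun _ ha h => ha (by omega)

lemma S_mono (k m : ℕ) : S I n k m ≤ S I n (k + 1) m := fun _ ha h => ha (by omega)

/-- the truncated constant tower -/
noncomputable def tower (k : ℕ) : ℕᵒᵖ ⥤ AddCommGrpCat.{u} :=
  Functor.ofOpSequence (X := fun m => AddCommGrpCat.of (S I n k m))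
    (fun m => AddCommGrpCat.ofHom (AddSubgroup.inclusion (S_succ I n k m)))

noncomputable def jmap : tower I n n ⟶ tower I n (n + 1) :=
  NatTrans.ofOpSequence
    (fun m => AddCommGrpCat.ofHom (AddSubgroup.inclusion (S_mono I n n m)))
    (fun m => by
      dsimp only [tower]
      rw [Functor.ofOpSequence_map_homOfLE_succ, Functor.ofOpSequence_map_homOfLE_succ]
      rfl)

instance : Mono (jmap I n) := by
  haveI : ∀ X, Mono ((jmap I n).app X) := by
    intro X
    rw [AddCommGrpCat.mono_iff_injective]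
    intro a b h
    have h' : (((jmap I n).app X).hom a).1 = (((jmap I n).app X).hom b).1 := congrArg Subtype.val h
    exact Subtype.ext h'
  exact NatTrans.mono_of_mono_app _

/-- components of the map from the truncated tower to `I` -/
noncomputable def gm (m : ℕ) : S I n n m →+ I.obj (op m) :=
  if h : m ≤ n then (res I h).comp (S I n n m).subtype else 0

noncomputable def gmap : tower I n n ⟶ I :=
  NatTrans.ofOpSequence
    (fun m => AddCommGrpCat.ofHom (gm I n m))
    (fun m => by
      have key : ∀ a : S I n n (m + 1), gm I n m (AddSubgroup.inclusion (S_succ I n n m) a) =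
          res I (Nat.le_succ m) (gm I n (m + 1) a) := by
        intro a
        by_cases h : m + 1 ≤ n
        · have hm : m ≤ n := by omega
          simp only [gm, dif_pos h, dif_pos hm]
          change res I hm a.1 = res I (Nat.le_succ m) (res I h a.1)
          rw [res_res]
        · have ha : a = 0 := Subtype.ext (a.2 (by omega))
          rw [ha, map_zero, map_zero, map_zero, map_zero]
      dsimp only [tower]
      rw [Functor.ofOpSequence_map_homOfLE_succ]
      ext a
      exact key a)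

theorem surjective_of_injective [Injective I] :
    Function.Surjective (res I (Nat.le_succ n)) := by
  intro x
  let gt : tower I n (n + 1) ⟶ I := Injective.factorThru (gmap I n) (jmap I n)
  have hgt : jmap I n ≫ gt = gmap I n := Injective.comp_factorThru _ _
  let xW : S I n (n + 1) (n + 1) := ⟨x, fun h => absurd h (lt_irrefl _)⟩
  let xV : S I n n n := ⟨x, fun h => absurd h (lt_irrefl _)⟩
  refine ⟨(gt.app (op (n + 1))).hom xW, ?_⟩
  rw [← nat_res gt (Nat.le_succ n) xW]
  have h1 : res (tower I n (n + 1)) (Nat.le_succ n) xW = ((jmap I n).app (op n)).hom xV := by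
    change ((tower I n (n + 1)).map (homOfLE (Nat.le_add_right n 1)).op).hom xW = _
    dsimp only [tower]
    rw [Functor.ofOpSequence_map_homOfLE_succ]
    rfl
  rw [h1]
  have h2 := congrArg (fun φ => (φ.app (op n)).hom xV) hgt
  change (gt.app (op n)).hom (((jmap I n).app (op n)).hom xV) = ((gmap I n).app (op n)).hom xV at h2
  rw [h2]
  change gm I n n xV = x
  simp only [gm, dif_pos (le_refl n)]
  exact res_self I x

end stepA

section stepB

open CategoryTheory CategoryTheory.Limits Opposite Groth.Agent.Helper3.MLLim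
open Groth.Agent.Helper3.RDPlus Groth.Agent.Helper3.RDAcyc Groth.Agent.Helper3.RDBridge
  Groth.Agent.Helper3.RDTwo

/-- towers with surjective transition maps -/
def Surj (Q : ℕᵒᵖ ⥤ AddCommGrpCat.{u}) : Prop :=
  ∀ n, Function.Surjective (res Q (Nat.le_succ n))

lemma Surj.res_surjective {Q : ℕᵒᵖ ⥤ AddCommGrpCat.{u}} (hQ : Surj Q) {n m : ℕ} (h : n ≤ m) :
    Function.Surjective (res Q h) := by
  induction h with
  | refl => intro x; exact ⟨x, res_self Q x⟩
  | @step m h ih =>
    intro x
    obtain ⟨y, hy⟩ := ih x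
    obtain ⟨z, hz⟩ := hQ m y
    refine ⟨z, ?_⟩
    rw [← hy, ← hz, res_res]

lemma Surj.ml {Q : ℕᵒᵖ ⥤ AddCommGrpCat.{u}} (hQ : Surj Q) :
    (Q ⋙ forget AddCommGrpCat).IsMittagLeffler := by
  refine ml_of_index Q (fun n => ⟨n, le_refl n, fun m hm x => ?_⟩)
  exact hQ.res_surjective hm _

variable (S : ShortComplex (ℕᵒᵖ ⥤ AddCommGrpCat.{u})) (hS : S.ShortExact)

include hS

lemma app_surjective (n : ℕᵒᵖ) : Function.Surjective (S.g.app n).hom := by
  haveI := hS.epi_g
  haveI : Epi (S.g.app n) := inferInstance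
  exact (AddCommGrpCat.epi_iff_surjective _).1 inferInstance

lemma app_exact (n : ℕᵒᵖ) : (S.g.app n).hom.ker = (S.f.app n).hom.range := by
  have h := hS.map_of_exact ((evaluation ℕᵒᵖ AddCommGrpCat.{u}).obj n)
  have := ShortComplex.ab_exact_iff_range_eq_ker.1 h.exact
  exact this.symm

lemma surj_X₃ (h₂ : Surj S.X₂) : Surj S.X₃ := by
  intro n c
  obtain ⟨b, rfl⟩ := app_surjective S hS (op n) c
  obtain ⟨b', rfl⟩ := h₂ n b
  exact ⟨(S.g.app (op (n + 1))).hom b', (nat_res S.g (Nat.le_succ n) b').symm⟩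

omit hS in
/-- Mittag-Leffler: surjectivity of `lim B → lim C` for towers. -/
theorem limMap_surjective_nat
    {A B C : ℕᵒᵖ ⥤ AddCommGrpCat.{u}} (a : A ⟶ B) (v : B ⟶ C)
    (hv : ∀ i, Function.Surjective (v.app i).hom)
    (hex : ∀ i, (v.app i).hom.ker = (a.app i).hom.range)
    (hA : (A ⋙ forget AddCommGrpCat).IsMittagLeffler) :
    Function.Surjective (limMap v).hom := by
  intro z
  let zc : ∀ j, C.obj (op j) := fun j => (limit.π C (op j)).hom z
  obtain ⟨y, hyT, hy⟩ := exists_compatible (A := A) (B := B) a hA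
    (fun n => {t : B.obj (op n) | (v.app (op n)).hom t = zc n})
    (fun n => hv (op n) (zc n))
    (fun {n m} h t ht => by
      change (v.app (op n)).hom (res B h t) = zc n
      rw [nat_res v h t, show (v.app (op m)).hom t = zc m from ht]
      exact limit_π_res C z h)
    (fun n (t t' : B.obj (op n)) ht ht' => by
      have : t - t' ∈ (v.app (op n)).hom.ker := by
        rw [AddMonoidHom.mem_ker, map_sub,
          show (v.app (op n)).hom t = zc n from ht,
          show (v.app (op n)).hom t' = zc n from ht', sub_self]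
      rw [hex] at this
      exact this)
    (fun n (t : B.obj (op n)) (α : A.obj (op n)) ht => by
      change (v.app (op n)).hom (t + (a.app (op n)).hom α) = zc n
      have h0 : (v.app (op n)).hom ((a.app (op n)).hom α) = 0 := by
        have : (a.app (op n)).hom α ∈ (a.app (op n)).hom.range := ⟨α, rfl⟩
        rw [← hex] at this
        exact this
      rw [map_add, h0, add_zero]
      exact ht)
  obtain ⟨w, hw⟩ := exists_limit_elt B y hy
  refine ⟨w, limit_ext C _ _ (fun j => ?_)⟩
  rw [limMap_π_apply, hw]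
  exact hyT j

lemma epi_lim_map (h₁ : Surj S.X₁) :
    Epi ((lim : (ℕᵒᵖ ⥤ AddCommGrpCat.{u}) ⥤ AddCommGrpCat.{u}).map S.g) := by
  rw [AddCommGrpCat.epi_iff_surjective]
  exact limMap_surjective_nat S.f S.g (app_surjective S hS) (app_exact S hS) h₁.ml

end stepB

section stepC

open CategoryTheory CategoryTheory.Limits Opposite Groth.Agent.Helper3.MLLim
open Groth.Agent.Helper3.RDPlus Groth.Agent.Helper3.RDAcyc Groth.Agent.Helper3.RDBridge
  Groth.Agent.Helper3.RDTwo

variable [EnoughInjectives (ℕᵒᵖ ⥤ AddCommGrpCat.{u})]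
  [(lim : (ℕᵒᵖ ⥤ AddCommGrpCat.{u}) ⥤ AddCommGrpCat.{u}).Additive]
  [HasDerivedCategory.{u + 1} (ℕᵒᵖ ⥤ AddCommGrpCat.{u})]
  [HasDerivedCategory.{u + 1} AddCommGrpCat.{u}]

/-- the limit functor on towers -/
noncomputable abbrev L : (ℕᵒᵖ ⥤ AddCommGrpCat.{u}) ⥤ AddCommGrpCat.{u} := lim

/-- the short exact sequence `A → I → I/A` attached to an injective presentation -/
noncomputable def ses (A : ℕᵒᵖ ⥤ AddCommGrpCat.{u}) : ShortComplex (ℕᵒᵖ ⥤ AddCommGrpCat.{u}) :=
  ShortComplex.mk (Injective.ι A) (cokernel.π (Injective.ι A)) (cokernel.condition _)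

lemma ses_shortExact (A : ℕᵒᵖ ⥤ AddCommGrpCat.{u}) : (ses A).ShortExact :=
  { exact := ShortComplex.exact_cokernel _
    mono_f := by dsimp [ses]; infer_instance
    epi_g := by dsimp [ses]; infer_instance }

lemma ses_surj_X₃ (A : ℕᵒᵖ ⥤ AddCommGrpCat.{u}) : Surj (ses A).X₃ :=
  surj_X₃ (ses A) (ses_shortExact A) (fun n => surjective_of_injective (Injective.under A) n)

lemma isZero_HF_injective (I : ℕᵒᵖ ⥤ AddCommGrpCat.{u}) [Injective I] (i : ℤ) (hi : 0 < i) :
    IsZero ((HF L i).obj (sgDF.obj I)) := by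
  have h : HAcyc L I := (hAcyc_iff L I).2 (fun n hn => by
    obtain ⟨k, rfl⟩ : ∃ k, n = k + 1 := ⟨n - 1, by omega⟩
    exact Functor.isZero_rightDerived_obj_injective_succ L k I)
  exact h i hi

lemma isZero_HF_of_surj : ∀ (k : ℕ) (Q : ℕᵒᵖ ⥤ AddCommGrpCat.{u}), Surj Q →
    IsZero ((HF L ((k : ℤ) + 1)).obj (sgDF.obj Q)) := by
  intro k
  induction k with
  | zero =>
    intro Q hQ
    obtain ⟨-, δ, w₁, w₂, hex₁, hex₂⟩ := les L (ses Q) (ses_shortExact Q) 0 ((0 : ℕ) + 1) (by simp)
    refine hex₂.isZero_X₂ ?_ ((isZero_HF_injective (Injective.under Q) _ (by simp)).eq_of_tgt _ _)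
    haveI : Epi ((HF L 0).map (sgDF.map (ses Q).g)) :=
      (epi_map_iff L (ses Q).g).1 (epi_lim_map (ses Q) (ses_shortExact Q) hQ)
    change δ = 0
    rw [← cancel_epi ((HF L 0).map (sgDF.map (ses Q).g)), w₁, comp_zero]
  | succ k ih =>
    intro Q hQ
    obtain ⟨-, δ, w₁, w₂, hex₁, hex₂⟩ := les L (ses Q) (ses_shortExact Q) ((k : ℤ) + 1)
      (((k + 1 : ℕ) : ℤ) + 1) (by push_cast; ring)
    refine hex₂.isZero_X₂ ((ih _ (ses_surj_X₃ Q)).eq_of_src _ _)
      ((isZero_HF_injective (Injective.under Q) _ (by positivity)).eq_of_tgt _ _)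

lemma isZero_HF_two (A : ℕᵒᵖ ⥤ AddCommGrpCat.{u}) (k : ℕ) :
    IsZero ((HF L ((k : ℤ) + 2)).obj (sgDF.obj A)) := by
  obtain ⟨-, δ, w₁, w₂, hex₁, hex₂⟩ := les L (ses A) (ses_shortExact A) ((k : ℤ) + 1)
    ((k : ℤ) + 2) (by ring)
  exact hex₂.isZero_X₂ ((isZero_HF_of_surj k _ (ses_surj_X₃ A)).eq_of_src _ _)
    ((isZero_HF_injective (Injective.under A) _ (by positivity)).eq_of_tgt _ _)

end stepC

open CategoryTheory CategoryTheory.Limits in
/-- For abelian groups, for an inverse system (A_n) of abelian groups indexed by the natural numbers,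
the right derived functors lim^(i) A_n of the inverse limit vanish for every i ≥ 2. (The two
instance hypotheses, enough injectives in the category of towers of abelian groups and additivity of
the limit functor, always hold. The published statement is made in an axiomatic setting that also
covers quasi-coherent sheaves; this row is the case of abelian groups.) -/
theorem result
    [EnoughInjectives (ℕᵒᵖ ⥤ AddCommGrpCat.{u})]
    [(lim : (ℕᵒᵖ ⥤ AddCommGrpCat.{u}) ⥤ AddCommGrpCat.{u}).Additive]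
    (A : ℕᵒᵖ ⥤ AddCommGrpCat.{u}) (i : ℕ) (hi : 2 ≤ i) :
    IsZero (((lim : (ℕᵒᵖ ⥤ AddCommGrpCat.{u}) ⥤ AddCommGrpCat.{u}).rightDerived i).obj A) := by
  letI : HasDerivedCategory.{u + 1} (ℕᵒᵖ ⥤ AddCommGrpCat.{u}) :=
    MorphismProperty.HasLocalization.standard _
  letI : HasDerivedCategory.{u + 1} AddCommGrpCat.{u} :=
    MorphismProperty.HasLocalization.standard _
  obtain ⟨k, rfl⟩ : ∃ k, i = k + 2 := ⟨i - 2, by omega⟩
  have h := isZero_HF_two A k
  have e := Groth.Agent.Helper3.RDBridge.hb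
    (lim : (ℕᵒᵖ ⥤ AddCommGrpCat.{u}) ⥤ AddCommGrpCat.{u}) (injectiveResolution A) (k + 2)
  refine IsZero.of_iso ?_ e
  have : (((k + 2 : ℕ) : ℤ)) = (k : ℤ) + 2 := by push_cast; ring
  rw [this]
  exact h

end Groth.Agent.S15307
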