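import Groth.Statements.S15315

set_option autoImplicit false
universe u
open ArLef

namespace Groth.Agent.S15315

/-- For a Noetherian commutative ring A, elements a, b with a a non-zero-divisor on A/(b), and an ideal
I, one has length(A/(aI + bA)) = length(A/(a, b)) + length(A/(I + bA)) as extended natural numbers;
in particular when two of the three quotients have finite length so does the third. -/
theorem result (A : Type u) [CommRing A] [IsNoetherianRing A] (a b : A) (I : Ideal A)
    (ha : IsSMulRegular (A ⧸ Ideal.span ({b} : Set A)) a) :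
    Module.length A (A ⧸ (Ideal.span {a} * I ⊔ Ideal.span {b})) =
      Module.length A (A ⧸ Ideal.span ({a, b} : Set A)) + Module.length A (A ⧸ (I ⊔ Ideal.span {b})) := by
  set J₁ : Ideal A := Ideal.span {a} * I ⊔ Ideal.span {b} with hJ₁
  set J₂ : Ideal A := I ⊔ Ideal.span {b} with hJ₂
  set J₃ : Ideal A := Ideal.span ({a, b} : Set A) with hJ₃
  have hb₁ : b ∈ J₁ := Ideal.mem_sup_right (Ideal.mem_span_singleton_self b)
  have hb₃ : b ∈ J₃ := Ideal.subset_span (by simp)
  have ha₃ : a ∈ J₃ := Ideal.subset_span (by simp)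
  have h21 : J₂ ≤ Submodule.comap (LinearMap.mulLeft A a) J₁ := by
    rw [hJ₂]
    apply sup_le
    · intro x hx
      show a * x ∈ J₁
      exact Ideal.mem_sup_left (Ideal.mul_mem_mul (Ideal.mem_span_singleton_self a) hx)
    · rw [Ideal.span_le]
      intro x hx
      rw [Set.mem_singleton_iff.mp hx]
      show a * b ∈ J₁
      exact Ideal.mul_mem_left _ _ hb₁
  have h13 : J₁ ≤ Submodule.comap (LinearMap.id : A →ₗ[A] A) J₃ := by
    rw [hJ₁]
    apply sup_le
    · intro x hx
      show x ∈ J₃
      refine Submodule.mul_induction_on hx (fun y hy z _ => ?_) (fun y z hy hz => Ideal.add_mem _ hy hz)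
      obtain ⟨c, rfl⟩ := Ideal.mem_span_singleton'.mp hy
      exact Ideal.mul_mem_right _ _ (Ideal.mul_mem_left _ _ ha₃)
    · rw [Ideal.span_le]
      intro x hx
      rw [Set.mem_singleton_iff.mp hx]
      exact hb₃
  set f : (A ⧸ J₂) →ₗ[A] (A ⧸ J₁) := Submodule.mapQ J₂ J₁ (LinearMap.mulLeft A a) h21 with hf
  set g : (A ⧸ J₁) →ₗ[A] (A ⧸ J₃) := Submodule.mapQ J₁ J₃ LinearMap.id h13 with hg
  have hfinj : Function.Injective f := by
    rw [← LinearMap.ker_eq_bot, LinearMap.ker_eq_bot']
    intro x hx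
    obtain ⟨x, rfl⟩ := Submodule.Quotient.mk_surjective _ x
    rw [hf, Submodule.mapQ_apply, Submodule.Quotient.mk_eq_zero] at hx
    rw [Submodule.Quotient.mk_eq_zero]
    have hx' : a * x ∈ J₁ := hx
    rw [hJ₁, Submodule.mem_sup] at hx'
    obtain ⟨y, hy, z, hz, hyz⟩ := hx'
    -- y ∈ (a) * I means y = a * i with i ∈ I
    have hy' : ∃ i ∈ I, y = a * i := by
      refine Submodule.mul_induction_on hy (fun u hu v hv => ?_) (fun u v hu hv => ?_)
      · obtain ⟨c, rfl⟩ := Ideal.mem_span_singleton'.mp hu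
        exact ⟨c * v, Ideal.mul_mem_left _ _ hv, by ring⟩
      · obtain ⟨i, hi, rfl⟩ := hu
        obtain ⟨j, hj, rfl⟩ := hv
        exact ⟨i + j, Ideal.add_mem _ hi hj, by ring⟩
    obtain ⟨i, hi, rfl⟩ := hy'
    have h1 : a * (x - i) ∈ Ideal.span ({b} : Set A) := by
      have : a * (x - i) = z := by rw [mul_sub, ← hyz]; ring
      rw [this]; exact hz
    have h2 : a • (Ideal.Quotient.mk (Ideal.span ({b} : Set A)) (x - i)) = 0 := by
      rw [Algebra.smul_def, Ideal.Quotient.algebraMap_eq, ← map_mul]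
      exact Ideal.Quotient.eq_zero_iff_mem.mpr h1
    have h3 : Ideal.Quotient.mk (Ideal.span ({b} : Set A)) (x - i) = 0 :=
      ha (show a • _ = a • (0 : A ⧸ Ideal.span ({b} : Set A)) by rw [h2, smul_zero])
    have h4 : x - i ∈ Ideal.span ({b} : Set A) := Ideal.Quotient.eq_zero_iff_mem.mp h3
    have : x = i + (x - i) := by ring
    rw [this, hJ₂]
    exact Ideal.add_mem _ (Ideal.mem_sup_left hi) (Ideal.mem_sup_right h4)
  have hgsurj : Function.Surjective g := by
    intro y
    obtain ⟨y, rfl⟩ := Submodule.Quotient.mk_surjective _ y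
    exact ⟨Submodule.Quotient.mk y, rfl⟩
  have hexact : Function.Exact f g := by
    intro y
    constructor
    · intro hy
      obtain ⟨y, rfl⟩ := Submodule.Quotient.mk_surjective _ y
      rw [hg, Submodule.mapQ_apply, Submodule.Quotient.mk_eq_zero] at hy
      have hy' : y ∈ J₃ := hy
      rw [hJ₃, Ideal.mem_span_pair] at hy'
      obtain ⟨u, v, rfl⟩ := hy'
      refine ⟨Submodule.Quotient.mk u, ?_⟩
      rw [hf, Submodule.mapQ_apply, LinearMap.mulLeft_apply, eq_comm, ← sub_eq_zero,
        ← Submodule.Quotient.mk_sub, Submodule.Quotient.mk_eq_zero]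
      have : u * a + v * b - a * u = v * b := by ring
      rw [this]
      exact Ideal.mul_mem_left _ _ hb₁
    · rintro ⟨x, rfl⟩
      obtain ⟨x, rfl⟩ := Submodule.Quotient.mk_surjective _ x
      rw [hf, hg, Submodule.mapQ_apply, Submodule.mapQ_apply, Submodule.Quotient.mk_eq_zero]
      show a * x ∈ J₃
      exact Ideal.mul_mem_right _ _ ha₃
  rw [Module.length_eq_add_of_exact f g hfinj hgsurj hexact, add_comm]

end Groth.Agent.S15315
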