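import Groth.Statements.S15319
import Mathlib
import Groth.Prelude.Def_W4c2arithlefschetzNode
-- import your own Groth.Agent.* helpers here

set_option autoImplicit false
universe u
open ArLef ArLef.NodeAlg

namespace Groth.Agent.S15319

open ArLef
namespace Aux

open MvPowerSeries

section

variable (B : Type u) [CommRing B] [IsDomain B] [IsDiscreteValuationRing B] (π : B)

/-- the class of a power series -/
noncomputable abbrev cls (f : MvPowerSeries (Fin 2) B) : NodeAlg B π := Ideal.Quotient.mk _ f

omit [IsDomain B] [IsDiscreteValuationRing B] in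
theorem cls_C_eq : cls B π (C π) = NodeAlg.t π * NodeAlg.e π := by
  show cls B π (C π) = cls B π (X 0) * cls B π (X 1)
  rw [← map_mul, eq_comm]
  apply Ideal.Quotient.eq.mpr
  exact Ideal.mem_span_singleton_self _

theorem residue_pi (hπ : Irreducible π) : IsLocalRing.residue B π = 0 :=
  (IsLocalRing.residue_eq_zero_iff π).mpr ((IsLocalRing.mem_maximalIdeal π).mpr hπ.not_isUnit)

/-- the augmentation to the residue field -/
noncomputable def rho (hπ : Irreducible π) : NodeAlg B π →+* IsLocalRing.ResidueField B :=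
  Ideal.Quotient.lift _
    ((IsLocalRing.residue B).comp (constantCoeff (σ := Fin 2) (R := B)))
    (fun r hr => by
      obtain ⟨g, rfl⟩ := Ideal.mem_span_singleton'.mp hr
      simp [residue_pi B π hπ])

theorem rho_cls (hπ : Irreducible π) (f : MvPowerSeries (Fin 2) B) :
    rho B π hπ (cls B π f) = IsLocalRing.residue B (constantCoeff f) := by
  unfold rho cls
  rw [Ideal.Quotient.lift_mk]
  rfl

/-- `π` is a nonzerodivisor on the node algebra -/
theorem pi_regular (hπ : Irreducible π) (x : NodeAlg B π)
    (hx : cls B π (C π) * x = 0) : x = 0 := by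
  obtain ⟨f, rfl⟩ := Ideal.Quotient.mk_surjective x
  have hx' : cls B π (C π * f) = 0 := by rw [← hx]; exact map_mul _ _ _
  unfold cls at hx'
  rw [Ideal.Quotient.eq_zero_iff_mem] at hx'
  obtain ⟨g, hg⟩ := Ideal.mem_span_singleton'.mp hx'
  -- reduce modulo π
  have h1 := congrArg (MvPowerSeries.map (IsLocalRing.residue B)) hg
  rw [map_mul, map_mul, map_sub, map_mul, map_X, map_X, map_C, residue_pi B π hπ, map_zero,
    sub_zero, zero_mul] at h1
  have h2 : MvPowerSeries.map (IsLocalRing.residue B) g = 0 := by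
    have hnzd : (X 0 * X 1 : MvPowerSeries (Fin 2) (IsLocalRing.ResidueField B)) ∈
        nonZeroDivisors _ :=
      Submonoid.mul_mem _ X_mem_nonzeroDivisors X_mem_nonzeroDivisors
    exact (mem_nonZeroDivisors_iff.mp hnzd).2 _ h1
  -- so g is divisible by π coefficientwise
  have h3 : ∀ d, ∃ c : B, coeff d g = π * c := by
    intro d
    have := congrArg (coeff d) h2
    rw [coeff_map, map_zero, IsLocalRing.residue_eq_zero_iff,
      (IsDiscreteValuationRing.irreducible_iff_uniformizer π).mp hπ,
      Ideal.mem_span_singleton] at this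
    exact this
  choose g₀ hg₀ using h3
  obtain ⟨g', hg'⟩ : ∃ g' : MvPowerSeries (Fin 2) B, ∀ d, coeff d g = π * coeff d g' :=
    ⟨g₀, hg₀⟩
  have h4 : g = C π * g' := by
    ext d
    rw [coeff_C_mul, hg' d]
  rw [h4] at hg
  have h5 : g' * (X 0 * X 1 - C π) = f := by
    have hCne : (C π : MvPowerSeries (Fin 2) B) ≠ 0 := by
      intro h
      have := congrArg constantCoeff h
      rw [constantCoeff_C, map_zero] at this
      exact hπ.ne_zero this
    apply mul_left_cancel₀ hCne
    rw [← hg]; ring
  rw [Ideal.Quotient.eq_zero_iff_mem, ← h5]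
  exact Ideal.mul_mem_left _ _ (Ideal.mem_span_singleton_self _)

theorem pi_pow_regular (hπ : Irreducible π) (j : ℕ) (x : NodeAlg B π)
    (hx : cls B π (C π) ^ j * x = 0) : x = 0 := by
  induction j with
  | zero => rwa [pow_zero, one_mul] at hx
  | succ j ih =>
    apply ih
    apply pi_regular B π hπ
    rw [← mul_assoc, ← pow_succ']
    exact hx

theorem main (hπ : Irreducible π)
    (j : ℕ) (hj : 1 ≤ j) (γ : B) (hγ : IsUnit γ)
    (σ : ArLef.NodeAlg B π ≃+* ArLef.NodeAlg B π)
    (hσ : σ (algebraMap B (ArLef.NodeAlg B π) π) = algebraMap B (ArLef.NodeAlg B π) (π + γ * π ^ j)) :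
    ¬ ArLef.fixIdeal σ ≤ Ideal.span ({algebraMap B (ArLef.NodeAlg B π) (π ^ j)} : Set (ArLef.NodeAlg B π)) := by
  intro hle
  have halg : ∀ b : B, algebraMap B (NodeAlg B π) b = cls B π (C b) := fun b => rfl
  set P : NodeAlg B π := cls B π (C π) with hP
  have hPj : algebraMap B (NodeAlg B π) (π ^ j) = P ^ j := by
    rw [map_pow, halg]
  have hmem : ∀ r : NodeAlg B π, ∃ u, σ r - r = u * P ^ j := by
    intro r
    have h1 : σ r - r ∈ fixIdeal σ := Ideal.subset_span ⟨r, rfl⟩
    have h2 := hle h1
    rw [hPj] at h2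
    obtain ⟨u, hu⟩ := Ideal.mem_span_singleton'.mp h2
    exact ⟨u, hu.symm⟩
  obtain ⟨u, hu⟩ := hmem (NodeAlg.t π)
  obtain ⟨v, hv⟩ := hmem (NodeAlg.e π)
  have hte : NodeAlg.t π * NodeAlg.e π = P := (cls_C_eq B π).symm
  have h1 : σ P = P + algebraMap B (NodeAlg B π) γ * P ^ j := by
    rw [hP, ← halg, hσ, map_add, map_mul, map_pow]
  have h2 : σ P = σ (NodeAlg.t π) * σ (NodeAlg.e π) := by rw [← hte, map_mul]
  have h3 : P ^ j * (algebraMap B (NodeAlg B π) γ -
      (NodeAlg.t π * v + NodeAlg.e π * u + P ^ j * u * v)) = 0 := by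
    have hst : σ (NodeAlg.t π) = NodeAlg.t π + u * P ^ j := by rw [← hu]; ring
    have hse : σ (NodeAlg.e π) = NodeAlg.e π + v * P ^ j := by rw [← hv]; ring
    rw [hst, hse, h1] at h2
    linear_combination h2 + hte
  have h4 := pi_pow_regular B π hπ j _ h3
  have h5 := congrArg (rho B π hπ) h4
  rw [map_zero, map_sub, map_add, map_add, map_mul, map_mul, map_mul, map_mul, map_pow] at h5
  have ht0 : rho B π hπ (NodeAlg.t π) = 0 := by
    show rho B π hπ (cls B π (X 0)) = 0
    rw [rho_cls, constantCoeff_X, map_zero]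
  have he0 : rho B π hπ (NodeAlg.e π) = 0 := by
    show rho B π hπ (cls B π (X 1)) = 0
    rw [rho_cls, constantCoeff_X, map_zero]
  have hP0 : rho B π hπ P = 0 := by
    rw [hP, rho_cls, constantCoeff_C, residue_pi B π hπ]
  have hγ0 : rho B π hπ (algebraMap B (NodeAlg B π) γ) = IsLocalRing.residue B γ := by
    rw [halg, rho_cls, constantCoeff_C]
  simp only [ht0, he0, hP0, hγ0, zero_pow (show j ≠ 0 by omega), zero_mul, add_zero,
    sub_zero] at h5
  exact (hγ.map (IsLocalRing.residue B)).ne_zero h5

end

end Aux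

/-- Let B be a discrete valuation ring with uniformizer π, N = B[[t, e]]/(te - π) the complete local
ring of a semi-stable arithmetic surface over B at a singular point of the closed fibre, and σ a
ring automorphism of N sending π to π + γ π^j with γ a unit of B and j ≥ 1 (σ lies over an
automorphism τ of B with v(τ(π) - π) = j). Then the fixed-point ideal of σ is not contained in (π^j)
= (t^j e^j): the two branches through the point cannot both occur with multiplicity j in the
divisorial part of the fixed locus. (The published setting has B complete with algebraically closed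
residue field.) -/
theorem result (B : Type u) [CommRing B] [IsDomain B] [IsDiscreteValuationRing B] (π : B) (hπ : Irreducible π)
    (j : ℕ) (hj : 1 ≤ j) (γ : B) (hγ : IsUnit γ)
    (σ : ArLef.NodeAlg B π ≃+* ArLef.NodeAlg B π)
    (hσ : σ (algebraMap B (ArLef.NodeAlg B π) π) = algebraMap B (ArLef.NodeAlg B π) (π + γ * π ^ j)) :
    ¬ ArLef.fixIdeal σ ≤ Ideal.span ({algebraMap B (ArLef.NodeAlg B π) (π ^ j)} : Set (ArLef.NodeAlg B π)) := by
  exact Aux.main B π hπ j hj γ hγ σ hσ

end Groth.Agent.S15319
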