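import Groth.Statements.S15322

set_option autoImplicit false
universe u
open CategoryTheory AlgebraicGeometry
open ArLef

namespace Groth.Agent.S15322

/-- Let f : D → C be a morphism, τ an automorphism of C and σ an automorphism of D with σ f = f τ; call
σ a good lifting of τ when the fixed-point scheme of σ is the full preimage of that of τ, i.e. every
morphism z : Z → D with z f τ = z f has z σ = z. If f is etale, separated and surjective with D
connected and the fixed-point scheme of τ is non-empty (some point of C, with its residue field, is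
fixed by τ), then τ has at most one good lifting. (The published statement is for a finite etale
cover of smooth projective irreducible curves over a field and a non-trivial τ; the argument uses
only the hypotheses stated here.) -/
theorem result {C D : Scheme.{u}} (f : D ⟶ C) [Etale f] [IsSeparated f] [Surjective f]
    [ConnectedSpace D] (τ : C ≅ C) (σ σ' : D ≅ D)
    (hσ : σ.hom ≫ f = f ≫ τ.hom) (hσ' : σ'.hom ≫ f = f ≫ τ.hom)
    (good : ∀ (Z : Scheme.{u}) (z : Z ⟶ D), z ≫ f ≫ τ.hom = z ≫ f → z ≫ σ.hom = z)
    (good' : ∀ (Z : Scheme.{u}) (z : Z ⟶ D), z ≫ f ≫ τ.hom = z ≫ f → z ≫ σ'.hom = z)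
    (x : C) (hx : C.fromSpecResidueField x ≫ τ.hom = C.fromSpecResidueField x) :
    σ = σ' := by
  classical
  -- rigidity for étale separated morphisms
  have rigid : ∀ {X S Z W : Scheme.{u}} (p : X ⟶ S) [Etale p] [IsSeparated p]
      [ConnectedSpace ↥Z] [Nonempty ↥W] (φ₁ φ₂ : Z ⟶ X) (_ : φ₁ ≫ p = φ₂ ≫ p)
      (z : W ⟶ Z) (_ : z ≫ φ₁ = z ≫ φ₂), φ₁ = φ₂ := by
    intro X S Z W p _ _ _ _ φ₁ φ₂ h₁₂ z hz
    let φ : Z ⟶ Limits.pullback p p := Limits.pullback.lift φ₁ φ₂ h₁₂
    have hφ1 : φ ≫ Limits.pullback.fst p p = φ₁ := Limits.pullback.lift_fst _ _ _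
    have hφ2 : φ ≫ Limits.pullback.snd p p = φ₂ := Limits.pullback.lift_snd _ _ _
    let e : Limits.pullback φ (Limits.pullback.diagonal p) ⟶ Z :=
      Limits.pullback.fst φ (Limits.pullback.diagonal p)
    have hopen : IsOpenImmersion e := inferInstance
    have hclosed : IsClosedImmersion e := inferInstance
    obtain ⟨pt⟩ : Nonempty ↥W := inferInstance
    have hyE : z.base pt ∈ Set.range e.base := by
      let ψ : W ⟶ Limits.pullback φ (Limits.pullback.diagonal p) :=
        Limits.pullback.lift z (z ≫ φ₁) (by
          apply Limits.pullback.hom_ext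
          · rw [Category.assoc, hφ1, Category.assoc, Limits.pullback.diagonal_fst, Category.comp_id]
          · rw [Category.assoc, hφ2, Category.assoc, Limits.pullback.diagonal_snd,
              Category.comp_id, hz])
      have hψ : ψ ≫ e = z := Limits.pullback.lift_fst _ _ _
      rw [← hψ]
      exact ⟨_, rfl⟩
    have hclopen : IsClopen (Set.range e.base) :=
      ⟨e.isClosedEmbedding.isClosed_range, e.isOpenEmbedding.isOpen_range⟩
    have huniv : Set.range e.base = Set.univ := hclopen.eq_univ ⟨_, hyE⟩
    have hepi : Epi e.base := by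
      rw [TopCat.epi_iff_surjective]
      exact Set.range_eq_univ.mp huniv
    have hiso : IsIso e := IsOpenImmersion.isIso e
    have h1 : e ≫ φ₁ = Limits.pullback.snd φ (Limits.pullback.diagonal p) := by
      have := Limits.pullback.condition (f := φ) (g := Limits.pullback.diagonal p)
      have h2 := congrArg (· ≫ Limits.pullback.fst p p) this
      simp only [Category.assoc, hφ1, Limits.pullback.diagonal_fst, Category.comp_id] at h2
      exact h2
    have h2 : e ≫ φ₂ = Limits.pullback.snd φ (Limits.pullback.diagonal p) := by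
      have := Limits.pullback.condition (f := φ) (g := Limits.pullback.diagonal p)
      have h2 := congrArg (· ≫ Limits.pullback.snd p p) this
      simp only [Category.assoc, hφ2, Limits.pullback.diagonal_snd, Category.comp_id] at h2
      exact h2
    rw [← cancel_epi e, h1, h2]
  obtain ⟨y, rfl⟩ := f.surjective x
  let z : Spec (D.residueField y) ⟶ D := D.fromSpecResidueField y
  have hzf : z ≫ f ≫ τ.hom = z ≫ f := by
    have h1 : z ≫ f = Spec.map (f.residueFieldMap y) ≫ C.fromSpecResidueField (f.base y) :=
      (Scheme.Hom.SpecMap_residueFieldMap_fromSpecResidueField f y).symm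
    rw [← Category.assoc, h1, Category.assoc, hx]
  have hz1 : z ≫ σ.hom = z := good _ z hzf
  have hz2 : z ≫ σ'.hom = z := good' _ z hzf
  have := rigid f σ.hom σ'.hom (hσ.trans hσ'.symm) z (hz1.trans hz2.symm)
  exact Iso.ext this

end Groth.Agent.S15322
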