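import Groth.Statements.S15326

set_option autoImplicit false
universe u
open ArLef

namespace Groth.Agent.S15326

/-- Let A be a commutative ring, t an element generating a prime ideal (a local equation of an
irreducible component C of the closed fibre), v an element outside (t) with π = vt the uniformizer,
and σ a ring automorphism of A with σ(vt) = vt whose fixed-point ideal is contained in (t^i) for
some i ≥ 1 (C has multiplicity at least i in the fixed locus). Then σ(t) - t lies in t^(i+1) A_(t),
the localization at the prime (t): σ - 1 vanishes on (t)/(t^(i+1)) at the generic point of C. -/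
theorem result (A : Type u) [CommRing A] (t v : A)
    [ht : (Ideal.span ({t} : Set A)).IsPrime] (hv : v ∉ Ideal.span ({t} : Set A))
    (σ : A ≃+* A) (hσ : σ (v * t) = v * t) (i : ℕ) (hi : 1 ≤ i)
    (hI : ArLef.fixIdeal σ ≤ Ideal.span ({t ^ i} : Set A)) :
    algebraMap A (Localization.AtPrime (Ideal.span ({t} : Set A))) (σ t - t) ∈
      Ideal.span ({algebraMap A (Localization.AtPrime (Ideal.span ({t} : Set A))) (t ^ (i + 1))} :
        Set (Localization.AtPrime (Ideal.span ({t} : Set A)))) := by
  have h1 : σ t - t ∈ Ideal.span ({t ^ i} : Set A) :=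
    hI (Ideal.subset_span ⟨t, rfl⟩)
  have h2 : σ v - v ∈ Ideal.span ({t ^ i} : Set A) :=
    hI (Ideal.subset_span ⟨v, rfl⟩)
  rw [Ideal.mem_span_singleton'] at h1 h2
  obtain ⟨a, ha⟩ := h1
  obtain ⟨b, hb⟩ := h2
  obtain ⟨j, rfl⟩ : ∃ j, i = j + 1 := ⟨i - 1, by omega⟩
  have ht' : σ t = t + a * t ^ (j + 1) := by rw [ha]; ring
  have hv' : σ v = v + b * t ^ (j + 1) := by rw [hb]; ring
  have key : v * (σ t - t) = -(b + t ^ j * a * b) * t ^ (j + 1 + 1) := by
    have h3 : σ v * σ t = v * t := by rw [← map_mul, hσ]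
    rw [ht', hv'] at h3
    have h4 : v * (σ t - t) = v * (a * t ^ (j + 1)) := by rw [ha]
    rw [h4]
    have h5 : (v + b * t ^ (j + 1)) * (t + a * t ^ (j + 1)) - v * t = 0 := by
      rw [h3, sub_self]
    have h6 : (v + b * t ^ (j + 1)) * (t + a * t ^ (j + 1)) - v * t =
        v * (a * t ^ (j + 1)) + (b + t ^ j * a * b) * t ^ (j + 1 + 1) := by ring
    rw [h6] at h5
    rw [eq_neg_of_add_eq_zero_left h5]
    ring
  have hvu : IsUnit (algebraMap A (Localization.AtPrime (Ideal.span ({t} : Set A))) v) :=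
    IsLocalization.map_units (M := (Ideal.span ({t} : Set A)).primeCompl) _ ⟨v, hv⟩
  rw [Ideal.mem_span_singleton']
  obtain ⟨u, hu⟩ := hvu
  refine ⟨↑u⁻¹ * algebraMap A _ (-(b + t ^ j * a * b)), ?_⟩
  have h7 := congrArg (algebraMap A (Localization.AtPrime (Ideal.span ({t} : Set A)))) key
  rw [map_mul, map_mul, ← hu] at h7
  rw [mul_assoc, ← h7, ← mul_assoc, Units.inv_mul, one_mul]

end Groth.Agent.S15326
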