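import Groth.Statements.S15329
import Mathlib

set_option autoImplicit false
open TensorProduct LaurentPolynomial
universe u v
open CAlg

namespace Groth.Agent.S15329

/-- Let k be a field, E a k-vector space and F an increasing ℤ-indexed filtration of E by subspaces. In
E[T, T⁻¹] = k[T, T⁻¹] ⊗ E the Rees module of (E, F) is the k-span of the elements T^n ⊗ v with v ∈ F
n; it is the module of global sections of the equivariant bundle on the affine line attached to (E,
F), and E[T, T⁻¹] that of its sections away from the origin. For a linear form α on E and an integer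
p, the k[T, T⁻¹]-linear form m ↦ T^p · (id ⊗ α)(m) is the invariant section α of the dual bundle
away from the origin multiplied by T^p, and it extends over the origin exactly when it maps the Rees
module into the polynomial subring k[T]. This happens if and only if α vanishes on F(−p − 1); so the
dual equivariant bundle corresponds to the dual space filtered by the annihilators of the F(−p − 1).
(The published statement has the annihilator of F(−p + 1), over the complex numbers; for E = k with
F n = 0 for n < 0 and F n = E for n ≥ 0 the form with p = 0 and α ≠ 0 maps the Rees module into k[T]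
although α does not vanish on F(1) = E, and the published argument gives the index −p − 1, which
this row states, over any field.) -/
theorem result
    (k : Type u) [Field k] (E : Type v) [AddCommGroup E] [Module k E]
    (F : ℤ → Submodule k E) (hF : Monotone F)
    (α : Module.Dual k E) (p : ℤ) :
    (∀ m ∈ Submodule.span k {x : k[T;T⁻¹] ⊗[k] E | ∃ (n : ℤ) (v : E), v ∈ F n ∧ x = T n ⊗ₜ[k] v},
      T p * (TensorProduct.AlgebraTensorModule.rid k k[T;T⁻¹] k[T;T⁻¹]) (LinearMap.baseChange k[T;T⁻¹] α m)
        ∈ (Polynomial.toLaurent : Polynomial k →+* k[T;T⁻¹]).range) ↔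
    ∀ v ∈ F (-p - 1), α v = 0 := by
  classical
  have hgen : ∀ (n : ℤ) (v : E),
      T p * (TensorProduct.AlgebraTensorModule.rid k k[T;T⁻¹] k[T;T⁻¹])
        (LinearMap.baseChange k[T;T⁻¹] α (T n ⊗ₜ[k] v)) = C (α v) * T (p + n) := by
    intro n v
    rw [LinearMap.baseChange_tmul, TensorProduct.AlgebraTensorModule.rid_tmul,
      LaurentPolynomial.smul_eq_C_mul, T_add]
    ring
  constructor
  · intro h v hv
    have hm : (T (-p - 1) ⊗ₜ[k] v : k[T;T⁻¹] ⊗[k] E) ∈
        Submodule.span k {x : k[T;T⁻¹] ⊗[k] E | ∃ (n : ℤ) (v : E), v ∈ F n ∧ x = T n ⊗ₜ[k] v} :=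
      Submodule.subset_span ⟨-p - 1, v, hv, rfl⟩
    obtain ⟨f, hf⟩ := h _ hm
    rw [hgen] at hf
    have h1 : p + (-p - 1) = -1 := by ring
    rw [h1] at hf
    have h2 : (Polynomial.toLaurent f).coeff (-1) = (C (α v) * T (-1) : k[T;T⁻¹]).coeff (-1) := by
      rw [hf]
    have h3 : (Polynomial.toLaurent f).coeff (-1) = 0 := by
      rw [← Finsupp.notMem_support_iff, LaurentPolynomial.support_coeff_toLaurent]
      simp
    rw [h3] at h2
    have h4 : (C (α v) * T (-1) : k[T;T⁻¹]).coeff (-1) = α v := by
      rw [← LaurentPolynomial.single_eq_C_mul_T]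
      exact Finsupp.single_eq_same
    rw [h4] at h2
    exact h2.symm
  · intro h m hm
    induction hm using Submodule.span_induction with
    | mem x hx =>
      obtain ⟨n, v, hv, rfl⟩ := hx
      rw [hgen]
      by_cases hpn : 0 ≤ p + n
      · refine ⟨Polynomial.C (α v) * Polynomial.X ^ (p + n).toNat, ?_⟩
        rw [Polynomial.toLaurent_C_mul_X_pow, Int.toNat_of_nonneg hpn]
      · have hle : n ≤ -p - 1 := by omega
        have hv' : v ∈ F (-p - 1) := hF hle hv
        rw [h v hv', map_zero, zero_mul]
        exact ⟨0, map_zero _⟩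
    | zero =>
      rw [map_zero, map_zero, mul_zero]
      exact ⟨0, map_zero _⟩
    | add x y _ _ hx hy =>
      rw [map_add, map_add, mul_add]
      exact Subring.add_mem _ hx hy
    | smul c x _ hx =>
      rw [LinearMap.map_smul_of_tower]
      have h5 : (TensorProduct.AlgebraTensorModule.rid k k[T;T⁻¹] k[T;T⁻¹])
          (c • (LinearMap.baseChange k[T;T⁻¹] α) x) =
          c • (TensorProduct.AlgebraTensorModule.rid k k[T;T⁻¹] k[T;T⁻¹])
            ((LinearMap.baseChange k[T;T⁻¹] α) x) :=
        LinearMap.map_smul_of_tower
          (TensorProduct.AlgebraTensorModule.rid k k[T;T⁻¹] k[T;T⁻¹]).toLinearMap c _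
      rw [h5, mul_smul_comm, LaurentPolynomial.smul_eq_C_mul]
      refine Subring.mul_mem _ ⟨Polynomial.C c, Polynomial.toLaurent_C c⟩ hx

end Groth.Agent.S15329
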