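import Groth.Statements.S15347
import Mathlib

set_option autoImplicit false
universe u
open CategoryTheory CategoryTheory.Limits AlgebraicGeometry
open Mor

namespace Groth.Agent.S15347

/-- Let f : Y ⟶ X be an immersion of schemes. Then: for every valuation ring A with fraction field K and
every commutative square Spec K ⟶ Y, Spec A ⟶ X over f such that some morphism from the spectrum of
the residue field of A to Y lies over Spec A ⟶ X, the square admits a lift; and for every integral
domain A and every morphism s : Spec A ⟶ X such that the points of a dense subset of Spec A lift to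
Y (the residue field of each such point maps to Y over s), there is a nonempty open subscheme U of
Spec A with a morphism U ⟶ Y over s. (The published statement is for a representable, locally
finitely presented morphism of algebraic stacks with locally Noetherian target and a quasi-compact
immersion, and also lists that f is a monomorphism; this row is the case of schemes, for any
immersion and any target.) -/
theorem result {X Y : Scheme.{u}} (f : Y ⟶ X) [IsImmersion f] :
    (∀ S : ValuativeCommSq f,
        (∃ l₀ : Spec (CommRingCat.of (IsLocalRing.ResidueField S.R)) ⟶ Y,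
            l₀ ≫ f = Spec.map (CommRingCat.ofHom (IsLocalRing.residue S.R)) ≫ S.i₂) →
          S.commSq.HasLift) ∧
      ∀ (A : Type u) [CommRing A] [IsDomain A] (s : Spec (CommRingCat.of A) ⟶ X) (D : Set ↥(Spec (CommRingCat.of A))),
        Dense D →
        (∀ p ∈ D, ∃ l : Spec ((Spec (CommRingCat.of A)).residueField p) ⟶ Y,
            l ≫ f = (Spec (CommRingCat.of A)).fromSpecResidueField p ≫ s) →
          ∃ U : (Spec (CommRingCat.of A)).Opens, (U : Set ↥(Spec (CommRingCat.of A))).Nonempty ∧
            ∃ l : (U : Scheme.{u}) ⟶ Y, l ≫ f = U.ι ≫ s := by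
  classical
  refine ⟨?_, ?_⟩
  · rintro S ⟨l₀, hl₀⟩
    have hcl : S.i₂.base (IsLocalRing.closedPoint S.R) ∈ f.coborderRange := by
      have pt : ↥(Spec (CommRingCat.of (IsLocalRing.ResidueField S.R))) := IsLocalRing.closedPoint _
      have h1 := congrArg (fun φ => φ.base pt) hl₀
      simp only [Scheme.Hom.comp_base, TopCat.hom_comp, ContinuousMap.comp_apply] at h1
      rw [show (Spec.map (CommRingCat.ofHom (IsLocalRing.residue S.R))).base pt
        = IsLocalRing.closedPoint S.R from IsLocalRing.PrimeSpectrum.comap_residue _ pt] at h1
      rw [← h1]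
      have h2 := congrArg (fun φ => φ.base (l₀.base pt)) f.liftCoborder_ι
      simp only [Scheme.Hom.comp_base, TopCat.hom_comp, ContinuousMap.comp_apply] at h2
      rw [← h2]
      exact (f.liftCoborder.base (l₀.base pt)).2
    have htop : S.i₂ ⁻¹ᵁ f.coborderRange = ⊤ := IsLocalRing.closed_point_mem_iff.mp hcl
    have hr : Set.range S.i₂.base ⊆ Set.range f.coborderRange.ι.base := by
      rintro _ ⟨a, rfl⟩
      rw [Scheme.Opens.range_ι]
      have : a ∈ S.i₂ ⁻¹ᵁ f.coborderRange := by rw [htop]; trivial
      exact this
    have hsq : CommSq S.i₁ (Spec.map (CommRingCat.ofHom (algebraMap S.R S.K))) f.liftCoborder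
        (IsOpenImmersion.lift f.coborderRange.ι S.i₂ hr) := ⟨by
      rw [← cancel_mono f.coborderRange.ι, Category.assoc, Category.assoc, f.liftCoborder_ι,
        IsOpenImmersion.lift_fac]
      exact S.commSq.w⟩
    let S' : ValuativeCommSq f.liftCoborder :=
      { R := S.R, K := S.K, i₁ := S.i₁, i₂ := IsOpenImmersion.lift f.coborderRange.ι S.i₂ hr,
        commSq := hsq }
    have hex : ValuativeCriterion.Existence f.liftCoborder := by
      have h1 : UniversallyClosed f.liftCoborder := inferInstance
      rw [UniversallyClosed.eq_valuativeCriterion] at h1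
      exact h1.1
    obtain ⟨⟨l⟩⟩ := hex S'
    refine ⟨⟨{ l := l.l, fac_left := l.fac_left, fac_right := ?_ }⟩⟩
    calc l.l ≫ f = l.l ≫ (f.liftCoborder ≫ f.coborderRange.ι) := by rw [f.liftCoborder_ι]
      _ = (l.l ≫ f.liftCoborder) ≫ f.coborderRange.ι := (Category.assoc _ _ _).symm
      _ = IsOpenImmersion.lift f.coborderRange.ι S.i₂ hr ≫ f.coborderRange.ι := by rw [l.fac_right]
      _ = S.i₂ := IsOpenImmersion.lift_fac _ _ _
  · intro A _ _ s D hD hlift
    have hne : (Set.univ : Set ↥(Spec (CommRingCat.of A))).Nonempty :=
      ⟨IsLocalRing.closedPoint (FractionRing A) |>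
        (Spec.map (CommRingCat.ofHom (algebraMap A (FractionRing A)))).base, trivial⟩
    obtain ⟨p₀, -, hp₀⟩ := hD.inter_open_nonempty _ isOpen_univ hne
    have hmem : ∀ p ∈ D, s.base p ∈ f.coborderRange := by
      intro p hp
      obtain ⟨l, hl⟩ := hlift p hp
      have pt : ↥(Spec ((Spec (CommRingCat.of A)).residueField p)) := IsLocalRing.closedPoint _
      have h1 := congrArg (fun φ => φ.base pt) hl
      simp only [Scheme.Hom.comp_base, TopCat.hom_comp, ContinuousMap.comp_apply] at h1
      rw [show ((Spec (CommRingCat.of A)).fromSpecResidueField p).base pt = p from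
        Scheme.fromSpecResidueField_apply _ _] at h1
      rw [← h1]
      have h2 := congrArg (fun φ => φ.base (l.base pt)) f.liftCoborder_ι
      simp only [Scheme.Hom.comp_base, TopCat.hom_comp, ContinuousMap.comp_apply] at h2
      rw [← h2]
      exact (f.liftCoborder.base (l.base pt)).2
    let W : (Spec (CommRingCat.of A)).Opens := s ⁻¹ᵁ f.coborderRange
    let s' : (W : Scheme.{u}) ⟶ f.coborderRange := s ∣_ f.coborderRange
    have hs' : s' ≫ f.coborderRange.ι = W.ι ≫ s := morphismRestrict_ι s f.coborderRange
    have hcl : IsClosedImmersion (Limits.pullback.snd f.liftCoborder s') := inferInstance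
    have hsurj : Surjective (Limits.pullback.snd f.liftCoborder s') := by
      constructor
      have hclosed : IsClosed (Set.range (Limits.pullback.snd f.liftCoborder s').base) :=
        (Limits.pullback.snd f.liftCoborder s').isClosedEmbedding.isClosed_range
      have hdense : Dense (W.ι.base ⁻¹' D) := hD.preimage W.ι.isOpenEmbedding.isOpenMap
      have hsub : W.ι.base ⁻¹' D ⊆ Set.range (Limits.pullback.snd f.liftCoborder s').base := by
        intro w hw
        obtain ⟨l, hl⟩ := hlift _ hw
        have pt : ↥(Spec ((Spec (CommRingCat.of A)).residueField (W.ι.base w))) :=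
          IsLocalRing.closedPoint _
        have hqr : Set.range ((Spec (CommRingCat.of A)).fromSpecResidueField (W.ι.base w)).base
            ⊆ Set.range W.ι.base := by
          rw [Scheme.range_fromSpecResidueField]
          rintro _ rfl
          exact ⟨w, rfl⟩
        let q := IsOpenImmersion.lift W.ι
          ((Spec (CommRingCat.of A)).fromSpecResidueField (W.ι.base w)) hqr
        have hq : q ≫ W.ι = (Spec (CommRingCat.of A)).fromSpecResidueField (W.ι.base w) :=
          IsOpenImmersion.lift_fac _ _ _
        have hcond : l ≫ f.liftCoborder = q ≫ s' := by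
          rw [← cancel_mono f.coborderRange.ι, Category.assoc, Category.assoc, f.liftCoborder_ι,
            hs', ← Category.assoc, hq]
          exact hl
        refine ⟨(Limits.pullback.lift l q hcond).base pt, ?_⟩
        have h3 := congrArg (fun φ => φ.base pt) (Limits.pullback.lift_snd l q hcond)
        simp only [Scheme.Hom.comp_base, TopCat.hom_comp, ContinuousMap.comp_apply] at h3
        rw [h3]
        apply W.ι.isOpenEmbedding.injective
        have h4 := congrArg (fun φ => φ.base pt) hq
        simp only [Scheme.Hom.comp_base, TopCat.hom_comp, ContinuousMap.comp_apply] at h4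
        rw [h4]
        exact Scheme.fromSpecResidueField_apply _ _
      intro w
      have : Set.range (Limits.pullback.snd f.liftCoborder s').base = Set.univ := by
        rw [← Set.univ_subset_iff, ← hdense.closure_eq]
        exact closure_minimal hsub hclosed
      rw [Set.eq_univ_iff_forall] at this
      exact this w
    have hred : IsReduced (W : Scheme.{u}) := inferInstance
    have hiso : IsIso (Limits.pullback.snd f.liftCoborder s') :=
      isIso_of_isClosedImmersion_of_surjective _
    refine ⟨W, ⟨p₀, hmem p₀ hp₀⟩,
      inv (Limits.pullback.snd f.liftCoborder s') ≫ Limits.pullback.fst f.liftCoborder s', ?_⟩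
    calc (inv (Limits.pullback.snd f.liftCoborder s') ≫ Limits.pullback.fst f.liftCoborder s') ≫ f
        = (inv (Limits.pullback.snd f.liftCoborder s') ≫ Limits.pullback.fst f.liftCoborder s') ≫
          (f.liftCoborder ≫ f.coborderRange.ι) := by rw [f.liftCoborder_ι]
      _ = inv (Limits.pullback.snd f.liftCoborder s') ≫
          (Limits.pullback.fst f.liftCoborder s' ≫ f.liftCoborder) ≫ f.coborderRange.ι := by
            simp only [Category.assoc]
      _ = W.ι ≫ s := by
        rw [Limits.pullback.condition, Category.assoc, hs', IsIso.inv_hom_id_assoc]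

end Groth.Agent.S15347
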