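import Groth.Statements.S15354
import Mathlib

set_option autoImplicit false
universe u
open CategoryTheory CategoryTheory.Limits AlgebraicGeometry
open Mor

namespace Groth.Agent.S15354

/-- Let f : Y ⟶ X be a morphism of schemes, A a valuation ring with fraction field K and residue field
k, and ξ, η : Spec A ⟶ Y two A-points of Y over the same A-point of X. If ξ and η restrict to the
same K-point and to the same k-point of Y, then ξ = η. (The published statement is an equivalence,
for algebraic spaces locally of finite presentation over a Noetherian scheme, between local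
separatedness of f and conditions (a), (b); this row is the necessity of (a) in the case of schemes,
where no hypothesis on f is needed.) -/
theorem result {X Y : Scheme.{u}} (f : Y ⟶ X)
    (A : Type u) [CommRing A] [IsDomain A] [ValuationRing A] (K : Type u) [Field K] [Algebra A K]
    [IsFractionRing A K] (ξ η : Spec (CommRingCat.of A) ⟶ Y) (hf : ξ ≫ f = η ≫ f)
    (hK : Spec.map (CommRingCat.ofHom (algebraMap A K)) ≫ ξ = Spec.map (CommRingCat.ofHom (algebraMap A K)) ≫ η)
    (hk : Spec.map (CommRingCat.ofHom (IsLocalRing.residue A)) ≫ ξ =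
      Spec.map (CommRingCat.ofHom (IsLocalRing.residue A)) ≫ η) :
    ξ = η := by
  -- the closed point maps to the same point under both maps
  have hpt : ξ.base (IsLocalRing.closedPoint A) = η.base (IsLocalRing.closedPoint A) := by
    have pt : ↥(Spec (CommRingCat.of (IsLocalRing.ResidueField A))) :=
      IsLocalRing.closedPoint (IsLocalRing.ResidueField A)
    have h1 := congrArg (fun φ => φ.base pt) hk
    simp only [Scheme.Hom.comp_base, TopCat.hom_comp, ContinuousMap.comp_apply] at h1
    have h2 : (Spec.map (CommRingCat.ofHom (IsLocalRing.residue A))).base pt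
        = IsLocalRing.closedPoint A := IsLocalRing.PrimeSpectrum.comap_residue A pt
    rw [h2] at h1
    exact h1
  obtain ⟨U, hU, hyU⟩ : ∃ U : Y.Opens, IsAffineOpen U ∧ ξ.base (IsLocalRing.closedPoint A) ∈ U := by
    obtain ⟨W, hW, hyW, _⟩ := exists_isAffineOpen_mem_and_subset
      (show ξ.base (IsLocalRing.closedPoint A) ∈ (⊤ : Y.Opens) from trivial)
    exact ⟨W, hW, hyW⟩
  have hξtop : ξ ⁻¹ᵁ U = ⊤ := IsLocalRing.closed_point_mem_iff.mp hyU
  have hηtop : η ⁻¹ᵁ U = ⊤ := IsLocalRing.closed_point_mem_iff.mp (by
    show η.base (IsLocalRing.closedPoint A) ∈ U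
    rw [← hpt]; exact hyU)
  have hξr : Set.range ξ.base ⊆ Set.range U.ι.base := by
    rintro _ ⟨a, rfl⟩
    rw [Scheme.Opens.range_ι]
    have : a ∈ ξ ⁻¹ᵁ U := by rw [hξtop]; trivial
    exact this
  have hηr : Set.range η.base ⊆ Set.range U.ι.base := by
    rintro _ ⟨a, rfl⟩
    rw [Scheme.Opens.range_ι]
    have : a ∈ η ⁻¹ᵁ U := by rw [hηtop]; trivial
    exact this
  have hsep : (U : Scheme.{u}).IsSeparated := by
    have : IsAffine (U : Scheme.{u}) := hU
    infer_instance
  have hdom : IsDominant (Spec.map (CommRingCat.ofHom (algebraMap A K))) := by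
    constructor
    show DenseRange (PrimeSpectrum.comap (algebraMap A K))
    rw [PrimeSpectrum.denseRange_comap_iff_ker_le_nilRadical]
    rw [(RingHom.injective_iff_ker_eq_bot _).mp (IsFractionRing.injective A K)]
    exact bot_le
  have hred : IsReduced (Spec (CommRingCat.of A)) := inferInstance
  have key : IsOpenImmersion.lift U.ι ξ hξr = IsOpenImmersion.lift U.ι η hηr := by
    apply ext_of_isDominant (Spec.map (CommRingCat.ofHom (algebraMap A K)))
    rw [← cancel_mono U.ι]
    simp only [Category.assoc, IsOpenImmersion.lift_fac]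
    exact hK
  calc ξ = IsOpenImmersion.lift U.ι ξ hξr ≫ U.ι := (IsOpenImmersion.lift_fac _ _ _).symm
    _ = IsOpenImmersion.lift U.ι η hηr ≫ U.ι := by rw [key]
    _ = η := IsOpenImmersion.lift_fac _ _ _

end Groth.Agent.S15354
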