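import Groth.Statements.S15355
import Mathlib

set_option autoImplicit false
universe u
open CategoryTheory CategoryTheory.Limits AlgebraicGeometry
open Mor

namespace Groth.Agent.S15355

/-- Let f : Y ⟶ X be a morphism of schemes, A an integral domain and ξ, η : Spec A ⟶ Y two A-points of Y
over the same A-point of X. If ξ and η induce the same κ(p)-point of Y at every point p of some
dense subset of Spec A, then ξ and η agree on a nonempty open subscheme of Spec A. (The published
statement is an equivalence, for algebraic spaces locally of finite presentation over a Noetherian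
scheme, between local separatedness of f and conditions (a), (b); this row is the necessity of (b)
in the case of schemes, where no hypothesis on f is needed.) -/
theorem result {X Y : Scheme.{u}} (f : Y ⟶ X)
    (A : Type u) [CommRing A] [IsDomain A] (ξ η : Spec (CommRingCat.of A) ⟶ Y) (hf : ξ ≫ f = η ≫ f)
    (D : Set ↥(Spec (CommRingCat.of A))) (hD : Dense D)
    (hpt : ∀ p ∈ D, (Spec (CommRingCat.of A)).fromSpecResidueField p ≫ ξ =
      (Spec (CommRingCat.of A)).fromSpecResidueField p ≫ η) :
    ∃ U : (Spec (CommRingCat.of A)).Opens, (U : Set ↥(Spec (CommRingCat.of A))).Nonempty ∧ U.ι ≫ ξ = U.ι ≫ η := by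
  classical
  -- a point of D
  have hne : (Set.univ : Set ↥(Spec (CommRingCat.of A))).Nonempty := ⟨IsLocalRing.closedPoint (FractionRing A) |>
    (Spec.map (CommRingCat.ofHom (algebraMap A (FractionRing A)))).base, trivial⟩
  obtain ⟨p₀, -, hp₀⟩ := hD.inter_open_nonempty _ isOpen_univ hne
  have hbase : ∀ p ∈ D, ξ.base p = η.base p := by
    intro p hp
    have pt : ↥(Spec ((Spec (CommRingCat.of A)).residueField p)) := IsLocalRing.closedPoint _
    have h1 := congrArg (fun φ => φ.base pt) (hpt p hp)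
    simp only [Scheme.Hom.comp_base, TopCat.hom_comp, ContinuousMap.comp_apply] at h1
    rw [show ((Spec (CommRingCat.of A)).fromSpecResidueField p).base pt = p from Scheme.fromSpecResidueField_apply _ _] at h1
    exact h1
  obtain ⟨V, hV, hyV, -⟩ := exists_isAffineOpen_mem_and_subset
    (show ξ.base p₀ ∈ (⊤ : Y.Opens) from trivial)
  let W : (Spec (CommRingCat.of A)).Opens := ξ ⁻¹ᵁ V ⊓ η ⁻¹ᵁ V
  have hp₀W : p₀ ∈ W := ⟨hyV, by show η.base p₀ ∈ V; rw [← hbase p₀ hp₀]; exact hyV⟩
  refine ⟨W, ⟨p₀, hp₀W⟩, ?_⟩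
  -- factor through V
  have hξr : Set.range (W.ι ≫ ξ).base ⊆ Set.range V.ι.base := by
    rintro _ ⟨w, rfl⟩
    rw [Scheme.Opens.range_ι]
    exact w.2.1
  have hηr : Set.range (W.ι ≫ η).base ⊆ Set.range V.ι.base := by
    rintro _ ⟨w, rfl⟩
    rw [Scheme.Opens.range_ι]
    exact w.2.2
  have hsep : (V : Scheme.{u}).IsSeparated := by
    have : IsAffine (V : Scheme.{u}) := hV
    infer_instance
  -- the dominant family
  let Idx := {w : ↥(W : Scheme.{u}) // W.ι.base w ∈ D}
  let g : ∀ w : Idx, Spec ((W : Scheme.{u}).residueField w.1) ⟶ (W : Scheme.{u}) :=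
    fun w => (W : Scheme.{u}).fromSpecResidueField w.1
  let ι : (∐ fun w : Idx => Spec ((W : Scheme.{u}).residueField w.1)) ⟶ (W : Scheme.{u}) :=
    Limits.Sigma.desc g
  have hdom : IsDominant ι := by
    constructor
    have hdense : Dense (W.ι.base ⁻¹' D) := hD.preimage W.ι.isOpenEmbedding.isOpenMap
    refine hdense.mono ?_
    intro w hw
    have pt : ↥(Spec ((W : Scheme.{u}).residueField w)) := IsLocalRing.closedPoint _
    refine ⟨(Limits.Sigma.ι (fun w : Idx => Spec ((W : Scheme.{u}).residueField w.1)) ⟨w, hw⟩).base pt, ?_⟩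
    have h1 : Limits.Sigma.ι (fun w : Idx => Spec ((W : Scheme.{u}).residueField w.1)) ⟨w, hw⟩ ≫ ι
        = g ⟨w, hw⟩ := Limits.Sigma.ι_desc _ _
    have h2 := congrArg (fun φ => φ.base pt) h1
    simp only [Scheme.Hom.comp_base, TopCat.hom_comp, ContinuousMap.comp_apply] at h2
    rw [h2]
    exact Scheme.fromSpecResidueField_apply _ _
  have hred : IsReduced (W : Scheme.{u}) := inferInstance
  have key : IsOpenImmersion.lift V.ι (W.ι ≫ ξ) hξr = IsOpenImmersion.lift V.ι (W.ι ≫ η) hηr := by
    apply ext_of_isDominant ι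
    rw [← cancel_mono V.ι]
    simp only [Category.assoc, IsOpenImmersion.lift_fac]
    apply Limits.Sigma.hom_ext
    intro w
    simp only [ι, Limits.Sigma.ι_desc_assoc, g]
    rw [← (W.ι).SpecMap_residueFieldMap_fromSpecResidueField_assoc,
      ← (W.ι).SpecMap_residueFieldMap_fromSpecResidueField_assoc, hpt _ w.2]
  calc W.ι ≫ ξ = IsOpenImmersion.lift V.ι (W.ι ≫ ξ) hξr ≫ V.ι := (IsOpenImmersion.lift_fac _ _ _).symm
    _ = IsOpenImmersion.lift V.ι (W.ι ≫ η) hηr ≫ V.ι := by rw [key]
    _ = W.ι ≫ η := IsOpenImmersion.lift_fac _ _ _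

end Groth.Agent.S15355
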