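import Groth.Statements.S15362
import Groth.Agent.Lib.Helper6.SigmaLin.Hyp
import Groth.Agent.Lib.Helper6.SigmaLin.Fixed2

set_option autoImplicit false
universe u v w
open CAlg

namespace Groth.Agent.S15362

/-- For an algebraically closed field L of characteristic p > 0, a commutative L-algebra R integral over
L, and a finitely presented R-module M carrying an additive endomorphism φ with φ(r·m) = r^p·φ(m)
for r ∈ R, m ∈ M, the map m ↦ φ(m) − m is onto. (R is taken of exponential characteristic p so that
its Frobenius is a ring endomorphism; for a non-zero L-algebra this is automatic.) -/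
theorem result (p : ℕ) [Fact p.Prime]
    (L : Type u) [Field L] [IsAlgClosed L] [CharP L p]
    (R : Type v) [CommRing R] [Algebra L R] [Algebra.IsIntegral L R] [ExpChar R p]
    (M : Type w) [AddCommGroup M] [Module R M] [Module.FinitePresentation R M]
    (φ : M →ₛₗ[frobenius R p] M) :
    Function.Surjective fun m : M => φ m - m := by
  classical
  have hp : p.Prime := Fact.out
  letI : Module L M := Module.compHom M (algebraMap L R)
  have hLsmul : ∀ (c : L) (m : M), c • m = (algebraMap L R c) • m := fun c m => rfl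
  have hfrob : ∀ r : R, frobenius R p r = r ^ p := fun r => rfl
  intro y
  obtain ⟨s, g, hg⟩ := Submodule.fg_iff_exists_fin_generating_family.mp
    (Module.Finite.fg_top : (⊤ : Submodule R M).FG)
  have hrep : ∀ x : M, ∃ c : Fin s → R, ∑ j, c j • g j = x := fun x =>
    (Submodule.mem_span_range_iff_exists_fun R).mp (by rw [hg]; exact Submodule.mem_top)
  choose a ha using fun i => hrep (φ (g i))
  obtain ⟨c, hc⟩ := hrep y
  let S₀ : Set R := Set.range (fun ij : Fin s × Fin s => a ij.1 ij.2) ∪ Set.range c
  have hS₀fin : S₀.Finite := (Set.finite_range _).union (Set.finite_range _)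
  let R₀ : Subalgebra L R := Algebra.adjoin L S₀
  have hamem : ∀ i j, a i j ∈ R₀ := fun i j =>
    Algebra.subset_adjoin (Or.inl ⟨(i, j), rfl⟩)
  have hcmem : ∀ j, c j ∈ R₀ := fun j => Algebra.subset_adjoin (Or.inr ⟨j, rfl⟩)
  have hR₀fg : R₀.toSubmodule.FG :=
    fg_adjoin_of_finite hS₀fin (fun x _ => Algebra.IsIntegral.isIntegral x)
  haveI : Module.Finite L R₀ := Module.Finite.iff_fg.mpr hR₀fg
  let ℓ : Fin s → (R₀ →ₗ[L] M) := fun i =>
    { toFun := fun r => (r : R) • g i
      map_add' := fun r r' => by
        show ((r + r' : R₀) : R) • g i = _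
        rw [Subalgebra.coe_add, add_smul]
      map_smul' := fun c r => by
        show ((c • r : R₀) : R) • g i = c • ((r : R) • g i)
        rw [hLsmul, Subalgebra.coe_smul, Algebra.smul_def, mul_smul] }
  have hℓ : ∀ i (r : R₀), ℓ i r = (r : R) • g i := fun i r => rfl
  let N : Submodule L M := ⨆ i, LinearMap.range (ℓ i)
  have hmemN : ∀ (r : R) (hr : r ∈ R₀) (i : Fin s), r • g i ∈ N := fun r hr i =>
    Submodule.mem_iSup_of_mem i ⟨⟨r, hr⟩, rfl⟩
  have hφN : ∀ x ∈ N, φ x ∈ N := by
    intro x hx
    refine Submodule.iSup_induction _ (motive := fun x => φ x ∈ N) hx ?_ ?_ ?_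
    · rintro i _ ⟨r, rfl⟩
      rw [hℓ, LinearMap.map_smulₛₗ, hfrob, ← ha i, Finset.smul_sum]
      apply Submodule.sum_mem
      intro j _
      rw [smul_smul]
      exact hmemN _ (R₀.mul_mem (R₀.pow_mem r.2 p) (hamem i j)) j
    · rw [map_zero]; exact Submodule.zero_mem _
    · intro x x' hx hx'
      rw [map_add]; exact Submodule.add_mem _ hx hx'
  have hyN : y ∈ N := by
    rw [← hc]
    apply Submodule.sum_mem
    intro j _
    exact hmemN _ (hcmem j) j
  let T : N →ₛₗ[frobenius L p] N :=
    { toFun := fun x => ⟨φ x, hφN x x.2⟩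
      map_add' := fun x x' => by
        apply Subtype.ext
        show φ ((x + x' : N) : M) = φ x + φ x'
        rw [Submodule.coe_add, map_add]
      map_smul' := fun c x => by
        apply Subtype.ext
        show φ ((c • x : N) : M) = (frobenius L p c) • φ x
        rw [Submodule.coe_smul, hLsmul, LinearMap.map_smulₛₗ, hLsmul, hfrob]
        congr 1
        show (algebraMap L R c) ^ p = algebraMap L R (c ^ p)
        rw [map_pow] }
  have h2 := Groth.Agent.Helper6.SigmaLin.H2_pow p (frobenius L p) 1 one_pos (fun y => by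
    rw [pow_one]; rfl)
  have h3 := Groth.Agent.Helper6.SigmaLin.H3_pow p (frobenius L p) 1 one_pos (fun y => by
    rw [pow_one]; rfl)
  obtain ⟨u, hu⟩ := Groth.Agent.Helper6.SigmaLin.sub_surjective T h2 h3 (-⟨y, hyN⟩)
  refine ⟨(u : M), ?_⟩
  have := congrArg Subtype.val hu
  simp only [Submodule.coe_sub, Submodule.coe_neg] at this
  have hTu : ((T u : N) : M) = φ u := rfl
  rw [hTu] at this
  show φ (u : M) - (u : M) = y
  rw [← neg_sub, this, neg_neg]

end Groth.Agent.S15362
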