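import Groth.Statements.S15365
import Mathlib

set_option autoImplicit false
universe u
open scoped BigOperators
open CAlg

namespace Groth.Agent.S15365

/-- Let A be a commutative ring of characteristic p > 0 and (h_{ij})_{1 ≤ i,j ≤ n} a square matrix over
A, the matrix of a commutative p-Lie algebra (L, φ) with L free with basis e_1, …, e_n and φ(e_j) =
Σ_i h_{ij} e_i. The associated finite group scheme Spec A[X_1, …, X_n]/(X_j^p − Σ_i h_{ij} X_i)_{1 ≤
j ≤ n} is étale over A if and only if the matrix (h_{ij}) is invertible, i.e. its determinant is a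
unit of A. Only the algebra structure enters this assertion. -/
theorem result (p : ℕ) [Fact p.Prime]
    (A : Type u) [CommRing A] [CharP A p] (n : ℕ) (h : Matrix (Fin n) (Fin n) A) :
    Algebra.Etale A (MvPolynomial (Fin n) A ⧸ Ideal.span (Set.range fun j : Fin n =>
        (MvPolynomial.X j : MvPolynomial (Fin n) A) ^ p -
          ∑ i : Fin n, MvPolynomial.C (h i j) * MvPolynomial.X i)) ↔
      IsUnit h.det := by
  classical
  have hp2 : 2 ≤ p := (Fact.out : p.Prime).two_le
  constructor
  · intro hE
    by_contra hdet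
    obtain ⟨m, hm, hmem⟩ := exists_max_ideal_of_mem_nonunits hdet
    let _ : Field (A ⧸ m) := Ideal.Quotient.field m
    have hdet0 : (h.map (algebraMap A (A ⧸ m))).det = 0 := by
      have := RingHom.map_det (algebraMap A (A ⧸ m)) h
      rw [RingHom.mapMatrix_apply] at this
      rw [← this]
      exact Ideal.Quotient.eq_zero_iff_mem.mpr hmem
    obtain ⟨w, hw0, hw⟩ := Matrix.exists_vecMul_eq_zero_iff.mpr hdet0
    have hw' : ∀ j, ∑ i, w i * algebraMap A (A ⧸ m) (h i j) = 0 := fun j => by
      have := congrFun hw j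
      simpa [Matrix.vecMul, dotProduct] using this
    -- the two maps to the dual numbers
    have hrel : ∀ (x : Fin n → A ⧸ m),
        (∀ j, ∑ i, x i * algebraMap A (A ⧸ m) (h i j) = 0) →
        ∀ a ∈ Ideal.span (Set.range fun j : Fin n =>
          (MvPolynomial.X j : MvPolynomial (Fin n) A) ^ p -
            ∑ i : Fin n, MvPolynomial.C (h i j) * MvPolynomial.X i),
          (MvPolynomial.aeval (fun j => (TrivSqZeroExt.inr (x j) : TrivSqZeroExt (A ⧸ m) (A ⧸ m)))) a
            = 0 := by
      intro x hx a ha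
      have hle : Ideal.span (Set.range fun j : Fin n =>
          (MvPolynomial.X j : MvPolynomial (Fin n) A) ^ p -
            ∑ i : Fin n, MvPolynomial.C (h i j) * MvPolynomial.X i) ≤
          RingHom.ker (MvPolynomial.aeval (fun j =>
            (TrivSqZeroExt.inr (x j) : TrivSqZeroExt (A ⧸ m) (A ⧸ m)))).toRingHom := by
        rw [Ideal.span_le]
        rintro _ ⟨j, rfl⟩
        show (MvPolynomial.aeval (fun j =>
            (TrivSqZeroExt.inr (x j) : TrivSqZeroExt (A ⧸ m) (A ⧸ m)))) _ = 0
        rw [map_sub, map_pow, MvPolynomial.aeval_X, map_sum]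
        have h1 : (TrivSqZeroExt.inr (x j) : TrivSqZeroExt (A ⧸ m) (A ⧸ m)) ^ p = 0 := by
          obtain ⟨q, rfl⟩ : ∃ q, p = q + 2 := ⟨p - 2, by omega⟩
          rw [pow_add, pow_two, TrivSqZeroExt.inr_mul_inr, mul_zero]
        rw [h1, zero_sub, neg_eq_zero]
        have h2 : ∀ i, (MvPolynomial.aeval (fun j =>
            (TrivSqZeroExt.inr (x j) : TrivSqZeroExt (A ⧸ m) (A ⧸ m))))
            (MvPolynomial.C (h i j) * MvPolynomial.X i) =
            TrivSqZeroExt.inr (x i * algebraMap A (A ⧸ m) (h i j)) := by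
          intro i
          rw [map_mul, MvPolynomial.aeval_X, MvPolynomial.aeval_C]
          rw [TrivSqZeroExt.algebraMap_eq_inl', TrivSqZeroExt.inl_mul_inr, smul_eq_mul, mul_comm]
        simp_rw [h2]
        rw [← TrivSqZeroExt.inr_sum, hx j, TrivSqZeroExt.inr_zero]
      exact hle ha
    let g₁ := Ideal.Quotient.liftₐ (Ideal.span (Set.range fun j : Fin n =>
          (MvPolynomial.X j : MvPolynomial (Fin n) A) ^ p -
            ∑ i : Fin n, MvPolynomial.C (h i j) * MvPolynomial.X i)) (MvPolynomial.aeval (fun j =>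
      (TrivSqZeroExt.inr (w j) : TrivSqZeroExt (A ⧸ m) (A ⧸ m)))) (hrel w hw')
    let g₂ := Ideal.Quotient.liftₐ (Ideal.span (Set.range fun j : Fin n =>
          (MvPolynomial.X j : MvPolynomial (Fin n) A) ^ p -
            ∑ i : Fin n, MvPolynomial.C (h i j) * MvPolynomial.X i)) (MvPolynomial.aeval (fun j =>
      (TrivSqZeroExt.inr ((0 : Fin n → A ⧸ m) j) : TrivSqZeroExt (A ⧸ m) (A ⧸ m))))
      (hrel 0 (fun j => by simp))
    have hnil : IsNilpotent (RingHom.ker
        ((TrivSqZeroExt.fstHom A (A ⧸ m) (A ⧸ m)) : TrivSqZeroExt (A ⧸ m) (A ⧸ m) →+* (A ⧸ m))) := by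
      refine ⟨2, ?_⟩
      rw [show (2 : ℕ) = 0 + 1 + 1 from rfl, Submodule.pow_succ, Submodule.pow_succ,
        Submodule.pow_zero, Submodule.one_mul, Submodule.zero_eq_bot, eq_bot_iff, Submodule.mul_le]
      intro a ha b hb
      have ha' : a.fst = 0 := ha
      have hb' : b.fst = 0 := hb
      rw [Ideal.mem_bot]
      ext
      · simp [ha']
      · simp [ha', hb']
    have := hE.1
    have hg₁ : ∀ j, g₁ (Ideal.Quotient.mk _ (MvPolynomial.X j)) = TrivSqZeroExt.inr (w j) :=
      fun j => by
        show (MvPolynomial.aeval _) (MvPolynomial.X j) = _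
        rw [MvPolynomial.aeval_X]
    have hg₂ : ∀ j, g₂ (Ideal.Quotient.mk _ (MvPolynomial.X j)) = TrivSqZeroExt.inr 0 :=
      fun j => by
        show (MvPolynomial.aeval _) (MvPolynomial.X j) = _
        rw [MvPolynomial.aeval_X]; rfl
    have hg : g₁ = g₂ := by
      refine Algebra.FormallyUnramified.lift_unique' (TrivSqZeroExt.fstHom A (A ⧸ m) (A ⧸ m)) hnil
        g₁ g₂ ?_
      apply Ideal.Quotient.algHom_ext
      apply MvPolynomial.algHom_ext
      intro j
      show (g₁ (Ideal.Quotient.mk _ (MvPolynomial.X j))).fst =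
        (g₂ (Ideal.Quotient.mk _ (MvPolynomial.X j))).fst
      rw [hg₁, hg₂]; rfl
    apply hw0
    funext j
    have h3 : (g₁ (Ideal.Quotient.mk _ (MvPolynomial.X j))).snd =
        (g₂ (Ideal.Quotient.mk _ (MvPolynomial.X j))).snd := by rw [hg]
    rw [hg₁, hg₂] at h3
    exact h3
  · intro hdet
    rw [Algebra.Etale.iff_isStandardSmoothOfRelativeDimension_zero]
    let P₀ : Algebra.PreSubmersivePresentation A (MvPolynomial (Fin n) A ⧸
        Ideal.span (Set.range fun j : Fin n =>
          (MvPolynomial.X j : MvPolynomial (Fin n) A) ^ p -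
            ∑ i : Fin n, MvPolynomial.C (h i j) * MvPolynomial.X i)) (Fin n) (Fin n) :=
      Algebra.PreSubmersivePresentation.naive id Function.injective_id
    have hjac : P₀.jacobiMatrix = -(h.map MvPolynomial.C) := by
      refine Matrix.ext fun i j => ?_
      rw [Algebra.PreSubmersivePresentation.jacobiMatrix_naive]
      simp only [id, map_sub, map_sum, Matrix.neg_apply, Matrix.map_apply]
      rw [Derivation.leibniz_pow]
      have hp0 : ((p : ℕ) : MvPolynomial (Fin n) A) = 0 := CharP.cast_eq_zero _ p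
      rw [nsmul_eq_mul, hp0, zero_mul, zero_sub, neg_inj]
      simp [MvPolynomial.pderiv_X, Pi.single_apply]
    have hunit : IsUnit P₀.jacobian := by
      rw [Algebra.PreSubmersivePresentation.jacobian_eq_jacobiMatrix_det, hjac, Matrix.det_neg]
      apply IsUnit.map
      refine IsUnit.mul ((isUnit_one.neg).pow _) ?_
      have := RingHom.map_det (MvPolynomial.C (σ := Fin n) (R := A)) h
      rw [RingHom.mapMatrix_apply] at this
      rw [← this]
      exact hdet.map _
    exact Algebra.SubmersivePresentation.isStandardSmoothOfRelativeDimension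
      (P := ⟨P₀, hunit⟩) (by simp [Algebra.Presentation.dimension])

end Groth.Agent.S15365
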