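import Groth.Statements.S15367
import Mathlib

set_option autoImplicit false
universe u v
open TensorProduct
open CAlg

namespace Groth.Agent.S15367

/-- `Hom(R/ϖ^e, R/ϖ^n) ≅ R/ϖ^e` for `e ≤ n`. -/
theorem homQuot {R : Type*} [CommRing R] [IsDomain R] (ϖ : R) (hϖ : ϖ ≠ 0) (e n : ℕ) (he : e ≤ n)
    (I : Submodule R R) (hI : I = Ideal.span {ϖ ^ e}) :
    Nonempty (((R ⧸ I) →ₗ[R] (R ⧸ Ideal.span {ϖ ^ n})) ≃ₗ[R] (R ⧸ I)) := by
  set J : Ideal R := Ideal.span {ϖ ^ n} with hJ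
  have hle : I ≤ LinearMap.ker ((Submodule.mkQ J) ∘ₗ (LinearMap.lsmul R R (ϖ ^ (n - e)))) := by
    intro x hx
    rw [hI, Ideal.mem_span_singleton] at hx
    obtain ⟨y, rfl⟩ := hx
    rw [LinearMap.mem_ker, LinearMap.comp_apply, Submodule.mkQ_apply,
      Submodule.Quotient.mk_eq_zero, hJ, Ideal.mem_span_singleton]
    refine ⟨y, ?_⟩
    simp only [LinearMap.lsmul_apply, smul_eq_mul]
    rw [← mul_assoc, ← pow_add, Nat.sub_add_cancel he]
  set ψ₀ : (R ⧸ I) →ₗ[R] (R ⧸ J) := I.liftQ _ hle with hψ₀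
  have hψ₀1 : ∀ x : R, ψ₀ (Submodule.Quotient.mk x) = Submodule.Quotient.mk (ϖ ^ (n - e) * x) := by
    intro x
    rw [hψ₀, Submodule.liftQ_apply]
    rfl
  set ψ : R →ₗ[R] ((R ⧸ I) →ₗ[R] (R ⧸ J)) := LinearMap.toSpanSingleton R _ ψ₀ with hψ
  have hext : ∀ h₁ h₂ : (R ⧸ I) →ₗ[R] (R ⧸ J),
      h₁ (Submodule.Quotient.mk 1) = h₂ (Submodule.Quotient.mk 1) → h₁ = h₂ := by
    intro h₁ h₂ h
    apply Submodule.linearMap_qext
    apply LinearMap.ext_ring
    exact h
  have hker : LinearMap.ker ψ = I := by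
    ext c
    rw [LinearMap.mem_ker, hψ, LinearMap.toSpanSingleton_apply]
    constructor
    · intro hc
      have h1 := congrArg (fun h : (R ⧸ I) →ₗ[R] (R ⧸ J) => h (Submodule.Quotient.mk 1)) hc
      simp only [LinearMap.smul_apply, LinearMap.zero_apply, hψ₀1, mul_one] at h1
      rw [← Submodule.Quotient.mk_smul, Submodule.Quotient.mk_eq_zero, hJ,
        Ideal.mem_span_singleton, smul_eq_mul] at h1
      obtain ⟨y, hy⟩ := h1
      rw [hI, Ideal.mem_span_singleton]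
      refine ⟨y, ?_⟩
      have h2 : ϖ ^ (n - e) * c = ϖ ^ (n - e) * (ϖ ^ e * y) := by
        rw [← mul_assoc, ← pow_add, Nat.sub_add_cancel he, ← hy, mul_comm]
      exact mul_left_cancel₀ (pow_ne_zero _ hϖ) h2
    · intro hc
      rw [hI, Ideal.mem_span_singleton] at hc
      obtain ⟨y, rfl⟩ := hc
      apply hext
      simp only [LinearMap.smul_apply, LinearMap.zero_apply, hψ₀1, mul_one]
      rw [← Submodule.Quotient.mk_smul, Submodule.Quotient.mk_eq_zero, hJ,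
        Ideal.mem_span_singleton, smul_eq_mul]
      refine ⟨y, ?_⟩
      rw [mul_comm (ϖ ^ e * y), ← mul_assoc, ← pow_add, Nat.sub_add_cancel he]
  have hsurj : Function.Surjective ψ := by
    intro h
    obtain ⟨y, hy⟩ := Submodule.Quotient.mk_surjective J (h (Submodule.Quotient.mk 1))
    have h1 : ϖ ^ e • h (Submodule.Quotient.mk 1) = 0 := by
      rw [← map_smul, ← Submodule.Quotient.mk_smul, smul_eq_mul, mul_one]
      have : (Submodule.Quotient.mk (ϖ ^ e) : R ⧸ I) = 0 := by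
        rw [Submodule.Quotient.mk_eq_zero, hI]
        exact Ideal.mem_span_singleton_self _
      rw [this, map_zero]
    rw [← hy, ← Submodule.Quotient.mk_smul, Submodule.Quotient.mk_eq_zero, hJ,
      Ideal.mem_span_singleton, smul_eq_mul] at h1
    obtain ⟨z, hz⟩ := h1
    have h2 : y = ϖ ^ (n - e) * z := by
      have h3 : ϖ ^ e * y = ϖ ^ e * (ϖ ^ (n - e) * z) := by
        rw [hz, ← mul_assoc, ← pow_add, Nat.add_sub_cancel' he]
      exact mul_left_cancel₀ (pow_ne_zero _ hϖ) h3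
    refine ⟨z, ?_⟩
    apply hext
    rw [hψ, LinearMap.toSpanSingleton_apply, LinearMap.smul_apply, hψ₀1, mul_one, ← hy, h2,
      ← Submodule.Quotient.mk_smul, smul_eq_mul, mul_comm]
  exact ⟨((Submodule.quotEquivOfEq _ _ hker).symm.trans
    (LinearMap.quotKerEquivOfSurjective ψ hsurj)).symm⟩


/-- Let R be a discrete valuation ring with uniformizer π and residue field k, n ≥ 0, and M₀ a finitely
generated module over R/πⁿR, viewed as an R-module killed by πⁿ; put M₀* = Hom_R(M₀, R/πⁿR). Then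
dim_k(M₀*/πM₀*) = dim_k(M₀/πM₀). The published lemma is stated for a finitely presented module over
the quotient of the ring of integers of an algebraic closure of K by the elements of valuation ≥ t,
with its dual into that quotient ring, and the published proof reduces it by descent to exactly this
statement over the valuation ring of a finite extension of K; the row states that step. -/
theorem result
    (R : Type u) [CommRing R] [IsDomain R] [IsDiscreteValuationRing R] (ϖ : R) (hϖ : Irreducible ϖ) (n : ℕ)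
    (M : Type v) [AddCommGroup M] [Module R M] [Module.Finite R M] (hM : ∀ m : M, ϖ ^ n • m = 0) :
    Module.finrank (IsLocalRing.ResidueField R)
        (IsLocalRing.ResidueField R ⊗[R] (M →ₗ[R] (R ⧸ Ideal.span {ϖ ^ n}))) =
      Module.finrank (IsLocalRing.ResidueField R) (IsLocalRing.ResidueField R ⊗[R] M) := by
  classical
  suffices h : Nonempty ((M →ₗ[R] (R ⧸ Ideal.span {ϖ ^ n})) ≃ₗ[R] M) by
    obtain ⟨e⟩ := h
    exact LinearEquiv.finrank_eq (TensorProduct.AlgebraTensorModule.congr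
      (LinearEquiv.refl (IsLocalRing.ResidueField R) (IsLocalRing.ResidueField R)) e)
  have hT : Module.IsTorsion R M := fun m =>
    ⟨⟨ϖ ^ n, mem_nonZeroDivisors_of_ne_zero (pow_ne_zero n hϖ.ne_zero)⟩, hM m⟩
  obtain ⟨ι, _, p, hp, e, ⟨f⟩⟩ := Module.equiv_directSum_of_isTorsion hT
  have hass : ∀ i, Associated (p i ^ e i) (ϖ ^ e i) := fun i =>
    (IsDiscreteValuationRing.associated_of_irreducible R (hp i) hϖ).pow_pow
  have hI : ∀ i, (R ∙ p i ^ e i) = Ideal.span {ϖ ^ e i} := fun i =>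
    Ideal.span_singleton_eq_span_singleton.mpr (hass i)
  have hle : ∀ i, e i ≤ n := by
    intro i
    have h1 := hM (f.symm (DirectSum.lof R ι (fun i => R ⧸ R ∙ p i ^ e i) i
      (Submodule.Quotient.mk 1)))
    rw [← map_smul, ← map_smul, ← Submodule.Quotient.mk_smul, smul_eq_mul, mul_one] at h1
    have h2 := f.symm.injective (h1.trans (map_zero f.symm).symm)
    have h3 := DirectSum.of_injective (β := fun i => R ⧸ R ∙ p i ^ e i) i
      (h2.trans (map_zero _).symm)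
    rw [Submodule.Quotient.mk_eq_zero, hI i, Ideal.mem_span_singleton] at h3
    exact (pow_dvd_pow_iff hϖ.ne_zero hϖ.not_isUnit).mp h3
  have g : ∀ i, ((R ⧸ R ∙ p i ^ e i) →ₗ[R] (R ⧸ Ideal.span {ϖ ^ n})) ≃ₗ[R] (R ⧸ R ∙ p i ^ e i) :=
    fun i => (homQuot ϖ hϖ.ne_zero (e i) n (hle i) _ (hI i)).some
  let Q := R ⧸ Ideal.span {ϖ ^ n}
  let e1 : (M →ₗ[R] Q) ≃ₗ[R] ((DirectSum ι (fun i => R ⧸ R ∙ p i ^ e i)) →ₗ[R] Q) :=
    f.arrowCongr (LinearEquiv.refl R Q)
  let e2 : ((DirectSum ι (fun i => R ⧸ R ∙ p i ^ e i)) →ₗ[R] Q) ≃ₗ[R] ((∀ i, R ⧸ R ∙ p i ^ e i) →ₗ[R] Q) :=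
    (DirectSum.linearEquivFunOnFintype R ι (fun i => R ⧸ R ∙ p i ^ e i)).arrowCongr
      (LinearEquiv.refl R Q)
  let e3 : ((∀ i, R ⧸ R ∙ p i ^ e i) →ₗ[R] Q) ≃ₗ[R] (∀ i, (R ⧸ R ∙ p i ^ e i) →ₗ[R] Q) :=
    (LinearMap.lsum R (fun i => R ⧸ R ∙ p i ^ e i) R).symm
  let e4 : (∀ i, (R ⧸ R ∙ p i ^ e i) →ₗ[R] Q) ≃ₗ[R] (∀ i, R ⧸ R ∙ p i ^ e i) :=
    LinearEquiv.piCongrRight g
  exact ⟨e1.trans (e2.trans (e3.trans (e4.trans
    ((DirectSum.linearEquivFunOnFintype R ι (fun i => R ⧸ R ∙ p i ^ e i)).symm.trans f.symm))))⟩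

end Groth.Agent.S15367
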