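import Groth.Statements.S15368
import Mathlib

set_option autoImplicit false
universe u v
open TensorProduct
open CAlg

namespace Groth.Agent.S15368

/-- Let R be a discrete valuation ring with uniformizer π and residue field k, n ≥ 0, M₀ a finitely
generated R-module killed by πⁿ and N₀ a submodule of M₀. Then dim_k(N₀/πN₀) ≤ dim_k(M₀/πM₀). The
published lemma is stated for a finitely presented submodule N of a finitely presented module M over
the quotient of the ring of integers of an algebraic closure of K by the elements of valuation ≥ t,
and the published proof reduces it by descent to exactly this statement over the valuation ring of a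
finite extension of K (comparing π-torsion with π-cotorsion by additivity of length); the row states
that step. -/
theorem result
    (R : Type u) [CommRing R] [IsDomain R] [IsDiscreteValuationRing R] (ϖ : R) (hϖ : Irreducible ϖ) (n : ℕ)
    (M : Type v) [AddCommGroup M] [Module R M] [Module.Finite R M] (hM : ∀ m : M, ϖ ^ n • m = 0)
    (N : Submodule R M) :
    Module.finrank (IsLocalRing.ResidueField R) (IsLocalRing.ResidueField R ⊗[R] N) ≤
      Module.finrank (IsLocalRing.ResidueField R) (IsLocalRing.ResidueField R ⊗[R] M) := by
  classical
  set k := IsLocalRing.ResidueField R with hkdef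
  obtain ⟨d, hd⟩ : ∃ d, Module.finrank k (k ⊗[R] M) = d := ⟨_, rfl⟩
  have b : Module.Basis (Fin d) k (k ⊗[R] M) := Module.finBasisOfFinrankEq k _ hd
  have hsurj : Function.Surjective (TensorProduct.mk R k M 1) :=
    TensorProduct.mk_surjective R M k Ideal.Quotient.mk_surjective
  choose f hf using fun i => hsurj (b i)
  have hspan : Submodule.span R (Set.range f) = ⊤ :=
    IsLocalRing.span_eq_top_of_tmul_eq_basis f b hf
  set φ : (Fin d → R) →ₗ[R] M := Fintype.linearCombination R f with hφ
  have hφsurj : Function.Surjective φ := by
    rw [← LinearMap.range_eq_top, hφ, Fintype.range_linearCombination, hspan]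
  set N' : Submodule R (Fin d → R) := N.comap φ with hN'
  let φ' : N' →ₗ[R] N := φ.restrict (fun x hx => hx)
  have hφ'surj : Function.Surjective φ' := by
    rintro ⟨y, hy⟩
    obtain ⟨x, rfl⟩ := hφsurj y
    exact ⟨⟨x, hy⟩, rfl⟩
  have h1 : Function.Surjective (φ'.baseChange k) :=
    LinearMap.lTensor_surjective k hφ'surj
  have h2 : Module.finrank k (k ⊗[R] N) ≤ Module.finrank k (k ⊗[R] N') :=
    LinearMap.finrank_le_finrank_of_surjective h1
  have h3 : Module.finrank k (k ⊗[R] N') = Module.finrank R N' := Module.finrank_baseChange
  have h4 : Module.finrank R N' ≤ Module.finrank R (Fin d → R) := Submodule.finrank_le N'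
  rw [Module.finrank_fin_fun] at h4
  rw [hd]
  exact h2.trans (h3.le.trans h4)

end Groth.Agent.S15368
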