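import Groth.Statements.S1537
import Mathlib
import Groth.Agent.S4619

set_option autoImplicit false
universe u
open CategoryTheory CategoryTheory.Limits AlgebraicGeometry
open Variety

namespace Groth.Agent.S1537

section
open CategoryTheory CategoryTheory.Limits AlgebraicGeometry
open Variety

theorem specMap_resMap (k : Type u) [Field k] (X : Scheme.{u}) [X.Over (Spec (CommRingCat.of k))]
    (x : X) :
    Spec.map (CommRingCat.ofHom (Curv2.resMap k X x)) =
      X.fromSpecResidueField x ≫ (X ↘ Spec (CommRingCat.of k)) := by
  have e1 : CommRingCat.ofHom (Curv2.resMap k X x) =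
      (Scheme.ΓSpecIso (CommRingCat.of k)).inv ≫ (X ↘ Spec (CommRingCat.of k)).appTop ≫
        X.presheaf.germ ⊤ x trivial ≫ X.residue x := rfl
  have e2 : (X ↘ Spec (CommRingCat.of k)) =
      X.toSpecΓ ≫ Spec.map (X ↘ Spec (CommRingCat.of k)).appTop ≫
        Spec.map (Scheme.ΓSpecIso (CommRingCat.of k)).inv := by
    rw [← Scheme.toSpecΓ_naturality_assoc, ← SpecMap_ΓSpecIso_hom, ← Spec.map_comp,
      Iso.inv_hom_id, Spec.map_id, Category.comp_id]
  rw [e1, Spec.map_comp, Spec.map_comp, Spec.map_comp]
  conv_rhs => rw [e2]
  rw [Scheme.fromSpecResidueField]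
  simp only [Category.assoc]
  rw [Scheme.fromSpecStalk_toSpecΓ_assoc]

theorem main (k : Type u) [Field k] (X : Scheme.{u}) [X.Over (Spec (CommRingCat.of k))] [ConnectedSpace X]
    (x : X) (hx : ∀ a : X.residueField x, (Curv2.resMap k X x).IsIntegralElem a → a ∈ (Curv2.resMap k X x).range) :
    GeometricallyConnected (X ↘ (Spec (CommRingCat.of k))) := by
  apply Groth.Agent.S4619.main (X ↘ (Spec (CommRingCat.of k))) x
  refine ⟨Curv2.resMap k X x, specMap_resMap k X x, ?_⟩
  letI := (Curv2.resMap k X x).toAlgebra
  show separableClosure k (X.residueField x) = ⊥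
  rw [eq_bot_iff]
  intro a ha
  have h1 : IsSeparable k a := mem_separableClosure_iff.mp ha
  have h2 : IsIntegral k a := h1.isIntegral
  obtain ⟨c, hc⟩ := hx a h2
  exact IntermediateField.mem_bot.mpr ⟨c, hc⟩


end


/-- A connected k-scheme is geometrically connected as soon as it has a point whose residue field
contains no element integral over k other than the elements of k. -/
theorem result (k : Type u) [Field k] (X : Scheme.{u}) [X.Over (Spec (CommRingCat.of k))] [ConnectedSpace X]
    (x : X) (hx : ∀ a : X.residueField x, (Curv2.resMap k X x).IsIntegralElem a → a ∈ (Curv2.resMap k X x).range) :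
    GeometricallyConnected (X ↘ (Spec (CommRingCat.of k))) := by
  classical
  exact main k X x hx

end Groth.Agent.S1537
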