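import Groth.Statements.S15383
import Mathlib
import Groth.Statements.S15383
import Groth.Prelude.Def_GmPts
import Mathlib.RingTheory.Finiteness.ModuleFinitePresentation
import Mathlib.AlgebraicGeometry.Morphisms.FlatRank
-- import your own Groth.Agent.* helpers here

set_option autoImplicit false
universe u
open GmDual

namespace Groth.Agent.S15383

open CategoryTheory CategoryTheory.Limits AlgebraicGeometry Opposite TensorProduct
namespace Aux


set_option linter.style.haveILetI false

section Alg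

theorem exists_away_free {A : Type u} [CommRing A] (M : Type u) [AddCommGroup M] [Module A M]
    [Module.Finite A M] [Module.Flat A M] [Module.FinitePresentation A M] (p : Ideal A) [p.IsPrime] :
    ∃ r, r ∈ p.primeCompl ∧ Module.Free (Localization.Away r) (LocalizedModule.Away r M) := by
  have : Module.Free (Localization.AtPrime p) (LocalizedModule p.primeCompl M) :=
    Module.free_of_flat_of_isLocalRing
  obtain ⟨r, hr, hr', _⟩ := Module.FinitePresentation.exists_free_localizedModule_powers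
    p.primeCompl (LocalizedModule.mkLinearMap p.primeCompl M) (Localization.AtPrime p)
  exact ⟨r, hr, hr'⟩

theorem free_of_away {A : Type u} [CommRing A] (M : Type u) [AddCommGroup M] [Module A M] (r : A)
    [Module.Free (Localization.Away r) (LocalizedModule.Away r M)]
    (A' : Type u) [CommRing A'] [Algebra A A'] (hr : IsUnit (algebraMap A A' r)) :
    Module.Free A' (A' ⊗[A] M) := by
  letI : Algebra (Localization.Away r) A' := (IsLocalization.Away.lift (S := Localization.Away r) r hr).toAlgebra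
  haveI : IsScalarTower A (Localization.Away r) A' :=
    IsScalarTower.of_algebraMap_eq' (IsLocalization.Away.lift_comp (S := Localization.Away r) r hr).symm
  let e1 : Localization.Away r ⊗[A] M ≃ₗ[Localization.Away r] LocalizedModule.Away r M :=
    (IsLocalizedModule.isBaseChange (.powers r) (Localization.Away r)
      (LocalizedModule.mkLinearMap (.powers r) M)).equiv
  haveI : Module.Free (Localization.Away r) (Localization.Away r ⊗[A] M) := Module.Free.of_equiv e1.symm
  haveI : Module.Free A' (A' ⊗[Localization.Away r] (Localization.Away r ⊗[A] M)) := inferInstance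
  exact Module.Free.of_equiv
    (TensorProduct.AlgebraTensorModule.cancelBaseChange A (Localization.Away r) A' A' M)

theorem free_of_isPushout {A B A' B' : Type u} [CommRing A] [CommRing B] [CommRing A'] [CommRing B']
    [Algebra A B] [Algebra A A'] [Algebra A' B'] [Algebra B B'] [Algebra A B']
    [IsScalarTower A B B'] [IsScalarTower A A' B']
    (hpo : IsPushout (CommRingCat.ofHom (algebraMap A B)) (CommRingCat.ofHom (algebraMap A A'))
      (CommRingCat.ofHom (algebraMap B B')) (CommRingCat.ofHom (algebraMap A' B')))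
    (r : A) (hr : IsUnit (algebraMap A A' r))
    [Module.Free (Localization.Away r) (LocalizedModule.Away r B)] : Module.Free A' B' := by
  have h1 : Algebra.IsPushout A B A' B' := CommRingCat.isPushout_iff_isPushout.mp hpo
  have h2 : Algebra.IsPushout A A' B B' := h1.symm
  haveI := free_of_away B r A' hr
  exact Module.Free.of_equiv h2.out.equiv

end Alg

section Sch

variable {X X' : Scheme.{u}} (f : X' ⟶ X)

abbrev K := Scheme.fppfPrecoverage.{u}

theorem hom_ext_of_normPt (N N' : CGrpSh3.pushGm K f ⟶ CGrpSh2.Gm K X)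
    (h : ∀ (T : Over X) (t' : (Over.pullback f).obj T ⟶ Red.Gm X'),
      CGrpSh3.normPt K f N T t' = CGrpSh3.normPt K f N' T t') : N = N' := by
  refine Sheaf.hom_ext (NatTrans.ext (funext fun T => AddCommGrpCat.ext fun x => ?_))
  apply ULift.ext
  have := h T.unop x.down.toMul
  rw [CGrpSh3.normPt_def, CGrpSh3.normPt_def] at this
  exact this

theorem normPt_natural (N : CGrpSh3.pushGm K f ⟶ CGrpSh2.Gm K X) {T₁ T : Over X} (r : T₁ ⟶ T)
    (t' : (Over.pullback f).obj T ⟶ Red.Gm X') :
    r ≫ CGrpSh3.normPt K f N T t' = CGrpSh3.normPt K f N T₁ ((Over.pullback f).map r ≫ t') := by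
  have := congrArg (fun φ => ((ConcreteCategory.hom φ) (ULift.up (Additive.ofMul t'))).down.toMul)
    (N.hom.naturality r.op)
  rw [CGrpSh3.normPt_def, CGrpSh3.normPt_def]
  exact this.symm

theorem over_hom_ext_of_forall {T G : Over X} (s₁ s₂ : T ⟶ G)
    (h : ∀ x : T.left, ∃ U : T.left.Opens, x ∈ U ∧
      (Over.homMk U.ι rfl : Over.mk (U.ι ≫ T.hom) ⟶ T) ≫ s₁ = Over.homMk U.ι rfl ≫ s₂) : s₁ = s₂ := by
  apply Over.OverMorphism.ext
  apply Scheme.hom_ext_of_forall
  intro x
  obtain ⟨U, hxU, hU⟩ := h x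
  exact ⟨U, hxU, congrArg CommaMorphism.left hU⟩

/-- the property -/
def P (N N' : CGrpSh3.pushGm K f ⟶ CGrpSh2.Gm K X) (T : Over X) : Prop :=
  ∀ t' : (Over.pullback f).obj T ⟶ Red.Gm X',
    CGrpSh3.normPt K f N T t' = CGrpSh3.normPt K f N' T t'

theorem P_of_local (N N' : CGrpSh3.pushGm K f ⟶ CGrpSh2.Gm K X) (T : Over X)
    (h : ∀ x : T.left, ∃ U : T.left.Opens, x ∈ U ∧ P f N N' (Over.mk (U.ι ≫ T.hom))) : P f N N' T := by
  intro t'
  apply over_hom_ext_of_forall
  intro x
  obtain ⟨U, hxU, hU⟩ := h x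
  refine ⟨U, hxU, ?_⟩
  rw [normPt_natural, normPt_natural, hU]

end Sch

section Sch2

theorem isUnit_ι_appTop_basicOpen {Y : Scheme.{u}} (r : Γ(Y, ⊤)) :
    IsUnit ((Y.basicOpen r).ι.appTop.hom r) := by
  have h1 : (Y.basicOpen r).ι ⁻¹ᵁ (Y.basicOpen r) = ⊤ := Scheme.Opens.ι_preimage_self _
  rw [Scheme.preimage_basicOpen_top] at h1
  refine (Y.basicOpen r).toScheme.toRingedSpace.isUnit_of_isUnit_germ ⊤ _ (fun x hx => ?_)
  refine (Scheme.mem_basicOpen_top (X := (Y.basicOpen r).toScheme) _ x).mp ?_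
  rw [h1]; trivial

theorem mem_basicOpen_of_notMem {Y : Scheme.{u}} (x : Y) (r : Γ(Y, ⊤))
    (hr : r ∈ (Ideal.comap (Y.presheaf.germ ⊤ x trivial).hom
      (IsLocalRing.maximalIdeal (Y.presheaf.stalk x))).primeCompl) : x ∈ Y.basicOpen r := by
  rw [Scheme.mem_basicOpen_top (X := Y)]
  have : ¬ (Y.presheaf.germ ⊤ x trivial).hom r ∈ IsLocalRing.maximalIdeal (Y.presheaf.stalk x) := hr
  exact (IsLocalRing.notMem_maximalIdeal.mp this)

end Sch2

section Sch3

theorem exists_basicOpen_free {Y X X' : Scheme.{u}} (q : Y ⟶ X) (f : X' ⟶ X) [IsFinite f] [Flat f]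
    [LocallyOfFinitePresentation f] [IsAffine Y] (x : Y) :
    ∃ U : Y.Opens, x ∈ U ∧ IsAffineOpen U ∧
      (letI := (pullback.fst (U.ι ≫ q) f).appTop.hom.toAlgebra
      Module.Free Γ(U, ⊤) Γ(pullback (U.ι ≫ q) f, ⊤)) := by
  let g := pullback.fst q f
  haveI : IsAffine (pullback q f) := isAffine_of_isAffineHom g
  have hfin : g.appTop.hom.Finite := g.finite_appTop
  have hflat : g.appTop.hom.Flat := g.flat_appTop
  have hfp : g.appTop.hom.FinitePresentation :=
    (HasRingHomProperty.iff_of_isAffine (P := @LocallyOfFinitePresentation)).mp inferInstance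
  algebraize [g.appTop.hom]
  haveI : Module.FinitePresentation Γ(Y, ⊤) Γ(pullback q f, ⊤) :=
    Module.FinitePresentation.of_finite_of_finitePresentation _ _
  let p : Ideal Γ(Y, ⊤) := Ideal.comap (Y.presheaf.germ ⊤ x trivial).hom
    (IsLocalRing.maximalIdeal (Y.presheaf.stalk x))
  haveI : p.IsPrime := inferInstance
  obtain ⟨r, hr, hfree⟩ := exists_away_free Γ(pullback q f, ⊤) p
  refine ⟨Y.basicOpen r, mem_basicOpen_of_notMem x r hr, (isAffineOpen_top Y).basicOpen r, ?_⟩
  haveI : IsAffine (Y.basicOpen r).toScheme := (isAffineOpen_top Y).basicOpen r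
  let h : pullback ((Y.basicOpen r).ι ≫ q) f ⟶ pullback q f :=
    pullback.lift (pullback.fst _ _ ≫ (Y.basicOpen r).ι) (pullback.snd _ _)
      (by rw [Category.assoc, pullback.condition])
  have sq : IsPullback h (pullback.fst ((Y.basicOpen r).ι ≫ q) f) g (Y.basicOpen r).ι := by
    refine IsPullback.of_right ?_ (pullback.lift_fst _ _ _) (IsPullback.of_hasPullback q f).flip
    have : h ≫ pullback.snd q f = pullback.snd ((Y.basicOpen r).ι ≫ q) f := pullback.lift_snd _ _ _
    rw [this]
    exact (IsPullback.of_hasPullback ((Y.basicOpen r).ι ≫ q) f).flip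
  have po := isPushout_appTop_of_isPullback sq
  letI a1 : Algebra Γ(Y, ⊤) Γ((Y.basicOpen r).toScheme, ⊤) := (Y.basicOpen r).ι.appTop.hom.toAlgebra
  letI a2 : Algebra Γ((Y.basicOpen r).toScheme, ⊤) Γ(pullback ((Y.basicOpen r).ι ≫ q) f, ⊤) :=
    (pullback.fst ((Y.basicOpen r).ι ≫ q) f).appTop.hom.toAlgebra
  letI a3 : Algebra Γ(pullback q f, ⊤) Γ(pullback ((Y.basicOpen r).ι ≫ q) f, ⊤) := h.appTop.hom.toAlgebra
  letI a4 : Algebra Γ(Y, ⊤) Γ(pullback ((Y.basicOpen r).ι ≫ q) f, ⊤) :=
    ((Y.basicOpen r).ι.appTop ≫ (pullback.fst ((Y.basicOpen r).ι ≫ q) f).appTop).hom.toAlgebra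
  haveI : IsScalarTower Γ(Y, ⊤) Γ((Y.basicOpen r).toScheme, ⊤) Γ(pullback ((Y.basicOpen r).ι ≫ q) f, ⊤) :=
    IsScalarTower.of_algebraMap_eq' rfl
  haveI : IsScalarTower Γ(Y, ⊤) Γ(pullback q f, ⊤) Γ(pullback ((Y.basicOpen r).ι ≫ q) f, ⊤) :=
    IsScalarTower.of_algebraMap_eq' (congrArg CommRingCat.Hom.hom po.w).symm
  refine free_of_isPushout (A := ↑Γ(Y, ⊤)) (B := ↑Γ(pullback q f, ⊤))
    (A' := ↑Γ((Y.basicOpen r).toScheme, ⊤)) (B' := ↑Γ(pullback ((Y.basicOpen r).ι ≫ q) f, ⊤)) ?_ r
    (isUnit_ι_appTop_basicOpen r)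
  exact po

end Sch3

section Main

theorem main (X X' : Scheme.{u}) (f : X' ⟶ X) [IsFinite f] [Flat f] [AlgebraicGeometry.IsNoetherian X]
    (N N' : CGrpSh3.pushGm K f ⟶ CGrpSh2.Gm K X) (hN : CGrpSh3.IsNormMap K f N)
    (hN' : CGrpSh3.IsNormMap K f N') : N = N' := by
  haveI : LocallyOfFinitePresentation f :=
    LocallyOfFinitePresentation.iff_locallyOfFiniteType.mpr inferInstance
  apply hom_ext_of_normPt
  intro T
  have hfree : ∀ (T : Over X) [IsAffine T.left],
      (letI := (pullback.fst T.hom f).appTop.hom.toAlgebra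
       Module.Free Γ(T.left, ⊤) Γ(pullback T.hom f, ⊤)) → P f N N' T := by
    intro T _ hfr t'
    letI : Algebra Γ(T.left, ⊤) Γ(((Over.pullback f).obj T).left, ⊤) :=
      (pullback.fst T.hom f).appTop.hom.toAlgebra
    haveI : Module.Finite Γ(T.left, ⊤) Γ(((Over.pullback f).obj T).left, ⊤) :=
      (pullback.fst T.hom f).finite_appTop
    haveI : Module.Free Γ(T.left, ⊤) Γ(((Over.pullback f).obj T).left, ⊤) := hfr
    have h1 := hN T (fun a => rfl) t'
    have h2 := hN' T (fun a => rfl) t'
    exact GmPts.gmFn_injective (h1.trans h2.symm)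
  have haff : ∀ (T : Over X) [IsAffine T.left], P f N N' T := by
    intro T _
    apply P_of_local
    intro x
    obtain ⟨U, hxU, hU, hfr⟩ := exists_basicOpen_free T.hom f x
    refine ⟨U, hxU, ?_⟩
    haveI : IsAffine (Over.mk (U.ι ≫ T.hom)).left := hU
    exact hfree (Over.mk (U.ι ≫ T.hom)) hfr
  apply P_of_local
  intro x
  obtain ⟨U, hU, hxU, -⟩ := AlgebraicGeometry.exists_isAffineOpen_mem_and_subset (x := x) (U := ⊤) trivial
  refine ⟨U, hxU, ?_⟩
  haveI : IsAffine (Over.mk (U.ι ≫ T.hom)).left := hU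
  exact haff (Over.mk (U.ι ≫ T.hom))

end Main

end Aux

open CategoryTheory AlgebraicGeometry in
/-- Let f : X' ⟶ X be a finite flat morphism of Noetherian schemes (so finite locally free). A morphism
of abelian sheaves N : f_* 𝔾_{m,X'} ⟶ 𝔾_{m,X} on the big fppf site of X is called a norm map of f
when, on every affine test scheme T over X for which the functions of T ×_X X' form a finite free
algebra over those of T, it sends an invertible function on T ×_X X' to the determinant of
multiplication by it. Two norm maps of f are equal: a norm map is determined by its affine-local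
description by determinants. -/
theorem result (X X' : Scheme.{u}) (f : X' ⟶ X) [IsFinite f] [Flat f]
    [AlgebraicGeometry.IsNoetherian X]
    (N N' : CGrpSh3.pushGm Scheme.fppfPrecoverage f ⟶ CGrpSh2.Gm Scheme.fppfPrecoverage X)
    (hN : CGrpSh3.IsNormMap Scheme.fppfPrecoverage f N) (hN' : CGrpSh3.IsNormMap Scheme.fppfPrecoverage f N') :
    N = N' := by
  exact Aux.main X X' f N N' hN hN'

end Groth.Agent.S15383
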