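import Groth.Statements.S15384
import Mathlib
import Groth.Statements.S15384
import Groth.Prelude.Def_GmPts
import Mathlib.RingTheory.Finiteness.ModuleFinitePresentation
import Mathlib.AlgebraicGeometry.Morphisms.FlatRank
-- import your own Groth.Agent.* helpers here

set_option autoImplicit false
universe u
open GmDual

namespace Groth.Agent.S15384

open CategoryTheory CategoryTheory.Limits AlgebraicGeometry Opposite TensorProduct
open MonoidalCategory CartesianMonoidalCategory MonObj
namespace Aux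


set_option linter.style.haveILetI false

section Alg

theorem exists_away_free {A : Type u} [CommRing A] (M : Type u) [AddCommGroup M] [Module A M]
    [Module.Finite A M] [Module.Flat A M] [Module.FinitePresentation A M] (p : Ideal A) [p.IsPrime] :
    ∃ r, r ∈ p.primeCompl ∧ Module.Free (Localization.Away r) (LocalizedModule.Away r M) := by
  have : Module.Free (Localization.AtPrime p) (LocalizedModule p.primeCompl M) :=
    Module.free_of_flat_of_isLocalRing
  obtain ⟨r, hr, hr', _⟩ := Module.FinitePresentation.exists_free_localizedModule_powers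
    p.primeCompl (LocalizedModule.mkLinearMap p.primeCompl M) (Localization.AtPrime p)
  exact ⟨r, hr, hr'⟩

theorem free_of_away {A : Type u} [CommRing A] (M : Type u) [AddCommGroup M] [Module A M] (r : A)
    [Module.Free (Localization.Away r) (LocalizedModule.Away r M)]
    (A' : Type u) [CommRing A'] [Algebra A A'] (hr : IsUnit (algebraMap A A' r)) :
    Module.Free A' (A' ⊗[A] M) := by
  letI : Algebra (Localization.Away r) A' := (IsLocalization.Away.lift (S := Localization.Away r) r hr).toAlgebra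
  haveI : IsScalarTower A (Localization.Away r) A' :=
    IsScalarTower.of_algebraMap_eq' (IsLocalization.Away.lift_comp (S := Localization.Away r) r hr).symm
  let e1 : Localization.Away r ⊗[A] M ≃ₗ[Localization.Away r] LocalizedModule.Away r M :=
    (IsLocalizedModule.isBaseChange (.powers r) (Localization.Away r)
      (LocalizedModule.mkLinearMap (.powers r) M)).equiv
  haveI : Module.Free (Localization.Away r) (Localization.Away r ⊗[A] M) := Module.Free.of_equiv e1.symm
  haveI : Module.Free A' (A' ⊗[Localization.Away r] (Localization.Away r ⊗[A] M)) := inferInstance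
  exact Module.Free.of_equiv
    (TensorProduct.AlgebraTensorModule.cancelBaseChange A (Localization.Away r) A' A' M)

theorem free_of_isPushout {A B A' B' : Type u} [CommRing A] [CommRing B] [CommRing A'] [CommRing B']
    [Algebra A B] [Algebra A A'] [Algebra A' B'] [Algebra B B'] [Algebra A B']
    [IsScalarTower A B B'] [IsScalarTower A A' B']
    (hpo : IsPushout (CommRingCat.ofHom (algebraMap A B)) (CommRingCat.ofHom (algebraMap A A'))
      (CommRingCat.ofHom (algebraMap B B')) (CommRingCat.ofHom (algebraMap A' B')))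
    (r : A) (hr : IsUnit (algebraMap A A' r))
    [Module.Free (Localization.Away r) (LocalizedModule.Away r B)] : Module.Free A' B' := by
  have h1 : Algebra.IsPushout A B A' B' := CommRingCat.isPushout_iff_isPushout.mp hpo
  have h2 : Algebra.IsPushout A A' B B' := h1.symm
  haveI := free_of_away B r A' hr
  exact Module.Free.of_equiv h2.out.equiv

end Alg

section Sch2

theorem isUnit_ι_appTop_basicOpen {Y : Scheme.{u}} (r : Γ(Y, ⊤)) :
    IsUnit ((Y.basicOpen r).ι.appTop.hom r) := by
  have h1 : (Y.basicOpen r).ι ⁻¹ᵁ (Y.basicOpen r) = ⊤ := Scheme.Opens.ι_preimage_self _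
  rw [Scheme.preimage_basicOpen_top] at h1
  refine (Y.basicOpen r).toScheme.toRingedSpace.isUnit_of_isUnit_germ ⊤ _ (fun x hx => ?_)
  refine (Scheme.mem_basicOpen_top (X := (Y.basicOpen r).toScheme) _ x).mp ?_
  rw [h1]; trivial

theorem mem_basicOpen_of_notMem {Y : Scheme.{u}} (x : Y) (r : Γ(Y, ⊤))
    (hr : r ∈ (Ideal.comap (Y.presheaf.germ ⊤ x trivial).hom
      (IsLocalRing.maximalIdeal (Y.presheaf.stalk x))).primeCompl) : x ∈ Y.basicOpen r := by
  rw [Scheme.mem_basicOpen_top (X := Y)]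
  have : ¬ (Y.presheaf.germ ⊤ x trivial).hom r ∈ IsLocalRing.maximalIdeal (Y.presheaf.stalk x) := hr
  exact (IsLocalRing.notMem_maximalIdeal.mp this)

end Sch2

section Sch3

theorem exists_basicOpen_free {Y X X' : Scheme.{u}} (q : Y ⟶ X) (f : X' ⟶ X) [IsFinite f] [Flat f]
    [LocallyOfFinitePresentation f] [IsAffine Y] (x : Y) :
    ∃ U : Y.Opens, x ∈ U ∧ IsAffineOpen U ∧
      (letI := (pullback.fst (U.ι ≫ q) f).appTop.hom.toAlgebra
      Module.Free Γ(U, ⊤) Γ(pullback (U.ι ≫ q) f, ⊤)) := by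
  let g := pullback.fst q f
  haveI : IsAffine (pullback q f) := isAffine_of_isAffineHom g
  have hfin : g.appTop.hom.Finite := g.finite_appTop
  have hflat : g.appTop.hom.Flat := g.flat_appTop
  have hfp : g.appTop.hom.FinitePresentation :=
    (HasRingHomProperty.iff_of_isAffine (P := @LocallyOfFinitePresentation)).mp inferInstance
  algebraize [g.appTop.hom]
  haveI : Module.FinitePresentation Γ(Y, ⊤) Γ(pullback q f, ⊤) :=
    Module.FinitePresentation.of_finite_of_finitePresentation _ _
  let p : Ideal Γ(Y, ⊤) := Ideal.comap (Y.presheaf.germ ⊤ x trivial).hom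
    (IsLocalRing.maximalIdeal (Y.presheaf.stalk x))
  haveI : p.IsPrime := inferInstance
  obtain ⟨r, hr, hfree⟩ := exists_away_free Γ(pullback q f, ⊤) p
  refine ⟨Y.basicOpen r, mem_basicOpen_of_notMem x r hr, (isAffineOpen_top Y).basicOpen r, ?_⟩
  haveI : IsAffine (Y.basicOpen r).toScheme := (isAffineOpen_top Y).basicOpen r
  let h : pullback ((Y.basicOpen r).ι ≫ q) f ⟶ pullback q f :=
    pullback.lift (pullback.fst _ _ ≫ (Y.basicOpen r).ι) (pullback.snd _ _)
      (by rw [Category.assoc, pullback.condition])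
  have sq : IsPullback h (pullback.fst ((Y.basicOpen r).ι ≫ q) f) g (Y.basicOpen r).ι := by
    refine IsPullback.of_right ?_ (pullback.lift_fst _ _ _) (IsPullback.of_hasPullback q f).flip
    have : h ≫ pullback.snd q f = pullback.snd ((Y.basicOpen r).ι ≫ q) f := pullback.lift_snd _ _ _
    rw [this]
    exact (IsPullback.of_hasPullback ((Y.basicOpen r).ι ≫ q) f).flip
  have po := isPushout_appTop_of_isPullback sq
  letI a1 : Algebra Γ(Y, ⊤) Γ((Y.basicOpen r).toScheme, ⊤) := (Y.basicOpen r).ι.appTop.hom.toAlgebra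
  letI a2 : Algebra Γ((Y.basicOpen r).toScheme, ⊤) Γ(pullback ((Y.basicOpen r).ι ≫ q) f, ⊤) :=
    (pullback.fst ((Y.basicOpen r).ι ≫ q) f).appTop.hom.toAlgebra
  letI a3 : Algebra Γ(pullback q f, ⊤) Γ(pullback ((Y.basicOpen r).ι ≫ q) f, ⊤) := h.appTop.hom.toAlgebra
  letI a4 : Algebra Γ(Y, ⊤) Γ(pullback ((Y.basicOpen r).ι ≫ q) f, ⊤) :=
    ((Y.basicOpen r).ι.appTop ≫ (pullback.fst ((Y.basicOpen r).ι ≫ q) f).appTop).hom.toAlgebra
  haveI : IsScalarTower Γ(Y, ⊤) Γ((Y.basicOpen r).toScheme, ⊤) Γ(pullback ((Y.basicOpen r).ι ≫ q) f, ⊤) :=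
    IsScalarTower.of_algebraMap_eq' rfl
  haveI : IsScalarTower Γ(Y, ⊤) Γ(pullback q f, ⊤) Γ(pullback ((Y.basicOpen r).ι ≫ q) f, ⊤) :=
    IsScalarTower.of_algebraMap_eq' (congrArg CommRingCat.Hom.hom po.w).symm
  refine free_of_isPushout (A := ↑Γ(Y, ⊤)) (B := ↑Γ(pullback q f, ⊤))
    (A' := ↑Γ((Y.basicOpen r).toScheme, ⊤)) (B' := ↑Γ(pullback ((Y.basicOpen r).ι ≫ q) f, ⊤)) ?_ r
    (isUnit_ι_appTop_basicOpen r)
  exact po

end Sch3

section Alg84

theorem norm_tmul_one84 {A A₁ B : Type u} [CommRing A] [CommRing A₁] [CommRing B]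
    [Algebra A A₁] [Algebra A B] [Module.Free A B] [Module.Finite A B] (b : B) :
    Algebra.norm A₁ ((1 : A₁) ⊗ₜ[A] b) = algebraMap A A₁ (Algebra.norm A b) := by
  rw [Algebra.norm_apply, Algebra.norm_apply, ← LinearMap.det_baseChange]
  congr 1
  ext x
  simp

theorem norm_of_isPushout84 {A B A₁ B₁ : Type u} [CommRing A] [CommRing B] [CommRing A₁] [CommRing B₁]
    [Algebra A B] [Algebra A A₁] [Algebra A₁ B₁] [Algebra B B₁] [Algebra A B₁]
    [IsScalarTower A B B₁] [IsScalarTower A A₁ B₁] [Module.Free A B] [Module.Finite A B]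
    (hpo : IsPushout (CommRingCat.ofHom (algebraMap A B)) (CommRingCat.ofHom (algebraMap A A₁))
      (CommRingCat.ofHom (algebraMap B B₁)) (CommRingCat.ofHom (algebraMap A₁ B₁))) (b : B) :
    Algebra.norm A₁ (algebraMap B B₁ b) = algebraMap A A₁ (Algebra.norm A b) := by
  have h1 : Algebra.IsPushout A B A₁ B₁ := CommRingCat.isPushout_iff_isPushout.mp hpo
  haveI h2 : Algebra.IsPushout A A₁ B B₁ := h1.symm
  have h3 : algebraMap B B₁ b = (Algebra.IsPushout.equiv A A₁ B B₁) ((1 : A₁) ⊗ₜ[A] b) := by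
    rw [Algebra.IsPushout.equiv_tmul, _root_.map_one, _root_.one_mul]
  rw [h3, Algebra.norm_eq_of_algEquiv, norm_tmul_one84]

end Alg84

section Sch84

abbrev K84 := Scheme.fppfPrecoverage.{u}

variable {X X' : Scheme.{u}} (f : X' ⟶ X)

/-- the norm on functions of `T ×_X X'` -/
noncomputable def normHom (T : Over X) : Γ(((Over.pullback f).obj T).left, ⊤) →* Γ(T.left, ⊤) :=
  letI : Algebra Γ(T.left, ⊤) Γ(((Over.pullback f).obj T).left, ⊤) :=
    (pullback.fst T.hom f).appTop.hom.toAlgebra
  Algebra.norm Γ(T.left, ⊤)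

/-- good objects: affine with free pullback algebra -/
def Good : ObjectProperty (Over X) := fun T =>
  IsAffine T.left ∧
    (letI : Algebra Γ(T.left, ⊤) Γ(((Over.pullback f).obj T).left, ⊤) :=
      (pullback.fst T.hom f).appTop.hom.toAlgebra
     Module.Free Γ(T.left, ⊤) Γ(((Over.pullback f).obj T).left, ⊤))

theorem norm_natural [IsFinite f] {T₁ T : Over X} [IsAffine T₁.left] [IsAffine T.left] (r : T₁ ⟶ T)
    (hfree : letI : Algebra Γ(T.left, ⊤) Γ(((Over.pullback f).obj T).left, ⊤) :=
      (pullback.fst T.hom f).appTop.hom.toAlgebra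
      Module.Free Γ(T.left, ⊤) Γ(((Over.pullback f).obj T).left, ⊤))
    (b : Γ(((Over.pullback f).obj T).left, ⊤)) :
    normHom f T₁ (((Over.pullback f).map r).left.appTop.hom b) = r.left.appTop.hom (normHom f T b) := by
  let g := pullback.fst T.hom f
  let g₁ := pullback.fst T₁.hom f
  let h : pullback T₁.hom f ⟶ pullback T.hom f := ((Over.pullback f).map r).left
  haveI : IsAffine (pullback T.hom f) := isAffine_of_isAffineHom g
  have h1 : h ≫ pullback.fst T.hom f = g₁ ≫ r.left := pullback.lift_fst _ _ _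
  have h2 : h ≫ pullback.snd T.hom f = pullback.snd T₁.hom f := pullback.lift_snd _ _ _
  have sq : IsPullback h g₁ g r.left := by
    refine IsPullback.of_right ?_ h1 (IsPullback.of_hasPullback T.hom f).flip
    rw [h2, Over.w r]
    exact (IsPullback.of_hasPullback T₁.hom f).flip
  have po := isPushout_appTop_of_isPullback sq
  letI a0 : Algebra Γ(T.left, ⊤) Γ(pullback T.hom f, ⊤) := g.appTop.hom.toAlgebra
  letI a1 : Algebra Γ(T.left, ⊤) Γ(T₁.left, ⊤) := r.left.appTop.hom.toAlgebra
  letI a2 : Algebra Γ(T₁.left, ⊤) Γ(pullback T₁.hom f, ⊤) := g₁.appTop.hom.toAlgebra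
  letI a3 : Algebra Γ(pullback T.hom f, ⊤) Γ(pullback T₁.hom f, ⊤) := h.appTop.hom.toAlgebra
  letI a4 : Algebra Γ(T.left, ⊤) Γ(pullback T₁.hom f, ⊤) :=
    (r.left.appTop ≫ g₁.appTop).hom.toAlgebra
  haveI : IsScalarTower Γ(T.left, ⊤) Γ(T₁.left, ⊤) Γ(pullback T₁.hom f, ⊤) :=
    IsScalarTower.of_algebraMap_eq' rfl
  haveI : IsScalarTower Γ(T.left, ⊤) Γ(pullback T.hom f, ⊤) Γ(pullback T₁.hom f, ⊤) :=
    IsScalarTower.of_algebraMap_eq' (congrArg CommRingCat.Hom.hom po.w).symm
  haveI : Module.Finite Γ(T.left, ⊤) Γ(pullback T.hom f, ⊤) := g.finite_appTop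
  haveI : Module.Free Γ(T.left, ⊤) Γ(pullback T.hom f, ⊤) := hfree
  refine norm_of_isPushout84 (A := ↑Γ(T.left, ⊤)) (B := ↑Γ(pullback T.hom f, ⊤))
    (A₁ := ↑Γ(T₁.left, ⊤)) (B₁ := ↑Γ(pullback T₁.hom f, ⊤)) ?_ b
  exact po

/-- the norm on points -/
noncomputable def m (T : Over X) : ((Over.pullback f).obj T ⟶ Red.Gm X') →* (T ⟶ Red.Gm X) :=
  (GmPts.equiv T).symm.toMonoidHom.comp
    ((Units.map (normHom f T)).comp (GmPts.equiv ((Over.pullback f).obj T)).toMonoidHom)

theorem m_natural [IsFinite f] {T₁ T : Over X} [IsAffine T₁.left] [IsAffine T.left] (r : T₁ ⟶ T)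
    (hfree : letI : Algebra Γ(T.left, ⊤) Γ(((Over.pullback f).obj T).left, ⊤) :=
      (pullback.fst T.hom f).appTop.hom.toAlgebra
      Module.Free Γ(T.left, ⊤) Γ(((Over.pullback f).obj T).left, ⊤))
    (t' : (Over.pullback f).obj T ⟶ Red.Gm X') :
    m f T₁ ((Over.pullback f).map r ≫ t') = r ≫ m f T t' := by
  apply (GmPts.equiv T₁).injective
  change GmPts.unitOfPt (GmPts.ptOfUnit (Units.map (normHom f T₁)
      (GmPts.unitOfPt ((Over.pullback f).map r ≫ t')))) =
    GmPts.unitOfPt (r ≫ GmPts.ptOfUnit (Units.map (normHom f T) (GmPts.unitOfPt t')))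
  rw [GmPts.unitOfPt_ptOfUnit, GmPts.unitOfPt_comp, GmPts.unitOfPt_comp, GmPts.unitOfPt_ptOfUnit]
  ext
  exact norm_natural f r hfree _

/-- the additive version on lifted sections -/
noncomputable def αHom (T : Over X) :
    ULift.{u + 1} (Additive ((Over.pullback f).obj T ⟶ Red.Gm X')) →+
      ULift.{u + 1} (Additive (T ⟶ Red.Gm X)) where
  toFun x := ULift.up (Additive.ofMul (m f T x.down.toMul))
  map_zero' := by
    apply ULift.ext
    change Additive.ofMul (m f T 1) = 0
    rw [map_one]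
    rfl
  map_add' x y := by
    apply ULift.ext
    change Additive.ofMul (m f T (x.down.toMul * y.down.toMul)) = _
    rw [map_mul]
    rfl

/-- the natural transformation on good objects -/
noncomputable def α [IsFinite f] :
    (Good f).ι.op ⋙ (CGrpSh3.pushGm K84 f).obj ⟶ (Good f).ι.op ⋙ (CGrpSh2.Gm K84 X).obj where
  app T := AddCommGrpCat.ofHom (αHom f ((Good f).ι.obj T.unop))
  naturality T T₁ r := by
    haveI : IsAffine ((Good f).ι.obj T.unop).left := T.unop.property.1
    haveI : IsAffine ((Good f).ι.obj T₁.unop).left := T₁.unop.property.1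
    refine AddCommGrpCat.ext fun x => ?_
    exact congrArg (fun z => ULift.up (Additive.ofMul z))
      (m_natural f ((Good f).ι.map r.unop) T.unop.property.2 x.down.toMul)

theorem ofArrows_mem_J_of_open84 (V : Over X) {I : Type*} (W : I → Over X) (g : ∀ i, W i ⟶ V)
    (hopen : ∀ i, IsOpenImmersion (g i).left)
    (hsurj : ∀ v : V.left, ∃ i, v ∈ Set.range (g i).left) :
    Sieve.ofArrows W g ∈ QuotSh.J K84 X V := by
  change _ ∈ (K84.toGrothendieck.over X) _
  rw [GrothendieckTopology.mem_over_iff, Sieve.overEquiv_ofArrows]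
  apply Precoverage.generate_mem_toGrothendieck
  apply Scheme.zariskiPrecoverage_le_fppfPrecoverage
  rw [Scheme.ofArrows_mem_precoverage_iff]
  exact ⟨hsurj, hopen⟩

theorem exists_good_nbhd [IsFinite f] [Flat f] [LocallyOfFinitePresentation f] (T : Over X)
    (x : T.left) :
    ∃ (W : Over X) (g : W ⟶ T), IsOpenImmersion g.left ∧ x ∈ Set.range g.left ∧ Good f W := by
  obtain ⟨U, hU, hxU, -⟩ := AlgebraicGeometry.exists_isAffineOpen_mem_and_subset (x := x) (U := ⊤) trivial
  haveI : IsAffine U.toScheme := hU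
  obtain ⟨V, hxV, hV, hfree⟩ := exists_basicOpen_free (U.ι ≫ T.hom) f (⟨x, hxU⟩ : U.toScheme)
  refine ⟨Over.mk (V.ι ≫ (U.ι ≫ T.hom)), Over.homMk (V.ι ≫ U.ι) (by simp), ?_, ?_, ⟨hV, hfree⟩⟩
  · change IsOpenImmersion (V.ι ≫ U.ι)
    infer_instance
  · exact ⟨⟨⟨x, hxU⟩, hxV⟩, rfl⟩

instance isCoverDense84 [IsFinite f] [Flat f] [LocallyOfFinitePresentation f] :
    (Good f).ι.IsCoverDense (QuotSh.J K84 X) where
  is_cover T := by
    choose W g hopen hmem hgood using exists_good_nbhd f T
    refine (QuotSh.J K84 X).superset_covering ?_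
      (ofArrows_mem_J_of_open84 T W g hopen (fun v => ⟨v, hmem v⟩))
    change Sieve.generate (Presieve.ofArrows W g) ≤ _
    refine (Sieve.generate_le_iff _ _).mpr ?_
    rintro Z _ ⟨x⟩
    exact ⟨⟨⟨W x, hgood x⟩, 𝟙 _, g x, Category.id_comp _⟩⟩

/-- the norm map -/
noncomputable def Nmap [IsFinite f] [Flat f] [LocallyOfFinitePresentation f] :
    CGrpSh3.pushGm K84 f ⟶ CGrpSh2.Gm K84 X :=
  ⟨Functor.IsCoverDense.sheafHom (G := (Good f).ι) (ℱ' := CGrpSh2.Gm K84 X) (α f)⟩

theorem isNormMap_Nmap [IsFinite f] [Flat f] [LocallyOfFinitePresentation f] :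
    CGrpSh3.IsNormMap K84 f (Nmap f) := by
  intro T hAff alg hfin hfree hcompat t'
  have halg : alg = (pullback.fst T.hom f).appTop.hom.toAlgebra :=
    Algebra.algebra_ext _ _ (fun a => hcompat a)
  subst halg
  have hgood : Good f T := ⟨hAff, hfree⟩
  have h2 : (Nmap f).hom.app (op T) = AddCommGrpCat.ofHom (αHom f T) :=
    NatTrans.congr_app (Functor.IsCoverDense.sheafHom_restrict_eq (G := (Good f).ι)
      (ℱ' := CGrpSh2.Gm K84 X) (α f)) (op ⟨T, hgood⟩)
  have h4 : (ConcreteCategory.hom ((Nmap f).hom.app (op T))) (ULift.up (Additive.ofMul t')) =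
      ULift.up (Additive.ofMul (m f T t')) :=
    congrArg (fun φ => (ConcreteCategory.hom φ) (ULift.up (Additive.ofMul t'))) h2
  have h3 : CGrpSh3.normPt K84 f (Nmap f) T t' = m f T t' := by
    rw [CGrpSh3.normPt_def]
    exact congrArg (fun z => z.down.toMul) h4
  rw [h3]
  exact GmPts.gmFn_ptOfUnit _

end Sch84

theorem main84 (X X' : Scheme.{u}) (f : X' ⟶ X) [IsFinite f] [Flat f]
    [AlgebraicGeometry.IsNoetherian X] :
    ∃ N : CGrpSh3.pushGm Scheme.fppfPrecoverage f ⟶ CGrpSh2.Gm Scheme.fppfPrecoverage X,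
      CGrpSh3.IsNormMap Scheme.fppfPrecoverage f N := by
  haveI : LocallyOfFinitePresentation f :=
    LocallyOfFinitePresentation.iff_locallyOfFiniteType.mpr inferInstance
  exact ⟨Nmap f, isNormMap_Nmap f⟩

end Aux

open CategoryTheory AlgebraicGeometry in
/-- Let f : X' ⟶ X be a finite flat morphism of Noetherian schemes (so finite locally free). There is a
morphism of abelian sheaves N : f_* 𝔾_{m,X'} ⟶ 𝔾_{m,X} on the big fppf site of X which is a norm map
of f: on every affine test scheme T over X for which the functions of T ×_X X' form a finite free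
algebra over those of T (structure map the pullback of functions along the projection), N sends an
invertible function on T ×_X X' to the determinant of multiplication by it. -/
theorem result (X X' : Scheme.{u}) (f : X' ⟶ X) [IsFinite f] [Flat f]
    [AlgebraicGeometry.IsNoetherian X] :
    ∃ N : CGrpSh3.pushGm Scheme.fppfPrecoverage f ⟶ CGrpSh2.Gm Scheme.fppfPrecoverage X,
      CGrpSh3.IsNormMap Scheme.fppfPrecoverage f N := by
  exact Aux.main84 X X' f

end Groth.Agent.S15384
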