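import Groth.Statements.S1539
import Mathlib
import Groth.Agent.S7591

set_option autoImplicit false
universe u
open CategoryTheory CategoryTheory.Limits AlgebraicGeometry
open Variety

namespace Groth.Agent.S1539

section
open CategoryTheory CategoryTheory.Limits AlgebraicGeometry
open Variety

open TensorProduct Groth.Agent.S7591

section Affine

variable {k : Type u} [Field k] (A : Type u) [CommRing A] [Algebra k A]

theorem exists_open_descent_aux (Ω : Type u) [Field Ω] [Algebra k Ω] [Algebra.IsAlgebraic k Ω]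
    (U : Set ↥(Groth.Agent.S2502.bc (Spec.map (CommRingCat.ofHom (algebraMap k A))) Ω))
    (hU : IsOpen U) (z : ↥(Groth.Agent.S2502.bc (Spec.map (CommRingCat.ofHom (algebraMap k A))) Ω))
    (hz : z ∈ U) :
    ∃ E₀ : IntermediateField k Ω, FiniteDimensional k E₀ ∧ ∀ E : IntermediateField k Ω, E₀ ≤ E →
      ∃ U' : Set ↥(Groth.Agent.S2502.bc (Spec.map (CommRingCat.ofHom (algebraMap k A))) E),
        IsOpen U' ∧ z ∈ ⇑(bcTrans (Spec.map (CommRingCat.ofHom (algebraMap k A))) E Ω) ⁻¹' U' ∧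
        ⇑(bcTrans (Spec.map (CommRingCat.ofHom (algebraMap k A))) E Ω) ⁻¹' U' ⊆ U := by
  have hU₁ : IsOpen (⇑(pullbackSpecIso k A Ω).inv ⁻¹' U) :=
    hU.preimage (pullbackSpecIso k A Ω).inv.continuous
  have hz₁ : (pullbackSpecIso k A Ω).hom z ∈ ⇑(pullbackSpecIso k A Ω).inv ⁻¹' U := by
    rw [Set.mem_preimage, ← Scheme.Hom.comp_apply, Iso.hom_inv_id]
    exact hz
  obtain ⟨_, ⟨a, rfl⟩, hza, haU⟩ :=
    (PrimeSpectrum.isTopologicalBasis_basic_opens (R := A ⊗[k] Ω)).exists_subset_of_mem_open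
      hz₁ hU₁
  obtain ⟨E₀, hE₀, ha₀⟩ := Groth.Agent.S4619.exists_finite_mem_range A a
  refine ⟨E₀, hE₀, fun E hE => ?_⟩
  obtain ⟨a', rfl⟩ := Groth.Agent.S4619.tmap_range_mono A hE ha₀
  have key : ∀ z' : ↥(Groth.Agent.S2502.bc (Spec.map (CommRingCat.ofHom (algebraMap k A))) Ω),
      (pullbackSpecIso k A E).hom
        ((bcTrans (Spec.map (CommRingCat.ofHom (algebraMap k A))) E Ω) z') ∈
        (show Set ↥(Spec (CommRingCat.of (A ⊗[k] ↥E))) from
          (↑(PrimeSpectrum.basicOpen a') : Set (PrimeSpectrum (A ⊗[k] ↥E)))) ↔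
      (pullbackSpecIso k A Ω).hom z' ∈
        (↑(PrimeSpectrum.basicOpen (Groth.Agent.S4619.tmap A E a')) :
          Set (PrimeSpectrum (A ⊗[k] Ω))) := by
    intro z'
    rw [← Scheme.Hom.comp_apply, bcTrans_affine, Scheme.Hom.comp_apply, Spec.map_apply]
    rfl
  refine ⟨⇑(pullbackSpecIso k A E).hom ⁻¹' (show Set ↥(Spec (CommRingCat.of (A ⊗[k] ↥E))) from
      (↑(PrimeSpectrum.basicOpen a') : Set (PrimeSpectrum (A ⊗[k] ↥E)))), ?_, ?_, ?_⟩
  · exact (PrimeSpectrum.basicOpen a').2.preimage (pullbackSpecIso k A E).hom.continuous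
  · rw [Set.mem_preimage, Set.mem_preimage, key]
    exact hza
  · intro z' hz'
    rw [Set.mem_preimage, Set.mem_preimage, key] at hz'
    have h3 : (pullbackSpecIso k A Ω).inv ((pullbackSpecIso k A Ω).hom z') ∈ U := haU hz'
    rw [← Scheme.Hom.comp_apply, Iso.hom_inv_id] at h3
    exact h3

theorem exists_open_descent {R : CommRingCat.{u}} (h0 : Spec R ⟶ Spec (CommRingCat.of k))
    (Ω : Type u) [Field Ω] [Algebra k Ω] [Algebra.IsAlgebraic k Ω]
    (U : Set ↥(Groth.Agent.S2502.bc h0 Ω)) (hU : IsOpen U) (z : ↥(Groth.Agent.S2502.bc h0 Ω))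
    (hz : z ∈ U) :
    ∃ E₀ : IntermediateField k Ω, FiniteDimensional k E₀ ∧ ∀ E : IntermediateField k Ω, E₀ ≤ E →
      ∃ U' : Set ↥(Groth.Agent.S2502.bc h0 E), IsOpen U' ∧ z ∈ ⇑(bcTrans h0 E Ω) ⁻¹' U' ∧
        ⇑(bcTrans h0 E Ω) ⁻¹' U' ⊆ U := by
  obtain ⟨ψ, rfl⟩ : ∃ ψ : CommRingCat.of k ⟶ R, h0 = Spec.map ψ :=
    ⟨Spec.preimage h0, (Spec.map_preimage h0).symm⟩
  letI : Algebra k R := ψ.hom.toAlgebra
  exact exists_open_descent_aux (k := k) R Ω U hU z hz

end Affine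

section Main

variable {k : Type u} [Field k]

theorem exists_open_descent_scheme {X : Scheme.{u}} (f : X ⟶ Spec (CommRingCat.of k))
    (Ω : Type u) [Field Ω] [Algebra k Ω] [Algebra.IsAlgebraic k Ω]
    (U : Set ↥(Groth.Agent.S2502.bc f Ω)) (hU : IsOpen U) (u : ↥(Groth.Agent.S2502.bc f Ω))
    (hu : u ∈ U) :
    ∃ E₀ : IntermediateField k Ω, FiniteDimensional k E₀ ∧ ∀ E : IntermediateField k Ω, E₀ ≤ E →
      ∃ U' : Set ↥(Groth.Agent.S2502.bc f E), IsOpen U' ∧ (bcTrans f E Ω) u ∈ U' ∧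
        ⇑(bcTrans f E Ω) ⁻¹' U' ⊆ U := by
  let x := Groth.Agent.S2502.bcπ f Ω u
  let i := X.affineOpenCover.idx x
  let j : Spec (X.affineOpenCover.X i) ⟶ X := X.affineOpenCover.f i
  haveI : IsOpenImmersion j := X.affineOpenCover.map_prop i
  obtain ⟨t, ht⟩ := X.affineOpenCover.covers x
  obtain ⟨w, hw, -⟩ := Groth.Agent.S2502.exists_preimage_of_isPullback
    (isPullback_bcMap j f Ω) u t ht.symm
  have hUW : IsOpen (⇑(bcMap j f Ω) ⁻¹' U) := hU.preimage (bcMap j f Ω).continuous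
  have hwU : w ∈ ⇑(bcMap j f Ω) ⁻¹' U := by
    show (bcMap j f Ω) w ∈ U
    rw [hw]; exact hu
  obtain ⟨E₀, hE₀, H⟩ := exists_open_descent (j ≫ f) Ω _ hUW w hwU
  refine ⟨E₀, hE₀, fun E hE => ?_⟩
  obtain ⟨U'W, hU'W, hwU', hsub⟩ := H E hE
  haveI : IsOpenImmersion (bcMap j f E) :=
    MorphismProperty.of_isPullback (P := @IsOpenImmersion) (isPullback_bcMap j f E).flip
      inferInstance
  refine ⟨⇑(bcMap j f E) '' U'W, (bcMap j f E).isOpenEmbedding.isOpenMap _ hU'W, ?_, ?_⟩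
  · refine ⟨(bcTrans (j ≫ f) E Ω) w, hwU', ?_⟩
    rw [← Scheme.Hom.comp_apply, ← (isPullback_bcMap_bcTrans j f E Ω).w, Scheme.Hom.comp_apply,
      hw]
  · rintro z ⟨w', hw', hzw'⟩
    obtain ⟨w₁, hw₁, hw₁'⟩ := Groth.Agent.S2502.exists_preimage_of_isPullback
      (isPullback_bcMap_bcTrans j f E Ω) z w' hzw'.symm
    have : w₁ ∈ ⇑(bcMap j f Ω) ⁻¹' U := by
      apply hsub
      rw [Set.mem_preimage, hw₁']
      exact hw'
    rw [Set.mem_preimage, hw₁] at this
    exact this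

theorem irreducibleSpace_of_finite_levels {X : Scheme.{u}} (f : X ⟶ Spec (CommRingCat.of k))
    (Ω : Type u) [Field Ω] [Algebra k Ω] [Algebra.IsAlgebraic k Ω]
    (h : ∀ E : IntermediateField k Ω, FiniteDimensional k E →
      IrreducibleSpace ↥(Groth.Agent.S2502.bc f E)) :
    IrreducibleSpace ↥(Groth.Agent.S2502.bc f Ω) := by
  obtain ⟨x⟩ : Nonempty X := by
    haveI := h ⊥ inferInstance
    obtain ⟨z⟩ := (inferInstance : Nonempty ↥(Groth.Agent.S2502.bc f (⊥ : IntermediateField k Ω)))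
    exact ⟨Groth.Agent.S2502.bcπ f _ z⟩
  have hne : Nonempty ↥(Groth.Agent.S2502.bc f Ω) := by
    obtain ⟨z, -⟩ := Groth.Agent.S2502.surjective_bcπ f Ω x
    exact ⟨z⟩
  refine { toNonempty := hne, isPreirreducible_univ := ?_ }
  rintro U V hU hV ⟨u, -, hu⟩ ⟨v, -, hv⟩
  obtain ⟨E₁, hE₁, H₁⟩ := exists_open_descent_scheme f Ω U hU u hu
  obtain ⟨E₂, hE₂, H₂⟩ := exists_open_descent_scheme f Ω V hV v hv
  obtain ⟨U', hU', huU', hsubU⟩ := H₁ (E₁ ⊔ E₂) le_sup_left
  obtain ⟨V', hV', hvV', hsubV⟩ := H₂ (E₁ ⊔ E₂) le_sup_right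
  haveI : FiniteDimensional k ↥(E₁ ⊔ E₂) := IntermediateField.finiteDimensional_sup E₁ E₂
  haveI := h (E₁ ⊔ E₂) inferInstance
  obtain ⟨t, -, htU, htV⟩ :=
    (PreirreducibleSpace.isPreirreducible_univ (X := ↥(Groth.Agent.S2502.bc f ↥(E₁ ⊔ E₂))))
      U' V' hU' hV' ⟨_, trivial, huU'⟩ ⟨_, trivial, hvV'⟩
  obtain ⟨z, rfl⟩ := surjective_bcTrans f ↥(E₁ ⊔ E₂) Ω t
  exact ⟨z, trivial, hsubU htU, hsubV htV⟩

theorem geomIrr_of_finite_separable {X : Scheme.{u}} (f : X ⟶ Spec (CommRingCat.of k))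
    (h : ∀ (k' : Type u) [Field k'] [Algebra k k'] [FiniteDimensional k k']
      [Algebra.IsSeparable k k'], IrreducibleSpace ↥(Groth.Agent.S2502.bc f k')) :
    GeometricallyIrreducible f := by
  letI : X.Over (Spec (CommRingCat.of k)) := ⟨f⟩
  haveI : IrreducibleSpace ↥(Curv2.bc k X (SeparableClosure k)) := by
    refine irreducibleSpace_of_finite_levels f (SeparableClosure k) (fun E hE => ?_)
    haveI : Algebra.IsSeparable k E :=
      Algebra.isSeparable_tower_bot_of_isSeparable k E (SeparableClosure k)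
    exact h E
  exact Groth.Agent.S1559.main_irr k X

theorem main (k : Type u) [Field k] (X : Scheme.{u}) [X.Over (Spec (CommRingCat.of k))]
    (h : ∀ (k' : Type u) [Field k'] [Algebra k k'] [FiniteDimensional k k'] [Algebra.IsSeparable k k'],
      IrreducibleSpace (Curv2.bc k X k')) :
    GeometricallyIrreducible (X ↘ (Spec (CommRingCat.of k))) :=
  geomIrr_of_finite_separable (X ↘ (Spec (CommRingCat.of k))) h

end Main


end


/-- If X_{k'} is irreducible for every finite separable field extension k' of k, then X is geometrically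
irreducible over k. -/
theorem result (k : Type u) [Field k] (X : Scheme.{u}) [X.Over (Spec (CommRingCat.of k))]
    (h : ∀ (k' : Type u) [Field k'] [Algebra k k'] [FiniteDimensional k k'] [Algebra.IsSeparable k k'],
      IrreducibleSpace (Curv2.bc k X k')) :
    GeometricallyIrreducible (X ↘ (Spec (CommRingCat.of k))) := by
  classical
  exact main k X h

end Groth.Agent.S1539
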