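import Groth.Statements.S15391
import Mathlib

set_option autoImplicit false
universe u
open TensorProduct
open TorFree

namespace Groth.Agent.S15391

/-- Let R be a reduced Noetherian commutative ring, M a finitely generated torsion-free R-module (no
non-zero element of M is annihilated by a non-zero-divisor of R), and t an element of M whose image
1 ⊗ t in the fibre κ(p) ⊗_R M vanishes for every prime ideal p of R, κ(p) being the residue field at
p. Then t = 0. This is the affine form of the claim that a global section of a coherent torsion-free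
module on a reduced Noetherian scheme which vanishes in every fibre is zero. -/
theorem result (R : Type u) [CommRing R] [IsReduced R] [IsNoetherianRing R]
    (M : Type u) [AddCommGroup M] [Module R M] [Module.Finite R M] [Module.IsTorsionFree R M]
    (t : M) (ht : ∀ p : PrimeSpectrum R, (1 : p.asIdeal.ResidueField) ⊗ₜ[R] t = (0 : p.asIdeal.ResidueField ⊗[R] M)) :
    t = 0 := by
  classical
  -- Step A
  have stepA : ∀ (p : Ideal R) [p.IsPrime], p ∈ minimalPrimes R → ∃ s : R, s ∉ p ∧ s • t = 0 := by
    intro p _ hp
    have hmax : IsLocalRing.maximalIdeal (Localization.AtPrime p) = ⊥ := by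
      have h1 := IsLocalization.AtPrime.radical_map_of_mem_minimalPrimes (Localization.AtPrime p)
        p ⊥ hp
      rw [Ideal.map_bot, Localization.AtPrime.map_eq_maximalIdeal] at h1
      rw [← h1]
      exact nilradical_eq_zero (Localization.AtPrime p)
    have hinj : Function.Injective (algebraMap (Localization.AtPrime p) p.ResidueField) := by
      rw [RingHom.injective_iff_ker_eq_bot, ← hmax]
      exact IsLocalRing.ker_residue
    have hsurj : Function.Surjective (algebraMap (Localization.AtPrime p) p.ResidueField) :=
      IsLocalRing.residue_surjective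
    let e : Localization.AtPrime p ≃ₗ[R] p.ResidueField :=
      LinearEquiv.ofBijective ((Algebra.linearMap (Localization.AtPrime p) p.ResidueField).restrictScalars R)
        ⟨hinj, hsurj⟩
    have h2 : (1 : Localization.AtPrime p) ⊗ₜ[R] t = 0 := by
      apply (LinearEquiv.rTensor M e).injective
      rw [map_zero]
      have : (LinearEquiv.rTensor M e) ((1 : Localization.AtPrime p) ⊗ₜ[R] t) = (e 1) ⊗ₜ[R] t := rfl
      rw [this]
      have he1 : e 1 = 1 := map_one (algebraMap (Localization.AtPrime p) p.ResidueField)
      rw [he1]
      exact ht ⟨p, inferInstance⟩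
    obtain ⟨⟨s, hs⟩, hst⟩ := (IsLocalizedModule.eq_zero_iff p.primeCompl
      (TensorProduct.mk R (Localization.AtPrime p) M 1)).mp h2
    exact ⟨s, hs, hst⟩
  -- Step B
  let a : Ideal R := LinearMap.ker (LinearMap.toSpanSingleton R M t)
  have hfin : (minimalPrimes R).Finite := minimalPrimes.finite_of_isNoetherianRing R
  have hnot : ¬ ((a : Set R) ⊆ ⋃ p ∈ (hfin.toFinset : Set (Ideal R)), (id p : Ideal R)) := by
    rw [Ideal.subset_union_prime (R := R) (f := id) ⊥ ⊥ (fun p hp _ _ => by
      have : p ∈ minimalPrimes R := hfin.mem_toFinset.mp hp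
      exact this.1.1)]
    rintro ⟨p, hp, hap⟩
    have hpm : p ∈ minimalPrimes R := hfin.mem_toFinset.mp hp
    haveI : p.IsPrime := hpm.1.1
    obtain ⟨s, hs, hst⟩ := stepA p hpm
    exact hs (hap (by simpa [a, LinearMap.toSpanSingleton_apply] using hst))
  rw [Set.not_subset] at hnot
  obtain ⟨r, hra, hr⟩ := hnot
  have hr' : ∀ p ∈ minimalPrimes R, r ∉ p := by
    intro p hp hrp
    apply hr
    simp only [Set.mem_iUnion]
    exact ⟨p, hfin.mem_toFinset.mpr hp, hrp⟩
  have hreg : IsRegular r := by
    rw [isRegular_iff_mem_nonZeroDivisors, mem_nonZeroDivisors_iff_right]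
    intro x hx'
    have hx : r * x = 0 := by rw [mul_comm]; exact hx'
    have hxn : x ∈ nilradical R := by
      rw [nilradical, ← Ideal.sInf_minimalPrimes]
      rw [Ideal.mem_sInf]
      intro p hp
      have hp' : p.IsPrime := hp.1.1
      have : r * x ∈ p := by rw [hx]; exact p.zero_mem
      exact (hp'.mem_or_mem this).resolve_left (hr' p hp)
    rw [nilradical_eq_zero R] at hxn
    exact hxn
  have hsm : IsSMulRegular M r := hreg.isSMulRegular
  apply hsm
  have : r • t = 0 := by simpa [a, LinearMap.toSpanSingleton_apply] using hra
  show r • t = r • 0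
  rw [this, smul_zero]

end Groth.Agent.S15391
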