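import Groth.Statements.S1540
import Mathlib
import Groth.Agent.S1539
import Groth.Agent.S1537

set_option autoImplicit false
universe u
open CategoryTheory CategoryTheory.Limits AlgebraicGeometry
attribute [local instance] Curv2.resAlgebra Curv2.stalkAlgebra
open Variety

namespace Groth.Agent.S1540

section
open CategoryTheory CategoryTheory.Limits AlgebraicGeometry
open Variety

open TensorProduct IntermediateField

section Alg

/-- a ring with irreducible spectrum has only trivial idempotents. -/
theorem idempotent_trivial_of_irreducibleSpace {R : Type*} [CommRing R]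
    [IrreducibleSpace (PrimeSpectrum R)] {e : R} (he : IsIdempotentElem e) : e = 0 ∨ e = 1 := by
  have hp : (nilradical R).IsPrime := PrimeSpectrum.irreducibleSpace_iff_isPrime_nilradical.mp ‹_›
  have h0 : e * (1 - e) ∈ nilradical R := by
    have : e * (1 - e) = 0 := by
      rw [mul_sub, mul_one, he.eq, sub_self]
    rw [this]; exact zero_mem _
  have key : ∀ x : R, IsIdempotentElem x → x ∈ nilradical R → x = 0 := by
    intro x hx hxn
    obtain ⟨n, hn⟩ := mem_nilradical.mp hxn
    rcases Nat.eq_zero_or_pos n with h | h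
    · subst h
      rw [pow_zero] at hn
      rw [← mul_one x, hn, mul_zero]
    · obtain ⟨m, rfl⟩ := Nat.exists_eq_succ_of_ne_zero h.ne'
      rw [hx.pow_succ_eq] at hn
      exact hn
  rcases hp.mem_or_mem h0 with h | h
  · left; exact key e he h
  · right
    have := key (1 - e) he.one_sub h
    exact (sub_eq_zero.mp this).symm

theorem not_irreducibleSpace_of_separable_aux {k : Type*} [Field k] (K L k₁ : Type*) [Field K]
    [Field L] [Field k₁] [Algebra k K] [Algebra k L] [Algebra k k₁] [FiniteDimensional k k₁]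
    [Algebra.IsSeparable k k₁] (a₁ : k₁) (hak : a₁ ∉ Set.range (algebraMap k k₁))
    (ι : k₁ →ₐ[k] K) (σ : k₁ →ₐ[k] L) :
    ¬ IrreducibleSpace (PrimeSpectrum (K ⊗[k] L)) := by
  intro hirr
  haveI : Algebra.FormallyUnramified k k₁ := Algebra.FormallyUnramified.of_isSeparable k _
  let t := Algebra.FormallyUnramified.elem k k₁
  have ht1 : ∀ s : k₁, (1 ⊗ₜ s - s ⊗ₜ 1) * t = 0 :=
    Algebra.FormallyUnramified.one_tmul_sub_tmul_one_mul_elem (R := k) (S := k₁)
  have ht2 : Algebra.TensorProduct.lmul' k t = 1 := Algebra.FormallyUnramified.lmul_elem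
  -- t is idempotent
  have hann : ∀ z : k₁ ⊗[k] k₁, z * t = (Algebra.TensorProduct.lmul' k z ⊗ₜ[k] (1 : k₁)) * t := by
    intro z
    induction z using TensorProduct.induction_on with
    | zero => simp
    | tmul x y =>
      have h1 : x ⊗ₜ[k] y = (x ⊗ₜ[k] (1 : k₁)) * ((1 : k₁) ⊗ₜ[k] y) := by
        simp
      have h2 := Algebra.FormallyUnramified.one_tmul_mul_elem (R := k) (S := k₁) y
      rw [h1, mul_assoc, h2, ← mul_assoc]
      simp
      rfl
    | add x y hx hy => rw [add_mul, hx, hy, map_add, TensorProduct.add_tmul, add_mul]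
  have hidem : IsIdempotentElem t := by
    show t * t = t
    rw [hann t, ht2]
    show (1 : k₁ ⊗[k] k₁) * t = t
    rw [one_mul]
  -- embed into K ⊗ L
  let θ : k₁ ⊗[k] k₁ →ₐ[k] K ⊗[k] L := Algebra.TensorProduct.map ι σ
  have hθ : Function.Injective θ := by
    have h1 := TensorProduct.map_injective_of_flat_flat ι.toLinearMap
      σ.toLinearMap ι.injective σ.injective
    have h2 : θ.toLinearMap = TensorProduct.map ι.toLinearMap σ.toLinearMap := by
      ext p q
      simp [θ]
    intro p q hpq
    apply h1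
    rw [← h2]
    exact hpq
  have hθt : IsIdempotentElem (θ t) := by
    show θ t * θ t = θ t
    rw [← map_mul, hidem.eq]
  rcases idempotent_trivial_of_irreducibleSpace hθt with h | h
  · have : t = 0 := hθ (by rw [h, map_zero])
    rw [this, map_zero] at ht2
    exact zero_ne_one ht2
  · have ht : t = 1 := hθ (by rw [h, map_one])
    have h3 : (1 : k₁) ⊗ₜ[k] a₁ = a₁ ⊗ₜ[k] (1 : k₁) := by
      have := ht1 a₁
      rw [ht, mul_one, sub_eq_zero] at this
      exact this
    -- a linear functional killing a₁ but not 1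
    have hnot : (1 : k₁) ∉ Submodule.span k {a₁} := by
      intro hmem
      obtain ⟨c, hc⟩ := Submodule.mem_span_singleton.mp hmem
      apply hak
      have hc0 : c ≠ 0 := by
        rintro rfl
        rw [zero_smul] at hc
        exact zero_ne_one hc
      refine ⟨c⁻¹, ?_⟩
      rw [Algebra.smul_def] at hc
      rw [map_inv₀]
      exact (eq_inv_of_mul_eq_one_right hc).symm
    obtain ⟨φ, hφ1, hφ2⟩ := Submodule.exists_dual_map_eq_bot_of_notMem hnot inferInstance
    have hφa : φ a₁ = 0 := by
      have : φ a₁ ∈ (Submodule.span k {a₁}).map φ :=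
        Submodule.mem_map_of_mem (Submodule.mem_span_singleton_self a₁)
      rw [hφ2] at this
      exact (Submodule.mem_bot k).mp this
    have h5 := congrArg ((TensorProduct.lid k k₁).toLinearMap ∘ₗ LinearMap.rTensor k₁ φ) h3
    simp only [LinearMap.coe_comp, LinearEquiv.coe_coe, Function.comp_apply,
      LinearMap.rTensor_tmul, TensorProduct.lid_tmul, hφa, zero_smul] at h5
    have ha₁ : a₁ ≠ 0 := by
      intro h0
      apply hak
      exact ⟨0, by rw [map_zero, h0]⟩
    exact (smul_ne_zero hφ1 ha₁) h5

theorem not_irreducibleSpace_of_separable_elem {k : Type*} [Field k] (K L : Type*) [Field K]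
    [Field L] [Algebra k K] [Algebra k L] (a : K) (ha : IsSeparable k a)
    (hak : a ∉ Set.range (algebraMap k K)) (σ : k⟮a⟯ →ₐ[k] L) :
    ¬ IrreducibleSpace (PrimeSpectrum (K ⊗[k] L)) := by
  haveI : FiniteDimensional k k⟮a⟯ := adjoin.finiteDimensional ha.isIntegral
  haveI : Algebra.IsSeparable k k⟮a⟯ := (isSeparable_adjoin_simple_iff_isSeparable k K).mpr ha
  refine not_irreducibleSpace_of_separable_aux K L k⟮a⟯ ⟨a, mem_adjoin_simple_self k a⟩ ?_
    k⟮a⟯.val σ
  rintro ⟨c, hc⟩
  apply hak
  refine ⟨c, ?_⟩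
  have := congrArg (Subtype.val : k⟮a⟯ → K) hc
  simpa using this

end Alg


section Geo

theorem irreducibleSpace_of_isOpenMap_of_fibre {α β : Type*} [TopologicalSpace α]
    [TopologicalSpace β] {p : α → β} (ho : IsOpenMap p) {ξ : β} (hξ : IsGenericPoint ξ Set.univ)
    (hF : IsIrreducible (p ⁻¹' {ξ})) : IrreducibleSpace α := by
  obtain ⟨z, hz⟩ := hF.1
  refine { toNonempty := ⟨z⟩, isPreirreducible_univ := ?_ }
  rintro U V hU hV ⟨u, -, hu⟩ ⟨v, -, hv⟩
  have h1 : (p ⁻¹' {ξ} ∩ U).Nonempty := by
    have : ξ ∈ p '' U := by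
      rw [hξ.mem_open_set_iff (ho U hU), Set.univ_inter]
      exact ⟨p u, u, hu, rfl⟩
    obtain ⟨u', hu', hpu'⟩ := this
    exact ⟨u', hpu', hu'⟩
  have h2 : (p ⁻¹' {ξ} ∩ V).Nonempty := by
    have : ξ ∈ p '' V := by
      rw [hξ.mem_open_set_iff (ho V hV), Set.univ_inter]
      exact ⟨p v, v, hv, rfl⟩
    obtain ⟨v', hv', hpv'⟩ := this
    exact ⟨v', hpv', hv'⟩
  obtain ⟨w, -, hw⟩ := hF.2 U V hU hV h1 h2
  exact ⟨w, trivial, hw⟩

variable {k : Type u} [Field k]

theorem range_bcMap_fromSpecResidueField {X : Scheme.{u}} (f : X ⟶ Spec (CommRingCat.of k))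
    (x : X) (Ω : Type u) [Field Ω] [Algebra k Ω] :
    Set.range (Groth.Agent.S7591.bcMap (X.fromSpecResidueField x) f Ω) =
      ⇑(Groth.Agent.S2502.bcπ f Ω) ⁻¹' {x} := by
  ext z
  constructor
  · rintro ⟨w, rfl⟩
    show (Groth.Agent.S2502.bcπ f Ω) ((Groth.Agent.S7591.bcMap (X.fromSpecResidueField x) f Ω) w) = x
    rw [← Scheme.Hom.comp_apply, Groth.Agent.S7591.bcMap_fst, Scheme.Hom.comp_apply,
      Scheme.fromSpecResidueField_apply]
  · intro hz
    obtain ⟨t⟩ : Nonempty ↥(Spec (X.residueField x)) := inferInstance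
    have hz' : (Groth.Agent.S2502.bcπ f Ω) z = (X.fromSpecResidueField x) t := by
      rw [Scheme.fromSpecResidueField_apply]; exact hz
    obtain ⟨w, hw, -⟩ := Groth.Agent.S2502.exists_preimage_of_isPullback
      (Groth.Agent.S7591.isPullback_bcMap (X.fromSpecResidueField x) f Ω) z t hz'
    exact ⟨w, hw⟩

theorem geomIrr_of_generic_primary {X : Scheme.{u}} [IrreducibleSpace X]
    (f : X ⟶ Spec (CommRingCat.of k)) (φ : k →+* X.residueField (genericPoint X))
    (hφ : Spec.map (CommRingCat.ofHom φ) = X.fromSpecResidueField (genericPoint X) ≫ f)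
    (hsep : letI := φ.toAlgebra; separableClosure k (X.residueField (genericPoint X)) = ⊥) :
    GeometricallyIrreducible f := by
  letI := φ.toAlgebra
  haveI h1 : IrreducibleSpace ↥(Groth.Agent.S2502.bc
      (X.fromSpecResidueField (genericPoint X) ≫ f) (SeparableClosure k)) := by
    rw [← hφ]
    exact Groth.Agent.S4619.irreducibleSpace_bc_sep_of_separableClosure_eq_bot k
      (X.residueField (genericPoint X)) hsep
  have h2 : IsIrreducible (⇑(Groth.Agent.S2502.bcπ f (SeparableClosure k)) ⁻¹' {genericPoint X}) := by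
    rw [← range_bcMap_fromSpecResidueField, ← Set.image_univ]
    exact (IrreducibleSpace.isIrreducible_univ _).image _
      (Scheme.Hom.continuous _).continuousOn
  letI : X.Over (Spec (CommRingCat.of k)) := ⟨f⟩
  haveI : IrreducibleSpace ↥(Curv2.bc k X (SeparableClosure k)) :=
    irreducibleSpace_of_isOpenMap_of_fibre (Groth.Agent.S2502.isOpenMap_bcπ f (SeparableClosure k))
      (genericPoint_spec ↥X) h2
  exact Groth.Agent.S1559.main_irr k X

theorem irreducibleSpace_generic_fibre {X : Scheme.{u}} [IrreducibleSpace X]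
    (f : X ⟶ Spec (CommRingCat.of k)) (Ω : Type u) [Field Ω] [Algebra k Ω]
    [IrreducibleSpace ↥(Groth.Agent.S2502.bc f Ω)] :
    IrreducibleSpace ↥(Groth.Agent.S2502.bc (X.fromSpecResidueField (genericPoint X) ≫ f) Ω) := by
  let gs := Groth.Agent.S7591.bcMap (X.fromSpecResidueField (genericPoint X)) f Ω
  haveI : IsPreimmersion gs :=
    MorphismProperty.of_isPullback (P := @IsPreimmersion)
      (Groth.Agent.S7591.isPullback_bcMap (X.fromSpecResidueField (genericPoint X)) f Ω).flip
      inferInstance
  let ζ := genericPoint ↥(Groth.Agent.S2502.bc f Ω)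
  have hζ : IsGenericPoint ζ Set.univ := genericPoint_spec _
  have hζξ : (Groth.Agent.S2502.bcπ f Ω) ζ = genericPoint X := by
    have h1 := hζ.image (Groth.Agent.S2502.bcπ f Ω).continuous
    rw [Set.image_univ, (Groth.Agent.S2502.surjective_bcπ f Ω).range_eq, closure_univ] at h1
    exact h1.eq (genericPoint_spec _)
  have hmem : ζ ∈ Set.range gs := by
    rw [range_bcMap_fromSpecResidueField]
    exact hζξ
  obtain ⟨y₀, hy₀⟩ := hmem
  have hy₀gen : closure ({y₀} : Set _) = Set.univ := by
    rw [gs.isEmbedding.closure_eq_preimage_closure_image, Set.image_singleton, hy₀, hζ.def,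
      Set.preimage_univ]
  have : IsIrreducible (Set.univ : Set ↥(Groth.Agent.S2502.bc
      (X.fromSpecResidueField (genericPoint X) ≫ f) Ω)) := by
    rw [← hy₀gen]
    exact isIrreducible_singleton.closure
  exact (irreducibleSpace_def _).mpr this


theorem main (k : Type u) [Field k] (X : Scheme.{u}) [X.Over (Spec (CommRingCat.of k))] [IrreducibleSpace X] :
    GeometricallyIrreducible (X ↘ (Spec (CommRingCat.of k))) ↔
      ∀ a : X.residueField (genericPoint X), IsSeparable k a → a ∈ Set.range (algebraMap k (X.residueField (genericPoint X))) := by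
  constructor
  · intro hgi a ha
    by_contra hak
    haveI : FiniteDimensional k k⟮a⟯ := adjoin.finiteDimensional ha.isIntegral
    haveI h1 : IrreducibleSpace ↥(Groth.Agent.S2502.bc (X ↘ (Spec (CommRingCat.of k))) k⟮a⟯) :=
      GeometricallyIrreducible.geometrically_irreducibleSpace _ _ _ (.of_hasPullback _ _)
    have h2 := irreducibleSpace_generic_fibre (X ↘ (Spec (CommRingCat.of k))) k⟮a⟯
    rw [← Groth.Agent.S1537.specMap_resMap] at h2
    have h3 : IrreducibleSpace ↥(Limits.pullback
        (Spec.map (CommRingCat.ofHom (algebraMap k (X.residueField (genericPoint X)))))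
        (Spec.map (CommRingCat.ofHom (algebraMap k k⟮a⟯)))) := h2
    rw [(pullbackSpecIso k (X.residueField (genericPoint X)) k⟮a⟯).hom.homeomorph.irreducibleSpace_iff]
      at h3
    exact not_irreducibleSpace_of_separable_elem (X.residueField (genericPoint X)) k⟮a⟯ a ha hak
      (AlgHom.id k _) h3
  · intro h
    refine geomIrr_of_generic_primary (X ↘ (Spec (CommRingCat.of k)))
      (Curv2.resMap k X (genericPoint X)) (Groth.Agent.S1537.specMap_resMap k X _) ?_
    show separableClosure k (X.residueField (genericPoint X)) = ⊥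
    rw [eq_bot_iff]
    intro a ha
    exact IntermediateField.mem_bot.mpr (h a (mem_separableClosure_iff.mp ha))

end Geo


end


/-- An irreducible scheme X over k with generic point ξ is geometrically irreducible if and only if the
separable algebraic closure of k in the residue field of ξ is k itself. -/
theorem result (k : Type u) [Field k] (X : Scheme.{u}) [X.Over (Spec (CommRingCat.of k))] [IrreducibleSpace X] :
    GeometricallyIrreducible (X ↘ (Spec (CommRingCat.of k))) ↔
      ∀ a : X.residueField (genericPoint X), IsSeparable k a → a ∈ Set.range (algebraMap k (X.residueField (genericPoint X))) := by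
  classical
  exact main k X

end Groth.Agent.S1540
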