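import Groth.Statements.S1542
import Mathlib
import Groth.Agent.S1541

set_option autoImplicit false
universe u
open CategoryTheory CategoryTheory.Limits AlgebraicGeometry
open Variety

namespace Groth.Agent.S1542

section
open CategoryTheory CategoryTheory.Limits AlgebraicGeometry

open TensorProduct

/-- geometric reducedness at `x` gives reducedness of all stalks above generizations of `x`. -/
theorem isReduced_stalk_of_isGeomReducedAt_of_specializes (k : Type u) [Field k] (X : Scheme.{u})
    [X.Over (Spec (CommRingCat.of k))] (x x' : X) (h : x' ⤳ x)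
    (hx : Curv2.IsGeomReducedAt k X x) (K : Type u) [Field K] [Algebra k K]
    (x'' : ↥(Curv2.bc k X K)) (hx'' : Curv2.bcFst k X K x'' = x') :
    _root_.IsReduced ((Curv2.bc k X K).presheaf.stalk x'') := by
  letI := Curv2.stalkAlgebra k X x
  haveI hR := (Groth.Agent.S1541.main k X x).mp hx
  obtain ⟨y, hy⟩ : x' ∈ Set.range (X.fromSpecStalk x) := by
    rw [Scheme.range_fromSpecStalk]; exact h
  haveI : _root_.IsReduced (K ⊗[k] X.presheaf.stalk x) :=
    Groth.Agent.S2536.isReduced_field_tensor_of_geomReduced k _ K
  haveI : _root_.IsReduced (X.presheaf.stalk x ⊗[k] K) := isReduced_of_injective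
    (Algebra.TensorProduct.comm k (X.presheaf.stalk x) K).toRingEquiv.toRingHom
    (Algebra.TensorProduct.comm k (X.presheaf.stalk x) K).injective
  exact Groth.Agent.S1560.isReduced_stalk_of_isReduced_tensor (X ↘ Spec (CommRingCat.of k)) x
    (Groth.Agent.S1560.specMap_stalkMap k X x) x'' y (hx''.trans hy.symm)

theorem main (k : Type u) [Field k] (X : Scheme.{u}) [X.Over (Spec (CommRingCat.of k))] (x x' : X) (h : x' ⤳ x)
    (hx : Curv2.IsGeomReducedAt k X x) : Curv2.IsGeomReducedAt k X x' := by
  intro K _ _ x'' hx''
  exact isReduced_stalk_of_isGeomReducedAt_of_specializes k X x x' h hx K x'' hx''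


end


/-- Geometric reducedness at a point passes to every generisation of that point. -/
theorem result (k : Type u) [Field k] (X : Scheme.{u}) [X.Over (Spec (CommRingCat.of k))] (x x' : X) (h : x' ⤳ x)
    (hx : Curv2.IsGeomReducedAt k X x) : Curv2.IsGeomReducedAt k X x' := by
  classical
  exact main k X x x' h hx

end Groth.Agent.S1542
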