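import Groth.Statements.S15420
import Mathlib
import Groth.Prelude.Def_GrSyz
import Groth.Prelude.Def_GrLC
import Groth.Agent.Lib.Helper9.GrLC.Trans
import Groth.Agent.Lib.Helper9.GrLC.Reg
import Groth.Agent.S15419
import Groth.Agent.Lib.Helper6.CMReg.CRi

set_option autoImplicit false
universe u
open GrLC

namespace Groth.Agent.S15420

namespace Aux

open DirectSum Groth.Agent.Helper9.GrLCLib Groth.Agent.Lib.Helper6.CMReg

set_option maxHeartbeats 400000 in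
theorem main (k : Type u) [Field k] (r : ℕ)
    (M : Type u) [AddCommGroup M] [Module k M] [Module (MvPolynomial (Fin (r + 1)) k) M]
    [IsScalarTower k (MvPolynomial (Fin (r + 1)) k) M] [Module.Finite (MvPolynomial (Fin (r + 1)) k) M]
    (ℳ : ℤ → Submodule k M) [DirectSum.Decomposition ℳ] [SetLike.GradedSMul (GrSyz.stdGr k (Fin (r + 1))) ℳ]
    (x : MvPolynomial (Fin (r + 1)) k) (hx : x ∈ GrSyz.stdGr k (Fin (r + 1)) 1)
    (hq : IsFiniteLength (MvPolynomial (Fin (r + 1)) k) ↥(Submodule.torsionBy (MvPolynomial (Fin (r + 1)) k) M x))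
    (N : Type u) [AddCommGroup N] [Module k N] [Module (MvPolynomial (Fin (r + 1)) k) N]
    [IsScalarTower k (MvPolynomial (Fin (r + 1)) k) N] [Module.Finite (MvPolynomial (Fin (r + 1)) k) N]
    (𝒩 : ℤ → Submodule k N) [DirectSum.Decomposition 𝒩] [SetLike.GradedSMul (GrSyz.stdGr k (Fin (r + 1))) 𝒩]
    (π : M →ₗ[MvPolynomial (Fin (r + 1)) k] N) (hπ : Function.Surjective π) (hπg : GrLC.IsGrHom ℳ 𝒩 π)
    (hker : LinearMap.ker π = LinearMap.range (x • (LinearMap.id : M →ₗ[MvPolynomial (Fin (r + 1)) k] M)))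
    (E : GrLC.StarInjRes (GrSyz.stdGr k (Fin (r + 1))) ℳ) (E' : GrLC.StarInjRes (GrSyz.stdGr k (Fin (r + 1))) 𝒩) (d : ℤ) :
    (GrLC.endDeg (E.Hgr (GrSyz.irrel (GrSyz.stdGr k (Fin (r + 1)))) 0) ≤ ((d : WithTop ℤ) : WithBot (WithTop ℤ)) ∧ ∀ i : ℕ, 0 < i → E.Hcomp (GrSyz.irrel (GrSyz.stdGr k (Fin (r + 1)))) i (d - (i : ℤ) + 1) = ⊥) ↔
      ((GrLC.endDeg (E'.Hgr (GrSyz.irrel (GrSyz.stdGr k (Fin (r + 1)))) 0) ≤ ((d : WithTop ℤ) : WithBot (WithTop ℤ)) ∧ ∀ i : ℕ, 0 < i → E'.Hcomp (GrSyz.irrel (GrSyz.stdGr k (Fin (r + 1)))) i (d - (i : ℤ) + 1) = ⊥) ∧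
        GrLC.endDeg (E.Hgr (GrSyz.irrel (GrSyz.stdGr k (Fin (r + 1)))) 0) ≤ ((d : WithTop ℤ) : WithBot (WithTop ℤ))) := by
  have hpos : ∀ n : ℤ, n < 0 → Trans.toAG (GrSyz.stdGr k (Fin (r + 1))) n = ⊥ :=
    Groth.Agent.S15419.Aux.toAG_stdGr_neg k (Fin (r + 1))
  have ha := Groth.Agent.S15419.Aux.irrel_toAG (GrSyz.stdGr k (Fin (r + 1)))
  have hhom : (Trans.idealToAG _ (GrSyz.irrel (GrSyz.stdGr k (Fin (r + 1))))).toIdeal =
      Ideal.span ((Trans.toAG (GrSyz.stdGr k (Fin (r + 1))) 1 :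
        AddSubgroup (MvPolynomial (Fin (r + 1)) k)) : Set (MvPolynomial (Fin (r + 1)) k)) :=
    ha.trans (span_pos_eq_span_one k (Fin (r + 1)))
  have hx' : x ∈ Trans.toAG (GrSyz.stdGr k (Fin (r + 1))) 1 := hx
  have hxa : x ∈ (Trans.idealToAG _ (GrSyz.irrel (GrSyz.stdGr k (Fin (r + 1))))).toIdeal := by
    rw [hhom]
    exact Ideal.subset_span hx'
  -- torsion
  have hK : LocCoh.IsPowerTorsion
      (Trans.idealToAG _ (GrSyz.irrel (GrSyz.stdGr k (Fin (r + 1))))).toIdeal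
      (Reg.KX (Trans.toAG (GrSyz.stdGr k (Fin (r + 1))))
        (GrLC.GMod.of (Trans.toAG (GrSyz.stdGr k (Fin (r + 1)))) M (Trans.toAG ℳ)) x hx').carrier := by
    have e : Reg.kerX (Trans.toAG (GrSyz.stdGr k (Fin (r + 1))))
        (GrLC.GMod.of (Trans.toAG (GrSyz.stdGr k (Fin (r + 1)))) M (Trans.toAG ℳ)) x =
        Submodule.torsionBy (MvPolynomial (Fin (r + 1)) k) M x := by
      ext m
      exact (Reg.mem_kerX _ _ x m).trans (Submodule.mem_torsionBy_iff x m).symm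
    have hart : IsArtinian (MvPolynomial (Fin (r + 1)) k)
        ↥(Submodule.torsionBy (MvPolynomial (Fin (r + 1)) k) M x) :=
      (isFiniteLength_iff_isNoetherian_isArtinian.mp hq).2
    rw [← e] at hart
    have hfin : Module.Finite (MvPolynomial (Fin (r + 1)) k)
        ↥(Reg.kerX (Trans.toAG (GrSyz.stdGr k (Fin (r + 1))))
        (GrLC.GMod.of (Trans.toAG (GrSyz.stdGr k (Fin (r + 1)))) M (Trans.toAG ℳ)) x) := by
      have : IsNoetherian (MvPolynomial (Fin (r + 1)) k) M := isNoetherian_of_isNoetherianRing_of_finite _ _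
      exact Module.Finite.of_injective
        (show ↥(Reg.kerX (Trans.toAG (GrSyz.stdGr k (Fin (r + 1))))
          (GrLC.GMod.of (Trans.toAG (GrSyz.stdGr k (Fin (r + 1)))) M (Trans.toAG ℳ)) x)
            →ₗ[MvPolynomial (Fin (r + 1)) k] M from Submodule.subtype _)
        (Submodule.injective_subtype _)
    have hfin' : Module.Finite (MvPolynomial (Fin (r + 1)) k)
      (Reg.KX (Trans.toAG (GrSyz.stdGr k (Fin (r + 1))))
        (GrLC.GMod.of (Trans.toAG (GrSyz.stdGr k (Fin (r + 1)))) M (Trans.toAG ℳ)) x hx').carrier := hfin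
    have hart' : IsArtinian (MvPolynomial (Fin (r + 1)) k)
      (Reg.KX (Trans.toAG (GrSyz.stdGr k (Fin (r + 1))))
        (GrLC.GMod.of (Trans.toAG (GrSyz.stdGr k (Fin (r + 1)))) M (Trans.toAG ℳ)) x hx').carrier := hart
    exact Reg.isPowerTorsion_of_isArtinian (Trans.toAG (GrSyz.stdGr k (Fin (r + 1)))) hpos
      (Reg.KX (Trans.toAG (GrSyz.stdGr k (Fin (r + 1))))
        (GrLC.GMod.of (Trans.toAG (GrSyz.stdGr k (Fin (r + 1)))) M (Trans.toAG ℳ)) x hx').gr _ ha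
  -- translation
  rw [endDeg_le_iff_van (GrSyz.stdGr k (Fin (r + 1))) ℳ E,
    endDeg_le_iff_van (GrSyz.stdGr k (Fin (r + 1))) 𝒩 E']
  have tM : ∀ i : ℕ, E.Hcomp (GrSyz.irrel (GrSyz.stdGr k (Fin (r + 1)))) i (d - (i : ℤ) + 1) = ⊥ ↔
      Van (Trans.idealToAG _ (GrSyz.irrel (GrSyz.stdGr k (Fin (r + 1)))))
        (GrLC.GMod.of (Trans.toAG (GrSyz.stdGr k (Fin (r + 1)))) M (Trans.toAG ℳ)) i (d - (i : ℤ) + 1) :=
    fun i => (van_toAG_iff_hcomp (GrSyz.stdGr k (Fin (r + 1))) ℳ E _ i _).symm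
  have tN : ∀ i : ℕ, E'.Hcomp (GrSyz.irrel (GrSyz.stdGr k (Fin (r + 1)))) i (d - (i : ℤ) + 1) = ⊥ ↔
      Van (Trans.idealToAG _ (GrSyz.irrel (GrSyz.stdGr k (Fin (r + 1)))))
        (GrLC.GMod.of (Trans.toAG (GrSyz.stdGr k (Fin (r + 1)))) N (Trans.toAG 𝒩)) i (d - (i : ℤ) + 1) :=
    fun i => (van_toAG_iff_hcomp (GrSyz.stdGr k (Fin (r + 1))) 𝒩 E' _ i _).symm
  constructor
  · rintro ⟨h0, hW⟩
    have h := reg_quot (Trans.toAG (GrSyz.stdGr k (Fin (r + 1))))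
      (Trans.idealToAG _ (GrSyz.irrel (GrSyz.stdGr k (Fin (r + 1)))))
      (GrLC.GMod.of (Trans.toAG (GrSyz.stdGr k (Fin (r + 1)))) M (Trans.toAG ℳ))
      (GrLC.GMod.of (Trans.toAG (GrSyz.stdGr k (Fin (r + 1)))) N (Trans.toAG 𝒩)) x hx' hK π hπ hπg hker
      hhom d h0 (fun i hi => (tM i).mp (hW i hi))
    exact ⟨⟨h.1, fun i hi => (tN i).mpr (h.2 i hi)⟩, h0⟩
  · rintro ⟨⟨hY0, hYW⟩, h0⟩
    have h := reg_of_quot (Trans.toAG (GrSyz.stdGr k (Fin (r + 1))))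
      (Trans.idealToAG _ (GrSyz.irrel (GrSyz.stdGr k (Fin (r + 1)))))
      (GrLC.GMod.of (Trans.toAG (GrSyz.stdGr k (Fin (r + 1)))) M (Trans.toAG ℳ))
      (GrLC.GMod.of (Trans.toAG (GrSyz.stdGr k (Fin (r + 1)))) N (Trans.toAG 𝒩)) x hx' hK π hπ hπg hker
      hhom hxa d hY0 (fun i hi => (tN i).mp (hYW i hi))
    exact ⟨h0, fun i hi => (tM i).mpr (h i hi)⟩

end Aux

/-- Let k be a field, S = k[x_0, …, x_r] graded by degree, 𝔪 = (x_0, …, x_r), M a finitely generated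
ℤ-graded S-module, x ∈ S_1 a linear form quasi-regular on M (the elements of M killed by x form a
submodule of finite length), and N = M/xM, given as a graded module with a surjective
degree-preserving S-linear map π : M → N with kernel xM; graded local cohomology is computed from
*injective resolutions in the graded category. Call a module d-regular when H^0_𝔪 of it has no
nonzero piece in degrees above d and H^i_𝔪 of it vanishes in degree d − i + 1 for every i > 0. Then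
M is d-regular if and only if N is d-regular and H^0_𝔪(M) has no nonzero piece in degrees above d. -/
theorem result (k : Type u) [Field k] (r : ℕ)
    (M : Type u) [AddCommGroup M] [Module k M] [Module (MvPolynomial (Fin (r + 1)) k) M]
    [IsScalarTower k (MvPolynomial (Fin (r + 1)) k) M] [Module.Finite (MvPolynomial (Fin (r + 1)) k) M]
    (ℳ : ℤ → Submodule k M) [DirectSum.Decomposition ℳ] [SetLike.GradedSMul (GrSyz.stdGr k (Fin (r + 1))) ℳ]
    (x : MvPolynomial (Fin (r + 1)) k) (hx : x ∈ GrSyz.stdGr k (Fin (r + 1)) 1)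
    (hq : IsFiniteLength (MvPolynomial (Fin (r + 1)) k) ↥(Submodule.torsionBy (MvPolynomial (Fin (r + 1)) k) M x))
    (N : Type u) [AddCommGroup N] [Module k N] [Module (MvPolynomial (Fin (r + 1)) k) N]
    [IsScalarTower k (MvPolynomial (Fin (r + 1)) k) N] [Module.Finite (MvPolynomial (Fin (r + 1)) k) N]
    (𝒩 : ℤ → Submodule k N) [DirectSum.Decomposition 𝒩] [SetLike.GradedSMul (GrSyz.stdGr k (Fin (r + 1))) 𝒩]
    (π : M →ₗ[MvPolynomial (Fin (r + 1)) k] N) (hπ : Function.Surjective π) (hπg : GrLC.IsGrHom ℳ 𝒩 π)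
    (hker : LinearMap.ker π = LinearMap.range (x • (LinearMap.id : M →ₗ[MvPolynomial (Fin (r + 1)) k] M)))
    (E : GrLC.StarInjRes (GrSyz.stdGr k (Fin (r + 1))) ℳ) (E' : GrLC.StarInjRes (GrSyz.stdGr k (Fin (r + 1))) 𝒩) (d : ℤ) :
    (GrLC.endDeg (E.Hgr (GrSyz.irrel (GrSyz.stdGr k (Fin (r + 1)))) 0) ≤ ((d : WithTop ℤ) : WithBot (WithTop ℤ)) ∧ ∀ i : ℕ, 0 < i → E.Hcomp (GrSyz.irrel (GrSyz.stdGr k (Fin (r + 1)))) i (d - (i : ℤ) + 1) = ⊥) ↔
      ((GrLC.endDeg (E'.Hgr (GrSyz.irrel (GrSyz.stdGr k (Fin (r + 1)))) 0) ≤ ((d : WithTop ℤ) : WithBot (WithTop ℤ)) ∧ ∀ i : ℕ, 0 < i → E'.Hcomp (GrSyz.irrel (GrSyz.stdGr k (Fin (r + 1)))) i (d - (i : ℤ) + 1) = ⊥) ∧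
        GrLC.endDeg (E.Hgr (GrSyz.irrel (GrSyz.stdGr k (Fin (r + 1)))) 0) ≤ ((d : WithTop ℤ) : WithBot (WithTop ℤ))) := by
  exact Aux.main k r M ℳ x hx hq N 𝒩 π hπ hπg hker E E' d

end Groth.Agent.S15420
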