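import Groth.Statements.S15423
import Mathlib
import Groth.Prelude.Def_GrSyz
import Groth.Agent.Lib.Helper9.GrMod.Betti
-- import your own Groth.Agent.* helpers here

set_option autoImplicit false
universe u
open GrSyz

namespace Groth.Agent.S15423

namespace Aux
open Groth.Agent.Helper9.GrMod


/-- order-theoretic core -/
lemma iInf_eq_iSup (u : ℕ → WithBot (WithTop ℤ)) :
    (⨅ (r : ℤ) (_ : ∀ i, u i ≤ ((r : WithTop ℤ) : WithBot (WithTop ℤ))),
      ((r : WithTop ℤ) : WithBot (WithTop ℤ))) = ⨆ i, u i := by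
  apply le_antisymm
  · -- ≤
    set s := ⨆ i, u i with hs
    by_cases h : s = ⊥
    · -- s = ⊥
      rw [h, le_bot_iff]
      have hall : ∀ r : ℤ, ∀ i, u i ≤ ((r : WithTop ℤ) : WithBot (WithTop ℤ)) := by
        intro r i
        have : u i ≤ s := le_iSup u i
        rw [h, le_bot_iff] at this
        rw [this]; exact bot_le
      by_contra hne
      obtain ⟨y, hy⟩ := WithBot.ne_bot_iff_exists.1 hne
      have hle : ∀ r : ℤ, (y : WithBot (WithTop ℤ)) ≤ ((r : WithTop ℤ) : WithBot (WithTop ℤ)) := by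
        intro r
        rw [hy]
        exact iInf₂_le r (hall r)
      have hy' : ∀ r : ℤ, y ≤ (r : WithTop ℤ) := fun r => WithBot.coe_le_coe.1 (hle r)
      have hytop : y ≠ ⊤ := by
        rintro rfl
        exact absurd (hy' 0) (by simp)
      obtain ⟨n, rfl⟩ := WithTop.ne_top_iff_exists.1 hytop
      have := hy' (n - 1)
      rw [WithTop.coe_le_coe] at this
      omega
    · obtain ⟨y, hy⟩ := WithBot.ne_bot_iff_exists.1 h
      have hy := hy.symm
      by_cases hyt : y = ⊤
      · rw [hy, hyt]; exact le_top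
      · obtain ⟨n, hn⟩ := WithTop.ne_top_iff_exists.1 hyt
        have hn := hn.symm
        have hmem : ∀ i, u i ≤ ((n : WithTop ℤ) : WithBot (WithTop ℤ)) := by
            intro i
            have : u i ≤ s := le_iSup u i
            rwa [hy, hn] at this
        rw [hy, hn]
        exact iInf₂_le n hmem
  · apply le_iInf₂
    intro r hr
    exact iSup_le hr


lemma map_le_iff (a : WithBot ℤ) (i : ℕ) (r : ℤ) :
    WithBot.map (fun t : ℤ => ((t - (i : ℤ) : ℤ) : WithTop ℤ)) a ≤
      ((r : WithTop ℤ) : WithBot (WithTop ℤ)) ↔ a ≤ ((r + i : ℤ) : WithBot ℤ) := by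
  induction a using WithBot.recBotCoe with
  | bot => simp
  | coe t =>
    rw [WithBot.map_coe, WithBot.coe_le_coe, WithBot.coe_le_coe, WithTop.coe_le_coe]
    omega

theorem main (k : Type u) [Field k] (r : ℕ)
    (M : Type u) [AddCommGroup M] [Module k M] [Module (MvPolynomial (Fin (r + 1)) k) M]
    [IsScalarTower k (MvPolynomial (Fin (r + 1)) k) M] [Module.Finite (MvPolynomial (Fin (r + 1)) k) M]
    (ℳ : ℤ → Submodule k M) [DirectSum.Decomposition ℳ] [SetLike.GradedSMul (GrSyz.stdGr k (Fin (r + 1))) ℳ]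
    (F : GrSyz.FreeRes (GrSyz.stdGr k (Fin (r + 1))) ℳ) (hF : F.IsMinimal (GrSyz.irrel (GrSyz.stdGr k (Fin (r + 1)))).toIdeal) :
    GrSyz.reg (GrSyz.stdGr k (Fin (r + 1))) ℳ (GrSyz.irrel (GrSyz.stdGr k (Fin (r + 1)))).toIdeal =
      ⨆ i : ℕ, WithBot.map (fun t : ℤ => ((t - (i : ℤ) : ℤ) : WithTop ℤ)) (F.maxGenDeg i) := by
  rw [← iInf_eq_iSup]
  unfold GrSyz.reg
  apply iInf_congr
  intro s
  have hiff : GrSyz.IsRegLE (GrSyz.stdGr k (Fin (r + 1))) ℳ (GrSyz.irrel (GrSyz.stdGr k (Fin (r + 1)))).toIdeal s ↔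
      ∀ (i : ℕ), WithBot.map (fun t : ℤ => ((t - (i : ℤ) : ℤ) : WithTop ℤ)) (F.maxGenDeg i) ≤
        ((s : WithTop ℤ) : WithBot (WithTop ℤ)) := by
    have hgen : ∀ G : GrSyz.FreeRes (GrSyz.stdGr k (Fin (r + 1))) ℳ,
        G.IsGenLE s ↔ ∀ i, G.maxGenDeg i ≤ ((s + i : ℤ) : WithBot ℤ) := by
      intro G
      unfold GrSyz.FreeRes.IsGenLE GrSyz.FreeRes.maxGenDeg
      constructor
      · intro h i
        apply Finset.sup_le
        intro b _
        exact WithBot.coe_le_coe.2 (h i b)
      · intro h i b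
        have := (Finset.sup_le_iff.1 (h i)) b (Finset.mem_univ b)
        exact WithBot.coe_le_coe.1 this
    constructor
    · rintro ⟨F', hF', hgen'⟩ i
      rw [map_le_iff, maxGenDeg_eq F F' hF hF' i]
      exact (hgen F').1 hgen' i
    · intro h
      refine ⟨F, hF, (hgen F).2 (fun i => ?_)⟩
      rw [← map_le_iff]
      exact h i
  exact iInf_congr_Prop hiff (fun _ => rfl)

end Aux

/-- Let k be a field, S = k[x_0, …, x_r] graded by degree, 𝔪 = (x_0, …, x_r), M a finitely generated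
ℤ-graded S-module and F a minimal graded free resolution of M by finite-rank free modules with
homogeneous bases (all matrix entries in 𝔪). Then the Castelnuovo–Mumford regularity of M (an
extended integer) is the supremum over i ≥ 0 of t_i − i, where t_i is the largest degree of a basis
vector of F_i, that is the largest nonzero degree of Tor_i^S(M, k) (−∞ when F_i = 0). In particular
the value does not depend on the minimal resolution chosen. -/
theorem result (k : Type u) [Field k] (r : ℕ)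
    (M : Type u) [AddCommGroup M] [Module k M] [Module (MvPolynomial (Fin (r + 1)) k) M]
    [IsScalarTower k (MvPolynomial (Fin (r + 1)) k) M] [Module.Finite (MvPolynomial (Fin (r + 1)) k) M]
    (ℳ : ℤ → Submodule k M) [DirectSum.Decomposition ℳ] [SetLike.GradedSMul (GrSyz.stdGr k (Fin (r + 1))) ℳ]
    (F : GrSyz.FreeRes (GrSyz.stdGr k (Fin (r + 1))) ℳ) (hF : F.IsMinimal (GrSyz.irrel (GrSyz.stdGr k (Fin (r + 1)))).toIdeal) :
    GrSyz.reg (GrSyz.stdGr k (Fin (r + 1))) ℳ (GrSyz.irrel (GrSyz.stdGr k (Fin (r + 1)))).toIdeal =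
      ⨆ i : ℕ, WithBot.map (fun t : ℤ => ((t - (i : ℤ) : ℤ) : WithTop ℤ)) (F.maxGenDeg i) := by
  exact Aux.main k r M ℳ F hF

end Groth.Agent.S15423
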