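import Groth.Statements.S15430
import Mathlib
import Groth.Prelude.Def_GrSyz
import Groth.Agent.S15436
-- import your own Groth.Agent.* helpers here

set_option autoImplicit false
universe u
open GrSyz

namespace Groth.Agent.S15430

open CategoryTheory CategoryTheory.Limits
namespace Aux
open Groth.Agent.Helper1.TorL Groth.Agent.S15436.Aux

universe v' u'
lemma hasProjectiveDimensionLT_of_isZero {C : Type u'} [Category.{v'} C] [Abelian C] {X : C}
    (R : ProjectiveResolution X) (n : ℕ) (h : ∀ i, n ≤ i → IsZero (R.complex.X i)) :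
    HasProjectiveDimensionLT X n := by
  letI := HasExt.standard C
  rw [hasProjectiveDimensionLT_iff]
  intro i hi Y α
  obtain ⟨f, hf, rfl⟩ := R.extMk_surjective α (i + 1) rfl
  have : f = 0 := (h i hi).eq_of_src _ _
  subst this
  exact R.extMk_zero _ rfl

theorem main (k : Type u) [Field k] (r : ℕ)
    (M : Type u) [AddCommGroup M] [Module k M] [Module (MvPolynomial (Fin (r + 1)) k) M]
    [IsScalarTower k (MvPolynomial (Fin (r + 1)) k) M] [Module.Finite (MvPolynomial (Fin (r + 1)) k) M]
    (ℳ : ℤ → Submodule k M) [DirectSum.Decomposition ℳ] [SetLike.GradedSMul (GrSyz.stdGr k (Fin (r + 1))) ℳ]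
    (F : GrSyz.FreeRes (GrSyz.stdGr k (Fin (r + 1))) ℳ) (hF : F.IsMinimal (GrSyz.irrel (GrSyz.stdGr k (Fin (r + 1)))).toIdeal) (n : ℕ) :
    F.HasLengthLE n ↔ CategoryTheory.HasProjectiveDimensionLE (ModuleCat.of (MvPolynomial (Fin (r + 1)) k) M) n := by
  constructor
  · intro h
    let Q := res (R := MvPolynomial (Fin (r + 1)) k) (M := M) F.d F.aug F.aug_surjective
      F.exact_zero F.exact_succ
    apply hasProjectiveDimensionLT_of_isZero Q (n + 1)
    intro i hi
    have hrk : F.rk i = 0 := h i (by omega)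
    show IsZero (ModuleCat.of (MvPolynomial (Fin (r + 1)) k) (Fin (F.rk i) → MvPolynomial (Fin (r + 1)) k))
    rw [hrk]
    apply ModuleCat.isZero_of_subsingleton
  · intro h i hi
    have h1 := Groth.Agent.S15436.result k r M ℳ F hF i
    haveI : HasProjectiveDimensionLT (ModuleCat.of (MvPolynomial (Fin (r + 1)) k) M) (n + 1) := h
    have h2 := isZero_tor_of_hasProjectiveDimensionLT n (ModuleCat.of (MvPolynomial (Fin (r + 1)) k) M)
      (ModuleCat.of (MvPolynomial (Fin (r + 1)) k) ((MvPolynomial (Fin (r + 1)) k) ⧸ (GrSyz.irrel (GrSyz.stdGr k (Fin (r + 1)))).toIdeal)) i hi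
    have h3 : Subsingleton (T i (ModuleCat.of (MvPolynomial (Fin (r + 1)) k) ((MvPolynomial (Fin (r + 1)) k) ⧸ (GrSyz.irrel (GrSyz.stdGr k (Fin (r + 1)))).toIdeal)) (ModuleCat.of (MvPolynomial (Fin (r + 1)) k) M)) :=
      ModuleCat.subsingleton_of_isZero h2
    rw [Module.length_eq_zero_iff.2 h3] at h1
    exact_mod_cast h1.symm

end Aux

/-- Let k be a field, S = k[x_0, …, x_r] graded by degree, 𝔪 = (x_0, …, x_r), M a finitely generated
ℤ-graded S-module and F a minimal graded free resolution of M by free modules of finite rank with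
homogeneous bases (all matrix entries in 𝔪). Then the length of F is the projective dimension of M:
for every natural number n, all terms F_i with i > n vanish if and only if M has projective
dimension at most n as an S-module (all Ext^i_S(M, −) with i > n vanish). -/
theorem result (k : Type u) [Field k] (r : ℕ)
    (M : Type u) [AddCommGroup M] [Module k M] [Module (MvPolynomial (Fin (r + 1)) k) M]
    [IsScalarTower k (MvPolynomial (Fin (r + 1)) k) M] [Module.Finite (MvPolynomial (Fin (r + 1)) k) M]
    (ℳ : ℤ → Submodule k M) [DirectSum.Decomposition ℳ] [SetLike.GradedSMul (GrSyz.stdGr k (Fin (r + 1))) ℳ]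
    (F : GrSyz.FreeRes (GrSyz.stdGr k (Fin (r + 1))) ℳ) (hF : F.IsMinimal (GrSyz.irrel (GrSyz.stdGr k (Fin (r + 1)))).toIdeal) (n : ℕ) :
    F.HasLengthLE n ↔ CategoryTheory.HasProjectiveDimensionLE (ModuleCat.of (MvPolynomial (Fin (r + 1)) k) M) n := by
  exact Aux.main k r M ℳ F hF n

end Groth.Agent.S15430
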