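import Groth.Statements.S15431
import Mathlib
import Groth.Prelude.Def_GrSyz
import Groth.Agent.S15436
-- import your own Groth.Agent.* helpers here

set_option autoImplicit false
universe u
open GrSyz

namespace Groth.Agent.S15431

open CategoryTheory CategoryTheory.Limits
namespace Aux
open Groth.Agent.S15436.Aux MvPolynomial

/-- a nonzero homogeneous element of the irrelevant ideal has positive degree -/
lemma pos_of_mem_irrel (k : Type u) [Field k] (σ : Type) [Fintype σ] (p : MvPolynomial σ k) (n : ℤ)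
    (hp : p ∈ GrSyz.stdGr k σ n) (hm : p ∈ (GrSyz.irrel (GrSyz.stdGr k σ)).toIdeal) (h0 : p ≠ 0) :
    0 < n := by
  rw [irrel_eq, RingHom.mem_ker, constantCoeff_eq] at hm
  obtain ⟨m, hmc⟩ := MvPolynomial.ne_zero_iff.1 h0
  have hm0 : m ≠ 0 := by
    rintro rfl
    exact hmc hm
  have hw : Finsupp.weight (fun _ : σ => (1 : ℤ)) m = n := hp hmc
  obtain ⟨j, hj⟩ : ∃ j, m j ≠ 0 := by
    by_contra hcon
    push Not at hcon
    exact hm0 (Finsupp.ext hcon)
  rw [← hw, Finsupp.weight_apply, Finsupp.sum]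
  have hjs : j ∈ m.support := Finsupp.mem_support_iff.2 hj
  have h1 : (m j • (1 : ℤ)) ≤ ∑ a ∈ m.support, m a • (1 : ℤ) :=
    Finset.single_le_sum (f := fun a => m a • (1 : ℤ)) (fun a _ => by positivity) hjs
  have h2 : 0 < m j • (1 : ℤ) := by
    have : 0 < m j := Nat.pos_of_ne_zero hj
    simpa using this
  omega

theorem main (k : Type u) [Field k] (r : ℕ)
    (M : Type u) [AddCommGroup M] [Module k M] [Module (MvPolynomial (Fin (r + 1)) k) M]
    [IsScalarTower k (MvPolynomial (Fin (r + 1)) k) M] [Module.Finite (MvPolynomial (Fin (r + 1)) k) M]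
    (ℳ : ℤ → Submodule k M) [DirectSum.Decomposition ℳ] [SetLike.GradedSMul (GrSyz.stdGr k (Fin (r + 1))) ℳ]
    (F : GrSyz.FreeRes (GrSyz.stdGr k (Fin (r + 1))) ℳ) (hF : F.IsMinimal (GrSyz.irrel (GrSyz.stdGr k (Fin (r + 1)))).toIdeal) (i : ℕ) (d : ℤ)
    (h : ∀ a : Fin (F.rk i), d ≤ F.deg i a) (b : Fin (F.rk (i + 1))) :
    d + 1 ≤ F.deg (i + 1) b := by
  classical
  -- some entry of column b is nonzero
  obtain ⟨a, ha⟩ : ∃ a, F.d i a b ≠ 0 := by
    by_contra hcon
    push Not at hcon
    have hker : (Pi.single b 1 : Fin (F.rk (i + 1)) → MvPolynomial (Fin (r + 1)) k) ∈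
        LinearMap.ker (Matrix.mulVecLin (F.d i)) := by
      rw [LinearMap.mem_ker, Matrix.mulVecLin_apply, Matrix.mulVec_single_one]
      funext a
      exact hcon a
    rw [F.exact_succ i] at hker
    obtain ⟨w, hw⟩ := hker
    have h1 : (Matrix.mulVecLin (F.d (i + 1)) w) b = 1 := by
      rw [hw]; simp
    have h2 : (Matrix.mulVecLin (F.d (i + 1)) w) b ∈ (GrSyz.irrel (GrSyz.stdGr k (Fin (r + 1)))).toIdeal := by
      rw [Matrix.mulVecLin_apply]
      show ∑ c, F.d (i + 1) b c * w c ∈ _
      exact Ideal.sum_mem _ (fun c _ => Ideal.mul_mem_right _ _ (hF (i + 1) b c))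
    rw [h1] at h2
    exact (irrel_isMaximal k (Fin (r + 1))).ne_top ((Ideal.eq_top_iff_one _).2 h2)
  have hpos := pos_of_mem_irrel k (Fin (r + 1)) (F.d i a b) _ (F.d_mem i a b) (hF i a b) ha
  have := h a
  omega

end Aux

/-- Let k be a field, S = k[x_0, …, x_r] graded by degree, 𝔪 = (x_0, …, x_r), M a finitely generated
ℤ-graded S-module and F a minimal graded free resolution of M by free modules of finite rank with
homogeneous bases (all matrix entries in 𝔪), so that its basis degrees give the graded Betti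
numbers. If for some i the graded Betti numbers β_{i,j} vanish for all j < d, that is every basis
vector of F_i has degree at least d, then β_{i+1,j+1} = 0 for all j < d: every basis vector of
F_{i+1} has degree at least d + 1. -/
theorem result (k : Type u) [Field k] (r : ℕ)
    (M : Type u) [AddCommGroup M] [Module k M] [Module (MvPolynomial (Fin (r + 1)) k) M]
    [IsScalarTower k (MvPolynomial (Fin (r + 1)) k) M] [Module.Finite (MvPolynomial (Fin (r + 1)) k) M]
    (ℳ : ℤ → Submodule k M) [DirectSum.Decomposition ℳ] [SetLike.GradedSMul (GrSyz.stdGr k (Fin (r + 1))) ℳ]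
    (F : GrSyz.FreeRes (GrSyz.stdGr k (Fin (r + 1))) ℳ) (hF : F.IsMinimal (GrSyz.irrel (GrSyz.stdGr k (Fin (r + 1)))).toIdeal) (i : ℕ) (d : ℤ)
    (h : ∀ a : Fin (F.rk i), d ≤ F.deg i a) (b : Fin (F.rk (i + 1))) :
    d + 1 ≤ F.deg (i + 1) b := by
  exact Aux.main k r M ℳ F hF i d h b

end Groth.Agent.S15431
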