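import Groth.Statements.S15437
-- import your own Groth.Agent.* helpers here
import Groth.Agent.S15428
import Groth.Agent.Lib.Helper7.GrSyz.Betti

set_option autoImplicit false
universe u
open GrSyz

namespace Groth.Agent.S15437

/-- Let k be a field, S = k[x_0, …, x_r] graded by degree and M a ℤ-graded S-module with a finite graded
free resolution F of length at most m by free modules of finite rank with homogeneous bases; write
β_{i,j} for the number of basis vectors of F_i of degree j (the graded Betti numbers when F is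
minimal) and B_j = Σ_{i ≤ m} (−1)^i β_{i,j}. Then for every integer d, dim_k M_d = Σ_j B_j C(r + d −
j, r), where a binomial with d < j counts as zero and only finitely many j contribute; and the B_j
are recovered from the Hilbert function by B_j = dim_k M_j − Σ_{n < j} B_n C(r + j − n, r). (Stated
for any finite graded free resolution; the published statement takes the minimal one.) -/
theorem result (k : Type u) [Field k] (r : ℕ)
    (M : Type u) [AddCommGroup M] [Module k M] [Module (MvPolynomial (Fin (r + 1)) k) M]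
    [IsScalarTower k (MvPolynomial (Fin (r + 1)) k) M] [Module.Finite (MvPolynomial (Fin (r + 1)) k) M]
    (ℳ : ℤ → Submodule k M) [DirectSum.Decomposition ℳ] [SetLike.GradedSMul (GrSyz.stdGr k (Fin (r + 1))) ℳ]
    (F : GrSyz.FreeRes (GrSyz.stdGr k (Fin (r + 1))) ℳ) (m : ℕ) (hF : F.HasLengthLE m) :
    (∀ d : ℤ, (Module.finrank k ↥(ℳ d) : ℤ) =
        ∑ᶠ j : ℤ, (∑ i ∈ Finset.range (m + 1), (-1 : ℤ) ^ i * (F.betti i j : ℤ)) *
          (if j ≤ d then ((Nat.choose (r + (d - j).toNat) r : ℕ) : ℤ) else 0)) ∧
      ∀ j : ℤ, (∑ i ∈ Finset.range (m + 1), (-1 : ℤ) ^ i * (F.betti i j : ℤ)) =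
        (Module.finrank k ↥(ℳ j) : ℤ) -
          ∑ᶠ n : ℤ, (if n < j then (∑ i ∈ Finset.range (m + 1), (-1 : ℤ) ^ i * (F.betti i n : ℤ)) * ((Nat.choose (r + (j - n).toNat) r : ℕ) : ℤ) else 0) := by
  have hB : ∀ j : ℤ, (∑ i ∈ Finset.range (m + 1), (-1 : ℤ) ^ i * (F.betti i j : ℤ)) =
      Groth.Agent.Helper7.GrSyzHilb.B F m j := fun _ => rfl
  have key : ∀ (d : ℤ) (T : Finset ℤ), Groth.Agent.Helper7.GrSyzHilb.degs F m ⊆ T →
      (Module.finrank k ↥(ℳ d) : ℤ) = ∑ j ∈ T, Groth.Agent.Helper7.GrSyzHilb.B F m j *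
        (if j ≤ d then ((Nat.choose (r + (d - j).toNat) r : ℕ) : ℤ) else 0) := by
    intro d T hT
    rw [Groth.Agent.Helper7.GrSyzHilb.sum_B_mul F m T hT
      (fun j => if j ≤ d then ((Nat.choose (r + (d - j).toNat) r : ℕ) : ℤ) else 0)]
    exact Groth.Agent.S15428.result k r M ℳ F m hF d
  constructor
  · intro d
    simp_rw [hB]
    rw [Groth.Agent.Helper7.GrSyzHilb.finsum_B_mul F m
      (fun j => if j ≤ d then ((Nat.choose (r + (d - j).toNat) r : ℕ) : ℤ) else 0)]
    exact Groth.Agent.S15428.result k r M ℳ F m hF d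
  · intro j
    simp_rw [hB]
    classical
    set T : Finset ℤ := insert j (Groth.Agent.Helper7.GrSyzHilb.degs F m) with hTdef
    have hT : Groth.Agent.Helper7.GrSyzHilb.degs F m ⊆ T := Finset.subset_insert _ _
    have hjT : j ∈ T := Finset.mem_insert_self _ _
    have h1 := key j T hT
    have h2 : (∑ᶠ n : ℤ, (if n < j then Groth.Agent.Helper7.GrSyzHilb.B F m n *
        ((Nat.choose (r + (j - n).toNat) r : ℕ) : ℤ) else 0)) =
        ∑ n ∈ T, (if n < j then Groth.Agent.Helper7.GrSyzHilb.B F m n *
        ((Nat.choose (r + (j - n).toNat) r : ℕ) : ℤ) else 0) := by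
      apply finsum_eq_sum_of_support_subset
      intro n hn
      rw [Function.mem_support] at hn
      by_contra hnT
      apply hn
      have hnd : n ∉ Groth.Agent.Helper7.GrSyzHilb.degs F m := by
        intro h
        exact hnT (by simpa using hT h)
      rw [Groth.Agent.Helper7.GrSyzHilb.B_eq_zero F hnd]
      simp
    have h3 : ∀ n ∈ T, Groth.Agent.Helper7.GrSyzHilb.B F m n *
        (if n ≤ j then ((Nat.choose (r + (j - n).toNat) r : ℕ) : ℤ) else 0) =
        (if n = j then Groth.Agent.Helper7.GrSyzHilb.B F m j else 0) +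
        (if n < j then Groth.Agent.Helper7.GrSyzHilb.B F m n *
        ((Nat.choose (r + (j - n).toNat) r : ℕ) : ℤ) else 0) := by
      intro n _
      rcases lt_trichotomy n j with h | h | h
      · rw [if_pos h.le, if_neg h.ne, if_pos h, zero_add]
      · subst h
        simp
      · rw [if_neg (not_le.mpr h), if_neg h.ne', if_neg (not_lt.mpr h.le)]
        simp
    rw [Finset.sum_congr rfl h3, Finset.sum_add_distrib, Finset.sum_ite_eq' T j, if_pos hjT,
      ← h2] at h1
    rw [h1]
    ring

end Groth.Agent.S15437
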