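import Groth.Statements.S1544
import Mathlib
import Groth.Agent.S1543

set_option autoImplicit false
universe u
open CategoryTheory CategoryTheory.Limits AlgebraicGeometry
attribute [local instance] Curv2.resAlgebra Curv2.stalkAlgebra
open Variety

namespace Groth.Agent.S1544

section
open CategoryTheory CategoryTheory.Limits AlgebraicGeometry

open TensorProduct

theorem isGeomReducedAt_of_geometricallyReduced (k : Type u) [Field k] (X : Scheme.{u})
    [X.Over (Spec (CommRingCat.of k))] [GeometricallyReduced (X ↘ (Spec (CommRingCat.of k)))] (x : X) :
    Curv2.IsGeomReducedAt k X x := by
  intro K _ _ x' _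
  haveI : AlgebraicGeometry.IsReduced (Curv2.bc k X K) :=
    GeometricallyReduced.geometrically_isReduced _ _ _ (.of_hasPullback _ _)
  infer_instance

theorem main (k : Type u) [Field k] (X : Scheme.{u}) [X.Over (Spec (CommRingCat.of k))] [IsIntegral X] :
    GeometricallyReduced (X ↘ (Spec (CommRingCat.of k))) ↔ Algebra.IsGeometricallyReduced k X.functionField := by
  constructor
  · intro h
    exact (Groth.Agent.S1541.main k X (genericPoint X)).mp
      (isGeomReducedAt_of_geometricallyReduced k X _)
  · intro h
    apply Groth.Agent.S1543.main k X
    intro Z hZ η hη
    have hZ' : Z = Set.univ := by
      rw [irreducibleComponents_eq_singleton] at hZ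
      exact hZ
    have h1 : η = genericPoint X := by
      apply IsGenericPoint.eq (S := Set.univ)
      · rw [← hZ']; exact hη
      · exact genericPoint_spec X
    rw [h1]
    exact (Groth.Agent.S1541.main k X (genericPoint X)).mpr h


end


/-- For an integral scheme over k, geometric reducedness of the scheme is equivalent to geometric
reducedness over k of the function field (the local ring at the generic point), i.e. a separable
extension of k in the sense of commutative algebra. The source states this for varieties;
integrality is what the proof uses. -/
theorem result (k : Type u) [Field k] (X : Scheme.{u}) [X.Over (Spec (CommRingCat.of k))] [IsIntegral X] :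
    GeometricallyReduced (X ↘ (Spec (CommRingCat.of k))) ↔ Algebra.IsGeometricallyReduced k X.functionField := by
  classical
  exact main k X

end Groth.Agent.S1544
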