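import Groth.Statements.S15442
import Mathlib
import Groth.Agent.Lib.Helper5.Misc.WeilLib

set_option autoImplicit false
universe u v
open CategoryTheory AlgebraicGeometry
open WeilCoh



namespace Groth.Agent.S15442

/-- Let H^* be a Weil cohomology theory, with coefficient field K of characteristic zero, on nonsingular
connected projective varieties over the algebraically closed field k, and X such a variety. Then the
structure morphism K → H^0(X) is an isomorphism: c ↦ c · 1 is a bijection from K onto the degree-0
part of the cohomology ring. -/
theorem result (k : Type u) [Field k] [IsAlgClosed k] (K : Type v) [Field K] [CharZero K]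
    (T : WeilCoh.Theory k K) (X : WeilCoh.Var k) :
    Function.Bijective (fun c : K =>
      (⟨c • (1 : T.H X), (T.gr X 0).smul_mem c (SetLike.one_mem_graded (T.gr X))⟩ : ↥(T.gr X 0))) := by
  exact Groth.Agent.Lib.Helper5.Misc.WeilLib.gr_zero_bijective T X

end Groth.Agent.S15442
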