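import Groth.Statements.S15443
import Mathlib
import Groth.Agent.Lib.Helper5.Misc.WeilGen

set_option autoImplicit false
universe u v
open CategoryTheory AlgebraicGeometry
open WeilCoh



namespace Groth.Agent.S15443

/-- For a Weil cohomology theory H^* (coefficients in K of characteristic zero, on nonsingular connected
projective varieties over an algebraically closed field k) and such a variety X, the class cl(X) ∈
H^0(X) of X as a closed subvariety of itself equals 1; here cl(X) is the class attached to the
generic point of X. -/
theorem result (k : Type u) [Field k] [IsAlgClosed k] (K : Type v) [Field K] [CharZero K]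
    (T : WeilCoh.Theory k K) (X : WeilCoh.Var k) [IrreducibleSpace ↥X.obj.left] :
    T.cl X (genericPoint ↥X.obj.left) = 1 := by
  exact Groth.Agent.Lib.Helper5.Misc.WeilGen.cl_genericPoint T X

end Groth.Agent.S15443
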