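import Groth.Statements.S4621
import Mathlib
import Groth.Agent.S2502

set_option autoImplicit false
open CategoryTheory AlgebraicGeometry
universe u
open FBase

namespace Groth.Agent.S4621

section
open CategoryTheory AlgebraicGeometry
open FBase

open CategoryTheory.Limits

theorem isConnected_preimage_connectedComponent {k : Type u} [Field k] {X : Scheme.{u}}
    (f : X ⟶ Spec (CommRingCat.of k)) (s : X) (C : Set ↥(Groth.Agent.S2502.bc f (SeparableClosure k)))
    (hC : _root_.IsConnected C) (hs : ⇑(Groth.Agent.S2502.bcπ f (SeparableClosure k)) ⁻¹' {s} ⊆ C)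
    (hCT : C ⊆ ⇑(Groth.Agent.S2502.bcπ f (SeparableClosure k)) ⁻¹' connectedComponent s)
    (K : Type u) [Field K] [Algebra k K] :
    _root_.IsConnected (⇑(Groth.Agent.S2502.bcπ f K) ⁻¹' connectedComponent s) := by
  apply Groth.Agent.S2502.isConnected_preimage_of_sepClosure
  refine ⟨hC.1.mono hCT, ?_⟩
  exact Groth.Agent.S2502.isPreconnected_preimage_of_open_closed (Groth.Agent.S2502.bcπ f (SeparableClosure k)).continuous
    (Groth.Agent.S2502.isOpenMap_bcπ f _) (Groth.Agent.S2502.isClosedMap_bcπ f _) isPreconnected_connectedComponent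
    mem_connectedComponent hC.2 hs hCT

theorem main {k K : Type u} [Field k] [Field K] [Algebra k K]
    {X Y : Scheme.{u}} (f : X ⟶ Spec (CommRingCat.of k)) (g : Y ⟶ Spec (CommRingCat.of k)) (h : Y ⟶ X) (w : h ≫ f = g)
    [GeometricallyConnected g] (y : Y) :
    _root_.IsConnected (⇑(FBase.bcπ f K) ⁻¹' connectedComponent (h y)) := by
  subst w
  haveI hYs : ConnectedSpace ↥(Groth.Agent.S2502.bc (h ≫ f) (SeparableClosure k)) :=
    GeometricallyConnected.geometrically_connectedSpace _ _ _ (.of_hasPullback _ _)
  haveI : ConnectedSpace Y := GeometricallyConnected.connectedSpace_of_subsingleton (f := h ≫ f)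
  obtain ⟨gs, hgs⟩ := Groth.Agent.S2502.exists_bcMap h f (SeparableClosure k)
  have hC : _root_.IsConnected (Set.range gs) := by
    rw [← Set.image_univ]
    exact (isConnected_univ).image _ gs.continuous.continuousOn
  have hs : ⇑(Groth.Agent.S2502.bcπ f (SeparableClosure k)) ⁻¹' {h y} ⊆ Set.range gs := by
    intro z hz
    obtain ⟨w, hw, -⟩ := Groth.Agent.S2502.exists_preimage_of_isPullback hgs z y hz
    exact ⟨w, hw⟩
  have hCT : Set.range gs ⊆ ⇑(Groth.Agent.S2502.bcπ f (SeparableClosure k)) ⁻¹' connectedComponent (h y) := by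
    rintro _ ⟨w, rfl⟩
    show (Groth.Agent.S2502.bcπ f (SeparableClosure k)) (gs w) ∈ connectedComponent (h y)
    have e : (Groth.Agent.S2502.bcπ f (SeparableClosure k)) (gs w) = h ((Groth.Agent.S2502.bcπ (h ≫ f) (SeparableClosure k)) w) := by
      rw [← Scheme.Hom.comp_apply, ← Scheme.Hom.comp_apply, hgs.w]
    rw [e]
    have himg : _root_.IsPreconnected (Set.range h) := by
      rw [← Set.image_univ]
      exact (isPreconnected_univ).image _ h.continuous.continuousOn
    exact himg.subset_connectedComponent ⟨y, rfl⟩ ⟨_, rfl⟩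
  exact isConnected_preimage_connectedComponent f (h y) _ hC hs hCT K


end


/-- Let h : Y → X be a morphism of schemes over a field k, with Y nonempty and geometrically connected
over k. Then the connected component of X containing the (connected) image h(Y) is geometrically
connected: for every extension field K of k, the inverse image in X ⊗_k K of the connected component
of h(y), for a point y of Y, is connected. -/
theorem result {k K : Type u} [Field k] [Field K] [Algebra k K]
    {X Y : Scheme.{u}} (f : X ⟶ Spec (CommRingCat.of k)) (g : Y ⟶ Spec (CommRingCat.of k)) (h : Y ⟶ X) (w : h ≫ f = g)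
    [GeometricallyConnected g] (y : Y) :
    _root_.IsConnected (⇑(FBase.bcπ f K) ⁻¹' connectedComponent (h y)) := by
  classical
  exact main f g h w y

end Groth.Agent.S4621
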