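import Groth.Statements.S4645
import Mathlib
import Groth.Agent.S4621
import Groth.Agent.S4619
import Groth.Agent.S7591

set_option autoImplicit false
open CategoryTheory AlgebraicGeometry
universe u
open FBase

namespace Groth.Agent.S4645

section
open CategoryTheory AlgebraicGeometry

open CategoryTheory.Limits

/-- if a finite set meets every nonempty clopen, it meets every connected component. -/
theorem exists_mem_connectedComponent_of_finite {α : Type*} [TopologicalSpace α] {F : Set α}
    (hF : F.Finite) (h : ∀ V : Set α, IsClopen V → V.Nonempty → (V ∩ F).Nonempty) (w : α) :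
    (connectedComponent w ∩ F).Nonempty := by
  classical
  let V : α → Set α := fun a =>
    if h : ∃ V : Set α, IsClopen V ∧ w ∈ V ∧ a ∉ V then h.choose else Set.univ
  have hVclopen : ∀ a, IsClopen (V a) := by
    intro a
    by_cases h : ∃ V : Set α, IsClopen V ∧ w ∈ V ∧ a ∉ V
    · simp only [V, dif_pos h]; exact h.choose_spec.1
    · simp only [V, dif_neg h]; exact isClopen_univ
  have hVw : ∀ a, w ∈ V a := by
    intro a
    by_cases h : ∃ V : Set α, IsClopen V ∧ w ∈ V ∧ a ∉ V
    · simp only [V, dif_pos h]; exact h.choose_spec.2.1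
    · simp only [V, dif_neg h]; exact Set.mem_univ _
  have hVa : ∀ a, (∃ V : Set α, IsClopen V ∧ w ∈ V ∧ a ∉ V) → a ∉ V a := by
    intro a h
    simp only [V, dif_pos h]; exact h.choose_spec.2.2
  let V₀ : Set α := ⋂ a ∈ F, V a
  have hV₀ : IsClopen V₀ := hF.isClopen_biInter (fun a _ => hVclopen a)
  have hwV₀ : w ∈ V₀ := Set.mem_iInter₂.mpr (fun a _ => hVw a)
  have hpre : _root_.IsPreconnected V₀ := by
    rw [isPreconnected_iff_preconnectedSpace, preconnectedSpace_iff_clopen]
    have key : ∀ s : Set ↥V₀, IsClopen s → (⟨w, hwV₀⟩ : ↥V₀) ∈ s → s = Set.univ := by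
      intro s hs hws
      by_contra hne
      have hne' : (sᶜ).Nonempty := by
        rw [Set.nonempty_compl]; exact hne
      have ht : IsClopen (Subtype.val '' sᶜ : Set α) :=
        ⟨hV₀.1.isClosedMap_subtype_val _ hs.compl.1, hV₀.2.isOpenMap_subtype_val _ hs.compl.2⟩
      obtain ⟨b, ⟨b', hb's, rfl⟩, hbF⟩ := h _ ht (hne'.image _)
      have hs' : IsClopen (Subtype.val '' s : Set α) :=
        ⟨hV₀.1.isClosedMap_subtype_val _ hs.1, hV₀.2.isOpenMap_subtype_val _ hs.2⟩
      have hex : ∃ V : Set α, IsClopen V ∧ w ∈ V ∧ (b' : α) ∉ V := by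
        refine ⟨_, hs', ⟨⟨w, hwV₀⟩, hws, rfl⟩, ?_⟩
        rintro ⟨c, hcs, hcb⟩
        have : c = b' := Subtype.ext hcb
        exact hb's (this ▸ hcs)
      exact hVa _ hex (Set.mem_iInter₂.mp b'.2 _ hbF)
    intro s hs
    by_cases hws : (⟨w, hwV₀⟩ : ↥V₀) ∈ s
    · exact Or.inr (key s hs hws)
    · left
      have := key sᶜ hs.compl hws
      rwa [Set.compl_univ_iff] at this
  obtain ⟨b, hb, hbF⟩ := h V₀ hV₀ ⟨w, hwV₀⟩
  exact ⟨b, hpre.subset_connectedComponent hwV₀ hb, hbF⟩

theorem exists_mem_connectedComponent_fibre {α β : Type*} [TopologicalSpace α]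
    [TopologicalSpace β] {p : α → β} (hc : Continuous p) (ho : IsOpenMap p) (hcl : IsClosedMap p)
    (x' : α) (x : β) (hx : x ∈ connectedComponent (p x')) (hfin : (p ⁻¹' {x}).Finite) :
    ∃ z ∈ connectedComponent x', p z = x := by
  let T : Set β := connectedComponent (p x')
  haveI : ConnectedSpace T := isConnected_iff_connectedSpace.mp isConnected_connectedComponent
  let pT : p ⁻¹' T → T := T.restrictPreimage p
  have hpTc : Continuous pT := hc.restrictPreimage
  have hpTo : IsOpenMap pT := ho.restrictPreimage T
  have hpTcl : IsClosedMap pT := hcl.restrictPreimage T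
  let F : Set (p ⁻¹' T) := Subtype.val ⁻¹' (p ⁻¹' {x})
  have hF : F.Finite := hfin.preimage Subtype.val_injective.injOn
  have hmeet : ∀ V : Set (p ⁻¹' T), IsClopen V → V.Nonempty → (V ∩ F).Nonempty := by
    intro V hV hVne
    have h1 : IsClopen (pT '' V) := ⟨hpTcl _ hV.1, hpTo _ hV.2⟩
    have h2 : pT '' V = Set.univ := h1.eq_univ (hVne.image _)
    have h3 : (⟨x, hx⟩ : T) ∈ pT '' V := h2 ▸ Set.mem_univ _
    obtain ⟨v, hvV, hv⟩ := h3
    refine ⟨v, hvV, ?_⟩
    show p v.1 = x
    exact congrArg Subtype.val hv
  obtain ⟨z, hz, hzF⟩ := exists_mem_connectedComponent_of_finite hF hmeet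
    (⟨x', mem_connectedComponent⟩ : p ⁻¹' T)
  refine ⟨z.1, ?_, hzF⟩
  exact (continuous_subtype_val.image_connectedComponent_subset _) ⟨z, hz, rfl⟩

theorem exists_algHom_compat {k K₀ k'' L' : Type*} [Field k] [Field K₀] [Algebra k K₀]
    [Field k''] [Algebra k k''] [Normal k k''] [Field L']
    (σ₀ : separableClosure k K₀ →ₐ[k] k'') (a : K₀ →+* L') (b : k'' →+* L')
    (hab : a.comp (algebraMap k K₀) = b.comp (algebraMap k k'')) :
    ∃ σ : separableClosure k K₀ →ₐ[k] k'', ∀ y : separableClosure k K₀, a y = b (σ y) := by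
  classical
  have hmem : ∀ y : separableClosure k K₀, a y ∈ b.range := by
    intro y
    have hy : IsIntegral k y := Algebra.IsIntegral.isIntegral y
    have hsp : ((minpoly k y).map (algebraMap k k'')).Splits := by
      have h1 := Normal.splits (inferInstance : Normal k k'') (σ₀ y)
      rwa [minpoly.algHom_eq σ₀ σ₀.injective] at h1
    refine hsp.mem_range_of_isRoot (Polynomial.map_ne_zero (minpoly.ne_zero hy)) ?_
    rw [Polynomial.IsRoot, Polynomial.map_map, ← hab, ← Polynomial.map_map,
      Polynomial.eval_map, Polynomial.eval₂_hom]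
    have h2 : Polynomial.eval (y : K₀) ((minpoly k y).map (algebraMap k K₀)) = 0 := by
      rw [Polynomial.eval_map_algebraMap]
      have := minpoly.aeval k y
      have h3 := congrArg (algebraMap (separableClosure k K₀) K₀) this
      rwa [← Polynomial.aeval_algebraMap_apply, map_zero] at h3
    rw [h2, map_zero]
  choose r hr using hmem
  have hbinj : Function.Injective b := b.injective
  refine ⟨{ toFun := r
            map_one' := hbinj (by rw [hr]; simp)
            map_mul' := fun y y' => hbinj (by rw [hr, map_mul, hr, hr]; simp)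
            map_zero' := hbinj (by rw [hr]; simp)
            map_add' := fun y y' => hbinj (by rw [hr, map_add, hr, hr]; simp)
            commutes' := fun c => hbinj (by
              rw [hr]
              have := congrArg (fun g => g c) hab
              simpa using this) }, fun y => (hr y).symm⟩

theorem exists_normal_field {k : Type u} [Field k] {ι : Type*} [Finite ι] (E : ι → Type u)
    [∀ i, Field (E i)] [∀ i, Algebra k (E i)] [∀ i, FiniteDimensional k (E i)]
    [∀ i, Algebra.IsSeparable k (E i)] :
    ∃ (k'' : Type u) (_ : Field k'') (_ : Algebra k k''), FiniteDimensional k k'' ∧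
      Algebra.IsSeparable k k'' ∧ Normal k k'' ∧ ∀ i, Nonempty (E i →ₐ[k] k'') := by
  classical
  let Ω := SeparableClosure k
  let F : ι → IntermediateField k Ω := fun i => IntermediateField.normalClosure k (E i) Ω
  let k'' : IntermediateField k Ω := ⨆ i, F i
  haveI : ∀ i, FiniteDimensional k (F i) := fun i => normalClosure.is_finiteDimensional k (E i) Ω
  haveI : ∀ i, Normal k (F i) := fun i => normalClosure.normal k (E i) Ω
  refine ⟨k'', inferInstance, inferInstance,
    IntermediateField.finiteDimensional_iSup_of_finite, inferInstance,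
    IntermediateField.normal_iSup k Ω F, fun i => ?_⟩
  let j : E i →ₐ[k] Ω := IsSepClosed.lift
  have hj : ∀ y, j y ∈ k'' := fun y =>
    (le_iSup F i) ((AlgHom.fieldRange_le_normalClosure j) ⟨y, rfl⟩)
  exact ⟨AlgHom.codRestrict j k''.toSubalgebra hj⟩

theorem isConnected_preimage_of_point {k k'' : Type u} [Field k] [Field k''] [Algebra k k'']
    [Normal k k''] {X : Scheme.{u}} (f : X ⟶ Spec (CommRingCat.of k)) (z : ↥(FBase.bc f k''))
    (φ : k →+* X.residueField ((FBase.bcπ f k'') z))
    (hφ : Spec.map (CommRingCat.ofHom φ) = X.fromSpecResidueField _ ≫ f)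
    (σ₀ : letI := φ.toAlgebra
      separableClosure k (X.residueField ((FBase.bcπ f k'') z)) →ₐ[k] k'')
    (K : Type u) [Field K] [Algebra k'' K] :
    _root_.IsConnected (⇑(FBase.bcπ (FBase.bcStr f k'') K) ⁻¹' connectedComponent z) := by
  letI := φ.toAlgebra
  let p := FBase.bcπ f k''
  let x : X := p z
  let a : X.residueField x →+* (FBase.bc f k'').residueField z := (p.residueFieldMap z).hom
  let b : k'' →+* (FBase.bc f k'').residueField z :=
    (Spec.preimage ((FBase.bc f k'').fromSpecResidueField z ≫ FBase.bcStr f k'')).hom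
  have hb : Spec.map (CommRingCat.ofHom b) =
      (FBase.bc f k'').fromSpecResidueField z ≫ FBase.bcStr f k'' := by
    show Spec.map (CommRingCat.ofHom (Spec.preimage _).hom) = _
    rw [CommRingCat.ofHom_hom, Spec.map_preimage]
  have ha : Spec.map (CommRingCat.ofHom a) ≫ X.fromSpecResidueField x =
      (FBase.bc f k'').fromSpecResidueField z ≫ p :=
    Scheme.Hom.SpecMap_residueFieldMap_fromSpecResidueField p z
  have hab : a.comp (algebraMap k (X.residueField x)) = b.comp (algebraMap k k'') := by
    have h1 : Spec.map (CommRingCat.ofHom (a.comp (algebraMap k (X.residueField x)))) =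
        Spec.map (CommRingCat.ofHom (b.comp (algebraMap k k''))) := by
      rw [CommRingCat.ofHom_comp, CommRingCat.ofHom_comp, Spec.map_comp, Spec.map_comp, hb]
      show Spec.map (CommRingCat.ofHom a) ≫ Spec.map (CommRingCat.ofHom φ) = _
      rw [hφ, ← Category.assoc, ha, Category.assoc, Category.assoc]
      congr 1
      exact pullback.condition
    have h2 := Spec.map_injective h1
    exact congrArg CommRingCat.Hom.hom h2
  obtain ⟨σ, hσ⟩ := exists_algHom_compat σ₀ a b hab
  let kc := separableClosure k (X.residueField x)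
  let g₁ : Spec (CommRingCat.of (X.residueField x)) ⟶ Spec (CommRingCat.of kc) :=
    Spec.map (CommRingCat.ofHom (algebraMap kc (X.residueField x)))
  let g₂ : Spec (CommRingCat.of k'') ⟶ Spec (CommRingCat.of kc) :=
    Spec.map (CommRingCat.ofHom σ.toRingHom)
  haveI : GeometricallyConnected g₁ :=
    Groth.Agent.S4619.geomConn_spec_of_separableClosure_eq_bot kc (X.residueField x)
      (separableClosure.separableClosure_eq_bot k (X.residueField x))
  let Y := pullback g₁ g₂
  -- the map Y → X_{k''}
  have hcomm : (pullback.fst g₁ g₂ ≫ X.fromSpecResidueField x) ≫ f =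
      pullback.snd g₁ g₂ ≫ Spec.map (CommRingCat.ofHom (algebraMap k k'')) := by
    rw [Category.assoc, ← hφ]
    have e1 : Spec.map (CommRingCat.ofHom φ) =
        g₁ ≫ Spec.map (CommRingCat.ofHom (algebraMap k kc)) := by
      rw [← Spec.map_comp, ← CommRingCat.ofHom_comp]
      rfl
    have e2 : Spec.map (CommRingCat.ofHom (algebraMap k k'')) =
        g₂ ≫ Spec.map (CommRingCat.ofHom (algebraMap k kc)) := by
      rw [← Spec.map_comp, ← CommRingCat.ofHom_comp]
      congr 2
      ext c
      exact (σ.commutes c).symm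
    rw [e1, e2, ← Category.assoc, ← Category.assoc, pullback.condition]
  let h : Y ⟶ FBase.bc f k'' :=
    pullback.lift (pullback.fst g₁ g₂ ≫ X.fromSpecResidueField x) (pullback.snd g₁ g₂) hcomm
  have hw : h ≫ FBase.bcStr f k'' = pullback.snd g₁ g₂ := pullback.lift_snd _ _ _
  have hh1 : h ≫ p = pullback.fst g₁ g₂ ≫ X.fromSpecResidueField x := pullback.lift_fst _ _ _
  -- the point
  have hcomm2 : Spec.map (CommRingCat.ofHom a) ≫ g₁ = Spec.map (CommRingCat.ofHom b) ≫ g₂ := by
    rw [← Spec.map_comp, ← Spec.map_comp, ← CommRingCat.ofHom_comp, ← CommRingCat.ofHom_comp]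
    congr 2
    ext y
    exact hσ y
  let v : Spec (CommRingCat.of ((FBase.bc f k'').residueField z)) ⟶ Y :=
    pullback.lift _ _ hcomm2
  have hv : v ≫ h = (FBase.bc f k'').fromSpecResidueField z := by
    apply pullback.hom_ext
    · show (v ≫ h) ≫ p = _ ≫ p
      rw [Category.assoc, hh1, ← Category.assoc, pullback.lift_fst, ha]
    · show (v ≫ h) ≫ FBase.bcStr f k'' = _ ≫ FBase.bcStr f k''
      rw [Category.assoc, hw, pullback.lift_snd, hb]
  let pt : Spec (CommRingCat.of ((FBase.bc f k'').residueField z)) := default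
  have hz : h (v pt) = z := by
    rw [← Scheme.Hom.comp_apply, hv, Scheme.fromSpecResidueField_apply]
  have := Groth.Agent.S4621.main (K := K) (FBase.bcStr f k'') (pullback.snd g₁ g₂) h hw (v pt)
  rwa [hz] at this

theorem isConnected_preimage_of_point' {k k'' : Type u} [Field k] [Field k''] [Algebra k k'']
    [Normal k k''] {X : Scheme.{u}} (f : X ⟶ Spec (CommRingCat.of k)) (z : ↥(FBase.bc f k''))
    (x : X) (hzx : (FBase.bcπ f k'') z = x)
    (φ : k →+* X.residueField x)
    (hφ : Spec.map (CommRingCat.ofHom φ) = X.fromSpecResidueField _ ≫ f)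
    (σ₀ : letI := φ.toAlgebra
      separableClosure k (X.residueField x) →ₐ[k] k'')
    (K : Type u) [Field K] [Algebra k'' K] :
    _root_.IsConnected (⇑(FBase.bcπ (FBase.bcStr f k'') K) ⁻¹' connectedComponent z) := by
  subst hzx
  exact isConnected_preimage_of_point f z φ hφ σ₀ K

theorem finite_fibre_bcπ {k k'' : Type u} [Field k] [Field k''] [Algebra k k'']
    [FiniteDimensional k k''] {X : Scheme.{u}} (f : X ⟶ Spec (CommRingCat.of k)) (x : X) :
    (⇑(FBase.bcπ f k'') ⁻¹' {x}).Finite := by
  haveI : IsFinite (Spec.map (CommRingCat.ofHom (algebraMap k k''))) := by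
    rw [IsFinite.SpecMap_iff]
    exact RingHom.finite_algebraMap.mpr inferInstance
  haveI : IsFinite (FBase.bcπ f k'') :=
    MorphismProperty.pullback_fst (P := @IsFinite) f _ inferInstance
  exact (FBase.bcπ f k'').finite_preimage_singleton _

theorem main {k : Type u} [Field k] {X : Scheme.{u}}
    (f : X ⟶ Spec (CommRingCat.of k)) [Finite (_root_.ConnectedComponents ↥X)]
    (hx : ∀ c : _root_.ConnectedComponents ↥X, ∃ x : X, _root_.ConnectedComponents.mk x = c ∧
      FBase.ResidueFieldProp f x (fun K _ _ => FiniteDimensional k (separableClosure k K))) :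
    ∃ (k'' : Type u) (_ : Field k'') (_ : Algebra k k''), FiniteDimensional k k'' ∧ Algebra.IsSeparable k k'' ∧
      ∀ (K : Type u) [Field K] [Algebra k'' K] (x' : ↥(FBase.bc f k'')),
        _root_.IsConnected (⇑(FBase.bcπ (FBase.bcStr f k'') K) ⁻¹' connectedComponent x') := by
  classical
  choose xc hxc hP using hx
  choose φ hφ hfd using hP
  let E : _root_.ConnectedComponents ↥X → Type u := fun c =>
    letI := (φ c).toAlgebra
    ↥(separableClosure k (X.residueField (xc c)))
  letI iF : ∀ c, Field (E c) := fun c => by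
    letI := (φ c).toAlgebra
    exact inferInstanceAs (Field ↥(separableClosure k (X.residueField (xc c))))
  letI iA : ∀ c, Algebra k (E c) := fun c => by
    letI := (φ c).toAlgebra
    exact inferInstanceAs (Algebra k ↥(separableClosure k (X.residueField (xc c))))
  haveI iFD : ∀ c, FiniteDimensional k (E c) := fun c => hfd c
  haveI iS : ∀ c, Algebra.IsSeparable k (E c) := fun c => by
    letI := (φ c).toAlgebra
    exact inferInstanceAs (Algebra.IsSeparable k ↥(separableClosure k (X.residueField (xc c))))
  obtain ⟨k'', _, _, hfin, hsep, hnorm, hemb⟩ := exists_normal_field (k := k) E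
  refine ⟨k'', inferInstance, inferInstance, hfin, hsep, ?_⟩
  intro K _ _ x'
  let p := FBase.bcπ f k''
  let c := _root_.ConnectedComponents.mk (p x')
  have hxT : xc c ∈ connectedComponent (p x') := ConnectedComponents.coe_eq_coe'.mp (hxc c)
  haveI : Algebra.IsAlgebraic k k'' := Algebra.IsAlgebraic.of_finite k k''
  obtain ⟨z, hz, hzx⟩ := exists_mem_connectedComponent_fibre p.continuous
    (Groth.Agent.S2502.isOpenMap_bcπ f k'') (Groth.Agent.S2502.isClosedMap_bcπ f k'') x' (xc c) hxT
    (finite_fibre_bcπ f (xc c))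
  have := isConnected_preimage_of_point' f z (xc c) hzx (φ c) (hφ c) (hemb c).some K
  rwa [connectedComponent_eq hz]


end


/-- Let X be a scheme over a field k with finitely many connected components, each of which contains a
point x such that the separable algebraic closure of k in κ(x) has finite degree over k. Then there
is a finite separable extension k'' of k such that all connected components of X ⊗_k k'' are
geometrically connected over k'': for every extension field K of k'' and every point x' of X ⊗_k
k'', the inverse image in (X ⊗_k k'') ⊗_{k''} K of the connected component of x' is connected. -/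
theorem result {k : Type u} [Field k] {X : Scheme.{u}}
    (f : X ⟶ Spec (CommRingCat.of k)) [Finite (_root_.ConnectedComponents ↥X)]
    (hx : ∀ c : _root_.ConnectedComponents ↥X, ∃ x : X, _root_.ConnectedComponents.mk x = c ∧
      FBase.ResidueFieldProp f x (fun K _ _ => FiniteDimensional k (separableClosure k K))) :
    ∃ (k'' : Type u) (_ : Field k'') (_ : Algebra k k''), FiniteDimensional k k'' ∧ Algebra.IsSeparable k k'' ∧
      ∀ (K : Type u) [Field K] [Algebra k'' K] (x' : ↥(FBase.bc f k'')),
        _root_.IsConnected (⇑(FBase.bcπ (FBase.bcStr f k'') K) ⁻¹' connectedComponent x') := by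
  classical
  exact main f hx

end Groth.Agent.S4645
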