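import Groth.Statements.S4646
import Mathlib
import Groth.Agent.S4645
import Groth.Agent.S1540

set_option autoImplicit false
open CategoryTheory AlgebraicGeometry
universe u
open FBase

namespace Groth.Agent.S4646

section
open CategoryTheory AlgebraicGeometry

open CategoryTheory.Limits

/-- the geometrically irreducible (and connected) `k''`-scheme through a given point. -/
theorem exists_geomIrr_through_point {k k'' : Type u} [Field k] [Field k''] [Algebra k k'']
    [Normal k k''] {X : Scheme.{u}} (f : X ⟶ Spec (CommRingCat.of k)) (z : ↥(FBase.bc f k''))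
    (φ : k →+* X.residueField ((FBase.bcπ f k'') z))
    (hφ : Spec.map (CommRingCat.ofHom φ) = X.fromSpecResidueField _ ≫ f)
    (σ₀ : letI := φ.toAlgebra
      separableClosure k (X.residueField ((FBase.bcπ f k'') z)) →ₐ[k] k'') :
    ∃ (Y : Scheme.{u}) (g : Y ⟶ Spec (CommRingCat.of k'')) (h : Y ⟶ FBase.bc f k''),
      h ≫ FBase.bcStr f k'' = g ∧ GeometricallyIrreducible g ∧ GeometricallyConnected g ∧
        z ∈ Set.range h := by
  letI := φ.toAlgebra
  let p := FBase.bcπ f k''
  let x : X := p z
  let a : X.residueField x →+* (FBase.bc f k'').residueField z := (p.residueFieldMap z).hom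
  let b : k'' →+* (FBase.bc f k'').residueField z :=
    (Spec.preimage ((FBase.bc f k'').fromSpecResidueField z ≫ FBase.bcStr f k'')).hom
  have hb : Spec.map (CommRingCat.ofHom b) =
      (FBase.bc f k'').fromSpecResidueField z ≫ FBase.bcStr f k'' := by
    show Spec.map (CommRingCat.ofHom (Spec.preimage _).hom) = _
    rw [CommRingCat.ofHom_hom, Spec.map_preimage]
  have ha : Spec.map (CommRingCat.ofHom a) ≫ X.fromSpecResidueField x =
      (FBase.bc f k'').fromSpecResidueField z ≫ p :=
    Scheme.Hom.SpecMap_residueFieldMap_fromSpecResidueField p z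
  have hab : a.comp (algebraMap k (X.residueField x)) = b.comp (algebraMap k k'') := by
    have h1 : Spec.map (CommRingCat.ofHom (a.comp (algebraMap k (X.residueField x)))) =
        Spec.map (CommRingCat.ofHom (b.comp (algebraMap k k''))) := by
      rw [CommRingCat.ofHom_comp, CommRingCat.ofHom_comp, Spec.map_comp, Spec.map_comp, hb]
      show Spec.map (CommRingCat.ofHom a) ≫ Spec.map (CommRingCat.ofHom φ) = _
      rw [hφ, ← Category.assoc, ha, Category.assoc, Category.assoc]
      congr 1
      exact pullback.condition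
    have h2 := Spec.map_injective h1
    exact congrArg CommRingCat.Hom.hom h2
  obtain ⟨σ, hσ⟩ := Groth.Agent.S4645.exists_algHom_compat σ₀ a b hab
  let kc := separableClosure k (X.residueField x)
  let g₁ : Spec (CommRingCat.of (X.residueField x)) ⟶ Spec (CommRingCat.of kc) :=
    Spec.map (CommRingCat.ofHom (algebraMap kc (X.residueField x)))
  let g₂ : Spec (CommRingCat.of k'') ⟶ Spec (CommRingCat.of kc) :=
    Spec.map (CommRingCat.ofHom σ.toRingHom)
  haveI : GeometricallyConnected g₁ :=
    Groth.Agent.S4619.geomConn_spec_of_separableClosure_eq_bot kc (X.residueField x)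
      (separableClosure.separableClosure_eq_bot k (X.residueField x))
  haveI : GeometricallyIrreducible g₁ :=
    Groth.Agent.S4619.geomIrr_spec_of_separableClosure_eq_bot kc (X.residueField x)
      (separableClosure.separableClosure_eq_bot k (X.residueField x))
  let Y := pullback g₁ g₂
  have hcomm : (pullback.fst g₁ g₂ ≫ X.fromSpecResidueField x) ≫ f =
      pullback.snd g₁ g₂ ≫ Spec.map (CommRingCat.ofHom (algebraMap k k'')) := by
    rw [Category.assoc, ← hφ]
    have e1 : Spec.map (CommRingCat.ofHom φ) =
        g₁ ≫ Spec.map (CommRingCat.ofHom (algebraMap k kc)) := by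
      rw [← Spec.map_comp, ← CommRingCat.ofHom_comp]
      rfl
    have e2 : Spec.map (CommRingCat.ofHom (algebraMap k k'')) =
        g₂ ≫ Spec.map (CommRingCat.ofHom (algebraMap k kc)) := by
      rw [← Spec.map_comp, ← CommRingCat.ofHom_comp]
      congr 2
      ext c
      exact (σ.commutes c).symm
    rw [e1, e2, ← Category.assoc, ← Category.assoc, pullback.condition]
  let h : Y ⟶ FBase.bc f k'' :=
    pullback.lift (pullback.fst g₁ g₂ ≫ X.fromSpecResidueField x) (pullback.snd g₁ g₂) hcomm
  have hw : h ≫ FBase.bcStr f k'' = pullback.snd g₁ g₂ := pullback.lift_snd _ _ _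
  have hh1 : h ≫ p = pullback.fst g₁ g₂ ≫ X.fromSpecResidueField x := pullback.lift_fst _ _ _
  have hcomm2 : Spec.map (CommRingCat.ofHom a) ≫ g₁ = Spec.map (CommRingCat.ofHom b) ≫ g₂ := by
    rw [← Spec.map_comp, ← Spec.map_comp, ← CommRingCat.ofHom_comp, ← CommRingCat.ofHom_comp]
    congr 2
    ext y
    exact hσ y
  let v : Spec (CommRingCat.of ((FBase.bc f k'').residueField z)) ⟶ Y :=
    pullback.lift _ _ hcomm2
  have hv : v ≫ h = (FBase.bc f k'').fromSpecResidueField z := by
    apply pullback.hom_ext
    · show (v ≫ h) ≫ p = _ ≫ p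
      rw [Category.assoc, hh1, ← Category.assoc, pullback.lift_fst, ha]
    · show (v ≫ h) ≫ FBase.bcStr f k'' = _ ≫ FBase.bcStr f k''
      rw [Category.assoc, hw, pullback.lift_snd, hb]
  let pt : Spec (CommRingCat.of ((FBase.bc f k'').residueField z)) := default
  have hz : h (v pt) = z := by
    rw [← Scheme.Hom.comp_apply, hv, Scheme.fromSpecResidueField_apply]
  exact ⟨Y, pullback.snd g₁ g₂, h, hw, inferInstance, inferInstance, ⟨v pt, hz⟩⟩

theorem exists_geomIrr_through_point' {k k'' : Type u} [Field k] [Field k''] [Algebra k k'']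
    [Normal k k''] {X : Scheme.{u}} (f : X ⟶ Spec (CommRingCat.of k)) (z : ↥(FBase.bc f k''))
    (x : X) (hzx : (FBase.bcπ f k'') z = x)
    (φ : k →+* X.residueField x)
    (hφ : Spec.map (CommRingCat.ofHom φ) = X.fromSpecResidueField _ ≫ f)
    (σ₀ : letI := φ.toAlgebra
      separableClosure k (X.residueField x) →ₐ[k] k'') :
    ∃ (Y : Scheme.{u}) (g : Y ⟶ Spec (CommRingCat.of k'')) (h : Y ⟶ FBase.bc f k''),
      h ≫ FBase.bcStr f k'' = g ∧ GeometricallyIrreducible g ∧ GeometricallyConnected g ∧
        z ∈ Set.range h := by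
  subst hzx
  exact exists_geomIrr_through_point f z φ hφ σ₀

/-- irreducible analogue of `S4621.main`. -/
theorem isIrreducible_preimage_closure_range {k K : Type u} [Field k] [Field K] [Algebra k K]
    {X Y : Scheme.{u}} (f : X ⟶ Spec (CommRingCat.of k)) (g : Y ⟶ Spec (CommRingCat.of k))
    (h : Y ⟶ X) (w : h ≫ f = g) [GeometricallyIrreducible g] :
    IsIrreducible (⇑(FBase.bcπ f K) ⁻¹' closure (Set.range h)) := by
  subst w
  haveI hYK : IrreducibleSpace ↥(Groth.Agent.S2502.bc (h ≫ f) K) :=
    GeometricallyIrreducible.geometrically_irreducibleSpace _ _ _ (.of_hasPullback _ _)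
  let gs := Groth.Agent.S7591.bcMap h f K
  have hpb := Groth.Agent.S7591.isPullback_bcMap h f K
  have hrange : Set.range gs = ⇑(Groth.Agent.S2502.bcπ f K) ⁻¹' Set.range h := by
    ext t
    constructor
    · rintro ⟨s, rfl⟩
      refine ⟨(Groth.Agent.S2502.bcπ (h ≫ f) K) s, ?_⟩
      rw [← Scheme.Hom.comp_apply, ← Scheme.Hom.comp_apply, Groth.Agent.S7591.bcMap_fst]
    · rintro ⟨y, hy⟩
      obtain ⟨s, hs1, hs2⟩ := Groth.Agent.S2502.exists_preimage_of_isPullback hpb t y hy.symm
      exact ⟨s, hs1⟩
  have h1 : IsIrreducible (Set.range gs) := by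
    rw [← Set.image_univ]
    exact (IrreducibleSpace.isIrreducible_univ _).image gs gs.continuous.continuousOn
  show IsIrreducible (⇑(Groth.Agent.S2502.bcπ f K) ⁻¹' closure (Set.range h))
  rw [(Groth.Agent.S2502.isOpenMap_bcπ f K).preimage_closure_eq_closure_preimage
    (Groth.Agent.S2502.bcπ f K).continuous, ← hrange]
  exact h1.closure

theorem flat_bcπ {k K : Type u} [Field k] [Field K] [Algebra k K] {X : Scheme.{u}}
    (f : X ⟶ Spec (CommRingCat.of k)) : Flat (FBase.bcπ f K) := by
  haveI : Flat (Spec.map (CommRingCat.ofHom (algebraMap k K))) := by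
    rw [Flat.SpecMap_iff]
    exact RingHom.flat_algebraMap_iff.mpr inferInstance
  exact MorphismProperty.pullback_fst (P := @Flat) f _ inferInstance

theorem main {k : Type u} [Field k] {X : Scheme.{u}}
    (f : X ⟶ Spec (CommRingCat.of k)) [Finite ↥(irreducibleComponents ↥X)]
    (hx : ∀ (Z : Set ↥X) (hZ : Z ∈ irreducibleComponents ↥X),
      FBase.ResidueFieldProp f hZ.1.genericPoint (fun K _ _ => FiniteDimensional k (separableClosure k K))) :
    ∃ (L : Type u) (_ : Field L) (_ : Algebra k L), FiniteDimensional k L ∧ Algebra.IsSeparable k L ∧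
      ∀ (K : Type u) [Field K] [Algebra L K] (Z' : Set ↥(FBase.bc f L)), Z' ∈ irreducibleComponents ↥(FBase.bc f L) →
        IsIrreducible (⇑(FBase.bcπ (FBase.bcStr f L) K) ⁻¹' Z') := by
  classical
  let xc : ↥(irreducibleComponents ↥X) → X := fun i => i.2.1.genericPoint
  have hx' : ∀ i : ↥(irreducibleComponents ↥X), FBase.ResidueFieldProp f (xc i)
      (fun K _ _ => FiniteDimensional k (separableClosure k K)) := fun i => hx i.1 i.2
  choose φ hφ hfd using hx'
  let E : ↥(irreducibleComponents ↥X) → Type u := fun c =>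
    letI := (φ c).toAlgebra
    ↥(separableClosure k (X.residueField (xc c)))
  letI iF : ∀ c, Field (E c) := fun c => by
    letI := (φ c).toAlgebra
    exact inferInstanceAs (Field ↥(separableClosure k (X.residueField (xc c))))
  letI iA : ∀ c, Algebra k (E c) := fun c => by
    letI := (φ c).toAlgebra
    exact inferInstanceAs (Algebra k ↥(separableClosure k (X.residueField (xc c))))
  haveI iFD : ∀ c, FiniteDimensional k (E c) := fun c => hfd c
  haveI iS : ∀ c, Algebra.IsSeparable k (E c) := fun c => by
    letI := (φ c).toAlgebra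
    exact inferInstanceAs (Algebra.IsSeparable k ↥(separableClosure k (X.residueField (xc c))))
  obtain ⟨L, _, _, hfin, hsep, hnorm, hemb⟩ := Groth.Agent.S4645.exists_normal_field (k := k) E
  refine ⟨L, inferInstance, inferInstance, hfin, hsep, ?_⟩
  intro K _ _ Z' hZ'
  let p := FBase.bcπ f L
  have hZ'c : IsClosed Z' := isClosed_of_mem_irreducibleComponents Z' hZ'
  let ξ' := hZ'.1.genericPoint
  have hξ' : IsGenericPoint ξ' Z' := by
    have := hZ'.1.isGenericPoint_genericPoint_closure
    rwa [hZ'c.closure_eq] at this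
  let x := p ξ'
  let Z := irreducibleComponent x
  have hZ : Z ∈ irreducibleComponents ↥X := irreducibleComponent_mem_irreducibleComponents x
  let i : ↥(irreducibleComponents ↥X) := ⟨Z, hZ⟩
  have hZc : IsClosed Z := isClosed_of_mem_irreducibleComponents Z hZ
  have hx₀ : IsGenericPoint (xc i) Z := by
    have := hZ.1.isGenericPoint_genericPoint_closure
    rwa [hZc.closure_eq] at this
  have hspec : xc i ⤳ x := hx₀.specializes mem_irreducibleComponent
  haveI := flat_bcπ (K := L) f
  obtain ⟨ξ₀, hξ₀, hpξ₀⟩ := (Flat.generalizingMap p) hspec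
  have hξeq : ξ₀ = ξ' := by
    have h1 : IsIrreducible (closure ({ξ₀} : Set ↥(FBase.bc f L))) :=
      isIrreducible_singleton.closure
    have h2 : Z' ⊆ closure ({ξ₀} : Set ↥(FBase.bc f L)) := by
      rw [← hξ'.def]
      exact closure_minimal (Set.singleton_subset_iff.mpr hξ₀.mem_closure) isClosed_closure
    have h3 : closure ({ξ₀} : Set ↥(FBase.bc f L)) ⊆ Z' := hZ'.2 h1 h2
    have h4 : ξ' ⤳ ξ₀ := hξ'.specializes (h3 (subset_closure rfl))
    exact (hξ₀.antisymm h4).eq
  have hzx : p ξ' = xc i := by rw [← hξeq]; exact hpξ₀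
  obtain ⟨Y, g, h, hw, hgi, -, hmem⟩ :=
    exists_geomIrr_through_point' f ξ' (xc i) hzx (φ i) (hφ i) (hemb i).some
  have hmain := isIrreducible_preimage_closure_range (K := K) (FBase.bcStr f L) g h hw
  have hcl : closure (Set.range h) = Z' := by
    haveI : IrreducibleSpace Y :=
      GeometricallyIrreducible.irreducibleSpace_of_subsingleton (f := g)
    have h1 : IsIrreducible (closure (Set.range h)) := by
      rw [← Set.image_univ]
      exact ((IrreducibleSpace.isIrreducible_univ _).image h h.continuous.continuousOn).closure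
    have h2 : Z' ⊆ closure (Set.range h) := by
      rw [← hξ'.def]
      exact closure_mono (Set.singleton_subset_iff.mpr hmem)
    exact subset_antisymm (hZ'.2 h1 h2) h2
  rwa [hcl] at hmain


end


/-- Let X be a scheme over a field k having finitely many irreducible components, such that for the
generic point x of each irreducible component the separable algebraic closure of k in κ(x) has
finite degree over k. Then there is a finite separable extension L of k such that all irreducible
components of X ⊗_k L are geometrically irreducible over L: for every extension field K of L and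
every irreducible component Z' of X ⊗_k L, the inverse image of Z' in (X ⊗_k L) ⊗_L K is
irreducible. (No finite-type hypothesis on X.) -/
theorem result {k : Type u} [Field k] {X : Scheme.{u}}
    (f : X ⟶ Spec (CommRingCat.of k)) [Finite ↥(irreducibleComponents ↥X)]
    (hx : ∀ (Z : Set ↥X) (hZ : Z ∈ irreducibleComponents ↥X),
      FBase.ResidueFieldProp f hZ.1.genericPoint (fun K _ _ => FiniteDimensional k (separableClosure k K))) :
    ∃ (L : Type u) (_ : Field L) (_ : Algebra k L), FiniteDimensional k L ∧ Algebra.IsSeparable k L ∧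
      ∀ (K : Type u) [Field K] [Algebra L K] (Z' : Set ↥(FBase.bc f L)), Z' ∈ irreducibleComponents ↥(FBase.bc f L) →
        IsIrreducible (⇑(FBase.bcπ (FBase.bcStr f L) K) ⁻¹' Z') := by
  classical
  exact main f hx

end Groth.Agent.S4646
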