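import Groth.Statements.S7621
import Mathlib
import Groth.Agent.S1539

set_option autoImplicit false
universe u
open CategoryTheory CategoryTheory.Limits AlgebraicGeometry
open Variety

namespace Groth.Agent.S7621

section
open CategoryTheory CategoryTheory.Limits AlgebraicGeometry

variable {k : Type u} [Field k]

/-- the action of a `k`-endomorphism of `K` on `X_K`. -/
noncomputable def gal {X : Scheme.{u}} (f : X ⟶ Spec (CommRingCat.of k)) (K : Type u) [Field K]
    [Algebra k K] (τ : K →ₐ[k] K) : Groth.Agent.S2502.bc f K ⟶ Groth.Agent.S2502.bc f K :=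
  pullback.lift (pullback.fst _ _)
    (pullback.snd _ _ ≫ Spec.map (CommRingCat.ofHom τ.toRingHom)) (by
      rw [Category.assoc, ← Spec.map_comp, ← CommRingCat.ofHom_comp]
      have : τ.toRingHom.comp (algebraMap k K) = algebraMap k K := by
        ext c; exact τ.commutes c
      rw [this]
      exact pullback.condition)

theorem gal_fst {X : Scheme.{u}} (f : X ⟶ Spec (CommRingCat.of k)) (K : Type u) [Field K]
    [Algebra k K] (τ : K →ₐ[k] K) :
    gal f K τ ≫ Groth.Agent.S2502.bcπ f K = Groth.Agent.S2502.bcπ f K :=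
  pullback.lift_fst _ _ _

theorem gal_snd {X : Scheme.{u}} (f : X ⟶ Spec (CommRingCat.of k)) (K : Type u) [Field K]
    [Algebra k K] (τ : K →ₐ[k] K) :
    gal f K τ ≫ pullback.snd f (Spec.map (CommRingCat.ofHom (algebraMap k K))) =
      pullback.snd f (Spec.map (CommRingCat.ofHom (algebraMap k K))) ≫
        Spec.map (CommRingCat.ofHom τ.toRingHom) :=
  pullback.lift_snd _ _ _

theorem gal_comp {X : Scheme.{u}} (f : X ⟶ Spec (CommRingCat.of k)) (K : Type u) [Field K]
    [Algebra k K] (τ τ' : K →ₐ[k] K) :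
    gal f K τ ≫ gal f K τ' = gal f K (τ.comp τ') := by
  apply pullback.hom_ext
  · rw [Category.assoc]
    erw [gal_fst, gal_fst, gal_fst]
  · rw [Category.assoc]
    erw [gal_snd, gal_snd]
    rw [← Category.assoc]
    erw [gal_snd]
    rw [Category.assoc, ← Spec.map_comp, ← CommRingCat.ofHom_comp]
    rfl

theorem gal_id {X : Scheme.{u}} (f : X ⟶ Spec (CommRingCat.of k)) (K : Type u) [Field K]
    [Algebra k K] : gal f K (AlgHom.id k K) = 𝟙 _ := by
  apply pullback.hom_ext
  · erw [gal_fst]; rw [Category.id_comp]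
  · erw [gal_snd]
    rw [Category.id_comp]
    have : CommRingCat.ofHom (AlgHom.id k K).toRingHom = 𝟙 (CommRingCat.of K) := rfl
    rw [this, Spec.map_id, Category.comp_id]

theorem galAct_eq (X : Scheme.{u}) [X.Over (Spec (CommRingCat.of k))] (K : Type u) [Field K]
    [Algebra k K] (σ : K ≃ₐ[k] K) :
    Curv2.galAct k X K σ = gal (X ↘ Spec (CommRingCat.of k)) K (σ : K →ₐ[k] K) := by
  apply pullback.hom_ext
  · erw [gal_fst]
  · erw [gal_snd]

theorem gal_equiv_comp_symm {X : Scheme.{u}} (f : X ⟶ Spec (CommRingCat.of k)) (K : Type u)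
    [Field K] [Algebra k K] (σ : K ≃ₐ[k] K) :
    gal f K (σ : K →ₐ[k] K) ≫ gal f K (σ.symm : K →ₐ[k] K) = 𝟙 _ := by
  rw [gal_comp, ← gal_id]
  congr 1
  ext a
  simp

theorem gal_equiv_symm_comp {X : Scheme.{u}} (f : X ⟶ Spec (CommRingCat.of k)) (K : Type u)
    [Field K] [Algebra k K] (σ : K ≃ₐ[k] K) :
    gal f K (σ.symm : K →ₐ[k] K) ≫ gal f K (σ : K →ₐ[k] K) = 𝟙 _ := by
  rw [gal_comp, ← gal_id]
  congr 1
  ext a
  simp

theorem gal_surjective {X : Scheme.{u}} (f : X ⟶ Spec (CommRingCat.of k)) (K : Type u)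
    [Field K] [Algebra k K] (σ : K ≃ₐ[k] K) :
    Function.Surjective (gal f K (σ : K →ₐ[k] K)) := by
  intro z
  refine ⟨gal f K (σ.symm : K →ₐ[k] K) z, ?_⟩
  rw [← Scheme.Hom.comp_apply, gal_equiv_symm_comp]
  rfl

theorem gal_injective {X : Scheme.{u}} (f : X ⟶ Spec (CommRingCat.of k)) (K : Type u)
    [Field K] [Algebra k K] (σ : K ≃ₐ[k] K) :
    Function.Injective (gal f K (σ : K →ₐ[k] K)) := by
  intro z z' h
  have := congrArg (gal f K (σ.symm : K →ₐ[k] K)) h
  rw [← Scheme.Hom.comp_apply, ← Scheme.Hom.comp_apply, gal_equiv_comp_symm] at this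
  exact this

/-- sets that are preimages under the projection are Galois stable. -/
theorem gal_image_preimage {X : Scheme.{u}} (f : X ⟶ Spec (CommRingCat.of k)) (K : Type u)
    [Field K] [Algebra k K] (σ : K ≃ₐ[k] K) {Y : Type*} (q : ↥(Groth.Agent.S2502.bc f K) → Y)
    (hq : ∀ z, q (gal f K (σ : K →ₐ[k] K) z) = q z) (S : Set Y) :
    ⇑(gal f K (σ : K →ₐ[k] K)) '' (q ⁻¹' S) = q ⁻¹' S := by
  ext z
  constructor
  · rintro ⟨w, hw, rfl⟩
    show q _ ∈ S
    rw [hq]; exact hw
  · intro hz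
    obtain ⟨w, rfl⟩ := gal_surjective f K σ z
    refine ⟨w, ?_, rfl⟩
    show q w ∈ S
    rw [← hq]; exact hz

theorem gal_bcTrans {X : Scheme.{u}} (f : X ⟶ Spec (CommRingCat.of k)) (K : Type u)
    [Field K] [Algebra k K] (E : IntermediateField k K) (σ : K ≃ₐ[k] K)
    (hσ : ∀ a : K, a ∈ E → σ a = a) :
    gal f K (σ : K →ₐ[k] K) ≫ Groth.Agent.S7591.bcTrans f E K =
      Groth.Agent.S7591.bcTrans f E K := by
  have h1 := Groth.Agent.S7591.bcTrans_fst f E K
  have h2 := Groth.Agent.S7591.bcTrans_snd f E K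
  have h3 := gal_fst f K (σ : K →ₐ[k] K)
  have h4 := gal_snd f K (σ : K →ₐ[k] K)
  apply pullback.hom_ext
  · rw [Category.assoc]
    exact (congrArg (gal f K (σ : K →ₐ[k] K) ≫ ·) h1).trans (h3.trans h1.symm)
  · rw [Category.assoc]
    refine (congrArg (gal f K (σ : K →ₐ[k] K) ≫ ·) h2).trans ?_
    rw [← Category.assoc]
    refine (congrArg (· ≫ Spec.map (CommRingCat.ofHom (algebraMap ↥E K))) h4).trans ?_
    rw [Category.assoc, ← Spec.map_comp, ← CommRingCat.ofHom_comp]
    have h5 : (σ : K →ₐ[k] K).toRingHom.comp (algebraMap ↥E K) = algebraMap ↥E K := by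
      ext a
      exact hσ a.1 a.2
    rw [h5]
    exact h2.symm

theorem main (k : Type u) [Field k] (K : Type u) [Field K] [Algebra k K] [IsGalois k K]
    (X : Scheme.{u}) [X.Over (Spec (CommRingCat.of k))] (V : Set ↥(Curv2.bc k X K)) (hV : IsOpen V) (hVc : IsCompact V) :
    ∃ E : IntermediateField k K, FiniteDimensional k ↥E ∧
      ∀ σ : K ≃ₐ[k] K, (∀ a : K, a ∈ E → σ a = a) → (Curv2.galAct k X K σ).base '' V = V := by
  classical
  let f := X ↘ Spec (CommRingCat.of k)
  have hex : ∀ u : ↥V, ∃ E₀ : IntermediateField k K, FiniteDimensional k E₀ ∧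
      ∃ U' : Set ↥(Groth.Agent.S2502.bc f E₀), IsOpen U' ∧
        (Groth.Agent.S7591.bcTrans f E₀ K) u.1 ∈ U' ∧
        ⇑(Groth.Agent.S7591.bcTrans f E₀ K) ⁻¹' U' ⊆ V := by
    intro u
    obtain ⟨E₀, hfd, h⟩ := Groth.Agent.S1539.exists_open_descent_scheme f K V hV u.1 u.2
    exact ⟨E₀, hfd, h E₀ le_rfl⟩
  choose E₀ hfd U' hU'o hU'u hU'V using hex
  let W : ↥V → Set ↥(Groth.Agent.S2502.bc f K) := fun u =>
    ⇑(Groth.Agent.S7591.bcTrans f (E₀ u) K) ⁻¹' U' u
  have hWo : ∀ u, IsOpen (W u) := fun u =>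
    (hU'o u).preimage (Groth.Agent.S7591.bcTrans f (E₀ u) K).continuous
  have hcov : V ⊆ ⋃ u, W u := fun v hv => Set.mem_iUnion.mpr ⟨⟨v, hv⟩, hU'u ⟨v, hv⟩⟩
  obtain ⟨t, ht⟩ := hVc.elim_finite_subcover W hWo hcov
  refine ⟨⨆ u ∈ t, E₀ u, ?_, ?_⟩
  · exact IntermediateField.finiteDimensional_iSup_of_finset' (fun u _ => hfd u)
  · intro σ hσ
    rw [galAct_eq]
    have hVeq : V = ⋃ u ∈ t, W u := by
      refine subset_antisymm ht ?_
      exact Set.iUnion₂_subset (fun u _ => hU'V u)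
    show ⇑(gal f K (σ : K →ₐ[k] K)) '' V = V
    conv_lhs => rw [hVeq]
    conv_rhs => rw [hVeq]
    rw [Set.image_iUnion₂]
    refine Set.iUnion₂_congr (fun u hu => ?_)
    apply gal_image_preimage
    intro z
    rw [← Scheme.Hom.comp_apply, gal_bcTrans f K (E₀ u) σ]
    intro a ha
    exact hσ a ((le_iSup₂ (f := fun u (_ : u ∈ t) => E₀ u) u hu) ha)


end


/-- Let K be a (possibly infinite) Galois extension of a field k, X a scheme over k and V a
quasi-compact open subset of X_K. Then there is a subextension k'/k of K, finite over k, such that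
every k-automorphism of K fixing k' pointwise maps V onto itself under its action on X_K (an open
subgroup of the Galois group stabilises V). -/
theorem result (k : Type u) [Field k] (K : Type u) [Field K] [Algebra k K] [IsGalois k K]
    (X : Scheme.{u}) [X.Over (Spec (CommRingCat.of k))] (V : Set ↥(Curv2.bc k X K)) (hV : IsOpen V) (hVc : IsCompact V) :
    ∃ E : IntermediateField k K, FiniteDimensional k ↥E ∧
      ∀ σ : K ≃ₐ[k] K, (∀ a : K, a ∈ E → σ a = a) → (Curv2.galAct k X K σ).base '' V = V := by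
  classical
  exact main k K X V hV hVc

end Groth.Agent.S7621
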