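import Groth.Statements.S7593
import Mathlib
import Groth.Agent.S7621
import Groth.Agent.S2525

set_option autoImplicit false
universe u
open CategoryTheory CategoryTheory.Limits AlgebraicGeometry
open Variety

namespace Groth.Agent.S7593

section
open CategoryTheory CategoryTheory.Limits AlgebraicGeometry

open Groth.Agent.S2548 Groth.Agent.S7621

/-- the Galois action permutes the one-point schemes `Yσ`. -/
theorem exists_Yσ_map {k K : Type u} [Field k] [Field K] [Algebra k K]
    {X : Scheme.{u}} (f : X ⟶ Spec (CommRingCat.of k)) (x : X) [Algebra k (X.residueField x)]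
    (hφ : Spec.map (CommRingCat.ofHom (algebraMap k (X.residueField x))) =
      X.fromSpecResidueField x ≫ f)
    (τ : K →ₐ[k] K) (σ σ₂ : separableClosure k (X.residueField x) →ₐ[k] K)
    (hτ : τ.comp σ₂ = σ) :
    ∃ m : Yσ x σ ⟶ Yσ x σ₂, hσ f x hφ σ ≫ gal f K τ = m ≫ hσ f x hφ σ₂ := by
  have hg : g₂ x σ = Spec.map (CommRingCat.ofHom τ.toRingHom) ≫ g₂ x σ₂ := by
    unfold g₂
    rw [← Spec.map_comp, ← CommRingCat.ofHom_comp, ← hτ]
    rfl
  have hc : pullback.fst (g₁ (k := k) x) (g₂ x σ) ≫ g₁ (k := k) x =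
      (pullback.snd (g₁ (k := k) x) (g₂ x σ) ≫ Spec.map (CommRingCat.ofHom τ.toRingHom)) ≫
        g₂ x σ₂ := by
    rw [Category.assoc, ← hg]
    exact pullback.condition
  let m : Yσ x σ ⟶ Yσ x σ₂ := pullback.lift _ _ hc
  refine ⟨m, ?_⟩
  have h1 := hσ_fst f x hφ σ
  have h2 := hσ_fst f x hφ σ₂
  have h3 := hσ_str f x hφ σ
  have h4 := hσ_str f x hφ σ₂
  have h5 := gal_fst f K τ
  have h6 := gal_snd f K τ
  apply pullback.hom_ext
  · refine (Category.assoc _ _ _).trans ?_
    refine (congrArg (hσ f x hφ σ ≫ ·) h5).trans ?_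
    refine h1.trans ?_
    refine Eq.trans ?_ (Category.assoc m (hσ f x hφ σ₂) _).symm
    refine Eq.trans ?_ (congrArg (m ≫ ·) h2).symm
    rw [← Category.assoc, pullback.lift_fst]
  · refine (Category.assoc _ _ _).trans ?_
    refine (congrArg (hσ f x hφ σ ≫ ·) h6).trans ?_
    refine (Category.assoc _ _ _).symm.trans ?_
    refine (congrArg (· ≫ Spec.map (CommRingCat.ofHom τ.toRingHom)) h3).trans ?_
    refine Eq.trans ?_ (Category.assoc m (hσ f x hφ σ₂) _).symm
    refine Eq.trans ?_ (congrArg (m ≫ ·) h4).symm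
    exact (pullback.lift_snd _ _ hc).symm

theorem exists_algEquiv_comp_eq {k k' K : Type*} [Field k] [Field k'] [Field K] [Algebra k k']
    [Algebra k K] [Algebra.IsSeparable k K] [IsSepClosed K] (σ σ' : k' →ₐ[k] K) :
    ∃ τ : K ≃ₐ[k] K, (τ : K →ₐ[k] K).comp σ' = σ := by
  letI a1 : Algebra k' K := σ'.toRingHom.toAlgebra
  haveI t1 : IsScalarTower k k' K := IsScalarTower.of_algebraMap_eq (fun c => (σ'.commutes c).symm)
  haveI hsep : Algebra.IsSeparable k' K := Algebra.isSeparable_tower_top_of_isSeparable k k' K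
  let τ₀ : @AlgHom k' K K _ _ _ a1 σ.toRingHom.toAlgebra :=
    @IsSepClosed.lift k' K K _ _ a1 _ σ.toRingHom.toAlgebra _ hsep
  have hτ₀ : ∀ y : k', τ₀ (σ' y) = σ y := fun y =>
    @AlgHom.commutes k' K K _ _ _ a1 σ.toRingHom.toAlgebra τ₀ y
  let τ₁ : K →ₐ[k] K :=
    { toRingHom := @AlgHom.toRingHom k' K K _ _ _ a1 σ.toRingHom.toAlgebra τ₀
      commutes' := fun c => by
        show τ₀ (algebraMap k K c) = algebraMap k K c
        have e1 : algebraMap k K c = σ' (algebraMap k k' c) := (σ'.commutes c).symm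
        rw [e1, hτ₀, σ.commutes]
        exact e1 }
  haveI : Algebra.IsAlgebraic k K := inferInstance
  have hbij : Function.Bijective τ₁ := Algebra.IsAlgebraic.algHom_bijective τ₁
  refine ⟨AlgEquiv.ofBijective τ₁ hbij, ?_⟩
  ext y
  exact hτ₀ y

theorem exists_gal_eq {k K : Type u} [Field k] [Field K] [Algebra k K] [Normal k K]
    [Algebra.IsSeparable k K] [IsSepClosed K]
    {X : Scheme.{u}} (f : X ⟶ Spec (CommRingCat.of k)) (z z' : ↥(Groth.Agent.S2502.bc f K))
    (h : (Groth.Agent.S2502.bcπ f K) z = (Groth.Agent.S2502.bcπ f K) z') :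
    ∃ τ : K ≃ₐ[k] K, (gal f K (τ : K →ₐ[k] K)) z = z' := by
  let x : X := (Groth.Agent.S2502.bcπ f K) z'
  let φ : k →+* X.residueField x := (Spec.preimage (X.fromSpecResidueField x ≫ f)).hom
  have hφ : Spec.map (CommRingCat.ofHom φ) = X.fromSpecResidueField x ≫ f := by
    show Spec.map (CommRingCat.ofHom (Spec.preimage _).hom) = _
    rw [CommRingCat.ofHom_hom, Spec.map_preimage]
  letI := φ.toAlgebra
  have hφ' : Spec.map (CommRingCat.ofHom (algebraMap k (X.residueField x))) =
      X.fromSpecResidueField x ≫ f := hφ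
  let σ₀ : separableClosure k (X.residueField x) →ₐ[k] K := IsSepClosed.lift
  obtain ⟨σ, hσc⟩ := exists_compat f x hφ' σ₀ z h
  obtain ⟨σ', hσc'⟩ := exists_compat f x hφ' σ₀ z' rfl
  obtain ⟨y, hy⟩ := mem_range_of_compat f x hφ' z σ hσc
  obtain ⟨y', hy'⟩ := mem_range_of_compat f x hφ' z' σ' hσc'
  obtain ⟨τ, hτ⟩ := exists_algEquiv_comp_eq σ σ'
  obtain ⟨m, hm⟩ := exists_Yσ_map f x hφ' (τ : K →ₐ[k] K) σ σ' hτ
  refine ⟨τ, ?_⟩
  haveI := subsingleton_Yσ x σ'
  rw [← hy, ← hy']
  have h1 : (gal f K (τ : K →ₐ[k] K)) ((hσ f x hφ' σ) y) =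
      (hσ f x hφ' σ ≫ gal f K (τ : K →ₐ[k] K)) y := rfl
  rw [h1, hm]
  have h2 : (hσ f x hφ' σ') (m y) = (hσ f x hφ' σ') y' := by
    rw [Subsingleton.elim (m y) y']
  exact h2

theorem gal_bcπ_apply {k K : Type u} [Field k] [Field K] [Algebra k K]
    {X : Scheme.{u}} (f : X ⟶ Spec (CommRingCat.of k)) (τ : K →ₐ[k] K)
    (z : ↥(Groth.Agent.S2502.bc f K)) :
    (Groth.Agent.S2502.bcπ f K) ((gal f K τ) z) = (Groth.Agent.S2502.bcπ f K) z := by
  rw [← Scheme.Hom.comp_apply, gal_fst]

theorem main (k : Type u) [Field k] (X : Scheme.{u}) [X.Over (Spec (CommRingCat.of k))] (t : ↥(Curv2.bc k X (SeparableClosure k))) :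
    (∀ σ : SeparableClosure k ≃ₐ[k] SeparableClosure k,
        (Curv2.galAct k X (SeparableClosure k) σ).base '' connectedComponent t = connectedComponent t) ↔
      ((Curv2.bcFst k X (SeparableClosure k)).base ⁻¹' connectedComponent (Curv2.bcFst k X (SeparableClosure k) t) = connectedComponent t ∧
        ∀ (K : Type u) [Field K] [Algebra k K],
          _root_.IsConnected ((Curv2.bcFst k X K).base ⁻¹' connectedComponent (Curv2.bcFst k X (SeparableClosure k) t))) := by
  let f := X ↘ Spec (CommRingCat.of k)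
  let p := Groth.Agent.S2502.bcπ f (SeparableClosure k)
  constructor
  · intro h
    have hfib : ⇑p ⁻¹' {p t} ⊆ connectedComponent t := by
      intro z hz
      obtain ⟨τ, hτ⟩ := exists_gal_eq f t z (show p t = p z from hz.symm)
      have h1 := h τ
      rw [galAct_eq] at h1
      rw [← h1]
      exact ⟨t, mem_connectedComponent, hτ⟩
    have hCT : connectedComponent t ⊆ ⇑p ⁻¹' connectedComponent (p t) := by
      intro z hz
      exact (p.continuous.image_connectedComponent_subset t) ⟨z, hz, rfl⟩
    have hpre := Groth.Agent.S2502.isPreconnected_preimage_of_open_closed p.continuous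
      (Groth.Agent.S2502.isOpenMap_bcπ f (SeparableClosure k))
      (Groth.Agent.S2502.isClosedMap_bcπ f (SeparableClosure k))
      (isPreconnected_connectedComponent (x := p t)) mem_connectedComponent
      (isPreconnected_connectedComponent (x := t)) hfib hCT
    have heq : ⇑p ⁻¹' connectedComponent (p t) = connectedComponent t :=
      subset_antisymm (hpre.subset_connectedComponent (mem_connectedComponent : p t ∈ _)) hCT
    refine ⟨heq, ?_⟩
    intro K _ _
    apply Groth.Agent.S2502.isConnected_preimage_of_sepClosure f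
    show _root_.IsConnected (⇑p ⁻¹' connectedComponent (p t))
    rw [heq]
    exact isConnected_connectedComponent
  · rintro ⟨heq, -⟩ σ
    rw [galAct_eq]
    have heq' : ⇑p ⁻¹' connectedComponent (p t) = connectedComponent t := heq
    rw [← heq']
    exact gal_image_preimage f (SeparableClosure k) σ (⇑p) (gal_bcπ_apply f _) _


end


/-- Let k̄ be a separable algebraic closure of a field k, X a scheme over k and t a point of X_{k̄} with
image x in X. The connected component of t is mapped onto itself by the action of every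
k-automorphism of k̄ if and only if it equals the full inverse image of the connected component T of
x in X and T is geometrically connected over k (the inverse image of T in X_K is connected for every
extension field K of k). -/
theorem result (k : Type u) [Field k] (X : Scheme.{u}) [X.Over (Spec (CommRingCat.of k))] (t : ↥(Curv2.bc k X (SeparableClosure k))) :
    (∀ σ : SeparableClosure k ≃ₐ[k] SeparableClosure k,
        (Curv2.galAct k X (SeparableClosure k) σ).base '' connectedComponent t = connectedComponent t) ↔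
      ((Curv2.bcFst k X (SeparableClosure k)).base ⁻¹' connectedComponent (Curv2.bcFst k X (SeparableClosure k) t) = connectedComponent t ∧
        ∀ (K : Type u) [Field K] [Algebra k K],
          _root_.IsConnected ((Curv2.bcFst k X K).base ⁻¹' connectedComponent (Curv2.bcFst k X (SeparableClosure k) t))) := by
  classical
  exact main k X t

end Groth.Agent.S7593
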