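import Groth.Statements.S7597
import Mathlib
import Groth.Agent.S7593

set_option autoImplicit false
universe u
open CategoryTheory CategoryTheory.Limits AlgebraicGeometry
open Variety

namespace Groth.Agent.S7597

section
open CategoryTheory CategoryTheory.Limits AlgebraicGeometry

open Groth.Agent.S2548 Groth.Agent.S7621 Groth.Agent.S7593

theorem isIrreducible_preimage_of_sepClosure {k : Type u} [Field k] {X : Scheme.{u}}
    (f : X ⟶ Spec (CommRingCat.of k)) (T : Set X)
    (hT : IsIrreducible (⇑(Groth.Agent.S2502.bcπ f (SeparableClosure k)) ⁻¹' T))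
    (K : Type u) [Field K] [Algebra k K] :
    IsIrreducible (⇑(Groth.Agent.S2502.bcπ f K) ⁻¹' T) := by
  obtain ⟨W, q, ℓ, hq, hgi, -, ho, hcompat⟩ := Groth.Agent.S2502.exists_common' f K
  have h1 : IsIrreducible (⇑ℓ ⁻¹' (⇑(Groth.Agent.S2502.bcπ f (SeparableClosure k)) ⁻¹' T)) :=
    ℓ.isIrreducible_preimage ho hT
  have h2 : ⇑q '' (⇑ℓ ⁻¹' (⇑(Groth.Agent.S2502.bcπ f (SeparableClosure k)) ⁻¹' T)) =
      ⇑(Groth.Agent.S2502.bcπ f K) ⁻¹' T := by
    ext z
    constructor
    · rintro ⟨w, hw, rfl⟩
      have : (Groth.Agent.S2502.bcπ f K) (q w) =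
          (Groth.Agent.S2502.bcπ f (SeparableClosure k)) (ℓ w) := by
        rw [← Scheme.Hom.comp_apply, ← Scheme.Hom.comp_apply, hcompat]
      show (Groth.Agent.S2502.bcπ f K) (q w) ∈ T
      rw [this]; exact hw
    · intro hz
      obtain ⟨w, rfl⟩ := hq z
      refine ⟨w, ?_, rfl⟩
      have : (Groth.Agent.S2502.bcπ f K) (q w) =
          (Groth.Agent.S2502.bcπ f (SeparableClosure k)) (ℓ w) := by
        rw [← Scheme.Hom.comp_apply, ← Scheme.Hom.comp_apply, hcompat]
      show (Groth.Agent.S2502.bcπ f (SeparableClosure k)) (ℓ w) ∈ T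
      rw [← this]; exact hz
  rw [← h2]
  exact h1.image _ q.continuous.continuousOn

/-- the image of the generic point of an irreducible component of `X_K` is the generic point of an
irreducible component of `X`. -/
theorem closure_image_genericPoint_mem {k K : Type u} [Field k] [Field K] [Algebra k K]
    {X : Scheme.{u}} (f : X ⟶ Spec (CommRingCat.of k))
    (Z' : Set ↥(Groth.Agent.S2502.bc f K))
    (hZ' : Z' ∈ irreducibleComponents ↥(Groth.Agent.S2502.bc f K))
    (ξ' : ↥(Groth.Agent.S2502.bc f K)) (hξ' : IsGenericPoint ξ' Z') :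
    closure {(Groth.Agent.S2502.bcπ f K) ξ'} ∈ irreducibleComponents ↥X := by
  let p := Groth.Agent.S2502.bcπ f K
  let x := p ξ'
  let Z := irreducibleComponent x
  have hZ : Z ∈ irreducibleComponents ↥X := irreducibleComponent_mem_irreducibleComponents x
  have hZc : IsClosed Z := isClosed_of_mem_irreducibleComponents Z hZ
  have hx₀ : IsGenericPoint hZ.1.genericPoint Z := by
    have := hZ.1.isGenericPoint_genericPoint_closure
    rwa [hZc.closure_eq] at this
  have hspec : hZ.1.genericPoint ⤳ x := hx₀.specializes mem_irreducibleComponent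
  haveI : Flat p := Groth.Agent.S4646.flat_bcπ (K := K) f
  obtain ⟨ξ₀, hξ₀, hpξ₀⟩ := (Flat.generalizingMap p) hspec
  have hξeq : ξ₀ = ξ' := by
    have h1 : IsIrreducible (closure ({ξ₀} : Set ↥(Groth.Agent.S2502.bc f K))) :=
      isIrreducible_singleton.closure
    have h2 : Z' ⊆ closure ({ξ₀} : Set ↥(Groth.Agent.S2502.bc f K)) := by
      rw [← hξ'.def]
      exact closure_minimal (Set.singleton_subset_iff.mpr hξ₀.mem_closure) isClosed_closure
    have h3 : closure ({ξ₀} : Set ↥(Groth.Agent.S2502.bc f K)) ⊆ Z' := hZ'.2 h1 h2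
    have h4 : ξ' ⤳ ξ₀ := hξ'.specializes (h3 (subset_closure rfl))
    exact (hξ₀.antisymm h4).eq
  have hxeq : x = hZ.1.genericPoint := by
    show p ξ' = _
    rw [← hξeq]; exact hpξ₀
  show closure {x} ∈ irreducibleComponents ↥X
  rw [hxeq, hx₀.def]
  exact hZ

theorem main (k : Type u) [Field k] (X : Scheme.{u}) [X.Over (Spec (CommRingCat.of k))]
    (Z : Set ↥(Curv2.bc k X (SeparableClosure k))) (hZ : Z ∈ irreducibleComponents ↥(Curv2.bc k X (SeparableClosure k))) :
    (∀ σ : SeparableClosure k ≃ₐ[k] SeparableClosure k, (Curv2.galAct k X (SeparableClosure k) σ).base '' Z = Z) ↔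
      ∃ T ∈ irreducibleComponents ↥X, (Curv2.bcFst k X (SeparableClosure k)).base ⁻¹' T = Z ∧
        ∀ (K : Type u) [Field K] [Algebra k K], IsIrreducible ((Curv2.bcFst k X K).base ⁻¹' T) := by
  let f := X ↘ Spec (CommRingCat.of k)
  let p := Groth.Agent.S2502.bcπ f (SeparableClosure k)
  constructor
  · intro h
    have hZc : IsClosed Z := isClosed_of_mem_irreducibleComponents Z hZ
    let ξ' := hZ.1.genericPoint
    have hξ' : IsGenericPoint ξ' Z := by
      have := hZ.1.isGenericPoint_genericPoint_closure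
      rwa [hZc.closure_eq] at this
    have hT := closure_image_genericPoint_mem f Z hZ ξ' hξ'
    have heq : ⇑p ⁻¹' closure {p ξ'} = Z := by
      apply subset_antisymm
      · intro z hz
        have hspec : p ξ' ⤳ p z := specializes_iff_mem_closure.mpr hz
        haveI : Flat p := Groth.Agent.S4646.flat_bcπ (K := SeparableClosure k) f
        obtain ⟨z₀, hz₀, hpz₀⟩ := (Flat.generalizingMap p) hspec
        obtain ⟨τ, hτ⟩ := exists_gal_eq f ξ' z₀ (show p ξ' = p z₀ from hpz₀.symm)
        have h1 := h τ
        rw [galAct_eq] at h1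
        have hz₀Z : z₀ ∈ Z := by
          rw [← h1]
          exact ⟨ξ', hξ'.mem, hτ⟩
        exact hZc.closure_subset_iff.mpr (Set.singleton_subset_iff.mpr hz₀Z) hz₀.mem_closure
      · intro z hz
        have h1 : ξ' ⤳ z := hξ'.specializes hz
        exact (h1.map p.continuous).mem_closure
    refine ⟨closure {p ξ'}, hT, heq, ?_⟩
    intro K _ _
    apply isIrreducible_preimage_of_sepClosure f
    show IsIrreducible (⇑p ⁻¹' closure {p ξ'})
    rw [heq]
    exact hZ.1
  · rintro ⟨T, -, heq, -⟩ σ
    rw [galAct_eq]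
    have heq' : ⇑p ⁻¹' T = Z := heq
    rw [← heq']
    exact gal_image_preimage f (SeparableClosure k) σ (⇑p) (gal_bcπ_apply f _) _


end


/-- Let k̄ be a separable algebraic closure of a field k, X a scheme over k and Z an irreducible
component of X_{k̄}. Then Z is mapped onto itself by the action of every k-automorphism of k̄ if and
only if Z is the full inverse image of some irreducible component T of X which is geometrically
irreducible over k (the inverse image of T in X_K is irreducible for every extension field K of k). -/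
theorem result (k : Type u) [Field k] (X : Scheme.{u}) [X.Over (Spec (CommRingCat.of k))]
    (Z : Set ↥(Curv2.bc k X (SeparableClosure k))) (hZ : Z ∈ irreducibleComponents ↥(Curv2.bc k X (SeparableClosure k))) :
    (∀ σ : SeparableClosure k ≃ₐ[k] SeparableClosure k, (Curv2.galAct k X (SeparableClosure k) σ).base '' Z = Z) ↔
      ∃ T ∈ irreducibleComponents ↥X, (Curv2.bcFst k X (SeparableClosure k)).base ⁻¹' T = Z ∧
        ∀ (K : Type u) [Field K] [Algebra k K], IsIrreducible ((Curv2.bcFst k X K).base ⁻¹' T) := by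
  classical
  exact main k X Z hZ

end Groth.Agent.S7597
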