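import Groth.Statements.S1670
import Mathlib
import Groth.Agent.S7597
import Groth.Agent.S1537

set_option autoImplicit false
universe u
open CategoryTheory CategoryTheory.Limits AlgebraicGeometry
open Variety

namespace Groth.Agent.S1670

section
open CategoryTheory CategoryTheory.Limits AlgebraicGeometry

open IntermediateField IntermediateField.algebraAdjoinAdjoin

/-- an algebraic subextension is linearly disjoint from a purely transcendental one. -/
theorem linearIndependent_adjoin_of_algebraicIndependent {k L : Type*} [Field k] [Field L]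
    [Algebra k L] (M : IntermediateField k L) [Algebra.IsAlgebraic k M] {ι' : Type*}
    (x : ι' → L) (hx : AlgebraicIndependent k x) {ι : Type*} (e : ι → M)
    (he : LinearIndependent k e) :
    LinearIndependent (adjoin k (Set.range x)) (fun i => (e i : L)) := by
  classical
  rw [← LinearIndependent.iff_fractionRing (Algebra.adjoin k (Set.range x))
    (adjoin k (Set.range x))]
  rw [linearIndependent_iff']
  intro t g hg i hi
  have hM : AlgebraicIndependent M x := hx.extendScalars M
  let P : ι → MvPolynomial ι' k := fun i => hx.repr (g i)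
  have hP : ∀ i, MvPolynomial.aeval x (P i) = (g i : L) := fun i => hx.aeval_repr (g i)
  let Q : MvPolynomial ι' M :=
    ∑ i ∈ t, MvPolynomial.C (e i) * MvPolynomial.map (algebraMap k M) (P i)
  have hQ : MvPolynomial.aeval x Q = 0 := by
    show MvPolynomial.aeval x (∑ i ∈ t, MvPolynomial.C (e i) *
      MvPolynomial.map (algebraMap k M) (P i)) = 0
    rw [map_sum, ← hg]
    refine Finset.sum_congr rfl (fun j _ => ?_)
    rw [map_mul, MvPolynomial.aeval_map_algebraMap, hP, MvPolynomial.aeval_C, mul_comm]
    rfl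
  have hQ0 : Q = 0 := (algebraicIndependent_iff_injective_aeval.mp hM) (by rw [hQ, map_zero])
  have hcoef : ∀ m, ∀ j ∈ t, MvPolynomial.coeff m (P j) = 0 := by
    intro m
    have h1 : ∑ j ∈ t, (MvPolynomial.coeff m (P j)) • e j = 0 := by
      have h2 := congrArg (MvPolynomial.coeff m) hQ0
      rw [MvPolynomial.coeff_zero] at h2
      rw [← h2]
      show _ = MvPolynomial.coeff m (∑ i ∈ t, MvPolynomial.C (e i) *
        MvPolynomial.map (algebraMap k M) (P i))
      rw [MvPolynomial.coeff_sum]
      refine Finset.sum_congr rfl (fun j _ => ?_)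
      rw [MvPolynomial.coeff_C_mul, MvPolynomial.coeff_map, Algebra.smul_def, mul_comm]
    exact linearIndependent_iff'.mp he t (fun j => MvPolynomial.coeff m (P j)) h1
  have hPi : P i = 0 := by
    ext m
    rw [hcoef m i hi, MvPolynomial.coeff_zero]
  apply Subtype.ext
  show (g i : L) = 0
  rw [← hP i, hPi, map_zero]

theorem finiteDimensional_of_isAlgebraic_of_essFiniteType {k L : Type*} [Field k] [Field L]
    [Algebra k L] [Algebra.EssFiniteType k L] (M : IntermediateField k L)
    [Algebra.IsAlgebraic k M] : FiniteDimensional k M := by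
  classical
  obtain ⟨s, hs⟩ := exists_finset_isTranscendenceBasis k L
  let E := adjoin k (Set.range (Subtype.val : ↥(s : Set L) → L))
  haveI : Algebra.IsAlgebraic E L := hs.isAlgebraic_field
  haveI : Algebra.EssFiniteType E L := Algebra.EssFiniteType.of_comp k E L
  haveI : Module.Finite E L := Algebra.finite_of_essFiniteType_of_isAlgebraic
  let b := Module.Free.chooseBasis k M
  have hli := linearIndependent_adjoin_of_algebraicIndependent M _ hs.1 b b.linearIndependent
  haveI : Finite (Module.Free.ChooseBasisIndex k M) := hli.finite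
  exact Module.Finite.of_basis b

theorem essFiniteType_resMap (k : Type u) [Field k] (X : Scheme.{u})
    [X.Over (Spec (CommRingCat.of k))] [LocallyOfFiniteType (X ↘ Spec (CommRingCat.of k))]
    (x : X) : (Curv2.resMap k X x).EssFiniteType := by
  let f := X ↘ Spec (CommRingCat.of k)
  obtain ⟨_, ⟨V, hV, rfl⟩, hxV, -⟩ :=
    X.isBasis_affineOpens.exists_subset_of_mem_open (Set.mem_univ x) isOpen_univ
  have e : V ≤ f ⁻¹ᵁ ⊤ := fun _ _ => trivial
  have h1 : (f.appLE ⊤ V e).hom.FiniteType :=
    HasRingHomProperty.appLE (P := @LocallyOfFiniteType) f inferInstance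
      ⟨⊤, isAffineOpen_top _⟩ ⟨V, hV⟩ e
  have h2 : CommRingCat.ofHom (Curv2.resMap k X x) =
      (Scheme.ΓSpecIso (CommRingCat.of k)).inv ≫ f.appLE ⊤ V e ≫
        X.presheaf.germ V x hxV ≫ X.residue x := by
    have e1 : CommRingCat.ofHom (Curv2.resMap k X x) =
        (Scheme.ΓSpecIso (CommRingCat.of k)).inv ≫ f.appTop ≫
          X.presheaf.germ ⊤ x trivial ≫ X.residue x := rfl
    rw [e1]
    congr 1
    rw [Scheme.Hom.appLE, Category.assoc]
    congr 1
    rw [← Category.assoc, X.presheaf.germ_res]
    rfl
  have h3 : Curv2.resMap k X x =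
      (X.residue x).hom.comp ((X.presheaf.germ V x hxV).hom.comp
        ((f.appLE ⊤ V e).hom.comp (Scheme.ΓSpecIso (CommRingCat.of k)).inv.hom)) := by
    have := congrArg CommRingCat.Hom.hom h2
    exact this
  rw [h3]
  refine RingHom.EssFiniteType.comp ?_ ?_
  · refine RingHom.EssFiniteType.comp ?_ ?_
    · refine RingHom.EssFiniteType.comp ?_ h1.essFiniteType
      apply RingHom.FiniteType.essFiniteType
      apply RingHom.FiniteType.of_surjective
      exact (ConcreteCategory.bijective_of_isIso (Scheme.ΓSpecIso (CommRingCat.of k)).inv).2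
    · letI : Algebra Γ(X, V) (X.presheaf.stalk x) := (X.presheaf.germ V x hxV).hom.toAlgebra
      haveI : IsLocalization.AtPrime (X.presheaf.stalk x) (hV.primeIdealOf ⟨x, hxV⟩).asIdeal :=
        hV.isLocalization_stalk ⟨x, hxV⟩
      exact Algebra.EssFiniteType.of_isLocalization _
        (hV.primeIdealOf ⟨x, hxV⟩).asIdeal.primeCompl
  · apply RingHom.FiniteType.essFiniteType
    apply RingHom.FiniteType.of_surjective
    exact X.residue_surjective x

theorem finiteDimensional_sepClosure_of_lft {k : Type u} [Field k] {X : Scheme.{u}}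
    (f : X ⟶ Spec (CommRingCat.of k)) [LocallyOfFiniteType f] (x : X)
    (φ : k →+* X.residueField x)
    (hφ : Spec.map (CommRingCat.ofHom φ) = X.fromSpecResidueField x ≫ f) :
    letI := φ.toAlgebra
    FiniteDimensional k (separableClosure k (X.residueField x)) := by
  letI : X.Over (Spec (CommRingCat.of k)) := ⟨f⟩
  haveI : LocallyOfFiniteType (X ↘ Spec (CommRingCat.of k)) := ‹LocallyOfFiniteType f›
  have h1 : φ = Curv2.resMap k X x := by
    have h2 := Groth.Agent.S1537.specMap_resMap k X x
    have h3 : Spec.map (CommRingCat.ofHom φ) = Spec.map (CommRingCat.ofHom (Curv2.resMap k X x)) :=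
      hφ.trans h2.symm
    exact congrArg CommRingCat.Hom.hom (Spec.map_injective h3)
  subst h1
  letI := (Curv2.resMap k X x).toAlgebra
  haveI : Algebra.EssFiniteType k (X.residueField x) := essFiniteType_resMap k X x
  exact finiteDimensional_of_isAlgebraic_of_essFiniteType _

theorem residueFieldProp_finite_sepClosure {k : Type u} [Field k] {X : Scheme.{u}}
    (f : X ⟶ Spec (CommRingCat.of k)) [LocallyOfFiniteType f] (x : X) :
    FBase.ResidueFieldProp f x (fun K _ _ => FiniteDimensional k (separableClosure k K)) := by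
  letI : X.Over (Spec (CommRingCat.of k)) := ⟨f⟩
  exact ⟨Curv2.resMap k X x, Groth.Agent.S1537.specMap_resMap k X x,
    finiteDimensional_sepClosure_of_lft f x _ (Groth.Agent.S1537.specMap_resMap k X x)⟩

open Groth.Agent.S2548 Groth.Agent.S7621 Groth.Agent.S7593 Groth.Agent.S7597

instance isIso_gal {k : Type u} [Field k] {X : Scheme.{u}} (f : X ⟶ Spec (CommRingCat.of k))
    (K : Type u) [Field K] [Algebra k K] (σ : K ≃ₐ[k] K) : IsIso (gal f K (σ : K →ₐ[k] K)) :=
  ⟨gal f K (σ.symm : K →ₐ[k] K), gal_equiv_comp_symm f K σ, gal_equiv_symm_comp f K σ⟩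

theorem gal_image_closure_singleton {k : Type u} [Field k] {X : Scheme.{u}}
    (f : X ⟶ Spec (CommRingCat.of k))
    (K : Type u) [Field K] [Algebra k K] (σ : K ≃ₐ[k] K) (z : ↥(Groth.Agent.S2502.bc f K)) :
    ⇑(gal f K (σ : K →ₐ[k] K)) '' closure {z} = closure {(gal f K (σ : K →ₐ[k] K)) z} := by
  have := (gal f K (σ : K →ₐ[k] K)).homeomorph.image_closure {z}
  rw [Set.image_singleton] at this
  exact this

/-- a component of `X_K` mapping into the component `T` has generic point over that of `T`. -/
theorem bcπ_genericPoint_eq {k K : Type u} [Field k] [Field K] [Algebra k K]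
    {X : Scheme.{u}} (f : X ⟶ Spec (CommRingCat.of k))
    (T : Set X) (hT : T ∈ irreducibleComponents ↥X) (x : X) (hx : IsGenericPoint x T)
    (T' : Set ↥(Groth.Agent.S2502.bc f K))
    (hT' : T' ∈ irreducibleComponents ↥(Groth.Agent.S2502.bc f K))
    (ξ' : ↥(Groth.Agent.S2502.bc f K)) (hξ' : IsGenericPoint ξ' T')
    (hsub : (Groth.Agent.S2502.bcπ f K) ξ' ∈ T) :
    (Groth.Agent.S2502.bcπ f K) ξ' = x := by
  have h1 := closure_image_genericPoint_mem f T' hT' ξ' hξ'
  have hTc : IsClosed T := isClosed_of_mem_irreducibleComponents T hT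
  have h2 : closure {(Groth.Agent.S2502.bcπ f K) ξ'} ⊆ T :=
    hTc.closure_subset_iff.mpr (Set.singleton_subset_iff.mpr hsub)
  have h3 : T ⊆ closure {(Groth.Agent.S2502.bcπ f K) ξ'} := h1.2 hT.1 h2
  have h4 : IsGenericPoint ((Groth.Agent.S2502.bcπ f K) ξ') T := subset_antisymm h2 h3
  exact h4.eq hx

theorem main (k : Type u) [Field k] (X : Scheme.{u}) [X.Over (Spec (CommRingCat.of k))] [LocallyOfFiniteType (X ↘ (Spec (CommRingCat.of k)))]
    (T : Set X) (hT : T ∈ irreducibleComponents (X : Type u)) :
    {T' : Set (Curv2.bc k X (SeparableClosure k)) | T' ∈ irreducibleComponents (Curv2.bc k X (SeparableClosure k) : Type u) ∧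
        (Curv2.bcFst k X (SeparableClosure k)).base '' T' ⊆ T}.Finite ∧
      (Curv2.bcFst k X (SeparableClosure k)).base ⁻¹' T = ⋃₀ {T' : Set (Curv2.bc k X (SeparableClosure k)) | T' ∈ irreducibleComponents (Curv2.bc k X (SeparableClosure k) : Type u) ∧
        (Curv2.bcFst k X (SeparableClosure k)).base '' T' ⊆ T} ∧
      ∀ T' T'' : Set (Curv2.bc k X (SeparableClosure k)), T' ∈ irreducibleComponents (Curv2.bc k X (SeparableClosure k) : Type u) →
        T'' ∈ irreducibleComponents (Curv2.bc k X (SeparableClosure k) : Type u) →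
        (Curv2.bcFst k X (SeparableClosure k)).base '' T' ⊆ T → (Curv2.bcFst k X (SeparableClosure k)).base '' T'' ⊆ T →
        ∃ σ : (SeparableClosure k) ≃ₐ[k] (SeparableClosure k), (Curv2.galAct k X (SeparableClosure k) σ).base '' T' = T'' := by
  classical
  let Ks := SeparableClosure k
  let f := X ↘ Spec (CommRingCat.of k)
  let p := Groth.Agent.S2502.bcπ f Ks
  have hTc : IsClosed T := isClosed_of_mem_irreducibleComponents T hT
  let x : X := hT.1.genericPoint
  have hx : IsGenericPoint x T := by
    have := hT.1.isGenericPoint_genericPoint_closure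
    rwa [hTc.closure_eq] at this
  -- generic points of components
  have hgen : ∀ (T' : Set ↥(Groth.Agent.S2502.bc f Ks))
      (hT' : T' ∈ irreducibleComponents ↥(Groth.Agent.S2502.bc f Ks)),
      IsGenericPoint hT'.1.genericPoint T' := by
    intro T' hT'
    have := hT'.1.isGenericPoint_genericPoint_closure
    rwa [(isClosed_of_mem_irreducibleComponents T' hT').closure_eq] at this
  have hgenx : ∀ (T' : Set ↥(Groth.Agent.S2502.bc f Ks))
      (hT' : T' ∈ irreducibleComponents ↥(Groth.Agent.S2502.bc f Ks)),
      ⇑p '' T' ⊆ T → p hT'.1.genericPoint = x := by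
    intro T' hT' hsub
    exact bcπ_genericPoint_eq f T hT x hx T' hT' _ (hgen T' hT')
      (hsub ⟨_, (hgen T' hT').mem, rfl⟩)
  -- finiteness of the fibre
  let φ := Curv2.resMap k X x
  have hφ : Spec.map (CommRingCat.ofHom φ) = X.fromSpecResidueField x ≫ f :=
    Groth.Agent.S1537.specMap_resMap k X x
  letI := φ.toAlgebra
  haveI hfd : FiniteDimensional k (separableClosure k (X.residueField x)) :=
    finiteDimensional_sepClosure_of_lft f x φ hφ
  have hφ' : Spec.map (CommRingCat.ofHom (algebraMap k (X.residueField x))) =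
      X.fromSpecResidueField x ≫ f := hφ
  let σ₀ : separableClosure k (X.residueField x) →ₐ[k] Ks := IsSepClosed.lift
  obtain ⟨hFfin, -⟩ := card_fibre_le (k'' := Ks) f x hφ' σ₀
  let 𝒯 : Set (Set ↥(Groth.Agent.S2502.bc f Ks)) :=
    {T' | T' ∈ irreducibleComponents ↥(Groth.Agent.S2502.bc f Ks) ∧ ⇑p '' T' ⊆ T}
  refine ⟨?_, ?_, ?_⟩
  · show 𝒯.Finite
    let m : ↥𝒯 → ↥(⇑(FBase.bcπ f Ks) ⁻¹' {x}) := fun T' =>
      ⟨T'.2.1.1.genericPoint, hgenx T'.1 T'.2.1 T'.2.2⟩
    have hm : Function.Injective m := by
      rintro ⟨T', hT'⟩ ⟨T'', hT''⟩ h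
      have h1 : hT'.1.1.genericPoint = hT''.1.1.genericPoint := congrArg Subtype.val h
      apply Subtype.ext
      show T' = T''
      rw [← (hgen T' hT'.1).def, ← (hgen T'' hT''.1).def, h1]
    haveI := Finite.of_injective m hm
    exact Set.toFinite 𝒯
  · show ⇑p ⁻¹' T = ⋃₀ 𝒯
    apply subset_antisymm
    · intro z hz
      have hspec : x ⤳ p z := hx.specializes hz
      haveI : Flat p := Groth.Agent.S4646.flat_bcπ (K := Ks) f
      obtain ⟨z₀, hz₀, hpz₀⟩ := (Flat.generalizingMap p) hspec
      let T' := irreducibleComponent z₀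
      have hT' : T' ∈ irreducibleComponents ↥(Groth.Agent.S2502.bc f Ks) :=
        irreducibleComponent_mem_irreducibleComponents z₀
      have hT'c : IsClosed T' := isClosed_of_mem_irreducibleComponents T' hT'
      have hξ' := hgen T' hT'
      have h1 := closure_image_genericPoint_mem f T' hT' _ hξ'
      have h2 : hT'.1.genericPoint ⤳ z₀ := hξ'.specializes mem_irreducibleComponent
      have h3 : p hT'.1.genericPoint ⤳ x := by
        have := h2.map p.continuous
        rwa [hpz₀] at this
      have h4 : T ⊆ closure {p hT'.1.genericPoint} := by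
        rw [← hx.def]
        exact closure_minimal (Set.singleton_subset_iff.mpr h3.mem_closure) isClosed_closure
      have h5 : closure {p hT'.1.genericPoint} ⊆ T := hT.2 h1.1 h4
      refine ⟨T', ⟨hT', ?_⟩, ?_⟩
      · rintro _ ⟨w, hw, rfl⟩
        have h6 : hT'.1.genericPoint ⤳ w := hξ'.specializes hw
        exact h5 (h6.map p.continuous).mem_closure
      · exact hT'c.closure_subset_iff.mpr
          (Set.singleton_subset_iff.mpr mem_irreducibleComponent) hz₀.mem_closure
    · rintro z ⟨T', ⟨-, hsub⟩, hz⟩
      exact hsub ⟨z, hz, rfl⟩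
  · intro T' T'' hT' hT'' hsub' hsub''
    have h1 := hgenx T' hT' hsub'
    have h2 := hgenx T'' hT'' hsub''
    obtain ⟨τ, hτ⟩ := exists_gal_eq f hT'.1.genericPoint hT''.1.genericPoint (h1.trans h2.symm)
    refine ⟨τ, ?_⟩
    rw [galAct_eq]
    show ⇑(gal f Ks (τ : Ks →ₐ[k] Ks)) '' T' = T''
    rw [← (hgen T' hT').def, ← (hgen T'' hT'').def, gal_image_closure_singleton, hτ]


end


/-- Let X be locally of finite type over k, K a separable closure of k, and T an irreducible component
of X. Then the inverse image of T in X_K is the union of the finitely many irreducible components of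
X_K mapping into T, and these form a single orbit under the action of the k-automorphisms of K on
X_K. -/
theorem result (k : Type u) [Field k] (X : Scheme.{u}) [X.Over (Spec (CommRingCat.of k))] [LocallyOfFiniteType (X ↘ (Spec (CommRingCat.of k)))]
    (T : Set X) (hT : T ∈ irreducibleComponents (X : Type u)) :
    {T' : Set (Curv2.bc k X (SeparableClosure k)) | T' ∈ irreducibleComponents (Curv2.bc k X (SeparableClosure k) : Type u) ∧
        (Curv2.bcFst k X (SeparableClosure k)).base '' T' ⊆ T}.Finite ∧
      (Curv2.bcFst k X (SeparableClosure k)).base ⁻¹' T = ⋃₀ {T' : Set (Curv2.bc k X (SeparableClosure k)) | T' ∈ irreducibleComponents (Curv2.bc k X (SeparableClosure k) : Type u) ∧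
        (Curv2.bcFst k X (SeparableClosure k)).base '' T' ⊆ T} ∧
      ∀ T' T'' : Set (Curv2.bc k X (SeparableClosure k)), T' ∈ irreducibleComponents (Curv2.bc k X (SeparableClosure k) : Type u) →
        T'' ∈ irreducibleComponents (Curv2.bc k X (SeparableClosure k) : Type u) →
        (Curv2.bcFst k X (SeparableClosure k)).base '' T' ⊆ T → (Curv2.bcFst k X (SeparableClosure k)).base '' T'' ⊆ T →
        ∃ σ : (SeparableClosure k) ≃ₐ[k] (SeparableClosure k), (Curv2.galAct k X (SeparableClosure k) σ).base '' T' = T'' := by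
  classical
  exact main k X T hT

end Groth.Agent.S1670
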