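import Groth.Statements.S1546
import Mathlib
import Groth.Agent.S1670

set_option autoImplicit false
universe u
open CategoryTheory CategoryTheory.Limits AlgebraicGeometry
open Variety

namespace Groth.Agent.S1546

section
open CategoryTheory CategoryTheory.Limits AlgebraicGeometry

open Groth.Agent.S7597

/-- the generic point of an irreducible component is a maximal point. -/
theorem eq_of_specializes_genericPoint {α : Type*} [TopologicalSpace α] [T0Space α]
    {T : Set α} (hT : T ∈ irreducibleComponents α) {ξ : α} (hξ : IsGenericPoint ξ T) {y : α}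
    (h : y ⤳ ξ) : y = ξ := by
  have h1 : IsIrreducible (closure ({y} : Set α)) := isIrreducible_singleton.closure
  have h2 : T ⊆ closure ({y} : Set α) := by
    rw [← hξ.def]
    exact closure_minimal (Set.singleton_subset_iff.mpr h.mem_closure) isClosed_closure
  have h3 : closure ({y} : Set α) ⊆ T := hT.2 h1 h2
  have h4 : ξ ⤳ y := hξ.specializes (h3 (subset_closure rfl))
  exact (h.antisymm h4).eq

theorem image_irreducibleComponent {k : Type u} [Field k] {X : Scheme.{u}}
    (f : X ⟶ Spec (CommRingCat.of k)) (K : Type u) [Field K] [Algebra k K]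
    (T : Set ↥(Groth.Agent.S2502.bc f K))
    (hT : T ∈ irreducibleComponents ↥(Groth.Agent.S2502.bc f K)) :
    ⇑(Groth.Agent.S2502.bcπ f K) '' T ∈ irreducibleComponents ↥X := by
  let p := Groth.Agent.S2502.bcπ f K
  let ps := Groth.Agent.S2502.bcπ f (SeparableClosure k)
  have hTc : IsClosed T := isClosed_of_mem_irreducibleComponents T hT
  let ξ' := hT.1.genericPoint
  have hξ' : IsGenericPoint ξ' T := by
    have := hT.1.isGenericPoint_genericPoint_closure
    rwa [hTc.closure_eq] at this
  have hC := closure_image_genericPoint_mem f T hT ξ' hξ'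
  suffices h : ⇑p '' T = closure {p ξ'} by rw [h]; exact hC
  apply subset_antisymm
  · rintro _ ⟨t, ht, rfl⟩
    exact ((hξ'.specializes ht).map p.continuous).mem_closure
  · intro c hc
    obtain ⟨W, q, ℓ, hq, hgi, -, ho, hcompat⟩ := Groth.Agent.S2502.exists_common' f K
    have hcompat' : ∀ w : W, ps (ℓ w) = p (q w) := fun w => by
      rw [← Scheme.Hom.comp_apply, ← Scheme.Hom.comp_apply, hcompat]
    obtain ⟨w, hw⟩ := hq ξ'
    let TW := irreducibleComponent w
    have hTW : TW ∈ irreducibleComponents ↥W := irreducibleComponent_mem_irreducibleComponents w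
    have hTWc : IsClosed TW := isClosed_of_mem_irreducibleComponents TW hTW
    let ω := hTW.1.genericPoint
    have hω : IsGenericPoint ω TW := by
      have := hTW.1.isGenericPoint_genericPoint_closure
      rwa [hTWc.closure_eq] at this
    have hqω : q ω = ξ' := by
      apply eq_of_specializes_genericPoint hT hξ'
      have := (hω.specializes (mem_irreducibleComponent : w ∈ TW)).map q.continuous
      rwa [hw] at this
    have hqTW : ∀ w' ∈ TW, q w' ∈ T := by
      intro w' hw'
      have := (hω.specializes hw').map q.continuous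
      rw [hqω] at this
      rw [← hξ'.def]
      exact this.mem_closure
    have hfib : ∀ s, IsPreirreducible (⇑ℓ ⁻¹' {s}) := fun s =>
      (ℓ.isIrreducible_preimage ho isIrreducible_singleton).isPreirreducible
    have hTs : ⇑ℓ '' TW ∈ irreducibleComponents ↥(Groth.Agent.S2502.bc f (SeparableClosure k)) :=
      image_mem_irreducibleComponents_of_isPreirreducible_fiber ℓ ℓ.continuous ho hfib
        ℓ.surjective hTW
    have hpre : ⇑ℓ ⁻¹' (⇑ℓ '' TW) = TW := by
      apply subset_antisymm
      · exact hTW.2 (ℓ.isIrreducible_preimage ho hTs.1) (Set.subset_preimage_image _ _)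
      · exact Set.subset_preimage_image _ _
    have hTsc : IsClosed (⇑ℓ '' TW) := isClosed_of_mem_irreducibleComponents _ hTs
    have hcl : IsClosed (⇑ps '' (⇑ℓ '' TW)) :=
      Groth.Agent.S2502.isClosedMap_bcπ f (SeparableClosure k) _ hTsc
    have hx : p ξ' ∈ ⇑ps '' (⇑ℓ '' TW) := by
      refine ⟨ℓ ω, ⟨ω, hω.mem, rfl⟩, ?_⟩
      rw [hcompat', hqω]
    have hsub : closure {p ξ'} ⊆ ⇑ps '' (⇑ℓ '' TW) :=
      hcl.closure_subset_iff.mpr (Set.singleton_subset_iff.mpr hx)
    obtain ⟨ts, ⟨w', hw', rfl⟩, hts⟩ := hsub hc
    refine ⟨q w', hqTW w' hw', ?_⟩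
    rw [← hcompat']
    exact hts

theorem main (k : Type u) [Field k] (X : Scheme.{u}) [X.Over (Spec (CommRingCat.of k))] (K : Type u) [Field K] [Algebra k K] :
    (∀ T ∈ irreducibleComponents (Curv2.bc k X K : Type u), (Curv2.bcFst k X K).base '' T ∈ irreducibleComponents (X : Type u)) ∧
    (∀ Z ∈ irreducibleComponents (X : Type u), ∃ T ∈ irreducibleComponents (Curv2.bc k X K : Type u), (Curv2.bcFst k X K).base '' T = Z) := by
  let f := X ↘ Spec (CommRingCat.of k)
  let p := Groth.Agent.S2502.bcπ f K
  refine ⟨fun T hT => image_irreducibleComponent f K T hT, ?_⟩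
  intro Z hZ
  have hZc : IsClosed Z := isClosed_of_mem_irreducibleComponents Z hZ
  let x := hZ.1.genericPoint
  have hx : IsGenericPoint x Z := by
    have := hZ.1.isGenericPoint_genericPoint_closure
    rwa [hZc.closure_eq] at this
  obtain ⟨z, hz⟩ := Groth.Agent.S2502.surjective_bcπ f K x
  let T := irreducibleComponent z
  have hT : T ∈ irreducibleComponents ↥(Groth.Agent.S2502.bc f K) :=
    irreducibleComponent_mem_irreducibleComponents z
  have h1 := image_irreducibleComponent f K T hT
  refine ⟨T, hT, ?_⟩
  have h2 : Z ⊆ ⇑p '' T := by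
    rw [← hx.def]
    refine (isClosed_of_mem_irreducibleComponents _ h1).closure_subset_iff.mpr ?_
    rw [Set.singleton_subset_iff]
    exact ⟨z, mem_irreducibleComponent, hz⟩
  exact subset_antisymm (hZ.2 h1.1 h2) h2


end


/-- For a field extension K of k and a scheme X over k, the image in X of an irreducible component of
X_K is an irreducible component of X, and every irreducible component of X is such an image. -/
theorem result (k : Type u) [Field k] (X : Scheme.{u}) [X.Over (Spec (CommRingCat.of k))] (K : Type u) [Field K] [Algebra k K] :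
    (∀ T ∈ irreducibleComponents (Curv2.bc k X K : Type u), (Curv2.bcFst k X K).base '' T ∈ irreducibleComponents (X : Type u)) ∧
    (∀ Z ∈ irreducibleComponents (X : Type u), ∃ T ∈ irreducibleComponents (Curv2.bc k X K : Type u), (Curv2.bcFst k X K).base '' T = Z) := by
  classical
  exact main k X K

end Groth.Agent.S1546
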