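import Groth.Statements.S15465
import Mathlib

set_option autoImplicit false
universe v u
open HomAlg

namespace Groth.Agent.S15465

section

open CategoryTheory CategoryTheory.Limits

theorem main
    {C : Type u} [Category.{v} C] [Abelian C] {A₁ A₂ A₃ B₂ C₁ C₂ C₃ : C}
    (i₁ : A₁ ⟶ A₂) (p₁ : A₂ ⟶ A₃) (wA : i₁ ≫ p₁ = 0) (hA : (ShortComplex.mk i₁ p₁ wA).ShortExact)
    (i₂ : A₂ ⟶ B₂) (π₂ : B₂ ⟶ C₂) (wB : i₂ ≫ π₂ = 0) (hB : (ShortComplex.mk i₂ π₂ wB).ShortExact)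
    (j : C₁ ⟶ C₂) (q : C₂ ⟶ C₃) (wC : j ≫ q = 0) (hC : (ShortComplex.mk j q wC).ShortExact)
    (w : (i₁ ≫ i₂) ≫ (π₂ ≫ q) = 0) (h₂ : i₂ ≫ (π₂ ≫ q) = 0) (h₃ : (i₁ ≫ i₂) ≫ π₂ = 0)
    (f : A₃ ⟶ (CategoryTheory.ShortComplex.mk (i₁ ≫ i₂) (π₂ ≫ q) w).homology)
    (g : (CategoryTheory.ShortComplex.mk (i₁ ≫ i₂) (π₂ ≫ q) w).homology ⟶ C₁)
    (hf : p₁ ≫ f = (CategoryTheory.ShortComplex.mk (i₁ ≫ i₂) (π₂ ≫ q) w).liftCycles i₂ h₂ ≫ (CategoryTheory.ShortComplex.mk (i₁ ≫ i₂) (π₂ ≫ q) w).homologyπ)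
    (hg : g ≫ j = (CategoryTheory.ShortComplex.mk (i₁ ≫ i₂) (π₂ ≫ q) w).homologyι ≫ (CategoryTheory.ShortComplex.mk (i₁ ≫ i₂) (π₂ ≫ q) w).descOpcycles π₂ h₃) :
    ∃ wfg : f ≫ g = 0, (ShortComplex.mk f g wfg).ShortExact := by
  obtain ⟨S, hS⟩ : ∃ S : ShortComplex C, S = ShortComplex.mk (i₁ ≫ i₂) (π₂ ≫ q) w := ⟨_, rfl⟩
  haveI : Epi p₁ := hA.epi_g
  haveI : Mono i₂ := hB.mono_f
  haveI : Epi π₂ := hB.epi_g
  haveI : Mono j := hC.mono_f
  -- key computation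
  have key : ∀ {T : C} (z : T ⟶ B₂) (hz : z ≫ (π₂ ≫ q) = 0),
      ((ShortComplex.mk (i₁ ≫ i₂) (π₂ ≫ q) w).liftCycles z hz ≫
        (ShortComplex.mk (i₁ ≫ i₂) (π₂ ≫ q) w).homologyπ) ≫ g ≫ j = z ≫ π₂ := by
    intro T z hz
    rw [hg, Category.assoc, ShortComplex.homology_π_ι_assoc, ShortComplex.p_descOpcycles,
      ShortComplex.liftCycles_i_assoc]
  have hfg : f ≫ g = 0 := by
    rw [← cancel_epi p₁, ← cancel_mono j]
    have h1 : (p₁ ≫ f) ≫ g ≫ j = 0 := by rw [hf, key, wB]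
    simpa using h1
  refine ⟨hfg, ?_⟩
  have hmono : Mono f := by
    apply Preadditive.mono_of_cancel_zero
    intro T x hx
    obtain ⟨T', π, hπ, y, hy⟩ := surjective_up_to_refinements_of_epi p₁ x
    have hyz : (y ≫ i₂) ≫ (π₂ ≫ q) = 0 := by rw [Category.assoc, h₂, comp_zero]
    have h0 : (ShortComplex.mk (i₁ ≫ i₂) (π₂ ≫ q) w).liftCycles (y ≫ i₂) hyz ≫
        (ShortComplex.mk (i₁ ≫ i₂) (π₂ ≫ q) w).homologyπ = 0 := by
      rw [← ShortComplex.comp_liftCycles _ _ h₂, Category.assoc, ← hf, ← Category.assoc, ← hy,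
        Category.assoc, hx, comp_zero]
    obtain ⟨T'', π', hπ', x₁, hx₁⟩ :=
      ((ShortComplex.mk (i₁ ≫ i₂) (π₂ ≫ q) w).liftCycles_comp_homologyπ_eq_zero_iff_up_to_refinements
        (y ≫ i₂) hyz).1 h0
    have e1 : π' ≫ y = x₁ ≫ i₁ := by
      rw [← cancel_mono i₂, Category.assoc, Category.assoc]
      exact hx₁
    rw [← cancel_epi π, ← cancel_epi π', hy, ← Category.assoc, e1, Category.assoc, wA, comp_zero,
      comp_zero, comp_zero]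
  have hepi : Epi g := by
    rw [epi_iff_surjective_up_to_refinements]
    intro T c
    obtain ⟨T', π, hπ, b, hb⟩ := surjective_up_to_refinements_of_epi π₂ (c ≫ j)
    have hbz : b ≫ (π₂ ≫ q) = 0 := by
      rw [← Category.assoc, ← hb, Category.assoc, Category.assoc, wC, comp_zero, comp_zero]
    refine ⟨T', π, hπ, (ShortComplex.mk (i₁ ≫ i₂) (π₂ ≫ q) w).liftCycles b hbz ≫
      (ShortComplex.mk (i₁ ≫ i₂) (π₂ ≫ q) w).homologyπ, ?_⟩
    rw [← cancel_mono j, Category.assoc, Category.assoc, key, hb]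
  have hexact : (ShortComplex.mk f g hfg).Exact := by
    rw [ShortComplex.exact_iff_exact_up_to_refinements]
    intro T k hk
    obtain ⟨T', π, hπ, z, hz, hkz⟩ :=
      (ShortComplex.mk (i₁ ≫ i₂) (π₂ ≫ q) w).eq_liftCycles_homologyπ_up_to_refinements k
    have hz2 : z ≫ π₂ = 0 := by
      have hz' : z ≫ (π₂ ≫ q) = 0 := hz
      rw [← key z hz', ← hkz, Category.assoc, ← Category.assoc k]
      have hk' : k ≫ g = 0 := hk
      rw [hk', zero_comp, comp_zero]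
    obtain ⟨T'', π', hπ', a₂, ha₂⟩ := hB.exact.exact_up_to_refinements z hz2
    refine ⟨T'', π' ≫ π, inferInstance, a₂ ≫ p₁, ?_⟩
    show (π' ≫ π) ≫ k = (a₂ ≫ p₁) ≫ f
    rw [Category.assoc, hkz, Category.assoc, hf, ← Category.assoc, ← Category.assoc,
      ShortComplex.comp_liftCycles, ShortComplex.comp_liftCycles]
    congr 1
    rw [← cancel_mono (ShortComplex.mk (i₁ ≫ i₂) (π₂ ≫ q) w).iCycles, ShortComplex.liftCycles_i,
      ShortComplex.liftCycles_i]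
    exact ha₂
  exact ShortComplex.ShortExact.mk' hexact hmono hepi


end


open CategoryTheory CategoryTheory.Limits in
/-- In an abelian category let 0 → A₂ → B₂ → C₂ → 0 (maps i₂, π₂), 0 → A₁ → A₂ → A₃ → 0 (maps i₁, p₁)
and 0 → C₁ → C₂ → C₃ → 0 (maps j, q) be short exact sequences, let α = i₁ ≫ i₂ : A₁ → B₂ and β = π₂
≫ q : B₂ → C₃, and let K = ker β / im α be the homology object of the complex A₁ → B₂ → C₃. Let f :
A₃ → K be the map induced by i₂ (the unique map whose composite with p₁ is the homology class of the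
cycle i₂) and g : K → C₁ the map induced by π₂ (the unique map whose composite with j is the map K →
C₂ induced by π₂). Then 0 → A₃ → K → C₁ → 0, with maps f and g, is a short exact sequence. (The
hypotheses w, h₂, h₃ are consequences of i₂ ≫ π₂ = 0, carried so that the maps can be named; the
published statement assumes in addition that the category has enough injective objects, which plays
no role in this assertion.) -/
theorem result
    {C : Type u} [Category.{v} C] [Abelian C] {A₁ A₂ A₃ B₂ C₁ C₂ C₃ : C}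
    (i₁ : A₁ ⟶ A₂) (p₁ : A₂ ⟶ A₃) (wA : i₁ ≫ p₁ = 0) (hA : (ShortComplex.mk i₁ p₁ wA).ShortExact)
    (i₂ : A₂ ⟶ B₂) (π₂ : B₂ ⟶ C₂) (wB : i₂ ≫ π₂ = 0) (hB : (ShortComplex.mk i₂ π₂ wB).ShortExact)
    (j : C₁ ⟶ C₂) (q : C₂ ⟶ C₃) (wC : j ≫ q = 0) (hC : (ShortComplex.mk j q wC).ShortExact)
    (w : (i₁ ≫ i₂) ≫ (π₂ ≫ q) = 0) (h₂ : i₂ ≫ (π₂ ≫ q) = 0) (h₃ : (i₁ ≫ i₂) ≫ π₂ = 0)
    (f : A₃ ⟶ (CategoryTheory.ShortComplex.mk (i₁ ≫ i₂) (π₂ ≫ q) w).homology)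
    (g : (CategoryTheory.ShortComplex.mk (i₁ ≫ i₂) (π₂ ≫ q) w).homology ⟶ C₁)
    (hf : p₁ ≫ f = (CategoryTheory.ShortComplex.mk (i₁ ≫ i₂) (π₂ ≫ q) w).liftCycles i₂ h₂ ≫ (CategoryTheory.ShortComplex.mk (i₁ ≫ i₂) (π₂ ≫ q) w).homologyπ)
    (hg : g ≫ j = (CategoryTheory.ShortComplex.mk (i₁ ≫ i₂) (π₂ ≫ q) w).homologyι ≫ (CategoryTheory.ShortComplex.mk (i₁ ≫ i₂) (π₂ ≫ q) w).descOpcycles π₂ h₃) :
    ∃ wfg : f ≫ g = 0, (ShortComplex.mk f g wfg).ShortExact := by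
  classical
  exact main i₁ p₁ wA hA i₂ π₂ wB hB j q wC hC w h₂ h₃ f g hf hg

end Groth.Agent.S15465
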