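import Groth.Statements.S15466
import Mathlib
import Groth.Statements.S15466
import Mathlib.CategoryTheory.Abelian.Refinements
-- import your own Groth.Agent.* helpers here

set_option autoImplicit false
universe v u
open HomAlg

namespace Groth.Agent.S15466

open CategoryTheory CategoryTheory.Limits
namespace Aux
set_option backward.isDefEq.respectTransparency false
set_option linter.style.haveILetI false

variable {C : Type u} [Category.{v} C] [Abelian C]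

/-- The context of the nine diagram. -/
structure Ctx (C : Type u) [Category.{v} C] [Abelian C] where
  S : ShortComplex C
  A₂ : C
  A₃ : C
  C₁ : C
  C₂ : C
  i₁ : S.X₁ ⟶ A₂
  p₁ : A₂ ⟶ A₃
  wA : i₁ ≫ p₁ = 0
  hA : (ShortComplex.mk i₁ p₁ wA).ShortExact
  i₂ : A₂ ⟶ S.X₂
  π₂ : S.X₂ ⟶ C₂
  wB : i₂ ≫ π₂ = 0
  hB : (ShortComplex.mk i₂ π₂ wB).ShortExact
  j : C₁ ⟶ C₂
  q : C₂ ⟶ S.X₃
  wC : j ≫ q = 0
  hC : (ShortComplex.mk j q wC).ShortExact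
  hSf : S.f = i₁ ≫ i₂
  hSg : S.g = π₂ ≫ q
  h₂ : i₂ ≫ S.g = 0
  h₃ : S.f ≫ π₂ = 0
  f : A₃ ⟶ S.homology
  g : S.homology ⟶ C₁
  hf : p₁ ≫ f = S.liftCycles i₂ h₂ ≫ S.homologyπ
  hg : g ≫ j = S.homologyι ≫ S.descOpcycles π₂ h₃

lemma pullback_image_props {Z H C₁ : C} (πH : Z ⟶ H) [Epi πH] (s : C₁ ⟶ H) [Mono s] :
    ∃ ε : ((Subobject.pullback πH).obj (imageSubobject s) : C) ⟶ C₁, Epi ε ∧
      ε ≫ s = ((Subobject.pullback πH).obj (imageSubobject s)).arrow ≫ πH ∧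
      ∀ (T : C) (w : T ⟶ Z) (t : T ⟶ C₁), w ≫ πH = t ≫ s →
        ∃ wM : T ⟶ ((Subobject.pullback πH).obj (imageSubobject s) : C),
          wM ≫ ((Subobject.pullback πH).obj (imageSubobject s)).arrow = w := by
  have hpb := Subobject.isPullback πH (imageSubobject s)
  haveI : Mono (factorThruImageSubobject s) := mono_of_mono_fac (imageSubobject_arrow_comp s)
  haveI : IsIso (factorThruImageSubobject s) := isIso_of_mono_of_epi _
  haveI : Epi (Subobject.pullbackπ πH (imageSubobject s)) :=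
    Abelian.epi_fst_of_isLimit (imageSubobject s).arrow πH hpb.isLimit
  refine ⟨Subobject.pullbackπ πH (imageSubobject s) ≫ inv (factorThruImageSubobject s),
    epi_comp _ _, ?_, ?_⟩
  · rw [Category.assoc, ← hpb.w]
    congr 1
    rw [IsIso.inv_comp_eq, imageSubobject_arrow_comp]
  · intro T w t h
    exact ⟨hpb.lift (t ≫ factorThruImageSubobject s) w
      (by rw [Category.assoc, imageSubobject_arrow_comp, h]), hpb.lift_snd _ _ _⟩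

lemma props_of_mk {Z H B C₁ : C} (iZ : Z ⟶ B) [Mono iZ] (πH : Z ⟶ H) (s : C₁ ⟶ H)
    (P : Subobject Z) (ε : (P : C) ⟶ C₁) [Epi ε] (hε : ε ≫ s = P.arrow ≫ πH)
    (huniv : ∀ (T : C) (w : T ⟶ Z) (t : T ⟶ C₁), w ≫ πH = t ≫ s →
      ∃ wM : T ⟶ (P : C), wM ≫ P.arrow = w)
    (B₁ : Subobject B) (hB₁ : (Subobject.map iZ).obj P = B₁) :
    ∃ (bZ : (B₁ : C) ⟶ Z) (ε' : (B₁ : C) ⟶ C₁), bZ ≫ iZ = B₁.arrow ∧ Epi ε' ∧
      ε' ≫ s = bZ ≫ πH ∧
      ∀ (T : C) (x : T ⟶ Z) (t : T ⟶ C₁), x ≫ πH = t ≫ s →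
        ∃ xM : T ⟶ (B₁ : C), xM ≫ bZ = x := by
  have e : (Subobject.map iZ).obj P = Subobject.mk (P.arrow ≫ iZ) := by
    rw [← Subobject.map_mk, Subobject.mk_arrow]
  rw [e] at hB₁
  subst hB₁
  refine ⟨(Subobject.underlyingIso (P.arrow ≫ iZ)).hom ≫ P.arrow,
    (Subobject.underlyingIso (P.arrow ≫ iZ)).hom ≫ ε, ?_, epi_comp _ _, ?_, ?_⟩
  · rw [Category.assoc]; exact Subobject.underlyingIso_hom_comp_eq_mk _
  · rw [Category.assoc, hε, Category.assoc]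
  · intro T x t h
    obtain ⟨xM, hxM⟩ := huniv T x t h
    exact ⟨xM ≫ (Subobject.underlyingIso (P.arrow ≫ iZ)).inv, by
      rw [Category.assoc, Iso.inv_hom_id_assoc, hxM]⟩

namespace Ctx
variable (X : Ctx C)

instance : Mono X.i₁ := X.hA.mono_f
instance : Epi X.p₁ := X.hA.epi_g
instance : Mono X.i₂ := X.hB.mono_f
instance : Epi X.π₂ := X.hB.epi_g
instance : Mono X.j := X.hC.mono_f
instance : Epi X.q := X.hC.epi_g

lemma F1 : X.S.homologyπ ≫ X.g ≫ X.j = X.S.iCycles ≫ X.π₂ := by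
  rw [X.hg, X.S.homology_π_ι_assoc, X.S.p_descOpcycles]

lemma fg_zero : X.f ≫ X.g = 0 := by
  rw [← cancel_epi X.p₁, ← cancel_mono X.j, comp_zero, zero_comp]
  calc (X.p₁ ≫ X.f ≫ X.g) ≫ X.j
      = X.S.liftCycles X.i₂ X.h₂ ≫ (X.S.homologyπ ≫ X.g ≫ X.j) := by
        rw [← Category.assoc X.p₁, X.hf]; simp only [Category.assoc]
    _ = 0 := by rw [X.F1, X.S.liftCycles_i_assoc, X.wB]

lemma exact_fg : (ShortComplex.mk X.f X.g X.fg_zero).Exact := by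
  rw [ShortComplex.exact_iff_exact_up_to_refinements]
  intro T x hx
  have hx' : x ≫ X.g = 0 := hx
  obtain ⟨T', π, hπ, z, hz⟩ := surjective_up_to_refinements_of_epi X.S.homologyπ x
  have h1 : (z ≫ X.S.iCycles) ≫ X.π₂ = 0 := by
    calc (z ≫ X.S.iCycles) ≫ X.π₂ = z ≫ (X.S.homologyπ ≫ X.g ≫ X.j) := by
          rw [X.F1, Category.assoc]
      _ = (π ≫ x) ≫ X.g ≫ X.j := by rw [hz, Category.assoc]
      _ = π ≫ (x ≫ X.g) ≫ X.j := by simp only [Category.assoc]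
      _ = 0 := by rw [hx', zero_comp, comp_zero]
  obtain ⟨T'', π', hπ', (y : T'' ⟶ X.A₂), (hy : π' ≫ z ≫ X.S.iCycles = y ≫ X.i₂)⟩ :=
    X.hB.exact.exact_up_to_refinements (z ≫ X.S.iCycles) h1
  have h2 : π' ≫ z = y ≫ X.S.liftCycles X.i₂ X.h₂ := by
    rw [← cancel_mono X.S.iCycles, Category.assoc, Category.assoc, X.S.liftCycles_i, hy]
  refine ⟨T'', π' ≫ π, epi_comp _ _, y ≫ X.p₁, ?_⟩
  calc (π' ≫ π) ≫ x = π' ≫ (π ≫ x) := Category.assoc _ _ _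
    _ = (π' ≫ z) ≫ X.S.homologyπ := by rw [hz, Category.assoc]
    _ = y ≫ (X.S.liftCycles X.i₂ X.h₂ ≫ X.S.homologyπ) := by rw [h2, Category.assoc]
    _ = (y ≫ X.p₁) ≫ X.f := by rw [← X.hf, Category.assoc]

lemma exists_data (s : X.C₁ ⟶ X.S.homology) (hs : s ≫ X.g = 𝟙 X.C₁)
    (B₁ : Subobject X.S.X₂) (bZ : (B₁ : C) ⟶ X.S.cycles) (hbZ : bZ ≫ X.S.iCycles = B₁.arrow)
    (ε : (B₁ : C) ⟶ X.C₁) [Epi ε] (hε : ε ≫ s = bZ ≫ X.S.homologyπ)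
    (huniv : ∀ (T : C) (x : T ⟶ X.S.cycles) (t : T ⟶ X.C₁),
       x ≫ X.S.homologyπ = t ≫ s → ∃ xM : T ⟶ (B₁ : C), xM ≫ bZ = x) :
    ∃ (a : X.S.X₁ ⟶ (B₁ : C)) (c : (B₁ : C) ⟶ X.C₁) (wac : a ≫ c = 0)
         (a' : X.A₃ ⟶ cokernel B₁.arrow) (c' : cokernel B₁.arrow ⟶ X.S.X₃) (wac' : a' ≫ c' = 0),
         a ≫ B₁.arrow = X.i₁ ≫ X.i₂ ∧ c ≫ X.j = B₁.arrow ≫ X.π₂ ∧
         (ShortComplex.mk a c wac).ShortExact ∧
         X.p₁ ≫ a' = X.i₂ ≫ cokernel.π B₁.arrow ∧ cokernel.π B₁.arrow ≫ c' = X.π₂ ≫ X.q ∧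
         (ShortComplex.mk a' c' wac').ShortExact := by
  haveI : Mono bZ := mono_of_mono_fac hbZ
  haveI : Mono s := mono_of_mono_fac hs
  obtain ⟨a, ha⟩ := huniv _ X.S.toCycles 0 (by rw [X.S.toCycles_comp_homologyπ, zero_comp])
  have ha' : a ≫ B₁.arrow = X.i₁ ≫ X.i₂ := by
    rw [← hbZ, reassoc_of% ha, X.S.toCycles_i, X.hSf]
  haveI : Mono a := mono_of_mono_fac ha'
  have hc : ε ≫ X.j = B₁.arrow ≫ X.π₂ := by
    calc ε ≫ X.j = ε ≫ (s ≫ X.g) ≫ X.j := by rw [hs, Category.id_comp]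
      _ = (ε ≫ s) ≫ X.g ≫ X.j := by simp only [Category.assoc]
      _ = bZ ≫ (X.S.homologyπ ≫ X.g ≫ X.j) := by rw [hε, Category.assoc]
      _ = B₁.arrow ≫ X.π₂ := by rw [X.F1, ← hbZ, Category.assoc]
  have wac : a ≫ ε = 0 := by
    rw [← cancel_mono s, Category.assoc, hε, reassoc_of% ha, X.S.toCycles_comp_homologyπ,
      zero_comp]
  have hex : (ShortComplex.mk a ε wac).Exact := by
    rw [ShortComplex.exact_iff_exact_up_to_refinements]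
    intro T x hx
    have hx' : x ≫ ε = 0 := hx
    have h1 : (x ≫ bZ) ≫ X.S.homologyπ = 0 := by
      rw [Category.assoc, ← hε, reassoc_of% hx', zero_comp]
    obtain ⟨T', π, hπ, (y : T' ⟶ X.S.X₁), (hy : π ≫ x ≫ bZ = y ≫ X.S.toCycles)⟩ :=
      (ShortComplex.exact_of_g_is_cokernel
        (ShortComplex.mk X.S.toCycles X.S.homologyπ X.S.toCycles_comp_homologyπ)
        X.S.homologyIsCokernel).exact_up_to_refinements (x ≫ bZ) h1
    refine ⟨T', π, hπ, y, ?_⟩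
    show π ≫ x = y ≫ a
    rw [← cancel_mono bZ, Category.assoc, Category.assoc, ha, hy]
  have hSE : (ShortComplex.mk a ε wac).ShortExact :=
    ShortComplex.ShortExact.mk' hex ‹Mono a› ‹Epi ε›
  -- the cokernel
  have hm0 : B₁.arrow ≫ X.S.g = 0 := by
    rw [← hbZ, Category.assoc, X.S.iCycles_g, comp_zero]
  obtain ⟨c', hc'0⟩ : ∃ c' : cokernel B₁.arrow ⟶ X.S.X₃, cokernel.π B₁.arrow ≫ c' = X.S.g :=
    ⟨cokernel.desc _ _ hm0, cokernel.π_desc _ _ _⟩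
  have hc' : cokernel.π B₁.arrow ≫ c' = X.π₂ ≫ X.q := by rw [hc'0, X.hSg]
  have hi : X.i₁ ≫ X.i₂ ≫ cokernel.π B₁.arrow = 0 := by
    rw [← Category.assoc, ← ha', Category.assoc, cokernel.condition, comp_zero]
  haveI : Epi (ShortComplex.mk X.i₁ X.p₁ X.wA).g := X.hA.epi_g
  obtain ⟨a', ha''⟩ : ∃ a' : X.A₃ ⟶ cokernel B₁.arrow,
      X.p₁ ≫ a' = X.i₂ ≫ cokernel.π B₁.arrow :=
    ⟨X.hA.exact.desc (X.i₂ ≫ cokernel.π B₁.arrow) hi, X.hA.exact.g_desc _ _⟩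
  have wac' : a' ≫ c' = 0 := by
    rw [← cancel_epi X.p₁, reassoc_of% ha'', hc', comp_zero, reassoc_of% X.wB, zero_comp]
  haveI : Epi c' := epi_of_epi_fac hc'
  haveI : Mono a' := by
    apply Preadditive.mono_of_cancel_zero
    intro T x hx
    obtain ⟨T', π, hπ, y, hy⟩ := surjective_up_to_refinements_of_epi X.p₁ x
    have h1 : (y ≫ X.i₂) ≫ cokernel.π B₁.arrow = 0 := by
      rw [Category.assoc, ← ha'', ← reassoc_of% hy, hx, comp_zero]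
    obtain ⟨T'', π', hπ', (z : T'' ⟶ (B₁ : C)), (hz : π' ≫ y ≫ X.i₂ = z ≫ B₁.arrow)⟩ :=
      (ShortComplex.exact_of_g_is_cokernel
        (ShortComplex.mk B₁.arrow (cokernel.π B₁.arrow) (cokernel.condition _))
        (cokernelIsCokernel _)).exact_up_to_refinements (y ≫ X.i₂) h1
    have h2 : z ≫ ε = 0 := by
      rw [← cancel_mono X.j, Category.assoc, hc, ← reassoc_of% hz, zero_comp, X.wB,
        comp_zero, comp_zero]
    obtain ⟨T''', π'', hπ'', (u : T''' ⟶ X.S.X₁), (hu : π'' ≫ z = u ≫ a)⟩ :=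
      hex.exact_up_to_refinements z h2
    have h3 : (π'' ≫ π') ≫ y = u ≫ X.i₁ := by
      rw [← cancel_mono X.i₂]
      simp only [Category.assoc]
      rw [hz, reassoc_of% hu, ha']
    have h4 : ((π'' ≫ π') ≫ π) ≫ x = 0 := by
      rw [Category.assoc, hy, ← Category.assoc, h3, Category.assoc, X.wA, comp_zero]
    haveI : Epi ((π'' ≫ π') ≫ π) := epi_comp _ _
    exact (cancel_epi ((π'' ≫ π') ≫ π)).1 (by rw [h4, comp_zero])
  have hex' : (ShortComplex.mk a' c' wac').Exact := by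
    rw [ShortComplex.exact_iff_exact_up_to_refinements]
    intro T x hx
    have hx' : x ≫ c' = 0 := hx
    obtain ⟨T', π, hπ, b, hb⟩ := surjective_up_to_refinements_of_epi (cokernel.π B₁.arrow) x
    have hbg : b ≫ X.S.g = 0 := by
      rw [← hc'0, ← reassoc_of% hb, hx', comp_zero]
    obtain ⟨bz, hbz⟩ : ∃ bz : T' ⟶ X.S.cycles, bz ≫ X.S.iCycles = b :=
      ⟨X.S.liftCycles b hbg, X.S.liftCycles_i _ _⟩
    obtain ⟨h, hdef⟩ : ∃ h : T' ⟶ X.S.homology, h = bz ≫ X.S.homologyπ := ⟨_, rfl⟩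
    have hh' : (h - h ≫ X.g ≫ s) ≫ X.g = 0 := by
      rw [Preadditive.sub_comp, Category.assoc, Category.assoc, hs, Category.comp_id, sub_self]
    obtain ⟨T'', π', hπ', (v : T'' ⟶ X.A₃), (hv : π' ≫ (h - h ≫ X.g ≫ s) = v ≫ X.f)⟩ :=
      X.exact_fg.exact_up_to_refinements (h - h ≫ X.g ≫ s) hh'
    obtain ⟨T''', π'', hπ'', y, hy⟩ := surjective_up_to_refinements_of_epi X.p₁ v
    obtain ⟨ρ, hρ⟩ : ∃ ρ : T''' ⟶ T', ρ = π'' ≫ π' := ⟨_, rfl⟩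
    haveI : Epi ρ := by rw [hρ]; exact epi_comp _ _
    have e1 : y ≫ X.S.liftCycles X.i₂ X.h₂ ≫ X.S.homologyπ = ρ ≫ (h - h ≫ X.g ≫ s) := by
      calc y ≫ X.S.liftCycles X.i₂ X.h₂ ≫ X.S.homologyπ = (y ≫ X.p₁) ≫ X.f := by
            rw [Category.assoc, X.hf]
        _ = (π'' ≫ v) ≫ X.f := by rw [hy]
        _ = π'' ≫ (π' ≫ (h - h ≫ X.g ≫ s)) := by rw [Category.assoc, hv]
        _ = ρ ≫ (h - h ≫ X.g ≫ s) := by rw [hρ, Category.assoc]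
    have hw : (ρ ≫ bz - y ≫ X.S.liftCycles X.i₂ X.h₂) ≫ X.S.homologyπ
        = (ρ ≫ h ≫ X.g) ≫ s := by
      calc (ρ ≫ bz - y ≫ X.S.liftCycles X.i₂ X.h₂) ≫ X.S.homologyπ
          = ρ ≫ (bz ≫ X.S.homologyπ) - y ≫ X.S.liftCycles X.i₂ X.h₂ ≫ X.S.homologyπ := by
            rw [Preadditive.sub_comp, Category.assoc, Category.assoc]
        _ = ρ ≫ h - ρ ≫ (h - h ≫ X.g ≫ s) := by rw [e1, hdef]
        _ = ρ ≫ (h ≫ X.g ≫ s) := by rw [Preadditive.comp_sub]; exact sub_sub_cancel _ _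
        _ = (ρ ≫ h ≫ X.g) ≫ s := by simp only [Category.assoc]
    obtain ⟨wM, hwM⟩ := huniv _ _ _ hw
    have e2 : (ρ ≫ bz - y ≫ X.S.liftCycles X.i₂ X.h₂) ≫ X.S.iCycles = ρ ≫ b - y ≫ X.i₂ := by
      rw [Preadditive.sub_comp, Category.assoc, Category.assoc, hbz, X.S.liftCycles_i]
    have e3 : (ρ ≫ b - y ≫ X.i₂) ≫ cokernel.π B₁.arrow = 0 := by
      rw [← e2, ← hwM]
      simp only [Category.assoc]
      rw [reassoc_of% hbZ, cokernel.condition, comp_zero]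
    have e4 : ρ ≫ b ≫ cokernel.π B₁.arrow = y ≫ X.i₂ ≫ cokernel.π B₁.arrow := by
      rw [Preadditive.sub_comp, Category.assoc, Category.assoc] at e3
      exact sub_eq_zero.1 e3
    refine ⟨T''', ρ ≫ π, epi_comp _ _, y ≫ X.p₁, ?_⟩
    calc (ρ ≫ π) ≫ x = ρ ≫ (π ≫ x) := Category.assoc _ _ _
      _ = ρ ≫ b ≫ cokernel.π B₁.arrow := by rw [hb]
      _ = y ≫ X.i₂ ≫ cokernel.π B₁.arrow := e4
      _ = (y ≫ X.p₁) ≫ a' := by rw [Category.assoc, ha'']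
  have hSE' : (ShortComplex.mk a' c' wac').ShortExact :=
    ShortComplex.ShortExact.mk' hex' ‹Mono a'› ‹Epi c'›
  exact ⟨a, ε, wac, a', c', wac', ha', hc, hSE, ha'', hc', hSE'⟩

lemma props_of_eq (s : X.C₁ ⟶ X.S.homology) (hs : s ≫ X.g = 𝟙 X.C₁) (B₁ : Subobject X.S.X₂)
    (hB₁ : (Subobject.map X.S.iCycles).obj
      ((Subobject.pullback X.S.homologyπ).obj (imageSubobject s)) = B₁) :
    ∃ (bZ : (B₁ : C) ⟶ X.S.cycles) (ε : (B₁ : C) ⟶ X.C₁), bZ ≫ X.S.iCycles = B₁.arrow ∧ Epi ε ∧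
      ε ≫ s = bZ ≫ X.S.homologyπ ∧
      ∀ (T : C) (x : T ⟶ X.S.cycles) (t : T ⟶ X.C₁),
       x ≫ X.S.homologyπ = t ≫ s → ∃ xM : T ⟶ (B₁ : C), xM ≫ bZ = x := by
  haveI : Mono s := mono_of_mono_fac hs
  obtain ⟨ε, hεepi, hε, huniv⟩ := pullback_image_props X.S.homologyπ s
  haveI := hεepi
  exact props_of_mk X.S.iCycles X.S.homologyπ s _ ε hε huniv B₁ hB₁

lemma exists_section (B₁ : Subobject X.S.X₂)
    (a : X.S.X₁ ⟶ (B₁ : C)) (c : (B₁ : C) ⟶ X.C₁) (wac : a ≫ c = 0)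
    (h1 : a ≫ B₁.arrow = X.i₁ ≫ X.i₂) (h2 : c ≫ X.j = B₁.arrow ≫ X.π₂)
    (hSE : (ShortComplex.mk a c wac).ShortExact) :
    ∃ s : X.C₁ ⟶ X.S.homology, s ≫ X.g = 𝟙 X.C₁ ∧
      (Subobject.map X.S.iCycles).obj
        ((Subobject.pullback X.S.homologyπ).obj (imageSubobject s)) = B₁ := by
  haveI : Epi c := hSE.epi_g
  haveI : Epi (ShortComplex.mk a c wac).g := hSE.epi_g
  have hb0 : B₁.arrow ≫ X.S.g = 0 := by
    rw [X.hSg, ← reassoc_of% h2, X.wC, comp_zero]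
  obtain ⟨bZ, hbZ⟩ : ∃ bZ : (B₁ : C) ⟶ X.S.cycles, bZ ≫ X.S.iCycles = B₁.arrow :=
    ⟨X.S.liftCycles _ hb0, X.S.liftCycles_i _ _⟩
  haveI : Mono bZ := mono_of_mono_fac hbZ
  have habZ : a ≫ bZ = X.S.toCycles := by
    rw [← cancel_mono X.S.iCycles, Category.assoc, hbZ, h1, X.S.toCycles_i, X.hSf]
  have h0 : a ≫ bZ ≫ X.S.homologyπ = 0 := by
    rw [reassoc_of% habZ, X.S.toCycles_comp_homologyπ]
  obtain ⟨s, hs0⟩ : ∃ s : X.C₁ ⟶ X.S.homology, c ≫ s = bZ ≫ X.S.homologyπ :=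
    ⟨hSE.exact.desc _ h0, hSE.exact.g_desc _ _⟩
  have hsg : s ≫ X.g = 𝟙 X.C₁ := by
    rw [← cancel_epi c, ← cancel_mono X.j, Category.comp_id]
    calc (c ≫ s ≫ X.g) ≫ X.j = (c ≫ s) ≫ X.g ≫ X.j := by simp only [Category.assoc]
      _ = bZ ≫ (X.S.homologyπ ≫ X.g ≫ X.j) := by rw [hs0, Category.assoc]
      _ = c ≫ X.j := by rw [X.F1, ← Category.assoc, hbZ, h2]
  refine ⟨s, hsg, ?_⟩
  haveI : Mono s := mono_of_mono_fac hsg
  have hpb := Subobject.isPullback X.S.homologyπ (imageSubobject s)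
  have hP : (Subobject.pullback X.S.homologyπ).obj (imageSubobject s) = Subobject.mk bZ := by
    apply le_antisymm
    · have hk : X.S.toCycles ≫ cokernel.π bZ = 0 := by
        rw [← habZ, Category.assoc, cokernel.condition, comp_zero]
      obtain ⟨t, ht⟩ : ∃ t : X.S.homology ⟶ cokernel bZ, X.S.homologyπ ≫ t = cokernel.π bZ :=
        ⟨X.S.descHomology _ hk, X.S.π_descHomology _ hk⟩
      have hst : s ≫ t = 0 := by
        rw [← cancel_epi c, reassoc_of% hs0, ht, cokernel.condition, comp_zero]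
      have him : (imageSubobject s).arrow ≫ t = 0 := by
        rw [← cancel_epi (factorThruImageSubobject s), imageSubobject_arrow_comp_assoc, hst,
          comp_zero]
      have hz : ((Subobject.pullback X.S.homologyπ).obj (imageSubobject s)).arrow ≫
          cokernel.π bZ = 0 := by
        rw [← ht, ← reassoc_of% hpb.w, him, comp_zero]
      exact Subobject.le_mk_of_comm (Abelian.monoLift bZ _ hz) (Abelian.monoLift_comp _ _ _)
    · exact Subobject.mk_le_of_comm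
        (hpb.lift (c ≫ factorThruImageSubobject s) bZ (by
          rw [Category.assoc, imageSubobject_arrow_comp, hs0]))
        (hpb.lift_snd _ _ _)
  rw [hP, Subobject.map_mk]
  calc Subobject.mk (bZ ≫ X.S.iCycles) = Subobject.mk B₁.arrow :=
        Subobject.mk_eq_mk_of_comm _ _ (Iso.refl _) (by simp [hbZ])
    _ = B₁ := Subobject.mk_arrow B₁

lemma section_inj (s s' : X.C₁ ⟶ X.S.homology) (hs : s ≫ X.g = 𝟙 X.C₁)
    (hs' : s' ≫ X.g = 𝟙 X.C₁)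
    (h : (Subobject.map X.S.iCycles).obj
        ((Subobject.pullback X.S.homologyπ).obj (imageSubobject s)) =
      (Subobject.map X.S.iCycles).obj
        ((Subobject.pullback X.S.homologyπ).obj (imageSubobject s'))) : s = s' := by
  haveI : Mono s := mono_of_mono_fac hs
  haveI : Mono s' := mono_of_mono_fac hs'
  have hP := Subobject.map_obj_injective X.S.iCycles h
  obtain ⟨ε, hεepi, hε, -⟩ := pullback_image_props X.S.homologyπ s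
  obtain ⟨ε', -, hε', -⟩ := pullback_image_props X.S.homologyπ s'
  haveI := hεepi
  have key : ∀ (R : Subobject X.S.cycles),
      R = (Subobject.pullback X.S.homologyπ).obj (imageSubobject s') →
      ∃ ε'' : (R : C) ⟶ X.C₁, ε'' ≫ s' = R.arrow ≫ X.S.homologyπ := by
    intro R hR; subst hR; exact ⟨ε', hε'⟩
  obtain ⟨ε'', hε''⟩ := key _ hP
  have e : ε = ε'' := by
    calc ε = (ε ≫ s) ≫ X.g := by rw [Category.assoc, hs, Category.comp_id]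
      _ = (ε'' ≫ s') ≫ X.g := by rw [hε, hε'']
      _ = ε'' := by rw [Category.assoc, hs', Category.comp_id]
  rw [← cancel_epi ε, hε, e, hε'']

end Ctx

theorem main
    {C : Type u} [Category.{v} C] [Abelian C] {A₁ A₂ A₃ B₂ C₁ C₂ C₃ : C}
    (i₁ : A₁ ⟶ A₂) (p₁ : A₂ ⟶ A₃) (wA : i₁ ≫ p₁ = 0) (hA : (ShortComplex.mk i₁ p₁ wA).ShortExact)
    (i₂ : A₂ ⟶ B₂) (π₂ : B₂ ⟶ C₂) (wB : i₂ ≫ π₂ = 0) (hB : (ShortComplex.mk i₂ π₂ wB).ShortExact)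
    (j : C₁ ⟶ C₂) (q : C₂ ⟶ C₃) (wC : j ≫ q = 0) (hC : (ShortComplex.mk j q wC).ShortExact)
    (w : (i₁ ≫ i₂) ≫ (π₂ ≫ q) = 0) (h₂ : i₂ ≫ (π₂ ≫ q) = 0) (h₃ : (i₁ ≫ i₂) ≫ π₂ = 0)
    (f : A₃ ⟶ (CategoryTheory.ShortComplex.mk (i₁ ≫ i₂) (π₂ ≫ q) w).homology)
    (g : (CategoryTheory.ShortComplex.mk (i₁ ≫ i₂) (π₂ ≫ q) w).homology ⟶ C₁)
    (hf : p₁ ≫ f = (CategoryTheory.ShortComplex.mk (i₁ ≫ i₂) (π₂ ≫ q) w).liftCycles i₂ h₂ ≫ (CategoryTheory.ShortComplex.mk (i₁ ≫ i₂) (π₂ ≫ q) w).homologyπ)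
    (hg : g ≫ j = (CategoryTheory.ShortComplex.mk (i₁ ≫ i₂) (π₂ ≫ q) w).homologyι ≫ (CategoryTheory.ShortComplex.mk (i₁ ≫ i₂) (π₂ ≫ q) w).descOpcycles π₂ h₃) :
    (∀ B₁ : Subobject B₂,
      (∃ (a : A₁ ⟶ (B₁ : C)) (c : (B₁ : C) ⟶ C₁) (wac : a ≫ c = 0)
         (a' : A₃ ⟶ cokernel B₁.arrow) (c' : cokernel B₁.arrow ⟶ C₃) (wac' : a' ≫ c' = 0),
         a ≫ B₁.arrow = i₁ ≫ i₂ ∧ c ≫ j = B₁.arrow ≫ π₂ ∧ (ShortComplex.mk a c wac).ShortExact ∧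
         p₁ ≫ a' = i₂ ≫ cokernel.π B₁.arrow ∧ cokernel.π B₁.arrow ≫ c' = π₂ ≫ q ∧
         (ShortComplex.mk a' c' wac').ShortExact) ↔
      ∃ s : C₁ ⟶ (CategoryTheory.ShortComplex.mk (i₁ ≫ i₂) (π₂ ≫ q) w).homology, s ≫ g = 𝟙 C₁ ∧
        (Subobject.map (CategoryTheory.ShortComplex.mk (i₁ ≫ i₂) (π₂ ≫ q) w).iCycles).obj ((Subobject.pullback (CategoryTheory.ShortComplex.mk (i₁ ≫ i₂) (π₂ ≫ q) w).homologyπ).obj (imageSubobject s)) = B₁) ∧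
    (∀ s s' : C₁ ⟶ (CategoryTheory.ShortComplex.mk (i₁ ≫ i₂) (π₂ ≫ q) w).homology, s ≫ g = 𝟙 C₁ → s' ≫ g = 𝟙 C₁ →
      (Subobject.map (CategoryTheory.ShortComplex.mk (i₁ ≫ i₂) (π₂ ≫ q) w).iCycles).obj ((Subobject.pullback (CategoryTheory.ShortComplex.mk (i₁ ≫ i₂) (π₂ ≫ q) w).homologyπ).obj (imageSubobject s)) = (Subobject.map (CategoryTheory.ShortComplex.mk (i₁ ≫ i₂) (π₂ ≫ q) w).iCycles).obj ((Subobject.pullback (CategoryTheory.ShortComplex.mk (i₁ ≫ i₂) (π₂ ≫ q) w).homologyπ).obj (imageSubobject s')) → s = s') := by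
  let X : Ctx C :=
    { S := ShortComplex.mk (i₁ ≫ i₂) (π₂ ≫ q) w
      A₂ := A₂, A₃ := A₃, C₁ := C₁, C₂ := C₂
      i₁ := i₁, p₁ := p₁, wA := wA, hA := hA
      i₂ := i₂, π₂ := π₂, wB := wB, hB := hB
      j := j, q := q, wC := wC, hC := hC
      hSf := rfl, hSg := rfl, h₂ := h₂, h₃ := h₃
      f := f, g := g, hf := hf, hg := hg }
  refine ⟨fun B₁ => ⟨?_, ?_⟩, ?_⟩
  · rintro ⟨a, c, wac, a', c', wac', h1, h2, hSE, -, -, -⟩
    exact X.exists_section B₁ a c wac h1 h2 hSE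
  · rintro ⟨s, hs, hB₁⟩
    obtain ⟨bZ, ε, hbZ, hεepi, hε, huniv⟩ := X.props_of_eq s hs B₁ hB₁
    haveI := hεepi
    exact X.exists_data s hs B₁ bZ hbZ ε hε huniv
  · intro s s' hs hs' h
    exact X.section_inj s s' hs hs' h

end Aux

open CategoryTheory CategoryTheory.Limits in
/-- In an abelian category let 0 → A₂ → B₂ → C₂ → 0 (maps i₂, π₂), 0 → A₁ → A₂ → A₃ → 0 (maps i₁, p₁)
and 0 → C₁ → C₂ → C₃ → 0 (maps j, q) be short exact sequences, α = i₁ ≫ i₂, β = π₂ ≫ q, K = ker β /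
im α, and let f : A₃ → K and g : K → C₁ be the maps induced by i₂ and π₂ (pinned by their defining
squares), so that 0 → A₃ → K → C₁ → 0 is short exact. Sending a section s of g to the subobject B₁
of B₂ obtained by pulling the image of s back along ker β → K and then including ker β into B₂ is a
bijection from the sections of g (equivalently, the splittings of that sequence) onto the subobjects
B₁ of B₂ that complete the data to a 3 × 3 diagram with exact rows and columns: there are maps A₁ →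
B₁ → C₁ over i₁ ≫ i₂ and under π₂ forming a short exact sequence, and maps A₃ → B₂/B₁ → C₃ under i₂
and over π₂ ≫ q forming a short exact sequence. (The hypotheses w, h₂, h₃ are consequences of i₂ ≫
π₂ = 0, carried so that the maps can be named; the published statement assumes in addition that the
category has enough injective objects, which plays no role here.) -/
theorem result
    {C : Type u} [Category.{v} C] [Abelian C] {A₁ A₂ A₃ B₂ C₁ C₂ C₃ : C}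
    (i₁ : A₁ ⟶ A₂) (p₁ : A₂ ⟶ A₃) (wA : i₁ ≫ p₁ = 0) (hA : (ShortComplex.mk i₁ p₁ wA).ShortExact)
    (i₂ : A₂ ⟶ B₂) (π₂ : B₂ ⟶ C₂) (wB : i₂ ≫ π₂ = 0) (hB : (ShortComplex.mk i₂ π₂ wB).ShortExact)
    (j : C₁ ⟶ C₂) (q : C₂ ⟶ C₃) (wC : j ≫ q = 0) (hC : (ShortComplex.mk j q wC).ShortExact)
    (w : (i₁ ≫ i₂) ≫ (π₂ ≫ q) = 0) (h₂ : i₂ ≫ (π₂ ≫ q) = 0) (h₃ : (i₁ ≫ i₂) ≫ π₂ = 0)
    (f : A₃ ⟶ (CategoryTheory.ShortComplex.mk (i₁ ≫ i₂) (π₂ ≫ q) w).homology)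
    (g : (CategoryTheory.ShortComplex.mk (i₁ ≫ i₂) (π₂ ≫ q) w).homology ⟶ C₁)
    (hf : p₁ ≫ f = (CategoryTheory.ShortComplex.mk (i₁ ≫ i₂) (π₂ ≫ q) w).liftCycles i₂ h₂ ≫ (CategoryTheory.ShortComplex.mk (i₁ ≫ i₂) (π₂ ≫ q) w).homologyπ)
    (hg : g ≫ j = (CategoryTheory.ShortComplex.mk (i₁ ≫ i₂) (π₂ ≫ q) w).homologyι ≫ (CategoryTheory.ShortComplex.mk (i₁ ≫ i₂) (π₂ ≫ q) w).descOpcycles π₂ h₃) :
    (∀ B₁ : Subobject B₂,
      (∃ (a : A₁ ⟶ (B₁ : C)) (c : (B₁ : C) ⟶ C₁) (wac : a ≫ c = 0)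
         (a' : A₃ ⟶ cokernel B₁.arrow) (c' : cokernel B₁.arrow ⟶ C₃) (wac' : a' ≫ c' = 0),
         a ≫ B₁.arrow = i₁ ≫ i₂ ∧ c ≫ j = B₁.arrow ≫ π₂ ∧ (ShortComplex.mk a c wac).ShortExact ∧
         p₁ ≫ a' = i₂ ≫ cokernel.π B₁.arrow ∧ cokernel.π B₁.arrow ≫ c' = π₂ ≫ q ∧
         (ShortComplex.mk a' c' wac').ShortExact) ↔
      ∃ s : C₁ ⟶ (CategoryTheory.ShortComplex.mk (i₁ ≫ i₂) (π₂ ≫ q) w).homology, s ≫ g = 𝟙 C₁ ∧
        (Subobject.map (CategoryTheory.ShortComplex.mk (i₁ ≫ i₂) (π₂ ≫ q) w).iCycles).obj ((Subobject.pullback (CategoryTheory.ShortComplex.mk (i₁ ≫ i₂) (π₂ ≫ q) w).homologyπ).obj (imageSubobject s)) = B₁) ∧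
    (∀ s s' : C₁ ⟶ (CategoryTheory.ShortComplex.mk (i₁ ≫ i₂) (π₂ ≫ q) w).homology, s ≫ g = 𝟙 C₁ → s' ≫ g = 𝟙 C₁ →
      (Subobject.map (CategoryTheory.ShortComplex.mk (i₁ ≫ i₂) (π₂ ≫ q) w).iCycles).obj ((Subobject.pullback (CategoryTheory.ShortComplex.mk (i₁ ≫ i₂) (π₂ ≫ q) w).homologyπ).obj (imageSubobject s)) = (Subobject.map (CategoryTheory.ShortComplex.mk (i₁ ≫ i₂) (π₂ ≫ q) w).iCycles).obj ((Subobject.pullback (CategoryTheory.ShortComplex.mk (i₁ ≫ i₂) (π₂ ≫ q) w).homologyπ).obj (imageSubobject s')) → s = s') := by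
  exact Aux.main i₁ p₁ wA hA i₂ π₂ wB hB j q wC hC w h₂ h₃ f g hf hg

end Groth.Agent.S15466
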