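import Groth.Statements.S1548
import Mathlib
import Groth.Agent.S1610
import Groth.Agent.S1543

set_option autoImplicit false
universe u
open CategoryTheory CategoryTheory.Limits AlgebraicGeometry
open Variety

namespace Groth.Agent.S1548

section
open CategoryTheory CategoryTheory.Limits AlgebraicGeometry

open TensorProduct

theorem geometricallyReduced_of_forall_isGeomReducedAt (k : Type u) [Field k] (X : Scheme.{u})
    [X.Over (Spec (CommRingCat.of k))] (h : ∀ x : X, Curv2.IsGeomReducedAt k X x) :
    GeometricallyReduced (X ↘ (Spec (CommRingCat.of k))) := by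
  apply Groth.Agent.S1543.geometricallyReduced_of_forall_bc
  intro K _ _
  haveI : ∀ x'' : ↥(Groth.Agent.S2502.bc (X ↘ (Spec (CommRingCat.of k))) K),
      _root_.IsReduced ((Groth.Agent.S2502.bc (X ↘ (Spec (CommRingCat.of k))) K).presheaf.stalk x'') :=
    fun x'' => h _ K x'' rfl
  exact isReduced_of_isReduced_stalk _

theorem main (k : Type u) [Field k] (p : ℕ) [Fact p.Prime] [CharP k p]
    (X : Scheme.{u}) [X.Over (Spec (CommRingCat.of k))]
    (h : ∀ (k' : Type u) [Field k'] [Algebra k k'] [FiniteDimensional k k'] [IsPurelyInseparable k k'], IsReduced (Curv2.bc k X k')) :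
    GeometricallyReduced (X ↘ (Spec (CommRingCat.of k))) := by
  apply geometricallyReduced_of_forall_isGeomReducedAt
  intro x
  rw [Groth.Agent.S1610.main k p X x]
  intro k' _ _ _ _ x' _
  haveI := h k'
  infer_instance


end


/-- Let k be a field of characteristic p > 0. If the base change X_{k'} is reduced whenever k' is a
finite purely inseparable extension of k, then X is geometrically reduced over k. -/
theorem result (k : Type u) [Field k] (p : ℕ) [Fact p.Prime] [CharP k p]
    (X : Scheme.{u}) [X.Over (Spec (CommRingCat.of k))]
    (h : ∀ (k' : Type u) [Field k'] [Algebra k k'] [FiniteDimensional k k'] [IsPurelyInseparable k k'], IsReduced (Curv2.bc k X k')) :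
    GeometricallyReduced (X ↘ (Spec (CommRingCat.of k))) := by
  classical
  exact main k p X h

end Groth.Agent.S1548
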