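import Groth.Statements.S15488
import Mathlib

set_option autoImplicit false
universe u
open IsoNat

namespace Groth.Agent.S15488

section


variable (A : Type u) [CommRing A] (G : Type u) [Group G] [Finite G] (g : G) (l : A)

theorem mem_K (v : G → A) :
    v ∈ LinearMap.ker (LinearMap.funLeft A A (fun h : G => g * h) - l • LinearMap.id)
      ↔ ∀ h, v (g * h) = l * v h := by
  rw [LinearMap.mem_ker]
  constructor
  · intro hv h
    have := congrFun hv h
    simp only [LinearMap.sub_apply, LinearMap.funLeft_apply, LinearMap.smul_apply,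
      LinearMap.id_apply, Pi.sub_apply, Pi.smul_apply, smul_eq_mul, Pi.zero_apply] at this
    exact sub_eq_zero.1 this
  · intro hv
    funext h
    simp only [LinearMap.sub_apply, LinearMap.funLeft_apply, LinearMap.smul_apply,
      LinearMap.id_apply, Pi.sub_apply, Pi.smul_apply, smul_eq_mul, Pi.zero_apply, hv h, sub_self]

noncomputable def q (x : G) : G ⧸ Subgroup.zpowers g := QuotientGroup.mk x⁻¹
noncomputable def s (c : G ⧸ Subgroup.zpowers g) : G := (Quotient.out c)⁻¹

theorem q_s (c : G ⧸ Subgroup.zpowers g) : q G g (s G g c) = c := by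
  unfold q s
  rw [inv_inv]
  exact QuotientGroup.out_eq' c

theorem q_mul (x : G) : q G g (g * x) = q G g x := by
  unfold q
  rw [QuotientGroup.eq]
  have : ((g * x)⁻¹)⁻¹ * x⁻¹ = g := by group
  rw [this]
  exact Subgroup.mem_zpowers g

theorem exists_exp (x : G) : ∃ n : ℕ, g ^ n * s G g (q G g x) = x := by
  obtain ⟨h, hh⟩ := QuotientGroup.mk_out_eq_mul (Subgroup.zpowers g) x⁻¹
  have hmem : (h : G) ∈ Subgroup.zpowers g := h.2
  rw [← (isOfFinOrder_of_finite g).mem_powers_iff_mem_zpowers] at hmem
  obtain ⟨n, hn⟩ := hmem
  refine ⟨n, ?_⟩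
  unfold s q
  rw [hh]
  have hn' : g ^ n = (h : G) := hn
  rw [hn']
  group

noncomputable def e (x : G) : ℕ := (exists_exp G g x).choose
theorem e_spec (x : G) : g ^ (e G g x) * s G g (q G g x) = x := (exists_exp G g x).choose_spec

theorem pow_l (hl : l ^ orderOf g = 1) (m n : ℕ) (h : g ^ m = g ^ n) : l ^ m = l ^ n := by
  rw [pow_inj_mod] at h
  rw [pow_eq_pow_mod m hl, pow_eq_pow_mod n hl, h]

noncomputable def ext (w : (G ⧸ Subgroup.zpowers g) → A) : G → A :=
  fun x => l ^ (e G g x) * w (q G g x)

theorem ext_mem (hl : l ^ orderOf g = 1) (w : (G ⧸ Subgroup.zpowers g) → A) :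
    ext A G g l w ∈ LinearMap.ker (LinearMap.funLeft A A (fun h : G => g * h) - l • LinearMap.id) := by
  rw [mem_K]
  intro x
  unfold ext
  rw [q_mul, ← mul_assoc, ← pow_succ']
  congr 1
  apply pow_l A G g l hl
  have h1 := e_spec G g (g * x)
  rw [q_mul] at h1
  have h2 := e_spec G g x
  have : g ^ (e G g (g * x)) * s G g (q G g x) = g ^ (e G g x + 1) * s G g (q G g x) := by
    rw [h1, pow_succ', mul_assoc, h2]
  exact mul_right_cancel this

theorem K_pow (v : G → A)
    (hv : v ∈ LinearMap.ker (LinearMap.funLeft A A (fun h : G => g * h) - l • LinearMap.id))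
    (n : ℕ) (y : G) : v (g ^ n * y) = l ^ n * v y := by
  rw [mem_K] at hv
  induction n with
  | zero => simp
  | succ n ih => rw [pow_succ', mul_assoc, hv, ih, pow_succ', mul_assoc]

noncomputable def equivK (hl : l ^ orderOf g = 1) :
    LinearMap.ker (LinearMap.funLeft A A (fun h : G => g * h) - l • LinearMap.id)
      ≃ₗ[A] ((G ⧸ Subgroup.zpowers g) → A) where
  toFun v := fun c => (v : G → A) (s G g c)
  map_add' v w := by funext c; rfl
  map_smul' a v := by funext c; rfl
  invFun w := ⟨ext A G g l w, ext_mem A G g l hl w⟩
  left_inv v := by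
    apply Subtype.ext
    funext x
    show l ^ (e G g x) * (v : G → A) (s G g (q G g x)) = (v : G → A) x
    rw [← K_pow A G g l v v.2, e_spec]
  right_inv w := by
    funext c
    show l ^ (e G g (s G g c)) * w (q G g (s G g c)) = w c
    rw [q_s]
    have h1 := e_spec G g (s G g c)
    rw [q_s] at h1
    have h2 : g ^ (e G g (s G g c)) = g ^ 0 := by
      rw [pow_zero]
      exact mul_eq_right.1 h1
    rw [pow_l A G g l hl _ _ h2, pow_zero, one_mul]

theorem main [Nontrivial A] (hl : l ^ orderOf g = 1) :
    Module.Free A (LinearMap.ker (LinearMap.funLeft A A (fun h : G => g * h) - l • LinearMap.id)) ∧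
      Module.finrank A (LinearMap.ker (LinearMap.funLeft A A (fun h : G => g * h) - l • LinearMap.id)) * orderOf g = Nat.card G ∧
      ∃ E' : Submodule A (G → A), IsCompl (LinearMap.ker (LinearMap.funLeft A A (fun h : G => g * h) - l • LinearMap.id)) E' := by
  have : Fintype (G ⧸ Subgroup.zpowers g) := Fintype.ofFinite _
  refine ⟨Module.Free.of_equiv (equivK A G g l hl).symm, ?_, ?_⟩
  · rw [(equivK A G g l hl).finrank_eq, Module.finrank_fintype_fun_eq_card,
      ← Nat.card_eq_fintype_card, ← Nat.card_zpowers g]
    exact (Subgroup.card_eq_card_quotient_mul_card_subgroup (Subgroup.zpowers g)).symm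
  · let R : (G → A) →ₗ[A] ((G ⧸ Subgroup.zpowers g) → A) :=
      { toFun := fun v c => v (s G g c)
        map_add' := fun v w => by funext c; rfl
        map_smul' := fun a v => by funext c; rfl }
    let f : (G → A) →ₗ[A]
        LinearMap.ker (LinearMap.funLeft A A (fun h : G => g * h) - l • LinearMap.id) :=
      (equivK A G g l hl).symm.toLinearMap.comp R
    refine ⟨LinearMap.ker f, LinearMap.isCompl_of_proj ?_⟩
    intro x
    exact (equivK A G g l hl).symm_apply_apply x


end


/-- Let A be a nontrivial commutative ring, G a finite group, g an element of G of order ν and l an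
element of A with l ^ ν = 1. In the free A-module of functions G → A (the regular representation, g
acting by translation v ↦ v(g·)), the submodule of v with v(g h) = l v(h) for all h is a direct
summand, free of rank |G| / ν (stated as: free, rank · ν = |G|, and a complementary submodule
exists). (The published statement is over an arbitrary ring and also covers Hom(A^N, −) of the
regular representation, which follows; nontriviality of A is needed for the rank to be meaningful.) -/
theorem result
    (A : Type u) [CommRing A] [Nontrivial A] (G : Type u) [Group G] [Finite G]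
    (g : G) (l : A) (hl : l ^ orderOf g = 1) :
    Module.Free A (LinearMap.ker (LinearMap.funLeft A A (fun h : G => g * h) - l • LinearMap.id)) ∧
      Module.finrank A (LinearMap.ker (LinearMap.funLeft A A (fun h : G => g * h) - l • LinearMap.id)) * orderOf g = Nat.card G ∧
      ∃ E' : Submodule A (G → A), IsCompl (LinearMap.ker (LinearMap.funLeft A A (fun h : G => g * h) - l • LinearMap.id)) E' := by
  classical
  exact main A G g l hl

end Groth.Agent.S15488
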