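import Groth.Statements.S1549
-- import your own Groth.Agent.* helpers here
import Groth.Agent.Lib.Helper7.SmoothBC.GeomRed

set_option autoImplicit false
universe u
open CategoryTheory CategoryTheory.Limits AlgebraicGeometry
open Variety

namespace Groth.Agent.S1549

/-- For a reduced scheme locally of finite type over k, being geometrically reduced is equivalent to
having a dense open subscheme that is smooth over k. -/
theorem result (k : Type u) [Field k] (X : Scheme.{u}) [X.Over (Spec (CommRingCat.of k))] [IsReduced X] [LocallyOfFiniteType (X ↘ (Spec (CommRingCat.of k)))] :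
    GeometricallyReduced (X ↘ (Spec (CommRingCat.of k))) ↔ ∃ U : X.Opens, Dense (U : Set X) ∧ Smooth (U.ι ≫ (X ↘ (Spec (CommRingCat.of k)))) := by
  exact Groth.Agent.Helper7.SmoothBC.geometricallyReduced_iff_dense_smooth_open k X
    (X ↘ (Spec (CommRingCat.of k)))

end Groth.Agent.S1549
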