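import Groth.Statements.S15493
import Mathlib
import Groth.Agent.S12774
import Groth.Agent.Lib.Helper2.AlgSt.Substack.Image

open Groth.Agent.Helper2 Groth.Agent.Helper2.FibCatLib Groth.Agent.Helper2.StkLib Groth.Agent.Helper2.AlgStLib Groth.Agent.Helper2.AlgSpBasic

set_option autoImplicit false
universe u
open CategoryTheory AlgebraicGeometry
open IsoNat

namespace Groth.Agent.S15493

/-- The presheaf of isomorphism classes commutes with fibre products along an open immersion. Let f : 𝒳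
→ 𝒴 be a morphism of algebraic stacks over a quasi-separated scheme S and i : 𝒴' → 𝒴 an open
immersion of algebraic stacks (representable by open immersions of algebraic spaces). If two objects
of the 2-fibre product 𝒳 ×_𝒴 𝒴' over a scheme T have isomorphic images in 𝒳 over T and isomorphic
images in 𝒴' over T, then they are isomorphic over T. (Together with the evident surjectivity this
says that the natural map from the presheaf of isomorphism classes of 𝒳 ×_𝒴 𝒴' to the fibre product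
of the presheaves of 𝒳 and 𝒴' over that of 𝒴 is an isomorphism; the published statement is for
arbitrary stacks, this row takes them algebraic.) -/
theorem result
    (S : Scheme.{u}) [QuasiSeparatedSpace S]
    (𝒳 𝒴 𝒴' : AlgSt.Cat S)
    (h𝒳 : AlgSt.IsAlgStack Scheme.fppfPrecoverage 𝒳) (h𝒴 : AlgSt.IsAlgStack Scheme.fppfPrecoverage 𝒴)
    (h𝒴' : AlgSt.IsAlgStack Scheme.fppfPrecoverage 𝒴')
    (f : 𝒳 ⥤ᵇ 𝒴) (i : 𝒴' ⥤ᵇ 𝒴) (hi : AlgSt.IsOpenImm i)
    (T : Over S) (z₁ z₂ : (FibCat.fp f i).p.Fiber T)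
    (h₁ : IsoNat.mapCls (FibCat.fpFst f i) T (IsoNat.cls z₁) = IsoNat.mapCls (FibCat.fpFst f i) T (IsoNat.cls z₂))
    (h₂ : IsoNat.mapCls (FibCat.fpSnd f i) T (IsoNat.cls z₁) = IsoNat.mapCls (FibCat.fpSnd f i) T (IsoNat.cls z₂)) :
    IsoNat.cls z₁ = IsoNat.cls z₂ := by
  have hmono : AlgSt.IsMono i :=
    repByAlgSpWith_mono (fun _ _ m hm => mono_of_repWith_isOpenImmersion m hm) i hi
  obtain ⟨hfull, -⟩ := Groth.Agent.S12774.result h𝒴'.isStack.1 h𝒴.isStack.1 i hmono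
  have h𝒬 : FibCat.IsFibGrpd (FibCat.fp f i).p := (isAlgStack_fp _ h𝒳 h𝒴' h𝒴 f i).isStack.1
  obtain ⟨α⟩ := Quotient.exact h₁
  let a : z₁.1.obj.fst ⟶ z₂.1.obj.fst := α.hom.1
  have ha : 𝒳.p.IsHomLift (𝟙 T) a := α.hom.2
  obtain ⟨b, hb⟩ := hfull.map_surjective (z₁.1.obj.iso.inv ≫ f.map a ≫ z₂.1.obj.iso.hom)
  have hb' : i.map b = z₁.1.obj.iso.inv ≫ f.map a ≫ z₂.1.obj.iso.hom := hb
  let m : z₁.1 ⟶ z₂.1 := fpMkHom _ _ a b (by rw [hb', Iso.hom_inv_id_assoc])
  have hm : (FibCat.fp f i).p.IsHomLift (𝟙 T) m := fp_isHomLift_of_fst (F := f) (G := i) (𝟙 T) m ha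
  haveI : IsIso m := IsFibGrpd.isIso_of_isHomLift_id (FibCat.fp f i).p h𝒬 (S := T) m
  have hm' : (FibCat.fp f i).p.IsHomLift (𝟙 T) (inv m) := IsHomLift.lift_id_inv_isIso _ _ _
  apply Quotient.sound
  exact ⟨⟨⟨m, hm⟩, ⟨inv m, hm'⟩, Subtype.ext (IsIso.hom_inv_id m), Subtype.ext (IsIso.inv_hom_id m)⟩⟩

end Groth.Agent.S15493
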