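import Groth.Statements.S15494
import Groth.Agent.Lib.Helper6.DieudNil

set_option autoImplicit false
universe u v
open Dieud

namespace Groth.Agent.S15494

/-- Let W be a commutative ring with a ring endomorphism σ, p a natural number, M a W-module and F an
additive self-map of M with F (w • m) = σ w • F m. Let d ≥ 1, c ≥ 1, h = d + c, and let e_1, …, e_h,
… be vectors of M on which F acts through a display matrix in normal form: F e_i = e_{i+1} for 1 ≤ i
< d; F e_d = Σ_{i=1}^{d} a_{i,d} e_i + e_{d+1}; F e_j = Σ_{i=1}^{d} p a_{i,j} e_i + p e_{j+1} for d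
< j < h; F e_h = Σ_{i=1}^{d} p a_{i,h} e_i. Then F^h e_1 = Σ_{i=1}^{d} Σ_{j=d}^{h} p^{j-d}
σ^{h-j}(a_{i,j}) F^{h+i-j-1} e_1. (The published statement is for the Dieudonné module of a
p-divisible group of dimension d and height h over the Witt ring of a field of characteristic p,
with σ the Frobenius and e_1, …, e_h a basis; this row keeps only the relations which the printed
computation uses, so W, σ, p and the vectors are arbitrary.) -/
theorem result
    (W : Type u) [CommRing W] (σ : W →+* W) (p : ℕ)
    (M : Type v) [AddCommGroup M] [Module W M]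
    (F : M →+ M) (hF : ∀ (w : W) (m : M), F (w • m) = σ w • F m)
    (d c : ℕ) (hd : 0 < d) (hc : 0 < c)
    (a : ℕ → ℕ → W) (e : ℕ → M)
    (h1 : ∀ i : ℕ, 1 ≤ i → i < d → F (e i) = e (i + 1))
    (h2 : F (e d) = (∑ i ∈ Finset.Icc 1 d, a i d • e i) + e (d + 1))
    (h3 : ∀ j : ℕ, d < j → j < d + c →
      F (e j) = (∑ i ∈ Finset.Icc 1 d, ((p : W) * a i j) • e i) + (p : W) • e (j + 1))
    (h4 : F (e (d + c)) = ∑ i ∈ Finset.Icc 1 d, ((p : W) * a i (d + c)) • e i) :
    (⇑F)^[d + c] (e 1) = ∑ i ∈ Finset.Icc 1 d, ∑ j ∈ Finset.Icc d (d + c),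
      ((p : W) ^ (j - d) * (⇑σ)^[d + c - j] (a i j)) • (⇑F)^[d + c + i - j - 1] (e 1) := by
  classical
  have iter_sum : ∀ (n : ℕ) (s : Finset ℕ) (f : ℕ → M),
      (⇑F)^[n] (∑ i ∈ s, f i) = ∑ i ∈ s, (⇑F)^[n] (f i) := by
    intro n s f
    induction s using Finset.induction_on with
    | empty => simpa using Groth.Agent.Lib.Helper6.DieudNil.iter_zero F n
    | insert x s hx ih =>
      rw [Finset.sum_insert hx, Finset.sum_insert hx,
        Groth.Agent.Lib.Helper6.DieudNil.iter_add, ih]
  have hσp : ∀ (n t : ℕ), (⇑σ)^[n] ((p : W) ^ t) = (p : W) ^ t := by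
    intro n t
    apply Function.iterate_fixed
    rw [map_pow, map_natCast]
  have iter_p : ∀ (n t : ℕ) (m : M), (⇑F)^[n] ((p : W) ^ t • m) = (p : W) ^ t • (⇑F)^[n] m := by
    intro n t m
    rw [Groth.Agent.Lib.Helper6.DieudNil.iter_smul σ F hF, hσp]
  -- e_i = F^{i-1} e_1
  have hA : ∀ i : ℕ, 1 ≤ i → i ≤ d → e i = (⇑F)^[i - 1] (e 1) := by
    intro i hi1
    induction i, hi1 using Nat.le_induction with
    | base => intro _; rfl
    | succ i hi ih =>
      intro hid
      rw [← h1 i hi (by omega), ih (by omega)]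
      have : i + 1 - 1 = (i - 1) + 1 := by omega
      rw [this, Function.iterate_succ_apply']
  set S : ℕ → M := fun j => ∑ i ∈ Finset.Icc 1 d, a i j • e i with hS
  have h2' : F (e d) = S d + e (d + 1) := h2
  have h3' : ∀ j : ℕ, d < j → j < d + c → F (e j) = (p : W) • S j + (p : W) • e (j + 1) := by
    intro j hj1 hj2
    rw [h3 j hj1 hj2, hS]
    simp only [Finset.smul_sum, mul_smul]
  have h4' : F (e (d + c)) = (p : W) • S (d + c) := by
    rw [h4, hS]
    simp only [Finset.smul_sum, mul_smul]
  -- Lemma C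
  have hC : ∀ t : ℕ, t + 1 ≤ c → (⇑F)^[t + 1] (e (d + c - t)) =
      ∑ j ∈ Finset.Icc (d + c - t) (d + c),
        (p : W) ^ (j - (d + c - t) + 1) • (⇑F)^[d + c - j] (S j) := by
    intro t
    induction t with
    | zero =>
      intro _
      simp only [Nat.sub_zero, Finset.Icc_self, Finset.sum_singleton, Nat.sub_self, zero_add,
        pow_one, Function.iterate_one, Function.iterate_zero, id_eq]
      exact h4'
    | succ t ih =>
      intro ht
      have hj1 : d < d + c - (t + 1) := by omega
      have hj2 : d + c - (t + 1) < d + c := by omega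
      rw [Function.iterate_succ_apply, h3' _ hj1 hj2,
        Groth.Agent.Lib.Helper6.DieudNil.iter_add]
      have e1 : d + c - (t + 1) + 1 = d + c - t := by omega
      rw [e1]
      have hp1 : ∀ m : M, (⇑F)^[t + 1] ((p : W) • m) = (p : W) • (⇑F)^[t + 1] m := by
        intro m
        have := iter_p (t + 1) 1 m
        rwa [pow_one] at this
      rw [hp1, hp1, ih (by omega)]
      have e2 : Finset.Icc (d + c - (t + 1)) (d + c) =
          insert (d + c - (t + 1)) (Finset.Icc (d + c - t) (d + c)) := by
        ext x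
        simp only [Finset.mem_Icc, Finset.mem_insert]
        omega
      rw [e2, Finset.sum_insert (by simp only [Finset.mem_Icc]; omega), Finset.smul_sum]
      congr 1
      · have : d + c - (d + c - (t + 1)) = t + 1 := by omega
        rw [this, Nat.sub_self, zero_add, pow_one]
      · refine Finset.sum_congr rfl fun j hj => ?_
        rw [Finset.mem_Icc] at hj
        rw [← mul_smul, ← pow_succ']
        congr 2
        omega
  -- assemble
  have hd1 : (⇑F)^[d] (e 1) = S d + e (d + 1) := by
    have : d = (d - 1) + 1 := by omega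
    rw [this, Function.iterate_succ_apply', ← hA d hd le_rfl, ← this]
    exact h2'
  have hmain : (⇑F)^[d + c] (e 1) = ∑ j ∈ Finset.Icc d (d + c),
      (p : W) ^ (j - d) • (⇑F)^[d + c - j] (S j) := by
    rw [add_comm d c, Function.iterate_add_apply, hd1,
      Groth.Agent.Lib.Helper6.DieudNil.iter_add, add_comm c d]
    have hc' : c = (c - 1) + 1 := by omega
    have e3 : d + 1 = d + c - (c - 1) := by omega
    have h5 := hC (c - 1) (by omega)
    rw [← e3, ← hc'] at h5
    rw [h5]
    have e2 : Finset.Icc d (d + c) = insert d (Finset.Icc (d + 1) (d + c)) := by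
      ext x
      simp only [Finset.mem_Icc, Finset.mem_insert]
      omega
    rw [e2, Finset.sum_insert (by simp only [Finset.mem_Icc]; omega)]
    congr 1
    · have : d + c - d = c := by omega
      rw [Nat.sub_self, pow_zero, one_smul, this]
    · refine Finset.sum_congr rfl fun j hj => ?_
      rw [Finset.mem_Icc] at hj
      congr 2
      omega
  rw [hmain, Finset.sum_comm]
  refine Finset.sum_congr rfl fun j hj => ?_
  rw [Finset.mem_Icc] at hj
  rw [hS]
  simp only
  rw [iter_sum, Finset.smul_sum]
  refine Finset.sum_congr rfl fun i hi => ?_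
  rw [Finset.mem_Icc] at hi
  rw [Groth.Agent.Lib.Helper6.DieudNil.iter_smul σ F hF, hA i hi.1 hi.2,
    ← Function.iterate_add_apply, mul_smul]
  congr 3
  omega

end Groth.Agent.S15494
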