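import Groth.Statements.S15495
-- import your own Groth.Agent.* helpers here
import Mathlib.Data.Nat.Choose.Dvd

set_option autoImplicit false
universe u
open CAlg

namespace Groth.Agent.S15495

/-- In an Artinian local ring R whose maximal ideal m contains the prime number p, the multiplicative
group 1 + m is annihilated under some power of p: there is n with (1 + x)^(p^n) = 1 for every x in
m. (The published text makes this assertion inside a proof, for Artinian local algebras over the
Witt ring of a perfect field of characteristic p; only p ∈ m and the nilpotence of m are used.) -/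
theorem result
    (R : Type u) [CommRing R] [IsLocalRing R] [IsArtinianRing R]
    (p : ℕ) (hp : p.Prime) (hpm : (p : R) ∈ IsLocalRing.maximalIdeal R) :
    ∃ n : ℕ, ∀ x ∈ IsLocalRing.maximalIdeal R, (1 + x) ^ (p ^ n) = 1 := by
  obtain ⟨N, hN⟩ := IsArtinianRing.isNilpotent_jacobson_bot (R := R)
  rw [IsLocalRing.jacobson_eq_maximalIdeal ⊥ bot_ne_top] at hN
  -- key: for x ∈ m, (1+x)^(p^k) - 1 ∈ m^(k+1)
  have key : ∀ k : ℕ, ∀ x ∈ IsLocalRing.maximalIdeal R,
      (1 + x) ^ (p ^ k) - 1 ∈ IsLocalRing.maximalIdeal R ^ (k + 1) := by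
    intro k
    induction k with
    | zero => intro x hx; simpa using hx
    | succ k ih =>
      intro x hx
      have h1 := ih x hx
      set y := (1 + x) ^ (p ^ k) - 1 with hy
      have hy' : (1 + x) ^ (p ^ k) = 1 + y := by rw [hy]; ring
      rw [pow_succ p k, pow_mul, hy']
      -- (1+y)^p - 1 = sum_{i=1}^p choose p i y^i; each term in m^(k+2)
      rw [add_comm 1 y, add_pow]
      simp only [one_pow, mul_one]
      rw [Finset.sum_range_succ', pow_zero, Nat.choose_zero_right, Nat.cast_one, mul_one,
        add_sub_cancel_right]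
      refine Submodule.sum_mem _ fun i hi => ?_
      have hi' : i + 1 ≤ p := by
        have := Finset.mem_range.mp hi; omega
      rcases Nat.lt_or_ge (i + 1) p with hlt | hge
      · -- p ∣ choose p (i+1)
        have hdvd : p ∣ p.choose (i + 1) := hp.dvd_choose_self (Nat.succ_ne_zero i) hlt
        obtain ⟨c, hc⟩ := hdvd
        rw [hc, Nat.cast_mul, pow_succ y i]
        have : y ^ i * y * ((p : R) * (c : R)) = (y * (p : R)) * (y ^ i * c) := by ring
        rw [this]
        refine Ideal.mul_mem_right _ _ ?_
        rw [pow_succ (IsLocalRing.maximalIdeal R) (k + 1)]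
        exact Ideal.mul_mem_mul h1 hpm
      · -- i + 1 = p ≥ 2, y^(p) ∈ m^((k+1)*p) ≤ m^(k+2)
        have hp2 : 2 ≤ i + 1 := by have := hp.two_le; omega
        refine Ideal.mul_mem_right _ _ ?_
        have : y ^ (i + 1) ∈ (IsLocalRing.maximalIdeal R ^ (k + 1)) ^ (i + 1) :=
          Ideal.pow_mem_pow h1 _
        rw [← pow_mul] at this
        refine Ideal.pow_le_pow_right ?_ this
        nlinarith
  refine ⟨N, fun x hx => ?_⟩
  have := key N x hx
  have h2 : IsLocalRing.maximalIdeal R ^ (N + 1) = ⊥ := by
    rw [pow_succ, hN]; simp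
  rw [h2] at this
  exact sub_eq_zero.mp this

end Groth.Agent.S15495
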