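import Groth.Statements.S15496
-- import your own Groth.Agent.* helpers here
import Mathlib.RingTheory.LocalRing.ResidueField.Basic
import Mathlib.Algebra.CharP.Lemmas
import Mathlib.Algebra.CharP.Basic
import Mathlib.Tactic.LinearCombination

set_option autoImplicit false
universe u
open CAlg

namespace Groth.Agent.S15496

/-- Let R be a local ring with maximal ideal m, p a prime number lying in m, and suppose the residue
field of R is perfect, i.e. every element is a p-th power; let n ≥ 0. Then every unit of R is the
product of a p^n-th power of a unit and an element of 1 + m, and an element of 1 + m which is a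
p^n-th power of a unit is a p^n-th power of an element of 1 + m; so the inclusion of 1 + m in the
unit group induces a bijection between (1 + m)/(1 + m)^(p^n) and Rˣ/(Rˣ)^(p^n). (The published text
derives this equality of quotients, inside a proof, from perfectness of the base field K for all
Artinian local algebras over its Witt ring, whose residue fields need not be perfect; this row
assumes the residue field of R perfect of characteristic p, which the equality needs, and does not
assume R Artinian.) -/
theorem result
    (R : Type u) [CommRing R] [IsLocalRing R] (p : ℕ) (hp : p.Prime)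
    (hpm : (p : R) ∈ IsLocalRing.maximalIdeal R)
    (hperf : ∀ a : IsLocalRing.ResidueField R, ∃ b : IsLocalRing.ResidueField R, b ^ p = a)
    (n : ℕ) :
    (∀ u : Rˣ, ∃ v : Rˣ, ∃ x ∈ IsLocalRing.maximalIdeal R, (u : R) = (v : R) ^ (p ^ n) * (1 + x)) ∧
    (∀ x ∈ IsLocalRing.maximalIdeal R, (∃ v : Rˣ, (v : R) ^ (p ^ n) = 1 + x) →
      ∃ y ∈ IsLocalRing.maximalIdeal R, (1 + y) ^ (p ^ n) = 1 + x) := by
  have hp0 : (p : IsLocalRing.ResidueField R) = 0 := by
    have : IsLocalRing.residue R (p : R) = 0 := (IsLocalRing.residue_eq_zero_iff _).mpr hpm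
    simpa using this
  have : CharP (IsLocalRing.ResidueField R) p := (CharP.charP_iff_prime_eq_zero hp).mpr hp0
  have : Fact p.Prime := ⟨hp⟩
  have hperf' : ∀ (n : ℕ) (a : IsLocalRing.ResidueField R), ∃ b, b ^ (p ^ n) = a := by
    intro n
    induction n with
    | zero => intro a; exact ⟨a, by simp⟩
    | succ n ih =>
      intro a
      obtain ⟨b, hb⟩ := hperf a
      obtain ⟨c, hc⟩ := ih b
      exact ⟨c, by rw [pow_succ, pow_mul, hc, hb]⟩
  constructor
  · intro u
    obtain ⟨b, hb⟩ := hperf' n (IsLocalRing.residue R u)
    obtain ⟨b', rfl⟩ := IsLocalRing.residue_surjective b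
    have hb'unit : IsUnit b' := by
      by_contra h
      have h0 : IsLocalRing.residue R b' = 0 :=
        (IsLocalRing.residue_eq_zero_iff _).mpr ((IsLocalRing.mem_maximalIdeal _).mpr h)
      rw [h0, zero_pow (pow_ne_zero n hp.ne_zero)] at hb
      have : (u : R) ∈ IsLocalRing.maximalIdeal R := (IsLocalRing.residue_eq_zero_iff _).mp hb.symm
      exact (IsLocalRing.mem_maximalIdeal _).mp this u.isUnit
    obtain ⟨v, rfl⟩ := hb'unit
    refine ⟨v, (↑(v⁻¹) : R) ^ (p ^ n) * u - 1, ?_, ?_⟩
    · rw [← IsLocalRing.residue_eq_zero_iff]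
      rw [map_sub, map_mul, map_pow, map_one, ← hb, ← mul_pow, ← map_mul]
      simp
    · have : (v : R) ^ (p ^ n) * (↑(v⁻¹) : R) ^ (p ^ n) = 1 := by
        rw [← mul_pow]; simp
      linear_combination (-(u : R)) * this
  · intro x hx ⟨v, hv⟩
    have h1 : (IsLocalRing.residue R (v : R) - 1) ^ (p ^ n) = 0 := by
      rw [sub_pow_char_pow, one_pow, ← map_pow, hv, map_add, map_one,
        (IsLocalRing.residue_eq_zero_iff _).mpr hx]
      simp
    have h2 : IsLocalRing.residue R ((v : R) - 1) = 0 := by
      rw [map_sub, map_one]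
      exact pow_eq_zero_iff (pow_ne_zero n hp.ne_zero) |>.mp h1
    refine ⟨(v : R) - 1, (IsLocalRing.residue_eq_zero_iff _).mp h2, ?_⟩
    rw [← hv]
    ring

end Groth.Agent.S15496
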