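import Groth.Statements.S15498
import Mathlib

set_option autoImplicit false
open NewtonPoly

namespace Groth.Agent.S15498

section


theorem main (m n : ℕ) (hm : 0 < m) (hn : 0 < n) (hmn : Nat.Coprime m n) :
    ((Finset.range (m + n + 1) ×ˢ Finset.range (m + 1)).filter
      (fun ij : ℕ × ℕ => ij.1 ≤ ij.2 + n ∧ ij.2 * (m + n) < ij.1 * m)).card
      = (m - 1) * (n - 1) / 2 + (m + n - 1) := by
  classical
  obtain ⟨h, hh⟩ : ∃ h, h = m + n := ⟨_, rfl⟩
  rw [← hh]
  -- the parallelogram
  obtain ⟨P, hP⟩ : ∃ P : Finset (ℕ × ℕ), P = (Finset.range (h + 1) ×ˢ Finset.range (m + 1)).filter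
      (fun ij : ℕ × ℕ => ij.2 ≤ ij.1 ∧ ij.1 ≤ ij.2 + n) := ⟨_, rfl⟩
  have memP : ∀ ij : ℕ × ℕ, ij ∈ P ↔ ij.1 ≤ h ∧ ij.2 ≤ m ∧ ij.2 ≤ ij.1 ∧ ij.1 ≤ ij.2 + n := by
    intro ij
    rw [hP, Finset.mem_filter, Finset.mem_product, Finset.mem_range, Finset.mem_range]
    omega
  have cardP : P.card = (m + 1) * (n + 1) := by
    rw [← Finset.card_range (m + 1), ← Finset.card_range (n + 1), ← Finset.card_product]
    apply Finset.card_nbij' (fun ij => (ij.2, ij.1 - ij.2)) (fun jk => (jk.1 + jk.2, jk.1))
    · intro ij hij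
      have := (memP ij).mp hij
      simp only [Finset.coe_product, Finset.coe_range, Set.mem_prod, Set.mem_Iio]
      omega
    · intro jk hjk
      simp only [Finset.coe_product, Finset.coe_range, Set.mem_prod, Set.mem_Iio] at hjk
      apply (memP _).mpr
      simp only
      omega
    · intro ij hij
      have := (memP ij).mp hij
      ext
      · simp only; omega
      · simp only
    · intro jk hjk
      ext
      · simp only
      · simp only; omega
  -- the three parts
  obtain ⟨A, hA⟩ : ∃ A : Finset (ℕ × ℕ), A = P.filter (fun ij => ij.2 * h < ij.1 * m) := ⟨_, rfl⟩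
  obtain ⟨A', hA'⟩ : ∃ A' : Finset (ℕ × ℕ), A' = P.filter (fun ij => ij.1 * m < ij.2 * h) := ⟨_, rfl⟩
  obtain ⟨D, hD⟩ : ∃ D : Finset (ℕ × ℕ), D = P.filter (fun ij => ij.2 * h = ij.1 * m) := ⟨_, rfl⟩
  have cop : Nat.Coprime h m := by
    rw [hh]
    have : Nat.Coprime (n + m) m := by
      rw [Nat.coprime_add_self_left]; exact hmn.symm
    rwa [add_comm] at this
  have hDeq : D = {((0 : ℕ), (0 : ℕ)), (h, m)} := by
    ext ij
    rw [hD, Finset.mem_filter, memP]
    simp only [Finset.mem_insert, Finset.mem_singleton]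
    constructor
    · rintro ⟨⟨h1, h2, h3, h4⟩, h5⟩
      have hdvd : h ∣ ij.1 * m := ⟨ij.2, by rw [← h5]; ring⟩
      have hdvd' : h ∣ ij.1 := cop.dvd_of_dvd_mul_right hdvd
      obtain ⟨c, hc⟩ := hdvd'
      have hpos : 0 < h := by omega
      have hc1 : c ≤ 1 := by
        by_contra hcon
        have : 2 ≤ c := by omega
        have : h * 2 ≤ h * c := Nat.mul_le_mul_left h this
        omega
      rcases Nat.eq_zero_or_pos c with hc0 | hc0
      · left
        have e1 : ij.1 = 0 := by rw [hc, hc0]; simp
        have e2 : ij.2 = 0 := by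
          rw [e1] at h5
          simp only [zero_mul] at h5
          rcases Nat.mul_eq_zero.mp h5 with h6 | h6
          · exact h6
          · omega
        exact Prod.ext e1 e2
      · right
        have hc' : c = 1 := by omega
        have e1 : ij.1 = h := by rw [hc, hc']; simp
        have e2 : ij.2 = m := by
          rw [e1] at h5
          have : ij.2 * h = m * h := by rw [h5]; ring
          exact Nat.eq_of_mul_eq_mul_right hpos this
        exact Prod.ext e1 e2
    · rintro (rfl | rfl)
      · simp only; omega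
      · simp only
        refine ⟨⟨le_rfl, le_rfl, by omega, by omega⟩, by ring⟩
  have cardD : D.card = 2 := by
    rw [hDeq, Finset.card_pair]
    intro hcon
    have := congrArg Prod.fst hcon
    simp only at this
    omega
  have cardAA' : A.card = A'.card := by
    apply Finset.card_nbij' (fun ij => (h - ij.1, m - ij.2)) (fun ij => (h - ij.1, m - ij.2))
    · intro ij hij
      rw [hA, Finset.coe_filter] at hij
      obtain ⟨hij1, hij2⟩ := hij
      have hp := (memP ij).mp hij1
      rw [hA', Finset.coe_filter]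
      refine ⟨(memP _).mpr ?_, ?_⟩
      · simp only; omega
      · simp only
        obtain ⟨a, ha⟩ : ∃ a, h = ij.1 + a := ⟨h - ij.1, by omega⟩
        obtain ⟨b, hb⟩ : ∃ b, m = ij.2 + b := ⟨m - ij.2, by omega⟩
        have e1 : h - ij.1 = a := by omega
        have e2 : m - ij.2 = b := by omega
        rw [e1, e2]
        rw [ha, hb] at hij2 ⊢
        nlinarith
    · intro ij hij
      rw [hA', Finset.coe_filter] at hij
      obtain ⟨hij1, hij2⟩ := hij
      have hp := (memP ij).mp hij1
      rw [hA, Finset.coe_filter]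
      refine ⟨(memP _).mpr ?_, ?_⟩
      · simp only; omega
      · simp only
        obtain ⟨a, ha⟩ : ∃ a, h = ij.1 + a := ⟨h - ij.1, by omega⟩
        obtain ⟨b, hb⟩ : ∃ b, m = ij.2 + b := ⟨m - ij.2, by omega⟩
        have e1 : h - ij.1 = a := by omega
        have e2 : m - ij.2 = b := by omega
        rw [e1, e2]
        rw [ha, hb] at hij2 ⊢
        nlinarith
    · intro ij hij
      rw [hA, Finset.coe_filter] at hij
      have hp := (memP ij).mp hij.1
      ext
      · simp only; omega
      · simp only; omega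
    · intro ij hij
      rw [hA', Finset.coe_filter] at hij
      have hp := (memP ij).mp hij.1
      ext
      · simp only; omega
      · simp only; omega
  -- partition
  have part : P.card = A.card + A'.card + D.card := by
    have s1 := Finset.card_filter_add_card_filter_not (s := P) (fun ij : ℕ × ℕ => ij.2 * h < ij.1 * m)
    have s2 := Finset.card_filter_add_card_filter_not
      (s := P.filter (fun ij : ℕ × ℕ => ¬ ij.2 * h < ij.1 * m)) (fun ij : ℕ × ℕ => ij.1 * m < ij.2 * h)
    have e1 : (P.filter (fun ij : ℕ × ℕ => ¬ ij.2 * h < ij.1 * m)).filter (fun ij : ℕ × ℕ => ij.1 * m < ij.2 * h) = A' := by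
      rw [hA', Finset.filter_filter]
      apply Finset.filter_congr
      intro ij _
      omega
    have e2 : (P.filter (fun ij : ℕ × ℕ => ¬ ij.2 * h < ij.1 * m)).filter (fun ij : ℕ × ℕ => ¬ ij.1 * m < ij.2 * h) = D := by
      rw [hD, Finset.filter_filter]
      apply Finset.filter_congr
      intro ij _
      omega
    rw [e1, e2] at s2
    rw [← hA] at s1
    omega
  -- identify the set in the statement with A
  have hAeq : (Finset.range (h + 1) ×ˢ Finset.range (m + 1)).filter
      (fun ij : ℕ × ℕ => ij.1 ≤ ij.2 + n ∧ ij.2 * h < ij.1 * m) = A := by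
    ext ij
    rw [hA, Finset.mem_filter, Finset.mem_filter, memP, Finset.mem_product, Finset.mem_range, Finset.mem_range]
    constructor
    · rintro ⟨⟨h1, h2⟩, h3, h4⟩
      refine ⟨⟨by omega, by omega, ?_, h3⟩, h4⟩
      by_contra hcon
      have h5 : ij.1 < ij.2 := by omega
      have h6 : ij.1 * m ≤ ij.1 * h := Nat.mul_le_mul_left _ (by omega)
      have h7 : ij.1 * h < ij.2 * h := Nat.mul_lt_mul_of_pos_right h5 (by omega)
      omega
    · rintro ⟨⟨h1, h2, h3, h4⟩, h5⟩
      exact ⟨⟨by omega, by omega⟩, h4, h5⟩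
  rw [hAeq]
  have e : (m + 1) * (n + 1) = m * n + m + n + 1 := by ring
  have hpar : 2 ∣ (m - 1) * (n - 1) := by
    rcases Nat.even_or_odd m with hme | hmo
    · rcases Nat.even_or_odd n with hne | hno
      · exfalso
        have h2m : 2 ∣ m := hme.two_dvd
        have h2n : 2 ∣ n := hne.two_dvd
        have := Nat.dvd_gcd h2m h2n
        rw [hmn] at this
        omega
      · have : 2 ∣ n - 1 := by
          obtain ⟨c, hc⟩ := hno; exact ⟨c, by omega⟩
        exact Dvd.dvd.mul_left this _
    · have : 2 ∣ m - 1 := by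
        obtain ⟨c, hc⟩ := hmo; exact ⟨c, by omega⟩
      exact Dvd.dvd.mul_right this _
  obtain ⟨c, hc⟩ := hpar
  have e3 : (m - 1) * (n - 1) + m + n = m * n + 1 := by
    obtain ⟨a, rfl⟩ : ∃ a, m = a + 1 := ⟨m - 1, by omega⟩
    obtain ⟨b, rfl⟩ : ∃ b, n = b + 1 := ⟨n - 1, by omega⟩
    simp only [Nat.add_sub_cancel]
    ring
  rw [hc, Nat.mul_div_cancel_left _ (by norm_num : 0 < 2)]
  rw [cardP, e, cardD, ← cardAA'] at part
  rw [hh]
  omega


end


/-- Let m, n ≥ 1 be coprime, h = m + n, δ the segment from (0,0) to (h,m) (the isoclinic Newton polygon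
of slope m/h) and ρ the ordinary polygon with n slopes 0 followed with m slopes 1, so ρ(i) = max(0,
i − n). The integer points (i,j), 0 ≤ i ≤ h, on or above ρ and strictly below δ — that is max(0, i −
n) ≤ j and j·h < i·m — are (m−1)(n−1)/2 + (m+n−1) in number (which equals mn − r for r =
(m−1)(n−1)/2). (The published text works under m ≥ n > 0 coprime; the inequality m ≥ n is not used
and not assumed.) -/
theorem result
    (m n : ℕ) (hm : 0 < m) (hn : 0 < n) (hmn : Nat.Coprime m n) :
    ((Finset.range (m + n + 1) ×ˢ Finset.range (m + 1)).filter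
      (fun ij : ℕ × ℕ => ij.1 ≤ ij.2 + n ∧ ij.2 * (m + n) < ij.1 * m)).card
      = (m - 1) * (n - 1) / 2 + (m + n - 1) := by
  classical
  exact main m n hm hn hmn

end Groth.Agent.S15498
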