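import Groth.Statements.S17853
import Mathlib
import Groth.Agent.Lib.Helper9.Hor.LocalFree
import Groth.Agent.Lib.Helper9.Hor.Quillen
-- import your own Groth.Agent.* helpers here

set_option autoImplicit false
open Polynomial LaurentPolynomial TensorProduct
universe u
open CAlg

namespace Groth.Agent.S17853

open Polynomial LaurentPolynomial TensorProduct
namespace Aux

instance instIsScalarTowerLaurent (A : Type*) [CommRing A] : IsScalarTower A A[X] A[T;T⁻¹] :=
  IsScalarTower.of_algebraMap_eq fun a => by
    rw [LaurentPolynomial.algebraMap_eq_toLaurent, Polynomial.algebraMap_apply,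
      Algebra.algebraMap_self_apply, Polynomial.toLaurent_C]
    rfl

/-- the `invert`-semilinear involution of `Λ ⊗[A] P` -/
noncomputable def e₀ (A : Type*) [CommRing A] (P : Type*) [AddCommGroup P] [Module A P] :
    (A[T;T⁻¹] ⊗[A] P) →ₛₗ[(LaurentPolynomial.invert (R := A)).toRingEquiv.toRingHom]
      (A[T;T⁻¹] ⊗[A] P) where
  toFun := (TensorProduct.congr (LaurentPolynomial.invert (R := A)).toLinearEquiv
    (LinearEquiv.refl A P))
  map_add' := map_add _
  map_smul' := fun l z => by
    induction z using TensorProduct.induction_on with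
    | zero => simp
    | tmul x y =>
      rw [TensorProduct.smul_tmul', TensorProduct.congr_tmul, TensorProduct.congr_tmul,
        TensorProduct.smul_tmul']
      simp
    | add x y hx hy => rw [smul_add, map_add, hx, hy, map_add, smul_add]

theorem e₀_bijective (A : Type*) [CommRing A] (P : Type*) [AddCommGroup P] [Module A P] :
    Function.Bijective (e₀ A P) :=
  (TensorProduct.congr (LaurentPolynomial.invert (R := A)).toLinearEquiv
    (LinearEquiv.refl A P)).bijective

theorem forward (A : Type u) [CommRing A] (M : Type u) [AddCommGroup M] [Module A[X] M]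
    [Module.Finite A[X] M] [Module.Projective A[X] M]
    (P : Type u) [AddCommGroup P] [Module A P] (α : M ≃ₗ[A[X]] (A[X] ⊗[A] P)) :
    ∃ e : (A[T;T⁻¹] ⊗[A[X]] M) →ₛₗ[(LaurentPolynomial.invert (R := A)).toRingEquiv.toRingHom]
      (A[T;T⁻¹] ⊗[A[X]] M), Function.Bijective e := by
  let ψ : A[T;T⁻¹] ⊗[A[X]] M ≃ₗ[A[T;T⁻¹]] A[T;T⁻¹] ⊗[A] P :=
    (TensorProduct.AlgebraTensorModule.congr (LinearEquiv.refl A[T;T⁻¹] A[T;T⁻¹]) α) ≪≫ₗ
      TensorProduct.AlgebraTensorModule.cancelBaseChange A A[X] A[T;T⁻¹] A[T;T⁻¹] P
  refine ⟨⟨⟨fun z => ψ.symm (e₀ A P (ψ z)), fun x y => by rw [map_add, map_add, map_add]⟩,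
    fun l z => ?_⟩, ?_⟩
  · change ψ.symm (e₀ A P (ψ (l • z))) = _ • ψ.symm (e₀ A P (ψ z))
    rw [map_smul, map_smulₛₗ, map_smul]
  · exact ψ.symm.bijective.comp ((e₀_bijective A P).comp ψ.bijective)

attribute [local instance] Polynomial.algebra in
theorem backward (A : Type u) [CommRing A] (M : Type u) [AddCommGroup M] [Module A[X] M]
    [Module.Finite A[X] M] [Module.Projective A[X] M]
    (N : Type u) [AddCommGroup N] [Module A[X] N] [Module.Finite A[X] N] [Module.Projective A[X] N]
    (e : (A[T;T⁻¹] ⊗[A[X]] M) →ₛₗ[(LaurentPolynomial.invert (R := A)).toRingEquiv.toRingHom]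
      (A[T;T⁻¹] ⊗[A[X]] N)) (he : Function.Bijective e) :
    ∃ (P : Type u) (_ : AddCommGroup P) (_ : Module A P), Nonempty (M ≃ₗ[A[X]] (A[X] ⊗[A] P)) := by
  apply H9Hor.quillen_patching A M
  intro 𝔪 _
  haveI := H9Hor.free_localization_of_laurent_iso A M N e he 𝔪
  let b := Module.finBasis (Localization.AtPrime 𝔪)[X] ((Localization.AtPrime 𝔪)[X] ⊗[A[X]] M)
  exact ⟨Fin _ → Localization.AtPrime 𝔪, inferInstance, inferInstance,
    ⟨b.equivFun ≪≫ₗ (TensorProduct.piScalarRight (Localization.AtPrime 𝔪)
      (Localization.AtPrime 𝔪)[X] (Localization.AtPrime 𝔪)[X] (Fin _)).symm⟩⟩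

theorem main
    (A : Type u) [CommRing A] (M : Type u) [AddCommGroup M] [Module A[X] M]
    [Module.Finite A[X] M] [Module.Projective A[X] M] :
    (∃ (P : Type u) (_ : AddCommGroup P) (_ : Module A P), Nonempty (M ≃ₗ[A[X]] (A[X] ⊗[A] P))) ↔
      ∃ (N : Type u) (_ : AddCommGroup N) (_ : Module A[X] N),
        Module.Finite A[X] N ∧ Module.Projective A[X] N ∧
        ∃ e : (A[T;T⁻¹] ⊗[A[X]] M) →ₛₗ[(LaurentPolynomial.invert (R := A)).toRingEquiv.toRingHom]
            (A[T;T⁻¹] ⊗[A[X]] N), Function.Bijective e := by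
  constructor
  · rintro ⟨P, _, _, ⟨α⟩⟩
    exact ⟨M, inferInstance, inferInstance, inferInstance, inferInstance, forward A M P α⟩
  · rintro ⟨N, _, _, _, _, e, he⟩
    exact backward A M N e he

end Aux

/-- For an arbitrary commutative ring A, a finitely generated projective A[t]-module M is extended from
A (isomorphic to A[t] ⊗_A P for an A-module P) if and only if it extends to a vector bundle on the
projective line over A. The latter is stated by gluing: there are a finitely generated projective
module N over the polynomial ring of the chart at infinity and an isomorphism over the Laurent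
polynomial ring between the localisation of M and the base change of N along s ↦ t⁻¹, written as a
bijective additive map A[t,t⁻¹] ⊗ M → A[t,t⁻¹] ⊗ N that is semilinear with respect to the A-algebra
involution t ↦ t⁻¹ of A[t,t⁻¹]. (The published statement adds: for A semilocal, M is then free on
each connected component of the affine line.) -/
theorem result
    (A : Type u) [CommRing A] (M : Type u) [AddCommGroup M] [Module A[X] M]
    [Module.Finite A[X] M] [Module.Projective A[X] M] :
    (∃ (P : Type u) (_ : AddCommGroup P) (_ : Module A P), Nonempty (M ≃ₗ[A[X]] (A[X] ⊗[A] P))) ↔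
      ∃ (N : Type u) (_ : AddCommGroup N) (_ : Module A[X] N),
        Module.Finite A[X] N ∧ Module.Projective A[X] N ∧
        ∃ e : (A[T;T⁻¹] ⊗[A[X]] M) →ₛₗ[(LaurentPolynomial.invert (R := A)).toRingEquiv.toRingHom]
            (A[T;T⁻¹] ⊗[A[X]] N), Function.Bijective e := by
  exact Aux.main A M

end Groth.Agent.S17853
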