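import Groth.Statements.S15499
import Mathlib
import Groth.Agent.S17853
-- import your own Groth.Agent.* helpers here

set_option autoImplicit false
open Polynomial LaurentPolynomial
open scoped TensorProduct
universe u
open CAlg

namespace Groth.Agent.S15499

open Polynomial LaurentPolynomial
open scoped TensorProduct
namespace Aux

/-- localizing an extended module at an element of the base where the fibre module is free -/
theorem free_localizedModule_of_extended {R : Type*} [CommRing R] {B : Type*} [CommRing B]
    [Algebra R B] {P : Type*} [AddCommGroup P] [Module B P] {Q : Type*} [AddCommGroup Q]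
    [Module R Q] (α : P ≃ₗ[B] B ⊗[R] Q) (g : R)
    [Module.Free (Localization.Away g) (LocalizedModule (Submonoid.powers g) Q)] :
    Module.Free (Localization.Away (algebraMap R B g))
      (LocalizedModule (Submonoid.powers (algebraMap R B g)) P) := by
  have hg : IsUnit (algebraMap R (Localization.Away (algebraMap R B g)) g) := by
    rw [IsScalarTower.algebraMap_apply R B (Localization.Away (algebraMap R B g))]
    exact IsLocalization.Away.algebraMap_isUnit _
  letI : Algebra (Localization.Away g) (Localization.Away (algebraMap R B g)) :=
    (IsLocalization.Away.lift g hg).toAlgebra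
  haveI : IsScalarTower R (Localization.Away g) (Localization.Away (algebraMap R B g)) :=
    IsScalarTower.of_algebraMap_eq fun x => by
      rw [RingHom.algebraMap_toAlgebra, IsLocalization.Away.lift_eq]
  let e1 := (IsLocalizedModule.isBaseChange (Submonoid.powers (algebraMap R B g))
    (Localization.Away (algebraMap R B g))
    (LocalizedModule.mkLinearMap (Submonoid.powers (algebraMap R B g)) P)).equiv
  let e2 := TensorProduct.AlgebraTensorModule.congr
    (LinearEquiv.refl (Localization.Away (algebraMap R B g))
      (Localization.Away (algebraMap R B g))) α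
  let e3 := TensorProduct.AlgebraTensorModule.cancelBaseChange R B
    (Localization.Away (algebraMap R B g)) (Localization.Away (algebraMap R B g)) Q
  let e4 := TensorProduct.AlgebraTensorModule.cancelBaseChange R (Localization.Away g)
    (Localization.Away (algebraMap R B g)) (Localization.Away (algebraMap R B g)) Q
  let e5 := TensorProduct.AlgebraTensorModule.congr
    (LinearEquiv.refl (Localization.Away (algebraMap R B g))
      (Localization.Away (algebraMap R B g)))
    (IsLocalizedModule.isBaseChange (Submonoid.powers g) (Localization.Away g)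
      (LocalizedModule.mkLinearMap (Submonoid.powers g) Q)).equiv
  exact Module.Free.of_equiv (e1.symm ≪≫ₗ e2 ≪≫ₗ e3 ≪≫ₗ e4.symm ≪≫ₗ e5).symm

/-- the fibre at `X = 0` of an extended f.g. projective module is f.g. projective -/
theorem finite_projective_of_extended {R : Type u} [CommRing R] {P : Type u} [AddCommGroup P]
    [Module R[X] P] [Module.Finite R[X] P] [Module.Projective R[X] P] {Q : Type u}
    [AddCommGroup Q] [Module R Q] (α : P ≃ₗ[R[X]] R[X] ⊗[R] Q) :
    Module.Finite R Q ∧ Module.Projective R Q := by
  letI : Algebra R[X] R := (constantCoeff : R[X] →+* R).toAlgebra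
  haveI : IsScalarTower R R[X] R := IsScalarTower.of_algebraMap_eq fun x => by
    rw [Polynomial.algebraMap_apply, Algebra.algebraMap_self_apply]
    change x = constantCoeff (Polynomial.C x)
    rw [constantCoeff_apply, coeff_C_zero]
  let β : R ⊗[R[X]] P ≃ₗ[R] Q :=
    (TensorProduct.AlgebraTensorModule.congr (LinearEquiv.refl R R) α) ≪≫ₗ
      TensorProduct.AlgebraTensorModule.cancelBaseChange R R[X] R R Q ≪≫ₗ TensorProduct.lid R Q
  exact ⟨Module.Finite.equiv β, Module.Projective.of_equiv β⟩

/-- a f.g. projective module is free on a finite cover by basic opens -/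
theorem exists_cover_free {R : Type u} [CommRing R] (Q : Type u) [AddCommGroup Q] [Module R Q]
    [Module.Finite R Q] [Module.Projective R Q] :
    ∃ (n : ℕ) (g : Fin n → R), Ideal.span (Set.range g) = ⊤ ∧
      ∀ i, Module.Free (Localization.Away (g i)) (LocalizedModule (Submonoid.powers (g i)) Q) := by
  classical
  haveI : Module.FinitePresentation R Q := Module.finitePresentation_of_projective R Q
  let G : Set R := {g | Module.Free (Localization.Away g) (LocalizedModule (Submonoid.powers g) Q)}
  have hG : Ideal.span G = ⊤ := by
    by_contra hne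
    obtain ⟨𝔮, h𝔮, hle⟩ := Ideal.exists_le_maximal _ hne
    haveI := h𝔮.isPrime
    haveI : Module.Finite (Localization.AtPrime 𝔮) (LocalizedModule 𝔮.primeCompl Q) :=
      Module.Finite.of_isLocalizedModule 𝔮.primeCompl (LocalizedModule.mkLinearMap 𝔮.primeCompl Q)
    haveI : Module.Free (Localization.AtPrime 𝔮) (LocalizedModule 𝔮.primeCompl Q) :=
      Module.free_of_flat_of_isLocalRing
    obtain ⟨r, hr, hfree, -⟩ := Module.FinitePresentation.exists_free_localizedModule_powers
      𝔮.primeCompl (LocalizedModule.mkLinearMap 𝔮.primeCompl Q) (Localization.AtPrime 𝔮)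
    exact hr (hle (Ideal.subset_span (show r ∈ G from hfree)))
  obtain ⟨s, hsG, hs⟩ := (Ideal.span_eq_top_iff_finite G).mp hG
  refine ⟨s.card, fun i => (s.equivFin.symm i : R), ?_, fun i => hsG (s.equivFin.symm i).2⟩
  convert hs
  ext x
  constructor
  · rintro ⟨i, rfl⟩
    exact (s.equivFin.symm i).2
  · intro hx
    exact ⟨s.equivFin ⟨x, hx⟩, by simp⟩

theorem main
    (R : Type u) [CommRing R]
    (P : Type u) [AddCommGroup P] [Module R[X] P] [Module.Finite R[X] P]
    [Module.Projective R[X] P]
    (P' : Type u) [AddCommGroup P'] [Module R[X] P'] [Module.Finite R[X] P']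
    [Module.Projective R[X] P']
    (e : R[T;T⁻¹] ⊗[R[X]] P ≃+ R[T;T⁻¹] ⊗[R[X]] P')
    (he : ∀ (a : R[T;T⁻¹]) (m : R[T;T⁻¹] ⊗[R[X]] P),
      e (a • m) = LaurentPolynomial.invert a • e m) :
    ∃ (n : ℕ) (g : Fin n → R), Ideal.span (Set.range g) = ⊤ ∧
      ∀ i, Module.Free (Localization.Away (Polynomial.C (g i) : R[X]))
        (LocalizedModule (Submonoid.powers (Polynomial.C (g i) : R[X])) P) := by
  let e' : (R[T;T⁻¹] ⊗[R[X]] P) →ₛₗ[(LaurentPolynomial.invert (R := R)).toRingEquiv.toRingHom]
      (R[T;T⁻¹] ⊗[R[X]] P') :=
    { toFun := e
      map_add' := map_add e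
      map_smul' := fun a m => he a m }
  obtain ⟨Q, _, _, ⟨α⟩⟩ := (Groth.Agent.S17853.result R P).mpr
    ⟨P', inferInstance, inferInstance, inferInstance, inferInstance, e', e.bijective⟩
  obtain ⟨hfin, hproj⟩ := finite_projective_of_extended α
  obtain ⟨n, g, hg, hfree⟩ := exists_cover_free (R := R) Q
  refine ⟨n, g, hg, fun i => ?_⟩
  haveI := hfree i
  exact free_localizedModule_of_extended α (g i)

end Aux

/-- Let S = Spec R be a smooth connected affine complex variety, so that R is a finitely generated
smooth ℂ-algebra and an integral domain, and let F be a locally free sheaf of finite rank on the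
projective line over S, presented by its two standard charts: a finitely generated projective
R[X]-module P on the affine line over S, a finitely generated projective R[X]-module P' on the chart
at infinity, and an identification of their base changes to R[X, X⁻¹] that is additive, bijective
and semilinear over the R-algebra involution X ↦ X⁻¹. Then S is covered by basic open sets D(g_1),
…, D(g_n) such that F restricted to the affine line over each D(g_i) is free: the localisation of P
at g_i is a free module over the localisation of R[X] at g_i. -/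
theorem result
    (R : Type u) [CommRing R] [IsDomain R] [Algebra ℂ R] [Algebra.FiniteType ℂ R]
    [Algebra.Smooth ℂ R]
    (P : Type u) [AddCommGroup P] [Module R[X] P] [Module.Finite R[X] P]
    [Module.Projective R[X] P]
    (P' : Type u) [AddCommGroup P'] [Module R[X] P'] [Module.Finite R[X] P']
    [Module.Projective R[X] P']
    (e : R[T;T⁻¹] ⊗[R[X]] P ≃+ R[T;T⁻¹] ⊗[R[X]] P')
    (he : ∀ (a : R[T;T⁻¹]) (m : R[T;T⁻¹] ⊗[R[X]] P),
      e (a • m) = LaurentPolynomial.invert a • e m) :
    ∃ (n : ℕ) (g : Fin n → R), Ideal.span (Set.range g) = ⊤ ∧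
      ∀ i, Module.Free (Localization.Away (Polynomial.C (g i) : R[X]))
        (LocalizedModule (Submonoid.powers (Polynomial.C (g i) : R[X])) P) := by
  exact Aux.main R P P' e he

end Groth.Agent.S15499
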