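import Groth.Statements.S15505
-- import your own Groth.Agent.* helpers here
import Mathlib.FieldTheory.Finite.Basic

set_option autoImplicit false
universe u v w
open FrobAlg

namespace Groth.Agent.S15505

/-- Let k be an algebraically closed field of characteristic p, V a k-vector space, φ a p⁻¹-linear
endomorphism of V (additive, φ(a·v) = a^{1/p}·φ(v)) and b a finite basis of V consisting of vectors
fixed by φ. Then the vectors fixed by φ are exactly the combinations of the b_i with coefficients in
the prime field: v is fixed if and only if v = Σ c_i·b_i with all c_i in the image of ℤ/p. -/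
theorem result (p : ℕ) [Fact p.Prime]
    (k : Type u) [Field k] [CharP k p] [IsAlgClosed k]
    (V : Type v) [AddCommGroup V] [Module k V]
    (φ : V →ₛₗ[((frobeniusEquiv k p).symm : k →+* k)] V)
    {ι : Type w} [Fintype ι] (b : Module.Basis ι k V) (hb : ∀ i, φ (b i) = b i) (v : V) :
    φ v = v ↔ ∃ c : ι → ZMod p, v = ∑ i, (ZMod.castHom (dvd_refl p) k (c i)) • b i := by
  have hfix : ∀ x : k, (frobeniusEquiv k p).symm x = x ↔ x ^ p = x := by
    intro x
    rw [RingEquiv.symm_apply_eq, frobeniusEquiv_apply, frobenius_def, eq_comm]
  have hφ : ∀ c : ι → k, φ (∑ i, c i • b i) = ∑ i, ((frobeniusEquiv k p).symm (c i)) • b i := by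
    intro c
    rw [map_sum]
    refine Finset.sum_congr rfl fun i _ => ?_
    rw [map_smulₛₗ, hb]
    rfl
  constructor
  · intro h
    have hc : ∀ i, (b.repr v i) ^ p = b.repr v i := by
      intro i
      rw [← hfix]
      have h1 := hφ (fun i => b.repr v i)
      rw [b.sum_repr, h] at h1
      have h2 := congrArg (fun w => b.repr w i) h1
      simp only [map_sum, map_smul, Module.Basis.repr_self, Finsupp.coe_finset_sum,
        Finsupp.coe_smul, Finset.sum_apply, Pi.smul_apply, smul_eq_mul] at h2
      rw [Finset.sum_eq_single i] at h2
      · simpa using h2.symm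
      · intro j _ hji
        simp [Finsupp.single_apply, hji]
      · intro hi
        exact absurd (Finset.mem_univ i) hi
    have hex : ∀ i, ∃ c : ZMod p, ZMod.castHom (dvd_refl p) k c = b.repr v i := by
      intro i
      have := (Subfield.mem_bot_iff_pow_eq_self k p).mpr (hc i)
      rw [← ZMod.fieldRange_castHom_eq_bot p] at this
      exact this
    choose c hc' using hex
    exact ⟨c, by simp_rw [hc']; exact (b.sum_repr v).symm⟩
  · rintro ⟨c, rfl⟩
    rw [hφ]
    refine Finset.sum_congr rfl fun i _ => ?_
    congr 1
    rw [hfix, ← map_pow, ZMod.pow_card]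

end Groth.Agent.S15505
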