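import Groth.Statements.S1551
import Mathlib
import Groth.Agent.Lib.Helper1.CurveGlueF
import Groth.Agent.S1664

set_option autoImplicit false
universe u
open CategoryTheory CategoryTheory.Limits AlgebraicGeometry
open Variety

namespace Groth.Agent.S1551

/-- A Noetherian separated scheme of dimension one has an ample invertible module. -/
theorem result (X : Scheme.{u}) [IsNoetherian X] [X.IsSeparated]
    (hdim : topologicalKrullDim X = 1) : ∃ L : X.Modules, CohB1.IsAmple L := by
  exact Groth.Agent.S1664.result X (fun x => Groth.Agent.Helper1.CurveGlue.exists_affine_genLocus X hdim.le x)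

end Groth.Agent.S1551
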