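import Groth.Statements.S15515
import Groth.Agent.Lib.Helper2.Dual.CMConverse
import Groth.Agent.Lib.Helper2.HomExt.TwistExtCl


set_option autoImplicit false
universe u
open CategoryTheory AlgebraicGeometry
open ProjDual

namespace Groth.Agent.S15515

/-- (iii) ⇒ (i): let k be a field and X a k-scheme of dimension n with a closed immersion ι into P^N_k
over k. Let (ω, t) be a dualizing sheaf for X: ω is a coherent O_X-module and t : H^n(X, ω) → k a
k-linear map such that for every coherent F and every k-linear form ψ on H^n(X, F) there is exactly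
one φ : F → ω with ψ = t ∘ H^n(φ). Suppose that for every coherent O_X-module F and every i ≤ n, the
group Ext^i(F, ω) in the category of all O_X-modules (the Ext instance is the stated hypothesis; it
holds) vanishes if and only if H^(n-i)(X, F) vanishes. Then the local ring of X at every closed
point is Cohen–Macaulay of Krull dimension n. (The published statement assumes X connected and that
the duality maps Ext^i(F, ω) → H^(n-i)(X, F)' are bijective for all i and F, and concludes that X is
Cohen–Macaulay; the weaker vanishing hypothesis used here suffices for the published proof, which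
also yields the dimension of the local rings at closed points.) -/
theorem result
    (k : Type u) [Field k] (N n : ℕ) (X : Scheme.{u}) [X.Over (Spec (CommRingCat.of k))]
    (ι : X ⟶ CohB1.ProjSpace N k) [IsClosedImmersion ι]
    (hι : ι ≫ CohB1.ProjSpace.toSpec N k = X ↘ Spec (CommRingCat.of k))
    (hn : topologicalKrullDim ↥X = n) [HasExt.{u} X.Modules]
    (ω : X.Modules) (hω : Coh.IsCoh ω) (t : Coh.HH X ω n →ₗ[k] k)
    (hdual : ∀ F : X.Modules, Coh.IsCoh F → ∀ ψ : Coh.HH X F n →ₗ[k] k,
        ∃! φ : F ⟶ ω, ∀ x : Coh.HH X F n,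
          ψ x = t (Sheaf.H.map ((SheafOfModules.toSheaf X.ringCatSheaf).map φ) n x))
    (h : ∀ F : X.Modules, Coh.IsCoh F → ∀ i : ℕ, i ≤ n →
        (Subsingleton (Abelian.Ext F ω i) ↔ Subsingleton (Coh.HH X F (n - i)))) :
    ∀ x : X, IsClosed ({x} : Set ↥X) →
      LocCoh.IsCohenMacaulayLocalRing (X.presheaf.stalk x) ∧ ringKrullDim (X.presheaf.stalk x) = n := by
  obtain ⟨N₁, hN₁⟩ :=
    Groth.Agent.Helper2.HomExt.TwistExtCl.exists_subsingleton_ext_pullback_twist k N ι ω hω
  apply Groth.Agent.Helper2.CMConverse.cm_of_vanishing k N ι n hn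
  intro p hp
  refine ⟨N₁, fun m hm => ?_⟩
  have hB : Coh.IsCoh ((Scheme.Modules.pullback ι).obj (Twist.twistProjSpace N k (-m))) :=
    Groth.Agent.Helper1.InvQc.isCoh_of_isInvertible _
      (Groth.Agent.Helper1.PullGen.isInvertible_pullback ι
        (Groth.Agent.Lib.Helper4.ClBridge2.isInvertible_twist N k (-m)))
  have h1 := (h _ hB (n - p) (Nat.sub_le n p)).mp (hN₁ m hm (n - p) (by omega))
  rwa [Nat.sub_sub_self hp.le] at h1

end Groth.Agent.S15515
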