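import Groth.Statements.S15520
import Groth.Agent.Lib.Helper2.HomExt.ExtLocFree
import Groth.Agent.Lib.Helper3.RelExtRes
import Groth.Agent.Lib.Helper3.RelExtHyp


set_option autoImplicit false
universe u
open CategoryTheory CategoryTheory.Limits AlgebraicGeometry
open Coherent

namespace Groth.Agent.S15520

/-- Let X be a scheme, F and G O_X-modules, and E_• → F → 0 a resolution of F whose terms E_i are finite
locally free O_X-modules: E is a chain complex indexed by the natural numbers with an augmentation π
: E_0 → F such that E is exact in every positive degree and E_1 → E_0 → F → 0 is exact. Let C be the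
cochain complex Hom_{O_X}(E_•, G), given with identifications C^i ≅ Hom_{O_X}(E_i, G) under which
its differentials are the maps induced by the differentials of E (contravariant functoriality of the
internal Hom). Then for every i the i-th cohomology object of C is isomorphic to the Ext sheaf
Ext^i_{O_X}(F, G), the i-th right derived functor of the internal Hom functor Hom(F, -) evaluated at
G. (Existence of an isomorphism of O_X-modules only; the published statement is for a ringed space.
The internal Hom functors and injective resolutions are the stated instance hypotheses, all true.) -/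
theorem result (X : Scheme.{u}) (F G : X.Modules)
    (E : ChainComplex X.Modules ℕ) (π : E.X 0 ⟶ F) [Epi π] (hπ : E.d 1 0 ≫ π = 0)
    (hex0 : (ShortComplex.mk (E.d 1 0) π hπ).Exact) (hex : ∀ j : ℕ, E.ExactAt (j + 1))
    (hE : ∀ j : ℕ, FlatMod.IsFinLocFree (E.X j))
    [∀ j : ℕ, ModSite.HasSheafHom (O := X.sheaf) (E.X j)] [ModSite.HasSheafHom (O := X.sheaf) F]
    [HasInjectiveResolutions (ModSite.Mod X.sheaf)]
    (C : CochainComplex X.Modules ℕ) (e : ∀ j : ℕ, C.X j ≅ (ModSite.sheafHom (O := X.sheaf) (E.X j)).obj G)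
    (hC : ∀ j : ℕ, C.d j (j + 1) ≫ (e (j + 1)).hom =
      (e j).hom ≫ (ExtSupp.sheafHomMap (O := X.sheaf) (E.d (j + 1) j)).app G)
    (i : ℕ) :
    Nonempty (C.homology i ≅ (ModSite.extSh (O := X.sheaf) F i).obj G) := by
  haveI hSH : ∀ M : ModSite.Mod X.sheaf, ModSite.HasSheafHom (O := X.sheaf) M :=
    fun M => Groth.Agent.Helper3.SHomEx.hasSheafHom M
  haveI hadd : ∀ M : ModSite.Mod X.sheaf, (ModSite.sheafHom (O := X.sheaf) M).Additive :=
    fun M => ModSite.sheafHom_additive X.sheaf M
  haveI hlex : ∀ M : ModSite.Mod X.sheaf,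
      PreservesFiniteLimits (ModSite.sheafHom (O := X.sheaf) M) := fun M => by
    haveI := (ModSite.sheafHomAdj (O := X.sheaf) M).rightAdjoint_preservesLimits
    infer_instance
  obtain ⟨E', hE'⟩ : ∃ E' : ChainComplex (ModSite.Mod X.sheaf) ℕ, E' = E := ⟨E, rfl⟩
  have hL : ∀ (j p : ℕ), 1 ≤ p →
      IsZero (((ModSite.sheafHom (O := X.sheaf) (E'.X j)).rightDerived p).obj G) := by
    intro j p hp
    subst hE'
    exact Groth.Agent.Helper2.HomExt.isZero_extSh_of_isFinLocFree (hE j) G p hp
  subst hE'
  exact Groth.Agent.Helper3.RelExtRes.main (A := ModSite.Mod X.sheaf) (B := ModSite.Mod X.sheaf)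
    (T := fun M : ModSite.Mod X.sheaf => ModSite.sheafHom (O := X.sheaf) M)
    (m := fun {M' M} u => ExtSupp.sheafHomMap (O := X.sheaf) u)
    G
    (fun M => Groth.Agent.Helper3.RelExtHyp.sheafHomMap_id (O := X.sheaf) M)
    (fun u' u => Groth.Agent.Helper3.RelExtHyp.sheafHomMap_comp (O := X.sheaf) u' u)
    (fun S hS Q hQ => ⟨Groth.Agent.Helper3.SHomEx.zero S Q,
      @Groth.Agent.Helper3.SHomEx.shortExact _ _ _ _ S _ _ _ Q hS hQ⟩)
    E' C e hC F π ‹Epi π› hπ hex0 hex hL i

end Groth.Agent.S15520
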