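import Groth.Statements.S15523
import Mathlib
import Groth.Agent.Lib.Helper1.SurfDual4

set_option autoImplicit false
universe u
open CategoryTheory AlgebraicGeometry
open Zeta

namespace Groth.Agent.S15523

/-- Let S be a smooth, proper, geometrically irreducible surface over a field k, H an ample invertible
O_S-module and D any invertible O_S-module. Then (D·D)(H·H) ≤ (D·H)^2, where (A·B) denotes the
intersection number on S computed as the alternating sum of Euler characteristics χ(O_S) − χ(A) −
χ(B) + χ(A ⊗ B). (The published statement is for divisors on the self-product of a smooth projective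
geometrically irreducible curve over a finite field; the printed argument uses only the Hodge index
property of an ample class on a smooth projective surface, so the row is stated for any such
surface.) -/
theorem result (k : Type u) [Field k] (S : Scheme.{u})
    [S.Over (Spec (CommRingCat.of k))] [IsProper (S ↘ Spec (CommRingCat.of k))]
    [Smooth (S ↘ Spec (CommRingCat.of k))] [GeometricallyIrreducible (S ↘ Spec (CommRingCat.of k))]
    (hdim : topologicalKrullDim S = 2) (D H : S.Modules) (hD : PicF.IsInvertible D)
    (hH : CohB1.IsAmple H) :
    FGA.intNum k S 2 ![D, D] (Coh.structureModule S) * FGA.intNum k S 2 ![H, H] (Coh.structureModule S) ≤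
      FGA.intNum k S 2 ![D, H] (Coh.structureModule S) ^ 2 := by
  haveI : AlgebraicGeometry.IsNoetherian S := Groth.Agent.Helper1.Euler.isNoetherian_of_proper k S
  haveI : Subsingleton ↥(Spec (CommRingCat.of k)) :=
    inferInstanceAs (Subsingleton (PrimeSpectrum k))
  haveI : Nonempty ↥(Spec (CommRingCat.of k)) :=
    inferInstanceAs (Nonempty (PrimeSpectrum k))
  haveI : IrreducibleSpace ↥S :=
    GeometricallyIrreducible.irreducibleSpace_of_subsingleton (f := S ↘ Spec (CommRingCat.of k))
  haveI : ConnectedSpace ↥S := inferInstance
  haveI : IsIntegral S := Groth.Agent.Helper1.Conn1.isIntegral_of_connected S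
    (fun x => Groth.Agent.Helper1.VB5.isDomain_stalk_of_smooth k (S ↘ Spec (CommRingCat.of k)) x)
  exact Groth.Agent.Helper1.SurfHodge.lattice_ineq k S hdim H hH D hD

end Groth.Agent.S15523
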