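import Groth.Statements.S15524
import Mathlib

set_option autoImplicit false
open Finset
open Zeta

namespace Groth.Agent.S15524

section
open Finset

open Filter Topology

/-- unit complex numbers: simultaneous return near 1 -/
theorem return_near_one {m : ℕ} (γ : Fin m → ℂ) (hγ : ∀ i, ‖γ i‖ ≤ 1) (ε : ℝ) (hε : 0 < ε) (N₀ : ℕ) :
    ∃ N : ℕ, N₀ ≤ N ∧ 1 ≤ N ∧ ∀ i, ‖γ i‖ = 1 → ‖γ i ^ N - 1‖ < ε := by
  obtain ⟨v, hv⟩ : ∃ v : ℕ → (Fin m → ℂ), v = fun N i => γ i ^ N := ⟨_, rfl⟩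
  have hmem : ∀ N, v N ∈ Metric.closedBall (0 : Fin m → ℂ) 1 := by
    intro N
    rw [mem_closedBall_zero_iff, pi_norm_le_iff_of_nonneg zero_le_one]
    intro i
    rw [hv]
    simp only [norm_pow]
    exact pow_le_one₀ (norm_nonneg _) (hγ i)
  obtain ⟨w, -, φ, hφ, hlim⟩ := (isCompact_closedBall (0 : Fin m → ℂ) 1).tendsto_subseq hmem
  have hcau : CauchySeq (v ∘ φ) := hlim.cauchySeq
  rw [Metric.cauchySeq_iff] at hcau
  obtain ⟨k₀, hk₀⟩ := hcau ε hε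
  refine ⟨φ (k₀ + N₀ + 1) - φ k₀, ?_, ?_, ?_⟩
  · have h1 : (N₀ + 1) + φ k₀ ≤ φ ((N₀ + 1) + k₀) := hφ.add_le_nat (N₀ + 1) k₀
    have : k₀ + N₀ + 1 = (N₀ + 1) + k₀ := by ring
    rw [this]; omega
  · have h1 : (N₀ + 1) + φ k₀ ≤ φ ((N₀ + 1) + k₀) := hφ.add_le_nat (N₀ + 1) k₀
    have : k₀ + N₀ + 1 = (N₀ + 1) + k₀ := by ring
    rw [this]; omega
  · intro i hi
    have hle : φ k₀ ≤ φ (k₀ + N₀ + 1) := hφ.monotone (by omega)
    have hd := hk₀ (k₀ + N₀ + 1) (by omega) k₀ le_rfl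
    have hd' : dist ((v ∘ φ) (k₀ + N₀ + 1) i) ((v ∘ φ) k₀ i) < ε :=
      lt_of_le_of_lt (dist_le_pi_dist _ _ i) hd
    rw [hv] at hd'
    simp only [Function.comp_apply, Complex.dist_eq] at hd'
    have e : γ i ^ φ (k₀ + N₀ + 1) - γ i ^ φ k₀ = γ i ^ φ k₀ * (γ i ^ (φ (k₀ + N₀ + 1) - φ k₀) - 1) := by
      rw [mul_sub, mul_one, ← pow_add, Nat.add_sub_cancel' hle]
    rw [e, norm_mul, norm_pow, hi, one_pow, one_mul] at hd'
    exact hd'


theorem bound {m : ℕ} (β : Fin m → ℂ) (C r : ℝ) (hr : 0 < r)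
    (h : ∀ N : ℕ, 1 ≤ N → ‖∑ i, β i ^ N‖ ≤ C * r ^ N) (i : Fin m) : ‖β i‖ ≤ r := by
  by_contra hcon
  have hcon' : r < ‖β i‖ := not_le.mp hcon
  obtain ⟨j, -, hj⟩ := Finset.exists_max_image Finset.univ (fun i => ‖β i‖) ⟨i, Finset.mem_univ _⟩
  obtain ⟨R, hRdef⟩ : ∃ R : ℝ, R = ‖β j‖ := ⟨_, rfl⟩
  have hR : r < R := by rw [hRdef]; exact lt_of_lt_of_le hcon' (hj i (mem_univ _))
  have hRpos : 0 < R := hr.trans hR
  obtain ⟨γ, hγdef⟩ : ∃ γ : Fin m → ℂ, γ = fun i => β i / (R : ℂ) := ⟨_, rfl⟩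
  have hnorm : ∀ i, ‖γ i‖ = ‖β i‖ / R := by
    intro i
    rw [hγdef]
    simp only [norm_div, Complex.norm_real, Real.norm_eq_abs, abs_of_pos hRpos]
  have hγ : ∀ i, ‖γ i‖ ≤ 1 := by
    intro i
    rw [hnorm, div_le_one hRpos, hRdef]
    exact hj i (mem_univ _)
  have hγj : ‖γ j‖ = 1 := by
    rw [hnorm, ← hRdef, div_self hRpos.ne']
  -- the total sum bound
  have hsum : ∀ N : ℕ, 1 ≤ N → ‖∑ i, γ i ^ N‖ ≤ |C| * (r / R) ^ N := by
    intro N hN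
    have e : ∑ i, γ i ^ N = (∑ i, β i ^ N) / (R : ℂ) ^ N := by
      rw [Finset.sum_div, hγdef]
      refine Finset.sum_congr rfl fun i _ => ?_
      rw [div_pow]
    rw [e, norm_div, norm_pow, Complex.norm_real, Real.norm_eq_abs, abs_of_pos hRpos, div_pow,
      ← mul_div_assoc, div_le_div_iff_of_pos_right (pow_pos hRpos N)]
    refine (h N hN).trans ?_
    exact mul_le_mul_of_nonneg_right (le_abs_self C) (pow_nonneg hr.le N)
  -- tends to zero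
  have hlt : r / R < 1 := (div_lt_one hRpos).mpr hR
  have hnn : 0 ≤ r / R := (div_pos hr hRpos).le
  have ht1 : Tendsto (fun N : ℕ => |C| * (r / R) ^ N) atTop (𝓝 0) := by
    have := (tendsto_pow_atTop_nhds_zero_of_lt_one hnn hlt).const_mul |C|
    simpa using this
  have ht2 : Tendsto (fun N : ℕ => ∑ i ∈ Finset.univ.filter (fun i => ‖γ i‖ < 1), ‖γ i‖ ^ N)
      atTop (𝓝 0) := by
    have : Tendsto (fun N : ℕ => ∑ i ∈ Finset.univ.filter (fun i => ‖γ i‖ < 1), ‖γ i‖ ^ N)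
      atTop (𝓝 (∑ i ∈ Finset.univ.filter (fun i => ‖γ i‖ < 1), (0 : ℝ))) := by
      refine tendsto_finset_sum _ fun i hi => ?_
      exact tendsto_pow_atTop_nhds_zero_of_lt_one (norm_nonneg _) (Finset.mem_filter.mp hi).2
    simpa using this
  have ht : Tendsto (fun N : ℕ => |C| * (r / R) ^ N +
      ∑ i ∈ Finset.univ.filter (fun i => ‖γ i‖ < 1), ‖γ i‖ ^ N) atTop (𝓝 0) := by
    simpa using ht1.add ht2
  have hev := ht.eventually (gt_mem_nhds (show (0 : ℝ) < 1 / 2 by norm_num))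
  obtain ⟨N₀, hN₀⟩ := Filter.eventually_atTop.mp hev
  obtain ⟨N, hNN₀, hN1, hNret⟩ := return_near_one γ hγ (1 / 2) (by norm_num) N₀
  have hfN := hN₀ N hNN₀
  have hS := hsum N hN1
  -- split
  have hsplit : ∑ i, γ i ^ N = ∑ i ∈ Finset.univ.filter (fun i => ‖γ i‖ < 1), γ i ^ N +
      ∑ i ∈ Finset.univ.filter (fun i => ¬ ‖γ i‖ < 1), γ i ^ N :=
    (Finset.sum_filter_add_sum_filter_not _ _ _).symm
  have hK : ‖∑ i ∈ Finset.univ.filter (fun i => ‖γ i‖ < 1), γ i ^ N‖ ≤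
      ∑ i ∈ Finset.univ.filter (fun i => ‖γ i‖ < 1), ‖γ i‖ ^ N := by
    refine (norm_sum_le _ _).trans ?_
    refine Finset.sum_le_sum fun i _ => ?_
    rw [norm_pow]
  obtain ⟨J, hJdef⟩ : ∃ J : Finset (Fin m), J = Finset.univ.filter (fun i => ¬ ‖γ i‖ < 1) :=
    ⟨_, rfl⟩
  have hJ1 : ∀ i ∈ J, ‖γ i ^ N - 1‖ ≤ 1 / 2 := by
    intro i hi
    rw [hJdef] at hi
    have := (Finset.mem_filter.mp hi).2
    exact (hNret i (le_antisymm (hγ i) (not_lt.mp this))).le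
  have hjJ : j ∈ J := by
    rw [hJdef]
    exact Finset.mem_filter.mpr ⟨mem_univ _, by rw [hγj]; exact lt_irrefl _⟩
  have hJcard : (1 : ℝ) ≤ (J.card : ℝ) := by
    exact_mod_cast Finset.card_pos.mpr ⟨j, hjJ⟩
  have hJsum : ‖∑ i ∈ J, γ i ^ N - (J.card : ℂ)‖ ≤ (J.card : ℝ) * (1 / 2) := by
    have e : ∑ i ∈ J, γ i ^ N - (J.card : ℂ) = ∑ i ∈ J, (γ i ^ N - 1) := by
      rw [Finset.sum_sub_distrib]
      simp
    rw [e]
    refine (norm_sum_le _ _).trans ?_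
    refine (Finset.sum_le_sum hJ1).trans ?_
    simp
  have hJlow : (J.card : ℝ) / 2 ≤ ‖∑ i ∈ J, γ i ^ N‖ := by
    have h1 : ‖(J.card : ℂ)‖ ≤ ‖∑ i ∈ J, γ i ^ N‖ + ‖∑ i ∈ J, γ i ^ N - (J.card : ℂ)‖ := by
      have := norm_sub_le (∑ i ∈ J, γ i ^ N) (∑ i ∈ J, γ i ^ N - (J.card : ℂ))
      simpa using this
    have h2 : ‖(J.card : ℂ)‖ = (J.card : ℝ) := by simp
    rw [h2] at h1
    linarith
  rw [← hJdef] at hsplit
  have hfin : ‖∑ i ∈ J, γ i ^ N‖ ≤ ‖∑ i, γ i ^ N‖ +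
      ‖∑ i ∈ Finset.univ.filter (fun i => ‖γ i‖ < 1), γ i ^ N‖ := by
    have e : ∑ i ∈ J, γ i ^ N = ∑ i, γ i ^ N -
        ∑ i ∈ Finset.univ.filter (fun i => ‖γ i‖ < 1), γ i ^ N := by
      rw [hsplit]; ring
    rw [e]
    exact norm_sub_le _ _
  linarith


theorem main {g : ℕ} (q : ℕ) (hq : 0 < q)
    (α : Fin (2 * g) → ℂ) (σ : Equiv.Perm (Fin (2 * g))) (hσ : ∀ i, α (σ i) * α i = q)
    (d : ℕ) (hd : 0 < d) (C : ℝ)
    (hC : ∀ N : ℕ, 1 ≤ N → ‖∑ i, α i ^ (d * N)‖ ≤ C * (q : ℝ) ^ ((d : ℝ) * N / 2))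
    (i : Fin (2 * g)) : ‖α i‖ ^ 2 = q := by
  have hq0 : (0 : ℝ) < (q : ℝ) := by exact_mod_cast hq
  obtain ⟨s, hsdef⟩ : ∃ s : ℝ, s = (q : ℝ) ^ ((1 : ℝ) / 2) := ⟨_, rfl⟩
  have hspos : 0 < s := by rw [hsdef]; exact Real.rpow_pos_of_pos hq0 _
  have hss : s * s = q := by
    rw [hsdef, ← Real.rpow_add hq0]
    norm_num
  have hb : ∀ i, ‖α i‖ ≤ s := by
    intro i
    have hB := bound (fun i => α i ^ d) C (s ^ d) (pow_pos hspos d) ?_ i
    · simp only [norm_pow] at hB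
      exact (pow_le_pow_iff_left₀ (norm_nonneg _) hspos.le hd.ne').mp hB
    · intro N hN
      have e1 : ∑ i, (α i ^ d) ^ N = ∑ i, α i ^ (d * N) := by
        refine Finset.sum_congr rfl fun i _ => ?_
        rw [pow_mul]
      have e2 : (s ^ d) ^ N = (q : ℝ) ^ ((d : ℝ) * N / 2) := by
        rw [hsdef, ← pow_mul, ← Real.rpow_natCast, ← Real.rpow_mul hq0.le]
        congr 1
        push_cast
        ring
      rw [e1, e2]
      exact hC N hN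
  have h1 : ‖α (σ i)‖ * ‖α i‖ = q := by
    rw [← norm_mul, hσ i]
    simp
  have h2 : s * s ≤ s * ‖α i‖ := by
    rw [hss, ← h1]
    exact mul_le_mul_of_nonneg_right (hb _) (norm_nonneg _)
  have h3 : s ≤ ‖α i‖ := le_of_mul_le_mul_left h2 hspos
  have h4 : ‖α i‖ = s := le_antisymm (hb i) h3
  rw [h4, sq, hss]


end


/-- Let q ≥ 1 and let α_1, …, α_{2g} be complex numbers permuted by α ↦ q/α, i.e. α_{σ(i)} α_i = q for a
permutation σ of the indices; these play the role of the inverse roots of the numerator of the zeta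
function of a curve over a field with q elements, for which #X(F_{q^N}) = q^N + 1 − Σ_i α_i^N. If
for some d ≥ 1 and real C one has |Σ_i α_i^{dN}| ≤ C q^{dN/2} for every N ≥ 1, then |α_i|^2 = q for
every i (the Riemann hypothesis for the curve). -/
theorem result {g : ℕ} (q : ℕ) (hq : 0 < q)
    (α : Fin (2 * g) → ℂ) (σ : Equiv.Perm (Fin (2 * g))) (hσ : ∀ i, α (σ i) * α i = q)
    (d : ℕ) (hd : 0 < d) (C : ℝ)
    (hC : ∀ N : ℕ, 1 ≤ N → ‖∑ i, α i ^ (d * N)‖ ≤ C * (q : ℝ) ^ ((d : ℝ) * N / 2))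
    (i : Fin (2 * g)) : ‖α i‖ ^ 2 = q := by
  classical
  exact main q hq α σ hσ d hd C hC i

end Groth.Agent.S15524
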