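import Groth.Statements.S15525
import Mathlib

set_option autoImplicit false
universe u
open Zeta

namespace Groth.Agent.S15525

section
open Polynomial

theorem rev_lin (a : ℂ) : (X - C a : ℂ[X]).reverse = 1 - C a * X := by
  have h : (X - C a : ℂ[X]) = X + C (-a) := by simp [sub_eq_add_neg]
  have hX : (X : ℂ[X]).reverse = 1 := by
    have h2 := reverse_mul_X (1 : ℂ[X])
    rw [one_mul] at h2
    rw [h2, ← C_1, reverse_C]
  rw [h, reverse_add_C, hX, natDegree_X, pow_one, C_neg]
  ring

theorem key (s : Multiset ℂ) (hs : ∀ z ∈ s, ‖z‖ = 1) :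
    C ((-1 : ℂ) ^ Multiset.card s * (s.prod)⁻¹) * ((s.map fun z => X - C z).prod).reverse
      = (s.map fun z => X - C ((starRingEnd ℂ) z)).prod := by
  induction s using Multiset.induction_on with
  | empty =>
    simp
    rw [← C_1, reverse_C]
  | cons a s ih =>
    have ha : ‖a‖ = 1 := hs a (Multiset.mem_cons_self a s)
    have ha0 : a ≠ 0 := by intro h; rw [h] at ha; simp at ha
    have ih' := ih (fun z hz => hs z (Multiset.mem_cons_of_mem hz))
    rw [Multiset.map_cons, Multiset.prod_cons, Multiset.map_cons, Multiset.prod_cons,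
      Multiset.card_cons, Multiset.prod_cons, reverse_mul_of_domain, rev_lin, ← ih',
      ← RCLike.inv_eq_conj ha]
    have h1 : (X - C a⁻¹ : ℂ[X]) = C (-a⁻¹) * (1 - C a * X) := by
      rw [mul_sub, mul_one, ← mul_assoc, ← C_mul]
      simp [ha0]
      ring
    rw [h1, pow_succ, mul_inv, C_mul, C_mul, C_mul, C_mul, C_neg, C_neg, C_1]
    ring

theorem main (L : Type u) [Field L] (ι : L →+* ℂ)
    {r : ℕ} (M : Matrix (Fin r) (Fin r) L)
    (hM : ∀ z ∈ ((Matrix.charpoly M).map ι).roots, ‖z‖ = 1) (n : ℕ) :
    (ι ((Matrix.fromBlocks M 0 0 (M⁻¹).transpose).charpoly.coeff n)).im = 0 := by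
  obtain ⟨P, hP⟩ : ∃ P, P = (Matrix.charpoly M).map ι := ⟨_, rfl⟩
  rw [← hP] at hM
  have hPm : P = (M.map ι).charpoly := by rw [hP, Matrix.charpoly_map]
  have hmonic : P.Monic := by rw [hP]; exact (Matrix.charpoly_monic M).map ι
  have hPprod : P = (P.roots.map fun z => X - C z).prod :=
    (IsAlgClosed.splits P).eq_prod_roots_of_monic hmonic
  have hdetA : ι M.det = P.roots.prod := by
    rw [hPm, ← Matrix.det_eq_prod_roots_charpoly, RingHom.map_det]
    rfl
  have hprod0 : P.roots.prod ≠ 0 := by
    intro h
    rw [Multiset.prod_eq_zero_iff] at h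
    have := hM 0 h
    simp at this
  have hdet : M.det ≠ 0 := by
    intro h
    rw [h, map_zero] at hdetA
    exact hprod0 hdetA.symm
  have hunit : IsUnit M := (Matrix.isUnit_iff_isUnit_det M).2 (IsUnit.mk0 _ hdet)
  have hq : (M⁻¹).charpoly = C ((-1)^r * (M.det)⁻¹) * M.charpoly.reverse := by
    rw [Matrix.charpoly_inv M hunit, Matrix.reverse_charpoly, Fintype.card_fin,
      Ring.inverse_eq_inv', C_mul, C_pow, C_neg, C_1]
  have hrev : (M.charpoly.reverse).map ι = P.reverse := by
    rw [hP]
    unfold Polynomial.reverse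
    rw [reflect_map, natDegree_map]
  have hcard : Multiset.card P.roots = r := by
    rw [← (IsAlgClosed.splits P).natDegree_eq_card_roots, hP, natDegree_map,
      Matrix.charpoly_natDegree_eq_dim, Fintype.card_fin]
  have hQ : ((M⁻¹).charpoly).map ι = P.map (starRingEnd ℂ) := by
    rw [hq, Polynomial.map_mul, map_C, hrev]
    conv_rhs => rw [hPprod]
    rw [Polynomial.map_multiset_prod, Multiset.map_map]
    have := key P.roots hM
    rw [hcard, ← hPprod, ← hdetA] at this
    rw [map_mul, map_pow, map_neg, map_one, map_inv₀, this]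
    congr 1
    apply Multiset.map_congr rfl
    intro z _
    simp
  have hcoef : ι ((Matrix.fromBlocks M 0 0 (M⁻¹).transpose).charpoly.coeff n)
      = (P * P.map (starRingEnd ℂ)).coeff n := by
    rw [Matrix.charpoly_fromBlocks_zero₁₂, Matrix.charpoly_transpose, ← hQ, hP, ← Polynomial.map_mul,
      coeff_map]
  rw [hcoef, ← Complex.conj_eq_iff_im, ← coeff_map, Polynomial.map_mul, Polynomial.map_map]
  have : (starRingEnd ℂ).comp (starRingEnd ℂ) = RingHom.id ℂ := by
    ext z; simp
  rw [this, Polynomial.map_id, mul_comm]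


end


/-- Let L be a field with a ring embedding ι into ℂ and M an r × r matrix over L all of whose
eigenvalues, the complex roots of its characteristic polynomial mapped along ι, have absolute value
1. Then every coefficient of the characteristic polynomial of the block-diagonal matrix with blocks
M and the inverse transpose of M is mapped by ι into ℝ. This is the pointwise content of the
assertion that for a lisse sheaf F pure of weight 0 the sum of F and its dual is real, the Frobenius
of the dual acting by the inverse transpose. -/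
theorem result (L : Type u) [Field L] (ι : L →+* ℂ)
    {r : ℕ} (M : Matrix (Fin r) (Fin r) L)
    (hM : ∀ z ∈ ((Matrix.charpoly M).map ι).roots, ‖z‖ = 1) (n : ℕ) :
    (ι ((Matrix.fromBlocks M 0 0 (M⁻¹).transpose).charpoly.coeff n)).im = 0 := by
  classical
  exact main L ι M hM n

end Groth.Agent.S15525
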