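import Groth.Statements.S15526
import Mathlib

set_option autoImplicit false
universe u
open MvPolynomial
open CAlg

namespace Groth.Agent.S15526

section
open MvPolynomial

theorem gen_lemma (R : Type u) [CommRing R] (B : Type u) [CommRing B] [Algebra R B]
    (x y z : B) (g : ℕ) (P : Polynomial R) (hP : P.Monic) (hdeg : P.natDegree = 2 * g + 1)
    (hrel : y ^ 2 = Polynomial.aeval x P) (hyz : y * z = 1)
    (hind : ∀ W : Submodule R B, (1 : B) ∈ W → (∀ w ∈ W, x * w ∈ W) → (∀ w ∈ W, y * w ∈ W) →
      (∀ w ∈ W, z * w ∈ W) → W = ⊤) :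
    Submodule.span R {a : B | ∃ i n : ℕ, i ≤ 2 * g ∧ (a = x ^ i * y ^ n ∨ a = x ^ i * z ^ n)} = ⊤ := by
  obtain ⟨W, hW⟩ : ∃ W : Submodule R B, W = Submodule.span R
      {a : B | ∃ i n : ℕ, i ≤ 2 * g ∧ (a = x ^ i * y ^ n ∨ a = x ^ i * z ^ n)} := ⟨_, rfl⟩
  rw [← hW]
  have memy : ∀ i n : ℕ, i ≤ 2 * g → x ^ i * y ^ n ∈ W := by
    intro i n hi
    rw [hW]
    exact Submodule.subset_span ⟨i, n, hi, Or.inl rfl⟩
  have memz : ∀ i n : ℕ, i ≤ 2 * g → x ^ i * z ^ n ∈ W := by
    intro i n hi
    rw [hW]
    exact Submodule.subset_span ⟨i, n, hi, Or.inr rfl⟩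
  -- the top power of x
  have htop : x ^ (2 * g + 1) = y ^ 2 - ∑ l ∈ Finset.range (2 * g + 1), P.coeff l • x ^ l := by
    have this : ∀ l ∈ Finset.range (2 * g + 1),
        Polynomial.aeval x (Polynomial.C (P.coeff l) * Polynomial.X ^ l) = P.coeff l • x ^ l := by
      intro l _
      rw [map_mul, Polynomial.aeval_C, map_pow, Polynomial.aeval_X, Algebra.smul_def]
    have e : Polynomial.aeval x P =
        x ^ (2 * g + 1) + ∑ l ∈ Finset.range (2 * g + 1), P.coeff l • x ^ l := by
      conv_lhs => rw [hP.as_sum]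
      rw [map_add, map_pow, Polynomial.aeval_X, map_sum, hdeg]
      congr 1
      exact Finset.sum_congr rfl this
    rw [hrel, e]
    ring
  have hy2z : ∀ n : ℕ, y ^ 2 * z ^ n ∈ W := by
    intro n
    match n with
    | 0 =>
      have := memy 0 2 (Nat.zero_le _)
      rw [pow_zero, one_mul] at this
      rw [pow_zero, mul_one]
      exact this
    | 1 =>
      have := memy 0 1 (Nat.zero_le _)
      rw [pow_zero, one_mul, pow_one] at this
      have e : y ^ 2 * z ^ 1 = y := by
        rw [pow_one, pow_two, mul_assoc, hyz, mul_one]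
      rw [e]
      exact this
    | (m + 2) =>
      have := memz 0 m (Nat.zero_le _)
      rw [pow_zero, one_mul] at this
      have e : y ^ 2 * z ^ (m + 2) = z ^ m := by
        rw [pow_add, mul_comm (z ^ m), ← mul_assoc, ← mul_pow, hyz, one_pow, one_mul]
      rw [e]
      exact this
  have closex_gen : ∀ i n : ℕ, i ≤ 2 * g → x * (x ^ i * y ^ n) ∈ W ∧ x * (x ^ i * z ^ n) ∈ W := by
    intro i n hi
    rcases Nat.lt_or_ge i (2 * g) with hlt | hge
    · constructor
      · rw [← mul_assoc, ← pow_succ']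
        exact memy (i + 1) n hlt
      · rw [← mul_assoc, ← pow_succ']
        exact memz (i + 1) n hlt
    · have hi2 : i = 2 * g := le_antisymm hi hge
      subst hi2
      constructor
      · rw [← mul_assoc, ← pow_succ', htop, sub_mul, Finset.sum_mul]
        apply W.sub_mem
        · have := memy 0 (n + 2) (Nat.zero_le _)
          rw [pow_zero, one_mul] at this
          rw [← pow_add, add_comm]
          exact this
        · apply W.sum_mem
          intro l hl
          rw [smul_mul_assoc]
          exact W.smul_mem _ (memy l n (by have := Finset.mem_range.mp hl; omega))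
      · rw [← mul_assoc, ← pow_succ', htop, sub_mul, Finset.sum_mul]
        apply W.sub_mem
        · exact hy2z n
        · apply W.sum_mem
          intro l hl
          rw [smul_mul_assoc]
          exact W.smul_mem _ (memz l n (by have := Finset.mem_range.mp hl; omega))
  have closey_gen : ∀ i n : ℕ, i ≤ 2 * g → y * (x ^ i * y ^ n) ∈ W ∧ y * (x ^ i * z ^ n) ∈ W := by
    intro i n hi
    constructor
    · have e : y * (x ^ i * y ^ n) = x ^ i * y ^ (n + 1) := by ring
      rw [e]
      exact memy i (n + 1) hi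
    · match n with
      | 0 =>
        have e : y * (x ^ i * z ^ 0) = x ^ i * y ^ 1 := by ring
        rw [e]
        exact memy i 1 hi
      | (m + 1) =>
        have e : y * (x ^ i * z ^ (m + 1)) = x ^ i * z ^ m := by
          rw [pow_succ]
          calc y * (x ^ i * (z ^ m * z)) = x ^ i * z ^ m * (y * z) := by ring
            _ = x ^ i * z ^ m := by rw [hyz, mul_one]
        rw [e]
        exact memz i m hi
  have closez_gen : ∀ i n : ℕ, i ≤ 2 * g → z * (x ^ i * y ^ n) ∈ W ∧ z * (x ^ i * z ^ n) ∈ W := by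
    intro i n hi
    constructor
    · match n with
      | 0 =>
        have e : z * (x ^ i * y ^ 0) = x ^ i * z ^ 1 := by ring
        rw [e]
        exact memz i 1 hi
      | (m + 1) =>
        have e : z * (x ^ i * y ^ (m + 1)) = x ^ i * y ^ m := by
          rw [pow_succ]
          calc z * (x ^ i * (y ^ m * y)) = x ^ i * y ^ m * (y * z) := by ring
            _ = x ^ i * y ^ m := by rw [hyz, mul_one]
        rw [e]
        exact memy i m hi
    · have e : z * (x ^ i * z ^ n) = x ^ i * z ^ (n + 1) := by ring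
      rw [e]
      exact memz i (n + 1) hi
  have close : ∀ (t : B), (∀ i n : ℕ, i ≤ 2 * g → t * (x ^ i * y ^ n) ∈ W ∧ t * (x ^ i * z ^ n) ∈ W) →
      ∀ w ∈ W, t * w ∈ W := by
    intro t ht w hw
    rw [hW] at hw
    induction hw using Submodule.span_induction with
    | mem a ha =>
      obtain ⟨i, n, hi, h | h⟩ := ha
      · rw [h]; exact (ht i n hi).1
      · rw [h]; exact (ht i n hi).2
    | zero => rw [mul_zero]; exact W.zero_mem
    | add a b _ _ iha ihb => rw [mul_add]; exact W.add_mem iha ihb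
    | smul r a _ iha => rw [mul_smul_comm]; exact W.smul_mem r iha
  apply hind W
  · have := memy 0 0 (Nat.zero_le _)
    rw [pow_zero, pow_zero, one_mul] at this
    exact this
  · exact close x closex_gen
  · exact close y closey_gen
  · exact close z closez_gen

theorem main (R : Type u) [CommRing R] (g : ℕ)
    (P : Polynomial R) (hP : P.Monic) (hdeg : P.natDegree = 2 * g + 1) :
    Submodule.span R {a : MvPolynomial (Fin 3) R ⧸
        Ideal.span ({X 1 ^ 2 - Polynomial.aeval (X 0 : MvPolynomial (Fin 3) R) P, X 1 * X 2 - 1} :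
          Set (MvPolynomial (Fin 3) R)) |
        ∃ i n : ℕ, i ≤ 2 * g ∧
          (a = Ideal.Quotient.mk _ (X 0 ^ i * X 1 ^ n) ∨ a = Ideal.Quotient.mk _ (X 0 ^ i * X 2 ^ n))} =
      ⊤ := by
  obtain ⟨J, hJ⟩ : ∃ J : Ideal (MvPolynomial (Fin 3) R), J = Ideal.span
      ({X 1 ^ 2 - Polynomial.aeval (X 0 : MvPolynomial (Fin 3) R) P, X 1 * X 2 - 1} :
          Set (MvPolynomial (Fin 3) R)) := ⟨_, rfl⟩
  rw [← hJ]
  have h1 : Ideal.Quotient.mk J (X 1 ^ 2 - Polynomial.aeval (X 0 : MvPolynomial (Fin 3) R) P) = 0 := by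
    rw [Ideal.Quotient.eq_zero_iff_mem, hJ]
    exact Ideal.subset_span (by simp)
  have h2 : Ideal.Quotient.mk J (X 1 * X 2 - 1) = 0 := by
    rw [Ideal.Quotient.eq_zero_iff_mem, hJ]
    exact Ideal.subset_span (by simp)
  have hrel : (Ideal.Quotient.mk J (X 1)) ^ 2 =
      Polynomial.aeval (Ideal.Quotient.mk J (X 0)) P := by
    rw [map_sub, sub_eq_zero, map_pow] at h1
    rw [h1]
    have : (Ideal.Quotient.mk J) (Polynomial.aeval (X 0 : MvPolynomial (Fin 3) R) P) =
        (Ideal.Quotient.mkₐ R J) (Polynomial.aeval (X 0 : MvPolynomial (Fin 3) R) P) := rfl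
    rw [this, ← Polynomial.aeval_algHom_apply]
    rfl
  have hyz : Ideal.Quotient.mk J (X 1) * Ideal.Quotient.mk J (X 2) = 1 := by
    rw [map_sub, sub_eq_zero, map_mul, map_one] at h2
    exact h2
  have hset : {a : MvPolynomial (Fin 3) R ⧸ J |
        ∃ i n : ℕ, i ≤ 2 * g ∧
          (a = Ideal.Quotient.mk J (X 0 ^ i * X 1 ^ n) ∨ a = Ideal.Quotient.mk J (X 0 ^ i * X 2 ^ n))} =
      {a : MvPolynomial (Fin 3) R ⧸ J | ∃ i n : ℕ, i ≤ 2 * g ∧
        (a = (Ideal.Quotient.mk J (X 0)) ^ i * (Ideal.Quotient.mk J (X 1)) ^ n ∨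
          a = (Ideal.Quotient.mk J (X 0)) ^ i * (Ideal.Quotient.mk J (X 2)) ^ n)} := by
    ext a
    simp only [Set.mem_setOf_eq, map_mul, map_pow]
  rw [hset]
  apply gen_lemma R (MvPolynomial (Fin 3) R ⧸ J) _ _ _ g P hP hdeg hrel hyz
  intro W h1W hx hy hz
  have key : ∀ p : MvPolynomial (Fin 3) R, Ideal.Quotient.mk J p ∈ W := by
    intro p
    induction p using MvPolynomial.induction_on with
    | C a =>
      have : Ideal.Quotient.mk J (C a) = algebraMap R (MvPolynomial (Fin 3) R ⧸ J) a := rfl
      rw [this, Algebra.algebraMap_eq_smul_one]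
      exact W.smul_mem a h1W
    | add p q hp hq =>
      rw [map_add]
      exact W.add_mem hp hq
    | mul_X p i hp =>
      rw [map_mul, mul_comm]
      fin_cases i
      · exact hx _ hp
      · exact hy _ hp
      · exact hz _ hp
  rw [eq_top_iff]
  intro b _
  obtain ⟨p, rfl⟩ := Ideal.Quotient.mk_surjective b
  exact key p


end


/-- Let R be a commutative ring, P ∈ R[x] a monic polynomial of degree 2g + 1, and A = R[x, y, z]/(y^2 −
P(x), yz − 1). Then every element of A is a finite sum Σ_n Q_n(x) y^n over integers n, negative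
powers of y meaning powers of z, with each Q_n ∈ R[x] of degree at most 2g: the R-submodule of A
spanned by the classes of x^i y^n and x^i z^n with i ≤ 2g and n ≥ 0 is all of A. (The published
statement takes for R the ring of Witt vectors of a finite field and for P a lift of a separable
polynomial; the argument uses only that P is monic of degree 2g + 1.) -/
theorem result (R : Type u) [CommRing R] (g : ℕ)
    (P : Polynomial R) (hP : P.Monic) (hdeg : P.natDegree = 2 * g + 1) :
    Submodule.span R {a : MvPolynomial (Fin 3) R ⧸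
        Ideal.span ({X 1 ^ 2 - Polynomial.aeval (X 0 : MvPolynomial (Fin 3) R) P, X 1 * X 2 - 1} :
          Set (MvPolynomial (Fin 3) R)) |
        ∃ i n : ℕ, i ≤ 2 * g ∧
          (a = Ideal.Quotient.mk _ (X 0 ^ i * X 1 ^ n) ∨ a = Ideal.Quotient.mk _ (X 0 ^ i * X 2 ^ n))} =
      ⊤ := by
  classical
  exact main R g P hP hdeg

end Groth.Agent.S15526
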