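import Groth.Statements.S15544
-- import your own Groth.Agent.* helpers here
import Groth.Agent.Lib.Helper7.GeomConn.ZarNormal

set_option autoImplicit false
open CategoryTheory AlgebraicGeometry
universe u
open Coherent

namespace Groth.Agent.S15544

/-- Let X and Y be integral schemes, Y locally Noetherian with all local rings integrally closed, and f
: X ⟶ Y a proper birational morphism (the generic point of X maps to that of Y and the stalk map
there is an isomorphism). Then every fibre of f is connected and nonempty. (The published statement
takes X and Y Noetherian; over a locally Noetherian Y this is the same assertion fibre by fibre.) -/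
theorem result {X Y : Scheme.{u}} [IsIntegral X]
    [IsIntegral Y] [IsLocallyNoetherian Y] (hY : Pi1.IsNormalScheme Y) (f : X ⟶ Y) [IsProper f]
    (hgen : f.base (genericPoint X) = genericPoint Y) (hbir : IsIso (f.stalkMap (genericPoint X)))
    (y : Y) : ConnectedSpace ↥(f.fiber y) := by
  have hdom : f.base (genericPoint X) ⤳ genericPoint Y := by
    rw [hgen]
  have hbij : Function.Bijective (CohIII.stalkToFunctionField f (genericPoint Y) hdom) := by
    have h1 : Function.Bijective (f.stalkMap (genericPoint X)).hom :=
      (ConcreteCategory.isIso_iff_bijective (f.stalkMap (genericPoint X))).mp hbir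
    have h2 : Function.Bijective (Y.presheaf.stalkSpecializes hdom).hom := by
      have hiso : IsIso (Y.presheaf.stalkSpecializes hdom) :=
        (inferInstance : IsIso (Y.presheaf.stalkCongr (Inseparable.of_eq hgen.symm)).hom)
      exact (ConcreteCategory.isIso_iff_bijective (Y.presheaf.stalkSpecializes hdom)).mp hiso
    unfold CohIII.stalkToFunctionField
    exact h1.comp h2
  have hmain := (Groth.Agent.Helper7.GeomConn.ZC.fibration_near_normal_point f hdom
    (fun x _ => hbij.2 x) y (hY y).2).1
  exact GeometricallyConnected.connectedSpace_of_subsingleton (f := f.fiberToSpecResidueField y)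

end Groth.Agent.S15544
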