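import Groth.Statements.S15545
-- import your own Groth.Agent.* helpers here
import Mathlib
import Groth.Agent.Lib.Helper7.ProConsLib4

set_option autoImplicit false
open CategoryTheory AlgebraicGeometry
universe u
open FDesc

namespace Groth.Agent.S15545

/-- Let f : X' ⟶ X be flat, quasi-compact and surjective, and Z a pro-constructible subset of X (locally
on X an intersection of locally constructible subsets) which is dense in X. Then the preimage of Z
under f is dense in X'. -/
theorem result {X' X : Scheme.{u}} (f : X' ⟶ X)
    [Flat f] [QuasiCompact f] [Surjective f] (Z : Set X) (hZ : ProCons.IsProConstructible Z)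
    (hd : Dense Z) : Dense (f.base ⁻¹' Z) := by
  have _ := ‹QuasiCompact f›
  have _ := ‹Surjective f›
  intro x'
  have hfx : f x' ∈ closure Z := hd (f x')
  obtain ⟨z, hzZ, hz⟩ :=
    Groth.Agent.Helper7.ProConsLib.exists_specializes_of_mem_closure_of_isProConstructible X hZ hfx
  obtain ⟨z', hz', hfz'⟩ := (Flat.generalizingMap (f := f)) hz
  have h1 : x' ∈ closure ({z'} : Set X') := specializes_iff_mem_closure.mp hz'
  refine closure_mono ?_ h1
  intro a ha
  rw [Set.mem_singleton_iff] at ha
  rw [ha]
  show f z' ∈ Z
  rw [hfz']
  exact hzZ

end Groth.Agent.S15545
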