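import Groth.Statements.S15548
import Mathlib
import Groth.Prelude.Def_DRing2
import Groth.Agent.Lib.Helper9.Bal.TorApp
-- import your own Groth.Agent.* helpers here

set_option autoImplicit false
universe u
open CategoryTheory
open CAlg

namespace Groth.Agent.S15548

open CategoryTheory CategoryTheory.Limits
namespace Aux
open TensorProduct

namespace ARTensor
variable {R : Type u} [CommRing R]

/-- multiplication `J ⊗ F → F` -/
noncomputable def mu (J : Ideal R) (F : Type*) [AddCommGroup F] [Module R F] : J ⊗[R] F →ₗ[R] F :=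
  (TensorProduct.lid R F).toLinearMap ∘ₗ LinearMap.rTensor F J.subtype

lemma mu_tmul (J : Ideal R) (F : Type*) [AddCommGroup F] [Module R F] (a : J) (f : F) :
    mu J F (a ⊗ₜ f) = (a : R) • f := by
  simp [mu]

lemma mu_injective (J : Ideal R) (F : Type*) [AddCommGroup F] [Module R F] [Module.Flat R F] :
    Function.Injective (mu J F) := by
  unfold mu
  rw [LinearMap.coe_comp]
  exact (TensorProduct.lid R F).injective.comp
    (Module.Flat.rTensor_preserves_injective_linearMap _ Subtype.val_injective)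

lemma mu_mem (J : Ideal R) (F : Type*) [AddCommGroup F] [Module R F] (η : J ⊗[R] F) :
    mu J F η ∈ J • (⊤ : Submodule R F) := by
  induction η using TensorProduct.induction_on with
  | zero => rw [map_zero]; exact zero_mem _
  | tmul a f => rw [mu_tmul]; exact Submodule.smul_mem_smul a.2 Submodule.mem_top
  | add x y hx hy => rw [map_add]; exact add_mem hx hy

lemma mu_inclusion {J J' : Ideal R} (h : J ≤ J') (F : Type*) [AddCommGroup F] [Module R F]
    (η : J ⊗[R] F) : mu J' F (LinearMap.rTensor F (Submodule.inclusion h) η) = mu J F η := by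
  induction η using TensorProduct.induction_on with
  | zero => simp
  | tmul a f => simp [mu_tmul]
  | add x y hx hy => simp only [map_add, hx, hy]

lemma map_mu {J : Ideal R} {F M : Type*} [AddCommGroup F] [Module R F] [AddCommGroup M]
    [Module R M] (π : F →ₗ[R] M) (η : J ⊗[R] F) :
    π (mu J F η) = mu J M (LinearMap.lTensor J π η) := by
  induction η using TensorProduct.induction_on with
  | zero => simp
  | tmul a f => simp [mu_tmul]
  | add x y hx hy => simp only [map_add, hx, hy]

lemma exists_of_mem_smul_ker {J : Ideal R} {F M : Type*} [AddCommGroup F] [Module R F]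
    [AddCommGroup M] [Module R M] (π : F →ₗ[R] M) (x : F)
    (hx : x ∈ J • LinearMap.ker π) :
    ∃ η' : J ⊗[R] F, LinearMap.lTensor J π η' = 0 ∧ mu J F η' = x := by
  refine Submodule.smul_induction_on hx ?_ ?_
  · intro b hb k hk
    refine ⟨(⟨b, hb⟩ : J) ⊗ₜ k, ?_, ?_⟩
    · rw [LinearMap.lTensor_tmul, LinearMap.mem_ker.1 hk, tmul_zero]
    · rw [mu_tmul]
  · rintro x y ⟨a, ha1, ha2⟩ ⟨b, hb1, hb2⟩
    exact ⟨a + b, by rw [map_add, ha1, hb1, add_zero], by rw [map_add, ha2, hb2]⟩

theorem main [IsNoetherianRing R] (I : Ideal R) (M : Type u) [AddCommGroup M] [Module R M]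
    [Module.Finite R M] (n : ℕ) :
    ∃ m, n ≤ m ∧ ∀ (h : I ^ m ≤ I ^ n) (ξ : (I ^ m : Ideal R) ⊗[R] M),
      LinearMap.rTensor M (I ^ m).subtype ξ = 0 →
        LinearMap.rTensor M (Submodule.inclusion h) ξ = 0 := by
  obtain ⟨r, π, hπ⟩ := Module.Finite.exists_fin' R M
  obtain ⟨c, hc⟩ := Ideal.exists_pow_inf_eq_pow_smul I (LinearMap.ker π)
  refine ⟨n + c, Nat.le_add_right _ _, fun h ξ hξ => ?_⟩
  obtain ⟨η, rfl⟩ := LinearMap.lTensor_surjective (I ^ (n + c) : Ideal R) hπ ξ
  -- μ η ∈ K
  have h1 : mu (I ^ (n + c)) (Fin r → R) η ∈ LinearMap.ker π := by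
    rw [LinearMap.mem_ker, map_mu]
    unfold mu
    rw [LinearMap.comp_apply, hξ, map_zero]
  have h2 := mu_mem (I ^ (n + c)) (Fin r → R) η
  have h3 : mu (I ^ (n + c)) (Fin r → R) η ∈ I ^ n • LinearMap.ker π := by
    have h4 : mu (I ^ (n + c)) (Fin r → R) η ∈ I ^ (n + c) • (⊤ : Submodule R (Fin r → R)) ⊓
        LinearMap.ker π := ⟨h2, h1⟩
    rw [hc (n + c) (Nat.le_add_left _ _), Nat.add_sub_cancel] at h4
    exact Submodule.smul_mono le_rfl inf_le_right h4
  obtain ⟨η', hη1, hη2⟩ := exists_of_mem_smul_ker π _ h3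
  have h5 : LinearMap.rTensor (Fin r → R) (Submodule.inclusion h) η = η' := by
    apply mu_injective (I ^ n) (Fin r → R)
    rw [mu_inclusion, hη2]
  have h6 : LinearMap.rTensor M (Submodule.inclusion h) (LinearMap.lTensor _ π η) =
      LinearMap.lTensor _ π (LinearMap.rTensor (Fin r → R) (Submodule.inclusion h) η) := by
    rw [← LinearMap.comp_apply, ← LinearMap.comp_apply, LinearMap.rTensor_comp_lTensor,
      LinearMap.lTensor_comp_rTensor]
  rw [h6, h5, hη1]

end ARTensor


open Groth.Agent.Helper1.TorL Groth.Agent.Helper1.TorNat Groth.Agent.Helper9.Bal MonoidalCategory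

variable {R : Type u} [CommRing R]

/-- the short complex `0 → J → R → R/J → 0` -/
noncomputable abbrev idealSC (J : Ideal R) : ShortComplex (ModuleCat.{u} R) :=
  ModuleCat.shortComplexOfCompEqZero (Submodule.subtype J) (Submodule.mkQ J) (by ext x; simp [Ideal.Quotient.eq_zero_iff_mem])

lemma idealSC_shortExact (J : Ideal R) : (idealSC J).ShortExact :=
  shortExact_subtype_mkQ (M := R) J

/-- morphism of short complexes induced by `J ≤ J'` -/
noncomputable def idealSCMap {J J' : Ideal R} (h : J ≤ J') : idealSC J ⟶ idealSC J' where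
  τ₁ := ModuleCat.ofHom (Submodule.inclusion h)
  τ₂ := 𝟙 _
  τ₃ := ModuleCat.ofHom (Submodule.factor h)
  comm₁₂ := by
    ext x
    rfl
  comm₂₃ := by
    ext
    rfl

theorem tor_first_zero (Y : ModuleCat.{u} R) {J J' : Ideal R} (h : J ≤ J')
    (hz : ∀ ξ : (J ⊗[R] Y), LinearMap.rTensor Y J.subtype ξ = 0 →
      LinearMap.rTensor Y (Submodule.inclusion h) ξ = 0) :
    ((Tor (ModuleCat.{u} R) 1).map (ModuleCat.ofHom (Submodule.factor h))).app Y = 0 := by
  have hS := idealSC_shortExact J
  have hS' := idealSC_shortExact J'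
  have hnat := torδ_naturality (idealSCMap h) hS hS' Y 0
  have hflat : IsZero (T 1 (idealSC J').X₂ Y) := by
    have : Module.Flat R (idealSC J').X₂ := inferInstanceAs (Module.Flat R R)
    exact isZero_tor_succ_of_flat _ _ 0
  have hmono : Mono (torδ (idealSC J') hS' Y 0) :=
    (tor_exact₃ (idealSC J') hS' Y 0).mono_g (hflat.eq_of_src _ _)
  have hzero : torδ (idealSC J) hS Y 0 ≫ ((Tor (ModuleCat.{u} R) 0).map (idealSCMap h).τ₁).app Y = 0 := by
    ext z
    set y := torδ (idealSC J) hS Y 0 z with hy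
    have e1 := tor0Iso_naturality (idealSCMap h).τ₁ Y
    have e2 := tor0Iso_naturality (idealSC J).f Y
    have e3 := tor_δ_comp (idealSC J) hS Y 0
    set ξ := (tor0Iso (idealSC J).X₁ Y).hom y with hξ
    have h1 : ((idealSC J).f ▷ Y) ξ = 0 := by
      rw [hξ, ← ModuleCat.comp_apply, ← e2, ModuleCat.comp_apply, hy, ← ModuleCat.comp_apply
        (torδ (idealSC J) hS Y 0), e3]
      simp
    have h2 : ((idealSCMap h).τ₁ ▷ Y) ξ = 0 := hz ξ h1
    have h3 : (tor0Iso (idealSC J').X₁ Y).hom
        ((((Tor (ModuleCat.{u} R) 0).map (idealSCMap h).τ₁).app Y) y) = 0 := by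
      rw [← ModuleCat.comp_apply, e1, ModuleCat.comp_apply]
      exact h2
    have h4 := congrArg (tor0Iso (idealSC J').X₁ Y).inv h3
    rw [← ModuleCat.comp_apply, Iso.hom_inv_id, ModuleCat.id_apply, map_zero] at h4
    exact h4
  rw [hzero] at hnat
  rw [← cancel_mono (torδ (idealSC J') hS' Y 0), Limits.zero_comp]
  exact hnat.symm

theorem main (R : Type u) [CommRing R] [IsNoetherianRing R] (I : Ideal R)
    (M : Type u) [AddCommGroup M] [Module R M] [Module.Finite R M] (n : ℕ) :
    ∃ m : ℕ, n ≤ m ∧ ∀ h : I ^ m ≤ I ^ n,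
      ((CategoryTheory.Tor (ModuleCat.{u} R) 1).obj (ModuleCat.of R M)).map
        (ModuleCat.ofHom (Submodule.factor h)) = 0 := by
  obtain ⟨m, hm, H⟩ := ARTensor.main I M n
  refine ⟨m, hm, fun h => ?_⟩
  have h1 := tor_first_zero (ModuleCat.of R M) h (H h)
  have h2 := (torSymmIso (ModuleCat.of R M) 1).hom.naturality (ModuleCat.ofHom (Submodule.factor h))
  have h3 : ((Tor (ModuleCat.{u} R) 1).flip.obj (ModuleCat.of R M)).map
      (ModuleCat.ofHom (Submodule.factor h)) = 0 := h1
  rw [h3, Limits.zero_comp] at h2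
  have h4 := congrArg (fun t => (torSymmIso (ModuleCat.of R M) 1).inv.app _ ≫ t) h2
  simp only [Limits.comp_zero, Iso.inv_hom_id_app_assoc] at h4
  exact h4.symm
end Aux

/-- Let R be a Noetherian commutative ring, I an ideal of R and M a finitely generated R-module. Then
for every natural number n there is m ≥ n such that the map Tor_1^R(M, R/I^m) → Tor_1^R(M, R/I^n)
induced by the projection R/I^m → R/I^n is the zero map. Here Tor_1^R(M, -) is the first left
derived functor of M ⊗_R - (derived in the second variable). -/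
theorem result (R : Type u) [CommRing R] [IsNoetherianRing R] (I : Ideal R)
    (M : Type u) [AddCommGroup M] [Module R M] [Module.Finite R M] (n : ℕ) :
    ∃ m : ℕ, n ≤ m ∧ ∀ h : I ^ m ≤ I ^ n,
      ((CategoryTheory.Tor (ModuleCat.{u} R) 1).obj (ModuleCat.of R M)).map
        (ModuleCat.ofHom (Submodule.factor h)) = 0 := by
  exact Aux.main R I M n

end Groth.Agent.S15548
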