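import Groth.Statements.S15568
import Mathlib

set_option autoImplicit false
universe u
open QuiverStab

namespace Groth.Agent.S15568

/-- Walls and chambers for stability weights of a quiver. Let I be the finite vertex set, d ∈ ℕ^I a
dimension vector, and call two weights θ₁, θ₂ ∈ ℝ^I orthogonal to d numerically equivalent when, for
every d′ ≤ d in ℕ^I, the numbers θ₁·d′ and θ₂·d′ are both positive, both negative or both zero. The
walls are the hyperplanes W(d′) = {θ ⊥ d : θ·d′ = 0} of d^⊥ for d′ ≤ d such that d is not a multiple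
of d′. Then θ₁ and θ₂ are numerically equivalent if and only if there is a set J₁ of such d′ for
which θ₁ and θ₂ lie in the same connected component of the locally closed subset of d^⊥ consisting
of the weights lying on W(d₁) for every d₁ ∈ J₁ and off W(d₂) for every other wall W(d₂). (Only the
quiver's vertex set enters; multiples are taken with natural-number factors.) -/
theorem result
    (I : Type u) [Fintype I] (d : I → ℕ) (θ₁ θ₂ : I → ℝ)
    (h₁ : ∑ i, θ₁ i * (d i : ℝ) = 0) (h₂ : ∑ i, θ₂ i * (d i : ℝ) = 0) :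
    (∀ d' : I → ℕ, d' ≤ d →
        SignType.sign (∑ i, θ₁ i * (d' i : ℝ)) = SignType.sign (∑ i, θ₂ i * (d' i : ℝ))) ↔
    ∃ J₁ : Set (I → ℕ), J₁ ⊆ {d' | d' ≤ d ∧ ¬ ∃ m : ℕ, d = m • d'} ∧
      θ₂ ∈ connectedComponentIn
        {θ : I → ℝ | ∑ i, θ i * (d i : ℝ) = 0 ∧ (∀ d₁ ∈ J₁, ∑ i, θ i * (d₁ i : ℝ) = 0) ∧
          ∀ d₂ : I → ℕ, d₂ ≤ d → (¬ ∃ m : ℕ, d = m • d₂) → d₂ ∉ J₁ →
            ∑ i, θ i * (d₂ i : ℝ) ≠ 0} θ₁ := by
  classical
  -- the linear functionals
  set L : (I → ℕ) → (I → ℝ) → ℝ := fun e θ => ∑ i, θ i * (e i : ℝ) with hL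
  have Lcomb : ∀ (e : I → ℕ) (a b : ℝ) (x y : I → ℝ),
      L e (a • x + b • y) = a * L e x + b * L e y := by
    intro e a b x y
    simp only [hL, Pi.add_apply, Pi.smul_apply, smul_eq_mul, Finset.mul_sum]
    rw [← Finset.sum_add_distrib]
    apply Finset.sum_congr rfl
    intro i _
    ring
  have Lcont : ∀ e : I → ℕ, Continuous (L e) := by
    intro e
    simp only [hL]
    exact continuous_finsetSum _ (fun i _ => (continuous_apply i).mul continuous_const)
  have Lmult : ∀ (d' : I → ℕ) (θ : I → ℝ), (∃ m : ℕ, d = m • d') → d' ≤ d → L d θ = 0 →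
      L d' θ = 0 := by
    intro d' θ hm hle h0
    obtain ⟨m, hm⟩ := hm
    rcases Nat.eq_zero_or_pos m with rfl | hpos
    · have hd' : ∀ i, d' i = 0 := by
        intro i
        have h1 : d' i ≤ d i := hle i
        have h2 : d i = 0 := by rw [hm]; simp
        omega
      simp only [hL]
      apply Finset.sum_eq_zero
      intro i _
      rw [hd' i]
      simp
    · have h1 : L d θ = (m : ℝ) * L d' θ := by
        simp only [hL, Finset.mul_sum]
        apply Finset.sum_congr rfl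
        intro i _
        rw [hm]
        simp only [Pi.smul_apply, smul_eq_mul, Nat.cast_mul]
        ring
      rw [h1] at h0
      have hm0 : (m : ℝ) ≠ 0 := by exact_mod_cast hpos.ne'
      exact (mul_eq_zero.1 h0).resolve_left hm0
  change (∀ d' : I → ℕ, d' ≤ d → SignType.sign (L d' θ₁) = SignType.sign (L d' θ₂)) ↔
    ∃ J₁ : Set (I → ℕ), J₁ ⊆ {d' | d' ≤ d ∧ ¬ ∃ m : ℕ, d = m • d'} ∧
      θ₂ ∈ connectedComponentIn
        {θ : I → ℝ | L d θ = 0 ∧ (∀ d₁ ∈ J₁, L d₁ θ = 0) ∧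
          ∀ d₂ : I → ℕ, d₂ ≤ d → (¬ ∃ m : ℕ, d = m • d₂) → d₂ ∉ J₁ → L d₂ θ ≠ 0} θ₁
  have h₁' : L d θ₁ = 0 := h₁
  have h₂' : L d θ₂ = 0 := h₂
  constructor
  · intro hsign
    refine ⟨{d' | d' ≤ d ∧ (¬ ∃ m : ℕ, d = m • d') ∧ L d' θ₁ = 0}, fun d' h => ⟨h.1, h.2.1⟩, ?_⟩
    have hseg : segment ℝ θ₁ θ₂ ⊆ {θ : I → ℝ | L d θ = 0 ∧
        (∀ d₁ ∈ {d' | d' ≤ d ∧ (¬ ∃ m : ℕ, d = m • d') ∧ L d' θ₁ = 0}, L d₁ θ = 0) ∧
        ∀ d₂ : I → ℕ, d₂ ≤ d → (¬ ∃ m : ℕ, d = m • d₂) →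
          d₂ ∉ {d' | d' ≤ d ∧ (¬ ∃ m : ℕ, d = m • d') ∧ L d' θ₁ = 0} → L d₂ θ ≠ 0} := by
      rintro θ ⟨a, b, ha, hb, hab, rfl⟩
      refine ⟨?_, ?_, ?_⟩
      · rw [Lcomb, h₁', h₂']; simp
      · rintro d₁ ⟨hle, hw, h0⟩
        have h3 := hsign d₁ hle
        rw [h0, sign_zero] at h3
        have h4 : L d₁ θ₂ = 0 := sign_eq_zero_iff.1 h3.symm
        rw [Lcomb, h0, h4]; simp
      · intro d₂ hle hw hnot
        have hx : L d₂ θ₁ ≠ 0 := fun h0 => hnot ⟨hle, hw, h0⟩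
        have h3 := hsign d₂ hle
        rw [Lcomb]
        rcases lt_or_gt_of_ne hx with hneg | hpos
        · rw [sign_neg hneg] at h3
          have hy : L d₂ θ₂ < 0 := sign_eq_neg_one_iff.1 h3.symm
          have : a * L d₂ θ₁ + b * L d₂ θ₂ < 0 := by
            rcases eq_or_lt_of_le ha with rfl | ha'
            · have hb1 : b = 1 := by linarith
              rw [hb1]; simpa using hy
            · have h5 : a * L d₂ θ₁ < 0 := mul_neg_of_pos_of_neg ha' hneg
              have h6 : b * L d₂ θ₂ ≤ 0 := mul_nonpos_of_nonneg_of_nonpos hb hy.le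
              linarith
          exact this.ne
        · rw [sign_pos hpos] at h3
          have hy : 0 < L d₂ θ₂ := sign_eq_one_iff.1 h3.symm
          have : 0 < a * L d₂ θ₁ + b * L d₂ θ₂ := by
            rcases eq_or_lt_of_le ha with rfl | ha'
            · have hb1 : b = 1 := by linarith
              rw [hb1]; simpa using hy
            · have h5 : 0 < a * L d₂ θ₁ := mul_pos ha' hpos
              have h6 : 0 ≤ b * L d₂ θ₂ := mul_nonneg hb hy.le
              linarith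
          exact this.ne'
    exact (convex_segment θ₁ θ₂).isPreconnected.subset_connectedComponentIn
      (left_mem_segment ℝ θ₁ θ₂) hseg (right_mem_segment ℝ θ₁ θ₂)
  · rintro ⟨J₁, hJ, hmem⟩ d' hle
    set S : Set (I → ℝ) := {θ : I → ℝ | L d θ = 0 ∧ (∀ d₁ ∈ J₁, L d₁ θ = 0) ∧
          ∀ d₂ : I → ℕ, d₂ ≤ d → (¬ ∃ m : ℕ, d = m • d₂) → d₂ ∉ J₁ → L d₂ θ ≠ 0} with hS
    have hθ₁S : θ₁ ∈ S := connectedComponentIn_nonempty_iff.1 ⟨θ₂, hmem⟩
    have hθ₂S : θ₂ ∈ S := connectedComponentIn_subset S θ₁ hmem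
    have hθ₁C : θ₁ ∈ connectedComponentIn S θ₁ := mem_connectedComponentIn hθ₁S
    by_cases hm : ∃ m : ℕ, d = m • d'
    · rw [Lmult d' θ₁ hm hle h₁', Lmult d' θ₂ hm hle h₂']
    · by_cases hJ₁ : d' ∈ J₁
      · rw [hθ₁S.2.1 d' hJ₁, hθ₂S.2.1 d' hJ₁]
      · have hne : ∀ θ ∈ S, L d' θ ≠ 0 := fun θ hθ => hθ.2.2 d' hle hm hJ₁
        have hpre : IsPreconnected (L d' '' connectedComponentIn S θ₁) :=
          isPreconnected_connectedComponentIn.image _ (Lcont d').continuousOn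
        have hord := hpre.ordConnected
        have m1 : L d' θ₁ ∈ L d' '' connectedComponentIn S θ₁ := ⟨θ₁, hθ₁C, rfl⟩
        have m2 : L d' θ₂ ∈ L d' '' connectedComponentIn S θ₁ := ⟨θ₂, hmem, rfl⟩
        have hx := hne θ₁ hθ₁S
        have hy := hne θ₂ hθ₂S
        rcases lt_or_gt_of_ne hx with hxn | hxp <;> rcases lt_or_gt_of_ne hy with hyn | hyp
        · rw [sign_neg hxn, sign_neg hyn]
        · exfalso
          obtain ⟨θ, hθC, hθ0⟩ := hord.out m1 m2 ⟨hxn.le, hyp.le⟩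
          exact hne θ (connectedComponentIn_subset S θ₁ hθC) hθ0
        · exfalso
          obtain ⟨θ, hθC, hθ0⟩ := hord.out m2 m1 ⟨hyn.le, hxp.le⟩
          exact hne θ (connectedComponentIn_subset S θ₁ hθC) hθ0
        · rw [sign_pos hxp, sign_pos hyp]

end Groth.Agent.S15568
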