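import Groth.Statements.S15579
import Mathlib

set_option autoImplicit false
universe u v
open RInv

namespace Groth.Agent.S15579

section


theorem main (S : Type u) (R : Type v) [CommRing S]
    [CommRing R] [Algebra S R] [IsLocalRing S] (hq : RInv.IsQuadEtale S R) :
    Ring.jacobson R = (IsLocalRing.maximalIdeal S).map (algebraMap S R) := by
  haveI : Module.Finite S R := hq.1
  haveI : Algebra.FormallyUnramified S R := hq.2.2.1
  haveI : Algebra.IsIntegral S R := inferInstance
  have hrad := Algebra.FormallyUnramified.isRadical_map_isMaximal (A := S) R (IsLocalRing.maximalIdeal S)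
  apply le_antisymm
  · rw [← hrad.radical, Ideal.radical_eq_sInf, ← Ideal.jacobson_bot, Ideal.jacobson]
    apply sInf_le_sInf
    rintro P ⟨hle, hP⟩
    haveI := hP
    refine ⟨bot_le, ?_⟩
    have hcomap : P.comap (algebraMap S R) = IsLocalRing.maximalIdeal S := by
      apply le_antisymm
      · exact IsLocalRing.le_maximalIdeal (Ideal.comap_ne_top _ hP.ne_top)
      · exact Ideal.map_le_iff_le_comap.mp hle
    apply Ideal.isMaximal_of_isIntegral_of_isMaximal_comap (R := S) P
    rw [hcomap]
    infer_instance
  · rw [← Ideal.jacobson_bot, Ideal.jacobson, Ideal.map_le_iff_le_comap]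
    intro s hs
    rw [Ideal.mem_comap, Ideal.mem_sInf]
    rintro M ⟨-, hM⟩
    haveI := hM
    have hmax : (M.comap (algebraMap S R)).IsMaximal :=
      Ideal.isMaximal_comap_of_isIntegral_of_isMaximal M
    have heq := IsLocalRing.eq_maximalIdeal hmax
    rw [← Ideal.mem_comap, heq]
    exact hs


end


/-- For a local ring `S` with maximal ideal `m` and a quadratic etale `S`-algebra `R`, the Jacobson
radical of `R` is `mR`. -/
theorem result (S : Type u) (R : Type v) [CommRing S]
    [CommRing R] [Algebra S R] [IsLocalRing S] (hq : RInv.IsQuadEtale S R) :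
    Ring.jacobson R = (IsLocalRing.maximalIdeal S).map (algebraMap S R) := by
  classical
  exact main S R hq

end Groth.Agent.S15579
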