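import Groth.Statements.S15580
import Mathlib

set_option autoImplicit false
universe u v
open RInv

namespace Groth.Agent.S15580

section
open TensorProduct

section
variable (S : Type u) (R : Type v) [CommRing S] [CommRing R]
    [Algebra S R] (lam : R ≃+* R) (hlam : Function.Involutive lam) (hS : RInv.IsFixedRing S R lam)
include hlam hS

lemma isIntegral_of_inv : Algebra.IsIntegral S R := by
  obtain ⟨hinj, hfix⟩ := hS
  refine ⟨fun x => ?_⟩
  obtain ⟨t₀, ht₀⟩ := (hfix (x + lam x)).mp (by rw [map_add, hlam x, add_comm])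
  obtain ⟨n₀, hn₀⟩ := (hfix (x * lam x)).mp (by rw [map_mul, hlam x, mul_comm])
  refine ⟨Polynomial.X ^ 2 - Polynomial.C t₀ * Polynomial.X + Polynomial.C n₀, ?_, ?_⟩
  · have : (Polynomial.X ^ 2 - Polynomial.C t₀ * Polynomial.X + Polynomial.C n₀ : Polynomial S) =
        Polynomial.X ^ 2 + (- Polynomial.C t₀ * Polynomial.X + Polynomial.C n₀) := by ring
    rw [this]
    apply Polynomial.monic_X_pow_add
    refine lt_of_le_of_lt (Polynomial.degree_add_le _ _) ?_
    rw [max_lt_iff]
    constructor
    · refine lt_of_le_of_lt (Polynomial.degree_mul_le _ _) ?_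
      rw [← Polynomial.C_neg]
      refine lt_of_le_of_lt (add_le_add Polynomial.degree_C_le Polynomial.degree_X_le) ?_
      decide
    · exact lt_of_le_of_lt Polynomial.degree_C_le (by decide)
  · simp only [Polynomial.eval₂_add, Polynomial.eval₂_sub, Polynomial.eval₂_mul, Polynomial.eval₂_pow,
      Polynomial.eval₂_X, Polynomial.eval₂_C, ht₀, hn₀]
    ring

lemma mem_jacobson_of_sq [IsLocalRing S] (d : R) (s : S) (hs : s ∈ IsLocalRing.maximalIdeal S)
    (hd : d * d = algebraMap S R s) : d ∈ Ring.jacobson R := by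
  haveI := isIntegral_of_inv S R lam hlam hS
  rw [← Ideal.jacobson_bot, Ideal.jacobson, Ideal.mem_sInf]
  rintro M ⟨-, hM⟩
  haveI := hM
  have hmax : (M.comap (algebraMap S R)).IsMaximal :=
    Ideal.isMaximal_comap_of_isIntegral_of_isMaximal M
  have heq := IsLocalRing.eq_maximalIdeal hmax
  have : algebraMap S R s ∈ M := by
    rw [← Ideal.mem_comap, heq]; exact hs
  rw [← hd] at this
  exact (hM.isPrime.mem_or_mem this).elim id id

end


section
variable (S : Type u) (R : Type v) [CommRing S] [CommRing R] [Algebra S R]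

lemma lam_eq_id [Module.Finite S R] [Algebra.FormallyUnramified S R]
    (lam : R ≃+* R) (hfix : ∀ s : S, lam (algebraMap S R s) = algebraMap S R s)
    (hJ : ∀ y : R, lam y - y ∈ Ring.jacobson R) : ∀ x, lam x = x := by
  let lamA : R →ₐ[S] R := { lam.toRingHom with commutes' := hfix }
  let ψ : R ⊗[S] R →ₐ[S] R :=
    Algebra.TensorProduct.lift (AlgHom.id S R) lamA (fun _ _ => Commute.all _ _)
  have hψ : ∀ x y : R, ψ (x ⊗ₜ[S] y) = x * lam y := by
    intro x y
    simp [ψ, lamA]
  have h1 : ∀ z : R ⊗[S] R, ψ z - Algebra.TensorProduct.lmul' S z ∈ Ring.jacobson R := by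
    intro z
    induction z using TensorProduct.induction_on with
    | zero => simp
    | tmul x y =>
      rw [hψ, Algebra.TensorProduct.lmul'_apply_tmul, ← mul_sub]
      exact Ideal.mul_mem_left _ _ (hJ y)
    | add a b ha hb =>
      rw [map_add, map_add, add_sub_add_comm]
      exact add_mem ha hb
  have hε : IsUnit (ψ (Algebra.FormallyUnramified.elem S R)) := by
    have h2 := h1 (Algebra.FormallyUnramified.elem S R)
    rw [Algebra.FormallyUnramified.lmul_elem, ← Ideal.jacobson_bot, Ideal.mem_jacobson_bot] at h2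
    have := h2 1
    rwa [mul_one, sub_add_cancel] at this
  intro x
  have h2 := congrArg ψ (Algebra.FormallyUnramified.one_tmul_sub_tmul_one_mul_elem (R := S) (S := R) x)
  rw [map_mul, map_sub, map_zero, hψ, hψ, map_one, one_mul, mul_one] at h2
  exact sub_eq_zero.mp (hε.mul_left_eq_zero.mp h2)

lemma not_quad_of_lam_eq_id (lam : R ≃+* R) (hS : RInv.IsFixedRing S R lam) [Nontrivial S]
    (hid : ∀ x, lam x = x) : ¬ RInv.IsQuadEtale S R := by
  intro hq
  obtain ⟨hinj, hfix⟩ := hS
  have hsurj : Function.Surjective (algebraMap S R) := fun x => (hfix x).mp (hid x)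
  let e : S ≃ₗ[S] R := LinearEquiv.ofBijective (Algebra.linearMap S R) ⟨hinj, hsurj⟩
  obtain ⟨p⟩ := (PrimeSpectrum.nonempty_iff_nontrivial (R := S)).mpr inferInstance
  have h2 := hq.2.2.2 p
  rw [← Module.rankAtStalk_eq_of_equiv e, Module.rankAtStalk_self] at h2
  simp at h2

end

theorem main74 (S : Type u) (R : Type v) [CommRing S] [CommRing R]
    [Algebra S R] (lam : R ≃+* R) (hlam : Function.Involutive lam) (hS : RInv.IsFixedRing S R lam)
    [IsLocalRing S] (hq : RInv.IsQuadEtale S R) : ∃ r : R, IsUnit (r - lam r) := by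
  by_contra hcon
  simp only [not_exists] at hcon
  have hfixS : ∀ s : S, lam (algebraMap S R s) = algebraMap S R s := fun s => (hS.2 _).mpr ⟨s, rfl⟩
  have hJ : ∀ r : R, lam r - r ∈ Ring.jacobson R := by
    intro r
    set d := lam r - r with hd
    have hld : lam d = -d := by rw [hd, map_sub, hlam r]; ring
    obtain ⟨s, hs⟩ := (hS.2 (d * d)).mp (by rw [map_mul, hld]; ring)
    apply mem_jacobson_of_sq S R lam hlam hS d s _ hs.symm
    rw [IsLocalRing.mem_maximalIdeal, mem_nonunits_iff]
    intro hsu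
    have hdu : IsUnit d := by
      have : IsUnit (d * d) := by rw [← hs]; exact hsu.map _
      exact isUnit_of_mul_isUnit_left this
    apply hcon r
    have : r - lam r = -d := by rw [hd]; ring
    rw [this]
    exact hdu.neg
  haveI : Module.Finite S R := hq.1
  haveI : Algebra.FormallyUnramified S R := hq.2.2.1
  exact not_quad_of_lam_eq_id S R lam hS (lam_eq_id S R lam hfixS hJ) hq


theorem main (S : Type u) (R : Type v) [CommRing S] [CommRing R]
    [Algebra S R] (lam : R ≃+* R) (hlam : Function.Involutive lam) (hS : RInv.IsFixedRing S R lam)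
    [IsLocalRing S] (hq : RInv.IsQuadEtale S R) (r : Rˣ) (hr : lam r * r = 1) :
    ∃ a : Rˣ, (r : R) = (a⁻¹ : Rˣ) * lam a := by
  haveI : Module.Finite S R := hq.1
  haveI : Algebra.FormallyUnramified S R := hq.2.2.1
  haveI : Algebra.IsIntegral S R := inferInstance
  haveI : Nontrivial R := hS.1.nontrivial
  obtain ⟨e, ⟨u, hu⟩⟩ := main74 S R lam hlam hS hq
  set I := (IsLocalRing.maximalIdeal S).map (algebraMap S R) with hI
  have hrad : I.IsRadical :=
    Algebra.FormallyUnramified.isRadical_map_isMaximal (A := S) R (IsLocalRing.maximalIdeal S)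
  -- I ≤ jacobson
  have hIJ : I ≤ Ring.jacobson R := by
    rw [← Ideal.jacobson_bot, Ideal.jacobson, hI, Ideal.map_le_iff_le_comap]
    intro s hs
    rw [Ideal.mem_comap, Ideal.mem_sInf]
    rintro M ⟨-, hM⟩
    haveI := hM
    have hmax : (M.comap (algebraMap S R)).IsMaximal :=
      Ideal.isMaximal_comap_of_isIntegral_of_isMaximal M
    have heq := IsLocalRing.eq_maximalIdeal hmax
    rw [← Ideal.mem_comap, heq]
    exact hs
  have F3 : ∀ z ∈ I, ¬ IsUnit z := by
    intro z hz hzu
    have hzJ := hIJ hz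
    rw [← Ideal.jacobson_bot, Ideal.mem_jacobson_bot] at hzJ
    obtain ⟨c, hc⟩ := hzu.exists_right_inv
    have := hzJ (-c)
    rw [mul_neg, hc] at this
    simp at this
  have F1 : ∀ z : R, lam z = z → IsUnit z ∨ z ∈ I := by
    intro z hz
    obtain ⟨s, rfl⟩ := (hS.2 z).mp hz
    by_cases hs : IsUnit s
    · exact Or.inl (hs.map _)
    · exact Or.inr (Ideal.mem_map_of_mem _ ((IsLocalRing.mem_maximalIdeal s).mpr hs))
  have F4 : ∀ z ∈ I, lam z ∈ I := by
    have : I ≤ I.comap lam.toRingHom := by
      rw [hI, Ideal.map_le_iff_le_comap]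
      intro s hs
      rw [Ideal.mem_comap, Ideal.mem_comap]
      have : lam.toRingHom (algebraMap S R s) = algebraMap S R s := (hS.2 _).mpr ⟨s, rfl⟩
      rw [this]
      exact Ideal.mem_map_of_mem _ hs
    intro z hz
    exact this hz
  have F2 : ∀ z : R, z * z ∈ I → z ∈ I := by
    intro z hz
    apply hrad
    exact ⟨2, by rw [pow_two]; exact hz⟩
  -- candidates
  have hlr : lam (r : R) = ((r⁻¹ : Rˣ) : R) := by
    have : lam (r : R) * (r : R) * ((r⁻¹ : Rˣ) : R) = ((r⁻¹ : Rˣ) : R) := by rw [hr, one_mul]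
    rw [mul_assoc, Units.mul_inv, mul_one] at this
    exact this
  have hlrinv : lam ((r⁻¹ : Rˣ) : R) = (r : R) := by rw [← hlr, hlam]
  let acand : R → R := fun c => c + lam c * ((r⁻¹ : Rˣ) : R)
  have hcand : ∀ c, lam (acand c) = (r : R) * acand c := by
    intro c
    simp only [acand]
    rw [map_add, map_mul, hlam c, hlrinv, mul_add, ← mul_assoc, mul_comm (r : R) (lam c),
      mul_assoc, Units.mul_inv, mul_one]
    ring
  have hfin : ∀ c, IsUnit (acand c) → ∃ a : Rˣ, (r : R) = (a⁻¹ : Rˣ) * lam a := by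
    intro c hc
    obtain ⟨a, ha⟩ := hc
    refine ⟨a, ?_⟩
    rw [ha, hcand c, ← ha, ← mul_assoc, mul_comm ((a⁻¹ : Rˣ) : R) (r : R), mul_assoc, Units.inv_mul, mul_one]
  have hNfix : ∀ z : R, lam (z * lam z) = z * lam z := by
    intro z; rw [map_mul, hlam z, mul_comm]
  have hunitN : ∀ z : R, IsUnit (z * lam z) → IsUnit z := fun z hz => isUnit_of_mul_isUnit_left hz
  obtain ⟨P, hP⟩ : ∃ P, P = acand 1 := ⟨_, rfl⟩
  obtain ⟨Q, hQ⟩ : ∃ Q, Q = acand e := ⟨_, rfl⟩
  have hPQ : acand (1 + e) = P + Q := by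
    simp only [acand, hP, hQ, map_add, map_one]; ring
  have hu' : Q - lam e * P = (u : R) := by
    simp only [acand, hP, hQ, map_one, hu]; ring
  rcases F1 _ (hNfix P) with hPu | hPI
  · exact hfin 1 (hP ▸ hunitN P hPu)
  rcases F1 _ (hNfix Q) with hQu | hQI
  · exact hfin e (hQ ▸ hunitN Q hQu)
  -- both norms small
  obtain ⟨w, hw⟩ : ∃ w, w = Q * lam P := ⟨_, rfl⟩
  have hTw : IsUnit (w + lam w) := by
    rcases F1 (w + lam w) (by rw [map_add, hlam w, add_comm]) with h1 | h1
    · exact h1
    · exfalso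
      have hw2 : w * w ∈ I := by
        have : w * w = (w + lam w) * w - (Q * lam Q) * (P * lam P) := by
          rw [hw, map_mul, hlam P]; ring
        rw [this]
        exact sub_mem (Ideal.mul_mem_right _ _ h1) (Ideal.mul_mem_right _ _ hQI)
      have hwI := F2 w hw2
      have hNu : (u : R) * lam (u : R) ∈ I := by
        have : (u : R) * lam (u : R) = Q * lam Q + (e * lam e) * (P * lam P) - (e * w + lam (e * w)) := by
          rw [← hu', hw, map_sub, map_mul, map_mul, map_mul, hlam e, hlam P]; ring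
        rw [this]
        refine sub_mem (add_mem hQI (Ideal.mul_mem_left _ _ hPI)) (add_mem ?_ (F4 _ ?_))
        · exact Ideal.mul_mem_left _ _ hwI
        · exact Ideal.mul_mem_left _ _ hwI
      exact F3 _ hNu (u.isUnit.mul (u.isUnit.map lam))
  apply hfin (1 + e)
  rw [hPQ]
  apply hunitN
  rcases F1 _ (hNfix (P + Q)) with h1 | h1
  · exact h1
  · exfalso
    have : w + lam w = (P + Q) * lam (P + Q) - P * lam P - Q * lam Q := by
      rw [hw, map_add, map_mul, hlam P]; ring
    apply F3 (w + lam w) _ hTw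
    rw [this]
    exact sub_mem (sub_mem h1 hPI) hQI


end


/-- Let `S` be a local ring, `R` a quadratic etale `S`-algebra and `lam` an involution of `R` with fixed
ring `S`. Then every unit `r` of `R` with `lam r * r = 1` can be written `a⁻¹ * lam a` for a unit
`a` of `R`. -/
theorem result (S : Type u) (R : Type v) [CommRing S] [CommRing R]
    [Algebra S R] (lam : R ≃+* R) (hlam : Function.Involutive lam) (hS : RInv.IsFixedRing S R lam)
    [IsLocalRing S] (hq : RInv.IsQuadEtale S R) (r : Rˣ) (hr : lam r * r = 1) :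
    ∃ a : Rˣ, (r : R) = (a⁻¹ : Rˣ) * lam a := by
  classical
  exact main S R lam hlam hS hq r hr

end Groth.Agent.S15580
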