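import Groth.Statements.S15581
import Mathlib

set_option autoImplicit false
universe u v
open RInv

namespace Groth.Agent.S15581

section


theorem main (B : Type u) (A : Type v) [CommRing B]
    [CommRing A] [Algebra B A] (lam : A ≃+* A) (hlam : Function.Involutive lam)
    (hB : RInv.IsFixedRing B A lam) [IsLocalRing B] (h2 : IsUnit (2 : B)) :
    (Ring.jacobson A) ^ 2 ≤ (IsLocalRing.maximalIdeal B).map (algebraMap B A) := by
  obtain ⟨hinj, hfix⟩ := hB
  haveI : Nontrivial A := hinj.nontrivial
  set m := (IsLocalRing.maximalIdeal B).map (algebraMap B A) with hm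
  have hJ : ∀ x : A, x ∈ Ring.jacobson A ↔ ∀ y, IsUnit (x * y + 1) := by
    intro x
    rw [← Ideal.jacobson_bot]
    exact Ideal.mem_jacobson_bot
  have hlamJ : ∀ x ∈ Ring.jacobson A, lam x ∈ Ring.jacobson A := by
    intro x hx
    rw [hJ] at hx ⊢
    intro y
    have := (hx (lam y)).map lam
    rwa [map_add, map_mul, map_one, hlam y] at this
  have hJtop : (1 : A) ∉ Ring.jacobson A := by
    intro h1
    rw [hJ] at h1
    have := h1 (-1)
    simp at this
  -- fixed elements of J come from the maximal ideal
  have hfixJ : ∀ z ∈ Ring.jacobson A, lam z = z → z ∈ m := by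
    intro z hz hlz
    obtain ⟨b, rfl⟩ := (hfix z).mp hlz
    apply Ideal.mem_map_of_mem
    rw [IsLocalRing.mem_maximalIdeal, mem_nonunits_iff]
    intro hb
    apply hJtop
    obtain ⟨c, hc⟩ := hb.exists_right_inv
    have : (1 : A) = algebraMap B A b * algebraMap B A c := by rw [← map_mul, hc, map_one]
    rw [this]
    exact Ideal.mul_mem_right _ _ hz
  rw [pow_two, Ideal.mul_le]
  intro x hx y hy
  have hsx : x + lam x ∈ m := hfixJ _ (add_mem hx (hlamJ x hx)) (by rw [map_add, hlam x, add_comm])
  have hsy : y + lam y ∈ m := hfixJ _ (add_mem hy (hlamJ y hy)) (by rw [map_add, hlam y, add_comm])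
  have hdd : (x - lam x) * (y - lam y) ∈ m := by
    apply hfixJ
    · exact Ideal.mul_mem_right _ _ (sub_mem hx (hlamJ x hx))
    · rw [map_mul, map_sub, map_sub, hlam x, hlam y]; ring
  have h4 : (4 : A) * (x * y) ∈ m := by
    have : (4 : A) * (x * y) = (x + lam x) * (y + lam y) + (x + lam x) * (y - lam y) +
        (y + lam y) * (x - lam x) + (x - lam x) * (y - lam y) := by ring
    rw [this]
    exact add_mem (add_mem (add_mem (Ideal.mul_mem_right _ _ hsx) (Ideal.mul_mem_right _ _ hsx))
      (Ideal.mul_mem_right _ _ hsy)) hdd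
  obtain ⟨c, hc⟩ := h2.exists_right_inv
  have hc4 : (algebraMap B A (c * c)) * (4 : A) = 1 := by
    have : (4 : A) = algebraMap B A (2 * 2) := by rw [map_mul]; norm_num [map_ofNat]
    rw [this, ← map_mul]
    have : c * c * (2 * 2) = (2 * c) * (2 * c) := by ring
    rw [this, hc, mul_one, map_one]
  have : x * y = algebraMap B A (c * c) * ((4 : A) * (x * y)) := by
    rw [← mul_assoc, hc4, one_mul]
  rw [this]
  exact Ideal.mul_mem_left _ _ h4


end


/-- Let `A` be a commutative ring with an involution `lam` whose fixed ring `B` is local with `2`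
invertible. Then `Jac(A)^2 ⊆ Jac(B) A`. -/
theorem result (B : Type u) (A : Type v) [CommRing B]
    [CommRing A] [Algebra B A] (lam : A ≃+* A) (hlam : Function.Involutive lam)
    (hB : RInv.IsFixedRing B A lam) [IsLocalRing B] (h2 : IsUnit (2 : B)) :
    (Ring.jacobson A) ^ 2 ≤ (IsLocalRing.maximalIdeal B).map (algebraMap B A) := by
  classical
  exact main B A lam hlam hB h2

end Groth.Agent.S15581
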