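import Groth.Statements.S15582
import Mathlib
-- import your own Groth.Agent.* helpers here

set_option autoImplicit false
universe u
open CategoryTheory TopologicalSpace
open CohTop

namespace Groth.Agent.S15582

open CategoryTheory TopologicalSpace Opposite
namespace Aux

variable {X Y : TopCat.{u}}

theorem locSurj_iff {F G : TopCat.Sheaf (Type u) X} (φ : F ⟶ G) :
    TopCat.Presheaf.IsLocallySurjective φ.hom ↔
      ∀ (U : Opens X) (t : G.obj.obj (op U)), ∀ x ∈ U, ∃ (V : Opens X) (hV : V ≤ U),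
        (∃ s : F.obj.obj (op V), φ.hom.app (op V) s = G.obj.map (homOfLE hV).op t) ∧ x ∈ V := by
  rw [TopCat.Presheaf.isLocallySurjective_iff]
  rfl

theorem map_comp_apply (F : TopCat.Sheaf (Type u) X) {U V W : Opens X} (h1 : U ≤ V) (h2 : V ≤ W)
    (s : F.obj.obj (op W)) :
    F.obj.map (homOfLE h1).op (F.obj.map (homOfLE h2).op s) =
      F.obj.map (homOfLE (h1.trans h2)).op s := by
  rw [← Functor.map_comp_apply]
  rfl

theorem nat_apply {F G : TopCat.Sheaf (Type u) X} (φ : F ⟶ G) {U V : Opens X} (h : U ≤ V)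
    (s : F.obj.obj (op V)) :
    φ.hom.app (op U) (F.obj.map (homOfLE h).op s) =
      G.obj.map (homOfLE h).op (φ.hom.app (op V) s) :=
  NatTrans.naturality_apply φ.hom (homOfLE h).op s

theorem subsingleton_of_eq_bot (F : TopCat.Sheaf (Type u) X) (U : Opens X) (hU : U = ⊥)
    (s t : F.obj.obj (op U)) : s = t := by
  refine F.eq_of_locally_eq' (fun i : PEmpty.{1} => (i.elim : Opens X)) U (fun i => i.elim) ?_ s t
    (fun i => i.elim)
  rw [hU]
  exact bot_le

theorem main (π : X ⟶ Y)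
    (h1 : ∀ (y : Y) (U : Set X), IsOpen U → π ⁻¹' {y} ⊆ U →
      ∃ V : Set Y, IsOpen V ∧ y ∈ V ∧ π ⁻¹' V ⊆ U)
    (h2 : ∀ y : Y, (π ⁻¹' {y}).Finite ∧ ∃ U : X → Set X,
      (∀ x ∈ π ⁻¹' {y}, IsOpen (U x) ∧ x ∈ U x) ∧ (π ⁻¹' {y}).PairwiseDisjoint U) :
    (TopCat.Sheaf.pushforward (Type u) π).PreservesEpimorphisms := by
  constructor
  intro F G φ hφ
  rw [← TopCat.Sheaf.isLocallySurjective_iff_epi] at hφ ⊢
  rw [locSurj_iff] at hφ ⊢
  intro V t y hy
  obtain ⟨-, Uo, hUo, hdisj⟩ := h2 y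
  have hx : ∀ x : (π ⁻¹' {y} : Set X), ∃ (W : Opens X) (hW : W ≤ (Opens.map π).obj V),
      (∃ s : F.obj.obj (op W), φ.hom.app (op W) s = G.obj.map (homOfLE hW).op t) ∧
        (x : X) ∈ W := fun x => hφ _ t x (by
          show π (x : X) ∈ V
          have : π (x : X) = y := x.2
          rw [this]; exact hy)
  choose W' hW' hs' hxW' using hx
  choose s' hs' using hs'
  let Uop : (π ⁻¹' {y} : Set X) → Opens X := fun x => ⟨Uo x, (hUo x x.2).1⟩
  let W : (π ⁻¹' {y} : Set X) → Opens X := fun x => W' x ⊓ Uop x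
  have hWW' : ∀ x, W x ≤ W' x := fun x => inf_le_left
  let sf : ∀ x, F.obj.obj (op (W x)) := fun x => F.obj.map (homOfLE (hWW' x)).op (s' x)
  have hcompat : TopCat.Presheaf.IsCompatible F.obj W sf := by
    intro x x'
    by_cases hxx : x = x'
    · subst hxx
      rfl
    · apply subsingleton_of_eq_bot
      have hne : (x : X) ≠ (x' : X) := fun h => hxx (Subtype.ext h)
      have hd := hdisj x.2 x'.2 hne
      rw [eq_bot_iff]
      intro z hz
      have hz1 : z ∈ Uo x := hz.1.2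
      have hz2 : z ∈ Uo x' := hz.2.2
      exact (Set.disjoint_left.mp hd hz1 hz2).elim
  obtain ⟨s, hs, -⟩ := F.existsUnique_gluing W sf hcompat
  have hWV : iSup W ≤ (Opens.map π).obj V := iSup_le fun x => (hWW' x).trans (hW' x)
  have hφs : φ.hom.app (op (iSup W)) s = G.obj.map (homOfLE hWV).op t := by
    apply G.eq_of_locally_eq W
    intro x
    have e1 : G.obj.map (Opens.leSupr W x).op (φ.hom.app (op (iSup W)) s) =
        φ.hom.app (op (W x)) (F.obj.map (Opens.leSupr W x).op s) :=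
      (NatTrans.naturality_apply φ.hom (Opens.leSupr W x).op s).symm
    rw [e1, hs x]
    show φ.hom.app (op (W x)) (F.obj.map (homOfLE (hWW' x)).op (s' x)) = _
    rw [nat_apply, hs' x]
    exact (map_comp_apply G (hWW' x) (hW' x) t).trans (map_comp_apply G (le_iSup W x) hWV t).symm
  have hfib : π ⁻¹' {y} ⊆ ((iSup W : Opens X) : Set X) := by
    intro z hz
    have : z ∈ W ⟨z, hz⟩ := ⟨hxW' ⟨z, hz⟩, (hUo z hz).2⟩
    exact (le_iSup W ⟨z, hz⟩) this
  obtain ⟨V₀, hV₀o, hyV₀, hV₀⟩ := h1 y ((iSup W : Opens X) : Set X) (iSup W).2 hfib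
  have hle : (Opens.map π).obj (V ⊓ ⟨V₀, hV₀o⟩) ≤ iSup W := fun z hz => hV₀ hz.2
  refine ⟨V ⊓ ⟨V₀, hV₀o⟩, inf_le_left, ⟨F.obj.map (homOfLE hle).op s, ?_⟩, ⟨hy, hyV₀⟩⟩
  show φ.hom.app (op ((Opens.map π).obj (V ⊓ ⟨V₀, hV₀o⟩))) (F.obj.map (homOfLE hle).op s) = _
  rw [nat_apply, hφs]
  exact map_comp_apply G hle hWV t

end Aux

/-- Let `π : X → Y` be a continuous map such that every open set containing a fibre `π⁻¹(y)` contains
the preimage of an open neighbourhood of `y`, and such that every fibre is finite with its points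
separated by pairwise disjoint open sets of `X`. Then the direct image of sheaves of sets along `π`
preserves epimorphisms. -/
theorem result
    {X Y : TopCat.{u}} (π : X ⟶ Y)
    (h1 : ∀ (y : Y) (U : Set X), IsOpen U → π ⁻¹' {y} ⊆ U →
      ∃ V : Set Y, IsOpen V ∧ y ∈ V ∧ π ⁻¹' V ⊆ U)
    (h2 : ∀ y : Y, (π ⁻¹' {y}).Finite ∧ ∃ U : X → Set X,
      (∀ x ∈ π ⁻¹' {y}, IsOpen (U x) ∧ x ∈ U x) ∧ (π ⁻¹' {y}).PairwiseDisjoint U) :
    (TopCat.Sheaf.pushforward (Type u) π).PreservesEpimorphisms := by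
  exact Aux.main π h1 h2

end Groth.Agent.S15582
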