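import Groth.Statements.S15585
import Mathlib

set_option autoImplicit false
universe u v
open RInv

namespace Groth.Agent.S15585

section
open RInv

/-- A reduced 2-dimensional commutative algebra over a field is a field or `k × k`. -/
theorem field_or_prod (k : Type u) (A : Type v) [Field k] [CommRing A] [Algebra k A]
    [IsReduced A] (h2 : Module.finrank k A = 2) :
    IsField A ∨ Nonempty (A ≃ₐ[k] (k × k)) := by
  classical
  have hfin : Module.Finite k A := Module.finite_of_finrank_eq_succ h2
  have hnt : Nontrivial A := by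
    by_contra hn
    rw [not_nontrivial_iff_subsingleton] at hn
    have := Module.finrank_zero_of_subsingleton (R := k) (M := A)
    omega
  have hinj : Function.Injective (algebraMap k A) := (algebraMap k A).injective
  by_cases hf : IsField A
  · exact Or.inl hf
  right
  -- a nonzero non-unit
  have hx : ∃ x : A, x ≠ 0 ∧ ∀ b, x * b ≠ 1 := by
    by_contra hcon
    push Not at hcon
    exact hf ⟨exists_pair_ne A, mul_comm, fun {a} ha => hcon a ha⟩
  obtain ⟨x, hx0, hxu⟩ := hx
  have hli : LinearIndependent k ![(1 : A), x] := by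
    rw [LinearIndependent.pair_iff]
    intro s t hst
    have ht : t = 0 := by
      by_contra ht
      have hxeq : x = (-(s / t)) • (1 : A) := by
        have : t • x = -(s • (1 : A)) := by
          rw [eq_neg_iff_add_eq_zero, add_comm]; exact hst
        calc x = t⁻¹ • (t • x) := by rw [smul_smul, inv_mul_cancel₀ ht, one_smul]
          _ = (-(s / t)) • (1 : A) := by
            rw [this, smul_neg, smul_smul, neg_smul]; congr 2; field_simp
      by_cases hs : s = 0
      · apply hx0; rw [hxeq, hs]; simp
      · apply hxu ((-(t / s)) • (1 : A))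
        rw [hxeq, smul_mul_smul_comm, mul_one]
        have : -(s / t) * -(t / s) = 1 := by field_simp
        rw [this, one_smul]
    subst ht
    rw [zero_smul, add_zero, ← Algebra.algebraMap_eq_smul_one] at hst
    exact ⟨hinj (by rw [hst, map_zero]), rfl⟩
  have hspan : Submodule.span k (Set.range ![(1 : A), x]) = ⊤ :=
    hli.span_eq_top_of_card_eq_finrank' (by simp [h2])
  have hmem : x * x ∈ Submodule.span k (Set.range ![(1 : A), x]) := by rw [hspan]; trivial
  have hrange : Set.range ![(1 : A), x] = {1, x} := by
    ext y; simp only [Set.mem_range, Fin.exists_fin_two, Matrix.cons_val_zero, Matrix.cons_val_one, Set.mem_insert_iff, Set.mem_singleton_iff, eq_comm]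
  rw [hrange, Submodule.mem_span_pair] at hmem
  obtain ⟨b, a, hab⟩ := hmem
  -- x*x = b•1 + a•x
  have hb : b = 0 := by
    by_contra hb
    apply hxu (b⁻¹ • (x - a • 1))
    have : x * (x - a • 1) = b • 1 := by
      rw [mul_sub, ← hab]; simp [mul_comm]
    rw [mul_smul_comm, this, smul_smul, inv_mul_cancel₀ hb, one_smul]
  subst hb
  rw [zero_smul, zero_add] at hab
  have ha : a ≠ 0 := by
    rintro rfl
    rw [zero_smul] at hab
    apply hx0
    have : IsNilpotent x := ⟨2, by rw [pow_two, hab]⟩
    exact this.eq_zero
  obtain ⟨e, he⟩ : ∃ e : A, e = a⁻¹ • x := ⟨_, rfl⟩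
  have hee : e * e = e := by
    rw [he, smul_mul_smul_comm, ← hab, smul_smul, mul_assoc, inv_mul_cancel₀ ha, mul_one]
  have he0 : e ≠ 0 := by
    intro h
    apply hx0
    have : x = a • e := by rw [he, smul_smul, mul_inv_cancel₀ ha, one_smul]
    rw [this, h, smul_zero]
  have he1 : e ≠ 1 := by
    intro h
    apply hxu (a⁻¹ • 1)
    rw [mul_smul_comm, mul_one, ← he, h]
  have he1' : 1 - e ≠ 0 := fun h => he1 (sub_eq_zero.mp h).symm
  have hmul0 : e * (1 - e) = 0 := by rw [mul_sub, mul_one, hee, sub_self]
  have hee' : (1 - e) * (1 - e) = 1 - e := by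
    rw [sub_mul, one_mul, hmul0, sub_zero]
  let ψl : (k × k) →ₗ[k] A :=
    { toFun := fun p => p.1 • e + p.2 • (1 - e)
      map_add' := by intro p q; simp only [Prod.fst_add, Prod.snd_add, add_smul]; abel
      map_smul' := by
        intro c p
        simp only [Prod.smul_fst, Prod.smul_snd, smul_eq_mul, RingHom.id_apply, mul_smul,
          smul_add] }
  let ψ : (k × k) →ₐ[k] A := AlgHom.ofLinearMap ψl
    (by simp [ψl])
    (by
      intro p q
      simp only [ψl, LinearMap.coe_mk, AddHom.coe_mk, Prod.fst_mul, Prod.snd_mul]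
      have hmul0' : (1 - e) * e = 0 := by rw [mul_comm]; exact hmul0
      rw [add_mul, mul_add, mul_add, smul_mul_smul_comm, smul_mul_smul_comm, smul_mul_smul_comm,
        smul_mul_smul_comm, hee, hee', hmul0, hmul0']
      simp)
  have hψinj : Function.Injective ψ := by
    rw [injective_iff_map_eq_zero]
    rintro ⟨p1, p2⟩ hp
    have hp' : p1 • e + p2 • (1 - e) = 0 := hp
    have h1 : p1 • e = 0 := by
      have := congrArg (fun z => z * e) hp'
      simp only [add_mul, smul_mul_assoc, hee, zero_mul, mul_comm (1 - e) e, hmul0, smul_zero,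
        add_zero] at this
      exact this
    have h2' : p2 • (1 - e) = 0 := by
      have := congrArg (fun z => z * (1 - e)) hp'
      simp only [add_mul, smul_mul_assoc, hee', zero_mul, hmul0, smul_zero, zero_add] at this
      exact this
    have hp1 : p1 = 0 := by
      rcases smul_eq_zero.mp h1 with h | h
      · exact h
      · exact absurd h he0
    have hp2 : p2 = 0 := by
      rcases smul_eq_zero.mp h2' with h | h
      · exact h
      · exact absurd h he1'
    rw [hp1, hp2]; rfl
  have hψbij : Function.Bijective ψ := by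
    refine ⟨hψinj, ?_⟩
    have hfr : Module.finrank k (k × k) = Module.finrank k A := by
      rw [h2]; simp
    exact (LinearMap.injective_iff_surjective_of_finrank_eq_finrank
      (f := ψ.toLinearMap) hfr).mp hψinj
  exact ⟨(AlgEquiv.ofBijective ψ hψbij).symm⟩

theorem main (S : Type u) (R : Type v) [CommRing S]
    [CommRing R] [Algebra S R] [IsLocalRing S] (hq : RInv.IsQuadEtale S R) :
    (IsField (R ⧸ (IsLocalRing.maximalIdeal S).map (algebraMap S R)) ∧
      Module.finrank (S ⧸ IsLocalRing.maximalIdeal S)
        (R ⧸ (IsLocalRing.maximalIdeal S).map (algebraMap S R)) = 2 ∧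
      Algebra.IsSeparable (S ⧸ IsLocalRing.maximalIdeal S)
        (R ⧸ (IsLocalRing.maximalIdeal S).map (algebraMap S R))) ∨
    Nonempty ((R ⧸ (IsLocalRing.maximalIdeal S).map (algebraMap S R)) ≃ₐ[S ⧸ IsLocalRing.maximalIdeal S]
      ((S ⧸ IsLocalRing.maximalIdeal S) × (S ⧸ IsLocalRing.maximalIdeal S))) := by
  obtain ⟨hfin, hproj, hunr, hrank⟩ := hq
  haveI := hfin
  haveI := hproj
  haveI := hunr
  letI : Field (S ⧸ IsLocalRing.maximalIdeal S) := Ideal.Quotient.field _
  haveI : Module.Free S R := Module.free_of_flat_of_isLocalRing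
  have hr2 : Module.finrank S R = 2 := by
    have := hrank (IsLocalRing.closedPoint S)
    rw [Module.rankAtStalk_eq_finrank_of_free] at this
    exact this
  have h2 : Module.finrank (S ⧸ IsLocalRing.maximalIdeal S)
        (R ⧸ (IsLocalRing.maximalIdeal S).map (algebraMap S R)) = 2 := by
    rw [IsLocalRing.finrank_quotient_map, hr2]
  haveI : Algebra.FormallyUnramified S (R ⧸ (IsLocalRing.maximalIdeal S).map (algebraMap S R)) :=
    Algebra.FormallyUnramified.comp S R _
  haveI : Algebra.FormallyUnramified (S ⧸ IsLocalRing.maximalIdeal S)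
      (R ⧸ (IsLocalRing.maximalIdeal S).map (algebraMap S R)) :=
    Algebra.FormallyUnramified.of_restrictScalars S _ _
  haveI : Module.Finite (S ⧸ IsLocalRing.maximalIdeal S)
      (R ⧸ (IsLocalRing.maximalIdeal S).map (algebraMap S R)) :=
    Module.finite_of_finrank_eq_succ h2
  haveI : IsReduced (R ⧸ (IsLocalRing.maximalIdeal S).map (algebraMap S R)) :=
    Algebra.FormallyUnramified.isReduced_of_field (S ⧸ IsLocalRing.maximalIdeal S) _
  rcases field_or_prod (S ⧸ IsLocalRing.maximalIdeal S)
      (R ⧸ (IsLocalRing.maximalIdeal S).map (algebraMap S R)) h2 with hf | hp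
  · left
    refine ⟨hf, h2, ?_⟩
    letI := hf.toField
    exact Algebra.FormallyUnramified.isSeparable (S ⧸ IsLocalRing.maximalIdeal S) _
  · right; exact hp


end


/-- For a local ring `S` (maximal ideal `m`, residue field `k`) and a quadratic etale `S`-algebra `R`,
the ring `R/mR` is a field that is a separable extension of `k` of degree 2, or else it is
isomorphic as a `k`-algebra to `k × k`. -/
theorem result (S : Type u) (R : Type v) [CommRing S]
    [CommRing R] [Algebra S R] [IsLocalRing S] (hq : RInv.IsQuadEtale S R) :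
    (IsField (R ⧸ (IsLocalRing.maximalIdeal S).map (algebraMap S R)) ∧
      Module.finrank (S ⧸ IsLocalRing.maximalIdeal S)
        (R ⧸ (IsLocalRing.maximalIdeal S).map (algebraMap S R)) = 2 ∧
      Algebra.IsSeparable (S ⧸ IsLocalRing.maximalIdeal S)
        (R ⧸ (IsLocalRing.maximalIdeal S).map (algebraMap S R))) ∨
    Nonempty ((R ⧸ (IsLocalRing.maximalIdeal S).map (algebraMap S R)) ≃ₐ[S ⧸ IsLocalRing.maximalIdeal S]
      ((S ⧸ IsLocalRing.maximalIdeal S) × (S ⧸ IsLocalRing.maximalIdeal S))) := by
  classical
  exact main S R hq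

end Groth.Agent.S15585
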