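import Groth.Statements.S15590
import Mathlib

set_option autoImplicit false
universe u v
open CAlg

namespace Groth.Agent.S15590

section


theorem main (A : Type u) (B : Type v)
    [CommRing A] [CommRing B] [Algebra A B] [IsDedekindDomain B]
    (hinj : Function.Injective (algebraMap A B)) [Module.Finite A B] [Module.Flat A B] :
    IsDedekindDomain A := by
  have hdomA : IsDomain A := hinj.isDomain (algebraMap A B)
  have hfs : FaithfulSMul A B := (faithfulSMul_iff_algebraMap_injective A B).mpr hinj
  have hint : Algebra.IsIntegral A B := inferInstance
  have hff : Module.FaithfullyFlat A B := inferInstance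
  -- Noetherian
  have hnoeth : IsNoetherianRing A := by
    rw [isNoetherianRing_iff, isNoetherian_iff']
    have hB : WellFoundedGT (Ideal B) := by
      have : IsNoetherianRing B := inferInstance
      rw [isNoetherianRing_iff, isNoetherian_iff'] at this
      exact this
    let emb : Ideal A ↪o Ideal B :=
      { toFun := Ideal.map (algebraMap A B)
        inj' := Ideal.map_injective_of_faithfullyFlat
        map_rel_iff' := by
          intro I J
          constructor
          · intro h
            have h' : Ideal.map (algebraMap A B) I ≤ Ideal.map (algebraMap A B) J := h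
            have := Ideal.comap_mono (f := algebraMap A B) h'
            rwa [Ideal.comap_map_eq_self_of_faithfullyFlat,
              Ideal.comap_map_eq_self_of_faithfullyFlat] at this
          · intro h
            exact Ideal.map_mono h }
    exact ⟨(emb.ltEmbedding.swap).wellFounded hB.wf⟩
  -- dimension ≤ 1
  have hdim : Ring.DimensionLEOne A := by
    constructor
    intro p hp0 hp
    have hker : RingHom.ker (algebraMap A B) ≤ p := by
      rw [(RingHom.injective_iff_ker_eq_bot _).mp hinj]
      exact bot_le
    obtain ⟨q, hq, hqprime, hqcomap⟩ := Ideal.exists_ideal_over_prime_of_isIntegral p (⊥ : Ideal B)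
      (by rw [Ideal.comap_bot_of_injective _ hinj]; exact bot_le)
    have hq0 : q ≠ ⊥ := by
      intro h
      apply hp0
      rw [← hqcomap, h, Ideal.comap_bot_of_injective _ hinj]
    have hqmax : q.IsMaximal := Ring.DimensionLEOne.maximalOfPrime hq0 hqprime
    rw [← hqcomap]
    exact Ideal.isMaximal_comap_of_isIntegral_of_isMaximal q
  -- integrally closed
  have hic : IsIntegrallyClosed A := by
    rw [isIntegrallyClosed_iff (FractionRing A)]
    intro x hx
    let L := FractionRing B
    let φ : A →+* L := (algebraMap B L).comp (algebraMap A B)
    have hφ : Function.Injective φ :=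
      (IsFractionRing.injective B L).comp hinj
    let ψ : FractionRing A →+* L := IsFractionRing.lift hφ
    have hψ : ∀ a : A, ψ (algebraMap A (FractionRing A) a) = φ a := fun a =>
      IsFractionRing.lift_algebraMap hφ a
    obtain ⟨p, hpm, hpx⟩ := hx
    have hintB : IsIntegral B (ψ x) := by
      refine ⟨p.map (algebraMap A B), hpm.map _, ?_⟩
      rw [Polynomial.eval₂_map]
      have h1 := congrArg ψ hpx
      rw [Polynomial.hom_eval₂, map_zero] at h1
      have h2 : ψ.comp (algebraMap A (FractionRing A)) = (algebraMap B L).comp (algebraMap A B) := by
        ext a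
        exact hψ a
      rw [h2] at h1
      exact h1
    obtain ⟨β, hβ⟩ := IsIntegrallyClosed.algebraMap_eq_of_integral hintB
    obtain ⟨a, b, hb, hab⟩ := IsFractionRing.div_surjective (A := A) x
    have hb0 : b ≠ 0 := nonZeroDivisors.ne_zero hb
    have hbK : algebraMap A (FractionRing A) b ≠ 0 := by
      intro h
      exact hb0 ((IsFractionRing.injective A (FractionRing A)) (by rw [h, map_zero]))
    have hxb : x * algebraMap A (FractionRing A) b = algebraMap A (FractionRing A) a := by
      rw [← hab, div_mul_cancel₀ _ hbK]
    have h3 := congrArg ψ hxb
    rw [map_mul, hψ, hψ, ← hβ] at h3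
    have h4 : β * algebraMap A B b = algebraMap A B a := by
      apply IsFractionRing.injective B L
      rw [map_mul]
      exact h3
    have h5 : a ∈ Ideal.comap (algebraMap A B) (Ideal.map (algebraMap A B) (Ideal.span {b})) := by
      rw [Ideal.mem_comap, ← h4]
      apply Ideal.mul_mem_left
      exact Ideal.mem_map_of_mem _ (Ideal.subset_span rfl)
    rw [Ideal.comap_map_eq_self_of_faithfullyFlat, Ideal.mem_span_singleton] at h5
    obtain ⟨c, hc⟩ := h5
    refine ⟨c, ?_⟩
    apply mul_right_cancel₀ hbK
    rw [hxb, hc, map_mul, mul_comm]
  exact { toIsDomain := hdomA, toIsNoetherian := hnoeth, toDimensionLEOne := hdim,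
          toIsIntegralClosure := hic }


end


/-- Let A → B be an injective homomorphism of commutative rings which makes B a finite flat A-module,
and suppose B is a Dedekind domain (Noetherian, integrally closed, of Krull dimension at most one; a
field is allowed). Then A is a Dedekind domain. -/
theorem result (A : Type u) (B : Type v)
    [CommRing A] [CommRing B] [Algebra A B] [IsDedekindDomain B]
    (hinj : Function.Injective (algebraMap A B)) [Module.Finite A B] [Module.Flat A B] :
    IsDedekindDomain A := by
  classical
  exact main A B hinj

end Groth.Agent.S15590
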