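import Groth.Statements.S15594
import Mathlib

set_option autoImplicit false
universe u
open TensorProduct
open AGF

namespace Groth.Agent.S15594

section
open TensorProduct

theorem main (k K A : Type u) [Field k] [Field K] [Algebra k K]
    [CommRing A] [Algebra k A] (S : Set (A →ₐ[k] k)) :
    Ideal.map (Algebra.TensorProduct.includeRight : A →ₐ[k] K ⊗[k] A) (⨅ σ ∈ S, RingHom.ker σ) =
      ⨅ σ ∈ S, RingHom.ker ((Algebra.TensorProduct.rid k K K).toAlgHom.comp
        (Algebra.TensorProduct.map (AlgHom.id K K) σ)) := by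
  classical
  have hσK : ∀ (σ : A →ₐ[k] k) (x : K) (a : A),
      ((Algebra.TensorProduct.rid k K K).toAlgHom.comp
        (Algebra.TensorProduct.map (AlgHom.id K K) σ)) (x ⊗ₜ[k] a) = σ a • x := by
    intro σ x a
    simp
  apply le_antisymm
  · rw [Ideal.map_le_iff_le_comap]
    intro a ha
    rw [Ideal.mem_comap]
    simp only [Ideal.mem_iInf] at ha ⊢
    intro σ hσ
    rw [RingHom.mem_ker]
    have h1 : (Algebra.TensorProduct.includeRight : A →ₐ[k] K ⊗[k] A) a = (1 : K) ⊗ₜ[k] a := rfl
    have h2 := ha σ hσ
    rw [RingHom.mem_ker] at h2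
    show ((Algebra.TensorProduct.rid k K K).toAlgHom.comp
        (Algebra.TensorProduct.map (AlgHom.id K K) σ))
        ((Algebra.TensorProduct.includeRight : A →ₐ[k] K ⊗[k] A) a) = 0
    rw [h1, hσK, h2, zero_smul]
  · intro z hz
    simp only [Ideal.mem_iInf] at hz
    let ℬ := Module.Free.chooseBasis k K
    obtain ⟨c, hc⟩ := TensorProduct.eq_repr_basis_left (N := A) ℬ z
    have hci : ∀ i ∈ c.support, c i ∈ (⨅ σ ∈ S, RingHom.ker σ : Ideal A) := by
      intro i hi
      simp only [Ideal.mem_iInf]
      intro σ hσ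
      rw [RingHom.mem_ker]
      have h1 := hz σ hσ
      rw [RingHom.mem_ker, ← hc, Finsupp.sum, map_sum] at h1
      have h2 : ∑ j ∈ c.support, σ (c j) • ℬ j = 0 := by
        rw [← h1]
        apply Finset.sum_congr rfl
        intro j _
        rw [hσK]
      exact (linearIndependent_iff'.mp ℬ.linearIndependent) c.support (fun j => σ (c j)) h2 i hi
    rw [← hc, Finsupp.sum]
    apply Ideal.sum_mem
    intro i hi
    have h3 : ℬ i ⊗ₜ[k] c i = (ℬ i ⊗ₜ[k] (1 : A)) *
        (Algebra.TensorProduct.includeRight : A →ₐ[k] K ⊗[k] A) (c i) := by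
      show ℬ i ⊗ₜ[k] c i = (ℬ i ⊗ₜ[k] (1 : A)) * ((1 : K) ⊗ₜ[k] c i)
      rw [Algebra.TensorProduct.tmul_mul_tmul, mul_one, one_mul]
    rw [h3]
    exact Ideal.mul_mem_left _ _ (Ideal.mem_map_of_mem _ (hci i hi))


end


/-- Affine form. Let k ⊆ K be a field extension, A a commutative k-algebra and S a set of k-algebra
homomorphisms A → k (rational points of Spec A). The ideal ⋂_{σ ∈ S} ker σ cuts out the Zariski
closure of S with its reduced structure, and its extension to K ⊗_k A equals ⋂_{σ ∈ S} ker σ_K,
where σ_K : K ⊗_k A → K is the K-algebra map induced by σ. In words: the closure of a set of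
rational points is formed compatibly with extension of the ground field. (The published statement is
for schemes locally of finite type; this affine row assumes no finiteness, which the argument does
not use.) -/
theorem result (k K A : Type u) [Field k] [Field K] [Algebra k K]
    [CommRing A] [Algebra k A] (S : Set (A →ₐ[k] k)) :
    Ideal.map (Algebra.TensorProduct.includeRight : A →ₐ[k] K ⊗[k] A) (⨅ σ ∈ S, RingHom.ker σ) =
      ⨅ σ ∈ S, RingHom.ker ((Algebra.TensorProduct.rid k K K).toAlgHom.comp
        (Algebra.TensorProduct.map (AlgHom.id K K) σ)) := by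
  classical
  exact main k K A S

end Groth.Agent.S15594
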