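import Groth.Statements.S15595
import Groth.Agent.Lib.Helper8.FlatReg11
import Groth.Agent.Lib.Helper8.ABS13

set_option autoImplicit false
universe u
open TensorProduct
attribute [local instance] RingHom.ker_isPrime
open CAlg

namespace Groth.Agent.S15595

/-- Let k ⊆ K be a field extension and A a Noetherian local k-algebra with residue field k, recorded by
a k-algebra map π : A → k whose kernel is the maximal ideal. Let π_K : K ⊗_k A → K be the induced
K-algebra map, m' its kernel, and A' the localization of K ⊗_k A at m'. Assume A' is Noetherian.
Then A is a regular local ring if and only if A' is a regular local ring. -/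
theorem result (k K A : Type u) [Field k] [Field K]
    [Algebra k K] [CommRing A] [Algebra k A] [IsLocalRing A] [IsNoetherianRing A]
    (π : A →ₐ[k] k) (hπ : RingHom.ker π = IsLocalRing.maximalIdeal A)
    [IsNoetherianRing (Localization.AtPrime (RingHom.ker
      ((Algebra.TensorProduct.rid k K K).toAlgHom.comp (Algebra.TensorProduct.map (AlgHom.id K K) π))))] :
    IsRegularLocalRing A ↔ IsRegularLocalRing (Localization.AtPrime (RingHom.ker
      ((Algebra.TensorProduct.rid k K K).toAlgHom.comp (Algebra.TensorProduct.map (AlgHom.id K K) π)))) := by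
  classical
  set φ := (Algebra.TensorProduct.rid k K K).toAlgHom.comp
    (Algebra.TensorProduct.map (AlgHom.id K K) π) with hφ
  letI algAB : Algebra A (K ⊗[k] A) := Algebra.TensorProduct.rightAlgebra
  -- flatness
  haveI hflat : Module.Flat A (K ⊗[k] A) := by
    let e : (K ⊗[k] A) ≃ₗ[A] (A ⊗[k] K) :=
      { (Algebra.TensorProduct.comm k K A).toLinearEquiv with
        map_smul' := by
          intro a x
          simp only [AlgEquiv.toLinearEquiv_toLinearMap, AddHom.toFun_eq_coe,
            LinearMap.coe_toAddHom, AlgEquiv.toLinearMap_apply, RingHom.id_apply]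
          rw [Algebra.smul_def, map_mul, Algebra.smul_def]
          rfl }
    exact Module.Flat.of_linearEquiv e
  haveI : Module.Flat A (Localization.AtPrime (RingHom.ker φ)) :=
    Module.Flat.trans A (K ⊗[k] A) _
  have hπsurj : Function.Surjective π := fun c => ⟨algebraMap k A c, by simp⟩
  have hker : RingHom.ker φ = (IsLocalRing.maximalIdeal A).map (algebraMap A (K ⊗[k] A)) := by
    rw [← hπ]
    have h1 := Algebra.TensorProduct.lTensor_ker (A := K) (R := k) π hπsurj
    have h2 : RingHom.ker φ = RingHom.ker (Algebra.TensorProduct.map (AlgHom.id k K) π) := by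
      ext x
      rw [RingHom.mem_ker, RingHom.mem_ker, hφ]
      simp only [AlgHom.coe_comp, Function.comp_apply]
      have h3 : (Algebra.TensorProduct.map (AlgHom.id K K) π) x =
          (Algebra.TensorProduct.map (AlgHom.id k K) π) x := rfl
      rw [h3]
      exact (Algebra.TensorProduct.rid k K K).map_eq_zero_iff
    rw [h2, h1]
    rfl
  have hmax : (IsLocalRing.maximalIdeal A).map
      (algebraMap A (Localization.AtPrime (RingHom.ker φ))) =
      IsLocalRing.maximalIdeal (Localization.AtPrime (RingHom.ker φ)) := by
    rw [IsScalarTower.algebraMap_eq A (K ⊗[k] A) (Localization.AtPrime (RingHom.ker φ)),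
      ← Ideal.map_map, ← hker, Localization.AtPrime.map_eq_maximalIdeal]
  haveI : IsLocalHom (algebraMap A (Localization.AtPrime (RingHom.ker φ))) := by
    refine ⟨fun a ha => ?_⟩
    by_contra hna
    have hmem : a ∈ IsLocalRing.maximalIdeal A := hna
    have : algebraMap A (Localization.AtPrime (RingHom.ker φ)) a ∈
        IsLocalRing.maximalIdeal (Localization.AtPrime (RingHom.ker φ)) := by
      rw [← hmax]
      exact Ideal.mem_map_of_mem _ hmem
    exact this ha
  constructor
  · intro h
    haveI : IsRegularLocalRing (Localization.AtPrime (RingHom.ker φ) ⧸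
        (IsLocalRing.maximalIdeal A).map
          (algebraMap A (Localization.AtPrime (RingHom.ker φ)))) := by
      rw [hmax]
      letI : Field (Localization.AtPrime (RingHom.ker φ) ⧸
        IsLocalRing.maximalIdeal (Localization.AtPrime (RingHom.ker φ))) :=
        Ideal.Quotient.field _
      infer_instance
    exact Groth.Agent.Helper8.FlatReg.isRegularLocalRing_of_flat_of_fibre A _
  · intro h
    exact Groth.Agent.Helper8.ABS.isRegularLocalRing_of_flat A
      (Localization.AtPrime (RingHom.ker φ))

end Groth.Agent.S15595
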