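import Groth.Statements.S15596
import Groth.Agent.Lib.Helper6.GrpSch.Field

set_option autoImplicit false
universe u
open CategoryTheory MonoidalCategory CartesianMonoidalCategory MonObj GrpObj AlgebraicGeometry
open AlgGrp

namespace Groth.Agent.S15596

/-- Let k be an algebraically closed field, H a smooth k-group scheme of finite type, and U a dense open
subset of H. Then every k-rational point h of H is of the form u₂ · u₁⁻¹ for k-rational points u₁,
u₂ of H whose underlying points lie in U. -/
theorem result (k : Type u) [Field k] [IsAlgClosed k]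
    (H : Over (Spec (CommRingCat.of k))) [GrpObj H] [Smooth H.hom] [QuasiCompact H.hom]
    (U : H.left.Opens) (hU : Dense (U : Set ↥H.left)) (h : 𝟙_ (Over (Spec (CommRingCat.of k))) ⟶ H) :
    ∃ u₁ u₂ : 𝟙_ (Over (Spec (CommRingCat.of k))) ⟶ H,
      u₁.left.base (IsLocalRing.closedPoint k) ∈ U ∧ u₂.left.base (IsLocalRing.closedPoint k) ∈ U ∧
        h = u₂ * u₁⁻¹ := by
  have : JacobsonSpace H.left := LocallyOfFiniteType.jacobsonSpace H.hom
  have : Nonempty H.left := ⟨h.left.base (IsLocalRing.closedPoint k)⟩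
  let Rh : H ≅ H := GrpObj.mulRight h
  let V : Set H.left := ι[H].left ⁻¹' (U : Set H.left)
  have hVo : IsOpen V := U.isOpen.preimage ι[H].left.continuous
  have hVd : Dense V :=
    hU.preimage (Groth.Agent.Lib.Helper6.GrpSch.Field.isOpenMap_left_of_iso (asIso ι[H]))
  let W : Set H.left := Rh.hom.left ⁻¹' V
  have hWo : IsOpen W := hVo.preimage Rh.hom.left.continuous
  have hWd : Dense W :=
    hVd.preimage (Groth.Agent.Lib.Helper6.GrpSch.Field.isOpenMap_left_of_iso Rh)
  have hne : (V ∩ W).Nonempty := (hVd.inter_of_isOpen_left hWd hVo).nonempty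
  obtain ⟨a0, ⟨ha1, ha2⟩, hac⟩ := nonempty_inter_closedPoints hne (hVo.inter hWo).isLocallyClosed
  let a : 𝟙_ (Over (Spec (CommRingCat.of k))) ⟶ H :=
    Over.homMk (pointOfClosedPoint H.hom a0 hac) (pointOfClosedPoint_comp H.hom a0 hac)
  have ha : a.left.base (IsLocalRing.closedPoint k) = a0 := pointOfClosedPoint_apply _ _ _ _
  have hah : a * h = a ≫ Rh.hom := by
    simp [Rh, GrpObj.mulRight, Hom.mul_def, comp_lift_assoc]
  refine ⟨(a * h)⁻¹, a⁻¹, ?_, ?_, ?_⟩
  · rw [hah, Hom.inv_def, Over.comp_left, Over.comp_left]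
    change ι[H].left (Rh.hom.left (a.left (IsLocalRing.closedPoint k))) ∈ U
    rw [show a.left (IsLocalRing.closedPoint k) = a0 from ha]
    exact ha2
  · rw [Hom.inv_def, Over.comp_left]
    change ι[H].left (a.left (IsLocalRing.closedPoint k)) ∈ U
    rw [show a.left (IsLocalRing.closedPoint k) = a0 from ha]
    exact ha1
  · rw [_root_.inv_inv, inv_mul_cancel_left]

end Groth.Agent.S15596
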