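import Groth.Statements.S15603
import Groth.Agent.Lib.Helper6.GaGm.GmMain

set_option autoImplicit false
universe u
open CategoryTheory MonoidalCategory CartesianMonoidalCategory MonObj GrpObj AlgebraicGeometry
open AlgGrp

namespace Groth.Agent.S15603

/-- Multiplicative case. Let k be a field and consider the affine line minus the origin over k, taken
here as the underlying k-scheme of the multiplicative group. Any two structures of k-group scheme on
it with the same unit section have the same multiplication; in particular a group law on the
punctured line whose identity is the point 1 is the usual multiplication. -/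
theorem result (k : Type u) [Field k]
    (h₁ h₂ : GrpObj (Red.Gm (Spec (CommRingCat.of k)))) (e : h₁.one = h₂.one) : h₁.mul = h₂.mul := by
  have hc : Groth.Agent.Lib.Helper6.GaGm.cR k h₁ (𝟙 (CommRingCat.of k)) =
      Groth.Agent.Lib.Helper6.GaGm.cR k h₂ (𝟙 (CommRingCat.of k)) := by
    unfold Groth.Agent.Lib.Helper6.GaGm.cR
    rw [e]
  have h1 := Groth.Agent.Lib.Helper6.GaGm.unitOfPt_mul_eq k h₁
  have h2 := Groth.Agent.Lib.Helper6.GaGm.unitOfPt_mul_eq k h₂
  rw [hc] at h1
  have h3 : GmPts.unitOfPt h₁.mul = GmPts.unitOfPt h₂.mul := Units.ext (h1.trans h2.symm)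
  rw [← GmPts.ptOfUnit_unitOfPt h₁.mul, h3, GmPts.ptOfUnit_unitOfPt]

end Groth.Agent.S15603
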