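import Groth.Statements.S15604
import Groth.Agent.Lib.Helper2.Sch.ReducedImageSmooth


set_option autoImplicit false
universe u
open CategoryTheory MonoidalCategory CartesianMonoidalCategory MonObj GrpObj AlgebraicGeometry
open AlgGrp

namespace Groth.Agent.S15604

/-- Let k be a field and f : G ⟶ G' a homomorphism of k-group schemes of finite type, with G smooth over
k. The image of f is closed (not asserted here); with its reduced induced structure it is smooth
over k: every reduced closed subscheme H of G' whose underlying set is the set-theoretic image of f
is smooth over k. -/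
theorem result (k : Type u) [Field k]
    (G G' : Over (Spec (CommRingCat.of k))) [GrpObj G] [GrpObj G'] [Smooth G.hom] [QuasiCompact G.hom]
    [LocallyOfFiniteType G'.hom] [QuasiCompact G'.hom] (f : G ⟶ G') [IsMonHom f]
    (H : Scheme.{u}) (i : H ⟶ G'.left) [IsClosedImmersion i] [IsReduced H]
    (hH : Set.range i.base = Set.range f.left.base) : Smooth (i ≫ G'.hom) := by
  have hH' : Set.range i = Set.range f.left := hH
  haveI : IsClosedImmersion (Over.homMk (U := Over.mk (i ≫ G'.hom)) (V := G') i rfl).left :=
    ‹IsClosedImmersion i›
  haveI : IsReduced (Over.mk (i ≫ G'.hom)).left := ‹IsReduced H›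
  exact Groth.Agent.Helper2.RedImage.smooth_of_range_eq (Hk := Over.mk (i ≫ G'.hom)) f
    (Over.homMk i rfl) hH'

end Groth.Agent.S15604
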