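import Groth.Statements.S15605
import Mathlib

set_option autoImplicit false
universe u
open TensorProduct
open AGF

namespace Groth.Agent.S15605

/-- Affine form. Let k be a field, A and A' finitely generated commutative k-algebras and S, S' sets of
k-algebra homomorphisms A → k, A' → k. The closure of a set of rational points of Spec A is cut out
by the intersection of their kernels. Compatibility of these closures with products: in A ⊗_k A',
the intersection over (σ, σ') ∈ S × S' of the kernels of σ ⊗ σ' : A ⊗_k A' → k equals the ideal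
generated by the images of ⋂_{σ} ker σ and of ⋂_{σ'} ker σ'. -/
theorem result (k A A' : Type u) [Field k] [CommRing A] [Algebra k A]
    [Algebra.FiniteType k A] [CommRing A'] [Algebra k A'] [Algebra.FiniteType k A']
    (S : Set (A →ₐ[k] k)) (S' : Set (A' →ₐ[k] k)) :
    (⨅ σ ∈ S, ⨅ σ' ∈ S', RingHom.ker ((Algebra.TensorProduct.lmul' (S := k) k).comp
        (Algebra.TensorProduct.map σ σ'))) =
      Ideal.map (Algebra.TensorProduct.includeLeft : A →ₐ[k] A ⊗[k] A') (⨅ σ ∈ S, RingHom.ker σ) ⊔
        Ideal.map (Algebra.TensorProduct.includeRight : A' →ₐ[k] A ⊗[k] A') (⨅ σ' ∈ S', RingHom.ker σ') := by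
  classical
  set I : Ideal A := ⨅ σ ∈ S, RingHom.ker σ with hI
  set I' : Ideal A' := ⨅ σ' ∈ S', RingHom.ker σ' with hI'
  have hIσ : ∀ σ ∈ S, ∀ a ∈ I, σ a = 0 := by
    intro σ hσ a ha
    have : a ∈ RingHom.ker σ := (Ideal.mem_iInf.mp (Ideal.mem_iInf.mp ha σ)) hσ
    exact this
  have hIσ' : ∀ σ' ∈ S', ∀ a ∈ I', σ' a = 0 := by
    intro σ' hσ' a ha
    have : a ∈ RingHom.ker σ' := (Ideal.mem_iInf.mp (Ideal.mem_iInf.mp ha σ')) hσ'
    exact this
  have hI_mem : ∀ a : A, (∀ σ ∈ S, σ a = 0) → a ∈ I := by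
    intro a ha
    simp only [hI, Ideal.mem_iInf]
    exact fun σ hσ => ha σ hσ
  have hI'_mem : ∀ a : A', (∀ σ' ∈ S', σ' a = 0) → a ∈ I' := by
    intro a ha
    simp only [hI', Ideal.mem_iInf]
    exact fun σ hσ => ha σ hσ
  let q : A →ₐ[k] A ⧸ I := Ideal.Quotient.mkₐ k I
  let q' : A' →ₐ[k] A' ⧸ I' := Ideal.Quotient.mkₐ k I'
  have hq : Function.Surjective q := Ideal.Quotient.mkₐ_surjective k I
  have hq' : Function.Surjective q' := Ideal.Quotient.mkₐ_surjective k I'
  have hker := Algebra.TensorProduct.map_ker (R := k) (S := k) q q' hq hq'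
  have hkq : RingHom.ker q = I := Ideal.Quotient.mkₐ_ker k I
  have hkq' : RingHom.ker q' = I' := Ideal.Quotient.mkₐ_ker k I'
  rw [hkq, hkq'] at hker
  rw [← hker]
  -- induced characters on the quotients
  let τ : ∀ σ : S, (A ⧸ I) →ₐ[k] k := fun σ => Ideal.Quotient.liftₐ I σ.1 (hIσ σ.1 σ.2)
  let τ' : ∀ σ' : S', (A' ⧸ I') →ₐ[k] k := fun σ' => Ideal.Quotient.liftₐ I' σ'.1 (hIσ' σ'.1 σ'.2)
  have hτ : ∀ (σ : S) (a : A), τ σ (q a) = σ.1 a := fun σ a => rfl
  have hτ' : ∀ (σ' : S') (a : A'), τ' σ' (q' a) = σ'.1 a := fun σ' a => rfl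
  have hfac : ∀ (σ : S) (σ' : S') (z : A ⊗[k] A'),
      (Algebra.TensorProduct.lmul' (S := k) k).comp (Algebra.TensorProduct.map (τ σ) (τ' σ'))
        (Algebra.TensorProduct.map q q' z) =
      (Algebra.TensorProduct.lmul' (S := k) k).comp (Algebra.TensorProduct.map σ.1 σ'.1) z := by
    intro σ σ' z
    induction z using TensorProduct.induction_on with
    | zero => simp
    | tmul a b => simp [hτ, hτ']
    | add x y hx hy => rw [map_add, map_add, map_add, hx, hy]
  ext z
  simp only [Ideal.mem_iInf, RingHom.mem_ker]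
  constructor
  · intro hz
    -- write the image in terms of a basis of the second factor
    let 𝒞 := Module.Free.chooseBasis k (A' ⧸ I')
    set w := Algebra.TensorProduct.map q q' z with hw
    set c := TensorProduct.equivFinsuppOfBasisRight (M := A ⧸ I) 𝒞 w with hc
    have hwc : w = c.sum fun i m => m ⊗ₜ[k] 𝒞 i := by
      rw [← TensorProduct.equivFinsuppOfBasisRight_symm_apply, hc, LinearEquiv.symm_apply_apply]
    have hc0 : c = 0 := by
      ext i
      simp only [Finsupp.coe_zero, Pi.zero_apply]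
      -- `c i` is killed by every character
      obtain ⟨a, ha⟩ := hq (c i)
      rw [← ha]
      have : a ∈ I := by
        apply hI_mem
        intro σ hσ
        -- the element `y` of the second factor
        have hy : ∀ (σ' : A' →ₐ[k] k) (hσ' : σ' ∈ S'), (τ' ⟨σ', hσ'⟩)
            (c.sum fun j m => (τ ⟨σ, hσ⟩ m) • 𝒞 j) = 0 := by
          intro σ' hσ'
          have h1 := hfac ⟨σ, hσ⟩ ⟨σ', hσ'⟩ z
          rw [hz σ hσ σ' hσ', ← hw, hwc] at h1
          rw [← h1]
          simp only [Finsupp.sum, map_sum, AlgHom.comp_apply, Algebra.TensorProduct.map_tmul,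
            Algebra.TensorProduct.lmul'_apply_tmul, map_smul, smul_eq_mul]
        have hy0 : (c.sum fun j m => (τ ⟨σ, hσ⟩ m) • 𝒞 j) = 0 := by
          obtain ⟨b, hb⟩ := hq' (c.sum fun j m => (τ ⟨σ, hσ⟩ m) • 𝒞 j)
          have hbI : b ∈ I' := by
            apply hI'_mem
            intro σ' hσ'
            have := hy σ' hσ'
            rw [← hb] at this
            exact this
          rw [← hb]
          exact (Ideal.Quotient.eq_zero_iff_mem).mpr hbI
        have hli := 𝒞.linearIndependent
        have h2 : (Finsupp.linearCombination k 𝒞) (c.mapRange (τ ⟨σ, hσ⟩) (map_zero _)) = 0 := by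
          rw [Finsupp.linearCombination_apply, Finsupp.sum_mapRange_index (by simp)]
          exact hy0
        have h3 := (linearIndependent_iff.mp hli) _ h2
        have h4 := DFunLike.congr_fun h3 i
        simp only [Finsupp.mapRange_apply, Finsupp.coe_zero, Pi.zero_apply] at h4
        rw [← ha] at h4
        exact h4
      exact (Ideal.Quotient.eq_zero_iff_mem).mpr this
    rw [hwc, hc0]
    simp
  · intro hz σ hσ σ' hσ'
    rw [← hfac ⟨σ, hσ⟩ ⟨σ', hσ'⟩ z, hz, map_zero]

end Groth.Agent.S15605
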