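import Groth.Statements.S15610
import Mathlib
import Groth.Prelude.Def_SchFin
import Groth.Agent.Lib.Helper8.SpecConn
-- import your own Groth.Agent.* helpers here

set_option autoImplicit false
universe u
open SchFin SchFin.RSpace

namespace Groth.Agent.S15610

namespace Aux
open SchFin Groth.Agent.Helper8

theorem conn_iff (X : RSpace.{u}) (hpw : X.IsPwConnected) :
    X.IsConnected ↔ X.IsTopConnected := by
  unfold RSpace.IsConnected RSpace.IsTopConnected
  rw [connectedSpace_primeSpectrum_iff]
  have hnt : ∀ p : X.pt, Nontrivial (X.ring p) := fun p =>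
    ((connectedSpace_primeSpectrum_iff _).mp (hpw p)).1
  have hid : ∀ (p : X.pt) (e : X.ring p), IsIdempotentElem e → e = 0 ∨ e = 1 := fun p =>
    ((connectedSpace_primeSpectrum_iff _).mp (hpw p)).2
  constructor
  · rintro ⟨hN, hE⟩
    have hne : Nonempty X.pt := by
      by_contra h
      rw [not_nonempty_iff] at h
      obtain ⟨a, b, hab⟩ := hN
      apply hab
      apply Subtype.ext
      funext q
      exact (h.false q.1).elim
    refine ⟨hne, fun p q => ?_⟩
    classical
    let ef : (q : (Set.univ : Set X.pt)) → X.ring q.1 :=
      fun q => if Relation.EqvGen (fun a b : X.pt => a ≤ b) p q.1 then 1 else 0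
    have hmem : ef ∈ X.sectRing Set.univ := by
      intro q q' h
      have hiff : Relation.EqvGen (fun a b : X.pt => a ≤ b) p q.1 ↔
          Relation.EqvGen (fun a b : X.pt => a ≤ b) p q'.1 :=
        ⟨fun hq => hq.trans _ _ _ (Relation.EqvGen.rel _ _ h),
         fun hq => hq.trans _ _ _ ((Relation.EqvGen.rel _ _ h).symm _ _)⟩
      by_cases hq : Relation.EqvGen (fun a b : X.pt => a ≤ b) p q.1
      · simp only [ef, if_pos hq, if_pos (hiff.mp hq), map_one]
      · simp only [ef, if_neg hq, if_neg (fun h' => hq (hiff.mpr h')), map_zero]
    let e : X.sectRing Set.univ := ⟨ef, hmem⟩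
    have he : IsIdempotentElem e := by
      apply Subtype.ext
      funext q
      show ef q * ef q = ef q
      by_cases hq : Relation.EqvGen (fun a b : X.pt => a ≤ b) p q.1
      · simp only [ef, if_pos hq, mul_one]
      · simp only [ef, if_neg hq, mul_zero]
    have hp : ef ⟨p, trivial⟩ = 1 := by
      simp only [ef, if_pos (Relation.EqvGen.refl p)]
    rcases hE e he with h0 | h1
    · exfalso
      have : ef ⟨p, trivial⟩ = 0 := congrFun (congrArg Subtype.val h0) ⟨p, trivial⟩
      rw [hp] at this
      exact one_ne_zero this
    · have : ef ⟨q, trivial⟩ = 1 := congrFun (congrArg Subtype.val h1) ⟨q, trivial⟩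
      by_contra hq
      simp only [ef, if_neg hq] at this
      exact zero_ne_one this
  · rintro ⟨⟨p0⟩, hE⟩
    refine ⟨⟨0, 1, fun h => ?_⟩, fun e he => ?_⟩
    · have : (0 : X.ring p0) = 1 := congrFun (congrArg Subtype.val h) ⟨p0, trivial⟩
      exact zero_ne_one this
    · have hq : ∀ q : (Set.univ : Set X.pt), e.1 q = 0 ∨ e.1 q = 1 := fun q =>
        hid q.1 (e.1 q) (congrFun (congrArg Subtype.val he) q)
      have hcompat : ∀ (a b : X.pt), a ≤ b → (e.1 ⟨a, trivial⟩ = 1 ↔ e.1 ⟨b, trivial⟩ = 1) := by
        intro a b hab
        have hr : X.res hab (e.1 ⟨a, trivial⟩) = e.1 ⟨b, trivial⟩ := e.2 ⟨a, trivial⟩ ⟨b, trivial⟩ hab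
        constructor
        · intro h1; rw [← hr, h1, map_one]
        · intro h1
          rcases hq ⟨a, trivial⟩ with h0 | h0
          · rw [h0, map_zero] at hr
            rw [h1] at hr
            exact (zero_ne_one hr).elim
          · exact h0
      have hall : ∀ (a b : X.pt), Relation.EqvGen (fun a b : X.pt => a ≤ b) a b →
          (e.1 ⟨a, trivial⟩ = 1 ↔ e.1 ⟨b, trivial⟩ = 1) := by
        intro a b hab
        induction hab with
        | rel a b h => exact hcompat a b h
        | refl a => exact Iff.rfl
        | symm a b _ ih => exact ih.symm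
        | trans a b c _ _ ih1 ih2 => exact ih1.trans ih2
      rcases hq ⟨p0, trivial⟩ with h0 | h1
      · left
        apply Subtype.ext
        funext q
        rcases hq q with h | h
        · exact h
        · exfalso
          have := (hall q.1 p0 (hE q.1 p0)).mp h
          rw [h0] at this
          exact zero_ne_one this
      · right
        apply Subtype.ext
        funext q
        exact (hall p0 q.1 (hE p0 q.1)).mp h1

theorem main (X : RSpace.{u}) :
    X.IsWellConnected ↔ (X.IsTopConnected ∧ X.IsPwConnected) := by
  unfold RSpace.IsWellConnected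
  constructor
  · rintro ⟨h1, h2⟩; exact ⟨(conn_iff X h2).mp h1, h2⟩
  · rintro ⟨h1, h2⟩; exact ⟨(conn_iff X h2).mpr h1, h2⟩
end Aux

open SchFin in
/-- A schematic finite space is well-connected (the prime spectrum of its ring of global sections is
connected and the prime spectrum of the ring of each point is connected) if and only if its poset of
points is non-empty and connected and the prime spectrum of the ring of each point is connected. -/
theorem result (X : RSpace.{u})
    (hX : X.IsSchematic) : X.IsWellConnected ↔ (X.IsTopConnected ∧ X.IsPwConnected) := by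
  exact Aux.main X

end Groth.Agent.S15610
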