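import Groth.Statements.S15634
import Mathlib
import Groth.Prelude.Def_SchFin
-- import your own Groth.Agent.* helpers here

set_option autoImplicit false
universe u
open SchFin SchFin.RSpace

namespace Groth.Agent.S15634

namespace Aux
open SchFin TensorProduct

theorem epi_of_isBCAlong {R S : Type u} [CommRing R] [CommRing S] (g : R →+* S) {M N : Type u}
    [AddCommGroup M] [AddCommGroup N] [Module R M] [Module S N] (f : M →ₛₗ[g] N)
    (h : IsBCAlong g f) (ev : M →+ S) (hev : ∀ (r : R) (m : M), ev (r • m) = g r * ev m)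
    (m1 : M) (ms : S → M) (hev1 : ev m1 = 1) (hevs : ∀ s, ev (ms s) = s)
    (hf : ∀ s : S, s • f m1 = f (ms s))
    {T : Type u} [CommRing T] (g₁ g₂ : S →+* T) (hg : g₁.comp g = g₂.comp g) : g₁ = g₂ := by
  letI : Algebra R S := g.toAlgebra
  letI : Module R N := Module.compHom N g
  haveI : IsScalarTower R S N := IsScalarTower.of_algebraMap_smul fun _ _ => rfl
  have h' : IsBaseChange S
      ({ toFun := f, map_add' := f.map_add, map_smul' := f.map_smulₛₗ } : M →ₗ[R] N) := h
  ext s
  let B : S →+ M →+ T :=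
    ((AddMonoidHom.mul).comp g₁.toAddMonoidHom).compl₂ (g₂.toAddMonoidHom.comp ev)
  have hB : ∀ (r : R) (a : S) (m : M), B (r • a) m = B a (r • m) := by
    intro r a m
    show g₁ (r • a) * g₂ (ev m) = g₁ a * g₂ (ev (r • m))
    rw [hev, map_mul, Algebra.smul_def, map_mul]
    have : g₁ (g r) = g₂ (g r) := RingHom.congr_fun hg r
    show g₁ (g r) * g₁ a * g₂ (ev m) = g₁ a * (g₂ (g r) * g₂ (ev m))
    rw [this]; ring
  have key : s ⊗ₜ[R] m1 = (1 : S) ⊗ₜ[R] ms s := by
    apply h'.equiv.injective
    rw [IsBaseChange.equiv_tmul, IsBaseChange.equiv_tmul, one_smul]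
    exact hf s
  have := congrArg (TensorProduct.liftAddHom B hB) key
  rw [TensorProduct.liftAddHom_tmul, TensorProduct.liftAddHom_tmul] at this
  have e : g₁ s * g₂ (ev m1) = g₁ 1 * g₂ (ev (ms s)) := this
  rw [hev1, hevs, map_one, map_one, mul_one, one_mul] at e
  exact e


variable (X : RSpace.{u}) {x y : X.pt} (h : x ≤ y)

/-- the one-point chain at a point of `U` -/
def pt0 {U : Set X.pt} (q : U) : Chain U 0 :=
  OrderEmbedding.ofMapLEIff (fun _ => q) (fun a b => by
    have : a = b := Fin.ext (by omega)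
    subst this; simp)

/-- the "constant" cochain attached to `s ∈ 𝒪_y` on a set of points above `y` -/
def cst {R : Type u} [CommRing R] {U : Set X.pt} (φ : Coef X U R) (hU : ∀ q ∈ U, y ≤ q)
    (s : X.ring y) : Cochain φ X.str 0 :=
  fun σ => X.res (hU _ (σ (Fin.last 0)).2) s

lemma cst_mem {R : Type u} [CommRing R] {U : Set X.pt} (φ : Coef X U R) (hU : ∀ q ∈ U, y ≤ q)
    (s : X.ring y) : cst X φ hU s ∈ cocycles φ X.str 0 := by
  show diff φ X.str 0 (cst X φ hU s) = 0
  funext σ
  show (∑ j : Fin 2, ((-1 : ℤ) ^ (j : ℕ)) • (cst X φ hU s).faceVal σ j) = 0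
  rw [Fin.sum_univ_two]
  have e : ∀ j : Fin 2, (cst X φ hU s).faceVal σ j = X.res (hU _ (σ (Fin.last 1)).2) s := by
    intro j
    exact X.res_comp _ _ s
  rw [e, e]
  have key : ∀ a : X.str.carrier (σ (Fin.last 1)).1,
      ((-1 : ℤ) ^ ((0 : Fin 2) : ℕ)) • a + ((-1 : ℤ) ^ ((1 : Fin 2) : ℕ)) • a = 0 := fun a => by
    simp
  exact key _


theorem main (hX : X.IsSchematic) {T : Type u} [CommRing T] (g₁ g₂ : X.ring y →+* T)
    (hg : g₁.comp (X.res h) = g₂.comp (X.res h)) : g₁ = g₂ := by
  have hbc := (hX.2.2 0 x y h y y le_rfl).1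
  set φ := Coef.ofLE x ((Hom.id X).wedge x y) ((Hom.id X).wedge_subset_up x y) with hφ
  set φ' := Coef.ofLE y ((Hom.id X).wedge y y) ((Hom.id X).wedge_subset_up y y) with hφ'
  have hU : ∀ q ∈ (Hom.id X).wedge x y, y ≤ q := fun q hq => hq.2
  have hU' : ∀ q ∈ (Hom.id X).wedge y y, y ≤ q := fun q hq => hq.2
  let y0 : (Hom.id X).wedge x y := ⟨y, h, le_rfl⟩
  letI : Module (X.ring x) (X.ring y) := Module.compHom _ (X.res h)
  let evc : Cochain φ X.str 0 →ₗ[X.ring x] X.ring y :=
    { toFun := fun c => c (pt0 X y0), map_add' := fun _ _ => rfl, map_smul' := fun r c => rfl }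
  let evL : H φ X.str 0 →ₗ[X.ring x] X.ring y :=
    Submodule.liftQ _ (evc ∘ₗ (cocycles φ X.str 0).subtype) (by
      intro c hc
      have : c.1 = 0 := hc
      show evc c.1 = 0
      rw [this, map_zero])
  refine epi_of_isBCAlong (X.res h) _ hbc evL.toAddMonoidHom (fun r m => evL.map_smul r m)
    (H.mk φ X.str 0 ⟨cst X φ hU 1, cst_mem X φ hU 1⟩)
    (fun s => H.mk φ X.str 0 ⟨cst X φ hU s, cst_mem X φ hU s⟩) ?_ ?_ ?_ g₁ g₂ hg
  · show X.res _ 1 = 1
    exact map_one _
  · intro s
    exact X.res_self y s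
  · intro s
    show s • H.mk φ' X.str 0 ⟨_, _⟩ = H.mk φ' X.str 0 ⟨_, _⟩
    rw [← map_smul]
    congr 1
    apply Subtype.ext
    funext τ
    show X.res _ s * X.res _ 1 = X.res _ s
    rw [map_one, mul_one]

end Aux

open SchFin in
/-- In a schematic finite space the restriction maps of rings along x ≤ y are epimorphisms of rings: two
ring maps out of the ring of y into a commutative ring which agree after composition with the
restriction map from the ring of x are equal. (The published statement also asserts flatness of the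
restriction maps, which here is part of the standing finite-space condition, and a second clause for
affine spaces recalled without proof; only the epimorphism clause, the degree-zero case of the
schematic condition, is stated.) -/
theorem result (X : RSpace.{u}) (hX : X.IsSchematic) {x y : X.pt} (h : x ≤ y)
    {T : Type u} [CommRing T] (g₁ g₂ : X.ring y →+* T) (hg : g₁.comp (X.res h) = g₂.comp (X.res h)) :
    g₁ = g₂ := by
  exact Aux.main X h hX g₁ g₂ hg

end Groth.Agent.S15634
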