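import Groth.Statements.S15611
import Mathlib
import Groth.Prelude.Def_SchFin
import Groth.Agent.S15634
-- import your own Groth.Agent.* helpers here

set_option autoImplicit false
universe u
open SchFin SchFin.RSpace

namespace Groth.Agent.S15611

namespace Aux
open SchFin TensorProduct

/-- faithfully flat + epi ⇒ bijective -/
theorem bij_of_ff_epi {A B : Type u} [CommRing A] [CommRing B] [Algebra A B]
    [Module.FaithfullyFlat A B]
    (hepi : ∀ {T : Type u} [CommRing T] (g₁ g₂ : B →+* T),
      g₁.comp (algebraMap A B) = g₂.comp (algebraMap A B) → g₁ = g₂) :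
    Function.Bijective (algebraMap A B) := by
  refine ⟨FaithfulSMul.algebraMap_injective A B, ?_⟩
  have h1 : ∀ b : B, (1 : B) ⊗ₜ[A] b = b ⊗ₜ[A] 1 := by
    intro b
    have := hepi (T := B ⊗[A] B) (Algebra.TensorProduct.includeRight (R := A) (A := B) (B := B)).toRingHom
      (Algebra.TensorProduct.includeLeft (R := A) (S := A) (A := B) (B := B)).toRingHom (by
        ext a
        simp [Algebra.TensorProduct.algebraMap_apply, Algebra.algebraMap_eq_smul_one, smul_tmul])
    exact RingHom.congr_fun this b
  have hs : Function.Surjective ((Algebra.linearMap A B).lTensor B) := by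
    intro z
    induction z using TensorProduct.induction_on with
    | zero => exact ⟨0, map_zero _⟩
    | tmul u v =>
      refine ⟨(u * v) ⊗ₜ 1, ?_⟩
      rw [LinearMap.lTensor_tmul, Algebra.linearMap_apply, map_one]
      calc (u * v) ⊗ₜ[A] (1 : B) = u ⊗ₜ[A] 1 * v ⊗ₜ[A] 1 := by simp
        _ = u ⊗ₜ[A] 1 * 1 ⊗ₜ[A] v := by rw [h1]
        _ = u ⊗ₜ[A] v := by simp
    | add a b ha hb =>
      obtain ⟨a', rfl⟩ := ha
      obtain ⟨b', rfl⟩ := hb
      exact ⟨a' + b', map_add _ _ _⟩
  exact (Module.FaithfullyFlat.lTensor_surjective_iff_surjective A B _).mp hs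

theorem bij_of_flat_epi {R S : Type u} [CommRing R] [CommRing S] (f : R →+* S) (hf : f.Flat)
    (hepi : ∀ {T : Type u} [CommRing T] (g₁ g₂ : S →+* T), g₁.comp f = g₂.comp f → g₁ = g₂)
    (P : Ideal S) [P.IsPrime] :
    Function.Bijective (Localization.localRingHom (P.comap f) P f rfl) := by
  have hφ : (Localization.localRingHom (P.comap f) P f rfl).Flat := hf.localRingHom P _ rfl
  algebraize [Localization.localRingHom (P.comap f) P f rfl]
  have : IsLocalHom (algebraMap (Localization.AtPrime (P.comap f)) (Localization.AtPrime P)) :=
    Localization.isLocalHom_localRingHom _ _ _ rfl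
  have : Module.FaithfullyFlat (Localization.AtPrime (P.comap f)) (Localization.AtPrime P) :=
    Module.FaithfullyFlat.of_flat_of_isLocalHom
  refine bij_of_ff_epi (A := Localization.AtPrime (P.comap f)) (B := Localization.AtPrime P) ?_
  intro T _ g₁ g₂ hg
  apply IsLocalization.ringHom_ext P.primeCompl
  apply hepi
  ext r
  have := RingHom.congr_fun hg (algebraMap R _ r)
  simp only [RingHom.comp_apply] at this ⊢
  rw [RingHom.algebraMap_toAlgebra, Localization.localRingHom_to_map] at this
  exact this


theorem main (X : RSpace.{u}) (hX : X.IsSchematic)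
    {x y : X.pt} (h : x ≤ y) (P : Ideal (X.ring y)) [P.IsPrime] :
    Function.Bijective (Localization.localRingHom (P.comap (X.res h)) P (X.res h) rfl) :=
  bij_of_flat_epi (X.res h) (hX.1.2 x y h)
    (fun g₁ g₂ hg => Groth.Agent.S15634.Aux.main X h hX g₁ g₂ hg) P

end Aux

open SchFin in
/-- In a schematic finite space, for points x ≤ y and a prime P of the ring of y, with Q its contraction
to the ring of x, the restriction map induces a bijection from the localization of the ring of x at
Q onto the localization of the ring of y at P. (Stated for the rings of the space themselves; the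
published statement is the corresponding identification of localizations for the values of any
quasi-coherent algebra, which follows from this case by base change.) -/
theorem result (X : RSpace.{u}) (hX : X.IsSchematic)
    {x y : X.pt} (h : x ≤ y) (P : Ideal (X.ring y)) [P.IsPrime] :
    Function.Bijective (Localization.localRingHom (P.comap (X.res h)) P (X.res h) rfl) := by
  exact Aux.main X hX h P

end Groth.Agent.S15611
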