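import Groth.Statements.S15612
import Mathlib
import Groth.Prelude.Def_SchFin
import Groth.Prelude.Def_SchFin2
import Groth.Agent.S15611
-- import your own Groth.Agent.* helpers here

set_option autoImplicit false
universe u
open SchFin SchFin.RSpace SchFin.RSpace.Pair

namespace Groth.Agent.S15612

namespace Aux
open SchFin TensorProduct

theorem resmap_bij {A B : Type u} [CommRing A] [CommRing B] [IsLocalRing A] [IsLocalRing B]
    (f : A →+* B) [IsLocalHom f] (hf : Function.Bijective f) :
    Function.Bijective (IsLocalRing.ResidueField.map f) := by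
  refine ⟨RingHom.injective _, ?_⟩
  intro z
  obtain ⟨b, rfl⟩ := IsLocalRing.residue_surjective z
  obtain ⟨a, rfl⟩ := hf.2 b
  exact ⟨IsLocalRing.residue A a, IsLocalRing.ResidueField.map_residue f a⟩

theorem main (X : RSpace.{u}) (hX : X.IsSchematic) (a b : X.Pair)
    (h : a.1 ≤ b.1) (hp : PrimeSpectrum.comap (X.res h) b.2 = a.2) :
    Function.Bijective (RSpace.Pair.κMap a b h hp) := by
  obtain ⟨x, P⟩ := a
  obtain ⟨y, Q⟩ := b
  change x ≤ y at h
  change PrimeSpectrum.comap (X.res h) Q = P at hp
  subst hp
  exact resmap_bij _ (Groth.Agent.S15611.Aux.main X hX h Q.asIdeal)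

end Aux

open SchFin in
/-- In a schematic finite space, for a pair (x, P) below a pair (y, Q) (x ≤ y and P the contraction of
the prime Q along the restriction map of rings) the induced map of residue fields from that of (x,
P) to that of (y, Q) is bijective. -/
theorem result (X : RSpace.{u}) (hX : X.IsSchematic) (a b : X.Pair)
    (h : a.1 ≤ b.1) (hp : PrimeSpectrum.comap (X.res h) b.2 = a.2) :
    Function.Bijective (RSpace.Pair.κMap a b h hp) := by
  exact Aux.main X hX a b h hp

end Groth.Agent.S15612
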