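import Groth.Statements.S15613
import Mathlib
import Groth.Prelude.Def_SchFin
import Groth.Prelude.Def_SchFin2
import Groth.Agent.S15611
-- import your own Groth.Agent.* helpers here

set_option autoImplicit false
universe u
open SchFin SchFin.GeomPt

namespace Groth.Agent.S15613

namespace Aux
open SchFin TensorProduct

theorem false_of_isBCAlong {R S : Type u} [CommRing R] [CommRing S] (g : R →+* S) {M N : Type u}
    [AddCommGroup M] [AddCommGroup N] [Module R M] [Module S N] (f : M →ₛₗ[g] N)
    (h : IsBCAlong g f) [Subsingleton N] {Ω : Type u} [CommRing Ω] [Nontrivial Ω]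
    (ψ : S →+* Ω) (ev : M →+ Ω) (hev : ∀ (r : R) (m : M), ev (r • m) = ψ (g r) * ev m)
    (m1 : M) (hev1 : ev m1 = 1) : False := by
  letI : Algebra R S := g.toAlgebra
  letI : Module R N := Module.compHom N g
  haveI : IsScalarTower R S N := IsScalarTower.of_algebraMap_smul fun _ _ => rfl
  have h' : IsBaseChange S
      ({ toFun := f, map_add' := f.map_add, map_smul' := f.map_smulₛₗ } : M →ₗ[R] N) := h
  let B : S →+ M →+ Ω :=
    ((AddMonoidHom.mul).comp ψ.toAddMonoidHom).compl₂ ev
  have hB : ∀ (r : R) (a : S) (m : M), B (r • a) m = B a (r • m) := by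
    intro r a m
    show ψ (r • a) * ev m = ψ a * ev (r • m)
    rw [hev, Algebra.smul_def, map_mul]
    show ψ (g r) * ψ a * ev m = ψ a * (ψ (g r) * ev m)
    ring
  have key : (1 : S) ⊗ₜ[R] m1 = 0 := by
    apply h'.equiv.injective
    exact Subsingleton.elim _ _
  have := congrArg (TensorProduct.liftAddHom B hB) key
  rw [TensorProduct.liftAddHom_tmul, map_zero] at this
  have e : ψ 1 * ev m1 = 0 := this
  rw [hev1, map_one, mul_one] at e
  exact one_ne_zero e

/-- the one-point chain at a point of `U` -/
def pt0 {X : RSpace.{u}} {U : Set X.pt} (q : U) : Chain U 0 :=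
  OrderEmbedding.ofMapLEIff (fun _ => q) (fun a b => by
    have : a = b := Fin.ext (by omega)
    subst this; simp)

theorem main (X : RSpace.{u}) (hX : X.IsSchematic) {Ω : Type u} [Field Ω]
    [IsAlgClosed Ω] (ξ : GeomPt X Ω) {x' : X.pt} (hx : ξ.base < x') (P : Ideal (X.ring x')) [P.IsPrime] :
    P.comap (X.res hx.le) ≠ RingHom.ker ξ.toField := by
  intro hker
  -- the ring map ψ : 𝒪_{x'} → Ω extending toField
  have hbij := Groth.Agent.S15611.Aux.main X hX hx.le P
  let e := RingEquiv.ofBijective _ hbij
  have hunit : ∀ y : (P.comap (X.res hx.le)).primeCompl, IsUnit (ξ.toField y) := by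
    intro y
    apply IsUnit.mk0
    intro h0
    apply y.2
    exact (SetLike.ext_iff.mp hker (y : X.ring ξ.base)).mpr h0
  let lam : Localization.AtPrime (P.comap (X.res hx.le)) →+* Ω :=
    IsLocalization.lift (M := (P.comap (X.res hx.le)).primeCompl) (g := ξ.toField) hunit
  let ψ : X.ring x' →+* Ω := lam.comp (e.symm.toRingHom.comp (algebraMap _ (Localization.AtPrime P)))
  have hψ : ∀ r, ψ (X.res hx.le r) = ξ.toField r := by
    intro r
    show lam (e.symm (algebraMap _ (Localization.AtPrime P) (X.res hx.le r))) = _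
    have : e.symm (algebraMap _ (Localization.AtPrime P) (X.res hx.le r)) =
        algebraMap _ (Localization.AtPrime (P.comap (X.res hx.le))) r := by
      rw [RingEquiv.symm_apply_eq]
      exact (Localization.localRingHom_to_map _ _ _ rfl r).symm
    rw [this]
    exact IsLocalization.lift_eq _ _
  have hbc := (ξ.isSchematic.2.2 0 PUnit.unit PUnit.unit le_rfl ξ.base x' hx.le).2
  set φ := Coef.ofHom ξ.hom ξ.base (ξ.hom.wedge PUnit.unit ξ.base)
    (ξ.hom.wedge_subset_pre PUnit.unit ξ.base) with hφ
  set φ' := Coef.ofHom ξ.hom x' (ξ.hom.wedge PUnit.unit x')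
    (ξ.hom.wedge_subset_pre PUnit.unit x') with hφ'
  have hempty : IsEmpty (Chain (ξ.hom.wedge PUnit.unit x') 0) := by
    constructor
    intro σ
    have := (σ 0).2.2
    exact absurd this (not_le_of_gt hx)
  have : Subsingleton (H φ' (RSpace.point Ω).str 0) := by
    have : Subsingleton (Cochain φ' (RSpace.point Ω).str 0) := by
      unfold Cochain; infer_instance
    have : Subsingleton (cocycles φ' (RSpace.point Ω).str 0) := inferInstance
    unfold H; infer_instance
  let y0 : ξ.hom.wedge PUnit.unit ξ.base := ⟨PUnit.unit, le_rfl, le_rfl⟩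
  let evc : Cochain φ (RSpace.point Ω).str 0 →+ Ω :=
    { toFun := fun c => c (pt0 y0), map_add' := fun _ _ => rfl, map_zero' := rfl }
  let evL : H φ (RSpace.point Ω).str 0 →+ Ω :=
    QuotientAddGroup.lift _ (evc.comp (cocycles φ (RSpace.point Ω).str 0).subtype.toAddMonoidHom) (by
      intro c hc
      have : c.1 = 0 := hc
      show evc c.1 = 0
      rw [this, map_zero])
  have hev : ∀ (r : X.ring ξ.base) (m : H φ (RSpace.point Ω).str 0),
      evL (r • m) = ψ (X.res hx.le r) * evL m := by
    intro r m
    obtain ⟨c, rfl⟩ := Submodule.mkQ_surjective _ m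
    rw [hψ]
    have e1 : evL (r • Submodule.mkQ _ c) =
        ξ.toField (X.res (le_refl ξ.base) r) * evL (Submodule.mkQ _ c) := rfl
    exact e1.trans (by rw [X.res_self])
  have hc1 : (fun _ => (1 : Ω) : Cochain φ (RSpace.point Ω).str 0) ∈
      cocycles φ (RSpace.point Ω).str 0 := by
    show diff φ (RSpace.point Ω).str 0 _ = 0
    funext σ
    exfalso
    have h01 : σ 0 < σ 1 := σ.strictMono (by decide)
    have : (σ 0).1 = (σ 1).1 := (Subsingleton.elim (α := PUnit) _ _)
    exact absurd (Subtype.ext this) (ne_of_lt h01)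
  exact false_of_isBCAlong (X.res hx.le) _ hbc ψ evL hev
    (H.mk φ (RSpace.point Ω).str 0 ⟨_, hc1⟩) rfl

end Aux

open SchFin in
/-- For a geometric point of a schematic finite space with values in an algebraically closed field,
hitting the point x with ring map from the ring of x to the field, the kernel of that ring map does
not lift to any point strictly above x: no prime of the ring of such a point contracts to it along
the restriction map. -/
theorem result (X : RSpace.{u}) (hX : X.IsSchematic) {Ω : Type u} [Field Ω]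
    [IsAlgClosed Ω] (ξ : GeomPt X Ω) {x' : X.pt} (hx : ξ.base < x') (P : Ideal (X.ring x')) [P.IsPrime] :
    P.comap (X.res hx.le) ≠ RingHom.ker ξ.toField := by
  exact Aux.main X hX ξ hx P

end Groth.Agent.S15613
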