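import Groth.Statements.S15614
import Mathlib
import Groth.Prelude.Def_SchFin
import Groth.Prelude.Def_SchFin2
import Groth.Agent.S15611
import Groth.Agent.S15612
import Groth.Agent.Lib.Helper9.SchFinH0
-- import your own Groth.Agent.* helpers here

set_option autoImplicit false
universe u
open SchFin SchFin.RSpace

namespace Groth.Agent.S15614

namespace Aux
open SchFin TensorProduct Groth.Agent.Helper9.SchFinH0

theorem bij_resField (X : RSpace.{u}) (hX : X.IsSchematic) {x y : X.pt} (h : x ≤ y)
    (P : Ideal (X.ring y)) [P.IsPrime] (I : Ideal (X.ring x)) [I.IsPrime]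
    (hI : I = P.comap (X.res h)) :
    Function.Bijective (Ideal.ResidueField.map I P (X.res h) hI) := by
  subst hI
  exact Groth.Agent.S15612.Aux.resmap_bij _ (Groth.Agent.S15611.Aux.main X hX h P)

theorem main (X : RSpace.{u}) (hX : X.IsSchematic)
    (hff : ∀ s a b : X.pt, s ≤ a → s ≤ b → (X.up a ∩ X.up b).Nonempty →
      Module.FaithfullyFlat (X.sectRing (X.up a ∩ X.up b)) ((q : ↥(X.up a ∩ X.up b)) → X.ring q.1))
    {s x y : X.pt} (hx : s ≤ x) (hy : s ≤ y) (P : PrimeSpectrum (X.ring x)) (Q : PrimeSpectrum (X.ring y))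
    (hPQ : PrimeSpectrum.comap (X.res hx) P = PrimeSpectrum.comap (X.res hy) Q) :
    X.PairRel ⟨x, P⟩ ⟨y, Q⟩ := by
  obtain ⟨P, hP⟩ := P
  obtain ⟨Q, hQ⟩ := Q
  have h𝔭Q : P.comap (X.res hx) = Q.comap (X.res hy) := congrArg PrimeSpectrum.asIdeal hPQ
  have : (P.comap (X.res hx)).IsPrime := inferInstance
  -- residue field of the common contraction
  let ex := RingEquiv.ofBijective _ (bij_resField X hX hx P (P.comap (X.res hx)) rfl)
  let ey := RingEquiv.ofBijective _ (bij_resField X hX hy Q (P.comap (X.res hx)) h𝔭Q)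
  let α : X.ring x →+* (P.comap (X.res hx)).ResidueField :=
    ex.symm.toRingHom.comp (algebraMap (X.ring x) P.ResidueField)
  let β : X.ring y →+* (P.comap (X.res hx)).ResidueField :=
    ey.symm.toRingHom.comp (algebraMap (X.ring y) Q.ResidueField)
  have hα : ∀ r, α (X.res hx r) = algebraMap (X.ring s) _ r := by
    intro r
    show ex.symm (algebraMap (X.ring x) P.ResidueField (X.res hx r)) = _
    rw [RingEquiv.symm_apply_eq]
    exact (Ideal.ResidueField.map_algebraMap _ _ _ _ r).symm
  have hβ : ∀ r, β (X.res hy r) = algebraMap (X.ring s) _ r := by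
    intro r
    show ey.symm (algebraMap (X.ring y) Q.ResidueField (X.res hy r)) = _
    rw [RingEquiv.symm_apply_eq]
    exact (Ideal.ResidueField.map_algebraMap _ _ _ _ r).symm
  have hαβ : α.comp (X.res hx) = β.comp (X.res hy) := by
    ext r
    show α (X.res hx r) = β (X.res hy r)
    rw [hα, hβ]
  have hkα : ∀ a, α a = 0 ↔ a ∈ P := by
    intro a
    show ex.symm (algebraMap (X.ring x) P.ResidueField a) = 0 ↔ _
    rw [map_eq_zero_iff _ ex.symm.injective, Ideal.algebraMap_residueField_eq_zero]
  have hkβ : ∀ b, β b = 0 ↔ b ∈ Q := by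
    intro b
    show ey.symm (algebraMap (X.ring y) Q.ResidueField b) = 0 ↔ _
    rw [map_eq_zero_iff _ ey.symm.injective, Ideal.algebraMap_residueField_eq_zero]
  obtain ⟨χ, hχx, hχy⟩ := exists_sect_hom X hx hy hX α β hαβ
  have hne : (X.up x ∩ X.up y).Nonempty := by
    by_contra hemp
    rw [Set.not_nonempty_iff_eq_empty] at hemp
    have h01 : (0 : X.sectRing (X.up x ∩ X.up y)) = 1 := by
      apply Subtype.ext; funext q
      exact absurd (hemp ▸ q.2 : (q : X.pt) ∈ (∅ : Set X.pt)) (Set.notMem_empty _)
    have := congrArg χ h01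
    rw [map_zero, map_one] at this
    exact zero_ne_one this
  have hFF := hff s x y hx hy hne
  let 𝔯 : PrimeSpectrum (X.sectRing (X.up x ∩ X.up y)) := ⟨RingHom.ker χ, RingHom.ker_isPrime χ⟩
  obtain ⟨𝔔, h𝔔⟩ := PrimeSpectrum.comap_surjective_of_faithfullyFlat
    (A := X.sectRing (X.up x ∩ X.up y)) (B := (q : ↥(X.up x ∩ X.up y)) → X.ring q.1) 𝔯
  obtain ⟨⟨z, r⟩, hzr⟩ :=
    (PrimeSpectrum.sigmaToPi_bijective (fun q : ↥(X.up x ∩ X.up y) => X.ring q.1)).surjective 𝔔
  refine ⟨z.1, z.2.1, z.2.2, r, ?_, ?_⟩
  · apply PrimeSpectrum.ext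
    ext a
    show X.res _ a ∈ r.asIdeal ↔ a ∈ P
    rw [← hkα, ← hχx]
    have : (X.res z.2.1 a ∈ r.asIdeal) ↔
        (X.resSect x (X.up x ∩ X.up y) Set.inter_subset_left a) ∈ 𝔯.asIdeal := by
      rw [← h𝔔, ← hzr]
      rfl
    rw [this]
    rfl
  · apply PrimeSpectrum.ext
    ext b
    show X.res _ b ∈ r.asIdeal ↔ b ∈ Q
    rw [← hkβ, ← hχy]
    have : (X.res z.2.2 b ∈ r.asIdeal) ↔
        (X.resSect y (X.up x ∩ X.up y) Set.inter_subset_right b) ∈ 𝔯.asIdeal := by
      rw [← h𝔔, ← hzr]
      rfl
    rw [this]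
    rfl

end Aux

open SchFin in
/-- In a schematic finite space, let x and y be points above a common point s, P a prime of the ring of
x and Q a prime of the ring of y whose contractions to the ring of s agree. Then the pairs (x, P)
and (y, Q) are related: some point above both x and y carries a prime contracting to P and to Q.
(The published statement does not carry the hypothesis that, for every two points that lie above a
common point and whose minimal open sets meet, the product of the rings over the intersection of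
these minimal open sets is faithfully flat over the ring of sections on it; the published proof
obtains this fact from properties of affine schematic spaces recalled there without proof, and this
row carries it explicitly.) -/
theorem result (X : RSpace.{u}) (hX : X.IsSchematic)
    (hff : ∀ s a b : X.pt, s ≤ a → s ≤ b → (X.up a ∩ X.up b).Nonempty →
      Module.FaithfullyFlat (X.sectRing (X.up a ∩ X.up b)) ((q : ↥(X.up a ∩ X.up b)) → X.ring q.1))
    {s x y : X.pt} (hx : s ≤ x) (hy : s ≤ y) (P : PrimeSpectrum (X.ring x)) (Q : PrimeSpectrum (X.ring y))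
    (hPQ : PrimeSpectrum.comap (X.res hx) P = PrimeSpectrum.comap (X.res hy) Q) :
    X.PairRel ⟨x, P⟩ ⟨y, Q⟩ := by
  exact Aux.main X hX hff hx hy P Q hPQ

end Groth.Agent.S15614
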