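import Groth.Statements.S15615
import Mathlib
import Groth.Prelude.Def_SchFin
import Groth.Prelude.Def_SchFin2
import Groth.Agent.S15614
-- import your own Groth.Agent.* helpers here

set_option autoImplicit false
universe u
open SchFin SchFin.RSpace

namespace Groth.Agent.S15615

namespace Aux
open SchFin TensorProduct

theorem comap_res_self (X : RSpace.{u}) (p : X.pt) (r : PrimeSpectrum (X.ring p)) :
    PrimeSpectrum.comap (X.res (le_refl p)) r = r := by
  apply PrimeSpectrum.ext
  ext a
  show X.res _ a ∈ r.asIdeal ↔ a ∈ r.asIdeal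
  rw [X.res_self]

theorem comap_res_comp (X : RSpace.{u}) {p q s : X.pt} (h : p ≤ q) (h' : q ≤ s)
    (r : PrimeSpectrum (X.ring s)) :
    PrimeSpectrum.comap (X.res h) (PrimeSpectrum.comap (X.res h') r) =
      PrimeSpectrum.comap (X.res (h.trans h')) r := by
  apply PrimeSpectrum.ext
  ext a
  show X.res h' (X.res h a) ∈ r.asIdeal ↔ X.res _ a ∈ r.asIdeal
  rw [X.res_comp]

theorem pairRel_refl (X : RSpace.{u}) (a : X.Pair) : X.PairRel a a :=
  ⟨a.1, le_rfl, le_rfl, a.2, comap_res_self X _ _, comap_res_self X _ _⟩

theorem pairRel_symm (X : RSpace.{u}) {a b : X.Pair} (h : X.PairRel a b) : X.PairRel b a := by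
  obtain ⟨z, hx, hy, r, h1, h2⟩ := h
  exact ⟨z, hy, hx, r, h2, h1⟩

theorem main (X : RSpace.{u}) (hX : X.IsSchematic)
    (hff : ∀ s a b : X.pt, s ≤ a → s ≤ b → (X.up a ∩ X.up b).Nonempty →
      Module.FaithfullyFlat (X.sectRing (X.up a ∩ X.up b)) ((q : ↥(X.up a ∩ X.up b)) → X.ring q.1)) :
    Equivalence X.PairRel := by
  refine ⟨pairRel_refl X, pairRel_symm X, ?_⟩
  rintro a b c ⟨z, hx, hy, r, h1, h2⟩ ⟨z', hx', hy', r', h1', h2'⟩
  -- r over b via z, r' over b via z'
  have hrel : X.PairRel ⟨z, r⟩ ⟨z', r'⟩ :=
    Groth.Agent.S15614.Aux.main X hX hff hy hx' r r' (h2.trans h1'.symm)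
  obtain ⟨w, hzw, hz'w, t, ht1, ht2⟩ := hrel
  refine ⟨w, hx.trans hzw, hy'.trans hz'w, t, ?_, ?_⟩
  · rw [← comap_res_comp X hx hzw, show PrimeSpectrum.comap (X.res hzw) t = r from ht1, h1]
  · rw [← comap_res_comp X hy' hz'w, show PrimeSpectrum.comap (X.res hz'w) t = r' from ht2, h2']

end Aux

open SchFin in
/-- In a schematic finite space, the relation on pairs (a point together with a prime of its ring) under
which two pairs are related when some pair at a point above both restricts to each of them is an
equivalence relation. (The published statement does not carry the hypothesis that, for every two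
points that lie above a common point and whose minimal open sets meet, the product of the rings over
the intersection of these minimal open sets is faithfully flat over the ring of sections on it; the
published proof obtains this fact from properties of affine schematic spaces recalled there without
proof, and this row carries it explicitly.) -/
theorem result (X : RSpace.{u}) (hX : X.IsSchematic)
    (hff : ∀ s a b : X.pt, s ≤ a → s ≤ b → (X.up a ∩ X.up b).Nonempty →
      Module.FaithfullyFlat (X.sectRing (X.up a ∩ X.up b)) ((q : ↥(X.up a ∩ X.up b)) → X.ring q.1)) :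
    Equivalence X.PairRel := by
  exact Aux.main X hX hff

end Groth.Agent.S15615
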