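import Groth.Statements.S15616
import Mathlib
import Groth.Prelude.Def_SchFin
import Groth.Prelude.Def_SchFin2
import Groth.Agent.S15615
-- import your own Groth.Agent.* helpers here

set_option autoImplicit false
universe u
open SchFin SchFin.RSpace

namespace Groth.Agent.S15616

namespace Aux
open SchFin TensorProduct Groth.Agent.S15615.Aux

theorem main (X : RSpace.{u}) (hX : X.IsSchematic)
    (hff : ∀ s a b : X.pt, s ≤ a → s ≤ b → (X.up a ∩ X.up b).Nonempty →
      Module.FaithfullyFlat (X.sectRing (X.up a ∩ X.up b)) ((q : ↥(X.up a ∩ X.up b)) → X.ring q.1))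
    (c : X.SchPt) :
    ∃! a : X.Pair, Quot.mk X.PairRel a = c ∧ ∀ b : X.Pair, Quot.mk X.PairRel b = c → b.1 ≤ a.1 := by
  have hE : Equivalence X.PairRel := Groth.Agent.S15615.Aux.main X hX hff
  have hq : ∀ a b : X.Pair, Quot.mk X.PairRel a = Quot.mk X.PairRel b ↔ X.PairRel a b := by
    intro a b
    rw [Quot.eq, hE.eqvGen_iff]
  obtain ⟨a₀, rfl⟩ := Quot.exists_rep c
  -- the witness pair above two related pairs lies in the class
  have hwit : ∀ {a b : X.Pair}, X.PairRel a b → ∃ w : X.Pair, X.PairRel a w ∧ a.1 ≤ w.1 ∧ b.1 ≤ w.1 ∧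
      ∃ (h1 : a.1 ≤ w.1) (h2 : b.1 ≤ w.1), PrimeSpectrum.comap (X.res h1) w.2 = a.2 ∧
        PrimeSpectrum.comap (X.res h2) w.2 = b.2 := by
    rintro a b ⟨z, hx, hy, r, h1, h2⟩
    exact ⟨⟨z, r⟩, ⟨z, hx, le_rfl, r, h1, comap_res_self X _ _⟩, hx, hy, hx, hy, h1, h2⟩
  obtain ⟨m, hm0, hmax⟩ := Finite.exists_le_maximal (p := fun p : X.pt =>
    ∃ b : X.Pair, X.PairRel a₀ b ∧ b.1 = p) (a := a₀.1) ⟨a₀, hE.refl a₀, rfl⟩
  obtain ⟨a, ha0, ham⟩ := hmax.1
  have hprop : ∀ b : X.Pair, X.PairRel a₀ b → b.1 ≤ a.1 := by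
    intro b hb
    obtain ⟨w, haw, h1, h2, -⟩ := hwit (hE.trans (hE.symm ha0) hb)
    have hw : ∃ b : X.Pair, X.PairRel a₀ b ∧ b.1 = w.1 := ⟨w, hE.trans ha0 haw, rfl⟩
    have := hmax.2 hw (ham ▸ h1)
    exact h2.trans (this.trans ham.symm.le)
  refine ⟨a, ⟨((hq _ _).mpr ha0).symm, fun b hb => hprop b ((hq _ _).mp hb.symm)⟩, ?_⟩
  rintro a' ⟨ha', hprop'⟩
  have ha'0 : X.PairRel a₀ a' := (hq _ _).mp ha'.symm
  have hle1 : a'.1 ≤ a.1 := hprop a' ha'0
  have hle2 : a.1 ≤ a'.1 := hprop' a ((hq _ _).mpr ha0).symm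
  have heq : a'.1 = a.1 := le_antisymm hle1 hle2
  obtain ⟨w, haw, -, -, h1, h2, e1, e2⟩ := hwit (hE.trans (hE.symm ha0) ha'0)
  have hwa : w.1 = a.1 := le_antisymm (hprop w (hE.trans ha0 haw)) h1
  obtain ⟨p, P⟩ := a
  obtain ⟨p', P'⟩ := a'
  obtain ⟨z, r⟩ := w
  change p' = p at heq
  change z = p at hwa
  subst heq hwa
  have eP : P = r := e1.symm.trans (comap_res_self X _ _)
  have eP' : P' = r := e2.symm.trans (comap_res_self X _ _)
  rw [eP, eP']

end Aux

open SchFin in
/-- In a schematic finite space every schematic point, that is, every class of pairs (a point with a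
prime of its ring), has exactly one representative whose point lies above the points of all
representatives of the class. (The published statement does not carry the hypothesis that, for every
two points that lie above a common point and whose minimal open sets meet, the product of the rings
over the intersection of these minimal open sets is faithfully flat over the ring of sections on it;
the published proof obtains this fact from properties of affine schematic spaces recalled there
without proof, and this row carries it explicitly.) -/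
theorem result (X : RSpace.{u}) (hX : X.IsSchematic)
    (hff : ∀ s a b : X.pt, s ≤ a → s ≤ b → (X.up a ∩ X.up b).Nonempty →
      Module.FaithfullyFlat (X.sectRing (X.up a ∩ X.up b)) ((q : ↥(X.up a ∩ X.up b)) → X.ring q.1))
    (c : X.SchPt) :
    ∃! a : X.Pair, Quot.mk X.PairRel a = c ∧ ∀ b : X.Pair, Quot.mk X.PairRel b = c → b.1 ≤ a.1 := by
  exact Aux.main X hX hff c

end Groth.Agent.S15616
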