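import Groth.Statements.S15621
import Mathlib
import Groth.Prelude.Def_SchFin
import Groth.Prelude.Def_SchFin2
import Groth.Agent.Lib.Helper9.SF.QuotEt
import Groth.Agent.Lib.Helper9.SF.Coprod
import Groth.Agent.Lib.Helper9.SF.Coeq
-- import your own Groth.Agent.* helpers here

set_option autoImplicit false
universe u
open SchFin SchFin.FEt

namespace Groth.Agent.S15621

open SchFin
namespace Aux
open SchFin TensorProduct CategoryTheory CategoryTheory.Limits H9SF

variable {X : RSpace.{u}}

/-- the unique map from the structure algebra -/
def fromStr (A : Alg X) : Alg.str X ⟶ A :=
  ⟨fun p => Algebra.ofId (X.ring p) (A.carrier p), fun h a => A.res_algebraMap h a⟩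

theorem fromStr_uniq (A : Alg X) (k : Alg.str X ⟶ A) : k = fromStr A := by
  apply Alg.hom_ext
  intro p
  apply AlgHom.ext
  intro r
  exact (k.app p).commutes r

theorem main (X : RSpace.{u}) :
    HasInitial (FEt X) ∧ HasPushouts (FEt X) := by
  constructor
  · let I : FEt X := ⟨Alg.str X, str_isEtCover⟩
    have h1 : ∀ Y : FEt X, Nonempty (I ⟶ Y) := fun Y => ⟨ObjectProperty.homMk (fromStr Y.obj)⟩
    have h2 : ∀ Y : FEt X, Subsingleton (I ⟶ Y) := fun Y => ⟨fun f g => by
      apply ObjectProperty.hom_ext
      exact (fromStr_uniq Y.obj f.hom).trans (fromStr_uniq Y.obj g.hom).symm⟩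
    exact hasInitial_of_unique I
  · haveI := hasBinaryCoproducts_FEt (X := X)
    haveI := hasCoequalizers_FEt (X := X)
    exact hasPushouts_of_hasBinaryCoproducts_of_hasCoequalizers _

end Aux

open SchFin CategoryTheory CategoryTheory.Limits in
/-- For a schematic finite space, the category of étale covers (quasi-coherent algebras whose value at
every point is finite and étale over the ring of that point, with algebra maps compatible with
restriction as morphisms) has an initial object and has pushouts. (In the published statement these
are the initial object and the finite direct sums over a third object of that category, given by the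
rings themselves and by tensor products of algebras.) -/
theorem result (X : RSpace.{u}) (hX : X.IsSchematic) :
    HasInitial (FEt X) ∧ HasPushouts (FEt X) := by
  exact Aux.main X

end Groth.Agent.S15621
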