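import Groth.Statements.S15622
import Mathlib
import Groth.Prelude.Def_SchFin
import Groth.Prelude.Def_SchFin2
-- import your own Groth.Agent.* helpers here

set_option autoImplicit false
universe u
open SchFin SchFin.FEt

namespace Groth.Agent.S15622

namespace Aux
open SchFin TensorProduct CategoryTheory CategoryTheory.Limits

variable {X : RSpace.{u}}

/-- finite product of algebras -/
def piAlg {ι : Type} (A : ι → Alg X) : Alg X where
  carrier p := ∀ i, (A i).carrier p
  res h := RingHom.pi (fun i => ((A i).res h).comp (Pi.evalRingHom _ i))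
  res_algebraMap h a := funext fun i => (A i).res_algebraMap h a
  res_self p b := funext fun i => (A i).res_self p (b i)
  res_comp h h' b := funext fun i => (A i).res_comp h h' (b i)

def proj {ι : Type} (A : ι → Alg X) (i : ι) : piAlg A ⟶ A i :=
  ⟨fun _ => Pi.evalAlgHom _ _ i, fun _ _ => rfl⟩

def lift {ι : Type} (A : ι → Alg X) (B : Alg X) (f : ∀ i, B ⟶ A i) : B ⟶ piAlg A :=
  ⟨fun p => AlgHom.pi (fun i => (f i).app p), fun h b => funext fun i => (f i).compat h b⟩

theorem lift_proj {ι : Type} (A : ι → Alg X) (B : Alg X) (f : ∀ i, B ⟶ A i) (i : ι) :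
    lift A B f ≫ proj A i = f i := by
  apply Alg.hom_ext
  intro p
  rfl

theorem pi_hom_ext {ι : Type} (A : ι → Alg X) (B : Alg X) (f g : B ⟶ piAlg A)
    (h : ∀ i, f ≫ proj A i = g ≫ proj A i) : f = g := by
  apply Alg.hom_ext
  intro p
  apply AlgHom.ext
  intro b
  funext i
  have := congrArg (fun k => Alg.Hom.app k p b) (h i)
  exact this

theorem isBCAlong_pi {R S : Type u} [CommRing R] [CommRing S] (g : R →+* S) {ι : Type} [Finite ι]
    {M N : ι → Type u} [∀ i, AddCommGroup (M i)] [∀ i, AddCommGroup (N i)]
    [∀ i, Module R (M i)] [∀ i, Module S (N i)]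
    (f : ∀ i, M i →ₛₗ[g] N i) (hf : ∀ i, IsBCAlong g (f i))
    (F : (∀ i, M i) →ₛₗ[g] (∀ i, N i)) (hF : ∀ m i, F m i = f i (m i)) : IsBCAlong g F := by
  letI : Algebra R S := g.toAlgebra
  letI : ∀ i, Module R (N i) := fun i => Module.compHom (N i) g
  haveI : ∀ i, IsScalarTower R S (N i) := fun i => IsScalarTower.of_algebraMap_smul fun _ _ => rfl
  let fl : ∀ i, M i →ₗ[R] N i := fun i =>
    { toFun := f i
      map_add' := (f i).map_add
      map_smul' := (f i).map_smulₛₗ }
  have := IsBaseChange.pi (S := S) fl hf
  have h2 : ({ toFun := F, map_add' := F.map_add, map_smul' := F.map_smulₛₗ } :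
      (∀ i, M i) →ₗ[R] (∀ i, N i)) = (LinearMap.pi fun i => fl i ∘ₗ LinearMap.proj i) := by
    ext m i
    exact hF _ _
  rw [← h2] at this
  exact this

theorem piAlg_isEtCover {ι : Type} [Finite ι] (A : ι → Alg X) (hA : ∀ i, (A i).IsEtCover) :
    (piAlg A).IsEtCover := by
  refine ⟨?_, fun p => ⟨?_, ?_⟩⟩
  · intro p q h
    exact isBCAlong_pi (X.res h) (fun i => (A i).toMod.res h) (fun i => (hA i).1 p q h) _
      (fun m i => rfl)
  · have : ∀ i, Module.Finite (X.ring p) ((A i).carrier p) := fun i => ((hA i).2 p).1
    exact inferInstanceAs (Module.Finite (X.ring p) (∀ i, (A i).carrier p))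
  · have : ∀ i, Algebra.Etale (X.ring p) ((A i).carrier p) := fun i => ((hA i).2 p).2
    exact inferInstanceAs (Algebra.Etale (X.ring p) (∀ i, (A i).carrier p))


def bfam {A B C : Alg X} (f : C ⟶ A) (g : C ⟶ B) : ∀ b : Bool, C ⟶ (cond b A B)
  | true => f
  | false => g

theorem main (X : RSpace.{u}) (hX : X.IsSchematic) :
    HasTerminal (FEt X) ∧ HasBinaryProducts (FEt X) := by
  constructor
  · let T : FEt X := ⟨piAlg (fun i : Empty => i.elim), piAlg_isEtCover _ (fun i => i.elim)⟩
    have h1 : ∀ Y : FEt X, Nonempty (Y ⟶ T) := fun Y =>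
      ⟨ObjectProperty.homMk (lift _ Y.obj (fun i => i.elim))⟩
    have h2 : ∀ Y : FEt X, Subsingleton (Y ⟶ T) := fun Y => ⟨fun f g => by
      apply ObjectProperty.hom_ext
      apply pi_hom_ext
      intro i
      exact i.elim⟩
    exact hasTerminal_of_unique T
  · have : ∀ {A B : FEt X}, HasLimit (pair A B) := by
      intro A B
      let P : Bool → Alg X := fun b => cond b A.obj B.obj
      have hP : ∀ b, (P b).IsEtCover := fun b => by
        cases b
        · exact B.property
        · exact A.property
      let W : FEt X := ⟨piAlg P, piAlg_isEtCover P hP⟩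
      let π₁ : W ⟶ A := ObjectProperty.homMk (proj P true)
      let π₂ : W ⟶ B := ObjectProperty.homMk (proj P false)
      refine HasLimit.mk ⟨BinaryFan.mk π₁ π₂, BinaryFan.isLimitMk
        (fun s => ObjectProperty.homMk (lift P s.pt.obj (bfam s.fst.hom s.snd.hom))) ?_ ?_ ?_⟩
      · intro s
        apply ObjectProperty.hom_ext
        exact lift_proj P s.pt.obj _ true
      · intro s
        apply ObjectProperty.hom_ext
        exact lift_proj P s.pt.obj _ false
      · intro s m hm1 hm2
        apply ObjectProperty.hom_ext
        apply pi_hom_ext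
        intro b
        cases b
        · have := congrArg InducedCategory.Hom.hom hm2
          exact this.trans (lift_proj P s.pt.obj (bfam s.fst.hom s.snd.hom) false).symm
        · have := congrArg InducedCategory.Hom.hom hm1
          exact this.trans (lift_proj P s.pt.obj (bfam s.fst.hom s.snd.hom) true).symm
    exact hasBinaryProducts_of_hasLimit_pair _

end Aux

open SchFin CategoryTheory CategoryTheory.Limits in
/-- For a schematic finite space, the category of étale covers (quasi-coherent algebras whose value at
every point is finite and étale over the ring of that point) has a terminal object and has binary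
products. (In the published statement: finite direct products, the terminal object being the zero
algebra.) -/
theorem result (X : RSpace.{u}) (hX : X.IsSchematic) :
    HasTerminal (FEt X) ∧ HasBinaryProducts (FEt X) := by
  exact Aux.main X hX

end Groth.Agent.S15622
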