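import Groth.Statements.S15625
import Mathlib
import Groth.Prelude.Def_SchFin
import Groth.Prelude.Def_SchFin2
import Groth.Agent.Lib.Helper9.SF.KerIdem
import Groth.Agent.Lib.Helper9.SF.ResIdem
import Groth.Agent.Lib.Helper9.SF.QuotEt
-- import your own Groth.Agent.* helpers here

set_option autoImplicit false
universe u
open SchFin SchFin.FEt

namespace Groth.Agent.S15625

open SchFin
namespace Aux
open SchFin TensorProduct CategoryTheory CategoryTheory.Limits H9SF

variable {X : RSpace.{u}}

/-- the lift of a morphism killing the family to the quotient -/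
def quotLift {A B : Alg X} (ε : ∀ p, A.carrier p)
    (hres : ∀ {p q : X.pt} (h : p ≤ q), A.res h (ε p) = ε q) (f : A ⟶ B)
    (hf : ∀ p, f.app p (ε p) = 0) : quotAlg A ε hres ⟶ B :=
  ⟨fun p => Ideal.Quotient.liftₐ (Ideal.span {ε p}) (f.app p) (fun a ha => by
      rw [Ideal.mem_span_singleton'] at ha
      obtain ⟨c, rfl⟩ := ha
      rw [map_mul, hf, mul_zero]),
   fun {p q} h b => by
    obtain ⟨b, rfl⟩ := Ideal.Quotient.mk_surjective b
    exact f.compat h b⟩

theorem main (X : RSpace.{u}) (hX : X.IsSchematic) {A B : FEt X}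
    (f : A ⟶ B) :
    ∃ (Q : FEt X) (g : A ⟶ Q) (h : Q ⟶ B), g ≫ h = f ∧ (∀ p : X.pt, Function.Surjective (g.hom.app p)) ∧
      ∀ p : X.pt, Function.Injective (h.hom.app p) := by
  have hex : ∀ p, ∃ e, IsKerIdem (f.hom.app p) e := fun p => by
    haveI := (A.property.2 p).1
    haveI := (A.property.2 p).2
    haveI := (B.property.2 p).1
    haveI := (B.property.2 p).2
    exact exists_isKerIdem (f.hom.app p)
  choose ε hε using hex
  have hres : ∀ {p q : X.pt} (h : p ≤ q), A.obj.res h (ε p) = ε q := fun {p q} h =>
    res_kerIdem A.property.1 B.property.1 f.hom h (hε p) (hε q)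
  have hres' : ∀ {p q : X.pt} (h : p ≤ q), A.obj.res h (1 - ε p) = 1 - ε q := fun {p q} h => by
    rw [map_sub, map_one, hres]
  let Q : FEt X := ⟨quotAlg A.obj (fun p => 1 - ε p) hres',
    quotAlg_isEtCover A.obj _ hres' A.property (fun p => (hε p).1.one_sub)⟩
  let g : A ⟶ Q := ObjectProperty.homMk (quotMk A.obj (fun p => 1 - ε p) hres')
  let h : Q ⟶ B := ObjectProperty.homMk (quotLift (fun p => 1 - ε p) hres' f.hom
    (fun p => (hε p).map_one_sub))
  refine ⟨Q, g, h, ?_, ?_, ?_⟩
  · apply ObjectProperty.hom_ext
    apply Alg.hom_ext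
    intro p
    apply AlgHom.ext
    intro a
    rfl
  · intro p
    exact Ideal.Quotient.mk_surjective
  · intro p
    refine RingHom.lift_injective_of_ker_le_ideal (Ideal.span {1 - ε p}) _ ?_
    rw [← (hε p).2.1]
    exact le_rfl

end Aux

open SchFin CategoryTheory in
/-- Over a schematic finite space, every morphism of étale covers factors, inside the category of étale
covers, as a morphism that is surjective at every point followed by one that is injective at every
point (in particular as an epimorphism followed by a monomorphism; the middle object is the quotient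
by the kernel). -/
theorem result (X : RSpace.{u}) (hX : X.IsSchematic) {A B : FEt X}
    (f : A ⟶ B) :
    ∃ (Q : FEt X) (g : A ⟶ Q) (h : Q ⟶ B), g ≫ h = f ∧ (∀ p : X.pt, Function.Surjective (g.hom.app p)) ∧
      ∀ p : X.pt, Function.Injective (h.hom.app p) := by
  exact Aux.main X hX f

end Groth.Agent.S15625
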