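import Groth.Statements.S15626
import Mathlib
import Groth.Prelude.Def_SchFin
import Groth.Prelude.Def_SchFin2
import Groth.Agent.S15622
import Groth.Agent.Lib.Helper9.SF.KerIdem
import Groth.Agent.Lib.Helper9.SF.ResIdem
import Groth.Agent.Lib.Helper9.SF.QuotEt
-- import your own Groth.Agent.* helpers here

set_option autoImplicit false
universe u
open SchFin SchFin.FEt

namespace Groth.Agent.S15626

open SchFin SchFin.FEt
namespace Aux
open SchFin TensorProduct CategoryTheory CategoryTheory.Limits H9SF Groth.Agent.S15622.Aux

variable {X : RSpace.{u}}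

/-- the algebra `𝒪 × 𝒪` -/
def two (X : RSpace.{u}) : Alg X := piAlg (fun _ : Bool => Alg.str X)

theorem two_isEtCover : (two X).IsEtCover := piAlg_isEtCover _ (fun _ => str_isEtCover)

/-- first map `(a,b) ↦ a` -/
def g1 (A : Alg X) : two X ⟶ A :=
  ⟨fun p => (Algebra.ofId (X.ring p) (A.carrier p)).comp (Pi.evalAlgHom (X.ring p) (fun _ : Bool => X.ring p) true),
   fun h b => A.res_algebraMap h (b true)⟩

/-- second map `(a,b) ↦ a e + b (1 - e)` -/
def g2 (A : Alg X) (ε : ∀ p, A.carrier p) (hε : ∀ p, IsIdempotentElem (ε p))
    (hres : ∀ {p q : X.pt} (h : p ≤ q), A.res h (ε p) = ε q) : two X ⟶ A :=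
  ⟨fun p =>
    { toFun := fun (c : Bool → X.ring p) => algebraMap (X.ring p) (A.carrier p) (c true) * ε p +
        algebraMap (X.ring p) (A.carrier p) (c false) * (1 - ε p)
      map_one' := by
        show algebraMap (X.ring p) (A.carrier p) 1 * ε p + algebraMap (X.ring p) (A.carrier p) 1 * (1 - ε p) = 1
        rw [map_one]; ring
      map_mul' := fun (c d : Bool → X.ring p) => by
        show algebraMap (X.ring p) (A.carrier p) (c true * d true) * ε p +
          algebraMap (X.ring p) (A.carrier p) (c false * d false) * (1 - ε p) = _
        rw [map_mul, map_mul]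
        have he : ε p * ε p = ε p := (hε p).eq
        generalize algebraMap (X.ring p) (A.carrier p) (c true) = x
        generalize algebraMap (X.ring p) (A.carrier p) (d true) = y
        generalize algebraMap (X.ring p) (A.carrier p) (c false) = z
        generalize algebraMap (X.ring p) (A.carrier p) (d false) = w
        linear_combination (-(x * y) + x * w + z * y - z * w) * he
      map_zero' := by
        show algebraMap (X.ring p) (A.carrier p) 0 * ε p + algebraMap (X.ring p) (A.carrier p) 0 * (1 - ε p) = 0
        rw [map_zero]; ring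
      map_add' := fun (c d : Bool → X.ring p) => by
        show algebraMap (X.ring p) (A.carrier p) (c true + d true) * ε p +
          algebraMap (X.ring p) (A.carrier p) (c false + d false) * (1 - ε p) = _
        rw [map_add, map_add]; ring
      commutes' := fun r => by
        show algebraMap (X.ring p) (A.carrier p) r * ε p + algebraMap (X.ring p) (A.carrier p) r * (1 - ε p) = _
        ring },
   fun {p q} h (c : Bool → X.ring p) => by
    show A.res h (algebraMap (X.ring p) (A.carrier p) (c true) * ε p +
        algebraMap (X.ring p) (A.carrier p) (c false) * (1 - ε p)) =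
      algebraMap (X.ring q) (A.carrier q) (X.res h (c true)) * ε q +
        algebraMap (X.ring q) (A.carrier q) (X.res h (c false)) * (1 - ε q)
    rw [map_add, map_mul, map_mul, map_sub, map_one, hres, A.res_algebraMap, A.res_algebraMap]⟩

theorem main (X : RSpace.{u}) (hX : X.IsSchematic) {A B : FEt X} (f : A ⟶ B)
    [Mono f] (p : X.pt) : Function.Injective (f.hom.app p) := by
  have hex : ∀ p, ∃ e, IsKerIdem (f.hom.app p) e := fun p => by
    haveI := (A.property.2 p).1
    haveI := (A.property.2 p).2
    haveI := (B.property.2 p).1
    haveI := (B.property.2 p).2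
    exact exists_isKerIdem (f.hom.app p)
  choose ε hε using hex
  have hres : ∀ {p q : X.pt} (h : p ≤ q), A.obj.res h (ε p) = ε q := fun {p q} h =>
    res_kerIdem A.property.1 B.property.1 f.hom h (hε p) (hε q)
  let C : FEt X := ⟨two X, two_isEtCover⟩
  let u : C ⟶ A := ObjectProperty.homMk (g1 A.obj)
  let v : C ⟶ A := ObjectProperty.homMk (g2 A.obj ε (fun p => (hε p).1) hres)
  have huv : u ≫ f = v ≫ f := by
    apply ObjectProperty.hom_ext
    apply Alg.hom_ext
    intro p
    apply AlgHom.ext
    intro (c : Bool → X.ring p)
    show f.hom.app p (algebraMap (X.ring p) (A.obj.carrier p) (c true)) =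
      f.hom.app p (algebraMap (X.ring p) (A.obj.carrier p) (c true) * ε p +
      algebraMap (X.ring p) (A.obj.carrier p) (c false) * (1 - ε p))
    rw [map_add, map_mul, map_mul, (hε p).map_eq_one, (hε p).map_one_sub, mul_one, mul_zero,
      add_zero]
  have h1 : u = v := (cancel_mono f).mp huv
  apply (hε p).injective_of_eq_one
  have h2 := congrArg (fun k : C ⟶ A => k.hom.app p (fun b => cond b 0 1)) h1
  have h3 : (0 : A.obj.carrier p) = 1 - ε p := by
    have h4 : u.hom.app p (fun b => cond b 0 1) = 0 := by
      show algebraMap (X.ring p) (A.obj.carrier p) 0 = 0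
      rw [map_zero]
    have h5 : v.hom.app p (fun b => cond b 0 1) = 1 - ε p := by
      show algebraMap (X.ring p) (A.obj.carrier p) 0 * ε p +
        algebraMap (X.ring p) (A.obj.carrier p) 1 * (1 - ε p) = 1 - ε p
      rw [map_zero, map_one, zero_mul, zero_add, one_mul]
    rw [← h4, ← h5]
    exact h2
  exact (sub_eq_zero.mp h3.symm).symm

end Aux

open SchFin CategoryTheory in
/-- Over a schematic finite space, a monomorphism in the category of étale covers is injective at every
point (the converse implication being elementary). -/
theorem result (X : RSpace.{u}) (hX : X.IsSchematic) {A B : FEt X} (f : A ⟶ B)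
    [Mono f] (p : X.pt) : Function.Injective (f.hom.app p) := by
  exact Aux.main X hX f p

end Groth.Agent.S15626
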