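import Groth.Statements.S15627
import Mathlib
import Groth.Prelude.Def_SchFin
import Groth.Prelude.Def_SchFin2
import Groth.Agent.S15634
import Groth.Agent.S15614
import Groth.Agent.Lib.Helper9.SchFinH0
import Groth.Agent.Lib.Helper9.SchFinBC
-- import your own Groth.Agent.* helpers here

set_option autoImplicit false
universe u
open SchFin SchFin.GeomPt

namespace Groth.Agent.S15627

namespace Aux
open SchFin TensorProduct Groth.Agent.Helper9.SchFinH0 Groth.Agent.Helper9.SchFinBC

variable {X : RSpace.{u}} {Ω : Type u} [Field Ω]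

instance : Subsingleton (RSpace.point Ω).pt := inferInstanceAs (Subsingleton PUnit)

/-- the morphism from the one-point space determined by a point and a ring map -/
def mkHom (x : X.pt) (χ : X.ring x →+* Ω) : Hom (RSpace.point Ω) X where
  fn := fun _ => x
  mono := fun _ _ _ => le_rfl
  app := fun _ => χ
  compat := fun h b => by
    show χ b = χ (X.res _ b)
    rw [X.res_self]

theorem point_isFinSp : (RSpace.point Ω).IsFinSp := by
  refine ⟨fun p => ?_, fun p q h => ?_⟩
  · show IsNoetherianRing Ω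
    infer_instance
  · show (RingHom.id Ω).Flat
    exact RingHom.Flat.id Ω

theorem pt_le (p q : (RSpace.point Ω).pt) : p ≤ q := le_of_eq (Subsingleton.elim p q)

/-- first schematic condition (source direction) for a morphism from a point -/
theorem cond_src (f : Hom (RSpace.point Ω) X) (n : ℕ) (x x' : (RSpace.point Ω).pt) (hx : x ≤ x')
    (y : X.pt) :
    IsBCAlong ((RSpace.point Ω).res hx) (resH (RSpace.point Ω).str (f.subSrc hx y) n) := by
  cases n with
  | succ n =>
    haveI := subsingleton_H_succ (Coef.ofLE x (f.wedge x y) (f.wedge_subset_up x y))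
      (RSpace.point Ω).str n
    haveI := subsingleton_H_succ (Coef.ofLE x' (f.wedge x' y) (f.wedge_subset_up x' y))
      (RSpace.point Ω).str n
    exact isBCAlong_of_subsingleton' _ _
  | zero =>
    letI : Module ((RSpace.point Ω).ring x')
        (H (Coef.ofLE x (f.wedge x y) (f.wedge_subset_up x y)) (RSpace.point Ω).str 0) :=
      (inferInstance : Module ((RSpace.point Ω).ring x)
        (H (Coef.ofLE x (f.wedge x y) (f.wedge_subset_up x y)) (RSpace.point Ω).str 0))
    refine isBCAlong_of_epi _ _ ?_ ?_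
      (H (Coef.ofLE x (f.wedge x y) (f.wedge_subset_up x y)) (RSpace.point Ω).str 0)
      (AddEquiv.refl _) ?_
    · intro T _ g₁ g₂ h
      exact RingHom.ext fun s => RingHom.congr_fun h s
    · exact resH_zero_bijective _ _ (fun q hq => ⟨pt_le _ _, hq.2⟩)
    · intro r m
      rfl


section Tgt
variable (x₀ : X.pt) (χ : X.ring x₀ →+* Ω)

theorem hUx (x : (RSpace.point Ω).pt) (y : X.pt) :
    (mkHom x₀ χ).wedge x y ⊆ (RSpace.point Ω).up x := fun q _ => pt_le x q

/-- evaluation `H⁰(wedge) ≃ Ω` when the wedge is everything -/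
noncomputable def evΩ (x : (RSpace.point Ω).pt) (y : X.pt) (h2 : y ≤ x₀) :
    H (Coef.ofHom (mkHom x₀ χ) y ((mkHom x₀ χ).wedge x y) ((mkHom x₀ χ).wedge_subset_pre x y))
      (RSpace.point Ω).str 0 ≃+ Ω where
  toFun m := (RSpace.point Ω).evalRing ((mkHom x₀ χ).wedge x y) ⟨x, le_rfl, h2⟩ (h0ToSect _ m)
  invFun b := sectToH0 _ ((RSpace.point Ω).resSect x ((mkHom x₀ χ).wedge x y)
    (hUx x₀ χ x y) b)
  left_inv m := by
    show sectToH0 _ ((RSpace.point Ω).resSect x ((mkHom x₀ χ).wedge x y) (hUx x₀ χ x y)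
      ((RSpace.point Ω).evalRing ((mkHom x₀ χ).wedge x y) ⟨x, le_rfl, h2⟩ (h0ToSect _ m))) = m
    rw [resSect_evalRing_of_least (RSpace.point Ω) ((mkHom x₀ χ).wedge x y) x ⟨le_rfl, h2⟩,
      sectToH0_h0ToSect]
  right_inv b := by
    show (RSpace.point Ω).evalRing ((mkHom x₀ χ).wedge x y) ⟨x, le_rfl, h2⟩
      (h0ToSect _ (sectToH0 _ ((RSpace.point Ω).resSect x ((mkHom x₀ χ).wedge x y)
        (hUx x₀ χ x y) b))) = b
    rw [h0ToSect_sectToH0]
    exact evalRing_resSect (RSpace.point Ω) ((mkHom x₀ χ).wedge x y) x ⟨le_rfl, h2⟩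
      (hUx x₀ χ x y) b
  map_add' m m' := by
    show (RSpace.point Ω).evalRing _ _ (h0ToSect _ (m + m')) = _
    rw [map_add, map_add]
    rfl

theorem evΩ_smul (x : (RSpace.point Ω).pt) (y : X.pt) (h2 : y ≤ x₀) (r : X.ring y)
    (m : H (Coef.ofHom (mkHom x₀ χ) y ((mkHom x₀ χ).wedge x y)
      ((mkHom x₀ χ).wedge_subset_pre x y)) (RSpace.point Ω).str 0) :
    evΩ x₀ χ x y h2 (r • m) = χ (X.res h2 r) * evΩ x₀ χ x y h2 m := by
  show (RSpace.point Ω).evalRing ((mkHom x₀ χ).wedge x y) ⟨x, le_rfl, h2⟩ (h0ToSect _ (r • m)) = _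
  rw [h0ToSect_smul, map_mul]
  rfl

theorem cond_tgt (hepi : ∀ {y y' : X.pt} (hy : y ≤ y'), HomEpi (X.res hy))
    (hmax : ∀ {y y' : X.pt} (hy : y ≤ y') (h2 : y ≤ x₀) (Q' : Ideal (X.ring y')) [Q'.IsPrime],
      Q'.comap (X.res hy) = (RingHom.ker χ).comap (X.res h2) → y' ≤ x₀)
    (n : ℕ) (x : (RSpace.point Ω).pt) (y y' : X.pt) (hy : y ≤ y') :
    IsBCAlong (X.res hy) (resH (RSpace.point Ω).str ((mkHom x₀ χ).subTgt x hy) n) := by
  cases n with
  | succ n =>
    haveI := subsingleton_H_succ (Coef.ofHom (mkHom x₀ χ) y ((mkHom x₀ χ).wedge x y)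
      ((mkHom x₀ χ).wedge_subset_pre x y)) (RSpace.point Ω).str n
    haveI := subsingleton_H_succ (Coef.ofHom (mkHom x₀ χ) y' ((mkHom x₀ χ).wedge x y')
      ((mkHom x₀ χ).wedge_subset_pre x y')) (RSpace.point Ω).str n
    exact isBCAlong_of_subsingleton' _ _
  | zero =>
    by_cases h1 : y' ≤ x₀
    · have h2 : y ≤ x₀ := hy.trans h1
      letI : Module (X.ring y') Ω := Module.compHom Ω (χ.comp (X.res h1))
      refine isBCAlong_of_epi _ _ (hepi hy) ?_ Ω (evΩ x₀ χ x y h2) ?_
      · exact resH_zero_bijective _ _ (fun q hq => ⟨hq.1, h1⟩)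
      · intro r m
        rw [evΩ_smul]
        show _ = χ (X.res h1 (X.res hy r)) * _
        rw [X.res_comp]
    · have hempty : (mkHom x₀ χ).wedge x y' = ∅ := by
        ext q
        simp only [Set.mem_empty_iff_false, iff_false]
        intro hq
        exact h1 hq.2
      haveI := subsingleton_H0_of_empty (Coef.ofHom (mkHom x₀ χ) y' ((mkHom x₀ χ).wedge x y')
        ((mkHom x₀ χ).wedge_subset_pre x y')) hempty
      by_cases h2 : y ≤ x₀
      · apply isBCAlong_of_subsingleton
        letI : Algebra (X.ring y) (X.ring y') := (X.res hy).toAlgebra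
        by_contra hns
        rw [not_subsingleton_iff_nontrivial] at hns
        letI algΩ : Algebra (X.ring y) Ω := (χ.comp (X.res h2)).toAlgebra
        let eL : H (Coef.ofHom (mkHom x₀ χ) y ((mkHom x₀ χ).wedge x y)
            ((mkHom x₀ χ).wedge_subset_pre x y)) (RSpace.point Ω).str 0 ≃ₗ[X.ring y] Ω :=
          { evΩ x₀ χ x y h2 with map_smul' := fun r m => evΩ_smul x₀ χ x y h2 r m }
        have hnt : Nontrivial (X.ring y' ⊗[X.ring y] Ω) :=
          (LinearEquiv.lTensor (X.ring y') eL).symm.toEquiv.nontrivial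
        obtain ⟨𝔮, h𝔮⟩ := Ideal.exists_maximal (X.ring y' ⊗[X.ring y] Ω)
        have h𝔮p : 𝔮.IsPrime := h𝔮.isPrime
        let Q' := 𝔮.comap (Algebra.TensorProduct.includeLeft (R := X.ring y) (S := X.ring y)
          (A := X.ring y') (B := Ω)).toRingHom
        have : Q'.IsPrime := Ideal.comap_isPrime _ _
        apply h1
        refine hmax hy h2 Q' ?_
        ext r
        show (X.res hy r) ⊗ₜ[X.ring y] (1 : Ω) ∈ 𝔮 ↔ χ (X.res h2 r) = 0
        have hr : (X.res hy r) ⊗ₜ[X.ring y] (1 : Ω) =
            (1 : X.ring y') ⊗ₜ[X.ring y] (χ (X.res h2 r)) := by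
          have e1 : X.res hy r = r • (1 : X.ring y') := by rw [Algebra.smul_def, mul_one]; rfl
          have e2 : χ (X.res h2 r) = r • (1 : Ω) := by rw [Algebra.smul_def, mul_one]; rfl
          rw [e1, e2, smul_tmul]
        rw [hr]
        constructor
        · intro hmem
          by_contra hne
          have hu : IsUnit ((1 : X.ring y') ⊗ₜ[X.ring y] (χ (X.res h2 r))) :=
            (IsUnit.mk0 _ hne).map (Algebra.TensorProduct.includeRight
              (R := X.ring y) (A := X.ring y') (B := Ω))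
          exact h𝔮p.ne_top (Ideal.eq_top_of_isUnit_mem _ hmem hu)
        · intro h0
          rw [h0, tmul_zero]
          exact zero_mem _
      · have hempty' : (mkHom x₀ χ).wedge x y = ∅ := by
          ext q
          simp only [Set.mem_empty_iff_false, iff_false]
          intro hq
          exact h2 hq.2
        haveI := subsingleton_H0_of_empty (Coef.ofHom (mkHom x₀ χ) y ((mkHom x₀ χ).wedge x y)
          ((mkHom x₀ χ).wedge_subset_pre x y)) hempty'
        exact isBCAlong_of_subsingleton' _ _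

end Tgt


theorem hom_eq_mkHom (h : Hom (RSpace.point Ω) X) :
    h = mkHom (Ω := Ω) (h.fn PUnit.unit) (h.app PUnit.unit : X.ring (h.fn PUnit.unit) →+* Ω) := by
  cases h
  rfl

theorem main (X : RSpace.{u}) (hX : X.IsSchematic)
    (hff : ∀ s a b : X.pt, s ≤ a → s ≤ b → (X.up a ∩ X.up b).Nonempty →
      Module.FaithfullyFlat (X.sectRing (X.up a ∩ X.up b)) ((q : ↥(X.up a ∩ X.up b)) → X.ring q.1))
    (Ω : Type u) [Field Ω] [IsAlgClosed Ω] (a : X.Pair) (ha : ∀ b : X.Pair, X.PairRel a b → b.1 ≤ a.1)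
    (φ : a.κ →+* Ω) :
    ∃! ξ : GeomPt X Ω, (⟨ξ.base, ξ.toField⟩ : Σ x : X.pt, (X.ring x →+* Ω)) =
      ⟨a.1, φ.comp (algebraMap (X.ring a.1) a.κ)⟩ := by
  set ψ := φ.comp (algebraMap (X.ring a.1) a.κ) with hψ
  have hker : RingHom.ker ψ = a.2.asIdeal := by
    ext r
    rw [RingHom.mem_ker]
    show φ (algebraMap _ _ r) = 0 ↔ _
    rw [map_eq_zero_iff _ φ.injective, Ideal.algebraMap_residueField_eq_zero]
  have hsch : (mkHom a.1 ψ).IsSchematic := by
    refine ⟨point_isFinSp, hX.1, fun n x x' hx y y' hy =>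
      ⟨cond_src _ n x x' hx y, cond_tgt a.1 ψ ?_ ?_ n x y y' hy⟩⟩
    · intro y y' hy T _ g₁ g₂ hg
      exact Groth.Agent.S15634.Aux.main X hy hX g₁ g₂ hg
    · intro y y' hy h2 Q' _ hQ'
      have hrel : X.PairRel ⟨a.1, a.2⟩ ⟨y', ⟨Q', inferInstance⟩⟩ :=
        Groth.Agent.S15614.Aux.main X hX hff h2 hy a.2 ⟨Q', inferInstance⟩ (by
          apply PrimeSpectrum.ext
          show a.2.asIdeal.comap (X.res h2) = Q'.comap (X.res hy)
          rw [hQ', hker])
      exact ha _ hrel
  refine ⟨⟨mkHom a.1 ψ, hsch⟩, rfl, ?_⟩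
  rintro ⟨hom', hs'⟩ heq
  have h1 : hom' = mkHom (Ω := Ω) (hom'.fn PUnit.unit)
      (hom'.app PUnit.unit : X.ring (hom'.fn PUnit.unit) →+* Ω) := hom_eq_mkHom hom'
  have h2 : mkHom (Ω := Ω) (hom'.fn PUnit.unit)
      (hom'.app PUnit.unit : X.ring (hom'.fn PUnit.unit) →+* Ω) = mkHom a.1 ψ :=
    congrArg (fun p : Σ x : X.pt, (X.ring x →+* Ω) => mkHom p.1 p.2) heq
  have h3 : hom' = mkHom a.1 ψ := h1.trans h2
  subst h3
  rfl

end Aux

open SchFin in
/-- Let X be a schematic finite space and Ω an algebraically closed field. Given a pair (x, P) of a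
point and a prime of its ring which is the maximal representative of its class (every related pair
sits at a point below x) and a ring map φ from the residue field of P to Ω, there is exactly one
geometric point of X with values in Ω that hits x and whose ring map from the ring of x to Ω is φ
composed with the passage to the residue field. (The published statement is the resulting bijection
between geometric points with values in Ω and schematic points equipped with an embedding of their
residue field into Ω.) (The published statement does not carry the hypothesis that, for every two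
points that lie above a common point and whose minimal open sets meet, the product of the rings over
the intersection of these minimal open sets is faithfully flat over the ring of sections on it; the
published proof obtains this fact from properties of affine schematic spaces recalled there without
proof, and this row carries it explicitly.) -/
theorem result (X : RSpace.{u}) (hX : X.IsSchematic)
    (hff : ∀ s a b : X.pt, s ≤ a → s ≤ b → (X.up a ∩ X.up b).Nonempty →
      Module.FaithfullyFlat (X.sectRing (X.up a ∩ X.up b)) ((q : ↥(X.up a ∩ X.up b)) → X.ring q.1))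
    (Ω : Type u) [Field Ω] [IsAlgClosed Ω] (a : X.Pair) (ha : ∀ b : X.Pair, X.PairRel a b → b.1 ≤ a.1)
    (φ : a.κ →+* Ω) :
    ∃! ξ : GeomPt X Ω, (⟨ξ.base, ξ.toField⟩ : Σ x : X.pt, (X.ring x →+* Ω)) =
      ⟨a.1, φ.comp (algebraMap (X.ring a.1) a.κ)⟩ := by
  exact Aux.main X hX hff Ω a ha φ

end Groth.Agent.S15627
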