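import Groth.Statements.S15628
import Mathlib
import Groth.Prelude.Def_SchFin
import Groth.Prelude.Def_SchFin2
import Groth.Agent.Lib.Helper9.SF.KerIdem
import Groth.Agent.Lib.Helper9.SF.ResIdem
import Groth.Agent.Lib.Helper9.SF.QuotEt
import Groth.Agent.Lib.Helper9.SF.Limits
-- import your own Groth.Agent.* helpers here

set_option autoImplicit false
universe u
open SchFin SchFin.FEt

namespace Groth.Agent.S15628

open SchFin
namespace Aux
open SchFin TensorProduct CategoryTheory CategoryTheory.Limits H9SF

variable {X : RSpace.{u}}

theorem bijective_prod {R A B : Type*} [CommRing R] [CommRing A] [CommRing B] [Algebra R A]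
    [Algebra R B] (f : A →ₐ[R] B) (hf : Function.Surjective f) {e : A} (he : IsKerIdem f e) :
    Function.Bijective (f.prod (Ideal.Quotient.mkₐ R (Ideal.span {e}))) := by
  constructor
  · rw [injective_iff_map_eq_zero]
    intro a ha
    have h1 : f a = 0 := congrArg Prod.fst ha
    have h2 : Ideal.Quotient.mk (Ideal.span {e}) a = 0 := congrArg Prod.snd ha
    rw [← RingHom.mem_ker, he.2.1, Ideal.mem_span_singleton'] at h1
    rw [Ideal.Quotient.eq_zero_iff_mem, Ideal.mem_span_singleton'] at h2
    obtain ⟨c, hc⟩ := h1
    obtain ⟨d, hd⟩ := h2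
    have h3 : a * e = a := by rw [← hd, mul_assoc, he.1.eq]
    have h4 : a * e = 0 := by rw [← hc, mul_assoc, sub_mul, one_mul, he.1.eq, sub_self, mul_zero]
    rw [← h3, h4]
  · rintro ⟨b, d⟩
    obtain ⟨a₁, rfl⟩ := hf b
    obtain ⟨a₂, rfl⟩ := Ideal.Quotient.mk_surjective d
    refine ⟨a₁ * e + a₂ * (1 - e), Prod.ext ?_ ?_⟩
    · show f (a₁ * e + a₂ * (1 - e)) = f a₁
      rw [map_add, map_mul, map_mul, he.map_eq_one, he.map_one_sub, mul_one, mul_zero, add_zero]
    · show Ideal.Quotient.mk (Ideal.span {e}) (a₁ * e + a₂ * (1 - e)) = Ideal.Quotient.mk _ a₂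
      rw [Ideal.Quotient.eq, Ideal.mem_span_singleton']
      exact ⟨a₁ - a₂, by ring⟩

theorem main (X : RSpace.{u}) (hX : X.IsSchematic)
    {A B : FEt X} (f : A ⟶ B) (hf : ∀ p : X.pt, Function.Surjective (f.hom.app p)) :
    ∃ (D : FEt X) (π : A ⟶ D), Nonempty (IsLimit (BinaryFan.mk f π)) := by
  have hex : ∀ p, ∃ e, IsKerIdem (f.hom.app p) e := fun p => by
    haveI := (A.property.2 p).1
    haveI := (A.property.2 p).2
    haveI := (B.property.2 p).1
    haveI := (B.property.2 p).2
    exact exists_isKerIdem (f.hom.app p)
  choose ε hε using hex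
  have hres : ∀ {p q : X.pt} (h : p ≤ q), A.obj.res h (ε p) = ε q := fun {p q} h =>
    res_kerIdem A.property.1 B.property.1 f.hom h (hε p) (hε q)
  let D : FEt X := ⟨quotAlg A.obj ε hres,
    quotAlg_isEtCover A.obj _ hres A.property (fun p => (hε p).1)⟩
  let π : A ⟶ D := ObjectProperty.homMk (quotMk A.obj ε hres)
  refine ⟨D, π, isLimit_binaryFan_of_bijective f π ?_⟩
  intro p
  exact bijective_prod (f.hom.app p) (hf p) (hε p)

end Aux

open SchFin CategoryTheory CategoryTheory.Limits in
/-- Over a schematic finite space, a morphism f from an étale cover A to an étale cover B which is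
surjective at every point identifies B with a direct factor of A: there are an étale cover D and a
morphism from A to D which together with f exhibit A as the product of B and D in the category of
étale covers. (The published statement assumes f an epimorphism of étale covers and first shows that
epimorphisms are exactly the pointwise surjective morphisms, a step resting on an extension result
for quasi-coherent modules recalled there without proof; this row takes f surjective at every
point.) -/
theorem result (X : RSpace.{u}) (hX : X.IsSchematic)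
    {A B : FEt X} (f : A ⟶ B) (hf : ∀ p : X.pt, Function.Surjective (f.hom.app p)) :
    ∃ (D : FEt X) (π : A ⟶ D), Nonempty (IsLimit (BinaryFan.mk f π)) := by
  exact Aux.main X hX f hf

end Groth.Agent.S15628
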