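import Groth.Statements.S15629
import Mathlib
import Groth.Prelude.Def_SchFin
import Groth.Prelude.Def_SchFin2
import Groth.Agent.Lib.Helper9.SF.InvAlg
-- import your own Groth.Agent.* helpers here

set_option autoImplicit false
universe u
open SchFin SchFin.FEt

namespace Groth.Agent.S15629

open SchFin
namespace Aux
open SchFin TensorProduct CategoryTheory CategoryTheory.Limits H9SF

variable {X : RSpace.{u}}

theorem main (X : RSpace.{u}) (hX : X.IsSchematic)
    (hlt : ∀ A : FEt X, ∃ (B : Alg X) (n : ℕ), B.IsCovering ∧
      ∀ p : X.pt, Nonempty (TensorProduct (X.ring p) (B.carrier p) (A.obj.carrier p) ≃ₐ[B.carrier p] (Fin n → B.carrier p)))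
    (G : Type u) [Group G] [Finite G] : HasLimitsOfShape (SingleObj G) (FEt X) := by
  classical
  haveI : Fintype G := Fintype.ofFinite G
  refine ⟨fun K => ?_⟩
  let A : FEt X := K.obj (SingleObj.star G)
  let σ : G → (A.obj ⟶ A.obj) := fun g => (K.map (show SingleObj.star G ⟶ SingleObj.star G from g)).hom
  let I : FEt X := ⟨invAlg A.obj σ, invAlg_isEtCover A.obj σ hX.1 A.property (hlt A)⟩
  let ι : I ⟶ A := ObjectProperty.homMk (invIncl A.obj σ)
  have hι : ∀ g : G, ι ≫ K.map (show SingleObj.star G ⟶ SingleObj.star G from g) = ι := by
    intro g
    apply ObjectProperty.hom_ext
    exact invIncl_comp A.obj σ g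
  let c : Cone K :=
    { pt := I
      π := { app := fun _ => ι
             naturality := fun j j' f => by
               show 𝟙 I ≫ ι = ι ≫ K.map f
               rw [Category.id_comp]
               exact (hι f).symm } }
  have hs : ∀ (s : Cone K) (g : G), (s.π.app (SingleObj.star G)).hom ≫ σ g =
      (s.π.app (SingleObj.star G)).hom := by
    intro s g
    exact congrArg InducedCategory.Hom.hom
      (s.w (show SingleObj.star G ⟶ SingleObj.star G from g))
  refine HasLimit.mk ⟨c, ?_⟩
  refine
    { lift := fun s => ObjectProperty.homMk
        (invLift A.obj σ (s.π.app (SingleObj.star G)).hom (hs s))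
      fac := fun s j => by
        apply ObjectProperty.hom_ext
        exact invLift_incl A.obj σ _ (hs s)
      uniq := fun s m hm => by
        apply ObjectProperty.hom_ext
        apply inv_hom_ext
        have := congrArg InducedCategory.Hom.hom (hm (SingleObj.star G))
        exact this.trans (invLift_incl A.obj σ _ (hs s)).symm }

end Aux

open SchFin CategoryTheory CategoryTheory.Limits in
/-- Over a well-connected schematic finite space, the category of étale covers has, for every finite
group G, limits of diagrams indexed by the one-object category of G; that is, for every action of G
on an étale cover A there is an étale cover (the invariants of A, pointwise) through which exactly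
the G-invariant morphisms into A factor. (The published statement speaks of contravariant
categorical quotients by finite subgroups of the automorphism group; an action through a group
homomorphism has the same invariants as its image.) (This row carries as a hypothesis the local
triviality of étale covers — for every étale cover A there are a quasi-coherent algebra B, finite
and faithfully flat at every point, and a natural number n with B_p ⊗ A_p isomorphic to B_p^n as a
B_p-algebra at every point p — which holds for well-connected schematic spaces, the published proof
of that fact going by way of an equivalence of quasi-coherent modules along qc-isomorphisms recalled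
without proof; the published statement does not carry it.) -/
theorem result (X : RSpace.{u}) (hX : X.IsSchematic) (hwc : X.IsWellConnected)
    (hlt : ∀ A : FEt X, ∃ (B : Alg X) (n : ℕ), B.IsCovering ∧
      ∀ p : X.pt, Nonempty (TensorProduct (X.ring p) (B.carrier p) (A.obj.carrier p) ≃ₐ[B.carrier p] (Fin n → B.carrier p)))
    (G : Type u) [Group G] [Finite G] : HasLimitsOfShape (SingleObj G) (FEt X) := by
  exact Aux.main X hX hlt G

end Groth.Agent.S15629
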