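import Groth.Statements.S15631
import Mathlib
import Groth.Prelude.Def_SchFin
import Groth.Prelude.Def_SchFin2
import Groth.Agent.Lib.Helper9.SF.KerIdem
import Groth.Agent.Lib.Helper9.SF.ResIdem
import Groth.Agent.Lib.Helper9.SF.QuotEt
import Groth.Agent.Lib.Helper9.SF.Limits
import Groth.Agent.Lib.Helper9.SF.Rank
import Groth.Agent.Lib.Helper9.SF.PointsFacts
import Groth.Agent.Lib.Helper9.SF.RankCount
-- import your own Groth.Agent.* helpers here

set_option autoImplicit false
universe u
open SchFin SchFin.GeomPt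

namespace Groth.Agent.S15631

open SchFin
namespace Aux
open SchFin TensorProduct CategoryTheory CategoryTheory.Limits H9SF Opposite

variable {X : RSpace.{u}} {Ω : Type u} [Field Ω] [IsAlgClosed Ω]

/-- local triviality hypothesis -/
def LT (X : RSpace.{u}) : Prop :=
  ∀ A : FEt X, ∃ (B : Alg X) (n : ℕ), B.IsCovering ∧
      ∀ p : X.pt, Nonempty (TensorProduct (X.ring p) (B.carrier p) (A.obj.carrier p) ≃ₐ[B.carrier p] (Fin n → B.carrier p))

/-- under local triviality every étale cover has constant rank -/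
theorem exists_rank (hlt : LT X) (E : FEt X) :
    ∃ n : ℕ, ∀ (p : X.pt) (Q : PrimeSpectrum (X.ring p)), Module.rankAtStalk (E.obj.carrier p) Q = n := by
  obtain ⟨B, n, hB, htriv⟩ := hlt E
  refine ⟨n, fun p Q => ?_⟩
  haveI := (hB.2 p).2
  haveI := (E.property.2 p).1
  haveI := (E.property.2 p).2
  obtain ⟨e⟩ := htriv p
  exact rankAtStalk_eq_of_trivialization n e Q

theorem main (X : RSpace.{u}) (hlt : LT X) (ξ : GeomPt X Ω) :
    ξ.fibFunctor.ReflectsIsomorphisms := by
  letI : Algebra (X.ring ξ.base) Ω := ξ.toField.toAlgebra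
  refine ⟨fun {A B} f hiso => ?_⟩
  rw [← isIso_unop_iff]
  -- the underlying morphism of étale covers
  have hbij : Function.Bijective (fibComap (Ω := Ω) (f.unop.hom.app ξ.base)) :=
    (FintypeCat.equivEquivIso.symm (asIso (ξ.fibFunctor.map f))).bijective
  have hex : ∀ p, ∃ e, IsKerIdem (f.unop.hom.app p) e := fun p => by
    haveI := (A.unop.property.2 p).1
    haveI := (A.unop.property.2 p).2
    haveI := (B.unop.property.2 p).1
    haveI := (B.unop.property.2 p).2
    exact exists_isKerIdem (f.unop.hom.app p)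
  choose ε hε using hex
  have hres : ∀ {p q : X.pt} (h : p ≤ q), B.unop.obj.res h (ε p) = ε q := fun {p q} h =>
    res_kerIdem B.unop.property.1 A.unop.property.1 f.unop.hom h (hε p) (hε q)
  let D : FEt X := ⟨quotAlg B.unop.obj ε hres,
    quotAlg_isEtCover B.unop.obj _ hres B.unop.property (fun p => (hε p).1)⟩
  haveI hfinB := (B.unop.property.2 ξ.base).1
  haveI hfinA := (A.unop.property.2 ξ.base).1
  haveI hetB := (B.unop.property.2 ξ.base).2
  haveI hetA := (A.unop.property.2 ξ.base).2
  -- no points of D at the base point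
  haveI hfinD : Module.Finite (X.ring ξ.base)
      (B.unop.obj.carrier ξ.base ⧸ Ideal.span {ε ξ.base}) := (D.property.2 ξ.base).1
  haveI hetD : Algebra.Etale (X.ring ξ.base)
      (B.unop.obj.carrier ξ.base ⧸ Ideal.span {ε ξ.base}) := (D.property.2 ξ.base).2
  have hnoPt : IsEmpty ((B.unop.obj.carrier ξ.base ⧸ Ideal.span {ε ξ.base}) →ₐ[X.ring ξ.base] Ω) := by
    refine ⟨fun φ => ?_⟩
    let k : B.unop.obj.carrier ξ.base →ₐ[X.ring ξ.base] Ω :=
      φ.comp (Ideal.Quotient.mkₐ (X.ring ξ.base) (Ideal.span {ε ξ.base}))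
    have hk : k (ε ξ.base) = 0 := ((pt_quot (R := X.ring ξ.base) (D := Ω) (ε ξ.base)).2 k).mpr ⟨φ, rfl⟩
    obtain ⟨𝔮, h𝔮⟩ := hbij.2 (fibOfPt k)
    obtain ⟨ψ, rfl⟩ := fibOfPt_surjective 𝔮
    rw [fibComap_fibOfPt] at h𝔮
    have h1 := fibOfPt_injective h𝔮
    have h2 : k (ε ξ.base) = 1 := by
      rw [← h1]
      show ψ (f.unop.hom.app ξ.base (ε ξ.base)) = 1
      rw [(hε ξ.base).map_eq_one, map_one]
    rw [hk] at h2
    exact zero_ne_one h2
  have hemptyD : IsEmpty (PrimeSpectrum
      (Ω ⊗[X.ring ξ.base] (B.unop.obj.carrier ξ.base ⧸ Ideal.span {ε ξ.base}))) := by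
    refine ⟨fun 𝔭 => ?_⟩
    obtain ⟨φ, -⟩ := fibOfPt_surjective 𝔭
    exact hnoPt.false φ
  -- D has rank zero
  obtain ⟨nD, hnD⟩ := exists_rank hlt D
  have hnD0 : nD = 0 := by
    have e1 : Module.rankAtStalk (B.unop.obj.carrier ξ.base ⧸ Ideal.span {ε ξ.base})
        ((⟨⊥, Ideal.isPrime_bot⟩ : PrimeSpectrum Ω).comap (algebraMap (X.ring ξ.base) Ω)) = nD :=
      hnD ξ.base _
    rw [← e1, ← card_fib_eq_rankAtStalk (X.ring ξ.base) Ω
      (B.unop.obj.carrier ξ.base ⧸ Ideal.span {ε ξ.base})]
    exact Nat.card_of_isEmpty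
  -- hence pointwise injectivity
  have hinj : ∀ p, Function.Injective (f.unop.hom.app p) := by
    intro p
    apply (hε p).injective_of_eq_one
    haveI := (D.property.2 p).1
    haveI := (D.property.2 p).2
    have hsub : Subsingleton (D.obj.carrier p) := by
      rw [← Module.rankAtStalk_eq_zero_iff_subsingleton (R := X.ring p)]
      funext Q
      rw [hnD p Q, hnD0]
      rfl
    have htop : Ideal.span {ε p} = ⊤ := Ideal.Quotient.subsingleton_iff.mp hsub
    have h1 : (1 : B.unop.obj.carrier p) ∈ Ideal.span {ε p} := htop ▸ Submodule.mem_top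
    rw [Ideal.mem_span_singleton'] at h1
    obtain ⟨c, hc⟩ := h1
    calc ε p = (c * ε p) * ε p := by rw [hc, one_mul]
      _ = c * ε p := by rw [mul_assoc, (hε p).1.eq]
      _ = 1 := hc
  -- equal ranks
  obtain ⟨nA, hnA⟩ := exists_rank hlt A.unop
  obtain ⟨nB, hnB⟩ := exists_rank hlt B.unop
  have hn : nB = nA := by
    rw [← hnA ξ.base _, ← hnB ξ.base _,
      ← card_fib_eq_rankAtStalk (X.ring ξ.base) Ω (A.unop.obj.carrier ξ.base),
      ← card_fib_eq_rankAtStalk (X.ring ξ.base) Ω (B.unop.obj.carrier ξ.base)]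
    exact (Nat.card_congr (Equiv.ofBijective _ hbij)).symm
  apply isIso_of_bijective
  intro p
  haveI := (A.unop.property.2 p).1
  haveI := (A.unop.property.2 p).2
  haveI := (B.unop.property.2 p).1
  haveI := (B.unop.property.2 p).2
  exact ⟨hinj p, surjective_of_injective_of_rankAtStalk_eq (f.unop.hom.app p) (hε p) (hinj p)
    (fun Q => by rw [hnA p Q, hnB p Q, hn])⟩

end Aux

open SchFin CategoryTheory in
/-- For a well-connected schematic finite space and a geometric point with values in an algebraically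
closed field, the fibre functor at that point (an étale cover A goes to the prime spectrum of Ω ⊗
A_x, x the point hit), on the opposite of the category of étale covers, reflects isomorphisms. (This
row carries as a hypothesis the local triviality of étale covers — for every étale cover A there are
a quasi-coherent algebra B, finite and faithfully flat at every point, and a natural number n with
B_p ⊗ A_p isomorphic to B_p^n as a B_p-algebra at every point p — which holds for well-connected
schematic spaces, the published proof of that fact going by way of an equivalence of quasi-coherent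
modules along qc-isomorphisms recalled without proof; the published statement does not carry it.) -/
theorem result (X : RSpace.{u}) (hX : X.IsSchematic)
    (hwc : X.IsWellConnected)
    (hlt : ∀ A : FEt X, ∃ (B : Alg X) (n : ℕ), B.IsCovering ∧
      ∀ p : X.pt, Nonempty (TensorProduct (X.ring p) (B.carrier p) (A.obj.carrier p) ≃ₐ[B.carrier p] (Fin n → B.carrier p)))
    {Ω : Type u} [Field Ω] [IsAlgClosed Ω] (ξ : GeomPt X Ω) : ξ.fibFunctor.ReflectsIsomorphisms := by
  exact Aux.main X hlt ξ

end Groth.Agent.S15631
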