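import Groth.Statements.S15633
import Mathlib
import Groth.Prelude.Def_SchFin
import Groth.Prelude.Def_SchFin2
import Groth.Agent.S15622
import Groth.Agent.S15621
import Groth.Agent.S15626
import Groth.Agent.Lib.Helper9.SF.KerIdem
import Groth.Agent.Lib.Helper9.SF.QuotEt
import Groth.Agent.Lib.Helper9.SF.Coprod
import Groth.Agent.Lib.Helper9.SF.Coeq
import Groth.Agent.Lib.Helper9.SF.CoeqExplicit
import Groth.Agent.Lib.Helper9.SF.PointsFacts
import Groth.Agent.Lib.Helper9.SF.FinGlue
-- import your own Groth.Agent.* helpers here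

set_option autoImplicit false
universe u
open SchFin SchFin.GeomPt

namespace Groth.Agent.S15633

open SchFin
namespace Aux
open SchFin TensorProduct CategoryTheory CategoryTheory.Limits H9SF Opposite

variable {X : RSpace.{u}} {Ω : Type u} [Field Ω] [IsAlgClosed Ω] (ξ : GeomPt X Ω)

/-- the fibre functor on morphisms is `fibComap` -/
theorem map_apply {A B : (FEt X)ᵒᵖ} (f : A ⟶ B) (𝔭 : ξ.Fib A.unop.obj) :
    letI : Algebra (X.ring ξ.base) Ω := ξ.toField.toAlgebra
    (ξ.fibFunctor.map f) 𝔭 = fibComap (f.unop.hom.app ξ.base) 𝔭 := rfl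

end Aux

namespace Aux
open SchFin TensorProduct CategoryTheory CategoryTheory.Limits H9SF Opposite

variable {X : RSpace.{u}} {Ω : Type u} [Field Ω] [IsAlgClosed Ω] (ξ : GeomPt X Ω)

theorem preservesEqualizer {A B : (FEt X)ᵒᵖ} (f g : A ⟶ B) :
    PreservesLimit (parallelPair f g) ξ.fibFunctor := by
  letI : Algebra (X.ring ξ.base) Ω := ξ.toField.toAlgebra
  have w' : (coeqπ f.unop g.unop).op ≫ f = (coeqπ f.unop g.unop).op ≫ g :=
    congrArg Quiver.Hom.op (coeq_condition f.unop g.unop)
  have hlim : IsLimit (Fork.ofι (coeqπ f.unop g.unop).op w') :=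
    Cofork.isColimitOfπEquivIsLimitOp (coeqπ f.unop g.unop) (coeqπ f.unop g.unop)
      (coeq_condition f.unop g.unop) w' rfl (coeqIsColimit f.unop g.unop)
  apply preservesLimit_of_preserves_limit_cone hlim
  refine (isLimitMapConeForkEquiv ξ.fibFunctor w').symm ?_
  haveI := (A.unop.property.2 ξ.base).1
  haveI : Module.Finite (X.ring ξ.base) ((coeqObj f.unop g.unop).obj.carrier ξ.base) :=
    ((coeqObj f.unop g.unop).property.2 ξ.base).1
  have hq := pt_quot (R := X.ring ξ.base) (D := Ω) (coeqElt f.unop g.unop ξ.base)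
  have key := fib_equalizer (Ω := Ω) (f.unop.hom.app ξ.base) (g.unop.hom.app ξ.base)
    ((coeqπ f.unop g.unop).hom.app ξ.base) hq.1 (fun k => by
      rw [coeqElt_iff f.unop g.unop ξ.base k]
      exact hq.2 k)
  apply finIsLimitFork
  · exact key.1
  · intro t ht
    exact (key.2 t).mp ht

end Aux

namespace Aux
open SchFin TensorProduct CategoryTheory CategoryTheory.Limits H9SF Opposite

variable {X : RSpace.{u}} {Ω : Type u} [Field Ω] [IsAlgClosed Ω] (ξ : GeomPt X Ω)

/-- the tensor product object -/
def tensObj (A B : FEt X) : FEt X :=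
  ⟨tensAlg A.obj B.obj, tensAlg_isEtCover _ _ A.property B.property⟩

def tensInl (A B : FEt X) : A ⟶ tensObj A B := ObjectProperty.homMk (tinl A.obj B.obj)
def tensInr (A B : FEt X) : B ⟶ tensObj A B := ObjectProperty.homMk (tinr A.obj B.obj)

/-- the product fan in the opposite category -/
def opProdIsLimit (A B : (FEt X)ᵒᵖ) :
    IsLimit (BinaryFan.mk (P := op (tensObj A.unop B.unop)) (tensInl A.unop B.unop).op
      (tensInr A.unop B.unop).op) :=
  BinaryFan.isLimitMk
    (fun s => (ObjectProperty.homMk (tdesc s.fst.unop.hom s.snd.unop.hom) :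
      tensObj A.unop B.unop ⟶ s.pt.unop).op)
    (fun s => by
      apply Quiver.Hom.unop_inj
      apply ObjectProperty.hom_ext
      exact tinl_tdesc _ _)
    (fun s => by
      apply Quiver.Hom.unop_inj
      apply ObjectProperty.hom_ext
      exact tinr_tdesc _ _)
    (fun s m hm1 hm2 => by
      apply Quiver.Hom.unop_inj
      apply ObjectProperty.hom_ext
      apply tens_hom_ext
      · have := congrArg (fun k : s.pt ⟶ A => k.unop.hom) hm1
        exact this.trans (tinl_tdesc _ _).symm
      · have := congrArg (fun k : s.pt ⟶ B => k.unop.hom) hm2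
        exact this.trans (tinr_tdesc _ _).symm)

theorem preservesBinaryProduct (A B : (FEt X)ᵒᵖ) : PreservesLimit (pair A B) ξ.fibFunctor := by
  letI : Algebra (X.ring ξ.base) Ω := ξ.toField.toAlgebra
  apply preservesLimit_of_preserves_limit_cone (opProdIsLimit A B)
  refine (isLimitMapConeBinaryFanEquiv ξ.fibFunctor _ _).symm ?_
  haveI := (A.unop.property.2 ξ.base).1
  haveI := (B.unop.property.2 ξ.base).1
  haveI : Module.Finite (X.ring ξ.base)
      (A.unop.obj.carrier ξ.base ⊗[X.ring ξ.base] B.unop.obj.carrier ξ.base) := inferInstance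
  apply finIsLimitBinaryFan
  exact fib_prod_bijective (Ω := Ω)
    (Algebra.TensorProduct.includeLeft :
      A.unop.obj.carrier ξ.base →ₐ[X.ring ξ.base]
        A.unop.obj.carrier ξ.base ⊗[X.ring ξ.base] B.unop.obj.carrier ξ.base)
    (Algebra.TensorProduct.includeRight :
      B.unop.obj.carrier ξ.base →ₐ[X.ring ξ.base]
        A.unop.obj.carrier ξ.base ⊗[X.ring ξ.base] B.unop.obj.carrier ξ.base)
    pt_tensor_bijective

end Aux

namespace Aux
open SchFin TensorProduct CategoryTheory CategoryTheory.Limits H9SF Opposite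

variable {X : RSpace.{u}} {Ω : Type u} [Field Ω] [IsAlgClosed Ω] (ξ : GeomPt X Ω)

/-- the structure algebra as an étale cover -/
def strObj (X : RSpace.{u}) : FEt X := ⟨Alg.str X, str_isEtCover⟩

def strIsInitial (X : RSpace.{u}) : IsInitial (strObj X) :=
  IsInitial.ofUniqueHom (fun Y => ObjectProperty.homMk (Groth.Agent.S15621.Aux.fromStr Y.obj))
    (fun Y m => by
      apply ObjectProperty.hom_ext
      exact Groth.Agent.S15621.Aux.fromStr_uniq Y.obj m.hom)

theorem preservesTerminal : PreservesLimit (Functor.empty.{0} (FEt X)ᵒᵖ) ξ.fibFunctor := by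
  letI : Algebra (X.ring ξ.base) Ω := ξ.toField.toAlgebra
  apply preservesLimit_of_preserves_limit_cone (terminalOpOfInitial (strIsInitial X))
  refine (isLimitMapConeEmptyConeEquiv ξ.fibFunctor _).symm ?_
  haveI : Unique (ξ.fibFunctor.obj (op (strObj X))) :=
    (fib_self_unique (R := X.ring ξ.base) (Ω := Ω)).some
  exact finIsTerminal _

/-- the terminal étale cover (zero algebra) -/
def zeroObj (X : RSpace.{u}) : FEt X :=
  ⟨Groth.Agent.S15622.Aux.piAlg (fun i : Empty => i.elim),
    Groth.Agent.S15622.Aux.piAlg_isEtCover _ (fun i => i.elim)⟩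

def zeroIsTerminal (X : RSpace.{u}) : IsTerminal (zeroObj X) :=
  IsTerminal.ofUniqueHom
    (fun Y => ObjectProperty.homMk (Groth.Agent.S15622.Aux.lift _ Y.obj (fun i => i.elim)))
    (fun Y m => by
      apply ObjectProperty.hom_ext
      apply Groth.Agent.S15622.Aux.pi_hom_ext
      intro i
      exact i.elim)

theorem preservesInitial : PreservesColimit (Functor.empty.{0} (FEt X)ᵒᵖ) ξ.fibFunctor := by
  letI : Algebra (X.ring ξ.base) Ω := ξ.toField.toAlgebra
  apply preservesColimit_of_preserves_colimit_cocone (initialOpOfTerminal (zeroIsTerminal X))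
  refine (isColimitMapCoconeEmptyCoconeEquiv ξ.fibFunctor _).symm ?_
  haveI : Subsingleton ((zeroObj X).obj.carrier ξ.base) :=
    inferInstanceAs (Subsingleton (∀ i : Empty, _))
  haveI : IsEmpty (ξ.fibFunctor.obj (op (zeroObj X))) :=
    fib_isEmpty_of_subsingleton (R := X.ring ξ.base) (Ω := Ω)
      (A := (zeroObj X).obj.carrier ξ.base)
  exact finIsInitial _

end Aux

namespace Aux
open SchFin TensorProduct CategoryTheory CategoryTheory.Limits H9SF Opposite
open Groth.Agent.S15622.Aux

variable {X : RSpace.{u}} {Ω : Type u} [Field Ω] [IsAlgClosed Ω] (ξ : GeomPt X Ω)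

/-- the two-term family -/
def fam2 (A B : FEt X) : Bool → Alg X := fun b => cond b A.obj B.obj

theorem fam2_isEtCover (A B : FEt X) (b : Bool) : (fam2 A B b).IsEtCover := by
  cases b
  · exact B.property
  · exact A.property

/-- the product object -/
def prodObj (A B : FEt X) : FEt X :=
  ⟨piAlg (fam2 A B), piAlg_isEtCover (fam2 A B) (fam2_isEtCover A B)⟩

def prodFst (A B : FEt X) : prodObj A B ⟶ A := ObjectProperty.homMk (proj (fam2 A B) true)
def prodSnd (A B : FEt X) : prodObj A B ⟶ B := ObjectProperty.homMk (proj (fam2 A B) false)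

def opCoprodIsColimit (A B : (FEt X)ᵒᵖ) :
    IsColimit (BinaryCofan.mk (P := op (prodObj A.unop B.unop)) (prodFst A.unop B.unop).op
      (prodSnd A.unop B.unop).op) :=
  BinaryCofan.isColimitMk
    (fun s => (ObjectProperty.homMk (lift (fam2 A.unop B.unop) s.pt.unop.obj
      (bfam s.inl.unop.hom s.inr.unop.hom)) : s.pt.unop ⟶ prodObj A.unop B.unop).op)
    (fun s => by
      apply Quiver.Hom.unop_inj
      apply ObjectProperty.hom_ext
      exact lift_proj (fam2 A.unop B.unop) s.pt.unop.obj _ true)
    (fun s => by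
      apply Quiver.Hom.unop_inj
      apply ObjectProperty.hom_ext
      exact lift_proj (fam2 A.unop B.unop) s.pt.unop.obj _ false)
    (fun s m hm1 hm2 => by
      apply Quiver.Hom.unop_inj
      apply ObjectProperty.hom_ext
      apply pi_hom_ext
      intro b
      cases b
      · have := congrArg (fun k : B ⟶ s.pt => k.unop.hom) hm2
        exact this.trans (lift_proj (fam2 A.unop B.unop) s.pt.unop.obj
          (bfam s.inl.unop.hom s.inr.unop.hom) false).symm
      · have := congrArg (fun k : A ⟶ s.pt => k.unop.hom) hm1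
        exact this.trans (lift_proj (fam2 A.unop B.unop) s.pt.unop.obj
          (bfam s.inl.unop.hom s.inr.unop.hom) true).symm)

theorem preservesBinaryCoproduct (A B : (FEt X)ᵒᵖ) :
    PreservesColimit (pair A B) ξ.fibFunctor := by
  letI : Algebra (X.ring ξ.base) Ω := ξ.toField.toAlgebra
  apply preservesColimit_of_preserves_colimit_cocone (opCoprodIsColimit A B)
  refine (isColimitMapCoconeBinaryCofanEquiv ξ.fibFunctor _ _).symm ?_
  let M : Bool → Type u := fun b => (fam2 A.unop B.unop b).carrier ξ.base
  haveI hfin : ∀ b, Module.Finite (X.ring ξ.base) (M b) := fun b =>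
    ((fam2_isEtCover A.unop B.unop b).2 ξ.base).1
  haveI : Module.Finite (X.ring ξ.base) (M true) := hfin true
  haveI : Module.Finite (X.ring ξ.base) (M false) := hfin false
  haveI : Module.Finite (X.ring ξ.base) (∀ b, M b) := inferInstance
  have key := fib_coprod (Ω := Ω) (Pi.evalAlgHom (X.ring ξ.base) M true)
    (Pi.evalAlgHom (X.ring ξ.base) M false) (pt_pi_injective M true) (pt_pi_injective M false)
    (pt_pi_disjoint M) (pt_pi_surj M)
  apply finIsColimitBinaryCofan
  · exact key.2.2.2
  · exact key.1
  · exact key.2.1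
  · exact key.2.2.1

end Aux

namespace Aux
open SchFin TensorProduct CategoryTheory CategoryTheory.Limits H9SF Opposite
open Groth.Agent.S15622.Aux

variable {X : RSpace.{u}} {Ω : Type u} [Field Ω] [IsAlgClosed Ω] (ξ : GeomPt X Ω)

theorem preservesEpi (hX : X.IsSchematic) : ξ.fibFunctor.PreservesEpimorphisms := by
  letI : Algebra (X.ring ξ.base) Ω := ξ.toField.toAlgebra
  refine ⟨fun {A B} f hf => ?_⟩
  haveI : Mono f.unop := unop_mono_of_epi f
  have hinj := Groth.Agent.S15626.result X hX f.unop ξ.base
  haveI := (A.unop.property.2 ξ.base).1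
  haveI := (A.unop.property.2 ξ.base).2
  haveI := (B.unop.property.2 ξ.base).1
  haveI := (B.unop.property.2 ξ.base).2
  obtain ⟨e, he⟩ := exists_isKerIdem (f.unop.hom.app ξ.base)
  apply fin_epi_of_surjective
  exact fibComap_surjective_of_injective (Ω := Ω) (f.unop.hom.app ξ.base) he hinj

theorem main (X : RSpace.{u}) (hX : X.IsSchematic)
    {Ω : Type u} [Field Ω] [IsAlgClosed Ω] (ξ : GeomPt X Ω) :
    PreservesLimitsOfShape (Discrete PEmpty.{1}) ξ.fibFunctor ∧
      PreservesLimitsOfShape WalkingCospan ξ.fibFunctor ∧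
      PreservesFiniteCoproducts ξ.fibFunctor ∧ ξ.fibFunctor.PreservesEpimorphisms := by
  haveI : HasInitial (FEt X) := (strIsInitial X).hasInitial
  haveI : HasBinaryCoproducts (FEt X) := hasBinaryCoproducts_FEt
  haveI : HasCoequalizers (FEt X) := hasCoequalizers_FEt
  haveI : HasFiniteCoproducts (FEt X) := hasFiniteCoproducts_of_has_binary_and_initial
  haveI : HasTerminal (FEt X) := (zeroIsTerminal X).hasTerminal
  haveI : HasBinaryProducts (FEt X) := (Groth.Agent.S15622.result X hX).2
  haveI : HasFiniteProducts (FEt X) := hasFiniteProducts_of_has_binary_and_terminal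
  haveI := preservesTerminal ξ
  haveI h0 : PreservesLimitsOfShape (Discrete PEmpty.{1}) ξ.fibFunctor :=
    preservesLimitsOfShape_pempty_of_preservesTerminal ξ.fibFunctor
  haveI : PreservesLimitsOfShape (Discrete WalkingPair) ξ.fibFunctor :=
    ⟨fun {K} => by
      haveI := preservesBinaryProduct ξ (K.obj ⟨WalkingPair.left⟩) (K.obj ⟨WalkingPair.right⟩)
      exact preservesLimit_of_iso_diagram ξ.fibFunctor (diagramIsoPair K).symm⟩
  haveI : PreservesFiniteProducts ξ.fibFunctor :=
    PreservesFiniteProducts.of_preserves_binary_and_terminal ξ.fibFunctor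
  haveI : PreservesLimitsOfShape WalkingParallelPair ξ.fibFunctor :=
    ⟨fun {K} => by
      haveI := preservesEqualizer ξ (K.map WalkingParallelPairHom.left)
        (K.map WalkingParallelPairHom.right)
      exact preservesLimit_of_iso_diagram ξ.fibFunctor (diagramIsoParallelPair K).symm⟩
  haveI : PreservesFiniteLimits ξ.fibFunctor :=
    preservesFiniteLimits_of_preservesEqualizers_and_finiteProducts ξ.fibFunctor
  haveI := preservesInitial ξ
  haveI : PreservesColimitsOfShape (Discrete PEmpty.{1}) ξ.fibFunctor :=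
    preservesColimitsOfShape_pempty_of_preservesInitial ξ.fibFunctor
  haveI : PreservesColimitsOfShape (Discrete WalkingPair) ξ.fibFunctor :=
    ⟨fun {K} => by
      haveI := preservesBinaryCoproduct ξ (K.obj ⟨WalkingPair.left⟩) (K.obj ⟨WalkingPair.right⟩)
      exact preservesColimit_of_iso_diagram ξ.fibFunctor (diagramIsoPair K).symm⟩
  refine ⟨h0, inferInstance, ⟨fun n => ?_⟩, preservesEpi ξ hX⟩
  exact PreservesFiniteCoproducts.of_preserves_binary_and_initial ξ.fibFunctor (Fin n)

end Aux

open SchFin CategoryTheory CategoryTheory.Limits in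
/-- For a schematic finite space and a geometric point with values in an algebraically closed field Ω,
the fibre functor at that point, from the opposite of the category of étale covers to finite sets
(an étale cover A goes to the prime spectrum of Ω ⊗ A_x, x the point hit), preserves terminal
objects, pullbacks, finite coproducts and epimorphisms. (The published statement also includes
quotients by finite groups of automorphisms, whose existence rests on local triviality of étale
covers; that clause is part of the Galois-category row and is omitted here. The published statement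
sits inside an argument for a well-connected space; these four clauses use no connectedness.) -/
theorem result (X : RSpace.{u}) (hX : X.IsSchematic)
    {Ω : Type u} [Field Ω] [IsAlgClosed Ω] (ξ : GeomPt X Ω) :
    PreservesLimitsOfShape (Discrete PEmpty.{1}) ξ.fibFunctor ∧ PreservesLimitsOfShape WalkingCospan ξ.fibFunctor ∧
      PreservesFiniteCoproducts ξ.fibFunctor ∧ ξ.fibFunctor.PreservesEpimorphisms := by
  exact Aux.main X hX ξ

end Groth.Agent.S15633
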