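import Groth.Statements.S15632
import Mathlib
import Groth.Prelude.Def_SchFin
import Groth.Prelude.Def_SchFin2
import Groth.Agent.Lib.Helper9.SF.InvAlg
import Groth.Agent.Lib.Helper9.SF.FibOrbit
import Groth.Agent.Lib.Helper9.SF.PointsFacts
import Groth.Agent.Lib.Helper9.SF.KerIdem
import Groth.Agent.S15621
import Groth.Agent.S15622
import Groth.Agent.S15628
import Groth.Agent.S15631
import Groth.Agent.S15633
-- import your own Groth.Agent.* helpers here

set_option autoImplicit false
universe u
open SchFin SchFin.GeomPt

namespace Groth.Agent.S15632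

open SchFin SchFin.GeomPt
namespace Aux
open SchFin TensorProduct CategoryTheory CategoryTheory.Limits H9SF Opposite

variable {X : RSpace.{u}}

section Quot
variable (hX : X.IsSchematic)
  (hlt : ∀ A : FEt X, ∃ (B : Alg X) (n : ℕ), B.IsCovering ∧
      ∀ p : X.pt, Nonempty (TensorProduct (X.ring p) (B.carrier p) (A.obj.carrier p) ≃ₐ[B.carrier p] (Fin n → B.carrier p)))
  {G : Type u} [Group G] [Finite G] (K : SingleObj G ⥤ (FEt X)ᵒᵖ)

/-- the object acted on -/
def qA : FEt X := (K.obj (SingleObj.star G)).unop

/-- the action -/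
def qσ (g : G) : (qA K).obj ⟶ (qA K).obj :=
  (K.map (show SingleObj.star G ⟶ SingleObj.star G from g)).unop.hom

include hX hlt in
theorem qI_prop : (invAlg (qA K).obj (qσ K)).IsEtCover := by
  classical
  haveI : Fintype G := Fintype.ofFinite G
  exact invAlg_isEtCover (qA K).obj (qσ K) hX.1 (qA K).property (hlt (qA K))

/-- the invariants -/
def qI : FEt X := ⟨invAlg (qA K).obj (qσ K), qI_prop hX hlt K⟩

/-- the inclusion of the invariants -/
def qι : qI hX hlt K ⟶ qA K := ObjectProperty.homMk (invIncl (qA K).obj (qσ K))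

theorem qι_comp (g : G) :
    qι hX hlt K ≫ (K.map (show SingleObj.star G ⟶ SingleObj.star G from g)).unop = qι hX hlt K := by
  apply ObjectProperty.hom_ext
  exact invIncl_comp (qA K).obj (qσ K) g

/-- the quotient cocone -/
def qCocone : Cocone K where
  pt := op (qI hX hlt K)
  ι := { app := fun _ => (qι hX hlt K).op
         naturality := fun j j' f => by
           show K.map f ≫ (qι hX hlt K).op = (qι hX hlt K).op ≫ 𝟙 _
           rw [Category.comp_id]
           exact congrArg Quiver.Hom.op (qι_comp hX hlt K f) }

theorem q_hs (s : Cocone K) (g : G) :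
    (s.ι.app (SingleObj.star G)).unop.hom ≫ qσ K g = (s.ι.app (SingleObj.star G)).unop.hom := by
  have := s.w (show SingleObj.star G ⟶ SingleObj.star G from g)
  exact congrArg (fun m : K.obj (SingleObj.star G) ⟶ s.pt => m.unop.hom) this

/-- the quotient cocone is a colimit -/
def qIsColimit : IsColimit (qCocone hX hlt K) where
  desc s := (ObjectProperty.homMk
    (invLift (qA K).obj (qσ K) (s.ι.app (SingleObj.star G)).unop.hom (q_hs K s)) :
      s.pt.unop ⟶ qI hX hlt K).op
  fac s j := by
    apply Quiver.Hom.unop_inj
    apply ObjectProperty.hom_ext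
    exact invLift_incl (qA K).obj (qσ K) _ (q_hs K s)
  uniq s m hm := by
    apply Quiver.Hom.unop_inj
    apply ObjectProperty.hom_ext
    apply inv_hom_ext
    have := congrArg (fun m : K.obj (SingleObj.star G) ⟶ s.pt => m.unop.hom) (hm (SingleObj.star G))
    exact this.trans (invLift_incl (qA K).obj (qσ K) _ (q_hs K s)).symm

section Pres
variable {Ω : Type u} [Field Ω] [IsAlgClosed Ω] (ξ : GeomPt X Ω)

theorem qσ_one : qσ K (1 : G) = 𝟙 (qA K).obj := by
  have h : K.map (show SingleObj.star G ⟶ SingleObj.star G from (1 : G)) = 𝟙 _ :=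
    K.map_id (SingleObj.star G)
  show (K.map (show SingleObj.star G ⟶ SingleObj.star G from (1 : G))).unop.hom = _
  rw [h]
  rfl

theorem qσ_mul (g h : G) : qσ K g ≫ qσ K h = qσ K (g * h) := by
  have h1 : K.map (show SingleObj.star G ⟶ SingleObj.star G from (g * h)) =
      K.map (show SingleObj.star G ⟶ SingleObj.star G from h) ≫
        K.map (show SingleObj.star G ⟶ SingleObj.star G from g) :=
    K.map_comp (show SingleObj.star G ⟶ SingleObj.star G from h)
      (show SingleObj.star G ⟶ SingleObj.star G from g)
  show _ = (K.map (show SingleObj.star G ⟶ SingleObj.star G from (g * h))).unop.hom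
  rw [h1]
  rfl

include hX hlt in
theorem preservesQuot : PreservesColimit K ξ.fibFunctor := by
  classical
  letI : Algebra (X.ring ξ.base) Ω := ξ.toField.toAlgebra
  haveI : Fintype G := Fintype.ofFinite G
  apply preservesColimit_of_preserves_colimit_cocone (qIsColimit hX hlt K)
  haveI := ((qA K).property.2 ξ.base).1
  haveI := ((qA K).property.2 ξ.base).2
  haveI : Module.Finite (X.ring ξ.base) ((invAlg (qA K).obj (qσ K)).carrier ξ.base) :=
    ((qI hX hlt K).property.2 ξ.base).1
  haveI : Algebra.Etale (X.ring ξ.base) ((invAlg (qA K).obj (qσ K)).carrier ξ.base) :=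
    ((qI hX hlt K).property.2 ξ.base).2
  refine finIsColimitQuot (K ⋙ ξ.fibFunctor) (ξ.fibFunctor.mapCocone (qCocone hX hlt K)) ?_ ?_
  · obtain ⟨e, he⟩ := exists_isKerIdem ((invIncl (qA K).obj (qσ K)).app ξ.base)
    exact fibComap_surjective_of_injective (Ω := Ω) ((invIncl (qA K).obj (qσ K)).app ξ.base) he
      (invIncl_injective (qA K).obj (qσ K) ξ.base)
  · intro x y hxy
    have key := fib_orbit (Ω := Ω) (fun g => (qσ K g).app ξ.base)
      ⟨1, by rw [qσ_one]; rfl⟩
      (fun h => ⟨Equiv.mulRight h, fun g => by
        show ((qσ K g ≫ qσ K h)).app ξ.base = _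
        rw [qσ_mul]
        rfl⟩) x y hxy
    exact key

end Pres

end Quot

section Main

theorem monoSummand (hX : X.IsSchematic)
    (hepi : ∀ (A B : FEt X) (f : A ⟶ B), Epi f → ∀ p : X.pt, Function.Surjective (f.hom.app p))
    {Y Z : (FEt X)ᵒᵖ} (i : Y ⟶ Z) [Mono i] :
    ∃ (W : (FEt X)ᵒᵖ) (u : W ⟶ Z), Nonempty (IsColimit (BinaryCofan.mk i u)) := by
  haveI : Epi i.unop := unop_epi_of_mono i
  obtain ⟨D, π, ⟨hlim⟩⟩ := Groth.Agent.S15628.result X hX i.unop (hepi _ _ i.unop inferInstance)
  refine ⟨op D, π.op, ⟨?_⟩⟩
  refine BinaryCofan.isColimitMk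
    (fun s => (hlim.lift (BinaryFan.mk s.inl.unop s.inr.unop)).op) ?_ ?_ ?_
  · intro s
    apply Quiver.Hom.unop_inj
    exact hlim.fac (BinaryFan.mk s.inl.unop s.inr.unop) ⟨WalkingPair.left⟩
  · intro s
    apply Quiver.Hom.unop_inj
    exact hlim.fac (BinaryFan.mk s.inl.unop s.inr.unop) ⟨WalkingPair.right⟩
  · intro s m h1 h2
    apply Quiver.Hom.unop_inj
    apply hlim.uniq (BinaryFan.mk s.inl.unop s.inr.unop) m.unop
    rintro ⟨j⟩
    cases j
    · exact congrArg Quiver.Hom.unop h1
    · exact congrArg Quiver.Hom.unop h2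

theorem main (X : RSpace.{u}) (hX : X.IsSchematic)
    (hwc : X.IsWellConnected)
    (hlt : ∀ A : FEt X, ∃ (B : Alg X) (n : ℕ), B.IsCovering ∧
      ∀ p : X.pt, Nonempty (TensorProduct (X.ring p) (B.carrier p) (A.obj.carrier p) ≃ₐ[B.carrier p] (Fin n → B.carrier p)))
    (hepi : ∀ (A B : FEt X) (f : A ⟶ B), Epi f → ∀ p : X.pt, Function.Surjective (f.hom.app p))
    {Ω : Type u} [Field Ω] [IsAlgClosed Ω] (ξ : GeomPt X Ω) :
    ∃ h : PreGaloisCategory (FEt X)ᵒᵖ, @PreGaloisCategory.FiberFunctor (FEt X)ᵒᵖ _ h ξ.fibFunctor := by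
  obtain ⟨hinit, hpush⟩ := Groth.Agent.S15621.result X hX
  obtain ⟨hterm, hbin⟩ := Groth.Agent.S15622.result X hX
  haveI : HasFiniteProducts (FEt X) := hasFiniteProducts_of_has_binary_and_terminal
  obtain ⟨p1, p2, p3, p4⟩ := Groth.Agent.S15633.result X hX ξ
  have p6 := Groth.Agent.S15631.result X hX hwc hlt ξ
  have h : PreGaloisCategory (FEt X)ᵒᵖ :=
    { hasTerminal := inferInstance
      hasPullbacks := inferInstance
      hasFiniteCoproducts := inferInstance
      hasQuotientsByFiniteGroups := fun G _ _ =>
        ⟨fun K => HasColimit.mk ⟨qCocone hX hlt K, qIsColimit hX hlt K⟩⟩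
      monoInducesIsoOnDirectSummand := fun i _ => monoSummand hX hepi i }
  refine ⟨h, ?_⟩
  letI := h
  exact
    { preservesTerminalObjects := p1
      preservesPullbacks := p2
      preservesFiniteCoproducts := p3
      preservesEpis := p4
      preservesQuotientsByFiniteGroups := fun G _ _ => ⟨fun {K} => preservesQuot hX hlt K ξ⟩
      reflectsIsos := p6 }

end Main

end Aux

open SchFin CategoryTheory in
/-- For a well-connected schematic finite space and a geometric point with values in an algebraically
closed field, the opposite of the category of étale covers, with the fibre functor at that point (an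
étale cover A goes to the prime spectrum of Ω ⊗ A_x, x the point hit), is a Galois category: a
pre-Galois category for which that functor is a fibre functor. (The published statement assumes the
space only connected and reduces to the well-connected case through a pointwise construction and a
comparison of geometric points resting on a result recalled without proof; this row takes the space
well-connected. It carries two hypotheses the published statement does not: the local triviality of
étale covers — for every étale cover A, a quasi-coherent algebra B, finite and faithfully flat at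
every point, and n with B_p ⊗ A_p isomorphic to B_p^n as B_p-algebras at every point — and the
pointwise surjectivity of epimorphisms of étale covers; both hold for every such space, each being
proved in the published text by way of a result on quasi-coherent modules recalled without proof.) -/
theorem result (X : RSpace.{u}) (hX : X.IsSchematic)
    (hwc : X.IsWellConnected)
    (hlt : ∀ A : FEt X, ∃ (B : Alg X) (n : ℕ), B.IsCovering ∧
      ∀ p : X.pt, Nonempty (TensorProduct (X.ring p) (B.carrier p) (A.obj.carrier p) ≃ₐ[B.carrier p] (Fin n → B.carrier p)))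
    (hepi : ∀ (A B : FEt X) (f : A ⟶ B), Epi f → ∀ p : X.pt, Function.Surjective (f.hom.app p))
    {Ω : Type u} [Field Ω] [IsAlgClosed Ω] (ξ : GeomPt X Ω) :
    ∃ h : PreGaloisCategory (FEt X)ᵒᵖ, @PreGaloisCategory.FiberFunctor (FEt X)ᵒᵖ _ h ξ.fibFunctor := by
  exact Aux.main X hX hwc hlt hepi ξ

end Groth.Agent.S15632
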