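import Groth.Statements.S1568
import Mathlib
import Groth.Agent.Lib.Helper4.EffCartier
import Groth.Agent.S19618

set_option autoImplicit false
universe u
open CategoryTheory CategoryTheory.Limits AlgebraicGeometry
open Divisors

namespace Groth.Agent.S1568

open CategoryTheory AlgebraicGeometry TopologicalSpace
namespace H1568
open Groth.Agent.Helper4

theorem main (X : Scheme.{u}) [IsLocallyNoetherian X]
    (D : X.IdealSheafData) (hD : BlowUp.IsEffCartierIdeal D) (ξ : X)
    (hξ : ξ ∈ (D.support : Set X)) (hgen : ∀ y ∈ (D.support : Set X), y ⤳ ξ → y = ξ) :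
    ringKrullDim (X.presheaf.stalk ξ) = 1 := by
  apply le_antisymm
  · obtain ⟨U, hξU, f, hf, hI⟩ := hD ξ
    have hnoeth : IsNoetherianRing Γ(X, U.1) := IsLocallyNoetherian.component_noetherian U
    let P : PrimeSpectrum Γ(X, U.1) := U.2.primeIdealOf ⟨ξ, hξU⟩
    let _ := TopCat.Presheaf.algebra_section_stalk X.presheaf (⟨ξ, hξU⟩ : U.1)
    have hloc : IsLocalization.AtPrime (X.presheaf.stalk ξ) P.asIdeal :=
      U.2.isLocalization_stalk ⟨ξ, hξU⟩
    rw [IsLocalization.AtPrime.ringKrullDim_eq_height P.asIdeal (X.presheaf.stalk ξ)]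
    have hfP : f ∈ P.asIdeal := by
      rw [← IsLocalization.AtPrime.under_maximalIdeal (X.presheaf.stalk ξ) P.asIdeal,
        Ideal.mem_comap, IsLocalRing.mem_maximalIdeal]
      intro hunit
      have : ξ ∈ X.basicOpen f := (X.mem_basicOpen f ξ hξU).mpr hunit
      exact (EffCartier.mem_basicOpen_iff_not_mem_support U f hI ξ hξU).mp this hξ
    have hmin : P.asIdeal ∈ (Ideal.span {f}).minimalPrimes := by
      refine ⟨⟨P.2, ?_⟩, ?_⟩
      · rw [Ideal.span_le, Set.singleton_subset_iff]; exact hfP
      · rintro q ⟨hq, hfq⟩ hqp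
        let Q : PrimeSpectrum Γ(X, U.1) := ⟨q, hq⟩
        have hspec : Q ⤳ P := (PrimeSpectrum.le_iff_specializes _ _).mp hqp
        have h2 : U.2.fromSpec Q ⤳ U.2.fromSpec P := hspec.map U.2.fromSpec.continuous
        have hP : U.2.fromSpec P = ξ := U.2.fromSpec_primeIdealOf ⟨ξ, hξU⟩
        rw [hP] at h2
        have hyU : U.2.fromSpec Q ∈ U.1 := by
          have : U.2.fromSpec Q ∈ Set.range U.2.fromSpec := ⟨Q, rfl⟩
          rw [U.2.range_fromSpec] at this
          exact this
        have hys : U.2.fromSpec Q ∈ D.support := by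
          by_contra hcon
          have h3 := (EffCartier.mem_basicOpen_iff_not_mem_support U f hI _ hyU).mpr hcon
          have h4 : Q ∈ U.2.fromSpec ⁻¹ᵁ X.basicOpen f := h3
          rw [U.2.fromSpec_preimage_basicOpen] at h4
          exact h4 (hfq (Ideal.subset_span rfl))
        have h5 : U.2.fromSpec Q = U.2.fromSpec P := by
          rw [hP]; exact hgen _ hys h2
        have h6 : Q = P := U.2.fromSpec.isOpenEmbedding.injective h5
        rw [← h6]
    have := Ideal.height_le_one_of_isPrincipal_of_mem_minimalPrimes (Ideal.span {f}) P.asIdeal hmin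
    exact_mod_cast this
  · exact Groth.Agent.S19618.H19618.stalk_dim_ge_one D hD ξ hξ

end H1568

/-- Let X be locally Noetherian and D an effective Cartier divisor. At a point ξ of D that is maximal in
D under generisation (a generic point of a component of D), the local ring of X has dimension
exactly one. -/
theorem result (X : Scheme.{u}) [IsLocallyNoetherian X]
    (D : X.IdealSheafData) (hD : BlowUp.IsEffCartierIdeal D) (ξ : X)
    (hξ : ξ ∈ (D.support : Set X)) (hgen : ∀ y ∈ (D.support : Set X), y ⤳ ξ → y = ξ) :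
    ringKrullDim (X.presheaf.stalk ξ) = 1 := by
  exact H1568.main X D hD ξ hξ hgen

end Groth.Agent.S1568
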