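import Groth.Statements.S7483
import Groth.Agent.Lib.Helper2.Desc.FinLocFree


set_option autoImplicit false
open CategoryTheory CategoryTheory.Limits AlgebraicGeometry
universe u
open Desc

namespace Groth.Agent.S7483

/-- Suppose p : X -> Y is surjective and finite locally free (that is, finite, flat, and locally of
finite presentation), and consider a scheme V over X with the property that any finite collection of
points of V mapping to a common point of Y lies inside some affine open subset of V. Under these
assumptions, each descent datum on V relative to p is effective, meaning it is isomorphic to the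
canonical descent datum attached to some scheme over Y. (Descent data are formulated in
functor-of-points form.) -/
theorem result {X Y : Scheme.{u}} (p : X ⟶ Y) [Surjective p] [IsFinite p] [Flat p] [LocallyOfFinitePresentation p] (D : Desc.SchDD p) (hV : ∀ (y : Y) (s : Finset ↑(D.obj.left)), (∀ v ∈ s, p (D.obj.hom v) = y) → ∃ U : D.obj.left.Opens, IsAffineOpen U ∧ ∀ v ∈ s, v ∈ U) : ∃ W : Over Y, Nonempty ((Desc.toDD p).obj W ≅ D) := by
  classical
  apply Groth.Agent.Helper2.DescSat.finLocFree_effective p D
  intro v
  have hfin : ((Groth.Agent.Helper2.DescSat.rs p D).base ''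
      ((Groth.Agent.Helper2.DescSat.rt p D).base ⁻¹' {v})).Finite :=
    (Groth.Agent.Helper2.DescSat.finite_rt_fibre p D v).image _
  obtain ⟨U, hU, hUs⟩ := hV (p (D.obj.hom v)) hfin.toFinset (fun w hw => by
    obtain ⟨r, hr, rfl⟩ := (Set.Finite.mem_toFinset hfin).mp hw
    have hr' : (Groth.Agent.Helper2.DescSat.rt p D).base r = v := hr
    have e : Groth.Agent.Helper2.DescSat.rs p D ≫ D.obj.hom ≫ p =
        Groth.Agent.Helper2.DescSat.rt p D ≫ D.obj.hom ≫ p := by
      rw [← Category.assoc (Groth.Agent.Helper2.DescSat.rt p D),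
        Groth.Agent.Helper2.DescSat.rt_hom]
      exact pullback.condition.symm
    rw [← hr', ← Scheme.Hom.comp_apply, ← Scheme.Hom.comp_apply, ← Scheme.Hom.comp_apply,
      ← Scheme.Hom.comp_apply, e])
  have : IsAffine (U : Scheme.{u}) := hU
  refine ⟨U, ⟨U, hU, 𝟙 _, inferInstance⟩, ?_⟩
  intro T x₀ x₁ h w τ hτ
  have hw2 : w.1 ≫ D.obj.hom = x₀ := w.2
  let g : T ⟶ Groth.Agent.Helper2.DescSat.Rel p D := pullback.lift x₁ w.1 (by
    rw [← Category.assoc, hw2, h])
  have hg := Groth.Agent.Helper2.DescSat.key p D x₀ x₁ h w g (pullback.lift_fst _ _ _)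
    (pullback.lift_snd _ _ _)
  apply hUs
  rw [Set.Finite.mem_toFinset]
  refine ⟨g.base τ, ?_, ?_⟩
  · change (Groth.Agent.Helper2.DescSat.rt p D).base (g.base τ) = v
    rw [← Scheme.Hom.comp_apply, ← hg]
    exact hτ
  · have e : g ≫ Groth.Agent.Helper2.DescSat.rs p D = w.1 := pullback.lift_snd _ _ _
    rw [← Scheme.Hom.comp_apply, e]

end Groth.Agent.S7483
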