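import Groth.Statements.S1569
import Mathlib
import Groth.Agent.Lib.Helper4.EffCartier

set_option autoImplicit false
universe u
open CategoryTheory CategoryTheory.Limits AlgebraicGeometry
open Divisors

namespace Groth.Agent.S1569

open CategoryTheory AlgebraicGeometry TopologicalSpace
namespace H1569
open Groth.Agent.Helper4
theorem exists_unit_mul_pow (A : Type*) [CommRing A] [IsNoetherianRing A] [IsLocalRing A] (g : A)
    (hm : IsLocalRing.maximalIdeal A = Ideal.span {g}) (x : A) (hx : x ≠ 0) :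
    ∃ (n : ℕ) (u : A), IsUnit u ∧ x = u * g ^ n := by
  classical
  have hne : IsLocalRing.maximalIdeal A ≠ ⊤ := Ideal.IsPrime.ne_top inferInstance
  have hinf := Ideal.iInf_pow_eq_bot_of_isLocalRing (IsLocalRing.maximalIdeal A) hne
  have hex : ∃ n, x ∉ IsLocalRing.maximalIdeal A ^ n := by
    by_contra hcon
    push Not at hcon
    apply hx
    have : x ∈ ⨅ i, IsLocalRing.maximalIdeal A ^ i := by
      rw [Ideal.mem_iInf]; exact hcon
    rwa [hinf, Ideal.mem_bot] at this
  let N := Nat.find hex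
  have hN : x ∉ IsLocalRing.maximalIdeal A ^ N := Nat.find_spec hex
  have hNpos : N ≠ 0 := by
    intro h0
    rw [h0, pow_zero, Ideal.one_eq_top] at hN
    exact hN trivial
  obtain ⟨n, hn⟩ := Nat.exists_eq_succ_of_ne_zero hNpos
  have hxn : x ∈ IsLocalRing.maximalIdeal A ^ n := by
    by_contra hcon
    have := Nat.find_min' hex hcon
    omega
  rw [hm, Ideal.span_singleton_pow, Ideal.mem_span_singleton'] at hxn
  obtain ⟨u, hu⟩ := hxn
  refine ⟨n, u, ?_, hu.symm⟩
  by_contra hnu
  have hum : u ∈ IsLocalRing.maximalIdeal A := (IsLocalRing.mem_maximalIdeal u).mpr hnu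
  apply hN
  rw [hn, pow_succ', ← hu]
  apply Ideal.mul_mem_mul hum
  rw [hm, Ideal.span_singleton_pow]
  exact Ideal.subset_span rfl

theorem dvr_of_principal (A : Type*) [CommRing A] [IsNoetherianRing A] [IsLocalRing A] (g : A)
    (hg : g ∈ nonZeroDivisors A) (hm : IsLocalRing.maximalIdeal A = Ideal.span {g}) :
    ∃ _ : IsDomain A, IsDiscreteValuationRing A := by
  have hnzd : ∀ x : A, x ≠ 0 → x ∈ nonZeroDivisors A := by
    intro x hx
    obtain ⟨n, u, hu, rfl⟩ := exists_unit_mul_pow A g hm x hx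
    exact Submonoid.mul_mem _ hu.mem_nonZeroDivisors (pow_mem hg n)
  have hnz : NoZeroDivisors A := by
    constructor
    intro a b hab
    by_cases ha : a = 0
    · exact Or.inl ha
    · right
      have := hnzd a ha
      rw [mul_comm] at hab
      exact mem_nonZeroDivisors_iff_right.mp this b hab
  have hdom : IsDomain A := NoZeroDivisors.to_isDomain A
  refine ⟨hdom, ?_⟩
  have hgm : g ∈ IsLocalRing.maximalIdeal A := hm ▸ Ideal.subset_span rfl
  have hnf : ¬ IsField A := by
    intro hf
    have hg0 : g ≠ 0 := nonZeroDivisors.ne_zero hg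
    obtain ⟨b, hb⟩ := hf.mul_inv_cancel hg0
    exact (IsLocalRing.mem_maximalIdeal g).mp hgm (IsUnit.of_mul_eq_one b hb)
  have hprin : (IsLocalRing.maximalIdeal A).IsPrincipal := ⟨⟨g, by rw [hm]⟩⟩
  exact ((IsDiscreteValuationRing.TFAE A hnf).out 0 4).mpr hprin



theorem main (X : Scheme.{u}) [IsNoetherian X]
    (D : X.IdealSheafData) (hD : BlowUp.IsEffCartierIdeal D) [IsIntegral D.subscheme]
    (ξ : X) (hξ : IsGenericPoint ξ (D.support : Set X)) :
    ∃ _ : IsDomain (X.presheaf.stalk ξ), IsDiscreteValuationRing (X.presheaf.stalk ξ) := by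
  have hξs : ξ ∈ (D.support : Set X) := hξ.mem
  obtain ⟨U, hξU, f, hf, hI⟩ := hD ξ
  let P : PrimeSpectrum Γ(X, U.1) := U.2.primeIdealOf ⟨ξ, hξU⟩
  let _ := TopCat.Presheaf.algebra_section_stalk X.presheaf (⟨ξ, hξU⟩ : U.1)
  have hloc : IsLocalization.AtPrime (X.presheaf.stalk ξ) P.asIdeal :=
    U.2.isLocalization_stalk ⟨ξ, hξU⟩
  have hfP : f ∈ P.asIdeal := by
    rw [← IsLocalization.AtPrime.under_maximalIdeal (X.presheaf.stalk ξ) P.asIdeal,
      Ideal.mem_comap, IsLocalRing.mem_maximalIdeal]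
    intro hunit
    have : ξ ∈ X.basicOpen f := (X.mem_basicOpen f ξ hξU).mpr hunit
    exact (EffCartier.mem_basicOpen_iff_not_mem_support U f hI ξ hξU).mp this hξs
  -- `(f)` is prime
  have hprime : (Ideal.span {f} : Ideal Γ(X, U.1)).IsPrime := by
    rw [← hI, ← Ideal.Quotient.isDomain_iff_prime]
    have hne : Nonempty (D.subschemeι ⁻¹ᵁ U.1) := by
      have : ξ ∈ Set.range D.subschemeι := by
        rw [D.range_subschemeι]; exact hξs
      obtain ⟨d, hd⟩ := this
      exact ⟨⟨d, by show D.subschemeι d ∈ U.1; rw [hd]; exact hξU⟩⟩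
    have hdom : IsDomain Γ(D.subscheme, D.subschemeι ⁻¹ᵁ U.1) := inferInstance
    exact (D.subschemeObjIso U).commRingCatIsoToRingEquiv.symm.toMulEquiv.isDomain _
  let Q : PrimeSpectrum Γ(X, U.1) := ⟨Ideal.span {f}, hprime⟩
  have hP : U.2.fromSpec P = ξ := U.2.fromSpec_primeIdealOf ⟨ξ, hξU⟩
  have hPQ : P.asIdeal = Ideal.span {f} := by
    apply le_antisymm
    · have hyU : U.2.fromSpec Q ∈ U.1 := by
        have : U.2.fromSpec Q ∈ Set.range U.2.fromSpec := ⟨Q, rfl⟩
        rw [U.2.range_fromSpec] at this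
        exact this
      have hys : U.2.fromSpec Q ∈ D.support := by
        by_contra hcon
        have h3 := (EffCartier.mem_basicOpen_iff_not_mem_support U f hI _ hyU).mpr hcon
        have h4 : Q ∈ U.2.fromSpec ⁻¹ᵁ X.basicOpen f := h3
        rw [U.2.fromSpec_preimage_basicOpen] at h4
        exact h4 (Ideal.subset_span rfl)
      have hspec : ξ ⤳ U.2.fromSpec Q := hξ.specializes hys
      rw [← hP] at hspec
      have hspec' : P ⤳ Q :=
        U.2.fromSpec.isOpenEmbedding.isInducing.specializes_iff.mp hspec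
      exact (PrimeSpectrum.le_iff_specializes _ _).mpr hspec'
    · rw [Ideal.span_le, Set.singleton_subset_iff]; exact hfP
  have hm : IsLocalRing.maximalIdeal (X.presheaf.stalk ξ) =
      Ideal.span {algebraMap Γ(X, U.1) (X.presheaf.stalk ξ) f} := by
    rw [← IsLocalization.AtPrime.map_eq_maximalIdeal P.asIdeal (X.presheaf.stalk ξ), hPQ,
      Ideal.map_span, Set.image_singleton]
  have hnzd : algebraMap Γ(X, U.1) (X.presheaf.stalk ξ) f ∈ nonZeroDivisors _ :=
    EffCartier.germ_nzd U.1 U.2 f hf ξ hξU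
  have hnoeth : IsNoetherianRing (X.presheaf.stalk ξ) := inferInstance
  exact dvr_of_principal _ _ hnzd hm

end H1569

/-- On a Noetherian scheme, an effective Cartier divisor which is integral as a closed subscheme has a
discrete valuation ring as the local ring of the ambient scheme at its generic point. -/
theorem result (X : Scheme.{u}) [IsNoetherian X]
    (D : X.IdealSheafData) (hD : BlowUp.IsEffCartierIdeal D) [IsIntegral D.subscheme]
    (ξ : X) (hξ : IsGenericPoint ξ (D.support : Set X)) :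
    ∃ _ : IsDomain (X.presheaf.stalk ξ), IsDiscreteValuationRing (X.presheaf.stalk ξ) := by
  exact H1569.main X D hD ξ hξ

end Groth.Agent.S1569
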