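import Groth.Statements.S15706
import Groth.Agent.Lib.Helper8.Avoid
import Mathlib.RingTheory.Ideal.AssociatedPrime.Finiteness
import Mathlib.RingTheory.Ideal.MinimalPrime.Localization

set_option autoImplicit false
universe u
open CAlg

namespace Groth.Agent.S15706

/-- Let A be a Noetherian ring with Serre's property (S_1), stated here in the equivalent form that
every associated prime of A is a minimal prime of A. Let I be an ideal of A and b an element of A/I
which is regular (a non-zero-divisor) in A/I. Then b is the image of a regular element of A. -/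
theorem result (A : Type u) [CommRing A]
    [IsNoetherianRing A] (hS1 : ∀ p ∈ associatedPrimes A A, p ∈ minimalPrimes A) (I : Ideal A)
    (b : A ⧸ I) (hb : b ∈ nonZeroDivisors (A ⧸ I)) :
    ∃ a : A, a ∈ nonZeroDivisors A ∧ Ideal.Quotient.mk I a = b := by
  classical
  obtain ⟨b₀, rfl⟩ := Ideal.Quotient.mk_surjective b
  have hfin := associatedPrimes.finite A A
  set s := hfin.toFinset with hs
  have hprime : ∀ p ∈ s, p.IsPrime := fun p hp => ((hfin.mem_toFinset).mp hp).isPrime
  -- b₀ avoids the associated primes containing I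
  have h1 : ∀ p ∈ s, I ≤ p → b₀ ∉ p := by
    intro p hp hIp hb₀
    have hpmin : p ∈ minimalPrimes A := hS1 p ((hfin.mem_toFinset).mp hp)
    have hpI : p ∈ I.minimalPrimes := by
      refine ⟨⟨hpmin.1.1, hIp⟩, ?_⟩
      rintro q ⟨hq, -⟩ hqp
      exact hpmin.2 ⟨hq, bot_le⟩ hqp
    obtain ⟨y, hyI, hxy⟩ := Ideal.exists_mul_mem_of_mem_minimalPrimes hpI hb₀
    have h0 : Ideal.Quotient.mk I y * Ideal.Quotient.mk I b₀ = 0 := by
      rw [← map_mul, Ideal.Quotient.eq_zero_iff_mem, mul_comm]
      exact hxy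
    have := (mem_nonZeroDivisors_iff_right.mp hb) _ h0
    exact hyI (Ideal.Quotient.eq_zero_iff_mem.mp this)
  obtain ⟨x, hxI, hx⟩ := Groth.Agent.Helper8.exists_add_mem_notMem_primes I
    (s.filter (fun p => ¬ I ≤ p)) (fun p hp => hprime p (Finset.mem_filter.mp hp).1)
    (fun p hp => (Finset.mem_filter.mp hp).2) b₀
  refine ⟨b₀ + x, ?_, ?_⟩
  · by_contra hnz
    have hmem : b₀ + x ∈ ⋃ p ∈ associatedPrimes A A, (p : Set A) := by
      rw [biUnion_associatedPrimes_eq_compl_nonZeroDivisors]
      exact hnz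
    obtain ⟨p, hp, hpx⟩ := Set.mem_iUnion₂.mp hmem
    have hps : p ∈ s := (hfin.mem_toFinset).mpr hp
    by_cases hIp : I ≤ p
    · apply h1 p hps hIp
      have : b₀ = (b₀ + x) - x := by ring
      rw [this]
      exact p.sub_mem hpx (hIp hxI)
    · exact hx p (Finset.mem_filter.mpr ⟨hps, hIp⟩) hpx
  · rw [map_add, (Ideal.Quotient.eq_zero_iff_mem).mpr hxI, add_zero]

end Groth.Agent.S15706
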