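import Groth.Statements.S15708
import Groth.Agent.Lib.Helper8.GradedAvoid

set_option autoImplicit false
universe u v
open CAlg

namespace Groth.Agent.S15708

/-- Let A be a Noetherian commutative ring graded by the natural numbers, J a homogeneous ideal, and
p_1, ..., p_r finitely many prime ideals such that no p_i contains the irrelevant ideal A_+ and no
p_i contains J. Then there is a homogeneous element z of positive degree with z in J and z in no
p_i. -/
theorem result {R : Type u} {A : Type v} [CommRing R] [CommRing A]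
    [Algebra R A] [IsNoetherianRing A] (𝒜 : ℕ → Submodule R A) [GradedRing 𝒜]
    (J : Ideal A) (hJ : J.IsHomogeneous 𝒜) (P : Finset (Ideal A))
    (hP : ∀ p ∈ P, p.IsPrime ∧ ¬ (HomogeneousIdeal.irrelevant 𝒜).toIdeal ≤ p ∧ ¬ J ≤ p) :
    ∃ (z : A) (n : ℕ), 0 < n ∧ z ∈ 𝒜 n ∧ z ∈ J ∧ ∀ p ∈ P, z ∉ p := by
  classical
  have hirr : ((HomogeneousIdeal.irrelevant 𝒜).toIdeal).IsHomogeneous 𝒜 :=
    (HomogeneousIdeal.irrelevant 𝒜).isHomogeneous
  obtain ⟨z, n, hn, hzn, hzI, hzP⟩ := Groth.Agent.Helper8.graded_prime_avoidance 𝒜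
    (P.image fun p => (p.homogeneousCore 𝒜).toIdeal)
    (by
      intro q hq
      obtain ⟨p, hp, rfl⟩ := Finset.mem_image.mp hq
      exact ⟨(hP p hp).1.homogeneousCore, (p.homogeneousCore 𝒜).isHomogeneous⟩)
    (J * (HomogeneousIdeal.irrelevant 𝒜).toIdeal) (hJ.mul hirr)
    Ideal.mul_le_right
    (by
      intro q hq
      obtain ⟨p, hp, rfl⟩ := Finset.mem_image.mp hq
      intro hle
      have h1 : J * (HomogeneousIdeal.irrelevant 𝒜).toIdeal ≤ p :=
        hle.trans (Ideal.toIdeal_homogeneousCore_le 𝒜 p)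
      rcases (Ideal.IsPrime.mul_le (hP p hp).1).mp h1 with h2 | h2
      · exact (hP p hp).2.2 h2
      · exact (hP p hp).2.1 h2)
  refine ⟨z, n, hn, hzn, Ideal.mul_le_left hzI, fun p hp hmem => ?_⟩
  exact hzP _ (Finset.mem_image.mpr ⟨p, hp, rfl⟩)
    (Ideal.mem_homogeneousCore_of_homogeneous_of_mem ⟨n, hzn⟩ hmem)

end Groth.Agent.S15708
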