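import Groth.Statements.S15724
import Mathlib
import Groth.Agent.Lib.Helper4.WtGen2

set_option autoImplicit false
universe u
open W4c2invhilbsl2

namespace Groth.Agent.S15724

namespace H15724
open W4c2invhilbsl2 Groth.Agent.Helper4.WtGen MvPolynomial

theorem single_le_iff5 (j : Fin 5) (n : ℕ) (d : Fin 5 →₀ ℕ) : Finsupp.single j n ≤ d ↔ n ≤ d j := by
  constructor
  · intro h; simpa using h j
  · intro h i
    by_cases hij : i = j
    · subst hij; simpa using h
    · rw [Finsupp.single_apply, if_neg (Ne.symm hij)]; exact Nat.zero_le _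

theorem main (k : Type*) [Field k] (p q m : ℕ) (hp : 0 < p) (hpq : p < q) (hcop : Nat.Coprime p q) (hm : 0 < m) (f : MvPolynomial (Fin 5) k) :
    (f ∈ MvPolynomial.weightedHomogeneousSubmodule k (W4c2invhilbsl2.wt5 p q m) (W4c2invhilbsl2.wt5 p q m 1) →
      ∃ a b : MvPolynomial (Fin 5) k, a ∈ MvPolynomial.weightedHomogeneousSubmodule k (W4c2invhilbsl2.wt5 p q m) 0 ∧ b ∈ MvPolynomial.weightedHomogeneousSubmodule k (W4c2invhilbsl2.wt5 p q m) 0 ∧
        f - (a * MvPolynomial.X (1 : Fin 5) + b * MvPolynomial.X (2 : Fin 5)) ∈ Ideal.span {MvPolynomial.X (0 : Fin 5) ^ (q - p) - MvPolynomial.X 1 * MvPolynomial.X 4 + MvPolynomial.X 2 * MvPolynomial.X 3}) ∧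
    (f ∈ MvPolynomial.weightedHomogeneousSubmodule k (W4c2invhilbsl2.wt5 p q m) (W4c2invhilbsl2.wt5 p q m 3) →
      ∃ a b : MvPolynomial (Fin 5) k, a ∈ MvPolynomial.weightedHomogeneousSubmodule k (W4c2invhilbsl2.wt5 p q m) 0 ∧ b ∈ MvPolynomial.weightedHomogeneousSubmodule k (W4c2invhilbsl2.wt5 p q m) 0 ∧
        f - (a * MvPolynomial.X (3 : Fin 5) + b * MvPolynomial.X (4 : Fin 5)) ∈ Ideal.span {MvPolynomial.X (0 : Fin 5) ^ (q - p) - MvPolynomial.X 1 * MvPolynomial.X 4 + MvPolynomial.X 2 * MvPolynomial.X 3}) := by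
  have hpz : (0 : ℤ) < p := by exact_mod_cast hp
  have hw1 : wt5 p q m 1 = (-(p : ℤ), -1) := by simp [wt5]
  have hw3 : wt5 p q m 3 = ((q : ℤ), 1) := by simp [wt5]
  constructor
  · intro hf
    have := genFam (k := k) (wt5 p q m) (wt5 p q m 1) (Finset.univ : Finset (Fin 2))
      ![Finsupp.single 1 1, Finsupp.single 2 1] ?_ ?_ f hf
    · obtain ⟨a, ha, hfa⟩ := this
      refine ⟨a 0, a 1, ha 0, ha 1, ?_⟩
      rw [hfa, Fin.sum_univ_two]
      simp only [Matrix.cons_val_zero, Matrix.cons_val_one, Matrix.cons_val]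
      rw [show (monomial (Finsupp.single (1 : Fin 5) 1) (1 : k)) = X 1 from rfl,
        show (monomial (Finsupp.single (2 : Fin 5) 1) (1 : k)) = X 2 from rfl, sub_self]
      exact Ideal.zero_mem _
    · intro j _
      rw [hw1, weight_wt5]
      fin_cases j <;> simp
    · intro d hd
      rw [hw1, weight_wt5, Prod.ext_iff] at hd
      obtain ⟨h1, -⟩ := hd
      simp only at h1
      by_cases h : 1 ≤ d 1
      · exact ⟨0, Finset.mem_univ _, by simpa [single_le_iff5] using h⟩
      · by_cases h' : 1 ≤ d 2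
        · exact ⟨1, Finset.mem_univ _, by simpa [single_le_iff5] using h'⟩
        · exfalso
          have e1 : d 1 = 0 := by omega
          have e2 : d 2 = 0 := by omega
          rw [e1, e2] at h1
          simp at h1
          have : (0 : ℤ) ≤ (q : ℤ) * ((d 3 : ℤ) + d 4) := by positivity
          have : (0 : ℤ) ≤ (d 0 : ℤ) := by positivity
          linarith
  · intro hf
    have := genFamMod (k := k) p q m hpq (wt5 p q m 3) (Finset.univ : Finset (Fin 2))
      ![Finsupp.single 3 1, Finsupp.single 4 1] ?_ ?_ f hf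
    · obtain ⟨a, ha, hfa⟩ := this
      refine ⟨a 0, a 1, ha 0, ha 1, ?_⟩
      rw [Fin.sum_univ_two] at hfa
      simp only [Matrix.cons_val_zero, Matrix.cons_val_one, Matrix.cons_val] at hfa
      exact hfa
    · intro j _
      rw [hw3, weight_wt5]
      fin_cases j <;> simp
    · intro d hd
      rw [hw3, weight_wt5, Prod.ext_iff] at hd
      obtain ⟨h1, -⟩ := hd
      simp only at h1
      by_cases h : 1 ≤ d 3
      · exact Or.inl ⟨0, Finset.mem_univ _, by simpa [single_le_iff5] using h⟩
      · by_cases h' : 1 ≤ d 4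
        · exact Or.inl ⟨1, Finset.mem_univ _, by simpa [single_le_iff5] using h'⟩
        · right
          have e1 : d 3 = 0 := by omega
          have e2 : d 4 = 0 := by omega
          rw [e1, e2] at h1
          simp at h1
          have : (0 : ℤ) ≤ (p : ℤ) * ((d 1 : ℤ) + d 2) := by positivity
          have : (q : ℤ) ≤ (d 0 : ℤ) := by linarith
          omega
end H15724

/-- Grade the polynomial ring k[X₀,…,X₄] over a field k by ℤ × ℤ/m, giving X₀ weight (1,0), X₁ and X₂
weight (−p,−1), and X₃ and X₄ weight (q,1), where 0 < p < q are coprime integers and m ≥ 1, and let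
P be the principal ideal generated by the weight-zero element X₀^(q−p) − X₁X₄ + X₂X₃ (the equation
of an affine hypersurface). Then every polynomial homogeneous of the weight of X₁ is congruent
modulo P to some a·X₁ + b·X₂ with a and b homogeneous of weight zero, and every polynomial
homogeneous of the weight of X₃ is congruent modulo P to some a·X₃ + b·X₄ with a and b homogeneous
of weight zero. Equivalently, in the coordinate ring of the hypersurface the weight pieces of the
weights of X₁ and of X₃ are generated over the weight-zero subring (the ring of invariants of the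
diagonal action of a one-dimensional torus times the group of m-th roots of unity with these
weights) by X₁, X₂ and by X₃, X₄ respectively. (For the weight of X₁ the congruence is already an
equality in the polynomial ring; for the weight of X₃ the hypersurface equation is needed, e.g.
X₀^(q+p)X₁ has that weight when m divides 2.) -/
theorem result (k : Type u) [Field k] (p q m : ℕ) (hp : 0 < p) (hpq : p < q) (hcop : Nat.Coprime p q) (hm : 0 < m) (f : MvPolynomial (Fin 5) k) :
    (f ∈ MvPolynomial.weightedHomogeneousSubmodule k (W4c2invhilbsl2.wt5 p q m) (W4c2invhilbsl2.wt5 p q m 1) →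
      ∃ a b : MvPolynomial (Fin 5) k, a ∈ MvPolynomial.weightedHomogeneousSubmodule k (W4c2invhilbsl2.wt5 p q m) 0 ∧ b ∈ MvPolynomial.weightedHomogeneousSubmodule k (W4c2invhilbsl2.wt5 p q m) 0 ∧
        f - (a * MvPolynomial.X (1 : Fin 5) + b * MvPolynomial.X (2 : Fin 5)) ∈ Ideal.span {MvPolynomial.X (0 : Fin 5) ^ (q - p) - MvPolynomial.X 1 * MvPolynomial.X 4 + MvPolynomial.X 2 * MvPolynomial.X 3}) ∧
    (f ∈ MvPolynomial.weightedHomogeneousSubmodule k (W4c2invhilbsl2.wt5 p q m) (W4c2invhilbsl2.wt5 p q m 3) →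
      ∃ a b : MvPolynomial (Fin 5) k, a ∈ MvPolynomial.weightedHomogeneousSubmodule k (W4c2invhilbsl2.wt5 p q m) 0 ∧ b ∈ MvPolynomial.weightedHomogeneousSubmodule k (W4c2invhilbsl2.wt5 p q m) 0 ∧
        f - (a * MvPolynomial.X (3 : Fin 5) + b * MvPolynomial.X (4 : Fin 5)) ∈ Ideal.span {MvPolynomial.X (0 : Fin 5) ^ (q - p) - MvPolynomial.X 1 * MvPolynomial.X 4 + MvPolynomial.X 2 * MvPolynomial.X 3}) := by
  exact H15724.main k p q m hp hpq hcop hm f

end Groth.Agent.S15724
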