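import Groth.Statements.S15725
import Mathlib
import Groth.Agent.Lib.Helper4.WtGen

set_option autoImplicit false
universe u
open W4c2invhilbsl2

namespace Groth.Agent.S15725

namespace H15725
open W4c2invhilbsl2 Groth.Agent.Helper4.WtGen MvPolynomial

theorem main (k : Type*) [Field k] (p q m : ℕ) (hp : 0 < p) (hpq : p < q) (hcop : Nat.Coprime p q) (hm : 0 < m) (f : MvPolynomial (Fin 3) k)
    (hf : f ∈ MvPolynomial.weightedHomogeneousSubmodule k (W4c2invhilbsl2.wt3 p q m) ((q : ℤ) - (p : ℤ), (0 : ZMod m))) :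
    ∃ a b : MvPolynomial (Fin 3) k, a ∈ MvPolynomial.weightedHomogeneousSubmodule k (W4c2invhilbsl2.wt3 p q m) 0 ∧ b ∈ MvPolynomial.weightedHomogeneousSubmodule k (W4c2invhilbsl2.wt3 p q m) 0 ∧
      f = a * MvPolynomial.X (0 : Fin 3) ^ (q - p) + b * (MvPolynomial.X (1 : Fin 3) * MvPolynomial.X (2 : Fin 3)) := by
  have := gen2 (k := k) (wt3 p q m) ((q : ℤ) - (p : ℤ), (0 : ZMod m)) (Finsupp.single 0 (q - p))
    (Finsupp.single 1 1 + Finsupp.single 2 1) ?_ ?_ ?_ f hf
  · obtain ⟨a, b, ha, hb, hab⟩ := this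
    refine ⟨a, b, ha, hb, ?_⟩
    rw [hab, monomial_pair3, pow_one, pow_one, X_pow_eq_monomial]
  · rw [weight_wt3]
    simp [Nat.cast_sub hpq.le]
  · rw [weight_wt3]
    simp
    ring
  · intro d hd
    rw [weight_wt3, Prod.ext_iff] at hd
    obtain ⟨h1, -⟩ := hd
    simp only at h1
    rw [single_le_iff3, pair_le_iff3]
    by_contra hcon
    rw [not_or, not_and_or] at hcon
    obtain ⟨hc1, hc2⟩ := hcon
    have hc1' : (d 0 : ℤ) < (q : ℤ) - p := by omega
    rcases hc2 with hc2 | hc2
    · have : d 1 = 0 := by omega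
      rw [this] at h1
      simp only [Nat.cast_zero, mul_zero, sub_zero] at h1
      rcases Nat.eq_zero_or_pos (d 2) with h0 | h0
      · rw [h0] at h1; simp at h1; omega
      · have : (q : ℤ) * 1 ≤ (q : ℤ) * (d 2 : ℤ) := by
          apply mul_le_mul_of_nonneg_left _ (by positivity)
          exact_mod_cast h0
        have hp' : (0 : ℤ) < p := by exact_mod_cast hp
        linarith
    · have : d 2 = 0 := by omega
      rw [this] at h1
      simp only [Nat.cast_zero, mul_zero, add_zero] at h1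
      have : (0 : ℤ) ≤ (p : ℤ) * (d 1 : ℤ) := by positivity
      linarith
end H15725

/-- Grade the polynomial ring k[X₀,X₁,X₂] over a field k by ℤ × ℤ/m, giving X₀ weight (1,0), X₁ weight
(−p,−1) and X₂ weight (q,1), where 0 < p < q are coprime integers and m ≥ 1 (this three-variable
ring stands for the subring k[X₀,X₁,Xⱼ], j = 3 or 4, of the five-variable ring with the same
weights). Then every polynomial homogeneous of weight (q−p, 0) can be written a·X₀^(q−p) + b·X₁X₂
with a and b homogeneous of weight zero; in other words the weight-(q−p, 0) piece is generated by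
X₀^(q−p) and X₁X₂ as a module over the weight-zero subring. -/
theorem result (k : Type u) [Field k] (p q m : ℕ) (hp : 0 < p) (hpq : p < q) (hcop : Nat.Coprime p q) (hm : 0 < m) (f : MvPolynomial (Fin 3) k)
    (hf : f ∈ MvPolynomial.weightedHomogeneousSubmodule k (W4c2invhilbsl2.wt3 p q m) ((q : ℤ) - (p : ℤ), (0 : ZMod m))) :
    ∃ a b : MvPolynomial (Fin 3) k, a ∈ MvPolynomial.weightedHomogeneousSubmodule k (W4c2invhilbsl2.wt3 p q m) 0 ∧ b ∈ MvPolynomial.weightedHomogeneousSubmodule k (W4c2invhilbsl2.wt3 p q m) 0 ∧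
      f = a * MvPolynomial.X (0 : Fin 3) ^ (q - p) + b * (MvPolynomial.X (1 : Fin 3) * MvPolynomial.X (2 : Fin 3)) := by
  exact H15725.main k p q m hp hpq hcop hm f hf

end Groth.Agent.S15725
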