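import Groth.Statements.S15726
import Mathlib
import Groth.Agent.Lib.Helper4.WtGen2

set_option autoImplicit false
universe u
open W4c2invhilbsl2

namespace Groth.Agent.S15726

namespace H15726
open W4c2invhilbsl2 Groth.Agent.Helper4.WtGen MvPolynomial

theorem pair_le_iff5 (i j : Fin 5) (hij : i ≠ j) (d : Fin 5 →₀ ℕ) :
    Finsupp.single i 1 + Finsupp.single j 1 ≤ d ↔ 1 ≤ d i ∧ 1 ≤ d j := by
  constructor
  · intro h
    have h1 := h i
    have h2 := h j
    simp [Finsupp.single_apply, hij, hij.symm] at h1 h2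
    exact ⟨h1, h2⟩
  · rintro ⟨h1, h2⟩ l
    simp only [Finsupp.coe_add, Pi.add_apply, Finsupp.single_apply]
    by_cases e1 : i = l
    · subst e1; simp [hij.symm, h1]
    · by_cases e2 : j = l
      · subst e2; simp [e1, h2]
      · simp [e1, e2]

theorem mono_pair5 {k : Type*} [CommSemiring k] (i j : Fin 5) :
    (monomial (Finsupp.single i 1 + Finsupp.single j 1) (1 : k)) = X i * X j := by
  rw [X, X, monomial_mul, mul_one]

theorem main (k : Type*) [Field k] (p q m : ℕ) (hp : 0 < p) (hpq : p < q) (hcop : Nat.Coprime p q) (hm : 0 < m) (f : MvPolynomial (Fin 5) k)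
    (hf : f ∈ MvPolynomial.weightedHomogeneousSubmodule k (W4c2invhilbsl2.wt5 p q m) ((q : ℤ) - (p : ℤ), (0 : ZMod m))) :
    ∃ a₁₃ a₁₄ a₂₃ a₂₄ : MvPolynomial (Fin 5) k,
      a₁₃ ∈ MvPolynomial.weightedHomogeneousSubmodule k (W4c2invhilbsl2.wt5 p q m) 0 ∧ a₁₄ ∈ MvPolynomial.weightedHomogeneousSubmodule k (W4c2invhilbsl2.wt5 p q m) 0 ∧ a₂₃ ∈ MvPolynomial.weightedHomogeneousSubmodule k (W4c2invhilbsl2.wt5 p q m) 0 ∧ a₂₄ ∈ MvPolynomial.weightedHomogeneousSubmodule k (W4c2invhilbsl2.wt5 p q m) 0 ∧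
      f - (a₁₃ * (MvPolynomial.X (1 : Fin 5) * MvPolynomial.X 3) + a₁₄ * (MvPolynomial.X (1 : Fin 5) * MvPolynomial.X 4) +
          a₂₃ * (MvPolynomial.X (2 : Fin 5) * MvPolynomial.X 3) + a₂₄ * (MvPolynomial.X (2 : Fin 5) * MvPolynomial.X 4)) ∈
        Ideal.span {MvPolynomial.X (0 : Fin 5) ^ (q - p) - MvPolynomial.X 1 * MvPolynomial.X 4 + MvPolynomial.X 2 * MvPolynomial.X 3} := by
  have hpz : (0 : ℤ) < p := by exact_mod_cast hp
  have := genFamMod (k := k) p q m hpq ((q : ℤ) - (p : ℤ), (0 : ZMod m)) (Finset.univ : Finset (Fin 4))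
    ![Finsupp.single 1 1 + Finsupp.single 3 1, Finsupp.single 1 1 + Finsupp.single 4 1,
      Finsupp.single 2 1 + Finsupp.single 3 1, Finsupp.single 2 1 + Finsupp.single 4 1] ?_ ?_ f hf
  · obtain ⟨a, ha, hfa⟩ := this
    refine ⟨a 0, a 1, a 2, a 3, ha 0, ha 1, ha 2, ha 3, ?_⟩
    rw [Fin.sum_univ_four] at hfa
    simp only [Matrix.cons_val_zero, Matrix.cons_val_one, Matrix.cons_val, mono_pair5] at hfa
    exact hfa
  · intro j _
    rw [weight_wt5]
    fin_cases j <;> simp <;> ring
  · intro d hd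
    rw [weight_wt5, Prod.ext_iff] at hd
    obtain ⟨h1, -⟩ := hd
    simp only at h1
    by_cases hbig : q - p ≤ d 0
    · exact Or.inr hbig
    · left
      have hlt : (d 0 : ℤ) < (q : ℤ) - p := by omega
      have hu : 1 ≤ d 1 + d 2 := by
        by_contra h
        have e1 : d 1 = 0 := by omega
        have e2 : d 2 = 0 := by omega
        rw [e1, e2] at h1
        simp at h1
        rcases Nat.eq_zero_or_pos (d 3 + d 4) with h0 | h0
        · have e3 : d 3 = 0 := by omega
          have e4 : d 4 = 0 := by omega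
          rw [e3, e4] at h1; simp at h1; omega
        · have : (q : ℤ) * 1 ≤ (q : ℤ) * ((d 3 : ℤ) + d 4) := by
            apply mul_le_mul_of_nonneg_left _ (by positivity)
            exact_mod_cast h0
          linarith [Int.natCast_nonneg (d 0)]
      have hv : 1 ≤ d 3 + d 4 := by
        by_contra h
        have e1 : d 3 = 0 := by omega
        have e2 : d 4 = 0 := by omega
        rw [e1, e2] at h1
        simp at h1
        have : (0 : ℤ) ≤ (p : ℤ) * ((d 1 : ℤ) + d 2) := by positivity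
        linarith
      by_cases a1 : 1 ≤ d 1
      · by_cases a3 : 1 ≤ d 3
        · exact ⟨0, Finset.mem_univ _, by
            simp only [Matrix.cons_val_zero]; exact (pair_le_iff5 1 3 (by decide) d).2 ⟨a1, a3⟩⟩
        · exact ⟨1, Finset.mem_univ _, by
            simp only [Matrix.cons_val_one, Matrix.cons_val_zero]; exact (pair_le_iff5 1 4 (by decide) d).2 ⟨a1, by omega⟩⟩
      · by_cases a3 : 1 ≤ d 3
        · exact ⟨2, Finset.mem_univ _, by
            simp only [Matrix.cons_val]; exact (pair_le_iff5 2 3 (by decide) d).2 ⟨by omega, a3⟩⟩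
        · exact ⟨3, Finset.mem_univ _, by
            simp only [Matrix.cons_val]; exact (pair_le_iff5 2 4 (by decide) d).2 ⟨by omega, by omega⟩⟩
end H15726

/-- Grade the polynomial ring k[X₀,…,X₄] over a field k by ℤ × ℤ/m, giving X₀ weight (1,0), X₁ and X₂
weight (−p,−1), and X₃ and X₄ weight (q,1), where 0 < p < q are coprime integers and m ≥ 1. Then
modulo the principal ideal generated by the weight-zero element X₀^(q−p) − X₁X₄ + X₂X₃ (the equation
of an affine hypersurface), every polynomial homogeneous of weight (q−p, 0) is congruent to a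
combination a₁₃X₁X₃ + a₁₄X₁X₄ + a₂₃X₂X₃ + a₂₄X₂X₄ whose four coefficients are homogeneous of weight
zero. Equivalently, in the coordinate ring of the hypersurface the weight-(q−p, 0) piece is
generated over the weight-zero subring (the invariant ring of the diagonal action with these
weights) by the span of the four products XₐX_b with a ∈ {1,2} and b ∈ {3,4}. (The published
statement is over the complex numbers; this row takes any field.) -/
theorem result (k : Type u) [Field k] (p q m : ℕ) (hp : 0 < p) (hpq : p < q) (hcop : Nat.Coprime p q) (hm : 0 < m) (f : MvPolynomial (Fin 5) k)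
    (hf : f ∈ MvPolynomial.weightedHomogeneousSubmodule k (W4c2invhilbsl2.wt5 p q m) ((q : ℤ) - (p : ℤ), (0 : ZMod m))) :
    ∃ a₁₃ a₁₄ a₂₃ a₂₄ : MvPolynomial (Fin 5) k,
      a₁₃ ∈ MvPolynomial.weightedHomogeneousSubmodule k (W4c2invhilbsl2.wt5 p q m) 0 ∧ a₁₄ ∈ MvPolynomial.weightedHomogeneousSubmodule k (W4c2invhilbsl2.wt5 p q m) 0 ∧ a₂₃ ∈ MvPolynomial.weightedHomogeneousSubmodule k (W4c2invhilbsl2.wt5 p q m) 0 ∧ a₂₄ ∈ MvPolynomial.weightedHomogeneousSubmodule k (W4c2invhilbsl2.wt5 p q m) 0 ∧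
      f - (a₁₃ * (MvPolynomial.X (1 : Fin 5) * MvPolynomial.X 3) + a₁₄ * (MvPolynomial.X (1 : Fin 5) * MvPolynomial.X 4) +
          a₂₃ * (MvPolynomial.X (2 : Fin 5) * MvPolynomial.X 3) + a₂₄ * (MvPolynomial.X (2 : Fin 5) * MvPolynomial.X 4)) ∈
        Ideal.span {MvPolynomial.X (0 : Fin 5) ^ (q - p) - MvPolynomial.X 1 * MvPolynomial.X 4 + MvPolynomial.X 2 * MvPolynomial.X 3} := by
  exact H15726.main k p q m hp hpq hcop hm f hf

end Groth.Agent.S15726
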