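import Groth.Statements.S15727
import Mathlib
import Groth.Agent.Lib.Helper4.MonoRel

set_option autoImplicit false
universe u
open W4c2invhilbsl2

namespace Groth.Agent.S15727

namespace H15727
open W4c2invhilbsl2 Groth.Agent.Helper4.MonoRel Groth.Agent.Helper4.WtGen MvPolynomial

theorem monomial5 {k : Type*} [CommSemiring k] (d : Fin 5 →₀ ℕ) :
    (monomial d (1 : k)) = X 0 ^ d 0 * X 1 ^ d 1 * X 2 ^ d 2 * X 3 ^ d 3 * X 4 ^ d 4 := by
  rw [monomial_eq, C_1, one_mul, Finsupp.prod_fintype _ _ (fun i => by simp), Fin.prod_univ_five]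

theorem main (k : Type*) [Field k] (p q m : ℕ) (hp : 0 < p) (hpq : p < q) (hcop : Nat.Coprime p q) (hm : 0 < m) (s : k) (ν : ℤ × ZMod m) :
    Module.rank k (W4c2invhilbsl2.piece k (W4c2invhilbsl2.wt5 p q m) (W4c2invhilbsl2.idealI k p q m s) ν) ≤ 1 := by
  classical
  have hpz : (1 : ℤ) ≤ p := by exact_mod_cast hp
  have hmz : (0 : ℤ) < m := by exact_mod_cast hm
  have hqpz : (0 : ℤ) < (q : ℤ) - p := by
    have : (p : ℤ) < q := by exact_mod_cast hpq
    linarith
  set I := idealI k p q m s with hI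
  have hI1 : (X 0 ^ (q - p) - X 1 * X 4 : MvPolynomial (Fin 5) k) ∈ I := Ideal.subset_span (by simp)
  have hI2 : (X 2 : MvPolynomial (Fin 5) k) ∈ I := Ideal.subset_span (by simp)
  have hI3 : (X 3 : MvPolynomial (Fin 5) k) ∈ I := Ideal.subset_span (by simp)
  have hI4 : (C s - X 0 ^ (m * p) * X 1 ^ m : MvPolynomial (Fin 5) k) ∈ I := Ideal.subset_span (by simp)
  -- monomials with d 2 ≠ 0 or d 3 ≠ 0 vanish
  have hvanish : ∀ d : Fin 5 →₀ ℕ, (d 2 ≠ 0 ∨ d 3 ≠ 0) → Ideal.Quotient.mk I (monomial d 1) = 0 := by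
    intro d hd
    rw [Ideal.Quotient.eq_zero_iff_mem, monomial5]
    rcases hd with h | h
    · have : (X 2 : MvPolynomial (Fin 5) k) ^ d 2 ∈ I := by
        obtain ⟨n, hn⟩ := Nat.exists_eq_succ_of_ne_zero h
        rw [hn, pow_succ]; exact I.mul_mem_left _ hI2
      have h' := I.mul_mem_left (X 0 ^ d 0 * X 1 ^ d 1 * X 3 ^ d 3 * X 4 ^ d 4) this
      convert h' using 1; ring
    · have : (X 3 : MvPolynomial (Fin 5) k) ^ d 3 ∈ I := by
        obtain ⟨n, hn⟩ := Nat.exists_eq_succ_of_ne_zero h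
        rw [hn, pow_succ]; exact I.mul_mem_left _ hI3
      have h' := I.mul_mem_left (X 0 ^ d 0 * X 1 ^ d 1 * X 2 ^ d 2 * X 4 ^ d 4) this
      convert h' using 1; ring
  set S : Set (Fin 5 →₀ ℕ) := {d | Finsupp.weight (wt5 p q m) d = ν ∧ d 2 = 0 ∧ d 3 = 0} with hS
  by_cases hne : S.Nonempty
  swap
  · -- no monomials: everything vanishes
    apply piece_rank_le_one (wt5 p q m) I ν 0
    intro d hd
    refine ⟨0, ?_⟩
    rw [zero_smul]
    apply hvanish
    by_contra hcon
    rw [not_or, not_not, not_not] at hcon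
    exact hne ⟨d, hd, hcon.1, hcon.2⟩
  · -- pick the monomial with minimal c
    have hbdd : ∃ b : ℤ, ∀ z : ℤ, (∃ d ∈ S, (d 1 : ℤ) - d 4 = z) → b ≤ z := by
      refine ⟨-|ν.1|, ?_⟩
      rintro z ⟨d, ⟨hd, hd2, hd3⟩, rfl⟩
      rw [weight_wt5, Prod.ext_iff] at hd
      obtain ⟨h1, -⟩ := hd
      simp only [hd2, hd3] at h1
      push_cast at h1
      have habs := neg_abs_le ν.1
      have habs' := abs_nonneg ν.1
      have habs'' := le_abs_self ν.1
      rcases le_or_gt 0 ((d 1 : ℤ) - d 4) with hc0 | hc0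
      · linarith
      · have e1 : (p : ℤ) * ((d 1 : ℤ) - d 4) ≤ 1 * ((d 1 : ℤ) - d 4) :=
          mul_le_mul_of_nonpos_right hpz hc0.le
        have e2 : (0 : ℤ) ≤ ((q : ℤ) - p) * (d 4 : ℤ) := mul_nonneg hqpz.le (Int.natCast_nonneg _)
        have e3 : (0 : ℤ) ≤ (d 0 : ℤ) := Int.natCast_nonneg _
        nlinarith
    have hinh : ∃ z : ℤ, ∃ d ∈ S, (d 1 : ℤ) - d 4 = z := by
      obtain ⟨d, hd⟩ := hne
      exact ⟨_, d, hd, rfl⟩
    obtain ⟨_, ⟨dm, hdmS, rfl⟩, hmin⟩ := Int.exists_least_of_bdd hbdd hinh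
    apply piece_rank_le_one (wt5 p q m) I ν (Ideal.Quotient.mk I (monomial dm 1))
    intro d hd
    by_cases hd23 : d 2 ≠ 0 ∨ d 3 ≠ 0
    · exact ⟨0, by rw [zero_smul]; exact hvanish d hd23⟩
    · rw [not_or, not_not, not_not] at hd23
      have hdS : d ∈ S := ⟨hd, hd23.1, hd23.2⟩
      have hle := hmin _ ⟨d, hdS, rfl⟩
      obtain ⟨hdm, hdm2, hdm3⟩ := hdmS
      rw [weight_wt5, Prod.ext_iff] at hd hdm
      obtain ⟨h1, h2⟩ := hd
      obtain ⟨h1', h2'⟩ := hdm
      simp only [hd23.1, hd23.2] at h1 h2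
      simp only [hdm2, hdm3] at h1' h2'
      push_cast at h1 h2 h1' h2'
      simp only [add_zero, zero_add] at h1 h2 h1' h2'
      have h22 : (((d 4 : ℤ) - d 1 : ℤ) : ZMod m) = (((dm 4 : ℤ) - dm 1 : ℤ) : ZMod m) := by
        push_cast; rw [h2, h2']
      rw [ZMod.intCast_eq_intCast_iff_dvd_sub] at h22
      obtain ⟨t, ht⟩ := h22
      have ht0 : 0 ≤ t := by
        by_contra h
        rw [not_le] at h
        have : (m : ℤ) * t < 0 := mul_neg_of_pos_of_neg hmz h
        linarith
      obtain ⟨j, rfl⟩ := Int.eq_ofNat_of_zero_le ht0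
      have key := lemA_ideal I (X 0) (X 1) (X 4) p q hpq m (C s) hI1 hI4 (d 0) (d 1) (d 4)
        (dm 0) (dm 1) (dm 4) j (by linarith) (by linarith)
      refine ⟨s ^ j, ?_⟩
      have e1 : (monomial d (1 : k)) = X 0 ^ d 0 * X 1 ^ d 1 * X 4 ^ d 4 := by
        rw [monomial5, hd23.1, hd23.2]; ring
      have e2 : (monomial dm (1 : k)) = X 0 ^ dm 0 * X 1 ^ dm 1 * X 4 ^ dm 4 := by
        rw [monomial5, hdm2, hdm3]; ring
      have e4 : s ^ j • (Ideal.Quotient.mk I) (monomial dm (1 : k))
          = Ideal.Quotient.mk I (C s ^ j * monomial dm 1) := by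
        rw [← C_pow, ← smul_eq_C_mul]; rfl
      rw [e4, e1, e2]
      exact Ideal.Quotient.eq.2 key
end H15727

/-- Let k be an algebraically closed field, 0 < p < q coprime integers and m ≥ 1, and grade k[X₀,…,X₄]
by ℤ × ℤ/m, giving X₀ weight (1,0), X₁ and X₂ weight (−p,−1), and X₃ and X₄ weight (q,1). For s ∈ k
let I_s be the ideal (X₀^(q−p) − X₁X₄, X₂, X₃, s − X₀^(mp)X₁^m), whose generators are homogeneous
(the last one of weight zero). Then for every weight ν the image in k[X₀,…,X₄]/I_s of the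
homogeneous polynomials of weight ν is a k-vector space of dimension at most 1. (The published
statement asserts that this dimension equals 1 for every ν and every s, namely that the quotient has
the Hilbert function of the regular representation of the grading group; this row states the upper
bound, the half obtained from the monomial analysis of the weight pieces, while the lower bound
there is drawn from the moduli interpretation of these ideals. The published statement is over the
complex numbers; this row takes any algebraically closed field, which is what the reduction to s =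
0, 1 by rescaling the variables uses.) -/
theorem result (k : Type u) [Field k] [IsAlgClosed k] (p q m : ℕ) (hp : 0 < p) (hpq : p < q) (hcop : Nat.Coprime p q) (hm : 0 < m) (s : k) (ν : ℤ × ZMod m) :
    Module.rank k (W4c2invhilbsl2.piece k (W4c2invhilbsl2.wt5 p q m) (W4c2invhilbsl2.idealI k p q m s) ν) ≤ 1 := by
  exact H15727.main k p q m hp hpq hcop hm s ν

end Groth.Agent.S15727
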