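import Groth.Statements.S15728
import Mathlib
import Groth.Agent.Lib.Helper4.MonoRel

set_option autoImplicit false
universe u
open W4c2invhilbsl2

namespace Groth.Agent.S15728

namespace H15728
open W4c2invhilbsl2 Groth.Agent.Helper4.MonoRel Groth.Agent.Helper4.WtGen MvPolynomial

theorem monomial5 {k : Type*} [CommSemiring k] (d : Fin 5 →₀ ℕ) :
    (monomial d (1 : k)) = X 0 ^ d 0 * X 1 ^ d 1 * X 2 ^ d 2 * X 3 ^ d 3 * X 4 ^ d 4 := by
  rw [monomial_eq, C_1, one_mul, Finsupp.prod_fintype _ _ (fun i => by simp), Fin.prod_univ_five]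

/-- the number theory: same weight, both `X₀`-exponents `< g` -/
theorem nt' (p q m : ℕ) (hp : 0 < p) (hpq : p < q) (hcop : Nat.Coprime p q) (hm : 0 < m)
    (d0 d1 d2 e0 e1 e2 : ℕ) (hn : (e0 : ℤ) - (p : ℤ) * e1 + (q : ℤ) * e2 = (d0 : ℤ) - (p : ℤ) * d1 + (q : ℤ) * d2)
    (hmδ : (m : ℤ) ∣ ((e1 : ℤ) - d1) - ((e2 : ℤ) - d2))
    (hd0 : d0 < Nat.gcd m (q - p)) (he0 : e0 < Nat.gcd m (q - p)) :
    d0 = e0 ∧ ∃ j : ℤ, (e1 : ℤ) - d1 = ((m / Nat.gcd m (q - p) * q : ℕ) : ℤ) * j ∧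
      (e2 : ℤ) - d2 = ((m / Nat.gcd m (q - p) * p : ℕ) : ℤ) * j := by
  set g := Nat.gcd m (q - p) with hg
  have hg0 : 0 < g := Nat.gcd_pos_of_pos_left _ hm
  have hgm : g ∣ m := Nat.gcd_dvd_left _ _
  have hgD : g ∣ q - p := Nat.gcd_dvd_right _ _
  have hag : m / g * g = m := Nat.div_mul_cancel hgm
  have hbg : (q - p) / g * g = q - p := Nat.div_mul_cancel hgD
  have hcopab : Nat.Coprime (m / g) ((q - p) / g) := Nat.coprime_div_gcd_div_gcd hg0
  set a := m / g with ha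
  set b := (q - p) / g with hb
  have hagz : (a : ℤ) * g = m := by exact_mod_cast hag
  have hbgz : (b : ℤ) * g = (q : ℤ) - p := by
    have : ((b * g : ℕ) : ℤ) = ((q - p : ℕ) : ℤ) := by rw [hbg]
    rw [Nat.cast_sub hpq.le] at this
    exact_mod_cast this
  have hgz : (0 : ℤ) < g := by exact_mod_cast hg0
  have hgmz : (g : ℤ) ∣ m := ⟨a, by rw [mul_comm]; exact hagz.symm⟩
  have hgDz : (g : ℤ) ∣ (q : ℤ) - p := ⟨b, by rw [mul_comm]; exact hbgz.symm⟩
  have h0 : (g : ℤ) ∣ (e0 : ℤ) - d0 := by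
    have e : (e0 : ℤ) - d0 = p * (((e1 : ℤ) - d1) - ((e2 : ℤ) - d2)) - ((q : ℤ) - p) * ((e2 : ℤ) - d2) := by
      linarith
    rw [e]
    exact dvd_sub (Dvd.dvd.mul_left (hgmz.trans hmδ) _) (Dvd.dvd.mul_right hgDz _)
  have hde : d0 = e0 := by
    obtain ⟨t, ht⟩ := h0
    have : t = 0 := by
      by_contra hne
      rcases lt_or_gt_of_ne hne with h | h
      · have : (g : ℤ) * t ≤ (g : ℤ) * (-1) := mul_le_mul_of_nonneg_left (by omega) hgz.le
        have h1 : (e0 : ℤ) - d0 ≤ -g := by linarith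
        have h2 : (d0 : ℤ) < g := by exact_mod_cast hd0
        have h3 : (0 : ℤ) ≤ e0 := Int.natCast_nonneg _
        linarith
      · have : (g : ℤ) * 1 ≤ (g : ℤ) * t := mul_le_mul_of_nonneg_left (by omega) hgz.le
        have h1 : (g : ℤ) ≤ (e0 : ℤ) - d0 := by linarith
        have h2 : (e0 : ℤ) < g := by exact_mod_cast he0
        have h3 : (0 : ℤ) ≤ d0 := Int.natCast_nonneg _
        linarith
    rw [this, mul_zero] at ht
    have : (e0 : ℤ) = d0 := by linarith
    exact_mod_cast this.symm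
  refine ⟨hde, ?_⟩
  have hpq' : (p : ℤ) * ((e1 : ℤ) - d1) = q * ((e2 : ℤ) - d2) := by
    have : (e0 : ℤ) = d0 := by exact_mod_cast hde.symm
    linarith
  have hcopz : IsCoprime (q : ℤ) (p : ℤ) := Nat.isCoprime_iff_coprime.2 hcop.symm
  have hq1 : (q : ℤ) ∣ (e1 : ℤ) - d1 := hcopz.dvd_of_dvd_mul_left ⟨(e2 : ℤ) - d2, hpq'⟩
  obtain ⟨e, he⟩ := hq1
  have hqz : (q : ℤ) ≠ 0 := by
    have : 0 < q := lt_trans hp hpq
    exact_mod_cast this.ne'
  have he2 : (e2 : ℤ) - d2 = p * e := by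
    rw [he] at hpq'
    have : (q : ℤ) * ((e2 : ℤ) - d2) = q * (p * e) := by rw [← hpq']; ring
    exact mul_left_cancel₀ hqz this
  have hmD : (m : ℤ) ∣ ((q : ℤ) - p) * e := by
    have : ((e1 : ℤ) - d1) - ((e2 : ℤ) - d2) = ((q : ℤ) - p) * e := by rw [he, he2]; ring
    rwa [this] at hmδ
  have habe : (a : ℤ) ∣ (b : ℤ) * e := by
    rw [← hagz, ← hbgz] at hmD
    have : (g : ℤ) * a ∣ (g : ℤ) * (b * e) := by
      convert hmD using 1 <;> ring
    exact (mul_dvd_mul_iff_left hgz.ne').1 this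
  have hcopabz : IsCoprime (a : ℤ) (b : ℤ) := Nat.isCoprime_iff_coprime.2 hcopab
  have hae : (a : ℤ) ∣ e := hcopabz.dvd_of_dvd_mul_left habe
  obtain ⟨j, hj⟩ := hae
  refine ⟨j, ?_, ?_⟩
  · rw [he, hj]; push_cast; ring
  · rw [he2, hj]; push_cast; ring

theorem main (k : Type*) [Field k] (p q m : ℕ) (hp : 0 < p) (hpq : p < q) (hcop : Nat.Coprime p q) (hm : 0 < m) (s : k) (ν : ℤ × ZMod m) :
    Module.rank k (W4c2invhilbsl2.piece k (W4c2invhilbsl2.wt5 p q m) (W4c2invhilbsl2.idealJ k p q m s) ν) ≤ 1 := by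
  classical
  set g := Nat.gcd m (q - p) with hg
  have hg0 : 0 < g := Nat.gcd_pos_of_pos_left _ hm
  have hgm : g ∣ m := Nat.gcd_dvd_left _ _
  have hag : m / g * g = m := Nat.div_mul_cancel hgm
  set a := m / g with ha
  have ha0 : 0 < a := by
    rcases Nat.eq_zero_or_pos a with h | h
    · rw [h, zero_mul] at hag; omega
    · exact h
  have hq0 : 0 < q := lt_trans hp hpq
  set I := idealJ k p q m s with hI
  have hI1 : (X 0 ^ g : MvPolynomial (Fin 5) k) ∈ I := Ideal.subset_span (by simp [hg])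
  have hI2 : (X 2 : MvPolynomial (Fin 5) k) ∈ I := Ideal.subset_span (by simp)
  have hI3 : (X 4 : MvPolynomial (Fin 5) k) ∈ I := Ideal.subset_span (by simp)
  have hI4 : (C s - X 1 ^ (a * q) * X 3 ^ (a * p) : MvPolynomial (Fin 5) k) ∈ I :=
    Ideal.subset_span (by simp [ha, hg])
  have hvanish : ∀ d : Fin 5 →₀ ℕ, (d 2 ≠ 0 ∨ d 4 ≠ 0 ∨ g ≤ d 0) → Ideal.Quotient.mk I (monomial d 1) = 0 := by
    intro d hd
    rw [Ideal.Quotient.eq_zero_iff_mem, monomial5]
    rcases hd with h | h | h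
    · have : (X 2 : MvPolynomial (Fin 5) k) ^ d 2 ∈ I := by
        obtain ⟨n, hn⟩ := Nat.exists_eq_succ_of_ne_zero h
        rw [hn, pow_succ]; exact I.mul_mem_left _ hI2
      have h' := I.mul_mem_left (X 0 ^ d 0 * X 1 ^ d 1 * X 3 ^ d 3 * X 4 ^ d 4) this
      convert h' using 1; ring
    · have : (X 4 : MvPolynomial (Fin 5) k) ^ d 4 ∈ I := by
        obtain ⟨n, hn⟩ := Nat.exists_eq_succ_of_ne_zero h
        rw [hn, pow_succ]; exact I.mul_mem_left _ hI3
      have h' := I.mul_mem_left (X 0 ^ d 0 * X 1 ^ d 1 * X 2 ^ d 2 * X 3 ^ d 3) this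
      convert h' using 1
    · have : (X 0 : MvPolynomial (Fin 5) k) ^ d 0 ∈ I := by
        obtain ⟨n, hn⟩ := Nat.exists_eq_add_of_le h
        rw [hn, pow_add]; exact I.mul_mem_right _ hI1
      have h' := I.mul_mem_left (X 1 ^ d 1 * X 2 ^ d 2 * X 3 ^ d 3 * X 4 ^ d 4) this
      convert h' using 1; ring
  set S : Set (Fin 5 →₀ ℕ) := {d | Finsupp.weight (wt5 p q m) d = ν ∧ d 2 = 0 ∧ d 4 = 0 ∧ d 0 < g} with hS
  by_cases hne : S.Nonempty
  swap
  · apply piece_rank_le_one (wt5 p q m) I ν 0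
    intro d hd
    refine ⟨0, ?_⟩
    rw [zero_smul]
    apply hvanish
    by_contra hcon
    rw [not_or, not_or, not_not, not_not, not_le] at hcon
    exact hne ⟨d, hd, hcon.1, hcon.2.1, hcon.2.2⟩
  · obtain ⟨dm, hdmS, hmin⟩ := WellFounded.has_min (measure (fun d : Fin 5 →₀ ℕ => d 1)).wf S hne
    apply piece_rank_le_one (wt5 p q m) I ν (Ideal.Quotient.mk I (monomial dm 1))
    intro d hd
    by_cases hd23 : d 2 ≠ 0 ∨ d 4 ≠ 0 ∨ g ≤ d 0
    · exact ⟨0, by rw [zero_smul]; exact hvanish d hd23⟩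
    · rw [not_or, not_or, not_not, not_not, not_le] at hd23
      obtain ⟨hd2, hd4, hd0⟩ := hd23
      have hdS : d ∈ S := ⟨hd, hd2, hd4, hd0⟩
      have hle : dm 1 ≤ d 1 := by
        have : ¬ (d 1 < dm 1) := hmin d hdS
        omega
      obtain ⟨hdm, hdm2, hdm4, hdm0⟩ := hdmS
      rw [weight_wt5, Prod.ext_iff] at hd hdm
      obtain ⟨h1, h2⟩ := hd
      obtain ⟨h1', h2'⟩ := hdm
      simp only [hd2, hd4] at h1 h2
      simp only [hdm2, hdm4] at h1' h2'
      push_cast at h1 h2 h1' h2'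
      simp only [add_zero, zero_add] at h1 h2 h1' h2'
      have h22 : (((d 3 : ℤ) - d 1 : ℤ) : ZMod m) = (((dm 3 : ℤ) - dm 1 : ℤ) : ZMod m) := by
        push_cast; rw [h2, h2']
      rw [ZMod.intCast_eq_intCast_iff_dvd_sub] at h22
      have hmδ : (m : ℤ) ∣ ((d 1 : ℤ) - dm 1) - ((d 3 : ℤ) - dm 3) := by
        have e : ((d 1 : ℤ) - dm 1) - ((d 3 : ℤ) - dm 3) = ((dm 3 : ℤ) - dm 1) - ((d 3 : ℤ) - d 1) := by ring
        rw [e]; exact h22
      obtain ⟨hde, j, hj1, hj2⟩ := nt' p q m hp hpq hcop hm (dm 0) (dm 1) (dm 3) (d 0) (d 1) (d 3)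
        (by linarith) hmδ hdm0 hd0
      have hj0 : 0 ≤ j := by
        by_contra h
        rw [not_le] at h
        have hpos : (0 : ℤ) < ((m / Nat.gcd m (q - p) * q : ℕ) : ℤ) := by
          have : 0 < a * q := Nat.mul_pos ha0 hq0
          exact_mod_cast this
        have := mul_neg_of_pos_of_neg hpos h
        have h3 : (dm 1 : ℤ) ≤ d 1 := by exact_mod_cast hle
        linarith
      obtain ⟨j', rfl⟩ := Int.eq_ofNat_of_zero_le hj0
      have hj1' : (d 1 : ℤ) - dm 1 = ((a * q : ℕ) : ℤ) * (j' : ℤ) := hj1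
      have hj2' : (d 3 : ℤ) - dm 3 = ((a * p : ℕ) : ℤ) * (j' : ℤ) := hj2
      have e1' : d 1 = dm 1 + a * q * j' := by
        have : (d 1 : ℤ) = ((dm 1 + a * q * j' : ℕ) : ℤ) := by push_cast; push_cast at hj1'; linarith
        exact_mod_cast this
      have e2' : d 3 = dm 3 + a * p * j' := by
        have : (d 3 : ℤ) = ((dm 3 + a * p * j' : ℕ) : ℤ) := by push_cast; push_cast at hj2'; linarith
        exact_mod_cast this
      refine ⟨s ^ j', ?_⟩
      have e1 : (monomial d (1 : k)) = X 0 ^ dm 0 * X 1 ^ dm 1 * X 3 ^ dm 3 *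
          (X 1 ^ (a * q) * X 3 ^ (a * p)) ^ j' := by
        rw [monomial5, hd2, hd4, e1', e2', ← hde, mul_pow, ← pow_mul, ← pow_mul, pow_add, pow_add]; ring
      have e2 : (monomial dm (1 : k)) = X 0 ^ dm 0 * X 1 ^ dm 1 * X 3 ^ dm 3 := by
        rw [monomial5, hdm2, hdm4]; ring
      have e4 : s ^ j' • (Ideal.Quotient.mk I) (monomial dm (1 : k))
          = Ideal.Quotient.mk I (C s ^ j' * monomial dm 1) := by
        rw [← C_pow, ← smul_eq_C_mul]; rfl
      rw [e4, e1, e2]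
      apply Ideal.Quotient.eq.2
      have hdvd : (X 1 ^ (a * q) * X 3 ^ (a * p) : MvPolynomial (Fin 5) k) - C s ∣
          (X 1 ^ (a * q) * X 3 ^ (a * p)) ^ j' - C s ^ j' := sub_dvd_pow_sub_pow _ _ _
      have hmem : ((X 1 ^ (a * q) * X 3 ^ (a * p)) ^ j' - C s ^ j' : MvPolynomial (Fin 5) k) ∈ I := by
        obtain ⟨r, hr⟩ := hdvd
        rw [hr]
        apply I.mul_mem_right
        have := neg_mem hI4
        rwa [neg_sub] at this
      have := I.mul_mem_left (X 0 ^ dm 0 * X 1 ^ dm 1 * X 3 ^ dm 3) hmem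
      convert this using 1; ring
end H15728

/-- Let k be an algebraically closed field, 0 < p < q coprime integers and m ≥ 1; put g = gcd(m, q−p)
and a = m/g, and grade k[X₀,…,X₄] by ℤ × ℤ/m, giving X₀ weight (1,0), X₁ and X₂ weight (−p,−1), and
X₃ and X₄ weight (q,1). For s ∈ k let J_s be the ideal (X₀^g, X₂, X₄, s − X₁^(aq)X₃^(ap)), whose
generators are homogeneous (the last one of weight zero). Then for every weight ν the image in
k[X₀,…,X₄]/J_s of the homogeneous polynomials of weight ν is a k-vector space of dimension at most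
1. (The published statement asserts that this dimension equals 1 for every ν and every s; this row
states the upper bound, the half obtained from the monomial analysis of the weight pieces, while the
lower bound there is drawn from the moduli interpretation of these ideals. The published statement
is over the complex numbers; this row takes any algebraically closed field, which is what the
reduction to s = 0, 1 by rescaling the variables uses.) -/
theorem result (k : Type u) [Field k] [IsAlgClosed k] (p q m : ℕ) (hp : 0 < p) (hpq : p < q) (hcop : Nat.Coprime p q) (hm : 0 < m) (s : k) (ν : ℤ × ZMod m) :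
    Module.rank k (W4c2invhilbsl2.piece k (W4c2invhilbsl2.wt5 p q m) (W4c2invhilbsl2.idealJ k p q m s) ν) ≤ 1 := by
  exact H15728.main k p q m hp hpq hcop hm s ν

end Groth.Agent.S15728
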