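import Groth.Statements.S15729
import Mathlib
import Groth.Agent.Lib.Helper4.WtGen
import Groth.Agent.Lib.Helper4.HJ2

set_option autoImplicit false
universe u
open W4c2invhilbsl2

namespace Groth.Agent.S15729

namespace H15729
open W4c2invhilbsl2 Groth.Agent.Helper4.WtGen Groth.Agent.Helper4.HJ2 MvPolynomial

theorem main (k : Type*) [Field k] (p q m : ℕ) (hp : 0 < p) (hpq : p < q) (hcop : Nat.Coprime p q) (hm : 0 < m) (hnt : ¬ (q - p ∣ m)) (c : List ℤ) (hc : W4c2invhilbsl2.IsHJDigits p q m c) (i : ℕ) (hi : 1 ≤ i) (hir : i ≤ c.length)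
    (f : MvPolynomial (Fin 3) k) (hf : f ∈ MvPolynomial.weightedHomogeneousSubmodule k (W4c2invhilbsl2.wt3 p q m) (W4c2invhilbsl2.nN p q m c i, (0 : ZMod m))) :
    ∃ a b : MvPolynomial (Fin 3) k, a ∈ MvPolynomial.weightedHomogeneousSubmodule k (W4c2invhilbsl2.wt3 p q m) 0 ∧ b ∈ MvPolynomial.weightedHomogeneousSubmodule k (W4c2invhilbsl2.wt3 p q m) 0 ∧
      f = a * MvPolynomial.X (0 : Fin 3) ^ (W4c2invhilbsl2.nN p q m c i).toNat +
        b * (MvPolynomial.X (1 : Fin 3) ^ (W4c2invhilbsl2.eE p q m c i).toNat * MvPolynomial.X (2 : Fin 3) ^ (W4c2invhilbsl2.lL p q m c i).toNat) := by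
  have F := facts p q m hp hpq hcop hm hnt c hc
  have hn0 := nN_nonneg F i (by omega)
  have he0 := eE_pos F i (by omega)
  have hl0 := lL_pos F i (by omega)
  have hnN : ((nN p q m c i).toNat : ℤ) = nN p q m c i := Int.toNat_of_nonneg hn0
  have heE : ((eE p q m c i).toNat : ℤ) = eE p q m c i := Int.toNat_of_nonneg (by linarith)
  have hlL : ((lL p q m c i).toNat : ℤ) = lL p q m c i := Int.toNat_of_nonneg (by linarith)
  have := gen2 (k := k) (wt3 p q m) (nN p q m c i, (0 : ZMod m)) (Finsupp.single 0 (nN p q m c i).toNat)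
    (Finsupp.single 1 (eE p q m c i).toNat + Finsupp.single 2 (lL p q m c i).toNat) ?_ ?_ ?_ f hf
  · obtain ⟨a, b, ha, hb, hab⟩ := this
    refine ⟨a, b, ha, hb, ?_⟩
    rw [hab, monomial_pair3, ← X_pow_eq_monomial]
  · rw [weight_wt3]
    simp [hnN]
  · rw [weight_wt3]
    ext
    · simp only [Finsupp.coe_add, Pi.add_apply, Finsupp.single_apply]
      simp [heE, hlL]
      unfold nN; ring
    · simp only [Finsupp.coe_add, Pi.add_apply, Finsupp.single_apply]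
      simp [heE, hlL]
      rw [eE_eq]; push_cast; simp
  · intro d hd
    rw [weight_wt3, Prod.ext_iff] at hd
    obtain ⟨h1, h2⟩ := hd
    simp only at h1 h2
    rw [single_le_iff3, pair_le_iff3]
    have h2' : (m : ℤ) ∣ (d 2 : ℤ) - d 1 := (ZMod.intCast_zmod_eq_zero_iff_dvd _ _).1 h2
    rcases NT F hp hm i hi hir (d 0) (d 1) (d 2) h1 h2' with h | ⟨h, h'⟩
    · left; omega
    · right; omega
end H15729

/-- Let 0 < p < q be coprime integers and m ≥ 1 such that q − p does not divide m; put g = gcd(m, q−p),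
b = (q−p)/g, α = ⌊mp/(q−p)⌋, β = the remainder of mp modulo q−p and t = (q−p−β)/g, so that 1 ≤ t <
b, and let b/t = c₁ − 1/(c₂ − 1/(⋯ − 1/c_r)) be the negative-regular (Hirzebruch–Jung) continued
fraction expansion with every cᵢ ≥ 2; set P₀ = 0, P₁ = 1, Q₀ = −1, Q₁ = 0, Pᵢ = cᵢ₋₁Pᵢ₋₁ − Pᵢ₋₂, Qᵢ
= cᵢ₋₁Qᵢ₋₁ − Qᵢ₋₂ for 2 ≤ i ≤ r+1, and eᵢ = (α+1+m)Pᵢ − Qᵢ, lᵢ = (α+1)Pᵢ − Qᵢ, nᵢ = q·lᵢ − p·eᵢ,
which are non-negative integers for 0 ≤ i ≤ r+1. Grade the polynomial ring k[X₀,X₁,X₂] over a field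
k by ℤ × ℤ/m with weights (1,0), (−p,−1), (q,1) (it stands for k[X₀,X₁,Xⱼ], j = 3 or 4, inside the
five-variable ring). Then for every 1 ≤ i ≤ r, every polynomial homogeneous of weight (nᵢ, 0) can be
written a·X₀^(nᵢ) + b·X₁^(eᵢ)X₂^(lᵢ) with a and b homogeneous of weight zero; that is, the
weight-(nᵢ,0) piece is generated over the weight-zero subring by X₀^(nᵢ) and X₁^(eᵢ)X₂^(lᵢ). -/
theorem result (k : Type u) [Field k] (p q m : ℕ) (hp : 0 < p) (hpq : p < q) (hcop : Nat.Coprime p q) (hm : 0 < m) (hnt : ¬ (q - p ∣ m)) (c : List ℤ) (hc : W4c2invhilbsl2.IsHJDigits p q m c) (i : ℕ) (hi : 1 ≤ i) (hir : i ≤ c.length)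
    (f : MvPolynomial (Fin 3) k) (hf : f ∈ MvPolynomial.weightedHomogeneousSubmodule k (W4c2invhilbsl2.wt3 p q m) (W4c2invhilbsl2.nN p q m c i, (0 : ZMod m))) :
    ∃ a b : MvPolynomial (Fin 3) k, a ∈ MvPolynomial.weightedHomogeneousSubmodule k (W4c2invhilbsl2.wt3 p q m) 0 ∧ b ∈ MvPolynomial.weightedHomogeneousSubmodule k (W4c2invhilbsl2.wt3 p q m) 0 ∧
      f = a * MvPolynomial.X (0 : Fin 3) ^ (W4c2invhilbsl2.nN p q m c i).toNat +
        b * (MvPolynomial.X (1 : Fin 3) ^ (W4c2invhilbsl2.eE p q m c i).toNat * MvPolynomial.X (2 : Fin 3) ^ (W4c2invhilbsl2.lL p q m c i).toNat) := by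
  exact H15729.main k p q m hp hpq hcop hm hnt c hc i hi hir f hf

end Groth.Agent.S15729
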