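import Groth.Statements.S15732
import Mathlib
import Groth.Agent.Lib.Helper4.WtGen2
import Groth.Agent.Lib.Helper4.HJ2

set_option autoImplicit false
universe u
open W4c2invhilbsl2

namespace Groth.Agent.S15732

namespace H15732
open W4c2invhilbsl2 Groth.Agent.Helper4.WtGen Groth.Agent.Helper4.HJ2 MvPolynomial

/-- the exponent vector of `X₁^a X₂^b X₃^c X₄^d` -/
noncomputable def quad (a b c d : ℕ) : Fin 5 →₀ ℕ :=
  Finsupp.single 1 a + Finsupp.single 2 b + Finsupp.single 3 c + Finsupp.single 4 d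

theorem quad_apply (a b c d : ℕ) : quad a b c d 0 = 0 ∧ quad a b c d 1 = a ∧ quad a b c d 2 = b ∧
    quad a b c d 3 = c ∧ quad a b c d 4 = d := by
  refine ⟨?_, ?_, ?_, ?_, ?_⟩ <;> simp [quad, Finsupp.single_apply]

theorem quad_le_iff (a b c e : ℕ) (d : Fin 5 →₀ ℕ) :
    quad a b c e ≤ d ↔ a ≤ d 1 ∧ b ≤ d 2 ∧ c ≤ d 3 ∧ e ≤ d 4 := by
  obtain ⟨q0, q1, q2, q3, q4⟩ := quad_apply a b c e
  constructor
  · intro h
    have h1 := h 1
    have h2 := h 2
    have h3 := h 3
    have h4 := h 4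
    rw [q1] at h1; rw [q2] at h2; rw [q3] at h3; rw [q4] at h4
    exact ⟨h1, h2, h3, h4⟩
  · rintro ⟨h1, h2, h3, h4⟩ l
    fin_cases l
    · show quad a b c e 0 ≤ d 0
      rw [q0]; exact Nat.zero_le _
    · show quad a b c e 1 ≤ d 1
      rw [q1]; exact h1
    · show quad a b c e 2 ≤ d 2
      rw [q2]; exact h2
    · show quad a b c e 3 ≤ d 3
      rw [q3]; exact h3
    · show quad a b c e 4 ≤ d 4
      rw [q4]; exact h4

theorem mono_quad {k : Type*} [CommSemiring k] (a b c d : ℕ) :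
    (monomial (quad a b c d) (1 : k)) = X (1 : Fin 5) ^ a * X (2 : Fin 5) ^ b * X (3 : Fin 5) ^ c * X (4 : Fin 5) ^ d := by
  simp only [quad, X_pow_eq_monomial, monomial_mul, mul_one]

theorem single_le_iff5 (j : Fin 5) (n : ℕ) (d : Fin 5 →₀ ℕ) : Finsupp.single j n ≤ d ↔ n ≤ d j := by
  constructor
  · intro h; simpa using h j
  · intro h i
    by_cases hij : i = j
    · subst hij; simpa using h
    · rw [Finsupp.single_apply, if_neg (Ne.symm hij)]; exact Nat.zero_le _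

theorem main (k : Type*) [Field k] (p q m : ℕ) (hp : 0 < p) (hpq : p < q) (hcop : Nat.Coprime p q) (hm : 0 < m) (hnt : ¬ (q - p ∣ m)) (c : List ℤ) (hc : W4c2invhilbsl2.IsHJDigits p q m c) (i : ℕ) (hi : 1 ≤ i) (hir : i ≤ c.length)
    (f : MvPolynomial (Fin 5) k) (hf : f ∈ MvPolynomial.weightedHomogeneousSubmodule k (W4c2invhilbsl2.wt5 p q m) (W4c2invhilbsl2.nN p q m c i, (0 : ZMod m))) :
    ∃ (a₀ : MvPolynomial (Fin 5) k) (a : ℕ → ℕ → MvPolynomial (Fin 5) k),
      a₀ ∈ MvPolynomial.weightedHomogeneousSubmodule k (W4c2invhilbsl2.wt5 p q m) 0 ∧ (∀ e l : ℕ, a e l ∈ MvPolynomial.weightedHomogeneousSubmodule k (W4c2invhilbsl2.wt5 p q m) 0) ∧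
      f - (a₀ * MvPolynomial.X (0 : Fin 5) ^ (W4c2invhilbsl2.nN p q m c i).toNat +
          ∑ e ∈ Finset.range ((W4c2invhilbsl2.eE p q m c i).toNat + 1), ∑ l ∈ Finset.range ((W4c2invhilbsl2.lL p q m c i).toNat + 1),
            a e l * (MvPolynomial.X (1 : Fin 5) ^ ((W4c2invhilbsl2.eE p q m c i).toNat - e) * MvPolynomial.X (2 : Fin 5) ^ e *
              MvPolynomial.X (3 : Fin 5) ^ ((W4c2invhilbsl2.lL p q m c i).toNat - l) * MvPolynomial.X (4 : Fin 5) ^ l)) ∈
        Ideal.span {MvPolynomial.X (0 : Fin 5) ^ (q - p) - MvPolynomial.X 1 * MvPolynomial.X 4 + MvPolynomial.X 2 * MvPolynomial.X 3} := by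
  classical
  have F := facts p q m hp hpq hcop hm hnt c hc
  have hn0 := nN_nonneg F i (by omega)
  have he0 := eE_pos F i (by omega)
  have hl0 := lL_pos F i (by omega)
  have hnN : ((nN p q m c i).toNat : ℤ) = nN p q m c i := Int.toNat_of_nonneg hn0
  have heE : ((eE p q m c i).toNat : ℤ) = eE p q m c i := Int.toNat_of_nonneg (by linarith)
  have hlL : ((lL p q m c i).toNat : ℤ) = lL p q m c i := Int.toNat_of_nonneg (by linarith)
  set N := (nN p q m c i).toNat with hN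
  set E := (eE p q m c i).toNat with hE
  set L := (lL p q m c i).toNat with hL
  set s : Finset (Option (ℕ × ℕ)) :=
    insert none ((Finset.range (E + 1) ×ˢ Finset.range (L + 1)).map Function.Embedding.some) with hs
  set g : Option (ℕ × ℕ) → Fin 5 →₀ ℕ := fun o => match o with
    | none => Finsupp.single 0 N
    | some (e, l) => quad (E - e) e (L - l) l with hg
  have hwq : ∀ e l, e ≤ E → l ≤ L →
      Finsupp.weight (wt5 p q m) (quad (E - e) e (L - l) l) = (nN p q m c i, (0 : ZMod m)) := by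
    intro e l he hl
    obtain ⟨q0, q1, q2, q3, q4⟩ := quad_apply (E - e) e (L - l) l
    rw [weight_wt5, q0, q1, q2, q3, q4]
    have e1 : ((E - e : ℕ) : ℤ) + e = eE p q m c i := by rw [Nat.cast_sub he, ← heE]; ring
    have e2 : ((L - l : ℕ) : ℤ) + l = lL p q m c i := by rw [Nat.cast_sub hl, ← hlL]; ring
    rw [e1, e2]
    ext
    · simp only [Nat.cast_zero, zero_sub]; unfold nN; ring
    · simp only; rw [eE_eq]; push_cast; simp
  have := genFam (k := k) (wt5 p q m) (nN p q m c i, (0 : ZMod m)) s g ?_ ?_ f hf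
  · obtain ⟨a, ha, hfa⟩ := this
    refine ⟨a none, fun e l => a (some (e, l)), ha none, fun e l => ha _, ?_⟩
    rw [hfa, hs, Finset.sum_insert (by simp), Finset.sum_map, Finset.sum_product]
    simp only [Function.Embedding.some_apply, hg, mono_quad, X_pow_eq_monomial, sub_self]
    exact Ideal.zero_mem _
  · intro j hj
    rw [hs, Finset.mem_insert, Finset.mem_map] at hj
    rcases hj with rfl | ⟨⟨e, l⟩, hel, rfl⟩
    · simp only [hg]
      rw [weight_wt5]
      simp [hnN]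
    · rw [Finset.mem_product, Finset.mem_range, Finset.mem_range] at hel
      simp only [Function.Embedding.some_apply, hg]
      exact hwq e l (by omega) (by omega)
  · intro d hd
    rw [weight_wt5, Prod.ext_iff] at hd
    obtain ⟨h1, h2⟩ := hd
    simp only at h1 h2
    have h2' : (m : ℤ) ∣ (((d 3 + d 4 : ℕ) : ℤ)) - ((d 1 + d 2 : ℕ) : ℤ) := by
      push_cast
      exact (ZMod.intCast_zmod_eq_zero_iff_dvd _ _).1 h2
    have h1' : (d 0 : ℤ) - p * ((d 1 + d 2 : ℕ) : ℤ) + q * ((d 3 + d 4 : ℕ) : ℤ) = nN p q m c i := by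
      push_cast; exact h1
    rcases NT F hp hm i hi hir (d 0) (d 1 + d 2) (d 3 + d 4) h1' h2' with h | ⟨h, h'⟩
    · refine ⟨none, by simp [hs], ?_⟩
      simp only [hg]
      rw [single_le_iff5]
      omega
    · have hE' : E ≤ d 1 + d 2 := by omega
      have hL' : L ≤ d 3 + d 4 := by omega
      refine ⟨some (min (d 2) E, min (d 4) L), ?_, ?_⟩
      · rw [hs, Finset.mem_insert]
        right
        rw [Finset.mem_map]
        refine ⟨(min (d 2) E, min (d 4) L), ?_, rfl⟩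
        rw [Finset.mem_product, Finset.mem_range, Finset.mem_range]
        constructor <;> omega
      · simp only [hg]
        rw [quad_le_iff]
        refine ⟨?_, ?_, ?_, ?_⟩ <;> omega
end H15732

/-- Let 0 < p < q be coprime integers and m ≥ 1 such that q − p does not divide m; put g = gcd(m, q−p),
b = (q−p)/g, α = ⌊mp/(q−p)⌋, β = the remainder of mp modulo q−p and t = (q−p−β)/g, so that 1 ≤ t <
b, and let b/t = c₁ − 1/(c₂ − 1/(⋯ − 1/c_r)) be the negative-regular (Hirzebruch–Jung) continued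
fraction expansion with every cᵢ ≥ 2; set P₀ = 0, P₁ = 1, Q₀ = −1, Q₁ = 0, Pᵢ = cᵢ₋₁Pᵢ₋₁ − Pᵢ₋₂, Qᵢ
= cᵢ₋₁Qᵢ₋₁ − Qᵢ₋₂ for 2 ≤ i ≤ r+1, and eᵢ = (α+1+m)Pᵢ − Qᵢ, lᵢ = (α+1)Pᵢ − Qᵢ, nᵢ = q·lᵢ − p·eᵢ,
which are non-negative integers for 0 ≤ i ≤ r+1. Grade the polynomial ring k[X₀,…,X₄] over a field k
by ℤ × ℤ/m, giving X₀ weight (1,0), X₁ and X₂ weight (−p,−1), and X₃ and X₄ weight (q,1). Then for
every 1 ≤ i ≤ r, modulo the principal ideal generated by the weight-zero element X₀^(q−p) − X₁X₄ +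
X₂X₃, every polynomial homogeneous of weight (nᵢ, 0) is congruent to a combination a₀·X₀^(nᵢ) + Σ
a_{e,l}·X₁^(eᵢ−e)X₂^e X₃^(lᵢ−l)X₄^l (sum over 0 ≤ e ≤ eᵢ, 0 ≤ l ≤ lᵢ) whose coefficients a₀, a_{e,l}
are homogeneous of weight zero. Equivalently, in the coordinate ring of the hypersurface the
weight-(nᵢ,0) piece is generated over the weight-zero subring (the invariant ring) by X₀^(nᵢ)
together with the products of a degree-eᵢ monomial in X₁, X₂ and a degree-lᵢ monomial in X₃, X₄.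
(The published statement is over the complex numbers; this row takes any field.) -/
theorem result (k : Type u) [Field k] (p q m : ℕ) (hp : 0 < p) (hpq : p < q) (hcop : Nat.Coprime p q) (hm : 0 < m) (hnt : ¬ (q - p ∣ m)) (c : List ℤ) (hc : W4c2invhilbsl2.IsHJDigits p q m c) (i : ℕ) (hi : 1 ≤ i) (hir : i ≤ c.length)
    (f : MvPolynomial (Fin 5) k) (hf : f ∈ MvPolynomial.weightedHomogeneousSubmodule k (W4c2invhilbsl2.wt5 p q m) (W4c2invhilbsl2.nN p q m c i, (0 : ZMod m))) :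
    ∃ (a₀ : MvPolynomial (Fin 5) k) (a : ℕ → ℕ → MvPolynomial (Fin 5) k),
      a₀ ∈ MvPolynomial.weightedHomogeneousSubmodule k (W4c2invhilbsl2.wt5 p q m) 0 ∧ (∀ e l : ℕ, a e l ∈ MvPolynomial.weightedHomogeneousSubmodule k (W4c2invhilbsl2.wt5 p q m) 0) ∧
      f - (a₀ * MvPolynomial.X (0 : Fin 5) ^ (W4c2invhilbsl2.nN p q m c i).toNat +
          ∑ e ∈ Finset.range ((W4c2invhilbsl2.eE p q m c i).toNat + 1), ∑ l ∈ Finset.range ((W4c2invhilbsl2.lL p q m c i).toNat + 1),
            a e l * (MvPolynomial.X (1 : Fin 5) ^ ((W4c2invhilbsl2.eE p q m c i).toNat - e) * MvPolynomial.X (2 : Fin 5) ^ e *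
              MvPolynomial.X (3 : Fin 5) ^ ((W4c2invhilbsl2.lL p q m c i).toNat - l) * MvPolynomial.X (4 : Fin 5) ^ l)) ∈
        Ideal.span {MvPolynomial.X (0 : Fin 5) ^ (q - p) - MvPolynomial.X 1 * MvPolynomial.X 4 + MvPolynomial.X 2 * MvPolynomial.X 3} := by
  exact H15732.main k p q m hp hpq hcop hm hnt c hc i hi hir f hf

end Groth.Agent.S15732
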