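import Groth.Statements.S15733
import Mathlib
import Groth.Agent.Lib.Helper4.HJ2

set_option autoImplicit false
open W4c2invhilbsl2

namespace Groth.Agent.S15733

namespace H15733
open W4c2invhilbsl2 Groth.Agent.Helper4.HJ2

theorem main (p q m : ℕ) (hp : 0 < p) (hpq : p < q) (hcop : Nat.Coprime p q) (hm : 0 < m) (hnt : ¬ (q - p ∣ m)) (c : List ℤ) (hc : W4c2invhilbsl2.IsHJDigits p q m c) (i : ℕ) (hi : 1 < i) (hir : i ≤ c.length)
    (x : ℤ) (hx0 : 0 < x) (hx : x < W4c2invhilbsl2.hjP c i) :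
    Int.emod ((p : ℤ) * m * x + W4c2invhilbsl2.nN p q m c i) ((q : ℤ) - p) = W4c2invhilbsl2.nN p q m c i + Int.emod ((p : ℤ) * m * x) ((q : ℤ) - p) := by
  have F := facts p q m hp hpq hcop hm hnt c hc
  show ((p : ℤ) * m * x + nN p q m c i) % ((q : ℤ) - p) = nN p q m c i + ((p : ℤ) * m * x) % ((q : ℤ) - p)
  have hρ0 : 0 ≤ ((tT p q m : ℤ) * x) % (bB p q m : ℤ) := Int.emod_nonneg _ F.b0.ne'
  have hρb : ((tT p q m : ℤ) * x) % (bB p q m : ℤ) < (bB p q m : ℤ) := Int.emod_lt_of_pos _ F.b0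
  have hdecomp : (tT p q m : ℤ) * x = (bB p q m : ℤ) * (((tT p q m : ℤ) * x) / (bB p q m : ℤ))
      + ((tT p q m : ℤ) * x) % (bB p q m : ℤ) := (Int.mul_ediv_add_emod _ _).symm
  generalize ((tT p q m : ℤ) * x) % (bB p q m : ℤ) = ρ at *
  generalize ((tT p q m : ℤ) * x) / (bB p q m : ℤ) = y at *
  have hlow := lower F i (by omega) (by omega) x y ρ hx0 hx hdecomp hρ0
  have hdec := F.dec (i - 1) (by omega)
  rw [show i - 1 + 1 = i by omega] at hdec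
  have hTi := T_nonneg F i (by omega)
  -- p m x = g (b - ρ) + D * k
  have e1 : (p : ℤ) * m * x = (gcdK p q m : ℤ) * ((bB p q m : ℤ) - ρ)
      + ((q : ℤ) - p) * ((alpha p q m : ℤ) * x + x - y - 1) := by
    linear_combination (-x) * F.ab + x * F.gt + (-(gcdK p q m : ℤ)) * hdecomp
      + (-(y + 1)) * F.gb
  have e2 : (p : ℤ) * m * x + nN p q m c i = (gcdK p q m : ℤ) * ((bB p q m : ℤ) - ρ + T p q m c i)
      + ((q : ℤ) - p) * ((alpha p q m : ℤ) * x + x - y - 1) := by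
    rw [e1, F.nT]; ring
  rw [e2, e1, Int.add_mul_emod_self_left, Int.add_mul_emod_self_left, F.nT]
  have hD : (q : ℤ) - p = (gcdK p q m : ℤ) * (bB p q m : ℤ) := F.gb.symm
  rw [Int.emod_eq_of_lt, Int.emod_eq_of_lt]
  · ring
  · exact mul_nonneg F.g0.le (by linarith)
  · rw [hD]; exact mul_lt_mul_of_pos_left (by linarith) F.g0
  · exact mul_nonneg F.g0.le (by linarith)
  · rw [hD]; exact mul_lt_mul_of_pos_left (by linarith) F.g0
end H15733

/-- Let 0 < p < q be coprime integers and m ≥ 1 such that q − p does not divide m; put g = gcd(m, q−p),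
b = (q−p)/g, α = ⌊mp/(q−p)⌋, β = the remainder of mp modulo q−p and t = (q−p−β)/g, so that 1 ≤ t <
b, and let b/t = c₁ − 1/(c₂ − 1/(⋯ − 1/c_r)) be the negative-regular (Hirzebruch–Jung) continued
fraction expansion with every cᵢ ≥ 2; set P₀ = 0, P₁ = 1, Q₀ = −1, Q₁ = 0, Pᵢ = cᵢ₋₁Pᵢ₋₁ − Pᵢ₋₂, Qᵢ
= cᵢ₋₁Qᵢ₋₁ − Qᵢ₋₂ for 2 ≤ i ≤ r+1, and eᵢ = (α+1+m)Pᵢ − Qᵢ, lᵢ = (α+1)Pᵢ − Qᵢ, nᵢ = q·lᵢ − p·eᵢ,
which are non-negative integers for 0 ≤ i ≤ r+1. Then for every 1 < i ≤ r and every integer x with 0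
< x < Pᵢ, the remainder of pmx + nᵢ on division by q − p equals nᵢ plus the remainder of pmx on
division by q − p (in particular nᵢ + (pmx mod (q−p)) < q − p). -/
theorem result (p q m : ℕ) (hp : 0 < p) (hpq : p < q) (hcop : Nat.Coprime p q) (hm : 0 < m) (hnt : ¬ (q - p ∣ m)) (c : List ℤ) (hc : W4c2invhilbsl2.IsHJDigits p q m c) (i : ℕ) (hi : 1 < i) (hir : i ≤ c.length)
    (x : ℤ) (hx0 : 0 < x) (hx : x < W4c2invhilbsl2.hjP c i) :
    Int.emod ((p : ℤ) * m * x + W4c2invhilbsl2.nN p q m c i) ((q : ℤ) - p) = W4c2invhilbsl2.nN p q m c i + Int.emod ((p : ℤ) * m * x) ((q : ℤ) - p) := by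
  exact H15733.main p q m hp hpq hcop hm hnt c hc i hi hir x hx0 hx

end Groth.Agent.S15733
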