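import Groth.Statements.S15734
import Mathlib
import Groth.Agent.Lib.Helper4.HJ2

set_option autoImplicit false
open W4c2invhilbsl2

namespace Groth.Agent.S15734

namespace H15734
open W4c2invhilbsl2 Groth.Agent.Helper4.HJ2

theorem main (p q m : ℕ) (hp : 0 < p) (hpq : p < q) (hcop : Nat.Coprime p q) (hm : 0 < m) (hnt : ¬ (q - p ∣ m)) (c : List ℤ) (hc : W4c2invhilbsl2.IsHJDigits p q m c) :
    (∀ i : ℕ, 1 ≤ i → i ≤ c.length →
      Int.emod ((W4c2invhilbsl2.tT p q m : ℤ) * W4c2invhilbsl2.hjP c i) (W4c2invhilbsl2.bB p q m : ℤ) = W4c2invhilbsl2.nN p q m c i / (W4c2invhilbsl2.gcdK p q m : ℤ)) ∧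
    (∀ i : ℕ, 1 < i → i ≤ c.length → ∀ x : ℤ, 0 < x → x < W4c2invhilbsl2.hjP c i →
      W4c2invhilbsl2.nN p q m c (i - 1) / (W4c2invhilbsl2.gcdK p q m : ℤ) ≤ Int.emod ((W4c2invhilbsl2.tT p q m : ℤ) * x) (W4c2invhilbsl2.bB p q m : ℤ) ∧
      Int.emod ((W4c2invhilbsl2.tT p q m : ℤ) * x) (W4c2invhilbsl2.bB p q m : ℤ) ≤
        (W4c2invhilbsl2.bB p q m : ℤ) + W4c2invhilbsl2.nN p q m c i / (W4c2invhilbsl2.gcdK p q m : ℤ) - W4c2invhilbsl2.nN p q m c (i - 1) / (W4c2invhilbsl2.gcdK p q m : ℤ)) := by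
  have F := facts p q m hp hpq hcop hm hnt c hc
  have hdiv : ∀ i, nN p q m c i / (gcdK p q m : ℤ) = T p q m c i := by
    intro i
    rw [F.nT, Int.mul_ediv_cancel_left _ F.g0.ne']
  constructor
  · intro i h1 hir
    rw [hdiv]
    have e : (tT p q m : ℤ) * hjP c i = T p q m c i + (bB p q m : ℤ) * hjQ c i := by
      unfold T; ring
    show ((tT p q m : ℤ) * hjP c i) % (bB p q m : ℤ) = _
    rw [e, Int.add_mul_emod_self_left]
    exact Int.emod_eq_of_lt (T_nonneg F i (by omega)) (T_lt_b F i h1 (by omega))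
  · intro i h1 hir x hx0 hx
    rw [hdiv, hdiv]
    show T p q m c (i - 1) ≤ ((tT p q m : ℤ) * x) % (bB p q m : ℤ) ∧
      ((tT p q m : ℤ) * x) % (bB p q m : ℤ) ≤ (bB p q m : ℤ) + T p q m c i - T p q m c (i - 1)
    have hρ0 : 0 ≤ ((tT p q m : ℤ) * x) % (bB p q m : ℤ) := Int.emod_nonneg _ F.b0.ne'
    have hρb : ((tT p q m : ℤ) * x) % (bB p q m : ℤ) < (bB p q m : ℤ) := Int.emod_lt_of_pos _ F.b0
    have hdecomp : (tT p q m : ℤ) * x = (bB p q m : ℤ) * (((tT p q m : ℤ) * x) / (bB p q m : ℤ))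
        + ((tT p q m : ℤ) * x) % (bB p q m : ℤ) := (Int.mul_ediv_add_emod _ _).symm
    generalize ((tT p q m : ℤ) * x) % (bB p q m : ℤ) = ρ at *
    generalize ((tT p q m : ℤ) * x) / (bB p q m : ℤ) = y at *
    constructor
    · exact lower F i (by omega) (by omega) x y ρ hx0 hx hdecomp hρ0
    · have hTi := T_nonneg F i (by omega)
      have := lower F i (by omega) (by omega) (hjP c i - x) (hjQ c i - y - 1)
        (T p q m c i - ρ + (bB p q m : ℤ)) (by linarith) (by linarith)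
        (by unfold T; linear_combination (-1 : ℤ) * hdecomp) (by linarith)
      linarith
end H15734

/-- Let 0 < p < q be coprime integers and m ≥ 1 such that q − p does not divide m; put g = gcd(m, q−p),
b = (q−p)/g, α = ⌊mp/(q−p)⌋, β = the remainder of mp modulo q−p and t = (q−p−β)/g, so that 1 ≤ t <
b, and let b/t = c₁ − 1/(c₂ − 1/(⋯ − 1/c_r)) be the negative-regular (Hirzebruch–Jung) continued
fraction expansion with every cᵢ ≥ 2; set P₀ = 0, P₁ = 1, Q₀ = −1, Q₁ = 0, Pᵢ = cᵢ₋₁Pᵢ₋₁ − Pᵢ₋₂, Qᵢ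
= cᵢ₋₁Qᵢ₋₁ − Qᵢ₋₂ for 2 ≤ i ≤ r+1, and eᵢ = (α+1+m)Pᵢ − Qᵢ, lᵢ = (α+1)Pᵢ − Qᵢ, nᵢ = q·lᵢ − p·eᵢ,
which are non-negative integers for 0 ≤ i ≤ r+1; moreover g divides every nᵢ, and write tᵢ = nᵢ/g
(so t₁ = t). Then (a) for every 1 ≤ i ≤ r the remainder of t·Pᵢ on division by b equals tᵢ, and (b)
for every 1 < i ≤ r and every integer x with 0 < x < Pᵢ the remainder ρ of t·x on division by b
satisfies tᵢ₋₁ ≤ ρ ≤ b + tᵢ − tᵢ₋₁. -/
theorem result (p q m : ℕ) (hp : 0 < p) (hpq : p < q) (hcop : Nat.Coprime p q) (hm : 0 < m) (hnt : ¬ (q - p ∣ m)) (c : List ℤ) (hc : W4c2invhilbsl2.IsHJDigits p q m c) :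
    (∀ i : ℕ, 1 ≤ i → i ≤ c.length →
      Int.emod ((W4c2invhilbsl2.tT p q m : ℤ) * W4c2invhilbsl2.hjP c i) (W4c2invhilbsl2.bB p q m : ℤ) = W4c2invhilbsl2.nN p q m c i / (W4c2invhilbsl2.gcdK p q m : ℤ)) ∧
    (∀ i : ℕ, 1 < i → i ≤ c.length → ∀ x : ℤ, 0 < x → x < W4c2invhilbsl2.hjP c i →
      W4c2invhilbsl2.nN p q m c (i - 1) / (W4c2invhilbsl2.gcdK p q m : ℤ) ≤ Int.emod ((W4c2invhilbsl2.tT p q m : ℤ) * x) (W4c2invhilbsl2.bB p q m : ℤ) ∧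
      Int.emod ((W4c2invhilbsl2.tT p q m : ℤ) * x) (W4c2invhilbsl2.bB p q m : ℤ) ≤
        (W4c2invhilbsl2.bB p q m : ℤ) + W4c2invhilbsl2.nN p q m c i / (W4c2invhilbsl2.gcdK p q m : ℤ) - W4c2invhilbsl2.nN p q m c (i - 1) / (W4c2invhilbsl2.gcdK p q m : ℤ)) := by
  exact H15734.main p q m hp hpq hcop hm hnt c hc

end Groth.Agent.S15734
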