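import Groth.Statements.S15736
import Mathlib.Tactic

set_option autoImplicit false
open W4c2invhilbsl2

namespace Groth.Agent.S15736

theorem result (p q : ℕ) (hp : 0 < p) (hpq : p < q) (hcop : Nat.Coprime p q) (d0 d1 d2 : ℕ) :
    (∀ e0 e1 e2 : ℕ, (e0 : ℤ) - (p : ℤ) * e1 + (q : ℤ) * e2 = (d0 : ℤ) - (p : ℤ) * d1 + (q : ℤ) * d2 → (e1 : ℤ) - e2 = (d1 : ℤ) - d2 →
      (p : ℤ) * e1 - (q : ℤ) * e2 ≤ (if (d1 : ℤ) - d2 < 0 then (q : ℤ) * ((d1 : ℤ) - d2) else (p : ℤ) * ((d1 : ℤ) - d2))) ∧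
    (∃ e0 e1 e2 : ℕ, (e0 : ℤ) - (p : ℤ) * e1 + (q : ℤ) * e2 = (d0 : ℤ) - (p : ℤ) * d1 + (q : ℤ) * d2 ∧ (e1 : ℤ) - e2 = (d1 : ℤ) - d2 ∧
      (p : ℤ) * e1 - (q : ℤ) * e2 = (if (d1 : ℤ) - d2 < 0 then (q : ℤ) * ((d1 : ℤ) - d2) else (p : ℤ) * ((d1 : ℤ) - d2))) := by
  have hp' : (0 : ℤ) < p := by exact_mod_cast hp
  have hpq' : (p : ℤ) < q := by exact_mod_cast hpq
  constructor
  · intro e0 e1 e2 h1 h2
    have he1 : (0 : ℤ) ≤ e1 := by positivity
    have he2 : (0 : ℤ) ≤ e2 := by positivity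
    split_ifs with hc
    · -- c < 0 : p e1 - q e2 ≤ q (e1 - e2) since (q - p) e1 ≥ 0
      rw [← h2]
      nlinarith
    · rw [← h2]
      nlinarith
  · by_cases hc : (d1 : ℤ) - d2 < 0
    · -- take e1 = 0, e2 = d2 - d1, e0 = n + q * c ... need e0 ≥ 0
      -- n = d0 - p d1 + q d2; e0 = n + ω where ω = q c = q (d1 - d2); e0 = d0 - p d1 + q d2 + q d1 - q d2 = d0 + (q-p) d1
      refine ⟨d0 + (q - p) * d1, 0, d2 - d1, ?_, ?_, ?_⟩
      · have : d1 < d2 := by omega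
        push_cast [Nat.cast_sub this.le, Nat.cast_sub hpq.le]
        ring
      · have : d1 < d2 := by omega
        push_cast [Nat.cast_sub this.le]
        ring
      · have : d1 < d2 := by omega
        rw [if_pos hc]
        push_cast [Nat.cast_sub this.le]
        ring
    · -- c ≥ 0: take e2 = 0, e1 = d1 - d2, e0 = n + p c = d0 - p d1 + q d2 + p d1 - p d2 = d0 + (q - p) d2
      have hle : d2 ≤ d1 := by omega
      refine ⟨d0 + (q - p) * d2, d1 - d2, 0, ?_, ?_, ?_⟩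
      · push_cast [Nat.cast_sub hle, Nat.cast_sub hpq.le]
        ring
      · push_cast [Nat.cast_sub hle]
        ring
      · rw [if_neg hc]
        push_cast [Nat.cast_sub hle]
        ring

end Groth.Agent.S15736
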