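import Groth.Statements.S15737
import Mathlib.Tactic

set_option autoImplicit false
open W4c2invhilbsl2

namespace Groth.Agent.S15737

theorem result (p q : ℕ) (hp : 0 < p) (hpq : p < q) (hcop : Nat.Coprime p q) (d0 d1 d2 : ℕ) :
    d0 < q - p ↔
      ∀ e0 e1 e2 : ℕ, (e0 : ℤ) - (p : ℤ) * e1 + (q : ℤ) * e2 = (d0 : ℤ) - (p : ℤ) * d1 + (q : ℤ) * d2 → (e1 : ℤ) - e2 = (d1 : ℤ) - d2 →
        (p : ℤ) * d1 - (q : ℤ) * d2 ≤ (p : ℤ) * e1 - (q : ℤ) * e2 := by
  have hp' : (0 : ℤ) < p := by exact_mod_cast hp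
  have hpq' : (p : ℤ) < q := by exact_mod_cast hpq
  constructor
  · intro h e0 e1 e2 h1 h2
    have hd0 : (d0 : ℤ) < q - p := by
      have : (d0 : ℤ) < ((q - p : ℕ) : ℤ) := by exact_mod_cast h
      rwa [Nat.cast_sub hpq.le] at this
    have he0 : (0 : ℤ) ≤ e0 := by positivity
    -- e0 = d0 - (q - p) (e2 - d2)
    have key : (e0 : ℤ) = d0 - ((q : ℤ) - p) * ((e2 : ℤ) - d2) := by
      have : (e1 : ℤ) = e2 + (d1 - d2) := by linarith
      rw [this] at h1
      linarith
    have hle : (e2 : ℤ) ≤ d2 := by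
      by_contra hcon
      push_neg at hcon
      have : (1 : ℤ) ≤ (e2 : ℤ) - d2 := by linarith
      nlinarith
    have : (e1 : ℤ) = e2 + (d1 - d2) := by linarith
    rw [this]
    nlinarith
  · intro h
    by_contra hcon
    push_neg at hcon
    have := h (d0 - (q - p)) (d1 + 1) (d2 + 1) (by
      push_cast [Nat.cast_sub hcon, Nat.cast_sub hpq.le]
      ring) (by push_cast; ring)
    push_cast at this
    linarith

end Groth.Agent.S15737
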