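import Groth.Statements.S15739
import Mathlib
import Groth.Agent.Lib.Helper4.MonoRel

set_option autoImplicit false
universe u
open W4c2invhilbsl2

namespace Groth.Agent.S15739

namespace H15739
open W4c2invhilbsl2 Groth.Agent.Helper4.MonoRel MvPolynomial

/-- the number theory: same weight, both `X₀`-exponents `< g` -/
theorem nt (p q m : ℕ) (hp : 0 < p) (hpq : p < q) (hcop : Nat.Coprime p q) (hm : 0 < m)
    (d0 d1 d2 e0 e1 e2 : ℕ) (hn : (e0 : ℤ) - (p : ℤ) * e1 + (q : ℤ) * e2 = (d0 : ℤ) - (p : ℤ) * d1 + (q : ℤ) * d2)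
    (hcd : (m : ℤ) ∣ (d1 : ℤ) - d2) (hce : (m : ℤ) ∣ (e1 : ℤ) - e2)
    (hd0 : d0 < Nat.gcd m (q - p)) (he0 : e0 < Nat.gcd m (q - p)) :
    d0 = e0 ∧ ∃ j : ℤ, (e1 : ℤ) - d1 = ((m / Nat.gcd m (q - p) * q : ℕ) : ℤ) * j ∧
      (e2 : ℤ) - d2 = ((m / Nat.gcd m (q - p) * p : ℕ) : ℤ) * j := by
  set g := Nat.gcd m (q - p) with hg
  have hg0 : 0 < g := Nat.gcd_pos_of_pos_left _ hm
  have hgm : g ∣ m := Nat.gcd_dvd_left _ _
  have hgD : g ∣ q - p := Nat.gcd_dvd_right _ _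
  have hag : m / g * g = m := Nat.div_mul_cancel hgm
  have hbg : (q - p) / g * g = q - p := Nat.div_mul_cancel hgD
  have hcopab : Nat.Coprime (m / g) ((q - p) / g) := Nat.coprime_div_gcd_div_gcd hg0
  set a := m / g with ha
  set b := (q - p) / g with hb
  have hagz : (a : ℤ) * g = m := by exact_mod_cast hag
  have hbgz : (b : ℤ) * g = (q : ℤ) - p := by
    have : ((b * g : ℕ) : ℤ) = ((q - p : ℕ) : ℤ) := by rw [hbg]
    rw [Nat.cast_sub hpq.le] at this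
    exact_mod_cast this
  have hgz : (0 : ℤ) < g := by exact_mod_cast hg0
  -- g ∣ e0 - d0
  have hgmz : (g : ℤ) ∣ m := ⟨a, by rw [mul_comm]; exact hagz.symm⟩
  have hgDz : (g : ℤ) ∣ (q : ℤ) - p := ⟨b, by rw [mul_comm]; exact hbgz.symm⟩
  have hmδ : (m : ℤ) ∣ ((e1 : ℤ) - d1) - ((e2 : ℤ) - d2) := by
    have e : ((e1 : ℤ) - d1) - ((e2 : ℤ) - d2) = ((e1 : ℤ) - e2) - ((d1 : ℤ) - d2) := by ring
    rw [e]; exact dvd_sub hce hcd
  have h0 : (g : ℤ) ∣ (e0 : ℤ) - d0 := by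
    have e : (e0 : ℤ) - d0 = p * (((e1 : ℤ) - d1) - ((e2 : ℤ) - d2)) - ((q : ℤ) - p) * ((e2 : ℤ) - d2) := by
      linarith
    rw [e]
    exact dvd_sub (Dvd.dvd.mul_left (hgmz.trans hmδ) _) (Dvd.dvd.mul_right hgDz _)
  have hde : d0 = e0 := by
    obtain ⟨t, ht⟩ := h0
    have : t = 0 := by
      by_contra hne
      rcases lt_or_gt_of_ne hne with h | h
      · have : (g : ℤ) * t ≤ (g : ℤ) * (-1) := mul_le_mul_of_nonneg_left (by omega) hgz.le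
        have h1 : (e0 : ℤ) - d0 ≤ -g := by linarith
        have h2 : (d0 : ℤ) < g := by exact_mod_cast hd0
        have h3 : (0 : ℤ) ≤ e0 := Int.natCast_nonneg _
        linarith
      · have : (g : ℤ) * 1 ≤ (g : ℤ) * t := mul_le_mul_of_nonneg_left (by omega) hgz.le
        have h1 : (g : ℤ) ≤ (e0 : ℤ) - d0 := by linarith
        have h2 : (e0 : ℤ) < g := by exact_mod_cast he0
        have h3 : (0 : ℤ) ≤ d0 := Int.natCast_nonneg _
        linarith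
    rw [this, mul_zero] at ht
    have : (e0 : ℤ) = d0 := by linarith
    exact_mod_cast this.symm
  refine ⟨hde, ?_⟩
  have hpq' : (p : ℤ) * ((e1 : ℤ) - d1) = q * ((e2 : ℤ) - d2) := by
    have : (e0 : ℤ) = d0 := by exact_mod_cast hde.symm
    linarith
  have hcopz : IsCoprime (q : ℤ) (p : ℤ) := Nat.isCoprime_iff_coprime.2 hcop.symm
  have hq1 : (q : ℤ) ∣ (e1 : ℤ) - d1 := hcopz.dvd_of_dvd_mul_left ⟨(e2 : ℤ) - d2, hpq'⟩
  obtain ⟨e, he⟩ := hq1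
  have hqz : (q : ℤ) ≠ 0 := by
    have : 0 < q := lt_trans hp hpq
    exact_mod_cast this.ne'
  have he2 : (e2 : ℤ) - d2 = p * e := by
    rw [he] at hpq'
    have : (q : ℤ) * ((e2 : ℤ) - d2) = q * (p * e) := by rw [← hpq']; ring
    exact mul_left_cancel₀ hqz this
  -- a ∣ e
  have hmD : (m : ℤ) ∣ ((q : ℤ) - p) * e := by
    have : ((e1 : ℤ) - d1) - ((e2 : ℤ) - d2) = ((q : ℤ) - p) * e := by rw [he, he2]; ring
    rwa [this] at hmδ
  have habe : (a : ℤ) ∣ (b : ℤ) * e := by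
    rw [← hagz, ← hbgz] at hmD
    have : (g : ℤ) * a ∣ (g : ℤ) * (b * e) := by
      convert hmD using 1 <;> ring
    exact (mul_dvd_mul_iff_left hgz.ne').1 this
  have hcopabz : IsCoprime (a : ℤ) (b : ℤ) := Nat.isCoprime_iff_coprime.2 hcopab
  have hae : (a : ℤ) ∣ e := hcopabz.dvd_of_dvd_mul_left habe
  obtain ⟨j, hj⟩ := hae
  refine ⟨j, ?_, ?_⟩
  · rw [he, hj]; push_cast; ring
  · rw [he2, hj]; push_cast; ring

theorem main (k : Type*) [Field k] (p q m : ℕ) (hp : 0 < p) (hpq : p < q) (hcop : Nat.Coprime p q) (hm : 0 < m)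
    (d0 d1 d2 e0 e1 e2 : ℕ) (hn : (e0 : ℤ) - (p : ℤ) * e1 + (q : ℤ) * e2 = (d0 : ℤ) - (p : ℤ) * d1 + (q : ℤ) * d2)
    (hn0 : 0 ≤ (d0 : ℤ) - (p : ℤ) * d1 + (q : ℤ) * d2) (hnq : (d0 : ℤ) - (p : ℤ) * d1 + (q : ℤ) * d2 < (q : ℤ) - p)
    (hcd : (m : ℤ) ∣ (d1 : ℤ) - d2) (hce : (m : ℤ) ∣ (e1 : ℤ) - e2)
    (hd0 : d0 < Nat.gcd m (q - p)) (he0 : e0 < Nat.gcd m (q - p)) :
    (d0 = e0 ∧ ((m : ℤ) * ((q - p) / Nat.gcd m (q - p) : ℕ)) ∣ ((d1 : ℤ) - d2) - ((e1 : ℤ) - e2)) ∧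
    ((d1 : ℤ) - d2 < (e1 : ℤ) - e2 →
      (MvPolynomial.X (0 : Fin 3) ^ d0 * MvPolynomial.X (1 : Fin 3) ^ d1 * MvPolynomial.X (2 : Fin 3) ^ d2 * (MvPolynomial.X (1 : Fin 3) ^ (m / Nat.gcd m (q - p) * q) * MvPolynomial.X (2 : Fin 3) ^ (m / Nat.gcd m (q - p) * p)) : MvPolynomial (Fin 3) k) ∣ MvPolynomial.X (0 : Fin 3) ^ e0 * MvPolynomial.X (1 : Fin 3) ^ e1 * MvPolynomial.X (2 : Fin 3) ^ e2) ∧
    ((MvPolynomial.X (0 : Fin 3) ^ e0 * MvPolynomial.X (1 : Fin 3) ^ e1 * MvPolynomial.X (2 : Fin 3) ^ e2 - MvPolynomial.X (0 : Fin 3) ^ d0 * MvPolynomial.X (1 : Fin 3) ^ d1 * MvPolynomial.X (2 : Fin 3) ^ d2 : MvPolynomial (Fin 3) k) ∈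
      Ideal.span {(1 : MvPolynomial (Fin 3) k) - MvPolynomial.X (1 : Fin 3) ^ (m / Nat.gcd m (q - p) * q) * MvPolynomial.X (2 : Fin 3) ^ (m / Nat.gcd m (q - p) * p)}) := by
  obtain ⟨hde, j, hj1, hj2⟩ := nt p q m hp hpq hcop hm d0 d1 d2 e0 e1 e2 hn hcd hce hd0 he0
  set g := Nat.gcd m (q - p) with hg
  have hg0 : 0 < g := Nat.gcd_pos_of_pos_left _ hm
  have hgm : g ∣ m := Nat.gcd_dvd_left _ _
  have hgD : g ∣ q - p := Nat.gcd_dvd_right _ _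
  have hag : m / g * g = m := Nat.div_mul_cancel hgm
  have hbg : (q - p) / g * g = q - p := Nat.div_mul_cancel hgD
  set a := m / g with ha
  set b := (q - p) / g with hb
  have hagz : (a : ℤ) * g = m := by exact_mod_cast hag
  have hbgz : (b : ℤ) * g = (q : ℤ) - p := by
    have : ((b * g : ℕ) : ℤ) = ((q - p : ℕ) : ℤ) := by rw [hbg]
    rw [Nat.cast_sub hpq.le] at this
    exact_mod_cast this
  have hmz : (0 : ℤ) < m := by exact_mod_cast hm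
  have hbz : (0 : ℤ) < b := by
    have : 0 < b := by
      rcases Nat.eq_zero_or_pos b with h | h
      · rw [h, zero_mul] at hbg; omega
      · exact h
    exact_mod_cast this
  have hcc : ((e1 : ℤ) - e2) - ((d1 : ℤ) - d2) = (m : ℤ) * b * j := by
    have : ((e1 : ℤ) - e2) - ((d1 : ℤ) - d2) = ((e1 : ℤ) - d1) - ((e2 : ℤ) - d2) := by ring
    rw [this, hj1, hj2, ← hagz]
    push_cast
    linear_combination (a : ℤ) * j * hbgz.symm
  -- generic: if e = d + (aq, ap) * j' with j' natural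
  have hpow : ∀ (x0 x1 x2 y1 y2 : ℕ) (j' : ℕ), (y1 : ℤ) - x1 = ((a * q : ℕ) : ℤ) * j' →
      (y2 : ℤ) - x2 = ((a * p : ℕ) : ℤ) * j' →
      (X (0 : Fin 3) ^ x0 * X (1 : Fin 3) ^ y1 * X (2 : Fin 3) ^ y2 : MvPolynomial (Fin 3) k) =
        X (0 : Fin 3) ^ x0 * X (1 : Fin 3) ^ x1 * X (2 : Fin 3) ^ x2 *
          (X (1 : Fin 3) ^ (a * q) * X (2 : Fin 3) ^ (a * p)) ^ j' := by
    intro x0 x1 x2 y1 y2 j' h1 h2
    have e1' : y1 = x1 + a * q * j' := by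
      have : (y1 : ℤ) = ((x1 + a * q * j' : ℕ) : ℤ) := by push_cast; push_cast at h1; linarith
      exact_mod_cast this
    have e2' : y2 = x2 + a * p * j' := by
      have : (y2 : ℤ) = ((x2 + a * p * j' : ℕ) : ℤ) := by push_cast; push_cast at h2; linarith
      exact_mod_cast this
    rw [e1', e2', mul_pow, ← pow_mul, ← pow_mul, pow_add, pow_add]; ring
  have hspan : ∀ (y z : MvPolynomial (Fin 3) k) (n : ℕ), z * y ^ n - z ∈ Ideal.span {1 - y} := by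
    intro y z n
    rw [Ideal.mem_span_singleton]
    have h1 : y - 1 ∣ y ^ n - 1 ^ n := sub_dvd_pow_sub_pow y 1 n
    rw [one_pow] at h1
    have h2 : 1 - y ∣ y ^ n - 1 := by
      rw [show (1 : MvPolynomial (Fin 3) k) - y = -(y - 1) by ring]
      exact (neg_dvd).2 h1
    have : z * y ^ n - z = z * (y ^ n - 1) := by ring
    rw [this]
    exact Dvd.dvd.mul_left h2 z
  refine ⟨⟨hde, ?_⟩, ?_, ?_⟩
  · refine ⟨-j, ?_⟩
    linear_combination (-1 : ℤ) * hcc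
  · intro hlt
    have hj0 : 0 < j := by
      by_contra h
      rw [not_lt] at h
      have : (m : ℤ) * b * j ≤ 0 := mul_nonpos_of_nonneg_of_nonpos (by positivity) h
      linarith
    obtain ⟨j', rfl⟩ := Int.eq_ofNat_of_zero_le hj0.le
    have hj1' : 1 ≤ j' := by exact_mod_cast hj0
    obtain ⟨j'', rfl⟩ := Nat.exists_eq_add_of_le hj1'
    rw [← hde, hpow d0 d1 d2 e1 e2 (1 + j'') hj1 hj2, pow_add, pow_one]
    exact ⟨(X (1 : Fin 3) ^ (a * q) * X (2 : Fin 3) ^ (a * p)) ^ j'', by ring⟩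
  · rcases le_total 0 j with h0 | h0
    · obtain ⟨j', rfl⟩ := Int.eq_ofNat_of_zero_le h0
      rw [← hde, hpow d0 d1 d2 e1 e2 j' hj1 hj2]
      exact hspan _ _ _
    · obtain ⟨j', hj'⟩ := Int.eq_ofNat_of_zero_le (neg_nonneg.2 h0)
      rw [← hde, hpow d0 e1 e2 d1 d2 j' (by rw [← hj']; linarith) (by rw [← hj']; linarith)]
      have := neg_mem (hspan (X (1 : Fin 3) ^ (a * q) * X (2 : Fin 3) ^ (a * p))
        (X (0 : Fin 3) ^ d0 * X (1 : Fin 3) ^ e1 * X (2 : Fin 3) ^ e2 : MvPolynomial (Fin 3) k) j')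
      rwa [neg_sub] at this
end H15739

/-- Let k be a field and m ≥ 1, put g = gcd(m, q−p), a = m/g and b = (q−p)/g; for a monomial
X₀^d₀X₁^d₁X₂^d₂ of the polynomial ring in X₀, X₁, X₂ (X₂ standing for Xⱼ, j = 3 or 4, of the
five-variable ring) put n = d₀ − p·d₁ + q·d₂ (its weight for the torus diag(t, t^(−p), t^q)), c = d₁
− d₂ and ω = p·d₁ − q·d₂, so that d₀ = n + ω; here 0 < p < q are coprime integers. Take two
monomials X₀^d₀X₁^d₁X₂^d₂ and X₀^e₀X₁^e₁X₂^e₂ with the same n, where 0 ≤ n < q − p, whose values c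
and c' of c are both divisible by m, and with d₀ < g and e₀ < g (so each has the least ω for its
pair (n, c), as g ≤ q − p). Then: (i) d₀ = e₀, i.e. the two values of ω agree, and m·b divides c −
c'; (ii) if c < c', then X₀^e₀X₁^e₁X₂^e₂ is a multiple of X₀^d₀X₁^d₁X₂^d₂ · X₁^(aq)X₂^(ap); (iii)
the difference of the two monomials lies in the principal ideal (1 − X₁^(aq)X₂^(ap)). -/
theorem result (k : Type u) [Field k] (p q m : ℕ) (hp : 0 < p) (hpq : p < q) (hcop : Nat.Coprime p q) (hm : 0 < m)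
    (d0 d1 d2 e0 e1 e2 : ℕ) (hn : (e0 : ℤ) - (p : ℤ) * e1 + (q : ℤ) * e2 = (d0 : ℤ) - (p : ℤ) * d1 + (q : ℤ) * d2)
    (hn0 : 0 ≤ (d0 : ℤ) - (p : ℤ) * d1 + (q : ℤ) * d2) (hnq : (d0 : ℤ) - (p : ℤ) * d1 + (q : ℤ) * d2 < (q : ℤ) - p)
    (hcd : (m : ℤ) ∣ (d1 : ℤ) - d2) (hce : (m : ℤ) ∣ (e1 : ℤ) - e2)
    (hd0 : d0 < Nat.gcd m (q - p)) (he0 : e0 < Nat.gcd m (q - p)) :
    (d0 = e0 ∧ ((m : ℤ) * ((q - p) / Nat.gcd m (q - p) : ℕ)) ∣ ((d1 : ℤ) - d2) - ((e1 : ℤ) - e2)) ∧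
    ((d1 : ℤ) - d2 < (e1 : ℤ) - e2 →
      (MvPolynomial.X (0 : Fin 3) ^ d0 * MvPolynomial.X (1 : Fin 3) ^ d1 * MvPolynomial.X (2 : Fin 3) ^ d2 * (MvPolynomial.X (1 : Fin 3) ^ (m / Nat.gcd m (q - p) * q) * MvPolynomial.X (2 : Fin 3) ^ (m / Nat.gcd m (q - p) * p)) : MvPolynomial (Fin 3) k) ∣ MvPolynomial.X (0 : Fin 3) ^ e0 * MvPolynomial.X (1 : Fin 3) ^ e1 * MvPolynomial.X (2 : Fin 3) ^ e2) ∧
    ((MvPolynomial.X (0 : Fin 3) ^ e0 * MvPolynomial.X (1 : Fin 3) ^ e1 * MvPolynomial.X (2 : Fin 3) ^ e2 - MvPolynomial.X (0 : Fin 3) ^ d0 * MvPolynomial.X (1 : Fin 3) ^ d1 * MvPolynomial.X (2 : Fin 3) ^ d2 : MvPolynomial (Fin 3) k) ∈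
      Ideal.span {(1 : MvPolynomial (Fin 3) k) - MvPolynomial.X (1 : Fin 3) ^ (m / Nat.gcd m (q - p) * q) * MvPolynomial.X (2 : Fin 3) ^ (m / Nat.gcd m (q - p) * p)}) := by
  exact H15739.main k p q m hp hpq hcop hm d0 d1 d2 e0 e1 e2 hn hn0 hnq hcd hce hd0 he0

end Groth.Agent.S15739
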