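import Groth.Statements.S15740
import Mathlib.Tactic

set_option autoImplicit false
open W4c2invhilbsl2

namespace Groth.Agent.S15740

theorem result (p q : ℕ) (hp : 0 < p) (hpq : p < q) (hcop : Nat.Coprime p q) (d0 d1 d2 : ℕ)
    (hn : 0 ≤ (d0 : ℤ) - (p : ℤ) * d1 + (q : ℤ) * d2) (hc : (d2 : ℤ) < d1) (hd0 : d0 < q - p) :
    0 ≤ (p : ℤ) * d1 - (q : ℤ) * d2 ↔
      Int.emod ((p : ℤ) * ((d1 : ℤ) - d2)) ((q : ℤ) - p) + ((d0 : ℤ) - (p : ℤ) * d1 + (q : ℤ) * d2) < (q : ℤ) - p := by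
  have hpq' : (p : ℤ) < q := by exact_mod_cast hpq
  have hd0' : (d0 : ℤ) < q - p := by
    have : (d0 : ℤ) < ((q - p : ℕ) : ℤ) := by exact_mod_cast hd0
    rwa [Nat.cast_sub hpq.le] at this
  have hd0nn : (0 : ℤ) ≤ d0 := by positivity
  set m : ℤ := (q : ℤ) - p with hm
  have hmpos : 0 < m := by rw [hm]; linarith
  set x : ℤ := (p : ℤ) * ((d1 : ℤ) - d2) with hx
  have hdiv : x % m + m * (x / m) = x := Int.emod_add_mul_ediv x m
  have hr0 : 0 ≤ x % m := Int.emod_nonneg x hmpos.ne'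
  have hr1 : x % m < m := Int.emod_lt_of_pos x hmpos
  change _ ↔ x % m + _ < m
  set r := x % m with hr
  set k := x / m - d2 with hk
  have hω : (p : ℤ) * d1 - (q : ℤ) * d2 = r + m * k := by
    rw [hk, mul_sub, ← add_sub_assoc, hdiv, hx, hm]; ring
  have hnn : (d0 : ℤ) - (p : ℤ) * d1 + (q : ℤ) * d2 = d0 - (r + m * k) := by
    rw [← hω]; ring
  rw [hω, hnn]
  rw [hnn] at hn
  constructor
  · intro h
    have hk0 : k = 0 := by
      rcases lt_trichotomy k 0 with h1 | h1 | h1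
      · have : k ≤ -1 := by omega
        nlinarith
      · exact h1
      · have : 1 ≤ k := by omega
        nlinarith
    rw [hk0]; linarith
  · intro h
    have hk0 : k = 0 := by
      rcases lt_trichotomy k 0 with h1 | h1 | h1
      · have : k ≤ -1 := by omega
        nlinarith
      · exact h1
      · have : 1 ≤ k := by omega
        nlinarith
    rw [hk0]; linarith

end Groth.Agent.S15740
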