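import Groth.Statements.S15742
import Mathlib
import Groth.Agent.Lib.Lead.OmU13d
import Groth.Agent.Lib.Lead.KaeIso

set_option autoImplicit false
universe u
open CategoryTheory AlgebraicGeometry
open Mor

namespace Groth.Agent.S15742

/-- For a commutative ring `A` and a commutative `A`-algebra `B`, the canonical map from the module of
Kähler differentials `Ω[B⁄A]` to the global sections of the sheaf of relative differentials of `Spec
B ⟶ Spec A`, semilinear along the identification of `B` with the ring of global functions on `Spec
B` and sending `D b` to `d_{X/Y}` of the global function `b`, is bijective. -/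
theorem result (A B : Type u) [CommRing A] [CommRing B] [Algebra A B] :
    Function.Bijective (OmAff.toSpec A B) := by
  classical
  let f : Spec (CommRingCat.of B) ⟶ Spec (CommRingCat.of A) :=
    Spec.map (CommRingCat.ofHom (algebraMap A B))
  have h : (⊤ : (Spec (CommRingCat.of B)).Opens) ≤ f ⁻¹ᵁ (⊤ : (Spec (CommRingCat.of A)).Opens) :=
    le_rfl
  letI := (f.appLE ⊤ ⊤ h).hom.toAlgebra
  have hg : Function.Bijective (Groth.Agent.Lead.OmU.chartLin (OmegaSh.dOmega f) h) :=
    Groth.Agent.Lead.OmU.good_dOmega f (isAffineOpen_top _) (isAffineOpen_top _) h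
  have hbij : ∀ (R : Type u) [CommRing R], Function.Bijective (OmAff.toΓ R) := by
    intro R _
    have : IsIso (Scheme.ΓSpecIso (CommRingCat.of R)).inv := inferInstance
    exact (ConcreteCategory.isIso_iff_bijective _).1 this
  refine Groth.Agent.Lead.KaeIso.bijective_of_semilinear (OmAff.toΓ A) (OmAff.toΓ B)
    (hbij A).2 (hbij B) ?_ (Groth.Agent.Lead.OmU.chartLin (OmegaSh.dOmega f) h) hg
    (OmAff.toSpec A B) ?_
  · intro a
    have h1 := OmAff.appTop_toΓ A B a
    exact h1.symm
  · intro b
    rw [OmAff.toSpec_D]
    exact (Groth.Agent.Lead.OmU.chartLin_D (OmegaSh.dOmega f) h (OmAff.toΓ B b)).symm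

end Groth.Agent.S15742
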