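import Groth.Statements.S15749
import Mathlib

set_option autoImplicit false
universe u
open CAlg

namespace Groth.Agent.S15749

section
open HahnSeries

/-- idempotent power series with zero constant coefficient vanish -/
theorem ps_idem_zero {S : Type*} [CommRing S] (g : PowerSeries S) (hg : IsIdempotentElem g)
    (h0 : PowerSeries.constantCoeff g = 0) : g = 0 := by
  have hX : (PowerSeries.X : PowerSeries S) ∣ g := PowerSeries.X_dvd_iff.2 h0
  ext n
  have h1 : (PowerSeries.X : PowerSeries S) ^ (n + 1) ∣ g ^ (n + 1) := pow_dvd_pow_of_dvd hX _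
  rw [hg.pow_succ_eq] at h1
  rw [PowerSeries.X_pow_dvd_iff] at h1
  simpa using h1 n (Nat.lt_succ_self n)

theorem ps_idem_const {S : Type*} [CommRing S] (f : PowerSeries S) (hf : IsIdempotentElem f) :
    f = PowerSeries.C (PowerSeries.constantCoeff f) := by
  set c := PowerSeries.constantCoeff f with hc
  have hcid : IsIdempotentElem c := hf.map PowerSeries.constantCoeff
  have hCid : IsIdempotentElem (PowerSeries.C c : PowerSeries S) := hcid.map PowerSeries.C
  have h1 : f * (1 - PowerSeries.C c) = 0 := by
    apply ps_idem_zero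
    · exact hf.mul hCid.one_sub
    · rw [map_mul, map_sub, map_one, PowerSeries.constantCoeff_C, ← hc, mul_sub, mul_one, hcid.eq,
        sub_self]
  have h2 : (1 - f) * PowerSeries.C c = 0 := by
    apply ps_idem_zero
    · exact hf.one_sub.mul hCid
    · rw [map_mul, map_sub, map_one, PowerSeries.constantCoeff_C, ← hc, sub_mul, one_mul, hcid.eq,
        sub_self]
  linear_combination h1 - h2

/-- Laurent series idempotent without polar part is constant -/
theorem laurent_idem_const {S : Type*} [CommRing S] (x : LaurentSeries S) (hx : IsIdempotentElem x)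
    (hneg : ∀ n : ℤ, n < 0 → x.coeff n = 0) : x = HahnSeries.C (x.coeff 0) := by
  set f : PowerSeries S := PowerSeries.mk (fun n => x.coeff n) with hf
  have hxf : x = (f : LaurentSeries S) := by
    ext i
    rw [PowerSeries.coeff_coe]
    split_ifs with h
    · exact hneg i h
    · rw [hf, PowerSeries.coeff_mk]
      congr 1
      omega
  have hfid : IsIdempotentElem f := by
    apply HahnSeries.ofPowerSeries_injective (Γ := ℤ)
    change ((f * f : PowerSeries S) : LaurentSeries S) = f
    rw [PowerSeries.coe_mul, ← hxf]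
    exact hx
  have := ps_idem_const f hfid
  rw [hxf] at ⊢
  conv_lhs => rw [this]
  rw [PowerSeries.coe_C]
  congr 1
  rw [← PowerSeries.coeff_zero_eq_constantCoeff_apply, hf, PowerSeries.coeff_mk]
  rw [PowerSeries.coeff_coe]
  simp

/-- in a reduced ring, idempotent Laurent series have no polar part -/
theorem reduced_no_polar {S : Type*} [CommRing S] [IsReduced S] (x : LaurentSeries S)
    (hx : IsIdempotentElem x) : ∀ n : ℤ, n < 0 → x.coeff n = 0 := by
  intro n hn
  by_contra hne
  have hord : x.order ≤ n := HahnSeries.order_le_of_coeff_ne_zero hne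
  have hx0 : x ≠ 0 := by
    rintro rfl
    exact hne (by simp)
  have h1 := HahnSeries.coeff_mul_order_add_order x x
  rw [hx.eq] at h1
  have h2 : x.coeff (x.order + x.order) = 0 :=
    HahnSeries.coeff_eq_zero_of_lt_order (by omega)
  rw [h2] at h1
  have h3 : x.leadingCoeff = 0 := by
    have : x.leadingCoeff ^ 2 = 0 := by rw [sq]; exact h1.symm
    exact pow_eq_zero_iff (two_ne_zero) |>.1 this
  exact hx0 (HahnSeries.leadingCoeff_eq_zero.1 h3)


noncomputable def mapHom {R S : Type*} [CommRing R] [CommRing S] (f : R →+* S) :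
    LaurentSeries R →+* LaurentSeries S where
  toFun x := x.map f
  map_one' := HahnSeries.map_one f.toMonoidWithZeroHom
  map_mul' x y := HahnSeries.map_mul (f : R →ₙ+* S)
  map_zero' := HahnSeries.map_zero (f : ZeroHom R S)
  map_add' x y := HahnSeries.map_add (f : R →+ S)

theorem mapHom_coeff {R S : Type*} [CommRing R] [CommRing S] (f : R →+* S) (x : LaurentSeries R)
    (n : ℤ) : (mapHom f x).coeff n = f (x.coeff n) := by
  change (x.map f).coeff n = _
  simp

theorem coeff_mul_mem {R : Type*} [CommRing R] (J J' : Ideal R) (f g : LaurentSeries R)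
    (hf : ∀ n, f.coeff n ∈ J) (hg : ∀ n, g.coeff n ∈ J') : ∀ n, (f * g).coeff n ∈ J * J' := by
  intro n
  rw [HahnSeries.coeff_mul]
  exact Ideal.sum_mem _ (fun ij _ => Ideal.mul_mem_mul (hf _) (hg _))

theorem coeff_pow_mem {R : Type*} [CommRing R] (J : Ideal R) (f : LaurentSeries R)
    (hf : ∀ n, f.coeff n ∈ J) : ∀ m : ℕ, ∀ n, (f ^ m).coeff n ∈ J ^ m := by
  intro m
  induction m with
  | zero => intro n; simp
  | succ m ih =>
    rw [pow_succ, pow_succ]
    exact coeff_mul_mem _ _ _ _ ih hf

theorem main (R : Type u) [CommRing R]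
    (e : LaurentSeries R) (he : IsIdempotentElem e) :
    ∃! r : R, IsIdempotentElem r ∧ HahnSeries.C r = e := by
  -- Step 1: negative coefficients are nilpotent
  have hnil : ∀ n : ℤ, n < 0 → e.coeff n ∈ nilradical R := by
    intro n hn
    have hrad : (nilradical R).IsRadical := Ideal.radical_isRadical _
    have hred : IsReduced (R ⧸ nilradical R) :=
      (Ideal.isRadical_iff_quotient_reduced _).1 hrad
    have h1 := reduced_no_polar (mapHom (Ideal.Quotient.mk (nilradical R)) e) (he.map _) n hn
    rw [mapHom_coeff] at h1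
    exact Ideal.Quotient.eq_zero_iff_mem.1 h1
  -- Step 2: the ideal generated by the polar coefficients
  set I : Ideal R := Ideal.span ((fun n : ℤ => e.coeff n) '' (Set.Ico e.order 0)) with hI
  have hIfg : I.FG := by
    have hfin : ((fun n : ℤ => e.coeff n) '' (Set.Ico e.order 0)).Finite :=
      (Set.finite_Ico e.order 0).image _
    refine ⟨hfin.toFinset, ?_⟩
    rw [Set.Finite.coe_toFinset]
  have hIle : I ≤ nilradical R := by
    rw [hI, Ideal.span_le]
    rintro _ ⟨n, hn, rfl⟩
    exact hnil n hn.2
  have hInil : IsNilpotent I := (Ideal.FG.isNilpotent_iff_le_nilradical hIfg).2 hIle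
  obtain ⟨m, hm⟩ := hInil
  have hmemI : ∀ n : ℤ, n < 0 → e.coeff n ∈ I := by
    intro n hn
    by_cases h : e.order ≤ n
    · exact Ideal.subset_span ⟨n, ⟨h, hn⟩, rfl⟩
    · rw [HahnSeries.coeff_eq_zero_of_lt_order (by omega)]
      exact I.zero_mem
  -- Step 3: reduce mod I
  set π := mapHom (Ideal.Quotient.mk I) with hπ
  have hxid : IsIdempotentElem (π e) := he.map π
  have hxneg : ∀ n : ℤ, n < 0 → (π e).coeff n = 0 := by
    intro n hn
    rw [hπ, mapHom_coeff]
    exact Ideal.Quotient.eq_zero_iff_mem.2 (hmemI n hn)
  have hxconst := laurent_idem_const (π e) hxid hxneg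
  have hcid : IsIdempotentElem ((π e).coeff 0) := by
    have : (HahnSeries.C ((π e).coeff 0) : LaurentSeries (R ⧸ I)) *
        HahnSeries.C ((π e).coeff 0) = HahnSeries.C ((π e).coeff 0) := by
      rw [← hxconst]; exact hxid
    rw [← map_mul] at this
    exact HahnSeries.C_injective this
  -- Step 4: lift the idempotent
  obtain ⟨r, hr, hrc⟩ := exists_isIdempotentElem_eq_of_ker_isNilpotent (Ideal.Quotient.mk I)
    (by
      intro x hx
      rw [Ideal.mk_ker] at hx
      exact hIle hx)
    ((π e).coeff 0) (by rw [hπ, mapHom_coeff]; exact ⟨_, rfl⟩) hcid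
  -- Step 5: C r = e
  have hCr : IsIdempotentElem (HahnSeries.C r : LaurentSeries R) := hr.map HahnSeries.C
  set d : LaurentSeries R := HahnSeries.C r - e with hd
  have hdI : ∀ n, d.coeff n ∈ I := by
    intro n
    have : (π d).coeff n = 0 := by
      rw [hd, map_sub, hxconst, ← hrc]
      have : π (HahnSeries.C r) = HahnSeries.C (Ideal.Quotient.mk I r) := by
        change (HahnSeries.C r).map (Ideal.Quotient.mk I) = _
        exact HahnSeries.map_C r (Ideal.Quotient.mk I)
      rw [this, sub_self]
      rfl
    rw [hπ, mapHom_coeff] at this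
    exact Ideal.Quotient.eq_zero_iff_mem.1 this
  have hdm : d ^ m = 0 := by
    ext n
    have := coeff_pow_mem I d hdI m n
    rw [hm] at this
    simpa using this
  have hd3 : d ^ 3 = d := by
    have h1 := hCr.eq
    have h2 := he.eq
    rw [hd]
    linear_combination (HahnSeries.C r - 3 * e + 1) * h1 + (3 * HahnSeries.C r - e - 1) * h2
  have hd0 : d = 0 := by
    have hnil2 : IsNilpotent (d ^ 2) := ⟨m, by rw [← pow_mul, mul_comm, pow_mul, hdm, zero_pow two_ne_zero]⟩
    have hu : IsUnit (1 - d ^ 2) := hnil2.isUnit_one_sub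
    have : d * (1 - d ^ 2) = 0 := by linear_combination - hd3
    exact (hu.mul_left_eq_zero).1 this
  refine ⟨r, ⟨hr, ?_⟩, ?_⟩
  · exact sub_eq_zero.1 hd0
  · rintro r' ⟨_, hr'⟩
    apply HahnSeries.C_injective (Γ := ℤ)
    rw [hr', ← sub_eq_zero.1 hd0]


end


/-- For an arbitrary commutative ring R, every idempotent of the ring of formal Laurent series R((t)) is
the constant series attached to a unique idempotent of R. Equivalently, the structure map R → R((t))
induces a bijection on idempotents, so that the spectrum of R((t)) is connected if and only if the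
spectrum of R is. No reducedness is assumed. -/
theorem result (R : Type u) [CommRing R]
    (e : LaurentSeries R) (he : IsIdempotentElem e) :
    ∃! r : R, IsIdempotentElem r ∧ HahnSeries.C r = e := by
  classical
  exact main R e he

end Groth.Agent.S15749
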