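import Groth.Statements.S15750
import Mathlib
import Groth.Agent.Lib.Lead.Laurent1

set_option autoImplicit false
universe u
open CAlg

namespace Groth.Agent.S15750

section
open HahnSeries Groth.Agent.Lead.Laurent1

/-- Claim 1 over a domain -/
theorem domain_claim {S : Type*} [CommRing S] [IsDomain S] (f g : LaurentSeries S) (hfg : f * g = 1)
    (i j : ℤ) (hij : i + j < 0) : f.coeff i * g.coeff j = 0 := by
  have hf : f ≠ 0 := by
    rintro rfl
    rw [zero_mul] at hfg
    exact zero_ne_one hfg
  have hg : g ≠ 0 := by
    rintro rfl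
    rw [mul_zero] at hfg
    exact zero_ne_one hfg
  have hord : f.order + g.order = 0 := by
    rw [← HahnSeries.order_mul hf hg, hfg, HahnSeries.order_one]
  by_cases h : i < f.order
  · rw [HahnSeries.coeff_eq_zero_of_lt_order h, zero_mul]
  · have : j < g.order := by omega
    rw [HahnSeries.coeff_eq_zero_of_lt_order this, mul_zero]

theorem claim1 {R : Type*} [CommRing R] [IsReduced R] (f g : LaurentSeries R) (hfg : f * g = 1)
    (i j : ℤ) (hij : i + j < 0) : f.coeff i * g.coeff j = 0 := by
  have hmem : f.coeff i * g.coeff j ∈ nilradical R := by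
    rw [nilradical_eq_sInf, Ideal.mem_sInf]
    intro p hp
    have hp' : p.IsPrime := hp
    have h1 := domain_claim (mapHom (Ideal.Quotient.mk p) f) (mapHom (Ideal.Quotient.mk p) g)
      (by rw [← map_mul, hfg, map_one]) i j hij
    rw [mapHom_coeff, mapHom_coeff, ← map_mul] at h1
    exact Ideal.Quotient.eq_zero_iff_mem.1 h1
  rw [nilradical_eq_zero] at hmem
  exact hmem


/-- coefficients of `t^n * u` -/
theorem coeff_form {R : Type*} [CommRing R] (n : ℤ) (u : PowerSeries R) (i : ℤ) :
    (HahnSeries.single n (1 : R) * HahnSeries.ofPowerSeries ℤ R u).coeff i =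
      if i < n then 0 else PowerSeries.coeff (i - n).natAbs u := by
  rw [HahnSeries.coeff_single_mul, one_mul]
  have := PowerSeries.coeff_coe (f := u) (i - n)
  change (HahnSeries.ofPowerSeries ℤ R u).coeff (i - n) = _ at this
  rw [this]
  by_cases h : i < n
  · have h' : i - n < 0 := by omega
    rw [if_pos h, if_pos h']
  · have h' : ¬ (i - n < 0) := by omega
    rw [if_neg h, if_neg h']

theorem existence {R : Type*} [CommRing R] [IsReduced R] [Nontrivial R]
    (hconn : ∀ e : R, IsIdempotentElem e → e = 0 ∨ e = 1)
    (f g : LaurentSeries R) (hfg : f * g = 1) :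
    ∃ (n : ℤ) (u : PowerSeries R), IsUnit u ∧
      f = HahnSeries.single n (1 : R) * HahnSeries.ofPowerSeries ℤ R u := by
  classical
  have hc1 := claim1 f g hfg
  -- the family E
  set AD := Finset.antidiagonal f.isPWO_support g.isPWO_support (0 : ℤ) with hAD
  have hsum : ∑ ij ∈ AD, f.coeff ij.1 * g.coeff ij.2 = 1 := by
    have := congrArg (fun x => x.coeff 0) hfg
    simp only [HahnSeries.coeff_mul] at this
    rw [this]
    simp
  have horth : ∀ ij ∈ AD, ∀ kl ∈ AD, ij ≠ kl →
      (f.coeff ij.1 * g.coeff ij.2) * (f.coeff kl.1 * g.coeff kl.2) = 0 := by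
    intro ij hij kl hkl hne
    rw [hAD, Finset.mem_antidiagonal] at hij hkl
    have h1 := hij.2.2
    have h2 := hkl.2.2
    have hne1 : ij.1 ≠ kl.1 := by
      intro h
      apply hne
      apply Prod.ext h
      omega
    rcases lt_or_gt_of_ne hne1 with h | h
    · have : f.coeff ij.1 * g.coeff kl.2 = 0 := hc1 _ _ (by omega)
      linear_combination (f.coeff kl.1 * g.coeff ij.2) * this
    · have : f.coeff kl.1 * g.coeff ij.2 = 0 := hc1 _ _ (by omega)
      linear_combination (f.coeff ij.1 * g.coeff kl.2) * this
  have hidem : ∀ ij ∈ AD, IsIdempotentElem (f.coeff ij.1 * g.coeff ij.2) := by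
    intro ij hij
    have : (f.coeff ij.1 * g.coeff ij.2) * ∑ kl ∈ AD, f.coeff kl.1 * g.coeff kl.2 =
        (f.coeff ij.1 * g.coeff ij.2) * (f.coeff ij.1 * g.coeff ij.2) := by
      rw [Finset.mul_sum]
      apply Finset.sum_eq_single_of_mem ij hij
      intro kl hkl hne
      exact horth ij hij kl hkl (Ne.symm hne)
    rw [hsum, mul_one] at this
    exact this.symm
  -- some E is 1
  obtain ⟨ij, hij, hone⟩ : ∃ ij ∈ AD, f.coeff ij.1 * g.coeff ij.2 = 1 := by
    by_contra hcon
    push Not at hcon
    have : ∑ ij ∈ AD, f.coeff ij.1 * g.coeff ij.2 = 0 := by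
      apply Finset.sum_eq_zero
      intro ij hij
      rcases hconn _ (hidem ij hij) with h | h
      · exact h
      · exact absurd h (hcon ij hij)
    rw [hsum] at this
    exact one_ne_zero this
  have hsum0 : ij.1 + ij.2 = 0 := by
    rw [hAD, Finset.mem_antidiagonal] at hij
    exact hij.2.2
  set n := ij.1 with hn
  have hlow : ∀ i < n, f.coeff i = 0 := by
    intro i hi
    have h1 : f.coeff i * g.coeff ij.2 = 0 := hc1 _ _ (by omega)
    calc f.coeff i = f.coeff i * (f.coeff n * g.coeff ij.2) := by rw [hone, mul_one]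
      _ = f.coeff n * (f.coeff i * g.coeff ij.2) := by ring
      _ = 0 := by rw [h1, mul_zero]
  refine ⟨n, PowerSeries.mk (fun k => f.coeff (n + k)), ?_, ?_⟩
  · rw [PowerSeries.isUnit_iff_constantCoeff]
    rw [← PowerSeries.coeff_zero_eq_constantCoeff_apply, PowerSeries.coeff_mk]
    simp only [Nat.cast_zero, add_zero]
    exact IsUnit.of_mul_eq_one _ hone
  · ext i
    rw [coeff_form]
    split_ifs with h
    · exact hlow i h
    · rw [PowerSeries.coeff_mk]
      congr 1
      omega

theorem main (R : Type u) [CommRing R]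
    [IsReduced R] [Nontrivial R] (hconn : ∀ e : R, IsIdempotentElem e → e = 0 ∨ e = 1)
    (f : (LaurentSeries R)ˣ) :
    ∃! p : ℤ × (PowerSeries R)ˣ,
      (f : LaurentSeries R) = HahnSeries.single p.1 (1 : R) * HahnSeries.ofPowerSeries ℤ R (p.2 : PowerSeries R) := by
  obtain ⟨n, u, hu, hf⟩ := existence hconn (f : LaurentSeries R) ((f⁻¹ : (LaurentSeries R)ˣ) : LaurentSeries R)
    (by simp)
  refine ⟨(n, hu.unit), hf, ?_⟩
  rintro ⟨n', u'⟩ hf'
  simp only at hf'
  -- compare coefficients
  have key : ∀ (m : ℤ) (v : (PowerSeries R)ˣ),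
      (f : LaurentSeries R) = HahnSeries.single m (1 : R) * HahnSeries.ofPowerSeries ℤ R (v : PowerSeries R) →
      (∀ i < m, (f : LaurentSeries R).coeff i = 0) ∧ (f : LaurentSeries R).coeff m ≠ 0 := by
    intro m v hv
    constructor
    · intro i hi
      rw [hv, coeff_form, if_pos hi]
    · rw [hv, coeff_form, if_neg (lt_irrefl m)]
      simp only [sub_self, Int.natAbs_zero]
      rw [PowerSeries.coeff_zero_eq_constantCoeff_apply]
      have : IsUnit (PowerSeries.constantCoeff (v : PowerSeries R)) :=
        PowerSeries.isUnit_iff_constantCoeff.1 v.isUnit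
      exact this.ne_zero
  obtain ⟨h1, h2⟩ := key n hu.unit hf
  obtain ⟨h1', h2'⟩ := key n' u' hf'
  have hnn : n' = n := by
    rcases lt_trichotomy n' n with h | h | h
    · exact absurd (h1 n' h) h2'
    · exact h
    · exact absurd (h1' n h) h2
  subst hnn
  have hunit : IsUnit (HahnSeries.single n' (1 : R) : LaurentSeries R) := by
    refine IsUnit.of_mul_eq_one (HahnSeries.single (-n') (1 : R)) ?_
    rw [HahnSeries.single_mul_single]
    simp
  have heq : HahnSeries.ofPowerSeries ℤ R (u' : PowerSeries R) = HahnSeries.ofPowerSeries ℤ R u := by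
    apply hunit.mul_left_cancel
    rw [← hf', ← hf]
  have := HahnSeries.ofPowerSeries_injective heq
  refine Prod.ext rfl ?_
  exact Units.ext this


end


/-- Let R be a nonzero reduced commutative ring with no idempotents other than 0 and 1. Then every unit
of the Laurent series ring R((t)) is t^n · u for a unique integer n and a unique unit u of the power
series ring R[[t]]. (The published statement is for an arbitrary torus T over a reduced ring R, with
n replaced by a locally constant integer-valued function on Spec R, i.e. a point of the cocharacter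
lattice; this row is the case where T is the multiplicative group and Spec R is connected, to which
the published proof reduces.) -/
theorem result (R : Type u) [CommRing R]
    [IsReduced R] [Nontrivial R] (hconn : ∀ e : R, IsIdempotentElem e → e = 0 ∨ e = 1)
    (f : (LaurentSeries R)ˣ) :
    ∃! p : ℤ × (PowerSeries R)ˣ,
      (f : LaurentSeries R) = HahnSeries.single p.1 (1 : R) * HahnSeries.ofPowerSeries ℤ R (p.2 : PowerSeries R) := by
  classical
  exact main R hconn f

end Groth.Agent.S15750
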