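import Groth.Statements.S15752
import Mathlib
import Groth.Prelude.Def_Hens2
import Groth.Agent.Lib.Helper9.HW.Exists
-- import your own Groth.Agent.* helpers here

set_option autoImplicit false
universe u
open Polynomial
open CAlg

namespace Groth.Agent.S15752

open Polynomial
namespace Aux
open H9HW IsLocalRing

variable {R : Type u} [CommRing R] [HenselianLocalRing R] {B : Type u} [CommRing B] [Algebra R B]
  [Algebra R[X] B] [IsScalarTower R R[X] B]

theorem span_eq_of_factor {f : B} {P : R[X]} {u : Bˣ} (h : f = algebraMap R[X] B P * (u : B)) :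
    Ideal.span {f} = Ideal.span {algebraMap R[X] B P} := by
  rw [h]
  exact Ideal.span_singleton_mul_right_unit u.isUnit _

theorem natDegree_le_of_monic_dvd {S : Type*} [CommRing S] [Nontrivial S] {p q : S[X]}
    (hp : p.Monic) (hq : q.Monic) (h : p ∣ q) : p.natDegree ≤ q.natDegree := by
  obtain ⟨r, rfl⟩ := h
  have hr : r ≠ 0 := by
    rintro rfl
    rw [mul_zero] at hq
    exact hq.ne_zero rfl
  rw [hp.natDegree_mul' hr]
  omega

theorem main (hB : Hens2.IsPairHenselization R[X] (Ideal.span {(X : R[X])}) B)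
    (f : B) (hf : f ∉ (IsLocalRing.maximalIdeal R).map (algebraMap R B)) :
    (∃! Pu : R[X] × Bˣ, Pu.1.Monic ∧ (∀ i : ℕ, i < Pu.1.natDegree → Pu.1.coeff i ∈ IsLocalRing.maximalIdeal R) ∧
        f = algebraMap R[X] B Pu.1 * (Pu.2 : B)) ∧
    (∀ (P : R[X]) (u : Bˣ), P.Monic → (∀ i : ℕ, i < P.natDegree → P.coeff i ∈ IsLocalRing.maximalIdeal R) →
        f = algebraMap R[X] B P * (u : B) →
      (∀ b : B, ∃ q : R[X], algebraMap R[X] B q - b ∈ Ideal.span {f}) ∧
      (∀ q : R[X], algebraMap R[X] B q ∈ Ideal.span {f} → q ∈ Ideal.span {P})) := by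
  have hflat : Module.Flat R[X] B := Groth.Agent.Helper7.Hens.flat_of_isPairHenselization hB
  constructor
  · obtain ⟨P, u, hW, hfeq⟩ := exists_factor hB f hf
    refine ⟨(P, u), ⟨hW.1, hW.2, hfeq⟩, ?_⟩
    rintro ⟨P', u'⟩ ⟨hm', hc', hfeq'⟩
    have hW' : IsW P' := ⟨hm', hc'⟩
    have hdvd : ∀ (P₁ P₂ : R[X]) (u₁ u₂ : Bˣ), IsW P₂ → f = algebraMap R[X] B P₁ * (u₁ : B) →
        f = algebraMap R[X] B P₂ * (u₂ : B) → P₂ ∣ P₁ := by
      intro P₁ P₂ u₁ u₂ hW₂ h₁ h₂
      have h3 : algebraMap R[X] B P₁ ∈ Ideal.span {algebraMap R[X] B P₂} := by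
        rw [← span_eq_of_factor h₂, span_eq_of_factor h₁]
        exact Ideal.subset_span rfl
      exact Ideal.mem_span_singleton.mp ((lemmaW hB hW₂).2 P₁ h3)
    have hPP : P' = P := Polynomial.eq_of_monic_of_dvd_of_natDegree_le hW.1 hm'
      (hdvd P' P u' u hW hfeq' hfeq)
      (natDegree_le_of_monic_dvd hm' hW.1 (hdvd P P' u u' hW' hfeq hfeq'))
    subst hPP
    have hreg : IsSMulRegular B (algebraMap R[X] B P') :=
      IsSMulRegular.of_flat (hm'.isRegular.left.isSMulRegular)
    have huu : (u' : B) = u := by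
      apply hreg
      show algebraMap R[X] B P' • (u' : B) = algebraMap R[X] B P' • (u : B)
      rw [smul_eq_mul, smul_eq_mul, ← hfeq, ← hfeq']
    rw [Prod.mk.injEq]
    exact ⟨rfl, Units.ext huu⟩
  · intro P u hm hc hfeq
    have hW : IsW P := ⟨hm, hc⟩
    rw [span_eq_of_factor hfeq]
    exact lemmaW hB hW

end Aux

/-- Let R be a Henselian local ring with maximal ideal m and let B be a henselization of R[t] along (t).
Every f ∈ B outside mB factors as f = P · u for a unique pair (P, u) with P ∈ R[t] monic whose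
non-leading coefficients lie in m and u a unit of B; moreover the natural map R[t]/(P) → B/(f) is
bijective, stated as: every element of B is congruent to (the image of) a polynomial modulo f, and a
polynomial whose image lies in fB lies in P·R[t]. -/
theorem result (R : Type u) [CommRing R]
    [HenselianLocalRing R] (B : Type u) [CommRing B] [Algebra R B] [Algebra R[X] B]
    [IsScalarTower R R[X] B] (hB : Hens2.IsPairHenselization R[X] (Ideal.span {(X : R[X])}) B)
    (f : B) (hf : f ∉ (IsLocalRing.maximalIdeal R).map (algebraMap R B)) :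
    (∃! Pu : R[X] × Bˣ, Pu.1.Monic ∧ (∀ i : ℕ, i < Pu.1.natDegree → Pu.1.coeff i ∈ IsLocalRing.maximalIdeal R) ∧
        f = algebraMap R[X] B Pu.1 * (Pu.2 : B)) ∧
    (∀ (P : R[X]) (u : Bˣ), P.Monic → (∀ i : ℕ, i < P.natDegree → P.coeff i ∈ IsLocalRing.maximalIdeal R) →
        f = algebraMap R[X] B P * (u : B) →
      (∀ b : B, ∃ q : R[X], algebraMap R[X] B q - b ∈ Ideal.span {f}) ∧
      (∀ q : R[X], algebraMap R[X] B q ∈ Ideal.span {f} → q ∈ Ideal.span {P})) := by
  exact Aux.main hB f hf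

end Groth.Agent.S15752
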