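import Groth.Statements.S15753
import Mathlib
import Groth.Agent.Lib.Helper9.Hor.LDescent
import Groth.Agent.Lib.Helper9.HI.Laurent
import Groth.Agent.Lib.Helper9.HP.Pic
import Groth.Agent.Lib.Helper7.Hens.Unique
-- import your own Groth.Agent.* helpers here

set_option autoImplicit false
universe u
open Polynomial TensorProduct
open CAlg

namespace Groth.Agent.S15753

open Polynomial TensorProduct
namespace Aux
open H9Hor.Approx H9HI H9HP H9HW

theorem main' (R : Type u) [CommRing R]
    [HenselianLocalRing R] [Algebra R[X] (LaurentSeries R)]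
    (halg : algebraMap R[X] (LaurentSeries R) =
      Polynomial.eval₂RingHom (HahnSeries.C) (HahnSeries.single (-1 : ℤ) (1 : R)))
    (B : Type u) [CommRing B] [Algebra R[X] B]
    (hB : Hens2.IsPairHenselization R[X] (Ideal.span {(X : R[X])}) B)
    (L : Type u) [CommRing L] [Algebra B L] [IsLocalization.Away (algebraMap R[X] B X) L] :
    (∀ (M : Type u) [AddCommGroup M] [Module R[X] M] [Module.Invertible R[X] M],
        Module.Free (LaurentSeries R) (LaurentSeries R ⊗[R[X]] M) → Module.Free R[X] M) ∧
    (∀ (N : Type u) [AddCommGroup N] [Module (LaurentSeries R) N] [Module.Invertible (LaurentSeries R) N],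
        ∃ (M : Type u) (_ : AddCommGroup M) (_ : Module R[X] M), Module.Invertible R[X] M ∧
          Nonempty (N ≃ₗ[LaurentSeries R] LaurentSeries R ⊗[R[X]] M)) := by
  letI : Algebra R B := ((algebraMap R[X] B).comp (C : R →+* R[X])).toAlgebra
  haveI : IsScalarTower R R[X] B := IsScalarTower.of_algebraMap_eq fun r => rfl
  letI : Algebra R L := ((algebraMap B L).comp (algebraMap R B)).toAlgebra
  haveI : IsScalarTower R B L := IsScalarTower.of_algebraMap_eq fun r => rfl
  -- the map to power series
  have hle : (Ideal.span {(X : R[X])}).map (algebraMap R[X] (PowerSeries R)) ≤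
      Ideal.span {(PowerSeries.X : PowerSeries R)} := by
    rw [Ideal.map_span, Set.image_singleton]
    apply Ideal.span_mono
    rw [Set.singleton_subset_iff]
    show algebraMap R[X] (PowerSeries R) X ∈ ({PowerSeries.X} : Set (PowerSeries R))
    rw [Set.mem_singleton_iff]
    exact Polynomial.coe_X
  obtain ⟨ψB0, hψB0, -⟩ := hB.2 (PowerSeries R) (Ideal.span {(PowerSeries.X : PowerSeries R)})
    (algebraMap R[X] (PowerSeries R)) inferInstance hle
  let ψB : B →ₐ[R[X]] PowerSeries R :=
    { ψB0 with commutes' := fun p => RingHom.congr_fun hψB0 p }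
  have hψBt : ψB (algebraMap R[X] B X) = PowerSeries.X := by
    rw [ψB.commutes]; exact Polynomial.coe_X
  have hunit : IsUnit (((HahnSeries.ofPowerSeries ℤ R).comp (ψB : B →+* PowerSeries R))
      (algebraMap R[X] B X)) := by
    rw [RingHom.comp_apply]
    show IsUnit (HahnSeries.ofPowerSeries ℤ R (ψB (algebraMap R[X] B X)))
    rw [hψBt]
    have := H9Hor.LSeries.isUnit_ofPS_X_pow (R := R) 1
    rwa [pow_one] at this
  let ι : L →+* LaurentSeries R := IsLocalization.Away.lift (algebraMap R[X] B X) hunit
  have hι : ∀ b : B, ι (algebraMap B L b) = HahnSeries.ofPowerSeries ℤ R (ψB b) :=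
    fun b => IsLocalization.Away.lift_eq _ hunit b
  letI : Algebra L (LaurentSeries R) := ι.toAlgebra
  -- ψ
  let τinv : L := IsLocalization.Away.invSelf (algebraMap R[X] B X)
  let ψ : R[X] →ₐ[R] L := Polynomial.aeval τinv
  have hψ : ψ X * algebraMap B L (algebraMap R[X] B X) = 1 := by
    show Polynomial.aeval τinv X * _ = 1
    rw [Polynomial.aeval_X, mul_comm]
    exact IsLocalization.Away.mul_invSelf _
  letI : Algebra R[X] L := ψ.toRingHom.toAlgebra
  have hψa : algebraMap R[X] L = ψ.toRingHom := rfl
  have htow : ∀ p : R[X], algebraMap R[X] (LaurentSeries R) p = ι (ψ p) := by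
    have : algebraMap R[X] (LaurentSeries R) = ι.comp ψ.toRingHom := by
      rw [halg]
      apply Polynomial.ringHom_ext
      · intro r
        rw [Polynomial.coe_eval₂RingHom, Polynomial.eval₂_C, RingHom.comp_apply]
        show _ = ι (Polynomial.aeval τinv (C r))
        rw [Polynomial.aeval_C]
        show _ = ι (algebraMap B L (algebraMap R[X] B (C r)))
        rw [hι, ψB.commutes]
        show _ = HahnSeries.ofPowerSeries ℤ R ((C r : R[X]) : PowerSeries R)
        rw [Polynomial.coe_C, HahnSeries.ofPowerSeries_C]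
      · rw [Polynomial.coe_eval₂RingHom, Polynomial.eval₂_X, RingHom.comp_apply]
        show _ = ι (Polynomial.aeval τinv X)
        rw [Polynomial.aeval_X]
        have h1 : ι τinv * ι (algebraMap B L (algebraMap R[X] B X)) = 1 := by
          rw [← map_mul, mul_comm, IsLocalization.Away.mul_invSelf, map_one]
        have h2 : HahnSeries.single (-1 : ℤ) (1 : R) * ι (algebraMap B L (algebraMap R[X] B X)) = 1 := by
          rw [hι, hψBt, HahnSeries.ofPowerSeries_X, HahnSeries.single_mul_single]
          simp
        calc HahnSeries.single (-1 : ℤ) (1 : R)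
            = HahnSeries.single (-1 : ℤ) (1 : R) * (ι (algebraMap B L (algebraMap R[X] B X)) * ι τinv) := by
              rw [mul_comm (ι _), h1, mul_one]
          _ = ι τinv := by rw [← mul_assoc, h2, one_mul]
    intro p
    rw [this]; rfl
  haveI : IsScalarTower R[X] L (LaurentSeries R) := IsScalarTower.of_algebraMap_eq htow
  have hι' : ∀ b : B, (((RingEquiv.refl (LaurentSeries R) : LaurentSeries R ≃+* LaurentSeries R) :
      LaurentSeries R →+* LaurentSeries R).comp (algebraMap L (LaurentSeries R)))
        (algebraMap B L b) = HahnSeries.ofPowerSeries ℤ R (ψB b) := fun b => hι b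
  have h : Hyp (PowerSeries.X : PowerSeries R)
      (((RingEquiv.refl (LaurentSeries R) : LaurentSeries R ≃+* LaurentSeries R) :
        LaurentSeries R →+* LaurentSeries R).comp (algebraMap L (LaurentSeries R))) :=
    hyp_hens hB ψB _ hι'
  have hh : HensHyp (PowerSeries.X : PowerSeries R)
      (((RingEquiv.refl (LaurentSeries R) : LaurentSeries R ≃+* LaurentSeries R) :
        LaurentSeries R →+* LaurentSeries R).comp (algebraMap L (LaurentSeries R)))
      (algebraMap B L) (algebraMap R[X] B X) :=
    hensHyp_hens hB ψB _ hι'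
  refine ⟨?_, ?_⟩
  · intro M _ _ _ hfreeK
    obtain ⟨εK⟩ := Module.Invertible.free_iff_linearEquiv.mp hfreeK
    let φ : LaurentSeries R ⊗[L] (L ⊗[R[X]] M) ≃ₗ[LaurentSeries R] LaurentSeries R ⊗[L] L :=
      (TensorProduct.AlgebraTensorModule.cancelBaseChange R[X] L (LaurentSeries R)
        (LaurentSeries R) M) ≪≫ₗ εK ≪≫ₗ
        (TensorProduct.AlgebraTensorModule.rid L (LaurentSeries R) (LaurentSeries R)).symm
    obtain ⟨e1⟩ := H9Hor.Approx.nonempty_equiv_of_baseChange
      (RingEquiv.refl (LaurentSeries R)) h (L ⊗[R[X]] M) L φ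
    have hfreeL : Module.Free L (L ⊗[R[X]] M) := Module.Free.of_equiv e1.symm
    exact free_of_free_baseChange hB ψ hψ hψa M hfreeL
  · intro N _ _ _
    obtain ⟨M₁, _, _, hfin₁, hproj₁, ⟨e₁⟩⟩ :=
      exists_projective_descent (RingEquiv.refl (LaurentSeries R)) h hh N
    obtain ⟨M₂, _, _, hfin₂, hproj₂, ⟨e₂⟩⟩ :=
      exists_projective_descent (RingEquiv.refl (LaurentSeries R)) h hh
        (Module.Dual (LaurentSeries R) N)
    let φ : LaurentSeries R ⊗[L] (M₂ ⊗[L] M₁) ≃ₗ[LaurentSeries R] LaurentSeries R ⊗[L] L :=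
      (TensorProduct.AlgebraTensorModule.distribBaseChange L (LaurentSeries R) M₂ M₁) ≪≫ₗ
        (TensorProduct.congr e₂ e₁) ≪≫ₗ (Module.Invertible.linearEquiv (LaurentSeries R) N) ≪≫ₗ
        (TensorProduct.AlgebraTensorModule.rid L (LaurentSeries R) (LaurentSeries R)).symm
    obtain ⟨e3⟩ := H9Hor.Approx.nonempty_equiv_of_baseChange
      (RingEquiv.refl (LaurentSeries R)) h (M₂ ⊗[L] M₁) L φ
    haveI : Module.Invertible L M₁ := Module.Invertible.right e3
    obtain ⟨I, hI, ⟨e4⟩⟩ := exists_invertible_descent hB ψ hψ hψa M₁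
    refine ⟨I, inferInstance, inferInstance, hI, ⟨?_⟩⟩
    exact e₁.symm ≪≫ₗ (TensorProduct.AlgebraTensorModule.congr
      (LinearEquiv.refl (LaurentSeries R) (LaurentSeries R)) e4.symm) ≪≫ₗ
      (TensorProduct.AlgebraTensorModule.cancelBaseChange R[X] L (LaurentSeries R)
        (LaurentSeries R) I)

theorem main (R : Type u) [CommRing R]
    [HenselianLocalRing R] [Algebra R[X] (LaurentSeries R)]
    (halg : algebraMap R[X] (LaurentSeries R) =
      Polynomial.eval₂RingHom (HahnSeries.C) (HahnSeries.single (-1 : ℤ) (1 : R))) :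
    (∀ (M : Type u) [AddCommGroup M] [Module R[X] M] [Module.Invertible R[X] M],
        Module.Free (LaurentSeries R) (LaurentSeries R ⊗[R[X]] M) → Module.Free R[X] M) ∧
    (∀ (L : Type u) [AddCommGroup L] [Module (LaurentSeries R) L] [Module.Invertible (LaurentSeries R) L],
        ∃ (M : Type u) (_ : AddCommGroup M) (_ : Module R[X] M), Module.Invertible R[X] M ∧
          Nonempty (L ≃ₗ[LaurentSeries R] LaurentSeries R ⊗[R[X]] M)) :=
  main' R halg (Groth.Agent.Helper7.Hens.H R[X] (Ideal.span {(X : R[X])}))
    (Groth.Agent.Helper7.Hens.isPairHenselization_H R[X] (Ideal.span {(X : R[X])}))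
    (Localization.Away (algebraMap R[X]
      (Groth.Agent.Helper7.Hens.H R[X] (Ideal.span {(X : R[X])})) X))

end Aux

/-- Let R be a Henselian local ring and regard R((t)) as an R[s]-algebra through s ↦ t⁻¹. Then the
pullback map Pic(R[t⁻¹]) → Pic(R((t))) is bijective: an invertible R[s]-module that becomes free
over R((t)) is free, and every invertible R((t))-module is extended from an invertible R[s]-module.
(The published statement is the chain of three bijections Pic(R[t⁻¹]) ≅ Pic((R[t]_{1+tR[t]})[1/t]) ≅
Pic(R{t}[1/t]) ≅ Pic(R((t))), each induced by pullback; this row states the composite.) -/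
theorem result (R : Type u) [CommRing R]
    [HenselianLocalRing R] [Algebra R[X] (LaurentSeries R)]
    (halg : algebraMap R[X] (LaurentSeries R) =
      Polynomial.eval₂RingHom (HahnSeries.C) (HahnSeries.single (-1 : ℤ) (1 : R))) :
    (∀ (M : Type u) [AddCommGroup M] [Module R[X] M] [Module.Invertible R[X] M],
        Module.Free (LaurentSeries R) (LaurentSeries R ⊗[R[X]] M) → Module.Free R[X] M) ∧
    (∀ (L : Type u) [AddCommGroup L] [Module (LaurentSeries R) L] [Module.Invertible (LaurentSeries R) L],
        ∃ (M : Type u) (_ : AddCommGroup M) (_ : Module R[X] M), Module.Invertible R[X] M ∧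
          Nonempty (L ≃ₗ[LaurentSeries R] LaurentSeries R ⊗[R[X]] M)) := by
  exact Aux.main R halg

end Groth.Agent.S15753
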