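import Groth.Statements.S15754
import Mathlib
import Groth.Agent.Lib.Helper9.Hor.Approx
import Groth.Agent.Lib.Helper9.Hor.RetractBC
import Groth.Agent.Lib.Helper9.Hor.LSeries
import Groth.Agent.Lib.Helper9.Hor.LDescent
import Groth.Agent.Lib.Helper9.Hor.GlueB12
-- import your own Groth.Agent.* helpers here

set_option autoImplicit false
universe u
open TensorProduct
open CAlg

namespace Groth.Agent.S15754

open Polynomial TensorProduct
namespace Aux

open H9Hor.Approx H9Hor.LSeries H9Hor.GlueP1

section Abstract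
variable {C : Type*} {C' : Type*} [CommRing C] [CommRing C'] [Algebra C C']
variable {I J : Type*} [Fintype I] [Fintype J] [DecidableEq I] [DecidableEq J]
variable {P P' : Type*} [AddCommGroup P] [Module C P] [AddCommGroup P'] [Module C P']

theorem mequiv₂_map_of_equiv (f : (I → C) →ₗ[C] P) (g : P →ₗ[C] (I → C)) (hfg : ∀ x, f (g x) = x)
    (f' : (J → C) →ₗ[C] P') (g' : P' →ₗ[C] (J → C)) (hfg' : ∀ x, f' (g' x) = x)
    (φ : C' ⊗[C] P ≃ₗ[C'] C' ⊗[C] P') :
    MEquiv₂ ((LinearMap.toMatrix' (g ∘ₗ f)).map (algebraMap C C'))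
      ((LinearMap.toMatrix' (g' ∘ₗ f')).map (algebraMap C C')) := by
  have h1 := mequiv₂_of_equiv (fBC (C' := C') f) (gBC g) (fBC_gBC f g hfg)
    (fBC (C' := C') f') (gBC g') (fBC_gBC f' g' hfg') φ
  rwa [toMatrix'_gBC_fBC, toMatrix'_gBC_fBC] at h1

theorem nonempty_equiv_of_mequiv₂_map (f : (I → C) →ₗ[C] P) (g : P →ₗ[C] (I → C))
    (hfg : ∀ x, f (g x) = x)
    (f' : (J → C) →ₗ[C] P') (g' : P' →ₗ[C] (J → C)) (hfg' : ∀ x, f' (g' x) = x)
    (h : MEquiv₂ ((LinearMap.toMatrix' (g ∘ₗ f)).map (algebraMap C C'))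
      ((LinearMap.toMatrix' (g' ∘ₗ f')).map (algebraMap C C'))) :
    Nonempty (C' ⊗[C] P ≃ₗ[C'] C' ⊗[C] P') := by
  refine nonempty_equiv_of_mequiv₂ (fBC (C' := C') f) (gBC g) (fBC_gBC f g hfg)
    (fBC (C' := C') f') (gBC g') (fBC_gBC f' g' hfg') ?_
  rwa [toMatrix'_gBC_fBC, toMatrix'_gBC_fBC]

end Abstract

section Units
variable (R : Type*) [CommRing R]

theorem isUnit_polyToLaurent (s : R[X]) (hs : s ∈ S1X R) : IsUnit (polyToLaurent R s) := by
  induction hs using Submonoid.closure_induction with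
  | mem x hx =>
    rcases hx with hx | hx
    · rw [polyToLaurent_apply]
      refine IsUnit.map _ ?_
      rw [PowerSeries.isUnit_iff_constantCoeff, ← PowerSeries.coeff_zero_eq_constantCoeff_apply,
        Polynomial.coeff_coe, hx]
      exact isUnit_one
    · rw [Set.mem_singleton_iff] at hx
      subst hx
      rw [polyToLaurent_apply, Polynomial.coe_X]
      simpa using isUnit_ofPS_X_pow (R := R) 1
  | one => rw [map_one]; exact isUnit_one
  | mul x y _ _ hx hy => rw [map_mul]; exact hx.mul hy

theorem isUnit_algebraMap_B₁₂ (s : R[X]) (hs : s ∈ S1X R) :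
    IsUnit (algebraMap R[X] (B₁₂ R) s) := by
  induction hs using Submonoid.closure_induction with
  | mem x hx =>
    rcases hx with hx | hx
    · rw [IsScalarTower.algebraMap_apply R[X] (LaurentPolynomial R) (B₁₂ R)]
      exact IsLocalization.map_units (B₁₂ R)
        (⟨algebraMap R[X] (LaurentPolynomial R) x, ⟨x, mem_S.mpr hx, rfl⟩⟩ :
          Algebra.algebraMapSubmonoid (LaurentPolynomial R) (S R))
    · rw [Set.mem_singleton_iff] at hx
      subst hx
      rw [IsScalarTower.algebraMap_apply R[X] (LaurentPolynomial R) (B₁₂ R)]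
      refine IsUnit.map _ ?_
      rw [LaurentPolynomial.algebraMap_eq_toLaurent, Polynomial.toLaurent_X]
      exact LaurentPolynomial.isUnit_T 1
  | one => rw [map_one]; exact isUnit_one
  | mul x y _ _ hx hy => rw [map_mul]; exact hx.mul hy

end Units

section Main

theorem main (R : Type u) [CommRing R]
    (L : Type u) [CommRing L] [Algebra R L] (eL : L ≃ₐ[R] LaurentSeries R)
    (M N : Type u) [AddCommGroup M] [Module R M] [Module.Finite R M] [Module.Projective R M]
    [AddCommGroup N] [Module R N] [Module.Finite R N] [Module.Projective R N]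
    (e : L ⊗[R] M ≃ₗ[L] L ⊗[R] N) :
    Nonempty (M ≃ₗ[R] N) := by
  obtain ⟨m, f, g, -, -, hfg⟩ := Module.Finite.exists_comp_eq_id_of_projective R M
  obtain ⟨n, f', g', -, -, hfg'⟩ := Module.Finite.exists_comp_eq_id_of_projective R N
  have hfgx : ∀ x, f (g x) = x := fun x => LinearMap.congr_fun hfg x
  have hfgx' : ∀ x, f' (g' x) = x := fun x => LinearMap.congr_fun hfg' x
  set p := LinearMap.toMatrix' (g ∘ₗ f) with hp
  set q := LinearMap.toMatrix' (g' ∘ₗ f') with hq
  have hpp : p * p = p := idem_toMatrix' f g hfgx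
  have hqq : q * q = q := idem_toMatrix' f' g' hfgx'
  -- over `L`, then over `K`
  have h1 := mequiv₂_map_of_equiv (C' := L) f g hfgx f' g' hfgx' e
  have h2 := h1.map (eL : L →+* LaurentSeries R)
  -- the ring `L₀`
  let ι : Localization (S1X R) →+* LaurentSeries R :=
    IsLocalization.lift (M := S1X R) (g := polyToLaurent R)
      (fun y => isUnit_polyToLaurent R y y.2)
  have hι : ∀ p : R[X], ι (algebraMap R[X] (Localization (S1X R)) p) =
      HahnSeries.ofPowerSeries ℤ R (Polynomial.coeToPowerSeries.ringHom p) := fun p =>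
    IsLocalization.lift_eq _ _
  have hH : Hyp (PowerSeries.X : PowerSeries R) ι := hyp ι hι
  set c₀ : R →+* Localization (S1X R) := (algebraMap R[X] (Localization (S1X R))).comp C with hc₀
  have hc : ∀ r : R, ι (c₀ r) = eL (algebraMap R L r) := by
    intro r
    rw [hc₀, RingHom.comp_apply, hι, eL.commutes]
    simp only [coeToPowerSeries.ringHom_apply, Polynomial.coe_C, HahnSeries.ofPowerSeries_C]
    rw [HahnSeries.algebraMap_apply', PowerSeries.algebraMap_apply, Algebra.algebraMap_self_apply,
      HahnSeries.ofPowerSeries_C]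
  have hmap : ∀ {k : ℕ} (A : Matrix (Fin k) (Fin k) R),
      (A.map (algebraMap R L)).map (eL : L →+* LaurentSeries R) = (A.map c₀).map ι := by
    intro k A
    refine Matrix.ext fun i j => ?_
    simp only [Matrix.map_apply]
    exact (hc _).symm
  rw [hmap, hmap] at h2
  have h3 : MEquiv₂ (p.map c₀) (q.map c₀) :=
    hH.mequiv₂_descent (p.map c₀) (q.map c₀) (by rw [← Matrix.map_mul, hpp])
      (by rw [← Matrix.map_mul, hqq]) h2
  -- to `B₁₂`
  let θ : Localization (S1X R) →+* B₁₂ R :=
    IsLocalization.lift (M := S1X R) (g := algebraMap R[X] (B₁₂ R))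
      (fun y => isUnit_algebraMap_B₁₂ R y y.2)
  have hθ : ∀ r : R, θ (c₀ r) = algebraMap R (B₁₂ R) r := by
    intro r
    rw [hc₀, RingHom.comp_apply, IsLocalization.lift_eq,
      IsScalarTower.algebraMap_apply R R[X] (B₁₂ R)]
    rfl
  have h4 := h3.map θ
  have hmap' : ∀ {k : ℕ} (A : Matrix (Fin k) (Fin k) R),
      (A.map c₀).map θ = A.map (algebraMap R (B₁₂ R)) := by
    intro k A
    refine Matrix.ext fun i j => ?_
    simp only [Matrix.map_apply]
    exact hθ _
  rw [hmap', hmap'] at h4
  obtain ⟨φ''⟩ := nonempty_equiv_of_mequiv₂_map (C' := B₁₂ R) f g hfgx f' g' hfgx' h4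
  exact nonempty_equiv_of_B₁₂_equiv R M N φ''

end Main

end Aux

/-- For an arbitrary commutative ring R, non-isomorphic finitely generated projective R-modules cannot
become isomorphic over the Laurent series ring R((t)): for an R-algebra L that is R-isomorphic to
R((t)), if L ⊗_R M ≅ L ⊗_R N as L-modules then M ≅ N. (L is R((t)) up to an R-algebra isomorphism;
it is kept abstract only so that the L-module structure on L ⊗_R M elaborates.) -/
theorem result (R : Type u) [CommRing R]
    (L : Type u) [CommRing L] [Algebra R L] (eL : L ≃ₐ[R] LaurentSeries R)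
    (M N : Type u) [AddCommGroup M] [Module R M] [Module.Finite R M] [Module.Projective R M]
    [AddCommGroup N] [Module R N] [Module.Finite R N] [Module.Projective R N]
    (e : L ⊗[R] M ≃ₗ[L] L ⊗[R] N) :
    Nonempty (M ≃ₗ[R] N) := by
  exact Aux.main R L eL M N e

end Groth.Agent.S15754
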