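import Groth.Statements.S15755
import Groth.Agent.Lib.Helper8.ArtFunB2
import Groth.Agent.S0597

set_option autoImplicit false
universe u
open CategoryTheory CategoryTheory.Limits
open CAlg

namespace Groth.Agent.S15755

/-- Let (A, I) be a Henselian pair with A Noetherian whose map to the I-adic completion Â is a regular
ring homomorphism, and let F be a set-valued functor on commutative A-algebras preserving filtered
colimits. Then F(A) → F(Â) is injective, and an element of F(A/I) is in the image of F(A) if and
only if it is in the image of F(Â) under the canonical A-algebra map Â → A/I. -/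
theorem result (A : Type u) [CommRing A]
    [IsNoetherianRing A] (I : Ideal A) [HenselianRing A I]
    (hreg : CAlg.IsRegularHom A (AdicCompletion I A))
    (F : CommAlgCat.{u} A ⥤ Type u) [PreservesFilteredColimitsOfSize.{u, u} F] :
    Function.Injective (F.map (CommAlgCat.ofHom (Algebra.ofId A (AdicCompletion I A)))) ∧
    ∀ xbar : F.obj (CommAlgCat.of A (A ⧸ I)),
      (∃ x : F.obj (CommAlgCat.of A A), F.map (CommAlgCat.ofHom (Ideal.Quotient.mkₐ A I)) x = xbar) ↔
      (∃ y : F.obj (CommAlgCat.of A (AdicCompletion I A)),
        F.map (CommAlgCat.ofHom (AdicCompletion.evalOneₐ I)) y = xbar) := by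
  refine Groth.Agent.Helper8.ArtFunB.commAlgCat_main ?_ F
  intro k l f â hâ
  obtain ⟨b, hb, hab⟩ := Groth.Agent.S0597.result A I hreg k l f â
    (fun j => by
      rw [MvPolynomial.eval_map, ← MvPolynomial.aeval_def]
      exact hâ j) 1
  refine ⟨b, hb, fun j => ?_⟩
  have hle : (I ^ 1).map (algebraMap A (AdicCompletion I A)) ≤
      RingHom.ker (AdicCompletion.evalOneₐ I) := by
    rw [pow_one, Ideal.map_le_iff_le_comap]
    intro x hx
    rw [Ideal.mem_comap, RingHom.mem_ker, AlgHom.commutes]
    exact Ideal.Quotient.eq_zero_iff_mem.mpr hx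
  have h1 := hle (hab j)
  rw [RingHom.mem_ker, map_sub, sub_eq_zero, AlgHom.commutes] at h1
  exact h1.symm

end Groth.Agent.S15755
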