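import Groth.Statements.S15768
import Mathlib
import Groth.Prelude.Def_Hens2
import Groth.Agent.S1958
import Groth.Agent.S15749
import Groth.Agent.Lib.Helper9.Hor.AdicIdem
-- import your own Groth.Agent.* helpers here

set_option autoImplicit false
universe u
open Polynomial
open CAlg

namespace Groth.Agent.S15768

open Polynomial
namespace Aux

open H9Hor.AdicIdem

theorem main' (R : Type u) [CommRing R]
    (B : Type u) [CommRing B] [Algebra R[X] B] (hB : Hens2.IsPairHenselization R[X] (Ideal.span {(X : R[X])}) B)
    (tB : B) (htB : tB = algebraMap R[X] B X)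
    (e : Localization.Away tB) (he : IsIdempotentElem e) :
    ∃! r : R, IsIdempotentElem r ∧
      algebraMap B (Localization.Away tB) (algebraMap R[X] B (Polynomial.C r)) = e := by
  haveI hHens : HenselianRing B (Ideal.span {tB}) := by
    have := hB.1
    rwa [Ideal.map_span, Set.image_singleton, ← htB] at this
  obtain ⟨ψ, hψ, -⟩ := hB.2 (PowerSeries R) (Ideal.span {PowerSeries.X})
    (coeToPowerSeries.ringHom) inferInstance (by
      rw [Ideal.map_span, Set.image_singleton]
      simp)
  have hψ' : ∀ q : R[X], ψ (algebraMap R[X] B q) = (q : PowerSeries R) := fun q => by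
    have := congrArg (fun g : R[X] →+* PowerSeries R => g q) hψ
    simpa using this
  have hunit : IsUnit (((HahnSeries.ofPowerSeries ℤ R).comp ψ) tB) := by
    rw [RingHom.comp_apply, htB, hψ', Polynomial.coe_X]
    have := IsLocalization.map_units (LaurentSeries R)
      (⟨PowerSeries.X, 1, by simp⟩ : Submonoid.powers (PowerSeries.X : PowerSeries R))
    simpa using this
  set ψK : Localization.Away tB →+* LaurentSeries R :=
    IsLocalization.Away.lift tB (g := (HahnSeries.ofPowerSeries ℤ R).comp ψ) hunit with hψKdef
  have hψK : ∀ b : B, ψK (algebraMap B (Localization.Away tB) b) =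
      HahnSeries.ofPowerSeries ℤ R (ψ b) := fun b => IsLocalization.Away.lift_eq _ _ _
  have hutK : ∀ k : ℕ, IsUnit (algebraMap B (Localization.Away tB) (tB ^ k)) := fun k =>
    IsLocalization.map_units _ (⟨tB ^ k, k, rfl⟩ : Submonoid.powers tB)
  obtain ⟨r, ⟨hr, hrC⟩, hruniq⟩ := Groth.Agent.S15749.result R (ψK e) (he.map ψK)
  have hCr : ∀ r' : R, ψK (algebraMap B (Localization.Away tB) (algebraMap R[X] B (C r'))) =
      HahnSeries.C r' := fun r' => by
    rw [hψK, hψ', Polynomial.coe_C, HahnSeries.ofPowerSeries_C]
  refine ⟨r, ⟨hr, ?_⟩, ?_⟩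
  · set e' := algebraMap B (Localization.Away tB) (algebraMap R[X] B (C r)) with he'
    have hidem' : e' * e' = e' := by
      rw [he', ← map_mul, ← map_mul, ← C_mul, hr.eq]
    have h3 := sub_pow_three_of_idem hidem' he.eq
    have hψ0 : ψK (e' - e) = 0 := by rw [map_sub, he', hCr, hrC, sub_self]
    obtain ⟨⟨b, ⟨_, k, rfl⟩⟩, h⟩ := IsLocalization.surj (Submonoid.powers tB) (e' - e)
    simp only [] at h
    have hb0 : ψ b = 0 := by
      apply HahnSeries.ofPowerSeries_injective (Γ := ℤ)
      rw [← hψK, ← h, map_mul, hψ0, zero_mul, map_zero]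
    -- approximate `b` by a polynomial modulo `tB^(k+1)`
    obtain ⟨qbar, hq⟩ :=
      ((Groth.Agent.S1958.result R[X] (Ideal.span {(X : R[X])}) B hB).2 (k + 1)).2
        (Ideal.Quotient.mk _ b)
    obtain ⟨q, rfl⟩ := Ideal.Quotient.mk_surjective qbar
    rw [Ideal.quotientMap_mk, Ideal.Quotient.eq, Ideal.span_singleton_pow, Ideal.map_span,
      Set.image_singleton, Ideal.mem_span_singleton'] at hq
    obtain ⟨b', hb'⟩ := hq
    rw [map_pow, ← htB] at hb'
    -- so `q` is divisible by `X^(k+1)`
    have hdvd : (X : R[X]) ^ (k + 1) ∣ q := by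
      rw [Polynomial.X_pow_dvd_iff]
      intro d hd
      have h1 := congrArg ψ hb'
      rw [map_mul, map_pow, map_sub, hψ', hb0, sub_zero, htB, hψ', Polynomial.coe_X] at h1
      rw [← Polynomial.coeff_coe, ← h1, mul_comm, PowerSeries.coeff_X_pow_mul', if_neg (by omega)]
    obtain ⟨q', rfl⟩ := hdvd
    have hbw : b = tB ^ (k + 1) * (algebraMap R[X] B q' - b') := by
      rw [map_mul, map_pow, ← htB] at hb'
      linear_combination hb'
    have h5 : e' - e = algebraMap B (Localization.Away tB) (tB * (algebraMap R[X] B q' - b')) := by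
      apply (hutK k).mul_left_injective
      simp only []
      rw [h, ← map_mul, hbw]
      congr 1
      ring
    have h6 : IsUnit (1 - (e' - e) ^ 2) := by
      set w := algebraMap R[X] B q' - b' with hw
      have := (isUnit_one_add_mul tB (-(w * (tB * w)))).map (algebraMap B (Localization.Away tB))
      convert this using 1
      rw [h5, ← map_pow, ← map_one (algebraMap B (Localization.Away tB)), ← map_sub]
      congr 1
      ring
    exact sub_eq_zero.mp (eq_zero_of_pow_three h3 h6)
  · rintro r' ⟨hr', hr'e⟩
    exact hruniq r' ⟨hr', by rw [← hCr, hr'e]⟩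

theorem main (R : Type u) [CommRing R]
    (B : Type u) [CommRing B] [Algebra R[X] B] (hB : Hens2.IsPairHenselization R[X] (Ideal.span {(X : R[X])}) B)
    (e : Localization.Away (algebraMap R[X] B X)) (he : IsIdempotentElem e) :
    ∃! r : R, IsIdempotentElem r ∧
      algebraMap B (Localization.Away (algebraMap R[X] B X)) (algebraMap R[X] B (Polynomial.C r)) = e :=
  main' R B hB _ rfl e he

end Aux

/-- For any ring R and a henselization B of R[t] along (t), every idempotent of B[1/t] comes from a
unique idempotent of R under R → R[t] → B → B[1/t]. -/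
theorem result (R : Type u) [CommRing R]
    (B : Type u) [CommRing B] [Algebra R[X] B] (hB : Hens2.IsPairHenselization R[X] (Ideal.span {(X : R[X])}) B)
    (e : Localization.Away (algebraMap R[X] B X)) (he : IsIdempotentElem e) :
    ∃! r : R, IsIdempotentElem r ∧
      algebraMap B (Localization.Away (algebraMap R[X] B X)) (algebraMap R[X] B (Polynomial.C r)) = e := by
  exact Aux.main R B hB e he

end Groth.Agent.S15768
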