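import Groth.Statements.S15769
import Mathlib
import Groth.Statements.S15769
-- import your own Groth.Agent.* helpers here

set_option autoImplicit false
universe u
open CategoryTheory AlgebraicGeometry
open CAlg

namespace Groth.Agent.S15769

open CategoryTheory AlgebraicGeometry
open CAlg
namespace Aux
set_option linter.style.haveILetI false
set_option linter.unusedSectionVars false
set_option linter.unusedVariables false

section Alg

variable {A A' : Type u} [CommRing A] [CommRing A'] (φ : A →+* A') (t : A)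

/-- the hypotheses of the gluing square -/
structure Hyp : Prop where
  hq : ∀ m : ℕ, Function.Bijective
    (Ideal.quotientMap (Ideal.map φ (Ideal.span {t} ^ m)) φ Ideal.le_comap_map)
  htor : ∀ a' : A', (∃ m : ℕ, φ t ^ m * a' = 0) → ∃! a : A, (∃ m : ℕ, t ^ m * a = 0) ∧ φ a = a'

variable {φ t}

lemma map_span_pow (m : ℕ) :
    Ideal.map φ (Ideal.span {t} ^ m) = Ideal.span {φ t ^ m} := by
  rw [Ideal.span_singleton_pow, Ideal.map_span, Set.image_singleton, map_pow]

lemma tors_alg {a : A} (h : ∃ m : ℕ, t ^ m * a = 0) :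
    algebraMap A (Localization.Away t) a = 0 := by
  obtain ⟨m, hm⟩ := h
  rw [IsLocalization.map_eq_zero_iff (Submonoid.powers t)]
  exact ⟨⟨t ^ m, m, rfl⟩, hm⟩

lemma alg_tors {a : A} (h : algebraMap A (Localization.Away t) a = 0) :
    ∃ m : ℕ, t ^ m * a = 0 := by
  rw [IsLocalization.map_eq_zero_iff (Submonoid.powers t)] at h
  obtain ⟨⟨_, m, rfl⟩, hm⟩ := h
  exact ⟨m, hm⟩

lemma alg_tors' {a' : A'} (h : algebraMap A' (Localization.Away (φ t)) a' = 0) :
    ∃ m : ℕ, φ t ^ m * a' = 0 := by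
  rw [IsLocalization.map_eq_zero_iff (Submonoid.powers (φ t))] at h
  obtain ⟨⟨_, m, rfl⟩, hm⟩ := h
  exact ⟨m, hm⟩

lemma ker_inter (H : Hyp φ t) {a : A} (h1 : φ a = 0)
    (h2 : algebraMap A (Localization.Away t) a = 0) : a = 0 := by
  obtain ⟨a₀, -, huniq⟩ := H.htor 0 ⟨0, by simp⟩
  have e1 : a = a₀ := huniq a ⟨alg_tors h2, h1⟩
  have e2 : (0 : A) = a₀ := huniq 0 ⟨⟨0, by simp⟩, map_zero φ⟩
  rw [e1, ← e2]

lemma eq_of_both (H : Hyp φ t) {a b : A} (h1 : φ a = φ b)
    (h2 : algebraMap A (Localization.Away t) a = algebraMap A (Localization.Away t) b) : a = b := by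
  have := ker_inter H (a := a - b) (by rw [map_sub, h1, sub_self]) (by rw [map_sub, h2, sub_self])
  exact sub_eq_zero.1 this

lemma surj_mod (H : Hyp φ t) (n : ℕ) (a' : A') :
    ∃ (a₀ : A) (e' : A'), a' = φ a₀ + φ t ^ n * e' := by
  obtain ⟨x, hx⟩ := (H.hq n).2 (Ideal.Quotient.mk _ a')
  obtain ⟨a₀, rfl⟩ := Ideal.Quotient.mk_surjective x
  rw [Ideal.quotientMap_mk, Ideal.Quotient.eq, map_span_pow, Ideal.mem_span_singleton'] at hx
  obtain ⟨e', he'⟩ := hx
  refine ⟨a₀, -e', ?_⟩
  have : φ a₀ - a' = e' * φ t ^ n := he'.symm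
  linear_combination (-1 : A') * this

lemma inj_mod (H : Hyp φ t) (n : ℕ) (a : A) (e' : A') (h : φ a = φ t ^ n * e') :
    ∃ r : A, a = t ^ n * r := by
  have h0 : Ideal.quotientMap (Ideal.map φ (Ideal.span {t} ^ n)) φ Ideal.le_comap_map
      (Ideal.Quotient.mk _ a) = 0 := by
    rw [Ideal.quotientMap_mk, Ideal.Quotient.eq_zero_iff_mem, map_span_pow,
      Ideal.mem_span_singleton']
    exact ⟨e', by rw [h, mul_comm]⟩
  have h1 : (Ideal.Quotient.mk (Ideal.span {t} ^ n)) a = 0 :=
    (H.hq n).1 (h0.trans (map_zero _).symm)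
  rw [Ideal.Quotient.eq_zero_iff_mem, Ideal.span_singleton_pow, Ideal.mem_span_singleton'] at h1
  obtain ⟨r, hr⟩ := h1
  exact ⟨r, by rw [← hr, mul_comm]⟩

lemma awayMap_alg (a : A) :
    Localization.awayMap φ t (algebraMap A (Localization.Away t) a) =
      algebraMap A' (Localization.Away (φ t)) (φ a) :=
  IsLocalization.map_eq _ a

lemma glue (H : Hyp φ t) (a' : A') (b : Localization.Away t)
    (h : algebraMap A' (Localization.Away (φ t)) a' = Localization.awayMap φ t b) :
    ∃ a : A, φ a = a' ∧ algebraMap A (Localization.Away t) a = b := by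
  obtain ⟨n, c, hc⟩ := IsLocalization.Away.surj t b
  have h1 : algebraMap A' (Localization.Away (φ t)) (a' * φ t ^ n - φ c) = 0 := by
    have h2 := congrArg (Localization.awayMap φ t) hc
    rw [map_mul, map_pow, awayMap_alg, awayMap_alg] at h2
    rw [map_sub, map_mul, map_pow, h, h2, sub_self]
  obtain ⟨k, hk⟩ := alg_tors' h1
  obtain ⟨d, ⟨hd_t, hd⟩, -⟩ := H.htor _ ⟨k, hk⟩
  obtain ⟨a₀, e', he'⟩ := surj_mod H n a'
  have h3 : φ (c + d - t ^ n * a₀) = φ t ^ (2 * n) * e' := by
    rw [map_sub, map_add, hd, map_mul, map_pow, he']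
    ring
  obtain ⟨r, hr⟩ := inj_mod H (2 * n) _ e' h3
  have ha : t ^ n * (a₀ + t ^ n * r) = c + d := by
    linear_combination (-1 : A) * hr
  have halg : algebraMap A (Localization.Away t) (a₀ + t ^ n * r) = b := by
    have hu : IsUnit (algebraMap A (Localization.Away t) t ^ n) :=
      IsLocalization.Away.algebraMap_pow_isUnit t n
    apply hu.mul_left_injective
    show algebraMap A (Localization.Away t) (a₀ + t ^ n * r) *
      algebraMap A (Localization.Away t) t ^ n = b * algebraMap A (Localization.Away t) t ^ n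
    rw [hc, ← map_pow, ← map_mul, mul_comm, ha, map_add, tors_alg hd_t, add_zero]
  have h4 : φ t ^ n * (φ (a₀ + t ^ n * r) - a') = 0 := by
    have h5 : φ t ^ n * φ (a₀ + t ^ n * r) = φ c + φ d := by
      rw [← map_pow, ← map_mul, ha, map_add]
    rw [hd] at h5
    linear_combination h5
  obtain ⟨z, ⟨hz_t, hz⟩, -⟩ := H.htor _ ⟨n, h4⟩
  refine ⟨a₀ + t ^ n * r - z, ?_, ?_⟩
  · rw [map_sub, hz]
    ring
  · rw [map_sub, halg, tors_alg hz_t, sub_zero]

variable (φ t)

/-- the fibre product ring `A' ×_{A'[1/t]} A[1/t]` -/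
noncomputable def E : Subring (A' × Localization.Away t) :=
  RingHom.eqLocus ((algebraMap A' (Localization.Away (φ t))).comp (RingHom.fst _ _))
    ((Localization.awayMap φ t).comp (RingHom.snd _ _))

/-- the comparison map to the fibre product -/
noncomputable def toE : A →+* E φ t :=
  RingHom.codRestrict (φ.prod (algebraMap A (Localization.Away t))) (E φ t) (fun a => by
    show algebraMap A' _ (φ a) = Localization.awayMap φ t (algebraMap A _ a)
    exact (awayMap_alg a).symm)

variable {φ t}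

lemma toE_bijective (H : Hyp φ t) : Function.Bijective (toE φ t) := by
  constructor
  · intro a b hab
    have h := congrArg Subtype.val hab
    exact eq_of_both H (congrArg Prod.fst h) (congrArg Prod.snd h)
  · rintro ⟨⟨a', b⟩, hab⟩
    obtain ⟨a, h1, h2⟩ := glue H a' b hab
    exact ⟨a, Subtype.ext (Prod.ext h1 h2)⟩

lemma exists_ringHom (H : Hyp φ t) {R : Type u} [CommRing R] (γ' : R →+* A')
    (γt : R →+* Localization.Away t)
    (h : (algebraMap A' (Localization.Away (φ t))).comp γ' = (Localization.awayMap φ t).comp γt) :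
    ∃ γ : R →+* A, φ.comp γ = γ' ∧ (algebraMap A (Localization.Away t)).comp γ = γt := by
  let e := RingEquiv.ofBijective (toE φ t) (toE_bijective H)
  let δ : R →+* E φ t := RingHom.codRestrict (γ'.prod γt) (E φ t) (fun r => RingHom.congr_fun h r)
  refine ⟨(e.symm : E φ t →+* A).comp δ, ?_, ?_⟩
  · ext r
    have h1 : e (e.symm (δ r)) = δ r := e.apply_symm_apply _
    exact congrArg (fun x => x.1.1) h1
  · ext r
    have h1 : e (e.symm (δ r)) = δ r := e.apply_symm_apply _
    exact congrArg (fun x => x.1.2) h1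

lemma exists_prime_over (H : Hyp φ t) (P : Ideal A) [hP : P.IsPrime] (ht : t ∈ P) :
    ∃ (P' : Ideal A') (_ : P'.IsPrime), P'.comap φ = P := by
  have hI : Ideal.span {t} ^ 1 ≤ P := by
    rw [pow_one, Ideal.span_le]
    intro x hx
    rw [Set.mem_singleton_iff] at hx
    rw [hx]
    exact ht
  let e := RingEquiv.ofBijective
    (Ideal.quotientMap (Ideal.map φ (Ideal.span {t} ^ 1)) φ Ideal.le_comap_map) (H.hq 1)
  haveI : (Ideal.map (Ideal.Quotient.mk (Ideal.span {t} ^ 1)) P).IsPrime :=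
    Ideal.map_isPrime_of_surjective Ideal.Quotient.mk_surjective (by
      rw [Ideal.mk_ker]
      exact hI)
  refine ⟨Ideal.comap ((e.symm : _ →+* _).comp
    (Ideal.Quotient.mk (Ideal.map φ (Ideal.span {t} ^ 1))))
      (Ideal.map (Ideal.Quotient.mk (Ideal.span {t} ^ 1)) P), inferInstance, ?_⟩
  ext a
  rw [Ideal.mem_comap, Ideal.mem_comap]
  have h1 : ((e.symm : _ →+* _).comp (Ideal.Quotient.mk (Ideal.map φ (Ideal.span {t} ^ 1))))
      (φ a) = Ideal.Quotient.mk (Ideal.span {t} ^ 1) a := by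
    show e.symm (Ideal.Quotient.mk _ (φ a)) = _
    rw [RingEquiv.symm_apply_eq]
    rfl
  rw [h1]
  exact Ideal.mem_quotient_iff_mem hI

end Alg

section Geom

variable {A A' : Type u} [CommRing A] [CommRing A'] {φ : A →+* A'} {t : A}
  (X : Scheme.{u}) [X.IsQuasiAffine]

lemma spec_hom_ext {R : Type u} [CommRing R] (s₁ s₂ : Spec (CommRingCat.of R) ⟶ X)
    (h : Spec.preimage (s₁ ≫ X.toSpecΓ) = Spec.preimage (s₂ ≫ X.toSpecΓ)) : s₁ = s₂ := by
  apply (cancel_mono X.toSpecΓ).1
  rw [← Spec.map_preimage (s₁ ≫ X.toSpecΓ), h, Spec.map_preimage]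

lemma preimage_comp {R R' : Type u} [CommRing R] [CommRing R'] (ψ : R →+* R')
    (s : Spec (CommRingCat.of R) ⟶ X) :
    Spec.preimage ((Spec.map (CommRingCat.ofHom ψ) ≫ s) ≫ X.toSpecΓ) =
      Spec.preimage (s ≫ X.toSpecΓ) ≫ CommRingCat.ofHom ψ := by
  apply Spec.map_injective
  rw [Spec.map_preimage, Spec.map_comp, Spec.map_preimage, Category.assoc]

variable (H : Hyp φ t) (p : X ⟶ Spec (CommRingCat.of A))

include H in
theorem uniq (s₁ s₂ : Spec (CommRingCat.of A) ⟶ X)
    (h' : Spec.map (CommRingCat.ofHom φ) ≫ s₁ = Spec.map (CommRingCat.ofHom φ) ≫ s₂)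
    (ht : Spec.map (CommRingCat.ofHom (algebraMap A (Localization.Away t))) ≫ s₁ =
      Spec.map (CommRingCat.ofHom (algebraMap A (Localization.Away t))) ≫ s₂) : s₁ = s₂ := by
  apply spec_hom_ext
  have e3 : Spec.preimage (s₁ ≫ X.toSpecΓ) ≫ CommRingCat.ofHom φ =
      Spec.preimage (s₂ ≫ X.toSpecΓ) ≫ CommRingCat.ofHom φ := by
    rw [← preimage_comp, ← preimage_comp, h']
  have e4 : Spec.preimage (s₁ ≫ X.toSpecΓ) ≫
      CommRingCat.ofHom (algebraMap A (Localization.Away t)) =
      Spec.preimage (s₂ ≫ X.toSpecΓ) ≫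
        CommRingCat.ofHom (algebraMap A (Localization.Away t)) := by
    rw [← preimage_comp, ← preimage_comp, ht]
  ext r
  apply eq_of_both H
  · exact congrArg (fun f => f.hom r) e3
  · exact congrArg (fun f => f.hom r) e4

include H in
theorem exist (x' : Spec (CommRingCat.of A') ⟶ X)
    (xt : Spec (CommRingCat.of (Localization.Away t)) ⟶ X)
    (hx' : x' ≫ p = Spec.map (CommRingCat.ofHom φ))
    (hxt : xt ≫ p = Spec.map (CommRingCat.ofHom (algebraMap A (Localization.Away t))))
    (hc : Spec.map (CommRingCat.ofHom (algebraMap A' (Localization.Away (φ t)))) ≫ x' =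
      Spec.map (CommRingCat.ofHom (Localization.awayMap φ t)) ≫ xt) :
    ∃ s : Spec (CommRingCat.of A) ⟶ X, s ≫ p = 𝟙 _ ∧
      Spec.map (CommRingCat.ofHom φ) ≫ s = x' ∧
      Spec.map (CommRingCat.ofHom (algebraMap A (Localization.Away t))) ≫ s = xt := by
  have hcomp : Spec.preimage (x' ≫ X.toSpecΓ) ≫
      CommRingCat.ofHom (algebraMap A' (Localization.Away (φ t))) =
      Spec.preimage (xt ≫ X.toSpecΓ) ≫ CommRingCat.ofHom (Localization.awayMap φ t) := by
    rw [← preimage_comp, ← preimage_comp, hc]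
  obtain ⟨γ, hγ1, hγ2⟩ := exists_ringHom H (Spec.preimage (x' ≫ X.toSpecΓ)).hom
    (Spec.preimage (xt ≫ X.toSpecΓ)).hom (congrArg CommRingCat.Hom.hom hcomp)
  have hσ1 : Spec.map (CommRingCat.ofHom φ) ≫ Spec.map (CommRingCat.ofHom γ) =
      x' ≫ X.toSpecΓ := by
    rw [← Spec.map_comp, ← Spec.map_preimage (x' ≫ X.toSpecΓ)]
    congr 1
    ext r
    exact RingHom.congr_fun hγ1 r
  have hσ2 : Spec.map (CommRingCat.ofHom (algebraMap A (Localization.Away t))) ≫
      Spec.map (CommRingCat.ofHom γ) = xt ≫ X.toSpecΓ := by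
    rw [← Spec.map_comp, ← Spec.map_preimage (xt ≫ X.toSpecΓ)]
    congr 1
    ext r
    exact RingHom.congr_fun hγ2 r
  have hrange : Set.range (Spec.map (CommRingCat.ofHom γ)) ⊆ Set.range X.toSpecΓ := by
    rintro _ ⟨y, rfl⟩
    by_cases hty : t ∈ y.asIdeal
    · haveI hyp : (PrimeSpectrum.asIdeal (R := A) y).IsPrime := PrimeSpectrum.isPrime (R := A) y
      obtain ⟨P', hP', hcomap⟩ := exists_prime_over H (PrimeSpectrum.asIdeal (R := A) y) hty
      have hy : Spec.map (CommRingCat.ofHom φ) (⟨P', hP'⟩ : PrimeSpectrum A') = y :=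
        PrimeSpectrum.ext hcomap
      rw [← hy]
      have h1 := congrArg (fun f => f (⟨P', hP'⟩ : PrimeSpectrum A')) hσ1
      exact ⟨x' (⟨P', hP'⟩ : PrimeSpectrum A'), h1.symm⟩
    · have hy : y ∈ Set.range (PrimeSpectrum.comap (algebraMap A (Localization.Away t))) := by
        rw [PrimeSpectrum.localization_away_comap_range (Localization.Away t) t]
        exact hty
      obtain ⟨yt, hyt⟩ := hy
      have hy' : Spec.map (CommRingCat.ofHom (algebraMap A (Localization.Away t))) yt = y := hyt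
      rw [← hy']
      have h1 := congrArg (fun f => f yt) hσ2
      exact ⟨xt yt, h1.symm⟩
  have hs : IsOpenImmersion.lift X.toSpecΓ (Spec.map (CommRingCat.ofHom γ)) hrange ≫ X.toSpecΓ =
      Spec.map (CommRingCat.ofHom γ) := IsOpenImmersion.lift_fac _ _ _
  have hs1 : Spec.map (CommRingCat.ofHom φ) ≫
      IsOpenImmersion.lift X.toSpecΓ (Spec.map (CommRingCat.ofHom γ)) hrange = x' := by
    apply (cancel_mono X.toSpecΓ).1
    rw [Category.assoc, hs, hσ1]
  have hs2 : Spec.map (CommRingCat.ofHom (algebraMap A (Localization.Away t))) ≫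
      IsOpenImmersion.lift X.toSpecΓ (Spec.map (CommRingCat.ofHom γ)) hrange = xt := by
    apply (cancel_mono X.toSpecΓ).1
    rw [Category.assoc, hs, hσ2]
  refine ⟨IsOpenImmersion.lift X.toSpecΓ (Spec.map (CommRingCat.ofHom γ)) hrange, ?_, hs1, hs2⟩
  have h5 : Spec.map (CommRingCat.ofHom φ) ≫
      (IsOpenImmersion.lift X.toSpecΓ (Spec.map (CommRingCat.ofHom γ)) hrange ≫ p) =
      Spec.map (CommRingCat.ofHom φ) := by
    rw [← Category.assoc, hs1, hx']
  have h6 : Spec.map (CommRingCat.ofHom (algebraMap A (Localization.Away t))) ≫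
      (IsOpenImmersion.lift X.toSpecΓ (Spec.map (CommRingCat.ofHom γ)) hrange ≫ p) =
      Spec.map (CommRingCat.ofHom (algebraMap A (Localization.Away t))) := by
    rw [← Category.assoc, hs2, hxt]
  have hψ : Spec.map (Spec.preimage
      (IsOpenImmersion.lift X.toSpecΓ (Spec.map (CommRingCat.ofHom γ)) hrange ≫ p)) =
      IsOpenImmersion.lift X.toSpecΓ (Spec.map (CommRingCat.ofHom γ)) hrange ≫ p :=
    Spec.map_preimage _
  have e1 : Spec.preimage
      (IsOpenImmersion.lift X.toSpecΓ (Spec.map (CommRingCat.ofHom γ)) hrange ≫ p) ≫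
      CommRingCat.ofHom φ = CommRingCat.ofHom φ := by
    apply Spec.map_injective
    rw [Spec.map_comp, hψ, h5]
  have e2 : Spec.preimage
      (IsOpenImmersion.lift X.toSpecΓ (Spec.map (CommRingCat.ofHom γ)) hrange ≫ p) ≫
      CommRingCat.ofHom (algebraMap A (Localization.Away t)) =
      CommRingCat.ofHom (algebraMap A (Localization.Away t)) := by
    apply Spec.map_injective
    rw [Spec.map_comp, hψ, h6]
  have e3 : Spec.preimage
      (IsOpenImmersion.lift X.toSpecΓ (Spec.map (CommRingCat.ofHom γ)) hrange ≫ p) = 𝟙 _ := by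
    ext a
    apply eq_of_both H
    · exact congrArg (fun f => f.hom a) e1
    · exact congrArg (fun f => f.hom a) e2
  rw [← hψ, e3, Spec.map_id]

end Geom

theorem main (A A' : Type u) [CommRing A] [CommRing A']
    (φ : A →+* A') (t : A)
    (hq : ∀ m : ℕ, Function.Bijective (Ideal.quotientMap (Ideal.map φ (Ideal.span {t} ^ m)) φ Ideal.le_comap_map))
    (htor : ∀ a' : A', (∃ m : ℕ, φ t ^ m * a' = 0) → ∃! a : A, (∃ m : ℕ, t ^ m * a = 0) ∧ φ a = a')
    (X : Scheme.{u}) [X.IsQuasiAffine] (p : X ⟶ Spec (CommRingCat.of A)) :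
    (∀ s₁ s₂ : Spec (CommRingCat.of A) ⟶ X, s₁ ≫ p = 𝟙 _ → s₂ ≫ p = 𝟙 _ →
        Spec.map (CommRingCat.ofHom φ) ≫ s₁ = Spec.map (CommRingCat.ofHom φ) ≫ s₂ →
        Spec.map (CommRingCat.ofHom (algebraMap A (Localization.Away t))) ≫ s₁ =
          Spec.map (CommRingCat.ofHom (algebraMap A (Localization.Away t))) ≫ s₂ →
        s₁ = s₂) ∧
    (∀ (x' : Spec (CommRingCat.of A') ⟶ X) (xt : Spec (CommRingCat.of (Localization.Away t)) ⟶ X),
        x' ≫ p = Spec.map (CommRingCat.ofHom φ) →
        xt ≫ p = Spec.map (CommRingCat.ofHom (algebraMap A (Localization.Away t))) →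
        Spec.map (CommRingCat.ofHom (algebraMap A' (Localization.Away (φ t)))) ≫ x' =
          Spec.map (CommRingCat.ofHom (Localization.awayMap φ t)) ≫ xt →
        ∃ s : Spec (CommRingCat.of A) ⟶ X, s ≫ p = 𝟙 _ ∧
          Spec.map (CommRingCat.ofHom φ) ≫ s = x' ∧
          Spec.map (CommRingCat.ofHom (algebraMap A (Localization.Away t))) ≫ s = xt) := by
  have H : Hyp φ t := ⟨hq, htor⟩
  exact ⟨fun s₁ s₂ _ _ h' ht => uniq X H s₁ s₂ h' ht,
    fun x' xt hx' hxt hc => exist X H p x' xt hx' hxt hc⟩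

end Aux

/-- Case of a quasi-affine X over U = Spec A: let φ : A → A' and t ∈ A be such that A/t^m → A'/t^m is
bijective for every m and φ restricts to a bijection between the t-power-torsion submodules; let X
be a quasi-affine scheme over Spec A. Then sections of X over Spec A correspond bijectively to pairs
of an A'-point and an A[1/t]-point of X over A that agree over A'[1/t]. (The published statement
allows a flat A-scheme U as base and X either ind-quasi-affine or subprojective over U; this row is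
U = Spec A with X quasi-affine.) -/
theorem result (A A' : Type u) [CommRing A] [CommRing A']
    (φ : A →+* A') (t : A)
    (hq : ∀ m : ℕ, Function.Bijective (Ideal.quotientMap (Ideal.map φ (Ideal.span {t} ^ m)) φ Ideal.le_comap_map))
    (htor : ∀ a' : A', (∃ m : ℕ, φ t ^ m * a' = 0) → ∃! a : A, (∃ m : ℕ, t ^ m * a = 0) ∧ φ a = a')
    (X : Scheme.{u}) [X.IsQuasiAffine] (p : X ⟶ Spec (CommRingCat.of A)) :
    (∀ s₁ s₂ : Spec (CommRingCat.of A) ⟶ X, s₁ ≫ p = 𝟙 _ → s₂ ≫ p = 𝟙 _ →
        Spec.map (CommRingCat.ofHom φ) ≫ s₁ = Spec.map (CommRingCat.ofHom φ) ≫ s₂ →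
        Spec.map (CommRingCat.ofHom (algebraMap A (Localization.Away t))) ≫ s₁ =
          Spec.map (CommRingCat.ofHom (algebraMap A (Localization.Away t))) ≫ s₂ →
        s₁ = s₂) ∧
    (∀ (x' : Spec (CommRingCat.of A') ⟶ X) (xt : Spec (CommRingCat.of (Localization.Away t)) ⟶ X),
        x' ≫ p = Spec.map (CommRingCat.ofHom φ) →
        xt ≫ p = Spec.map (CommRingCat.ofHom (algebraMap A (Localization.Away t))) →
        Spec.map (CommRingCat.ofHom (algebraMap A' (Localization.Away (φ t)))) ≫ x' =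
          Spec.map (CommRingCat.ofHom (Localization.awayMap φ t)) ≫ xt →
        ∃ s : Spec (CommRingCat.of A) ⟶ X, s ≫ p = 𝟙 _ ∧
          Spec.map (CommRingCat.ofHom φ) ≫ s = x' ∧
          Spec.map (CommRingCat.ofHom (algebraMap A (Localization.Away t))) ≫ s = xt) := by
  exact Aux.main A A' φ t hq htor X p

end Groth.Agent.S15769
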