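import Groth.Statements.S15770
import Mathlib

set_option autoImplicit false
universe u
open CAlg

namespace Groth.Agent.S15770

section


theorem main (B : Type u) [CommRing B] [TopologicalSpace B]
    [IsTopologicalRing B] (hB : IsOpen {b : B | IsUnit b})
    (M M' : Type u) [AddCommGroup M] [Module B M] [Module.Finite B M] [Module.Projective B M]
    [AddCommGroup M'] [Module B M'] [Module.Finite B M'] [Module.Projective B M']
    [TopologicalSpace (M →ₗ[B] M')] [IsModuleTopology B (M →ₗ[B] M')] :
    IsOpen {f : M →ₗ[B] M' | Function.Surjective f} := by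
  classical
  rw [isOpen_iff_forall_mem_open]
  intro f₀ hf₀
  -- section of f₀
  obtain ⟨g₀, hg₀⟩ := Module.projective_lifting_property f₀ LinearMap.id hf₀
  -- presentation of M' as a retract of B^n
  obtain ⟨n, π, hπ⟩ := Module.Finite.exists_fin' B M'
  obtain ⟨i, hi⟩ := Module.projective_lifting_property π LinearMap.id hπ
  -- the affine map Φ
  let Φ : (M →ₗ[B] M') → ((Fin n → B) →ₗ[B] (Fin n → B)) := fun f =>
    i ∘ₗ f ∘ₗ g₀ ∘ₗ π + (LinearMap.id - i ∘ₗ π)
  let U : Set (M →ₗ[B] M') := {f | IsUnit (LinearMap.toMatrix' (Φ f)).det}
  have hΦ₀ : Φ f₀ = LinearMap.id := by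
    have hg₀' : ∀ y, f₀ (g₀ y) = y := fun y => LinearMap.congr_fun hg₀ y
    apply LinearMap.ext
    intro x
    simp [Φ, hg₀']
  have hcont : Continuous fun f : M →ₗ[B] M' => (LinearMap.toMatrix' (Φ f)).det := by
    apply Continuous.matrix_det
    apply continuous_matrix
    intro a b
    -- entry is a linear functional plus a constant
    let L : (M →ₗ[B] M') →ₗ[B] B :=
      { toFun := fun f => i (f (g₀ (π (Pi.single b 1)))) a
        map_add' := by intro f g; simp
        map_smul' := by intro c f; simp }
    have hL : Continuous L := IsModuleTopology.continuous_of_linearMap L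
    have : (fun f : M →ₗ[B] M' => (LinearMap.toMatrix' (Φ f)) a b) =
        fun f => L f + ((LinearMap.id - i ∘ₗ π : (Fin n → B) →ₗ[B] (Fin n → B)) (Pi.single b 1)) a := by
      funext f
      simp [LinearMap.toMatrix'_apply, Φ, L]
    rw [this]
    exact hL.add continuous_const
  refine ⟨U, ?_, hB.preimage hcont, ?_⟩
  · intro f hf
    have hf' : IsUnit (LinearMap.toMatrix' (Φ f)).det := hf
    have hdet : IsUnit (LinearMap.det (Φ f)) := by
      rw [← LinearMap.det_toMatrix']
      exact hf'
    have hbij : Function.Surjective (Φ f) := by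
      let e := LinearEquiv.ofIsUnitDet (f := Φ f) (v := Pi.basisFun B (Fin n))
        (v' := Pi.basisFun B (Fin n)) (by
          rw [LinearMap.toMatrix_eq_toMatrix']
          exact hf')
      have : (e : (Fin n → B) → (Fin n → B)) = Φ f := by
        ext x; rfl
      rw [← this]
      exact e.surjective
    intro m'
    obtain ⟨v, hv⟩ := hbij (i m')
    refine ⟨g₀ (π v), ?_⟩
    have h1 := congrArg π hv
    have hπi : ∀ y, π (i y) = y := fun y => LinearMap.congr_fun hi y
    simp only [Φ, LinearMap.add_apply, LinearMap.comp_apply, LinearMap.sub_apply,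
      LinearMap.id_apply, map_add, map_sub, hπi] at h1
    simpa using h1
  · change IsUnit (LinearMap.toMatrix' (Φ f₀)).det
    rw [hΦ₀, LinearMap.toMatrix'_id, Matrix.det_one]
    exact isUnit_one


end


/-- Let B be a topological ring with Bˣ ⊂ B open and M, M' finitely generated projective B-modules, and
endow Hom_B(M, M') with the module topology (the canonical topology of a finite module). Then the
set of surjective B-linear maps M → M' is open. -/
theorem result (B : Type u) [CommRing B] [TopologicalSpace B]
    [IsTopologicalRing B] (hB : IsOpen {b : B | IsUnit b})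
    (M M' : Type u) [AddCommGroup M] [Module B M] [Module.Finite B M] [Module.Projective B M]
    [AddCommGroup M'] [Module B M'] [Module.Finite B M'] [Module.Projective B M']
    [TopologicalSpace (M →ₗ[B] M')] [IsModuleTopology B (M →ₗ[B] M')] :
    IsOpen {f : M →ₗ[B] M' | Function.Surjective f} := by
  classical
  exact main B hB M M'

end Groth.Agent.S15770
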