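import Groth.Statements.S15771
import Mathlib

set_option autoImplicit false
universe u
open TensorProduct
open CAlg

namespace Groth.Agent.S15771

/-- For a ring map B₀ → B with dense image into a topological ring B, a finitely generated B₀-module M₀
and any topological B-module structure on M = B ⊗_{B₀} M₀, the natural map M₀ → M has dense image. -/
theorem result (B₀ B : Type u) [CommRing B₀] [CommRing B] [Algebra B₀ B]
    [TopologicalSpace B] [IsTopologicalRing B] (hφ : DenseRange (algebraMap B₀ B))
    (M₀ : Type u) [AddCommGroup M₀] [Module B₀ M₀] [Module.Finite B₀ M₀]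
    [TopologicalSpace (B ⊗[B₀] M₀)] [IsTopologicalAddGroup (B ⊗[B₀] M₀)] [ContinuousSMul B (B ⊗[B₀] M₀)] :
    DenseRange (fun m : M₀ => (1 : B) ⊗ₜ[B₀] m) := by
  classical
  obtain ⟨n, m, hm⟩ := Module.Finite.exists_fin (R := B₀) (M := M₀)
  -- the parametrisation `B^n → M`
  let g : (Fin n → B) → B ⊗[B₀] M₀ := fun b => ∑ i, b i • ((1 : B) ⊗ₜ[B₀] m i)
  have hgc : Continuous g := by
    refine continuous_finset_sum _ fun i _ => ?_
    have h1 : Continuous fun b : Fin n → B => b i := continuous_apply i
    have h2 : Continuous fun _ : Fin n → B => ((1 : B) ⊗ₜ[B₀] m i : B ⊗[B₀] M₀) := continuous_const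
    exact Continuous.smul h1 h2
  have hgs : Function.Surjective g := by
    intro z
    induction z using TensorProduct.induction_on with
    | zero => exact ⟨0, by simp [g]⟩
    | tmul b x =>
      have hx : x ∈ Submodule.span B₀ (Set.range m) := by rw [hm]; trivial
      obtain ⟨c, hc⟩ := (Submodule.mem_span_range_iff_exists_fun B₀).mp hx
      refine ⟨fun i => b * algebraMap B₀ B (c i), ?_⟩
      simp only [g]
      rw [← hc, TensorProduct.tmul_sum]
      refine Finset.sum_congr rfl fun i _ => ?_
      rw [TensorProduct.smul_tmul', smul_eq_mul, mul_one, ← TensorProduct.smul_tmul,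
        Algebra.smul_def, mul_comm]
    | add z w hz hw =>
      obtain ⟨a, ha⟩ := hz
      obtain ⟨b, hb⟩ := hw
      refine ⟨a + b, ?_⟩
      simp only [g, Pi.add_apply, add_smul, Finset.sum_add_distrib] at ha hb ⊢
      rw [ha, hb]
  have hd : DenseRange (Pi.map (fun _ : Fin n => (algebraMap B₀ B : B₀ → B))) :=
    DenseRange.piMap fun _ => hφ
  have hcomp := hgs.denseRange.comp hd hgc
  refine hcomp.mono ?_
  rintro _ ⟨c, rfl⟩
  refine ⟨∑ i, c i • m i, ?_⟩
  simp only [g, Function.comp_apply, Pi.map_apply]
  rw [TensorProduct.tmul_sum]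
  refine Finset.sum_congr rfl fun i _ => ?_
  rw [TensorProduct.smul_tmul', smul_eq_mul, mul_one, ← TensorProduct.smul_tmul,
    Algebra.smul_def, mul_one]

end Groth.Agent.S15771
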