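import Groth.Statements.S15774
import Mathlib
import Groth.Agent.Lib.Helper9.Hor.AdicHyp
import Groth.Agent.Lib.Helper9.Hor.AdicIdem
-- import your own Groth.Agent.* helpers here

set_option autoImplicit false
universe u
open CAlg

namespace Groth.Agent.S15774

namespace Aux

open H9Hor.AdicHyp H9Hor.AdicIdem

theorem main (A : Type u) [CommRing A] (t : A) [HenselianRing A (Ideal.span {t})]
    (hbd : ∃ N : ℕ, ∀ a : A, (∃ m : ℕ, t ^ m * a = 0) → t ^ N * a = 0)
    (e : Localization.Away (algebraMap A (AdicCompletion (Ideal.span {t}) A) t)) (he : IsIdempotentElem e) :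
    ∃! e₀ : Localization.Away t, IsIdempotentElem e₀ ∧ Localization.awayMap (algebraMap A (AdicCompletion (Ideal.span {t}) A)) t e₀ = e := by
  exact existsUnique_idem t (C := Localization.Away t)
    (K := Localization.Away (algebraMap A (AdicCompletion (Ideal.span {t}) A) t))
    (Localization.awayMap (algebraMap A (AdicCompletion (Ideal.span {t}) A)) t)
    (fun a => IsLocalization.map_eq _ a) e he

end Aux

/-- The instance A[1/t] → Â[1/t]: if (A, tA) is a Henselian pair and the t-power torsion of A is
bounded, then every idempotent of Â[1/t] (Â the t-adic completion) comes from a unique idempotent of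
A[1/t]. -/
theorem result (A : Type u) [CommRing A] (t : A) [HenselianRing A (Ideal.span {t})]
    (hbd : ∃ N : ℕ, ∀ a : A, (∃ m : ℕ, t ^ m * a = 0) → t ^ N * a = 0)
    (e : Localization.Away (algebraMap A (AdicCompletion (Ideal.span {t}) A) t)) (he : IsIdempotentElem e) :
    ∃! e₀ : Localization.Away t, IsIdempotentElem e₀ ∧ Localization.awayMap (algebraMap A (AdicCompletion (Ideal.span {t}) A)) t e₀ = e := by
  exact Aux.main A t hbd e he

end Groth.Agent.S15774
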