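import Groth.Statements.S15778
import Mathlib
import Groth.Agent.Lib.Helper9.Hor.Approx
import Groth.Agent.Lib.Helper9.Hor.RetractBC
import Groth.Agent.Lib.Helper9.Hor.LDescent
import Groth.Agent.Lib.Helper9.Hor.AdicHyp
-- import your own Groth.Agent.* helpers here

set_option autoImplicit false
universe u
open TensorProduct
open CAlg

namespace Groth.Agent.S15778

open TensorProduct
namespace Aux

open H9Hor.Approx H9Hor.AdicHyp

/-- abstract form -/
theorem main' (A : Type u) [CommRing A] (t : A) (ht : t ∈ (⊥ : Ideal A).jacobson)
    (C : Type u) [CommRing C] [Algebra A C] [IsLocalization.Away t C]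
    (K : Type u) [CommRing K] [Algebra (Ah t) K] [IsLocalization.Away (algebraMap A (Ah t) t) K]
    [Algebra C K]
    (halg : ∀ a : A, algebraMap C K (algebraMap A C a) = algebraMap (Ah t) K (algebraMap A (Ah t) a)) :
    (∀ (M N : Type u) [AddCommGroup M] [Module C M] [Module.Finite C M] [Module.Projective C M]
        [AddCommGroup N] [Module C N] [Module.Finite C N] [Module.Projective C N],
        Nonempty (K ⊗[C] M ≃ₗ[K] K ⊗[C] N) → Nonempty (M ≃ₗ[C] N)) ∧
    (∀ (M' : Type u) [AddCommGroup M'] [Module K M'] [Module.Finite K M'],
        (∃ n m : ℕ, Nonempty ((M' × (Fin n → K)) ≃ₗ[K] (Fin m → K))) →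
        ∃ (M : Type u) (_ : AddCommGroup M) (_ : Module C M), Module.Finite C M ∧
          (∃ n m : ℕ, Nonempty ((M × (Fin n → C)) ≃ₗ[C] (Fin m → C))) ∧
          Nonempty (K ⊗[C] M ≃ₗ[K] M')) := by
  have h : Hyp (algebraMap A (Ah t) t)
      (((RingEquiv.refl K : K ≃+* K) : K →+* K).comp (algebraMap C K)) :=
    hyp t _ ht (fun a => halg a)
  refine ⟨?_, ?_⟩
  · intro M N _ _ _ _ _ _ _ _ ⟨φ⟩
    exact nonempty_equiv_of_baseChange (RingEquiv.refl K) h M N φ
  · intro M' _ _ _ ⟨n, m, ⟨σ⟩⟩
    obtain ⟨M, i1, i2, hfin, hsf, hbc⟩ :=
      exists_stablyFree_descent (RingEquiv.refl K) h M' n m σ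
    exact ⟨M, i1, i2, hfin, ⟨n, m, hsf⟩, hbc⟩

theorem main (A : Type u) [CommRing A]
    (t : A) (ht : t ∈ (⊥ : Ideal A).jacobson)
    (hbd : ∃ N : ℕ, ∀ a : A, (∃ m : ℕ, t ^ m * a = 0) → t ^ N * a = 0)
    [Algebra (Localization.Away t) (Localization.Away (algebraMap A (AdicCompletion (Ideal.span {t}) A) t))]
    (halg : algebraMap (Localization.Away t) (Localization.Away (algebraMap A (AdicCompletion (Ideal.span {t}) A) t)) = Localization.awayMap (algebraMap A (AdicCompletion (Ideal.span {t}) A)) t) :
    (∀ (M N : Type u) [AddCommGroup M] [Module (Localization.Away t) M] [Module.Finite (Localization.Away t) M] [Module.Projective (Localization.Away t) M]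
        [AddCommGroup N] [Module (Localization.Away t) N] [Module.Finite (Localization.Away t) N] [Module.Projective (Localization.Away t) N],
        Nonempty ((Localization.Away (algebraMap A (AdicCompletion (Ideal.span {t}) A) t)) ⊗[Localization.Away t] M ≃ₗ[Localization.Away (algebraMap A (AdicCompletion (Ideal.span {t}) A) t)] (Localization.Away (algebraMap A (AdicCompletion (Ideal.span {t}) A) t)) ⊗[Localization.Away t] N) → Nonempty (M ≃ₗ[Localization.Away t] N)) ∧
    (∀ (M' : Type u) [AddCommGroup M'] [Module (Localization.Away (algebraMap A (AdicCompletion (Ideal.span {t}) A) t)) M'] [Module.Finite (Localization.Away (algebraMap A (AdicCompletion (Ideal.span {t}) A) t)) M'],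
        (∃ n m : ℕ, Nonempty ((M' × (Fin n → Localization.Away (algebraMap A (AdicCompletion (Ideal.span {t}) A) t))) ≃ₗ[Localization.Away (algebraMap A (AdicCompletion (Ideal.span {t}) A) t)] (Fin m → Localization.Away (algebraMap A (AdicCompletion (Ideal.span {t}) A) t)))) →
        ∃ (M : Type u) (_ : AddCommGroup M) (_ : Module (Localization.Away t) M), Module.Finite (Localization.Away t) M ∧
          (∃ n m : ℕ, Nonempty ((M × (Fin n → Localization.Away t)) ≃ₗ[Localization.Away t] (Fin m → Localization.Away t))) ∧
          Nonempty ((Localization.Away (algebraMap A (AdicCompletion (Ideal.span {t}) A) t)) ⊗[Localization.Away t] M ≃ₗ[Localization.Away (algebraMap A (AdicCompletion (Ideal.span {t}) A) t)] M')) := by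
  refine main' A t ht (Localization.Away t)
    (Localization.Away (algebraMap A (AdicCompletion (Ideal.span {t}) A) t)) ?_
  intro a
  rw [halg]
  exact IsLocalization.map_eq _ a

end Aux

/-- The instance A[1/t] → Â[1/t] for modules: let t lie in the Jacobson radical of A (a Zariski pair (A,
tA)) with bounded t-power torsion, Â the t-adic completion, and give Â[1/t] the A[1/t]-algebra
structure of the canonical map. Then finitely generated projective A[1/t]-modules isomorphic over
Â[1/t] are isomorphic, and every stably free Â[1/t]-module is extended from a stably free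
A[1/t]-module. (The published statement also asserts injectivity on H¹ for inner forms of GL_n; this
row omits that clause.) -/
theorem result (A : Type u) [CommRing A]
    (t : A) (ht : t ∈ (⊥ : Ideal A).jacobson)
    (hbd : ∃ N : ℕ, ∀ a : A, (∃ m : ℕ, t ^ m * a = 0) → t ^ N * a = 0)
    [Algebra (Localization.Away t) (Localization.Away (algebraMap A (AdicCompletion (Ideal.span {t}) A) t))]
    (halg : algebraMap (Localization.Away t) (Localization.Away (algebraMap A (AdicCompletion (Ideal.span {t}) A) t)) = Localization.awayMap (algebraMap A (AdicCompletion (Ideal.span {t}) A)) t) :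
    (∀ (M N : Type u) [AddCommGroup M] [Module (Localization.Away t) M] [Module.Finite (Localization.Away t) M] [Module.Projective (Localization.Away t) M]
        [AddCommGroup N] [Module (Localization.Away t) N] [Module.Finite (Localization.Away t) N] [Module.Projective (Localization.Away t) N],
        Nonempty ((Localization.Away (algebraMap A (AdicCompletion (Ideal.span {t}) A) t)) ⊗[Localization.Away t] M ≃ₗ[Localization.Away (algebraMap A (AdicCompletion (Ideal.span {t}) A) t)] (Localization.Away (algebraMap A (AdicCompletion (Ideal.span {t}) A) t)) ⊗[Localization.Away t] N) → Nonempty (M ≃ₗ[Localization.Away t] N)) ∧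
    (∀ (M' : Type u) [AddCommGroup M'] [Module (Localization.Away (algebraMap A (AdicCompletion (Ideal.span {t}) A) t)) M'] [Module.Finite (Localization.Away (algebraMap A (AdicCompletion (Ideal.span {t}) A) t)) M'],
        (∃ n m : ℕ, Nonempty ((M' × (Fin n → Localization.Away (algebraMap A (AdicCompletion (Ideal.span {t}) A) t))) ≃ₗ[Localization.Away (algebraMap A (AdicCompletion (Ideal.span {t}) A) t)] (Fin m → Localization.Away (algebraMap A (AdicCompletion (Ideal.span {t}) A) t)))) →
        ∃ (M : Type u) (_ : AddCommGroup M) (_ : Module (Localization.Away t) M), Module.Finite (Localization.Away t) M ∧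
          (∃ n m : ℕ, Nonempty ((M × (Fin n → Localization.Away t)) ≃ₗ[Localization.Away t] (Fin m → Localization.Away t))) ∧
          Nonempty ((Localization.Away (algebraMap A (AdicCompletion (Ideal.span {t}) A) t)) ⊗[Localization.Away t] M ≃ₗ[Localization.Away (algebraMap A (AdicCompletion (Ideal.span {t}) A) t)] M')) := by
  exact Aux.main A t ht hbd halg

end Groth.Agent.S15778
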