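import Groth.Statements.S15779
import Mathlib
import Groth.Agent.Lib.Helper9.Hor.LSeries
import Groth.Agent.Lib.Helper9.Hor.LocAbs
import Groth.Agent.Lib.Helper9.Hor.MonicLoc
import Groth.Agent.Lib.Helper7.Hensel.NonMonicFactor
-- import your own Groth.Agent.* helpers here

set_option autoImplicit false
universe u
open Polynomial
open CAlg

namespace Groth.Agent.S15779

open Polynomial
namespace Aux

open H9Hor.LSeries H9Hor.MonicLoc

theorem mem_smul_top_of_mem_map_C {R : Type*} [CommRing R] (𝔪 : Ideal R) (J : Ideal R[X])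
    (f : R[X]) (hf : f ∈ 𝔪.map (C : R →+* R[X])) :
    (Ideal.Quotient.mkₐ R J).toLinearMap f ∈ (𝔪 • ⊤ : Submodule R (R[X] ⧸ J)) := by
  rw [Ideal.mem_map_C_iff] at hf
  rw [f.as_sum_support, map_sum]
  refine Submodule.sum_mem _ fun n _ => ?_
  rw [← Polynomial.smul_X_eq_monomial, map_smul]
  exact Submodule.smul_mem_smul (hf n) Submodule.mem_top

/-- Nakayama: an ideal comaximal with the special fibre is comaximal with every monic. -/
theorem sup_span_monic_eq_top (R : Type*) [CommRing R] [IsLocalRing R] (I : Ideal R[X])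
    (hI : I ⊔ (IsLocalRing.maximalIdeal R).map (algebraMap R R[X]) = ⊤) (P : R[X])
    (hP : P.Monic) : I ⊔ Ideal.span {P} = ⊤ := by
  haveI := hP.finite_quotient
  set q : R[X] →ₗ[R] (R[X] ⧸ Ideal.span {P}) := (Ideal.Quotient.mkₐ R _).toLinearMap with hq
  have key : (⊤ : Submodule R (R[X] ⧸ Ideal.span {P})) ≤
      Submodule.map q (I.restrictScalars R) := by
    refine Submodule.le_of_le_smul_of_le_jacobson_bot (Module.Finite.fg_top)
      (IsLocalRing.maximalIdeal_le_jacobson ⊥) ?_
    intro z _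
    obtain ⟨x, rfl⟩ := Ideal.Quotient.mk_surjective z
    have h1 : (1 : R[X]) ∈ I ⊔ (IsLocalRing.maximalIdeal R).map (algebraMap R R[X]) := by
      rw [hI]; trivial
    obtain ⟨i, hi, μ, hμ, hiμ⟩ := Submodule.mem_sup.mp h1
    have hx : x = x * i + x * μ := by rw [← mul_add, hiμ, mul_one]
    have : Ideal.Quotient.mk (Ideal.span {P}) x = q (x * i) + q (x * μ) := by
      rw [← map_add, ← hx]; rfl
    rw [this]
    refine Submodule.add_mem_sup ?_ ?_
    · exact Submodule.mem_map_of_mem (I.mul_mem_left _ hi)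
    · exact mem_smul_top_of_mem_map_C _ _ _ (Ideal.mul_mem_left _ _ hμ)
  have h1 : (1 : R[X] ⧸ Ideal.span {P}) ∈ Submodule.map q (I.restrictScalars R) :=
    key Submodule.mem_top
  obtain ⟨i, hi, hi1⟩ := h1
  have h2 : i - 1 ∈ Ideal.span {P} := by
    rw [← Ideal.Quotient.eq]
    exact hi1
  rw [Ideal.eq_top_iff_one]
  have : (1 : R[X]) = i - (i - 1) := by ring
  rw [this]
  exact Ideal.sub_mem _ (Ideal.mem_sup_left hi) (Ideal.mem_sup_right h2)

theorem mem_map_C_of_map_residue_eq_zero {R : Type*} [CommRing R] [IsLocalRing R] (y : R[X])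
    (h : y.map (IsLocalRing.residue R) = 0) :
    y ∈ (IsLocalRing.maximalIdeal R).map (algebraMap R R[X]) := by
  rw [Polynomial.algebraMap_eq, Ideal.mem_map_C_iff]
  intro n
  have := congrArg (fun p => p.coeff n) h
  simp only [coeff_map, coeff_zero] at this
  exact (IsLocalRing.residue_eq_zero_iff _).mp this

theorem map_residue_eq_zero_of_mem_map_C {R : Type*} [CommRing R] [IsLocalRing R] (y : R[X])
    (h : y ∈ (IsLocalRing.maximalIdeal R).map (algebraMap R R[X])) :
    y.map (IsLocalRing.residue R) = 0 := by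
  rw [Polynomial.algebraMap_eq, Ideal.mem_map_C_iff] at h
  ext n
  simp only [coeff_map, coeff_zero]
  exact (IsLocalRing.residue_eq_zero_iff _).mpr (h n)

theorem main (R : Type u) [CommRing R]
    [HenselianLocalRing R] (L : Type u) [CommRing L] [Algebra R[X] L]
    [IsLocalization (Submonoid.closure ({f : R[X] | f.coeff 0 = 1} ∪ {X})) L]
    [Algebra R L] [IsScalarTower R R[X] L]
    (ψ : R[X] →ₐ[R] L) (hψ : ψ X * algebraMap R[X] L X = 1) :
    (∀ I : Ideal R[X], I ⊔ (IsLocalRing.maximalIdeal R).map (algebraMap R R[X]) = ⊤ →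
        (I.map ψ.toRingHom).comap ψ.toRingHom = I ∧
        I.map ψ.toRingHom ⊔ (IsLocalRing.maximalIdeal R).map (algebraMap R L) = ⊤ ∧
        Function.Bijective (Ideal.quotientMap (I.map ψ.toRingHom) ψ.toRingHom Ideal.le_comap_map)) ∧
    (∀ J : Ideal L, J ⊔ (IsLocalRing.maximalIdeal R).map (algebraMap R L) = ⊤ →
        (J.comap ψ.toRingHom).map ψ.toRingHom = J ∧
        J.comap ψ.toRingHom ⊔ (IsLocalRing.maximalIdeal R).map (algebraMap R R[X]) = ⊤) := by
  have hloc := isLocalization_monics ψ hψ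
  have hmapm : ((IsLocalRing.maximalIdeal R).map (algebraMap R R[X])).map ψ.toRingHom =
      (IsLocalRing.maximalIdeal R).map (algebraMap R L) := by
    rw [Ideal.map_map]
    congr 1
    ext r
    have := ψ.commutes r
    simpa using this
  refine ⟨fun I hI => ?_, fun J hJ => ?_⟩
  · have h := @H9Hor.LocAbs.comap_map_and_bijective R[X] L _ _ ψ.toRingHom.toAlgebra (monics R)
      hloc I (fun P hP => sup_span_monic_eq_top R I hI P hP)
    refine ⟨h.1, ?_, h.2⟩
    rw [← hmapm, ← Ideal.map_sup, hI, Ideal.map_top]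
  · refine ⟨@IsLocalization.map_under R[X] _ (monics R) L _ ψ.toRingHom.toAlgebra hloc J, ?_⟩
    have h1 : (1 : L) ∈ J ⊔ (IsLocalRing.maximalIdeal R).map (algebraMap R L) := by
      rw [hJ]; trivial
    obtain ⟨j, hj, μ, hμ, hjμ⟩ := Submodule.mem_sup.mp h1
    rw [← hmapm] at hμ
    obtain ⟨⟨y, P⟩, hyP⟩ := (@IsLocalization.mem_map_algebraMap_iff R[X] _ (monics R) L _
      ψ.toRingHom.toAlgebra hloc _ μ).mp hμ
    have hyP' : μ * ψ (P : R[X]) = ψ (y : R[X]) := hyP
    have hPm : (P : R[X]).Monic := P.2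
    have hfJ : ψ ((P : R[X]) - (y : R[X])) ∈ J := by
      have : ψ ((P : R[X]) - (y : R[X])) = j * ψ (P : R[X]) := by
        rw [map_sub, ← hyP']
        linear_combination (-ψ (P : R[X])) * hjμ
      rw [this]
      exact J.mul_mem_right _ hj
    have hfres : ((P : R[X]) - (y : R[X])).map (IsLocalRing.residue R) =
        (P : R[X]).map (IsLocalRing.residue R) * 1 := by
      rw [Polynomial.map_sub, map_residue_eq_zero_of_mem_map_C _ y.2, sub_zero, mul_one]
    obtain ⟨g, h, hfgh, hg, hgres, hhres⟩ :=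
      Groth.Agent.Helper7.Hensel.NonMonic.exists_factorization_of_henselian R
        ((P : R[X]) - (y : R[X])) ((P : R[X]).map (IsLocalRing.residue R)) 1
        (hPm.map _) isCoprime_one_right hfres
    have hhJ : ψ h ∈ J := by
      rw [hfgh, map_mul] at hfJ
      obtain ⟨u, hu⟩ := isUnit_ψ_of_monic ψ hψ g hg
      have : ψ h = (↑u⁻¹ : L) * (ψ g * ψ h) := by
        rw [← mul_assoc, ← hu, Units.inv_mul, one_mul]
      rw [this]
      exact J.mul_mem_left _ hfJ
    have hh1 : h - 1 ∈ (IsLocalRing.maximalIdeal R).map (algebraMap R R[X]) := by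
      apply mem_map_C_of_map_residue_eq_zero
      rw [Polynomial.map_sub, hhres, Polynomial.map_one, sub_self]
    rw [Ideal.eq_top_iff_one]
    have : (1 : R[X]) = h - (h - 1) := by ring
    rw [this]
    exact Ideal.sub_mem _ (Ideal.mem_sup_left hhJ) (Ideal.mem_sup_right hh1)

end Aux

/-- For a Henselian local ring (R, m), L the localisation of R[t] at the monoid generated by t and the
polynomials with constant term 1, and ψ : R[s] → L the R-algebra map with s ↦ t⁻¹, extension and
contraction along ψ are mutually inverse bijections between the ideals of R[s] comaximal with mR[s]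
and the ideals of L comaximal with mL, and R[s]/I → L/IL is bijective for every such I. -/
theorem result (R : Type u) [CommRing R]
    [HenselianLocalRing R] (L : Type u) [CommRing L] [Algebra R[X] L]
    [IsLocalization (Submonoid.closure ({f : R[X] | f.coeff 0 = 1} ∪ {X})) L]
    [Algebra R L] [IsScalarTower R R[X] L]
    (ψ : R[X] →ₐ[R] L) (hψ : ψ X * algebraMap R[X] L X = 1) :
    (∀ I : Ideal R[X], I ⊔ (IsLocalRing.maximalIdeal R).map (algebraMap R R[X]) = ⊤ →
        (I.map ψ.toRingHom).comap ψ.toRingHom = I ∧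
        I.map ψ.toRingHom ⊔ (IsLocalRing.maximalIdeal R).map (algebraMap R L) = ⊤ ∧
        Function.Bijective (Ideal.quotientMap (I.map ψ.toRingHom) ψ.toRingHom Ideal.le_comap_map)) ∧
    (∀ J : Ideal L, J ⊔ (IsLocalRing.maximalIdeal R).map (algebraMap R L) = ⊤ →
        (J.comap ψ.toRingHom).map ψ.toRingHom = J ∧
        J.comap ψ.toRingHom ⊔ (IsLocalRing.maximalIdeal R).map (algebraMap R R[X]) = ⊤) := by
  exact Aux.main R L ψ hψ

end Groth.Agent.S15779
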