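import Groth.Statements.S1578
-- import your own Groth.Agent.* helpers here
import Mathlib
import Groth.Agent.Lib.Helper7.CohStalk.Tilde

set_option autoImplicit false
universe u
open CategoryTheory CategoryTheory.Limits AlgebraicGeometry
open Divisors

namespace Groth.Agent.S1578

/-- Let M be a module over a ring A, F the associated quasi-coherent module on Spec A, and p a prime of
A. If p is an associated prime of M then p is an associated point of F; the converse holds when p is
finitely generated. -/
theorem result (A : CommRingCat.{u}) (M : ModuleCat.{u} A)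
    (p : Spec A) :
    (p.asIdeal ∈ associatedPrimes A M → Curv2.IsAssPoint (tilde M) p) ∧
    (p.asIdeal.FG → Curv2.IsAssPoint (tilde M) p → p.asIdeal ∈ associatedPrimes A M) := by
  constructor
  · intro hp
    rw [Groth.Agent.Helper7.FinType.isAssPoint_iff_isWeakAssPoint,
      Groth.Agent.Helper7.FinType.isWeakAssPoint_tilde_iff]
    exact Groth.Agent.Helper7.FinType.exists_mem_minimalPrimes_of_isAssociatedPrime p.asIdeal hp
  · intro hfg hp
    rw [Groth.Agent.Helper7.FinType.isAssPoint_iff_isWeakAssPoint,
      Groth.Agent.Helper7.FinType.isWeakAssPoint_tilde_iff] at hp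
    obtain ⟨m, hm⟩ := hp
    exact Groth.Agent.Helper7.FinType.isAssociatedPrime_of_mem_minimalPrimes_of_fg p.asIdeal hfg m hm

end Groth.Agent.S1578
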