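import Groth.Statements.S15784
import Mathlib

set_option autoImplicit false
universe u
open Neron

namespace Groth.Agent.S15784

section


variable {O : Type u} [CommRing O] [IsDomain O] [IsDiscreteValuationRing O]
  {L : Type u} [Field L] [Algebra O L] [IsFractionRing O L]

theorem one_add_unit {ϖ : O} (hϖ : ϖ ∈ IsLocalRing.maximalIdeal O) (r : O) : IsUnit (1 + ϖ * r) := by
  by_contra h
  have h1 : 1 + ϖ * r ∈ IsLocalRing.maximalIdeal O := (IsLocalRing.mem_maximalIdeal _).mpr h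
  have h2 : ϖ * r ∈ IsLocalRing.maximalIdeal O := Ideal.mul_mem_right _ _ hϖ
  have h3 : (1 : O) ∈ IsLocalRing.maximalIdeal O := by
    have := Ideal.sub_mem _ h1 h2
    simpa using this
  exact (IsLocalRing.maximalIdeal.isMaximal O).ne_top ((Ideal.eq_top_iff_one _).mpr h3)

/-- inverse of `1 + ϖ r` is again of that form -/
theorem inv_one_add {ϖ : O} (hϖ : ϖ ∈ IsLocalRing.maximalIdeal O) (r : O) :
    ∃ r' : O, (1 + ϖ * r) * (1 + ϖ * r') = 1 := by
  obtain ⟨v, hv⟩ := one_add_unit hϖ r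
  refine ⟨-r * (v⁻¹ : Oˣ), ?_⟩
  have h1 : (v : O) * (v⁻¹ : Oˣ) = 1 := by simp
  rw [← hv] 
  have : (v : O) = 1 + ϖ * r := hv
  calc (v : O) * (1 + ϖ * (-r * (v⁻¹ : Oˣ))) = v - ϖ * r * ((v : O) * (v⁻¹ : Oˣ)) := by ring
    _ = 1 := by rw [h1, this]; ring

/-- a power of the uniformizer equal to a unit forces zero exponent -/
theorem zpow_unit_zero {ϖ' : O} (hϖ' : Irreducible ϖ') (e : ℤ) (v : Oˣ)
    (h : (algebraMap O L ϖ') ^ e = algebraMap O L v) : e = 0 := by
  have hinj : Function.Injective (algebraMap O L) := IsFractionRing.injective O L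
  have hne : algebraMap O L ϖ' ≠ 0 := by
    intro h0
    exact hϖ'.ne_zero (hinj (h0.trans (map_zero _).symm))
  by_contra he
  rcases lt_or_gt_of_ne he with hlt | hgt
  · -- e < 0
    obtain ⟨k, hk⟩ : ∃ k : ℕ, e = -((k : ℤ) + 1) := ⟨(-e - 1).toNat, by omega⟩
    rw [hk, zpow_neg] at h
    have h2 : algebraMap O L (ϖ' ^ (k + 1) * v) = 1 := by
      rw [map_mul, map_pow, ← h]
      have : ((algebraMap O L ϖ') ^ ((k : ℤ) + 1)) = (algebraMap O L ϖ') ^ (k + 1) := by
        exact_mod_cast zpow_natCast (algebraMap O L ϖ') (k + 1)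
      rw [this]
      exact mul_inv_cancel₀ (pow_ne_zero _ hne)
    have h3 : ϖ' ^ (k + 1) * v = 1 := hinj (h2.trans (map_one _).symm)
    have : IsUnit ϖ' := by
      have : IsUnit (ϖ' ^ (k + 1)) := IsUnit.of_mul_eq_one _ h3
      exact (isUnit_pow_iff (Nat.succ_ne_zero k)).mp this
    exact hϖ'.not_isUnit this
  · obtain ⟨k, hk⟩ : ∃ k : ℕ, e = (k : ℤ) + 1 := ⟨(e - 1).toNat, by omega⟩
    rw [hk] at h
    have : ((algebraMap O L ϖ') ^ ((k : ℤ) + 1)) = (algebraMap O L ϖ') ^ (k + 1) := by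
      exact_mod_cast zpow_natCast (algebraMap O L ϖ') (k + 1)
    rw [this, ← map_pow] at h
    have h3 : ϖ' ^ (k + 1) = v := hinj h
    have : IsUnit ϖ' := by
      have : IsUnit (ϖ' ^ (k + 1)) := h3 ▸ v.isUnit
      exact (isUnit_pow_iff (Nat.succ_ne_zero k)).mp this
    exact hϖ'.not_isUnit this

theorem main
    (O : Type u) [CommRing O] [IsDomain O] [IsDiscreteValuationRing O]
    (L : Type u) [Field L] [Algebra O L] [IsFractionRing O L]
    (ϖ' : O) (hϖ' : Irreducible ϖ') (ϖ : O) (hϖ : ϖ ∈ IsLocalRing.maximalIdeal O)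
    (n : ℕ) (hn : 1 ≤ n) (u : Oˣ) (q : O) (hq : q = u * ϖ' ^ n)
    (m : ℕ) (hm : 1 ≤ m) (hmn : m ∣ n) :
    (∃ (w : Oˣ) (a j t : ℤ) (r : O), a = (n / m : ℕ) + t * n ∧
        (algebraMap O L w * algebraMap O L ϖ' ^ a) ^ m * algebraMap O L q ^ j = algebraMap O L (1 + ϖ * r)) ↔
      ∃ y r : O, (u : O) * (y ^ m + ϖ * r) = 1 := by
  have hinj : Function.Injective (algebraMap O L) := IsFractionRing.injective O L
  have hP : algebraMap O L ϖ' ≠ 0 := by
    intro h0
    exact hϖ'.ne_zero (hinj (h0.trans (map_zero _).symm))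
  -- units as units of L
  let φ : Oˣ →* Lˣ := Units.map (algebraMap O L : O →* L)
  have hφ : ∀ v : Oˣ, ((φ v : Lˣ) : L) = algebraMap O L v := fun v => rfl
  have hnm : (n / m) * m = n := Nat.div_mul_cancel hmn
  constructor
  · rintro ⟨w, a, j, t, r, ha, h⟩
    obtain ⟨v, hv⟩ := one_add_unit hϖ r
    -- rewrite LHS
    have hLHS : (algebraMap O L w * algebraMap O L ϖ' ^ a) ^ m * algebraMap O L q ^ j
        = ((φ (w ^ m * u ^ j) : Lˣ) : L) * (algebraMap O L ϖ') ^ ((n : ℤ) * (1 + t * m + j)) := by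
      rw [hq, map_mul, map_pow, mul_zpow, mul_pow, map_mul, Units.val_mul, map_pow, map_zpow,
        Units.val_pow_eq_pow_val, Units.val_zpow_eq_zpow_val, hφ, hφ]
      have e1 : (algebraMap O L ϖ' ^ a) ^ m = algebraMap O L ϖ' ^ (a * m) := by
        rw [← zpow_natCast, ← zpow_mul]
      have e2 : (algebraMap O L ϖ' ^ n) ^ j = algebraMap O L ϖ' ^ ((n : ℤ) * j) := by
        rw [← zpow_natCast, ← zpow_mul]
      have e3 : a * m + (n : ℤ) * j = (n : ℤ) * (1 + t * m + j) := by
        rw [ha]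
        have : ((n / m : ℕ) : ℤ) * m = n := by exact_mod_cast hnm
        linear_combination this
      rw [e1, e2, ← e3, zpow_add₀ hP]
      ring
    rw [hLHS, ← hv] at h
    -- exponent zero
    have hexp : (n : ℤ) * (1 + t * m + j) = 0 := by
      apply zpow_unit_zero (L := L) hϖ' _ ((w ^ m * u ^ j)⁻¹ * v)
      rw [Units.val_mul, map_mul, ← h, ← mul_assoc, ← hφ, ← Units.val_mul, ← map_mul]
      simp
    have hj : j = -1 - t * m := by
      have : (n : ℤ) ≠ 0 := by exact_mod_cast (by omega : n ≠ 0)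
      have := (mul_eq_zero.mp hexp).resolve_left this
      linarith
    rw [hexp, zpow_zero, mul_one] at h
    have h' : w ^ m * u ^ j = v := by
      apply Units.ext
      apply hinj
      rw [← h]
      exact (hφ _).symm
    -- y' = w * u^(-t)
    have hy' : (w * u ^ (-t)) ^ m = u * v := by
      rw [← h', hj, mul_pow, ← zpow_natCast (u ^ (-t)) m, ← zpow_mul]
      have : u ^ (-1 - t * (m : ℤ)) = u⁻¹ * u ^ (-t * (m : ℤ)) := by
        rw [show (-1 - t * (m : ℤ)) = -1 + (-t * m) by ring, zpow_add, zpow_neg_one]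
      rw [this, mul_left_comm u, mul_inv_cancel_left]
    obtain ⟨r', hr'⟩ := inv_one_add hϖ r
    refine ⟨((w * u ^ (-t))⁻¹ : Oˣ), -(u⁻¹ : Oˣ) * r', ?_⟩
    have h1 : (u : O) * (((w * u ^ (-t))⁻¹ : Oˣ) : O) ^ m = 1 + ϖ * r' := by
      have : (((w * u ^ (-t))⁻¹ : Oˣ) : O) ^ m = ((u * v)⁻¹ : Oˣ) := by
        rw [← Units.val_pow_eq_pow_val, inv_pow, hy']
      rw [this]
      have hv' : ((v⁻¹ : Oˣ) : O) = 1 + ϖ * r' := by
        have : (v : O) * (1 + ϖ * r') = 1 := by rw [hv]; exact hr'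
        have := congrArg (fun z => ((v⁻¹ : Oˣ) : O) * z) this
        simpa [← mul_assoc] using this.symm
      rw [mul_inv_rev, Units.val_mul, ← hv']
      rw [mul_comm ((v⁻¹ : Oˣ) : O), ← mul_assoc]
      simp
    have h2 : (u : O) * ((u⁻¹ : Oˣ) : O) = 1 := by simp
    calc (u : O) * ((((w * u ^ (-t))⁻¹ : Oˣ) : O) ^ m + ϖ * (-(u⁻¹ : Oˣ) * r'))
        = (u : O) * (((w * u ^ (-t))⁻¹ : Oˣ) : O) ^ m - ((u : O) * ((u⁻¹ : Oˣ) : O)) * (ϖ * r') := by ring
      _ = 1 := by rw [h1, h2]; ring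
  · rintro ⟨y, r, h⟩
    -- u y^m = 1 - ϖ u r
    have h1 : (u : O) * y ^ m = 1 + ϖ * (-(u : O) * r) := by
      linear_combination h
    have hyu : IsUnit y := by
      have : IsUnit ((u : O) * y ^ m) := h1 ▸ one_add_unit hϖ _
      have : IsUnit (y ^ m) := (IsUnit.mul_iff.mp this).2
      exact (isUnit_pow_iff (by omega)).mp this
    obtain ⟨yu, rfl⟩ := hyu
    obtain ⟨r', hr'⟩ := inv_one_add hϖ (-(u : O) * r)
    refine ⟨yu⁻¹, (n / m : ℕ), -1, 0, r', by simp, ?_⟩
    have e1 : (algebraMap O L ((yu⁻¹ : Oˣ) : O) * algebraMap O L ϖ' ^ (((n / m : ℕ)) : ℤ)) ^ m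
        = algebraMap O L ((yu⁻¹ : Oˣ) : O) ^ m * algebraMap O L ϖ' ^ n := by
      rw [mul_pow, zpow_natCast, ← pow_mul, hnm]
    rw [e1, hq, zpow_neg_one, map_mul, map_pow]
    have hu0 : algebraMap O L (u : O) ≠ 0 := by
      rw [← hφ]; exact Units.ne_zero _
    have hy0 : algebraMap O L (yu : O) ≠ 0 := by
      rw [← hφ]; exact Units.ne_zero _
    have e2 : algebraMap O L ((yu⁻¹ : Oˣ) : O) = (algebraMap O L (yu : O))⁻¹ := by
      rw [← hφ, ← hφ, map_inv, Units.val_inv_eq_inv_val]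
    rw [e2]
    have key : algebraMap O L (1 + ϖ * r') * (algebraMap O L (u : O) * algebraMap O L (yu : O) ^ m) = 1 := by
      rw [← map_pow, ← map_mul, ← map_mul, h1, mul_comm, hr', map_one]
    have hPn : algebraMap O L ϖ' ^ n ≠ 0 := pow_ne_zero _ hP
    rw [eq_inv_of_mul_eq_one_left key]
    field_simp
    rw [← mul_pow, one_div, inv_mul_cancel₀ hy0, one_pow]


end


/-- Let O be a discrete valuation ring with fraction field L and uniformizer ϖ', let ϖ be an element of
the maximal ideal of O, let q = u·ϖ'^n with u a unit of O and n ≥ 1, and let m ≥ 1 be a divisor of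
n. Then the following are equivalent: (i) there is a nonzero element z = w·ϖ'^a of L, with w a unit
of O and a an integer congruent to n/m modulo n, and an integer j such that z^m·q^j lies in 1 + ϖO;
(ii) ϖ'^n/q is an m-th power in the group of units of O/ϖO, that is, u·(y^m + ϖ·r) = 1 for some y, r
∈ O. (The published statement phrases (i) geometrically, as the existence of a point of order m in
the special fibre of the Néron model of the Weil restriction of the Tate curve with parameter q from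
L down to a subfield over which L is totally ramified with ϖ a uniformizer of the subfield, whose
image in the component group also has order m; this row states the equivalence between (i) and (ii)
that the printed argument establishes.) -/
theorem result
    (O : Type u) [CommRing O] [IsDomain O] [IsDiscreteValuationRing O]
    (L : Type u) [Field L] [Algebra O L] [IsFractionRing O L]
    (ϖ' : O) (hϖ' : Irreducible ϖ') (ϖ : O) (hϖ : ϖ ∈ IsLocalRing.maximalIdeal O)
    (n : ℕ) (hn : 1 ≤ n) (u : Oˣ) (q : O) (hq : q = u * ϖ' ^ n)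
    (m : ℕ) (hm : 1 ≤ m) (hmn : m ∣ n) :
    (∃ (w : Oˣ) (a j t : ℤ) (r : O), a = (n / m : ℕ) + t * n ∧
        (algebraMap O L w * algebraMap O L ϖ' ^ a) ^ m * algebraMap O L q ^ j = algebraMap O L (1 + ϖ * r)) ↔
      ∃ y r : O, (u : O) * (y ^ m + ϖ * r) = 1 := by
  classical
  exact main O L ϖ' hϖ' ϖ hϖ n hn u q hq m hm hmn

end Groth.Agent.S15784
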