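import Groth.Statements.S15789
import Mathlib
import Groth.Agent.Lib.Helper9.ASInv
-- import your own Groth.Agent.* helpers here

set_option autoImplicit false
universe u
open WildQuot

namespace Groth.Agent.S15789

namespace Aux
open Groth.Agent.Lib.Helper9.MonicQuot Groth.Agent.Lib.Helper9.ASFamily
open Groth.Agent.Lib.Helper9.ASAut Groth.Agent.Lib.Helper9.ASInv

theorem main (p : ℕ) [Fact p.Prime] (k : Type u) [Field k] [CharP k p] (n : ℕ)
    (a : Fin n → MvPowerSeries (Fin n) k)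
    (ha0 : ∀ i, a i ≠ 0) (ham : ∀ i, MvPowerSeries.constantCoeff (a i) = 0)
    (J : Ideal (MvPolynomial (Fin n) (MvPowerSeries (Fin n) k)))
    (hJ : J = Ideal.span (Set.range fun i : Fin n =>
        MvPolynomial.X i ^ p - MvPolynomial.C (a i ^ (p - 1)) * MvPolynomial.X i -
          MvPolynomial.C (MvPowerSeries.X i))) :
    Nat.card ((MvPolynomial (Fin n) (MvPowerSeries (Fin n) k) ⧸ J) ≃ₐ[MvPowerSeries (Fin n) k]
        (MvPolynomial (Fin n) (MvPowerSeries (Fin n) k) ⧸ J)) = p ^ n ∧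
      (∀ σ τ : (MvPolynomial (Fin n) (MvPowerSeries (Fin n) k) ⧸ J) ≃ₐ[MvPowerSeries (Fin n) k]
        (MvPolynomial (Fin n) (MvPowerSeries (Fin n) k) ⧸ J), σ * τ = τ * σ) ∧
      (∀ σ : (MvPolynomial (Fin n) (MvPowerSeries (Fin n) k) ⧸ J) ≃ₐ[MvPowerSeries (Fin n) k]
        (MvPolynomial (Fin n) (MvPowerSeries (Fin n) k) ⧸ J), σ ^ p = 1) ∧
      (∀ b : MvPolynomial (Fin n) (MvPowerSeries (Fin n) k) ⧸ J,
        (∀ σ : (MvPolynomial (Fin n) (MvPowerSeries (Fin n) k) ⧸ J) ≃ₐ[MvPowerSeries (Fin n) k]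
          (MvPolynomial (Fin n) (MvPowerSeries (Fin n) k) ⧸ J), σ b = b) ↔
          b ∈ Set.range (algebraMap (MvPowerSeries (Fin n) k)
            (MvPolynomial (Fin n) (MvPowerSeries (Fin n) k) ⧸ J))) := by
  have hJ' : J = I (gAS p a) := hJ.trans (I_gAS p a).symm
  subst hJ'
  exact ⟨card_aut p a ham ha0, aut_comm p a ham ha0, aut_pow_p p a ham ha0,
    fixed_iff p a ham ha0⟩

end Aux

open MvPolynomial in
/-- Let `k` be a field of characteristic `p > 0`, `n ≥ 2`, `R = k[[x_1, …, x_n]]`, `a_1, …, a_n ∈ R`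
nonzero with zero constant term, and `A = R[u_1, …, u_n] / (u_i ^ p - a_i ^ (p-1) u_i - x_i : i =
1..n)`. Then the group of `R`-algebra automorphisms of `A` has exactly `p ^ n` elements, is
commutative and every element has `p`-th power the identity (it is the elementary abelian group
generated by the substitutions `u_i ↦ u_i + a_i`), and an element of `A` is fixed by every
`R`-algebra automorphism if and only if it comes from `R`. (The published statement says that
`Frac(A)/Frac(R)` is Galois with group `(ℤ/pℤ)^n` and `R = A^H`; this row states it through the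
`R`-algebra automorphisms of `A`.) -/
theorem result
    (p : ℕ) [Fact p.Prime] (k : Type u) [Field k] [CharP k p] (n : ℕ) (hn : 2 ≤ n)
    (a : Fin n → MvPowerSeries (Fin n) k)
    (ha0 : ∀ i, a i ≠ 0) (ham : ∀ i, MvPowerSeries.constantCoeff (a i) = 0) :
    let R := MvPowerSeries (Fin n) k
    let I : Ideal (MvPolynomial (Fin n) R) :=
      Ideal.span (Set.range fun i : Fin n =>
        X i ^ p - C (a i ^ (p - 1)) * X i - C (MvPowerSeries.X i))
    Nat.card ((MvPolynomial (Fin n) R ⧸ I) ≃ₐ[R] (MvPolynomial (Fin n) R ⧸ I)) = p ^ n ∧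
      (∀ σ τ : (MvPolynomial (Fin n) R ⧸ I) ≃ₐ[R] (MvPolynomial (Fin n) R ⧸ I), σ * τ = τ * σ) ∧
      (∀ σ : (MvPolynomial (Fin n) R ⧸ I) ≃ₐ[R] (MvPolynomial (Fin n) R ⧸ I), σ ^ p = 1) ∧
      (∀ b : MvPolynomial (Fin n) R ⧸ I,
        (∀ σ : (MvPolynomial (Fin n) R ⧸ I) ≃ₐ[R] (MvPolynomial (Fin n) R ⧸ I), σ b = b) ↔
          b ∈ Set.range (algebraMap R (MvPolynomial (Fin n) R ⧸ I))) := by
  intro R I
  exact Aux.main p k n a ha0 ham I rfl

end Groth.Agent.S15789
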