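import Groth.Statements.S15791
import Mathlib
import Groth.Agent.Lib.Helper8.Indep

set_option autoImplicit false
universe u v
open WildQuot

namespace Groth.Agent.S15791

/-- Let `A` be a regular local ring of Krull dimension `n` with maximal ideal `m`, let a finite group
`G` of order `g` act on `A` by ring automorphisms, and let `u_1, …, u_n` be an admissible regular
system of parameters: for every choice `σ_1, …, σ_n ∈ G`, the elements `σ_1 u_1, …, σ_n u_n`
generate `m`. With `x_i = ∏_{σ ∈ G} σ u_i` the norms, the length of `A / (x_1, …, x_n)` is at most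
`g ^ n`. (The published statement is for a complete regular local ring containing a `G`-fixed field
of representatives and asserts that the length equals `g ^ n`; this row states the upper bound for
any regular local ring.) -/
theorem result
    (A : Type u) [CommRing A] [IsRegularLocalRing A]
    (G : Type v) [Group G] [Fintype G] [MulSemiringAction G A]
    (n : ℕ) (hn : ringKrullDim A = n) (u : Fin n → A)
    (hu : ∀ τ : Fin n → G,
      Ideal.span (Set.range fun i => τ i • u i) = IsLocalRing.maximalIdeal A) :
    Module.length A (A ⧸ Ideal.span (Set.range fun i => ∏ σ : G, σ • u i)) ≤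
      (Fintype.card G ^ n : ℕ) := by
  classical
  obtain ⟨ℓ, hℓ⟩ : ∃ ℓ : Fin n → List A,
      ∀ i, ℓ i = (Finset.univ : Finset G).toList.map (fun σ => σ • u i) := ⟨_, fun _ => rfl⟩
  have hprod : (fun i => ∏ σ : G, σ • u i) = fun i => (ℓ i).prod := by
    funext i
    rw [hℓ, Finset.prod_map_toList]
  have hlen : ∀ i, (ℓ i).length = Fintype.card G := by
    intro i
    rw [hℓ, List.length_map, Finset.length_toList, Finset.card_univ]
  have hmax : Module.length A (A ⧸ IsLocalRing.maximalIdeal A) = 1 := by
    rw [Module.length_eq_one_iff]
    exact (isSimpleModule_iff_isCoatom).mpr (Ideal.isMaximal_def.mp inferInstance)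
  have key := Groth.Agent.Helper8.length_quotient_prod_le (A := A) 1 ℓ (by
    intro τ hτ
    have : ∀ i, ∃ σ : G, σ • u i = τ i := by
      intro i
      have := hτ i
      rw [hℓ, List.mem_map] at this
      obtain ⟨σ, _, hσ⟩ := this
      exact ⟨σ, hσ⟩
    choose σ hσ using this
    have h1 : τ = fun i => σ i • u i := by
      funext i
      exact (hσ i).symm
    rw [h1, hu σ, hmax])
  rw [hprod]
  refine key.trans (le_of_eq ?_)
  rw [one_mul]
  simp only [hlen, Finset.prod_const, Finset.card_univ, Fintype.card_fin]
  push_cast
  rfl

end Groth.Agent.S15791
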