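import Groth.Statements.S15795
import Mathlib

set_option autoImplicit false
universe u v
open WildQuot

namespace Groth.Agent.S15795

/-- Let `A` be a regular local ring of Krull dimension `n` with maximal ideal `m`, let a finite group
`G` act on `A` by ring automorphisms inducing the identity on the residue field, and let `u_1, …,
u_n` generate `m`. Suppose that for every `σ ∈ G` and every `i`, `σ u_i ∈ (u_1, …, u_i) + m ^ 2`,
i.e. the induced linear maps of `m / m ^ 2` are upper triangular in the basis given by the `u_i`.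
Then the system `u` is admissible: for every choice `σ_1, …, σ_n ∈ G` the elements `σ_1 u_1, …, σ_n
u_n` generate `m`. (The published statement is for a complete regular local ring containing a
`G`-fixed field of representatives; this row drops completeness and asks only that `G` act trivially
on the residue field.) -/
theorem result
    (A : Type u) [CommRing A] [IsRegularLocalRing A]
    (G : Type v) [Group G] [Finite G] [MulSemiringAction G A]
    (hres : ∀ (σ : G) (a : A), σ • a - a ∈ IsLocalRing.maximalIdeal A)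
    (n : ℕ) (hn : ringKrullDim A = n) (u : Fin n → A)
    (hu : Ideal.span (Set.range u) = IsLocalRing.maximalIdeal A)
    (htri : ∀ (σ : G) (i : Fin n),
      σ • u i ∈ Ideal.span (u '' {j | j ≤ i}) ⊔ IsLocalRing.maximalIdeal A ^ 2) :
    ∀ τ : Fin n → G,
      Ideal.span (Set.range fun i => τ i • u i) = IsLocalRing.maximalIdeal A := by
  classical
  intro τ
  haveI : IsLocalRing A := inferInstance
  haveI : IsNoetherianRing A := inferInstance
  set m := IsLocalRing.maximalIdeal A with hm
  have hmfg : (m : Submodule A A).FG := IsNoetherian.noetherian m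
  have hjac : m ≤ Ideal.jacobson ⊥ := by
    rw [IsLocalRing.jacobson_eq_maximalIdeal ⊥ bot_ne_top]
  have hsq : m ^ 2 = m • m := by rw [pow_two, smul_eq_mul]
  -- the action preserves `m`
  have hGm : ∀ (σ : G) (a : A), a ∈ m → σ • a ∈ m := by
    intro σ a ha
    have := m.add_mem (hres σ a) ha
    simpa using this
  -- Step 0
  have hnotin : ∀ i, u i ∉ Ideal.span (u '' {j | j < i}) ⊔ m ^ 2 := by
    intro i hi
    set S : Set A := u '' {j | j ≠ i} with hS
    have hlt : Ideal.span (u '' {j | j < i}) ≤ Ideal.span S :=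
      Ideal.span_mono (Set.image_mono (fun j (hj : j < i) => ne_of_lt hj))
    have h1 : m ≤ Ideal.span S ⊔ m • m := by
      rw [← hsq]
      conv_lhs => rw [← hu]
      rw [Ideal.span_le]
      rintro _ ⟨j, rfl⟩
      by_cases hj : j = i
      · subst hj
        exact sup_le_sup_right hlt _ hi
      · exact Ideal.mem_sup_left (Ideal.subset_span ⟨j, hj, rfl⟩)
    have h2 : m ≤ Ideal.span S :=
      Submodule.le_of_le_smul_of_le_jacobson_bot hmfg hjac h1
    have hSle : Ideal.span S ≤ m := by
      rw [← hu]
      exact Ideal.span_mono (by rintro _ ⟨j, _, rfl⟩; exact ⟨j, rfl⟩)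
    have hmin : m ∈ (Ideal.span S).minimalPrimes := by
      refine ⟨⟨inferInstance, hSle⟩, ?_⟩
      rintro q ⟨hq, hSq⟩ _
      exact h2.trans hSq
    have hfin : S.Finite := (Set.toFinite _).image _
    have hh := Ideal.height_le_card_of_mem_minimalPrimes_span hfin hmin
    have hcard : S.ncard ≤ n - 1 := by
      calc S.ncard ≤ ({j | j ≠ i} : Set (Fin n)).ncard := Set.ncard_image_le (Set.toFinite _)
        _ = n - 1 := by
          have : ({j | j ≠ i} : Set (Fin n)) = ({i} : Set (Fin n))ᶜ := by ext j; simp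
          rw [this, Set.ncard_compl, Set.ncard_singleton, Nat.card_eq_fintype_card,
            Fintype.card_fin]
    have hn1 : 1 ≤ n := Nat.succ_le_of_lt (Nat.lt_of_le_of_lt (Nat.zero_le _) i.isLt)
    have hdim : (m.height : WithBot ℕ∞) = (n : WithBot ℕ∞) := by
      rw [hm, IsLocalRing.maximalIdeal_height_eq_ringKrullDim, hn]
    have h2 : (m.height : WithBot ℕ∞) ≤ ((n - 1 : ℕ) : WithBot ℕ∞) := by
      have : m.height ≤ ((n - 1 : ℕ) : ℕ∞) := hh.trans (by exact_mod_cast hcard)
      exact WithBot.coe_le_coe.mpr this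
    rw [hdim] at h2
    have h3 : (n : ℕ) ≤ n - 1 := by
      have h4 : ((n : ℕ∞) : WithBot ℕ∞) ≤ (((n - 1 : ℕ) : ℕ∞) : WithBot ℕ∞) := h2
      have h5 : (n : ℕ∞) ≤ ((n - 1 : ℕ) : ℕ∞) := WithBot.coe_le_coe.mp h4
      exact_mod_cast h5
    omega
  -- Step 1
  have hstab : ∀ (i : Fin n) (σ : G) (x : A),
      x ∈ Ideal.span (u '' {j | j < i}) ⊔ m ^ 2 →
        σ • x ∈ Ideal.span (u '' {j | j < i}) ⊔ m ^ 2 := by
    intro i σ
    set f : A →+* A := MulSemiringAction.toRingHom G A σ with hf
    have hmle : m ≤ Ideal.comap f m := fun a ha => hGm σ a ha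
    have hle : Ideal.span (u '' {j | j < i}) ⊔ m ^ 2 ≤
        Ideal.comap f (Ideal.span (u '' {j | j < i}) ⊔ m ^ 2) := by
      apply sup_le
      · rw [Ideal.span_le]
        rintro _ ⟨j, hj, rfl⟩
        have hj' : j < i := hj
        have := htri σ j
        have hmono : Ideal.span (u '' {k | k ≤ j}) ≤ Ideal.span (u '' {k | k < i}) := by
          refine Ideal.span_mono (Set.image_mono ?_)
          intro k (hk : k ≤ j)
          exact lt_of_le_of_lt hk hj'
        exact (sup_le_sup_right hmono (m ^ 2)) this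
      · refine le_trans ?_ (Ideal.comap_mono le_sup_right)
        exact (Ideal.pow_right_mono hmle 2).trans (Ideal.le_comap_pow f 2)
    intro x hx
    exact hle hx
  -- Step 2
  have hnotin' : ∀ (i : Fin n) (σ : G), σ • u i ∉ Ideal.span (u '' {j | j < i}) ⊔ m ^ 2 := by
    intro i σ h
    have := hstab i σ⁻¹ _ h
    rw [inv_smul_smul] at this
    exact hnotin i this
  -- Step 3
  have hstep : ∀ (i : Fin n) (σ : G),
      u i ∈ Ideal.span {σ • u i} ⊔ (Ideal.span (u '' {j | j < i}) ⊔ m ^ 2) := by
    intro i σ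
    have h := htri σ i
    have hset : u '' {j | j ≤ i} = insert (u i) (u '' {j | j < i}) := by
      ext x
      constructor
      · rintro ⟨j, hj, rfl⟩
        have hj' : j ≤ i := hj
        rcases (lt_or_eq_of_le hj') with h | h
        · exact Or.inr ⟨j, h, rfl⟩
        · exact Or.inl (by rw [h])
      · rintro (rfl | ⟨j, hj, rfl⟩)
        · exact ⟨i, le_refl i, rfl⟩
        · exact ⟨j, le_of_lt (show j < i from hj), rfl⟩
    rw [hset, Ideal.span_insert, sup_assoc] at h
    obtain ⟨y, hy, v, hv, hyv⟩ := Submodule.mem_sup.mp h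
    obtain ⟨a, rfl⟩ := Ideal.mem_span_singleton'.mp hy
    by_cases ha : a ∈ m
    · exfalso
      apply hnotin' i σ
      rw [← hyv]
      refine Ideal.add_mem _ (Ideal.mem_sup_right ?_) hv
      rw [pow_two]
      have hui : u i ∈ m := by
        rw [← hu]
        exact Ideal.subset_span ⟨i, rfl⟩
      exact Ideal.mul_mem_mul ha hui
    · have hunit : IsUnit a := by
        by_contra hna
        exact ha ((IsLocalRing.mem_maximalIdeal a).mpr hna)
      obtain ⟨b, rfl⟩ := hunit
      have : u i = (↑b⁻¹ : A) * (σ • u i) - (↑b⁻¹ : A) * v := by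
        rw [← hyv, mul_add, ← mul_assoc, Units.inv_mul, one_mul, add_sub_cancel_right]
      have hmem : (↑b⁻¹ : A) * (σ • u i) - (↑b⁻¹ : A) * v ∈
          Ideal.span {σ • u i} ⊔ (Ideal.span (u '' {j | j < i}) ⊔ m ^ 2) := by
        refine Ideal.sub_mem _ (Ideal.mem_sup_left ?_) (Ideal.mem_sup_right ?_)
        · exact Ideal.mul_mem_left _ _ (Ideal.subset_span rfl)
        · exact Ideal.mul_mem_left _ _ hv
      rwa [← this] at hmem
  -- Step 4
  set J : Ideal A := Ideal.span (Set.range fun i => τ i • u i) with hJ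
  have hind : ∀ (k : ℕ) (i : Fin n), (i : ℕ) = k → u i ∈ J ⊔ m ^ 2 := by
    intro k
    induction k using Nat.strong_induction_on with
    | _ k ih =>
      intro i hik
      have h := hstep i (τ i)
      have hle : Ideal.span {τ i • u i} ⊔ (Ideal.span (u '' {j | j < i}) ⊔ m ^ 2) ≤ J ⊔ m ^ 2 := by
        refine sup_le ?_ (sup_le ?_ le_sup_right)
        · rw [Ideal.span_le]
          rintro _ rfl
          exact Ideal.mem_sup_left (Ideal.subset_span ⟨i, rfl⟩)
        · rw [Ideal.span_le]
          rintro _ ⟨j, hj, rfl⟩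
          have hj' : j < i := hj
          exact ih j (by rw [← hik]; exact hj') j rfl
      exact hle h
  have hJle : J ≤ m := by
    rw [hJ, Ideal.span_le]
    rintro _ ⟨i, rfl⟩
    apply hGm
    rw [← hu]
    exact Ideal.subset_span ⟨i, rfl⟩
  have hmle : m ≤ J ⊔ m • m := by
    rw [← hsq]
    conv_lhs => rw [← hu]
    rw [Ideal.span_le]
    rintro _ ⟨i, rfl⟩
    exact hind _ i rfl
  exact le_antisymm hJle (Submodule.le_of_le_smul_of_le_jacobson_bot hmfg hjac hmle)

end Groth.Agent.S15795
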