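import Groth.Statements.S15792
import Mathlib
import Groth.Agent.Lib.Helper9.PGroupFlag
import Groth.Agent.S15795
-- import your own Groth.Agent.* helpers here

set_option autoImplicit false
universe u v
open WildQuot

namespace Groth.Agent.S15792

namespace Aux

open IsLocalRing Module

section
variable {A : Type u} [CommRing A] [IsLocalRing A] {G : Type v} [Group G] [MulSemiringAction G A]

lemma smul_mem_max (hres : ∀ (σ : G) (a : A), σ • a - a ∈ maximalIdeal A) (σ : G) {x : A}
    (hx : x ∈ maximalIdeal A) : σ • x ∈ maximalIdeal A := by
  have := Ideal.add_mem _ (hres σ x) hx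
  simpa using this

/-- the `A`-linear map `m → m/m²`, `x ↦ [σ x]` -/
noncomputable def gmap (hres : ∀ (σ : G) (a : A), σ • a - a ∈ maximalIdeal A) (σ : G) :
    maximalIdeal A →ₗ[A] (maximalIdeal A).Cotangent where
  toFun x := (maximalIdeal A).toCotangent ⟨σ • x.1, smul_mem_max hres σ x.2⟩
  map_add' x y := by
    rw [← map_add]
    congr 1
    apply Subtype.ext
    simp [smul_add]
  map_smul' a x := by
    rw [RingHom.id_apply, ← map_smul, Ideal.toCotangent_eq]
    simp only [Submodule.coe_smul, smul_eq_mul, smul_mul']
    have : σ • a * σ • (x : A) - a * σ • (x : A) = (σ • a - a) * σ • (x : A) := by ring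
    rw [this, pow_two]
    exact Ideal.mul_mem_mul (hres σ a) (smul_mem_max hres σ x.2)

lemma gmap_mul (hres : ∀ (σ : G) (a : A), σ • a - a ∈ maximalIdeal A) (σ : G)
    (x y : maximalIdeal A) : gmap hres σ (x * y) = 0 := by
  show (maximalIdeal A).toCotangent ⟨σ • ((x : A) * (y : A)), _⟩ = 0
  rw [Ideal.toCotangent_eq_zero]
  simp only [smul_mul', pow_two]
  exact Ideal.mul_mem_mul (smul_mem_max hres σ x.2) (smul_mem_max hres σ y.2)

/-- the representation on the cotangent space -/
noncomputable def rep (hres : ∀ (σ : G) (a : A), σ • a - a ∈ maximalIdeal A) :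
    Representation (ResidueField A) G (CotangentSpace A) where
  toFun σ := LinearMap.extendScalarsOfSurjective (R := A) (S := ResidueField A)
    IsLocalRing.residue_surjective (Ideal.Cotangent.lift (gmap hres σ) (gmap_mul hres σ))
  map_one' := by
    apply LinearMap.ext
    intro v
    obtain ⟨x, rfl⟩ := (maximalIdeal A).toCotangent_surjective v
    show (maximalIdeal A).toCotangent ⟨(1 : G) • (x : A), _⟩ = (maximalIdeal A).toCotangent x
    congr 1
    apply Subtype.ext
    simp
  map_mul' σ τ := by
    apply LinearMap.ext
    intro v
    obtain ⟨x, rfl⟩ := (maximalIdeal A).toCotangent_surjective v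
    show (maximalIdeal A).toCotangent ⟨(σ * τ) • (x : A), _⟩ =
      (maximalIdeal A).toCotangent ⟨σ • (τ • (x : A)), _⟩
    congr 1
    apply Subtype.ext
    simp [mul_smul]

lemma rep_apply (hres : ∀ (σ : G) (a : A), σ • a - a ∈ maximalIdeal A) (σ : G)
    (x : maximalIdeal A) :
    rep hres σ ((maximalIdeal A).toCotangent x) =
      (maximalIdeal A).toCotangent ⟨σ • x.1, smul_mem_max hres σ x.2⟩ := rfl

end

theorem main
    (p : ℕ) [Fact p.Prime] (A : Type u) [CommRing A] [IsRegularLocalRing A] [CharP A p]
    (G : Type v) [Group G] [Finite G] [MulSemiringAction G A] (hG : IsPGroup p G)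
    (hres : ∀ (σ : G) (a : A), σ • a - a ∈ IsLocalRing.maximalIdeal A)
    (n : ℕ) (hn : ringKrullDim A = n) :
    ∃ u : Fin n → A, ∀ τ : Fin n → G,
      Ideal.span (Set.range fun i => τ i • u i) = IsLocalRing.maximalIdeal A := by
  classical
  -- characteristic of the residue field
  haveI : CharP (ResidueField A) p := by
    rw [CharP.charP_iff_prime_eq_zero (Fact.out : p.Prime)]
    have : ((p : A) : A) = 0 := CharP.cast_eq_zero A p
    have h2 := congrArg (IsLocalRing.residue A) this
    rw [map_natCast, map_zero] at h2
    exact h2
  have hfin : finrank (ResidueField A) (CotangentSpace A) = n := by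
    have := (IsRegularLocalRing.iff_finrank_cotangentSpace A).mp inferInstance
    rw [hn] at this
    exact_mod_cast this
  obtain ⟨v, hv, hvtop, htri⟩ := Groth.Agent.Lib.Helper9.PGroupFlag.exists_flag hG (rep hres)
  subst hfin
  choose u' hu' using fun i => (maximalIdeal A).toCotangent_surjective (v i)
  have hrange : (maximalIdeal A).toCotangent '' (Set.range u') = Set.range v := by
    rw [← Set.range_comp]
    congr 1
    funext i
    exact hu' i
  have hspan' : Submodule.span A (Set.range u') = ⊤ := by
    rw [← CotangentSpace.span_image_eq_top_iff, hrange]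
    exact hvtop
  have hmap : ∀ S : Set (Fin (finrank (ResidueField A) (CotangentSpace A))),
      Submodule.map (maximalIdeal A).subtype (Submodule.span A (u' '' S)) =
        Ideal.span ((fun i => (u' i : A)) '' S) := by
    intro S
    rw [Submodule.map_span, ← Set.image_comp]
    rfl
  refine ⟨fun i => (u' i : A), ?_⟩
  apply Groth.Agent.S15795.result A G hres _ hn
  · -- generation
    have := hmap Set.univ
    rw [Set.image_univ, Set.image_univ, hspan', Submodule.map_top, Submodule.range_subtype] at this
    exact this.symm
  · intro σ i
    have h1 := htri σ i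
    rw [← hu' i, rep_apply, ← map_sub] at h1
    have h2 : v '' {j | j < i} = (maximalIdeal A).toCotangent '' (u' '' {j | j < i}) := by
      rw [← Set.image_comp]
      apply Set.image_congr
      intro j _
      exact (hu' j).symm
    rw [h2] at h1
    have h3 : (maximalIdeal A).toCotangent (⟨σ • (u' i : A), smul_mem_max hres σ (u' i).2⟩ - u' i) ∈
        Submodule.span A ((maximalIdeal A).toCotangent '' (u' '' {j | j < i})) := by
      rw [← Submodule.restrictScalars_span A (ResidueField A) IsLocalRing.residue_surjective]
      exact h1
    rw [← Submodule.map_span] at h3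
    obtain ⟨y, hy, hyeq⟩ := h3
    rw [Ideal.toCotangent_eq] at hyeq
    have hy' : (y : A) ∈ Ideal.span ((fun i => (u' i : A)) '' {j | j < i}) := by
      rw [← hmap]
      exact ⟨y, hy, rfl⟩
    have hy'' : (y : A) ∈ Ideal.span ((fun i => (u' i : A)) '' {j | j ≤ i}) := by
      refine Ideal.span_mono ?_ hy'
      apply Set.image_mono
      intro j hj
      have hj' : j < i := hj
      exact le_of_lt hj'
    have hui : (u' i : A) ∈ Ideal.span ((fun i => (u' i : A)) '' {j | j ≤ i}) :=
      Ideal.subset_span ⟨i, (le_refl i : i ≤ i), rfl⟩
    have hdecomp : σ • (u' i : A) = ((u' i : A) + (y : A)) +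
        ((y : A) - (σ • (u' i : A) - (u' i : A))) * (-1) := by ring
    rw [hdecomp]
    apply Submodule.add_mem_sup
    · exact Ideal.add_mem _ hui hy''
    · apply Ideal.mul_mem_right
      simpa using hyeq

end Aux

/-- Let `A` be a regular local ring of Krull dimension `n` and prime characteristic `p`, and let a
finite `p`-group `G` act on `A` by ring automorphisms inducing the identity on the residue field.
Then there is an admissible regular system of parameters: `u_1, …, u_n ∈ A` such that for every
choice `σ_1, …, σ_n ∈ G` the elements `σ_1 u_1, …, σ_n u_n` generate the maximal ideal. (The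
published statement is for a complete regular local ring containing a field of representatives fixed
by `G`; this row drops completeness and asks only that `G` act trivially on the residue field.) -/
theorem result
    (p : ℕ) [Fact p.Prime] (A : Type u) [CommRing A] [IsRegularLocalRing A] [CharP A p]
    (G : Type v) [Group G] [Finite G] [MulSemiringAction G A] (hG : IsPGroup p G)
    (hres : ∀ (σ : G) (a : A), σ • a - a ∈ IsLocalRing.maximalIdeal A)
    (n : ℕ) (hn : ringKrullDim A = n) :
    ∃ u : Fin n → A, ∀ τ : Fin n → G,
      Ideal.span (Set.range fun i => τ i • u i) = IsLocalRing.maximalIdeal A := by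
  exact Aux.main p A G hG hres n hn

end Groth.Agent.S15792
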