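import Groth.Statements.S15797
import Mathlib
import Groth.Agent.Lib.Helper8.TC2
import Groth.Agent.Lib.Helper8.FlatReg5
-- import your own Groth.Agent.* helpers here

set_option autoImplicit false
universe u v
open WildQuot

namespace Groth.Agent.S15797

open IsLocalRing LocCoh
namespace Aux

section alg
variable {R : Type u} [CommRing R]

lemma len_add (J : Ideal R) (a b : R) (hreg : ∀ r, r * a ∈ J → r ∈ J) :
    Module.length R (R ⧸ (J ⊔ Ideal.span {a * b})) =
      Module.length R (R ⧸ (J ⊔ Ideal.span {b})) + Module.length R (R ⧸ (J ⊔ Ideal.span {a})) := by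
  have h1 : (J ⊔ Ideal.span {b}) ≤ Submodule.comap (LinearMap.mulLeft R a) (J ⊔ Ideal.span {a * b}) := by
    intro x hx
    rw [Submodule.mem_comap, LinearMap.mulLeft_apply]
    obtain ⟨j, hj, y, hy, rfl⟩ := Submodule.mem_sup.mp hx
    obtain ⟨c, rfl⟩ := Ideal.mem_span_singleton'.mp hy
    rw [mul_add]
    refine Submodule.add_mem_sup (J.mul_mem_left _ hj) ?_
    rw [Ideal.mem_span_singleton']
    exact ⟨c, by ring⟩
  have h2 : (J ⊔ Ideal.span {a * b}) ≤ Submodule.comap (LinearMap.id : R →ₗ[R] R) (J ⊔ Ideal.span {a}) := by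
    intro x hx
    rw [Submodule.mem_comap, LinearMap.id_apply]
    obtain ⟨j, hj, y, hy, rfl⟩ := Submodule.mem_sup.mp hx
    obtain ⟨c, rfl⟩ := Ideal.mem_span_singleton'.mp hy
    refine Submodule.add_mem_sup hj ?_
    rw [Ideal.mem_span_singleton']
    exact ⟨c * b, by ring⟩
  refine Module.length_eq_add_of_exact (Submodule.mapQ _ _ _ h1) (Submodule.mapQ _ _ _ h2) ?_ ?_ ?_
  · rw [← LinearMap.ker_eq_bot, LinearMap.ker_eq_bot']
    intro x hx
    obtain ⟨x, rfl⟩ := Submodule.Quotient.mk_surjective _ x
    rw [Submodule.mapQ_apply, LinearMap.mulLeft_apply, Submodule.Quotient.mk_eq_zero] at hx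
    rw [Submodule.Quotient.mk_eq_zero]
    obtain ⟨j, hj, y, hy, hxy⟩ := Submodule.mem_sup.mp hx
    obtain ⟨c, rfl⟩ := Ideal.mem_span_singleton'.mp hy
    have h3 : (x - c * b) * a ∈ J := by
      have : (x - c * b) * a = j := by linear_combination -hxy
      rw [this]; exact hj
    have h4 := hreg _ h3
    have : x = (x - c * b) + c * b := by ring
    rw [this]
    refine Submodule.add_mem_sup h4 ?_
    rw [Ideal.mem_span_singleton']
    exact ⟨c, rfl⟩
  · intro y
    obtain ⟨y, rfl⟩ := Submodule.Quotient.mk_surjective _ y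
    exact ⟨Submodule.Quotient.mk y, by rw [Submodule.mapQ_apply, LinearMap.id_apply]⟩
  · intro y
    obtain ⟨y, rfl⟩ := Submodule.Quotient.mk_surjective _ y
    rw [Submodule.mapQ_apply, LinearMap.id_apply, Submodule.Quotient.mk_eq_zero]
    constructor
    · intro hy
      obtain ⟨j, hj, z, hz, rfl⟩ := Submodule.mem_sup.mp hy
      obtain ⟨c, rfl⟩ := Ideal.mem_span_singleton'.mp hz
      refine ⟨Submodule.Quotient.mk c, ?_⟩
      rw [Submodule.mapQ_apply, LinearMap.mulLeft_apply, eq_comm, ← sub_eq_zero,
        ← Submodule.Quotient.mk_sub, Submodule.Quotient.mk_eq_zero]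
      have : j + c * a - a * c = j := by ring
      rw [this]
      exact Submodule.mem_sup_left hj
    · rintro ⟨x, hx⟩
      obtain ⟨x, rfl⟩ := Submodule.Quotient.mk_surjective _ x
      rw [Submodule.mapQ_apply, LinearMap.mulLeft_apply, ← sub_eq_zero,
        ← Submodule.Quotient.mk_sub, Submodule.Quotient.mk_eq_zero] at hx
      obtain ⟨j, hj, z, hz, hxy⟩ := Submodule.mem_sup.mp hx
      obtain ⟨c, rfl⟩ := Ideal.mem_span_singleton'.mp hz
      have : y = (-j) + (x - c * b) * a := by linear_combination hxy
      rw [this]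
      refine Submodule.add_mem_sup (J.neg_mem hj) ?_
      rw [Ideal.mem_span_singleton']
      exact ⟨_, rfl⟩

lemma rad_mul (J : Ideal R) (a b : R) (m : Ideal R)
    (ha : (J ⊔ Ideal.span {a}).radical = m) (hb : (J ⊔ Ideal.span {b}).radical = m) :
    (J ⊔ Ideal.span {a * b}).radical = m := by
  apply le_antisymm
  · rw [← ha]
    apply Ideal.radical_mono
    refine sup_le le_sup_left ?_
    rw [Ideal.span_singleton_le_iff_mem]
    apply Submodule.mem_sup_right
    rw [Ideal.mem_span_singleton']
    exact ⟨b, by ring⟩
  · have h1 : (J ⊔ Ideal.span {a}) * (J ⊔ Ideal.span {b}) ≤ J ⊔ Ideal.span {a * b} := by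
      rw [Ideal.mul_le]
      intro x hx y hy
      obtain ⟨j, hj, z, hz, rfl⟩ := Submodule.mem_sup.mp hx
      obtain ⟨c, rfl⟩ := Ideal.mem_span_singleton'.mp hz
      obtain ⟨j', hj', z', hz', rfl⟩ := Submodule.mem_sup.mp hy
      obtain ⟨c', rfl⟩ := Ideal.mem_span_singleton'.mp hz'
      have : (j + c * a) * (j' + c' * b) = (j * (j' + c' * b) + c * a * j') + (c * c') * (a * b) := by ring
      rw [this]
      refine Submodule.add_mem_sup (J.add_mem (J.mul_mem_right _ hj) (J.mul_mem_left _ hj')) ?_
      rw [Ideal.mem_span_singleton']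
      exact ⟨_, rfl⟩
    have h2 := Ideal.radical_mono h1
    rw [Ideal.radical_mul, ha, hb, inf_idem] at h2
    exact h2

end alg

section CM
variable {R : Type u} [CommRing R]

lemma ofList_ofFn' {m : ℕ} (g : Fin m → R) :
    Ideal.ofList (List.ofFn g) = Ideal.span (Set.range g) := by
  unfold Ideal.ofList
  congr 1
  ext x
  simp [List.mem_ofFn]

lemma range_update {m : ℕ} (f : Fin (m+1) → R) (i : Fin (m+1)) (a : R) :
    Ideal.span (Set.range (Function.update f i a)) =
      Ideal.ofList (List.ofFn (f ∘ i.succAbove)) ⊔ Ideal.span {a} := by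
  rw [ofList_ofFn', ← Ideal.span_union]
  congr 1
  ext x
  constructor
  · rintro ⟨j, rfl⟩
    by_cases hj : j = i
    · subst hj
      right
      simp
    · left
      obtain ⟨k, rfl⟩ := Fin.exists_succAbove_eq hj
      exact ⟨k, by simp [Function.update_of_ne (Fin.succAbove_ne i k)]⟩
  · rintro (⟨k, rfl⟩ | hx)
    · exact ⟨i.succAbove k, by simp [Function.update_of_ne (Fin.succAbove_ne i k)]⟩
    · rw [Set.mem_singleton_iff] at hx
      subst hx
      exact ⟨i, by simp⟩

variable [IsCohenMacaulayLocalRing R]

lemma add_step (n : ℕ) (hdim : ringKrullDim R = n) (f : Fin n → R) (i : Fin n) (a b : R)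
    (ha : (Ideal.span (Set.range (Function.update f i a))).radical = maximalIdeal R)
    (hb : (Ideal.span (Set.range (Function.update f i b))).radical = maximalIdeal R) :
    (Ideal.span (Set.range (Function.update f i (a * b)))).radical = maximalIdeal R ∧
    Module.length R (R ⧸ Ideal.span (Set.range (Function.update f i (a * b)))) =
      Module.length R (R ⧸ Ideal.span (Set.range (Function.update f i b))) +
        Module.length R (R ⧸ Ideal.span (Set.range (Function.update f i a))) := by
  obtain ⟨m, rfl⟩ : ∃ m, n = m + 1 := ⟨n - 1, by have := i.pos; omega⟩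
  rw [range_update] at ha hb ⊢
  rw [range_update, range_update]
  refine ⟨rad_mul _ a b _ ha hb, len_add _ a b ?_⟩
  intro r hr
  exact Groth.Agent.Helper8.TC.mem_ofList_of_mul_mem (m + 1) hdim _ (by simp) a ha r hr

theorem main_lists (n : ℕ) (hdim : ringKrullDim R = n) :
    ∀ (N : ℕ) (L : Fin n → List R), (∑ i, (L i).length = N) → (∀ i, L i ≠ []) →
    (∀ τ : Fin n → R, (∀ i, τ i ∈ L i) →
      (Ideal.span (Set.range τ)).radical = maximalIdeal R) →
    (Ideal.span (Set.range fun i => (L i).prod)).radical = maximalIdeal R ∧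
    ((∏ i, (L i).length : ℕ) : ℕ∞) ≤
      Module.length R (R ⧸ Ideal.span (Set.range fun i => (L i).prod)) := by
  intro N
  induction N using Nat.strong_induction_on with
  | _ N IH =>
  intro L hN hne hsop
  by_cases h : ∀ i, (L i).length ≤ 1
  · have h1 : ∀ i, ∃ x, L i = [x] := by
      intro i
      rw [← List.length_eq_one_iff]
      have := List.length_pos_of_ne_nil (hne i)
      have := h i
      omega
    choose x hx using h1
    have hf : (fun i => (L i).prod) = x := by
      funext i; rw [hx i]; simp
    have hs := hsop x (fun i => by rw [hx i]; simp)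
    rw [hf]
    refine ⟨hs, ?_⟩
    have hP : (∏ i, (L i).length) = 1 := by
      apply Finset.prod_eq_one
      intro i _
      rw [hx i]; simp
    rw [hP, Nat.cast_one, Order.one_le_iff_pos, Module.length_pos_iff,
      Ideal.Quotient.nontrivial_iff]
    intro htop
    rw [htop, Ideal.radical_top] at hs
    exact (IsLocalRing.maximalIdeal.isMaximal R).ne_top hs.symm
  · push Not at h
    obtain ⟨i, hi⟩ := h
    obtain ⟨a, rest, hL⟩ : ∃ a rest, L i = a :: rest := by
      cases hLi : L i with
      | nil => exact absurd hLi (hne i)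
      | cons a rest => exact ⟨a, rest, rfl⟩
    have hrest : rest ≠ [] := by
      rintro rfl
      rw [hL] at hi
      simp at hi
    have hrl : 1 ≤ rest.length := List.length_pos_of_ne_nil hrest
    set f : Fin n → R := fun j => (L j).prod with hf
    set ℓ : Fin n → ℕ := fun j => (L j).length with hℓ
    have hℓi : ℓ i = rest.length + 1 := by rw [hℓ]; simp only; rw [hL]; simp
    have hℓup : ∀ (l : List R), (fun j => (Function.update L i l j).length) =
        Function.update ℓ i l.length := by
      intro l
      funext j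
      by_cases hj : j = i
      · subst hj; simp
      · simp [Function.update_of_ne hj, hℓ]
    have hfup : ∀ (l : List R), (fun j => (Function.update L i l j).prod) =
        Function.update f i l.prod := by
      intro l
      funext j
      by_cases hj : j = i
      · subst hj; simp
      · simp [Function.update_of_ne hj, hf]
    have hsum : ∀ c : ℕ, ∑ j, Function.update ℓ i c j = c + ∑ j ∈ Finset.univ \ {i}, ℓ j :=
      fun c => Finset.sum_update_of_mem (Finset.mem_univ i) ℓ c
    have hprod : ∀ c : ℕ, ∏ j, Function.update ℓ i c j = c * ∏ j ∈ Finset.univ \ {i}, ℓ j :=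
      fun c => Finset.prod_update_of_mem (Finset.mem_univ i) ℓ c
    have hN' : N = (rest.length + 1) + ∑ j ∈ Finset.univ \ {i}, ℓ j := by
      rw [← hN, ← hℓi, ← hsum, Function.update_eq_self]
    have hP' : (∏ j, ℓ j) = (rest.length + 1) * ∏ j ∈ Finset.univ \ {i}, ℓ j := by
      rw [← hℓi, ← hprod, Function.update_eq_self]
    -- the two sub-families
    have hmem : ∀ (l : List R), (∀ y ∈ l, y ∈ L i) → ∀ τ : Fin n → R,
        (∀ j, τ j ∈ Function.update L i l j) → ∀ j, τ j ∈ L j := by
      intro l hl τ hτ j
      have := hτ j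
      by_cases hj : j = i
      · subst hj
        rw [Function.update_self] at this
        exact hl _ this
      · rwa [Function.update_of_ne hj] at this
    have hne' : ∀ (l : List R), l ≠ [] → ∀ j, Function.update L i l j ≠ [] := by
      intro l hl j
      by_cases hj : j = i
      · subst hj; rwa [Function.update_self]
      · rw [Function.update_of_ne hj]; exact hne j
    have IH1 := IH (1 + ∑ j ∈ Finset.univ \ {i}, ℓ j) (by omega) (Function.update L i [a])
      (by rw [hℓup, hsum]; rfl) (hne' _ (by simp))
      (fun τ hτ => hsop τ (hmem [a] (by intro y hy; rw [hL]; simp at hy; simp [hy]) τ hτ))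
    have IH2 := IH (rest.length + ∑ j ∈ Finset.univ \ {i}, ℓ j) (by omega) (Function.update L i rest)
      (by rw [hℓup, hsum]) (hne' _ hrest)
      (fun τ hτ => hsop τ (hmem rest (by intro y hy; rw [hL]; simp [hy]) τ hτ))
    have e1 : [a].prod = a := by simp
    have e2 : [a].length = 1 := by simp
    rw [hfup, hℓup, hprod] at IH1 IH2
    rw [e1, e2, one_mul] at IH1
    have hfi : f = Function.update f i (a * rest.prod) := by
      rw [Function.eq_update_iff]
      refine ⟨?_, fun _ _ => rfl⟩
      rw [hf]; simp only; rw [hL, List.prod_cons]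
    obtain ⟨hr, hlen⟩ := add_step n hdim f i a rest.prod IH1.1 IH2.1
    rw [← hfi] at hr hlen
    refine ⟨hr, ?_⟩
    rw [hP', hlen]
    push_cast
    rw [add_mul, one_mul]
    have h1 := IH1.2
    have h2 := IH2.2
    push_cast at h1 h2
    exact add_le_add h2 h1

end CM

theorem main (A : Type u) [CommRing A] [IsRegularLocalRing A]
    (G : Type v) [Group G] [Fintype G] [MulSemiringAction G A]
    (n : ℕ) (hn : ringKrullDim A = n) (u : Fin n → A)
    (hu : Ideal.span (Set.range u) = IsLocalRing.maximalIdeal A)
    (hwa : ∀ τ : Fin n → G,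
      IsLocalRing.maximalIdeal A ≤ (Ideal.span (Set.range fun i => τ i • u i)).radical) :
    ((Fintype.card G ^ n : ℕ) : ℕ∞) ≤
      Module.length A (A ⧸ Ideal.span (Set.range fun i => ∏ σ : G, σ • u i)) := by
  have : IsCohenMacaulayLocalRing A :=
    Groth.Agent.Helper8.FlatReg.isCohenMacaulayLocalRing_of_isRegularLocalRing A
  let L : Fin n → List A := fun i => (Finset.univ : Finset G).toList.map (fun σ => σ • u i)
  have hlen : ∀ i, (L i).length = Fintype.card G := by intro i; simp [L]
  have hprod : (fun i => (L i).prod) = fun i => ∏ σ : G, σ • u i := by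
    funext i
    exact Finset.prod_map_toList _ _
  have hmem : ∀ (σ : G) (x : A), x ∈ maximalIdeal A → σ • x ∈ maximalIdeal A := by
    intro σ x hx
    rw [IsLocalRing.mem_maximalIdeal, mem_nonunits_iff] at hx ⊢
    intro hunit
    apply hx
    have := hunit.map (MulSemiringAction.toRingHom G A σ⁻¹)
    simpa using this
  have hum : ∀ i, u i ∈ maximalIdeal A := fun i => hu ▸ Ideal.subset_span ⟨i, rfl⟩
  have key := main_lists n hn _ L rfl (fun i h => by
    have h1 := hlen i
    rw [h, List.length_nil] at h1
    exact (Fintype.card_pos (α := G)).ne h1) (fun τ hτ => by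
    have h1 : ∀ i, ∃ σ : G, σ • u i = τ i := by
      intro i
      have := hτ i
      simp only [L, List.mem_map, Finset.mem_toList, Finset.mem_univ, true_and] at this
      exact this
    choose σ hσ using h1
    have hτ' : τ = fun i => σ i • u i := by funext i; exact (hσ i).symm
    rw [hτ']
    apply le_antisymm
    · rw [(IsLocalRing.maximalIdeal.isMaximal A).isPrime.radical_le_iff, Ideal.span_le]
      rintro _ ⟨i, rfl⟩
      exact hmem _ _ (hum i)
    · exact hwa σ)
  have h2 := key.2
  rw [hprod] at h2
  have h3 : (∏ i, (L i).length) = Fintype.card G ^ n := by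
    simp [hlen]
  rw [h3] at h2
  exact h2

end Aux

/-- Let `A` be a regular local ring of Krull dimension `n` with maximal ideal `m` generated by `u_1, …,
u_n`, let a finite group `G` of order `g` act on `A` by ring automorphisms, and suppose `u` is
weakly admissible: for every choice `σ_1, …, σ_n ∈ G` the radical of `(σ_1 u_1, …, σ_n u_n)`
contains `m`. With `x_i = ∏_{σ ∈ G} σ u_i` the norms, the length of `A / (x_1, …, x_n)` is at least
`g ^ n` (so the finite flat map from `k[[x_1, …, x_n]]` has degree at least `g ^ n`). (The published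
statement is for a complete regular local ring containing a `G`-fixed field of representatives; this
row does not assume those.) -/
theorem result
    (A : Type u) [CommRing A] [IsRegularLocalRing A]
    (G : Type v) [Group G] [Fintype G] [MulSemiringAction G A]
    (n : ℕ) (hn : ringKrullDim A = n) (u : Fin n → A)
    (hu : Ideal.span (Set.range u) = IsLocalRing.maximalIdeal A)
    (hwa : ∀ τ : Fin n → G,
      IsLocalRing.maximalIdeal A ≤ (Ideal.span (Set.range fun i => τ i • u i)).radical) :
    ((Fintype.card G ^ n : ℕ) : ℕ∞) ≤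
      Module.length A (A ⧸ Ideal.span (Set.range fun i => ∏ σ : G, σ • u i)) := by
  exact Aux.main A G n hn u hu hwa

end Groth.Agent.S15797
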