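import Groth.Statements.S15805
import Mathlib
import Groth.Agent.Lib.Helper9.ASFrob
-- import your own Groth.Agent.* helpers here

set_option autoImplicit false
universe u v
open WildQuot

namespace Groth.Agent.S15805

namespace Aux
open Groth.Agent.Lib.Helper9.MonicQuot Groth.Agent.Lib.Helper9.ASFamily
open Groth.Agent.Lib.Helper9.ASAut Groth.Agent.Lib.Helper9.ASFrob

theorem main (p : ℕ) [Fact p.Prime] (k : Type u) [Field k] [CharP k p] (n : ℕ)
    (a : Fin n → MvPowerSeries (Fin n) k)
    (ham : ∀ i, MvPowerSeries.constantCoeff (a i) = 0)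
    (J : Ideal (MvPolynomial (Fin n) (MvPowerSeries (Fin n) k)))
    (hJ : J = Ideal.span (Set.range fun i : Fin n =>
        MvPolynomial.X i ^ p - MvPolynomial.C (a i ^ (p - 1)) * MvPolynomial.X i -
          MvPolynomial.C (MvPowerSeries.X i)))
    (G : Type v) [Group G] [Finite G]
    [iM : MulSemiringAction G (MvPolynomial (Fin n) (MvPowerSeries (Fin n) k) ⧸ J)]
    [iS : SMulCommClass G (MvPowerSeries (Fin n) k)
      (MvPolynomial (Fin n) (MvPowerSeries (Fin n) k) ⧸ J)]
    (g : G) (hgen : ∀ h : G, h ∈ Subgroup.zpowers g)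
    (hact : ∀ i, g • (Ideal.Quotient.mk J (MvPolynomial.X i)) =
      Ideal.Quotient.mk J (MvPolynomial.X i) + algebraMap (MvPowerSeries (Fin n) k)
        (MvPolynomial (Fin n) (MvPowerSeries (Fin n) k) ⧸ J) (a i)) :
    ∃ φ : SkewMonoidAlgebra (MvPolynomial (Fin n) (MvPowerSeries (Fin n) k) ⧸ J) G
        →ₗ[MvPowerSeries (Fin n) k] MvPowerSeries (Fin n) k,
      (∀ x y : SkewMonoidAlgebra (MvPolynomial (Fin n) (MvPowerSeries (Fin n) k) ⧸ J) G,
        φ (x * y) = φ (y * x)) ∧
      Function.Injective (fun y : SkewMonoidAlgebra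
          (MvPolynomial (Fin n) (MvPowerSeries (Fin n) k) ⧸ J) G =>
        fun x : SkewMonoidAlgebra (MvPolynomial (Fin n) (MvPowerSeries (Fin n) k) ⧸ J) G =>
          φ (x * y)) ∧
      ∀ ψ : SkewMonoidAlgebra (MvPolynomial (Fin n) (MvPowerSeries (Fin n) k) ⧸ J) G
          →ₗ[MvPowerSeries (Fin n) k] MvPowerSeries (Fin n) k,
        ∃ y : SkewMonoidAlgebra (MvPolynomial (Fin n) (MvPowerSeries (Fin n) k) ⧸ J) G,
          ∀ x, ψ x = φ (x * y) := by
  have hJ' : J = I (gAS p a) := hJ.trans (I_gAS p a).symm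
  subst hJ'
  letI i1 : MulSemiringAction G (A (gAS p a)) := iM
  letI i2 : SMulCommClass G (MvPowerSeries (Fin n) k) (A (gAS p a)) := iS
  exact Groth.Agent.Lib.Helper9.ASFrob.main (G := G) p a ham g hgen hact

end Aux

open MvPolynomial in
/-- Let `k` be a field of characteristic `p > 0`, `R = k[[x_1, …, x_n]]`, `a_1, …, a_n ∈ R` with zero
constant term and not all zero, and `A = R[u_1, …, u_n] / (u_i ^ p - a_i ^ (p-1) u_i - x_i : i =
1..n)`. Let `G` be a group of order `p` acting on `A` by `R`-algebra automorphisms, generated by an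
element `g` acting by `u_i ↦ u_i + a_i`. Then the skew group ring `A∗G` (free `A`-module on `G` with
`(a g)(b h) = a g(b) gh`) is a symmetric `R`-algebra: there is an `R`-linear form `φ : A∗G → R` with
`φ(xy) = φ(yx)` for all `x, y`, such that `y ↦ (x ↦ φ(x y))` is injective and reaches every
`R`-linear form on `A∗G` (so `Hom_R(A∗G, R) ≅ A∗G` as bimodules). -/
theorem result
    (p : ℕ) [Fact p.Prime] (k : Type u) [Field k] [CharP k p] (n : ℕ)
    (a : Fin n → MvPowerSeries (Fin n) k)
    (ham : ∀ i, MvPowerSeries.constantCoeff (a i) = 0) (hne : ∃ i, a i ≠ 0) :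
    let R := MvPowerSeries (Fin n) k
    let I : Ideal (MvPolynomial (Fin n) R) :=
      Ideal.span (Set.range fun i : Fin n =>
        X i ^ p - C (a i ^ (p - 1)) * X i - C (MvPowerSeries.X i))
    let A := MvPolynomial (Fin n) R ⧸ I
    ∀ (G : Type v) [Group G] [Finite G] [MulSemiringAction G A] [SMulCommClass G R A]
      (g : G), Nat.card G = p → (∀ h : G, h ∈ Subgroup.zpowers g) →
      (∀ i, g • (Ideal.Quotient.mk I (X i)) = Ideal.Quotient.mk I (X i) + algebraMap R A (a i)) →
      ∃ φ : SkewMonoidAlgebra A G →ₗ[R] R,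
        (∀ x y : SkewMonoidAlgebra A G, φ (x * y) = φ (y * x)) ∧
        Function.Injective (fun y : SkewMonoidAlgebra A G => fun x : SkewMonoidAlgebra A G => φ (x * y)) ∧
        ∀ ψ : SkewMonoidAlgebra A G →ₗ[R] R, ∃ y : SkewMonoidAlgebra A G, ∀ x, ψ x = φ (x * y) := by
  intro R I A G _ _ _ _ g _ hgen hact
  exact Aux.main p k n a ham I rfl G g hgen hact

end Groth.Agent.S15805
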