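import Groth.Statements.S15806
import Mathlib
-- import your own Groth.Agent.* helpers here

set_option autoImplicit false
universe u
open CategoryTheory AlgebraicGeometry
open WildQuot

namespace Groth.Agent.S15806

open CategoryTheory AlgebraicGeometry IsLocalRing TensorProduct
namespace Aux

/-- In a Noetherian local ring whose maximal ideal is not associated to `M`, some element of the
maximal ideal is `M`-regular. -/
theorem exists_regular_of_not_ass {A : Type*} [CommRing A] [IsLocalRing A] [IsNoetherianRing A]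
    (M : Type*) [AddCommGroup M] [Module A M] [Module.Finite A M]
    (h : maximalIdeal A ∉ associatedPrimes A M) :
    ∃ y ∈ maximalIdeal A, IsSMulRegular M y := by
  by_contra hno
  push_neg at hno
  apply h
  have hfin := associatedPrimes.finite A M
  have hsub : (maximalIdeal A : Set A) ⊆ ⋃ p ∈ hfin.toFinset, (p : Set A) := by
    intro y hy
    have hnr := hno y hy
    have : y ∈ ⋃ p ∈ associatedPrimes A M, (p : Set A) := by
      rw [biUnion_associatedPrimes_eq_zero_divisors]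
      by_contra hcon
      apply hnr
      intro a b hab
      have h0 : y • (a - b) = 0 := by rw [smul_sub]; exact sub_eq_zero.2 hab
      by_contra hne
      exact hcon ⟨a - b, sub_ne_zero.2 hne, h0⟩
    simpa using this
  obtain ⟨p, hp, hle⟩ := (Ideal.subset_union_prime (R := A) (s := hfin.toFinset)
    (f := fun p => p) ⊤ ⊤ (fun p hp _ _ => by
      have := (Set.Finite.mem_toFinset hfin).1 hp
      exact this.isPrime)).1 hsub
  have hpass : IsAssociatedPrime p M := (Set.Finite.mem_toFinset hfin).1 hp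
  have hpm : p = maximalIdeal A := by
    have := hpass.isPrime
    exact ((maximalIdeal.isMaximal A).eq_of_le this.ne_top hle).symm
  rw [← hpm]
  exact hpass

/-- If `p = ann x` for an element `x` of a flat module over a Noetherian ring, then the maximal
ideal of (any model of) the localization at `p` is an associated prime of the localization. -/
theorem ass_of_flat {R : Type u} [CommRing R] [IsNoetherianRing R] {B : Type u} [AddCommGroup B]
    [Module R B] [Module.Flat R B] (p : Ideal R) [p.IsPrime] (x : B)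
    (hx : ∀ r, r ∈ p ↔ r • x = 0)
    (A : Type u) [CommRing A] [IsLocalRing A] [Algebra R A] [IsLocalization.AtPrime A p] :
    maximalIdeal A ∈ associatedPrimes A A := by
  haveI : IsNoetherianRing A := IsLocalization.isNoetherianRing p.primeCompl A inferInstance
  by_contra hnot
  obtain ⟨a, ham, hareg⟩ := exists_regular_of_not_ass A hnot
  obtain ⟨r, s, rfl⟩ := IsLocalization.exists_mk'_eq p.primeCompl a
  have hrp : r ∈ p := by
    by_contra hr
    have hu : IsUnit (IsLocalization.mk' A r s) := by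
      rw [IsLocalization.AtPrime.isUnit_mk'_iff A p]
      exact hr
    exact (IsLocalRing.mem_maximalIdeal _).1 ham hu
  -- algebraMap r is A-regular
  have hreg : IsSMulRegular A (algebraMap R A r) := by
    have : algebraMap R A r = IsLocalization.mk' A r s * algebraMap R A s := by
      rw [IsLocalization.mk'_spec]
    rw [this]
    exact hareg.mul ((IsLocalization.map_units A s).isSMulRegular A)
  have hnzd : algebraMap R A r ∈ nonZeroDivisors A := by
    rw [mem_nonZeroDivisors_iff_right]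
    intro z hz
    exact hreg (by simpa [mul_comm] using hz)
  have hreg' : IsSMulRegular (A ⊗[R] B) (algebraMap R A r) := by
    have h := Module.Flat.isSMulRegular_of_nonZeroDivisors (M := A ⊗[R] B) hnzd
    intro a b hab
    exact h hab
  have h0 : (algebraMap R A r) • ((1 : A) ⊗ₜ[R] x) = 0 := by
    rw [TensorProduct.smul_tmul', smul_eq_mul, mul_one, Algebra.algebraMap_eq_smul_one,
      TensorProduct.smul_tmul, (hx r).1 hrp, TensorProduct.tmul_zero]
  have h1 : (1 : A) ⊗ₜ[R] x = 0 := hreg' (by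
    show (algebraMap R A r) • ((1 : A) ⊗ₜ[R] x) = (algebraMap R A r) • (0 : A ⊗[R] B)
    rw [h0, smul_zero])
  haveI : IsLocalizedModule p.primeCompl (TensorProduct.mk R A B 1) :=
    (isLocalizedModule_iff_isBaseChange p.primeCompl A _).2 (TensorProduct.isBaseChange R B A)
  obtain ⟨c, hc⟩ := (IsLocalizedModule.eq_zero_iff p.primeCompl (TensorProduct.mk R A B 1)).1 h1
  exact c.2 ((hx c.1).2 hc)

theorem eq_zero_of_flat {R : Type u} [CommRing R] [IsNoetherianRing R] {B : Type u}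
    [AddCommGroup B] [Module R B] [Module.Flat R B] (d : B)
    (H : ∀ (p : Ideal R) [p.IsPrime], ∃ (A : Type u) (_ : CommRing A) (_ : IsLocalRing A)
      (_ : Algebra R A) (_ : IsLocalization.AtPrime A p),
      (maximalIdeal A ∈ associatedPrimes A A → ∃ t, t ∉ p ∧ t • d = 0)) : d = 0 := by
  by_contra hd
  obtain ⟨P, hP, hle⟩ := exists_le_isAssociatedPrime_of_isNoetherianRing R d hd
  haveI := hP.isPrime
  rw [isAssociatedPrime_iff] at hP
  obtain ⟨-, y, hy⟩ := hP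
  obtain ⟨A, _, _, _, _, hA⟩ := H P
  have hass := ass_of_flat P y (fun r => by
    rw [hy, Submodule.mem_colon_singleton, Submodule.mem_bot]) A
  obtain ⟨t, htP, htd⟩ := hA hass
  apply htP
  apply hle
  rw [Submodule.mem_colon_singleton, Submodule.mem_bot]
  exact htd

variable {S G₁ G₂ : Scheme.{u}}

theorem appLE_eq_of_le (φ ψ : G₁ ⟶ G₂) (U₁ : G₁.Opens) (h : U₁.ι ≫ φ = U₁.ι ≫ ψ) (W : G₂.Opens)
    (O : G₁.Opens) (hO : O ≤ U₁) (e₁ : O ≤ φ ⁻¹ᵁ W) (e₂ : O ≤ ψ ⁻¹ᵁ W) :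
    φ.appLE W O e₁ = ψ.appLE W O e₂ := by
  have h1 : (U₁.ι ≫ φ).appLE W (U₁.ι ⁻¹ᵁ O) (by
      rw [Scheme.Hom.comp_preimage]; exact fun x hx => e₁ hx) =
      φ.appLE W O e₁ ≫ U₁.ι.app O := by
    rw [Scheme.Hom.app_eq_appLE, Scheme.Hom.appLE_comp_appLE]
  have h2 : (U₁.ι ≫ ψ).appLE W (U₁.ι ⁻¹ᵁ O) (by
      rw [Scheme.Hom.comp_preimage]; exact fun x hx => e₂ hx) =
      ψ.appLE W O e₂ ≫ U₁.ι.app O := by
    rw [Scheme.Hom.app_eq_appLE, Scheme.Hom.appLE_comp_appLE]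
  haveI : IsIso (U₁.ι.app O) := Scheme.Hom.isIso_app _ _ (by simpa using hO)
  rw [← cancel_mono (U₁.ι.app O), ← h1, ← h2]
  simp only [h]


theorem main
    (S G₁ G₂ : Scheme.{u}) [AlgebraicGeometry.IsNoetherian S] (f₁ : G₁ ⟶ S) (f₂ : G₂ ⟶ S)
    [AlgebraicGeometry.IsFinite f₁] [AlgebraicGeometry.Flat f₁]
    [AlgebraicGeometry.IsFinite f₂]
    (U : S.Opens)
    (hU : ∀ s : S, IsLocalRing.maximalIdeal (S.presheaf.stalk s) ∈
        associatedPrimes (S.presheaf.stalk s) (S.presheaf.stalk s) → s ∈ U)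
    (φ ψ : G₁ ⟶ G₂) (hφ : φ ≫ f₂ = f₁) (hψ : ψ ≫ f₂ = f₁)
    (h : (f₁ ⁻¹ᵁ U).ι ≫ φ = (f₁ ⁻¹ᵁ U).ι ≫ ψ) : φ = ψ := by
  refine Scheme.Cover.hom_ext (G₁.openCoverOfIsOpenCover _
    (.comap (iSup_affineOpens_eq_top S) f₁.base.1)) _ _ fun V => ?_
  change (f₁ ⁻¹ᵁ V.1).ι ≫ φ = (f₁ ⁻¹ᵁ V.1).ι ≫ ψ
  have hV : IsAffineOpen V.1 := V.2
  have hW₁ : IsAffineOpen (f₁ ⁻¹ᵁ V.1) := hV.preimage f₁
  have hW₂ : IsAffineOpen (f₂ ⁻¹ᵁ V.1) := hV.preimage f₂
  have e₁ : f₁ ⁻¹ᵁ V.1 ≤ φ ⁻¹ᵁ (f₂ ⁻¹ᵁ V.1) := by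
    rw [← Scheme.Hom.comp_preimage, hφ]
  have e₂ : f₁ ⁻¹ᵁ V.1 ≤ ψ ⁻¹ᵁ (f₂ ⁻¹ᵁ V.1) := by
    rw [← Scheme.Hom.comp_preimage, hψ]
  rw [← Scheme.Hom.resLE_comp_ι φ e₁, ← Scheme.Hom.resLE_comp_ι ψ e₂]
  congr 1
  haveI : IsAffine (f₂ ⁻¹ᵁ V.1).toScheme := hW₂
  apply ext_of_isAffine
  rw [Scheme.Hom.appTop, Scheme.Hom.appTop, Scheme.Hom.resLE_app_top, Scheme.Hom.resLE_app_top]
  congr 2
  ext t
  rw [← sub_eq_zero]
  -- set up algebra
  letI alg : Algebra Γ(S, V.1) Γ(G₁, f₁ ⁻¹ᵁ V.1) := (f₁.app V.1).hom.toAlgebra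
  haveI hflat : Module.Flat Γ(S, V.1) Γ(G₁, f₁ ⁻¹ᵁ V.1) := by
    have := HasRingHomProperty.appLE @Flat f₁ inferInstance ⟨V.1, hV⟩ ⟨f₁ ⁻¹ᵁ V.1, hW₁⟩ le_rfl
    rw [Scheme.Hom.appLE_eq_app] at this
    exact this
  haveI : IsNoetherianRing Γ(S, V.1) := IsLocallyNoetherian.component_noetherian V
  apply eq_zero_of_flat (R := Γ(S, V.1))
  intro P hP
  let y : PrimeSpectrum Γ(S, V.1) := ⟨P, hP⟩
  have hs : hV.fromSpec y ∈ V.1 := (hV.isoSpec.inv _).2
  refine ⟨S.presheaf.stalk (hV.fromSpec y), inferInstance, inferInstance,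
    TopCat.Presheaf.algebra_section_stalk S.presheaf ⟨_, hs⟩, hV.isLocalization_stalk' y hs, ?_⟩
  intro hass
  have hsU : hV.fromSpec y ∈ U := hU _ hass
  obtain ⟨r, hrU, hsr⟩ := hV.exists_basicOpen_le (V := U) ⟨_, hsU⟩ hs
  have hrP : r ∉ P := by
    have : y ∈ hV.fromSpec ⁻¹ᵁ S.basicOpen r := hsr
    rw [hV.fromSpec_preimage_basicOpen] at this
    exact this
  -- the difference vanishes on the basic open
  set d := (φ.appLE (f₂ ⁻¹ᵁ V.1) (f₁ ⁻¹ᵁ V.1) e₁).hom t -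
    (ψ.appLE (f₂ ⁻¹ᵁ V.1) (f₁ ⁻¹ᵁ V.1) e₂).hom t with hd
  have hO : G₁.basicOpen ((f₁.app V.1).hom r) ≤ f₁ ⁻¹ᵁ U := by
    rw [← Scheme.preimage_basicOpen]
    exact fun x hx => hrU hx
  have hOW : G₁.basicOpen ((f₁.app V.1).hom r) ≤ f₁ ⁻¹ᵁ V.1 := G₁.basicOpen_le _
  have hres : (G₁.presheaf.map (homOfLE hOW).op).hom d = 0 := by
    rw [hd, map_sub, sub_eq_zero]
    have k1 : (G₁.presheaf.map (homOfLE hOW).op).hom
        ((φ.appLE (f₂ ⁻¹ᵁ V.1) (f₁ ⁻¹ᵁ V.1) e₁).hom t) =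
        (φ.appLE (f₂ ⁻¹ᵁ V.1) (G₁.basicOpen ((f₁.app V.1).hom r)) (hOW.trans e₁)).hom t := by
      rw [← Scheme.Hom.appLE_map φ e₁ (homOfLE hOW).op]
      rfl
    have k2 : (G₁.presheaf.map (homOfLE hOW).op).hom
        ((ψ.appLE (f₂ ⁻¹ᵁ V.1) (f₁ ⁻¹ᵁ V.1) e₂).hom t) =
        (ψ.appLE (f₂ ⁻¹ᵁ V.1) (G₁.basicOpen ((f₁.app V.1).hom r)) (hOW.trans e₂)).hom t := by
      rw [← Scheme.Hom.appLE_map ψ e₂ (homOfLE hOW).op]
      rfl
    rw [k1, k2, appLE_eq_of_le φ ψ (f₁ ⁻¹ᵁ U) h (f₂ ⁻¹ᵁ V.1) _ hO (hOW.trans e₁) (hOW.trans e₂)]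
  obtain ⟨n, hn⟩ := exists_pow_mul_eq_zero_of_res_basicOpen_eq_zero_of_isAffineOpen G₁ hW₁ d
    ((f₁.app V.1).hom r) hres
  refine ⟨r ^ n, fun hmem => hrP (hP.mem_of_pow_mem n hmem), ?_⟩
  rw [Algebra.smul_def, RingHom.algebraMap_toAlgebra, map_pow]
  exact hn

end Aux

/-- Let `S` be a Noetherian scheme, `G_1 → S` and `G_2 → S` finite flat morphisms, and `U ⊆ S` an open
subset containing every associated point of `S`, i.e. every point whose local ring has the maximal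
ideal as an associated prime (for `S` Noetherian this says exactly that `U` is dense and contains
all points at which `S` does not satisfy Serre's condition `S_1`, which is the printed hypothesis).
If two `S`-morphisms `φ, ψ : G_1 → G_2` agree on the preimage of `U`, then `φ = ψ`. -/
theorem result
    (S G₁ G₂ : Scheme.{u}) [AlgebraicGeometry.IsNoetherian S] (f₁ : G₁ ⟶ S) (f₂ : G₂ ⟶ S)
    [AlgebraicGeometry.IsFinite f₁] [AlgebraicGeometry.Flat f₁]
    [AlgebraicGeometry.IsFinite f₂] [AlgebraicGeometry.Flat f₂]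
    (U : S.Opens)
    (hU : ∀ s : S, IsLocalRing.maximalIdeal (S.presheaf.stalk s) ∈
        associatedPrimes (S.presheaf.stalk s) (S.presheaf.stalk s) → s ∈ U)
    (φ ψ : G₁ ⟶ G₂) (hφ : φ ≫ f₂ = f₁) (hψ : ψ ≫ f₂ = f₁)
    (h : (f₁ ⁻¹ᵁ U).ι ≫ φ = (f₁ ⁻¹ᵁ U).ι ≫ ψ) : φ = ψ := by
  exact Aux.main S G₁ G₂ f₁ f₂ U hU φ ψ hφ hψ h

end Groth.Agent.S15806
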