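import Groth.Statements.S15808
import Groth.Agent.Lib.Helper6.WQ.Reg1
import Groth.Agent.Lib.Helper6.WQ.Minor1
import Groth.Agent.Lib.Helper6.WQ.NormDesc
import Groth.Agent.Lib.Helper9.RegUFD.Main

set_option autoImplicit false
universe u
open WildQuot

namespace Groth.Agent.S15808

open MvPolynomial in
/-- Let `k` be a field of characteristic `p > 0`, `n ≥ 2`, `R = k[[x_1, …, x_n]]`, `a_1, …, a_n ∈ R`
with zero constant term and pairwise coprime, `μ ∈ R` nonzero and coprime to each `a_i`; fix an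
index `i₀` and let `B = R[Z_j : j ≠ i₀] / (Z_j ^ p - (μ a_{i₀} a_j) ^ (p-1) Z_j - (a_{i₀} ^ p x_j -
a_j ^ p x_{i₀}) : j ≠ i₀)`, the complete-intersection ring of the minor elements through `u_{i₀}`.
Then `B` is a free `R`-module of rank `p ^ (n-1)`, `B` is an integral domain, and the localisation
`B[1/(μ a_{i₀})]` is integrally closed. (The published statement uses the first index for `i₀`; this
row allows any index.) -/
theorem result
    (p : ℕ) [Fact p.Prime] (k : Type u) [Field k] [CharP k p] (n : ℕ) (hn : 2 ≤ n)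
    (a : Fin n → MvPowerSeries (Fin n) k) (μ : MvPowerSeries (Fin n) k)
    (ham : ∀ i, MvPowerSeries.constantCoeff (a i) = 0) (hcop : ∀ i j, i ≠ j → IsRelPrime (a i) (a j))
    (hμ : μ ≠ 0) (hμa : ∀ i, IsRelPrime μ (a i)) (i₀ : Fin n) :
    let R := MvPowerSeries (Fin n) k
    let r : {j : Fin n // j ≠ i₀} → MvPolynomial {j : Fin n // j ≠ i₀} R := fun j =>
      X j ^ p - C ((μ * a i₀ * a j.1) ^ (p - 1)) * X j
        - C (a i₀ ^ p * MvPowerSeries.X j.1 - a j.1 ^ p * MvPowerSeries.X i₀)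
    let B := MvPolynomial {j : Fin n // j ≠ i₀} R ⧸ Ideal.span (Set.range r)
    Module.Free R B ∧ Module.finrank R B = p ^ (n - 1) ∧ IsDomain B ∧
      IsIntegrallyClosed (Localization.Away (algebraMap R B (μ * a i₀))) := by
  intro R r B
  classical
  show Module.Free (MvPowerSeries (Fin n) k)
      (Groth.Agent.Helper6.WQMinor.BB p a μ MvPowerSeries.X i₀) ∧
    Module.finrank (MvPowerSeries (Fin n) k)
      (Groth.Agent.Helper6.WQMinor.BB p a μ MvPowerSeries.X i₀) = p ^ (n - 1) ∧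
    IsDomain (Groth.Agent.Helper6.WQMinor.BB p a μ MvPowerSeries.X i₀) ∧
    IsIntegrallyClosed (Localization.Away (algebraMap (MvPowerSeries (Fin n) k)
      (Groth.Agent.Helper6.WQMinor.BB p a μ MvPowerSeries.X i₀) (μ * a i₀)))
  have hp := (Fact.out : p.Prime)
  obtain ⟨K, _, _, _, φ, hφ⟩ := Groth.Agent.Helper8.WQ1.exists_field_embedding p k n
  have ha : ∀ i, a i ≠ 0 := Groth.Agent.Helper8.WQ1.nonzero_of_cop n hn a ham hcop
  haveI : IsDomain (MvPowerSeries (Fin n) k) := NoZeroDivisors.to_isDomain _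
  have hM : φ μ ≠ 0 := (map_ne_zero_iff φ hφ).2 hμ
  have hA : ∀ i, φ (a i) ≠ 0 := fun i => (map_ne_zero_iff φ hφ).2 (ha i)
  have hcA : ∀ i, φ ((μ * a i) ^ (p - 1)) ≠ 0 := by
    intro i; rw [map_pow, map_mul]; exact pow_ne_zero _ (mul_ne_zero hM (hA i))
  have hcB : ∀ j : {j : Fin n // j ≠ i₀}, φ ((μ * a i₀ * a j.1) ^ (p - 1)) ≠ 0 := by
    intro j; rw [map_pow, map_mul, map_mul]
    exact pow_ne_zero _ (mul_ne_zero (mul_ne_zero hM (hA i₀)) (hA j.1))
  obtain ⟨hBfree, hBfin, hBrank⟩ := Groth.Agent.Helper6.WQFree.free_quot p φ hφ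
    (fun j : {j : Fin n // j ≠ i₀} => (μ * a i₀ * a j.1) ^ (p - 1))
    (fun j => a i₀ ^ p * MvPowerSeries.X j.1 - a j.1 ^ p * MvPowerSeries.X i₀) hcB
  obtain ⟨hAfree, hAfin, hArank⟩ := Groth.Agent.Helper6.WQFree.free_quot p φ hφ
    (fun i : Fin n => (μ * a i) ^ (p - 1)) MvPowerSeries.X hcA
  haveI : Module.Free (MvPowerSeries (Fin n) k)
      (Groth.Agent.Helper6.WQMinor.AA p a μ MvPowerSeries.X) := hAfree
  haveI : Module.Finite (MvPowerSeries (Fin n) k)
      (Groth.Agent.Helper6.WQMinor.AA p a μ MvPowerSeries.X) := hAfin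
  haveI : Module.Free (MvPowerSeries (Fin n) k)
      (Groth.Agent.Helper6.WQMinor.BB p a μ MvPowerSeries.X i₀) := hBfree
  haveI : Nontrivial (Groth.Agent.Helper6.WQMinor.AA p a μ MvPowerSeries.X) :=
    Module.nontrivial_of_finrank_pos (R := MvPowerSeries (Fin n) k)
      (by rw [hArank]; exact pow_pos hp.pos _)
  haveI : Nontrivial (Groth.Agent.Helper6.WQMinor.BB p a μ MvPowerSeries.X i₀) :=
    Module.nontrivial_of_finrank_pos (R := MvPowerSeries (Fin n) k)
      (by rw [hBrank]; exact pow_pos hp.pos _)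
  have hinjA : Function.Injective (algebraMap (MvPowerSeries (Fin n) k)
      (Groth.Agent.Helper6.WQMinor.AA p a μ MvPowerSeries.X)) :=
    FaithfulSMul.algebraMap_injective _ _
  have hinjB : Function.Injective (algebraMap (MvPowerSeries (Fin n) k)
      (Groth.Agent.Helper6.WQMinor.BB p a μ MvPowerSeries.X i₀)) :=
    FaithfulSMul.algebraMap_injective _ _
  have hc0 : ∀ i, MvPowerSeries.constantCoeff ((μ * a i) ^ (p - 1)) = 0 := by
    intro i
    rw [map_pow, map_mul, ham i, mul_zero, zero_pow]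
    have := hp.two_le; omega
  haveI : IsRegularLocalRing (Groth.Agent.Helper6.WQMinor.AA p a μ MvPowerSeries.X) :=
    Groth.Agent.Helper6.WQReg.isRegularLocalRing p (fun i => (μ * a i) ^ (p - 1)) hc0 hinjA
  haveI : IsDomain (Groth.Agent.Helper6.WQMinor.AA p a μ MvPowerSeries.X) :=
    Groth.Agent.Helper8.RLR.isDomain _
  haveI : UniqueFactorizationMonoid (Groth.Agent.Helper6.WQMinor.AA p a μ MvPowerSeries.X) :=
    Groth.Agent.Helper9.RegUFD.ufd _
  have hkereq : RingHom.ker (MvPolynomial.aeval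
      (Groth.Agent.Helper6.WQMinor.zz p a μ MvPowerSeries.X i₀) :
        MvPolynomial {j : Fin n // j ≠ i₀} (MvPowerSeries (Fin n) k) →ₐ[MvPowerSeries (Fin n) k]
          Groth.Agent.Helper6.WQMinor.AA p a μ MvPowerSeries.X)
      = Groth.Agent.Helper6.WQMinor.IB p a μ MvPowerSeries.X i₀ :=
    Groth.Agent.Helper8.WQ1.ker_eq p φ hφ a μ MvPowerSeries.X i₀ ha hμ
  have hker := le_of_eq hkereq.symm
  have hker' := le_of_eq hkereq
  have hιinj := Groth.Agent.Helper6.WQMinor.iotaB_injective p a μ MvPowerSeries.X i₀ hker hker'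
  haveI : IsDomain (Groth.Agent.Helper6.WQMinor.BB p a μ MvPowerSeries.X i₀) :=
    Function.Injective.isDomain
      (Groth.Agent.Helper6.WQMinor.iotaB p a μ MvPowerSeries.X i₀ hker) hιinj
  refine ⟨hBfree, ?_, inferInstance, ?_⟩
  · rw [hBrank]
    congr 1
    rw [Nat.card_eq_fintype_card, Fintype.card_subtype_compl, Fintype.card_subtype_eq,
      Fintype.card_fin]
  · have hg : algebraMap (MvPowerSeries (Fin n) k)
        (Groth.Agent.Helper6.WQMinor.BB p a μ MvPowerSeries.X i₀) (μ * a i₀) ≠ 0 :=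
      (map_ne_zero_iff _ hinjB).2 (mul_ne_zero hμ (ha i₀))
    exact Groth.Agent.Helper6.WQNorm.isIntegrallyClosed_away
      (Groth.Agent.Helper6.WQMinor.iotaB p a μ MvPowerSeries.X i₀ hker) hιinj _ hg
      (fun b1 b2 _ h => Groth.Agent.Helper6.WQMinor.dvd_desc p φ hφ a μ MvPowerSeries.X i₀ ha hμ
        hker b1 b2 h) _

end Groth.Agent.S15808
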