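import Groth.Statements.S15811
import Mathlib

set_option autoImplicit false
universe u
open WildQuot

namespace Groth.Agent.S15811

/-- Let `R` be an integrally closed domain of prime characteristic `p` with fraction field `K`, and `α ∈
R`. Then `α ≠ 0` and the polynomial `T ^ p - α T` splits into linear factors over `K` — which says
that the finite flat group scheme `Spec R[T]/(T ^ p - α T)` of order `p` has constant generic fibre
(its `p` roots are then distinct) — if and only if `α = a ^ (p-1)` for some nonzero `a ∈ R`. (The
published statement is that the generic fibre of the finite flat group scheme of order `p` with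
parameters `α, β` satisfying `α β = 0`, whose underlying scheme is `Spec R[T]/(T ^ p - α T)`, is
constant if and only if `β = 0` and `α` is the `(p-1)`-th power of a nonzero element of `R`; this
row states the polynomial condition, in which `α ≠ 0` already forces `β = 0` over a domain.) -/
theorem result
    (p : ℕ) [Fact p.Prime] (R : Type u) [CommRing R] [IsDomain R] [IsIntegrallyClosed R]
    [CharP R p] (α : R) :
    (α ≠ 0 ∧ (Polynomial.map (algebraMap R (FractionRing R))
        (Polynomial.X ^ p - Polynomial.C α * Polynomial.X)).Splits) ↔
      ∃ a : R, a ≠ 0 ∧ α = a ^ (p - 1) := by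
  classical
  have hp : p.Prime := Fact.out
  have hp1 : 0 < p - 1 := by have := hp.two_le; omega
  have hfac : (Polynomial.X ^ p - Polynomial.C α * Polynomial.X : Polynomial R) =
      Polynomial.X * (Polynomial.X ^ (p - 1) - Polynomial.C α) := by
    have : p = (p - 1) + 1 := (Nat.sub_add_cancel hp.one_le).symm
    conv_lhs => rw [this, pow_succ]
    ring
  constructor
  · rintro ⟨hα, hs⟩
    rw [hfac, Polynomial.map_mul, Polynomial.map_X, Polynomial.splits_X_mul] at hs
    have hmap : Polynomial.map (algebraMap R (FractionRing R))
        (Polynomial.X ^ (p - 1) - Polynomial.C α) =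
        Polynomial.X ^ (p - 1) - Polynomial.C (algebraMap R (FractionRing R) α) := by
      simp
    rw [hmap] at hs
    have hdeg : (Polynomial.X ^ (p - 1) - Polynomial.C (algebraMap R (FractionRing R) α)).degree
        ≠ 0 := by
      rw [Polynomial.degree_X_pow_sub_C hp1]
      exact_mod_cast hp1.ne'
    obtain ⟨b, hb⟩ := hs.exists_eval_eq_zero hdeg
    have hb' : b ^ (p - 1) = algebraMap R (FractionRing R) α := by
      simpa [sub_eq_zero] using hb
    have hint : IsIntegral R b := by
      refine ⟨Polynomial.X ^ (p - 1) - Polynomial.C α, Polynomial.monic_X_pow_sub_C α hp1.ne', ?_⟩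
      simp [hb']
    obtain ⟨a, rfl⟩ := IsIntegrallyClosed.algebraMap_eq_of_integral hint
    refine ⟨a, ?_, ?_⟩
    · rintro rfl
      rw [map_zero, zero_pow hp1.ne'] at hb'
      apply hα
      exact (IsFractionRing.injective R (FractionRing R)) (by rw [map_zero]; exact hb'.symm)
    · apply IsFractionRing.injective R (FractionRing R)
      rw [map_pow]; exact hb'.symm
  · rintro ⟨a, ha, rfl⟩
    refine ⟨pow_ne_zero _ ha, ?_⟩
    set A : FractionRing R := algebraMap R (FractionRing R) a with hA
    have hA0 : A ≠ 0 := by
      rw [hA]
      intro h0
      apply ha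
      exact (IsFractionRing.injective R (FractionRing R)) (by rw [map_zero]; exact h0)
    have hq : (Polynomial.X ^ p - Polynomial.X : Polynomial (FractionRing R)).Splits := by
      have h := (GaloisField.splits_zmod_X_pow_sub_X (p := p)).map
        (ZMod.castHom (dvd_refl p) (FractionRing R))
      simpa using h
    have hlc : (Polynomial.C A⁻¹ * Polynomial.X : Polynomial (FractionRing R)).leadingCoeff =
        A⁻¹ := by simp
    have hcomp : ((Polynomial.X ^ p - Polynomial.X : Polynomial (FractionRing R)).comp
        (Polynomial.C A⁻¹ * Polynomial.X)).Splits := by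
      apply hq.comp_of_natDegree_le_one_of_invertible
      · exact (Polynomial.natDegree_C_mul_le _ _).trans Polynomial.natDegree_X_le
      · rw [hlc]; exact invertibleOfNonzero (inv_ne_zero hA0)
    have hfinal := hcomp.C_mul (A ^ p)
    have heq : Polynomial.map (algebraMap R (FractionRing R))
        (Polynomial.X ^ p - Polynomial.C (a ^ (p - 1)) * Polynomial.X) =
        Polynomial.C (A ^ p) * ((Polynomial.X ^ p - Polynomial.X : Polynomial (FractionRing R)).comp
        (Polynomial.C A⁻¹ * Polynomial.X)) := by
      simp only [Polynomial.map_sub, Polynomial.map_pow, Polynomial.map_X, Polynomial.map_mul,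
        Polynomial.map_C, map_pow, Polynomial.sub_comp, Polynomial.pow_comp, Polynomial.X_comp]
      have hCC : (Polynomial.C A * Polynomial.C A⁻¹ : Polynomial (FractionRing R)) = 1 := by
        rw [← Polynomial.C_mul, mul_inv_cancel₀ hA0, Polynomial.C_1]
      have h1 : (Polynomial.C A ^ p * Polynomial.C A⁻¹ ^ p : Polynomial (FractionRing R)) = 1 := by
        rw [← mul_pow, hCC, one_pow]
      have h2 : (Polynomial.C A ^ p * Polynomial.C A⁻¹ : Polynomial (FractionRing R)) =
          Polynomial.C (A ^ (p - 1)) := by
        have : p = (p - 1) + 1 := (Nat.sub_add_cancel hp.one_le).symm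
        conv_lhs => rw [this, pow_succ, mul_assoc, hCC, mul_one]
        rw [Polynomial.C_pow]
      rw [mul_sub, mul_pow, ← mul_assoc, ← mul_assoc, h1, h2, one_mul, Polynomial.C_pow]
    rw [heq]
    exact hfinal

end Groth.Agent.S15811
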