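import Groth.Statements.S15816
import Mathlib
import Groth.Agent.Lib.Helper9.KoszulMul
import Groth.Agent.Lib.Helper8.Koszul6
-- import your own Groth.Agent.* helpers here

set_option autoImplicit false
universe u
open CategoryTheory
open scoped TensorProduct
open Koszul

namespace Groth.Agent.S15816

open CategoryTheory
open scoped TensorProduct
namespace Aux

theorem range_eq_ker (A : Type u) [CommRing A] (K : CochainComplex (ModuleCat.{u} A) ℤ) (q : ℤ)
    (h : Limits.IsZero (K.homology q)) :
    LinearMap.range (K.d (q - 1) q).hom = LinearMap.ker (K.d q (q + 1)).hom := by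
  have h1 : K.ExactAt q := (HomologicalComplex.exactAt_iff_isZero_homology K q).2 h
  rw [HomologicalComplex.exactAt_iff' K (q - 1) q (q + 1) (by simp) (by simp)] at h1
  exact (ShortComplex.moduleCat_exact_iff_range_eq_ker _).1 h1

theorem comap_smul {A : Type u} [CommRing A] {N : Type u} [AddCommGroup N] [Module A N]
    (Z : Submodule A N) (I : Ideal A) :
    Submodule.comap Z.subtype (I • Z) = I • (⊤ : Submodule A Z) := by
  have h1 : (I • (⊤ : Submodule A Z)).map Z.subtype = I • Z := by
    rw [Submodule.map_smul'', Submodule.map_top, Submodule.range_subtype]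
  rw [← h1, Submodule.comap_map_eq_of_injective Z.injective_subtype]

theorem main (A : Type u) [CommRing A] (l : List A)
    (hl : RingTheory.Sequence.IsWeaklyRegular A l) (x : A) (hx : x ∈ nonZeroDivisors A) (q : ℤ) (hq : q < 0) :
    Nonempty ((Koszul.koszul A (l.map (fun f => x * f))).homology q ≅
      ModuleCat.of A (↥(LinearMap.ker ((Koszul.koszul A l).d q (q + 1)).hom) ⊗[A] (A ⧸ Ideal.span {x}))) := by
  obtain ⟨e⟩ := Groth.Agent.Helper9.KoszulMul.nonempty_koszul_mul_homology_iso l x hx q
  have h0 := (Groth.Agent.Helper8.KoszulLib.koszul_regular l hl).1 q (by omega)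
  have h1 := range_eq_ker A (Koszul.koszul A l) q h0
  have h2 : Submodule.comap (LinearMap.ker ((Koszul.koszul A l).d q (q + 1)).hom).subtype
      (Ideal.span {x} • LinearMap.range ((Koszul.koszul A l).d (q - 1) q).hom) =
      Ideal.span {x} • (⊤ : Submodule A ↥(LinearMap.ker ((Koszul.koszul A l).d q (q + 1)).hom)) := by
    rw [h1]
    exact comap_smul _ _
  have e2 := Submodule.quotEquivOfEq _ _ h2
  have e3 := TensorProduct.tensorQuotEquivQuotSMul
    (↥(LinearMap.ker ((Koszul.koszul A l).d q (q + 1)).hom)) (Ideal.span {x})
  exact ⟨e ≪≫ (e2.trans e3.symm).toModuleIso⟩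

end Aux

/-- Let A be a commutative ring, f = (f_1, …, f_n) a sequence in A that is regular in the weak sense
(f_1 is a non-zero-divisor of A and each f_i is a non-zero-divisor modulo (f_1, …, f_{i-1})), with
Koszul complex K(f) and differentials ∂^q, and let x be a non-zero-divisor of A. Then for every
integer q < 0 the q-th cohomology module of the Koszul complex of (x f_1, …, x f_n) is isomorphic as
an A-module to Ker(∂^q) ⊗_A A/(x) (existence of an A-linear isomorphism; mapping-cone model of the
Koszul complex). -/
theorem result (A : Type u) [CommRing A] (l : List A)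
    (hl : RingTheory.Sequence.IsWeaklyRegular A l) (x : A) (hx : x ∈ nonZeroDivisors A) (q : ℤ) (hq : q < 0) :
    Nonempty ((Koszul.koszul A (l.map (fun f => x * f))).homology q ≅
      ModuleCat.of A (↥(LinearMap.ker ((Koszul.koszul A l).d q (q + 1)).hom) ⊗[A] (A ⧸ Ideal.span {x}))) := by
  exact Aux.main A l hl x hx q hq

end Groth.Agent.S15816
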