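import Groth.Statements.S15817
import Mathlib

set_option autoImplicit false
universe u v
open CategoryTheory
open CAlg

namespace Groth.Agent.S15817

/-- Let A be a commutative ring, M an A-module and P, Q submodules of M. Then the commuting square of
quotient projections with corners M/(P ∩ Q), M/P, M/Q and M/(P + Q) is cartesian in the category of
A-modules: M/(P ∩ Q) is the fibre product of M/P and M/Q over M/(P + Q). -/
theorem result (A : Type u) [CommRing A] (M : Type v) [AddCommGroup M] [Module A M]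
    (P Q : Submodule A M) :
    IsPullback (ModuleCat.ofHom (Submodule.factor (inf_le_left : P ⊓ Q ≤ P)))
      (ModuleCat.ofHom (Submodule.factor (inf_le_right : P ⊓ Q ≤ Q)))
      (ModuleCat.ofHom (Submodule.factor (le_sup_left : P ≤ P ⊔ Q)))
      (ModuleCat.ofHom (Submodule.factor (le_sup_right : Q ≤ P ⊔ Q))) := by
  have comm : ModuleCat.ofHom (Submodule.factor (inf_le_left : P ⊓ Q ≤ P)) ≫
      ModuleCat.ofHom (Submodule.factor (le_sup_left : P ≤ P ⊔ Q)) =
      ModuleCat.ofHom (Submodule.factor (inf_le_right : P ⊓ Q ≤ Q)) ≫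
      ModuleCat.ofHom (Submodule.factor (le_sup_right : Q ≤ P ⊔ Q)) := by
    ext x
    simp
  have hf : ∀ (S T : Submodule A M) (h : S ≤ T) (m : M),
      Submodule.factor h (Submodule.Quotient.mk m) = Submodule.Quotient.mk m :=
    fun S T h m => Submodule.factor_mk h m
  apply IsPullback.of_map (forget (ModuleCat A)) comm
  rw [Limits.Types.isPullback_iff]
  refine ⟨?_, ?_, ?_⟩
  · rw [← Functor.map_comp, ← Functor.map_comp, comm]
  · rintro x y ⟨h1, h2⟩
    change Submodule.factor (inf_le_left : P ⊓ Q ≤ P) (x : M ⧸ P ⊓ Q) =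
      Submodule.factor (inf_le_left : P ⊓ Q ≤ P) (y : M ⧸ P ⊓ Q) at h1
    change Submodule.factor (inf_le_right : P ⊓ Q ≤ Q) (x : M ⧸ P ⊓ Q) =
      Submodule.factor (inf_le_right : P ⊓ Q ≤ Q) (y : M ⧸ P ⊓ Q) at h2
    change (x : M ⧸ P ⊓ Q) = y
    obtain ⟨a, rfl⟩ := Submodule.Quotient.mk_surjective _ x
    obtain ⟨b, rfl⟩ := Submodule.Quotient.mk_surjective _ y
    rw [hf, hf, Submodule.Quotient.eq] at h1 h2
    rw [Submodule.Quotient.eq]
    exact ⟨h1, h2⟩
  · intro x y hxy
    change Submodule.factor (le_sup_left : P ≤ P ⊔ Q) (x : M ⧸ P) =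
      Submodule.factor (le_sup_right : Q ≤ P ⊔ Q) (y : M ⧸ Q) at hxy
    obtain ⟨a, rfl⟩ := Submodule.Quotient.mk_surjective _ x
    obtain ⟨b, rfl⟩ := Submodule.Quotient.mk_surjective _ y
    rw [hf, hf, Submodule.Quotient.eq, Submodule.mem_sup] at hxy
    obtain ⟨p, hp, q, hq, hpq⟩ := hxy
    refine ⟨(Submodule.Quotient.mk (a - p) : M ⧸ P ⊓ Q), ?_, ?_⟩
    · change Submodule.factor (inf_le_left : P ⊓ Q ≤ P) (Submodule.Quotient.mk (a - p)) = _
      rw [hf, Submodule.Quotient.eq]
      simpa using hp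
    · change Submodule.factor (inf_le_right : P ⊓ Q ≤ Q) (Submodule.Quotient.mk (a - p)) = _
      rw [hf, Submodule.Quotient.eq]
      have : a - p - b = q := by
        have : a - p - b = (a - b) - p := by abel
        rw [this, ← hpq]; abel
      rw [this]; exact hq

end Groth.Agent.S15817
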