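import Groth.Statements.S15818
import Mathlib
-- import your own Groth.Agent.* helpers here

set_option autoImplicit false
universe u
open CategoryTheory
open Koszul

namespace Groth.Agent.S15818

open CategoryTheory
namespace Aux

variable {A : Type u} [CommRing A] {N : Type u} [AddCommGroup N] [Module A N]

theorem inj (Z B : Submodule A N) (hBZ : B ≤ Z) (x : A)
    (hxH : IsSMulRegular (↥Z ⧸ Submodule.comap Z.subtype B) x)
    (z₁ z₂ : ↥Z ⧸ Submodule.comap Z.subtype (Ideal.span {x} • B))
    (h1 : Submodule.factor (Submodule.comap_mono (Submodule.smul_mono le_rfl hBZ) :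
        Submodule.comap Z.subtype (Ideal.span {x} • B) ≤
          Submodule.comap Z.subtype (Ideal.span {x} • Z)) z₁ =
        Submodule.factor (Submodule.comap_mono (Submodule.smul_mono le_rfl hBZ) :
        Submodule.comap Z.subtype (Ideal.span {x} • B) ≤
          Submodule.comap Z.subtype (Ideal.span {x} • Z)) z₂)
    (h2 : Submodule.factor (Submodule.comap_mono (Submodule.smul_le_right) :
        Submodule.comap Z.subtype (Ideal.span {x} • B) ≤
          Submodule.comap Z.subtype B) z₁ =
        Submodule.factor (Submodule.comap_mono (Submodule.smul_le_right) :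
        Submodule.comap Z.subtype (Ideal.span {x} • B) ≤
          Submodule.comap Z.subtype B) z₂) : z₁ = z₂ := by
  obtain ⟨a, rfl⟩ := Submodule.mkQ_surjective _ z₁
  obtain ⟨b, rfl⟩ := Submodule.mkQ_surjective _ z₂
  rw [Submodule.factor_mk, Submodule.factor_mk, Submodule.mkQ_apply, Submodule.mkQ_apply,
    Submodule.Quotient.eq] at h1 h2
  rw [Submodule.mkQ_apply, Submodule.mkQ_apply, Submodule.Quotient.eq]
  rw [Submodule.mem_comap] at h1 h2 ⊢
  rw [Submodule.ideal_span_singleton_smul, Submodule.mem_smul_pointwise_iff_exists] at h1 ⊢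
  obtain ⟨c, hc, hce⟩ := h1
  refine ⟨c, ?_, hce⟩
  have h3 : x • (Submodule.Quotient.mk (⟨c, hc⟩ : Z) : ↥Z ⧸ Submodule.comap Z.subtype B) = x • 0 := by
    rw [smul_zero, ← Submodule.Quotient.mk_smul, Submodule.Quotient.mk_eq_zero, Submodule.mem_comap]
    show x • c ∈ B
    rw [hce]
    exact h2
  have h4 := hxH h3
  rw [Submodule.Quotient.mk_eq_zero, Submodule.mem_comap] at h4
  exact h4

theorem surj (Z B : Submodule A N) (hBZ : B ≤ Z) (x : A)
    (z₂ : ↥Z ⧸ Submodule.comap Z.subtype (Ideal.span {x} • Z))
    (z₃ : ↥Z ⧸ Submodule.comap Z.subtype B)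
    (h : Submodule.factor (Submodule.comap_mono le_sup_right :
        Submodule.comap Z.subtype (Ideal.span {x} • Z) ≤
          Submodule.comap Z.subtype (B ⊔ Ideal.span {x} • Z)) z₂ =
        Submodule.factor (Submodule.comap_mono le_sup_left :
        Submodule.comap Z.subtype B ≤
          Submodule.comap Z.subtype (B ⊔ Ideal.span {x} • Z)) z₃) :
    ∃ z : ↥Z ⧸ Submodule.comap Z.subtype (Ideal.span {x} • B),
      Submodule.factor (Submodule.comap_mono (Submodule.smul_mono le_rfl hBZ) :
        Submodule.comap Z.subtype (Ideal.span {x} • B) ≤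
          Submodule.comap Z.subtype (Ideal.span {x} • Z)) z = z₂ ∧
      Submodule.factor (Submodule.comap_mono (Submodule.smul_le_right) :
        Submodule.comap Z.subtype (Ideal.span {x} • B) ≤
          Submodule.comap Z.subtype B) z = z₃ := by
  obtain ⟨a, rfl⟩ := Submodule.mkQ_surjective _ z₂
  obtain ⟨b, rfl⟩ := Submodule.mkQ_surjective _ z₃
  rw [Submodule.factor_mk, Submodule.factor_mk, Submodule.mkQ_apply, Submodule.mkQ_apply,
    Submodule.Quotient.eq, Submodule.mem_comap] at h
  obtain ⟨b', hb', c', hc', he⟩ := Submodule.mem_sup.1 h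
  refine ⟨Submodule.mkQ _ (b + ⟨b', hBZ hb'⟩), ?_, ?_⟩
  · rw [Submodule.factor_mk, Submodule.mkQ_apply, Submodule.mkQ_apply, Submodule.Quotient.eq,
      Submodule.mem_comap]
    have : Z.subtype (b + ⟨b', hBZ hb'⟩ - a) = - c' := by
      have he' : b' + c' = (a : N) - (b : N) := he
      show (b : N) + b' - (a : N) = - c'
      rw [eq_neg_iff_add_eq_zero]
      have : (b : N) + b' - (a : N) + c' = (b' + c') - ((a : N) - (b : N)) := by abel
      rw [this, he', sub_self]
    rw [this]
    exact neg_mem hc'
  · rw [Submodule.factor_mk, Submodule.mkQ_apply, Submodule.mkQ_apply, Submodule.Quotient.eq,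
      Submodule.mem_comap]
    have : Z.subtype (b + ⟨b', hBZ hb'⟩ - b) = b' := by
      show (b : N) + b' - (b : N) = b'
      abel
    rw [this]
    exact hb'

theorem key (Z B : Submodule A N) (hBZ : B ≤ Z) (x : A)
    (hxH : IsSMulRegular (↥Z ⧸ Submodule.comap Z.subtype B) x) :
    IsPullback
      (ModuleCat.ofHom (Submodule.factor (Submodule.comap_mono (Submodule.smul_mono le_rfl hBZ) :
        Submodule.comap Z.subtype (Ideal.span {x} • B) ≤
          Submodule.comap Z.subtype (Ideal.span {x} • Z))))
      (ModuleCat.ofHom (Submodule.factor (Submodule.comap_mono (Submodule.smul_le_right) :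
        Submodule.comap Z.subtype (Ideal.span {x} • B) ≤
          Submodule.comap Z.subtype B)))
      (ModuleCat.ofHom (Submodule.factor (Submodule.comap_mono le_sup_right :
        Submodule.comap Z.subtype (Ideal.span {x} • Z) ≤
          Submodule.comap Z.subtype (B ⊔ Ideal.span {x} • Z))))
      (ModuleCat.ofHom (Submodule.factor (Submodule.comap_mono le_sup_left :
        Submodule.comap Z.subtype B ≤
          Submodule.comap Z.subtype (B ⊔ Ideal.span {x} • Z)))) := by
  have hw : (ModuleCat.ofHom (Submodule.factor (Submodule.comap_mono (Submodule.smul_mono le_rfl hBZ) :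
        Submodule.comap Z.subtype (Ideal.span {x} • B) ≤
          Submodule.comap Z.subtype (Ideal.span {x} • Z)))) ≫
      (ModuleCat.ofHom (Submodule.factor (Submodule.comap_mono le_sup_right :
        Submodule.comap Z.subtype (Ideal.span {x} • Z) ≤
          Submodule.comap Z.subtype (B ⊔ Ideal.span {x} • Z)))) =
      (ModuleCat.ofHom (Submodule.factor (Submodule.comap_mono (Submodule.smul_le_right) :
        Submodule.comap Z.subtype (Ideal.span {x} • B) ≤
          Submodule.comap Z.subtype B))) ≫
      (ModuleCat.ofHom (Submodule.factor (Submodule.comap_mono le_sup_left :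
        Submodule.comap Z.subtype B ≤
          Submodule.comap Z.subtype (B ⊔ Ideal.span {x} • Z)))) := by
    ext z
    rfl
  refine IsPullback.of_map (forget (ModuleCat A)) hw ?_
  rw [Limits.Types.isPullback_iff]
  refine ⟨?_, ?_, ?_⟩
  · rw [← Functor.map_comp, ← Functor.map_comp, hw]
  · rintro z₁ z₂ ⟨h1, h2⟩
    exact inj Z B hBZ x hxH z₁ z₂ h1 h2
  · intro z₂ z₃ h
    exact surj Z B hBZ x z₂ z₃ h

theorem main (A : Type u) [CommRing A] (q : ℤ)
    (K : CochainComplex (ModuleCat.{u} A) ℤ)
    (hBZ : LinearMap.range (K.d (q - 1) q).hom ≤ LinearMap.ker (K.d q (q + 1)).hom)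
    (x : A)
    (hxH : IsSMulRegular (↥(LinearMap.ker (K.d q (q + 1)).hom) ⧸ Submodule.comap (LinearMap.ker (K.d q (q + 1)).hom).subtype (LinearMap.range (K.d (q - 1) q).hom)) x) :
    IsPullback
      (ModuleCat.ofHom (Submodule.factor (Submodule.comap_mono (Submodule.smul_mono le_rfl hBZ) :
        Submodule.comap (LinearMap.ker (K.d q (q + 1)).hom).subtype (Ideal.span {x} • LinearMap.range (K.d (q - 1) q).hom) ≤
          Submodule.comap (LinearMap.ker (K.d q (q + 1)).hom).subtype (Ideal.span {x} • LinearMap.ker (K.d q (q + 1)).hom))))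
      (ModuleCat.ofHom (Submodule.factor (Submodule.comap_mono (Submodule.smul_le_right) :
        Submodule.comap (LinearMap.ker (K.d q (q + 1)).hom).subtype (Ideal.span {x} • LinearMap.range (K.d (q - 1) q).hom) ≤
          Submodule.comap (LinearMap.ker (K.d q (q + 1)).hom).subtype (LinearMap.range (K.d (q - 1) q).hom))))
      (ModuleCat.ofHom (Submodule.factor (Submodule.comap_mono le_sup_right :
        Submodule.comap (LinearMap.ker (K.d q (q + 1)).hom).subtype (Ideal.span {x} • LinearMap.ker (K.d q (q + 1)).hom) ≤
          Submodule.comap (LinearMap.ker (K.d q (q + 1)).hom).subtype (LinearMap.range (K.d (q - 1) q).hom ⊔ Ideal.span {x} • LinearMap.ker (K.d q (q + 1)).hom))))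
      (ModuleCat.ofHom (Submodule.factor (Submodule.comap_mono le_sup_left :
        Submodule.comap (LinearMap.ker (K.d q (q + 1)).hom).subtype (LinearMap.range (K.d (q - 1) q).hom) ≤
          Submodule.comap (LinearMap.ker (K.d q (q + 1)).hom).subtype (LinearMap.range (K.d (q - 1) q).hom ⊔ Ideal.span {x} • LinearMap.ker (K.d q (q + 1)).hom)))) :=
  key _ _ hBZ x hxH

end Aux

/-- Let A be a commutative ring, f = (f_1, …, f_n) a finite sequence in A with Koszul complex K = K(f)
(mapping-cone model) and differentials ∂, q an integer, Z = Ker(∂^q) and B = Im(∂^{q-1}), so B ⊆ Z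
inside K^q (this inclusion is carried as the hypothesis hBZ). Let x be a non-zero-divisor of A which
moreover acts injectively on the cohomology module Z/B (for Noetherian A this says that x lies in no
associated prime of Z/B, which is how the published statement phrases it; the published argument
uses exactly the injectivity). Then the commuting square of quotient projections with corners Z/xB
(top left; it is isomorphic to the q-th cohomology of the Koszul complex of (x f_1, …, x f_n)), Z/xZ
= Z ⊗ A/(x) (top right), Z/B (bottom left) and Z/(B + xZ) = (Z/B) ⊗ A/(x) (bottom right) is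
cartesian in the category of A-modules. All four corners are written as quotients of Z by the
preimages of the submodules xB, xZ, B, B + xZ of K^q. -/
theorem result (A : Type u) [CommRing A] (l : List A) (q : ℤ)
    (K : CochainComplex (ModuleCat.{u} A) ℤ) (hK : K = Koszul.koszul A l)
    (hBZ : LinearMap.range (K.d (q - 1) q).hom ≤ LinearMap.ker (K.d q (q + 1)).hom)
    (x : A) (hx : x ∈ nonZeroDivisors A)
    (hxH : IsSMulRegular (↥(LinearMap.ker (K.d q (q + 1)).hom) ⧸ Submodule.comap (LinearMap.ker (K.d q (q + 1)).hom).subtype (LinearMap.range (K.d (q - 1) q).hom)) x) :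
    IsPullback
      (ModuleCat.ofHom (Submodule.factor (Submodule.comap_mono (Submodule.smul_mono le_rfl hBZ) :
        Submodule.comap (LinearMap.ker (K.d q (q + 1)).hom).subtype (Ideal.span {x} • LinearMap.range (K.d (q - 1) q).hom) ≤
          Submodule.comap (LinearMap.ker (K.d q (q + 1)).hom).subtype (Ideal.span {x} • LinearMap.ker (K.d q (q + 1)).hom))))
      (ModuleCat.ofHom (Submodule.factor (Submodule.comap_mono (Submodule.smul_le_right) :
        Submodule.comap (LinearMap.ker (K.d q (q + 1)).hom).subtype (Ideal.span {x} • LinearMap.range (K.d (q - 1) q).hom) ≤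
          Submodule.comap (LinearMap.ker (K.d q (q + 1)).hom).subtype (LinearMap.range (K.d (q - 1) q).hom))))
      (ModuleCat.ofHom (Submodule.factor (Submodule.comap_mono le_sup_right :
        Submodule.comap (LinearMap.ker (K.d q (q + 1)).hom).subtype (Ideal.span {x} • LinearMap.ker (K.d q (q + 1)).hom) ≤
          Submodule.comap (LinearMap.ker (K.d q (q + 1)).hom).subtype (LinearMap.range (K.d (q - 1) q).hom ⊔ Ideal.span {x} • LinearMap.ker (K.d q (q + 1)).hom))))
      (ModuleCat.ofHom (Submodule.factor (Submodule.comap_mono le_sup_left :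
        Submodule.comap (LinearMap.ker (K.d q (q + 1)).hom).subtype (LinearMap.range (K.d (q - 1) q).hom) ≤
          Submodule.comap (LinearMap.ker (K.d q (q + 1)).hom).subtype (LinearMap.range (K.d (q - 1) q).hom ⊔ Ideal.span {x} • LinearMap.ker (K.d q (q + 1)).hom)))) := by
  exact Aux.main A q K hBZ x hxH

end Groth.Agent.S15818
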