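import Groth.Statements.S7604
import Mathlib
import Groth.Agent.S1545

set_option autoImplicit false
universe u
open CategoryTheory CategoryTheory.Limits AlgebraicGeometry
open Variety

namespace Groth.Agent.S7604

section
open CategoryTheory CategoryTheory.Limits AlgebraicGeometry

open TensorProduct

section Gen
variable {S X Y W : Scheme.{u}}

/-- base change of `j : W ⟶ X` along the first projection of `X ×_S Y` -/
noncomputable def pbMapL (j : W ⟶ X) (f : X ⟶ S) (g : Y ⟶ S) :
    pullback (j ≫ f) g ⟶ pullback f g :=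
  pullback.lift (pullback.fst _ _ ≫ j) (pullback.snd _ _) (by
    rw [Category.assoc]; exact pullback.condition)

theorem isPullback_pbMapL (j : W ⟶ X) (f : X ⟶ S) (g : Y ⟶ S) :
    IsPullback (pbMapL j f g) (pullback.fst (j ≫ f) g) (pullback.fst f g) j := by
  have hX : IsPullback (pullback.snd f g) (pullback.fst f g) g f :=
    (IsPullback.of_hasPullback f g).flip
  apply IsPullback.of_right _ (pullback.lift_fst _ _ _) hX
  rw [pullback.lift_snd]
  exact (IsPullback.of_hasPullback (j ≫ f) g).flip

/-- base change of `j : W ⟶ Y` along the second projection of `X ×_S Y` -/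
noncomputable def pbMapR (f : X ⟶ S) (j : W ⟶ Y) (g : Y ⟶ S) :
    pullback f (j ≫ g) ⟶ pullback f g :=
  pullback.lift (pullback.fst _ _) (pullback.snd _ _ ≫ j) (by
    rw [Category.assoc]; exact pullback.condition)

theorem isPullback_pbMapR (f : X ⟶ S) (j : W ⟶ Y) (g : Y ⟶ S) :
    IsPullback (pbMapR f j g) (pullback.snd f (j ≫ g)) (pullback.snd f g) j := by
  have hX : IsPullback (pullback.fst f g) (pullback.snd f g) f g := IsPullback.of_hasPullback f g
  apply IsPullback.of_right _ (pullback.lift_snd _ _ _) hX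
  rw [pullback.lift_fst]
  exact IsPullback.of_hasPullback f (j ≫ g)

theorem stalkMap_bijective_of_isPullback_fromSpecStalk {P Q : Scheme.{u}} (x : X)
    {m : P ⟶ Q} {p : P ⟶ Spec (X.presheaf.stalk x)} {q : Q ⟶ X}
    (h : IsPullback m p q (X.fromSpecStalk x)) (z : P) :
    Function.Bijective (m.stalkMap z).hom := by
  haveI : Flat m :=
    MorphismProperty.of_isPullback (P := @Flat) h.flip (Groth.Agent.S1560.flat_fromSpecStalk X x)
  haveI : IsPreimmersion m :=
    MorphismProperty.of_isPullback (P := @IsPreimmersion) h.flip inferInstance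
  exact Groth.Agent.S1560.stalkMap_bijective_of_flat_preimmersion _ z

end Gen

theorem exists_stalk_equiv_pullback_spec {k : Type u} [Field k]
    (R T : CommRingCat.{u}) [Algebra k R] [Algebra k T]
    (u : Spec R ⟶ Spec (CommRingCat.of k)) (v : Spec T ⟶ Spec (CommRingCat.of k))
    (hu : Spec.map (CommRingCat.ofHom (algebraMap k R)) = u)
    (hv : Spec.map (CommRingCat.ofHom (algebraMap k T)) = v) (w : ↥(pullback u v)) :
    ∃ q : PrimeSpectrum (R ⊗[k] T),
      Nonempty ((pullback u v).presheaf.stalk w ≃+* Localization.AtPrime q.asIdeal) := by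
  subst hu hv
  let e := pullbackSpecIso k R T
  have i1 : (Spec (CommRingCat.of (R ⊗[k] T))).presheaf.stalk (e.hom w) ≅
      (pullback (Spec.map (CommRingCat.ofHom (algebraMap k R)))
        (Spec.map (CommRingCat.ofHom (algebraMap k T)))).presheaf.stalk w :=
    asIso (e.hom.stalkMap w)
  have i2 := Spec.stalkIso (CommRingCat.of (R ⊗[k] T)) (e.hom w)
  exact ⟨e.hom w, ⟨(i1.symm ≪≫ i2).commRingCatIsoToRingEquiv⟩⟩

/-- product stalk lemma -/
theorem exists_stalk_equiv_pullback {k : Type u} [Field k] {X Y : Scheme.{u}}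
    (f : X ⟶ Spec (CommRingCat.of k)) (g : Y ⟶ Spec (CommRingCat.of k))
    (z : ↥(pullback f g)) (x : X) (y : Y)
    (a : ↥(Spec (X.presheaf.stalk x))) (b : ↥(Spec (Y.presheaf.stalk y)))
    (hx : pullback.fst f g z = X.fromSpecStalk x a) (hy : pullback.snd f g z = Y.fromSpecStalk y b)
    [Algebra k (X.presheaf.stalk x)]
    (hφ : Spec.map (CommRingCat.ofHom (algebraMap k (X.presheaf.stalk x))) = X.fromSpecStalk x ≫ f)
    [Algebra k (Y.presheaf.stalk y)]
    (hψ : Spec.map (CommRingCat.ofHom (algebraMap k (Y.presheaf.stalk y))) = Y.fromSpecStalk y ≫ g) :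
    ∃ q : PrimeSpectrum (X.presheaf.stalk x ⊗[k] Y.presheaf.stalk y),
      Nonempty ((pullback f g).presheaf.stalk z ≃+* Localization.AtPrime q.asIdeal) := by
  have h1 := isPullback_pbMapL (X.fromSpecStalk x) f g
  obtain ⟨z1, rfl, hz1⟩ := Groth.Agent.S2502.exists_preimage_of_isPullback h1 z a hx
  have hy' : pullback.snd (X.fromSpecStalk x ≫ f) g z1 = Y.fromSpecStalk y b := by
    have e0 : pbMapL (X.fromSpecStalk x) f g ≫ pullback.snd f g =
        pullback.snd (X.fromSpecStalk x ≫ f) g := pullback.lift_snd _ _ _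
    have e1 := congrArg (fun m => m z1) e0
    simp only [Scheme.Hom.comp_apply] at e1
    rw [← e1]
    exact hy
  have h2 := isPullback_pbMapR (X.fromSpecStalk x ≫ f) (Y.fromSpecStalk y) g
  obtain ⟨w, rfl, hw⟩ := Groth.Agent.S2502.exists_preimage_of_isPullback h2 z1 b hy'
  have bij1 := stalkMap_bijective_of_isPullback_fromSpecStalk x h1
    (pbMapR (X.fromSpecStalk x ≫ f) (Y.fromSpecStalk y) g w)
  have bij2 := stalkMap_bijective_of_isPullback_fromSpecStalk y h2 w
  obtain ⟨q, ⟨e3⟩⟩ := exists_stalk_equiv_pullback_spec (X.presheaf.stalk x) (Y.presheaf.stalk y)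
    _ _ hφ hψ w
  exact ⟨q, ⟨((RingEquiv.ofBijective _ bij1).trans (RingEquiv.ofBijective _ bij2)).trans e3⟩⟩

theorem main (k : Type u) [Field k] (X : Scheme.{u}) [X.Over (Spec (CommRingCat.of k))] (Y : Scheme.{u}) [Y.Over (Spec (CommRingCat.of k))] [IsReduced Y]
    (x : ↥X) (hx : Curv2.IsGeomReducedAt k X x) (z : ↥(pullback (X ↘ (Spec (CommRingCat.of k))) (Y ↘ (Spec (CommRingCat.of k)))))
    (hz : pullback.fst (X ↘ (Spec (CommRingCat.of k))) (Y ↘ (Spec (CommRingCat.of k))) z = x) :
    _root_.IsReduced ↥((pullback (X ↘ (Spec (CommRingCat.of k))) (Y ↘ (Spec (CommRingCat.of k)))).presheaf.stalk z) := by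
  set y := pullback.snd (X ↘ (Spec (CommRingCat.of k))) (Y ↘ (Spec (CommRingCat.of k))) z with hy
  letI := Curv2.stalkAlgebra k X x
  letI := Curv2.stalkAlgebra k Y y
  haveI hR := (Groth.Agent.S1541.main k X x).mp hx
  haveI : _root_.IsReduced (Y.presheaf.stalk y ⊗[k] X.presheaf.stalk x) :=
    Groth.Agent.S2536.isReduced_tensor_of_geomReduced k _ _
  haveI : _root_.IsReduced (X.presheaf.stalk x ⊗[k] Y.presheaf.stalk y) := isReduced_of_injective
    (Algebra.TensorProduct.comm k (X.presheaf.stalk x) (Y.presheaf.stalk y)).toRingEquiv.toRingHom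
    (Algebra.TensorProduct.comm k (X.presheaf.stalk x) (Y.presheaf.stalk y)).injective
  obtain ⟨q, ⟨e⟩⟩ := exists_stalk_equiv_pullback (X ↘ (Spec (CommRingCat.of k)))
    (Y ↘ (Spec (CommRingCat.of k))) z x y (IsLocalRing.closedPoint _) (IsLocalRing.closedPoint _)
    (by rw [Scheme.fromSpecStalk_closedPoint]; exact hz)
    (by rw [Scheme.fromSpecStalk_closedPoint])
    (Groth.Agent.S1560.specMap_stalkMap k X x) (Groth.Agent.S1560.specMap_stalkMap k Y y)
  exact isReduced_of_injective e.toRingHom e.injective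


end


/-- Let X and Y be schemes over a field k with Y reduced, and let x be a point of X at which X is
geometrically reduced. Then each point of X ×_k Y mapping to x has a reduced local ring. -/
theorem result (k : Type u) [Field k] (X : Scheme.{u}) [X.Over (Spec (CommRingCat.of k))] (Y : Scheme.{u}) [Y.Over (Spec (CommRingCat.of k))] [IsReduced Y]
    (x : ↥X) (hx : Curv2.IsGeomReducedAt k X x) (z : ↥(pullback (X ↘ (Spec (CommRingCat.of k))) (Y ↘ (Spec (CommRingCat.of k)))))
    (hz : pullback.fst (X ↘ (Spec (CommRingCat.of k))) (Y ↘ (Spec (CommRingCat.of k))) z = x) :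
    _root_.IsReduced ↥((pullback (X ↘ (Spec (CommRingCat.of k))) (Y ↘ (Spec (CommRingCat.of k)))).presheaf.stalk z) := by
  classical
  exact main k X Y x hx z hz

end Groth.Agent.S7604
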