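import Groth.Statements.S15823
import Mathlib
import Groth.Agent.Lib.Helper5.DiagTen.Main

set_option autoImplicit false
universe u
open CategoryTheory CategoryTheory.Limits AlgebraicGeometry
attribute [local instance] HasDerivedCategory.standard
open RegImm



namespace Groth.Agent.S15823

/-- Let k be a field and X a scheme with a smooth morphism f : X → Spec k, and let i₁ : Y₁ → X and i₂ :
Y₂ → X be closed immersions which are regular (ideals locally generated by regular sequences). Write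
X ×_k X for the fibre product of f with itself, Δ : X → X ×_k X for the diagonal, Y₁ ×_k Y₂ for the
fibre product of the structure morphisms i₁ ≫ f and i₂ ≫ f, and i₁ × i₂ : Y₁ ×_k Y₂ → X ×_k X for
the induced closed immersion. Assume that the total left derived functors − ⊗^L i₂_*O_{Y₂} on D(O_X)
and LΔ^* : D(O_{X ×_k X}) → D(O_X) exist. Then the objects i₁_*O_{Y₁} ⊗^L i₂_*O_{Y₂} and LΔ^*((i₁ ×
i₂)_* O_{Y₁ ×_k Y₂}) of D(O_X) are isomorphic (existence of an isomorphism; the direct image along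
the closed immersion i₁ × i₂ is the underived one, which is exact). (The published statement allows
n subschemes and the n-fold product; this row is the case n = 2.) -/
theorem result (k : Type u) [Field k]
    {X Y₁ Y₂ : Scheme.{u}} (f : X ⟶ Spec (CommRingCat.of k)) [Smooth f]
    (i₁ : Y₁ ⟶ X) (i₂ : Y₂ ⟶ X) [IsClosedImmersion i₁] [IsClosedImmersion i₂]
    (h₁ : RegImm.IsRegularImmersion RegImm.Kind.regular i₁) (h₂ : RegImm.IsRegularImmersion RegImm.Kind.regular i₂)
    [DCoh.HasLTensorMod ((Scheme.Modules.pushforward i₂).obj (Coh.structureModule Y₂))]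
    [DCoh.HasLpull (pullback.diagonal f)] :
    Nonempty ((DCoh.LTensorMod ((Scheme.Modules.pushforward i₂).obj (Coh.structureModule Y₂))).obj
        (DCoh.inD X ((Scheme.Modules.pushforward i₁).obj (Coh.structureModule Y₁))) ≅
      (DCoh.Lpull (pullback.diagonal f)).obj (DCoh.inD (pullback f f)
        ((Scheme.Modules.pushforward (pullback.map (i₁ ≫ f) (i₂ ≫ f) f f i₁ i₂ (𝟙 (Spec (CommRingCat.of k))) (Category.comp_id _) (Category.comp_id _))).obj
          (Coh.structureModule (pullback (i₁ ≫ f) (i₂ ≫ f)))))) := by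
  classical
  haveI hS1 : Subsingleton ↥(Spec (CommRingCat.of k)) := inferInstanceAs (Subsingleton (PrimeSpectrum k))
  haveI hS2 : IsIntegral (Spec (CommRingCat.of k)) := inferInstance
  haveI hf : Flat f := inferInstance
  haveI hf1 : Flat (i₁ ≫ f) := inferInstance
  let d₁ : pullback (i₁ ≫ f) f ⟶ pullback f f :=
    pullback.map (i₁ ≫ f) f f f i₁ (𝟙 X) (𝟙 (Spec (CommRingCat.of k))) (Category.comp_id _) ((Category.comp_id _).trans (Category.id_comp _).symm)
  let e : pullback (i₁ ≫ f) (i₂ ≫ f) ⟶ pullback (i₁ ≫ f) f :=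
    pullback.map (i₁ ≫ f) (i₂ ≫ f) (i₁ ≫ f) f (𝟙 Y₁) i₂ (𝟙 (Spec (CommRingCat.of k))) ((Category.comp_id _).trans (Category.id_comp _).symm) (Category.comp_id _)
  have hr : d₁ ≫ pullback.snd f f = pullback.snd (i₁ ≫ f) f :=
    (pullback.lift_snd _ _ _).trans (Category.comp_id _)
  have hd1 : d₁ ≫ pullback.fst f f = pullback.fst (i₁ ≫ f) f ≫ i₁ :=
    pullback.lift_fst _ _ _
  have he1 : e ≫ pullback.fst (i₁ ≫ f) f = pullback.fst (i₁ ≫ f) (i₂ ≫ f) :=
    (pullback.lift_fst _ _ _).trans (Category.comp_id _)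
  have he2 : e ≫ pullback.snd (i₁ ≫ f) f = pullback.snd (i₁ ≫ f) (i₂ ≫ f) ≫ i₂ :=
    pullback.lift_snd _ _ _
  have hsq1 : IsPullback (pullback.fst (i₁ ≫ f) f) d₁ i₁ (pullback.fst f f) := by
    refine IsPullback.of_bot ?_ hd1.symm (IsPullback.of_hasPullback f f)
    rw [hr]
    exact IsPullback.of_hasPullback (i₁ ≫ f) f
  have hsq2 : IsPullback (pullback.snd (i₁ ≫ f) (i₂ ≫ f)) e i₂ (pullback.snd (i₁ ≫ f) f) := by
    refine IsPullback.of_bot ?_ he2.symm (IsPullback.of_hasPullback (i₁ ≫ f) f).flip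
    rw [he1]
    exact (IsPullback.of_hasPullback (i₁ ≫ f) (i₂ ≫ f)).flip
  have hj : pullback.map (i₁ ≫ f) (i₂ ≫ f) f f i₁ i₂ (𝟙 (Spec (CommRingCat.of k)))
      (Category.comp_id _) (Category.comp_id _) = e ≫ d₁ := by
    apply pullback.hom_ext
    · rw [Category.assoc, hd1, ← Category.assoc, he1]
      exact pullback.lift_fst _ _ _
    · rw [Category.assoc, hr, he2]
      exact pullback.lift_snd _ _ _
  rw [hj]
  exact Groth.Agent.Lib.Helper5.DiagTen.nonempty_diagTen (pullback.fst f f) (pullback.snd f f)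
    (pullback.diagonal f) (pullback.diagonal_fst f) (pullback.diagonal_snd f) i₁ i₂
    (pullback.fst (i₁ ≫ f) f) d₁ hsq1 (pullback.snd (i₁ ≫ f) f) hr
    (pullback.snd (i₁ ≫ f) (i₂ ≫ f)) e hsq2

end Groth.Agent.S15823
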