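import Groth.Statements.S15826
import Mathlib
import Groth.Agent.Lib.Lead.IdM7
import Groth.Agent.Lib.Lead.RegSeq1
import Groth.Agent.Lib.Lead.FLF6
import Groth.Agent.Lib.Lead.SL1
import Groth.Agent.Lib.Helper1.AffPushEpi
import Groth.Agent.Lib.Helper5.Euler.FibreRank

set_option autoImplicit false
universe u
open CategoryTheory AlgebraicGeometry Opposite
open RegImm

namespace Groth.Agent.S15826

section
open CategoryTheory AlgebraicGeometry Opposite

open Groth.Agent.Lead.IdM Groth.Agent.Lead.TilT Groth.Agent.Lead.FpqcSh Groth.Agent.Helper1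
open Groth.Agent.Lead.FLF TensorProduct

/-- an epimorphism between modules on an affine scheme which are both associated with
the same finite module is an isomorphism -/
theorem isIso_of_epi_of_tilde {R : CommRingCat.{u}} {P Q : (Spec R).Modules} (ψ : P ⟶ Q) [Epi ψ]
    (F : ModuleCat.{u} R) [Module.Finite R F] (eP : P ≅ tilde F) (eQ : Q ≅ tilde F) :
    IsIso ψ := by
  let ψ' : tilde F ⟶ tilde F := eP.inv ≫ ψ ≫ eQ.hom
  haveI : Epi ψ' := by
    dsimp only [ψ']
    infer_instance
  let g : F ⟶ F := (tilde.functor R).preimage ψ'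
  have hg : (tilde.functor R).map g = ψ' := (tilde.functor R).map_preimage ψ'
  haveI : Epi ((tilde.functor R).map g) := by rw [hg]; exact this
  haveI : Epi g := (tilde.functor R).epi_of_epi_map inferInstance
  have hsurj : Function.Surjective g.hom := (ModuleCat.epi_iff_surjective g).1 inferInstance
  have hinj : Function.Injective g.hom :=
    OrzechProperty.injective_of_surjective_endomorphism g.hom hsurj
  haveI : IsIso g := (ConcreteCategory.isIso_iff_bijective g).2 ⟨hinj, hsurj⟩
  haveI : IsIso ψ' := by rw [← hg]; exact Functor.map_isIso _ _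
  have h2 : ψ = eP.hom ≫ ψ' ≫ eQ.inv := by
    dsimp only [ψ']
    simp
  rw [h2]
  infer_instance

theorem main {X Y : Scheme.{u}} (n : ℕ) (E : X.Modules)
    (hE : FlatMod.IsFinLocFreeOfRank n E) (s : E ⟶ Coh.structureModule X)
    (hs : ∀ x : X, ∃ U : X.affineOpens, x ∈ U.1 ∧
      ∃ b : Module.Basis (Fin n) Γ(X, U.1) (E.val.obj (op U.1)),
        @RingTheory.Sequence.IsWeaklyRegular Γ(X, U.1) Γ(X, U.1) _ _ _ (List.ofFn fun k => (s.val.app (op U.1)).hom (b k)))
    (i : Y ⟶ X) [IsClosedImmersion i] (t : E ⟶ ClSub.idealMod i.ker) [Epi t]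
    (hts : t ≫ ClSub.idealModι i.ker = s) :
    IsIso ((Scheme.Modules.pullback i).map t) := by
  haveI : E.IsQuasicoherent := isQuasicoherent_of_isFinLocFree E
    (isFinLocFree_of_isFinLocFreeOfRank E n hE)
  apply isIso_of_flatLocally
  intro y
  obtain ⟨⟨U, hU⟩, hyU, b, hreg⟩ := hs (i.base y)
  have hV : IsAffineOpen (i ⁻¹ᵁ U) := hU.preimage i
  refine ⟨_, hV.fromSpec, inferInstance, ?_, ?_⟩
  · rw [hV.range_fromSpec]
    exact hyU
  · letI := (i.appLE U (i ⁻¹ᵁ U) le_rfl).hom.toAlgebra
    let sL := CohACC.appL s U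
    let f : Fin n → Γ(X, U) := fun k => (s.val.app (op U)).hom (b k)
    have hreg' : RingTheory.Sequence.IsWeaklyRegular Γ(X, U) (List.ofFn f) := hreg
    have hsurj0 : Function.Surjective (i.appLE U (i ⁻¹ᵁ U) le_rfl).hom := by
      rw [Scheme.Hom.appLE_eq_app]
      exact Scheme.Hom.app_surjective i U hU
    have hsurj : Function.Surjective (algebraMap Γ(X, U) Γ(Y, i ⁻¹ᵁ U)) := hsurj0
    have hker : RingHom.ker (algebraMap Γ(X, U) Γ(Y, i ⁻¹ᵁ U)) = Ideal.span (Set.range f) := by
      have h0 : RingHom.ker (i.appLE U (i ⁻¹ᵁ U) le_rfl).hom = i.ker.ideal ⟨U, hU⟩ := by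
        rw [Scheme.Hom.ker_apply, Scheme.Hom.appLE_eq_app]
      have h1 : RingHom.ker (algebraMap Γ(X, U) Γ(Y, i ⁻¹ᵁ U)) = i.ker.ideal ⟨U, hU⟩ := h0
      rw [h1, ← range_ιL i.ker ⟨U, hU⟩]
      have hcomp : ∀ e : Γ(E, U), ιL i.ker U (t.app U e) = sL e := by
        intro e
        rw [ιL_apply]
        change (t.app U ≫ (ClSub.idealModι i.ker).app U) e = _
        rw [← Scheme.Modules.Hom.comp_app, hts]
        rfl
      apply le_antisymm
      · rintro _ ⟨m, rfl⟩
        obtain ⟨e, rfl⟩ := AffPushEpi.app_surjective_of_epi t U hU m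
        rw [hcomp]
        have h3 := b.sum_repr e
        have h4 : sL e = ∑ k, (b.repr e k) • sL (b k) := by
          conv_lhs => rw [← h3]
          exact (map_sum sL _ _).trans (Finset.sum_congr rfl (fun k _ => map_smul sL _ _))
        rw [h4]
        refine Ideal.sum_mem _ (fun k _ => ?_)
        exact Ideal.mul_mem_left _ _ (Ideal.subset_span ⟨k, rfl⟩)
      · rw [Ideal.span_le]
        rintro _ ⟨k, rfl⟩
        exact ⟨t.app U (b k), hcomp (b k)⟩
    obtain ⟨eM⟩ := Groth.Agent.Lead.RegSeq.nonempty_equiv f hreg' hsurj hker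
    obtain ⟨eQ0⟩ := conormal_affine i hU hV
    let eb : Γ(E, U) ≃ₗ[Γ(X, U)] (ULift.{u} (Fin n) →₀ Γ(X, U)) :=
      b.repr ≪≫ₗ Finsupp.domLCongr Equiv.ulift.symm
    have eE : E.restrict U.ι ≅ FlatMod.freeMod (↑U) n :=
      Groth.Agent.Lead.SL.freeOfSectionsEquiv hU E n eb
    have hrange : Set.range (hV.fromSpec ≫ i).base ⊆ U := by
      rintro _ ⟨x', rfl⟩
      have h2 : hV.fromSpec.base x' ∈ (i ⁻¹ᵁ U : Set Y) := by
        rw [← hV.range_fromSpec]
        exact ⟨x', rfl⟩
      exact h2
    have eP0 := Groth.Agent.Lib.Helper5.FibreRank.pullbackFreeOfRange (hV.fromSpec ≫ i) E U n eE hrange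
    let F : ModuleCat.{u} Γ(Y, i ⁻¹ᵁ U) :=
      ModuleCat.of Γ(Y, i ⁻¹ᵁ U) (ULift.{u} (Fin n) →₀ Γ(Y, i ⁻¹ᵁ U))
    have eP : (Scheme.Modules.pullback hV.fromSpec).obj ((Scheme.Modules.pullback i).obj E) ≅
        tilde F :=
      (Scheme.Modules.pullbackComp hV.fromSpec i).app E ≪≫ eP0 ≪≫
        (tildeFreeIso Γ(Y, i ⁻¹ᵁ U) n).symm
    have eQ : (Scheme.Modules.pullback hV.fromSpec).obj
        ((Scheme.Modules.pullback i).obj (ClSub.idealMod i.ker)) ≅ tilde F :=
      eQ0 ≪≫ tildeCongr eM.symm.toModuleIso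
    haveI : Module.Finite Γ(Y, i ⁻¹ᵁ U) F :=
      inferInstanceAs (Module.Finite Γ(Y, i ⁻¹ᵁ U) (ULift.{u} (Fin n) →₀ Γ(Y, i ⁻¹ᵁ U)))
    haveI : Epi ((Scheme.Modules.pullback hV.fromSpec).map ((Scheme.Modules.pullback i).map t)) :=
      inferInstance
    exact isIso_of_epi_of_tilde _ F eP eQ


end


/-- Let X be a scheme, E a finite locally free O_X-module of rank n and s : E → O_X a regular section,
meaning that around every point of X there is an affine open U and a basis e_1, …, e_n of E(U) over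
Γ(X, U) such that s(e_1), …, s(e_n) is a weakly regular sequence in Γ(X, U) (each a non-zero-divisor
modulo the previous ones). Let i : Y → X be a closed immersion whose ideal sheaf I_Y is the image of
s: t : E → I_Y is an epimorphism of O_X-modules with t followed by the inclusion I_Y → O_X equal to
s. Then the pulled-back map i^*t : i^*E → i^*I_Y is an isomorphism of O_Y-modules; its target is the
conormal sheaf C_{Y/X} = I_Y/I_Y², so E|_Y ≅ C_{Y/X} via s and, dually, N_{Y/X} ≅ E^∨|_Y. (The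
published statement calls s regular when its image is a regular ideal sheaf locally generated by
rank-many sections; the local bases mapping to regular sequences used here are how the published
proofs read that condition.) -/
theorem result {X Y : Scheme.{u}} (n : ℕ) (E : X.Modules)
    (hE : FlatMod.IsFinLocFreeOfRank n E) (s : E ⟶ Coh.structureModule X)
    (hs : ∀ x : X, ∃ U : X.affineOpens, x ∈ U.1 ∧
      ∃ b : Module.Basis (Fin n) Γ(X, U.1) (E.val.obj (op U.1)),
        @RingTheory.Sequence.IsWeaklyRegular Γ(X, U.1) Γ(X, U.1) _ _ _ (List.ofFn fun k => (s.val.app (op U.1)).hom (b k)))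
    (i : Y ⟶ X) [IsClosedImmersion i] (t : E ⟶ ClSub.idealMod i.ker) [Epi t]
    (hts : t ≫ ClSub.idealModι i.ker = s) :
    IsIso ((Scheme.Modules.pullback i).map t) := by
  classical
  exact main n E hE s hs i t hts

end Groth.Agent.S15826
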