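import Groth.Statements.S1583
-- import your own Groth.Agent.* helpers here
import Groth.Agent.Lib.Helper7.GeomConn.Main

set_option autoImplicit false
universe u
open CategoryTheory CategoryTheory.Limits AlgebraicGeometry
open Variety

namespace Groth.Agent.S1583

/-- Let K be any field extension of k and X a scheme over k. The image in X of a connected component of
X_K is a connected component of X. -/
theorem result (k : Type u) [Field k] (X : Scheme.{u}) [X.Over (Spec (CommRingCat.of k))] (K : Type u) [Field K] [Algebra k K]
    (x' : Curv2.bc k X K) :
    (Curv2.bcFst k X K).base '' connectedComponent x' = connectedComponent (Curv2.bcFst k X K x') := by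
  exact Groth.Agent.Helper7.GeomConn.image_connectedComponent X (X ↘ Spec (CommRingCat.of k)) x'

end Groth.Agent.S1583
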