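import Groth.Statements.S15832
import Mathlib
import Groth.Agent.Lib.Helper9.TranslateTopology

set_option autoImplicit false
universe u
open TopGrp

namespace Groth.Agent.S15832

/-- For a group T with a topology, let B be the family of two-sided translates x Γ y, where Γ runs over
the subgroups of T open in the given topology and x, y over T; the topology generated by B makes T a
topological group in which every neighbourhood of the identity contains a subgroup open for that
topology. (The published statement is for the free topological product of two Noohi groups whose
open subgroups form a basis of neighbourhoods of the identity; the argument uses only the group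
structure and the chosen family of subgroups, so the row is stated for an arbitrary group with a
topology. The published conventions include Hausdorffness in the word topological group; this row
does not assert it, and the published argument does not prove it.) -/
theorem result (T : Type u) [Group T]
    [TopologicalSpace T] :
    @NonarchimedeanGroup T _ (TopologicalSpace.generateFrom
      {S : Set T | ∃ (Γ : OpenSubgroup T) (x y : T), S = (fun g : T => x * g * y) '' (Γ : Set T)}) := by
  have hset : {S : Set T | ∃ (Γ : OpenSubgroup T) (x y : T),
      S = (fun g : T => x * g * y) '' (Γ : Set T)} =
      Groth.Agent.Helper9.translateSets T {H : Subgroup T | IsOpen (H : Set T)} := by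
    have himg : ∀ (H : Subgroup T) (x y : T),
        (fun g : T => x * g * y) '' (H : Set T) = {z | x⁻¹ * z * y⁻¹ ∈ H} := by
      intro H x y
      ext z
      constructor
      · rintro ⟨g, hg, rfl⟩
        have : x⁻¹ * (x * g * y) * y⁻¹ = g := by group
        change x⁻¹ * (x * g * y) * y⁻¹ ∈ H
        rw [this]; exact hg
      · intro hz
        refine ⟨x⁻¹ * z * y⁻¹, hz, ?_⟩
        change x * (x⁻¹ * z * y⁻¹) * y = z
        group
    ext S
    constructor
    · rintro ⟨Γ, x, y, rfl⟩
      refine ⟨Γ.toSubgroup, Γ.isOpen, x⁻¹, y⁻¹, ?_⟩
      exact himg Γ.toSubgroup x y
    · rintro ⟨H, hH, x, y, rfl⟩
      refine ⟨⟨H, hH⟩, x⁻¹, y⁻¹, ?_⟩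
      have := himg H x⁻¹ y⁻¹
      simp only [inv_inv] at this
      exact this.symm
  rw [hset]
  exact Groth.Agent.Helper9.nonarchimedeanGroup_generateFrom_translateSets T _

end Groth.Agent.S15832
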