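import Groth.Statements.S15833
import Mathlib
-- import your own Groth.Agent.* helpers here

set_option autoImplicit false
universe u
open EtBase

namespace Groth.Agent.S15833

open CategoryTheory CategoryTheory.Limits AlgebraicGeometry
namespace Aux

/-- a morphism from a reduced scheme factors through a surjective closed immersion -/
lemma exists_factor {X X₀ T : Scheme.{u}} (i : X₀ ⟶ X) [IsClosedImmersion i] [Surjective i]
    [IsReduced T] (g : T ⟶ X) : ∃ j : T ⟶ X₀, j ≫ i = g := by
  have : IsIso (pullback.fst g i) := isIso_of_isClosedImmersion_of_surjective _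
  refine ⟨inv (pullback.fst g i) ≫ pullback.snd g i, ?_⟩
  rw [Category.assoc, ← pullback.condition, IsIso.inv_hom_id_assoc]

theorem forward {X X₀ Y : Scheme.{u}} (i : X₀ ⟶ X) (f : Y ⟶ X) (h : ValuativeCriterion f) :
    ValuativeCriterion (pullback.snd f i) := by
  intro S
  let S' : ValuativeCommSq f :=
    { R := S.R
      K := S.K
      i₁ := S.i₁ ≫ pullback.fst f i
      i₂ := S.i₂ ≫ i
      commSq := ⟨by
        rw [Category.assoc, pullback.condition, ← Category.assoc, S.commSq.w, Category.assoc]⟩ }
  obtain ⟨hu⟩ := h S'
  let l₀ := hu.default.l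
  have hl₁ : Spec.map (CommRingCat.ofHom (algebraMap S.R S.K)) ≫ l₀ = S.i₁ ≫ pullback.fst f i :=
    hu.default.fac_left
  have hl₂ : l₀ ≫ f = S.i₂ ≫ i := hu.default.fac_right
  let l : Spec (.of S.R) ⟶ pullback f i := pullback.lift l₀ S.i₂ hl₂
  refine ⟨{ default := ⟨l, ?_, ?_⟩, uniq := ?_ }⟩
  · apply pullback.hom_ext
    · rw [Category.assoc, pullback.lift_fst, hl₁]
    · rw [Category.assoc, pullback.lift_snd, S.commSq.w]
  · exact pullback.lift_snd _ _ _
  · intro m
    apply CommSq.LiftStruct.ext
    change m.l = l
    apply pullback.hom_ext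
    · rw [pullback.lift_fst]
      let m' : S'.commSq.LiftStruct :=
        ⟨m.l ≫ pullback.fst f i, by
          change _ ≫ m.l ≫ _ = S.i₁ ≫ _
          rw [← Category.assoc, m.fac_left], by
          change (m.l ≫ _) ≫ f = S.i₂ ≫ i
          rw [Category.assoc, pullback.condition, ← Category.assoc, m.fac_right]⟩
      have := hu.uniq m'
      exact congrArg CommSq.LiftStruct.l this
    · rw [pullback.lift_snd]
      exact m.fac_right

theorem backward {X X₀ Y : Scheme.{u}} (i : X₀ ⟶ X) [IsClosedImmersion i] [Surjective i]
    (f : Y ⟶ X) (h : ValuativeCriterion (pullback.snd f i)) : ValuativeCriterion f := by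
  intro S
  obtain ⟨j₂, hj₂⟩ := exists_factor i S.i₂
  have hw : S.i₁ ≫ f = (Spec.map (CommRingCat.ofHom (algebraMap S.R S.K)) ≫ j₂) ≫ i := by
    rw [Category.assoc, hj₂, S.commSq.w]
  let S' : ValuativeCommSq (pullback.snd f i) :=
    { R := S.R
      K := S.K
      i₁ := pullback.lift S.i₁ (Spec.map (CommRingCat.ofHom (algebraMap S.R S.K)) ≫ j₂) hw
      i₂ := j₂
      commSq := ⟨pullback.lift_snd _ _ _⟩ }
  obtain ⟨hu⟩ := h S'
  let l' := hu.default.l
  have hl₁ : Spec.map (CommRingCat.ofHom (algebraMap S.R S.K)) ≫ l' =
      pullback.lift S.i₁ (Spec.map (CommRingCat.ofHom (algebraMap S.R S.K)) ≫ j₂) hw :=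
    hu.default.fac_left
  have hl₂ : l' ≫ pullback.snd f i = j₂ := hu.default.fac_right
  refine ⟨{ default := ⟨l' ≫ pullback.fst f i, ?_, ?_⟩, uniq := ?_ }⟩
  · rw [← Category.assoc, hl₁, pullback.lift_fst]
  · rw [Category.assoc, pullback.condition, ← Category.assoc, hl₂, hj₂]
  · intro m
    apply CommSq.LiftStruct.ext
    change m.l = l' ≫ pullback.fst f i
    have hm : m.l ≫ f = j₂ ≫ i := by rw [hj₂]; exact m.fac_right
    let m' : S'.commSq.LiftStruct :=
      ⟨pullback.lift m.l j₂ hm, by
        apply pullback.hom_ext
        · rw [Category.assoc, pullback.lift_fst]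
          change _ = pullback.lift S.i₁ _ hw ≫ _
          rw [pullback.lift_fst]
          exact m.fac_left
        · rw [Category.assoc, pullback.lift_snd]
          change _ = pullback.lift S.i₁ _ hw ≫ _
          rw [pullback.lift_snd], pullback.lift_snd _ _ _⟩
    have := congrArg CommSq.LiftStruct.l (hu.uniq m')
    have h2 : pullback.lift m.l j₂ hm = l' := this
    rw [← h2, pullback.lift_fst]

theorem main {X X₀ Y : Scheme.{u}} (i : X₀ ⟶ X)
    [IsClosedImmersion i] [Surjective i] (f : Y ⟶ X) :
    ValuativeCriterion f ↔ ValuativeCriterion (pullback.snd f i) :=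
  ⟨forward i f, backward i f⟩

end Aux

open CategoryTheory CategoryTheory.Limits AlgebraicGeometry in
/-- Let i : X₀ ⟶ X be a surjective closed immersion of schemes and f : Y ⟶ X a morphism. Then f
satisfies the valuative criterion (existence and uniqueness of a lift in every valuative square,
over arbitrary valuation rings) if and only if its base change Y ×_X X₀ ⟶ X₀ does. (The published
statement takes X locally Noetherian and connected, X₀ the reduced closed subscheme with the same
underlying space and f étale, and combines this step with the equivalence between étale schemes over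
X and over X₀ to identify the geometric coverings, i.e. the étale morphisms satisfying the valuative
criterion, of X and of X₀; the argument for this step uses only that X₀ ⟶ X is a surjective closed
immersion and that valuation rings are reduced.) -/
theorem result {X X₀ Y : Scheme.{u}} (i : X₀ ⟶ X)
    [IsClosedImmersion i] [Surjective i] (f : Y ⟶ X) :
    ValuativeCriterion f ↔ ValuativeCriterion (pullback.snd f i) := by
  exact Aux.main i f

end Groth.Agent.S15833
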