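import Groth.Statements.S15835
import Mathlib

set_option autoImplicit false
universe u
open SprIso

namespace Groth.Agent.S15835

/-- Over a commutative ring R of prime characteristic p, let n ≥ 1 and let p^m be the largest power of p
dividing n. The locus of n × n matrices with characteristic polynomial t^n is stable under adding a
scalar matrix a·1 with n·a = 0 exactly when a^(p^m) = 0: for X with characteristic polynomial t^n
and such an a, the matrix X + a·1 has characteristic polynomial t^n if and only if a^(p^m) = 0.
(Stated on points with values in an arbitrary ring of characteristic p; the scheme-theoretic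
assertion about the nilpotent scheme of SL_n is this statement for all such rings.) -/
theorem result (p : ℕ) [Fact p.Prime] (R : Type u) [CommRing R]
    [CharP R p] (n : ℕ) (hn : 0 < n) (X : Matrix (Fin n) (Fin n) R) (hX : X.charpoly = Polynomial.X ^ n)
    (a : R) (ha : (n : R) * a = 0) :
    (X + Matrix.scalar (Fin n) a).charpoly = Polynomial.X ^ n ↔ a ^ (p ^ padicValNat p n) = 0 := by
  classical
  have hp : p.Prime := Fact.out
  set m := padicValNat p n with hm
  obtain ⟨q, hq⟩ : p ^ m ∣ n := pow_padicValNat_dvd
  have hqnd : ¬ p ∣ q := by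
    intro hpq
    apply pow_succ_padicValNat_not_dvd (p := p) hn.ne'
    rw [pow_succ]
    conv_rhs => rw [hq]
    exact mul_dvd_mul_left _ hpq
  have hqpos : 0 < q := by
    rcases Nat.eq_zero_or_pos q with h0 | h0
    · exfalso; apply hqnd; rw [h0]; exact dvd_zero _
    · exact h0
  have hpm : 0 < p ^ m := pow_pos hp.pos _
  have hqunit : IsUnit (q : R) := (CharP.isUnit_natCast_iff hp).mpr hqnd
  have hchar : (X + Matrix.scalar (Fin n) a).charpoly = (Polynomial.X - Polynomial.C a) ^ n := by
    have h1 : X + Matrix.scalar (Fin n) a = X - Matrix.scalar (Fin n) (-a) := by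
      rw [map_neg, sub_neg_eq_add]
    rw [h1, Matrix.charpoly_sub_scalar, hX]
    simp [sub_eq_add_neg]
  have hexp : (Polynomial.X - Polynomial.C a) ^ n =
      Polynomial.expand R (p ^ m) ((Polynomial.X - Polynomial.C (a ^ p ^ m)) ^ q) := by
    rw [hq, pow_mul, sub_pow_char_pow, map_pow, map_sub, Polynomial.expand_X, Polynomial.expand_C,
      Polynomial.C_pow]
  have hexp2 : (Polynomial.X : Polynomial R) ^ n = Polynomial.expand R (p ^ m) (Polynomial.X ^ q) := by
    rw [hq, pow_mul, map_pow, Polynomial.expand_X]
  rw [hchar, hexp, hexp2, (Polynomial.expand_injective hpm).eq_iff]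
  constructor
  · intro h
    have hc := congrArg (fun P => Polynomial.coeff P (q - 1)) h
    have hsub : (Polynomial.X - Polynomial.C (a ^ p ^ m) : Polynomial R) =
        Polynomial.X + Polynomial.C (-(a ^ p ^ m)) := by rw [map_neg, sub_eq_add_neg]
    simp only [hsub, Polynomial.coeff_X_add_C_pow, Polynomial.coeff_X_pow] at hc
    have h1 : q - (q - 1) = 1 := by omega
    have h2 : q - 1 ≠ q := by omega
    have h3 : q.choose (q - 1) = q := by
      rw [← Nat.choose_symm (by omega : q - 1 ≤ q), h1, Nat.choose_one_right]
    rw [h1, if_neg h2, pow_one, h3] at hc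
    have := hqunit.mul_left_eq_zero.mp hc
    simpa using this
  · intro h
    rw [h, map_zero, sub_zero]

end Groth.Agent.S15835
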