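import Groth.Statements.S15838
import Mathlib
-- import your own Groth.Agent.* helpers here

set_option autoImplicit false
universe u
open scoped TensorProduct
open SprIso

namespace Groth.Agent.S15838

open scoped TensorProduct
open Module
namespace Aux
variable {k : Type u} [Field k] [PerfectField k] {V : Type u} [AddCommGroup V] [Module k V]
  [FiniteDimensional k V] {R : Type u} [CommRing R] [Algebra k R]

lemma mem_adjoin_of_jordan {X Y N : End k V} (hY : Y.IsSemisimple) (hN : IsNilpotent N)
    (hc : Commute Y N) (hX : X = Y + N) :
    Y ∈ Algebra.adjoin k {X} ∧ N ∈ Algebra.adjoin k {X} := by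
  obtain ⟨n, hn, s, hs, hnn, hss, hXns⟩ := X.exists_isNilpotent_isSemisimple
  have hnX : Commute n X := (Algebra.commute_of_mem_adjoin_self hn).symm
  have hcomm : Commute n s := Algebra.commute_of_mem_adjoin_singleton_of_commute hs hnX
  have := End.isNilpotent_isSemisimple_unique hN hY hnn hss hc.symm hcomm
    (by rw [← hXns, hX, add_comm])
  rw [this.1, this.2]
  exact ⟨hs, hn⟩

lemma commute_baseChange_of_mem_adjoin {X a : End k V} (ha : a ∈ Algebra.adjoin k {X})
    (h : End R (R ⊗[k] V)) (hh : Commute h (X.baseChange R)) : Commute h (a.baseChange R) := by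
  have h1 : (End.baseChangeHom k R V) a ∈ Algebra.adjoin k {(End.baseChangeHom k R V) X} := by
    rw [← Set.image_singleton, ← AlgHom.map_adjoin]
    exact ⟨a, ha, rfl⟩
  exact Algebra.commute_of_mem_adjoin_singleton_of_commute h1 hh

theorem additive (h : End R (R ⊗[k] V)) (X Y N : End k V) (hY : Y.IsSemisimple)
    (hN : IsNilpotent N) (hc : Commute Y N) (hX : X = Y + N) :
    Commute h (X.baseChange R) ↔ Commute h (Y.baseChange R) ∧ Commute h (N.baseChange R) := by
  obtain ⟨hYm, hNm⟩ := mem_adjoin_of_jordan hY hN hc hX
  constructor
  · intro hh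
    exact ⟨commute_baseChange_of_mem_adjoin hYm h hh, commute_baseChange_of_mem_adjoin hNm h hh⟩
  · rintro ⟨h1, h2⟩
    rw [hX, LinearMap.baseChange_add]
    exact h1.add_right h2

theorem multiplicative (h : End R (R ⊗[k] V)) (g t u : End k V) (hg : IsUnit g)
    (ht : t.IsSemisimple) (hu : IsNilpotent (u - 1)) (hc : Commute t u) (hgtu : g = t * u) :
    Commute h (g.baseChange R) ↔ Commute h (t.baseChange R) ∧ Commute h (u.baseChange R) := by
  have hbc : g.baseChange R = t.baseChange R * u.baseChange R := by
    rw [hgtu, LinearMap.baseChange_mul]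
  constructor
  · intro hh
    have hN : IsNilpotent (t * (u - 1)) :=
      Commute.isNilpotent_mul_left (hc.sub_right (Commute.one_right t)) hu
    have hcYN : Commute t (t * (u - 1)) :=
      (Commute.refl t).mul_right (hc.sub_right (Commute.one_right t))
    have hsum : g = t + t * (u - 1) := by rw [hgtu]; noncomm_ring
    have htm := (mem_adjoin_of_jordan ht hN hcYN hsum).1
    have h1 : Commute h (t.baseChange R) := commute_baseChange_of_mem_adjoin htm h hh
    refine ⟨h1, ?_⟩
    have htu : IsUnit t := ((hc.isUnit_mul_iff).mp (hgtu ▸ hg)).1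
    have htR : IsUnit (t.baseChange R) := htu.map (End.baseChangeHom k R V)
    obtain ⟨τ, hτ⟩ := htR
    have h2 : Commute h (τ : End R (R ⊗[k] V)) := hτ ▸ h1
    have h3 : Commute h ((τ⁻¹ : (End R (R ⊗[k] V))ˣ) : End R (R ⊗[k] V)) := h2.units_inv_right
    have h4 : u.baseChange R = ((τ⁻¹ : (End R (R ⊗[k] V))ˣ) : End R (R ⊗[k] V)) * g.baseChange R := by
      rw [hbc, ← hτ, ← mul_assoc, Units.inv_mul, one_mul]
    rw [h4]
    exact h3.mul_right hh
  · rintro ⟨h1, h2⟩
    rw [hbc]
    exact h1.mul_right h2

theorem main (h : End R (R ⊗[k] V)) :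
    (∀ (g t u : Module.End k V), IsUnit g → t.IsSemisimple → IsNilpotent (u - 1) → Commute t u → g = t * u →
      (Commute h (g.baseChange R) ↔ Commute h (t.baseChange R) ∧ Commute h (u.baseChange R))) ∧
    (∀ (X Y N : Module.End k V), Y.IsSemisimple → IsNilpotent N → Commute Y N → X = Y + N →
      (Commute h (X.baseChange R) ↔ Commute h (Y.baseChange R) ∧ Commute h (N.baseChange R))) :=
  ⟨fun g t u hg ht hu hc hgtu => multiplicative h g t u hg ht hu hc hgtu,
   fun X Y N hY hN hc hX => additive h X Y N hY hN hc hX⟩

end Aux

/-- General linear group case: this is the case G = GL(V), to which the general case reduces along a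
closed embedding. Let k be a perfect field and V a finite-dimensional k-vector space. If an
invertible endomorphism g of V has multiplicative Jordan decomposition g = t u (t semisimple, u
unipotent, t and u commuting), then the scheme-theoretic centralizer of g in GL(V) is the
centralizer of u inside the centralizer of t: for every commutative k-algebra R, an R-linear
endomorphism h of R ⊗ V commutes with g_R if and only if it commutes with both t_R and u_R.
Likewise, if an endomorphism X of V has additive Jordan decomposition X = Y + N (Y semisimple, N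
nilpotent, commuting), then h commutes with X_R if and only if it commutes with both Y_R and N_R. -/
theorem result (k : Type u) [Field k] [PerfectField k]
    (V : Type u) [AddCommGroup V] [Module k V] [FiniteDimensional k V]
    (R : Type u) [CommRing R] [Algebra k R] (h : Module.End R (R ⊗[k] V)) :
    (∀ (g t u : Module.End k V), IsUnit g → t.IsSemisimple → IsNilpotent (u - 1) → Commute t u → g = t * u →
      (Commute h (g.baseChange R) ↔ Commute h (t.baseChange R) ∧ Commute h (u.baseChange R))) ∧
    (∀ (X Y N : Module.End k V), Y.IsSemisimple → IsNilpotent N → Commute Y N → X = Y + N →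
      (Commute h (X.baseChange R) ↔ Commute h (Y.baseChange R) ∧ Commute h (N.baseChange R))) := by
  exact Aux.main h

end Groth.Agent.S15838
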