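import Groth.Statements.S4599
import Groth.Agent.Lib.Helper2.LfpOfComp

set_option autoImplicit false
universe u
open AlgebraicGeometry CategoryTheory CategoryTheory.Limits
open EGA41

namespace Groth.Agent.S4599

/-- The diagonal of a morphism locally of finite type is locally of finite presentation. -/
theorem result {Y Z : Scheme.{u}} (g : Y ⟶ Z)
    [LocallyOfFiniteType g] : LocallyOfFinitePresentation (pullback.diagonal g) := by
  apply Groth.Agent.Helper2.locallyOfFinitePresentation_of_comp (pullback.diagonal g)
    (pullback.fst g g) inferInstance
  rw [pullback.diagonal_fst]
  infer_instance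

end Groth.Agent.S4599
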