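import Groth.Statements.S15839
import Groth.Agent.S4599

set_option autoImplicit false
universe u
open CategoryTheory MonoidalCategory CartesianMonoidalCategory MonObj GrpObj AlgebraicGeometry
open SprIso

namespace Groth.Agent.S15839

/-- Let S be a scheme, G an S-group scheme which is affine and of finite presentation over S, and g a
section of G over S. Then the centralizer of g — the subfunctor of G whose points with values in an
S-scheme T are the points x of G with x g_T = g_T x — is represented by a closed subscheme of G
whose inclusion is of finite presentation. -/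
theorem result (S : Scheme.{u}) (G : Over S) [GrpObj G]
    [IsAffineHom G.hom] [LocallyOfFinitePresentation G.hom] (g : 𝟙_ (Over S) ⟶ G) :
    ∃ (Z : Over S) (j : Z ⟶ G), IsClosedImmersion j.left ∧ LocallyOfFinitePresentation j.left ∧
      ∀ (T : Over S) (x : T ⟶ G), (∃ z : T ⟶ Z, z ≫ j = x) ↔
        x * (toUnit T ≫ g) = (toUnit T ≫ g) * x := by
  classical
  -- the two translation maps
  let φ : G ⟶ G := 𝟙 G * (toUnit G ≫ g)
  let ψ : G ⟶ G := (toUnit G ≫ g) * 𝟙 G
  have hφ : ∀ (T : Over S) (x : T ⟶ G), x ≫ φ = x * (toUnit T ≫ g) := by
    intro T x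
    simp only [φ, comp_mul, Category.comp_id]
    congr 1
    rw [← Category.assoc]
    congr 1
    exact toUnit_unique _ _
  have hψ : ∀ (T : Over S) (x : T ⟶ G), x ≫ ψ = (toUnit T ≫ g) * x := by
    intro T x
    simp only [ψ, comp_mul, Category.comp_id]
    congr 1
    rw [← Category.assoc]
    congr 1
    exact toUnit_unique _ _
  -- the pair map G ⟶ G ×_S G
  let pr : G.left ⟶ Limits.pullback G.hom G.hom :=
    Limits.pullback.lift φ.left ψ.left (by rw [Over.w φ, Over.w ψ])
  have : IsSeparated G.hom := inferInstance
  have hfp : LocallyOfFinitePresentation (Limits.pullback.diagonal G.hom) :=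
    Groth.Agent.S4599.result G.hom
  let Zl : Scheme.{u} := Limits.pullback (Limits.pullback.diagonal G.hom) pr
  let jl : Zl ⟶ G.left := Limits.pullback.snd _ _
  have hjeq : jl ≫ φ.left = jl ≫ ψ.left := by
    have h1 : jl ≫ pr = Limits.pullback.fst _ _ ≫ Limits.pullback.diagonal G.hom :=
      (Limits.pullback.condition).symm
    have h2 := congrArg (· ≫ Limits.pullback.fst G.hom G.hom) h1
    have h3 := congrArg (· ≫ Limits.pullback.snd G.hom G.hom) h1
    simp only [Category.assoc, pr, Limits.pullback.lift_fst, Limits.pullback.lift_snd,
      Limits.pullback.diagonal_fst, Limits.pullback.diagonal_snd, Category.comp_id] at h2 h3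
    rw [h2, h3]
  refine ⟨Over.mk (jl ≫ G.hom), Over.homMk jl rfl, ?_, ?_, ?_⟩
  · show IsClosedImmersion jl
    infer_instance
  · show LocallyOfFinitePresentation jl
    infer_instance
  · intro T x
    rw [← hφ, ← hψ]
    constructor
    · rintro ⟨z, rfl⟩
      ext
      simp only [Over.comp_left, Over.homMk_left, Category.assoc]
      rw [hjeq]
    · intro h
      have hl : x.left ≫ φ.left = x.left ≫ ψ.left := by
        have := congrArg (fun f => f.left) h
        simpa using this
      refine ⟨Over.homMk (Limits.pullback.lift (x.left ≫ φ.left) x.left ?_) ?_, ?_⟩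
      · apply Limits.pullback.hom_ext
        · rw [Category.assoc, Limits.pullback.diagonal_fst, Category.comp_id, Category.assoc,
            Limits.pullback.lift_fst]
        · rw [Category.assoc, Limits.pullback.diagonal_snd, Category.comp_id, Category.assoc,
            Limits.pullback.lift_snd, hl]
      · show Limits.pullback.lift _ _ _ ≫ jl ≫ G.hom = T.hom
        rw [← Category.assoc, Limits.pullback.lift_snd, Over.w]
      · ext
        show Limits.pullback.lift _ _ _ ≫ jl = x.left
        rw [Limits.pullback.lift_snd]

end Groth.Agent.S15839
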