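import Groth.Statements.S15845
import Mathlib
-- import your own Groth.Agent.* helpers here

set_option autoImplicit false
universe u
open SprIso

namespace Groth.Agent.S15845

namespace Aux
variable {k : Type u} [Field k] {n : ℕ} {R : Type u} [CommRing R] [Algebra k R]

theorem main (u : Matrix (Fin n) (Fin n) k) (htri : ∀ i j : Fin n, j < i → u i j = 0)
    (hdiag : ∀ i j : Fin n, u i i = u j j)
    (hreg : ∀ (i j : Fin n), j.val = i.val + 1 → u i j ≠ 0)
    (x : Matrix (Fin n) (Fin n) R)
    (hxu : x * u.map (algebraMap k R) = u.map (algebraMap k R) * x) :
    (∀ i j : Fin n, j < i → x i j = 0) ∧ (∀ i j : Fin n, x i i = x j j) := by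
  set U := u.map (algebraMap k R) with hU
  have hUtri : ∀ i j : Fin n, j < i → U i j = 0 := by
    intro i j h
    simp [hU, htri i j h]
  have hUdiag : ∀ i j : Fin n, U i i = U j j := by
    intro i j
    simp [hU, hdiag i j]
  have hUreg : ∀ i j : Fin n, j.val = i.val + 1 → IsUnit (U i j) := by
    intro i j h
    simp only [hU, Matrix.map_apply]
    exact (IsUnit.mk0 _ (hreg i j h)).map _
  have hentry : ∀ i j : Fin n, ∑ l, x i l * U l j = ∑ l, U i l * x l j := by
    intro i j
    have := congrFun (congrFun hxu i) j
    simpa [Matrix.mul_apply] using this
  have hlow : ∀ (m : ℕ) (i j : Fin n), j < i →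
      2 * n - (i.val - j.val) - i.val ≤ m → x i j = 0 := by
    intro m
    induction m with
    | zero =>
      intro i j hji hm
      have h1 := i.isLt
      have h2 : j.val < i.val := hji
      omega
    | succ m ih =>
      intro i j hji hm
      have hji' : j.val < i.val := hji
      have hj' : j.val + 1 < n := by have := i.isLt; omega
      let j' : Fin n := ⟨j.val + 1, hj'⟩
      have hjj' : j ≠ j' := by
        intro h
        have := congrArg Fin.val h
        simp [j'] at this
      have h1 : ∑ l, x i l * U l j' = x i j * U j j' + x i j' * U j' j' := by
        apply Fintype.sum_eq_add j j' hjj'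
        rintro l ⟨hlj, hlj'⟩
        by_cases hl : l.val < j.val
        · have hli : l < i := lt_trans (show l < j from hl) hji
          rw [ih i l hli (by have := i.isLt; omega), zero_mul]
        · have hlj2 : l.val ≠ j.val := fun h => hlj (Fin.ext h)
          have hlj3 : l.val ≠ j.val + 1 := fun h => hlj' (Fin.ext h)
          have : j' < l := by
            change j.val + 1 < l.val
            omega
          rw [hUtri l j' this, mul_zero]
      have h2 : ∑ l, U i l * x l j' = U i i * x i j' := by
        apply Fintype.sum_eq_single i
        intro l hl
        by_cases hli : l < i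
        · rw [hUtri i l hli, zero_mul]
        · have hil : i.val < l.val := by
            have h1 : ¬ l.val < i.val := hli
            have h2 : l.val ≠ i.val := fun h => hl (Fin.ext h)
            omega
          have hj'l : j' < l := by
            change j.val + 1 < l.val
            omega
          rw [ih l j' hj'l (by have := l.isLt; simp only [j']; omega), mul_zero]
      have h3 := hentry i j'
      rw [h1, h2, hUdiag j' i] at h3
      have h4 : x i j * U j j' = 0 := by linear_combination h3
      exact (hUreg j j' rfl).mul_left_eq_zero.mp h4
  have hlow' : ∀ i j : Fin n, j < i → x i j = 0 := fun i j h => hlow _ i j h le_rfl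
  have hstep : ∀ i j' : Fin n, j'.val = i.val + 1 → x i i = x j' j' := by
    intro i j' hij'
    have hne : i ≠ j' := by
      intro h
      have := congrArg Fin.val h
      omega
    have h1 : ∑ l, x i l * U l j' = x i i * U i j' + x i j' * U j' j' := by
      apply Fintype.sum_eq_add i j' hne
      rintro l ⟨hli, hlj'⟩
      by_cases hl : l < i
      · rw [hlow' i l hl, zero_mul]
      · have h1 : ¬ l.val < i.val := hl
        have h2 : l.val ≠ i.val := fun h => hli (Fin.ext h)
        have h3 : l.val ≠ j'.val := fun h => hlj' (Fin.ext h)
        have : j' < l := by
          change j'.val < l.val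
          omega
        rw [hUtri l j' this, mul_zero]
    have h2 : ∑ l, U i l * x l j' = U i i * x i j' + U i j' * x j' j' := by
      apply Fintype.sum_eq_add i j' hne
      rintro l ⟨hli, hlj'⟩
      by_cases hl : l < i
      · rw [hUtri i l hl, zero_mul]
      · have h1 : ¬ l.val < i.val := hl
        have h2 : l.val ≠ i.val := fun h => hli (Fin.ext h)
        have h3 : l.val ≠ j'.val := fun h => hlj' (Fin.ext h)
        have : j' < l := by
          change j'.val < l.val
          omega
        rw [hlow' l j' this, mul_zero]
    have h3 := hentry i j'
    rw [h1, h2, hUdiag j' i] at h3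
    have h4 : (x i i - x j' j') * U i j' = 0 := by linear_combination h3
    exact sub_eq_zero.mp ((hUreg i j' hij').mul_left_eq_zero.mp h4)
  refine ⟨hlow', ?_⟩
  have hall : ∀ (a : ℕ) (ha : a < n), x ⟨a, ha⟩ ⟨a, ha⟩ = x ⟨0, by omega⟩ ⟨0, by omega⟩ := by
    intro a
    induction a with
    | zero => intro ha; rfl
    | succ a ih =>
      intro ha
      rw [← ih (by omega)]
      exact (hstep ⟨a, by omega⟩ ⟨a + 1, ha⟩ rfl).symm
  intro i j
  have h1 := hall i.val i.isLt
  have h2 := hall j.val j.isLt
  simp only [Fin.eta] at h1 h2
  rw [h1, h2]

end Aux

/-- General linear group case: this is the case G = GL_n with its upper-triangular Borel subgroup B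
(derived group SL_n simply connected, all primes good, so the hypotheses on the characteristic
hold), together with the companion statement for a regular nilpotent element of Lie B. Let k be a
field and u an n × n upper-triangular matrix over k whose diagonal entries are all equal and whose
superdiagonal entries u_{i,i+1} are all non-zero — for diagonal 1 this is a regular unipotent
element of B(k), for diagonal 0 a regular nilpotent element of Lie B. Then the centralizer of u in
GL_n is contained in B and is the product of the centre with the centralizer in the unipotent
radical: for every commutative k-algebra R and every invertible x ∈ M_n(R) commuting with u_R, x is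
upper triangular and its diagonal entries are all equal. (The smoothness of the centralizer in the
unipotent radical, also part of the published statement, is not stated here.) -/
theorem result (k : Type u) [Field k] (n : ℕ)
    (u : Matrix (Fin n) (Fin n) k) (htri : ∀ i j : Fin n, j < i → u i j = 0) (hdiag : ∀ i j : Fin n, u i i = u j j)
    (hreg : ∀ (i j : Fin n), j.val = i.val + 1 → u i j ≠ 0)
    (R : Type u) [CommRing R] [Algebra k R] (x : Matrix (Fin n) (Fin n) R) (hx : IsUnit x)
    (hxu : x * u.map (algebraMap k R) = u.map (algebraMap k R) * x) :
    (∀ i j : Fin n, j < i → x i j = 0) ∧ (∀ i j : Fin n, x i i = x j j) := by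
  exact Aux.main u htri hdiag hreg x hxu

end Groth.Agent.S15845
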