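import Groth.Statements.S15893
import Mathlib
import Groth.Agent.Lib.Helper9.CartDualEval

set_option autoImplicit false
universe u v w
open CartDual

namespace Groth.Agent.S15893

/-- Let R be a commutative ring and A, B commutative and cocommutative Hopf algebras over R, each
finitely generated and projective as an R-module (finite locally free commutative group schemes G =
Spec A, H = Spec B over Spec R). Then Cartier duality is a fully faithful contravariant functor: the
map sending a bialgebra homomorphism f : A → B (a homomorphism of group schemes H → G) to its
transpose between the dual Hopf algebras, Hom_R(B, R) → Hom_R(A, R) (the dual homomorphism G^D →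
H^D), is a bijection between bialgebra homomorphisms A → B and bialgebra homomorphisms Hom_R(B, R) →
Hom_R(A, R). (The published statement also asserts that the canonical map to the double dual is an
isomorphism, which makes duality an involutory anti-equivalence; that part is not restated here. The
published notes work over a Noetherian base ring; the row allows any commutative base ring.) -/
theorem result (R : Type u) [CommRing R] (A : Type v) (B : Type w)
    [CommRing A] [HopfAlgebra R A] [Coalgebra.IsCocomm R A] [Module.Finite R A] [Module.Projective R A]
    [CommRing B] [HopfAlgebra R B] [Coalgebra.IsCocomm R B] [Module.Finite R B] [Module.Projective R B] :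
    Function.Bijective (fun f : A →ₐc[R] B => CartDual.transpose R f) := by
  open Groth.Agent.Helper9 in
  classical
  constructor
  · intro f g hfg
    apply DFunLike.ext
    intro a
    apply cartDual_ext_of_forall_apply_eq R B
    intro x
    have := congrArg (fun φ : CartDual.D R B →ₐc[R] CartDual.D R A => φ x a) hfg
    simpa using this
  · intro φ
    let eB : B ≃ₐc[R] CartDual.D R (CartDual.D R B) :=
      BialgEquiv.ofBijective (R := R) (A := B) (B := CartDual.D R (CartDual.D R B)) (CartDual.eval R B) (cartDual_eval_bijective R B)
    let f : A →ₐc[R] B :=
      ((eB.symm : CartDual.D R (CartDual.D R B) →ₐc[R] B).comp (CartDual.transpose R φ)).comp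
        (CartDual.eval R A)
    refine ⟨f, ?_⟩
    apply DFunLike.ext
    intro x
    apply WithConv.ext
    apply LinearMap.ext
    intro a
    change CartDual.transpose R f x a = φ x a
    rw [CartDual.transpose_apply]
    have h1 : eB (f a) = CartDual.transpose R φ (CartDual.eval R A a) := by
      change eB (eB.symm _) = _
      rw [BialgEquiv.apply_symm_apply]
      rfl
    have h2 := congrArg (fun y : CartDual.D R (CartDual.D R B) => y x) h1
    change CartDual.eval R B (f a) x = _ at h2
    rw [CartDual.eval_apply, CartDual.transpose_apply, CartDual.eval_apply] at h2
    exact h2

end Groth.Agent.S15893
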