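import Groth.Statements.S15897
import Mathlib

set_option autoImplicit false
universe u v
open CartDual

namespace Groth.Agent.S15897

/-- Let R be a commutative ring and A a commutative Hopf algebra over R which is finitely generated and
projective as an R-module (a finite locally free R-group scheme G = Spec A, not assumed
commutative). If the convolution product on the dual Hopf algebra Hom_R(A, R) is commutative, then A
is cocommutative, i.e. G is a commutative group scheme. (The dual Hopf algebra is commutative
exactly when A is cocommutative; the other implication is immediate and not stated. The published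
notes work over a Noetherian base ring; the row allows any commutative base ring.) -/
theorem result (R : Type u) [CommRing R] (A : Type v) [CommRing A] [HopfAlgebra R A]
    [Module.Finite R A] [Module.Projective R A] (h : ∀ x y : CartDual.D R A, x * y = y * x) :
    Coalgebra.IsCocomm R A := by
  constructor
  apply LinearMap.ext
  intro a
  rw [LinearMap.comp_apply]
  have hswap : ∀ (x x' : CartDual.D R A) (t : TensorProduct R A A),
      CartDual.ev₂ R A (x ⊗ₜ[R] x') ((TensorProduct.comm R A A) t) =
        CartDual.ev₂ R A (x' ⊗ₜ[R] x) t := by
    intro x x' t
    induction t using TensorProduct.induction_on with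
    | zero => simp
    | tmul p q => simp [mul_comm]
    | add t t' ht ht' => simp only [map_add, ht, ht']
  have hconv : ∀ (x x' : CartDual.D R A),
      CartDual.ev₂ R A (x ⊗ₜ[R] x') (Coalgebra.comul (R := R) a) = (x * x') a := by
    intro x x'
    rw [CartDual.ev₂_tmul_eq, CartDual.coe_apply, LinearMap.convMul_def]
    simp only [LinearMap.comp_apply, WithConv.ofConv_toConv]
    congr 1
  have key : ∀ y : TensorProduct R (CartDual.D R A) (CartDual.D R A),
      CartDual.ev₂ R A y ((TensorProduct.comm R A A) (Coalgebra.comul (R := R) a)) =
        CartDual.ev₂ R A y (Coalgebra.comul (R := R) a) := by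
    intro y
    induction y using TensorProduct.induction_on with
    | zero => simp
    | tmul x x' => rw [hswap, hconv, hconv, h]
    | add y y' hy hy' => simp only [map_add, LinearMap.add_apply, hy, hy']
  rw [← sub_eq_zero, ← Module.forall_dual_apply_eq_zero_iff R]
  intro φ
  obtain ⟨y, rfl⟩ := (CartDual.ev₂ R A).surjective φ
  rw [map_sub]
  exact sub_eq_zero.mpr (key y)

end Groth.Agent.S15897
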