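import Groth.Statements.S15906
import Mathlib
import Groth.Prelude.Def_W4c3severiratdpLat
import Groth.Agent.Lib.Helper9.DPConic
-- import your own Groth.Agent.* helpers here

set_option autoImplicit false
open Surf

namespace Groth.Agent.S15906

open W4c3severiratdp Groth.Agent.Helper9
namespace Aux

/-- the fifteen types, as lists -/
def Tlist : List (List ℤ) :=
  [[1, 1, 0, 0, 0, 0, 0, 0, 0],
   [2, 1, 1, 1, 1, 0, 0, 0, 0],
   [3, 2, 1, 1, 1, 1, 1, 0, 0],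
   [4, 2, 2, 2, 1, 1, 1, 1, 0],
   [4, 3, 1, 1, 1, 1, 1, 1, 1],
   [5, 2, 2, 2, 2, 2, 2, 1, 0],
   [5, 3, 2, 2, 2, 1, 1, 1, 1],
   [6, 3, 3, 2, 2, 2, 2, 1, 1],
   [7, 3, 3, 3, 3, 2, 2, 2, 1],
   [7, 4, 3, 2, 2, 2, 2, 2, 2],
   [8, 4, 3, 3, 3, 3, 2, 2, 2],
   [8, 3, 3, 3, 3, 3, 3, 3, 1],
   [9, 4, 4, 3, 3, 3, 3, 3, 2],
   [10, 4, 4, 4, 4, 3, 3, 3, 3],
   [11, 4, 4, 4, 4, 4, 4, 4, 3]]

theorem enum_ok : ∀ a ∈ List.range 12,
    ∀ l ∈ DPConic.sortedSols a 8 a (3 * (a:ℤ) - 2) ((a:ℤ) * a), ((a:ℤ) :: l) ∈ Tlist := by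
  decide +kernel

/-- the set of the statement -/
def TS : Set (DP 8) := {![1, 1, 0, 0, 0, 0, 0, 0, 0],
        ![2, 1, 1, 1, 1, 0, 0, 0, 0],
        ![3, 2, 1, 1, 1, 1, 1, 0, 0],
        ![4, 2, 2, 2, 1, 1, 1, 1, 0],
        ![4, 3, 1, 1, 1, 1, 1, 1, 1],
        ![5, 2, 2, 2, 2, 2, 2, 1, 0],
        ![5, 3, 2, 2, 2, 1, 1, 1, 1],
        ![6, 3, 3, 2, 2, 2, 2, 1, 1],
        ![7, 3, 3, 3, 3, 2, 2, 2, 1],
        ![7, 4, 3, 2, 2, 2, 2, 2, 2],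
        ![8, 4, 3, 3, 3, 3, 2, 2, 2],
        ![8, 3, 3, 3, 3, 3, 3, 3, 1],
        ![9, 4, 4, 3, 3, 3, 3, 3, 2],
        ![10, 4, 4, 4, 4, 3, 3, 3, 3],
        ![11, 4, 4, 4, 4, 4, 4, 4, 3]}

/-- the fifteen types as a list of vectors -/
def Tvec : List (DP 8) := [![1, 1, 0, 0, 0, 0, 0, 0, 0],
        ![2, 1, 1, 1, 1, 0, 0, 0, 0],
        ![3, 2, 1, 1, 1, 1, 1, 0, 0],
        ![4, 2, 2, 2, 1, 1, 1, 1, 0],
        ![4, 3, 1, 1, 1, 1, 1, 1, 1],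
        ![5, 2, 2, 2, 2, 2, 2, 1, 0],
        ![5, 3, 2, 2, 2, 1, 1, 1, 1],
        ![6, 3, 3, 2, 2, 2, 2, 1, 1],
        ![7, 3, 3, 3, 3, 2, 2, 2, 1],
        ![7, 4, 3, 2, 2, 2, 2, 2, 2],
        ![8, 4, 3, 3, 3, 3, 2, 2, 2],
        ![8, 3, 3, 3, 3, 3, 3, 3, 1],
        ![9, 4, 4, 3, 3, 3, 3, 3, 2],
        ![10, 4, 4, 4, 4, 3, 3, 3, 3],
        ![11, 4, 4, 4, 4, 4, 4, 4, 3]]

lemma Tlist_eq : Tlist = Tvec.map List.ofFn := by decide

lemma mem_TS_iff' (t : DP 8) : t ∈ TS ↔ t ∈ Tvec := by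
  simp only [TS, Tvec, Set.mem_insert_iff, Set.mem_singleton_iff, List.mem_cons,
    List.not_mem_nil, or_false]

lemma mem_TS_of (t : DP 8) (h : List.ofFn t ∈ Tlist) : t ∈ TS := by
  rw [Tlist_eq, List.mem_map] at h
  obtain ⟨t', ht', h⟩ := h
  rw [mem_TS_iff']
  rwa [← List.ofFn_injective h]

lemma conic_of_mem_TS (t : DP 8) (h : t ∈ TS) : IsConic t := by
  rw [mem_TS_iff'] at h
  rw [DPConic.isConic_iff]
  have key : ∀ t ∈ Tvec, (∑ i : Fin 8, t i.succ = 3 * t 0 - 2 ∧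
      ∑ i : Fin 8, t i.succ * t i.succ = t 0 * t 0) := by decide
  exact key t h

theorem main (v : DP 8) :
    IsConic v ↔
      ∃ t ∈ TS, ∃ σ : Equiv.Perm (Fin 8), v 0 = t 0 ∧ ∀ i : Fin 8, v (σ i).succ = t i.succ := by
  constructor
  · intro hv
    let σ : Equiv.Perm (Fin 8) := Tuple.sort (fun i : Fin 8 => - v i.succ)
    have hmono : Monotone ((fun i : Fin 8 => - v i.succ) ∘ σ) := Tuple.monotone_sort _
    let w : DP 8 := Fin.cons (α := fun _ => ℤ) (v 0) (fun i : Fin 8 => v (σ i).succ)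
    have hw0 : w 0 = v 0 := rfl
    have hws : ∀ i : Fin 8, w i.succ = v (σ i).succ := fun i => rfl
    have hwc : IsConic w := by
      rw [DPConic.isConic_iff] at hv ⊢
      simp only [hw0, hws]
      rw [Equiv.sum_comp σ (fun i => v i.succ), Equiv.sum_comp σ (fun i => v i.succ * v i.succ)]
      exact hv
    have hanti : Antitone (fun i : Fin 8 => w i.succ) := by
      intro i j hij
      have := hmono hij
      simp only [Function.comp] at this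
      simp only [hws]
      omega
    obtain ⟨a, ha, l, hl, hwl⟩ := DPConic.ofFn_mem_sortedSols w hwc hanti
    have hmem : List.ofFn w ∈ Tlist := hwl ▸ enum_ok a ha l hl
    exact ⟨w, mem_TS_of w hmem, σ, hw0.symm, fun i => (hws i).symm⟩
  · rintro ⟨t, ht, σ, h0, hs⟩
    have htc := conic_of_mem_TS t ht
    rw [DPConic.isConic_iff] at htc ⊢
    rw [h0, ← Equiv.sum_comp σ (fun i => v i.succ),
      ← Equiv.sum_comp σ (fun i => v i.succ * v i.succ)]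
    simp only [hs]
    exact htc

end Aux

open W4c3severiratdp in
/-- Work in the lattice of vectors (a; b_1, …, b_δ), standing for divisor classes a ℓ − Σ b_i e_i on the
blow-up of the projective plane at δ points written in a standard basis, with intersection form a a'
− Σ b_i b_i' and canonical class K = (−3; −1, …, −1); a conic class is a class Q with Q·Q = 0 and
K·Q = −2, an exceptional class (the class of a (−1)-curve) is a class E with E·E = −1 and K·E = −1,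
and the Weyl group W_δ is the group of additive automorphisms of the lattice preserving the form and
fixing K. For δ = 8, a class (a; b_1, …, b_8) is a conic class if and only if, up to a permutation
of b_1, …, b_8, it is one of the fifteen vectors (1; 1, 0, 0, 0, 0, 0, 0, 0), (2; 1, 1, 1, 1, 0, 0,
0, 0), (3; 2, 1, 1, 1, 1, 1, 0, 0), (4; 2, 2, 2, 1, 1, 1, 1, 0), (4; 3, 1, 1, 1, 1, 1, 1, 1), (5; 2,
2, 2, 2, 2, 2, 1, 0), (5; 3, 2, 2, 2, 1, 1, 1, 1), (6; 3, 3, 2, 2, 2, 2, 1, 1), (7; 3, 3, 3, 3, 2,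
2, 2, 1), (7; 4, 3, 2, 2, 2, 2, 2, 2), (8; 4, 3, 3, 3, 3, 2, 2, 2), (8; 3, 3, 3, 3, 3, 3, 3, 1), (9;
4, 4, 3, 3, 3, 3, 3, 2), (10; 4, 4, 4, 4, 3, 3, 3, 3), (11; 4, 4, 4, 4, 4, 4, 4, 3). (One line of
the published table is illegible in the available copy; the fifteen vectors here are the complete
solution set of the two defining equations a² = Σ b_i², 3a − Σ b_i = 2.) -/
theorem result (v : DP 8) :
    IsConic v ↔
      ∃ t ∈ ({![1, 1, 0, 0, 0, 0, 0, 0, 0],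
        ![2, 1, 1, 1, 1, 0, 0, 0, 0],
        ![3, 2, 1, 1, 1, 1, 1, 0, 0],
        ![4, 2, 2, 2, 1, 1, 1, 1, 0],
        ![4, 3, 1, 1, 1, 1, 1, 1, 1],
        ![5, 2, 2, 2, 2, 2, 2, 1, 0],
        ![5, 3, 2, 2, 2, 1, 1, 1, 1],
        ![6, 3, 3, 2, 2, 2, 2, 1, 1],
        ![7, 3, 3, 3, 3, 2, 2, 2, 1],
        ![7, 4, 3, 2, 2, 2, 2, 2, 2],
        ![8, 4, 3, 3, 3, 3, 2, 2, 2],
        ![8, 3, 3, 3, 3, 3, 3, 3, 1],
        ![9, 4, 4, 3, 3, 3, 3, 3, 2],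
        ![10, 4, 4, 4, 4, 3, 3, 3, 3],
        ![11, 4, 4, 4, 4, 4, 4, 4, 3]} : Set (DP 8)),
        ∃ σ : Equiv.Perm (Fin 8), v 0 = t 0 ∧ ∀ i : Fin 8, v (σ i).succ = t i.succ := by
  exact Aux.main v

end Groth.Agent.S15906
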