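import Groth.Statements.S15907
import Mathlib
import Groth.Prelude.Def_W4c3severiratdpLat
import Groth.Agent.Lib.Helper9.DPCls
-- import your own Groth.Agent.* helpers here

set_option autoImplicit false
open Surf

namespace Groth.Agent.S15907

open W4c3severiratdp Groth.Agent.Helper9 Groth.Agent.Helper9.DPWeyl Groth.Agent.Helper9.DPCls
namespace Aux

/-- the standard conic `ℓ - e₁` -/
def Q0 (n : ℕ) : DP (n+1) := Fin.cons (α := fun _ => ℤ) 1 (Fin.cons (α := fun _ => ℤ) 1 (fun _ => 0))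

/-- the root `ℓ - e₁ - e₂ - e₃` (or `0` when `δ < 3`) -/
def rootA (δ : ℕ) : DP δ := if 3 ≤ δ then (fun i => if i.val ≤ 3 then 1 else 0) else 0

/-- the decidable facts -/
def Facts (n : ℕ) : Prop :=
  (rootA (n+1) 0 ≠ 0 → form (rootA (n+1)) (rootA (n+1)) = -2 ∧
      form (canon (n+1)) (rootA (n+1)) = 0 ∧ form (Q0 n) (rootA (n+1)) = 0) ∧
  (∀ v ∈ conSorted (n+1), Red (rootA (n+1)) v → List.ofFn v = List.ofFn (Q0 n)) ∧
  (∀ v ∈ (conSemi1 n).filter (fun v => Red (rootA (n+1)) v),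
    ∀ w ∈ (conSemi1 n).filter (fun v => Red (rootA (n+1)) v),
      form (Q0 n) v = form (Q0 n) w → List.ofFn v = List.ofFn w ∨ (n + 1 = 8 ∧ form (Q0 n) v = 4))

instance (n : ℕ) : Decidable (Facts n) := by unfold Facts; infer_instance

lemma Q0_fix (n : ℕ) (τ : Equiv.Perm (Fin n)) : permW (ext0 τ) (Q0 n) = Q0 n :=
  fix1 (Q0 n) 0 (fun _ => rfl) τ

theorem stepA (n : ℕ) (hn : n + 1 ≤ 8) (hf : Facts n) (v : DP (n+1)) (hv : IsConic v) :
    ∃ g : DP (n+1) ≃ₗ[ℤ] DP (n+1), IsWeyl g ∧ g v = Q0 n := by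
  obtain ⟨hR, hU0, -⟩ := hf
  obtain ⟨g, hg, hs, hr⟩ := reduce_exists 0 (-2) (∅ : Set (DP (n+1))) (rootA (n+1))
    (fun h => ⟨(hR h).1, (hR h).2.1, fun f hf => absurd hf (Set.notMem_empty f)⟩) Srt0
    (hsort0 ∅ (fun f hf => absurd hf (Set.notMem_empty f))) 0
    (fun v hv => by have := (DPConic.conic_bound hn v hv).1; omega) v hv
  have hc : IsConic (g v) := cls_weyl hg.1 hv
  have hmem := mem_conSorted hn (g v) hc hs
  exact ⟨g, hg.1, List.ofFn_injective (hU0 _ hmem hr)⟩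

theorem stepB (n : ℕ) (hn : n + 1 ≤ 8) (hf : Facts n) (v : DP (n+1)) (hv : IsConic v) :
    ∃ g : DP (n+1) ≃ₗ[ℤ] DP (n+1), Stab {Q0 n} g ∧
      g v ∈ (conSemi1 n).filter (fun v => Red (rootA (n+1)) v) := by
  obtain ⟨hR, -, -⟩ := hf
  have hS : ∀ F ∈ ({Q0 n} : Set (DP (n+1))), ∀ τ : Equiv.Perm (Fin n), permW (ext0 τ) F = F := by
    intro F hF τ
    rw [Set.mem_singleton_iff.mp hF]
    exact Q0_fix n τ
  obtain ⟨g, hg, hs, hr⟩ := reduce_exists 0 (-2) ({Q0 n} : Set (DP (n+1))) (rootA (n+1))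
    (fun h => ⟨(hR h).1, (hR h).2.1, fun f hf => by
      rw [Set.mem_singleton_iff.mp hf]; exact (hR h).2.2⟩) Srt1
    (fun v => by
      obtain ⟨g, h1, h2, h3, -⟩ := hsort1 _ hS v
      exact ⟨g, h1, h2, h3⟩) 0
    (fun v hv => by have := (DPConic.conic_bound hn v hv).1; omega) v hv
  have hc : IsConic (g v) := cls_weyl hg.1 hv
  have hmem := mem_conSemi1 hn (g v) hc hs
  exact ⟨g, hg, List.mem_filter.mpr ⟨hmem, by simpa using hr⟩⟩

theorem pairs (n : ℕ) (hn : n + 1 ≤ 8) (hf : Facts n)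
    (v₁ v₂ w₁ w₂ : DP (n+1)) (hv₁ : IsConic v₁) (hv₂ : IsConic v₂) (hw₁ : IsConic w₁)
    (hw₂ : IsConic w₂)
    (heq : form v₁ v₂ = form w₁ w₂) (hexc : ¬ (n + 1 = 8 ∧ form v₁ v₂ = 4)) :
    ∃ g : DP (n+1) ≃ₗ[ℤ] DP (n+1), IsWeyl g ∧ g v₁ = w₁ ∧ g v₂ = w₂ := by
  obtain ⟨g₁, hg₁, hgv⟩ := stepA n hn hf v₁ hv₁
  obtain ⟨g₂, hg₂, hgw⟩ := stepA n hn hf w₁ hw₁
  have hc₁ : IsConic (g₁ v₂) := cls_weyl hg₁ hv₂
  have hc₂ : IsConic (g₂ w₂) := cls_weyl hg₂ hw₂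
  obtain ⟨h₁, hh₁, hm₁⟩ := stepB n hn hf _ hc₁
  obtain ⟨h₂, hh₂, hm₂⟩ := stepB n hn hf _ hc₂
  have hQ₁ : h₁ (Q0 n) = Q0 n := hh₁.2 _ rfl
  have hQ₂ : h₂ (Q0 n) = Q0 n := hh₂.2 _ rfl
  have e₁ : form (Q0 n) (h₁ (g₁ v₂)) = form v₁ v₂ := by
    conv_lhs => rw [← hQ₁]
    rw [hh₁.1.1, ← hgv, hg₁.1]
  have e₂ : form (Q0 n) (h₂ (g₂ w₂)) = form w₁ w₂ := by
    conv_lhs => rw [← hQ₂]
    rw [hh₂.1.1, ← hgw, hg₂.1]
  have hu := hf.2.2 _ hm₁ _ hm₂ (by rw [e₁, e₂, heq])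
  have hcc : h₁ (g₁ v₂) = h₂ (g₂ w₂) := by
    rcases hu with hu | hu
    · exact List.ofFn_injective hu
    · exact absurd ⟨hu.1, e₁ ▸ hu.2⟩ hexc
  refine ⟨(g₁.trans h₁).trans (g₂.trans h₂).symm,
    isWeyl_trans (isWeyl_trans hg₁ hh₁.1) (isWeyl_symm (isWeyl_trans hg₂ hh₂.1)), ?_, ?_⟩
  · rw [LinearEquiv.trans_apply, LinearEquiv.symm_apply_eq]
    simp only [LinearEquiv.trans_apply, hgv, hgw, hQ₁, hQ₂]
  · rw [LinearEquiv.trans_apply, LinearEquiv.symm_apply_eq]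
    simp only [LinearEquiv.trans_apply]
    exact hcc

theorem facts1 : Facts 1 := by decide +kernel
theorem facts2 : Facts 2 := by decide +kernel
theorem facts3 : Facts 3 := by decide +kernel
theorem facts4 : Facts 4 := by decide +kernel
theorem facts5 : Facts 5 := by decide +kernel
theorem facts6 : Facts 6 := by decide +kernel
theorem facts7 : Facts 7 := by decide +kernel

theorem main (δ : ℕ) (h2 : 2 ≤ δ) (h8 : δ ≤ 8)
    (v₁ v₂ w₁ w₂ : DP δ) (hv₁ : IsConic v₁) (hv₂ : IsConic v₂) (hw₁ : IsConic w₁) (hw₂ : IsConic w₂)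
    (heq : form v₁ v₂ = form w₁ w₂) (hexc : ¬ (δ = 8 ∧ form v₁ v₂ = 4)) :
    ∃ g : DP δ ≃ₗ[ℤ] DP δ, IsWeyl g ∧ g v₁ = w₁ ∧ g v₂ = w₂ := by
  obtain ⟨n, rfl⟩ : ∃ n, δ = n + 1 := ⟨δ - 1, by omega⟩
  have hf : Facts n := by
    have : n = 1 ∨ n = 2 ∨ n = 3 ∨ n = 4 ∨ n = 5 ∨ n = 6 ∨ n = 7 := by omega
    rcases this with rfl | rfl | rfl | rfl | rfl | rfl | rfl
    · exact facts1
    · exact facts2
    · exact facts3
    · exact facts4
    · exact facts5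
    · exact facts6
    · exact facts7
  exact pairs n h8 hf v₁ v₂ w₁ w₂ hv₁ hv₂ hw₁ hw₂ heq hexc

end Aux

open W4c3severiratdp in
/-- Work in the lattice of vectors (a; b_1, …, b_δ), standing for divisor classes a ℓ − Σ b_i e_i on the
blow-up of the projective plane at δ points written in a standard basis, with intersection form a a'
− Σ b_i b_i' and canonical class K = (−3; −1, …, −1); a conic class is a class Q with Q·Q = 0 and
K·Q = −2, an exceptional class (the class of a (−1)-curve) is a class E with E·E = −1 and K·E = −1,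
and the Weyl group W_δ is the group of additive automorphisms of the lattice preserving the form and
fixing K. For 2 ≤ δ ≤ 8 the intersection product Q_1·Q_2 determines the W_δ-orbit of an ordered pair
(Q_1, Q_2) of conic classes, the only exception being δ = 8 with Q_1·Q_2 = 4: if (Q_1, Q_2) and
(Q_1', Q_2') are ordered pairs of conic classes with Q_1·Q_2 = Q_1'·Q_2', and not both δ = 8 and
Q_1·Q_2 = 4, then some element of W_δ carries Q_1 to Q_1' and Q_2 to Q_2'. -/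
theorem result (δ : ℕ) (h2 : 2 ≤ δ) (h8 : δ ≤ 8)
    (v₁ v₂ w₁ w₂ : DP δ) (hv₁ : IsConic v₁) (hv₂ : IsConic v₂) (hw₁ : IsConic w₁) (hw₂ : IsConic w₂)
    (heq : form v₁ v₂ = form w₁ w₂) (hexc : ¬ (δ = 8 ∧ form v₁ v₂ = 4)) :
    ∃ g : DP δ ≃ₗ[ℤ] DP δ, IsWeyl g ∧ g v₁ = w₁ ∧ g v₂ = w₂ := by
  exact Aux.main δ h2 h8 v₁ v₂ w₁ w₂ hv₁ hv₂ hw₁ hw₂ heq hexc

end Groth.Agent.S15907
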