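import Groth.Statements.S15908
import Mathlib
import Groth.Prelude.Def_W4c3severiratdpLat
import Groth.Agent.Lib.Helper9.DPCls
import Groth.Agent.S15907
-- import your own Groth.Agent.* helpers here

set_option autoImplicit false
open Surf

namespace Groth.Agent.S15908

open W4c3severiratdp Groth.Agent.Helper9 Groth.Agent.Helper9.DPWeyl Groth.Agent.Helper9.DPCls
open Groth.Agent.S15907.Aux
namespace Aux

/-- first representative -/
def c₁ : DP 8 := ![4, 0, 2, 2, 2, 1, 1, 1, 1]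
/-- second representative -/
def c₂ : DP 8 := ![5, 1, 2, 2, 2, 2, 2, 2, 0]
/-- half of `Q0 + c₂` -/
def wh : DP 8 := ![3, 1, 1, 1, 1, 1, 1, 1, 0]

theorem fact4 : ∀ v ∈ (conSemi1 7).filter (fun v => Red (rootA 8) v),
    form (Q0 7) v = 4 → List.ofFn v = List.ofFn c₁ ∨ List.ofFn v = List.ofFn c₂ := by
  decide +kernel

lemma conic_basic : IsConic (Q0 7) ∧ IsConic c₁ ∧ IsConic c₂ ∧ form (Q0 7) c₁ = 4 ∧
    form (Q0 7) c₂ = 4 ∧ Q0 7 + c₂ = (2 : ℤ) • wh ∧ (Q0 7 + c₁) 0 = 5 := by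
  simp only [DPConic.isConic_iff]
  decide

theorem main :
    ∃ p₁ p₂ q₁ q₂ : DP 8, IsConic p₁ ∧ IsConic p₂ ∧ IsConic q₁ ∧ IsConic q₂ ∧ form p₁ p₂ = 4 ∧
      form q₁ q₂ = 4 ∧
      (¬ ∃ g : DP 8 ≃ₗ[ℤ] DP 8, IsWeyl g ∧ g p₁ = q₁ ∧ g p₂ = q₂) ∧
      ∀ v₁ v₂ : DP 8, IsConic v₁ → IsConic v₂ → form v₁ v₂ = 4 →
        ∃ g : DP 8 ≃ₗ[ℤ] DP 8, IsWeyl g ∧ ((g v₁ = p₁ ∧ g v₂ = p₂) ∨ (g v₁ = q₁ ∧ g v₂ = q₂)) := by
  obtain ⟨hQ, hc₁, hc₂, hf₁, hf₂, hsum, h5⟩ := conic_basic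
  refine ⟨Q0 7, c₁, Q0 7, c₂, hQ, hc₁, hQ, hc₂, hf₁, hf₂, ?_, ?_⟩
  · rintro ⟨g, -, hg₁, hg₂⟩
    have h1 : g (Q0 7 + c₁) = (2 : ℤ) • wh := by rw [map_add, hg₁, hg₂, hsum]
    have h2 : Q0 7 + c₁ = (2 : ℤ) • g.symm wh := by
      rw [← map_smul, ← h1, LinearEquiv.symm_apply_apply]
    have h3 := congrFun h2 0
    rw [h5] at h3
    simp only [Pi.smul_apply, smul_eq_mul] at h3
    omega
  · intro v₁ v₂ hv₁ hv₂ h4
    obtain ⟨g₁, hg₁, hgv⟩ := stepA 7 le_rfl facts7 v₁ hv₁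
    have hc : IsConic (g₁ v₂) := cls_weyl hg₁ hv₂
    obtain ⟨h₁, hh₁, hm₁⟩ := stepB 7 le_rfl facts7 _ hc
    have hQ₁ : h₁ (Q0 7) = Q0 7 := hh₁.2 _ rfl
    have e₁ : form (Q0 7) (h₁ (g₁ v₂)) = 4 := by
      conv_lhs => rw [← hQ₁]
      rw [hh₁.1.1, ← hgv, hg₁.1, h4]
    refine ⟨g₁.trans h₁, isWeyl_trans hg₁ hh₁.1, ?_⟩
    simp only [LinearEquiv.trans_apply, hgv, hQ₁, true_and]
    rcases fact4 _ hm₁ e₁ with h | h
    · exact Or.inl (List.ofFn_injective h)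
    · exact Or.inr (List.ofFn_injective h)

end Aux

open W4c3severiratdp in
/-- Work in the lattice of vectors (a; b_1, …, b_δ), standing for divisor classes a ℓ − Σ b_i e_i on the
blow-up of the projective plane at δ points written in a standard basis, with intersection form a a'
− Σ b_i b_i' and canonical class K = (−3; −1, …, −1); a conic class is a class Q with Q·Q = 0 and
K·Q = −2, an exceptional class (the class of a (−1)-curve) is a class E with E·E = −1 and K·E = −1,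
and the Weyl group W_δ is the group of additive automorphisms of the lattice preserving the form and
fixing K. For δ = 8 the ordered pairs (Q_1, Q_2) of conic classes with Q_1·Q_2 = 4 form exactly two
W_8-orbits: there are two such pairs that no element of W_8 carries one to the other, and every such
pair is carried by an element of W_8 to one of these two. -/
theorem result :
    ∃ p₁ p₂ q₁ q₂ : DP 8, IsConic p₁ ∧ IsConic p₂ ∧ IsConic q₁ ∧ IsConic q₂ ∧ form p₁ p₂ = 4 ∧ form q₁ q₂ = 4 ∧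
      (¬ ∃ g : DP 8 ≃ₗ[ℤ] DP 8, IsWeyl g ∧ g p₁ = q₁ ∧ g p₂ = q₂) ∧
      ∀ v₁ v₂ : DP 8, IsConic v₁ → IsConic v₂ → form v₁ v₂ = 4 →
        ∃ g : DP 8 ≃ₗ[ℤ] DP 8, IsWeyl g ∧ ((g v₁ = p₁ ∧ g v₂ = p₂) ∨ (g v₁ = q₁ ∧ g v₂ = q₂)) := by
  exact Aux.main

end Groth.Agent.S15908
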