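import Groth.Statements.S15909
import Mathlib
import Groth.Prelude.Def_W4c3severiratdpLat
import Groth.Agent.Lib.Helper9.DPCls
import Groth.Agent.S15907
-- import your own Groth.Agent.* helpers here

set_option autoImplicit false
open Surf

namespace Groth.Agent.S15909

open W4c3severiratdp Groth.Agent.Helper9 Groth.Agent.Helper9.DPWeyl Groth.Agent.Helper9.DPCls
open Groth.Agent.S15907.Aux
namespace Aux

/-- the exceptional class `e₁` -/
def E0 : DP 8 := Fin.cons (α := fun _ => ℤ) 0 (Fin.cons (α := fun _ => ℤ) (-1) (fun _ => 0))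

/-- the exceptional class `e₈` -/
def E8 : DP 8 := ![0, 0, 0, 0, 0, 0, 0, 0, -1]

/-- the root `ℓ - e₂ - e₃ - e₄` -/
def r₂ : DP 8 := ![1, 0, 1, 1, 1, 0, 0, 0, 0]

/-- decidable facts about exceptional classes -/
def FactsE : Prop :=
  (form (rootA 8) (rootA 8) = -2 ∧ form (canon 8) (rootA 8) = 0) ∧
  (form r₂ r₂ = -2 ∧ form (canon 8) r₂ = 0 ∧ form E0 r₂ = 0) ∧
  (∀ v ∈ excSorted 8, Red (rootA 8) v → List.ofFn v = List.ofFn E8) ∧
  (∀ v ∈ (excSemi1 7).filter (fun v => Red r₂ v),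
    ∀ w ∈ (excSemi1 7).filter (fun v => Red r₂ v),
      form v E0 = form w E0 → List.ofFn v = List.ofFn w)

instance : Decidable FactsE := by unfold FactsE; infer_instance

theorem factsE : FactsE := by decide +kernel

lemma E0_fix (τ : Equiv.Perm (Fin 7)) : permW (ext0 τ) E0 = E0 :=
  fix1 E0 0 (fun _ => rfl) τ

lemma swap_E8 : permW (Equiv.swap (0 : Fin 8) 7) E8 = E0 := by
  funext i
  refine Fin.cases ?_ (fun j => ?_) i
  · rw [permW_zero]; rfl
  · rw [permW_succ]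
    fin_cases j <;> decide

theorem stepA' (v : DP 8) (hv : IsExc v) :
    ∃ g : DP 8 ≃ₗ[ℤ] DP 8, IsWeyl g ∧ g v = E0 := by
  obtain ⟨hR, -, hU0, -⟩ := factsE
  obtain ⟨g, hg, hs, hr⟩ := reduce_exists (-1) (-1) (∅ : Set (DP 8)) (rootA 8)
    (fun _ => ⟨hR.1, hR.2, fun f hf => absurd hf (Set.notMem_empty f)⟩) Srt0
    (hsort0 ∅ (fun f hf => absurd hf (Set.notMem_empty f))) (-1)
    (fun v hv => (exc_bound le_rfl v hv).1) v hv
  have hc : IsExc (g v) := cls_weyl hg.1 hv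
  have hmem := mem_excSorted le_rfl (g v) hc hs
  have h8 : g v = E8 := List.ofFn_injective (hU0 _ hmem hr)
  refine ⟨g.trans (permW (Equiv.swap (0 : Fin 8) 7)), isWeyl_trans hg.1 (isWeyl_permW _), ?_⟩
  rw [LinearEquiv.trans_apply, h8, swap_E8]

theorem stepB' (v : DP 8) (hv : IsExc v) :
    ∃ g : DP 8 ≃ₗ[ℤ] DP 8, Stab {E0} g ∧ g v ∈ (excSemi1 7).filter (fun v => Red r₂ v) := by
  obtain ⟨-, hR, -, -⟩ := factsE
  have hS : ∀ F ∈ ({E0} : Set (DP 8)), ∀ τ : Equiv.Perm (Fin 7), permW (ext0 τ) F = F := by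
    intro F hF τ
    rw [Set.mem_singleton_iff.mp hF]
    exact E0_fix τ
  obtain ⟨g, hg, hs, hr⟩ := reduce_exists (-1) (-1) ({E0} : Set (DP 8)) r₂
    (fun _ => ⟨hR.1, hR.2.1, fun f hf => by
      rw [Set.mem_singleton_iff.mp hf]; exact hR.2.2⟩) (Srt1 (n := 7))
    (fun v => by
      obtain ⟨g, h1, h2, h3, -⟩ := hsort1 (n := 7) _ hS v
      exact ⟨g, h1, h2, h3⟩) (-1)
    (fun v hv => (exc_bound le_rfl v hv).1) v hv
  have hc : IsExc (g v) := cls_weyl hg.1 hv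
  have hmem := mem_excSemi1 (n := 7) le_rfl (g v) hc hs
  exact ⟨g, hg, List.mem_filter.mpr ⟨hmem, by simpa using hr⟩⟩

/-- transitivity of the stabilizer of `E0` on exceptional classes with given product -/
theorem stab_trans_E0 (u₁ u₂ : DP 8) (h₁ : IsExc u₁) (h₂ : IsExc u₂)
    (h : form u₁ E0 = form u₂ E0) :
    ∃ g : DP 8 ≃ₗ[ℤ] DP 8, Stab {E0} g ∧ g u₁ = u₂ := by
  obtain ⟨g₁, hg₁, hm₁⟩ := stepB' u₁ h₁
  obtain ⟨g₂, hg₂, hm₂⟩ := stepB' u₂ h₂
  have hE₁ : g₁ E0 = E0 := hg₁.2 _ rfl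
  have hE₂ : g₂ E0 = E0 := hg₂.2 _ rfl
  have e₁ : form (g₁ u₁) E0 = form u₁ E0 := by
    conv_lhs => rw [← hE₁]
    rw [hg₁.1.1]
  have e₂ : form (g₂ u₂) E0 = form u₂ E0 := by
    conv_lhs => rw [← hE₂]
    rw [hg₂.1.1]
  have hu := factsE.2.2.2 _ hm₁ _ hm₂ (by rw [e₁, e₂, h])
  have hcc : g₁ u₁ = g₂ u₂ := List.ofFn_injective hu
  refine ⟨g₁.trans g₂.symm, stab_trans hg₁ (stab_symm hg₂), ?_⟩
  rw [LinearEquiv.trans_apply, LinearEquiv.symm_apply_eq]
  exact hcc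

theorem main (L L₁ L₂ : DP 8) (hL : IsExc L) (hL₁ : IsExc L₁)
    (hL₂ : IsExc L₂) (h : form L₁ L = form L₂ L) :
    ∃ g : DP 8 ≃ₗ[ℤ] DP 8, IsWeyl g ∧ g L = L ∧ g L₁ = L₂ := by
  obtain ⟨g₀, hg₀, hgL⟩ := stepA' L hL
  have h₁ : IsExc (g₀ L₁) := cls_weyl hg₀ hL₁
  have h₂ : IsExc (g₀ L₂) := cls_weyl hg₀ hL₂
  have hh : form (g₀ L₁) E0 = form (g₀ L₂) E0 := by
    rw [← hgL, hg₀.1, hg₀.1, h]
  obtain ⟨k, hk, hku⟩ := stab_trans_E0 _ _ h₁ h₂ hh
  refine ⟨(g₀.trans k).trans g₀.symm, isWeyl_trans (isWeyl_trans hg₀ hk.1) (isWeyl_symm hg₀),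
    ?_, ?_⟩
  · rw [LinearEquiv.trans_apply, LinearEquiv.symm_apply_eq, LinearEquiv.trans_apply, hgL]
    exact hk.2 _ rfl
  · rw [LinearEquiv.trans_apply, LinearEquiv.symm_apply_eq, LinearEquiv.trans_apply]
    exact hku

end Aux

open W4c3severiratdp in
/-- Work in the lattice of vectors (a; b_1, …, b_δ), standing for divisor classes a ℓ − Σ b_i e_i on the
blow-up of the projective plane at δ points written in a standard basis, with intersection form a a'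
− Σ b_i b_i' and canonical class K = (−3; −1, …, −1); a conic class is a class Q with Q·Q = 0 and
K·Q = −2, an exceptional class (the class of a (−1)-curve) is a class E with E·E = −1 and K·E = −1,
and the Weyl group W_δ is the group of additive automorphisms of the lattice preserving the form and
fixing K. Let δ = 8 (a del Pezzo surface of degree one) and let L be an exceptional class. If L_1
and L_2 are exceptional classes with L_1·L = L_2·L, then L_1 and L_2 lie in the same orbit of the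
stabilizer of L in W_8. -/
theorem result (L L₁ L₂ : DP 8) (hL : IsExc L) (hL₁ : IsExc L₁)
    (hL₂ : IsExc L₂) (h : form L₁ L = form L₂ L) :
    ∃ g : DP 8 ≃ₗ[ℤ] DP 8, IsWeyl g ∧ g L = L ∧ g L₁ = L₂ := by
  exact Aux.main L L₁ L₂ hL hL₁ hL₂ h

end Groth.Agent.S15909
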