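import Groth.Statements.S15910
import Mathlib
import Groth.Prelude.Def_W4c3severiratdpLat
import Groth.Agent.Lib.Helper9.DPCls
import Groth.Agent.S15907
import Groth.Agent.S15909
-- import your own Groth.Agent.* helpers here

set_option autoImplicit false
open Surf

namespace Groth.Agent.S15910

open W4c3severiratdp Groth.Agent.Helper9 Groth.Agent.Helper9.DPWeyl Groth.Agent.Helper9.DPCls
open Groth.Agent.S15909.Aux
namespace Aux

/-- `ℓ - e₁ - e₂` -/
def c1 : DP 8 := Fin.cons (α := fun _ => ℤ) 1 (Fin.cons (α := fun _ => ℤ) 1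
  (Fin.cons (α := fun _ => ℤ) 1 (fun _ => 0)))
/-- reduced class with `m = 2` -/
def c2 : DP 8 := ![3, 2, 1, 1, 1, 1, 1, 1, 0]
/-- `-2K + e₁` -/
def T : DP 8 := ![6, 1, 2, 2, 2, 2, 2, 2, 2]
/-- `-2K - e₁` -/
def X3 : DP 8 := ![6, 3, 2, 2, 2, 2, 2, 2, 2]
/-- representative -/
def d2 : DP 8 := ![2, 0, 0, 1, 1, 1, 1, 1, 0]
/-- representative -/
def d3 : DP 8 := ![3, 0, 1, 1, 1, 1, 1, 1, 2]
/-- `T - E0 - c1` -/
def e12 : DP 8 := ![5, 1, 1, 2, 2, 2, 2, 2, 2]

/-- the four representatives (for `L = E0`) -/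
def r0 : Fin 4 → Fin 3 → DP 8 := ![![X3, E0, E0], ![c2, d3, E0], ![c1, e12, E0], ![c1, d2, d3]]

/-- the invariant -/
def Inv (t : Fin 3 → DP 8) : ℤ := ∑ i, (form (t i) E0) ^ 2

/-- decidable facts -/
def FactsT : Prop :=
  (List.ofFn T = List.ofFn (E0 - 2 • canon 8)) ∧
  (∀ j i, form (r0 j i) (r0 j i) = -1 ∧ form (canon 8) (r0 j i) = -1) ∧
  (∀ j, List.ofFn (r0 j 0 + r0 j 1 + r0 j 2) = List.ofFn T) ∧
  (∀ j j', Inv (r0 j) = Inv (r0 j') → j = j') ∧
  (∀ v ∈ (excSemi1 7).filter (fun v => Red r₂ v), -1 ≤ form v E0 ∧ form v E0 ≤ 3 ∧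
    (form v E0 = -1 → List.ofFn v = List.ofFn E0)) ∧
  (form c1 r₂ = 0) ∧
  (∀ v ∈ (excSemi2 6).filter (fun v => Red r₂ v), form v E0 = 0 →
    form (T - c1 - v) (T - c1 - v) = -1 → form (canon 8) (T - c1 - v) = -1 →
      List.ofFn v = List.ofFn d2) ∧
  (form T E0 = 1 ∧ form c1 E0 = 1 ∧ form c2 E0 = 2)

instance : Decidable FactsT := by unfold FactsT; infer_instance

theorem factsT : FactsT := by decide +kernel

lemma T_eq : T = E0 - 2 • canon 8 := List.ofFn_injective factsT.1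

lemma r0_exc (j : Fin 4) (i : Fin 3) : IsExc (r0 j i) := factsT.2.1 j i

lemma r0_sum (j : Fin 4) : r0 j 0 + r0 j 1 + r0 j 2 = T := List.ofFn_injective (factsT.2.2.1 j)

lemma stab_T {g : DP 8 ≃ₗ[ℤ] DP 8} (hg : Stab {E0} g) : g T = T := by
  rw [T_eq, map_sub, map_nsmul, hg.2 _ rfl, hg.1.2]

lemma form_stab_E0 {g : DP 8 ≃ₗ[ℤ] DP 8} (hg : Stab {E0} g)
    (u : DP 8) : form (g u) E0 = form u E0 := by
  conv_lhs => rw [← hg.2 _ rfl]
  rw [hg.1.1]

/-- bounds for the product with `E0` -/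
lemma m_bounds (u : DP 8) (hu : IsExc u) :
    -1 ≤ form u E0 ∧ form u E0 ≤ 3 ∧ (form u E0 = -1 → u = E0) := by
  obtain ⟨g, hg, hm⟩ := stepB' u hu
  obtain ⟨h1, h2, h3⟩ := factsT.2.2.2.2.1 _ hm
  rw [form_stab_E0 hg] at h1 h2 h3
  refine ⟨h1, h2, fun h => ?_⟩
  have : g u = E0 := List.ofFn_injective (h3 h)
  rw [← hg.2 E0 rfl] at this
  exact g.injective this

lemma c1_fix (τ : Equiv.Perm (Fin 6)) : permW (ext0 (ext0 τ)) c1 = c1 :=
  fix2 (n := 6) c1 0 (fun _ => rfl) τ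

lemma E0_fix2 (τ : Equiv.Perm (Fin 6)) : permW (ext0 (ext0 τ)) E0 = E0 :=
  fix2 (n := 6) E0 0 (fun _ => rfl) τ

/-- mode 3: the stabilizer of `E0` and `c1` -/
theorem stepC (u : DP 8) (hu : IsExc u) :
    ∃ g : DP 8 ≃ₗ[ℤ] DP 8, Stab {E0, c1} g ∧
      g u ∈ (excSemi2 6).filter (fun v => Red r₂ v) := by
  obtain ⟨-, hR, -, -⟩ := factsE
  have hc1 : form c1 r₂ = 0 := factsT.2.2.2.2.2.1
  have hS : ∀ F ∈ ({E0, c1} : Set (DP 8)), ∀ τ : Equiv.Perm (Fin 6),
      permW (ext0 (ext0 τ)) F = F := by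
    intro F hF τ
    rcases hF with rfl | hF
    · exact E0_fix2 τ
    · rw [Set.mem_singleton_iff.mp hF]
      exact c1_fix τ
  obtain ⟨g, hg, hs, hr⟩ := reduce_exists (-1) (-1) ({E0, c1} : Set (DP 8)) r₂
    (fun _ => ⟨hR.1, hR.2.1, fun f hf => by
      rcases hf with rfl | hf
      · exact hR.2.2
      · rw [Set.mem_singleton_iff.mp hf]; exact hc1⟩) (Srt2 (n := 6))
    (hsort2 (n := 6) _ hS) (-1)
    (fun v hv => (exc_bound le_rfl v hv).1) u hu
  have hc : IsExc (g u) := cls_weyl hg.1 hu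
  have hmem := mem_excSemi2 (n := 6) le_rfl (g u) hc hs
  exact ⟨g, hg, List.mem_filter.mpr ⟨hmem, by simpa using hr⟩⟩

/-- the covering property for `L = E0`, for triples sorted by the product with `E0` -/
theorem cover_sorted (t : Fin 3 → DP 8) (ht : ∀ i, IsExc (t i)) (hsum : t 0 + t 1 + t 2 = T)
    (h01 : form (t 1) E0 ≤ form (t 0) E0) (h12 : form (t 2) E0 ≤ form (t 1) E0) :
    ∃ j, ∃ g : DP 8 ≃ₗ[ℤ] DP 8, Stab {E0} g ∧ ∀ i, g (t i) = r0 j i := by
  obtain ⟨hTE, hc1E, hc2E⟩ := factsT.2.2.2.2.2.2.2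
  have hm : form (t 0) E0 + form (t 1) E0 + form (t 2) E0 = 1 := by
    rw [← form_add_left, ← form_add_left, hsum, hTE]
  obtain ⟨l0, u0, -⟩ := m_bounds _ (ht 0)
  obtain ⟨l1, u1, e1⟩ := m_bounds _ (ht 1)
  obtain ⟨l2, u2, e2⟩ := m_bounds _ (ht 2)
  have hcases : (form (t 0) E0 = 3 ∧ form (t 1) E0 = -1 ∧ form (t 2) E0 = -1) ∨
      (form (t 0) E0 = 2 ∧ form (t 1) E0 = 0 ∧ form (t 2) E0 = -1) ∨
      (form (t 0) E0 = 1 ∧ form (t 1) E0 = 1 ∧ form (t 2) E0 = -1) ∨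
      (form (t 0) E0 = 1 ∧ form (t 1) E0 = 0 ∧ form (t 2) E0 = 0) := by omega
  rcases hcases with ⟨a0, a1, a2⟩ | ⟨a0, a1, a2⟩ | ⟨a0, a1, a2⟩ | ⟨a0, a1, a2⟩
  · -- (3,-1,-1)
    have h1 := e1 a1
    have h2 := e2 a2
    refine ⟨0, LinearEquiv.refl ℤ _, stab_one _, ?_⟩
    have h0 : t 0 = X3 := by
      have : t 0 = T - E0 - E0 := by rw [← hsum, h1, h2]; abel
      rw [this]
      exact List.ofFn_injective (by decide)
    intro i
    fin_cases i
    · exact h0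
    · exact h1
    · exact h2
  · -- (2,0,-1)
    have h2 := e2 a2
    obtain ⟨g, hg, hg0⟩ := stab_trans_E0 (t 0) c2 (ht 0) (r0_exc 1 0) (by rw [a0, hc2E])
    refine ⟨1, g, hg, ?_⟩
    have hg2 : g (t 2) = E0 := by rw [h2]; exact hg.2 _ rfl
    have hg1 : g (t 1) = d3 := by
      have : t 1 = T - t 0 - t 2 := by rw [← hsum]; abel
      rw [this, map_sub, map_sub, stab_T hg, hg0, hg2]
      exact List.ofFn_injective (by decide)
    intro i
    fin_cases i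
    · exact hg0
    · exact hg1
    · exact hg2
  · -- (1,1,-1)
    have h2 := e2 a2
    obtain ⟨g, hg, hg0⟩ := stab_trans_E0 (t 0) c1 (ht 0) (r0_exc 2 0) (by rw [a0, hc1E])
    refine ⟨2, g, hg, ?_⟩
    have hg2 : g (t 2) = E0 := by rw [h2]; exact hg.2 _ rfl
    have hg1 : g (t 1) = e12 := by
      have : t 1 = T - t 0 - t 2 := by rw [← hsum]; abel
      rw [this, map_sub, map_sub, stab_T hg, hg0, hg2]
      exact List.ofFn_injective (by decide)
    intro i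
    fin_cases i
    · exact hg0
    · exact hg1
    · exact hg2
  · -- (1,0,0)
    obtain ⟨g, hg, hg0⟩ := stab_trans_E0 (t 0) c1 (ht 0) (r0_exc 2 0) (by rw [a0, hc1E])
    have hu1 : IsExc (g (t 1)) := cls_weyl hg.1 (ht 1)
    have hu2 : IsExc (g (t 2)) := cls_weyl hg.1 (ht 2)
    obtain ⟨h, hh, hm⟩ := stepC _ hu1
    have hhS : Stab {E0} h := ⟨hh.1, fun F hF => hh.2 F (Or.inl hF)⟩
    have hhc : h c1 = c1 := hh.2 c1 (Or.inr rfl)
    have hm0 : form (h (g (t 1))) E0 = 0 := by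
      rw [form_stab_E0 hhS, form_stab_E0 hg, a1]
    have hD : T - c1 - h (g (t 1)) = h (g (t 2)) := by
      have : t 2 = T - t 0 - t 1 := by rw [← hsum]; abel
      rw [this, map_sub, map_sub, map_sub, map_sub, stab_T hg, hg0, stab_T hhS, hhc]
    have hexc : IsExc (h (g (t 2))) := cls_weyl hh.1 hu2
    rw [← hD] at hexc
    have hd2 : h (g (t 1)) = d2 :=
      List.ofFn_injective (factsT.2.2.2.2.2.2.1 _ hm hm0 hexc.1 hexc.2)
    have hd3 : h (g (t 2)) = d3 := by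
      rw [← hD, hd2]
      exact List.ofFn_injective (by decide)
    refine ⟨3, g.trans h, stab_trans hg hhS, ?_⟩
    intro i
    fin_cases i
    · show h (g (t 0)) = c1
      rw [hg0, hhc]
    · exact hd2
    · exact hd3

theorem cover_E0 (t : Fin 3 → DP 8) (ht : ∀ i, IsExc (t i)) (hsum : t 0 + t 1 + t 2 = T) :
    ∃ j, ∃ g : DP 8 ≃ₗ[ℤ] DP 8, Stab {E0} g ∧ ∃ σ : Equiv.Perm (Fin 3),
      ∀ i, g (t (σ i)) = r0 j i := by
  let σ : Equiv.Perm (Fin 3) := Tuple.sort (fun i => - form (t i) E0)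
  have hanti := antitone_sort (fun i => form (t i) E0)
  have hsum' : t (σ 0) + t (σ 1) + t (σ 2) = T := by
    rw [← hsum, ← Fin.sum_univ_three (fun i => t (σ i)), ← Fin.sum_univ_three t]
    exact Equiv.sum_comp σ t
  obtain ⟨j, g, hg, h⟩ := cover_sorted (fun i => t (σ i)) (fun i => ht _) hsum'
    (hanti (by decide : (0 : Fin 3) ≤ 1)) (hanti (by decide : (1 : Fin 3) ≤ 2))
  exact ⟨j, g, hg, σ, h⟩

theorem distinct_E0 (j j' : Fin 4) (g : DP 8 ≃ₗ[ℤ] DP 8) (hg : Stab {E0} g)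
    (σ : Equiv.Perm (Fin 3)) (h : ∀ i, g (r0 j (σ i)) = r0 j' i) : j = j' := by
  apply factsT.2.2.2.1
  unfold Inv
  rw [← Equiv.sum_comp σ (fun i => (form (r0 j i) E0) ^ 2)]
  refine Finset.sum_congr rfl (fun i _ => ?_)
  rw [← h i, form_stab_E0 hg]

theorem main (L : DP 8) (hL : IsExc L) :
    ∃ r : Fin 4 → (Fin 3 → DP 8),
      (∀ j, (∀ i, IsExc (r j i)) ∧ r j 0 + r j 1 + r j 2 = L - 2 • canon 8) ∧
      (∀ j j', (∃ g : DP 8 ≃ₗ[ℤ] DP 8, IsWeyl g ∧ g L = L ∧ ∃ σ : Equiv.Perm (Fin 3),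
        ∀ i, g (r j (σ i)) = r j' i) → j = j') ∧
      ∀ t : Fin 3 → DP 8, (∀ i, IsExc (t i)) → t 0 + t 1 + t 2 = L - 2 • canon 8 →
        ∃ j, ∃ g : DP 8 ≃ₗ[ℤ] DP 8, IsWeyl g ∧ g L = L ∧ ∃ σ : Equiv.Perm (Fin 3),
          ∀ i, g (t (σ i)) = r j i := by
  obtain ⟨g₀, hg₀, hgL⟩ := stepA' L hL
  have hLs : g₀.symm E0 = L := by rw [LinearEquiv.symm_apply_eq, hgL]
  have hTL : g₀.symm T = L - 2 • canon 8 := by
    rw [T_eq, map_sub, map_nsmul, hLs, (isWeyl_symm hg₀).2]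
  have hTL' : g₀ (L - 2 • canon 8) = T := by
    rw [← hTL, LinearEquiv.apply_symm_apply]
  refine ⟨fun j i => g₀.symm (r0 j i), ?_, ?_, ?_⟩
  · intro j
    refine ⟨fun i => cls_weyl (isWeyl_symm hg₀) (r0_exc j i), ?_⟩
    rw [← map_add, ← map_add, r0_sum, hTL]
  · rintro j j' ⟨g, hg, hgL', σ, h⟩
    refine distinct_E0 j j' ((g₀.symm.trans g).trans g₀)
      ⟨isWeyl_trans (isWeyl_trans (isWeyl_symm hg₀) hg) hg₀, ?_⟩ σ ?_
    · intro F hF
      rw [Set.mem_singleton_iff.mp hF]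
      simp only [LinearEquiv.trans_apply, hLs, hgL', hgL]
    · intro i
      simp only [LinearEquiv.trans_apply]
      rw [h i, LinearEquiv.apply_symm_apply]
  · intro t ht hsum
    obtain ⟨j, g, hg, σ, h⟩ := cover_E0 (fun i => g₀ (t i)) (fun i => cls_weyl hg₀ (ht i))
      (by rw [← map_add, ← map_add, hsum, hTL'])
    refine ⟨j, (g₀.trans g).trans g₀.symm,
      isWeyl_trans (isWeyl_trans hg₀ hg.1) (isWeyl_symm hg₀), ?_, σ, ?_⟩
    · simp only [LinearEquiv.trans_apply, hgL, hg.2 E0 rfl, hLs]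
    · intro i
      simp only [LinearEquiv.trans_apply]
      rw [h i]

end Aux

open W4c3severiratdp in
/-- Work in the lattice of vectors (a; b_1, …, b_δ), standing for divisor classes a ℓ − Σ b_i e_i on the
blow-up of the projective plane at δ points written in a standard basis, with intersection form a a'
− Σ b_i b_i' and canonical class K = (−3; −1, …, −1); a conic class is a class Q with Q·Q = 0 and
K·Q = −2, an exceptional class (the class of a (−1)-curve) is a class E with E·E = −1 and K·E = −1,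
and the Weyl group W_δ is the group of additive automorphisms of the lattice preserving the form and
fixing K. Let δ = 8 and let L be an exceptional class. Let B be the set of unordered triples {λ_1,
λ_2, λ_3} of exceptional classes (repetitions allowed) with λ_1 + λ_2 + λ_3 = −2K + L. Then the
stabilizer of L in W_8 has exactly four orbits on B. Triples are written as maps Fin 3 → lattice and
compared up to reordering: there are four members of B, no two of which are identified by an element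
of the stabilizer followed by a reordering, and every member of B is so identified with one of the
four. -/
theorem result (L : DP 8) (hL : IsExc L) :
    ∃ r : Fin 4 → (Fin 3 → DP 8),
      (∀ j, (∀ i, IsExc (r j i)) ∧ r j 0 + r j 1 + r j 2 = L - 2 • canon 8) ∧
      (∀ j j', (∃ g : DP 8 ≃ₗ[ℤ] DP 8, IsWeyl g ∧ g L = L ∧ ∃ σ : Equiv.Perm (Fin 3), ∀ i, g (r j (σ i)) = r j' i) → j = j') ∧
      ∀ t : Fin 3 → DP 8, (∀ i, IsExc (t i)) → t 0 + t 1 + t 2 = L - 2 • canon 8 →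
        ∃ j, ∃ g : DP 8 ≃ₗ[ℤ] DP 8, IsWeyl g ∧ g L = L ∧ ∃ σ : Equiv.Perm (Fin 3), ∀ i, g (t (σ i)) = r j i := by
  exact Aux.main L hL

end Groth.Agent.S15910
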