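import Groth.Statements.S15922
import Mathlib
import Groth.Agent.Lib.Helper1.CurvePt1
import Groth.Agent.Lib.Helper1.Curve2
import Groth.Agent.Lib.Helper1.FinLen9

set_option autoImplicit false
universe u
open CategoryTheory CategoryTheory.Limits AlgebraicGeometry
open Curves

namespace Groth.Agent.S15922

/-- Let k be an algebraically closed field, X a curve over k (proper over k, reduced, connected, every
irreducible component of dimension one) and P a closed point of X, with m_P the ideal sheaf of the
reduced point P viewed as an O_X-module. Then m_P is a torsion-free sheaf of rank one and degree -1: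
regular elements of each local ring O_{X,x} act injectively on the stalk of m_P at x, the stalk at
every generic point of an irreducible component has dimension one over the local ring there, and
χ(X, m_P) - χ(X, O_X) = -1. -/
theorem result (k : Type u) [Field k] [IsAlgClosed k] (X : Scheme.{u}) [X.Over (Spec (CommRingCat.of k))] [IsProper (X ↘ (Spec (CommRingCat.of k)))] [IsReduced X] [ConnectedSpace X]
    (hequi : ∀ Z ∈ irreducibleComponents (X : Type u), topologicalKrullDim Z = 1)
    (P : X) (hP : IsClosed ({P} : Set X)) :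
    TorSh.IsTorsionFree (ClSub.idealMod (Scheme.IdealSheafData.vanishingIdeal ⟨{P}, hP⟩)) ∧
    (∀ η : X, closure ({η} : Set X) ∈ irreducibleComponents (X : Type u) →
      Module.finrank (X.presheaf.stalk η) ((ClSub.idealMod (Scheme.IdealSheafData.vanishingIdeal ⟨{P}, hP⟩)).presheaf.stalk η) = 1) ∧
    Curv2.deg k X (ClSub.idealMod (Scheme.IdealSheafData.vanishingIdeal ⟨{P}, hP⟩)) 1 = -1 := by
  haveI := Groth.Agent.Helper1.Euler.isNoetherian_of_proper k X
  haveI : IsLocallyNoetherian X :=
    (Groth.Agent.Helper1.Euler.isNoetherian_of_proper k X).toIsLocallyNoetherian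
  change TorSh.IsTorsionFree (ClSub.idealMod (Groth.Agent.Helper1.CurveDual.ptIdeal P hP)) ∧
    (∀ η : X, closure ({η} : Set X) ∈ irreducibleComponents (X : Type u) →
      Module.finrank (X.presheaf.stalk η)
        ((ClSub.idealMod (Groth.Agent.Helper1.CurveDual.ptIdeal P hP)).presheaf.stalk η) = 1) ∧
    Curv2.deg k X (ClSub.idealMod (Groth.Agent.Helper1.CurveDual.ptIdeal P hP)) 1 = -1
  have hSE := Groth.Agent.Helper1.CurveDual.shortExact_S
    (Groth.Agent.Helper1.CurveDual.ptIdeal P hP)
  have hOr : FlatMod.IsFinLocFreeOfRank 1 (Coh.structureModule X) :=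
    Groth.Agent.Helper1.Curve.isFinLocFreeOfRank_one Groth.Agent.Helper1.GenLoc.isInvertible_O
  have hinj : ∀ x : X, Function.Injective (Groth.Agent.Helper1.Dv.stalkL
      (ClSub.idealModι (Groth.Agent.Helper1.CurveDual.ptIdeal P hP)) x) := fun x => by
    have hT := hSE.map_of_exact (Groth.Agent.Lib.Helper5.StalkAdj.stalkSh X x)
    exact (ModuleCat.mono_iff_injective _).1 hT.mono_f
  refine ⟨?_, ?_, ?_⟩
  · intro x
    have f2 := Groth.Agent.Lib.Helper5.StalkFree.free_finite_stalk_of_isFinLocFree
      (Coh.structureModule X) (Groth.Agent.Helper1.FinLen.isFinLocFree_of_rank hOr) x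
    haveI : Module.Free (X.presheaf.stalk x) ((Coh.structureModule X).presheaf.stalk x) := f2.1
    exact Function.Injective.moduleIsTorsionFree
      (Groth.Agent.Helper1.Dv.stalkL
        (ClSub.idealModι (Groth.Agent.Helper1.CurveDual.ptIdeal P hP)) x) (hinj x)
      (fun r m => map_smul _ r m)
  · intro η hη
    have hne : η ≠ P := by
      rintro rfl
      have h1 := hequi _ hη
      rw [hP.closure_eq] at h1
      haveI : Nonempty ↥({η} : Set X) := ⟨⟨η, rfl⟩⟩
      have h2 := topologicalKrullDim_zero_of_discreteTopology ↥({η} : Set X)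
      rw [h1] at h2
      exact absurd h2 (by norm_num)
    have hT := hSE.map_of_exact (Groth.Agent.Lib.Helper5.StalkAdj.stalkSh X η)
    have hsub : Subsingleton ((ClSub.quotMod
        (Groth.Agent.Helper1.CurveDual.ptIdeal P hP)).presheaf.stalk η) := by
      by_contra hns
      have h1 : η ∈ CohB1.support (ClSub.quotMod (Groth.Agent.Helper1.CurveDual.ptIdeal P hP)) :=
        hns
      have h2 := Groth.Agent.Helper1.CurveDual.support_quotMod_subset _ h1
      rw [Groth.Agent.Helper1.CurveDual.ptIdeal_support] at h2
      exact hne h2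
    have hsurj : Function.Surjective (Groth.Agent.Helper1.Dv.stalkL
        (ClSub.idealModι (Groth.Agent.Helper1.CurveDual.ptIdeal P hP)) η) := by
      intro y
      have hex := (ShortComplex.ShortExact.moduleCat_exact_iff_function_exact _).1 hT.exact
      haveI : Subsingleton ↑((Groth.Agent.Helper1.IdealModL.S
          (Groth.Agent.Helper1.CurveDual.ptIdeal P hP)).map
          (Groth.Agent.Lib.Helper5.StalkAdj.stalkSh X η)).X₃ := hsub
      exact (hex y).1 (Subsingleton.elim _ _)
    let e := LinearEquiv.ofBijective _ ⟨hinj η, hsurj⟩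
    rw [e.finrank_eq]
    exact Groth.Agent.Helper1.FinLen.finrank_stalk_of_rank hOr η
  · have hZ : topologicalKrullDim
        ((Groth.Agent.Helper1.CurveDual.ptIdeal P hP).support : Set X) ≤ 0 := by
      rw [Groth.Agent.Helper1.CurveDual.ptIdeal_support]
      haveI : Nonempty ↥({P} : Set X) := ⟨⟨P, rfl⟩⟩
      exact topologicalKrullDim_zero_of_discreteTopology ↥({P} : Set X)
    have hOc : Coh.IsCoh (Coh.structureModule X) :=
      Groth.Agent.Helper1.InvQc.isCoh_of_isInvertible _ Groth.Agent.Helper1.GenLoc.isInvertible_O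
    have hIc : Coh.IsCoh (ClSub.idealMod (Groth.Agent.Helper1.CurveDual.ptIdeal P hP)) :=
      Groth.Agent.Helper1.CurveDual.isCoh_idealMod _
    have hQc : Coh.IsCoh (ClSub.quotMod (Groth.Agent.Helper1.CurveDual.ptIdeal P hP)) :=
      Groth.Agent.Helper1.CurveDual.isCoh_quotMod _
    have hQd : topologicalKrullDim ↥(CohB1.support
        (ClSub.quotMod (Groth.Agent.Helper1.CurveDual.ptIdeal P hP))) ≤ 0 :=
      (Groth.Agent.Helper1.Dv.krullDim_le_of_subset
        (Groth.Agent.Helper1.CurveDual.support_quotMod_subset _)).trans hZ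
    have hadd := Groth.Agent.Helper1.Euler.euler_additive k X _ hSE hIc hOc hQc
    change Curv2.euler k X (Coh.structureModule X) =
      Curv2.euler k X (ClSub.idealMod (Groth.Agent.Helper1.CurveDual.ptIdeal P hP)) +
        Curv2.euler k X (ClSub.quotMod (Groth.Agent.Helper1.CurveDual.ptIdeal P hP)) at hadd
    have e4 := Groth.Agent.Helper1.Euler.euler_eq_finrank_of_dim_le_zero k X
      (ClSub.quotMod (Groth.Agent.Helper1.CurveDual.ptIdeal P hP)) hQc hQd
    have e6 := Groth.Agent.Helper1.CurvePt.finrank_quotMod_pt k X P hP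
    rw [e6] at e4
    unfold Curv2.deg
    push_cast at e4 ⊢
    linarith

end Groth.Agent.S15922
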