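import Groth.Statements.S15939
import Mathlib
-- import your own Groth.Agent.* helpers here

set_option autoImplicit false
universe u
open CAlg

namespace Groth.Agent.S15939

open Polynomial
namespace Aux

section gen
variable {κ A : Type u} [Field κ] [CommRing A] [Algebra κ A]

lemma adjoin_eq_top (h : IsSimpleOrder (Subalgebra κ A)) {x : A}
    (hx : x ∉ (⊥ : Subalgebra κ A)) : Algebra.adjoin κ {x} = ⊤ := by
  rcases eq_bot_or_eq_top (Algebra.adjoin κ {x}) with h1 | h1
  · exact absurd (h1 ▸ Algebra.self_mem_adjoin_singleton κ x) hx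
  · exact h1

lemma range_eq_top (h : IsSimpleOrder (Subalgebra κ A)) {B : Type u} [CommRing B] [Algebra κ B]
    (f : B →ₐ[κ] A) {x : A} (hx : x ∉ (⊥ : Subalgebra κ A)) (hxf : x ∈ f.range) :
    Function.Surjective f := by
  rcases eq_bot_or_eq_top f.range with h1 | h1
  · exact absurd (h1 ▸ hxf) hx
  · exact AlgHom.range_eq_top f |>.mp h1

lemma exists_not_mem_bot (h : IsSimpleOrder (Subalgebra κ A)) :
    ∃ x : A, x ∉ (⊥ : Subalgebra κ A) := by
  by_contra hcon
  push Not at hcon
  exact bot_ne_top (α := Subalgebra κ A) (eq_top_iff.mpr fun y _ => hcon y).symm.symm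

lemma nontrivial_of_simple (h : IsSimpleOrder (Subalgebra κ A)) : Nontrivial A := by
  by_contra hcon
  rw [not_nontrivial_iff_subsingleton] at hcon
  obtain ⟨x, hx⟩ := exists_not_mem_bot h
  exact hx (by rw [Subsingleton.elim x 0]; exact zero_mem _)

lemma isIntegral_of_simple (h : IsSimpleOrder (Subalgebra κ A)) (x : A) : IsIntegral κ x := by
  by_contra htr
  have htr' : Transcendental κ x := fun ha => htr ha.isIntegral
  rcases eq_bot_or_eq_top (Algebra.adjoin κ {x ^ 2}) with h1 | h1
  · have h2 : x ^ 2 ∈ (⊥ : Subalgebra κ A) := h1 ▸ Algebra.self_mem_adjoin_singleton κ (x ^ 2)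
    obtain ⟨c, hc⟩ := Algebra.mem_bot.mp h2
    apply htr'
    refine ⟨X ^ 2 - C c, X_pow_sub_C_ne_zero (by norm_num) c, ?_⟩
    simp [hc]
  · have h2 : x ∈ Algebra.adjoin κ {x ^ 2} := h1 ▸ Algebra.mem_top
    rw [Algebra.adjoin_singleton_eq_range_aeval] at h2
    obtain ⟨g, hg⟩ := h2
    apply htr'
    refine ⟨X - expand κ 2 g, ?_, ?_⟩
    · intro h0
      have := congrArg (fun q => q.coeff 1) h0
      simp [coeff_expand] at this
    · have : aeval x (expand κ 2 g) = x := by rw [expand_aeval]; exact hg
      simp [this]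

lemma finite_of_simple (h : IsSimpleOrder (Subalgebra κ A)) : FiniteDimensional κ A := by
  obtain ⟨x, hx⟩ := exists_not_mem_bot h
  have h1 := adjoin_eq_top h hx
  have h2 : Module.Finite κ (Algebra.adjoin κ {x}) :=
    Algebra.finite_adjoin_simple_of_isIntegral (isIntegral_of_simple h x)
  rw [h1] at h2
  exact Module.Finite.equiv (Subalgebra.topEquiv (R := κ) (A := A)).toLinearEquiv

lemma mul_aeval_of_mul_eq_zero {w y : A} (hwy : w * y = 0) (g : κ[X]) :
    w * aeval y g = (g.coeff 0) • w := by
  conv_lhs => rw [← divX_mul_X_add g]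
  simp only [map_add, map_mul, aeval_X, aeval_C]
  rw [mul_add, mul_comm (aeval y g.divX) y, ← mul_assoc, hwy, zero_mul, zero_add,
    Algebra.smul_def, mul_comm]

lemma algebraMap_inj' [Nontrivial A] : Function.Injective (algebraMap κ A) :=
  (algebraMap κ A).injective

/-- dual number case -/
lemma dual_case (h : IsSimpleOrder (Subalgebra κ A)) [Nontrivial A] {z : A} (hz0 : z ≠ 0)
    (hz : z * z = 0) : Nonempty (A ≃ₐ[κ] DualNumber κ) := by
  have hzbot : z ∉ (⊥ : Subalgebra κ A) := by
    intro hmem
    obtain ⟨a, ha⟩ := Algebra.mem_bot.mp hmem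
    apply hz0
    rw [← ha, ← map_mul] at hz
    have : a * a = 0 := algebraMap_inj' (by rw [hz, map_zero])
    rw [← ha, mul_self_eq_zero.mp this, map_zero]
  let f : DualNumber κ →ₐ[κ] A :=
    DualNumber.lift ⟨(Algebra.ofId κ A, z), hz, fun a => Commute.all _ _⟩
  have hfe : f DualNumber.eps = z := DualNumber.lift_apply_eps _
  have hsurj : Function.Surjective f := range_eq_top h f hzbot ⟨_, hfe⟩
  have hinj : Function.Injective f := by
    rw [injective_iff_map_eq_zero]
    intro a ha
    have h1 : algebraMap κ A a.fst + algebraMap κ A a.snd * z = 0 := by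
      rw [← ha]
      exact (DualNumber.lift_apply_apply (R := κ) (A := κ) (B := A)
        ⟨(Algebra.ofId κ A, z), hz, fun a => Commute.all _ _⟩ a).symm
    have hb : a.snd = 0 := by
      by_contra hb
      apply hzbot
      rw [Algebra.mem_bot]
      refine ⟨-(a.fst / a.snd), ?_⟩
      have h2 : algebraMap κ A a.snd * z = algebraMap κ A (-a.fst) := by
        rw [map_neg]; linear_combination h1
      have h3 : algebraMap κ A (a.snd)⁻¹ * algebraMap κ A a.snd = 1 := by
        rw [← map_mul, inv_mul_cancel₀ hb, map_one]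
      calc algebraMap κ A (-(a.fst / a.snd))
          = algebraMap κ A (a.snd)⁻¹ * algebraMap κ A (-a.fst) := by
            rw [← map_mul]; congr 1; field_simp
        _ = algebraMap κ A (a.snd)⁻¹ * (algebraMap κ A a.snd * z) := by rw [h2]
        _ = z := by rw [← mul_assoc, h3, one_mul]
    have ha' : a.fst = 0 := by
      rw [hb, map_zero, zero_mul, add_zero] at h1
      exact algebraMap_inj' (by rw [h1, map_zero])
    exact TrivSqZeroExt.ext ha' hb
  exact ⟨(AlgEquiv.ofBijective f ⟨hinj, hsurj⟩).symm⟩

/-- product case -/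
lemma prod_case (h : IsSimpleOrder (Subalgebra κ A)) [Nontrivial A] {e : A} (he0 : e ≠ 0)
    (he1 : e ≠ 1) (he : e * e = e) : Nonempty (A ≃ₐ[κ] (κ × κ)) := by
  have hebot : e ∉ (⊥ : Subalgebra κ A) := by
    intro hmem
    obtain ⟨a, ha⟩ := Algebra.mem_bot.mp hmem
    rw [← ha, ← map_mul] at he
    have h2 : a * a = a := algebraMap_inj' he
    have h3 : a * (a - 1) = 0 := by linear_combination h2
    rcases mul_eq_zero.mp h3 with h4 | h4
    · exact he0 (by rw [← ha, h4, map_zero])
    · exact he1 (by rw [← ha, sub_eq_zero.mp h4, map_one])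
  let f : κ × κ →ₐ[κ] A :=
    AlgHom.ofLinearMap
      ((LinearMap.fst κ κ κ).smulRight e + (LinearMap.snd κ κ κ).smulRight (1 - e))
      (by simp)
      (by
        intro x y
        simp only [LinearMap.add_apply, LinearMap.smulRight_apply, LinearMap.fst_apply,
          LinearMap.snd_apply, Prod.fst_mul, Prod.snd_mul, Algebra.smul_def, map_mul]
        linear_combination (-(algebraMap κ A x.1 * algebraMap κ A y.1)
          + algebraMap κ A x.1 * algebraMap κ A y.2 + algebraMap κ A x.2 * algebraMap κ A y.1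
          - algebraMap κ A x.2 * algebraMap κ A y.2) * he)
  have hf : ∀ x : κ × κ, f x = x.1 • e + x.2 • (1 - e) := fun x => rfl
  have hsurj : Function.Surjective f := range_eq_top h f hebot ⟨(1, 0), by
    show f (1, 0) = e
    rw [hf]; simp⟩
  have hinj : Function.Injective f := by
    rw [injective_iff_map_eq_zero]
    intro a ha
    rw [hf] at ha
    have h1 : a.1 • e = 0 := by
      have := congrArg (fun t => e * t) ha
      simp only [mul_add, mul_smul_comm, mul_sub, mul_one, he, sub_self, smul_zero, add_zero,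
        mul_zero] at this
      exact this
    have h2 : a.2 • (1 - e) = 0 := by
      have := congrArg (fun t => (1 - e) * t) ha
      simp only [mul_add, mul_smul_comm, mul_sub, mul_one, he, sub_self, smul_zero, zero_add,
        mul_zero, sub_mul, one_mul] at this
      simpa using this
    have h3 : a.1 = 0 := by
      rcases smul_eq_zero.mp h1 with h | h
      · exact h
      · exact absurd h he0
    have h4 : a.2 = 0 := by
      rcases smul_eq_zero.mp h2 with h | h
      · exact h
      · exact absurd (sub_eq_zero.mp h).symm he1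
    exact Prod.ext h3 h4
  exact ⟨(AlgEquiv.ofBijective f ⟨hinj, hsurj⟩).symm⟩

lemma nonfield_case (h : IsSimpleOrder (Subalgebra κ A)) (hA : ¬ IsField A) :
    Nonempty (A ≃ₐ[κ] DualNumber κ) ∨ Nonempty (A ≃ₐ[κ] (κ × κ)) := by
  have hnt : Nontrivial A := nontrivial_of_simple h
  have hfin : FiniteDimensional κ A := finite_of_simple h
  obtain ⟨y, hy0, hyu⟩ : ∃ y : A, y ≠ 0 ∧ ¬ IsUnit y := by
    by_contra hcon
    push Not at hcon
    exact hA ⟨exists_pair_ne A, mul_comm, fun {a} ha => (hcon a ha).exists_right_inv⟩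
  -- y is a zero divisor
  obtain ⟨w, hw0, hyw⟩ : ∃ w : A, w ≠ 0 ∧ w * y = 0 := by
    by_contra hcon
    push Not at hcon
    have hinj : Function.Injective (LinearMap.mulLeft κ y) := by
      rw [injective_iff_map_eq_zero]
      intro w hw
      by_contra hw0
      exact hcon w hw0 (by rw [mul_comm]; exact hw)
    have hsurj := LinearMap.injective_iff_surjective.mp hinj
    obtain ⟨b, hb⟩ := hsurj 1
    exact hyu (IsUnit.of_mul_eq_one b hb)
  have hybot : y ∉ (⊥ : Subalgebra κ A) := by
    intro hmem
    obtain ⟨a, ha⟩ := Algebra.mem_bot.mp hmem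
    have ha0 : a ≠ 0 := by
      rintro rfl
      exact hy0 (by rw [← ha, map_zero])
    exact hyu (ha ▸ (IsUnit.mk0 a ha0).map (algebraMap κ A))
  have hw : w ∈ Algebra.adjoin κ {y} := adjoin_eq_top h hybot ▸ Algebra.mem_top
  rw [Algebra.adjoin_singleton_eq_range_aeval] at hw
  obtain ⟨g, hg⟩ := hw
  have hww : w * w = (g.coeff 0) • w := by
    conv_lhs => rw [← hg]
    rw [hg, ← hg, hg]
    have := mul_aeval_of_mul_eq_zero hyw g
    rw [show (aeval y) g = w from hg] at this
    exact this
  by_cases hc : g.coeff 0 = 0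
  · left
    rw [hc, zero_smul] at hww
    exact dual_case h hw0 hww
  · right
    refine prod_case h (e := (g.coeff 0)⁻¹ • w) ?_ ?_ ?_
    · exact smul_ne_zero (inv_ne_zero hc) hw0
    · intro h1
      apply hy0
      have : ((g.coeff 0)⁻¹ • w) * y = 0 := by rw [smul_mul_assoc, hyw, smul_zero]
      rw [h1, one_mul] at this
      exact this
    · rw [smul_mul_smul_comm, hww, smul_smul]
      congr 1
      field_simp

end gen

section field
variable {κ L : Type u} [Field κ] [Field L] [Algebra κ L]

lemma exists_root_of_pow_mem {q : ℕ} :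
    ∀ (n : ℕ) (y : L), y ^ q ^ n ∈ (algebraMap κ L).range → y ∉ (algebraMap κ L).range →
      ∃ z : L, z ∉ (algebraMap κ L).range ∧ z ^ q ∈ (algebraMap κ L).range := by
  intro n
  induction n with
  | zero =>
    intro y hy hy'
    simp only [pow_zero, pow_one] at hy
    exact absurd hy hy'
  | succ n ih =>
    intro y hy hy'
    by_cases hq : y ^ q ∈ (algebraMap κ L).range
    · exact ⟨y, hy', hq⟩
    · apply ih (y ^ q) _ hq
      rw [← pow_mul, ← pow_succ']
      exact hy

lemma field_case (h : IsSimpleOrder (Subalgebra κ L)) :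
    Algebra.IsSeparable κ L ∨
      ∃ (p : ℕ) (a : κ), p.Prime ∧ CharP κ p ∧ (∀ b : κ, b ^ p ≠ a) ∧
        Nonempty (L ≃ₐ[κ] AdjoinRoot (X ^ p - C a)) := by
  have hfin : FiniteDimensional κ L := finite_of_simple h
  rcases eq_bot_or_eq_top (separableClosure κ L).toSubalgebra with h1 | h1
  · right
    have h2 : separableClosure κ L = ⊥ := by
      apply IntermediateField.toSubalgebra_injective
      rw [h1, IntermediateField.bot_toSubalgebra]
    have hpi : IsPurelyInseparable κ L := (separableClosure.eq_bot_iff).mp h2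
    obtain ⟨y, hy⟩ := exists_not_mem_bot h
    have hy' : y ∉ (algebraMap κ L).range := fun hmem => hy (Algebra.mem_bot.mpr hmem)
    obtain ⟨q, hq⟩ : ∃ q, ExpChar κ q := ⟨ringExpChar κ, inferInstance⟩
    obtain ⟨n, hn⟩ := IsPurelyInseparable.pow_mem κ q y
    obtain ⟨z, hz, hzq⟩ := exists_root_of_pow_mem n y hn hy'
    cases hq with
    | zero =>
      rw [pow_one] at hzq
      exact absurd hzq hz
    | prime hp =>
      obtain ⟨a, ha⟩ := hzq
      have hLchar : CharP L q := charP_of_injective_algebraMap (algebraMap κ L).injective q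
      have hnot : ∀ b : κ, b ^ q ≠ a := by
        intro b hb
        apply hz
        haveI : Fact q.Prime := ⟨hp⟩
        have h3 : (z - algebraMap κ L b) ^ q = 0 := by
          rw [sub_pow_char, ← ha, ← map_pow, hb, sub_self]
        exact ⟨b, (sub_eq_zero.mp (pow_eq_zero_iff hp.ne_zero |>.mp h3)).symm⟩
      refine ⟨q, a, hp, inferInstance, hnot, ?_⟩
      have hirr : Irreducible (X ^ q - C a) := X_pow_sub_C_irreducible_of_prime hp hnot
      haveI : Fact (Irreducible (X ^ q - C a)) := ⟨hirr⟩
      let f : AdjoinRoot (X ^ q - C a) →ₐ[κ] L :=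
        AdjoinRoot.liftAlgHom _ (Algebra.ofId κ L) z (by
          simp only [eval₂_sub, eval₂_pow, eval₂_X, eval₂_C]
          rw [← ha]; simp [Algebra.ofId_apply])
      have hfroot : f (AdjoinRoot.root _) = z := AdjoinRoot.liftAlgHom_root _ _ _ _
      have hzbot : z ∉ (⊥ : Subalgebra κ L) := fun hmem => hz (Algebra.mem_bot.mp hmem)
      have hsurj : Function.Surjective f := range_eq_top h f hzbot ⟨_, hfroot⟩
      have hinj : Function.Injective f := f.toRingHom.injective
      exact ⟨(AlgEquiv.ofBijective f ⟨hinj, hsurj⟩).symm⟩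
  · left
    have h2 : separableClosure κ L = ⊤ := by
      apply IntermediateField.toSubalgebra_injective
      rw [h1, IntermediateField.top_toSubalgebra]
    exact (separableClosure.eq_top_iff κ L).mp h2

end field

theorem main (κ A : Type u) [Field κ] [CommRing A] [Algebra κ A]
    (h : IsSimpleOrder (Subalgebra κ A)) :
    FiniteDimensional κ A ∧
    (Nonempty (A ≃ₐ[κ] DualNumber κ) ∨ Nonempty (A ≃ₐ[κ] (κ × κ)) ∨
      (IsField A ∧ (Algebra.IsSeparable κ A ∨
        ∃ (p : ℕ) (a : κ), p.Prime ∧ CharP κ p ∧ (∀ b : κ, b ^ p ≠ a) ∧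
          Nonempty (A ≃ₐ[κ] AdjoinRoot (X ^ p - C a))))) := by
  refine ⟨finite_of_simple h, ?_⟩
  by_cases hA : IsField A
  · right; right
    refine ⟨hA, ?_⟩
    exact @field_case κ A _ hA.toField _ h
  · rcases nonfield_case h hA with h1 | h1
    · exact Or.inl h1
    · exact Or.inr (Or.inl h1)

end Aux

open Polynomial in
/-- Let κ be a field and A a commutative κ-algebra whose only κ-subalgebras are the image of κ and A
itself, these two being different. Then A is finite-dimensional over κ, and A is isomorphic as a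
κ-algebra to the dual numbers over κ, or to κ × κ, or A is a field which is either separable over κ
or isomorphic to κ[X]/(X^p - a) with p the (positive) characteristic of κ and a an element of κ that
is not a p-th power. (The published statement also records that these four cases exclude one
another; that part is not restated.) -/
theorem result (κ A : Type u) [Field κ] [CommRing A] [Algebra κ A]
    (h : IsSimpleOrder (Subalgebra κ A)) :
    FiniteDimensional κ A ∧
    (Nonempty (A ≃ₐ[κ] DualNumber κ) ∨ Nonempty (A ≃ₐ[κ] (κ × κ)) ∨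
      (IsField A ∧ (Algebra.IsSeparable κ A ∨
        ∃ (p : ℕ) (a : κ), p.Prime ∧ CharP κ p ∧ (∀ b : κ, b ^ p ≠ a) ∧
          Nonempty (A ≃ₐ[κ] AdjoinRoot (X ^ p - C a))))) := by
  exact Aux.main κ A h

end Groth.Agent.S15939
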