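import Groth.Statements.S15941
import Mathlib

set_option autoImplicit false
universe u
open HTop

namespace Groth.Agent.S15941

/-- An integrally closed integral domain is a seminormal ring, that is, whenever x^3 = y^2 there is
exactly one element a with x = a^2 and y = a^3. (The published statement is for a normal Noetherian
scheme and reduces at once to this affine integral case; the Noetherian hypothesis plays no role.) -/
theorem result (A : Type u) [CommRing A] [IsDomain A]
    [IsIntegrallyClosed A] : HTop.IsSeminormalRing A := by
  intro x y h
  by_cases hx : x = 0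
  · subst hx
    have hy : y = 0 := by
      have : y ^ 2 = 0 := by rw [← h]; simp
      exact (pow_eq_zero_iff two_ne_zero).mp this
    subst hy
    refine ⟨0, by simp, ?_⟩
    rintro a ⟨ha, _⟩
    exact (pow_eq_zero_iff two_ne_zero).mp ha.symm
  · have hxK : algebraMap A (FractionRing A) x ≠ 0 := by
      intro h0
      apply hx
      exact (IsFractionRing.injective A (FractionRing A)) (by rw [h0, map_zero])
    set α : FractionRing A := algebraMap A (FractionRing A) y / algebraMap A (FractionRing A) x with hα
    have hK : (algebraMap A (FractionRing A) x) ^ 3 = (algebraMap A (FractionRing A) y) ^ 2 := by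
      rw [← map_pow, ← map_pow, h]
    have hα2 : α ^ 2 = algebraMap A (FractionRing A) x := by
      rw [hα, div_pow, ← hK]
      field_simp
    have hint : IsIntegral A α := by
      refine ⟨Polynomial.X ^ 2 - Polynomial.C x, Polynomial.monic_X_pow_sub_C x two_ne_zero, ?_⟩
      simp [hα2]
    obtain ⟨a, ha⟩ := IsIntegrallyClosed.algebraMap_eq_of_integral hint
    have ha2 : x = a ^ 2 := by
      apply IsFractionRing.injective A (FractionRing A)
      rw [map_pow, ha, hα2]
    have ha3 : y = a ^ 3 := by
      apply IsFractionRing.injective A (FractionRing A)
      rw [map_pow, ha, pow_succ, hα2, hα]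
      field_simp
    refine ⟨a, ⟨ha2, ha3⟩, ?_⟩
    rintro b ⟨hb2, hb3⟩
    have h1 : b * x = a * x := by
      calc b * x = b ^ 3 := by rw [hb2]; ring
        _ = y := hb3.symm
        _ = a ^ 3 := ha3
        _ = a * x := by rw [ha2]; ring
    exact mul_right_cancel₀ hx h1

end Groth.Agent.S15941
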