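import Groth.Statements.S15954
import Mathlib
import Groth.Agent.Lib.Helper9.PO.BCGeo3
import Groth.Agent.Lib.Helper9.PO.PBMap
import Groth.Agent.Lib.Helper9.PO.PinchC
import Groth.Agent.Lib.Helper9.PO.FFInj
-- import your own Groth.Agent.* helpers here

set_option autoImplicit false
universe u
open Pinch

namespace Groth.Agent.S15954

open CategoryTheory CategoryTheory.Limits AlgebraicGeometry TopologicalSpace
namespace Aux

open H9PO

/-- transport of the local hypothesis along equalities of opens -/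
lemma loc_of_eq {X Y T Z P : Scheme.{u}} (t : T ⟶ Y) (ξ : Z ⟶ T) (ι : Z ⟶ X)
    [IsAffineHom t] [IsAffineHom (ξ ≫ t)] (a : X ⟶ P) (p : P ⟶ Y)
    (hcomp : ι ≫ a ≫ p = ξ ≫ t)
    [Flat ξ] [Surjective ξ] (U : Y.Opens) (hU : IsAffineOpen U)
    (hv : @Pinch.CokerProjective Γ(Y, U) Γ(Z, (ξ ≫ t) ⁻¹ᵁ U) Γ(T, t ⁻¹ᵁ U) _ _ _
      ((ξ ≫ t).app U).hom.toAlgebra (ξ.app (t ⁻¹ᵁ U)).hom) :
    ∀ (VT : T.Opens) (WZ : Z.Opens) (_ : VT = t ⁻¹ᵁ U) (_ : WZ = (ξ ≫ t) ⁻¹ᵁ U)
      (le1 : WZ ≤ ξ ⁻¹ᵁ VT) (le2 : WZ ≤ (ι ≫ a ≫ p) ⁻¹ᵁ U),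
      Function.Injective (ξ.appLE VT WZ le1).hom ∧
      @Pinch.CokerProjective Γ(Y, U) Γ(Z, WZ) Γ(T, VT) _ _ _
        ((ι ≫ a ≫ p).appLE U WZ le2).hom.toAlgebra (ξ.appLE VT WZ le1).hom := by
  rintro _ _ rfl rfl le1 le2
  have e1 : ξ.appLE (t ⁻¹ᵁ U) ((ξ ≫ t) ⁻¹ᵁ U) le1 = ξ.app (t ⁻¹ᵁ U) :=
    (Scheme.Hom.app_eq_appLE ξ).symm
  have e2 : (ι ≫ a ≫ p).appLE U ((ξ ≫ t) ⁻¹ᵁ U) le2 = (ξ ≫ t).app U := by
    rw [Scheme.Hom.app_eq_appLE]
    exact BCGeo.appLE_of_eq _ _ hcomp _ _ _ _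
  rw [e1, e2]
  refine ⟨?_, hv⟩
  exact FFInj.app_injective ξ (t ⁻¹ᵁ U) (hU.preimage t) (hU.preimage (ξ ≫ t))

lemma flat_of_bot {Z S : Scheme.{u}} (χ : Z ⟶ S) (US : S.Opens) :
    ∀ (WZ : Z.Opens) (_ : WZ = ⊥) (le : WZ ≤ χ ⁻¹ᵁ US), (χ.appLE US WZ le).hom.Flat := by
  rintro _ rfl le
  change @Module.Flat _ _ _ _ (χ.appLE US ⊥ le).hom.toAlgebra.toModule
  infer_instance

theorem main {X Y T Z : Scheme.{u}} (f : X ⟶ Y) (t : T ⟶ Y) (ξ : Z ⟶ T) (ι : Z ⟶ X)
    [IsAffineHom t] [IsAffineHom (ξ ≫ t)] [IsClosedImmersion ι] (hsq : ι ≫ f = ξ ≫ t)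
    (hstd : ∀ y : Y, ∃ U : Y.Opens, IsAffineOpen U ∧ y ∈ U ∧ ∃ V : X.Opens, IsAffineOpen V ∧
      V ≤ f ⁻¹ᵁ U ∧ ∀ z : Z, (ξ ≫ t).base z ∈ U → ι.base z ∈ V)
    {P : Scheme.{u}} (a : X ⟶ P) (b : T ⟶ P) (hP : IsPushout ι ξ a b)
    [Flat ξ] [Surjective ξ]
    (hv : ∀ U : Y.affineOpens, @Pinch.CokerProjective Γ(Y, U) Γ(Z, (ξ ≫ t) ⁻¹ᵁ U) Γ(T, t ⁻¹ᵁ U) _ _ _
      ((ξ ≫ t).app U).hom.toAlgebra (ξ.app (t ⁻¹ᵁ U)).hom)
    (p : P ⟶ Y) (hap : a ≫ p = f) (hbp : b ≫ p = t) {Y' : Scheme.{u}} (g : Y' ⟶ Y) :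
    IsPushout ((Over.pullback g).map (Over.homMk ι hsq : Over.mk (ξ ≫ t) ⟶ Over.mk f)).left
      ((Over.pullback g).map (Over.homMk ξ rfl : Over.mk (ξ ≫ t) ⟶ Over.mk t)).left
      ((Over.pullback g).map (Over.homMk a hap : Over.mk f ⟶ Over.mk p)).left
      ((Over.pullback g).map (Over.homMk b hbp : Over.mk t ⟶ Over.mk p)).left := by
  have H : Covers ι ξ := PinchC.covers f t ξ ι hsq hstd
  obtain ⟨-, hclb, haffa, -, -, -, -⟩ := H.structure_of_isPushout hP
  haveI : IsClosedImmersion b := hclb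
  haveI : IsAffineHom a := haffa
  have hjs := H.jointly_surjective_of_isPushout hP
  obtain ⟨ε, hεa, hεb⟩ := H.exists_iso hP
  have hcomp : ι ≫ a ≫ p = ξ ≫ t := by rw [hap, hsq]
  have hpa : ∀ x, p (a x) = f x := fun x => by
    rw [← Scheme.Hom.comp_apply, hap]
  have hpb : ∀ w, p (b w) = t w := fun w => by
    rw [← Scheme.Hom.comp_apply, hbp]
  have hab : ∀ z, a (ι z) = b (ξ z) := fun z => by
    rw [← Scheme.Hom.comp_apply, ← Scheme.Hom.comp_apply, hP.w]
  -- pullback squares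
  have hXT := PBMap.isPullback_lift f p g a hap
    (by rw [Category.assoc, hap, pullback.condition])
  have hYT := PBMap.isPullback_lift t p g b hbp
    (by rw [Category.assoc, hbp, pullback.condition])
  have hZT := PBMap.isPullback_lift (ξ ≫ t) f g ι hsq
    (by rw [Category.assoc, hsq, pullback.condition])
  haveI hci := MorphismProperty.of_isPullback (P := @IsClosedImmersion) hZT inferInstance
  haveI hafa := MorphismProperty.of_isPullback (P := @IsAffineHom) hXT inferInstance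
  haveI hafb := MorphismProperty.of_isPullback (P := @IsAffineHom) hYT inferInstance
  have hj₂ : ((Over.pullback g).map (Over.homMk ι hsq : Over.mk (ξ ≫ t) ⟶ Over.mk f)).left ≫
      ((Over.pullback g).map (Over.homMk a hap : Over.mk f ⟶ Over.mk p)).left =
      ((Over.pullback g).map (Over.homMk ξ rfl : Over.mk (ξ ≫ t) ⟶ Over.mk t)).left ≫
      ((Over.pullback g).map (Over.homMk b hbp : Over.mk t ⟶ Over.mk p)).left := by
    have h1 : (Over.pullback g).map (Over.homMk ι hsq : Over.mk (ξ ≫ t) ⟶ Over.mk f) ≫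
        (Over.pullback g).map (Over.homMk a hap : Over.mk f ⟶ Over.mk p) =
        (Over.pullback g).map (Over.homMk ξ rfl : Over.mk (ξ ≫ t) ⟶ Over.mk t) ≫
        (Over.pullback g).map (Over.homMk b hbp : Over.mk t ⟶ Over.mk p) := by
      rw [← Functor.map_comp, ← Functor.map_comp]
      congr 1
      ext
      exact hP.w
    exact congrArg (fun t => t.left) h1
  refine BCGeo.isPushout_baseChange_of_cover ι ξ a b hP p g (pullback.fst p g) (pullback.snd p g)
    (IsPullback.of_hasPullback p g) (pullback.fst f g) _ hXT (pullback.fst t g) _ hYT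
    (pullback.fst (ξ ≫ t) g) _ hZT _ (pullback.lift_fst _ _ _) hj₂ ?_
  intro w
  have hgw : g (pullback.snd p g w) = p (pullback.fst p g w) := by
    rw [← Scheme.Hom.comp_apply, ← Scheme.Hom.comp_apply, pullback.condition]
  by_cases hπ : pullback.fst p g w ∈ Set.range b
  · -- the point lies on `T`
    obtain ⟨wT, hwT⟩ := hπ
    obtain ⟨U, hU, hyU, V, hV, hVU, hz⟩ := hstd (t wT)
    have e : ι ⁻¹ᵁ V = ξ ⁻¹ᵁ (t ⁻¹ᵁ U) := by
      ext z
      constructor
      · intro hzV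
        have h1 : f (ι z) ∈ U := hVU hzV
        have h2 : f (ι z) = t (ξ z) := by
          have := congr($(hsq) z)
          exact this
        rw [h2] at h1
        exact h1
      · intro hzU
        exact hz z hzU
    let c₀ : Chart ι ξ := ⟨⟨V, t ⁻¹ᵁ U, e⟩, hV, hU.preimage t⟩
    set O : P.Opens := (c₀.ι ≫ ε.hom).opensRange with hOdef
    have hO : IsAffineOpen O := isAffineOpen_opensRange _
    have hεinj : Function.Injective ε.hom := by
      intro x y hxy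
      have := congrArg ε.inv hxy
      rwa [← Scheme.Hom.comp_apply, ← Scheme.Hom.comp_apply, ε.hom_inv_id] at this
    have hmemO : ∀ π' : PO ι ξ, ε.hom π' ∈ O ↔ π' ∈ c₀.ι.opensRange := by
      intro π'
      constructor
      · rintro ⟨s, hs⟩
        exact ⟨s, hεinj hs⟩
      · rintro ⟨s, hs⟩
        exact ⟨s, by rw [Scheme.Hom.comp_apply, hs]⟩
    have hbO : b ⁻¹ᵁ O = t ⁻¹ᵁ U := by
      ext w'
      change b w' ∈ O ↔ w' ∈ c₀.V
      rw [← H.b_preimage c₀, ← hεb]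
      exact hmemO (H.b w')
    have haO : a ⁻¹ᵁ O = V := by
      ext x
      change a x ∈ O ↔ x ∈ c₀.U
      rw [← H.a_preimage c₀, ← hεa]
      exact hmemO (H.a x)
    have hOS : O ≤ p ⁻¹ᵁ U := by
      intro π' hπ'
      rcases hjs π' with ⟨x, rfl⟩ | ⟨w', rfl⟩
      · have hx : x ∈ a ⁻¹ᵁ O := hπ'
        rw [haO] at hx
        change p (a x) ∈ U
        rw [hpa]
        exact hVU hx
      · have hw' : w' ∈ b ⁻¹ᵁ O := hπ'
        rw [hbO] at hw'
        change p (b w') ∈ U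
        rw [hpb]
        exact hw'
    have hπO : pullback.fst p g w ∈ O := by
      rw [← hwT]
      have : wT ∈ b ⁻¹ᵁ O := by rw [hbO]; exact hyU
      exact this
    obtain ⟨UT, hUT, hwUT, hUST⟩ := Opens.isBasis_iff_nbhd.mp Y'.isBasis_affineOpens
      (show pullback.snd p g w ∈ g ⁻¹ᵁ U by
        change g (pullback.snd p g w) ∈ U
        rw [hgw]
        exact hOS hπO)
    refine ⟨U, hU, UT, hUT, O, hO, hUST, hOS, hπO, hwUT, Or.inr (Or.inr ?_)⟩
    have hW : (Recog.chartOf ι ξ a b hP.w O hO).W = (ξ ≫ t) ⁻¹ᵁ U := by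
      change ι ⁻¹ᵁ (a ⁻¹ᵁ O) = ξ ⁻¹ᵁ (t ⁻¹ᵁ U)
      rw [haO, e]
    exact loc_of_eq t ξ ι a p hcomp U hU (hv ⟨U, hU⟩) (b ⁻¹ᵁ O) _ hbO hW
      (Recog.chartOf ι ξ a b hP.w O hO).leW' _
  · -- the point lies off `T`
    have hcl : IsClosed (Set.range b) := b.isClosedEmbedding.isClosed_range
    obtain ⟨US, hUS, hyUS, -⟩ := Opens.isBasis_iff_nbhd.mp Y.isBasis_affineOpens
      (show p (pullback.fst p g w) ∈ (⊤ : Y.Opens) from trivial)
    obtain ⟨O, hO, hπO, hOle⟩ := Opens.isBasis_iff_nbhd.mp P.isBasis_affineOpens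
      (show pullback.fst p g w ∈ (⟨(Set.range b)ᶜ, hcl.isOpen_compl⟩ : P.Opens) ⊓ p ⁻¹ᵁ US from
        ⟨hπ, hyUS⟩)
    have hOS : O ≤ p ⁻¹ᵁ US := fun x hx => (hOle hx).2
    obtain ⟨UT, hUT, hwUT, hUST⟩ := Opens.isBasis_iff_nbhd.mp Y'.isBasis_affineOpens
      (show pullback.snd p g w ∈ g ⁻¹ᵁ US by
        change g (pullback.snd p g w) ∈ US
        rw [hgw]
        exact hyUS)
    refine ⟨US, hUS, UT, hUT, O, hO, hUST, hOS, hπO, hwUT, Or.inr (Or.inl ?_)⟩
    have hW : (Recog.chartOf ι ξ a b hP.w O hO).W = ⊥ := by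
      ext z
      constructor
      · intro hzW
        have h1 : a (ι z) ∈ O := hzW
        rw [hab] at h1
        exact absurd ⟨ξ z, rfl⟩ (hOle h1).1
      · intro hz
        exact absurd hz (by simp)
    exact flat_of_bot (ι ≫ a ≫ p) US _ hW _

end Aux

open CategoryTheory AlgebraicGeometry in
/-- Let Y be a scheme, f : X → Y a morphism, t : T → Y a scheme affine over Y, ξ : Z → T a morphism with
Z affine over Y via ξ followed by t, and ι : Z → X a closed immersion over Y; assume every point of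
Y has an affine open neighbourhood U together with an affine open V of X inside the preimage of U
containing the image under ι of the part of Z over U; assume moreover that Y is locally Noetherian,
f and t are of finite type and ξ is finite, and let X → P ← T be a push-out of ι and ξ in the
category of schemes; assume finally that ξ is faithfully flat and that over every affine open U of Y
the cokernel of the map from functions on t⁻¹(U) to functions on the part of Z over U is a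
projective module over the functions on U. Let p : P → Y be the induced morphism. Then the push-out
commutes with every base change: for every morphism Y' → Y the square obtained by pulling back Z →
X, Z → T, X → P and T → P along Y' → Y is a push-out square in the category of schemes. -/
theorem result {X Y T Z : Scheme.{u}} (f : X ⟶ Y) (t : T ⟶ Y) (ξ : Z ⟶ T) (ι : Z ⟶ X)
    [IsAffineHom t] [IsAffineHom (ξ ≫ t)] [IsClosedImmersion ι] (hsq : ι ≫ f = ξ ≫ t)
    (hstd : ∀ y : Y, ∃ U : Y.Opens, IsAffineOpen U ∧ y ∈ U ∧ ∃ V : X.Opens, IsAffineOpen V ∧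
      V ≤ f ⁻¹ᵁ U ∧ ∀ z : Z, (ξ ≫ t).base z ∈ U → ι.base z ∈ V)
    [IsLocallyNoetherian Y] [LocallyOfFiniteType f] [QuasiCompact f] [LocallyOfFiniteType t] [QuasiCompact t]
    [IsFinite ξ] {P : Scheme.{u}} (a : X ⟶ P) (b : T ⟶ P) (hP : IsPushout ι ξ a b)
    [Flat ξ] [Surjective ξ]
    (hv : ∀ U : Y.affineOpens, @Pinch.CokerProjective Γ(Y, U) Γ(Z, (ξ ≫ t) ⁻¹ᵁ U) Γ(T, t ⁻¹ᵁ U) _ _ _
      ((ξ ≫ t).app U).hom.toAlgebra (ξ.app (t ⁻¹ᵁ U)).hom)
    (p : P ⟶ Y) (hap : a ≫ p = f) (hbp : b ≫ p = t) {Y' : Scheme.{u}} (g : Y' ⟶ Y) :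
    IsPushout ((Over.pullback g).map (Over.homMk ι hsq : Over.mk (ξ ≫ t) ⟶ Over.mk f)).left
      ((Over.pullback g).map (Over.homMk ξ rfl : Over.mk (ξ ≫ t) ⟶ Over.mk t)).left
      ((Over.pullback g).map (Over.homMk a hap : Over.mk f ⟶ Over.mk p)).left
      ((Over.pullback g).map (Over.homMk b hbp : Over.mk t ⟶ Over.mk p)).left := by
  exact Aux.main f t ξ ι hsq hstd a b hP hv p hap hbp g

end Groth.Agent.S15954
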