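import Groth.Statements.S1596
-- import your own Groth.Agent.* helpers here
import Groth.Agent.Lib.Helper7.GenBC.H0Curve
import Groth.Agent.Lib.Helper7.CohBC.Proj
import Groth.Agent.Lib.Helper7.RelH1.Main
import Groth.Agent.Lib.Helper2.Nodal.Gorenstein
import Groth.Agent.Lib.Helper4.TopDim2

set_option autoImplicit false
universe u
open CategoryTheory CategoryTheory.Limits AlgebraicGeometry
open Curves

namespace Groth.Agent.S1596

/-- Let f : X → S be a proper morphism of schemes that is at-worst-nodal of relative dimension one with
geometrically connected fibres. Then R¹f_*O_X is a finite locally free O_S-module and R^q f_*O_X = 0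
for every q ≥ 2. The published statement also includes the compatibility of these direct images with
base change, which is not asserted here. (Existence of injective resolutions in the category of
O_X-modules is carried as an instance binder.) -/
theorem result {X S : Scheme.{u}} (f : X ⟶ S) [IsProper f] (hf : Curv2.IsNodalFamily f)
    [GeometricallyConnected f] [HasInjectiveResolutions X.Modules] :
    FlatMod.IsFinLocFree ((Coh.Rpush f 1).obj (Coh.structureModule X)) ∧
      ∀ q : ℕ, 2 ≤ q → IsZero ((Coh.Rpush f q).obj (Coh.structureModule X)) := by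
  obtain ⟨hflat, hlfp, hfib⟩ := hf
  haveI := hflat
  haveI := hlfp
  have hdim : ∀ s : S, topologicalKrullDim ↥(f.fiber s) ≤ 1 := by
    intro s
    rw [Groth.Agent.Helper4.TD.topologicalKrullDim_eq_iSup_irreducibleComponents]
    exact iSup₂_le fun Z hZ => ((hfib s).1 Z hZ).le
  have h0 : ∀ s : S, IsIso (f.fiberToSpecResidueField s).appTop := by
    intro s
    letI ov : (f.fiber s).Over (Spec (S.residueField s)) := ⟨f.fiberToSpecResidueField s⟩
    haveI : IsProper (f.fiberToSpecResidueField s) := by
      change IsProper (pullback.snd f (S.fromSpecResidueField s)); infer_instance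
    haveI : LocallyOfFiniteType
        ((f.fiber s) ↘ Spec (CommRingCat.of (S.residueField s))) := by
      change LocallyOfFiniteType (pullback.snd f (S.fromSpecResidueField s)); infer_instance
    have hred : GeometricallyReduced (f.fiberToSpecResidueField s) :=
      Groth.Agent.Helper2.Nodal.geometricallyReduced_of_atWorstNodal (S.residueField s)
        (f.fiber s) (hfib s).2
    have hconn : GeometricallyConnected (f.fiberToSpecResidueField s) := inferInstance
    have hb := Groth.Agent.Helper7.GenBC.bijective_appTop_of_geom_reduced_connected
      (S.residueField s) (f.fiberToSpecResidueField s)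
      (AlgebraicClosure (S.residueField s)) (by
        intro Z a p P
        exact ⟨hred.geometrically_isReduced _ a p P,
          hconn.geometrically_connectedSpace _ a p P⟩)
    exact (ConcreteCategory.isIso_iff_bijective _).2 hb
  haveI hq : (Coh.structureModule X).IsQuasicoherent :=
    Groth.Agent.Helper1.IdealModL.isQuasicoherent_structureModule
  have hfp : CohB1.IsFP (Coh.structureModule X) := Groth.Agent.Helper1.FPA.isFP_unit X
  have hfl : FlatMod.IsFlatOver f (Coh.structureModule X) :=
    Groth.Agent.Helper7.GenBC.h0_isFlatOver_structureModule f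
  refine ⟨Groth.Agent.Helper7.GenBC.H0Curve.isFinLocFree_rpush_one f h0 hdim, fun q hq2 => ?_⟩
  have hsub : ∀ s, Subsingleton (CohIII.fiberH f (Coh.structureModule X) s q) := fun s =>
    Groth.Agent.Helper7.BC0.subsingleton_fiberH_of_dim_lt f (Coh.structureModule X) s 1
      (hdim s) q (by omega)
  choose V hV hsV hsubV using fun s =>
    Groth.Agent.Helper7.CohBC.exists_affine_nhd_sections_subsingleton f
      (Coh.structureModule X) hfp hfl q s (hsub s)
  apply Groth.Agent.Helper7.RelH1.isZero_of_basis_sections _
    {W : S.Opens | IsAffineOpen W ∧ ∃ s, W ≤ V s}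
  · rw [TopologicalSpace.Opens.isBasis_iff_nbhd]
    intro U x hx
    obtain ⟨W, hW, hxW, hWle⟩ :=
      (TopologicalSpace.Opens.isBasis_iff_nbhd.mp S.isBasis_affineOpens)
        (show x ∈ U ⊓ V x from ⟨hx, hsV x⟩)
    exact ⟨W, ⟨hW, x, hWle.trans inf_le_right⟩, hxW, hWle.trans inf_le_left⟩
  · rintro W ⟨hW, s, hle⟩
    exact hsubV s W hW hle

end Groth.Agent.S1596
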