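import Groth.Statements.S15987
import Mathlib
-- import your own Groth.Agent.* helpers here

set_option autoImplicit false
universe u v
open Deform

namespace Groth.Agent.S15987

open TrivSqZeroExt
namespace Aux

section
variable {k : Type u} [Field k] {A : Type u} [CommRing A] [Algebra k A]

/-- the algebra endomorphism attached to a derivation -/
noncomputable def phiHom (D : Derivation k A A) : DualNumber A →ₐ[k] DualNumber A :=
  AlgHom.ofLinearMap
    (LinearMap.id + (inrHom A A).restrictScalars k ∘ₗ (D : A →ₗ[k] A) ∘ₗ (fstHom k A A).toLinearMap)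
    (by ext <;> simp)
    (by
      intro x y
      ext
      · simp
      · simp [Derivation.leibniz]
        ring)

@[simp] lemma phiHom_fst (D : Derivation k A A) (x : DualNumber A) : (phiHom D x).fst = x.fst := by
  simp [phiHom]

@[simp] lemma phiHom_snd (D : Derivation k A A) (x : DualNumber A) :
    (phiHom D x).snd = x.snd + D x.fst := by
  simp [phiHom]

noncomputable def phi (D : Derivation k A A) : DualNumber A ≃ₐ[k] DualNumber A :=
  AlgEquiv.ofAlgHom (phiHom D) (phiHom (-D))
    (by ext x <;> simp)
    (by ext x <;> simp)

@[simp] lemma phi_apply (D : Derivation k A A) (x : DualNumber A) : phi D x = phiHom D x := rfl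

/-- the derivation attached to an automorphism which is the identity mod ε -/
noncomputable def der (φ : DualNumber A ≃ₐ[k] DualNumber A) (h1 : ∀ x, (φ x).fst = x.fst) :
    Derivation k A A :=
  Derivation.mk' ((sndHom A A).restrictScalars k ∘ₗ φ.toLinearMap ∘ₗ (inlAlgHom k A A).toLinearMap)
    (by
      intro a b
      simp only [LinearMap.coe_comp, LinearMap.coe_restrictScalars, Function.comp_apply,
        AlgHom.toLinearMap_apply, AlgEquiv.toLinearMap_apply, inlAlgHom_apply, sndHom_apply]
      rw [inl_mul, map_mul, snd_mul, h1, h1]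
      simp [mul_comm])

@[simp] lemma der_apply (φ : DualNumber A ≃ₐ[k] DualNumber A) (h1 : ∀ x, (φ x).fst = x.fst) (a : A) :
    der φ h1 a = (φ (inl a)).snd := rfl

lemma phi_inr (φ : DualNumber A ≃ₐ[k] DualNumber A) (h0 : φ DualNumber.eps = DualNumber.eps)
    (h1 : ∀ x, (φ x).fst = x.fst) (b : A) : φ (inr b) = inr b := by
  have : (inr b : DualNumber A) = inl b * DualNumber.eps := by
    ext <;> simp
  rw [this, map_mul, h0]
  ext
  · simp [h1]
  · simp [h1]

end

theorem main
    (k : Type u) [Field k] (A : Type u) [CommRing A] [Algebra k A] {ι : Type v} (q : ι → (A →ₐ[k] k)) :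
    ∃ e : {φ : DualNumber A ≃ₐ[k] DualNumber A //
            φ DualNumber.eps = DualNumber.eps ∧ (∀ x, (φ x).fst = x.fst) ∧
              ∀ i x, q i (φ x).snd = q i x.snd} ≃
          {D : Derivation k A A // ∀ i a, q i (D a) = 0},
      ∀ φ (a : A), (e φ).1 a = (φ.1 (inl a : DualNumber A)).snd := by
  refine ⟨{ toFun := fun φ => ⟨der φ.1 φ.2.2.1, ?_⟩
            invFun := fun D => ⟨phi D.1, ?_, ?_, ?_⟩
            left_inv := ?_
            right_inv := ?_ }, ?_⟩
  · intro i a
    have := φ.2.2.2 i (inl a)
    simpa using this
  · ext <;> simp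
  · intro x; simp
  · intro i x
    simp [D.2 i]
  · rintro ⟨φ, h0, h1, h2⟩
    apply Subtype.ext
    apply AlgEquiv.ext
    intro x
    have hx : x = inl x.fst + inr x.snd := (inl_fst_add_inr_snd_eq x).symm
    conv_rhs => rw [hx, map_add, phi_inr φ h0 h1]
    ext
    · simp [h1]
    · simp [h1, add_comm]
  · rintro ⟨D, hD⟩
    apply Subtype.ext
    ext a
    simp
  · intro φ a
    rfl

end Aux

open TrivSqZeroExt in
/-- Let k be a field, A a commutative k-algebra and q_i : A → k (i ∈ ι) k-algebra maps (marked k-points
of Spec A). The k-algebra automorphisms φ of the ring of dual numbers A[ε] that fix ε (so are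
k[ε]-linear), are the identity modulo ε, and satisfy q_i((φ x)_ε) = q_i(x_ε) for all i and x
(compatibility with the trivial lifts A[ε] → k[ε] of the marked points) are in bijection with the
k-derivations D : A → A such that q_i ∘ D = 0 for every i, the bijection sending φ to a ↦ (φ(a))_ε.
(The source identifies the right-hand side with the global vector fields vanishing at the marked
points; the condition the computation yields is q_i ∘ D = 0, which is the same for Spec A smooth
over k but is weaker in general, e.g. for A = k[x]/(x^2) with 2 invertible in k.) -/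
theorem result
    (k : Type u) [Field k] (A : Type u) [CommRing A] [Algebra k A] {ι : Type v} (q : ι → (A →ₐ[k] k)) :
    ∃ e : {φ : DualNumber A ≃ₐ[k] DualNumber A //
            φ DualNumber.eps = DualNumber.eps ∧ (∀ x, (φ x).fst = x.fst) ∧
              ∀ i x, q i (φ x).snd = q i x.snd} ≃
          {D : Derivation k A A // ∀ i a, q i (D a) = 0},
      ∀ φ (a : A), (e φ).1 a = (φ.1 (inl a : DualNumber A)).snd := by
  exact Aux.main k A q

end Groth.Agent.S15987
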