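import Groth.Statements.S15988
import Mathlib
import Groth.Agent.S15987
-- import your own Groth.Agent.* helpers here

set_option autoImplicit false
universe u v
open Deform

namespace Groth.Agent.S15988

open TrivSqZeroExt
namespace Aux

open Groth.Agent.S15987.Aux

section
variable {k : Type u} [Field k] {A : Type u} [CommRing A] [Algebra k A] {ι : Type v}

/-- evaluation at all points -/
noncomputable def evalRing (q : ι → (A →ₐ[k] k)) : A →+* (ι → k) :=
  RingHom.pi (fun i => (q i).toRingHom)

lemma evalRing_apply (q : ι → (A →ₐ[k] k)) (a : A) (i : ι) : evalRing q a i = q i a := rfl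

lemma q_surj (f : A →ₐ[k] k) : Function.Surjective f := fun c =>
  ⟨algebraMap k A c, by simp⟩

lemma evalRing_surjective [Finite ι] (q : ι → (A →ₐ[k] k)) (hq : Function.Injective q) :
    Function.Surjective (evalRing q) := by
  intro f
  have hmax : ∀ i, (RingHom.ker (q i)).IsMaximal := fun i =>
    RingHom.ker_isMaximal_of_surjective _ (q_surj (q i))
  have hne : ∀ i j, i ≠ j → RingHom.ker (q i) ≠ RingHom.ker (q j) := by
    intro i j hij hker
    apply hij
    apply hq
    ext a
    have h1 : a - algebraMap k A (q i a) ∈ RingHom.ker (q i) := by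
      rw [RingHom.mem_ker, map_sub, AlgHom.commutes]
      simp
    rw [hker, RingHom.mem_ker, map_sub, AlgHom.commutes] at h1
    have h2 : q j a - q i a = 0 := by simpa using h1
    exact (sub_eq_zero.mp h2).symm
  have hcop : Pairwise (Function.onFun IsCoprime fun i => RingHom.ker (q i)) := by
    intro i j hij
    rw [Function.onFun, Ideal.isCoprime_iff_sup_eq]
    exact Ideal.IsMaximal.coprime_of_ne (hmax i) (hmax j) (hne i j hij)
  obtain ⟨r, hr⟩ := Ideal.exists_forall_sub_mem_ideal hcop (fun i => algebraMap k A (f i))
  refine ⟨r, ?_⟩
  ext i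
  have := hr i
  rw [RingHom.mem_ker, map_sub, AlgHom.commutes, sub_eq_zero] at this
  rw [evalRing_apply, this]
  simp

end

theorem main
    (k : Type u) [Field k] (A : Type u) [CommRing A] [Algebra k A] [Algebra.Smooth k A]
    {ι : Type v} [Finite ι] (q : ι → (A →ₐ[k] k)) (hq : Function.Injective q)
    (q' : ι → (DualNumber A →ₐ[k] DualNumber k))
    (hε : ∀ i, q' i DualNumber.eps = DualNumber.eps) (hq' : ∀ i x, (q' i x).fst = q i x.fst) :
    ∃ φ : DualNumber A ≃ₐ[k] DualNumber A,
      φ DualNumber.eps = DualNumber.eps ∧ (∀ x, (φ x).fst = x.fst) ∧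
        ∀ i x, (q' i (φ x)).fst = q i x.fst ∧ (q' i (φ x)).snd = q i x.snd := by
  -- module structure on `ι → k`
  let _ : Module A (ι → k) := Module.compHom (ι → k) (evalRing q)
  have hsmul : ∀ (a : A) (f : ι → k) (i : ι), (a • f) i = q i a * f i := fun a f i => rfl
  have : IsScalarTower k A (ι → k) := ⟨fun c a f => by
    ext i
    rw [hsmul, Pi.smul_apply, hsmul, map_smul, smul_mul_assoc]⟩
  -- the derivation δ
  let δlin : A →ₗ[k] (ι → k) :=
    LinearMap.pi (fun i => (sndHom k k).restrictScalars k ∘ₗ (q' i).toLinearMap ∘ₗ (inlAlgHom k A A).toLinearMap)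
  have hδ : ∀ a i, δlin a i = (q' i (inl a)).snd := fun a i => rfl
  let δ : Derivation k A (ι → k) := Derivation.mk' δlin (by
    intro a b
    ext i
    rw [Pi.add_apply, hsmul, hsmul, hδ, hδ, hδ, inl_mul, map_mul, snd_mul, hq', hq']
    simp [mul_comm])
  let L : Ω[A⁄k] →ₗ[A] (ι → k) := δ.liftKaehlerDifferential
  let π : A →ₗ[A] (ι → k) :=
    { toFun := fun a => evalRing q a
      map_add' := fun a b => map_add _ a b
      map_smul' := fun a b => by
        ext i
        rw [RingHom.id_apply, hsmul, smul_eq_mul, map_mul]
        rfl }
  have hπ : Function.Surjective π := evalRing_surjective q hq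
  have : Module.Projective A Ω[A⁄k] := inferInstance
  obtain ⟨g, hg⟩ := Module.projective_lifting_property π (-L) hπ
  let D : Derivation k A A := g.compDer (KaehlerDifferential.D k A)
  have hD : ∀ a i, q i (D a) = - (q' i (inl a)).snd := by
    intro a i
    have h1 : π (g (KaehlerDifferential.D k A a)) = (-L) (KaehlerDifferential.D k A a) :=
      congrArg (fun f => f (KaehlerDifferential.D k A a)) hg
    have h2 := congrFun h1 i
    rw [LinearMap.neg_apply, Pi.neg_apply] at h2
    have h3 : L (KaehlerDifferential.D k A a) = δ a := Derivation.liftKaehlerDifferential_comp_D δ a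
    rw [h3] at h2
    exact h2
  have hinr : ∀ i (b : A), q' i (inr b) = inr (q i b) := by
    intro i b
    have : (inr b : DualNumber A) = inl b * DualNumber.eps := by
      ext <;> simp
    rw [this, map_mul, hε]
    ext
    · simp
    · simp [hq']
  refine ⟨phi D, ?_, ?_, ?_⟩
  · ext <;> simp
  · intro x; simp
  · intro i x
    refine ⟨by simp [hq'], ?_⟩
    have hx : phi D x = inl x.fst + inr (x.snd + D x.fst) := by
      ext <;> simp
    rw [hx, map_add, hinr, snd_add, snd_inr, map_add, hD]
    ring

end Aux

open TrivSqZeroExt in
/-- Let k be a field, A a smooth commutative k-algebra, q_i : A → k (i ∈ ι, ι finite) pairwise distinct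
k-algebra maps, and q'_i : A[ε] → k[ε] k-algebra maps with q'_i(ε) = ε which reduce to q_i modulo ε
(marked points of a first-order deformation with underlying trivial deformation). Then some
k-algebra automorphism φ of A[ε] with φ(ε) = ε and φ = id modulo ε carries every q'_i to the trivial
lift of q_i: q'_i(φ x) = (q_i(x_0), q_i(x_ε)) for all i and x. Together with the triviality of
first-order deformations of a smooth affine scheme this gives the source's statement that
first-order deformations of a smooth affine scheme with marked points are trivial. (The published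
statement does not say that the finitely many marked points are distinct; for two coincident points
with different lifts no such automorphism exists, so the points are taken pairwise distinct here,
and the source's non-singular is read as smooth over k.) -/
theorem result
    (k : Type u) [Field k] (A : Type u) [CommRing A] [Algebra k A] [Algebra.Smooth k A]
    {ι : Type v} [Finite ι] (q : ι → (A →ₐ[k] k)) (hq : Function.Injective q)
    (q' : ι → (DualNumber A →ₐ[k] DualNumber k))
    (hε : ∀ i, q' i DualNumber.eps = DualNumber.eps) (hq' : ∀ i x, (q' i x).fst = q i x.fst) :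
    ∃ φ : DualNumber A ≃ₐ[k] DualNumber A,
      φ DualNumber.eps = DualNumber.eps ∧ (∀ x, (φ x).fst = x.fst) ∧
        ∀ i x, (q' i (φ x)).fst = q i x.fst ∧ (q' i (φ x)).snd = q i x.snd := by
  exact Aux.main k A q hq q' hε hq'

end Groth.Agent.S15988
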