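import Groth.Statements.S16001
import Mathlib

set_option autoImplicit false
universe u
open FrobAlg

namespace Groth.Agent.S16001

open TensorProduct

section
variable (p : ℕ) [hp : Fact p.Prime] {C : Type u} [CommRing C] (hpC : (p : C) = 0) (I : Ideal C) (hI : I ^ 2 = ⊥)

include hp hpC hI in
theorem pow_eq_of_sub_mem (x y : C) (h : x - y ∈ I) : x ^ p = y ^ p := by
  obtain ⟨r, hr⟩ := (Commute.all y (x - y)).exists_add_pow_prime_eq hp.out
  have h2 : (x - y) ^ 2 = 0 := by
    have : (x - y) ^ 2 ∈ I ^ 2 := Ideal.pow_mem_pow h 2
    rw [hI] at this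
    exact this
  have hp2 : 2 ≤ p := hp.out.two_le
  have h3 : (x - y) ^ p = 0 := by
    obtain ⟨k, rfl⟩ := Nat.exists_eq_add_of_le hp2
    rw [pow_add, h2, zero_mul]
  have h4 : x = y + (x - y) := by ring
  rw [h4, hr, h3, hpC]
  ring

include hp hpC in
theorem add_pow_p (x y : C) : (x + y) ^ p = x ^ p + y ^ p := by
  obtain ⟨r, hr⟩ := (Commute.all x y).exists_add_pow_prime_eq hp.out
  rw [hr, hpC]
  ring

/-- the `p`-th power of a lift -/
noncomputable def Phi : C ⧸ I →+* C where
  toFun := Quotient.lift (fun c : C => c ^ p) (fun a b hab => by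
    apply pow_eq_of_sub_mem p hpC I hI
    exact (Submodule.quotientRel_def _).1 hab)
  map_one' := by
    show Quotient.lift _ _ (Ideal.Quotient.mk I 1) = 1
    exact one_pow p
  map_mul' x y := by
    obtain ⟨x, rfl⟩ := Ideal.Quotient.mk_surjective x
    obtain ⟨y, rfl⟩ := Ideal.Quotient.mk_surjective y
    show (x * y) ^ p = x ^ p * y ^ p
    rw [mul_pow]
  map_zero' := by
    show (0 : C) ^ p = 0
    exact zero_pow hp.out.ne_zero
  map_add' x y := by
    obtain ⟨x, rfl⟩ := Ideal.Quotient.mk_surjective x
    obtain ⟨y, rfl⟩ := Ideal.Quotient.mk_surjective y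
    show (x + y) ^ p = x ^ p + y ^ p
    exact add_pow_p p hpC x y

theorem Phi_mk (c : C) : Phi p hpC I hI (Ideal.Quotient.mk I c) = c ^ p := rfl

theorem mk_Phi (x : C ⧸ I) : Ideal.Quotient.mk I (Phi p hpC I hI x) = x ^ p := by
  obtain ⟨x, rfl⟩ := Ideal.Quotient.mk_surjective x
  rw [Phi_mk, map_pow]

end

section
variable (p : ℕ) [hp : Fact p.Prime] (A : Type u) [CommRing A] [CharP A p]
    (B : Type u) [CommRing B] [Algebra A B] [CharP B p]

theorem relFrob_tmul (b : B) (t : FrobAlg.Twist p A) :
    FrobAlg.relFrob p A B (b ⊗ₜ[A] t) = b ^ p * algebraMap A B ((FrobAlg.toTwist p A).symm t) := rfl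

theorem natCast_eq_zero' (C : Type u) [CommRing C] [Algebra A C] : (p : C) = 0 := by
  rw [← map_natCast (algebraMap A C) p, CharP.cast_eq_zero A p, map_zero]

variable {C : Type u} [CommRing C] [Algebra A C] (I : Ideal C) (hI : I ^ 2 = ⊥)

/-- the additive map on the Frobenius twist attached to a map to the quotient -/
noncomputable def psi0 (g : B →ₐ[A] C ⧸ I) : FrobAlg.BaseChange p A B →+ C :=
  TensorProduct.liftAddHom
    ({ toFun := fun b =>
        { toFun := fun t => Phi p (natCast_eq_zero' p A C) I hI (g b) *
            algebraMap A C ((FrobAlg.toTwist p A).symm t)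
          map_zero' := by rw [map_zero, map_zero, mul_zero]
          map_add' := fun t t' => by rw [map_add, map_add, mul_add] }
       map_zero' := by
        ext t
        show Phi p _ I hI (g 0) * _ = 0
        rw [map_zero, map_zero, zero_mul]
       map_add' := fun b b' => by
        ext t
        show Phi p _ I hI (g (b + b')) * _ = Phi p _ I hI (g b) * _ + Phi p _ I hI (g b') * _
        rw [map_add, map_add, add_mul] } : B →+ FrobAlg.Twist p A →+ C)
    (by
      intro a b t
      show Phi p _ I hI (g (a • b)) * algebraMap A C ((FrobAlg.toTwist p A).symm t) =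
        Phi p _ I hI (g b) * algebraMap A C ((FrobAlg.toTwist p A).symm (a • t))
      have h1 : g (a • b) = Ideal.Quotient.mk I (algebraMap A C a) * g b := by
        rw [map_smul, Algebra.smul_def]
        rfl
      have h2 : (FrobAlg.toTwist p A).symm (a • t) = a ^ p * (FrobAlg.toTwist p A).symm t := rfl
      rw [h1, map_mul, Phi_mk, h2, map_mul, map_pow]
      ring)

theorem psi0_tmul (g : B →ₐ[A] C ⧸ I) (b : B) (t : FrobAlg.Twist p A) :
    psi0 p A B I hI g (b ⊗ₜ[A] t) = Phi p (natCast_eq_zero' p A C) I hI (g b) *
      algebraMap A C ((FrobAlg.toTwist p A).symm t) := rfl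

theorem psi0_mul (g : B →ₐ[A] C ⧸ I) (x y : FrobAlg.BaseChange p A B) :
    psi0 p A B I hI g (x * y) = psi0 p A B I hI g x * psi0 p A B I hI g y := by
  induction x using TensorProduct.induction_on with
  | zero => rw [zero_mul, map_zero, zero_mul]
  | add x x' hx hx' => rw [add_mul, map_add, hx, hx', map_add, add_mul]
  | tmul b t =>
    induction y using TensorProduct.induction_on with
    | zero => rw [mul_zero, map_zero, mul_zero]
    | add y y' hy hy' => rw [mul_add, map_add, hy, hy', map_add, mul_add]
    | tmul b' t' =>
      rw [Algebra.TensorProduct.tmul_mul_tmul, psi0_tmul, psi0_tmul, psi0_tmul, map_mul, map_mul, map_mul, map_mul]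
      ring

theorem mk_psi0 (g : B →ₐ[A] C ⧸ I) (x : FrobAlg.BaseChange p A B) :
    Ideal.Quotient.mk I (psi0 p A B I hI g x) = g (FrobAlg.relFrob p A B x) := by
  induction x using TensorProduct.induction_on with
  | zero => rw [map_zero, map_zero, map_zero, map_zero]
  | add x x' hx hx' => rw [map_add, map_add, map_add, map_add, hx, hx']
  | tmul b t =>
    rw [psi0_tmul, relFrob_tmul, map_mul, mk_Phi, map_mul, map_pow, AlgHom.commutes]
    rfl

end


/-- Let A be a commutative ring of prime characteristic p and B a commutative A-algebra of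
characteristic p such that the relative Frobenius B ⊗_{A,Frob} A → B, b ⊗ a ↦ b^p a, is bijective
(that is, Spec B → Spec A is relatively perfect; no finiteness condition is imposed). Then B is
formally étale over A. (The source proves that every perfect algebraic stack over an algebraic space
of characteristic p is formally étale over it; this is the case of an affine scheme over an affine
base.) -/
theorem result (p : ℕ) [Fact p.Prime] (A : Type u) [CommRing A] [CharP A p]
    (B : Type u) [CommRing B] [Algebra A B] [CharP B p]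
    (h : Function.Bijective (FrobAlg.relFrob p A B)) : Algebra.FormallyEtale A B := by
  classical
  rw [Algebra.FormallyEtale.iff_comp_bijective]
  intro C _ _ I hI
  constructor
  · intro g₁ g₂ hg
    apply AlgHom.ext
    intro b
    obtain ⟨x, rfl⟩ := h.2 b
    induction x using TensorProduct.induction_on with
    | zero => rw [map_zero, map_zero, map_zero]
    | add x y hx hy => rw [map_add, map_add, map_add, hx, hy]
    | tmul b t =>
      rw [relFrob_tmul, map_mul, map_mul, map_pow, map_pow, AlgHom.commutes, AlgHom.commutes]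
      congr 1
      apply pow_eq_of_sub_mem p (natCast_eq_zero' p A C) I hI
      have := congrArg (fun f => f b) hg
      exact (Ideal.Quotient.eq).1 this
  · intro g
    let e : FrobAlg.BaseChange p A B ≃+* B := RingEquiv.ofBijective (FrobAlg.relFrob p A B) h
    have he : ∀ x, e x = FrobAlg.relFrob p A B x := fun x => rfl
    have hone : psi0 p A B I hI g 1 = 1 := by
      rw [Algebra.TensorProduct.one_def, psi0_tmul, map_one, map_one, map_one, map_one, mul_one]
    refine ⟨{ toFun := fun b => psi0 p A B I hI g (e.symm b), map_one' := ?_, map_mul' := ?_,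
              map_zero' := ?_, map_add' := ?_, commutes' := ?_ }, ?_⟩
    · show psi0 p A B I hI g (e.symm 1) = 1
      rw [map_one, hone]
    · intro x y
      show psi0 p A B I hI g (e.symm (x * y)) = psi0 p A B I hI g (e.symm x) * psi0 p A B I hI g (e.symm y)
      rw [map_mul, psi0_mul]
    · show psi0 p A B I hI g (e.symm 0) = 0
      rw [map_zero, map_zero]
    · intro x y
      show psi0 p A B I hI g (e.symm (x + y)) = psi0 p A B I hI g (e.symm x) + psi0 p A B I hI g (e.symm y)
      rw [map_add, map_add]
    · intro a
      show psi0 p A B I hI g (e.symm (algebraMap A B a)) = algebraMap A C a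
      have h1 : e.symm (algebraMap A B a) = (1 : B) ⊗ₜ[A] (FrobAlg.toTwist p A a) := by
        rw [RingEquiv.symm_apply_eq, he, relFrob_tmul, one_pow, one_mul, RingEquiv.symm_apply_apply]
      rw [h1, psi0_tmul, map_one, map_one, one_mul, RingEquiv.symm_apply_apply]
    · apply AlgHom.ext
      intro b
      show Ideal.Quotient.mk I (psi0 p A B I hI g (e.symm b)) = g b
      rw [mk_psi0, ← he, RingEquiv.apply_symm_apply]

end Groth.Agent.S16001
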