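import Groth.Statements.S16014
import Mathlib.Tactic

set_option autoImplicit false
universe u
open W4c3ghconstell

namespace Groth.Agent.S16014

/-- Let B = ⊕_{n ∈ ℤ} ⊕_τ B^n_τ be a bigraded finite-dimensional vector space, τ running over a finite
index set, with B^n = 0 for n < −N and for n > M (N, M integers); put d(n, τ) = dim B^n_τ. For
rational numbers φ_τ write φ(C) = Σ_τ φ_τ dim C_τ for a τ-graded piece C, and let B^{≥n} = ⊕_{m ≥ n}
B^m, so that dim B^{≥n}_τ = Σ_{n ≤ m ≤ M} d(m, τ). Then Σ_{−N ≤ n ≤ M} n · φ(B^n) = Σ_{−N+1 ≤ n ≤ M}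
φ(B^{≥n}) − N · φ(B). (Stated directly on the dimension function d.) -/
theorem result {τ : Type u} [Fintype τ] (d : ℤ → τ → ℕ) (φ : τ → ℚ) (N M : ℤ)
    (hN : ∀ n, n < -N → d n = 0) (hM : ∀ n, M < n → d n = 0) :
    ∑ n ∈ Finset.Icc (-N) M, (n : ℚ) * (∑ t, φ t * (d n t : ℚ)) =
      ∑ n ∈ Finset.Icc (-N + 1) M, (∑ t, φ t * (∑ m ∈ Finset.Icc n M, (d m t : ℚ))) -
        (N : ℚ) * (∑ t, φ t * (∑ m ∈ Finset.Icc (-N) M, (d m t : ℚ))) := by
  classical
  have key : ∀ (a : ℤ → ℚ) (L M : ℤ), L ≤ M →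
      ∑ n ∈ Finset.Icc (L + 1) M, ∑ m ∈ Finset.Icc n M, a m =
        ∑ m ∈ Finset.Icc L M, ((m : ℚ) - L) * a m := by
    intro a L M hLM
    induction M, hLM using Int.le_induction with
    | base => simp
    | succ M hLM ih =>
      rw [← Finset.insert_Icc_right_eq_Icc_add_one (by omega : L + 1 ≤ M + 1),
        ← Finset.insert_Icc_right_eq_Icc_add_one (by omega : L ≤ M + 1),
        Finset.sum_insert (by simp), Finset.sum_insert (by simp)]
      have h1 : ∀ n ∈ Finset.Icc (L + 1) M, ∑ m ∈ Finset.Icc n (M + 1), a m =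
          a (M + 1) + ∑ m ∈ Finset.Icc n M, a m := by
        intro n hn
        rw [Finset.mem_Icc] at hn
        rw [← Finset.insert_Icc_right_eq_Icc_add_one (by omega : n ≤ M + 1),
          Finset.sum_insert (by simp)]
      rw [Finset.sum_congr rfl h1, Finset.sum_add_distrib, ih, Finset.sum_const, Int.card_Icc]
      simp only [Finset.Icc_self, Finset.sum_singleton, nsmul_eq_mul]
      have h2 : (((M + 1 - (L + 1)).toNat : ℕ) : ℚ) = (M : ℚ) - L := by
        have : ((M + 1 - (L + 1)).toNat : ℤ) = M - L := by omega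
        exact_mod_cast this
      rw [h2]
      push_cast
      ring
  by_cases hNM : -N ≤ M
  · have e1 : ∀ n : ℤ, (∑ t, φ t * (∑ m ∈ Finset.Icc n M, (d m t : ℚ))) =
        ∑ m ∈ Finset.Icc n M, ∑ t, φ t * (d m t : ℚ) := by
      intro n
      rw [Finset.sum_comm]
      exact Finset.sum_congr rfl fun t _ => Finset.mul_sum _ _ _
    simp only [e1]
    rw [key (fun m => ∑ t, φ t * (d m t : ℚ)) (-N) M hNM, Finset.mul_sum, ← Finset.sum_sub_distrib]
    refine Finset.sum_congr rfl fun n _ => ?_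
    push_cast
    ring
  · have h1 : Finset.Icc (-N) M = ∅ := Finset.Icc_eq_empty (by omega)
    have h2 : Finset.Icc (-N + 1) M = ∅ := Finset.Icc_eq_empty (by omega)
    simp [h1, h2]

end Groth.Agent.S16014
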