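import Groth.Statements.S16015
import Mathlib

set_option autoImplicit false
universe u v w
open W4c3ghconstell

namespace Groth.Agent.S16015


open TensorProduct

theorem main {B : Type u} [CommRing B]
    {E : Type v} [AddCommGroup E] [Module B E]
    {F : Type w} [AddCommGroup F] [Module B F] [Module.Finite B F] [Module.Projective B F]
    (β : E →ₗ[B] F) :
    ∃! I : Ideal B, ∀ (C : Type u) [CommRing C] [Algebra B C],
      LinearMap.baseChange C β = 0 ↔ I ≤ RingHom.ker (algebraMap B C) := by
  obtain ⟨n, f, g, -, -, hfg⟩ := Module.Finite.exists_comp_eq_id_of_projective B F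
  have hfg' : ∀ y : F, f (g y) = y := fun y => by
    have := congrArg (fun h => h y) hfg
    simpa using this
  set I : Ideal B := Ideal.span {b | ∃ (e : E) (i : Fin n), b = g (β e) i} with hI
  have key : ∀ (C : Type u) [CommRing C] [Algebra B C],
      LinearMap.baseChange C β = 0 ↔ I ≤ RingHom.ker (algebraMap B C) := by
    intro C _ _
    constructor
    · intro h0
      rw [hI, Ideal.span_le]
      rintro _ ⟨e, i, rfl⟩
      rw [SetLike.mem_coe, RingHom.mem_ker]
      let φ : F →ₗ[B] B := (LinearMap.proj i).comp g
      have h1 : (TensorProduct.rid B C).toLinearMap.comp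
          ((LinearMap.baseChange C φ).restrictScalars B) ((LinearMap.baseChange C β) (1 ⊗ₜ[B] e)) = 0 := by
        rw [h0]; simp
      simp only [LinearMap.baseChange_tmul, LinearMap.coe_comp, LinearMap.coe_restrictScalars,
        LinearEquiv.coe_coe, Function.comp_apply,
        TensorProduct.rid_tmul] at h1
      rw [Algebra.algebraMap_eq_smul_one]
      exact h1
    · intro hle
      apply LinearMap.ext
      intro x
      induction x using TensorProduct.induction_on with
      | zero => simp
      | add x y hx hy => rw [map_add, hx, hy]; simp
      | tmul c e =>
        rw [LinearMap.baseChange_tmul, LinearMap.zero_apply]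
        rw [← hfg' (β e), LinearMap.pi_apply_eq_sum_univ f (g (β e)), TensorProduct.tmul_sum]
        apply Finset.sum_eq_zero
        intro i _
        have hb : algebraMap B C (g (β e) i) = 0 := by
          have : g (β e) i ∈ I := Ideal.subset_span ⟨e, i, rfl⟩
          exact hle this
        rw [TensorProduct.tmul_smul, TensorProduct.smul_tmul', Algebra.smul_def, hb, zero_mul,
          TensorProduct.zero_tmul]
  refine ⟨I, key, ?_⟩
  intro J hJ
  have hker : ∀ K : Ideal B, RingHom.ker (algebraMap B (B ⧸ K)) = K := by
    intro K
    rw [Ideal.Quotient.algebraMap_eq]; exact Ideal.mk_ker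
  apply le_antisymm
  · have h1 : LinearMap.baseChange (B ⧸ I) β = 0 := (key (B ⧸ I)).2 (by rw [hker])
    have h2 := (hJ (B ⧸ I)).1 h1
    rwa [hker] at h2
  · have h1 : LinearMap.baseChange (B ⧸ J) β = 0 := (hJ (B ⧸ J)).2 (by rw [hker])
    have h2 := (key (B ⧸ J)).1 h1
    rwa [hker] at h2



/-- Let B be a commutative ring, E a B-module, F a finitely generated projective B-module and β : E → F
a B-linear map. Then there is a unique ideal I of B such that for every commutative B-algebra C the
base change β_C : C ⊗ E → C ⊗ F is zero if and only if the structure map B → C kills I. (The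
published statement is for a homomorphism of modules on a scheme T into a locally free module and
produces a closed subscheme T₀ through which a morphism factors exactly when the pulled-back
homomorphism vanishes; this row is the case of an affine T with affine test schemes and F of finite
rank, to which it reduces.) -/
theorem result {B : Type u} [CommRing B]
    {E : Type v} [AddCommGroup E] [Module B E]
    {F : Type w} [AddCommGroup F] [Module B F] [Module.Finite B F] [Module.Projective B F]
    (β : E →ₗ[B] F) :
    ∃! I : Ideal B, ∀ (C : Type u) [CommRing C] [Algebra B C],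
      LinearMap.baseChange C β = 0 ↔ I ≤ RingHom.ker (algebraMap B C) := by
  classical
  exact main β

end Groth.Agent.S16015
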