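import Groth.Statements.S16016
import Mathlib

set_option autoImplicit false
universe u
open W4c3ghconstell

namespace Groth.Agent.S16016

section

variable {k : Type*} [Field k]

abbrev Q : Matrix (Fin 3 ⊕ Fin 3) (Fin 3 ⊕ Fin 3) k := Matrix.fromBlocks (0 : Matrix (Fin 3) (Fin 3) k) 1 1 0

theorem Q_apply (i j : Fin 3 ⊕ Fin 3) : (Q : Matrix _ _ k) i j = if i = Sum.swap j then 1 else 0 := by
  rcases i with i | i <;> rcases j with j | j <;> simp [Q, Matrix.one_apply]

theorem cond1_iff (A : Matrix (Fin 3 ⊕ Fin 3) (Fin 3 ⊕ Fin 3) k) :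
    A.transpose * (Q : Matrix _ _ k) + (Q : Matrix _ _ k) * A = 0 ↔ ∀ i j, A (Sum.swap j) i + A (Sum.swap i) j = 0 := by
  have e : ∀ i j, (A.transpose * (Q : Matrix _ _ k) + (Q : Matrix _ _ k) * A) i j = A (Sum.swap j) i + A (Sum.swap i) j := by
    intro i j
    rw [Matrix.add_apply, Matrix.mul_apply, Matrix.mul_apply]
    simp only [Q_apply, Matrix.transpose_apply]
    congr 1
    · simp
    · have : ∀ l : Fin 3 ⊕ Fin 3, (i = Sum.swap l) = (l = Sum.swap i) := by
        intro l
        apply propext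
        constructor
        · intro h; rw [h]; simp
        · intro h; rw [h]; simp
      simp [this]
  constructor
  · intro h i j
    rw [← e, h]; rfl
  · intro h
    ext i j
    rw [e, h]; rfl

theorem cond2_iff (A : Matrix (Fin 3 ⊕ Fin 3) (Fin 3 ⊕ Fin 3) k) :
    LinearMap.range (Matrix.mulVecLin A.transpose) ≤
        Submodule.span k {Pi.single (Sum.inl 0 : Fin 3 ⊕ Fin 3) (1 : k), Pi.single (Sum.inl 1 : Fin 3 ⊕ Fin 3) (1 : k)} ↔
    ∀ l i, i ≠ Sum.inl 0 → i ≠ Sum.inl 1 → A l i = 0 := by
  constructor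
  · intro h l i h0 h1
    have hm : Matrix.mulVecLin A.transpose (Pi.single l 1) ∈ LinearMap.range (Matrix.mulVecLin A.transpose) :=
      LinearMap.mem_range_self _ _
    have := h hm
    rw [Submodule.mem_span_pair] at this
    obtain ⟨c, d, hcd⟩ := this
    have := congrFun hcd i
    simp only [Pi.add_apply, Pi.smul_apply, Pi.single_apply, if_neg h0, if_neg h1, smul_zero, add_zero,
      Matrix.mulVecLin_apply, Matrix.mulVec_single_one, Matrix.transpose_apply] at this
    simpa using this.symm
  · intro h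
    rintro _ ⟨v, rfl⟩
    rw [Submodule.mem_span_pair]
    refine ⟨(A.transpose.mulVec v) (Sum.inl 0), (A.transpose.mulVec v) (Sum.inl 1), ?_⟩
    ext i
    by_cases h0 : i = Sum.inl 0
    · subst h0; simp [Matrix.mulVec_transpose]
    by_cases h1 : i = Sum.inl 1
    · subst h1; simp [Matrix.mulVec_transpose]
    simp only [Pi.add_apply, Pi.smul_apply, Pi.single_apply, if_neg h0, if_neg h1, smul_zero, add_zero,
      Matrix.mulVecLin_apply]
    rw [Matrix.mulVec, dotProduct]
    symm
    apply Finset.sum_eq_zero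
    intro l _
    rw [Matrix.transpose_apply, h l i h0 h1, zero_mul]

theorem main (h2 : (2 : k) ≠ 0)
    (A : Matrix (Fin 3 ⊕ Fin 3) (Fin 3 ⊕ Fin 3) k) :
    (A.transpose * Matrix.fromBlocks (0 : Matrix (Fin 3) (Fin 3) k) 1 1 0 +
        Matrix.fromBlocks (0 : Matrix (Fin 3) (Fin 3) k) 1 1 0 * A = 0 ∧
      LinearMap.range (Matrix.mulVecLin A.transpose) ≤
        Submodule.span k {Pi.single (Sum.inl 0 : Fin 3 ⊕ Fin 3) (1 : k), Pi.single (Sum.inl 1 : Fin 3 ⊕ Fin 3) (1 : k)}) ↔
    ∃ a : k, A = a • (Matrix.single (Sum.inr 0) (Sum.inl 1) (1 : k) - Matrix.single (Sum.inr 1) (Sum.inl 0) (1 : k)) := by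
  rw [cond2_iff]
  change (A.transpose * (Q : Matrix _ _ k) + (Q : Matrix _ _ k) * A = 0 ∧ _) ↔ _
  rw [cond1_iff]
  constructor
  · rintro ⟨hsk, hcol⟩
    have hsk' : ∀ r i, A r i = - A (Sum.swap i) (Sum.swap r) := by
      intro r i
      have := hsk i (Sum.swap r)
      rw [Sum.swap_swap] at this
      exact eq_neg_of_add_eq_zero_left this
    have z : ∀ r i, ((i ≠ Sum.inl 0 ∧ i ≠ Sum.inl 1) ∨ (Sum.swap r ≠ Sum.inl 0 ∧ Sum.swap r ≠ Sum.inl 1)) → A r i = 0 := by
      intro r i h
      rcases h with h | h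
      · exact hcol r i h.1 h.2
      · rw [hsk', hcol _ _ h.1 h.2, neg_zero]
    have d0 : A (Sum.inr 0) (Sum.inl 0) = 0 := by
      have := hsk (Sum.inl 0) (Sum.inl 0)
      simp only [Sum.swap_inl] at this
      have h' : (2 : k) * A (Sum.inr 0) (Sum.inl 0) = 0 := by rw [two_mul]; exact this
      exact (mul_eq_zero.mp h').resolve_left h2
    have d1 : A (Sum.inr 1) (Sum.inl 1) = 0 := by
      have := hsk (Sum.inl 1) (Sum.inl 1)
      simp only [Sum.swap_inl] at this
      have h' : (2 : k) * A (Sum.inr 1) (Sum.inl 1) = 0 := by rw [two_mul]; exact this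
      exact (mul_eq_zero.mp h').resolve_left h2
    have e : A (Sum.inr 1) (Sum.inl 0) = - A (Sum.inr 0) (Sum.inl 1) := by
      have := hsk (Sum.inl 0) (Sum.inl 1)
      simp only [Sum.swap_inl] at this
      exact eq_neg_of_add_eq_zero_left this
    refine ⟨A (Sum.inr 0) (Sum.inl 1), ?_⟩
    ext r i
    rcases r with r | r <;> rcases i with i | i <;> fin_cases r <;> fin_cases i <;>
      simp [Matrix.single_apply] <;>
      first
      | exact d0
      | exact d1
      | exact e
      | exact z _ _ (by decide)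
  · rintro ⟨a, rfl⟩
    constructor
    · intro i j
      rcases i with i | i <;> rcases j with j | j <;> fin_cases i <;> fin_cases j <;>
        simp [Matrix.single_apply]
    · intro l i h0 h1
      rcases l with l | l <;> rcases i with i | i <;> fin_cases l <;> fin_cases i <;>
        simp [Matrix.single_apply] at h0 h1 ⊢

end


/-- Let k be a field with 2 ≠ 0, index k⁶ by two copies of {0,1,2} (basis vectors p₁, p₂, p₃ in the
first copy and p₄, p₅, p₆ in the second), let Q be the symmetric matrix with blocks ((0, 1), (1,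
0)), so that the form it defines pairs pᵢ with pᵢ₊₃, and let W₀ be the span of p₁ and p₂. Then a 6 ×
6 matrix A satisfies AᵀQ + QA = 0 (A lies in the orthogonal Lie algebra of Q) and has the image of
Aᵀ contained in W₀ if and only if A = a · (E₄₂ − E₅₁) for some scalar a, where Eᵢⱼ is the matrix
unit. (The lemma in the source concludes that the set of such A inside a certain nilpotent orbit
closure of this Lie algebra is one-dimensional; this row is the computation its proof performs,
which determines all such A in the Lie algebra. Characteristic 2 is excluded: there E₁₄ᵀ also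
qualifies.) -/
theorem result (k : Type u) [Field k] (h2 : (2 : k) ≠ 0)
    (A : Matrix (Fin 3 ⊕ Fin 3) (Fin 3 ⊕ Fin 3) k) :
    (A.transpose * Matrix.fromBlocks (0 : Matrix (Fin 3) (Fin 3) k) 1 1 0 +
        Matrix.fromBlocks (0 : Matrix (Fin 3) (Fin 3) k) 1 1 0 * A = 0 ∧
      LinearMap.range (Matrix.mulVecLin A.transpose) ≤
        Submodule.span k {Pi.single (Sum.inl 0 : Fin 3 ⊕ Fin 3) (1 : k), Pi.single (Sum.inl 1 : Fin 3 ⊕ Fin 3) (1 : k)}) ↔
    ∃ a : k, A = a • (Matrix.single (Sum.inr 0) (Sum.inl 1) (1 : k) - Matrix.single (Sum.inr 1) (Sum.inl 0) (1 : k)) := by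
  classical
  exact main h2 A

end Groth.Agent.S16016
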