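import Groth.Statements.S16017
import Mathlib

set_option autoImplicit false
universe u
open W4c3ghconstell

namespace Groth.Agent.S16017

section
open Filter

theorem main {ι : Type*} [DecidableEq ι] (θ : ι → ℚ) (h h' : ι → ℕ)
    (hle : ∀ i, h' i ≤ h i) (hfin : {i | θ i < 0}.Finite)
    (hsum : Summable (fun i => (θ i : ℝ) * (h i : ℝ))) :
    Filter.Tendsto
      (fun D : Finset ι =>
        (∑ i ∈ D, (θ i : ℝ) * (h' i : ℝ)) +
          ((∑' i, if i ∈ D then (0 : ℝ) else (θ i : ℝ) * (h i : ℝ)) / ((D \ hfin.toFinset).card : ℝ)) *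
            ∑ i ∈ D \ hfin.toFinset, ((h' i : ℝ) / (h i : ℝ)))
      Filter.atTop (nhds (∑' i, (θ i : ℝ) * (h' i : ℝ))) := by
  classical
  -- summability of θ h'
  have hsum' : Summable (fun i => (θ i : ℝ) * (h' i : ℝ)) := by
    -- modify on the finite set
    have h1 : Summable (fun i => if i ∈ hfin.toFinset then (0:ℝ) else (θ i : ℝ) * (h' i : ℝ)) := by
      refine Summable.of_nonneg_of_le (f := fun i => if i ∈ hfin.toFinset then (0:ℝ) else (θ i : ℝ) * (h i : ℝ)) ?_ ?_ ?_
      · intro i
        by_cases hi : i ∈ hfin.toFinset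
        · simp [hi]
        · simp only [if_neg hi]
          have : ¬ θ i < 0 := by simpa using hi
          have : (0:ℝ) ≤ (θ i : ℝ) := by exact_mod_cast not_lt.mp this
          positivity
      · intro i
        by_cases hi : i ∈ hfin.toFinset
        · simp [hi]
        · simp only [if_neg hi]
          have : ¬ θ i < 0 := by simpa using hi
          have h0 : (0:ℝ) ≤ (θ i : ℝ) := by exact_mod_cast not_lt.mp this
          have : (h' i : ℝ) ≤ (h i : ℝ) := by exact_mod_cast hle i
          exact mul_le_mul_of_nonneg_left this h0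
      · refine (hsum.congr_cofinite ?_)
        rw [Filter.EventuallyEq, Filter.eventually_cofinite]
        refine hfin.subset ?_
        intro i hi
        simp only [Set.mem_ofPred_eq] at hi
        by_contra hcon
        apply hi
        have : i ∉ hfin.toFinset := by simpa using hcon
        rw [if_neg this]
    refine h1.congr_cofinite ?_
    rw [Filter.EventuallyEq, Filter.eventually_cofinite]
    refine hfin.subset ?_
    intro i hi
    simp only [Set.mem_ofPred_eq] at hi
    by_contra hcon
    apply hi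
    have : i ∉ hfin.toFinset := by simpa using hcon
    rw [if_neg this]
  have hfirst : Tendsto (fun D : Finset ι => ∑ i ∈ D, (θ i : ℝ) * (h' i : ℝ)) atTop
      (nhds (∑' i, (θ i : ℝ) * (h' i : ℝ))) := hsum'.hasSum
  have hS : Tendsto (fun D : Finset ι => ∑' i, if i ∈ D then (0:ℝ) else (θ i : ℝ) * (h i : ℝ)) atTop (nhds 0) := by
    have := tendsto_tsum_compl_atTop_zero (fun i => (θ i : ℝ) * (h i : ℝ))
    refine this.congr ?_
    intro D
    refine (tsum_subtype ({x | x ∉ D} : Set ι) (fun i => (θ i : ℝ) * (h i : ℝ))).trans ?_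
    congr 1
    ext i
    by_cases hi : i ∈ D
    · simp [hi]
    · simp [hi]
  have hsecond : Tendsto (fun D : Finset ι =>
      ((∑' i, if i ∈ D then (0 : ℝ) else (θ i : ℝ) * (h i : ℝ)) / ((D \ hfin.toFinset).card : ℝ)) *
            ∑ i ∈ D \ hfin.toFinset, ((h' i : ℝ) / (h i : ℝ))) atTop (nhds 0) := by
    refine squeeze_zero_norm ?_ (tendsto_zero_iff_abs_tendsto_zero _ |>.mp hS)
    intro D
    show _ ≤ |∑' i, if i ∈ D then (0 : ℝ) else (θ i : ℝ) * (h i : ℝ)|
    obtain ⟨S, hSdef⟩ : ∃ S : ℝ, S = ∑' i, if i ∈ D then (0 : ℝ) else (θ i : ℝ) * (h i : ℝ) := ⟨_, rfl⟩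
    obtain ⟨E, hEdef⟩ : ∃ E : Finset ι, E = D \ hfin.toFinset := ⟨_, rfl⟩
    rw [← hSdef, ← hEdef]
    have hT0 : 0 ≤ ∑ i ∈ E, ((h' i : ℝ) / (h i : ℝ)) := Finset.sum_nonneg (fun i _ => by positivity)
    have hT1 : ∑ i ∈ E, ((h' i : ℝ) / (h i : ℝ)) ≤ E.card := by
      have : ∑ i ∈ E, ((h' i : ℝ) / (h i : ℝ)) ≤ ∑ i ∈ E, (1:ℝ) := by
        apply Finset.sum_le_sum
        intro i _
        have : (h' i : ℝ) ≤ (h i : ℝ) := by exact_mod_cast hle i
        exact div_le_one_of_le₀ this (by positivity)
      simpa using this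
    rw [Real.norm_eq_abs, abs_mul, abs_div, abs_of_nonneg hT0, abs_of_nonneg (by positivity : (0:ℝ) ≤ (E.card : ℝ))]
    by_cases hd : (E.card : ℝ) = 0
    · rw [hd]; simp
    · have hdpos : (0:ℝ) < E.card := lt_of_le_of_ne (by positivity) (Ne.symm hd)
      rw [div_mul_eq_mul_div, div_le_iff₀ hdpos]
      exact mul_le_mul_of_nonneg_left hT1 (abs_nonneg _)
  simpa using hfirst.add hsecond

end


/-- Let ι index the irreducible representations, θ : ι → ℚ a weight negative at only finitely many
indices (the finite set D₋), h h' : ι → ℕ with h' ≤ h pointwise (the isotypic dimensions of an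
object and of a sub-object) and Σ_i θ_i h_i summable. For a finite set D of indices put S_D = Σ_{i ∉
D} θ_i h_i, d = #(D ∖ D₋), and θ̃_D = Σ_{i ∈ D} θ_i h'_i + (S_D / d) · Σ_{i ∈ D ∖ D₋} h'_i / h_i,
the modified weight attached to the parameters chosen for D (for D ⊇ D₋ the first sum is the
negative part plus the part over D ∖ D₋). Then θ̃_D tends to Σ_i θ_i h'_i as D grows through the
finite subsets of ι. (Here D runs over all finite sets of indices and a quotient by zero is zero;
the source lets D run over the finite subsets of the locus θ ≠ 0 containing D₋, and the same tail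
estimate gives both.) -/
theorem result {ι : Type u} [DecidableEq ι] (θ : ι → ℚ) (h h' : ι → ℕ)
    (hle : ∀ i, h' i ≤ h i) (hfin : {i | θ i < 0}.Finite)
    (hsum : Summable (fun i => (θ i : ℝ) * (h i : ℝ))) :
    Filter.Tendsto
      (fun D : Finset ι =>
        (∑ i ∈ D, (θ i : ℝ) * (h' i : ℝ)) +
          ((∑' i, if i ∈ D then (0 : ℝ) else (θ i : ℝ) * (h i : ℝ)) / ((D \ hfin.toFinset).card : ℝ)) *
            ∑ i ∈ D \ hfin.toFinset, ((h' i : ℝ) / (h i : ℝ)))
      Filter.atTop (nhds (∑' i, (θ i : ℝ) * (h' i : ℝ))) := by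
  classical
  exact main θ h h' hle hfin hsum

end Groth.Agent.S16017
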