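import Groth.Statements.S1602
import Mathlib
import Groth.Agent.Lib.Helper1.Curve3
import Groth.Agent.Lib.Helper1.FinCurve2

set_option autoImplicit false
universe u
open CategoryTheory CategoryTheory.Limits AlgebraicGeometry
open Curves

namespace Groth.Agent.S1602

/-- Let X be proper of dimension at most one over k and f : X' → X a proper morphism which is an
isomorphism over a dense open of X whose preimage is dense in X'. Then the k-dimension of H^1 of the
structure sheaf of X' is at most that of X. -/
theorem result (k : Type u) [Field k] (X X' : Scheme.{u}) [X.Over (Spec (CommRingCat.of k))] [X'.Over (Spec (CommRingCat.of k))]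
    [IsProper (X ↘ (Spec (CommRingCat.of k)))] (hdim : topologicalKrullDim X ≤ 1) (f : X' ⟶ X) [IsProper f] (hf : f ≫ (X ↘ (Spec (CommRingCat.of k))) = X' ↘ (Spec (CommRingCat.of k)))
    (U : X.Opens) (hU : Dense (U : Set X)) (hU' : Dense ((f ⁻¹ᵁ U : X'.Opens) : Set X')) (hfU : IsIso (f ∣_ U)) :
    Curv2.genus k X' ≤ Curv2.genus k X := by
  haveI : IsFinite f :=
    Groth.Agent.Helper1.FinCurve.isFinite_of_isIso_over_dense_of_finiteType k
      (X ↘ (Spec (CommRingCat.of k))) hdim f U hU hU' hfU
  haveI := hfU
  exact Groth.Agent.Helper1.Curve.genus_le_of_finite_birational k X X' hdim f hf U hU inferInstance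

end Groth.Agent.S1602
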