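import Groth.Statements.S16030
-- import your own Groth.Agent.* helpers here

set_option autoImplicit false
universe u
open CAlg

namespace Groth.Agent.S16030

/-- For a finite set F of points of the spectrum of a commutative ring A and an open subset U containing
F, some basic open D(a) contains F and is contained in U. -/
theorem result
    (A : Type u) [CommRing A] (F : Set (PrimeSpectrum A)) (hF : F.Finite)
    (U : TopologicalSpace.Opens (PrimeSpectrum A)) (hFU : F ⊆ (U : Set (PrimeSpectrum A))) :
    ∃ a : A, F ⊆ (PrimeSpectrum.basicOpen a : Set (PrimeSpectrum A)) ∧ PrimeSpectrum.basicOpen a ≤ U := by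
  classical
  obtain ⟨I, hI⟩ : ∃ I : Ideal A, (U : Set (PrimeSpectrum A))ᶜ = PrimeSpectrum.zeroLocus (I : Set A) := by
    obtain ⟨s, hs⟩ := (PrimeSpectrum.isClosed_iff_zeroLocus _).mp U.isOpen.isClosed_compl
    exact ⟨Ideal.span s, by rw [PrimeSpectrum.zeroLocus_span]; exact hs⟩
  rcases isEmpty_or_nonempty (PrimeSpectrum A) with hemp | hne
  · refine ⟨0, fun p _ => (hemp.false p).elim, fun p _ => (hemp.false p).elim⟩
  have hnot : ¬ ((I : Set A) ⊆ ⋃ i ∈ (↑hF.toFinset : Set (PrimeSpectrum A)), (i.asIdeal : Set A)) := by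
    intro hsub
    obtain ⟨p, hp, hIp⟩ := (Ideal.subset_union_prime (f := fun p : PrimeSpectrum A => p.asIdeal)
      (s := hF.toFinset) (Classical.arbitrary _) (Classical.arbitrary _) (fun i _ _ _ => i.isPrime)).mp hsub
    have hpF : p ∈ F := by simpa using hp
    have : p ∈ (U : Set (PrimeSpectrum A))ᶜ := by
      rw [hI]; exact hIp
    exact this (hFU hpF)
  rw [Set.not_subset] at hnot
  obtain ⟨a, haI, ha⟩ := hnot
  refine ⟨a, fun p hp => ?_, fun p hp => ?_⟩
  · simp only [Set.mem_iUnion, not_exists] at ha
    have := ha p (by simpa using hp)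
    simpa using this
  · by_contra hpU
    have : p ∈ (U : Set (PrimeSpectrum A))ᶜ := hpU
    rw [hI] at this
    exact hp (this haI)

end Groth.Agent.S16030
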