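import Groth.Statements.S16031
import Mathlib
import Groth.Agent.Lib.Helper9.PO.FinAff
import Groth.Agent.Lib.Helper9.PO.JointPO
-- import your own Groth.Agent.* helpers here

set_option autoImplicit false
universe u
open CategoryTheory CategoryTheory.Limits AlgebraicGeometry
open FlatMor

namespace Groth.Agent.S16031

open CategoryTheory CategoryTheory.Limits AlgebraicGeometry TopologicalSpace
namespace Aux

open H9PO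

theorem main
    {Y X₁ X₂ X : Scheme.{u}} (θ₁ : Y ⟶ X₁) (θ₂ : Y ⟶ X₂) [IsClosedImmersion θ₁] [IsClosedImmersion θ₂]
    (φ₁ : X₁ ⟶ X) (φ₂ : X₂ ⟶ X) (hX : IsPushout θ₁ θ₂ φ₁ φ₂)
    (E : Set ↥X) (hE : E.Finite)
    (h₁ : ∃ U₁ : X₁.Opens, IsAffineOpen U₁ ∧ φ₁ ⁻¹' E ⊆ (U₁ : Set ↥X₁))
    (h₂ : ∃ U₂ : X₂.Opens, IsAffineOpen U₂ ∧ φ₂ ⁻¹' E ⊆ (U₂ : Set ↥X₂)) :
    ∃ U : X.Opens, IsAffineOpen U ∧ E ⊆ (U : Set ↥X) := by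
  obtain ⟨U₁, hU₁, hE₁⟩ := h₁
  obtain ⟨U₂, hU₂, hE₂⟩ := h₂
  have H : Covers θ₁ θ₂ := CC.covers θ₁ θ₂
  obtain ⟨hpb, hclb, -, -, hcla, -, -⟩ := H.structure_of_isPushout hX
  haveI : IsClosedImmersion φ₂ := hclb
  haveI : IsClosedImmersion φ₁ := hcla inferInstance
  have hφ₁inj : Function.Injective φ₁ := φ₁.isClosedEmbedding.injective
  have hφ₂inj : Function.Injective φ₂ := φ₂.isClosedEmbedding.injective
  have hθ₁inj : Function.Injective θ₁ := θ₁.isClosedEmbedding.injective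
  have hE₁fin : (φ₁ ⁻¹' E).Finite := hE.preimage hφ₁inj.injOn
  have hE₂fin : (φ₂ ⁻¹' E).Finite := hE.preimage hφ₂inj.injOn
  have hcomm : ∀ z : Y, φ₁ (θ₁ z) = φ₂ (θ₂ z) := fun z => congr($(hX.w) z)
  -- the finite subset of `Y`
  set F : Set Y := θ₁ ⁻¹' (φ₁ ⁻¹' E) with hFdef
  have hFfin : F.Finite := hE₁fin.preimage hθ₁inj.injOn
  have hA : IsAffineOpen (θ₁ ⁻¹ᵁ U₁) := hU₁.preimage θ₁
  have hB : IsAffineOpen (θ₂ ⁻¹ᵁ U₂) := hU₂.preimage θ₂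
  have hFA : F ⊆ ((θ₁ ⁻¹ᵁ U₁ : Y.Opens) : Set Y) := fun z hz => hE₁ hz
  have hFB : F ⊆ ((θ₂ ⁻¹ᵁ U₂ : Y.Opens) : Set Y) := by
    intro z hz
    apply hE₂
    change φ₂ (θ₂ z) ∈ E
    rw [← hcomm]
    exact hz
  obtain ⟨t₁, t₂, e, hFt⟩ := FinAff.exists_basicOpen_eq hA hB F hFfin hFA hFB
  -- lifts
  obtain ⟨s₁, hs₁, hG₁⟩ := FinAff.exists_lift θ₁ hU₁ t₁ ((φ₁ ⁻¹' E) \ Set.range θ₁)
    (hE₁fin.subset Set.diff_subset) (fun x hx => hE₁ hx.1) (fun x hx => hx.2)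
  obtain ⟨s₂, hs₂, hG₂⟩ := FinAff.exists_lift θ₂ hU₂ t₂ ((φ₂ ⁻¹' E) \ Set.range θ₂)
    (hE₂fin.subset Set.diff_subset) (fun x hx => hE₂ hx.1) (fun x hx => hx.2)
  have e₁ : θ₁ ⁻¹ᵁ X₁.basicOpen s₁ = Y.basicOpen t₁ := by
    rw [Scheme.preimage_basicOpen]
    exact congrArg _ hs₁
  have e₂ : θ₂ ⁻¹ᵁ X₂.basicOpen s₂ = Y.basicOpen t₂ := by
    rw [Scheme.preimage_basicOpen]
    exact congrArg _ hs₂
  let c : Chart θ₁ θ₂ := ⟨⟨X₁.basicOpen s₁, X₂.basicOpen s₂, e₁.trans (e.trans e₂.symm)⟩,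
    hU₁.basicOpen _, hU₂.basicOpen _⟩
  have hcU : φ₁ ⁻¹' E ⊆ (c.U : Set X₁) := by
    intro x hx
    by_cases hxr : x ∈ Set.range θ₁
    · obtain ⟨z, rfl⟩ := hxr
      change z ∈ θ₁ ⁻¹ᵁ X₁.basicOpen s₁
      rw [e₁]
      exact hFt hx
    · exact hG₁ ⟨hx, hxr⟩
  have hcV : φ₂ ⁻¹' E ⊆ (c.V : Set X₂) := by
    intro x hx
    by_cases hxr : x ∈ Set.range θ₂
    · obtain ⟨z, rfl⟩ := hxr
      change z ∈ θ₂ ⁻¹ᵁ X₂.basicOpen s₂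
      rw [e₂, ← e]
      apply hFt
      change φ₁ (θ₁ z) ∈ E
      rw [hcomm]
      exact hx
    · exact hG₂ ⟨hx, hxr⟩
  obtain ⟨ε, hεa, hεb⟩ := H.exists_iso hX
  refine ⟨(c.ι ≫ ε.hom).opensRange, isAffineOpen_opensRange _, ?_⟩
  intro p hp
  rcases H.jointly_surjective_of_isPushout hX p with ⟨x, rfl⟩ | ⟨y, rfl⟩
  · have hx : x ∈ c.U := hcU hp
    rw [← H.a_preimage c] at hx
    obtain ⟨s, hs⟩ := hx
    refine ⟨s, ?_⟩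
    rw [← hεa]
    change ε.hom (c.ι s) = ε.hom (H.a x)
    rw [hs]
  · have hy : y ∈ c.V := hcV hp
    rw [← H.b_preimage c] at hy
    obtain ⟨s, hs⟩ := hy
    refine ⟨s, ?_⟩
    rw [← hεb]
    change ε.hom (c.ι s) = ε.hom (H.b y)
    rw [hs]

end Aux

/-- Let θ₁ : Y ⟶ X₁ and θ₂ : Y ⟶ X₂ be closed immersions of schemes and let X, with φ₁ : X₁ ⟶ X and φ₂ :
X₂ ⟶ X, be their pushout in the category of schemes. If a finite set E of points of X has each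
preimage φᵢ⁻¹(E) contained in an affine open of Xᵢ, then E is contained in an affine open of X. -/
theorem result
    {Y X₁ X₂ X : Scheme.{u}} (θ₁ : Y ⟶ X₁) (θ₂ : Y ⟶ X₂) [IsClosedImmersion θ₁] [IsClosedImmersion θ₂]
    (φ₁ : X₁ ⟶ X) (φ₂ : X₂ ⟶ X) (hX : IsPushout θ₁ θ₂ φ₁ φ₂)
    (E : Set ↥X) (hE : E.Finite)
    (h₁ : ∃ U₁ : X₁.Opens, IsAffineOpen U₁ ∧ φ₁ ⁻¹' E ⊆ (U₁ : Set ↥X₁))
    (h₂ : ∃ U₂ : X₂.Opens, IsAffineOpen U₂ ∧ φ₂ ⁻¹' E ⊆ (U₂ : Set ↥X₂)) :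
    ∃ U : X.Opens, IsAffineOpen U ∧ E ⊆ (U : Set ↥X) := by
  exact Aux.main θ₁ θ₂ φ₁ φ₂ hX E hE h₁ h₂

end Groth.Agent.S16031
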