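import Groth.Statements.S16045
import Mathlib
import Groth.Agent.Lib.Helper9.PO.BCGeo
import Groth.Agent.Lib.Helper9.PO.PBMap
import Groth.Agent.Lib.Helper9.PO.CC
-- import your own Groth.Agent.* helpers here

set_option autoImplicit false
universe u
open CategoryTheory CategoryTheory.Limits AlgebraicGeometry
open FlatMor

namespace Groth.Agent.S16045

open CategoryTheory CategoryTheory.Limits AlgebraicGeometry
namespace Aux

open H9PO

theorem main
    {S S' : Scheme.{u}} (g : S' ⟶ S) [Flat g]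
    {Y X₁ X₂ X : Over S} (θ₁ : Y ⟶ X₁) (θ₂ : Y ⟶ X₂) [IsClosedImmersion θ₁.left] [IsClosedImmersion θ₂.left]
    (φ₁ : X₁ ⟶ X) (φ₂ : X₂ ⟶ X) (hX : IsPushout θ₁ θ₂ φ₁ φ₂) :
    IsPushout ((Over.pullback g).map θ₁) ((Over.pullback g).map θ₂)
      ((Over.pullback g).map φ₁) ((Over.pullback g).map φ₂) := by
  have hX' : IsPushout θ₁.left θ₂.left φ₁.left φ₂.left := hX.map (Over.forget S)
  have H : Covers θ₁.left θ₂.left := CC.covers θ₁.left θ₂.left
  obtain ⟨-, hclb, -, -, hcla, -, -⟩ := H.structure_of_isPushout hX'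
  haveI : IsClosedImmersion φ₂.left := hclb
  haveI : IsClosedImmersion φ₁.left := hcla inferInstance
  have key : IsPushout ((Over.pullback g).map θ₁).left ((Over.pullback g).map θ₂).left
      ((Over.pullback g).map φ₁).left ((Over.pullback g).map φ₂).left := by
    refine BCGeo.isPushout_baseChange θ₁.left θ₂.left φ₁.left φ₂.left hX' X.hom g
      (pullback.fst X.hom g) (pullback.snd X.hom g) (IsPullback.of_hasPullback X.hom g)
      (pullback.fst X₁.hom g) _ (PBMap.isPullback_lift X₁.hom X.hom g φ₁.left (Over.w φ₁) _)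
      (pullback.fst X₂.hom g) _ (PBMap.isPullback_lift X₂.hom X.hom g φ₂.left (Over.w φ₂) _)
      (pullback.fst Y.hom g) _ (PBMap.isPullback_lift Y.hom X₁.hom g θ₁.left (Over.w θ₁) _)
      ((Over.pullback g).map θ₂).left ?_ ?_ (Or.inl inferInstance)
    · exact pullback.lift_fst _ _ _
    · have h1 : (Over.pullback g).map θ₁ ≫ (Over.pullback g).map φ₁ =
          (Over.pullback g).map θ₂ ≫ (Over.pullback g).map φ₂ := by
        rw [← Functor.map_comp, ← Functor.map_comp, hX.w]
      exact congrArg (fun t => t.left) h1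
  refine IsPushout.of_map (Over.forget S') ?_ key
  rw [← Functor.map_comp, ← Functor.map_comp, hX.w]

end Aux

/-- Let θ₁ : Y ⟶ X₁ and θ₂ : Y ⟶ X₂ be closed immersions of schemes over S and X their pushout in
schemes over S. For a flat morphism g : S' ⟶ S, the square obtained by base change along g is a
pushout in schemes over S': pinching along a closed subscheme commutes with flat base change. -/
theorem result
    {S S' : Scheme.{u}} (g : S' ⟶ S) [Flat g]
    {Y X₁ X₂ X : Over S} (θ₁ : Y ⟶ X₁) (θ₂ : Y ⟶ X₂) [IsClosedImmersion θ₁.left] [IsClosedImmersion θ₂.left]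
    (φ₁ : X₁ ⟶ X) (φ₂ : X₂ ⟶ X) (hX : IsPushout θ₁ θ₂ φ₁ φ₂) :
    IsPushout ((Over.pullback g).map θ₁) ((Over.pullback g).map θ₂)
      ((Over.pullback g).map φ₁) ((Over.pullback g).map φ₂) := by
  exact Aux.main g θ₁ θ₂ φ₁ φ₂ hX

end Groth.Agent.S16045
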