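import Groth.Statements.S16051
import Mathlib

set_option autoImplicit false
universe u
open LieAlg

namespace Groth.Agent.S16051

section
open Matrix

variable {O : Type u} [CommRing O]

/-- extension of a matrix to `ℕ × ℕ` by zero -/
def ext {n : ℕ} (y : Matrix (Fin (n + 1)) (Fin (n + 1)) O) (i j : ℕ) : O :=
  if h : i < n + 1 ∧ j < n + 1 then y ⟨i, h.1⟩ ⟨j, h.2⟩ else 0

theorem ext_val {n : ℕ} (y : Matrix (Fin (n + 1)) (Fin (n + 1)) O) (i j : Fin (n + 1)) :
    ext y i.val j.val = y i j := by
  unfold ext
  rw [dif_pos ⟨i.2, j.2⟩]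

theorem ext_lt {n : ℕ} (y : Matrix (Fin (n + 1)) (Fin (n + 1)) O) (i j : ℕ) (hi : i < n + 1)
    (hj : j < n + 1) : ext y i j = y ⟨i, hi⟩ ⟨j, hj⟩ := by
  unfold ext
  rw [dif_pos ⟨hi, hj⟩]

theorem ext_add {n : ℕ} (y y' : Matrix (Fin (n + 1)) (Fin (n + 1)) O) (i j : ℕ) :
    ext (y + y') i j = ext y i j + ext y' i j := by
  unfold ext
  split_ifs <;> simp

theorem ext_smul {n : ℕ} (c : O) (y : Matrix (Fin (n + 1)) (Fin (n + 1)) O) (i j : ℕ) :
    ext (c • y) i j = c * ext y i j := by
  unfold ext
  split_ifs <;> simp

theorem comm_apply {n : ℕ} (x z : Matrix (Fin (n + 1)) (Fin (n + 1)) O)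
    (hx : ∀ i j : Fin (n + 1), x i j = if j.val = i.val + 1 ∧ j.val < n then 1 else 0)
    (i j : Fin (n + 1)) :
    (x * z - z * x) i j = (if i.val + 1 < n then ext z (i.val + 1) j.val else 0)
      - (if 1 ≤ j.val ∧ j.val < n then ext z i.val (j.val - 1) else 0) := by
  rw [Matrix.sub_apply, Matrix.mul_apply, Matrix.mul_apply]
  congr 1
  · split_ifs with h
    · rw [Finset.sum_eq_single (⟨i.val + 1, by omega⟩ : Fin (n + 1))]
      · rw [hx, if_pos ⟨rfl, h⟩, one_mul, ext_lt z _ _ (by omega) j.2]
      · intro l _ hl
        rw [hx, if_neg, zero_mul]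
        intro h1
        apply hl
        apply Fin.ext
        exact h1.1
      · intro h1
        exact absurd (Finset.mem_univ _) h1
    · apply Finset.sum_eq_zero
      intro l _
      rw [hx, if_neg, zero_mul]
      intro h1
      omega
  · split_ifs with h
    · rw [Finset.sum_eq_single (⟨j.val - 1, by omega⟩ : Fin (n + 1))]
      · rw [hx, if_pos, mul_one, ext_lt z _ _ i.2 (by omega)]
        constructor
        · simp only []
          omega
        · exact h.2
      · intro l _ hl
        rw [hx, if_neg, mul_zero]
        intro h1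
        apply hl
        apply Fin.ext
        simp only []
        omega
      · intro h1
        exact absurd (Finset.mem_univ _) h1
    · apply Finset.sum_eq_zero
      intro l _
      rw [hx, if_neg, mul_zero]
      intro h1
      apply h
      omega

/-- the explicit preimage -/
noncomputable def Zf (n : ℕ) (Y : ℕ → ℕ → O) (i j : ℕ) : O :=
  if i < n ∧ j < n then
    (if i ≤ j then ∑ t ∈ Finset.range i, Y t (j - i + 1 + t)
      else ∑ t ∈ Finset.range (j + 1), Y (t + i - j - 1) t)
  else if j = n ∧ 1 ≤ i ∧ i < n then Y (i - 1) n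
  else if i = n ∧ j + 1 < n then - Y n (j + 1)
  else 0

theorem solve (n : ℕ) (hn : 1 ≤ n) (Y : ℕ → ℕ → O)
    (hφ : ∀ e < n, ∑ t ∈ Finset.range (n - e), Y (t + e) t = 0)
    (hβ : Y (n - 1) n = 0) (hγ : Y n 0 = 0) (hδ : Y n n = 0)
    (i j : ℕ) (hi : i < n + 1) (hj : j < n + 1) :
    (if i + 1 < n then Zf n Y (i + 1) j else 0)
      - (if 1 ≤ j ∧ j < n then Zf n Y i (j - 1) else 0) = Y i j := by
  by_cases hjn : j = n
  · subst hjn
    rw [if_neg (by omega : ¬ (1 ≤ j ∧ j < j)), sub_zero]
    by_cases h1 : i + 1 < j
    · rw [if_pos h1]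
      unfold Zf
      rw [if_neg (by omega), if_pos (by omega)]
      simp
    · rw [if_neg h1]
      by_cases hin : i = j
      · subst hin; exact hδ.symm
      · have : i = j - 1 := by omega
        subst this; exact hβ.symm
  · have hjn' : j < n := by omega
    by_cases hin : i = n
    · subst hin
      rw [if_neg (by omega), zero_sub]
      by_cases hj1 : 1 ≤ j
      · rw [if_pos ⟨hj1, hjn'⟩]
        unfold Zf
        rw [if_neg (by omega), if_neg (by omega), if_pos (by omega), neg_neg]
        congr 1
        omega
      · have : j = 0 := by omega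
        subst this
        rw [if_neg (by omega), neg_zero]
        exact hγ.symm
    · have hin' : i < n := by omega
      by_cases hij : i + 1 ≤ j
      · rw [if_pos (by omega), if_pos (by omega)]
        unfold Zf
        rw [if_pos (by omega), if_pos (by omega), if_pos (by omega), if_pos (by omega)]
        rw [Finset.sum_range_succ]
        have e1 : ∀ t, j - (i + 1) + 1 + t = j - 1 - i + 1 + t := by intro t; omega
        simp only [e1]
        have e2 : j - 1 - i + 1 + i = j := by omega
        rw [e2]
        ring
      · -- lower part, j ≤ i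
        by_cases hi1 : i + 1 < n
        · rw [if_pos hi1]
          by_cases hj1 : 1 ≤ j
          · rw [if_pos ⟨hj1, hjn'⟩]
            unfold Zf
            rw [if_pos (by omega), if_neg (by omega), if_pos (by omega), if_neg (by omega)]
            have e0 : j - 1 + 1 = j := by omega
            rw [e0, Finset.sum_range_succ]
            have e1 : ∀ t, t + (i + 1) - j - 1 = t + i - j := by intro t; omega
            have e2 : ∀ t, t + i - (j - 1) - 1 = t + i - j := by intro t; omega
            simp only [e1, e2]
            have e3 : j + i - j = i := by omega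
            rw [e3]
            ring
          · have : j = 0 := by omega
            subst this
            rw [if_neg (by omega), sub_zero]
            unfold Zf
            rw [if_pos (by omega), if_neg (by omega)]
            rw [Finset.sum_range_one]
            congr 1
            omega
        · rw [if_neg hi1, zero_sub]
          have hi2 : i = n - 1 := by omega
          have h := hφ (n - 1 - j) (by omega)
          have e0 : n - (n - 1 - j) = j + 1 := by omega
          rw [e0, Finset.sum_range_succ] at h
          have e3 : j + (n - 1 - j) = i := by omega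
          rw [e3] at h
          by_cases hj1 : 1 ≤ j
          · rw [if_pos ⟨hj1, hjn'⟩]
            unfold Zf
            rw [if_pos (by omega), if_neg (by omega)]
            have e0 : j - 1 + 1 = j := by omega
            rw [e0]
            have e2 : ∀ t, t + i - (j - 1) - 1 = t + (n - 1 - j) := by intro t; omega
            simp only [e2]
            linear_combination (-1 : O) * h
          · have : j = 0 := by omega
            subst this
            rw [if_neg (by omega), neg_zero]
            rw [Finset.sum_range_zero, zero_add] at h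
            exact h.symm

/-- the cokernel functionals -/
noncomputable def Psi (n : ℕ) : Matrix (Fin (n + 1)) (Fin (n + 1)) O →ₗ[O] (Fin n → O) × O × O where
  toFun y := (fun e => ∑ t ∈ Finset.range (n - e.val), ext y (t + e.val) t, ext y (n - 1) n, ext y n 0)
  map_add' y y' := by
    ext e
    · simp [ext_add, Finset.sum_add_distrib]
    · simp [ext_add]
    · simp [ext_add]
  map_smul' c y := by
    ext e
    · simp [ext_smul, Finset.mul_sum]
    · simp [ext_smul]
    · simp [ext_smul]

theorem Psi_comm {n : ℕ} (x z : Matrix (Fin (n + 1)) (Fin (n + 1)) O)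
    (hx : ∀ i j : Fin (n + 1), x i j = if j.val = i.val + 1 ∧ j.val < n then 1 else 0)
    (hn : 1 ≤ n) :
    Psi n (x * z - z * x) = 0 := by
  have hc : ∀ a b (ha : a < n + 1) (hb : b < n + 1), ext (x * z - z * x) a b =
      (if a + 1 < n then ext z (a + 1) b else 0)
      - (if 1 ≤ b ∧ b < n then ext z a (b - 1) else 0) := by
    intro a b ha hb
    rw [ext_lt _ a b ha hb, comm_apply x z hx]
  change ((fun e : Fin n => ∑ t ∈ Finset.range (n - e.val), ext (x * z - z * x) (t + e.val) t),
    ext (x * z - z * x) (n - 1) n, ext (x * z - z * x) n 0) = 0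
  refine Prod.ext ?_ (Prod.ext ?_ ?_)
  · funext e
    change ∑ t ∈ Finset.range (n - e.val), ext (x * z - z * x) (t + e.val) t = 0
    let G : ℕ → O := fun t => if 1 ≤ t ∧ t + e.val < n then ext z (t + e.val) (t - 1) else 0
    have hsum : ∀ t ∈ Finset.range (n - e.val),
        ext (x * z - z * x) (t + e.val) t = G (t + 1) - G t := by
      intro t ht
      have ht' := Finset.mem_range.mp ht
      rw [hc _ _ (by omega) (by omega)]
      change _ = (if 1 ≤ t + 1 ∧ t + 1 + e.val < n then ext z (t + 1 + e.val) (t + 1 - 1) else 0)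
        - (if 1 ≤ t ∧ t + e.val < n then ext z (t + e.val) (t - 1) else 0)
      congr 1
      · by_cases h : t + e.val + 1 < n
        · rw [if_pos h, if_pos (by omega)]
          congr 1
          omega
        · rw [if_neg h, if_neg (by omega)]
      · by_cases h : 1 ≤ t
        · rw [if_pos (by omega), if_pos (by omega)]
        · rw [if_neg (by omega), if_neg (by omega)]
    rw [Finset.sum_congr rfl hsum, Finset.sum_range_sub]
    have hG0 : G 0 = 0 := by
      change (if 1 ≤ 0 ∧ 0 + e.val < n then _ else 0) = 0
      rw [if_neg (by omega)]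
    have hGn : G (n - e.val) = 0 := by
      change (if 1 ≤ n - e.val ∧ n - e.val + e.val < n then _ else 0) = 0
      rw [if_neg (by omega)]
    rw [hG0, hGn, sub_zero]
  · change ext (x * z - z * x) (n - 1) n = 0
    rw [hc _ _ (by omega) (by omega), if_neg (by omega), if_neg (by omega), sub_zero]
  · change ext (x * z - z * x) n 0 = 0
    rw [hc _ _ (by omega) (by omega), if_neg (by omega), if_neg (by omega), sub_zero]


/-- the matrix z -/
noncomputable def zmat (n : ℕ) (Y : ℕ → ℕ → O) : Matrix (Fin (n + 1)) (Fin (n + 1)) O :=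
  Matrix.of fun i j => if i.val = n ∧ j.val = n then - ∑ t ∈ Finset.range n, Zf n Y t t
    else Zf n Y i.val j.val

theorem zmat_trace (n : ℕ) (Y : ℕ → ℕ → O) : (zmat n Y).trace = 0 := by
  have h0 : (zmat n Y).trace = ∑ i : Fin (n + 1),
      (fun t : ℕ => if t = n ∧ t = n then - ∑ t ∈ Finset.range n, Zf n Y t t else Zf n Y t t) i.val :=
    rfl
  rw [h0, Fin.sum_univ_eq_sum_range (fun t : ℕ => if t = n ∧ t = n then
    - ∑ t ∈ Finset.range n, Zf n Y t t else Zf n Y t t) (n + 1),
    Finset.sum_range_succ, if_pos ⟨rfl, rfl⟩]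
  rw [Finset.sum_congr rfl (fun t ht => if_neg (by have := Finset.mem_range.mp ht; omega))]
  ring

theorem ext_zmat (n : ℕ) (Y : ℕ → ℕ → O) (a b : ℕ) (ha : a < n + 1) (hb : b < n + 1)
    (hab : ¬ (a = n ∧ b = n)) : ext (zmat n Y) a b = Zf n Y a b := by
  rw [ext_lt _ a b ha hb]
  change (if a = n ∧ b = n then _ else _) = _
  rw [if_neg hab]

theorem ker_sub (n : ℕ) (hn : 1 ≤ n) (x y : Matrix (Fin (n + 1)) (Fin (n + 1)) O)
    (hx : ∀ i j : Fin (n + 1), x i j = if j.val = i.val + 1 ∧ j.val < n then 1 else 0)
    (hy : Psi n y = 0) (hδ : ext y n n = 0) :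
    x * zmat n (ext y) - zmat n (ext y) * x = y := by
  have hφ : ∀ e < n, ∑ t ∈ Finset.range (n - e), ext y (t + e) t = 0 := by
    intro e he
    exact congrFun (congrArg Prod.fst hy) ⟨e, he⟩
  have hβ : ext y (n - 1) n = 0 := congrArg (fun v => v.2.1) hy
  have hγ : ext y n 0 = 0 := congrArg (fun v => v.2.2) hy
  ext i j
  rw [comm_apply x _ hx]
  have h1 : (if i.val + 1 < n then ext (zmat n (ext y)) (i.val + 1) j.val else 0)
      = (if i.val + 1 < n then Zf n (ext y) (i.val + 1) j.val else 0) := by
    split_ifs with h
    · exact ext_zmat n _ _ _ (by omega) j.2 (by omega)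
    · rfl
  have h2 : (if 1 ≤ j.val ∧ j.val < n then ext (zmat n (ext y)) i.val (j.val - 1) else 0)
      = (if 1 ≤ j.val ∧ j.val < n then Zf n (ext y) i.val (j.val - 1) else 0) := by
    split_ifs with h
    · exact ext_zmat n _ _ _ i.2 (by omega) (by omega)
    · rfl
  rw [h1, h2, solve n hn (ext y) hφ hβ hγ hδ i.val j.val i.2 j.2, ext_val]

theorem Psi_surj (n : ℕ) (hn : 1 ≤ n) (v : (Fin n → O) × O × O) :
    ∃ y : Matrix (Fin (n + 1)) (Fin (n + 1)) O, y.trace = 0 ∧ Psi n y = v := by
  obtain ⟨f, b, c⟩ := v
  let fN : ℕ → O := fun i => if h : i < n then f ⟨i, h⟩ else 0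
  let YY : ℕ → ℕ → O := fun a b' =>
    if b' = 0 ∧ a < n then fN a
    else if a = n - 1 ∧ b' = n then b
    else if a = n ∧ b' = 0 then c
    else if a = n ∧ b' = n then - fN 0
    else 0
  let y : Matrix (Fin (n + 1)) (Fin (n + 1)) O := Matrix.of fun i j => YY i.val j.val
  have hext : ∀ a b', a < n + 1 → b' < n + 1 → ext y a b' = YY a b' := by
    intro a b' ha hb
    rw [ext_lt y a b' ha hb]
    rfl
  refine ⟨y, ?_, ?_⟩
  · have h0 : y.trace = ∑ i : Fin (n + 1), (fun t : ℕ => YY t t) i.val := rfl
    rw [h0, Fin.sum_univ_eq_sum_range (fun t : ℕ => YY t t) (n + 1), Finset.sum_range_succ]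
    rw [Finset.sum_eq_single 0]
    · change (if (0 : ℕ) = 0 ∧ 0 < n then fN 0 else _) + (if n = 0 ∧ n < n then fN n
        else if n = n - 1 ∧ n = n then b
        else if n = n ∧ n = 0 then c
        else if n = n ∧ n = n then - fN 0
        else 0) = 0
      rw [if_pos ⟨rfl, by omega⟩, if_neg (by omega), if_neg (by omega), if_neg (by omega),
        if_pos ⟨rfl, rfl⟩]
      ring
    · intro t ht ht0
      have ht' := Finset.mem_range.mp ht
      change (if t = 0 ∧ t < n then fN t
        else if t = n - 1 ∧ t = n then b
        else if t = n ∧ t = 0 then c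
        else if t = n ∧ t = n then - fN 0
        else 0) = 0
      rw [if_neg (by omega), if_neg (by omega), if_neg (by omega), if_neg (by omega)]
    · intro h
      exact absurd (Finset.mem_range.mpr (by omega)) h
  · change ((fun e : Fin n => ∑ t ∈ Finset.range (n - e.val), ext y (t + e.val) t),
      ext y (n - 1) n, ext y n 0) = (f, b, c)
    refine Prod.ext ?_ (Prod.ext ?_ ?_)
    · funext e
      change ∑ t ∈ Finset.range (n - e.val), ext y (t + e.val) t = f e
      have he := e.2
      rw [Finset.sum_eq_single 0]
      · rw [hext _ _ (by omega) (by omega)]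
        change (if (0 : ℕ) = 0 ∧ 0 + e.val < n then fN (0 + e.val) else _) = f e
        rw [if_pos ⟨rfl, by omega⟩]
        change (if h : 0 + e.val < n then f ⟨0 + e.val, h⟩ else 0) = f e
        rw [dif_pos (by omega)]
        congr 1
        apply Fin.ext
        simp
      · intro t ht ht0
        have ht' := Finset.mem_range.mp ht
        rw [hext _ _ (by omega) (by omega)]
        change (if t = 0 ∧ t + e.val < n then fN (t + e.val)
          else if t + e.val = n - 1 ∧ t = n then b
          else if t + e.val = n ∧ t = 0 then c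
          else if t + e.val = n ∧ t = n then - fN 0
          else 0) = 0
        rw [if_neg (by omega), if_neg (by omega), if_neg (by omega), if_neg (by omega)]
      · intro h
        exact absurd (Finset.mem_range.mpr (by omega)) h
    · change ext y (n - 1) n = b
      rw [hext _ _ (by omega) (by omega)]
      change (if n = 0 ∧ n - 1 < n then fN (n - 1)
          else if n - 1 = n - 1 ∧ n = n then b
          else _) = b
      rw [if_neg (by omega), if_pos ⟨rfl, rfl⟩]
    · change ext y n 0 = c
      rw [hext _ _ (by omega) (by omega)]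
      change (if (0 : ℕ) = 0 ∧ n < n then fN n
          else if n = n - 1 ∧ 0 = n then b
          else if n = n ∧ (0 : ℕ) = 0 then c
          else _) = c
      rw [if_neg (by omega), if_neg (by omega), if_pos ⟨rfl, rfl⟩]

theorem main (O : Type u) [CommRing O] [IsDomain O]
    (n : ℕ) (hn : 1 ≤ n)
    (x : LieAlgebra.SpecialLinear.sl (Fin (n + 1)) O)
    (hx : ∀ i j : Fin (n + 1), (x : Matrix (Fin (n + 1)) (Fin (n + 1)) O) i j =
      if j.val = i.val + 1 ∧ j.val < n then 1 else 0) :
    Module.Free O (LieAlgebra.SpecialLinear.sl (Fin (n + 1)) O ⧸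
        LinearMap.range (LieAlgebra.ad O (LieAlgebra.SpecialLinear.sl (Fin (n + 1)) O) x)) ∧
      Module.finrank O (LieAlgebra.SpecialLinear.sl (Fin (n + 1)) O ⧸
        LinearMap.range (LieAlgebra.ad O (LieAlgebra.SpecialLinear.sl (Fin (n + 1)) O) x)) = n + 2 := by
  let PsiSl : LieAlgebra.SpecialLinear.sl (Fin (n + 1)) O →ₗ[O] (Fin n → O) × O × O :=
    { toFun := fun y => Psi n y.val
      map_add' := fun a b => (Psi n).map_add a.val b.val
      map_smul' := fun c a => (Psi n).map_smul c a.val }
  have htr : ∀ y : LieAlgebra.SpecialLinear.sl (Fin (n + 1)) O, Matrix.trace y.val = 0 := by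
    intro y
    exact y.2
  have hker : LinearMap.ker PsiSl =
      LinearMap.range (LieAlgebra.ad O (LieAlgebra.SpecialLinear.sl (Fin (n + 1)) O) x) := by
    ext y
    rw [LinearMap.mem_ker, LinearMap.mem_range]
    constructor
    · intro hy
      have hy' : Psi n y.val = 0 := hy
      have hφ0 : ∑ t ∈ Finset.range (n - 0), ext y.val (t + 0) t = 0 :=
        congrFun (congrArg Prod.fst hy') ⟨0, by omega⟩
      have hδ : ext y.val n n = 0 := by
        have h1 := htr y
        have h0 : y.val.trace = ∑ i : Fin (n + 1), (fun t : ℕ => ext y.val t t) i.val := by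
          change ∑ i : Fin (n + 1), y.val i i = _
          refine Finset.sum_congr rfl (fun i _ => ?_)
          exact (ext_val y.val i i).symm
        rw [h0, Fin.sum_univ_eq_sum_range (fun t : ℕ => ext y.val t t) (n + 1),
          Finset.sum_range_succ] at h1
        simp only [Nat.sub_zero, Nat.add_zero] at hφ0
        rw [hφ0, zero_add] at h1
        exact h1
      have hz := ker_sub n hn x.val y.val hx hy' hδ
      refine ⟨⟨zmat n (ext y.val), ?_⟩, ?_⟩
      · exact zmat_trace n _
      · apply Subtype.ext
        exact hz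
    · rintro ⟨z, rfl⟩
      change Psi n (x.val * z.val - z.val * x.val) = 0
      exact Psi_comm x.val z.val hx hn
  have hsurj : Function.Surjective PsiSl := by
    intro v
    obtain ⟨y, hy0, hyv⟩ := Psi_surj n hn v
    exact ⟨⟨y, hy0⟩, hyv⟩
  let e : (LieAlgebra.SpecialLinear.sl (Fin (n + 1)) O ⧸
        LinearMap.range (LieAlgebra.ad O (LieAlgebra.SpecialLinear.sl (Fin (n + 1)) O) x))
      ≃ₗ[O] (Fin n → O) × O × O :=
    (Submodule.quotEquivOfEq _ _ hker.symm).trans (PsiSl.quotKerEquivOfSurjective hsurj)
  refine ⟨Module.Free.of_equiv e.symm, ?_⟩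
  rw [e.finrank_eq, Module.finrank_prod, Module.finrank_prod, Module.finrank_fin_fun,
    Module.finrank_self]


end


/-- Let O be a discrete valuation ring of characteristic zero with residue field of characteristic p,
let 1 ≤ n with n + 1 < p (type A_n with p above the Coxeter number), and let x ∈ sl_{n+1}(O) be the
standard subregular nilpotent element, the matrix with entries x_{i,i+1} = 1 for i + 1 < n and 0
elsewhere (one Jordan block of size n and one of size 1; in the source this is the sum of the root
vectors of the first n − 1 simple roots, completed there to an sl₂-triple). Then the quotient of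
sl_{n+1}(O) by the image of ad_x is a free O-module of rank n + 2. (The source works over a complete
such ring with algebraically closed residue field; completeness and algebraic closedness are not
used for this statement.) -/
theorem result (O : Type u) [CommRing O] [IsDomain O] [IsDiscreteValuationRing O]
    [CharZero O] (p : ℕ) [Fact p.Prime] [CharP (IsLocalRing.ResidueField O) p]
    (n : ℕ) (hn : 1 ≤ n) (hp : n + 1 < p)
    (x : LieAlgebra.SpecialLinear.sl (Fin (n + 1)) O)
    (hx : ∀ i j : Fin (n + 1), (x : Matrix (Fin (n + 1)) (Fin (n + 1)) O) i j =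
      if j.val = i.val + 1 ∧ j.val < n then 1 else 0) :
    Module.Free O (LieAlgebra.SpecialLinear.sl (Fin (n + 1)) O ⧸
        LinearMap.range (LieAlgebra.ad O (LieAlgebra.SpecialLinear.sl (Fin (n + 1)) O) x)) ∧
      Module.finrank O (LieAlgebra.SpecialLinear.sl (Fin (n + 1)) O ⧸
        LinearMap.range (LieAlgebra.ad O (LieAlgebra.SpecialLinear.sl (Fin (n + 1)) O) x)) = n + 2 := by
  classical
  exact main O n hn x hx

end Groth.Agent.S16051
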