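import Groth.Statements.S16058
import Groth.Agent.Lib.Helper6.FiltBl.FBp

set_option autoImplicit false
universe u
open FiltBl

namespace Groth.Agent.S16058

/-- Let A be a Noetherian local ring that is a quotient of a Gorenstein ring, and F a filtration of
ideals on A (F^0 = A ⊇ F^1 ⊇ ⋯, F^i F^j ⊆ F^{i+j}) with every F^n nonzero and ⋂ F^n = 0, whose Rees
algebra R = ⊕_{n ≥ 0} F^n T^n ⊆ A[T] is finitely generated over A and with F^1 of height at least 2.
If the extended Rees algebra R' = ⊕_{n ∈ ℤ} F^n T^n ⊆ A[T, T⁻¹] (F^n = A for n < 0) satisfies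
Serre's condition (S_2), then R satisfies (S_2) as well. (The converse fails. The published
statement is made under the further standing assumption that no nonzero element of R is annihilated
by a power of the ideal generated by its homogeneous elements of positive degree; under the present
hypothesis that assumption holds automatically, since (S_2) for R' forces (S_2) for A, so that F^1,
of height at least 2, contains a nonzerodivisor of A.) -/
theorem result (A : Type u) [CommRing A] [IsNoetherianRing A] [IsLocalRing A]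
    (S : Type u) [CommRing S] [LocCoh.IsGorensteinRing S] (π : S →+* A) (hπ : Function.Surjective π)
    (𝓕 : FiltBl.IdealFiltration A) (hne : ∀ n, 𝓕.F n ≠ ⊥) (hsep : ⨅ n, 𝓕.F n = ⊥)
    (hfg : Algebra.FiniteType A 𝓕.rees) (hht : 2 ≤ (𝓕.F 1).height)
    (h : LocCoh.HasSk 2 𝓕.extRees 𝓕.extRees) : LocCoh.HasSk 2 𝓕.rees 𝓕.rees := by
  open Groth.Agent.Lib.Helper6.FiltBl in
  have hA : LocCoh.HasSk 2 A A := ((hasSk_extRees_iff 𝓕 hfg 1).mp h).2
  rw [hasSk_iff_skAt]
  intro P hP
  have hE : ∀ (Q : Ideal 𝓕.extRees) [Q.IsPrime], SkAt 𝓕.extRees 2 Q :=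
    (hasSk_iff_skAt 𝓕.extRees 2).mp h
  by_cases hirr : ∀ (k : ℕ) (b : A) (hb : b ∈ 𝓕.F (k + 1)), rmono 𝓕 (k + 1) b hb ∈ P
  · by_cases h1 : 1 ≤ (P.comap (algebraMap A 𝓕.rees)).height
    · exact skAt_rees_of_height_pos 𝓕 hfg P hirr hsep hA h hht h1
    · have h0 : (P.comap (algebraMap A 𝓕.rees)).height = 0 :=
        Order.lt_one_iff.mp (not_le.mp h1)
      have : (P.comap (algebraMap A 𝓕.rees)).IsPrime := Ideal.comap_isPrime _ _
      have hmin := Ideal.height_eq_zero_iff.mp h0
      have hF : ¬ 𝓕.F 1 ≤ P.comap (algebraMap A 𝓕.rees) := by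
        intro hle
        have h2 := le_trans hht (Ideal.height_mono hle)
        rw [h0] at h2
        exact absurd h2 (by norm_num)
      obtain ⟨a, haF, ha𝔭⟩ := SetLike.not_le_iff_exists.mp hF
      exact skAt_rees_of_minimal 𝓕 hfg P hirr hmin a haF ha𝔭 2
  · push Not at hirr
    obtain ⟨k, b, hb, hPb⟩ := hirr
    exact skAt_rees_of_notMem 2 hE P k b hb hPb

end Groth.Agent.S16058
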