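import Groth.Statements.S16071
import Mathlib
import Groth.Agent.Lib.Lead.AlphaPL

set_option autoImplicit false
universe u
open CartDual

namespace Groth.Agent.S16071

open TensorProduct Groth.Agent.Lead

section
variable (p : ℕ) [hp : Fact p.Prime] (R : Type u) [CommRing R] [CharP R p]

noncomputable def d1 [Nontrivial R] : CartDual.D R (AlphaP.A p R) :=
  WithConv.toConv ((AlphaP.basis p R).coord ⟨1, hp.out.one_lt⟩)

omit [CharP R p] in
theorem d1_x_pow [Nontrivial R] (k : ℕ) (hk : k < p) :
    d1 p R (AlphaP.x p R ^ k) = if k = 1 then 1 else 0 := by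
  have := AlphaPL.coord_x_pow p R ⟨1, hp.out.one_lt⟩ k hk
  exact this

omit [CharP R p] in
theorem d1_x_pow' [Nontrivial R] (k : ℕ) :
    d1 p R (AlphaP.x p R ^ k) = if k = 1 then 1 else 0 := by
  by_cases hk : k < p
  · exact d1_x_pow p R k hk
  · rw [AlphaP.x_pow_of_le p R (by omega), map_zero]
    have : k ≠ 1 := by
      have := hp.out.one_lt
      omega
    rw [if_neg this]

theorem conv_apply_x_pow
    (y z : CartDual.D R (AlphaP.A p R)) (k : ℕ) :
    (y * z) (AlphaP.x p R ^ k) =
      ∑ a ∈ Finset.range (k + 1), ((k.choose a : ℕ) : R) * (y (AlphaP.x p R ^ a) * z (AlphaP.x p R ^ (k - a))) := by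
  rw [LinearMap.convMul_apply, AlphaPL.comul_x_pow, map_sum, map_sum]
  apply Finset.sum_congr rfl
  intro a _
  rw [map_smul, map_smul, TensorProduct.map_tmul, LinearMap.mul'_apply, smul_eq_mul]

theorem filt
    (y : CartDual.D R (AlphaP.A p R)) (hy : y 1 = 0) :
    ∀ n k : ℕ, k < n → (y ^ n) (AlphaP.x p R ^ k) = 0 := by
  intro n
  induction n with
  | zero => intro k hk; omega
  | succ n ih =>
    intro k hk
    rw [pow_succ, conv_apply_x_pow]
    apply Finset.sum_eq_zero
    intro a ha
    rw [Finset.mem_range] at ha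
    by_cases han : a < n
    · rw [ih a han, zero_mul, mul_zero]
    · have hka : k - a = 0 := by omega
      rw [hka, pow_zero, hy, mul_zero, mul_zero]

theorem pow_p_eq_zero
    (y : CartDual.D R (AlphaP.A p R)) (hy : y 1 = 0) : y ^ p = 0 := by
  have : Nontrivial R := AlphaPL.nontrivial_of_charP p R
  apply WithConv.ofConv_injective
  apply (AlphaP.basis p R).ext
  intro k
  rw [AlphaP.basis_apply]
  have := filt p R y hy p k k.2
  exact this

theorem d1_pow_p [Nontrivial R] : d1 p R ^ p = 0 := by
  apply pow_p_eq_zero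
  have := d1_x_pow p R 0 hp.out.pos
  rw [pow_zero] at this
  rw [this, if_neg (by omega)]

/-- values of the powers of `d1` -/
theorem d1_pow_apply [Nontrivial R] (k j : ℕ) :
    (d1 p R ^ k) (AlphaP.x p R ^ j) = if j = k ∧ j < p then ((k.factorial : ℕ) : R) else 0 := by
  induction k generalizing j with
  | zero =>
    rw [pow_zero, LinearMap.convOne_apply, Algebra.algebraMap_self, RingHom.id_apply,
      ← Bialgebra.counitAlgHom_apply, map_pow, Bialgebra.counitAlgHom_apply, AlphaP.counit_x]
    by_cases hj : j = 0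
    · subst hj
      rw [pow_zero, if_pos ⟨rfl, hp.out.pos⟩, Nat.factorial_zero, Nat.cast_one]
    · rw [zero_pow hj, if_neg (fun h => hj h.1)]
  | succ k ih =>
    by_cases hj : j < p
    · rw [pow_succ, conv_apply_x_pow]
      simp_rw [ih, d1_x_pow']
      by_cases hjk : j = k + 1
      · subst hjk
        rw [Finset.sum_eq_single k]
        · have hk : k < p := by omega
          rw [if_pos ⟨rfl, hk⟩, if_pos (by omega), if_pos ⟨rfl, hj⟩, mul_one, Nat.choose_succ_self_right,
            Nat.factorial_succ, Nat.cast_mul]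
        · intro a _ hak
          rw [if_neg (fun h => hak h.1), zero_mul, mul_zero]
        · intro h
          exfalso
          apply h
          rw [Finset.mem_range]
          omega
      · rw [if_neg (fun h => hjk h.1)]
        apply Finset.sum_eq_zero
        intro a ha
        by_cases hak : a = k ∧ a < p
        · have h1 : ¬ (j - a = 1) := by omega
          rw [if_neg h1, mul_zero, mul_zero]
        · rw [if_neg hak, zero_mul, mul_zero]
    · rw [AlphaP.x_pow_of_le p R (by omega), map_zero, if_neg (fun h => hj h.2)]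


noncomputable def psiAlg [Nontrivial R] : AlphaP.A p R →ₐ[R] CartDual.D R (AlphaP.A p R) :=
  AlphaP.lift p R (d1 p R) (d1_pow_p p R)

theorem psiAlg_x [Nontrivial R] : psiAlg p R (AlphaP.x p R) = d1 p R := AlphaP.lift_x _ _

theorem psiAlg_x_pow [Nontrivial R] (k : ℕ) : psiAlg p R (AlphaP.x p R ^ k) = d1 p R ^ k := by
  rw [map_pow, psiAlg_x]

theorem psiAlg_apply [Nontrivial R] (a : AlphaP.A p R) (j : Fin p) :
    (psiAlg p R a) (AlphaP.x p R ^ (j : ℕ)) =
      (AlphaP.basis p R).repr a j * (((j : ℕ).factorial : ℕ) : R) := by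
  conv_lhs => rw [← (AlphaP.basis p R).sum_repr a]
  rw [map_sum]
  have h1 : ∀ i : Fin p, psiAlg p R ((AlphaP.basis p R).repr a i • (AlphaP.basis p R) i) =
      (AlphaP.basis p R).repr a i • d1 p R ^ (i : ℕ) := by
    intro i
    rw [map_smul, AlphaP.basis_apply, psiAlg_x_pow]
  simp_rw [h1]
  have h2 : (∑ i : Fin p, (AlphaP.basis p R).repr a i • d1 p R ^ (i : ℕ)) (AlphaP.x p R ^ (j : ℕ)) =
      ∑ i : Fin p, (AlphaP.basis p R).repr a i * (d1 p R ^ (i : ℕ)) (AlphaP.x p R ^ (j : ℕ)) := by
    simp
  rw [h2]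
  simp_rw [d1_pow_apply]
  rw [Finset.sum_eq_single j]
  · rw [if_pos ⟨rfl, j.2⟩]
  · intro b _ hb
    rw [if_neg (fun h => hb (Fin.ext h.1.symm)), mul_zero]
  · intro h
    exact absurd (Finset.mem_univ j) h


theorem isUnit_fact [Nontrivial R] (j : Fin p) : IsUnit ((((j : ℕ).factorial : ℕ) : R)) := by
  apply AlphaPL.isUnit_natCast_of_not_dvd p R
  intro h
  have := (hp.out.dvd_factorial).1 h
  have := j.2
  omega

theorem psiAlg_injective [Nontrivial R] : Function.Injective (psiAlg p R) := by
  rw [injective_iff_map_eq_zero]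
  intro a ha
  apply (AlphaP.basis p R).ext_elem
  intro j
  have h := psiAlg_apply p R a j
  rw [ha] at h
  have h0 : (0 : CartDual.D R (AlphaP.A p R)) (AlphaP.x p R ^ (j : ℕ)) = 0 := rfl
  rw [h0] at h
  rw [map_zero, Finsupp.zero_apply]
  exact ((isUnit_fact p R j).mul_left_eq_zero).1 h.symm

theorem psiAlg_surjective [Nontrivial R] : Function.Surjective (psiAlg p R) := by
  intro f
  refine ⟨(AlphaP.basis p R).equivFun.symm
    (fun k => ((isUnit_fact p R k).unit⁻¹ : Rˣ) * f (AlphaP.x p R ^ (k : ℕ))), ?_⟩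
  apply WithConv.ofConv_injective
  apply (AlphaP.basis p R).ext
  intro j
  rw [AlphaP.basis_apply]
  have h := psiAlg_apply p R ((AlphaP.basis p R).equivFun.symm
    (fun k => ((isUnit_fact p R k).unit⁻¹ : Rˣ) * f (AlphaP.x p R ^ (k : ℕ)))) j
  refine h.trans ?_
  rw [← Module.Basis.equivFun_apply, LinearEquiv.apply_symm_apply, mul_comm, ← mul_assoc,
    IsUnit.mul_val_inv, one_mul]


theorem one_x_pow (j : ℕ) : (1 : CartDual.D R (AlphaP.A p R)) (AlphaP.x p R ^ j) = if j = 0 then 1 else 0 := by
  rw [LinearMap.convOne_apply, Algebra.algebraMap_self, RingHom.id_apply,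
      ← Bialgebra.counitAlgHom_apply, map_pow, Bialgebra.counitAlgHom_apply, AlphaP.counit_x]
  by_cases hj : j = 0
  · subst hj
    rw [pow_zero, if_pos rfl]
  · rw [zero_pow hj, if_neg hj]

theorem comul_d1 [Nontrivial R] :
    Coalgebra.comul (R := R) (d1 p R) = d1 p R ⊗ₜ[R] 1 + 1 ⊗ₜ[R] d1 p R := by
  apply (CartDual.ev₂ R (AlphaP.A p R)).injective
  apply ((AlphaP.basis p R).tensorProduct (AlphaP.basis p R)).ext
  rintro ⟨i, j⟩
  rw [Module.Basis.tensorProduct_apply, AlphaP.basis_apply, AlphaP.basis_apply,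
    CartDual.ev₂_coalgebra_comul_tmul, map_add, LinearMap.add_apply, CartDual.ev₂_tmul, CartDual.ev₂_tmul,
    ← pow_add, d1_x_pow', d1_x_pow', d1_x_pow', one_x_pow, one_x_pow]
  by_cases hi : (i : ℕ) = 0
  · by_cases hj : (j : ℕ) = 1
    · simp [hi, hj]
    · have : ¬ ((i : ℕ) + j = 1) := by omega
      simp [hi, hj, this]
  · by_cases hj : (j : ℕ) = 0
    · by_cases hi1 : (i : ℕ) = 1
      · simp [hi1, hj]
      · have : ¬ ((i : ℕ) + j = 1) := by omega
        simp [hi, hj, this, hi1]
    · have : ¬ ((i : ℕ) + j = 1) := by omega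
      simp [hi, hj, this]

noncomputable def psi [Nontrivial R] : AlphaP.A p R →ₐc[R] CartDual.D R (AlphaP.A p R) :=
  BialgHom.ofAlgHom (psiAlg p R)
    (by
      apply AlphaP.algHom_ext
      rw [AlgHom.comp_apply, psiAlg_x, Bialgebra.counitAlgHom_apply, Bialgebra.counitAlgHom_apply,
        AlphaP.counit_x, CartDual.coalgebra_counit_apply]
      have := d1_x_pow' p R 0
      rw [pow_zero] at this
      rw [this, if_neg (by omega)])
    (by
      apply AlphaP.algHom_ext
      rw [AlgHom.comp_apply, AlgHom.comp_apply, psiAlg_x, Bialgebra.comulAlgHom_apply,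
        Bialgebra.comulAlgHom_apply, AlphaP.comul_x, comul_d1, map_add, Algebra.TensorProduct.map_tmul,
        Algebra.TensorProduct.map_tmul, psiAlg_x, map_one])

end

/-- Let p be a prime, R a commutative ring of characteristic p and A = R[X]/(X^p) the Hopf algebra of
α_p over Spec R, with X primitive. Then the Cartier dual of α_p is again α_p: there is a bialgebra
isomorphism e from the dual Hopf algebra Hom_R(A, R), with the transposed structure maps, to A,
whose inverse sends X to the linear form dual to X with respect to the basis 1, X, …, X^{p-1} of A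
(so e⁻¹(X) takes the value 1 on X and 0 on the other powers X^i, i < p). (Any commutative base ring
of characteristic p is allowed.) -/
theorem result (p : ℕ) [Fact p.Prime] (R : Type u) [CommRing R] [CharP R p] :
    ∃ e : CartDual.D R (AlphaP.A p R) ≃ₐc[R] AlphaP.A p R,
      ∀ i : ℕ, i < p → (e.symm (AlphaP.x p R)) (AlphaP.x p R ^ i) = if i = 1 then 1 else 0 := by
  classical
  have : Nontrivial R := AlphaPL.nontrivial_of_charP p R
  let e0 : AlphaP.A p R ≃ₐc[R] CartDual.D R (AlphaP.A p R) :=
    BialgEquiv.ofBijective (psi p R) ⟨psiAlg_injective p R, psiAlg_surjective p R⟩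
  refine ⟨e0.symm, ?_⟩
  intro i hi
  have h1 : e0.symm.symm (AlphaP.x p R) = d1 p R := psiAlg_x p R
  rw [h1]
  exact d1_x_pow p R i hi

end Groth.Agent.S16071
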