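import Groth.Statements.S16072
import Mathlib
import Groth.Prelude.Def_AlphaP

set_option autoImplicit false
universe u
open Hopf

namespace Groth.Agent.S16072

/-- Let p be a prime and R a commutative ring of characteristic p (p = 0 in R, R nonzero). Then the
constant group scheme ℤ/p and the group scheme μ_p of p-th roots of unity over Spec R are not
isomorphic: there is no R-bialgebra isomorphism between the Hopf algebra Maps(ℤ/p, R) of functions
on the cyclic group of order p and the group algebra R[ℤ/p]. (Any nonzero commutative base ring of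
characteristic p is allowed. The published statement allows any ring R with p·R = 0; over the zero
ring both Hopf algebras are the zero ring and hence isomorphic, so R is assumed nonzero here.) -/
theorem result (p : ℕ) [Fact p.Prime] (R : Type u) [CommRing R]
    [CharP R p] :
    IsEmpty (ConstGrp.F R (Multiplicative (ZMod p)) ≃ₐc[R] MonoidAlgebra R (Multiplicative (ZMod p))) := by
  classical
  have : NeZero p := ⟨(Fact.out : p.Prime).ne_zero⟩
  have : Nontrivial R := CharP.nontrivial_of_char_ne_one (R := R) (v := p) (Fact.out : p.Prime).ne_one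
  constructor
  intro φ
  obtain ⟨m, hm⟩ := Ideal.exists_maximal R
  have hp1 : 1 < p := (Fact.out : p.Prime).one_lt
  have : Fact (1 < p) := ⟨hp1⟩
  let σ : Multiplicative (ZMod p) := Multiplicative.ofAdd 1
  have hσ1 : σ ≠ 1 := by
    intro h
    have : (1 : ZMod p) = 0 := by
      have := congrArg Multiplicative.toAdd h
      simpa [σ] using this
    exact one_ne_zero this
  have hσp : σ ^ p = 1 := by
    show Multiplicative.ofAdd (1 : ZMod p) ^ p = 1
    rw [← ofAdd_nsmul]
    simp
  let c : MonoidAlgebra R (Multiplicative (ZMod p)) →ₗ[R] R :=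
    (Finsupp.lapply σ) ∘ₗ (MonoidAlgebra.coeffLinearEquiv R).toLinearMap
  set y : MonoidAlgebra R (Multiplicative (ZMod p)) := MonoidAlgebra.single σ 1 - 1 with hy
  have hcy : c y = 1 := by
    show (MonoidAlgebra.single σ (1 : R) - 1 : MonoidAlgebra R (Multiplicative (ZMod p))).coeff σ = 1
    rw [MonoidAlgebra.coeff_sub, MonoidAlgebra.one_def, MonoidAlgebra.coeff_single, MonoidAlgebra.coeff_single,
      Finsupp.sub_apply, Finsupp.single_eq_same, Finsupp.single_eq_of_ne hσ1, sub_zero]
  have hyp : y ^ p = 0 := by
    have h1 : (MonoidAlgebra.single σ (1 : R) : MonoidAlgebra R (Multiplicative (ZMod p))) = y + 1 := by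
      rw [hy]; ring
    have h2 : (MonoidAlgebra.single σ (1 : R) : MonoidAlgebra R (Multiplicative (ZMod p))) ^ p = 1 := by
      rw [MonoidAlgebra.single_pow, hσp, one_pow]; rfl
    obtain ⟨r, hr⟩ := (Commute.all y 1).exists_add_pow_prime_eq (Fact.out : p.Prime)
    rw [← h1, h2, one_pow, AlphaP.natCast_eq_zero p R (MonoidAlgebra R (Multiplicative (ZMod p)))] at hr
    have h3 : y ^ p + 1 = 0 + 1 := by linear_combination (-1 : MonoidAlgebra R (Multiplicative (ZMod p))) * hr
    exact add_right_cancel h3
  set r : ConstGrp.F R (Multiplicative (ZMod p)) := φ.symm y with hr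
  have hrp : r ^ p = 0 := by
    rw [hr, ← map_pow, hyp, map_zero]
  have hrm : ∀ g, r g ∈ m := by
    intro g
    have h2 : (r g) ^ p = 0 := by
      have := congrFun hrp g
      exact this
    apply hm.isPrime.mem_of_pow_mem p
    rw [h2]; exact m.zero_mem
  have hx : y = φ r := by rw [hr]; simp
  have hsum := ConstGrp.eq_sum_smul_e r
  rw [hsum, map_sum] at hx
  have h1 : c y ∈ m := by
    rw [hx, map_sum]
    apply Ideal.sum_mem
    intro g _
    rw [map_smul, map_smul, smul_eq_mul]
    exact Ideal.mul_mem_right _ _ (hrm g)
  rw [hcy] at h1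
  exact hm.ne_top ((Ideal.eq_top_iff_one m).2 h1)

end Groth.Agent.S16072
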