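import Groth.Statements.S16073
import Mathlib

set_option autoImplicit false
universe u
open Hopf

namespace Groth.Agent.S16073

/-- Let p be a prime and R a commutative ring of characteristic p (p = 0 in R, R nonzero). Then the
constant group scheme ℤ/p and α_p over Spec R are not isomorphic: there is no R-bialgebra
isomorphism between the Hopf algebra Maps(ℤ/p, R) of functions on the cyclic group of order p and
the Hopf algebra R[X]/(X^p) of α_p (X primitive). (Any nonzero commutative base ring of
characteristic p is allowed. The published statement allows any ring R with p·R = 0; over the zero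
ring both Hopf algebras are the zero ring and hence isomorphic, so R is assumed nonzero here.) -/
theorem result (p : ℕ) [Fact p.Prime] (R : Type u) [CommRing R] [CharP R p] :
    IsEmpty (ConstGrp.F R (Multiplicative (ZMod p)) ≃ₐc[R] AlphaP.A p R) := by
  classical
  have : NeZero p := ⟨(Fact.out : p.Prime).ne_zero⟩
  have : Nontrivial R := CharP.nontrivial_of_char_ne_one (R := R) (v := p) (Fact.out : p.Prime).ne_one
  constructor
  intro φ
  obtain ⟨m, hm⟩ := Ideal.exists_maximal R
  have hp1 : 1 < p := (Fact.out : p.Prime).one_lt
  let c : AlphaP.A p R →ₗ[R] R := (AlphaP.basis p R).coord ⟨1, hp1⟩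
  have hcx : c (AlphaP.x p R) = 1 := by
    have h1 : AlphaP.x p R = AlphaP.basis p R ⟨1, hp1⟩ := by
      rw [AlphaP.basis_apply]; simp
    show (AlphaP.basis p R).coord ⟨1, hp1⟩ (AlphaP.x p R) = 1
    rw [h1, Module.Basis.coord_apply, Module.Basis.repr_self, Finsupp.single_eq_same]
  set r : ConstGrp.F R (Multiplicative (ZMod p)) := φ.symm (AlphaP.x p R) with hr
  have hrp : r ^ p = 0 := by
    rw [hr, ← map_pow, AlphaP.x_pow, map_zero]
  have hrm : ∀ g, r g ∈ m := by
    intro g
    have h2 : (r g) ^ p = 0 := by
      have := congrFun hrp g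
      exact this
    apply hm.isPrime.mem_of_pow_mem p
    rw [h2]; exact m.zero_mem
  have hx : AlphaP.x p R = φ r := by rw [hr]; simp
  have hsum := ConstGrp.eq_sum_smul_e r
  rw [hsum, map_sum] at hx
  have h1 : c (AlphaP.x p R) ∈ m := by
    rw [hx, map_sum]
    apply Ideal.sum_mem
    intro g _
    rw [map_smul, map_smul, smul_eq_mul]
    exact Ideal.mul_mem_right _ _ (hrm g)
  rw [hcx] at h1
  exact hm.ne_top ((Ideal.eq_top_iff_one m).2 h1)

end Groth.Agent.S16073
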