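import Groth.Statements.S16074
import Mathlib
import Groth.Agent.Lib.Lead.AlphaPL

set_option autoImplicit false
universe u
open Hopf

namespace Groth.Agent.S16074

open TensorProduct Groth.Agent.Lead

/-- Let p be a prime and R a commutative ring of characteristic p (p = 0 in R, R nonzero). Then μ_p and
α_p over Spec R are not isomorphic: there is no R-bialgebra isomorphism between the group algebra
R[ℤ/p] of the cyclic group of order p (group elements group-like) and the Hopf algebra R[X]/(X^p) of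
α_p (X primitive), although the underlying R-algebras R[ℤ/p] = R[Y]/(Y^p) and R[X]/(X^p) are
isomorphic. (Any nonzero commutative base ring of characteristic p is allowed. The published
statement allows any ring R with p·R = 0; over the zero ring both Hopf algebras are the zero ring
and hence isomorphic, so R is assumed nonzero here.) -/
theorem result (p : ℕ) [Fact p.Prime] (R : Type u) [CommRing R] [CharP R p] :
    IsEmpty (MonoidAlgebra R (Multiplicative (ZMod p)) ≃ₐc[R] AlphaP.A p R) := by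
  classical
  have hpp : p.Prime := Fact.out
  have : Nontrivial R := AlphaPL.nontrivial_of_charP p R
  have : NeZero p := ⟨hpp.ne_zero⟩
  have hp1 : 1 < p := hpp.one_lt
  have hp0 : 0 < p := hpp.pos
  have : Fact (1 < p) := ⟨hp1⟩
  constructor
  intro φ
  obtain ⟨m, hm⟩ := Ideal.exists_maximal R
  let σ : Multiplicative (ZMod p) := Multiplicative.ofAdd 1
  have hσ1 : σ ≠ 1 := by
    intro h
    have : (1 : ZMod p) = 0 := by
      have := congrArg Multiplicative.toAdd h
      simpa [σ] using this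
    exact one_ne_zero this
  let cσ : MonoidAlgebra R (Multiplicative (ZMod p)) →ₗ[R] R :=
    (Finsupp.lapply σ) ∘ₗ (MonoidAlgebra.coeffLinearEquiv R).toLinearMap
  set s : MonoidAlgebra R (Multiplicative (ZMod p)) := MonoidAlgebra.single σ 1 with hs
  have hcs : cσ s = 1 := by
    show (MonoidAlgebra.single σ (1 : R)).coeff σ = 1
    rw [MonoidAlgebra.coeff_single, Finsupp.single_eq_same]
  have hc1 : cσ 1 = 0 := by
    show (1 : MonoidAlgebra R (Multiplicative (ZMod p))).coeff σ = 0
    rw [MonoidAlgebra.one_def, MonoidAlgebra.coeff_single, Finsupp.single_eq_of_ne hσ1]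
  set g := φ s with hg
  have hcomul : Coalgebra.comul (R := R) g = g ⊗ₜ[R] g := by
    have h := CoalgHomClass.map_comp_comul_apply φ s
    rw [hg, ← h, hs, MonoidAlgebra.comul_single]
    simp
  have hcounit : Coalgebra.counit (R := R) g = 1 := by
    have h := CoalgHomClass.counit_comp_apply φ s
    rw [hg, h, hs, MonoidAlgebra.counit_single]
    simp
  set c : Fin p → R := fun k => (AlphaP.basis p R).coord k g with hc
  have hmul : ∀ a b : Fin p, c a * c b =
      if h : (a : ℕ) + (b : ℕ) < p then c ⟨(a : ℕ) + (b : ℕ), h⟩ * ((((a : ℕ) + (b : ℕ)).choose a : ℕ) : R)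
      else 0 := by
    intro a b
    have h := AlphaPL.T_comul p R a b g
    rw [hcomul, AlphaPL.T_tmul] at h
    exact h
  have hc0 : c ⟨0, hp0⟩ = 1 := by
    show (AlphaP.basis p R).coord ⟨0, hp0⟩ g = 1
    rw [← AlphaPL.counit_eq_coord]; exact hcounit
  have hfact : ∀ k : ℕ, ∀ hk : k < p, ((k.factorial : ℕ) : R) * c ⟨k, hk⟩ = (c ⟨1, hp1⟩) ^ k := by
    intro k
    induction k with
    | zero => intro hk; rw [Nat.factorial_zero, Nat.cast_one, one_mul, pow_zero]; exact hc0
    | succ k ih =>
      intro hk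
      have hk' : k < p := by omega
      have h1 := hmul ⟨1, hp1⟩ ⟨k, hk'⟩
      have hlt : ((⟨1, hp1⟩ : Fin p) : ℕ) + ((⟨k, hk'⟩ : Fin p) : ℕ) < p := by
        show 1 + k < p
        omega
      rw [dif_pos hlt] at h1
      have e3 : (⟨((⟨1, hp1⟩ : Fin p) : ℕ) + ((⟨k, hk'⟩ : Fin p) : ℕ), hlt⟩ : Fin p) = ⟨k + 1, hk⟩ := by
        apply Fin.ext
        show 1 + k = k + 1
        omega
      have e4 : (((⟨1, hp1⟩ : Fin p) : ℕ) + ((⟨k, hk'⟩ : Fin p) : ℕ)).choose ((⟨1, hp1⟩ : Fin p) : ℕ) = k + 1 := by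
        show (1 + k).choose 1 = k + 1
        rw [Nat.choose_one_right]; omega
      rw [e3, e4] at h1
      rw [pow_succ, ← ih hk', mul_assoc, mul_comm (c ⟨k, hk'⟩), h1, Nat.factorial_succ]
      push_cast
      ring
  have hc1p : (c ⟨1, hp1⟩) ^ p = 0 := by
    obtain ⟨q, rfl⟩ : ∃ q, p = q + 1 := ⟨p - 1, by omega⟩
    have hq : q < q + 1 := by omega
    rw [pow_succ, ← hfact q hq, mul_assoc]
    have h1 := hmul ⟨q, hq⟩ ⟨1, hp1⟩
    have hnlt : ¬ (((⟨q, hq⟩ : Fin (q + 1)) : ℕ) + ((⟨1, hp1⟩ : Fin (q + 1)) : ℕ) < q + 1) := by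
      show ¬ (q + 1 < q + 1)
      omega
    rw [dif_neg hnlt] at h1
    rw [h1, mul_zero]
  have hc1m : c ⟨1, hp1⟩ ∈ m := by
    apply hm.isPrime.mem_of_pow_mem p
    rw [hc1p]; exact m.zero_mem
  have hckm : ∀ k : Fin p, 1 ≤ (k : ℕ) → c k ∈ m := by
    intro k hk
    have h1 := hfact (k : ℕ) k.2
    have h2 : ((((k : ℕ).factorial : ℕ) : R)) * c k ∈ m := by
      have : (⟨(k : ℕ), k.2⟩ : Fin p) = k := Fin.ext rfl
      rw [this] at h1
      rw [h1]
      exact Ideal.pow_mem_of_mem m hc1m _ (by omega)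
    have hu : IsUnit ((((k : ℕ).factorial : ℕ) : R)) := by
      apply AlphaPL.isUnit_natCast_of_not_dvd p R
      rw [hpp.dvd_factorial]
      have := k.2
      omega
    rcases hm.isPrime.mem_or_mem h2 with h3 | h3
    · exact absurd (Ideal.eq_top_of_isUnit_mem m h3 hu) hm.ne_top
    · exact h3
  -- now evaluate
  have hsg : s = φ.symm g := by rw [hg]; simp
  have hgsum : g = ∑ k : Fin p, c k • (AlphaP.basis p R) k := ((AlphaP.basis p R).sum_repr g).symm
  have h1 : cσ s ∈ m := by
    rw [hsg, hgsum, map_sum, map_sum]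
    apply Ideal.sum_mem
    intro k _
    rw [map_smul, map_smul, smul_eq_mul]
    by_cases hk : (k : ℕ) = 0
    · have hk0 : k = ⟨0, hp0⟩ := Fin.ext hk
      rw [hk0, AlphaP.basis_apply]
      simp only [pow_zero]
      have : φ.symm (1 : AlphaP.A p R) = 1 := map_one φ.symm
      rw [this, hc1, mul_zero]
      exact m.zero_mem
    · exact Ideal.mul_mem_right _ _ (hckm k (by omega))
  rw [hcs] at h1
  exact hm.ne_top ((Ideal.eq_top_iff_one m).2 h1)

end Groth.Agent.S16074
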