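import Groth.Statements.S16075
import Mathlib
import Groth.Agent.Lib.Lead.AlphaPL

set_option autoImplicit false
universe u
open Hopf

namespace Groth.Agent.S16075

open TensorProduct Groth.Agent.Lead

/-- Let p be a prime, T a commutative ring of characteristic p (p = 0 in T, T nonzero) and A =
T[X]/(X^p) the Hopf algebra of α_p over Spec T, with X primitive. Then the endomorphisms of the
T-group α_{p,T} are exactly the scalings: every T-bialgebra endomorphism f of A has f(X) = λ·X for a
unique λ ∈ T, and for every λ ∈ T there is a T-bialgebra endomorphism f of A with f(X) = λ·X. So the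
endomorphisms of α_{p,T} correspond bijectively to the elements of T. (Only this bijection is
stated; that it turns addition and composition of endomorphisms into addition and multiplication in
T, and its naturality in T, are not stated here. The zero ring, allowed as T in the published
statement, is excluded by the characteristic hypothesis here.) -/
theorem result (p : ℕ) [Fact p.Prime] (T : Type u) [CommRing T] [CharP T p] :
    (∀ f : AlphaP.A p T →ₐc[T] AlphaP.A p T, ∃! c : T, f (AlphaP.x p T) = c • AlphaP.x p T) ∧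
      (∀ c : T, ∃ f : AlphaP.A p T →ₐc[T] AlphaP.A p T, f (AlphaP.x p T) = c • AlphaP.x p T) := by
  classical
  have hpp : p.Prime := Fact.out
  have : Nontrivial T := AlphaPL.nontrivial_of_charP p T
  have hp1 : 1 < p := hpp.one_lt
  have hp0 : 0 < p := hpp.pos
  have hone : ∀ i : Fin p, (AlphaP.basis p T).coord i 1 = if 0 = (i : ℕ) then 1 else 0 := by
    intro i
    have := AlphaPL.coord_x_pow p T i 0 hp0
    rwa [pow_zero] at this
  have hxc : ∀ i : Fin p, (AlphaP.basis p T).coord i (AlphaP.x p T) = if 1 = (i : ℕ) then 1 else 0 := by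
    intro i
    have := AlphaPL.coord_x_pow p T i 1 hp1
    rwa [pow_one] at this
  constructor
  · intro f
    set y := f (AlphaP.x p T) with hy
    have hcomul : Coalgebra.comul (R := T) y = y ⊗ₜ[T] 1 + 1 ⊗ₜ[T] y := by
      have h := CoalgHomClass.map_comp_comul_apply f (AlphaP.x p T)
      rw [hy, ← h, AlphaP.comul_x, map_add, TensorProduct.map_tmul, TensorProduct.map_tmul]
      simp
    have hcounit : Coalgebra.counit (R := T) y = 0 := by
      have h := CoalgHomClass.counit_comp_apply f (AlphaP.x p T)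
      rw [hy, h, AlphaP.counit_x]
    have hc0 : (AlphaP.basis p T).coord ⟨0, hp0⟩ y = 0 := by
      rw [← AlphaPL.counit_eq_coord]; exact hcounit
    have hck : ∀ k : Fin p, 2 ≤ (k : ℕ) → (AlphaP.basis p T).coord k y = 0 := by
      intro k hk
      have hk1 : (k : ℕ) - 1 < p := by have := k.2; omega
      have h1 := AlphaPL.T_comul p T ⟨1, hp1⟩ ⟨(k : ℕ) - 1, hk1⟩ y
      have hlt : ((⟨1, hp1⟩ : Fin p) : ℕ) + ((⟨(k : ℕ) - 1, hk1⟩ : Fin p) : ℕ) < p := by
        have := k.2
        show 1 + ((k : ℕ) - 1) < p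
        omega
      rw [dif_pos hlt, hcomul, map_add, AlphaPL.T_tmul, AlphaPL.T_tmul, hone, hone] at h1
      have e1 : ¬ (0 = ((⟨(k : ℕ) - 1, hk1⟩ : Fin p) : ℕ)) := by
        show ¬ (0 = (k : ℕ) - 1)
        omega
      have e2 : ¬ (0 = ((⟨1, hp1⟩ : Fin p) : ℕ)) := by
        show ¬ (0 = 1)
        omega
      rw [if_neg e1, if_neg e2, mul_zero, zero_mul, add_zero] at h1
      have e3 : (⟨((⟨1, hp1⟩ : Fin p) : ℕ) + ((⟨(k : ℕ) - 1, hk1⟩ : Fin p) : ℕ), hlt⟩ : Fin p) = k := by
        apply Fin.ext
        show 1 + ((k : ℕ) - 1) = k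
        omega
      have e4 : (((⟨1, hp1⟩ : Fin p) : ℕ) + ((⟨(k : ℕ) - 1, hk1⟩ : Fin p) : ℕ)).choose ((⟨1, hp1⟩ : Fin p) : ℕ) = (k : ℕ) := by
        show (1 + ((k : ℕ) - 1)).choose 1 = k
        rw [Nat.choose_one_right]; omega
      rw [e3, e4] at h1
      have hu := AlphaPL.isUnit_natCast_of_lt p T (k : ℕ) (by omega) k.2
      exact (hu.mul_left_eq_zero).1 h1.symm
    have hyx : y = (AlphaP.basis p T).coord ⟨1, hp1⟩ y • AlphaP.x p T := by
      conv_lhs => rw [← (AlphaP.basis p T).sum_repr y]
      rw [Finset.sum_eq_single (⟨1, hp1⟩ : Fin p)]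
      · rw [AlphaP.basis_apply]
        simp
      · intro k _ hk
        have hk' : (k : ℕ) ≠ 1 := fun h => hk (Fin.ext h)
        rcases Nat.lt_or_ge (k : ℕ) 2 with h2 | h2
        · have h0 : k = ⟨0, hp0⟩ := Fin.ext (by show (k : ℕ) = 0; omega)
          have : (AlphaP.basis p T).repr y k = 0 := by rw [h0]; exact hc0
          rw [this, zero_smul]
        · have : (AlphaP.basis p T).repr y k = 0 := hck k h2
          rw [this, zero_smul]
      · intro h; exact absurd (Finset.mem_univ _) h
    refine ⟨(AlphaP.basis p T).coord ⟨1, hp1⟩ y, hyx, ?_⟩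
    intro c' hc'
    have := congrArg ((AlphaP.basis p T).coord ⟨1, hp1⟩) hc'
    rw [map_smul, hxc, if_pos rfl, smul_eq_mul, mul_one] at this
    exact this.symm
  · intro c
    have hcp : (c • AlphaP.x p T) ^ p = 0 := by
      rw [smul_pow, AlphaP.x_pow, smul_zero]
    let f₀ : AlphaP.A p T →ₐ[T] AlphaP.A p T := AlphaP.lift p T (c • AlphaP.x p T) hcp
    have hf₀ : f₀ (AlphaP.x p T) = c • AlphaP.x p T := AlphaP.lift_x _ _
    refine ⟨BialgHom.ofAlgHom f₀ ?_ ?_, ?_⟩
    · apply AlphaP.algHom_ext
      rw [AlgHom.comp_apply, hf₀, map_smul]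
      simp [Bialgebra.counitAlgHom_apply]
    · apply AlphaP.algHom_ext
      rw [AlgHom.comp_apply, AlgHom.comp_apply, hf₀, map_smul, Bialgebra.comulAlgHom_apply,
        AlphaP.comul_x, map_add, Algebra.TensorProduct.map_tmul,
        Algebra.TensorProduct.map_tmul, hf₀, map_one, smul_add, TensorProduct.smul_tmul', TensorProduct.tmul_smul]
    · exact hf₀

end Groth.Agent.S16075
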