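import Groth.Statements.S16076
import Mathlib
import Groth.Agent.Lib.Lead.AlphaPL

set_option autoImplicit false
universe u
open scoped TensorProduct
open Versch

namespace Groth.Agent.S16076

open TensorProduct Groth.Agent.Lead

theorem conv_apply_x_pow (p : ℕ) [Fact p.Prime] (R : Type u) [CommRing R] [CharP R p]
    (y z : CartDual.D R (AlphaP.A p R)) (k : ℕ) :
    (y * z) (AlphaP.x p R ^ k) =
      ∑ a ∈ Finset.range (k + 1), ((k.choose a : ℕ) : R) * (y (AlphaP.x p R ^ a) * z (AlphaP.x p R ^ (k - a))) := by
  rw [LinearMap.convMul_apply, AlphaPL.comul_x_pow, map_sum, map_sum]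
  apply Finset.sum_congr rfl
  intro a _
  rw [map_smul, map_smul, TensorProduct.map_tmul, LinearMap.mul'_apply, smul_eq_mul]

theorem filt (p : ℕ) [Fact p.Prime] (R : Type u) [CommRing R] [CharP R p]
    (y : CartDual.D R (AlphaP.A p R)) (hy : y 1 = 0) :
    ∀ n k : ℕ, k < n → (y ^ n) (AlphaP.x p R ^ k) = 0 := by
  intro n
  induction n with
  | zero => intro k hk; omega
  | succ n ih =>
    intro k hk
    rw [pow_succ, conv_apply_x_pow]
    apply Finset.sum_eq_zero
    intro a ha
    rw [Finset.mem_range] at ha
    by_cases han : a < n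
    · rw [ih a han, zero_mul, mul_zero]
    · have hka : k - a = 0 := by omega
      rw [hka, pow_zero, hy, mul_zero, mul_zero]

theorem pow_p_eq_zero (p : ℕ) [hp : Fact p.Prime] (R : Type u) [CommRing R] [CharP R p]
    (y : CartDual.D R (AlphaP.A p R)) (hy : y 1 = 0) : y ^ p = 0 := by
  have : Nontrivial R := AlphaPL.nontrivial_of_charP p R
  apply WithConv.ofConv_injective
  apply (AlphaP.basis p R).ext
  intro k
  rw [AlphaP.basis_apply]
  have := filt p R y hy p k k.2
  exact this

/-- Let p be a prime, R a commutative ring of characteristic p and A = R[X]/(X^p) the Hopf algebra of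
α_p over Spec R, with X primitive. Let v : A → A ⊗_R R^(Frob) be the comorphism of the Verschiebung
V : α_p^(p) → α_p (the ring map whose transpose under the canonical pairing is the relative
Frobenius of the dual Hopf algebra Hom_R(A, R)). Then V is the trivial homomorphism: v is the
composite of the counit ε : A → R, the identity of underlying rings R → R^(Frob) and the inclusion
of the twisted factor R^(Frob) → A ⊗_R R^(Frob), i.e. v(a) = 1 ⊗ ε(a). (Any commutative base ring of
characteristic p is allowed.) -/
theorem result (p : ℕ) [Fact p.Prime] (R : Type u) [CommRing R] [CharP R p]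
    (v : AlphaP.A p R →+* FrobAlg.BaseChange p R (AlphaP.A p R))
    (hv : Versch.IsVerschiebung p R (AlphaP.A p R) v) :
    v = ((Algebra.TensorProduct.includeRight (R := R) (A := AlphaP.A p R) (B := FrobAlg.Twist p R)).toRingHom.comp
          (FrobAlg.toTwist p R).toRingHom).comp (Bialgebra.counitAlgHom R (AlphaP.A p R)).toRingHom := by
  classical
  apply Versch.IsVerschiebung.unique p R (AlphaP.A p R) hv
  rw [Versch.isVerschiebung_iff]
  intro a x
  have hw : (((Algebra.TensorProduct.includeRight (R := R) (A := AlphaP.A p R) (B := FrobAlg.Twist p R)).toRingHom.comp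
          (FrobAlg.toTwist p R).toRingHom).comp (Bialgebra.counitAlgHom R (AlphaP.A p R)).toRingHom) a =
      (1 : AlphaP.A p R) ⊗ₜ[R] (FrobAlg.toTwist p R (Coalgebra.counit (R := R) a)) := rfl
  rw [hw, Versch.evTw_tmul', ← map_mul]
  congr 1
  -- (x 1)^p * counit a = (x^p) a
  set r : R := x 1 with hr
  set x' : CartDual.D R (AlphaP.A p R) := x - algebraMap R _ r with hx'
  have hx'1 : x' 1 = 0 := by
    have h1 : (algebraMap R (CartDual.D R (AlphaP.A p R)) r) 1 = r := by
      rw [LinearMap.convAlgebraMap_apply]
      simp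
    show (x - algebraMap R _ r) 1 = 0
    have h2 : (x - algebraMap R (CartDual.D R (AlphaP.A p R)) r) 1 = x 1 - (algebraMap R (CartDual.D R (AlphaP.A p R)) r) 1 := rfl
    rw [h2, h1, hr, sub_self]
  have hxsum : x = algebraMap R _ r + x' := by rw [hx']; ring
  have hpow : x ^ p = algebraMap R _ (r ^ p) := by
    rw [hxsum, add_pow_char, pow_p_eq_zero p R x' hx'1, add_zero, ← map_pow]
  rw [hpow, LinearMap.convAlgebraMap_apply]
  simp

end Groth.Agent.S16076
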