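import Groth.Statements.S16077
import Mathlib

set_option autoImplicit false
universe u
open CAlg

namespace Groth.Agent.S16077

section
open MvPolynomial

variable {k : Type u} [Field k] {r : ℕ}

/-- the monomial ideal `(X_i^{n_i})` -/
noncomputable abbrev I (n : Fin r → ℕ) : Ideal (MvPolynomial (Fin r) k) :=
  Ideal.span (Set.range fun i : Fin r => (X i : MvPolynomial (Fin r) k) ^ n i)

theorem mem_I (n : Fin r → ℕ) (x : MvPolynomial (Fin r) k) :
    x ∈ I n ↔ ∀ m ∈ x.support, ∃ i, n i ≤ m i := by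
  have h1 : (Set.range fun i : Fin r => (X i : MvPolynomial (Fin r) k) ^ n i) =
      (fun s => monomial s (1 : k)) '' (Set.range fun i : Fin r => Finsupp.single i (n i)) := by
    rw [← Set.range_comp]
    congr 1
    funext i
    simp [X_pow_eq_monomial]
  rw [I, h1, mem_ideal_span_monomial_image]
  refine forall₂_congr fun m _ => ?_
  constructor
  · rintro ⟨_, ⟨i, rfl⟩, hi⟩
    refine ⟨i, ?_⟩
    have := hi i
    simpa using this
  · rintro ⟨i, hi⟩
    refine ⟨_, ⟨i, rfl⟩, ?_⟩
    intro j
    by_cases hj : j = i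
    · subst hj
      simpa using hi
    · simp [Ne.symm hj]

/-- exponent vector of a box point -/
noncomputable def toM (n : Fin r → ℕ) (c : ∀ i, Fin (n i)) : Fin r →₀ ℕ :=
  Finsupp.equivFunOnFinite.symm (fun i => (c i : ℕ))

@[simp] theorem toM_apply (n : Fin r → ℕ) (c : ∀ i, Fin (n i)) (i : Fin r) : toM n c i = c i := rfl

theorem toM_injective (n : Fin r → ℕ) : Function.Injective (toM n) := by
  intro c d h
  funext i
  apply Fin.ext
  have := DFunLike.congr_fun h i
  simpa using this

/-- the coefficient map onto the box -/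
noncomputable def Φ (n : Fin r → ℕ) : MvPolynomial (Fin r) k →ₗ[k] ((∀ i, Fin (n i)) → k) where
  toFun x c := coeff (toM n c) x
  map_add' x y := by
    funext c
    simp
  map_smul' a x := by
    funext c
    simp

theorem Φ_surj (n : Fin r → ℕ) : Function.Surjective (Φ (k := k) n) := by
  intro g
  refine ⟨∑ c : (∀ i, Fin (n i)), monomial (toM n c) (g c), ?_⟩
  funext d
  show coeff (toM n d) (∑ c : (∀ i, Fin (n i)), monomial (toM n c) (g c)) = g d
  rw [coeff_sum]
  simp only [coeff_monomial]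
  rw [Finset.sum_eq_single d]
  · simp
  · intro c _ hc
    rw [if_neg]
    exact fun h => hc (toM_injective n h)
  · simp

theorem Φ_ker (n : Fin r → ℕ) :
    LinearMap.ker (Φ (k := k) n) = (I n).restrictScalars k := by
  ext x
  simp only [LinearMap.mem_ker, Submodule.restrictScalars_mem, mem_I]
  constructor
  · intro h m hm
    by_contra hc
    simp only [not_exists, not_le] at hc
    have h1 := congrFun h (fun i => ⟨m i, hc i⟩)
    have h2 : toM n (fun i => ⟨m i, hc i⟩) = m := by
      ext i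
      simp
    have h3 : coeff m x = 0 := by
      rw [← h2]
      exact h1
    exact (mem_support_iff.1 hm) h3
  · intro h
    funext c
    show coeff (toM n c) x = 0
    by_contra hc
    obtain ⟨i, hi⟩ := h _ (mem_support_iff.2 hc)
    have := (c i).2
    simp at hi
    omega

noncomputable def e3 (n : Fin r → ℕ) (h : Function.Surjective (Φ (k := k) n)) :
    (MvPolynomial (Fin r) k ⧸ LinearMap.ker (Φ (k := k) n)) ≃ₗ[k] ((∀ i, Fin (n i)) → k) := by
  have := LinearMap.quotKerEquivOfSurjective (Φ (k := k) n) h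
  exact this

theorem finrank_quot (n : Fin r → ℕ) :
    Module.finrank k (MvPolynomial (Fin r) k ⧸ I n) = ∏ i, n i := by
  have e2 : (MvPolynomial (Fin r) k ⧸ (I (k := k) n).restrictScalars k) ≃ₗ[k]
      (MvPolynomial (Fin r) k ⧸ LinearMap.ker (Φ (k := k) n)) :=
    Submodule.quotEquivOfEq _ _ (Φ_ker n).symm
  have e1 : (MvPolynomial (Fin r) k ⧸ (I (k := k) n).restrictScalars k) ≃ₗ[k]
      (MvPolynomial (Fin r) k ⧸ I (k := k) n) :=
    Submodule.Quotient.restrictScalarsEquiv k (I n)
  rw [← e1.finrank_eq, e2.finrank_eq, (e3 n (Φ_surj n)).finrank_eq,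
    Module.finrank_fintype_fun_eq_card, Fintype.card_pi]
  simp

section inv
variable (p : ℕ) [Fact p.Prime]

/-- the ideal generated by `p^j`-th powers of nilpotents -/
def Jn (A : Type u) [CommRing A] (j : ℕ) : Ideal A :=
  Ideal.span {x | ∃ a : A, IsNilpotent a ∧ x = a ^ p ^ j}

theorem Jn_map {A A' : Type u} [CommRing A] [CommRing A'] [Algebra k A] [Algebra k A']
    (φ : A ≃ₐ[k] A') (j : ℕ) : Jn p A' j = (Jn p A j).map (φ : A →+* A') := by
  rw [Jn, Jn, Ideal.map_span]
  congr 1
  ext x
  constructor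
  · rintro ⟨a, ha, rfl⟩
    refine ⟨(φ.symm a) ^ p ^ j, ⟨φ.symm a, ha.map φ.symm, rfl⟩, ?_⟩
    simp
  · rintro ⟨_, ⟨a, ha, rfl⟩, rfl⟩
    exact ⟨φ a, ha.map φ, by simp⟩

theorem finrank_Jn_eq {A A' : Type u} [CommRing A] [CommRing A'] [Algebra k A] [Algebra k A']
    (φ : A ≃ₐ[k] A') (j : ℕ) :
    Module.finrank k (A ⧸ Jn p A j) = Module.finrank k (A' ⧸ Jn p A' j) :=
  (Ideal.quotientEquivAlg (Jn p A j) (Jn p A' j) φ (Jn_map p φ j)).toLinearEquiv.finrank_eq

end inv

section comp
variable (p : ℕ) [Fact p.Prime] [CharP k p]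

/-- the truncated algebra -/
abbrev Ae (e : Fin r → ℕ) : Type u := MvPolynomial (Fin r) k ⧸ I (k := k) (fun i => p ^ e i)

theorem nilp_X (e : Fin r → ℕ) (i : Fin r) :
    IsNilpotent (Ideal.Quotient.mk (I (k := k) (fun i => p ^ e i)) (X i)) := by
  refine ⟨p ^ e i, ?_⟩
  rw [← map_pow, Ideal.Quotient.eq_zero_iff_mem]
  exact Ideal.subset_span ⟨i, rfl⟩

theorem pow_mem_of_nilp (e : Fin r → ℕ) (j : ℕ) (P : MvPolynomial (Fin r) k)
    (hP : IsNilpotent (Ideal.Quotient.mk (I (k := k) (fun i => p ^ e i)) P)) :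
    P ^ p ^ j ∈ I (k := k) (fun _ => p ^ j) := by
  have hp : p ≠ 0 := (Fact.out : p.Prime).ne_zero
  -- augmentation
  let ε : Ae (k := k) p e →+* k := Ideal.Quotient.lift _ (MvPolynomial.eval (0 : Fin r → k)) (by
    intro a ha
    have hle : I (k := k) (fun i => p ^ e i) ≤ RingHom.ker (MvPolynomial.eval (0 : Fin r → k)) := by
      rw [I, Ideal.span_le]
      rintro _ ⟨i, rfl⟩
      simp [RingHom.mem_ker, hp]
    exact hle ha)
  have h1 : IsNilpotent (ε (Ideal.Quotient.mk _ P)) := hP.map ε
  have h2 : MvPolynomial.eval (0 : Fin r → k) P = 0 := by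
    have : ε (Ideal.Quotient.mk _ P) = MvPolynomial.eval (0 : Fin r → k) P := by
      simp [ε]
    rw [this] at h1
    exact h1.eq_zero
  have h3 : P ∈ Ideal.span (MvPolynomial.X '' (Set.univ : Set (Fin r)) :
      Set (MvPolynomial (Fin r) k)) := by
    rw [mem_ideal_span_X_image]
    intro m hm
    have hm0 : m ≠ 0 := by
      rintro rfl
      have : coeff 0 P = 0 := by
        have h2' := h2
        rw [MvPolynomial.eval_zero] at h2'
        rw [← constantCoeff_eq]
        exact h2'
      exact (mem_support_iff.1 hm) this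
    obtain ⟨i, hi⟩ := Finsupp.ne_iff.1 hm0
    exact ⟨i, Set.mem_univ _, by simpa using hi⟩
  have h4 : Ideal.span (MvPolynomial.X '' (Set.univ : Set (Fin r)) :
      Set (MvPolynomial (Fin r) k)) ≤
      (I (k := k) (fun _ => p ^ j)).comap (iterateFrobenius (MvPolynomial (Fin r) k) p j) := by
    rw [Ideal.span_le]
    rintro _ ⟨i, -, rfl⟩
    rw [SetLike.mem_coe, Ideal.mem_comap, iterateFrobenius_def]
    exact Ideal.subset_span ⟨i, rfl⟩
  have h5 := h4 h3
  rw [Ideal.mem_comap, iterateFrobenius_def] at h5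
  exact h5

theorem Jn_Ae (e : Fin r → ℕ) (j : ℕ) :
    Jn p (Ae (k := k) p e) j =
      (I (k := k) (fun _ => p ^ j)).map (Ideal.Quotient.mkₐ k (I (k := k) (fun i => p ^ e i))) := by
  apply le_antisymm
  · rw [Jn, Ideal.span_le]
    rintro _ ⟨a, ha, rfl⟩
    obtain ⟨P, rfl⟩ := Ideal.Quotient.mk_surjective a
    have h := pow_mem_of_nilp p e j P ha
    have h2 := Ideal.mem_map_of_mem (Ideal.Quotient.mkₐ k (I (k := k) (fun i => p ^ e i))) h
    rw [map_pow] at h2
    exact h2
  · rw [Ideal.map_span, Ideal.span_le]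
    rintro _ ⟨_, ⟨i, rfl⟩, rfl⟩
    rw [map_pow]
    exact Ideal.subset_span ⟨_, nilp_X p e i, rfl⟩

theorem sup_I (e : Fin r → ℕ) (j : ℕ) :
    I (k := k) (fun i => p ^ e i) ⊔ I (k := k) (fun _ => p ^ j) =
      I (k := k) (fun i => p ^ (min (e i) j)) := by
  have hp : 1 ≤ p := (Fact.out : p.Prime).one_le
  apply le_antisymm
  · rw [sup_le_iff]
    constructor
    · rw [I, Ideal.span_le]
      rintro _ ⟨i, rfl⟩
      have hle : p ^ (min (e i) j) ≤ p ^ e i := Nat.pow_le_pow_right hp (min_le_left _ _)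
      show (X i : MvPolynomial (Fin r) k) ^ p ^ e i ∈ _
      rw [← pow_sub_mul_pow (X i : MvPolynomial (Fin r) k) hle]
      exact Ideal.mul_mem_left _ _ (Ideal.subset_span ⟨i, rfl⟩)
    · rw [I, Ideal.span_le]
      rintro _ ⟨i, rfl⟩
      have hle : p ^ (min (e i) j) ≤ p ^ j := Nat.pow_le_pow_right hp (min_le_right _ _)
      show (X i : MvPolynomial (Fin r) k) ^ p ^ j ∈ _
      rw [← pow_sub_mul_pow (X i : MvPolynomial (Fin r) k) hle]
      exact Ideal.mul_mem_left _ _ (Ideal.subset_span ⟨i, rfl⟩)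
  · rw [I, Ideal.span_le]
    rintro _ ⟨i, rfl⟩
    rcases le_total (e i) j with h | h
    · apply Ideal.mem_sup_left
      show (X i : MvPolynomial (Fin r) k) ^ p ^ (min (e i) j) ∈ _
      rw [min_eq_left h]
      exact Ideal.subset_span ⟨i, rfl⟩
    · apply Ideal.mem_sup_right
      show (X i : MvPolynomial (Fin r) k) ^ p ^ (min (e i) j) ∈ _
      rw [min_eq_right h]
      exact Ideal.subset_span ⟨i, rfl⟩

theorem finrank_Ae_Jn (e : Fin r → ℕ) (j : ℕ) :
    Module.finrank k (Ae (k := k) p e ⧸ Jn p (Ae (k := k) p e) j) = p ^ (∑ i, min (e i) j) := by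
  have e1 := Ideal.quotientEquivAlgOfEq k (Jn_Ae (k := k) p e j)
  have e2 := DoubleQuot.quotQuotEquivQuotSupₐ k (I (k := k) (fun i => p ^ e i))
    (I (k := k) (fun _ => p ^ j))
  have e3 := Ideal.quotientEquivAlgOfEq k (sup_I (k := k) p e j)
  rw [e1.toLinearEquiv.finrank_eq, e2.toLinearEquiv.finrank_eq, e3.toLinearEquiv.finrank_eq,
    finrank_quot, Finset.prod_pow_eq_pow_sum]

end comp

theorem comb {r s : ℕ} (e : Fin r → ℕ) (f : Fin s → ℕ) (he : ∀ i, 1 ≤ e i) (hf : ∀ j, 1 ≤ f j)
    (h : ∀ j, ∑ i, min (e i) j = ∑ i, min (f i) j) :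
    ∃ σ : Fin r ≃ Fin s, ∀ i, f (σ i) = e i := by
  have step : ∀ {n : ℕ} (g : Fin n → ℕ) (j : ℕ), ∑ i, min (g i) (j + 1) =
      ∑ i, min (g i) j + (Finset.univ.filter fun i => j < g i).card := by
    intro n g j
    rw [Finset.card_filter, ← Finset.sum_add_distrib]
    refine Finset.sum_congr rfl fun i _ => ?_
    split_ifs <;> omega
  have hG : ∀ j, (Finset.univ.filter fun i => j < e i).card =
      (Finset.univ.filter fun i => j < f i).card := by
    intro j
    have h1 := step e j
    have h2 := step f j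
    rw [h (j + 1), h j] at h1
    omega
  have split : ∀ {n : ℕ} (g : Fin n → ℕ) (v : ℕ), (Finset.univ.filter fun i => v < g i).card =
      (Finset.univ.filter fun i => g i = v + 1).card +
        (Finset.univ.filter fun i => v + 1 < g i).card := by
    intro n g v
    rw [← Finset.card_union_of_disjoint]
    · congr 1
      ext i
      simp only [Finset.mem_filter, Finset.mem_univ, true_and, Finset.mem_union]
      omega
    · rw [Finset.disjoint_filter]
      intro i _ h1 h2
      omega
  have hcard : ∀ v, Fintype.card {i // e i = v} = Fintype.card {i // f i = v} := by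
    intro v
    rw [Fintype.card_subtype, Fintype.card_subtype]
    cases v with
    | zero =>
      have hz : ∀ {n : ℕ} (g : Fin n → ℕ), (∀ i, 1 ≤ g i) →
          (Finset.univ.filter fun i => g i = 0) = ∅ := by
        intro n g hg
        apply Finset.filter_false_of_mem
        intro i _ h0
        have := hg i
        omega
      rw [hz e he, hz f hf, Finset.card_empty, Finset.card_empty]
    | succ v =>
      have h1 := split e v
      have h2 := split f v
      have h3 := hG v
      have h4 := hG (v + 1)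
      omega
  let σ : Fin r ≃ Fin s :=
    ((Equiv.sigmaFiberEquiv e).symm.trans
      (Equiv.sigmaCongrRight fun v => Fintype.equivOfCardEq (hcard v))).trans
      (Equiv.sigmaFiberEquiv f)
  refine ⟨σ, fun i => ?_⟩
  exact ((Fintype.equivOfCardEq (hcard (e i))) ⟨i, rfl⟩).2

theorem main (p : ℕ) [Fact p.Prime] (k : Type u) [Field k] [CharP k p] (r s : ℕ)
    (e : Fin r → ℕ) (f : Fin s → ℕ) (he : ∀ i, 1 ≤ e i) (hf : ∀ j, 1 ≤ f j)
    (φ : (MvPolynomial (Fin r) k ⧸ Ideal.span (Set.range fun i : Fin r =>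
        (MvPolynomial.X i : MvPolynomial (Fin r) k) ^ p ^ e i)) ≃ₐ[k]
      (MvPolynomial (Fin s) k ⧸ Ideal.span (Set.range fun j : Fin s =>
        (MvPolynomial.X j : MvPolynomial (Fin s) k) ^ p ^ f j))) :
    ∃ σ : Fin r ≃ Fin s, ∀ i : Fin r, f (σ i) = e i := by
  apply comb e f he hf
  intro j
  have h1 := finrank_Jn_eq (k := k) p (A := Ae (k := k) p e) (A' := Ae (k := k) p f) φ j
  rw [finrank_Ae_Jn, finrank_Ae_Jn] at h1
  exact Nat.pow_right_injective (Fact.out : p.Prime).two_le h1


end


/-- Let k be a perfect field of characteristic p > 0 and let e_1, …, e_r ≥ 1 and f_1, …, f_s ≥ 1 be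
natural numbers. If the k-algebras k[X_1, …, X_r]/(X_i^{p^{e_i}} : 1 ≤ i ≤ r) and k[X_1, …,
X_s]/(X_j^{p^{f_j}} : 1 ≤ j ≤ s) are isomorphic, then r = s and (f_j) is a permutation of (e_i):
there is a bijection σ between the index sets with f_{σ(i)} = e_i. Such truncated polynomial
algebras are the coordinate rings of the connected finite k-group schemes, and the row says that the
number of variables and the exponents are invariants of the group, indeed of its algebra. (Only this
invariance is stated here; the existence of such a presentation for every connected finite k-group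
is a separate statement.) -/
theorem result (p : ℕ) [Fact p.Prime] (k : Type u) [Field k]
    [CharP k p] [PerfectField k] (r s : ℕ) (e : Fin r → ℕ) (f : Fin s → ℕ) (he : ∀ i, 1 ≤ e i) (hf : ∀ j, 1 ≤ f j)
    (φ : (MvPolynomial (Fin r) k ⧸ Ideal.span (Set.range fun i : Fin r => (MvPolynomial.X i : MvPolynomial (Fin r) k) ^ p ^ e i)) ≃ₐ[k]
      (MvPolynomial (Fin s) k ⧸ Ideal.span (Set.range fun j : Fin s => (MvPolynomial.X j : MvPolynomial (Fin s) k) ^ p ^ f j))) :
    ∃ σ : Fin r ≃ Fin s, ∀ i : Fin r, f (σ i) = e i := by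
  classical
  exact main p k r s e f he hf φ

end Groth.Agent.S16077
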