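import Groth.Statements.S16078
import Mathlib

set_option autoImplicit false
universe u
open scoped TensorProduct
open Hopf

namespace Groth.Agent.S16078

open TensorProduct

section
variable {R : Type u} [CommRing R] [Nontrivial R]

theorem idem_local {S : Type*} [CommRing S] [IsLocalRing S] (e : S) (he : IsIdempotentElem e) :
    e = 0 ∨ e = 1 := by
  rcases IsLocalRing.isUnit_or_isUnit_one_sub_self e with h | h
  · right
    have h1 : e * e = e * 1 := by rw [mul_one]; exact he
    exact h.mul_left_cancel h1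
  · left
    have h1 : (1 - e) * e = (1 - e) * 0 := by
      rw [mul_zero, sub_mul, one_mul, he.eq, sub_self]
    exact h.mul_left_cancel h1

/-- an element idempotent modulo `K` with augmentation one is one in the local quotient by `K` -/
theorem one_sub_mem {S : Type*} [CommRing S] (c : S →+* R) (K : Ideal S) (hK : K ≤ RingHom.ker c)
    [IsLocalRing (S ⧸ K)] (g : S) (hg : g * g - g ∈ K) (hcg : c g = 1) : 1 - g ∈ K := by
  have hidem : IsIdempotentElem (Ideal.Quotient.mk K g) := by
    show _ * _ = _
    rw [← map_mul, ← sub_eq_zero, ← map_sub, Ideal.Quotient.eq_zero_iff_mem]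
    exact hg
  rcases idem_local _ hidem with h | h
  · exfalso
    rw [Ideal.Quotient.eq_zero_iff_mem] at h
    have := hK h
    rw [RingHom.mem_ker, hcg] at this
    exact one_ne_zero this
  · rw [← Ideal.Quotient.eq_zero_iff_mem, map_sub, map_one, h, sub_self]

/-- consequence in the quotient by `J` -/
theorem mul_eq_of_one_sub_mem {S : Type*} [CommRing S] (J : Ideal S) (a b : S)
    (hb : IsIdempotentElem (Ideal.Quotient.mk J b)) (h : 1 - a ∈ J ⊔ Ideal.span ({1 - b} : Set S)) :
    Ideal.Quotient.mk J b * Ideal.Quotient.mk J a = Ideal.Quotient.mk J b := by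
  rw [Submodule.mem_sup] at h
  obtain ⟨j, hj, s, hs, hjs⟩ := h
  rw [Ideal.mem_span_singleton'] at hs
  obtain ⟨t, rfl⟩ := hs
  have h1 : Ideal.Quotient.mk J (1 - a) = Ideal.Quotient.mk J t * (1 - Ideal.Quotient.mk J b) := by
    rw [← hjs, map_add, Ideal.Quotient.eq_zero_iff_mem.2 hj, zero_add, map_mul, map_sub, map_one]
  rw [map_sub, map_one] at h1
  have h2 : Ideal.Quotient.mk J b * (1 - Ideal.Quotient.mk J a) = 0 := by
    rw [h1]
    calc Ideal.Quotient.mk J b * (Ideal.Quotient.mk J t * (1 - Ideal.Quotient.mk J b))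
        = Ideal.Quotient.mk J t * (Ideal.Quotient.mk J b - Ideal.Quotient.mk J b * Ideal.Quotient.mk J b) := by ring
      _ = 0 := by rw [hb.eq, sub_self, mul_zero]
  linear_combination -h2


theorem ff_lemma {A A'' : Type u} [CommRing A] [CommRing A''] [Algebra A'' A] [Module.Finite A'' A]
    [Module.Flat A'' A] (e : A) (he : IsIdempotentElem e) (e'' : A'') (he'' : IsIdempotentElem e'')
    [IsLocalRing (A ⧸ Ideal.span ({1 - e} : Set A))] [IsLocalRing (A'' ⧸ Ideal.span ({1 - e''} : Set A''))]
    (g : (A'' ⧸ Ideal.span ({1 - e''} : Set A'')) →+* (A ⧸ Ideal.span ({1 - e} : Set A)))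
    (hg : g.comp (Ideal.Quotient.mk (Ideal.span ({1 - e''} : Set A''))) =
      (Ideal.Quotient.mk (Ideal.span ({1 - e} : Set A))).comp (algebraMap A'' A)) :
    g.FaithfullyFlat := by
  letI : Algebra (A'' ⧸ Ideal.span ({1 - e''} : Set A'')) (A ⧸ Ideal.span ({1 - e} : Set A)) := g.toAlgebra
  have hst : IsScalarTower A'' (A'' ⧸ Ideal.span ({1 - e''} : Set A'')) (A ⧸ Ideal.span ({1 - e} : Set A)) :=
    IsScalarTower.of_algebraMap_eq (fun x => by
      have := congrArg (fun f => f x) hg
      exact this.symm)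
  have loc'' : IsLocalization.Away e'' (A'' ⧸ Ideal.span ({1 - e''} : Set A'')) :=
    IsLocalization.Away.quotient_of_isIdempotentElem he''
  have loc : IsLocalization.Away e (A ⧸ Ideal.span ({1 - e} : Set A)) :=
    IsLocalization.Away.quotient_of_isIdempotentElem he
  have f1 : Module.Flat A (A ⧸ Ideal.span ({1 - e} : Set A)) :=
    IsLocalization.flat (A ⧸ Ideal.span ({1 - e} : Set A)) (Submonoid.powers e)
  have f2 : Module.Flat A'' (A ⧸ Ideal.span ({1 - e} : Set A)) :=
    Module.Flat.trans A'' A (A ⧸ Ideal.span ({1 - e} : Set A))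
  have f3 : Module.Flat (A'' ⧸ Ideal.span ({1 - e''} : Set A'')) (A ⧸ Ideal.span ({1 - e} : Set A)) :=
    (Module.flat_iff_of_isLocalization (A'' ⧸ Ideal.span ({1 - e''} : Set A'')) (Submonoid.powers e'')
      (A ⧸ Ideal.span ({1 - e} : Set A))).2 f2
  have g1 : Module.Finite A'' (A ⧸ Ideal.span ({1 - e} : Set A)) :=
    Module.Finite.trans A (A ⧸ Ideal.span ({1 - e} : Set A))
  have g2 : Module.Finite (A'' ⧸ Ideal.span ({1 - e''} : Set A'')) (A ⧸ Ideal.span ({1 - e} : Set A)) :=
    Module.Finite.of_restrictScalars_finite A'' _ _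
  have hloc : IsLocalHom (algebraMap (A'' ⧸ Ideal.span ({1 - e''} : Set A'')) (A ⧸ Ideal.span ({1 - e} : Set A))) := by
    have hmax : ((IsLocalRing.maximalIdeal (A ⧸ Ideal.span ({1 - e} : Set A))).comap
        (algebraMap (A'' ⧸ Ideal.span ({1 - e''} : Set A'')) (A ⧸ Ideal.span ({1 - e} : Set A)))).IsMaximal :=
      Ideal.isMaximal_comap_of_isIntegral_of_isMaximal _
    exact ((IsLocalRing.local_hom_TFAE _).out 4 0).1 (IsLocalRing.eq_maximalIdeal hmax)
  exact Module.FaithfullyFlat.of_flat_of_isLocalHom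

end

/-- Let R be a henselian Noetherian local ring, A and A'' commutative Hopf algebras over R which are
finite and flat as R-modules, and A'' → A an R-algebra homomorphism compatible with
comultiplications and counits making A faithfully flat over A'' (a faithfully flat homomorphism π :
G → G'' of finite flat R-groups); let J ⊆ A be the ideal generated by the image of the augmentation
ideal of A'' (G' = Spec A/J = ker π, so that 1 → G' → G → G'' → 1 is exact). Let e ∈ A and e'' ∈ A''
be idempotents with ε(e) = 1, ε(e'') = 1 and A/(1 − e), A''/(1 − e'') local rings (the unit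
components G⁰ and G''⁰), and let e' ∈ A be an element whose image in A/J is an idempotent, with
ε(e') = 1 and A/(J + (1 − e')) local (so G'⁰ = Spec (A/J)/(1 − e') is the unit component of G').
Suppose g : A''/(1 − e'') → A/(1 − e) is the ring homomorphism induced by A'' → A (the restriction
π⁰ : G⁰ → G''⁰ of π, which exists because G⁰ is connected). Then g is faithfully flat, and e ≡ e'
modulo J, i.e. J + (1 − e) = J + (1 − e') and the kernel of π⁰, which is cut out in G⁰ by J, is
exactly G'⁰: the sequence 1 → G'⁰ → G⁰ → G''⁰ → 1 is exact. (The published statement also asserts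
exactness of the maximal étale quotient G ↦ G^ét, not stated here.) -/
theorem result (R : Type u) [CommRing R] [HenselianLocalRing R]
    [IsNoetherianRing R] (A A'' : Type u) [CommRing A] [HopfAlgebra R A] [Module.Finite R A] [Module.Flat R A]
    [CommRing A''] [HopfAlgebra R A''] [Module.Finite R A''] [Module.Flat R A'']
    [Algebra A'' A] [IsScalarTower R A'' A] [Module.FaithfullyFlat A'' A]
    (hΔ : (Bialgebra.comulAlgHom R A).comp (IsScalarTower.toAlgHom R A'' A) =
      (Algebra.TensorProduct.map (IsScalarTower.toAlgHom R A'' A) (IsScalarTower.toAlgHom R A'' A)).comp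
        (Bialgebra.comulAlgHom R A''))
    (hε : (Bialgebra.counitAlgHom R A).comp (IsScalarTower.toAlgHom R A'' A) = Bialgebra.counitAlgHom R A'')
    (e : A) (he : IsIdempotentElem e) (heε : Bialgebra.counitAlgHom R A e = 1)
    [IsLocalRing (A ⧸ Ideal.span ({1 - e} : Set A))]
    (e'' : A'') (he'' : IsIdempotentElem e'') (he''ε : Bialgebra.counitAlgHom R A'' e'' = 1)
    [IsLocalRing (A'' ⧸ Ideal.span ({1 - e''} : Set A''))]
    (e' : A) (he' : IsIdempotentElem (Ideal.Quotient.mk ((RingHom.ker (Bialgebra.counitAlgHom R A'')).map (algebraMap A'' A)) e'))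
    (he'ε : Bialgebra.counitAlgHom R A e' = 1)
    [IsLocalRing (A ⧸ (((RingHom.ker (Bialgebra.counitAlgHom R A'')).map (algebraMap A'' A)) ⊔ Ideal.span ({1 - e'} : Set A)))]
    (g : (A'' ⧸ Ideal.span ({1 - e''} : Set A'')) →+* (A ⧸ Ideal.span ({1 - e} : Set A)))
    (hg : g.comp (Ideal.Quotient.mk (Ideal.span ({1 - e''} : Set A''))) =
      (Ideal.Quotient.mk (Ideal.span ({1 - e} : Set A))).comp (algebraMap A'' A)) :
    g.FaithfullyFlat ∧
      Ideal.Quotient.mk ((RingHom.ker (Bialgebra.counitAlgHom R A'')).map (algebraMap A'' A)) e = Ideal.Quotient.mk ((RingHom.ker (Bialgebra.counitAlgHom R A'')).map (algebraMap A'' A)) e' := by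
  classical
  have hnt : Nontrivial R := inferInstance
  have hfin : Module.Finite A'' A := Module.Finite.of_restrictScalars_finite R A'' A
  refine ⟨ff_lemma e he e'' he'' g hg, ?_⟩
  have hJ : ((RingHom.ker (Bialgebra.counitAlgHom R A'')).map (algebraMap A'' A)) ≤ RingHom.ker (Bialgebra.counitAlgHom R A : A →+* R) := by
    rw [Ideal.map_le_iff_le_comap]
    intro a ha
    rw [Ideal.mem_comap, RingHom.mem_ker]
    have h1 := congrArg (fun f => f a) hε
    rw [RingHom.mem_ker] at ha
    exact h1.trans ha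
  have hspan : ∀ a : A, Bialgebra.counitAlgHom R A a = 1 →
      Ideal.span ({1 - a} : Set A) ≤ RingHom.ker (Bialgebra.counitAlgHom R A : A →+* R) := by
    intro a ha
    rw [Ideal.span_le, Set.singleton_subset_iff]
    show 1 - a ∈ RingHom.ker (Bialgebra.counitAlgHom R A : A →+* R)
    rw [RingHom.mem_ker, map_sub, map_one]
    show 1 - Bialgebra.counitAlgHom R A a = 0
    rw [ha, sub_self]
  have k1 : 1 - e ∈ ((RingHom.ker (Bialgebra.counitAlgHom R A'')).map (algebraMap A'' A)) ⊔ Ideal.span ({1 - e'} : Set A) :=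
    one_sub_mem (R := R) (Bialgebra.counitAlgHom R A : A →+* R) _ (sup_le hJ (hspan e' he'ε)) e
      (by rw [he.eq, sub_self]; exact zero_mem _) heε
  have hne : ((RingHom.ker (Bialgebra.counitAlgHom R A'')).map (algebraMap A'' A)) ⊔ Ideal.span ({1 - e} : Set A) ≠ ⊤ := by
    intro htop
    have h1 : (1 : A) ∈ RingHom.ker (Bialgebra.counitAlgHom R A : A →+* R) :=
      (sup_le hJ (hspan e heε)) (htop ▸ Submodule.mem_top)
    rw [RingHom.mem_ker, map_one] at h1
    exact one_ne_zero h1
  have hnt2 : Nontrivial (A ⧸ (((RingHom.ker (Bialgebra.counitAlgHom R A'')).map (algebraMap A'' A)) ⊔ Ideal.span ({1 - e} : Set A))) := Ideal.Quotient.nontrivial_iff.2 hne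
  have hloc2 : IsLocalRing (A ⧸ (((RingHom.ker (Bialgebra.counitAlgHom R A'')).map (algebraMap A'' A)) ⊔ Ideal.span ({1 - e} : Set A))) :=
    IsLocalRing.of_surjective' (Ideal.Quotient.factor (le_sup_right : Ideal.span ({1 - e} : Set A) ≤ _))
      (Ideal.Quotient.factor_surjective _)
  have k2 : 1 - e' ∈ ((RingHom.ker (Bialgebra.counitAlgHom R A'')).map (algebraMap A'' A)) ⊔ Ideal.span ({1 - e} : Set A) :=
    one_sub_mem (R := R) (Bialgebra.counitAlgHom R A : A →+* R) _ (sup_le hJ (hspan e heε)) e'
      (by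
        apply Ideal.mem_sup_left
        rw [← Ideal.Quotient.eq_zero_iff_mem, map_sub, map_mul, sub_eq_zero]
        exact he') he'ε
  have m1 := mul_eq_of_one_sub_mem ((RingHom.ker (Bialgebra.counitAlgHom R A'')).map (algebraMap A'' A)) e e' he' k1
  have m2 := mul_eq_of_one_sub_mem ((RingHom.ker (Bialgebra.counitAlgHom R A'')).map (algebraMap A'' A)) e' e (he.map (Ideal.Quotient.mk ((RingHom.ker (Bialgebra.counitAlgHom R A'')).map (algebraMap A'' A)))) k2
  rw [← m2, mul_comm, m1]

end Groth.Agent.S16078
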