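import Groth.Statements.S16079
import Mathlib

set_option autoImplicit false
universe u
open scoped TensorProduct
open Hopf

namespace Groth.Agent.S16079

open TensorProduct

section
variable {R : Type u} [CommRing R] {A B : Type u} [CommRing A] [HopfAlgebra R A] [CommRing B] [HopfAlgebra R B]

/-- the map induced on quotients by Hopf ideals -/
theorem exists_quot_map (ψ : B →ₐc[R] A) (IB : Ideal B) (IA : Ideal A) [IB.IsHopfIdeal R] [IA.IsHopfIdeal R]
    (h : ∀ b ∈ IB, ψ b ∈ IA) :
    ∃ ψ0 : (B ⧸ IB) →ₐc[R] (A ⧸ IA), ∀ b, ψ0 (Ideal.Quotient.mk IB b) = Ideal.Quotient.mk IA (ψ b) := by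
  let f : (B ⧸ IB) →ₐ[R] (A ⧸ IA) := Ideal.Quotient.liftₐ IB ((Ideal.Quotient.mkₐ R IA).comp (ψ : B →ₐ[R] A))
    (by
      intro b hb
      rw [AlgHom.comp_apply, Ideal.Quotient.mkₐ_eq_mk, Ideal.Quotient.eq_zero_iff_mem]
      exact h b hb)
  have hf : ∀ b, f (Ideal.Quotient.mk IB b) = Ideal.Quotient.mk IA (ψ b) := fun b => rfl
  refine ⟨BialgHom.ofAlgHom f ?_ ?_, hf⟩
  · apply Ideal.Quotient.algHom_ext
    apply AlgHom.ext
    intro b
    show Coalgebra.counit (R := R) (f (Ideal.Quotient.mk IB b)) = Coalgebra.counit (R := R) (Ideal.Quotient.mk IB b)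
    rw [hf, Bialgebra.Quotient.counit_mk, Bialgebra.Quotient.counit_mk, CoalgHomClass.counit_comp_apply]
  · apply Ideal.Quotient.algHom_ext
    apply AlgHom.ext
    intro b
    show TensorProduct.map f.toLinearMap f.toLinearMap (Coalgebra.comul (R := R) (Ideal.Quotient.mk IB b)) =
      Coalgebra.comul (R := R) (f (Ideal.Quotient.mk IB b))
    rw [hf, Bialgebra.Quotient.comul_mk, Bialgebra.Quotient.comul_mk, ← CoalgHomClass.map_comp_comul_apply]
    have e1 : ∀ t : B ⊗[R] B, TensorProduct.map f.toLinearMap f.toLinearMap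
        (TensorProduct.map (Ideal.Quotient.mkₐ R IB).toLinearMap (Ideal.Quotient.mkₐ R IB).toLinearMap t) =
        TensorProduct.map (Ideal.Quotient.mkₐ R IA).toLinearMap (Ideal.Quotient.mkₐ R IA).toLinearMap
          (TensorProduct.map (ψ : B →ₗ[R] A) (ψ : B →ₗ[R] A) t) := by
      intro t
      induction t using TensorProduct.induction_on with
      | zero => simp only [map_zero]
      | tmul x y => rfl
      | add x y hx hy => simp only [map_add, hx, hy]
    exact e1 _


theorem idem_local {S : Type*} [CommRing S] [IsLocalRing S] (e : S) (he : IsIdempotentElem e) :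
    e = 0 ∨ e = 1 := by
  rcases IsLocalRing.isUnit_or_isUnit_one_sub_self e with h | h
  · right
    have h1 : e * e = e * 1 := by rw [mul_one]; exact he
    exact h.mul_left_cancel h1
  · left
    have h1 : (1 - e) * e = (1 - e) * 0 := by
      rw [mul_zero, sub_mul, one_mul, he.eq, sub_self]
    exact h.mul_left_cancel h1

/-- an idempotent with counit one maps to one in the local quotient by another such idempotent -/
theorem mk_eq_one_of_counit {S : Type*} [CommRing S] (c : S →+* R) [Nontrivial R] (e g : S)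
    [IsLocalRing (S ⧸ Ideal.span ({1 - e} : Set S))] (hce : c e = 1) (hg : IsIdempotentElem g)
    (hcg : c g = 1) : Ideal.Quotient.mk (Ideal.span ({1 - e} : Set S)) g = 1 := by
  have hidem : IsIdempotentElem (Ideal.Quotient.mk (Ideal.span ({1 - e} : Set S)) g) := by
    show _ * _ = _
    rw [← map_mul, hg.eq]
  rcases idem_local _ hidem with h | h
  · exfalso
    rw [Ideal.Quotient.eq_zero_iff_mem, Ideal.mem_span_singleton'] at h
    obtain ⟨a, ha⟩ := h
    have := congrArg c ha
    rw [map_mul, map_sub, map_one, hce, sub_self, mul_zero, hcg] at this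
    exact zero_ne_one this
  · exact h

end

/-- Let R be a henselian Noetherian local ring, A and B commutative and cocommutative Hopf algebras over
R which are finitely generated and projective as R-modules (finite flat commutative R-groups G =
Spec A and H = Spec B), and ψ : B → A an R-bialgebra homomorphism (a homomorphism φ : G → H). Let
e_A ∈ A be an idempotent with ε(e_A) = 1 such that (1 − e_A) is a Hopf ideal and A⁰ = A/(1 − e_A) is
local, R-projective and cocommutative (the unit component G⁰), and let e'_A be an idempotent of the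
dual Hopf algebra Hom_R(A⁰, R) with ε(e'_A) = 1 and local quotient by (1 − e'_A) (the unit component
of the Cartier dual (G⁰)^D); similarly e_B, B⁰ = B/(1 − e_B) and e'_B for H. Call a linear form x on
A⁰ invariant when (id ⊗ multiplication by e'_A)(Δx) = x ⊗ e'_A, i.e. x is invariant under
translation by the unit component of (G⁰)^D and so lies in the Hopf algebra of its étale quotient;
the elements of A⁰ annihilated by all invariant x form the ideal of G_μ ⊆ G⁰ ⊆ G, the largest
connected multiplicative closed subgroup of G; likewise for B and H_μ. Then the filtration G_μ ⊆ G⁰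
⊆ G is respected by φ at the G_μ step: φ maps G_μ into H_μ, i.e. for every b ∈ B whose image in B⁰
is annihilated by all invariant linear forms on B⁰ (b in the ideal of H_μ), the image of ψ(b) in A⁰
is annihilated by all invariant linear forms on A⁰ (ψ(b) in the ideal of G_μ). (That φ maps G⁰ into
H⁰ is the universal property of the unit component and is not restated.) -/
theorem result (R : Type u) [CommRing R]
    [HenselianLocalRing R] [IsNoetherianRing R] (A B : Type u) [CommRing A] [HopfAlgebra R A] [Coalgebra.IsCocomm R A]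
    [Module.Finite R A] [Module.Projective R A] [CommRing B] [HopfAlgebra R B] [Coalgebra.IsCocomm R B]
    [Module.Finite R B] [Module.Projective R B] (ψ : B →ₐc[R] A)
    (eA : A) (heA : IsIdempotentElem eA) (heAε : Bialgebra.counitAlgHom R A eA = 1)
    [(Ideal.span ({1 - eA} : Set A)).IsHopfIdeal R] [IsLocalRing (A ⧸ Ideal.span ({1 - eA} : Set A))] [Module.Projective R (A ⧸ Ideal.span ({1 - eA} : Set A))] [Coalgebra.IsCocomm R (A ⧸ Ideal.span ({1 - eA} : Set A))]
    (fA : CartDual.D R (A ⧸ Ideal.span ({1 - eA} : Set A))) (hfA : IsIdempotentElem fA)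
    (hfAε : Bialgebra.counitAlgHom R (CartDual.D R (A ⧸ Ideal.span ({1 - eA} : Set A))) fA = 1)
    [IsLocalRing (CartDual.D R (A ⧸ Ideal.span ({1 - eA} : Set A)) ⧸ Ideal.span ({1 - fA} : Set (CartDual.D R (A ⧸ Ideal.span ({1 - eA} : Set A)))))]
    (eB : B) (heB : IsIdempotentElem eB) (heBε : Bialgebra.counitAlgHom R B eB = 1)
    [(Ideal.span ({1 - eB} : Set B)).IsHopfIdeal R] [IsLocalRing (B ⧸ Ideal.span ({1 - eB} : Set B))] [Module.Projective R (B ⧸ Ideal.span ({1 - eB} : Set B))] [Coalgebra.IsCocomm R (B ⧸ Ideal.span ({1 - eB} : Set B))]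
    (fB : CartDual.D R (B ⧸ Ideal.span ({1 - eB} : Set B))) (hfB : IsIdempotentElem fB)
    (hfBε : Bialgebra.counitAlgHom R (CartDual.D R (B ⧸ Ideal.span ({1 - eB} : Set B))) fB = 1)
    [IsLocalRing (CartDual.D R (B ⧸ Ideal.span ({1 - eB} : Set B)) ⧸ Ideal.span ({1 - fB} : Set (CartDual.D R (B ⧸ Ideal.span ({1 - eB} : Set B)))))]
    (b : B) (hb : ∀ y : CartDual.D R (B ⧸ Ideal.span ({1 - eB} : Set B)), LinearMap.lTensor (CartDual.D R (B ⧸ Ideal.span ({1 - eB} : Set B))) (LinearMap.mulLeft R fB) (Coalgebra.comul (R := R) y) = y ⊗ₜ[R] fB → y (Ideal.Quotient.mk (Ideal.span ({1 - eB} : Set B)) b) = 0)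
    (x : CartDual.D R (A ⧸ Ideal.span ({1 - eA} : Set A))) (hx : LinearMap.lTensor (CartDual.D R (A ⧸ Ideal.span ({1 - eA} : Set A))) (LinearMap.mulLeft R fA) (Coalgebra.comul (R := R) x) = x ⊗ₜ[R] fA) :
    x (Ideal.Quotient.mk (Ideal.span ({1 - eA} : Set A)) (ψ b)) = 0 := by
  classical
  have hnt : Nontrivial R := inferInstance
  have h1 : Ideal.Quotient.mk (Ideal.span ({1 - eA} : Set A)) (ψ eB) = 1 :=
    mk_eq_one_of_counit (R := R) (Bialgebra.counitAlgHom R A : A →+* R) eA (ψ eB) heAε (heB.map ψ)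
      (by
        show Bialgebra.counitAlgHom R A (ψ eB) = 1
        rw [Bialgebra.counitAlgHom_apply, CoalgHomClass.counit_comp_apply]
        exact heBε)
  have hmem : ∀ b ∈ Ideal.span ({1 - eB} : Set B), ψ b ∈ Ideal.span ({1 - eA} : Set A) := by
    intro b hb
    rw [Ideal.mem_span_singleton'] at hb
    obtain ⟨a, rfl⟩ := hb
    rw [map_mul]
    apply Ideal.mul_mem_left
    rw [← Ideal.Quotient.eq_zero_iff_mem, map_sub, map_one, map_sub, h1, map_one, sub_self]
  obtain ⟨ψ0, hψ0⟩ := exists_quot_map ψ _ _ hmem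
  have hg : IsIdempotentElem (CartDual.transpose R ψ0 fA) := hfA.map (CartDual.transpose R ψ0)
  have hcg : Bialgebra.counitAlgHom R (CartDual.D R (B ⧸ Ideal.span ({1 - eB} : Set B)))
      (CartDual.transpose R ψ0 fA) = 1 := by
    rw [Bialgebra.counitAlgHom_apply, CoalgHomClass.counit_comp_apply]
    exact hfAε
  have h2 := mk_eq_one_of_counit (R := R)
    (Bialgebra.counitAlgHom R (CartDual.D R (B ⧸ Ideal.span ({1 - eB} : Set B))) :
      CartDual.D R (B ⧸ Ideal.span ({1 - eB} : Set B)) →+* R) fB (CartDual.transpose R ψ0 fA) hfBε hg hcg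
  have h3 : fB * CartDual.transpose R ψ0 fA = fB := by
    have hm : (1 - CartDual.transpose R ψ0 fA) ∈ Ideal.span ({1 - fB} : Set (CartDual.D R (B ⧸ Ideal.span ({1 - eB} : Set B)))) := by
      rw [← Ideal.Quotient.eq_zero_iff_mem, map_sub, map_one, h2, sub_self]
    rw [Ideal.mem_span_singleton'] at hm
    obtain ⟨c, hc⟩ := hm
    have h0 : fB * (1 - CartDual.transpose R ψ0 fA) = 0 := by
      rw [← hc]
      calc fB * (c * (1 - fB)) = c * (fB - fB * fB) := by ring
        _ = 0 := by rw [hfB.eq, sub_self, mul_zero]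
    linear_combination -h0
  have hy : LinearMap.lTensor (CartDual.D R (B ⧸ Ideal.span ({1 - eB} : Set B))) (LinearMap.mulLeft R fB)
      (Coalgebra.comul (R := R) (CartDual.transpose R ψ0 x)) = (CartDual.transpose R ψ0 x) ⊗ₜ[R] fB := by
    have e1 : Coalgebra.comul (R := R) (CartDual.transpose R ψ0 x) =
        TensorProduct.map (CartDual.transpose R ψ0 : CartDual.D R (A ⧸ Ideal.span ({1 - eA} : Set A)) →ₗ[R] CartDual.D R (B ⧸ Ideal.span ({1 - eB} : Set B))) (CartDual.transpose R ψ0 : CartDual.D R (A ⧸ Ideal.span ({1 - eA} : Set A)) →ₗ[R] CartDual.D R (B ⧸ Ideal.span ({1 - eB} : Set B)))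
          (Coalgebra.comul (R := R) x) :=
      (CoalgHomClass.map_comp_comul_apply (CartDual.transpose R ψ0) x).symm
    have e2 : ∀ t : CartDual.D R (A ⧸ Ideal.span ({1 - eA} : Set A)) ⊗[R] CartDual.D R (A ⧸ Ideal.span ({1 - eA} : Set A)),
        LinearMap.lTensor _ (LinearMap.mulLeft R (CartDual.transpose R ψ0 fA))
          (TensorProduct.map (CartDual.transpose R ψ0 : CartDual.D R (A ⧸ Ideal.span ({1 - eA} : Set A)) →ₗ[R] CartDual.D R (B ⧸ Ideal.span ({1 - eB} : Set B))) (CartDual.transpose R ψ0 : CartDual.D R (A ⧸ Ideal.span ({1 - eA} : Set A)) →ₗ[R] CartDual.D R (B ⧸ Ideal.span ({1 - eB} : Set B))) t) =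
        TensorProduct.map (CartDual.transpose R ψ0 : CartDual.D R (A ⧸ Ideal.span ({1 - eA} : Set A)) →ₗ[R] CartDual.D R (B ⧸ Ideal.span ({1 - eB} : Set B))) (CartDual.transpose R ψ0 : CartDual.D R (A ⧸ Ideal.span ({1 - eA} : Set A)) →ₗ[R] CartDual.D R (B ⧸ Ideal.span ({1 - eB} : Set B)))
          (LinearMap.lTensor _ (LinearMap.mulLeft R fA) t) := by
      intro t
      induction t using TensorProduct.induction_on with
      | zero => simp only [map_zero]
      | tmul u v =>
        rw [TensorProduct.map_tmul, LinearMap.lTensor_tmul, LinearMap.lTensor_tmul, TensorProduct.map_tmul,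
          LinearMap.mulLeft_apply, LinearMap.mulLeft_apply]
        congr 1
        exact (map_mul (CartDual.transpose R ψ0) fA v).symm
      | add u v hu hv => simp only [map_add, hu, hv]
    have e3 : LinearMap.lTensor _ (LinearMap.mulLeft R (CartDual.transpose R ψ0 fA))
        (Coalgebra.comul (R := R) (CartDual.transpose R ψ0 x)) =
        (CartDual.transpose R ψ0 x) ⊗ₜ[R] (CartDual.transpose R ψ0 fA) := by
      rw [e1, e2, hx, TensorProduct.map_tmul]
      rfl
    have e4 := congrArg (LinearMap.lTensor (CartDual.D R (B ⧸ Ideal.span ({1 - eB} : Set B))) (LinearMap.mulLeft R fB)) e3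
    rw [← LinearMap.comp_apply, ← LinearMap.lTensor_comp, LinearMap.lTensor_tmul, LinearMap.mulLeft_apply,
      ← LinearMap.mulLeft_mul, h3] at e4
    exact e4
  have hfin := hb (CartDual.transpose R ψ0 x) hy
  rw [CartDual.transpose_apply, hψ0] at hfin
  exact hfin

end Groth.Agent.S16079
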