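import Groth.Statements.S1608
-- import your own Groth.Agent.* helpers here
import Groth.Agent.Lib.Helper7.QFCodim.Main

set_option autoImplicit false
universe u
open CategoryTheory CategoryTheory.Limits AlgebraicGeometry
open Variety

namespace Groth.Agent.S1608

/-- Let f : X → Y be locally of finite type, and let y ∈ Y be a point whose local ring is Noetherian of
dimension at most one. Suppose f is quasi-finite at the generic point of each irreducible component
of X. Then f is quasi-finite at each point x of X with f(x) = y. -/
theorem result {X Y : Scheme.{u}} (f : X ⟶ Y) [LocallyOfFiniteType f]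
    (y : Y) [IsNoetherianRing (Y.presheaf.stalk y)] (hy : ringKrullDim (Y.presheaf.stalk y) ≤ 1)
    (hgen : ∀ Z ∈ irreducibleComponents (X : Type u), ∀ η : X, IsGenericPoint η Z → f.QuasiFiniteAt η)
    (x : X) (hx : f.base x = y) : f.QuasiFiniteAt x := by
  apply Groth.Agent.Helper7.QFCodim.quasiFiniteAt_of_stalk_dim_le_one f y hy _ x hx
  intro ξ hmax
  exact hgen _ (Groth.Agent.Lib.Helper4.Chev6.closure_mem_irreducibleComponents_of_max ξ hmax) ξ rfl

end Groth.Agent.S1608
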