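import Groth.Statements.S16098
import Mathlib
import Groth.Prelude.Def_W4bk4goldsch23FF
import Groth.Prelude.Def_AdFn
import Groth.Agent.Lib.Helper9.AdFnDense
import Groth.Agent.Lib.Helper4.FF.StrongApprox
-- import your own Groth.Agent.* helpers here

set_option autoImplicit false
universe u
open AdFn

namespace Groth.Agent.S16098

open AdFn
open Groth.Agent.Lib.Helper9.AdFnDense
namespace Aux

theorem main (k K : Type u) [Field k] [Field K]
    [Algebra k K] (hK : FunFld.IsFunctionField k K) [AdFn.HasFinitePoles k K]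
    (S : Set (FunFld.Place k K)) (hS : S.Nonempty) :
    (∀ a : AdFn.AdeleRing k K, ∃ f : K, ∀ v : FunFld.Place k K, v ∉ S →
        AdFn.AdeleRing.proj v (a - AdFn.AdeleRing.diag f) ∈ AdFn.Ov v) ∧
    (∀ b : AdFn.AdeleRing k K, (∀ v : FunFld.Place k K, v ∉ S → AdFn.AdeleRing.proj v b = 0) →
        ((∃ f : K, ∀ v : FunFld.Place k K, AdFn.AdeleRing.proj v (b - AdFn.AdeleRing.diag f) ∈ AdFn.Ov v) ↔
          ∃ f ∈ AdFn.SInt S, ∀ v ∈ S, AdFn.AdeleRing.proj v b - AdFn.toKv v f ∈ AdFn.Ov v)) := by
  classical
  constructor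
  · intro a
    obtain ⟨Pinf, hPinf⟩ := hS
    have hfin : {v : FunFld.Place k K | ¬ (a.1 v ∈ (Ov v : Set (Kv v)))}.Finite := a.2
    set F : Finset (FunFld.Place k K) := hfin.toFinset.erase Pinf with hF
    have hPF : Pinf ∉ F := Finset.notMem_erase _ _
    choose x hx using fun v : FunFld.Place k K => exists_sub_mem_Ov v (a.1 v)
    obtain ⟨z, hz1, hz2⟩ := Groth.Agent.Lib.Helper4.FF.strong_approx_le hK Pinf F hPF x (fun _ => 0)
    refine ⟨z, fun v hv => ?_⟩
    have hvP : v ≠ Pinf := fun h => hv (h ▸ hPinf)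
    rw [map_sub, AdeleRing.proj_diag, AdeleRing.proj_apply]
    by_cases hvF : v ∈ F
    · have h1 := hz1 v hvF
      simp only [neg_zero, WithZero.exp_zero] at h1
      have h2 : toKv v (z - x v) ∈ Ov v := (toKv_mem_Ov v _).2 h1
      have h3 : a.1 v - toKv v z = (a.1 v - toKv v (x v)) - toKv v (z - x v) := by
        rw [map_sub]; ring
      rw [h3]
      exact (Ov v).sub_mem (hx v) h2
    · have h1 : a.1 v ∈ Ov v := by
        by_contra hcon
        apply hvF
        rw [hF, Finset.mem_erase]
        exact ⟨hvP, hfin.mem_toFinset.2 hcon⟩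
      have h2 : toKv v z ∈ Ov v := (toKv_mem_Ov v _).2 (hz2 v hvF hvP)
      exact (Ov v).sub_mem h1 h2
  · intro b hb
    constructor
    · rintro ⟨f, hf⟩
      refine ⟨f, ?_, fun v _ => ?_⟩
      · intro v hv
        have h1 := hf v
        rw [map_sub, hb v hv, zero_sub, AdeleRing.proj_diag] at h1
        have h2 : toKv v f ∈ Ov v := by simpa using (Ov v).neg_mem _ h1
        exact (toKv_mem_Ov v f).1 h2
      · have h1 := hf v
        rwa [map_sub, AdeleRing.proj_diag] at h1
    · rintro ⟨f, hfS, hf⟩
      refine ⟨f, fun v => ?_⟩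
      rw [map_sub, AdeleRing.proj_diag]
      by_cases hv : v ∈ S
      · exact hf v hv
      · rw [hb v hv, zero_sub]
        exact (Ov v).neg_mem _ ((toKv_mem_Ov v f).2 (hfS v hv))

end Aux

/-- Let `K/k` be a function field of one variable (every element having finitely many poles, so that the
diagonal `K → A_K` exists), `A_K = ∏'_v (K_v, O_v)` its adele ring over all places, and `S` a
nonempty set of places. (1) For every adele `a` some `f ∈ K` has `a_v - f ∈ O_v` at every place `v ∉
S`: `A_K` is the sum of the principal adeles and the adeles integral outside `S`. (2) An adele `b`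
with `b_v = 0` for `v ∉ S` is a principal adele plus an everywhere-integral adele exactly when some
`S`-integer `f ∈ K` has `b_v - f ∈ O_v` for every `v ∈ S`. (The published statement is for a curve
over an algebraically closed field, possibly singular; here it is stated for the places of a
function field `K/k` of one variable over any field `k` algebraically closed in `K`.) -/
theorem result (k K : Type u) [Field k] [Field K]
    [Algebra k K] (hK : FunFld.IsFunctionField k K) [AdFn.HasFinitePoles k K]
    (S : Set (FunFld.Place k K)) (hS : S.Nonempty) :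
    (∀ a : AdFn.AdeleRing k K, ∃ f : K, ∀ v : FunFld.Place k K, v ∉ S →
        AdFn.AdeleRing.proj v (a - AdFn.AdeleRing.diag f) ∈ AdFn.Ov v) ∧
    (∀ b : AdFn.AdeleRing k K, (∀ v : FunFld.Place k K, v ∉ S → AdFn.AdeleRing.proj v b = 0) →
        ((∃ f : K, ∀ v : FunFld.Place k K, AdFn.AdeleRing.proj v (b - AdFn.AdeleRing.diag f) ∈ AdFn.Ov v) ↔
          ∃ f ∈ AdFn.SInt S, ∀ v ∈ S, AdFn.AdeleRing.proj v b - AdFn.toKv v f ∈ AdFn.Ov v)) := by
  exact Aux.main k K hK S hS

end Groth.Agent.S16098
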