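import Groth.Statements.S16100
import Mathlib
import Groth.Prelude.Def_W4bk4goldsch23FF
import Groth.Prelude.Def_AdFn
import Groth.Agent.Lib.Helper9.AdFnDense
import Groth.Agent.Lib.Helper4.FF.Gap
-- import your own Groth.Agent.* helpers here

set_option autoImplicit false
universe u
open AdFn

namespace Groth.Agent.S16100

open AdFn
open Groth.Agent.Lib.Helper9.AdFnDense
namespace Aux

variable {k K : Type u} [Field k] [Field K] [Algebra k K]

/-- `O_v` as a `k`-submodule of `K_v` -/
noncomputable def OvSub (P : FunFld.Place k K) : Submodule k (Kv P) where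
  carrier := (Ov P : Set (Kv P))
  add_mem' ha hb := (Ov P).add_mem _ _ ha hb
  zero_mem' := (Ov P).zero_mem
  smul_mem' c x hx := by
    have h1 : c • x = toKv P (algebraMap k K c) * x := by
      rw [Algebra.smul_def]
      rfl
    have h2 : toKv P (algebraMap k K c) ∈ Ov P := (toKv_mem_Ov P _).2 (P.2.1 c)
    change c • x ∈ Ov P
    rw [h1]
    exact (Ov P).mul_mem _ _ h2 hx

lemma span_Ov (P : FunFld.Place k K) :
    Submodule.span k (Ov P : Set (Kv P)) = OvSub P :=
  Submodule.span_eq (OvSub P)

theorem main (k K : Type u) [Field k] [Field K]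
    [Algebra k K] (hK : FunFld.IsFunctionField k K) (P : FunFld.Place k K) :
    FiniteDimensional k (AdFn.Kv P ⧸
        (Subalgebra.toSubmodule ((AdFn.SInt ({P} : Set (FunFld.Place k K))).map
            (IsScalarTower.toAlgHom k K (AdFn.Kv P))) ⊔
          Submodule.span k (AdFn.Ov P : Set (AdFn.Kv P)))) ∧
    Module.finrank k (AdFn.Kv P ⧸
        (Subalgebra.toSubmodule ((AdFn.SInt ({P} : Set (FunFld.Place k K))).map
            (IsScalarTower.toAlgHom k K (AdFn.Kv P))) ⊔
          Submodule.span k (AdFn.Ov P : Set (AdFn.Kv P)))) = FunFld.genus k K := by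
  set W : Submodule k (Kv P) := (Subalgebra.toSubmodule ((AdFn.SInt ({P} : Set (FunFld.Place k K))).map
            (IsScalarTower.toAlgHom k K (AdFn.Kv P))) ⊔
          Submodule.span k (AdFn.Ov P : Set (AdFn.Kv P))) with hW
  set U : Submodule k K := (Subalgebra.toSubmodule (AdFn.SInt ({P} : Set (FunFld.Place k K))) ⊔
        Subalgebra.toSubmodule (AdFn.SInt (({P} : Set (FunFld.Place k K))ᶜ))) with hU
  obtain ⟨hfd, hrk⟩ := Groth.Agent.Lib.Helper4.FF.gap_finrank hK P
  let ι : K →ₗ[k] Kv P := (IsScalarTower.toAlgHom k K (Kv P)).toLinearMap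
  have hι : ∀ x, ι x = toKv P x := fun x => rfl
  let φ : K →ₗ[k] (Kv P ⧸ W) := W.mkQ ∘ₗ ι
  have hOW : ∀ y : Kv P, y ∈ Ov P → y ∈ W := by
    intro y hy
    rw [hW]
    exact Submodule.mem_sup_right (Submodule.subset_span hy)
  have hsurj : Function.Surjective φ := by
    intro q
    obtain ⟨y, rfl⟩ := W.mkQ_surjective q
    obtain ⟨x, hx⟩ := exists_sub_mem_Ov P y
    refine ⟨x, ?_⟩
    change W.mkQ (ι x) = W.mkQ y
    rw [hι, Submodule.mkQ_apply, Submodule.mkQ_apply, Submodule.Quotient.eq]
    have := hOW _ hx
    rw [← neg_sub]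
    exact W.neg_mem this
  have hker : U = LinearMap.ker φ := by
    ext x
    rw [LinearMap.mem_ker]
    change x ∈ U ↔ W.mkQ (ι x) = 0
    rw [Submodule.mkQ_apply, Submodule.Quotient.mk_eq_zero, hι]
    constructor
    · intro hx
      rw [hU, Submodule.mem_sup] at hx
      obtain ⟨s, hs, t, ht, rfl⟩ := hx
      rw [map_add, hW]
      refine Submodule.add_mem_sup ?_ ?_
      · rw [Subalgebra.mem_toSubmodule, Subalgebra.mem_map]
        exact ⟨s, hs, rfl⟩
      · apply Submodule.subset_span
        have ht' : P.1 t ≤ 1 := by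
          apply ht P
          simp
        exact (toKv_mem_Ov P t).2 ht'
    · intro hx
      rw [hW, span_Ov, Submodule.mem_sup] at hx
      obtain ⟨s', hs', o, ho, hso⟩ := hx
      rw [Subalgebra.mem_toSubmodule, Subalgebra.mem_map] at hs'
      obtain ⟨s, hs, rfl⟩ := hs'
      have ho' : toKv P (x - s) ∈ Ov P := by
        have : toKv P (x - s) = o := by
          rw [map_sub, ← hso]
          change _ = o
          have : (IsScalarTower.toAlgHom k K (Kv P)) s = toKv P s := rfl
          rw [this]; ring
        rw [this]; exact ho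
      have hxs : P.1 (x - s) ≤ 1 := (toKv_mem_Ov P _).1 ho'
      rw [hU]
      have : x = s + (x - s) := by ring
      rw [this]
      refine Submodule.add_mem_sup hs ?_
      rw [Subalgebra.mem_toSubmodule, mem_SInt]
      intro v hv
      have hvP : v = P := by
        by_contra hne
        exact hv hne
      rw [hvP]; exact hxs
  let e : (K ⧸ U) ≃ₗ[k] (Kv P ⧸ W) :=
    (Submodule.quotEquivOfEq U (LinearMap.ker φ) hker).trans (φ.quotKerEquivOfSurjective hsurj)
  haveI := hfd
  exact ⟨Module.Finite.equiv e, by rw [← e.finrank_eq]; exact hrk⟩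

end Aux

/-- For a function field `K/k` of one variable of genus `g` and any place `P` with completion `K_P` and
valuation ring `O_P ⊆ K_P`, the `k`-space `K_P / (O_{\{P\}} + O_P)`, where `O_{\{P\}} ⊆ K ⊆ K_P` is
the ring of elements of `K` integral at every place other than `P`, is finite-dimensional of
dimension `g` (the number of Weierstrass gaps when `P` is rational). (The published example is for a
curve over an algebraically closed field; here any field `k` algebraically closed in `K` and any
place `P` are allowed.) -/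
theorem result (k K : Type u) [Field k] [Field K]
    [Algebra k K] (hK : FunFld.IsFunctionField k K) (P : FunFld.Place k K) :
    FiniteDimensional k (AdFn.Kv P ⧸
        (Subalgebra.toSubmodule ((AdFn.SInt ({P} : Set (FunFld.Place k K))).map
            (IsScalarTower.toAlgHom k K (AdFn.Kv P))) ⊔
          Submodule.span k (AdFn.Ov P : Set (AdFn.Kv P)))) ∧
    Module.finrank k (AdFn.Kv P ⧸
        (Subalgebra.toSubmodule ((AdFn.SInt ({P} : Set (FunFld.Place k K))).map
            (IsScalarTower.toAlgHom k K (AdFn.Kv P))) ⊔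
          Submodule.span k (AdFn.Ov P : Set (AdFn.Kv P)))) = FunFld.genus k K := by
  exact Aux.main k K hK P

end Groth.Agent.S16100
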