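import Groth.Statements.S16104
import Mathlib

set_option autoImplicit false
universe u v
open LunaSt

namespace Groth.Agent.S16104


open IsLocalRing

section
variable {A : Type u} {B : Type v} [CommRing A] [CommRing B] [IsLocalRing A] [IsLocalRing B]
  (φ : A →+* B) [IsLocalHom φ]

theorem map_mem {a : A} (ha : a ∈ maximalIdeal A) : φ a ∈ maximalIdeal B := by
  rw [mem_maximalIdeal, mem_nonunits_iff] at ha ⊢
  intro hu
  exact ha (isUnit_of_map_unit φ a hu)

theorem mem_of_map_mem {a : A} (ha : φ a ∈ maximalIdeal B) : a ∈ maximalIdeal A := by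
  rw [mem_maximalIdeal, mem_nonunits_iff] at ha ⊢
  intro hu
  exact ha (hu.map φ)

variable (h1 : Function.Surjective ((Ideal.Quotient.mk (maximalIdeal B ^ 2)).comp φ))
include h1

theorem step1 (b : B) (hb : b ∈ maximalIdeal B) :
    ∃ a ∈ maximalIdeal A, φ a - b ∈ maximalIdeal B ^ 2 := by
  obtain ⟨a, ha⟩ := h1 (Ideal.Quotient.mk _ b)
  rw [RingHom.comp_apply, Ideal.Quotient.eq] at ha
  refine ⟨a, mem_of_map_mem φ ?_, ha⟩
  have h2 : φ a - b ∈ maximalIdeal B := Ideal.pow_le_self (by norm_num) ha
  have := (maximalIdeal B).add_mem h2 hb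
  simpa using this

theorem step1' (b : B) : ∃ a : A, φ a - b ∈ maximalIdeal B := by
  obtain ⟨a, ha⟩ := h1 (Ideal.Quotient.mk _ b)
  rw [RingHom.comp_apply, Ideal.Quotient.eq] at ha
  exact ⟨a, Ideal.pow_le_self (by norm_num) ha⟩

theorem claim (n : ℕ) : ∀ b ∈ maximalIdeal B ^ n,
    ∃ a ∈ maximalIdeal A ^ n, φ a - b ∈ maximalIdeal B ^ (n + 1) := by
  induction n with
  | zero =>
    intro b _
    obtain ⟨a, ha⟩ := step1' φ h1 b
    exact ⟨a, by simp, by simpa using ha⟩
  | succ n ih =>
    intro b hb
    rw [pow_succ] at hb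
    refine Submodule.mul_induction_on hb ?_ ?_
    · intro y hy x hx
      obtain ⟨a₂, ha₂, he₂⟩ := ih y hy
      obtain ⟨a₁, ha₁, he₁⟩ := step1 φ h1 x hx
      refine ⟨a₂ * a₁, ?_, ?_⟩
      · rw [pow_succ]; exact Ideal.mul_mem_mul ha₂ ha₁
      · have hφa₂ : φ a₂ ∈ maximalIdeal B ^ n := by
          have := (maximalIdeal B ^ n).add_mem (Ideal.pow_le_pow_right (Nat.le_succ n) he₂) hy
          simpa using this
        have e : φ (a₂ * a₁) - y * x = (φ a₂ - y) * x + φ a₂ * (φ a₁ - x) := by
          rw [map_mul]; ring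
        rw [e]
        refine Ideal.add_mem _ ?_ ?_
        · have := Ideal.mul_mem_mul he₂ hx
          rwa [← pow_succ] at this
        · have := Ideal.mul_mem_mul hφa₂ he₁
          rwa [← pow_add] at this
    · intro x y ⟨a, ha, hxa⟩ ⟨a', ha', hya⟩
      refine ⟨a + a', Ideal.add_mem _ ha ha', ?_⟩
      have e : φ (a + a') - (x + y) = (φ a - x) + (φ a' - y) := by rw [map_add]; ring
      rw [e]; exact Ideal.add_mem _ hxa hya

theorem surj (n : ℕ) : ∀ b : B, ∃ a : A, φ a - b ∈ maximalIdeal B ^ (n + 1) := by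
  induction n with
  | zero => intro b; simpa using step1' φ h1 b
  | succ n ih =>
    intro b
    obtain ⟨a, ha⟩ := ih b
    obtain ⟨a', -, ha'⟩ := claim φ h1 (n + 1) (b - φ a) (by
      have := (maximalIdeal B ^ (n + 1)).neg_mem ha
      simpa using this)
    refine ⟨a + a', ?_⟩
    have e : φ (a + a') - b = φ a' - (b - φ a) := by rw [map_add]; ring
    rw [e]; exact ha'

end

theorem main
    (A : Type u) (B : Type v) [CommRing A] [CommRing B] [IsLocalRing A] [IsLocalRing B]
    [IsNoetherianRing A] [IsNoetherianRing B] (φ : A →+* B) [IsLocalHom φ]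
    (h1 : Function.Surjective ((Ideal.Quotient.mk (IsLocalRing.maximalIdeal B ^ 2)).comp φ))
    (hlen : ∀ n : ℕ, Module.length A (A ⧸ IsLocalRing.maximalIdeal A ^ (n + 1)) =
      Module.length B (B ⧸ IsLocalRing.maximalIdeal B ^ (n + 1))) (n : ℕ) :
    Function.Surjective ((Ideal.Quotient.mk (IsLocalRing.maximalIdeal B ^ (n + 1))).comp φ) ∧
      RingHom.ker ((Ideal.Quotient.mk (IsLocalRing.maximalIdeal B ^ (n + 1))).comp φ) =
        IsLocalRing.maximalIdeal A ^ (n + 1) := by
  set ψ := (Ideal.Quotient.mk (IsLocalRing.maximalIdeal B ^ (n + 1))).comp φ with hψ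
  have hsurj : Function.Surjective ψ := by
    intro c
    obtain ⟨b, rfl⟩ := Ideal.Quotient.mk_surjective c
    obtain ⟨a, ha⟩ := surj φ h1 n b
    exact ⟨a, by rw [hψ, RingHom.comp_apply, Ideal.Quotient.eq]; exact ha⟩
  refine ⟨hsurj, ?_⟩
  have hle : maximalIdeal A ^ (n + 1) ≤ RingHom.ker ψ := by
    intro a ha
    rw [RingHom.mem_ker, hψ, RingHom.comp_apply, Ideal.Quotient.eq_zero_iff_mem]
    have h2 : Ideal.map φ (maximalIdeal A) ≤ maximalIdeal B := by
      rw [Ideal.map_le_iff_le_comap]
      intro x hx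
      exact map_mem φ hx
    have h3 : Ideal.map φ (maximalIdeal A ^ (n + 1)) ≤ maximalIdeal B ^ (n + 1) := by
      rw [Ideal.map_pow]; exact Ideal.pow_right_mono h2 _
    exact h3 (Ideal.mem_map_of_mem φ ha)
  refine le_antisymm ?_ hle
  -- length argument
  letI : Algebra A (B ⧸ maximalIdeal B ^ (n + 1)) := ψ.toAlgebra
  have hsurjA : Function.Surjective (algebraMap A (B ⧸ maximalIdeal B ^ (n + 1))) := hsurj
  have hlenA : Module.length A (B ⧸ maximalIdeal B ^ (n + 1)) =
      Module.length (B ⧸ maximalIdeal B ^ (n + 1)) (B ⧸ maximalIdeal B ^ (n + 1)) :=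
    Module.length_eq_of_surjective hsurjA
  have hlenB : Module.length B (B ⧸ maximalIdeal B ^ (n + 1)) =
      Module.length (B ⧸ maximalIdeal B ^ (n + 1)) (B ⧸ maximalIdeal B ^ (n + 1)) :=
    Module.length_eq_of_surjective Ideal.Quotient.mk_surjective
  -- finiteness
  have hfin : Module.length A (A ⧸ maximalIdeal A ^ (n + 1)) ≠ ⊤ := by
    have hmin : maximalIdeal A ∈ (maximalIdeal A ^ (n + 1)).minimalPrimes := by
      refine ⟨⟨inferInstance, Ideal.pow_le_self (Nat.succ_ne_zero n)⟩, ?_⟩
      intro q hq _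
      exact hq.1.le_of_pow_le hq.2
    haveI : IsArtinianRing (A ⧸ maximalIdeal A ^ (n + 1)) :=
      IsLocalRing.quotient_artinian_of_mem_minimalPrimes_of_isLocalRing _ hmin
    have h2 : IsFiniteLength (A ⧸ maximalIdeal A ^ (n + 1)) (A ⧸ maximalIdeal A ^ (n + 1)) :=
      (isArtinianRing_iff_isFiniteLength _).1 inferInstance
    rw [Module.length_eq_of_surjective (S := A) (R := A ⧸ maximalIdeal A ^ (n + 1))
      Ideal.Quotient.mk_surjective]
    exact Module.length_ne_top_iff.2 h2
  let g : (A ⧸ maximalIdeal A ^ (n + 1)) →ₗ[A] (B ⧸ maximalIdeal B ^ (n + 1)) :=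
    Submodule.liftQ (maximalIdeal A ^ (n + 1)) (Algebra.linearMap A (B ⧸ maximalIdeal B ^ (n + 1)))
      (by intro a ha; exact hle ha)
  have hg : Function.Surjective g := by
    intro c
    obtain ⟨a, rfl⟩ := hsurj c
    exact ⟨Submodule.Quotient.mk a, rfl⟩
  have hadd := Module.length_eq_add_of_exact (LinearMap.ker g).subtype g
    (Submodule.subtype_injective _) hg (LinearMap.exact_subtype_ker_map g)
  rw [hlenA, ← hlenB, ← hlen n] at hadd
  have hker0 : Module.length A (LinearMap.ker g) = 0 := by
    generalize Module.length A (A ⧸ maximalIdeal A ^ (n + 1)) = L at hadd hfin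
    generalize Module.length A (LinearMap.ker g) = L' at hadd
    cases L with
    | top => exact absurd rfl hfin
    | coe l =>
      cases L' with
      | top => simp at hadd
      | coe l' =>
        have : l = l' + l := by exact_mod_cast hadd
        have : l' = 0 := by omega
        simp [this]
  rw [Module.length_eq_zero_iff] at hker0
  intro a ha
  have h2 : g (Submodule.Quotient.mk a) = 0 := ha
  have h3 : (⟨Submodule.Quotient.mk a, h2⟩ : LinearMap.ker g) = 0 := Subsingleton.elim _ _
  have h4 : (Submodule.Quotient.mk a : A ⧸ maximalIdeal A ^ (n + 1)) = 0 := congrArg Subtype.val h3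
  exact (Submodule.Quotient.mk_eq_zero _).1 h4



/-- Case of local rings. Let φ : A → B be a local homomorphism of Noetherian local rings whose composite
A → B/m_B² is surjective (the first infinitesimal neighbourhoods give a closed immersion), and
assume that A/m_A^(n+1) and B/m_B^(n+1) have the same length for every n (the associated graded
modules of the two maximal ideals have pieces of the same dimension over the common residue field).
Then for every n the composite A → B/m_B^(n+1) is surjective with kernel m_A^(n+1): φ identifies all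
infinitesimal neighbourhoods. (The published statement is for a pointed morphism of Noetherian local
algebraic stacks; its proof reduces to this case of local rings.) -/
theorem result
    (A : Type u) (B : Type v) [CommRing A] [CommRing B] [IsLocalRing A] [IsLocalRing B]
    [IsNoetherianRing A] [IsNoetherianRing B] (φ : A →+* B) [IsLocalHom φ]
    (h1 : Function.Surjective ((Ideal.Quotient.mk (IsLocalRing.maximalIdeal B ^ 2)).comp φ))
    (hlen : ∀ n : ℕ, Module.length A (A ⧸ IsLocalRing.maximalIdeal A ^ (n + 1)) =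
      Module.length B (B ⧸ IsLocalRing.maximalIdeal B ^ (n + 1))) (n : ℕ) :
    Function.Surjective ((Ideal.Quotient.mk (IsLocalRing.maximalIdeal B ^ (n + 1))).comp φ) ∧
      RingHom.ker ((Ideal.Quotient.mk (IsLocalRing.maximalIdeal B ^ (n + 1))).comp φ) =
        IsLocalRing.maximalIdeal A ^ (n + 1) := by
  classical
  exact main A B φ h1 hlen n

end Groth.Agent.S16104
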