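import Groth.Statements.S16106
import Groth.Agent.Lib.Helper8.AppB4
import Groth.Agent.Lib.Helper8.AppB2
import Groth.Agent.Lib.Helper7.ArtinFun.Core
import Groth.Agent.S0600

set_option autoImplicit false
universe u
open CategoryTheory CategoryTheory.Limits
open LunaSt

namespace Groth.Agent.S16106

/-- Local form. Let A be a local G-ring, that is a Noetherian local ring all of whose local rings have
regular completion maps (for instance an excellent local ring), with maximal ideal m and m-adic
completion Â. Let F be a functor from A-algebras (commutative rings under A) to sets preserving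
filtered colimits, let ξ ∈ F(Â) and N ≥ 0. Then there exist an étale A-algebra A′, a map of
A-algebras φ : A′ → A/m^(N+1) (an étale neighbourhood of the closed point with trivial residue field
extension) and ξ′ ∈ F(A′) such that ξ′ and ξ have the same image in F(A/m^(N+1)); here π is the
A-algebra map Â → A/m^(N+1), pinned by its underlying ring map. (The published statement is for any
point of the spectrum of a G-ring, with a functor locally of finite presentation on all schemes over
it; its proof first localizes at the point, and only the values of the functor on affine schemes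
enter, so the row states this local form for a functor on A-algebras preserving filtered colimits.) -/
theorem result (A : Type u) [CommRing A] [IsLocalRing A]
    (hG : CAlg.IsGRing A)
    (F : Under (CommRingCat.of A) ⥤ Type u)
    (hF : ∀ (J : Type u) [SmallCategory J] [IsFiltered J], PreservesColimitsOfShape J F)
    (N : ℕ)
    (π : Under.mk (CommRingCat.ofHom (algebraMap A
        (AdicCompletion (IsLocalRing.maximalIdeal A) A))) ⟶
      Under.mk (CommRingCat.ofHom (algebraMap A (A ⧸ IsLocalRing.maximalIdeal A ^ (N + 1)))))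
    (hπ : π.right = CommRingCat.ofHom
      (AdicCompletion.evalₐ (IsLocalRing.maximalIdeal A) (N + 1) :
        AdicCompletion (IsLocalRing.maximalIdeal A) A →ₐ[A]
          A ⧸ IsLocalRing.maximalIdeal A ^ (N + 1)).toRingHom)
    (ξ : F.obj (Under.mk (CommRingCat.ofHom (algebraMap A
        (AdicCompletion (IsLocalRing.maximalIdeal A) A))))) :
    ∃ (A' : Type u) (_ : CommRing A') (_ : Algebra A A') (_ : Algebra.Etale A A')
      (φ : Under.mk (CommRingCat.ofHom (algebraMap A A')) ⟶
        Under.mk (CommRingCat.ofHom (algebraMap A (A ⧸ IsLocalRing.maximalIdeal A ^ (N + 1)))))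
      (ξ' : F.obj (Under.mk (CommRingCat.ofHom (algebraMap A A')))),
      F.map φ ξ' = F.map π ξ := by
  classical
  haveI : IsNoetherianRing A := hG.1
  haveI : IsNoetherianRing (AdicCompletion (IsLocalRing.maximalIdeal A) A) :=
    Groth.Agent.Helper8.AdicReg.isNoetherianRing A _
  have fg : (IsLocalRing.maximalIdeal A).FG := IsNoetherian.noetherian _
  have hreg := Groth.Agent.S0600.result A hG (IsLocalRing.maximalIdeal A)
  haveI hHens := Groth.Agent.Helper8.AppB.henselianRing_map_pow (IsLocalRing.maximalIdeal A) fg N
  have hQ : Groth.Agent.Helper7.FPColim.GoodFamily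
      (Groth.Agent.Helper7.FPColim.Valid (A := A)
        (B := AdicCompletion (IsLocalRing.maximalIdeal A) A)) :=
    Groth.Agent.Helper7.ArtinFun.goodFamily_valid
  obtain ⟨hc⟩ := Groth.Agent.Helper7.FPColim.isColimit_cocone Groth.Agent.Helper7.FPColim.Valid hQ
  haveI := Groth.Agent.Helper7.FPColim.isFiltered_idx Groth.Agent.Helper7.FPColim.Valid hQ
  haveI := hF {j : Groth.Agent.Helper7.FPColim.Idx A
    (AdicCompletion (IsLocalRing.maximalIdeal A) A) // Groth.Agent.Helper7.FPColim.Valid j}
  have hc' := isColimitOfPreserves F hc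
  obtain ⟨j, ξj, hξj⟩ := Types.jointly_surjective_of_isColimit hc' ξ
  haveI : Algebra.FinitePresentation A (Groth.Agent.Helper7.FPColim.C j.1) :=
    Groth.Agent.Helper7.FPColim.finitePresentation j.1
  obtain ⟨A', _, _, het, ψ, g, hg⟩ := Groth.Agent.Helper8.AppB.exists_etale_factor hreg
    ((IsLocalRing.maximalIdeal A ^ (N + 1)).map
      (algebraMap A (AdicCompletion (IsLocalRing.maximalIdeal A) A)))
    (fun k c' => by
      choose c hc using fun i => Groth.Agent.Helper8.AppB.exists_sub_mem_map_pow
        (IsLocalRing.maximalIdeal A) fg (c' i) (N + 1)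
      exact ⟨A, inferInstance, inferInstance, inferInstance, inferInstance, inferInstance, c, hc⟩)
    (Groth.Agent.Helper7.FPColim.C j.1) (Groth.Agent.Helper7.FPColim.π j.1 j.2)
  let φ : Under.mk (CommRingCat.ofHom (algebraMap A A')) ⟶
      Under.mk (CommRingCat.ofHom (algebraMap A (A ⧸ IsLocalRing.maximalIdeal A ^ (N + 1)))) :=
    Under.homMk (U := Under.mk (CommRingCat.ofHom (algebraMap A A')))
      (V := Under.mk (CommRingCat.ofHom
        (algebraMap A (A ⧸ IsLocalRing.maximalIdeal A ^ (N + 1)))))
      (CommRingCat.ofHom ((AdicCompletion.evalₐ (IsLocalRing.maximalIdeal A) (N + 1)).comp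
        ψ).toRingHom) (by
        apply CommRingCat.hom_ext
        ext a
        exact ((AdicCompletion.evalₐ (IsLocalRing.maximalIdeal A) (N + 1)).comp ψ).commutes a)
  let gU : Groth.Agent.Helper7.FPColim.objJ j.1 ⟶
      Under.mk (CommRingCat.ofHom (algebraMap A A')) :=
    Under.homMk (U := Groth.Agent.Helper7.FPColim.objJ j.1)
      (V := Under.mk (CommRingCat.ofHom (algebraMap A A')))
      (CommRingCat.ofHom g.toRingHom) (by
        apply CommRingCat.hom_ext
        ext a
        exact g.commutes a)
  have hcomm : gU ≫ φ = Groth.Agent.Helper7.FPColim.toB j.1 j.2 ≫ π := by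
    apply Under.UnderMorphism.ext
    apply CommRingCat.hom_ext
    apply RingHom.ext
    intro x
    change AdicCompletion.evalₐ (IsLocalRing.maximalIdeal A) (N + 1) (ψ (g x)) =
      π.right (Groth.Agent.Helper7.FPColim.π j.1 j.2 x)
    rw [hπ]
    change _ = AdicCompletion.evalₐ (IsLocalRing.maximalIdeal A) (N + 1)
      (Groth.Agent.Helper7.FPColim.π j.1 j.2 x)
    have h1 := Groth.Agent.Helper8.AdicFS.map_pow_le_ker_evalₐ
      (IsLocalRing.maximalIdeal A) (N + 1) (hg x)
    rw [RingHom.mem_ker, map_sub, sub_eq_zero] at h1
    exact h1.symm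
  let ξj' : F.obj (Groth.Agent.Helper7.FPColim.objJ j.1) := ξj
  have hξj' : F.map (Groth.Agent.Helper7.FPColim.toB j.1 j.2) ξj' = ξ := hξj
  have e1 : F.map φ (F.map gU ξj') = F.map (gU ≫ φ) ξj' :=
    (Functor.map_comp_apply F gU φ ξj').symm
  have e2 : F.map π (F.map (Groth.Agent.Helper7.FPColim.toB j.1 j.2) ξj') =
      F.map (Groth.Agent.Helper7.FPColim.toB j.1 j.2 ≫ π) ξj' :=
    (Functor.map_comp_apply F (Groth.Agent.Helper7.FPColim.toB j.1 j.2) π ξj').symm
  refine ⟨A', inferInstance, inferInstance, het, φ, F.map gU ξj', ?_⟩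
  rw [e1, hcomm, ← e2, hξj']

end Groth.Agent.S16106
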