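import Groth.Statements.S16127
import Mathlib
import Groth.Agent.S18859

set_option autoImplicit false
universe u
open CategoryTheory MonoidalCategory CartesianMonoidalCategory MonObj GrpObj AlgebraicGeometry CategoryTheory.Limits
open AlgGrp

namespace Groth.Agent.S16127

section
open CategoryTheory MonoidalCategory CartesianMonoidalCategory MonObj GrpObj AlgebraicGeometry CategoryTheory.Limits
open Groth.Agent.S18859

theorem main (k : Type u) [Field k] [IsAlgClosed k]
    (G X Y : Over (Spec (CommRingCat.of k))) [GrpObj G] [Smooth G.hom] [QuasiCompact G.hom]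
    [IsReduced X.left] [IsSeparated X.hom] [LocallyOfFiniteType X.hom] [QuasiCompact X.hom]
    [IsReduced Y.left] [IsSeparated Y.hom] [LocallyOfFiniteType Y.hom] [QuasiCompact Y.hom]
    (a : AlgGrp.Action G X) (f : X ⟶ Y) [Flat f.left] [Surjective f.left]
    (hsq : IsPullback a.act.left (snd G X).left f.left f.left) :
    Function.Injective (f.left.appTop) ∧
      Set.range (f.left.appTop) = {s : Γ(X.left, ⊤) | a.act.left.appTop s = (snd G X).left.appTop s} := by
  haveI : QuasiCompact f.left := by
    have : QuasiCompact (f.left ≫ Y.hom) := by rw [Over.w]; infer_instance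
    exact QuasiCompact.of_comp f.left Y.hom
  haveI : EffectiveEpi f.left := inferInstance
  constructor
  · intro s t hst
    have h1 : f.left ≫ ofFn s = f.left ≫ ofFn t := by
      apply toFn_injective
      rw [toFn_comp, toFn_comp, toFn_ofFn, toFn_ofFn]
      exact hst
    have h2 := (cancel_epi f.left).1 h1
    have h3 := congrArg toFn h2
    rwa [toFn_ofFn, toFn_ofFn] at h3
  · ext s
    constructor
    · rintro ⟨t, rfl⟩
      change a.act.left.appTop (f.left.appTop t) = (snd G X).left.appTop (f.left.appTop t)
      have := hsq.w
      rw [← CommRingCat.comp_apply, ← CommRingCat.comp_apply, ← Scheme.Hom.comp_appTop,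
        ← Scheme.Hom.comp_appTop, hsq.w]
    · intro hs
      have hs' : a.act.left ≫ ofFn s = (snd G X).left ≫ ofFn s := by
        apply toFn_injective
        rw [toFn_comp, toFn_comp, toFn_ofFn]
        exact hs
      have hco : ∀ {Z : Scheme.{u}} (g₁ g₂ : Z ⟶ X.left), g₁ ≫ f.left = g₂ ≫ f.left →
          g₁ ≫ ofFn s = g₂ ≫ ofFn s := by
        intro Z g₁ g₂ h
        obtain ⟨l, hl1, hl2⟩ := hsq.exists_lift g₁ g₂ h
        rw [← hl1, ← hl2, Category.assoc, Category.assoc, hs']
      let m : Y.left ⟶ A1 := EffectiveEpi.desc f.left (ofFn s) (fun g₁ g₂ h => hco g₁ g₂ h)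
      have hm : f.left ≫ m = ofFn s := EffectiveEpi.fac _ _ _
      refine ⟨toFn m, ?_⟩
      have := toFn_comp f.left m
      rw [hm, toFn_ofFn] at this
      exact this.symm


end


/-- Over an algebraically closed field k, let G be an algebraic group (a smooth k-group scheme of finite
type) acting by σ on a variety X, and let f : X → Y be a principal G-bundle over a variety Y (X, Y
reduced separated k-schemes of finite type; f flat and surjective, the square σ, p₂ : G × X → X, f,
f cartesian). Then f^* identifies Γ(Y, O_Y) with the invariants Γ(X, O_X)^G: f^* on global sections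
is injective and its range is the set of global functions s on X with σ^*(s) = p₂^*(s). -/
theorem result (k : Type u) [Field k] [IsAlgClosed k]
    (G X Y : Over (Spec (CommRingCat.of k))) [GrpObj G] [Smooth G.hom] [QuasiCompact G.hom]
    [IsReduced X.left] [IsSeparated X.hom] [LocallyOfFiniteType X.hom] [QuasiCompact X.hom]
    [IsReduced Y.left] [IsSeparated Y.hom] [LocallyOfFiniteType Y.hom] [QuasiCompact Y.hom]
    (a : AlgGrp.Action G X) (f : X ⟶ Y) [Flat f.left] [Surjective f.left]
    (hsq : IsPullback a.act.left (snd G X).left f.left f.left) :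
    Function.Injective (f.left.appTop) ∧
      Set.range (f.left.appTop) = {s : Γ(X.left, ⊤) | a.act.left.appTop s = (snd G X).left.appTop s} := by
  classical
  exact main k G X Y a f hsq

end Groth.Agent.S16127
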