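import Groth.Statements.S1614
import Mathlib
import Groth.Agent.Lib.Helper1.TwistTriv

set_option autoImplicit false
universe u
open CategoryTheory CategoryTheory.Limits AlgebraicGeometry
open Constr

namespace Groth.Agent.S1614

/-- Let A be a graded ring, X = Proj A, and f homogeneous of degree d > 0. For every integer n the
restriction of the twisting sheaf O(nd) to the standard open D_+(f) is isomorphic to the structure
sheaf (in particular invertible). -/
theorem result {R A : Type u} [CommRing R] [CommRing A] [Algebra R A] (𝒜 : ℕ → Submodule R A) [GradedAlgebra 𝒜]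
    (d : ℕ) (hd : 0 < d) (f : A) (hf : f ∈ 𝒜 d) (n : ℤ) :
    Nonempty ((Twist.twist 𝒜 (n * d)).restrict (Proj.basicOpen 𝒜 f).ι ≅ Coh.structureModule ↑(Proj.basicOpen 𝒜 f)) := by
  have hp : f ^ n.toNat ∈ 𝒜 (n.toNat • d) := SetLike.pow_mem_graded _ hf
  have hq : f ^ (-n).toNat ∈ 𝒜 ((-n).toNat • d) := SetLike.pow_mem_graded _ hf
  have hm : ((n.toNat • d : ℕ) : ℤ) = ((-n).toNat • d : ℕ) + n * d := by
    have := Int.toNat_sub_toNat_neg n
    push_cast [smul_eq_mul]
    nlinarith
  have hmem : ∀ x : ProjectiveSpectrum 𝒜, x ∈ (Proj.basicOpen 𝒜 f).ι.opensRange →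
      ∀ k : ℕ, f ^ k ∉ x.asHomogeneousIdeal := by
    intro x hx k hk
    rw [AlgebraicGeometry.Scheme.Opens.opensRange_ι] at hx
    exact ((AlgebraicGeometry.Proj.mem_basicOpen 𝒜 f x).1 hx) (x.isPrime.mem_of_pow_mem k hk)
  exact Groth.Agent.Helper1.TwistTriv.nonempty_twist_restrict_iso 𝒜 hp hq hm
    (AlgebraicGeometry.Proj.basicOpen 𝒜 f).ι (fun x hx => hmem x hx _) (fun x hx => hmem x hx _)

end Groth.Agent.S1614
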