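import Groth.Statements.S16149
import Mathlib
import Groth.Agent.Lib.Lead.FLF7
import Groth.Agent.Lib.Helper1.CohAbel
import Groth.Agent.Lib.Helper1.FtSupp
import Groth.Agent.Lib.Helper1.IdealModL
import Groth.Agent.Lib.Helper5.Stalk.Exact

set_option autoImplicit false
universe u
open CategoryTheory CategoryTheory.Limits AlgebraicGeometry TopologicalSpace
open SDiv

namespace Groth.Agent.S16149

section
open CategoryTheory CategoryTheory.Limits AlgebraicGeometry TopologicalSpace Opposite

open Groth.Agent.Helper1 Groth.Agent.Lib.Helper5.StalkAdj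

variable {X : Scheme.{u}}

theorem isCoh_structureModule (X : Scheme.{u}) : Coh.IsCoh (Coh.structureModule X) := by
  refine ⟨inferInstance, ?_⟩
  apply Groth.Agent.Lead.FLF.isFT_of_ft_sections
  intro U hU
  exact inferInstanceAs (Module.Finite Γ(X, U) Γ(X, U))

theorem isZero_stalkSh_iff (M : X.Modules) (x : X) :
    IsZero ((stalkSh X x).obj M) ↔ x ∉ CohB1.support M := by
  rw [ModuleCat.isZero_iff_subsingleton]
  change _ ↔ ¬ ¬ Subsingleton (M.presheaf.stalk x)
  rw [not_not]
  rfl

theorem bijective_iff (F : X.Modules) (s : Coh.structureModule X ⟶ F) (x : X) :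
    Function.Bijective (RefHull.stalkMapₗ s x) ↔ IsIso ((stalkSh X x).map s) := by
  rw [ConcreteCategory.isIso_iff_bijective]
  rfl

theorem isIso_map_iff {C D : Type*} [Category C] [Category D] [Abelian C] [Abelian D]
    (G : C ⥤ D) [G.Additive] [PreservesFiniteLimits G] [PreservesFiniteColimits G]
    {A B : C} (f : A ⟶ B) :
    IsIso (G.map f) ↔ IsZero (G.obj (kernel f)) ∧ IsZero (G.obj (cokernel f)) := by
  have e1 : G.obj (kernel f) ≅ kernel (G.map f) := PreservesKernel.iso G f
  have e2 : G.obj (cokernel f) ≅ cokernel (G.map f) := PreservesCokernel.iso G f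
  constructor
  · intro h
    exact ⟨IsZero.of_iso (isZero_kernel_of_mono _) e1, IsZero.of_iso (isZero_cokernel_of_epi _) e2⟩
  · rintro ⟨h1, h2⟩
    haveI : Mono (G.map f) := Preadditive.mono_of_isZero_kernel _ (IsZero.of_iso h1 e1.symm)
    haveI : Epi (G.map f) := Preadditive.epi_of_isZero_cokernel _ (IsZero.of_iso h2 e2.symm)
    exact isIso_of_mono_of_epi _

theorem main (X : Scheme.{u}) [IsLocallyNoetherian X] (F : X.Modules) (hF : Coh.IsCoh F)
    (s : Coh.structureModule X ⟶ F) : IsOpen (RefPow.isoLocus s) := by
  have hK := FtLocal.isCoh_kernel (isCoh_structureModule X) hF s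
  have hC := FtLocal.isCoh_cokernel (isCoh_structureModule X) hF s
  have h1 := FtGen.isClosed_support (kernel s) hK.2
  have h2 := FtGen.isClosed_support (cokernel s) hC.2
  have heq : RefPow.isoLocus s =
      (CohB1.support (kernel s))ᶜ ∩ (CohB1.support (cokernel s))ᶜ := by
    ext x
    rw [RefPow.mem_isoLocus, bijective_iff, isIso_map_iff, isZero_stalkSh_iff, isZero_stalkSh_iff]
    rfl
  rw [heq]
  exact h1.isOpen_compl.inter h2.isOpen_compl


end


/-- Let X be a locally Noetherian scheme, F a coherent O_X-module (quasi-coherent of finite type) and s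
: O_X → F a global section of F. Then the set of points x of X at which the stalk map (O_X)_x → F_x
of s is bijective is open. (The published statement assumes moreover X integral and normal and F
reflexive of rank one; the openness assertion uses only that F is coherent on a locally Noetherian
scheme, and it can fail for F quasi-coherent of finite type on a scheme that is not locally
Noetherian.) -/
theorem result (X : Scheme.{u}) [IsLocallyNoetherian X] (F : X.Modules) (hF : Coh.IsCoh F)
    (s : Coh.structureModule X ⟶ F) : IsOpen (RefPow.isoLocus s) := by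
  classical
  exact main X F hF s

end Groth.Agent.S16149
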