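import Groth.Statements.S16152
import Mathlib

set_option autoImplicit false
universe u
open WGauss

namespace Groth.Agent.S16152

section
open MvPolynomial

variable {k : Type u} [Field k] {n : ℕ}

/-- Euler map -/
noncomputable def E : (Fin (n + 1) → MvPolynomial (Fin (n + 1)) k) →ₗ[k] MvPolynomial (Fin (n + 1)) k where
  toFun f := ∑ i, X i * f i
  map_add' f g := by simp [mul_add, Finset.sum_add_distrib]
  map_smul' c f := by simp [Finset.smul_sum]

theorem E_single (i : Fin (n + 1)) (p : MvPolynomial (Fin (n + 1)) k) :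
    E (Pi.single i p) = X i * p := by
  change ∑ j, X j * (Pi.single i p : Fin (n + 1) → MvPolynomial (Fin (n + 1)) k) j = _
  rw [Finset.sum_eq_single i]
  · simp
  · intro j _ hji
    simp [Pi.single_eq_of_ne hji]
  · simp

/-- a chosen index in the support -/
noncomputable def i0 (γ : Fin (n + 1) →₀ ℕ) : Fin (n + 1) :=
  if h : γ.support.Nonempty then h.choose else 0

theorem i0_spec (γ : Fin (n + 1) →₀ ℕ) (hγ : γ ≠ 0) : γ (i0 γ) ≠ 0 := by
  have h : γ.support.Nonempty := Finsupp.support_nonempty_iff.2 hγ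
  rw [i0, dif_pos h]
  exact Finsupp.mem_support_iff.1 h.choose_spec

noncomputable def u (γ : Fin (n + 1) →₀ ℕ) (i : Fin (n + 1)) :
    Fin (n + 1) → MvPolynomial (Fin (n + 1)) k :=
  Pi.single i (monomial (γ - Finsupp.single i 1) (1 : k))

noncomputable def S : MvPolynomial (Fin (n + 1)) k →ₗ[k] (Fin (n + 1) → MvPolynomial (Fin (n + 1)) k) :=
  (basisMonomials (Fin (n + 1)) k).constr k (fun γ => u γ (i0 γ))

theorem S_monomial (γ : Fin (n + 1) →₀ ℕ) : S (monomial γ (1 : k)) = u γ (i0 γ) := by
  have := (basisMonomials (Fin (n + 1)) k).constr_basis k (fun γ => u (k := k) γ (i0 γ)) γ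
  rw [coe_basisMonomials] at this
  exact this

/-- the span of the differences -/
noncomputable def Z (t : ℕ) : Submodule k (Fin (n + 1) → MvPolynomial (Fin (n + 1)) k) :=
  Submodule.span k {g | ∃ (γ : Fin (n + 1) →₀ ℕ) (i j : Fin (n + 1)), γ.degree = t ∧ i ≠ j ∧
    γ i ≠ 0 ∧ γ j ≠ 0 ∧ g = u γ i - u γ j}

theorem T_gen (t : ℕ) (μ : Fin (n + 1) →₀ ℕ) (hμ : μ.degree + 1 = t) (i : Fin (n + 1)) :
    (Pi.single i (monomial μ (1 : k)) : Fin (n + 1) → MvPolynomial (Fin (n + 1)) k) -
      S (E (Pi.single i (monomial μ (1 : k)))) ∈ Z (k := k) t := by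
  have h1 : X i * monomial μ (1 : k) = monomial (μ + Finsupp.single i 1) 1 := by
    rw [X, monomial_mul, one_mul, add_comm (Finsupp.single i 1) μ]
  rw [E_single, h1, S_monomial]
  set γ := μ + Finsupp.single i 1 with hγ
  have hγi : γ i ≠ 0 := by simp [hγ]
  have hγ0 : γ ≠ 0 := fun h => hγi (by rw [h]; rfl)
  have hu : (Pi.single i (monomial μ (1 : k)) : Fin (n + 1) → MvPolynomial (Fin (n + 1)) k) =
      u γ i := by
    rw [u, hγ, add_tsub_cancel_right]
  rw [hu]
  by_cases hi : i0 γ = i
  · rw [hi, sub_self]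
    exact Submodule.zero_mem _
  · refine Submodule.subset_span ⟨γ, i, i0 γ, ?_, fun h => hi h.symm, hγi, i0_spec γ hγ0, rfl⟩
    rw [hγ, map_add, Finsupp.degree_single, hμ]


theorem span_gen (d : ℕ) (f : Fin (n + 1) → MvPolynomial (Fin (n + 1)) k)
    (hf : ∀ i, (f i).IsHomogeneous d) :
    f ∈ Submodule.span k {g : Fin (n + 1) → MvPolynomial (Fin (n + 1)) k |
      ∃ (i : Fin (n + 1)) (μ : Fin (n + 1) →₀ ℕ), μ.degree = d ∧ g = Pi.single i (monomial μ (1 : k))} := by
  have h1 : f = ∑ i, Pi.single i (f i) := (Finset.univ_sum_single f).symm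
  rw [h1]
  refine Submodule.sum_mem _ fun i _ => ?_
  have h2 : f i = ∑ v ∈ (f i).support, coeff v (f i) • monomial v (1 : k) := by
    conv_lhs => rw [(f i).as_sum]
    refine Finset.sum_congr rfl fun v _ => ?_
    rw [smul_monomial, smul_eq_mul, mul_one]
  have h3 : (Pi.single i (f i) : Fin (n + 1) → MvPolynomial (Fin (n + 1)) k) =
      ∑ v ∈ (f i).support, coeff v (f i) •
        (Pi.single i (monomial v (1 : k)) : Fin (n + 1) → MvPolynomial (Fin (n + 1)) k) := by
    conv_lhs => rw [h2]
    have := map_sum (LinearMap.single k (fun _ : Fin (n + 1) => MvPolynomial (Fin (n + 1)) k) i)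
      (fun v => coeff v (f i) • monomial v (1 : k)) (f i).support
    simp only [LinearMap.coe_single, map_smul] at this
    exact this
  rw [h3]
  refine Submodule.sum_mem _ fun v hv => Submodule.smul_mem _ _ (Submodule.subset_span ⟨i, v, ?_, rfl⟩)
  by_contra hne
  exact (mem_support_iff.1 hv) ((hf i).coeff_eq_zero hne)

theorem ker_le_Z (t : ℕ) (ht : 1 ≤ t) (f : Fin (n + 1) → MvPolynomial (Fin (n + 1)) k)
    (hf : ∀ i, (f i).IsHomogeneous (t - 1)) (hE : E f = 0) : f ∈ Z (k := k) t := by
  let T : (Fin (n + 1) → MvPolynomial (Fin (n + 1)) k) →ₗ[k]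
      (Fin (n + 1) → MvPolynomial (Fin (n + 1)) k) := LinearMap.id - S ∘ₗ E
  have h1 : Submodule.span k {g : Fin (n + 1) → MvPolynomial (Fin (n + 1)) k |
      ∃ (i : Fin (n + 1)) (μ : Fin (n + 1) →₀ ℕ), μ.degree = t - 1 ∧
        g = Pi.single i (monomial μ (1 : k))} ≤ (Z (k := k) t).comap T := by
    rw [Submodule.span_le]
    rintro _ ⟨i, μ, hμ, rfl⟩
    change T _ ∈ Z t
    simp only [T, LinearMap.sub_apply, LinearMap.id_apply, LinearMap.comp_apply]
    exact T_gen t μ (by omega) i
  have h2 := h1 (span_gen (t - 1) f hf)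
  change T f ∈ Z t at h2
  simpa [T, hE] using h2


theorem exists_le_degree (δ : Fin (n + 1) →₀ ℕ) (m : ℕ) (hm : m ≤ δ.degree) :
    ∃ ρ : Fin (n + 1) →₀ ℕ, ρ ≤ δ ∧ ρ.degree = m := by
  induction m with
  | zero => exact ⟨0, fun _ => Nat.zero_le _, map_zero _⟩
  | succ m ih =>
    obtain ⟨ρ, hρ, hdeg⟩ := ih (by omega)
    have hne : ρ ≠ δ := by
      rintro rfl
      omega
    have : ∃ l, ρ l < δ l := by
      by_contra hcon
      apply hne
      ext l
      have h1 := hρ l
      have h2 : ¬ ρ l < δ l := fun h => hcon ⟨l, h⟩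
      omega
    obtain ⟨l, hl⟩ := this
    refine ⟨ρ + Finsupp.single l 1, ?_, ?_⟩
    · intro j
      by_cases hj : j = l
      · subst hj
        simp only [Finsupp.add_apply, Finsupp.single_eq_same]
        omega
      · simp only [Finsupp.add_apply, Finsupp.single_eq_of_ne hj, add_zero]
        exact hρ j
    · rw [map_add, Finsupp.degree_single, hdeg]

theorem mon_pderiv (α β : Fin (n + 1) →₀ ℕ) (l : Fin (n + 1)) :
    monomial β (1 : k) * pderiv l (monomial α (1 : k)) =
      monomial (α + β - Finsupp.single l 1) (α l : k) := by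
  rw [pderiv_monomial, monomial_mul, one_mul, one_mul]
  by_cases h : α l = 0
  · simp [h]
  · have : β + (α - Finsupp.single l 1) = α + β - Finsupp.single l 1 := by
      ext j
      by_cases hj : j = l
      · subst hj
        simp only [Finsupp.add_apply, Finsupp.tsub_apply, Finsupp.single_eq_same]
        omega
      · simp only [Finsupp.add_apply, Finsupp.tsub_apply, Finsupp.single_eq_of_ne hj]
        omega
    rw [this]

/-- the weighted Gaussian tuple -/
noncomputable def w (a b : ℕ) (σ τ : MvPolynomial (Fin (n + 1)) k) :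
    Fin (n + 1) → MvPolynomial (Fin (n + 1)) k :=
  fun i => (b : k) • (τ * pderiv i σ) - (a : k) • (σ * pderiv i τ)

theorem w_monomial (a b : ℕ) (γ α : Fin (n + 1) →₀ ℕ) (hα : α ≤ γ) (l : Fin (n + 1)) :
    w a b (monomial α (1 : k)) (monomial (γ - α) 1) l =
      monomial (γ - Finsupp.single l 1) (((a : k) + b) * α l - a * γ l) := by
  have h1 : α + (γ - α) = γ := add_tsub_cancel_of_le hα
  have h2 : (γ - α) + α = γ := tsub_add_cancel_of_le hα
  rw [w, mon_pderiv, mon_pderiv, h1, h2, smul_monomial, smul_monomial, ← map_sub]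
  congr 1
  have h3 : ((γ - α) l : k) = (γ l : k) - (α l : k) := by
    rw [Finsupp.tsub_apply, Nat.cast_sub (hα l)]
  rw [h3, smul_eq_mul, smul_eq_mul]
  ring


theorem gen_mem_W [CharZero k] (e a b : ℕ) (he : 0 < e) (ha : 0 < a) (hb : 0 < b)
    (γ : Fin (n + 1) →₀ ℕ) (i j : Fin (n + 1)) (hγ : γ.degree = (a + b) * e) (hij : i ≠ j)
    (hi : γ i ≠ 0) (hj : γ j ≠ 0) :
    (u γ i - u γ j : Fin (n + 1) → MvPolynomial (Fin (n + 1)) k) ∈ Submodule.span k
      {g : Fin (n + 1) → MvPolynomial (Fin (n + 1)) k |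
        ∃ σ τ : MvPolynomial (Fin (n + 1)) k, σ.IsHomogeneous (a * e) ∧ τ.IsHomogeneous (b * e) ∧
          g = fun i => (b : k) • (τ * pderiv i σ) - (a : k) • (σ * pderiv i τ)} := by
  have hae : 1 ≤ a * e := Nat.mul_pos ha he
  have hbe : 1 ≤ b * e := Nat.mul_pos hb he
  have hle : Finsupp.single i 1 + Finsupp.single j 1 ≤ γ := by
    intro l
    by_cases hli : l = i
    · subst hli
      simp only [Finsupp.add_apply, Finsupp.single_eq_same, Finsupp.single_eq_of_ne hij]
      omega
    · by_cases hlj : l = j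
      · subst hlj
        simp only [Finsupp.add_apply, Finsupp.single_eq_same, Finsupp.single_eq_of_ne hli]
        omega
      · simp [Finsupp.single_eq_of_ne hli, Finsupp.single_eq_of_ne hlj]
  set δ := γ - (Finsupp.single i 1 + Finsupp.single j 1) with hδ
  have hδγ : δ + (Finsupp.single i 1 + Finsupp.single j 1) = γ := tsub_add_cancel_of_le hle
  have hδdeg : δ.degree + 2 = (a + b) * e := by
    rw [← hγ, ← hδγ, map_add, map_add, Finsupp.degree_single, Finsupp.degree_single]
  obtain ⟨ρ, hρ, hρdeg⟩ := exists_le_degree δ (a * e - 1) (by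
    have : (a + b) * e = a * e + b * e := add_mul a b e
    omega)
  have hα : ρ + Finsupp.single i 1 ≤ γ := by
    rw [← hδγ]
    intro l
    have := hρ l
    simp only [Finsupp.add_apply]
    omega
  have hα' : ρ + Finsupp.single j 1 ≤ γ := by
    rw [← hδγ]
    intro l
    have := hρ l
    simp only [Finsupp.add_apply]
    omega
  have hdeg : ∀ l : Fin (n + 1), (ρ + Finsupp.single l 1).degree = a * e := by
    intro l
    rw [map_add, Finsupp.degree_single, hρdeg]
    omega
  have hdeg' : ∀ α : Fin (n + 1) →₀ ℕ, α ≤ γ → α.degree = a * e → (γ - α).degree = b * e := by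
    intro α hle hd
    have h1 : α + (γ - α) = γ := add_tsub_cancel_of_le hle
    have h2 := congrArg Finsupp.degree h1
    rw [map_add, hd, hγ, add_mul] at h2
    omega
  have hab : ((a : k) + b) ≠ 0 := by
    rw [← Nat.cast_add]
    exact Nat.cast_ne_zero.2 (by omega)
  have key : (u γ i - u γ j : Fin (n + 1) → MvPolynomial (Fin (n + 1)) k) =
      ((a : k) + b)⁻¹ • (w a b (monomial (ρ + Finsupp.single i 1) (1 : k))
          (monomial (γ - (ρ + Finsupp.single i 1)) 1) -
        w a b (monomial (ρ + Finsupp.single j 1) (1 : k))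
          (monomial (γ - (ρ + Finsupp.single j 1)) 1)) := by
    rw [eq_inv_smul_iff₀ hab]
    funext l
    simp only [Pi.smul_apply, Pi.sub_apply]
    rw [w_monomial a b γ _ hα l, w_monomial a b γ _ hα' l, ← map_sub]
    by_cases hli : l = i
    · subst hli
      have hlj : l ≠ j := hij
      simp only [u, Pi.single_eq_same, Pi.single_eq_of_ne hlj, sub_zero, Finsupp.add_apply,
        Finsupp.single_eq_same, Finsupp.single_eq_of_ne hlj, smul_monomial, smul_eq_mul, mul_one,
        add_zero, Nat.cast_add, Nat.cast_one]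
      congr 1
      ring
    · by_cases hlj : l = j
      · subst hlj
        simp only [u, Pi.single_eq_same, Pi.single_eq_of_ne hli, zero_sub, Finsupp.add_apply,
          Finsupp.single_eq_same, Finsupp.single_eq_of_ne hli, smul_monomial, smul_eq_mul,
          mul_one, add_zero, Nat.cast_add, Nat.cast_one, smul_neg, ← map_neg]
        congr 1
        ring
      · simp only [u, Pi.single_eq_of_ne hli, Pi.single_eq_of_ne hlj, sub_zero, smul_zero,
          Finsupp.add_apply, Finsupp.single_eq_of_ne hli, Finsupp.single_eq_of_ne hlj, add_zero,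
          sub_self, map_zero]
  rw [key]
  refine Submodule.smul_mem _ _ (Submodule.sub_mem _ ?_ ?_)
  · exact Submodule.subset_span ⟨_, _, isHomogeneous_monomial _ (hdeg i),
      isHomogeneous_monomial _ (hdeg' _ hα (hdeg i)), rfl⟩
  · exact Submodule.subset_span ⟨_, _, isHomogeneous_monomial _ (hdeg j),
      isHomogeneous_monomial _ (hdeg' _ hα' (hdeg j)), rfl⟩

theorem main
    (k : Type u) [Field k] [CharZero k] (n e a b : ℕ) (he : 0 < e) (ha : 0 < a) (hab : a < b)
    (f : Fin (n + 1) → MvPolynomial (Fin (n + 1)) k)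
    (hf : ∀ i, (f i).IsHomogeneous ((a + b) * e - 1))
    (hEuler : ∑ i, X i * f i = 0) :
    f ∈ Submodule.span k
      {g : Fin (n + 1) → MvPolynomial (Fin (n + 1)) k |
        ∃ σ τ : MvPolynomial (Fin (n + 1)) k, σ.IsHomogeneous (a * e) ∧ τ.IsHomogeneous (b * e) ∧
          g = fun i => (b : k) • (τ * pderiv i σ) - (a : k) • (σ * pderiv i τ)} := by
  have hb : 0 < b := by omega
  have ht : 1 ≤ (a + b) * e := Nat.mul_pos (by omega) he
  have h1 := ker_le_Z ((a + b) * e) ht f hf hEuler
  have h2 : Z (k := k) (n := n) ((a + b) * e) ≤ Submodule.span k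
      {g : Fin (n + 1) → MvPolynomial (Fin (n + 1)) k |
        ∃ σ τ : MvPolynomial (Fin (n + 1)) k, σ.IsHomogeneous (a * e) ∧ τ.IsHomogeneous (b * e) ∧
          g = fun i => (b : k) • (τ * pderiv i σ) - (a : k) • (σ * pderiv i τ)} := by
    rw [Z, Submodule.span_le]
    rintro _ ⟨γ, i, j, hγ, hij, hi, hj, rfl⟩
    exact gen_mem_W e a b he ha hb γ i j hγ hij hi hj
  exact h2 h1


end


open MvPolynomial in
/-- Over a field k of characteristic zero, for e, a, b positive integers with a < b, the weighted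
Gaussian map of the line bundle O(e) on projective n-space is surjective. Concretely, identifying
global sections of O(m) with homogeneous polynomials of degree m in X_0, ..., X_n and global
sections of the twisted cotangent sheaf Omega^1(t) with the (n+1)-tuples of homogeneous polynomials
of degree t - 1 killed by the Euler map (f_i) to sum_i X_i f_i, every such tuple with t = (a+b)e is
a k-linear combination of the tuples (b tau (d sigma / d X_i) - a sigma (d tau / d X_i))_i with
sigma homogeneous of degree ae and tau homogeneous of degree be. (The source works over the complex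
numbers; the statement is one of linear algebra and is given here over any field of characteristic
zero.) -/
theorem result
    (k : Type u) [Field k] [CharZero k] (n e a b : ℕ) (he : 0 < e) (ha : 0 < a) (hab : a < b)
    (f : Fin (n + 1) → MvPolynomial (Fin (n + 1)) k)
    (hf : ∀ i, (f i).IsHomogeneous ((a + b) * e - 1))
    (hEuler : ∑ i, X i * f i = 0) :
    f ∈ Submodule.span k
      {g : Fin (n + 1) → MvPolynomial (Fin (n + 1)) k |
        ∃ σ τ : MvPolynomial (Fin (n + 1)) k, σ.IsHomogeneous (a * e) ∧ τ.IsHomogeneous (b * e) ∧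
          g = fun i => (b : k) • (τ * pderiv i σ) - (a : k) • (σ * pderiv i τ)} := by
  classical
  exact main k n e a b he ha hab f hf hEuler

end Groth.Agent.S16152
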