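import Groth.Statements.S16156
import Mathlib

set_option autoImplicit false
universe u
open MukaiVec

namespace Groth.Agent.S16156

section


theorem core (n r d c p q a : ℤ) (hn : 1 ≤ n) (hr : 2 ≤ r) (hd : 1 ≤ d) (hc : 1 ≤ c) (hp : 0 ≤ p)
    (hodge : 4 * n * p * q ≤ a * a)
    (hs1 : 1 ≤ |d * a - r * q + c * p|) (hs2 : |d * a - r * q + c * p| ≤ 2)
    (hexc : ¬ (d = 1 ∧ c = 1 ∧ a = 1 ∧ p * q = 0))
    (hr2 : r = 2 → ¬ (p = 0 ∧ a = 0)) :
    (0 ≤ 2 * n * d * p - r * a ↔ 0 ≤ -c * a - 2 * n * d * q) := by
  obtain ⟨hsl, hsu⟩ := abs_le.mp hs2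
  have hnd : 1 ≤ n * d := by nlinarith
  constructor
  · intro hX
    by_contra hZ
    have hZ' : 1 ≤ c * a + 2 * n * d * q := by
      have : -c * a - 2 * n * d * q < 0 := not_le.mp hZ
      linarith
    rcases le_or_gt q 0 with hq | hq
    · -- q ≤ 0
      have hndq : n * d * q ≤ 0 := mul_nonpos_of_nonneg_of_nonpos (by linarith) hq
      have hca : 1 ≤ c * a := by nlinarith
      have ha : 1 ≤ a := by
        by_contra h
        have h' : a ≤ 0 := by linarith
        have : c * a ≤ 0 := mul_nonpos_of_nonneg_of_nonpos (by linarith) h'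
        linarith
      have hra : 2 ≤ r * a := by nlinarith
      have hp1 : 1 ≤ p := by
        by_contra h
        have h' : p = 0 := by linarith
        rw [h'] at hX
        linarith
      have hcp : 1 ≤ c * p := by nlinarith
      have hrq : r * q ≤ 0 := mul_nonpos_of_nonneg_of_nonpos (by linarith) hq
      have hda : 1 ≤ d * a := by nlinarith
      have e1 : d * a = 1 := by linarith
      have e2 : c * p = 1 := by linarith
      have e3 : r * q = 0 := by linarith
      have hd1 : d = 1 := by
        have : d ≤ 1 := by nlinarith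
        linarith
      have ha1 : a = 1 := by
        rw [hd1] at e1; linarith
      have hc1 : c = 1 := by
        have : c ≤ 1 := by nlinarith
        linarith
      have hq0 : q = 0 := by
        rcases mul_eq_zero.mp e3 with h | h
        · linarith
        · exact h
      exact hexc ⟨hd1, hc1, ha1, by rw [hq0, mul_zero]⟩
    · -- q ≥ 1
      have hq1 : 1 ≤ q := hq
      have hrq : 2 ≤ r * q := by nlinarith
      rcases eq_or_lt_of_le hp with hp0 | hp1
      · -- p = 0
        have hp0' : p = 0 := hp0.symm
        rw [hp0'] at hX hsl hsu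
        have hra : r * a ≤ 0 := by linarith
        have ha0 : a ≤ 0 := by
          by_contra h
          have h' : 1 ≤ a := by linarith
          nlinarith
        have hda : d * a ≤ 0 := mul_nonpos_of_nonneg_of_nonpos (by linarith) ha0
        have e1 : r * q = 2 := by linarith
        have e2 : d * a = 0 := by linarith
        have ha : a = 0 := by
          rcases mul_eq_zero.mp e2 with h | h
          · linarith
          · exact h
        have hr2' : r = 2 := by
          by_contra h
          have h3 : 3 ≤ r := by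
            rcases lt_or_gt_of_ne h with h' | h'
            · linarith
            · linarith
          nlinarith
        exact hr2 hr2' ⟨hp0', ha⟩
      · -- p ≥ 1
        have hp1' : 1 ≤ p := hp1
        have hcp : 1 ≤ c * p := by nlinarith
        have hnp : 1 ≤ n * p := by nlinarith
        have hnpq : 1 ≤ n * p * q := by nlinarith
        have hane : a ≠ 0 := by
          intro h
          rw [h] at hodge
          nlinarith
        rcases lt_or_gt_of_ne hane with ha | ha
        · -- a < 0
          obtain ⟨b, hb⟩ : ∃ b, b = -a := ⟨_, rfl⟩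
          have hb0 : 1 ≤ b := by linarith
          have hab : a = -b := by linarith
          rw [hab] at hodge hZ' hsl hsu
          have h1 : c * b ≤ 2 * n * d * q - 1 := by linarith
          have h2 : 4 * n * p * q ≤ b * b := by linarith
          have h3 : c * (4 * n * p * q) ≤ c * (b * b) :=
            mul_le_mul_of_nonneg_left h2 (by linarith)
          have h4 : c * b * b ≤ (2 * n * d * q - 1) * b :=
            mul_le_mul_of_nonneg_right h1 (by linarith)
          have h5 : 2 * (n * q) * (2 * (c * p) - d * b) < 0 := by nlinarith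
          have hnq : 1 ≤ n * q := by nlinarith
          have h6 : 2 * (c * p) - d * b < 0 := by
            by_contra h
            have h' : 0 ≤ 2 * (c * p) - d * b := by linarith
            have : 0 ≤ 2 * (n * q) * (2 * (c * p) - d * b) :=
              mul_nonneg (by linarith) h'
            linarith
          nlinarith
        · -- a > 0
          have ha1 : 1 ≤ a := ha
          have h1 : r * a ≤ 2 * n * d * p := by linarith
          have h2 : r * a * a ≤ 2 * n * d * p * a :=
            mul_le_mul_of_nonneg_right h1 (by linarith)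
          have h3 : r * (4 * n * p * q) ≤ r * (a * a) :=
            mul_le_mul_of_nonneg_left hodge (by linarith)
          have h5 : 2 * (n * p) * (2 * (r * q) - d * a) ≤ 0 := by nlinarith
          have h6 : 2 * (r * q) - d * a ≤ 0 := by
            by_contra h
            have h' : 1 ≤ 2 * (r * q) - d * a := by linarith
            have : 2 * (n * p) * 1 ≤ 2 * (n * p) * (2 * (r * q) - d * a) :=
              mul_le_mul_of_nonneg_left h' (by linarith)
            linarith
          linarith
  · intro hZ
    by_contra hX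
    have hX' : 2 * n * d * p + 1 ≤ r * a := by
      have : 2 * n * d * p - r * a < 0 := not_le.mp hX
      linarith
    have hndp : 0 ≤ n * d * p := mul_nonneg (by linarith) hp
    have hra : 1 ≤ r * a := by nlinarith
    have ha : 1 ≤ a := by
      by_contra h
      have h' : a ≤ 0 := by linarith
      have : r * a ≤ 0 := mul_nonpos_of_nonneg_of_nonpos (by linarith) h'
      linarith
    have hca : 1 ≤ c * a := by nlinarith
    have hq : q ≤ -1 := by
      by_contra h
      have h' : 0 ≤ q := by linarith
      have : 0 ≤ n * d * q := mul_nonneg (by linarith) h'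
      linarith
    have hda : 1 ≤ d * a := by nlinarith
    have hrq : r * q ≤ -2 := by nlinarith
    have hcp : 0 ≤ c * p := mul_nonneg (by linarith) hp
    linarith

theorem main
    (N : Type u) [AddCommGroup N] (B : LinearMap.BilinForm ℤ N) (hB : ∀ x y : N, B x y = B y x)
    (H : N) (n : ℤ) (hn : 0 < n) (hH : B H H = 2 * n) (hodge : ∀ x : N, B x H = 0 → B x x ≤ 0)
    (r d χ p q : ℤ) (η : N) (hr : 2 ≤ r) (hd : 0 < d) (hχ : χ < 0) (hp : 0 ≤ p)
    (hiso : B η η = 2 * p * q)
    (hvu : 1 ≤ |d * B H η - r * q - χ * p| ∧ |d * B H η - r * q - χ * p| ≤ 2)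
    (hexc : ¬ (d = 1 ∧ χ = -1 ∧ B H η = 1 ∧ B η η = 0))
    (hr2 : r = 2 → ¬ (p = 0 ∧ B H η = 0)) :
    (0 ≤ 2 * n * d * p - r * B H η ↔ 0 ≤ χ * B H η - 2 * n * d * q) := by
  obtain ⟨a, ha⟩ : ∃ a, a = B H η := ⟨_, rfl⟩
  have hηH : B η H = a := by rw [hB, ha]
  have hod : 4 * n * p * q ≤ a * a := by
    have h1 := hodge ((2 * n) • η - a • H) (by
      simp only [map_sub, map_smul, LinearMap.sub_apply, LinearMap.smul_apply, smul_eq_mul, hηH, hH]
      ring)
    simp only [map_sub, map_smul, LinearMap.sub_apply, LinearMap.smul_apply, smul_eq_mul,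
      hηH, hH, hiso, ← ha] at h1
    have h2 : 0 ≤ 2 * n * (a * a - 4 * n * p * q) := by linarith
    by_contra h
    have h' : a * a - 4 * n * p * q ≤ -1 := by linarith
    nlinarith
  rw [← ha] at hvu hexc hr2 ⊢
  have key := core n r d (-χ) p q a hn hr hd (by linarith) hp hod
    (by rw [show d * a - r * q + -χ * p = d * a - r * q - χ * p by ring]; exact hvu.1)
    (by rw [show d * a - r * q + -χ * p = d * a - r * q - χ * p by ring]; exact hvu.2)
    (by
      rintro ⟨h1, h2, h3, h4⟩
      apply hexc
      refine ⟨h1, by linarith, h3, ?_⟩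
      rw [hiso, mul_assoc, h4, mul_zero])
    hr2
  rw [show - -χ * a - 2 * n * d * q = χ * a - 2 * n * d * q by ring] at key
  exact key


end


/-- Let N be an abelian group with a symmetric integer-valued bilinear form and H an element with H·H =
2n for some n > 0 such that every x with x·H = 0 satisfies x·x ≤ 0 (the Hodge index inequality). Fix
integers r ≥ 2, d > 0 and χ < 0 (a Mukai vector v = (r, dH, χ)) and an isotropic Mukai vector u =
(p, η, q), p ≥ 0, η ∈ N, η·η = 2pq, whose pairing ⟨v, u⟩ = d(H·η) − rq − χp has absolute value 1 or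
2. Exclude the case d = 1, χ = −1, H·η = 1, η·η = 0, and when r = 2 also the case p = 0, H·η = 0.
Then the pairings of u∨ = (p, −η, q) with w₀ = (0, rH, −2nd) and with w₁ = (2nd, −χH, 0) are both
non-negative or both negative: 2ndp − r(H·η) ≥ 0 holds if and only if χ(H·η) − 2ndq ≥ 0 holds. -/
theorem result
    (N : Type u) [AddCommGroup N] (B : LinearMap.BilinForm ℤ N) (hB : ∀ x y : N, B x y = B y x)
    (H : N) (n : ℤ) (hn : 0 < n) (hH : B H H = 2 * n) (hodge : ∀ x : N, B x H = 0 → B x x ≤ 0)
    (r d χ p q : ℤ) (η : N) (hr : 2 ≤ r) (hd : 0 < d) (hχ : χ < 0) (hp : 0 ≤ p)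
    (hiso : B η η = 2 * p * q)
    (hvu : 1 ≤ |d * B H η - r * q - χ * p| ∧ |d * B H η - r * q - χ * p| ≤ 2)
    (hexc : ¬ (d = 1 ∧ χ = -1 ∧ B H η = 1 ∧ B η η = 0))
    (hr2 : r = 2 → ¬ (p = 0 ∧ B H η = 0)) :
    (0 ≤ 2 * n * d * p - r * B H η ↔ 0 ≤ χ * B H η - 2 * n * d * q) := by
  classical
  exact main N B hB H n hn hH hodge r d χ p q η hr hd hχ hp hiso hvu hexc hr2

end Groth.Agent.S16156
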