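import Groth.Statements.S16158
import Mathlib

set_option autoImplicit false
universe u v w
open MadRed

namespace Groth.Agent.S16158

theorem key (R : Type u) [CommRing R]
    (M : Type v) [AddCommGroup M] [Module R M]
    {ι : Type w} [DecidableEq ι] (N : ι → Submodule R M) (hN : DirectSum.IsInternal N)
    (p : Ideal R) [p.IsPrime] (g : ℕ) (y : Fin g → M) (hy : ∀ k, ∀ a ∈ p, a • y k = 0)
    (hspan : ∀ x : M, (∀ a ∈ p, a • x = 0) → x ∈ Submodule.span R (Set.range y))
    (T : Finset ι) (x : ι → M) (hx : ∀ i ∈ T, x i ∈ N i)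
    (hann : ∀ i ∈ T, ∀ a : R, a • x i = 0 ↔ a ∈ p) :
    T.card ≤ g := by
  classical
  by_contra hlt
  have hlt' : g < T.card := not_le.mp hlt
  have hex : ∀ i : T, ∃ a : Fin g → R, x i = ∑ k, a k • y k := by
    intro i
    have h1 : x i ∈ Submodule.span R (Set.range y) :=
      hspan _ (fun a ha => ((hann i i.2 a).2 ha))
    obtain ⟨a, ha⟩ := (Submodule.mem_span_range_iff_exists_fun R).1 h1
    exact ⟨a, ha.symm⟩
  choose a ha using hex
  let A : Matrix T (Fin g) (R ⧸ p) := fun i k => Ideal.Quotient.mk p (a i k)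
  have hninj : ¬ Function.Injective (Matrix.vecMulLinear A) := by
    intro hinj
    have := card_le_of_injective (R ⧸ p) (Matrix.vecMulLinear A) hinj
    simp at this
    omega
  rw [← LinearMap.ker_eq_bot, Submodule.eq_bot_iff] at hninj
  simp only [not_forall] at hninj
  obtain ⟨c, hc, hc0⟩ := hninj
  rw [LinearMap.mem_ker] at hc
  have hlift : ∀ i : T, ∃ r : R, Ideal.Quotient.mk p r = c i := fun i =>
    Ideal.Quotient.mk_surjective (c i)
  choose r hr using hlift
  have hcoef : ∀ k, ∑ i : T, r i * a i k ∈ p := by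
    intro k
    rw [← Ideal.Quotient.eq_zero_iff_mem, map_sum]
    have := congrFun hc k
    simp only [Matrix.vecMulLinear_apply, Matrix.vecMul, dotProduct, Pi.zero_apply] at this
    rw [← this]
    refine Finset.sum_congr rfl (fun i _ => ?_)
    rw [map_mul, hr]
  have hsum : ∑ i : T, r i • x i = 0 := by
    calc ∑ i : T, r i • x i = ∑ i : T, r i • ∑ k, a i k • y k := by
          refine Finset.sum_congr rfl (fun i _ => ?_)
          rw [← ha i]
      _ = ∑ i : T, ∑ k, (r i * a i k) • y k := by
          refine Finset.sum_congr rfl (fun i _ => ?_)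
          rw [Finset.smul_sum]
          refine Finset.sum_congr rfl (fun k _ => ?_)
          rw [mul_smul]
      _ = ∑ k, ∑ i : T, (r i * a i k) • y k := Finset.sum_comm
      _ = ∑ k, (∑ i : T, r i * a i k) • y k := by
          refine Finset.sum_congr rfl (fun k _ => ?_)
          rw [Finset.sum_smul]
      _ = 0 := by
          refine Finset.sum_eq_zero (fun k _ => ?_)
          exact hy k _ (hcoef k)
  -- use independence
  have hind := hN.submodule_iSupIndep
  have hinj := hind.dfinsupp_lsum_injective
  let z : Π₀ i, N i := ∑ i : T, DFinsupp.single (i : ι) ⟨r i • x i, (N i).smul_mem _ (hx i i.2)⟩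
  have hz : (DFinsupp.lsum ℕ fun i => (N i).subtype) z = 0 := by
    simp only [z, map_sum, DFinsupp.lsum_single, Submodule.subtype_apply]
    exact hsum
  have hz0 : z = 0 := hinj (by rw [hz, map_zero])
  apply hc0
  funext i
  have h2 : z (i : ι) = 0 := by rw [hz0]; rfl
  have h3 : z (i : ι) = ⟨r i • x i, (N i).smul_mem _ (hx i i.2)⟩ := by
    simp only [z, DFinsupp.finsetSum_apply]
    rw [Finset.sum_eq_single i]
    · simp
    · intro j _ hji
      rw [DFinsupp.single_eq_of_ne]
      intro h
      exact hji (Subtype.ext h).symm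
    · intro h; exact absurd (Finset.mem_univ i) h
  rw [h3] at h2
  have h4 : r i • x i = 0 := congrArg Subtype.val h2
  have h5 := (hann i i.2 (r i)).1 h4
  rw [Pi.zero_apply, ← hr i]
  exact Ideal.Quotient.eq_zero_iff_mem.2 h5

/-- Let R be a commutative Noetherian ring and M a finitely generated R-module. Then there is a natural
number n such that in every decomposition of M as an internal direct sum of a family of submodules,
at most n of the summands are nonzero (the nonzero summands are indexed by a finite set of size at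
most n). -/
theorem result (R : Type u) [CommRing R] [IsNoetherianRing R]
    (M : Type v) [AddCommGroup M] [Module R M] [Module.Finite R M] :
    ∃ n : ℕ, ∀ (ι : Type w) [DecidableEq ι] (N : ι → Submodule R M), DirectSum.IsInternal N →
      ∃ s : Finset ι, s.card ≤ n ∧ ∀ i, N i ≠ ⊥ → i ∈ s := by
  classical
  have hfin := associatedPrimes.finite R M
  have hfg : ∀ p : Ideal R, ∃ (g : ℕ) (y : Fin g → M), (∀ k, ∀ a ∈ p, a • y k = 0) ∧
      ∀ x : M, (∀ a ∈ p, a • x = 0) → x ∈ Submodule.span R (Set.range y) := by
    intro p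
    let K : Submodule R M := Submodule.torsionBySet R M p
    have hK : K.FG := IsNoetherian.noetherian K
    obtain ⟨g, y, hy⟩ := Submodule.fg_iff_exists_fin_generating_family.1 hK
    have hmem : ∀ k, y k ∈ K := fun k => hy ▸ Submodule.subset_span (Set.mem_range_self k)
    refine ⟨g, y, ?_, ?_⟩
    · intro k a ha
      exact (Submodule.mem_torsionBySet_iff _ _).1 (hmem k) ⟨a, ha⟩
    · intro x hx
      rw [hy]
      exact (Submodule.mem_torsionBySet_iff _ _).2 (fun a => hx a a.2)
  choose g y hy hspan using hfg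
  refine ⟨∑ p ∈ hfin.toFinset, g p, ?_⟩
  intro ι _ N hN
  -- every finite set of nonzero indices has card ≤ n
  have hbound : ∀ T : Finset ι, (∀ i ∈ T, N i ≠ ⊥) → T.card ≤ ∑ p ∈ hfin.toFinset, g p := by
    intro T hT
    have hex : ∀ i : T, ∃ (q : Ideal R) (x : M), q ∈ associatedPrimes R M ∧ x ∈ N i ∧
        ∀ a : R, a • x = 0 ↔ a ∈ q := by
      intro i
      have hnt : Nontrivial (N i) := (Submodule.nontrivial_iff_ne_bot).2 (hT i i.2)
      obtain ⟨q, hq⟩ := associatedPrimes.nonempty R (N i)
      obtain ⟨hqp, x, hx⟩ := isAssociatedPrime_iff.1 hq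
      refine ⟨q, (x : M), ?_, x.2, ?_⟩
      · exact (hq.map_of_injective (N i).subtype (N i).injective_subtype)
      · intro a
        rw [hx, Submodule.mem_colon_singleton, Submodule.mem_bot]
        rw [← Submodule.coe_smul, Submodule.coe_eq_zero]
    choose q x hq hx hann using hex
    let q' : ι → Ideal R := fun i => if h : i ∈ T then q ⟨i, h⟩ else ⊥
    let x' : ι → M := fun i => if h : i ∈ T then x ⟨i, h⟩ else 0
    have hmaps : ∀ i ∈ T, q' i ∈ hfin.toFinset := by
      intro i hi
      simp only [q', dif_pos hi, Set.Finite.mem_toFinset]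
      exact hq ⟨i, hi⟩
    rw [Finset.card_eq_sum_card_fiberwise hmaps]
    refine Finset.sum_le_sum (fun p hp => ?_)
    have hpp : p.IsPrime := ((hfin.mem_toFinset).1 hp).isPrime
    refine key R M N hN p (g p) (y p) (hy p) (hspan p) _ x' ?_ ?_
    · intro i hi
      have hiT : i ∈ T := (Finset.mem_filter.1 hi).1
      simp only [x', dif_pos hiT]
      exact hx ⟨i, hiT⟩
    · intro i hi a
      have hiT : i ∈ T := (Finset.mem_filter.1 hi).1
      have hqi : q' i = p := (Finset.mem_filter.1 hi).2
      simp only [x', dif_pos hiT]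
      rw [hann ⟨i, hiT⟩ a, ← hqi]
      simp only [q', dif_pos hiT]
  have hfinite : {i | N i ≠ ⊥}.Finite := by
    by_contra hinf
    obtain ⟨T, hTsub, hTcard⟩ := (Set.not_finite.mp hinf |> fun h => Set.Infinite.exists_subset_card_eq h ((∑ p ∈ hfin.toFinset, g p) + 1))
    have := hbound T (fun i hi => hTsub hi)
    omega
  refine ⟨hfinite.toFinset, hbound _ (fun i hi => (hfinite.mem_toFinset).1 hi), ?_⟩
  intro i hi
  exact (hfinite.mem_toFinset).2 hi

end Groth.Agent.S16158
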