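import Groth.Statements.S16159
import Mathlib

set_option autoImplicit false
universe u v w x
open MadRed

namespace Groth.Agent.S16159

section
open Module

section A
variable {k : Type u} [Field k] {V : Type w} [AddCommGroup V] [Module k V]

theorem comp_mem (f : Module.End k V) (p : Submodule k V) (hp : ∀ x ∈ p, f x ∈ p) :
    ∀ (s : Finset k) (x : k → V), (∀ μ ∈ s, f (x μ) = μ • x μ) → (∑ μ ∈ s, x μ) ∈ p →
      ∀ μ ∈ s, x μ ∈ p := by
  classical
  intro s
  induction s using Finset.induction_on with
  | empty => intro x _ _ μ hμ; simp at hμ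
  | @insert μ0 s' hμ0 ih =>
    intro x hx hsum μ hμ
    rw [Finset.sum_insert hμ0] at hsum
    have h1 : (∑ μ ∈ s', (μ - μ0) • x μ) ∈ p := by
      have h2 : f (x μ0 + ∑ μ ∈ s', x μ) - μ0 • (x μ0 + ∑ μ ∈ s', x μ) ∈ p :=
        p.sub_mem (hp _ hsum) (p.smul_mem _ hsum)
      have h3 : f (x μ0 + ∑ μ ∈ s', x μ) - μ0 • (x μ0 + ∑ μ ∈ s', x μ)
          = ∑ μ ∈ s', (μ - μ0) • x μ := by
        rw [map_add, map_sum, hx μ0 (Finset.mem_insert_self _ _), smul_add, Finset.smul_sum]
        rw [add_sub_add_comm, sub_self, zero_add, ← Finset.sum_sub_distrib]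
        apply Finset.sum_congr rfl
        intro ν hν
        rw [hx ν (Finset.mem_insert_of_mem hν), sub_smul]
      rwa [h3] at h2
    have h4 : ∀ ν ∈ s', x ν ∈ p := by
      intro ν hν
      have h5 := ih (fun μ => (μ - μ0) • x μ) (by
        intro μ hμ
        rw [map_smul, hx μ (Finset.mem_insert_of_mem hμ), smul_comm]) h1 ν hν
      have hne : ν - μ0 ≠ 0 := by
        intro h; apply hμ0; rw [sub_eq_zero] at h; rwa [← h]
      have := p.smul_mem (ν - μ0)⁻¹ h5
      rwa [smul_smul, inv_mul_cancel₀ hne, one_smul] at this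
    rcases Finset.mem_insert.mp hμ with rfl | hμ
    · have : x μ = (x μ + ∑ μ ∈ s', x μ) - ∑ μ ∈ s', x μ := by abel
      rw [this]
      exact p.sub_mem hsum (p.sum_mem h4)
    · exact h4 μ hμ

theorem mem_iSup_inf (f : Module.End k V) (hf : ⨆ μ, f.eigenspace μ = ⊤) (p : Submodule k V)
    (hp : ∀ x ∈ p, f x ∈ p) (x : V) (hx : x ∈ p) : x ∈ ⨆ μ, p ⊓ f.eigenspace μ := by
  classical
  have hx' : x ∈ ⨆ μ, f.eigenspace μ := by rw [hf]; trivial
  obtain ⟨m, hm, rfl⟩ := (Submodule.mem_iSup_iff_exists_finsupp _ _).mp hx'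
  have := comp_mem f p hp m.support (fun μ => m μ)
    (fun μ _ => Module.End.mem_eigenspace_iff.mp (hm μ)) hx
  rw [Submodule.mem_iSup_iff_exists_finsupp]
  refine ⟨m, fun μ => ?_, rfl⟩
  by_cases h : μ ∈ m.support
  · exact ⟨this μ h, hm μ⟩
  · rw [Finsupp.notMem_support_iff.mp h]; exact Submodule.zero_mem _

end A

section B
variable {k : Type u} [Field k] {R : Type v} [CommRing R] [Algebra k R]
  {M : Type w} [AddCommGroup M] [Module R M] [Module k M] [IsScalarTower k R M]
  {ι : Type x} (g : ι → Module.End R M)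

/-- eigenspace as an `R`-submodule -/
def E (i : ι) (μ : k) : Submodule R M where
  carrier := {x | g i x = μ • x}
  add_mem' := by
    intro a b ha hb; simp only [Set.mem_setOf_eq] at *; rw [map_add, ha, hb, smul_add]
  zero_mem' := by simp
  smul_mem' := by
    intro r x hx; simp only [Set.mem_setOf_eq] at *; rw [map_smul, hx, smul_comm]

theorem mem_E (i : ι) (μ : k) (x : M) : x ∈ E g i μ ↔ g i x = μ • x := Iff.rfl

theorem noeth_main [IsNoetherian R M] (hcomm : ∀ i j, Commute (g i) (g j))
    (hdiag : ∀ i, ⨆ μ : k, Module.End.eigenspace ((g i).restrictScalars k) μ = ⊤) :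
    ∀ Y X : Submodule R M, (∀ i, ∀ x ∈ X, g i x ∈ X) → X ⊔ Y = ⊤ → X ⊓ Y = ⊥ →
      ∀ x ∈ X, x ∈ ⨆ χ : ι → k, ⨅ i, Module.End.eigenspace ((g i).restrictScalars k) (χ i) := by
  intro Y
  induction Y using WellFoundedGT.induction with
  | ind Y ih =>
  intro X hX hsup hinf
  by_cases hcase : ∀ i, ∃ μ : k, X ≤ E g i μ
  · choose χ hχ using hcase
    intro x hx
    apply Submodule.mem_iSup_of_mem χ
    rw [Submodule.mem_iInf]
    intro i
    rw [Module.End.mem_eigenspace_iff]
    exact hχ i hx
  · obtain ⟨i, hi⟩ : ∃ i, ∀ μ : k, ¬ X ≤ E g i μ := by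
      by_contra hcon
      apply hcase
      intro i
      by_contra hcon2
      exact hcon ⟨i, fun μ hμ => hcon2 ⟨μ, hμ⟩⟩
    -- the pieces
    have hXsup : X ≤ ⨆ μ : k, X ⊓ E g i μ := by
      intro x hx
      have h1 := mem_iSup_inf ((g i).restrictScalars k) (hdiag i) (X.restrictScalars k)
        (fun y hy => hX i y hy) x hx
      have h2 : (⨆ μ : k, (X.restrictScalars k) ⊓
          Module.End.eigenspace ((g i).restrictScalars k) μ) ≤
          (⨆ μ : k, X ⊓ E g i μ).restrictScalars k := by
        apply iSup_le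
        intro μ z hz
        exact Submodule.mem_iSup_of_mem μ ⟨hz.1, Module.End.mem_eigenspace_iff.mp hz.2⟩
      exact h2 h1
    have hstab : ∀ μ : k, ∀ j, ∀ x ∈ X ⊓ E g i μ, g j x ∈ X ⊓ E g i μ := by
      intro μ j x hx
      refine ⟨hX j x hx.1, ?_⟩
      show g i (g j x) = μ • g j x
      have h1 : g i (g j x) = g j (g i x) := by
        have := hcomm i j
        exact congrArg (fun t => t x) this.eq
      rw [h1, (mem_E g i μ x).mp hx.2, LinearMap.map_smul_of_tower]
    -- each piece lies in the simultaneous span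
    have hpiece : ∀ μ : k, ∀ x ∈ X ⊓ E g i μ,
        x ∈ ⨆ χ : ι → k, ⨅ i, Module.End.eigenspace ((g i).restrictScalars k) (χ i) := by
      intro μ
      apply ih (Y ⊔ ⨆ ν : {ν : k // ν ≠ μ}, X ⊓ E g i ν.val)
      · -- strictness
        refine lt_of_le_of_ne le_sup_left ?_
        intro hYeq
        have h1 : ∀ ν : k, ν ≠ μ → X ⊓ E g i ν = ⊥ := by
          intro ν hν
          rw [eq_bot_iff, ← hinf]
          refine le_inf inf_le_left ?_
          rw [hYeq]
          exact le_sup_of_le_right (le_iSup (fun ν : {ν : k // ν ≠ μ} => X ⊓ E g i ν.val) ⟨ν, hν⟩)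
        apply hi μ
        refine hXsup.trans ?_
        apply iSup_le
        intro ν
        by_cases hν : ν = μ
        · rw [hν]; exact inf_le_right
        · rw [h1 ν hν]; exact bot_le
      · exact hstab μ
      · -- sup is top
        rw [eq_top_iff, ← hsup]
        refine sup_le ?_ (le_sup_of_le_right le_sup_left)
        refine hXsup.trans ?_
        apply iSup_le
        intro ν
        by_cases hν : ν = μ
        · rw [hν]; exact le_sup_left
        · exact le_sup_of_le_right (le_sup_of_le_right
            (le_iSup (fun ν : {ν : k // ν ≠ μ} => X ⊓ E g i ν.val) ⟨ν, hν⟩))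
      · -- disjoint
        rw [eq_bot_iff]
        intro z hz
        obtain ⟨hz1, hz2⟩ := hz
        obtain ⟨y, hy, w', hw, hyw⟩ := Submodule.mem_sup.mp hz2
        have hwX : w' ∈ X := by
          have : (⨆ ν : {ν : k // ν ≠ μ}, X ⊓ E g i ν.val) ≤ X := iSup_le fun ν => inf_le_left
          exact this hw
        have hy0 : y = 0 := by
          have hyX : y ∈ X := by
            have : y = z - w' := by rw [← hyw]; abel
            rw [this]; exact X.sub_mem hz1.1 hwX
          have : y ∈ X ⊓ Y := ⟨hyX, hy⟩
          rw [hinf] at this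
          exact (Submodule.mem_bot R).mp this
        have hzw : z = w' := by rw [← hyw, hy0, zero_add]
        have hindep := Module.End.eigenspaces_iSupIndep ((g i).restrictScalars k)
        have hdis := hindep μ
        have hw2 : w' ∈ ⨆ (j : k) (_ : j ≠ μ),
            Module.End.eigenspace ((g i).restrictScalars k) j := by
          refine Submodule.iSup_induction (fun ν : {ν : k // ν ≠ μ} => X ⊓ E g i ν.val)
            (motive := fun t => t ∈ ⨆ (j : k) (_ : j ≠ μ),
              Module.End.eigenspace ((g i).restrictScalars k) j) hw ?_ ?_ ?_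
          · intro ν t ht
            exact Submodule.mem_iSup_of_mem ν.val (Submodule.mem_iSup_of_mem ν.2
              (Module.End.mem_eigenspace_iff.mpr ht.2))
          · exact Submodule.zero_mem _
          · intro a b ha hb; exact Submodule.add_mem _ ha hb
        have hz3 : z ∈ Module.End.eigenspace ((g i).restrictScalars k) μ :=
          Module.End.mem_eigenspace_iff.mpr hz1.2
        have := (Submodule.disjoint_def.mp hdis) z hz3 (hzw ▸ hw2)
        rw [this]; exact Submodule.zero_mem _
    intro x hx
    refine Submodule.iSup_induction (fun μ : k => X ⊓ E g i μ)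
      (motive := fun t => t ∈ ⨆ χ : ι → k, ⨅ i,
        Module.End.eigenspace ((g i).restrictScalars k) (χ i)) (hXsup hx) ?_ ?_ ?_
    · intro μ t ht; exact hpiece μ t ht
    · exact Submodule.zero_mem _
    · intro a b ha hb; exact Submodule.add_mem _ ha hb

end B

theorem main
    (k : Type u) [Field k] (R : Type v) [CommRing R] [Algebra k R] [IsNoetherianRing R]
    (V : Type w) [AddCommGroup V] [Module R V] [Module k V] [IsScalarTower k R V]
    (ι : Type x) (f : ι → Module.End R V)
    (hcomm : ∀ i j, Commute (f i) (f j))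
    (hdiag : ∀ i, ⨆ μ : k, Module.End.eigenspace ((f i).restrictScalars k) μ = ⊤)
    (hfin : ∀ v : V, ∃ W : Submodule R V, v ∈ W ∧ W.FG ∧ ∀ i, ∀ w ∈ W, f i w ∈ W) :
    ⨆ χ : ι → k, ⨅ i, Module.End.eigenspace ((f i).restrictScalars k) (χ i) = ⊤ := by
  rw [eq_top_iff]
  intro v _
  obtain ⟨W, hvW, hWfg, hW⟩ := hfin v
  have hNoeth : IsNoetherian R W := isNoetherian_of_fg_of_noetherian W hWfg
  let g : ι → Module.End R W := fun i => (f i).restrict (hW i)
  have hgcomm : ∀ i j, Commute (g i) (g j) := by
    intro i j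
    apply LinearMap.ext
    intro z
    apply Subtype.ext
    have := hcomm i j
    exact congrArg (fun t => t z.val) this.eq
  have hgdiag : ∀ i, ⨆ μ : k, Module.End.eigenspace ((g i).restrictScalars k) μ = ⊤ := by
    intro i
    rw [eq_top_iff]
    intro z _
    have h1 := mem_iSup_inf ((f i).restrictScalars k) (hdiag i) (W.restrictScalars k)
      (fun y hy => hW i y hy) z.val z.2
    have h2 : ∃ hy : z.val ∈ W, (⟨z.val, hy⟩ : W) ∈
        ⨆ μ : k, Module.End.eigenspace ((g i).restrictScalars k) μ := by
      refine Submodule.iSup_induction (fun μ : k => (W.restrictScalars k) ⊓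
        Module.End.eigenspace ((f i).restrictScalars k) μ)
        (motive := fun t => ∃ hy : t ∈ W, (⟨t, hy⟩ : W) ∈
          ⨆ μ : k, Module.End.eigenspace ((g i).restrictScalars k) μ) h1 ?_ ?_ ?_
      · intro μ t ht
        refine ⟨ht.1, Submodule.mem_iSup_of_mem μ ?_⟩
        rw [Module.End.mem_eigenspace_iff]
        apply Subtype.ext
        exact Module.End.mem_eigenspace_iff.mp ht.2
      · exact ⟨W.zero_mem, Submodule.zero_mem _⟩
      · rintro a b ⟨ha, ha'⟩ ⟨hb, hb'⟩
        exact ⟨W.add_mem ha hb, Submodule.add_mem _ ha' hb'⟩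
    obtain ⟨_, h3⟩ := h2
    exact h3
  have key := noeth_main g hgcomm hgdiag ⊥ ⊤ (fun i x _ => trivial) (by simp) (by simp)
    ⟨v, hvW⟩ trivial
  refine Submodule.iSup_induction (fun χ : ι → k => ⨅ i,
      Module.End.eigenspace ((g i).restrictScalars k) (χ i))
    (motive := fun t => t.val ∈ ⨆ χ : ι → k, ⨅ i,
      Module.End.eigenspace ((f i).restrictScalars k) (χ i)) key ?_ ?_ ?_
  · intro χ t ht
    apply Submodule.mem_iSup_of_mem χ
    rw [Submodule.mem_iInf] at ht ⊢
    intro i
    rw [Module.End.mem_eigenspace_iff]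
    have := Module.End.mem_eigenspace_iff.mp (ht i)
    exact congrArg Subtype.val this
  · exact Submodule.zero_mem _
  · intro a b ha hb; exact Submodule.add_mem _ ha hb


end


/-- Let k be a field, R a commutative Noetherian k-algebra and V an R-module, viewed also as a k-vector
space through k → R. Let (f_i) be a family of pairwise commuting R-linear endomorphisms of V such
that each f_i, as a k-linear map, is diagonalizable over k (its eigenspaces span V), and such that
every vector of V lies in a finitely generated R-submodule stable under every f_i. Then the family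
is simultaneously diagonalizable over k: the common eigenspaces ⨅_i Eig(f_i, χ(i)), over all
assignments χ of eigenvalues in k, span V. The source states this for the endomorphisms given by an
abelian group acting R-linearly; the row takes any commuting family, which is what the argument
uses, and neither k algebraically closed nor of characteristic zero is needed. -/
theorem result
    (k : Type u) [Field k] (R : Type v) [CommRing R] [Algebra k R] [IsNoetherianRing R]
    (V : Type w) [AddCommGroup V] [Module R V] [Module k V] [IsScalarTower k R V]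
    (ι : Type x) (f : ι → Module.End R V)
    (hcomm : ∀ i j, Commute (f i) (f j))
    (hdiag : ∀ i, ⨆ μ : k, Module.End.eigenspace ((f i).restrictScalars k) μ = ⊤)
    (hfin : ∀ v : V, ∃ W : Submodule R V, v ∈ W ∧ W.FG ∧ ∀ i, ∀ w ∈ W, f i w ∈ W) :
    ⨆ χ : ι → k, ⨅ i, Module.End.eigenspace ((f i).restrictScalars k) (χ i) = ⊤ := by
  classical
  exact main k R V ι f hcomm hdiag hfin

end Groth.Agent.S16159
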