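import Groth.Statements.S16160
import Mathlib
import Groth.Agent.S16159

set_option autoImplicit false
universe u v w
open scoped TensorProduct
open MadRed

namespace Groth.Agent.S16160

section
open TensorProduct Coalgebra

section coideal
variable (k : Type u) [Field k] (A : Type v) [CommRing A] [Bialgebra k A]
variable {I : Type v} [DecidableEq I] (B : Module.Basis I k A)

/-- coefficient extraction: `x ⊗ y ↦ (coord m y) • x` -/
noncomputable def P (M : Type v) [AddCommGroup M] [Module k M] (m : I) : M ⊗[k] A →ₗ[k] M :=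
  (TensorProduct.rid k M).toLinearMap ∘ₗ LinearMap.lTensor M (B.coord m)

theorem P_tmul (M : Type v) [AddCommGroup M] [Module k M] (m : I) (x : M) (y : A) :
    P k A B M m (x ⊗ₜ y) = B.coord m y • x := by
  simp [P]

theorem P_nat {M M' : Type v} [AddCommGroup M] [Module k M] [AddCommGroup M'] [Module k M']
    (φ : M →ₗ[k] M') (m : I) (t : M ⊗[k] A) :
    φ (P k A B M m t) = P k A B M' m (LinearMap.rTensor A φ t) := by
  induction t using TensorProduct.induction_on with
  | zero => simp
  | tmul x y => simp [P_tmul]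
  | add a b ha hb => simp only [map_add, ha, hb]

theorem P_assoc (m : I) (x : A) (t : A ⊗[k] A) :
    P k A B (A ⊗[k] A) m ((TensorProduct.assoc k A A A).symm (x ⊗ₜ t)) =
      x ⊗ₜ P k A B A m t := by
  induction t using TensorProduct.induction_on with
  | zero => simp
  | tmul u w => simp [P_tmul, TensorProduct.tmul_smul]
  | add a b ha hb => simp only [TensorProduct.tmul_add, map_add, ha, hb]

theorem expand (t : A ⊗[k] A) :
    t = ∑ i ∈ (TensorProduct.equivFinsuppOfBasisRight B t).support, P k A B A i t ⊗ₜ B i := by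
  have h1 := TensorProduct.equivFinsuppOfBasisRight_symm_apply (M := A) B
    (TensorProduct.equivFinsuppOfBasisRight B t)
  rw [LinearEquiv.symm_apply_apply] at h1
  conv_lhs => rw [h1]
  rw [Finsupp.sum]
  apply Finset.sum_congr rfl
  intro i _
  rw [TensorProduct.equivFinsuppOfBasisRight_apply]
  rfl

theorem coideal (a : A) : ∃ (s : Finset I) (c : I → A) (d : I → I → A),
    a = ∑ i ∈ s, (counit (R := k) (A := A)) (B i) • c i ∧
    ∀ m, (comul (R := k) (A := A)) (c m) = ∑ i ∈ s, c i ⊗ₜ d i m := by
  obtain ⟨s, hs⟩ : ∃ s, s = (TensorProduct.equivFinsuppOfBasisRight B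
    ((comul (R := k) (A := A)) a)).support := ⟨_, rfl⟩
  have hexp : (comul (R := k) (A := A)) a =
      ∑ i ∈ s, P k A B A i ((comul (R := k) (A := A)) a) ⊗ₜ B i := by
    rw [hs]; exact expand k A B _
  refine ⟨s, fun m => P k A B A m ((comul (R := k) (A := A)) a),
    fun i m => P k A B A m ((comul (R := k) (A := A)) (B i)), ?_, ?_⟩
  · have h1 := Coalgebra.lTensor_counit_comul (R := k) a
    rw [hexp, map_sum] at h1
    have h2 := congrArg (TensorProduct.rid k A) h1
    rw [map_sum] at h2
    simp only [LinearMap.lTensor_tmul, TensorProduct.rid_tmul, one_smul] at h2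
    exact h2.symm
  · intro m
    have h1 := P_nat k A B (comul (R := k) (A := A)) m ((comul (R := k) (A := A)) a)
    rw [h1, ← Coalgebra.coassoc_symm_apply]
    conv_lhs => rw [hexp]
    rw [map_sum, map_sum, map_sum]
    apply Finset.sum_congr rfl
    intro i _
    rw [LinearMap.lTensor_tmul, P_assoc]

end coideal

section act
variable (k : Type u) [Field k] (A : Type v) [CommRing A] [Bialgebra k A]
  (R : Type w) [CommRing R] [Algebra k R]

theorem translAux_repr {ι : Type*} (g : A →ₐ[k] R) {a : A} (𝓡 : Coalgebra.Repr k a ι) :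
    MadRed.translAux k A R g a = ∑ i ∈ 𝓡.index, g (𝓡.right i) ⊗ₜ 𝓡.left i := by
  unfold MadRed.translAux
  simp only [AlgHom.comp_apply, Bialgebra.comulAlgHom_apply]
  rw [← 𝓡.eq, map_sum, map_sum]
  apply Finset.sum_congr rfl
  intro i _
  simp

theorem translAux_of_sum (g : A →ₐ[k] R) (a : A) {ι : Type*} (s : Finset ι) (x y : ι → A)
    (h : (comul (R := k) (A := A)) a = ∑ i ∈ s, x i ⊗ₜ y i) :
    MadRed.translAux k A R g a = ∑ i ∈ s, g (y i) ⊗ₜ x i :=
  translAux_repr k A R g ⟨s, x, y, h.symm⟩

theorem ptAct_tmul (g : A →ₐ[k] R) (r : R) (a : A) :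
    MadRed.ptAct k A R g (r ⊗ₜ a) = r • MadRed.translAux k A R g a := by
  unfold MadRed.ptAct
  rw [Algebra.TensorProduct.lift_tmul, Algebra.TensorProduct.includeLeft_apply,
    Algebra.smul_def, Algebra.TensorProduct.algebraMap_apply]
  rfl

/-- the linear map `x ⊗ y ↦ g y ⊗ x` -/
noncomputable def S (g : A →ₐ[k] R) : A ⊗[k] A →ₗ[k] R ⊗[k] A :=
  TensorProduct.map g.toLinearMap LinearMap.id ∘ₗ (TensorProduct.comm k A A).toLinearMap

theorem S_tmul (g : A →ₐ[k] R) (x y : A) : S k A R g (x ⊗ₜ y) = g y ⊗ₜ x := by
  simp [S]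

theorem translAux_eq (g : A →ₐ[k] R) (a : A) :
    MadRed.translAux k A R g a = S k A R g ((comul (R := k) (A := A)) a) := by
  obtain ⟨𝓡⟩ : Nonempty (Coalgebra.Repr k a _) := ⟨ℛ k a⟩
  rw [translAux_repr k A R g 𝓡, ← 𝓡.eq, map_sum]
  apply Finset.sum_congr rfl
  intro i _
  rw [S_tmul]

/-- `u ⊗ (v ⊗ w) ↦ (g v * h w) ⊗ u` -/
noncomputable def Θ (g h : A →ₐ[k] R) : A ⊗[k] (A ⊗[k] A) →ₗ[k] R ⊗[k] A :=
  (TensorProduct.comm k A R).toLinearMap ∘ₗ
    LinearMap.lTensor A (Algebra.TensorProduct.lift g h (fun _ _ => Commute.all _ _)).toLinearMap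

theorem Θ_tmul (g h : A →ₐ[k] R) (u v w' : A) :
    Θ k A R g h (u ⊗ₜ (v ⊗ₜ w')) = (g v * h w') ⊗ₜ u := by
  simp [Θ]

theorem S_conv (g h : A →ₐ[k] R) (t : A ⊗[k] A) :
    S k A R (WithConv.ofConv (WithConv.toConv g * WithConv.toConv h)) t =
      Θ k A R g h (LinearMap.lTensor A (comul (R := k) (A := A)) t) := by
  induction t using TensorProduct.induction_on with
  | zero => simp
  | tmul x y =>
    rw [S_tmul, LinearMap.lTensor_tmul]
    have h1 : (WithConv.ofConv (WithConv.toConv g * WithConv.toConv h)) y =
        Algebra.TensorProduct.lift g h (fun _ _ => Commute.all _ _)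
          ((comul (R := k) (A := A)) y) :=
      AlgHom.convMul_apply (WithConv.toConv g) (WithConv.toConv h) y
    rw [h1]
    simp [Θ]
  | add a b ha hb => simp only [map_add, ha, hb]

theorem ptAct_S (g h : A →ₐ[k] R) (t : A ⊗[k] A) :
    MadRed.ptAct k A R g (S k A R h t) =
      Θ k A R g h (TensorProduct.assoc k A A A
        (LinearMap.rTensor A (comul (R := k) (A := A)) t)) := by
  induction t using TensorProduct.induction_on with
  | zero => simp
  | tmul x y =>
    rw [S_tmul, ptAct_tmul, translAux_eq, LinearMap.rTensor_tmul]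
    generalize (comul (R := k) (A := A)) x = t'
    induction t' using TensorProduct.induction_on with
    | zero => simp
    | tmul u v =>
      rw [S_tmul, TensorProduct.assoc_tmul, Θ_tmul, TensorProduct.smul_tmul', smul_eq_mul, mul_comm]
    | add a b ha hb =>
      simp only [map_add, smul_add, TensorProduct.add_tmul, ha, hb]
  | add a b ha hb => simp only [map_add, ha, hb]

theorem ptAct_translAux (g h : A →ₐ[k] R) (a : A) :
    MadRed.ptAct k A R g (MadRed.translAux k A R h a) =
      MadRed.translAux k A R (WithConv.ofConv (WithConv.toConv g * WithConv.toConv h)) a := by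
  rw [translAux_eq, translAux_eq, ptAct_S, S_conv, Coalgebra.coassoc_apply]

theorem ptAct_comm (g h : A →ₐ[k] R)
    (hc : WithConv.toConv g * WithConv.toConv h = WithConv.toConv h * WithConv.toConv g)
    (t : R ⊗[k] A) :
    MadRed.ptAct k A R g (MadRed.ptAct k A R h t) =
      MadRed.ptAct k A R h (MadRed.ptAct k A R g t) := by
  induction t using TensorProduct.induction_on with
  | zero => simp
  | tmul r a =>
    rw [ptAct_tmul, ptAct_tmul, map_smul, map_smul, ptAct_translAux, ptAct_translAux, hc]
  | add a b ha hb => simp only [map_add, ha, hb]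

end act

theorem main (k : Type u) [Field k]
    (A : Type v) [CommRing A] [HopfAlgebra k A] (R : Type w) [CommRing R] [Algebra k R]
    [IsNoetherianRing R] (H : Set (A →ₐ[k] R))
    (hcomm : ∀ g ∈ H, ∀ h ∈ H,
      WithConv.toConv g * WithConv.toConv h = WithConv.toConv h * WithConv.toConv g)
    (hdiag : ∀ g ∈ H, ⨆ μ : k,
      Module.End.eigenspace (((MadRed.ptAct k A R g).toLinearMap).restrictScalars k) μ = ⊤) :
    ⨆ χ : H → k, ⨅ g : H,
      Module.End.eigenspace (((MadRed.ptAct k A R g.1).toLinearMap).restrictScalars k) (χ g) = ⊤ := by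
  classical
  apply Groth.Agent.S16159.result k R (R ⊗[k] A) H
    (fun g => (MadRed.ptAct k A R g.1).toLinearMap)
  · intro i j
    apply LinearMap.ext
    intro t
    exact ptAct_comm k A R i.1 j.1 (hcomm i.1 i.2 j.1 j.2) t
  · intro i
    exact hdiag i.1 i.2
  · intro v
    induction v using TensorProduct.induction_on with
    | zero =>
      refine ⟨⊥, Submodule.zero_mem _, Submodule.fg_bot, ?_⟩
      intro i w' hw
      rw [(Submodule.mem_bot R).mp hw, map_zero]
      exact Submodule.zero_mem _
    | tmul r a =>
      obtain ⟨s, c, d, ha, hd⟩ := coideal k A (Module.Free.chooseBasis k A) a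
      refine ⟨Submodule.span R ((fun i => (1 : R) ⊗ₜ[k] c i) '' (s : Set _)), ?_,
        Submodule.fg_span (Set.Finite.image _ s.finite_toSet), ?_⟩
      · have h1 : r ⊗ₜ[k] a = r • ((1 : R) ⊗ₜ[k] a) := by
          rw [TensorProduct.smul_tmul', smul_eq_mul, mul_one]
        rw [h1]
        apply Submodule.smul_mem
        rw [ha, TensorProduct.tmul_sum]
        apply Submodule.sum_mem
        intro i hi
        rw [TensorProduct.tmul_smul, ← algebraMap_smul R]
        apply Submodule.smul_mem
        exact Submodule.subset_span ⟨i, hi, rfl⟩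
      · intro g w' hw
        induction hw using Submodule.span_induction with
        | mem x hx =>
          obtain ⟨m, _, rfl⟩ := hx
          show MadRed.ptAct k A R g.1 ((1 : R) ⊗ₜ[k] c m) ∈ _
          rw [ptAct_tmul, one_smul, translAux_of_sum k A R g.1 (c m) s c (fun i => d i m) (hd m)]
          apply Submodule.sum_mem
          intro i hi
          have h2 : g.1 (d i m) ⊗ₜ[k] c i = g.1 (d i m) • ((1 : R) ⊗ₜ[k] c i) := by
            rw [TensorProduct.smul_tmul', smul_eq_mul, mul_one]
          rw [h2]
          apply Submodule.smul_mem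
          exact Submodule.subset_span ⟨i, hi, rfl⟩
        | zero => rw [map_zero]; exact Submodule.zero_mem _
        | add x y _ _ hx hy => rw [map_add]; exact Submodule.add_mem _ hx hy
        | smul t x _ hx => rw [map_smul]; exact Submodule.smul_mem _ _ hx
    | add x y hx hy =>
      obtain ⟨W1, h1, hfg1, hs1⟩ := hx
      obtain ⟨W2, h2, hfg2, hs2⟩ := hy
      refine ⟨W1 ⊔ W2, Submodule.add_mem_sup h1 h2, hfg1.sup hfg2, ?_⟩
      intro i w' hw
      obtain ⟨a, ha, b, hb, rfl⟩ := Submodule.mem_sup.mp hw
      rw [map_add]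
      exact Submodule.add_mem_sup (hs1 i a ha) (hs2 i b hb)


end


/-- Let k be a field, G = Spec A an affine k-group with A a commutative Hopf algebra over k, and R a
commutative Noetherian k-algebra, so that R ⊗ A is the coordinate ring of the base change G_R and
the k-algebra maps A → R are its R-valued points. Let H be a set of R-valued points which pairwise
commute for the convolution product of G(R) (the case of an abelian subgroup of G(R)). If every g in
H is diagonalizable over k on R ⊗ A, meaning that the eigenspaces of right translation by g, for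
eigenvalues in k, span R ⊗ A, then H is simultaneously diagonalizable over k on R ⊗ A: the common
eigenspaces of the right translations by all g in H span R ⊗ A. The standing assumptions of the
source at this point (k algebraically closed of characteristic zero, G reductive) are not used. -/
theorem result (k : Type u) [Field k]
    (A : Type v) [CommRing A] [HopfAlgebra k A] (R : Type w) [CommRing R] [Algebra k R]
    [IsNoetherianRing R] (H : Set (A →ₐ[k] R))
    (hcomm : ∀ g ∈ H, ∀ h ∈ H,
      WithConv.toConv g * WithConv.toConv h = WithConv.toConv h * WithConv.toConv g)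
    (hdiag : ∀ g ∈ H, ⨆ μ : k,
      Module.End.eigenspace (((MadRed.ptAct k A R g).toLinearMap).restrictScalars k) μ = ⊤) :
    ⨆ χ : H → k, ⨅ g : H,
      Module.End.eigenspace (((MadRed.ptAct k A R g.1).toLinearMap).restrictScalars k) (χ g) = ⊤ := by
  classical
  exact main k A R H hcomm hdiag

end Groth.Agent.S16160
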