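import Groth.Statements.S16161
import Mathlib

set_option autoImplicit false
universe u v
open MadRed

namespace Groth.Agent.S16161

open Polynomial in
theorem ker_prod_eq_iSup {k V : Type*} [Field k] [AddCommGroup V] [Module k V]
    (f : Module.End k V) (s : Finset k) :
    LinearMap.ker (aeval f (∏ a ∈ s, (X - C a))) ≤ ⨆ μ : k, Module.End.eigenspace f μ := by
  classical
  induction s using Finset.induction_on with
  | empty =>
    simp only [Finset.prod_empty, map_one]
    intro v hv
    have : v = 0 := by simpa using hv
    rw [this]; exact Submodule.zero_mem _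
  | insert a s ha ih =>
    rw [Finset.prod_insert ha]
    have hcop : IsCoprime (X - C a) (∏ b ∈ s, (X - C b)) := by
      apply IsCoprime.prod_right
      intro b hb
      apply Polynomial.isCoprime_X_sub_C_of_isUnit_sub
      apply IsUnit.mk0
      intro h
      rw [sub_eq_zero] at h
      exact ha (h ▸ hb)
    rw [← sup_ker_aeval_eq_ker_aeval_mul_of_coprime f hcop]
    apply sup_le _ ih
    refine le_trans ?_ (le_iSup _ a)
    intro v hv
    rw [Module.End.mem_eigenspace_iff]
    have : (aeval f (X - C a)) v = 0 := hv
    simp only [map_sub, aeval_X, aeval_C, LinearMap.sub_apply, Module.algebraMap_end_apply] at this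
    exact sub_eq_zero.1 this

/-- Let k be an algebraically closed field of characteristic zero and R a reduced finitely generated
commutative k-algebra whose spectrum is connected (R has no idempotents besides 0 and 1); let W =
R^n be a free R-module of finite rank and g an R-linear endomorphism of W of finite order, g^m = 1
with m > 0 (an element of finite order of GL(W)(R)). Then the action of g on W is diagonalizable
over k: viewing g as a k-linear map, its eigenspaces for eigenvalues in k span W. The source also
assumes that g is diagonalizable over k on every fibre W ⊗ k(x), x a point of Spec R; for g of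
finite order this holds automatically (k is algebraically closed of characteristic zero), as the
source itself notes, so that hypothesis is omitted. -/
theorem result
    (k : Type u) [Field k] [IsAlgClosed k] [CharZero k]
    (R : Type v) [CommRing R] [Algebra k R] [IsReduced R] [Algebra.FiniteType k R]
    (hconn : ∀ e : R, IsIdempotentElem e → e = 0 ∨ e = 1)
    (n : ℕ) (g : Module.End R (Fin n → R)) (m : ℕ) (hm : 0 < m) (hg : g ^ m = 1) :
    ⨆ μ : k, Module.End.eigenspace (g.restrictScalars k) μ = ⊤ := by
  classical
  rw [eq_top_iff]
  have hm0 : (m : k) ≠ 0 := Nat.cast_ne_zero.2 hm.ne'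
  have hsep : (Polynomial.X ^ m - 1 : Polynomial k).Separable :=
    (Polynomial.X_pow_sub_one_separable_iff).2 hm0
  have hmonic : (Polynomial.X ^ m - 1 : Polynomial k).Monic := Polynomial.monic_X_pow_sub_C 1 hm.ne'
  have hsplit := IsAlgClosed.splits (Polynomial.X ^ m - 1 : Polynomial k)
  have hprod : (Polynomial.X ^ m - 1 : Polynomial k) =
      ∏ a ∈ (Polynomial.X ^ m - 1 : Polynomial k).roots.toFinset, (Polynomial.X - Polynomial.C a) := by
    have h1 := Polynomial.Splits.eq_prod_roots_of_monic hsplit hmonic
    have hnd : (Polynomial.X ^ m - 1 : Polynomial k).roots.Nodup := Polynomial.nodup_roots hsep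
    rw [Finset.prod_eq_multiset_prod, Multiset.toFinset_val, hnd.dedup]
    exact h1
  have hker : LinearMap.ker (Polynomial.aeval (g.restrictScalars k) (Polynomial.X ^ m - 1 : Polynomial k)) = ⊤ := by
    rw [LinearMap.ker_eq_top]
    apply LinearMap.ext
    intro v
    simp only [map_sub, map_pow, Polynomial.aeval_X, map_one, LinearMap.sub_apply, LinearMap.zero_apply,
      Module.End.one_apply]
    rw [sub_eq_zero]
    have h1 : ∀ (j : ℕ) (w : Fin n → R), ((g.restrictScalars k) ^ j) w = (g ^ j) w := by
      intro j
      induction j with
      | zero => intro w; simp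
      | succ j ih => intro w; rw [pow_succ, pow_succ, Module.End.mul_apply, Module.End.mul_apply, ih]; rfl
    rw [h1, hg]; rfl
  rw [← hker, hprod]
  exact ker_prod_eq_iSup _ _

end Groth.Agent.S16161
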