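import Groth.Statements.S16162
import Mathlib

set_option autoImplicit false
open CategoryTheory MonoidalCategory CartesianMonoidalCategory MonObj GrpObj AlgebraicGeometry
universe u
open MadRed

namespace Groth.Agent.S16162

section
open CategoryTheory MonoidalCategory CartesianMonoidalCategory MonObj GrpObj AlgebraicGeometry

theorem main {S : Scheme.{u}}
    {G X : Over S} [GrpObj G] (a : AlgGrp.Action G X) (ha : RedSub.IsTorsor a)
    (P : Set X.left) (hP : IsClosed P)
    (hstab : ∀ w : (G ⊗ X).left, (snd G X).left.base w ∈ P → a.act.left.base w ∈ P) :
    IsClosed (X.hom.base '' P) ∧ X.hom.base ⁻¹' (X.hom.base '' P) = P := by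
  obtain ⟨hsurj, hflat, hlfp, hiso⟩ := ha
  have hsat : X.hom.base ⁻¹' (X.hom.base '' P) = P := by
    apply Set.Subset.antisymm
    · rintro x ⟨p, hp, hpx⟩
      -- the point (x, p) of X ×_S X
      obtain ⟨z, hz1, hz2⟩ := Scheme.Pullback.exists_preimage_pullback (f := X.hom) (g := X.hom) x p hpx.symm
      haveI := hiso
      have hisoL : IsIso (lift a.act (snd G X)).left := (Over.forget S).map_isIso (lift a.act (snd G X))
      have hsurjL : Function.Surjective (lift a.act (snd G X)).left.base := by
        have : Surjective (lift a.act (snd G X)).left := inferInstance
        exact this.surj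
      obtain ⟨w, hw⟩ := hsurjL z
      have e1 : (lift a.act (snd G X)).left ≫ (fst X X).left = a.act.left := by
        rw [← Over.comp_left, lift_fst]
      have e2 : (lift a.act (snd G X)).left ≫ (snd X X).left = (snd G X).left := by
        rw [← Over.comp_left, lift_snd]
      have h2 : (snd G X).left.base w = p := by
        rw [← e2, Scheme.Hom.comp_apply, hw]
        exact hz2
      have h1 : a.act.left.base w = x := by
        rw [← e1, Scheme.Hom.comp_apply, hw]
        exact hz1
      rw [← h1]
      exact hstab w (h2 ▸ hp)
    · intro p hp
      exact ⟨p, hp, rfl⟩
  refine ⟨?_, hsat⟩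
  haveI := hflat
  haveI := hlfp
  have hopen : IsOpenMap X.hom.base := X.hom.isOpenMap
  have himg : X.hom.base '' P = (X.hom.base '' Pᶜ)ᶜ := by
    ext s
    constructor
    · rintro ⟨p, hp, rfl⟩ ⟨q, hq, hqp⟩
      apply hq
      rw [← hsat]
      exact ⟨p, hp, hqp.symm⟩
    · intro hs
      obtain ⟨x, rfl⟩ := hsurj.surj s
      by_contra hx
      apply hs
      refine ⟨x, ?_, rfl⟩
      intro hxP
      exact hx ⟨x, hxP, rfl⟩
  rw [himg]
  exact (hopen _ hP.isOpen_compl).isClosed_compl


end


/-- Let S be a scheme, G a group scheme over S, and X an S-scheme with an action of G making X → S a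
principal G-bundle (a torsor in the representable fppf sense: X → S surjective, flat and locally of
finite presentation, and G ×_S X → X ×_S X, (g, x) ↦ (g·x, x), an isomorphism). Let P be a closed
subset of X stable under the action: the action map sends into P every point of G ×_S X whose second
projection lies in P. Then the image of P in S is closed, and P is the full preimage of its image.
(The source works with varieties over the complex numbers and an affine algebraic group; the
assertion holds over any base. Its second assertion, that P → image is again a principal bundle for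
the induced reduced structures, then comes from base change and is not part of this row.) -/
theorem result {S : Scheme.{u}}
    {G X : Over S} [GrpObj G] (a : AlgGrp.Action G X) (ha : RedSub.IsTorsor a)
    (P : Set X.left) (hP : IsClosed P)
    (hstab : ∀ w : (G ⊗ X).left, (snd G X).left.base w ∈ P → a.act.left.base w ∈ P) :
    IsClosed (X.hom.base '' P) ∧ X.hom.base ⁻¹' (X.hom.base '' P) = P := by
  classical
  exact main a ha P hP hstab

end Groth.Agent.S16162
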