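import Groth.Statements.S16164
import Mathlib

set_option autoImplicit false
open Neron

namespace Groth.Agent.S16164

/-- indecomposable vectors with respect to a form -/
def Indec {Y : Type*} [AddCommGroup Y] (B : Y → Y → ℤ) (v : Y) : Prop :=
  v ≠ 0 ∧ ∀ a b, a + b = v → B a b = 0 → a = 0 ∨ b = 0

theorem eichler_span {Y : Type*} [AddCommGroup Y] (B : Y → Y → ℤ)
    (hadd : ∀ a b, B (a + b) (a + b) = B a a + 2 * B a b + B b b)
    (hpos : ∀ v, v ≠ 0 → 0 < B v v)
    (C : Y → Prop) (h0 : C 0) (hC : ∀ a b, C a → C b → C (a + b))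
    (hind : ∀ v, Indec B v → C v) : ∀ v, C v := by
  have key : ∀ n : ℕ, ∀ v, (B v v).toNat ≤ n → C v := by
    intro n
    induction n using Nat.strong_induction_on with
    | _ n ih =>
      intro v hv
      by_cases hv0 : v = 0
      · rw [hv0]; exact h0
      by_cases hi : Indec B v
      · exact hind v hi
      · unfold Indec at hi
        rw [not_and_or] at hi
        rcases hi with hi | hi
        · exact absurd hv0 hi
        · rw [not_forall] at hi
          obtain ⟨a, hi⟩ := hi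
          rw [not_forall] at hi
          obtain ⟨b, hi⟩ := hi
          rw [Classical.not_imp] at hi
          obtain ⟨hab, hi⟩ := hi
          rw [Classical.not_imp] at hi
          obtain ⟨hB, hi⟩ := hi
          rw [not_or] at hi
          obtain ⟨ha, hb⟩ := hi
          have h1 := hadd a b
          rw [hab, hB] at h1
          have hpa := hpos a ha
          have hpb := hpos b hb
          have hca : C a := ih ((B a a).toNat) (by omega) a le_rfl
          have hcb : C b := ih ((B b b).toNat) (by omega) b le_rfl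
          rw [← hab]
          exact hC a b hca hcb
  intro v
  exact key _ v le_rfl

theorem eichler_main {Y : Type*} [AddCommGroup Y] (B : Y → Y → ℤ)
    (hadd : ∀ a b, B (a + b) (a + b) = B a a + 2 * B a b + B b b)
    (hpos : ∀ v, v ≠ 0 → 0 < B v v)
    (S S' T T' : Y → Prop) (h0 : S 0) (hS : ∀ a b, S a → S b → S (a + b))
    (hdec : ∀ y, ∃ s s', S s ∧ S' s' ∧ s + s' = y ∧ B s s' = 0)
    (hdecT : ∀ y, ∃ s s', T s ∧ T' s' ∧ s + s' = y ∧ B s s' = 0)
    (h1 : ∀ z, S' z → T z → z = 0) (h2 : ∀ z, S' z → T' z → z = 0) : ∀ v, S v := by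
  apply eichler_span B hadd hpos S h0 hS
  intro v hv
  obtain ⟨s, s', hs, hs', hsum, hB⟩ := hdec v
  rcases hv.2 s s' hsum hB with h | h
  · -- v = s'
    exfalso
    have hvs : v = s' := by rw [← hsum, h, zero_add]
    rw [← hvs] at hs'
    obtain ⟨t, t', ht, ht', htsum, htB⟩ := hdecT v
    rcases hv.2 t t' htsum htB with h' | h'
    · have hvt : v = t' := by rw [← htsum, h', zero_add]
      rw [← hvt] at ht'
      exact hv.1 (h2 v hs' ht')
    · have hvt : v = t := by rw [← htsum, h', add_zero]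
      rw [← hvt] at ht
      exact hv.1 (h1 v hs' ht)
  · have hvs : v = s := by rw [← hsum, h, add_zero]
    rw [hvs]; exact hs

theorem B_eq {κ₁ κ₂ : Type} [Fintype κ₁] [Fintype κ₂]
    (Ψ₁ : Matrix κ₁ κ₁ ℤ) (Ψ₂ : Matrix κ₂ κ₂ ℤ) (y z : κ₁ ⊕ κ₂ → ℤ) :
    y ⬝ᵥ (Matrix.fromBlocks Ψ₁ 0 0 Ψ₂).mulVec z =
      (y ∘ Sum.inl) ⬝ᵥ Ψ₁.mulVec (z ∘ Sum.inl) + (y ∘ Sum.inr) ⬝ᵥ Ψ₂.mulVec (z ∘ Sum.inr) := by
  rw [Matrix.fromBlocks_mulVec]
  simp only [dotProduct, Fintype.sum_sum_type, Sum.elim_inl, Sum.elim_inr, Function.comp_apply,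
    Matrix.zero_mulVec, add_zero, zero_add]

theorem form_symm {κ : Type} [Fintype κ] (Ψ : Matrix κ κ ℤ) (h : Ψ.IsSymm) (y z : κ → ℤ) :
    y ⬝ᵥ Ψ.mulVec z = z ⬝ᵥ Ψ.mulVec y := by
  rw [Matrix.dotProduct_mulVec, ← Matrix.mulVec_transpose, h.eq, dotProduct_comm]

/-- Let X, Y₁, Y₂ be finitely generated free abelian groups with chosen bases, so that homomorphisms are
integer matrices acting on column vectors and each group is identified with its dual; let P : X → Y₁
and Q : X → Y₂ be surjective with A = (P over Q) : X → Y₁ ⊕ Y₂ injective, and let Ψ₁, Ψ₂ be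
symmetric positive-definite integer matrices on Y₁ and Y₂, Ψ their block-diagonal sum. If the image
of Aᵀ Ψ : Y₁ ⊕ Y₂ → X coincides with the image of Aᵀ Ψ A : X → X (the reverse inclusion always
holds), then A is bijective. (In the source X, Y₁, Y₂ are character groups of maximal tori, P and Q
specialization maps, Ψ₁ and Ψ₂ monodromy pairings, and the hypothesis expresses that two groups of
components coincide.) -/
theorem result
    {ι κ₁ κ₂ : Type} [Fintype ι] [Fintype κ₁] [Fintype κ₂]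
    (P : Matrix κ₁ ι ℤ) (Q : Matrix κ₂ ι ℤ)
    (hP : Function.Surjective P.mulVec) (hQ : Function.Surjective Q.mulVec)
    (hA : Function.Injective (Matrix.fromRows P Q).mulVec)
    (Ψ₁ : Matrix κ₁ κ₁ ℤ) (Ψ₂ : Matrix κ₂ κ₂ ℤ) (hΨ₁ : Ψ₁.IsSymm) (hΨ₂ : Ψ₂.IsSymm)
    (hΨ₁pos : ∀ y : κ₁ → ℤ, y ≠ 0 → 0 < y ⬝ᵥ Ψ₁.mulVec y)
    (hΨ₂pos : ∀ y : κ₂ → ℤ, y ≠ 0 → 0 < y ⬝ᵥ Ψ₂.mulVec y)
    (himage : LinearMap.range ((Matrix.fromRows P Q).transpose * Matrix.fromBlocks Ψ₁ 0 0 Ψ₂).mulVecLin =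
      LinearMap.range ((Matrix.fromRows P Q).transpose * Matrix.fromBlocks Ψ₁ 0 0 Ψ₂ * Matrix.fromRows P Q).mulVecLin) :
    Function.Bijective (Matrix.fromRows P Q).mulVec := by
  classical
  refine ⟨hA, ?_⟩
  set A := Matrix.fromRows P Q with hAdef
  set Ψ := Matrix.fromBlocks Ψ₁ (0 : Matrix κ₁ κ₂ ℤ) (0 : Matrix κ₂ κ₁ ℤ) Ψ₂ with hΨdef
  let B : (κ₁ ⊕ κ₂ → ℤ) → (κ₁ ⊕ κ₂ → ℤ) → ℤ := fun y z => y ⬝ᵥ Ψ.mulVec z
  have hBeq : ∀ y z, B y z = (y ∘ Sum.inl) ⬝ᵥ Ψ₁.mulVec (z ∘ Sum.inl) +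
      (y ∘ Sum.inr) ⬝ᵥ Ψ₂.mulVec (z ∘ Sum.inr) := fun y z => B_eq Ψ₁ Ψ₂ y z
  have hBsymm : ∀ y z, B y z = B z y := by
    intro y z
    rw [hBeq, hBeq, form_symm Ψ₁ hΨ₁, form_symm Ψ₂ hΨ₂]
  have hadd : ∀ a b, B (a + b) (a + b) = B a a + 2 * B a b + B b b := by
    intro a b
    have h1 : B (a + b) (a + b) = B a a + B a b + B b a + B b b := by
      show (a + b) ⬝ᵥ Ψ.mulVec (a + b) = a ⬝ᵥ Ψ.mulVec a + a ⬝ᵥ Ψ.mulVec b + b ⬝ᵥ Ψ.mulVec a + b ⬝ᵥ Ψ.mulVec b
      rw [Matrix.mulVec_add, add_dotProduct, dotProduct_add, dotProduct_add]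
      ring
    rw [h1, hBsymm b a]; ring
  have hnn₁ : ∀ y : κ₁ → ℤ, 0 ≤ y ⬝ᵥ Ψ₁.mulVec y := by
    intro y
    by_cases hy : y = 0
    · rw [hy]; simp
    · exact (hΨ₁pos y hy).le
  have hnn₂ : ∀ y : κ₂ → ℤ, 0 ≤ y ⬝ᵥ Ψ₂.mulVec y := by
    intro y
    by_cases hy : y = 0
    · rw [hy]; simp
    · exact (hΨ₂pos y hy).le
  have hpos : ∀ v, v ≠ 0 → 0 < B v v := by
    intro v hv
    rw [hBeq]
    by_cases h1 : v ∘ Sum.inl = 0
    · have h2 : v ∘ Sum.inr ≠ 0 := by
        intro h2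
        apply hv
        funext i
        rcases i with i | i
        · exact congrFun h1 i
        · exact congrFun h2 i
      have := hΨ₂pos _ h2
      have := hnn₁ (v ∘ Sum.inl)
      linarith
    · have := hΨ₁pos _ h1
      have := hnn₂ (v ∘ Sum.inr)
      linarith
  -- orthogonality of range A and the kernel
  have horth : ∀ (x : ι → ℤ) (z : κ₁ ⊕ κ₂ → ℤ), (A.transpose * Ψ).mulVec z = 0 → B (A.mulVec x) z = 0 := by
    intro x z hz
    show (A.mulVec x) ⬝ᵥ Ψ.mulVec z = 0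
    rw [← Matrix.vecMul_transpose, ← Matrix.dotProduct_mulVec, Matrix.mulVec_mulVec, hz, dotProduct_zero]
  have hsurj := eichler_main B hadd hpos
    (fun y => ∃ x, A.mulVec x = y) (fun z => (A.transpose * Ψ).mulVec z = 0)
    (fun y => y ∘ Sum.inr = 0) (fun y => y ∘ Sum.inl = 0)
    ⟨0, by simp⟩
    (by
      rintro a b ⟨x, rfl⟩ ⟨x', rfl⟩
      exact ⟨x + x', Matrix.mulVec_add _ _ _⟩)
    (by
      intro y
      have hy : (A.transpose * Ψ).mulVecLin y ∈ LinearMap.range (A.transpose * Ψ).mulVecLin :=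
        LinearMap.mem_range_self _ y
      rw [himage] at hy
      obtain ⟨x, hx⟩ := hy
      rw [Matrix.mulVecLin_apply, Matrix.mulVecLin_apply] at hx
      have hz : (A.transpose * Ψ).mulVec (y - A.mulVec x) = 0 := by
        rw [Matrix.mulVec_sub, Matrix.mulVec_mulVec, hx, sub_self]
      exact ⟨A.mulVec x, y - A.mulVec x, ⟨x, rfl⟩, hz, by abel, horth x _ hz⟩)
    (by
      intro y
      refine ⟨Sum.elim (y ∘ Sum.inl) 0, Sum.elim 0 (y ∘ Sum.inr), ?_, ?_, ?_, ?_⟩
      · funext i; simp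
      · funext i; simp
      · funext i; rcases i with i | i <;> simp
      · rw [hBeq]
        have e1 : (Sum.elim (y ∘ Sum.inl) (0 : κ₂ → ℤ)) ∘ Sum.inr = 0 := by funext i; simp
        have e2 : (Sum.elim (0 : κ₁ → ℤ) (y ∘ Sum.inr)) ∘ Sum.inl = 0 := by funext i; simp
        rw [e1, e2]; simp)
    (by
      intro z hz hz2
      obtain ⟨x, hx⟩ := hP (z ∘ Sum.inl)
      have h0 := horth x z hz
      rw [hBeq, hz2] at h0
      have e1 : (A.mulVec x) ∘ Sum.inl = z ∘ Sum.inl := by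
        rw [hAdef, Matrix.fromRows_mulVec]
        funext i; simp [hx]
      rw [e1] at h0
      simp only [Matrix.mulVec_zero, dotProduct_zero, add_zero] at h0
      have h1 : z ∘ Sum.inl = 0 := by
        by_contra hne
        have := hΨ₁pos _ hne
        omega
      funext i
      rcases i with i | i
      · exact congrFun h1 i
      · exact congrFun hz2 i)
    (by
      intro z hz hz2
      obtain ⟨x, hx⟩ := hQ (z ∘ Sum.inr)
      have h0 := horth x z hz
      rw [hBeq, hz2] at h0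
      have e1 : (A.mulVec x) ∘ Sum.inr = z ∘ Sum.inr := by
        rw [hAdef, Matrix.fromRows_mulVec]
        funext i; simp [hx]
      rw [e1] at h0
      simp only [Matrix.mulVec_zero, dotProduct_zero, zero_add] at h0
      have h1 : z ∘ Sum.inr = 0 := by
        by_contra hne
        have := hΨ₂pos _ hne
        omega
      funext i
      rcases i with i | i
      · exact congrFun hz2 i
      · exact congrFun h1 i)
  intro y
  exact hsurj y

end Groth.Agent.S16164
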