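import Groth.Statements.S16170
import Mathlib

set_option autoImplicit false
open Neron

namespace Groth.Agent.S16170


open Matrix

section
variable {ι : Type} [Fintype ι] [DecidableEq ι]

/-- bilinear form -/
def bil (A : Matrix ι ι ℤ) (x y : ι → ℤ) : ℤ := x ⬝ᵥ A.mulVec y

theorem bil_left (A B : Matrix ι ι ℤ) (x y : ι → ℤ) : bil A (B.mulVec x) y = bil (Bᵀ * A) x y := by
  unfold bil
  rw [← Matrix.mulVec_mulVec, Matrix.dotProduct_mulVec x, Matrix.vecMul_transpose]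

theorem bil_right (A B : Matrix ι ι ℤ) (x y : ι → ℤ) : bil A x (B.mulVec y) = bil (A * B) x y := by
  unfold bil
  rw [Matrix.mulVec_mulVec]

theorem bil_transpose (A : Matrix ι ι ℤ) (x y : ι → ℤ) : bil Aᵀ x y = bil A y x := by
  unfold bil
  rw [Matrix.mulVec_transpose, dotProduct_comm, ← Matrix.dotProduct_mulVec]

theorem bil_add_left (A : Matrix ι ι ℤ) (x x' y : ι → ℤ) : bil A (x + x') y = bil A x y + bil A x' y := by
  unfold bil; rw [add_dotProduct]

theorem bil_add_right (A : Matrix ι ι ℤ) (x y y' : ι → ℤ) : bil A x (y + y') = bil A x y + bil A x y' := by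
  unfold bil; rw [Matrix.mulVec_add, dotProduct_add]

theorem bil_add_mat (A B : Matrix ι ι ℤ) (x y : ι → ℤ) : bil (A + B) x y = bil A x y + bil B x y := by
  unfold bil; rw [Matrix.add_mulVec, dotProduct_add]

theorem main
    (M N χ₁ χ₂ : Matrix ι ι ℤ) (hM : M.IsSymm) (hN : N.IsSymm)
    (hMpos : ∀ v : ι → ℤ, 0 ≤ v ⬝ᵥ M.mulVec v) (hNpos : ∀ v : ι → ℤ, 0 ≤ v ⬝ᵥ N.mulVec v)
    (hpos : ∀ v : ι → ℤ, v ≠ 0 → 0 < v ⬝ᵥ (M + N).mulVec v)
    (hsum : χ₁ + χ₂ = 1) (hrel : M * χ₂ = N * χ₁) :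
    χ₁ * χ₁ = χ₁ ∧ χ₂ * χ₂ = χ₂ := by
  obtain ⟨S, hSdef⟩ : ∃ S, S = M + N := ⟨_, rfl⟩
  rw [← hSdef] at hpos
  have hS : S.IsSymm := hSdef ▸ hM.add hN
  have hS1 : S * χ₁ = M := by
    calc S * χ₁ = M * χ₁ + N * χ₁ := by rw [hSdef, Matrix.add_mul]
      _ = M * χ₁ + M * χ₂ := by rw [hrel]
      _ = M * (χ₁ + χ₂) := by rw [Matrix.mul_add]
      _ = M := by rw [hsum, Matrix.mul_one]
  have hS2 : S * χ₂ = N := by
    calc S * χ₂ = M * χ₂ + N * χ₂ := by rw [hSdef, Matrix.add_mul]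
      _ = N * χ₁ + N * χ₂ := by rw [hrel]
      _ = N * (χ₁ + χ₂) := by rw [Matrix.mul_add]
      _ = N := by rw [hsum, Matrix.mul_one]
  have hS1t : χ₁ᵀ * S = M := by
    have := congrArg Matrix.transpose hS1
    rwa [Matrix.transpose_mul, hS.eq, hM.eq] at this
  have hS2t : χ₂ᵀ * S = N := by
    have := congrArg Matrix.transpose hS2
    rwa [Matrix.transpose_mul, hS.eq, hN.eq] at this
  obtain ⟨T, hT⟩ : ∃ T, T = M * χ₂ := ⟨_, rfl⟩
  have hT' : T = N * χ₁ := hT.trans hrel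
  have hcomm : χ₁ * χ₂ = χ₂ * χ₁ := by
    have h2 : χ₂ = 1 - χ₁ := by rw [← hsum]; abel
    rw [h2, Matrix.mul_sub, Matrix.sub_mul, Matrix.mul_one, Matrix.one_mul]
  obtain ⟨D, hD⟩ : ∃ D, D = χ₁ * χ₂ := ⟨_, rfl⟩
  have hD' : D = χ₂ * χ₁ := hD.trans hcomm
  have hSD : S * D = T := by rw [hD, ← Matrix.mul_assoc, hS1, hT]
  have hTsymm : Tᵀ = T := by
    rw [hT, Matrix.transpose_mul, hM.eq, ← hS1, ← Matrix.mul_assoc, hS2t, hS1, hrel]
  have hTdec : T = χ₁ᵀ * N * χ₁ + χ₂ᵀ * M * χ₂ := by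
    have e1 : χ₁ᵀ * N * χ₁ = χ₁ᵀ * T := by rw [Matrix.mul_assoc, ← hT']
    have e2 : χ₂ᵀ * M * χ₂ = χ₂ᵀ * T := by rw [Matrix.mul_assoc, ← hT]
    rw [e1, e2, ← Matrix.add_mul, ← Matrix.transpose_add, hsum, Matrix.transpose_one,
      Matrix.one_mul]
  have hTpos : ∀ v : ι → ℤ, 0 ≤ bil T v v := by
    intro v
    rw [hTdec, bil_add_mat]
    have e1 : bil (χ₁ᵀ * N * χ₁) v v = bil N (χ₁.mulVec v) (χ₁.mulVec v) := by
      rw [bil_left, bil_right]
    have e2 : bil (χ₂ᵀ * M * χ₂) v v = bil M (χ₂.mulVec v) (χ₂.mulVec v) := by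
      rw [bil_left, bil_right]
    rw [e1, e2]
    exact add_nonneg (hNpos _) (hMpos _)
  have hcross : ∀ v : ι → ℤ, bil S (χ₁.mulVec v) (χ₂.mulVec v) = bil T v v := by
    intro v
    rw [bil_left, bil_right, hS1t, hT]
  have hSsymm : ∀ x y : ι → ℤ, bil S x y = bil S y x := by
    intro x y
    rw [← bil_transpose, hS.eq]
  have hqpos : ∀ v : ι → ℤ, 0 ≤ bil S v v := by
    intro v
    by_cases hv : v = 0
    · rw [hv]; simp [bil]
    · exact (hpos v hv).le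
  have hq0 : ∀ v : ι → ℤ, bil S v v = 0 → v = 0 := by
    intro v hv
    by_contra hne
    have := hpos v hne
    unfold bil at hv
    omega
  have hineq : ∀ v : ι → ℤ,
      bil S (χ₁.mulVec v) (χ₁.mulVec v) + bil S (χ₂.mulVec v) (χ₂.mulVec v) ≤ bil S v v := by
    intro v
    have hv : v = χ₁.mulVec v + χ₂.mulVec v := by
      rw [← Matrix.add_mulVec, hsum, Matrix.one_mulVec]
    have h1 : bil S v v = bil S (χ₁.mulVec v) (χ₁.mulVec v) + bil S (χ₂.mulVec v) (χ₂.mulVec v)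
        + 2 * bil T v v := by
      conv_lhs => rw [hv]
      rw [bil_add_left, bil_add_right, bil_add_right, hSsymm (χ₂.mulVec v) (χ₁.mulVec v), hcross]
      ring
    have := hTpos v
    omega
  have hDv : ∀ v : ι → ℤ, D.mulVec v = χ₁.mulVec (χ₂.mulVec v) := fun v => by
    rw [hD, Matrix.mulVec_mulVec]
  have hDv' : ∀ v : ι → ℤ, D.mulVec v = χ₂.mulVec (χ₁.mulVec v) := fun v => by
    rw [hD', Matrix.mulVec_mulVec]
  have hhalf : ∀ v : ι → ℤ, 2 * bil S (D.mulVec v) (D.mulVec v) ≤ bil S v v := by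
    intro v
    have h0 := hineq v
    have h1 := hineq (χ₁.mulVec v)
    have h2 := hineq (χ₂.mulVec v)
    rw [← hDv' v] at h1
    rw [← hDv v] at h2
    have h3 := hqpos (χ₁.mulVec (χ₁.mulVec v))
    have h4 := hqpos (χ₂.mulVec (χ₂.mulVec v))
    omega
  have hiter : ∀ (k : ℕ) (v : ι → ℤ),
      2 ^ k * bil S ((D ^ k).mulVec v) ((D ^ k).mulVec v) ≤ bil S v v := by
    intro k
    induction k with
    | zero => intro v; simp
    | succ k ih =>
      intro v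
      have h1 := ih (D.mulVec v)
      rw [Matrix.mulVec_mulVec, ← pow_succ] at h1
      have h2 := hhalf v
      calc 2 ^ (k + 1) * bil S ((D ^ (k + 1)).mulVec v) ((D ^ (k + 1)).mulVec v)
          = 2 * (2 ^ k * bil S ((D ^ (k + 1)).mulVec v) ((D ^ (k + 1)).mulVec v)) := by ring
        _ ≤ 2 * bil S (D.mulVec v) (D.mulVec v) := by omega
        _ ≤ bil S v v := h2
  have hnil : ∀ v : ι → ℤ, ∃ k : ℕ, (D ^ k).mulVec v = 0 := by
    intro v
    obtain ⟨k, hk⟩ : ∃ k : ℕ, bil S v v < 2 ^ k := by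
      refine ⟨(bil S v v).toNat, ?_⟩
      have h1 : (bil S v v) = ((bil S v v).toNat : ℤ) := (Int.toNat_of_nonneg (hqpos v)).symm
      have h2 : (bil S v v).toNat < 2 ^ (bil S v v).toNat := Nat.lt_two_pow_self
      calc bil S v v = ((bil S v v).toNat : ℤ) := h1
        _ < ((2 ^ (bil S v v).toNat : ℕ) : ℤ) := by exact_mod_cast h2
        _ = 2 ^ (bil S v v).toNat := by push_cast; rfl
    refine ⟨k, hq0 _ ?_⟩
    have h1 := hiter k v
    have h2 := hqpos ((D ^ k).mulVec v)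
    by_contra hne
    have h3 : 1 ≤ bil S ((D ^ k).mulVec v) ((D ^ k).mulVec v) := by omega
    have h4 : (2 : ℤ) ^ k ≤ 2 ^ k * bil S ((D ^ k).mulVec v) ((D ^ k).mulVec v) := by
      calc (2 : ℤ) ^ k = 2 ^ k * 1 := by ring
        _ ≤ 2 ^ k * bil S ((D ^ k).mulVec v) ((D ^ k).mulVec v) := by
          apply mul_le_mul_of_nonneg_left h3 (by positivity)
    omega
  -- self-adjointness
  have hadj : ∀ x y : ι → ℤ, bil S (D.mulVec x) y = bil S x (D.mulVec y) := by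
    intro x y
    rw [bil_right, hSD, hSsymm, bil_right, hSD, ← bil_transpose, hTsymm]
  have hstep : ∀ (k : ℕ) (v : ι → ℤ), (D ^ (k + 2)).mulVec v = 0 → (D ^ (k + 1)).mulVec v = 0 := by
    intro k v h
    apply hq0
    have e1 : (D ^ (k + 1)).mulVec v = D.mulVec ((D ^ k).mulVec v) := by
      rw [Matrix.mulVec_mulVec, ← pow_succ']
    have e2 : D.mulVec ((D ^ (k + 1)).mulVec v) = (D ^ (k + 2)).mulVec v := by
      rw [Matrix.mulVec_mulVec, ← pow_succ']
    calc bil S ((D ^ (k + 1)).mulVec v) ((D ^ (k + 1)).mulVec v)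
        = bil S (D.mulVec ((D ^ k).mulVec v)) ((D ^ (k + 1)).mulVec v) := by rw [← e1]
      _ = bil S ((D ^ k).mulVec v) (D.mulVec ((D ^ (k + 1)).mulVec v)) := hadj _ _
      _ = 0 := by rw [e2, h]; simp [bil]
  have hdown : ∀ (k : ℕ) (v : ι → ℤ), (D ^ (k + 1)).mulVec v = 0 → D.mulVec v = 0 := by
    intro k
    induction k with
    | zero => intro v h; simpa using h
    | succ k ih => intro v h; exact ih v (hstep k v h)
  have hDzero : D = 0 := by
    have h1 : ∀ v : ι → ℤ, D.mulVec v = 0 := by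
      intro v
      obtain ⟨k, hk⟩ := hnil v
      cases k with
      | zero =>
        have : v = 0 := by simpa using hk
        rw [this, Matrix.mulVec_zero]
      | succ k => exact hdown k v hk
    ext i j
    have := congrFun (h1 (Pi.single j 1)) i
    simpa using this
  constructor
  · have h2 : χ₂ = 1 - χ₁ := by rw [← hsum]; abel
    have h3 : χ₁ * (1 - χ₁) = 0 := by rw [← h2, ← hD, hDzero]
    rw [Matrix.mul_sub, Matrix.mul_one, sub_eq_zero] at h3
    exact h3.symm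
  · have h2 : χ₁ = 1 - χ₂ := by rw [← hsum]; abel
    have h3 : χ₂ * (1 - χ₂) = 0 := by rw [← h2, ← hD', hDzero]
    rw [Matrix.mul_sub, Matrix.mul_one, sub_eq_zero] at h3
    exact h3.symm

end


/-- Let M and N be symmetric positive-semidefinite integer matrices on the same finite index set whose
sum M + N is positive definite, and let χ₁, χ₂ be integer matrices with χ₁ + χ₂ = 1 and M χ₂ = N χ₁.
Then χ₁ and χ₂ are idempotent. (In the intended application M = Pᵀ Ψ₁ P and N = Qᵀ Ψ₂ Q for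
surjective integer matrices P, Q and positive-definite Ψ₁, Ψ₂.) -/
theorem result
    {ι : Type} [Fintype ι] [DecidableEq ι]
    (M N χ₁ χ₂ : Matrix ι ι ℤ) (hM : M.IsSymm) (hN : N.IsSymm)
    (hMpos : ∀ v : ι → ℤ, 0 ≤ v ⬝ᵥ M.mulVec v) (hNpos : ∀ v : ι → ℤ, 0 ≤ v ⬝ᵥ N.mulVec v)
    (hpos : ∀ v : ι → ℤ, v ≠ 0 → 0 < v ⬝ᵥ (M + N).mulVec v)
    (hsum : χ₁ + χ₂ = 1) (hrel : M * χ₂ = N * χ₁) :
    χ₁ * χ₁ = χ₁ ∧ χ₂ * χ₂ = χ₂ := by
  classical
  exact main M N χ₁ χ₂ hM hN hMpos hNpos hpos hsum hrel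

end Groth.Agent.S16170
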