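import Groth.Statements.S16174
import Mathlib

set_option autoImplicit false
universe u
open Hensel

namespace Groth.Agent.S16174


open Polynomial IsLocalRing

theorem isUnit_of_sub_one_mem {V : Type u} [CommRing V] [IsLocalRing V] {x : V}
    (h : x - 1 ∈ maximalIdeal V) : IsUnit x := by
  have h1 : x + (1 - x) = 1 := by ring
  rcases IsLocalRing.isUnit_or_isUnit_of_add_one h1 with h2 | h2
  · exact h2
  · exfalso
    have : (1 - x) ∈ maximalIdeal V := by
      have := (maximalIdeal V).neg_mem h
      rwa [neg_sub] at this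
    exact (IsLocalRing.mem_maximalIdeal _).1 this h2

/-- Lemma X -/
theorem henselian_of_subring {V A : Type u} [CommRing V] [CommRing A] [HenselianLocalRing V]
    [hA : IsLocalRing A] (ι : V →+* A)
    (F1 : ∀ x ∈ maximalIdeal A, ∃ v ∈ maximalIdeal V, ι v = x) : HenselianLocalRing A := by
  refine { toIsLocalRing := hA, is_henselian := ?_ }
  intro f hf a₀ h₁ h₂
  set g := taylor a₀ f with hg
  set c : ℕ → A := fun i => g.coeff i with hc
  have hc0 : c 0 = f.eval a₀ := taylor_coeff_zero _ _
  have hc1 : c 1 = f.derivative.eval a₀ := taylor_coeff_one _ _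
  have hgn : g.natDegree = f.natDegree := natDegree_taylor f a₀
  have hc1u : IsUnit (c 1) := hc1 ▸ h₂
  obtain ⟨u, hu⟩ := hc1u.exists_right_inv
  have hn1 : 1 ≤ g.natDegree := by
    apply Polynomial.le_natDegree_of_ne_zero
    exact hc1u.ne_zero
  obtain ⟨m, hm⟩ : ∃ m, g.natDegree = m + 1 := ⟨g.natDegree - 1, by omega⟩
  have hcn : c (m + 1) = 1 := by
    have : g.coeff g.natDegree = 1 := by
      rw [hgn, hg, coeff_taylor_natDegree]; exact hf
    rw [hm] at this; exact this
  set tA : A := c 0 * u with htA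
  have htAm : tA ∈ maximalIdeal A := Ideal.mul_mem_right _ _ (hc0 ▸ h₁)
  set dA : ℕ → A := fun j => (-1) ^ (j + 2) * c (j + 2) * tA ^ (j + 1) * u with hdA
  have hdAm : ∀ j, dA j ∈ maximalIdeal A := by
    intro j
    apply Ideal.mul_mem_right
    apply Ideal.mul_mem_left
    exact Ideal.pow_mem_of_mem _ htAm _ (Nat.succ_pos j)
  have hex : ∀ j, ∃ v ∈ maximalIdeal V, ι v = dA j := fun j => F1 _ (hdAm j)
  choose d hdm hd using hex
  -- the polynomial H
  set P : V[X] := - X ^ m + ∑ j ∈ Finset.range m, C (d j) * X ^ (m - 1 - j) with hP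
  have hPdeg : P.degree < ((m + 1 : ℕ) : WithBot ℕ) := by
    refine lt_of_le_of_lt (degree_add_le _ _) (max_lt ?_ ?_)
    · rw [degree_neg]
      refine lt_of_le_of_lt (degree_X_pow_le m) ?_
      exact_mod_cast Nat.lt_succ_self m
    · refine lt_of_le_of_lt (degree_sum_le _ _) ?_
      rw [Finset.sup_lt_iff (WithBot.bot_lt_coe _)]
      intro j hj
      refine lt_of_le_of_lt (degree_C_mul_X_pow_le _ _) ?_
      have : m - 1 - j < m + 1 := by omega
      exact_mod_cast this
  have hHmonic : (X ^ (m + 1) + P).Monic := monic_X_pow_add hPdeg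
  have hH1 : (X ^ (m + 1) + P).eval 1 = ∑ j ∈ Finset.range m, d j := by
    simp [hP, eval_finsetSum]
  have hH1m : (X ^ (m + 1) + P).eval 1 ∈ maximalIdeal V := by
    rw [hH1]; exact Ideal.sum_mem _ (fun j _ => hdm j)
  have hHd : (derivative (X ^ (m + 1) + P)).eval 1 - 1 ∈ maximalIdeal V := by
    have : (derivative (X ^ (m + 1) + P)).eval 1 - 1 =
        ∑ j ∈ Finset.range m, d j * ((m - 1 - j : ℕ) : V) := by
      simp only [hP, derivative_add, derivative_X_pow, derivative_neg, derivative_sum,
        derivative_mul, derivative_C, zero_mul, zero_add, eval_add, eval_mul, eval_pow, eval_X,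
        one_pow, mul_one, eval_neg, eval_finsetSum, eval_C, eval_natCast, Nat.add_sub_cancel,
        Polynomial.eval_C_mul]
      push_cast
      ring_nf
    rw [this]
    exact Ideal.sum_mem _ (fun j _ => Ideal.mul_mem_right _ _ (hdm j))
  have hHdu : IsUnit ((derivative (X ^ (m + 1) + P)).eval 1) := isUnit_of_sub_one_mem hHd
  obtain ⟨z, hz, hz1⟩ := HenselianLocalRing.is_henselian (X ^ (m + 1) + P) hHmonic 1 hH1m hHdu
  have hzu : IsUnit z := isUnit_of_sub_one_mem hz1
  obtain ⟨w, hw⟩ := hzu.exists_right_inv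
  have hwz : w * z = 1 := by rw [mul_comm]; exact hw
  -- h(w) = 0
  have hhw : 1 - w + ∑ j ∈ Finset.range m, d j * w ^ (j + 2) = 0 := by
    have e1 : w ^ (m + 1) * (X ^ (m + 1) + P).eval z = 0 := by
      rw [IsRoot.def] at hz; rw [hz, mul_zero]
    have e2 : w ^ (m + 1) * (X ^ (m + 1) + P).eval z =
        1 - w + ∑ j ∈ Finset.range m, d j * w ^ (j + 2) := by
      simp only [hP, eval_add, eval_pow, eval_X, eval_neg, eval_finsetSum, eval_mul, eval_C]
      rw [mul_add, mul_add, ← mul_pow, hwz, one_pow, Finset.mul_sum]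
      have e3 : w ^ (m + 1) * -z ^ m = - w := by
        rw [pow_succ]
        calc w ^ m * w * -z ^ m = - ((w * z) ^ m * w) := by rw [mul_pow]; ring
          _ = - w := by rw [hwz, one_pow, one_mul]
      rw [e3]
      have e4 : ∀ j ∈ Finset.range m, w ^ (m + 1) * (d j * z ^ (m - 1 - j)) = d j * w ^ (j + 2) := by
        intro j hj
        rw [Finset.mem_range] at hj
        have : m + 1 = (j + 2) + (m - 1 - j) := by omega
        rw [this, pow_add]
        calc w ^ (j + 2) * w ^ (m - 1 - j) * (d j * z ^ (m - 1 - j))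
            = d j * w ^ (j + 2) * (w * z) ^ (m - 1 - j) := by rw [mul_pow]; ring
          _ = d j * w ^ (j + 2) := by rw [hwz, one_pow, mul_one]
      rw [Finset.sum_congr rfl e4]
      ring
    rw [← e2, e1]
  -- the root
  set b : A := - tA * ι w with hb
  have hbm : b ∈ maximalIdeal A := Ideal.mul_mem_right _ _ (Ideal.neg_mem_iff _ |>.2 htAm)
  have hgb : g.eval b = 0 := by
    rw [eval_eq_sum_range, hm, Finset.sum_range_succ', Finset.sum_range_succ']
    have e5 : ∀ j ∈ Finset.range m, g.coeff (j + 1 + 1) * b ^ (j + 1 + 1) =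
        c 0 * (ι (d j) * ι w ^ (j + 2)) := by
      intro j _
      rw [hd j, hdA]
      simp only [hb, htA]
      simp only [hc]; ring
    rw [Finset.sum_congr rfl e5, ← Finset.mul_sum]
    have e6 : g.coeff (0 + 1) * b ^ (0 + 1) = - c 0 * ι w := by
      simp only [hb, htA, zero_add, pow_one]
      calc g.coeff 1 * (-(c 0 * u) * ι w) = - c 0 * (c 1 * u) * ι w := by simp only [hc]; ring
        _ = _ := by rw [hu, mul_one]
    rw [e6, pow_zero, mul_one]
    have e7 := congrArg ι hhw
    simp only [map_add, map_sub, map_one, map_sum, map_mul, map_pow, map_zero] at e7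
    calc c 0 * ∑ j ∈ Finset.range m, ι (d j) * ι w ^ (j + 2) + -c 0 * ι w + g.coeff 0
        = c 0 * (1 - ι w + ∑ j ∈ Finset.range m, ι (d j) * ι w ^ (j + 2)) := by
          simp only [hc]; ring
      _ = 0 := by rw [e7, mul_zero]
  refine ⟨b + a₀, ?_, ?_⟩
  · rw [IsRoot.def, ← taylor_eval]; exact hgb
  · rw [add_sub_cancel_right]; exact hbm

theorem henselian_quotient {V : Type u} [CommRing V] [HenselianLocalRing V] (p : Ideal V)
    (hp : p ≠ ⊤) : HenselianLocalRing (V ⧸ p) := by
  haveI : Nontrivial (V ⧸ p) := Ideal.Quotient.nontrivial_iff.2 hp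
  haveI hloc : IsLocalRing (V ⧸ p) :=
    IsLocalRing.of_surjective' (Ideal.Quotient.mk p) Ideal.Quotient.mk_surjective
  have hpm : p ≤ maximalIdeal V := IsLocalRing.le_maximalIdeal hp
  -- images of nonunits are nonunits
  have hmem : ∀ x : V, x ∈ maximalIdeal V → Ideal.Quotient.mk p x ∈ maximalIdeal (V ⧸ p) := by
    intro x hx
    rw [IsLocalRing.mem_maximalIdeal, mem_nonunits_iff]
    intro hu
    obtain ⟨y, hy⟩ := hu.exists_right_inv
    obtain ⟨y, rfl⟩ := Ideal.Quotient.mk_surjective y
    rw [← map_mul, ← map_one (Ideal.Quotient.mk p), Ideal.Quotient.eq] at hy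
    have h1 : x * y - 1 ∈ maximalIdeal V := hpm hy
    have h2 : x * y ∈ maximalIdeal V := Ideal.mul_mem_right _ _ hx
    have h3 : (1 : V) ∈ maximalIdeal V := by
      have := (maximalIdeal V).sub_mem h2 h1
      simpa using this
    exact (IsLocalRing.mem_maximalIdeal _).1 h3 isUnit_one
  refine { toIsLocalRing := hloc, is_henselian := ?_ }
  intro f hf a₀ h₁ h₂
  have hlift : f ∈ Polynomial.lifts (Ideal.Quotient.mk p) := by
    rw [Polynomial.mem_lifts]
    exact Polynomial.map_surjective _ Ideal.Quotient.mk_surjective f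
  obtain ⟨F, hFmap, -, hFmonic⟩ := Polynomial.lifts_and_natDegree_eq_and_monic hlift hf
  obtain ⟨b₀, rfl⟩ := Ideal.Quotient.mk_surjective a₀
  have hev : ∀ (G : V[X]) (b : V), (G.map (Ideal.Quotient.mk p)).eval (Ideal.Quotient.mk p b) =
      Ideal.Quotient.mk p (G.eval b) := by
    intro G b
    rw [eval_map, eval₂_at_apply]
  rw [← hFmap, hev] at h₁
  rw [← hFmap, derivative_map, hev] at h₂
  have h₁' : F.eval b₀ ∈ maximalIdeal V := by
    by_contra hcon
    have hu : IsUnit (F.eval b₀) := by
      by_contra hnu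
      exact hcon ((IsLocalRing.mem_maximalIdeal _).2 hnu)
    exact (IsLocalRing.mem_maximalIdeal _).1 h₁ (hu.map _)
  have h₂' : IsUnit (F.derivative.eval b₀) := by
    by_contra hnu
    have := hmem _ ((IsLocalRing.mem_maximalIdeal _).2 hnu)
    exact (IsLocalRing.mem_maximalIdeal _).1 this h₂
  obtain ⟨b, hb, hbb⟩ := HenselianLocalRing.is_henselian F hFmonic b₀ h₁' h₂'
  refine ⟨Ideal.Quotient.mk p b, ?_, ?_⟩
  · rw [IsRoot.def, ← hFmap, hev, hb, map_zero]
  · rw [← map_sub]; exact hmem _ hbb

theorem main (V : Type u) [CommRing V]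
    [IsDomain V] [ValuationRing V] [HenselianLocalRing V] (p : Ideal V) [hp : p.IsPrime] :
    HenselianLocalRing (Localization.AtPrime p) ∧ HenselianLocalRing (V ⧸ p) := by
  refine ⟨?_, henselian_quotient p hp.ne_top⟩
  apply henselian_of_subring (algebraMap V (Localization.AtPrime p))
  intro x hx
  obtain ⟨r, s, rfl⟩ := IsLocalization.exists_mk'_eq p.primeCompl x
  rw [IsLocalization.AtPrime.mk'_mem_maximal_iff (Localization.AtPrime p) p] at hx
  rcases ValuationRing.dvd_total r (s : V) with h | h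
  · exfalso
    obtain ⟨t, ht⟩ := h
    exact s.2 (ht ▸ Ideal.mul_mem_right _ _ hx)
  · obtain ⟨y, hy⟩ := h
    have hyp : y ∈ p := (hp.mem_or_mem (hy ▸ hx)).resolve_left s.2
    refine ⟨y, IsLocalRing.le_maximalIdeal hp.ne_top hyp, ?_⟩
    rw [IsLocalization.eq_mk'_iff_mul_eq, ← map_mul, hy, mul_comm]



/-- Let V be a Henselian valuation ring and p a prime ideal of V. Then the local rings V_p (localisation
at p) and V/p are Henselian. (Both are again valuation rings, which is elementary and not restated.) -/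
theorem result (V : Type u) [CommRing V]
    [IsDomain V] [ValuationRing V] [HenselianLocalRing V] (p : Ideal V) [p.IsPrime] :
    HenselianLocalRing (Localization.AtPrime p) ∧ HenselianLocalRing (V ⧸ p) := by
  classical
  exact main V p

end Groth.Agent.S16174
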