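import Groth.Statements.S16187
import Groth.Agent.Lib.Helper8.GSF3
import Groth.Agent.Lib.Helper8.GSF4
import Groth.Agent.Lib.Helper8.LciH1c
import Groth.Agent.Lib.Helper8.Koszul6
import Groth.Agent.Lib.Lead.LciLocal1

set_option autoImplicit false
universe u
open CategoryTheory
open Fitt

namespace Groth.Agent.S16187

/-- Let k be an algebraically closed field and let B be a reduced k-algebra presented as k[T_1, …,
T_r]/(a_1, …, a_c) with a_1, …, a_c a regular sequence in the polynomial ring, so that Spec B is a
reduced complete intersection of dimension d = r - c. Then the d-th Fitting ideal of Ω_{B/k} equals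
the 0-th Fitting ideal of the B-module T^1 = Ext^1_B(Ω_{B/k}, B). (The source states the equality
Fitt_d of the formal sheaf of differentials = Fitt_0 of T^1 for a flat morphism 𝔛 → Spf k[[t]] of
locally Noetherian formal schemes that is a local complete intersection of relative dimension d and
has reduced closed fibre, and obtains it on affine charts from a two-term free resolution of the
differentials given by the conormal sequence; stated here is that chart computation on the closed
fibre, for a global complete intersection in affine r-space.) -/
theorem result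
    (k : Type u) [Field k] [IsAlgClosed k] (r c : ℕ)
    (B : Type u) [CommRing B] [Algebra k B] [IsReduced B]
    (φ : MvPolynomial (Fin r) k →ₐ[k] B) (hφ : Function.Surjective φ)
    (a : Fin c → MvPolynomial (Fin r) k)
    (ha : RingTheory.Sequence.IsRegular (MvPolynomial (Fin r) k) (List.ofFn a))
    (hker : RingHom.ker φ.toRingHom = Ideal.span (Set.range a)) :
    Fitt.ideal B (KaehlerDifferential k B) (r - c) =
      Fitt.ideal B (Abelian.Ext.{u} (ModuleCat.of B (KaehlerDifferential k B)) (ModuleCat.of B B) 1) 0 := by
  classical
  have hae : (MvPolynomial.aeval (fun i => φ (MvPolynomial.X i)) :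
      MvPolynomial (Fin r) k →ₐ[k] B) = φ := by
    apply MvPolynomial.algHom_ext
    intro i
    simp
  let G : Algebra.Generators k B (Fin r) :=
    Algebra.Generators.ofSurjective (fun i => φ (MvPolynomial.X i)) (by rw [hae]; exact hφ)
  have hkerG : G.toExtension.ker = RingHom.ker φ.toRingHom := by
    ext p
    simp only [RingHom.mem_ker]
    have h1 : algebraMap G.toExtension.Ring B p = φ p := by
      have h2 := Algebra.Generators.algebraMap_apply G p
      rw [show G.val = fun i => φ (MvPolynomial.X i) from rfl, hae] at h2
      exact h2
    rw [h1]
    rfl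
  -- `B` is a local complete intersection over `k`
  have hKRseq : LCI.IsKoszulRegularSeq (MvPolynomial (Fin r) k) (List.ofFn a) :=
    (Groth.Agent.Helper8.KoszulLib.koszul_regular _ ha.toIsWeaklyRegular).1
  have hKR : LCI.IsKoszulRegularIdeal (RingHom.ker φ.toRingHom) := by
    rw [hker, ← Groth.Agent.Helper2.RegSeqCotangent.ofList_ofFn]
    exact Groth.Agent.Lead.LciLocal.krIdeal_of_kr _ hKRseq
  haveI hft : Algebra.FiniteType k B := Algebra.FiniteType.of_surjective φ hφ
  have hlci : LCI.IsLCI k B := ⟨hft, r, φ, hφ, hKR⟩
  -- generic smoothness
  have hgs : ∀ (p : Ideal B) [p.IsPrime], p ∈ minimalPrimes B →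
      Algebra.FormallySmooth k (Localization.AtPrime p) := by
    intro p _ hp
    haveI : Ring.KrullDimLE 0 (Localization.AtPrime p) := Ring.KrullDimLE.of_isLocalization p hp _
    letI : Field (Localization.AtPrime p) := Ring.KrullDimLE.isField_of_isReduced.toField
    haveI : Algebra.EssFiniteType k (Localization.AtPrime p) := inferInstance
    exact Algebra.FormallySmooth.of_perfectField
  have hH1 : Subsingleton (Algebra.H1Cotangent k B) :=
    Groth.Agent.Helper8.LciH1.subsingleton_h1Cotangent k B hlci hgs
  -- the conormal sequence
  have hi : Function.Injective G.toExtension.cotangentComplex := by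
    rw [← LinearMap.ker_eq_bot]
    haveI h1 : Subsingleton G.toExtension.H1Cotangent := G.equivH1Cotangent.toEquiv.subsingleton
    haveI h2 : Subsingleton ↥(LinearMap.ker G.toExtension.cotangentComplex) := h1
    exact Submodule.eq_bot_of_subsingleton
  have hπ : Function.Surjective G.toExtension.toKaehler := G.toExtension.toKaehler_surjective
  have hex : Function.Exact G.toExtension.cotangentComplex G.toExtension.toKaehler :=
    G.toExtension.exact_cotangentComplex_toKaehler
  -- bases
  obtain ⟨b1⟩ := Groth.Agent.Helper8.GSF.nonempty_basis_cotangent G.toExtension c a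
    ha.toIsWeaklyRegular (hkerG.trans hker)
  haveI : Module.Projective B G.toExtension.CotangentSpace :=
    Module.Projective.of_basis G.cotangentSpaceBasis
  obtain ⟨eE⟩ := Groth.Agent.Helper8.GSF.nonempty_ext_one_equiv (N := B)
    G.toExtension.cotangentComplex G.toExtension.toKaehler hi hπ hex
  rw [← Groth.Agent.Helper4.Fitting.ideal_congr eE]
  exact Groth.Agent.Helper8.GSF.fitt_eq_of_resolution c r b1 G.cotangentSpaceBasis
    G.toExtension.cotangentComplex G.toExtension.toKaehler hi hπ hex

end Groth.Agent.S16187
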