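import Groth.Statements.S16188
import Mathlib

set_option autoImplicit false
universe u
open CategoryTheory AlgebraicGeometry TopologicalSpace
open SchMor

namespace Groth.Agent.S16188

section
open AlgebraicGeometry CategoryTheory TopologicalSpace

theorem reduced_sub {Y : Scheme.{u}} (Z : Closeds Y) :
    IsReduced (Scheme.IdealSheafData.vanishingIdeal Z).subscheme := by
  have key : ∀ U : Y.affineOpens,
      IsReduced (Spec (.of (Γ(Y, U.1) ⧸ (Scheme.IdealSheafData.vanishingIdeal Z).ideal U))) := by
    intro U
    have hr : ((Scheme.IdealSheafData.vanishingIdeal Z).ideal U).IsRadical := by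
      rw [Scheme.IdealSheafData.vanishingIdeal_ideal]
      exact PrimeSpectrum.isRadical_vanishingIdeal _
    have : _root_.IsReduced (Γ(Y, U.1) ⧸ (Scheme.IdealSheafData.vanishingIdeal Z).ideal U) :=
      (Ideal.isRadical_iff_quotient_reduced _).1 hr
    infer_instance
  have : ∀ i, IsReduced ((Scheme.IdealSheafData.vanishingIdeal Z).subschemeCover.openCover.X i) :=
    fun U => key U
  exact IsReduced.of_openCover _ (Scheme.IdealSheafData.vanishingIdeal Z).subschemeCover.openCover

theorem main {X Y : Scheme.{u}} (f : X ⟶ Y) [IsReduced X] [IrreducibleSpace X] :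
    ∃ (Z : Closeds Y) (_ : (Z : Set Y) ∈ irreducibleComponents Y)
      (_ : IsIntegral (Scheme.IdealSheafData.vanishingIdeal Z).subscheme)
      (g : X ⟶ (Scheme.IdealSheafData.vanishingIdeal Z).subscheme),
      g ≫ (Scheme.IdealSheafData.vanishingIdeal Z).subschemeι = f := by
  have hirr : IsIrreducible (Set.range f) := by
    rw [← Set.image_univ]
    exact (IrreducibleSpace.isIrreducible_univ X).image f f.continuous.continuousOn
  obtain ⟨t, ht, hst, hmax⟩ := exists_preirreducible (Set.range f) hirr.isPreirreducible
  have htirr : IsIrreducible t := ⟨hirr.nonempty.mono hst, ht⟩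
  have htmem : t ∈ irreducibleComponents Y := by
    refine ⟨htirr, fun s hs hts => ?_⟩
    exact (hmax s hs.isPreirreducible hts).le
  have htcl : IsClosed t := isClosed_of_mem_irreducibleComponents t htmem
  refine ⟨⟨t, htcl⟩, htmem, ?_, ?_⟩
  · have h1 := reduced_sub (⟨t, htcl⟩ : Closeds Y)
    have h2 : IrreducibleSpace (Scheme.IdealSheafData.vanishingIdeal (⟨t, htcl⟩ : Closeds Y)).subscheme := by
      have h3 : IsIrreducible
          ((Scheme.IdealSheafData.vanishingIdeal (⟨t, htcl⟩ : Closeds Y)).support : Set Y) := by
        rw [Scheme.IdealSheafData.coe_support_vanishingIdeal]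
        exact htirr
      exact Subtype.irreducibleSpace h3
    exact isIntegral_of_irreducibleSpace_of_isReduced _
  · have hker : (Scheme.IdealSheafData.vanishingIdeal (⟨t, htcl⟩ : Closeds Y)).subschemeι.ker ≤ f.ker := by
      rw [Scheme.IdealSheafData.ker_subschemeι, ← Scheme.IdealSheafData.map_bot,
        ← Scheme.nilradical_eq_bot, ← Scheme.IdealSheafData.vanishingIdeal_top,
        Scheme.IdealSheafData.map_vanishingIdeal]
      apply Scheme.IdealSheafData.vanishingIdeal_antimono
      rw [TopologicalSpace.Closeds.closure_le]
      rintro _ ⟨x, -, rfl⟩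
      exact hst ⟨x, rfl⟩
    exact ⟨IsClosedImmersion.lift _ f hker, IsClosedImmersion.lift_fac _ f hker⟩


end


/-- Let f : X → Y be a morphism of schemes with X reduced and irreducible. Then f factors through an
irreducible component of Y carrying its reduced closed-subscheme structure: there are an irreducible
component Z of Y and a morphism g from X to the closed subscheme of Y cut out by the vanishing ideal
sheaf of Z with g followed by the inclusion equal to f; that closed subscheme is integral. -/
theorem result
    {X Y : Scheme.{u}} (f : X ⟶ Y) [IsReduced X] [IrreducibleSpace X] :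
    ∃ (Z : Closeds Y) (_ : (Z : Set Y) ∈ irreducibleComponents Y)
      (_ : IsIntegral (Scheme.IdealSheafData.vanishingIdeal Z).subscheme)
      (g : X ⟶ (Scheme.IdealSheafData.vanishingIdeal Z).subscheme),
      g ≫ (Scheme.IdealSheafData.vanishingIdeal Z).subschemeι = f := by
  classical
  exact main f

end Groth.Agent.S16188
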