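import Groth.Statements.S16194
import Mathlib

set_option autoImplicit false
universe u
open DivAlg

namespace Groth.Agent.S16194

/-- In an associative unital ring R, not necessarily commutative, every element r of the Jacobson
radical (the set of elements lying in every maximal left ideal) is quasiregular, i.e. 1 - r is a
two-sided unit. -/
theorem result {R : Type u} [Ring R] (r : R)
    (hr : r ∈ Ring.jacobson R) : IsUnit (1 - r) := by
  classical
  rw [← Ideal.jacobson_bot] at hr
  obtain ⟨z, hz⟩ := Ideal.mem_jacobson_iff.mp hr (-1)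
  rw [Ideal.mem_bot] at hz
  have hz1 : z * (1 - r) = 1 := by
    have : z * (1 - r) = z * -1 * r + z - 1 + 1 := by noncomm_ring
    rw [this, hz, zero_add]
  have hzr : -(z * r) ∈ Ideal.jacobson (⊥ : Ideal R) :=
    neg_mem (Ideal.mul_mem_left _ z hr)
  obtain ⟨w, hw⟩ := Ideal.mem_jacobson_iff.mp hzr (-1)
  rw [Ideal.mem_bot] at hw
  have hzeq : z = 1 + z * r := by
    have : z * (1 - r) = z - z * r := by noncomm_ring
    rw [this] at hz1
    rw [← hz1]; noncomm_ring
  have hw1 : w * z = 1 := by
    have h1 : w * z = w * -1 * -(z * r) + w - 1 + 1 - w * (z * r) + w * (z * r) + (w * z - w - w * (z * r)) := by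
      noncomm_ring
    have h2 : w * z - w - w * (z * r) = 0 := by
      have h0 : z - 1 - z * r = 0 := by rw [sub_sub, sub_eq_zero]; exact hzeq
      have : w * z - w - w * (z * r) = w * (z - 1 - z * r) := by noncomm_ring
      rw [this, h0, mul_zero]
    have h3 : w * -1 * -(z * r) = w * (z * r) := by noncomm_ring
    rw [h1, hw, h2]; noncomm_ring
  have hweq : (1 - r) = w := by
    calc (1 - r) = (w * z) * (1 - r) := by rw [hw1, one_mul]
      _ = w * (z * (1 - r)) := mul_assoc _ _ _
      _ = w := by rw [hz1, mul_one]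
  exact ⟨⟨1 - r, z, by rw [hweq, hw1], hz1⟩, rfl⟩

end Groth.Agent.S16194
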