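import Groth.Statements.S16195
import Mathlib

set_option autoImplicit false
universe u v w
open DivAlg

namespace Groth.Agent.S16195

/-- Let R be a ring (associative, unital, not necessarily commutative) and M, N left R-modules. For an
R-module P write BiEnd_R(P) for the ring of endomorphisms of P that are linear over the ring
End_R(P), which acts on P through evaluation. Then every T in BiEnd_R(M × N) preserves the two
summands and is induced by a pair (T₁, T₂) with T₁ in BiEnd_R(M) and T₂ in BiEnd_R(N). -/
theorem result {R : Type u} [Ring R] (M : Type v) (N : Type w)
    [AddCommGroup M] [Module R M] [AddCommGroup N] [Module R N]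
    (T : Module.End (Module.End R (M × N)) (M × N)) :
    ∃ (T₁ : Module.End (Module.End R M) M) (T₂ : Module.End (Module.End R N) N),
      ∀ (m : M) (n : N), T (m, n) = (T₁ m, T₂ n) := by
  classical
  have hsm : ∀ (φ : Module.End R (M × N)) (x : M × N), T (φ x) = φ (T x) := by
    intro φ x
    have := T.map_smul φ x
    simpa using this
  refine ⟨
    { toFun := fun m => (T (m, 0)).1
      map_add' := by
        intro m m'
        have : ((m + m', (0 : N)) : M × N) = (m, 0) + (m', 0) := by simp
        rw [this, map_add]; rfl
      map_smul' := by
        intro ψ m
        have h := hsm ((LinearMap.inl R M N).comp (ψ.comp (LinearMap.fst R M N))) (m, 0)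
        simp only [LinearMap.comp_apply, LinearMap.fst_apply, LinearMap.inl_apply] at h
        have h2 := congrArg Prod.fst h
        simpa using h2 },
    { toFun := fun n => (T (0, n)).2
      map_add' := by
        intro n n'
        have : (((0 : M), n + n') : M × N) = (0, n) + (0, n') := by simp
        rw [this, map_add]; rfl
      map_smul' := by
        intro ψ n
        have h := hsm ((LinearMap.inr R M N).comp (ψ.comp (LinearMap.snd R M N))) (0, n)
        simp only [LinearMap.comp_apply, LinearMap.snd_apply, LinearMap.inr_apply] at h
        have h2 := congrArg Prod.snd h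
        simpa using h2 }, ?_⟩
  intro m n
  have h1 : (T (m, 0)).2 = 0 := by
    have h := hsm ((LinearMap.inr R M N).comp (LinearMap.snd R M N)) (m, 0)
    simp only [LinearMap.comp_apply, LinearMap.snd_apply, LinearMap.inr_apply] at h
    have h2 := congrArg Prod.snd h
    simp only [Prod.mk_zero_zero, map_zero, Prod.snd_zero] at h2
    exact h2.symm
  have h2 : (T (0, n)).1 = 0 := by
    have h := hsm ((LinearMap.inl R M N).comp (LinearMap.fst R M N)) (0, n)
    simp only [LinearMap.comp_apply, LinearMap.fst_apply, LinearMap.inl_apply] at h
    have h2 := congrArg Prod.fst h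
    simp only [Prod.mk_zero_zero, map_zero, Prod.fst_zero] at h2
    exact h2.symm
  have h3 : ((m, n) : M × N) = (m, 0) + (0, n) := by simp
  rw [h3, map_add]
  ext
  · simp [h2]
  · simp [h1]

end Groth.Agent.S16195
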