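import Groth.Statements.S16196
import Mathlib

set_option autoImplicit false
universe u v
open DivAlg

namespace Groth.Agent.S16196

/-- Let R be a ring (associative, unital, not necessarily commutative) and M a left R-module which is a
generator, in the form: for some n there is an R-linear surjection from M^n onto R. Then the natural
ring homomorphism from R to the double endomorphism ring BiEnd_R(M) = End_{End_R(M)}(M)
(endomorphisms of M commuting with every R-linear endomorphism), r ↦ multiplication by r, is
bijective. (The printed form takes R an algebra over a commutative ring k, embeds R in E = End_k(M)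
and asserts R = C_E(C_E(R)); the double centralizer there is BiEnd_R(M).) -/
theorem result {R : Type u} [Ring R] (M : Type v)
    [AddCommGroup M] [Module R M]
    (hgen : ∃ (n : ℕ) (f : (Fin n → M) →ₗ[R] R), Function.Surjective f) :
    Function.Bijective (Module.toModuleEnd (Module.End R M) (S := R) M) := by
  classical
  obtain ⟨n, f, hf⟩ := hgen
  obtain ⟨v, hv⟩ := hf 1
  -- component maps
  let fi : Fin n → (M →ₗ[R] R) := fun i => f.comp (LinearMap.single R (fun _ : Fin n => M) i)
  have hsum : ∀ w : Fin n → M, f w = ∑ i, fi i (w i) := by
    intro w
    have hw : w = ∑ i, Pi.single i (w i) := (Finset.univ_sum_single w).symm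
    conv_lhs => rw [hw]
    rw [map_sum]
    rfl
  have hone : ∑ i, fi i (v i) = 1 := by rw [← hsum, hv]
  have happ : ∀ (r : R) (m : M), Module.toModuleEnd (Module.End R M) (S := R) M r m = r • m :=
    fun r m => rfl
  constructor
  · rw [injective_iff_map_eq_zero]
    intro r hr
    have h0 : ∀ m : M, r • m = 0 := by
      intro m
      rw [← happ, hr]; rfl
    calc r = r * 1 := (mul_one r).symm
      _ = r * ∑ i, fi i (v i) := by rw [hone]
      _ = ∑ i, r * fi i (v i) := Finset.mul_sum _ _ _
      _ = ∑ i, fi i (r • v i) := by
          apply Finset.sum_congr rfl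
          intro i _
          rw [map_smul, smul_eq_mul]
      _ = 0 := by simp [h0]
  · intro T
    refine ⟨∑ i, fi i (T (v i)), ?_⟩
    ext x
    rw [happ]
    -- φ_{i,x} : m ↦ f_i(m) • x
    have hcomm : ∀ i, T ((fi i (v i)) • x) = (fi i (T (v i))) • x := by
      intro i
      let φ : Module.End R M := (LinearMap.toSpanSingleton R M x).comp (fi i)
      have h1 := T.map_smul φ (v i)
      have h2 : φ • (v i) = (fi i (v i)) • x := rfl
      have h3 : φ • (T (v i)) = (fi i (T (v i))) • x := rfl
      rw [h2, h3] at h1
      exact h1
    calc (∑ i, fi i (T (v i))) • x = ∑ i, (fi i (T (v i))) • x := Finset.sum_smul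
      _ = ∑ i, T ((fi i (v i)) • x) := by
          apply Finset.sum_congr rfl
          intro i _
          rw [hcomm]
      _ = T (∑ i, (fi i (v i)) • x) := (map_sum T _ _).symm
      _ = T ((∑ i, fi i (v i)) • x) := by rw [Finset.sum_smul]
      _ = T x := by rw [hone, one_smul]

end Groth.Agent.S16196
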