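import Groth.Statements.S16197
import Mathlib

set_option autoImplicit false
universe u v w
open DivAlg

namespace Groth.Agent.S16197

/-- Let R be a ring (associative, unital, not necessarily commutative) and M a left R-module which is a
generator, used here only through the existence of an R-linear surjection from a direct sum of
copies of M, indexed by an arbitrary type, onto R. Then some finite power M^n decomposes as R × Q
for a submodule Q of M^n. (The published statement is an equivalence; this row states only the
implication from the existence of such a surjection to the splitting.) -/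
theorem result {R : Type u} [Ring R] (M : Type v)
    [AddCommGroup M] [Module R M]
    (hgen : ∃ (ι : Type w) (f : (ι →₀ M) →ₗ[R] R), Function.Surjective f) :
    ∃ (n : ℕ) (Q : Submodule R (Fin n → M)), Nonempty ((Fin n → M) ≃ₗ[R] (R × Q)) := by
  classical
  obtain ⟨ι, f, hf⟩ := hgen
  obtain ⟨ξ, hξ⟩ := hf 1
  let s := ξ.support
  let n := s.card
  let e : ↥s ≃ Fin n := s.equivFin
  let g : (Fin n → M) →ₗ[R] R :=
    ∑ j : ↥s, (f.comp (Finsupp.lsingle (j : ι))).comp (LinearMap.proj (e j))
  let w₀ : Fin n → M := fun k => ξ (e.symm k)
  have hg : ∀ w, g w = ∑ j : ↥s, f (Finsupp.single (j : ι) (w (e j))) := by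
    intro w
    simp only [g, LinearMap.sum_apply, LinearMap.comp_apply, LinearMap.proj_apply,
      Finsupp.lsingle_apply]
  have hg1 : g w₀ = 1 := by
    rw [hg, ← map_sum, ← hξ]
    congr 1
    simp only [w₀, Equiv.symm_apply_apply]
    have := Finsupp.sum_single ξ
    rw [Finsupp.sum] at this
    conv_rhs => rw [← this]
    exact Finset.sum_coe_sort s (fun j => Finsupp.single j (ξ j))
  refine ⟨n, LinearMap.ker g, ⟨?_⟩⟩
  have hker : ∀ x, x - g x • w₀ ∈ LinearMap.ker g := by
    intro x
    rw [LinearMap.mem_ker, map_sub, map_smul, hg1, smul_eq_mul, mul_one, sub_self]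
  exact
    { toFun := fun x => (g x, ⟨x - g x • w₀, hker x⟩)
      map_add' := by
        intro x y
        refine Prod.ext (by simp) (Subtype.ext ?_)
        show x + y - g (x + y) • w₀ = (x - g x • w₀) + (y - g y • w₀)
        rw [map_add, add_smul]; abel
      map_smul' := by
        intro r x
        refine Prod.ext (by simp) (Subtype.ext ?_)
        show r • x - g (r • x) • w₀ = r • (x - g x • w₀)
        rw [map_smul, smul_eq_mul, smul_sub, mul_smul]
      invFun := fun p => p.1 • w₀ + (p.2 : Fin n → M)
      left_inv := by
        intro x
        simp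
      right_inv := by
        rintro ⟨r, q, hq⟩
        rw [LinearMap.mem_ker] at hq
        refine Prod.ext ?_ (Subtype.ext ?_)
        · show g (r • w₀ + q) = r
          rw [map_add, map_smul, hg1, hq, smul_eq_mul, mul_one, add_zero]
        · show r • w₀ + q - g (r • w₀ + q) • w₀ = q
          rw [map_add, map_smul, hg1, hq, smul_eq_mul, mul_one, add_zero]
          abel }

end Groth.Agent.S16197
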