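import Groth.Statements.S16198
import Mathlib
import Groth.Agent.Lib.Lead.MatAut5

set_option autoImplicit false
universe u v
open DivAlg

namespace Groth.Agent.S16198

section
open Groth.Agent.Lead.MatAut
open scoped TensorProduct

theorem main {R : Type u} [CommRing R] (N : Type v)
    [AddCommGroup N] [Module R N] [Module.Invertible R N] (n : ℕ)
    (e : (Fin n → N) ≃ₗ[R] (Fin n → R)) :
    CommRing.Pic.mk R N ^ n = 1 := by
  rcases Nat.eq_zero_or_pos n with rfl | hn
  · rw [pow_zero]
  have : NeZero n := ⟨hn.ne'⟩
  have hi := invertible_tpow R N n
  have h1 := pic_tpow R N n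
  rw [← h1, CommRing.Pic.mk_eq_one_iff]
  have := invertible_Lift (autOfPow e)
  exact ⟨(PiTensorProduct.congr (fun _ => (liftPowEquiv e).symm)).trans (detEquiv (autOfPow e))⟩


end


/-- In the case of a commutative ring R, let N be an invertible R-module such that the direct sum N^n is
isomorphic to R^n for some natural number n. Then the class of N in Pic(R) satisfies [N]^n = 1. (The
published statement is for invertible modules on an arbitrary ringed site; this row states the case
of a commutative ring.) -/
theorem result {R : Type u} [CommRing R] (N : Type v)
    [AddCommGroup N] [Module R N] [Module.Invertible R N] (n : ℕ)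
    (e : (Fin n → N) ≃ₗ[R] (Fin n → R)) :
    CommRing.Pic.mk R N ^ n = 1 := by
  classical
  exact main N n e

end Groth.Agent.S16198
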