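import Groth.Statements.S16220
import Mathlib

set_option autoImplicit false
universe u v
open Disp

namespace Groth.Agent.S16220

namespace H16220

variable {p : ℕ} [Fact p.Prime] {k : Type u} [CommRing k] [CharP k p] [PerfectRing k p]

/-- in `W/p^n`, `n ≥ 2`, `p c = 0` implies `c ∈ (p)`. -/
theorem quot_torsion (n : ℕ) (hn : 2 ≤ n)
    (c : WittVector p k ⧸ Ideal.span {(p : WittVector p k) ^ n})
    (hc : (Ideal.Quotient.mk _ (p : WittVector p k)) * c = 0) :
    ∃ c', c = (Ideal.Quotient.mk _ (p : WittVector p k)) * c' := by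
  obtain ⟨a, rfl⟩ := Ideal.Quotient.mk_surjective c
  rw [← map_mul, Ideal.Quotient.eq_zero_iff_mem, Ideal.mem_span_singleton] at hc
  obtain ⟨b, hb⟩ := hc
  obtain ⟨j, rfl⟩ : ∃ j, n = j + 2 := ⟨n - 2, by omega⟩
  have h0 : (a - (p : WittVector p k) ^ (j+1) * b) * p = 0 := by
    rw [sub_mul, mul_comm a, hb]; ring
  have h1 := WittVector.eq_zero_of_p_mul_eq_zero _ h0
  refine ⟨Ideal.Quotient.mk _ ((p : WittVector p k) ^ j * b), ?_⟩
  rw [← map_mul]
  congr 1
  rw [sub_eq_zero] at h1
  rw [h1]; ring

variable {M : Type v} [AddCommGroup M] [Module (WittVector p k) M]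

theorem mk_smul (n : ℕ)
    [Module (WittVector p k ⧸ Ideal.span {(p : WittVector p k) ^ n}) M] [IsScalarTower (WittVector p k) (WittVector p k ⧸ Ideal.span {(p : WittVector p k) ^ n}) M]
    (a : WittVector p k) (m : M) :
    (Ideal.Quotient.mk (Ideal.span {(p : WittVector p k) ^ n}) a) • m = a • m := by
  have := smul_assoc a (1 : WittVector p k ⧸ Ideal.span {(p : WittVector p k) ^ n}) m
  rw [one_smul] at this
  rw [← this]
  congr 1
  rw [Algebra.smul_def, mul_one]
  rfl

theorem torsion_mem (n : ℕ) (hn : 2 ≤ n)
    [Module (WittVector p k ⧸ Ideal.span {(p : WittVector p k) ^ n}) M] [IsScalarTower (WittVector p k) (WittVector p k ⧸ Ideal.span {(p : WittVector p k) ^ n}) M]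
    [Module.Projective (WittVector p k ⧸ Ideal.span {(p : WittVector p k) ^ n}) M]
    (z : M) (hz : (p : WittVector p k) • z = 0) : ∃ z' : M, z = (p : WittVector p k) • z' := by
  classical
  obtain ⟨s, hs⟩ := (Module.projective_def' (R := WittVector p k ⧸ Ideal.span {(p : WittVector p k) ^ n}) (P := M)).1 inferInstance
  have hz' : (Ideal.Quotient.mk (Ideal.span {(p : WittVector p k) ^ n}) (p : WittVector p k)) • s z = 0 := by
    rw [← map_smul, mk_smul, hz, map_zero]
  have hc : ∀ i : M, ∃ c', (s z) i = (Ideal.Quotient.mk _ (p : WittVector p k)) * c' := by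
    intro i
    apply quot_torsion n hn
    have := congrArg (fun f => f i) hz'
    simpa using this
  choose c hc using hc
  have hzz : z = Finsupp.linearCombination _ id (s z) := by
    have := congrArg (fun f => f z) hs
    simpa using this.symm
  refine ⟨∑ i ∈ (s z).support, c i • i, ?_⟩
  rw [← mk_smul n, Finset.smul_sum]
  conv_lhs => rw [hzz]
  rw [Finsupp.linearCombination_apply, Finsupp.sum]
  apply Finset.sum_congr rfl
  intro i _
  rw [hc i, mul_smul]
  rfl

theorem smul_top_eq (N : Type v) [AddCommGroup N] [Module (WittVector p k) N] (x : N) :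
    x ∈ Ideal.span {(p : WittVector p k)} • (⊤ : Submodule (WittVector p k) N) ↔ ∃ y, x = (p : WittVector p k) • y := by
  rw [Submodule.ideal_span_singleton_smul]
  constructor
  · rintro ⟨y, -, rfl⟩
    exact ⟨y, rfl⟩
  · rintro ⟨y, rfl⟩
    exact ⟨y, Submodule.mem_top, rfl⟩

theorem main (n : ℕ) (hn : 2 ≤ n)
    [Module (WittVector p k ⧸ Ideal.span {(p : WittVector p k) ^ n}) M] [IsScalarTower (WittVector p k) (WittVector p k ⧸ Ideal.span {(p : WittVector p k) ^ n}) M]
    [Module.Finite (WittVector p k ⧸ Ideal.span {(p : WittVector p k) ^ n}) M] [Module.Projective (WittVector p k ⧸ Ideal.span {(p : WittVector p k) ^ n}) M]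
    (F : M →ₛₗ[(WittVector.frobenius : WittVector p k →+* WittVector p k)] M)
    (V : M →ₛₗ[((WittVector.frobeniusEquiv p k).symm : WittVector p k →+* WittVector p k)] M)
    (hFV : ∀ m : M, F (V m) = (p : WittVector p k) • m) (hVF : ∀ m : M, V (F m) = (p : WittVector p k) • m) :
    (Ideal.span {(p : WittVector p k)} • (⊤ : Submodule (WittVector p k) M)).comap F =
        Submodule.span (WittVector p k) (Set.range V) ⊔ Ideal.span {(p : WittVector p k)} • (⊤ : Submodule (WittVector p k) M) ∧
      (Ideal.span {(p : WittVector p k)} • (⊤ : Submodule (WittVector p k) M)).comap V =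
        Submodule.span (WittVector p k) (Set.range F) ⊔ Ideal.span {(p : WittVector p k)} • (⊤ : Submodule (WittVector p k) M) := by
  constructor
  · apply le_antisymm
    · intro m hm
      rw [Submodule.mem_comap, smul_top_eq] at hm
      obtain ⟨m', hm'⟩ := hm
      have hz : F (m - V m') = 0 := by rw [map_sub, hFV, hm', sub_self]
      have hz2 : (p : WittVector p k) • (m - V m') = 0 := by rw [← hVF, hz, map_zero]
      obtain ⟨z', hz'⟩ := torsion_mem n hn _ hz2
      have : m = V m' + (p : WittVector p k) • z' := by rw [← hz']; abel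
      rw [this]
      exact Submodule.add_mem_sup (Submodule.subset_span ⟨m', rfl⟩) ((smul_top_eq M _).2 ⟨z', rfl⟩)
    · rw [sup_le_iff]
      constructor
      · rw [Submodule.span_le]
        rintro _ ⟨m, rfl⟩
        rw [SetLike.mem_coe, Submodule.mem_comap, hFV]
        exact (smul_top_eq M _).2 ⟨m, rfl⟩
      · intro x hx
        obtain ⟨y, rfl⟩ := (smul_top_eq M _).1 hx
        rw [Submodule.mem_comap, LinearMap.map_smulₛₗ, map_natCast]
        exact (smul_top_eq M _).2 ⟨_, rfl⟩
  · apply le_antisymm
    · intro m hm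
      rw [Submodule.mem_comap, smul_top_eq] at hm
      obtain ⟨m', hm'⟩ := hm
      have hz : V (m - F m') = 0 := by rw [map_sub, hVF, hm', sub_self]
      have hz2 : (p : WittVector p k) • (m - F m') = 0 := by rw [← hFV, hz, map_zero]
      obtain ⟨z', hz'⟩ := torsion_mem n hn _ hz2
      have : m = F m' + (p : WittVector p k) • z' := by rw [← hz']; abel
      rw [this]
      exact Submodule.add_mem_sup (Submodule.subset_span ⟨m', rfl⟩) ((smul_top_eq M _).2 ⟨z', rfl⟩)
    · rw [sup_le_iff]
      constructor
      · rw [Submodule.span_le]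
        rintro _ ⟨m, rfl⟩
        rw [SetLike.mem_coe, Submodule.mem_comap, hVF]
        exact (smul_top_eq M _).2 ⟨m, rfl⟩
      · intro x hx
        obtain ⟨y, rfl⟩ := (smul_top_eq M _).1 hx
        rw [Submodule.mem_comap, LinearMap.map_smulₛₗ]
        have : ((WittVector.frobeniusEquiv p k).symm : WittVector p k →+* WittVector p k) (p : WittVector p k) = p := map_natCast _ p
        rw [this]
        exact (smul_top_eq M _).2 ⟨_, rfl⟩

end H16220

/-- Let p be a prime and k a perfect ring of characteristic p, so that the Frobenius σ of W = W(k) is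
bijective, W has no p-torsion and W/p^n W = W_n(k) (the ideal p^n W is the kernel of the truncation
to length n). Let n ≥ 2 and let M be a truncated Dieudonné module of level n over k: a W-module on
which W acts through W/p^n W, finitely generated and projective over W/p^n W, with a σ-semilinear F
: M → M and a σ⁻¹-semilinear V : M → M such that FV = VF = p. Then on M/pM the kernel of F is the
image of V and the kernel of V is the image of F; stated inside M: the preimage of pM under F is VM
+ pM, and the preimage of pM under V is FM + pM. -/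
theorem result (p : ℕ) [Fact p.Prime] (k : Type u) [CommRing k]
    [CharP k p] [PerfectRing k p] (n : ℕ) (hn : 2 ≤ n)
    (M : Type v) [AddCommGroup M] [Module (WittVector p k) M]
    [Module (WittVector p k ⧸ Ideal.span {(p : WittVector p k) ^ n}) M] [IsScalarTower (WittVector p k) (WittVector p k ⧸ Ideal.span {(p : WittVector p k) ^ n}) M]
    [Module.Finite (WittVector p k ⧸ Ideal.span {(p : WittVector p k) ^ n}) M] [Module.Projective (WittVector p k ⧸ Ideal.span {(p : WittVector p k) ^ n}) M]
    (F : M →ₛₗ[(WittVector.frobenius : WittVector p k →+* WittVector p k)] M)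
    (V : M →ₛₗ[((WittVector.frobeniusEquiv p k).symm : WittVector p k →+* WittVector p k)] M)
    (hFV : ∀ m : M, F (V m) = (p : WittVector p k) • m) (hVF : ∀ m : M, V (F m) = (p : WittVector p k) • m) :
    (Ideal.span {(p : WittVector p k)} • (⊤ : Submodule (WittVector p k) M)).comap F =
        Submodule.span (WittVector p k) (Set.range V) ⊔ Ideal.span {(p : WittVector p k)} • (⊤ : Submodule (WittVector p k) M) ∧
      (Ideal.span {(p : WittVector p k)} • (⊤ : Submodule (WittVector p k) M)).comap V =
        Submodule.span (WittVector p k) (Set.range F) ⊔ Ideal.span {(p : WittVector p k)} • (⊤ : Submodule (WittVector p k) M) := by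
  exact H16220.main n hn F V hFV hVF

end Groth.Agent.S16220
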