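import Groth.Statements.S16221
import Mathlib
import Groth.Agent.Lib.Helper9.DieuC
-- import your own Groth.Agent.* helpers here

set_option autoImplicit false
universe u v
open Disp

namespace Groth.Agent.S16221

open Groth.Agent.Lib.Helper9.DieuL
namespace Aux

section generic

variable {R : Type u} [CommRing R] (I₁ I₂ : Ideal R) (h12 : I₁ ≤ I₂)
variable {M : Type v} [AddCommGroup M] [Module R M] [Module (R ⧸ I₁) M] [IsScalarTower R (R ⧸ I₁) M]

omit [IsScalarTower R (R ⧸ I₁) M] in
lemma mk_smul_eq [IsScalarTower R (R ⧸ I₁) M] (c : R) (m : M) : (Ideal.Quotient.mk I₁ c) • m = c • m := by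
  rw [← Ideal.Quotient.algebraMap_eq, algebraMap_smul]

/-- coordinates of elements of `𝔞 M` -/
lemma coords_mem_map (s : M →ₗ[R ⧸ I₁] (M →₀ (R ⧸ I₁))) (𝔞 : Ideal R) (u : M)
    (hu : u ∈ 𝔞 • (⊤ : Submodule R M)) (m : M) : (s u) m ∈ 𝔞.map (Ideal.Quotient.mk I₁) := by
  refine Submodule.smul_induction_on hu ?_ ?_
  · intro a ha m' _
    rw [← mk_smul_eq I₁ a m', map_smul, Finsupp.smul_apply, smul_eq_mul]
    exact Ideal.mul_mem_right _ _ (Ideal.mem_map_of_mem _ ha)
  · intro x y hx hy
    rw [map_add, Finsupp.add_apply]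
    exact Ideal.add_mem _ hx hy

/-- recovering membership from coordinates -/
lemma mem_smul_top_of_coords (s : M →ₗ[R ⧸ I₁] (M →₀ (R ⧸ I₁)))
    (hs : Finsupp.linearCombination (R ⧸ I₁) id ∘ₗ s = LinearMap.id) (𝔟 : Ideal R) (u : M)
    (hu : ∀ m, ∃ c ∈ 𝔟, Ideal.Quotient.mk I₁ c = (s u) m) :
    u ∈ 𝔟 • (⊤ : Submodule R M) := by
  have h3 : u = Finsupp.linearCombination (R ⧸ I₁) id (s u) := by
    have := LinearMap.congr_fun hs u
    simpa using this.symm
  rw [h3, Finsupp.linearCombination_apply]
  apply Submodule.sum_mem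
  intro m _
  obtain ⟨c, hc, hcm⟩ := hu m
  rw [← hcm]
  show (Ideal.Quotient.mk I₁ c) • m ∈ _
  rw [mk_smul_eq]
  exact Submodule.smul_mem_smul hc Submodule.mem_top

include h12 in
/-- the reduction `M / I₂ M` is projective over `R / I₂` -/
lemma projective_quot_of_projective_quot [Module.Projective (R ⧸ I₁) M] :
    Module.Projective (R ⧸ I₂) (M ⧸ I₂ • (⊤ : Submodule R M)) := by
  obtain ⟨s, hs⟩ := Module.projective_def'.mp ‹Module.Projective (R ⧸ I₁) M›
  let red : (R ⧸ I₁) →ₗ[R] (R ⧸ I₂) := (Ideal.Quotient.factorₐ R h12).toLinearMap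
  have hred : ∀ c : R, red (Ideal.Quotient.mk I₁ c) = Ideal.Quotient.mk I₂ c := fun c => rfl
  let ψ₀ : M →ₗ[R] (M →₀ (R ⧸ I₂)) :=
    (Finsupp.mapRange.linearMap red) ∘ₗ (s.restrictScalars R)
  have hker : I₂ • (⊤ : Submodule R M) ≤ LinearMap.ker ψ₀ := by
    intro x hx
    refine Submodule.smul_induction_on hx ?_ ?_
    · intro a ha m _
      rw [LinearMap.mem_ker, map_smul]
      ext m'
      rw [Finsupp.smul_apply, Finsupp.zero_apply, Algebra.smul_def,
        Ideal.Quotient.algebraMap_eq, Ideal.Quotient.eq_zero_iff_mem.mpr ha, zero_mul]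
    · intro x y hx hy
      exact Submodule.add_mem _ hx hy
  let ψ₁ : (M ⧸ I₂ • (⊤ : Submodule R M)) →ₗ[R] (M →₀ (R ⧸ I₂)) :=
    (I₂ • (⊤ : Submodule R M)).liftQ ψ₀ hker
  let ψ : (M ⧸ I₂ • (⊤ : Submodule R M)) →ₗ[R ⧸ I₂] (M →₀ (R ⧸ I₂)) :=
    ψ₁.extendScalarsOfSurjective Ideal.Quotient.mk_surjective
  let φ : (M →₀ (R ⧸ I₂)) →ₗ[R ⧸ I₂] (M ⧸ I₂ • (⊤ : Submodule R M)) :=
    Finsupp.linearCombination (R ⧸ I₂) (fun m : M => (I₂ • (⊤ : Submodule R M)).mkQ m)
  apply Module.Projective.of_split ψ φ
  apply LinearMap.ext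
  intro x
  obtain ⟨u, rfl⟩ := Submodule.Quotient.mk_surjective _ x
  have h1 : ψ (Submodule.Quotient.mk u) = Finsupp.mapRange red (map_zero red) (s u) := by
    simp only [ψ, ψ₁, ψ₀, LinearMap.extendScalarsOfSurjective_apply, Submodule.liftQ_apply,
      LinearMap.comp_apply, LinearMap.restrictScalars_apply, Finsupp.mapRange.linearMap_apply]
  rw [LinearMap.comp_apply, LinearMap.id_apply, h1]
  have h3 : u = Finsupp.linearCombination (R ⧸ I₁) id (s u) := by
    have := LinearMap.congr_fun hs u
    simpa using this.symm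
  conv_rhs => rw [h3]
  rw [Finsupp.linearCombination_apply, Finsupp.linearCombination_apply,
    Finsupp.sum_mapRange_index (by intro m; rw [zero_smul])]
  rw [Finsupp.sum, Finsupp.sum, ← Submodule.mkQ_apply, map_sum]
  apply Finset.sum_congr rfl
  intro m _
  obtain ⟨c, hc⟩ := Ideal.Quotient.mk_surjective ((s u) m)
  rw [← hc, hred, mk_smul_eq I₂, id, mk_smul_eq I₁, map_smul]

end generic

theorem main (p : ℕ) [Fact p.Prime] (k : Type u) [CommRing k]
    [CharP k p] [PerfectRing k p] (n : ℕ) (hn : 2 ≤ n)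
    (M : Type v) [AddCommGroup M] [Module (WittVector p k) M]
    [Module (WittVector p k ⧸ Ideal.span {(p : WittVector p k) ^ n}) M] [IsScalarTower (WittVector p k) (WittVector p k ⧸ Ideal.span {(p : WittVector p k) ^ n}) M]
    [Module.Finite (WittVector p k ⧸ Ideal.span {(p : WittVector p k) ^ n}) M] [Module.Projective (WittVector p k ⧸ Ideal.span {(p : WittVector p k) ^ n}) M]
    (F : M →ₛₗ[(WittVector.frobenius : WittVector p k →+* WittVector p k)] M)
    (V : M →ₛₗ[((WittVector.frobeniusEquiv p k).symm : WittVector p k →+* WittVector p k)] M)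
    (hFV : ∀ m : M, F (V m) = (p : WittVector p k) • m) (hVF : ∀ m : M, V (F m) = (p : WittVector p k) • m) :
    Module.Projective (WittVector p k ⧸ Ideal.span {(p : WittVector p k)})
      ((M ⧸ (Ideal.span {(p : WittVector p k)} • (⊤ : Submodule (WittVector p k) M))) ⧸
        Submodule.span (WittVector p k ⧸ Ideal.span {(p : WittVector p k)})
          (Set.range fun m : M => (Ideal.span {(p : WittVector p k)} • (⊤ : Submodule (WittVector p k) M)).mkQ (V m))) := by
  have h12 : Ideal.span {(p : WittVector p k) ^ n} ≤ Ideal.span {(p : WittVector p k)} := by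
    rw [Ideal.span_singleton_le_iff_mem]
    have : (p : WittVector p k) ^ n = (p : WittVector p k) ^ (n - 1) * p := by
      rw [← pow_succ]; congr 1; omega
    rw [this]
    exact Ideal.mul_mem_left _ _ (Ideal.subset_span rfl)
  have hfin : Module.Finite (WittVector p k) M :=
    Module.Finite.trans (WittVector p k ⧸ Ideal.span {(p : WittVector p k) ^ n}) M
  have H1 := projective_quot_of_projective_quot (Ideal.span {(p : WittVector p k) ^ n})
    (Ideal.span {(p : WittVector p k)}) h12 (M := M)
  obtain ⟨s, hs⟩ := Module.projective_def'.mp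
    (inferInstance : Module.Projective (WittVector p k ⧸ Ideal.span {(p : WittVector p k) ^ n}) M)
  apply projective_mod_V F V hFV hVF H1
  intro J hJ u hu
  have hc := coords_mem_map (Ideal.span {(p : WittVector p k) ^ n}) s (wittIdeal (p := p) J)
    ((p : WittVector p k) • u) hu
  rw [← Submodule.sup_smul]
  apply mem_smul_top_of_coords (Ideal.span {(p : WittVector p k) ^ n}) s hs
  intro m
  obtain ⟨c, hcm⟩ := Ideal.Quotient.mk_surjective ((s u) m)
  refine ⟨c, ?_, hcm⟩
  have h1 := hc m
  rw [← mk_smul_eq (Ideal.span {(p : WittVector p k) ^ n}) (p : WittVector p k) u, map_smul,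
    Finsupp.smul_apply, smul_eq_mul, ← hcm, ← map_mul] at h1
  obtain ⟨a, ha, hae⟩ := (Ideal.mem_map_iff_of_surjective _ Ideal.Quotient.mk_surjective).mp h1
  have h2 : (p : WittVector p k) * c - a ∈ Ideal.span {(p : WittVector p k) ^ n} := by
    rw [← Ideal.Quotient.eq]; exact hae.symm
  obtain ⟨d, hd⟩ := Ideal.mem_span_singleton'.mp h2
  have h3 : (p : WittVector p k) * (c - d * (p : WittVector p k) ^ (n - 1)) = a := by
    have : (p : WittVector p k) ^ n = p * (p : WittVector p k) ^ (n - 1) := by
      rw [← pow_succ']; congr 1; omega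
    rw [this] at hd
    linear_combination -hd
  have h4 : c - d * (p : WittVector p k) ^ (n - 1) ∈ wittIdeal (p := p) J :=
    mem_wittIdeal_of_p_mul J hJ _ (h3 ▸ ha)
  have h5 : d * (p : WittVector p k) ^ (n - 1) ∈ Ideal.span {(p : WittVector p k)} := by
    have : (p : WittVector p k) ^ (n - 1) = (p : WittVector p k) ^ (n - 2) * p := by
      rw [← pow_succ]; congr 1; omega
    rw [this, ← mul_assoc]
    exact Ideal.mul_mem_left _ _ (Ideal.subset_span rfl)
  have h6 : c = (c - d * (p : WittVector p k) ^ (n - 1)) + d * (p : WittVector p k) ^ (n - 1) := by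
    ring
  rw [h6]
  exact Submodule.add_mem_sup h4 h5

end Aux

/-- Let p be a prime and k a perfect ring of characteristic p, so that the Frobenius σ of W = W(k) is
bijective, W has no p-torsion and W/p^n W = W_n(k) (the ideal p^n W is the kernel of the truncation
to length n). Let n ≥ 2 and let M be a truncated Dieudonné module of level n over k: a W-module on
which W acts through W/p^n W, finitely generated and projective over W/p^n W, with a σ-semilinear F
: M → M and a σ⁻¹-semilinear V : M → M such that FV = VF = p. Then M/VM is a projective k-module;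
here VM ⊇ VFM = pM, and the statement is made for the W/pW-module obtained from M/pM by dividing out
the image of V, W/pW being identified with k by the first Witt component. -/
theorem result (p : ℕ) [Fact p.Prime] (k : Type u) [CommRing k]
    [CharP k p] [PerfectRing k p] (n : ℕ) (hn : 2 ≤ n)
    (M : Type v) [AddCommGroup M] [Module (WittVector p k) M]
    [Module (WittVector p k ⧸ Ideal.span {(p : WittVector p k) ^ n}) M] [IsScalarTower (WittVector p k) (WittVector p k ⧸ Ideal.span {(p : WittVector p k) ^ n}) M]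
    [Module.Finite (WittVector p k ⧸ Ideal.span {(p : WittVector p k) ^ n}) M] [Module.Projective (WittVector p k ⧸ Ideal.span {(p : WittVector p k) ^ n}) M]
    (F : M →ₛₗ[(WittVector.frobenius : WittVector p k →+* WittVector p k)] M)
    (V : M →ₛₗ[((WittVector.frobeniusEquiv p k).symm : WittVector p k →+* WittVector p k)] M)
    (hFV : ∀ m : M, F (V m) = (p : WittVector p k) • m) (hVF : ∀ m : M, V (F m) = (p : WittVector p k) • m) :
    Module.Projective (WittVector p k ⧸ Ideal.span {(p : WittVector p k)})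
      ((M ⧸ (Ideal.span {(p : WittVector p k)} • (⊤ : Submodule (WittVector p k) M))) ⧸
        Submodule.span (WittVector p k ⧸ Ideal.span {(p : WittVector p k)})
          (Set.range fun m : M => (Ideal.span {(p : WittVector p k)} • (⊤ : Submodule (WittVector p k) M)).mkQ (V m))) := by
  exact Aux.main p k n hn M F V hFV hVF

end Groth.Agent.S16221
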