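import Groth.Statements.S16230
import Mathlib
import Groth.Prelude.Def_QuadSing
import Groth.Agent.Lib.Helper9.PSOrd
-- import your own Groth.Agent.* helpers here

set_option autoImplicit false
universe u
open VanCyc

namespace Groth.Agent.S16230

open MvPowerSeries Groth.Agent.Lib.Helper9.PSOrd
namespace Aux

section alg
variable {n : ℕ} {B : Type*} [CommRing B]

lemma quad_expand (c : Fin n → Fin n → B) (u v : Fin n → B) :
    (∑ i, ∑ j, if i ≤ j then c i j * (u i + v i) * (u j + v j) else 0) =
    (∑ i, ∑ j, if i ≤ j then c i j * u i * u j else 0) +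
      (∑ i, ∑ j, if i ≤ j then c i j * v i * v j else 0) +
      ∑ i, (∑ j, (if i = j then 2 * c i i else if i < j then c i j else c j i) * u j) * v i := by
  have key : ∑ i, (∑ j, (if i = j then 2 * c i i else if i < j then c i j else c j i) * u j) * v i =
      (∑ i, ∑ j, if i ≤ j then c i j * v i * u j else 0) +
        (∑ i, ∑ j, if i ≤ j then c i j * u i * v j else 0) := by
    rw [Finset.sum_comm (f := fun i j => if i ≤ j then c i j * u i * v j else 0),
      ← Finset.sum_add_distrib]
    apply Finset.sum_congr rfl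
    intro i _
    rw [Finset.sum_mul, ← Finset.sum_add_distrib]
    apply Finset.sum_congr rfl
    intro j _
    rcases lt_trichotomy i j with h | h | h
    · rw [if_neg (ne_of_lt h), if_pos h, if_pos (le_of_lt h), if_neg (not_le.mpr h)]
      ring
    · subst h
      rw [if_pos rfl, if_pos le_rfl, if_pos le_rfl]
      ring
    · rw [if_neg (ne_of_gt h), if_neg (not_lt.mpr (le_of_lt h)), if_neg (not_le.mpr h),
        if_pos (le_of_lt h)]
      ring
  rw [key, ← Finset.sum_add_distrib, ← Finset.sum_add_distrib, ← Finset.sum_add_distrib]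
  apply Finset.sum_congr rfl
  intro i _
  rw [← Finset.sum_add_distrib, ← Finset.sum_add_distrib, ← Finset.sum_add_distrib]
  apply Finset.sum_congr rfl
  intro j _
  by_cases h : i ≤ j
  · simp only [if_pos h]; ring
  · simp only [if_neg h]; ring

end alg


section morse
variable {A : Type u} [CommRing A] {n : ℕ} (q : Fin n → Fin n → A)

/-- quadratic form evaluated on a vector of power series -/
noncomputable def Qe (u : Fin n → MvPowerSeries (Fin n) A) : MvPowerSeries (Fin n) A :=
  ∑ i, ∑ j, if i ≤ j then algebraMap A (MvPowerSeries (Fin n) A) (q i j) * u i * u j else 0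

lemma aeval_quadPoly (u : Fin n → MvPowerSeries (Fin n) A) :
    MvPolynomial.aeval u (VanCyc.quadPoly q) = Qe q u := by
  unfold VanCyc.quadPoly Qe
  rw [map_sum]
  apply Finset.sum_congr rfl
  intro i _
  rw [map_sum]
  apply Finset.sum_congr rfl
  intro j _
  split_ifs
  · rw [map_mul, map_mul, MvPolynomial.aeval_C, MvPolynomial.aeval_X, MvPolynomial.aeval_X]
  · rw [map_zero]

/-- polar matrix over the power series ring -/
noncomputable def Mp : Matrix (Fin n) (Fin n) (MvPowerSeries (Fin n) A) :=
  (VanCyc.polarMatrix q).map (algebraMap A (MvPowerSeries (Fin n) A))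

/-- inverse polar matrix over the power series ring -/
noncomputable def Mi : Matrix (Fin n) (Fin n) (MvPowerSeries (Fin n) A) :=
  ((VanCyc.polarMatrix q)⁻¹).map (algebraMap A (MvPowerSeries (Fin n) A))

lemma Mi_mul_Mp (hq : IsUnit (VanCyc.polarMatrix q).det) : Mi q * Mp q = 1 := by
  unfold Mi Mp
  rw [← Matrix.map_mul, Matrix.nonsing_inv_mul _ hq, Matrix.map_one _ (map_zero _) (map_one _)]

lemma Mp_apply (i j : Fin n) : Mp q i j =
    if i = j then 2 * algebraMap A (MvPowerSeries (Fin n) A) (q i i)
    else if i < j then algebraMap A (MvPowerSeries (Fin n) A) (q i j)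
    else algebraMap A (MvPowerSeries (Fin n) A) (q j i) := by
  have : Mp q i j = algebraMap A (MvPowerSeries (Fin n) A) (VanCyc.polarMatrix q i j) := rfl
  rw [this]
  unfold VanCyc.polarMatrix
  split_ifs
  · rw [map_mul, map_ofNat]
  · rfl
  · rfl

lemma Qe_add (u v : Fin n → MvPowerSeries (Fin n) A) :
    Qe q (u + v) = Qe q u + Qe q v + ∑ i, (Matrix.mulVec (Mp q) u) i * v i := by
  have := quad_expand (fun i j => algebraMap A (MvPowerSeries (Fin n) A) (q i j)) u v
  have e1 : Qe q (u + v) = ∑ i, ∑ j, if i ≤ j then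
      algebraMap A (MvPowerSeries (Fin n) A) (q i j) * (u i + v i) * (u j + v j) else 0 := by
    unfold Qe
    apply Finset.sum_congr rfl
    intro i _
    apply Finset.sum_congr rfl
    intro j _
    rw [Pi.add_apply, Pi.add_apply]
  have e2 : ∑ i, (Matrix.mulVec (Mp q) u) i * v i = ∑ i, (∑ j,
      (if i = j then 2 * algebraMap A (MvPowerSeries (Fin n) A) (q i i)
        else if i < j then algebraMap A (MvPowerSeries (Fin n) A) (q i j)
        else algebraMap A (MvPowerSeries (Fin n) A) (q j i)) * u j) * v i := by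
    apply Finset.sum_congr rfl
    intro i _
    have e3 : (Matrix.mulVec (Mp q) u) i = ∑ j, Mp q i j * u j := rfl
    rw [e3]
    apply congrArg (fun z => z * v i)
    apply Finset.sum_congr rfl
    intro j _
    rw [Mp_apply]
  rw [e1, this, e2]
  rfl

lemma Ord_Qe {m : ℕ} (u : Fin n → MvPowerSeries (Fin n) A) (hu : ∀ i, Ord m (u i)) :
    Ord (m + m) (Qe q u) := by
  unfold Qe
  apply Ord.sum
  intro i _
  apply Ord.sum
  intro j _
  split_ifs
  · rw [mul_assoc]
    exact ((hu i).mul (hu j)).mul_left _
  · exact Ord.zero _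

lemma Ord_Qe_sub {m N : ℕ} (u u' : Fin n → MvPowerSeries (Fin n) A) (hu : ∀ i, Ord m (u i))
    (hu' : ∀ i, Ord m (u' i)) (huu : ∀ i, Ord N (u i - u' i)) :
    Ord (N + m) (Qe q u - Qe q u') := by
  unfold Qe
  rw [← Finset.sum_sub_distrib]
  apply Ord.sum
  intro i _
  rw [← Finset.sum_sub_distrib]
  apply Ord.sum
  intro j _
  split_ifs
  · have e : algebraMap A (MvPowerSeries (Fin n) A) (q i j) * u i * u j -
        algebraMap A (MvPowerSeries (Fin n) A) (q i j) * u' i * u' j =
        algebraMap A (MvPowerSeries (Fin n) A) (q i j) *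
          ((u i - u' i) * u j + u' i * (u j - u' j)) := by ring
    rw [e]
    apply Ord.mul_left
    apply Ord.add
    · exact (huu i).mul (hu j)
    · exact Ord.mono (by omega) ((hu' i).mul (huu j))
  · rw [sub_zero]; exact Ord.zero _

lemma Ord_vecMul {N : ℕ} (w : Fin n → MvPowerSeries (Fin n) A)
    (M : Matrix (Fin n) (Fin n) (MvPowerSeries (Fin n) A)) (hw : ∀ i, Ord N (w i)) (j : Fin n) :
    Ord N (Matrix.vecMul w M j) := by
  unfold Matrix.vecMul dotProduct
  apply Ord.sum
  intro i _
  exact (hw i).mul_right _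

variable (R : MvPowerSeries (Fin n) A)

/-- right hand side of the fixed point equation -/
noncomputable def Rhs (h : Fin n → MvPowerSeries (Fin n) A) : MvPowerSeries (Fin n) A :=
  - subst (shift h) R - Qe q h

/-- the contraction -/
noncomputable def Phi (h : Fin n → MvPowerSeries (Fin n) A) : Fin n → MvPowerSeries (Fin n) A :=
  Matrix.vecMul (fun i => divX i (Rhs q R h)) (Mi q)

variable {m : ℕ} (hm : 2 ≤ m) (hR : Ord (m + 1) R)

include hm hR in
lemma Ord_Rhs (h : Fin n → MvPowerSeries (Fin n) A) (hh : ∀ i, Ord m (h i)) :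
    Ord (m + 1) (Rhs q R h) := by
  unfold Rhs
  apply Ord.sub
  · exact (Ord_subst (shift h) (Ord_shift h (fun i => Ord.mono (by omega) (hh i))) hR).neg
  · exact Ord.mono (by omega) (Ord_Qe q h hh)

include hm hR in
lemma Ord_Phi (h : Fin n → MvPowerSeries (Fin n) A) (hh : ∀ i, Ord m (h i)) (j : Fin n) :
    Ord m (Phi q R h j) := by
  unfold Phi
  apply Ord_vecMul
  intro i
  exact Ord_divX i (Ord_Rhs q R hm hR h hh)

include hm hR in
lemma Phi_contr (N : ℕ) (h h' : Fin n → MvPowerSeries (Fin n) A) (hh : ∀ i, Ord m (h i))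
    (hh' : ∀ i, Ord m (h' i)) (hhh : ∀ i, Ord N (h i - h' i)) (j : Fin n) :
    Ord (N + 1) (Phi q R h j - Phi q R h' j) := by
  have h1 : Ord (N + m) (Rhs q R h - Rhs q R h') := by
    unfold Rhs
    have e : - subst (shift h) R - Qe q h - (- subst (shift h') R - Qe q h') =
        - (subst (shift h) R - subst (shift h') R) - (Qe q h - Qe q h') := by ring
    rw [e]
    apply Ord.sub
    · apply Ord.neg
      apply Ord_subst_sub (shift h) (shift h') N m
        (Ord_shift h (fun i => Ord.mono (by omega) (hh i)))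
        (Ord_shift h' (fun i => Ord.mono (by omega) (hh' i))) _ hR
      intro i
      have : shift h i - shift h' i = h i - h' i := by
        rw [shift_apply, shift_apply]; ring
      rw [this]; exact hhh i
    · exact Ord_Qe_sub q h h' hh hh' hhh
  have h2 : Phi q R h - Phi q R h' =
      Matrix.vecMul (fun i => divX i (Rhs q R h - Rhs q R h')) (Mi q) := by
    unfold Phi
    rw [← Matrix.sub_vecMul]
    congr 1
    funext i
    rw [Pi.sub_apply, divX_sub]
  have h3 : Phi q R h j - Phi q R h' j = (Phi q R h - Phi q R h') j := rfl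
  rw [h3, h2]
  apply Ord_vecMul
  intro i
  exact Ord_divX i (Ord.mono (by omega) h1)

include hm hR in
theorem exists_h (hq : IsUnit (VanCyc.polarMatrix q).det) :
    ∃ h : Fin n → MvPowerSeries (Fin n) A, (∀ i, Ord m (h i)) ∧
      ∑ i, (Matrix.mulVec (Mp q) (fun i => X i)) i * h i = Rhs q R h := by
  obtain ⟨h, hhm, hfix⟩ := exists_fixed (ι := Fin n) m (Phi q R)
    (fun h hh j => Ord_Phi q R hm hR h hh j)
    (fun N h h' _ hh hh' hhh j => Phi_contr q R hm hR N h h' hh hh' hhh j)
  refine ⟨h, hhm, ?_⟩
  have hc : constantCoeff (Rhs q R h) = 0 :=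
    (Ord_one_iff _).mp (Ord.mono (by omega) (Ord_Rhs q R hm hR h hhm))
  have h1 : ∑ i, (Matrix.mulVec (Mp q) (fun i => X i)) i * h i =
      dotProduct h (Matrix.mulVec (Mp q) (fun i => X i)) := by
    unfold dotProduct
    apply Finset.sum_congr rfl
    intro i _
    rw [mul_comm]
  rw [h1]
  conv_lhs => rw [← hfix]
  unfold Phi
  rw [← Matrix.dotProduct_mulVec, Matrix.mulVec_mulVec, Mi_mul_Mp q hq, Matrix.one_mulVec]
  unfold dotProduct
  refine Eq.trans ?_ (sum_X_mul_divX (Rhs q R h) hc)
  apply Finset.sum_congr rfl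
  intro i _
  rw [mul_comm]

end morse


theorem main (A : Type u) [CommRing A] (n m : ℕ) (hm : 2 ≤ m)
    (q : Fin n → Fin n → A) (hq : VanCyc.QuadNondeg q) (a : A)
    (F : MvPowerSeries (Fin n) A)
    (hF : ∀ e : Fin n →₀ ℕ, e.degree ≤ m →
      MvPowerSeries.coeff e F = MvPowerSeries.coeff e ((VanCyc.quadPoly q + MvPolynomial.C a : MvPolynomial (Fin n) A) : MvPowerSeries (Fin n) A)) :
    ∃ h : Fin n → MvPowerSeries (Fin n) A,
      (∀ (i : Fin n) (e : Fin n →₀ ℕ), e.degree < m → MvPowerSeries.coeff e (h i) = 0) ∧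
      MvPowerSeries.HasSubst (fun i => MvPowerSeries.X i + h i) ∧
      MvPowerSeries.subst (fun i => MvPowerSeries.X i + h i) F = ((VanCyc.quadPoly q + MvPolynomial.C a : MvPolynomial (Fin n) A) : MvPowerSeries (Fin n) A) ∧
      Nonempty ((MvPowerSeries (Fin n) A ⧸ Ideal.span {F}) ≃ₐ[A]
        (MvPowerSeries (Fin n) A ⧸ Ideal.span {((VanCyc.quadPoly q + MvPolynomial.C a : MvPolynomial (Fin n) A) : MvPowerSeries (Fin n) A)})) := by
  set Qp : MvPowerSeries (Fin n) A :=
    ((VanCyc.quadPoly q + MvPolynomial.C a : MvPolynomial (Fin n) A) : MvPowerSeries (Fin n) A)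
    with hQp
  set R : MvPowerSeries (Fin n) A := F - Qp with hRdef
  have hR : Ord (m + 1) R := by
    intro e he
    rw [hRdef, map_sub, hF e (by omega), sub_self]
  obtain ⟨h, hhm, hfix⟩ := exists_h q R hm hR hq
  have h1 : ∀ i, Ord 1 (h i) := fun i => Ord.mono (by omega) (hhm i)
  have h2 : ∀ i, Ord 2 (h i) := fun i => Ord.mono (by omega) (hhm i)
  have hs := hasSubst_shift h h1
  have hshift : (fun i => MvPowerSeries.X i + h i) = shift h := rfl
  have hQpX : Qp = Qe q (fun i => X i) + algebraMap A (MvPowerSeries (Fin n) A) a := by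
    have e1 : subst (fun i => (X i : MvPowerSeries (Fin n) A)) Qp = Qp := by
      have := subst_self (σ := Fin n) (R := A)
      exact congrFun this Qp
    rw [← e1, hQp, subst_coe, map_add, aeval_quadPoly, MvPolynomial.aeval_C]
  have hQpS : subst (shift h) Qp = Qe q (shift h) + algebraMap A (MvPowerSeries (Fin n) A) a := by
    rw [hQp, subst_coe, map_add, aeval_quadPoly, MvPolynomial.aeval_C]
  have hshift2 : shift h = (fun i => (X i : MvPowerSeries (Fin n) A)) + h := rfl
  have key : subst (shift h) F = Qp := by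
    have hF2 : F = Qp + R := by rw [hRdef]; ring
    rw [hF2, subst_add hs, hQpS, hshift2, Qe_add, hfix, ← hshift2, hQpX]
    unfold Rhs
    ring
  refine ⟨h, hhm, ?_, ?_, ?_⟩
  · rw [hshift]; exact hs
  · rw [hshift]; exact key
  · have hmap : Ideal.span {Qp} = (Ideal.span {F}).map
        ((substEquiv h h2 : MvPowerSeries (Fin n) A ≃ₐ[A] MvPowerSeries (Fin n) A) :
          MvPowerSeries (Fin n) A →+* MvPowerSeries (Fin n) A) := by
      rw [Ideal.map_span, Set.image_singleton]
      congr 2
      show Qp = substEquiv h h2 F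
      rw [substEquiv_apply, key]
    exact ⟨Ideal.quotientEquivAlg _ _ (substEquiv h h2) hmap⟩

end Aux

/-- Let A be a local ring, n and m natural numbers with 2 ≤ m, q an n × n coefficient table over A whose
quadratic form Q(x) = Σ_{i≤j} q_ij x_i x_j is non-degenerate (the polar bilinear form has unit Gram
determinant, i.e. is a perfect pairing — the reading of non-degeneracy over the local ring A used
here), a an element of A, and F a formal power series in x_1, …, x_n over A all of whose
coefficients in total degree at most m agree with those of Q + a. Then there are power series h_1,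
…, h_n with no terms of total degree less than m such that substituting x_i + h_i for x_i in F gives
exactly Q + a; consequently A[[x]]/(F) and A[[x]]/(Q + a) are isomorphic as A-algebras. -/
theorem result
    (A : Type u) [CommRing A] [IsLocalRing A] (n m : ℕ) (hm : 2 ≤ m)
    (q : Fin n → Fin n → A) (hq : VanCyc.QuadNondeg q) (a : A)
    (F : MvPowerSeries (Fin n) A)
    (hF : ∀ e : Fin n →₀ ℕ, e.degree ≤ m →
      MvPowerSeries.coeff e F = MvPowerSeries.coeff e ((VanCyc.quadPoly q + MvPolynomial.C a : MvPolynomial (Fin n) A) : MvPowerSeries (Fin n) A)) :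
    ∃ h : Fin n → MvPowerSeries (Fin n) A,
      (∀ (i : Fin n) (e : Fin n →₀ ℕ), e.degree < m → MvPowerSeries.coeff e (h i) = 0) ∧
      MvPowerSeries.HasSubst (fun i => MvPowerSeries.X i + h i) ∧
      MvPowerSeries.subst (fun i => MvPowerSeries.X i + h i) F = ((VanCyc.quadPoly q + MvPolynomial.C a : MvPolynomial (Fin n) A) : MvPowerSeries (Fin n) A) ∧
      Nonempty ((MvPowerSeries (Fin n) A ⧸ Ideal.span {F}) ≃ₐ[A]
        (MvPowerSeries (Fin n) A ⧸ Ideal.span {((VanCyc.quadPoly q + MvPolynomial.C a : MvPolynomial (Fin n) A) : MvPowerSeries (Fin n) A)})) := by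
  exact Aux.main A n m hm q hq a F hF

end Groth.Agent.S16230
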