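import Groth.Statements.S16231
import Mathlib
import Groth.Prelude.Def_QuadSing
import Groth.Agent.Lib.Helper9.PSOrd
import Groth.Agent.Lib.Helper9.AdicSum
import Groth.Agent.Lib.Helper9.AdicPS
import Groth.Agent.Lib.Helper9.FirstOrder
import Groth.Agent.S16230
-- import your own Groth.Agent.* helpers here

set_option autoImplicit false
universe u
open VanCyc

namespace Groth.Agent.S16231

open MvPowerSeries Groth.Agent.Lib.Helper9.PSOrd Groth.Agent.Lib.Helper9.AdicSum Groth.Agent.Lib.Helper9.AdicPS Groth.Agent.Lib.Helper9.FirstOrder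
namespace Aux

section adicfix
variable {A : Type u} [CommRing A] (I : Ideal A) [IsAdicComplete I A] {n : ℕ}

/-- iteration from zero -/
noncomputable def citer (Ψ : (Fin n → A) → (Fin n → A)) : ℕ → (Fin n → A)
  | 0 => fun _ => 0
  | k + 1 => Ψ (citer Ψ k)

theorem adic_fixed (Ψ : (Fin n → A) → (Fin n → A))
    (hΨ : ∀ c, (∀ i, c i ∈ I) → ∀ i, Ψ c i ∈ I)
    (hcontr : ∀ N, 1 ≤ N → ∀ c c', (∀ i, c i ∈ I) → (∀ i, c' i ∈ I) →
      (∀ i, c i - c' i ∈ I ^ N) → ∀ i, Ψ c i - Ψ c' i ∈ I ^ (N + 1)) :
    ∃ c, (∀ i, c i ∈ I) ∧ Ψ c = c := by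
  set cs := citer Ψ with hcs
  have cs0 : cs 0 = fun _ => 0 := rfl
  have csS : ∀ k, cs (k + 1) = Ψ (cs k) := fun k => rfl
  have hI : ∀ k i, cs k i ∈ I := by
    intro k
    induction k with
    | zero => intro i; rw [cs0]; exact Submodule.zero_mem _
    | succ k ih => rw [csS]; exact hΨ _ ih
  have hstep : ∀ k i, cs (k + 1) i - cs k i ∈ I ^ (k + 1) := by
    intro k
    induction k with
    | zero =>
      intro i
      rw [cs0, sub_zero, zero_add, pow_one]
      exact hI 1 i
    | succ k ih =>
      intro i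
      show Ψ (cs (k + 1)) i - Ψ (cs k) i ∈ I ^ (k + 1 + 1)
      exact hcontr (k + 1) (by omega) (cs (k + 1)) (cs k) (hI (k + 1)) (hI k) ih i
  have hlim : ∀ i, ∃ L, ∀ k, L - cs k i ∈ I ^ k := fun i =>
    exists_lim I (fun k => cs k i) (fun k => Ideal.pow_le_pow_right (Nat.le_succ k) (hstep k i))
  choose L hL using hlim
  have hL' : ∀ k i, L i - cs k i ∈ I ^ (k + 1) := by
    intro k i
    have e : L i - cs k i = (L i - cs (k + 1) i) + (cs (k + 1) i - cs k i) := by ring
    rw [e]
    exact Submodule.add_mem _ (hL i (k + 1)) (hstep k i)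
  have hLI : ∀ i, L i ∈ I := by
    intro i
    have := hL' 0 i
    rw [cs0, sub_zero, zero_add, pow_one] at this
    exact this
  refine ⟨L, hLI, ?_⟩
  funext i
  apply eq_of_forall_sub_mem I
  intro k
  have h1 : Ψ L i - Ψ (cs k) i ∈ I ^ (k + 1 + 1) :=
    hcontr (k + 1) (by omega) L (cs k) hLI (hI k) (hL' k) i
  have h2 := hL i (k + 1)
  rw [csS] at h2
  have e : Ψ L i - L i = (Ψ L i - Ψ (cs k) i) - (L i - Ψ (cs k) i) := by ring
  rw [e]
  exact Submodule.sub_mem _ (Ideal.pow_le_pow_right (by omega) h1)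
    (Ideal.pow_le_pow_right (by omega) h2)

end adicfix


section quadcoeff
variable {A : Type u} [CommRing A] {n : ℕ}

lemma pair_eq {i j k l : Fin n} (hij : i ≤ j) (hkl : k ≤ l)
    (h : (Finsupp.single k 1 + Finsupp.single l 1 : Fin n →₀ ℕ) =
      Finsupp.single i 1 + Finsupp.single j 1) : k = i ∧ l = j := by
  classical
  rw [Finsupp.single_add_single_eq_single_add_single one_ne_zero one_ne_zero] at h
  rcases h with h | ⟨-, h1, h2⟩ | ⟨h, -, -⟩
  · exact h
  · subst h1 h2
    have : l = k := le_antisymm hij hkl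
    exact ⟨this.symm, this⟩
  · omega

lemma quadPoly_homog (q : Fin n → Fin n → A) : (VanCyc.quadPoly q).IsHomogeneous 2 := by
  unfold VanCyc.quadPoly
  apply MvPolynomial.IsHomogeneous.sum
  intro i _
  apply MvPolynomial.IsHomogeneous.sum
  intro j _
  split_ifs
  · exact ((MvPolynomial.isHomogeneous_C _ _).mul (MvPolynomial.isHomogeneous_X _ i)).mul
      (MvPolynomial.isHomogeneous_X _ j)
  · exact MvPolynomial.isHomogeneous_zero _ _ _

lemma lin_homog (ℓ : Fin n → A) :
    (∑ i, MvPolynomial.C (ℓ i) * MvPolynomial.X i : MvPolynomial (Fin n) A).IsHomogeneous 1 := by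
  apply MvPolynomial.IsHomogeneous.sum
  intro i _
  exact (MvPolynomial.isHomogeneous_C _ _).mul (MvPolynomial.isHomogeneous_X _ i)

lemma degree_pair (i j : Fin n) :
    (Finsupp.single i 1 + Finsupp.single j 1 : Fin n →₀ ℕ).degree = 2 := by
  rw [map_add, Finsupp.degree_single, Finsupp.degree_single]

lemma coeff_quadPoly_pair (q : Fin n → Fin n → A) {i j : Fin n} (hij : i ≤ j) :
    MvPolynomial.coeff (Finsupp.single i 1 + Finsupp.single j 1) (VanCyc.quadPoly q) = q i j := by
  classical
  unfold VanCyc.quadPoly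
  rw [MvPolynomial.coeff_sum, Finset.sum_eq_single i]
  · rw [MvPolynomial.coeff_sum, Finset.sum_eq_single j]
    · rw [if_pos hij, mul_assoc, MvPolynomial.coeff_C_mul]
      have : (MvPolynomial.X i * MvPolynomial.X j : MvPolynomial (Fin n) A) =
          MvPolynomial.monomial (Finsupp.single i 1 + Finsupp.single j 1) 1 := by
        rw [MvPolynomial.X, MvPolynomial.X, MvPolynomial.monomial_mul, one_mul]
      rw [this, MvPolynomial.coeff_monomial, if_pos rfl, mul_one]
    · intro l _ hl
      split_ifs with hil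
      · rw [mul_assoc, MvPolynomial.coeff_C_mul]
        have : (MvPolynomial.X i * MvPolynomial.X l : MvPolynomial (Fin n) A) =
            MvPolynomial.monomial (Finsupp.single i 1 + Finsupp.single l 1) 1 := by
          rw [MvPolynomial.X, MvPolynomial.X, MvPolynomial.monomial_mul, one_mul]
        rw [this, MvPolynomial.coeff_monomial, if_neg, mul_zero]
        intro h
        exact hl (pair_eq hij hil h).2
      · exact MvPolynomial.coeff_zero _
    · intro h; exact absurd (Finset.mem_univ _) h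
  · intro k _ hk
    rw [MvPolynomial.coeff_sum]
    apply Finset.sum_eq_zero
    intro l _
    split_ifs with hkl
    · rw [mul_assoc, MvPolynomial.coeff_C_mul]
      have : (MvPolynomial.X k * MvPolynomial.X l : MvPolynomial (Fin n) A) =
          MvPolynomial.monomial (Finsupp.single k 1 + Finsupp.single l 1) 1 := by
        rw [MvPolynomial.X, MvPolynomial.X, MvPolynomial.monomial_mul, one_mul]
      rw [this, MvPolynomial.coeff_monomial, if_neg, mul_zero]
      intro h
      exact hk (pair_eq hij hkl h).1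
    · exact MvPolynomial.coeff_zero _
  · intro h; exact absurd (Finset.mem_univ _) h

lemma deg_le_two_cases (e : Fin n →₀ ℕ) (he : e.degree ≤ 2) :
    e = 0 ∨ (∃ i, e = Finsupp.single i 1) ∨
      (∃ i j, i ≤ j ∧ e = Finsupp.single i 1 + Finsupp.single j 1) := by
  rcases Nat.lt_or_ge e.degree 1 with h0 | h1
  · left
    exact (Finsupp.degree_eq_zero_iff e).mp (by omega)
  · rcases Nat.lt_or_ge e.degree 2 with h1' | h2
    · right; left
      obtain ⟨d', i, rfl, hd'⟩ := exists_eq_add_single e 0 (by omega)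
      have : d' = 0 := (Finsupp.degree_eq_zero_iff d').mp hd'
      exact ⟨i, by rw [this, zero_add]⟩
    · right; right
      obtain ⟨d', j, rfl, hd'⟩ := exists_eq_add_single e 1 (by omega)
      obtain ⟨d'', i, rfl, hd''⟩ := exists_eq_add_single d' 0 hd'
      have : d'' = 0 := (Finsupp.degree_eq_zero_iff d'').mp hd''
      rw [this, zero_add]
      rcases le_total i j with h | h
      · exact ⟨i, j, h, rfl⟩
      · exact ⟨j, i, h, add_comm _ _⟩

/-- coefficients of the model polynomial in degree two -/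
lemma coeff_model_pair (q : Fin n → Fin n → A) (ℓ : Fin n → A) (a : A) {i j : Fin n}
    (hij : i ≤ j) :
    MvPowerSeries.coeff (Finsupp.single i 1 + Finsupp.single j 1)
      ((VanCyc.quadPoly q + ∑ i, MvPolynomial.C (ℓ i) * MvPolynomial.X i + MvPolynomial.C a :
        MvPolynomial (Fin n) A) : MvPowerSeries (Fin n) A) = q i j := by
  classical
  rw [MvPolynomial.coeff_coe, MvPolynomial.coeff_add, MvPolynomial.coeff_add,
    coeff_quadPoly_pair q hij,
    (lin_homog ℓ).coeff_eq_zero (by rw [degree_pair]; omega),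
    (MvPolynomial.isHomogeneous_C _ a).coeff_eq_zero (by rw [degree_pair]; omega), add_zero,
    add_zero]

lemma coeff_model'_zero (q : Fin n → Fin n → A) (a : A) :
    MvPowerSeries.coeff 0
      ((VanCyc.quadPoly q + MvPolynomial.C a : MvPolynomial (Fin n) A) :
        MvPowerSeries (Fin n) A) = a := by
  classical
  rw [MvPolynomial.coeff_coe, MvPolynomial.coeff_add,
    (quadPoly_homog q).coeff_eq_zero (by rw [map_zero]; omega), zero_add,
    MvPolynomial.coeff_C, if_pos rfl]

lemma coeff_model'_single (q : Fin n → Fin n → A) (a : A) (i : Fin n) :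
    MvPowerSeries.coeff (Finsupp.single i 1)
      ((VanCyc.quadPoly q + MvPolynomial.C a : MvPolynomial (Fin n) A) :
        MvPowerSeries (Fin n) A) = 0 := by
  classical
  rw [MvPolynomial.coeff_coe, MvPolynomial.coeff_add,
    (quadPoly_homog q).coeff_eq_zero (by rw [Finsupp.degree_single]; omega),
    (MvPolynomial.isHomogeneous_C _ a).coeff_eq_zero (by rw [Finsupp.degree_single]; omega),
    add_zero]

lemma coeff_model'_pair (q : Fin n → Fin n → A) (a : A) {i j : Fin n} (hij : i ≤ j) :
    MvPowerSeries.coeff (Finsupp.single i 1 + Finsupp.single j 1)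
      ((VanCyc.quadPoly q + MvPolynomial.C a : MvPolynomial (Fin n) A) :
        MvPowerSeries (Fin n) A) = q i j := by
  classical
  rw [MvPolynomial.coeff_coe, MvPolynomial.coeff_add, coeff_quadPoly_pair q hij,
    (MvPolynomial.isHomogeneous_C _ a).coeff_eq_zero (by rw [degree_pair]; omega), add_zero]

lemma coeff_model_zero (q : Fin n → Fin n → A) (ℓ : Fin n → A) (a : A) :
    MvPowerSeries.coeff 0
      ((VanCyc.quadPoly q + ∑ i, MvPolynomial.C (ℓ i) * MvPolynomial.X i + MvPolynomial.C a :
        MvPolynomial (Fin n) A) : MvPowerSeries (Fin n) A) = a := by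
  classical
  rw [MvPolynomial.coeff_coe, MvPolynomial.coeff_add, MvPolynomial.coeff_add,
    (quadPoly_homog q).coeff_eq_zero (by rw [map_zero]; omega),
    (lin_homog ℓ).coeff_eq_zero (by rw [map_zero]; omega), zero_add, zero_add,
    MvPolynomial.coeff_C, if_pos rfl]

lemma coeff_model_single (q : Fin n → Fin n → A) (ℓ : Fin n → A) (a : A) (i : Fin n) :
    MvPowerSeries.coeff (Finsupp.single i 1)
      ((VanCyc.quadPoly q + ∑ i, MvPolynomial.C (ℓ i) * MvPolynomial.X i + MvPolynomial.C a :
        MvPolynomial (Fin n) A) : MvPowerSeries (Fin n) A) = ℓ i := by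
  classical
  rw [MvPolynomial.coeff_coe, MvPolynomial.coeff_add, MvPolynomial.coeff_add,
    (quadPoly_homog q).coeff_eq_zero (by rw [Finsupp.degree_single]; omega),
    (MvPolynomial.isHomogeneous_C _ a).coeff_eq_zero (by rw [Finsupp.degree_single]; omega),
    zero_add, add_zero, MvPolynomial.coeff_sum, Finset.sum_eq_single i]
  · rw [MvPolynomial.coeff_C_mul, MvPolynomial.coeff_X, if_pos rfl, mul_one]
  · intro s _ hs
    rw [MvPolynomial.coeff_C_mul, MvPolynomial.coeff_X, if_neg, mul_zero]
    intro h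
    exact hs ((Finsupp.single_left_inj one_ne_zero).mp h)
  · intro h; exact absurd (Finset.mem_univ _) h

end quadcoeff


section newton
variable {A : Type u} [CommRing A] (I : Ideal A) [IsAdicComplete I A] {n : ℕ}
  (F : MvPowerSeries (Fin n) A)

lemma coeff_trans_sub_mem (c : Fin n → A) (hc : ∀ i, c i ∈ I) (e : Fin n →₀ ℕ) :
    coeff e (trans I c F) - coeff e F ∈ I := by
  have h1 := red_trans I c hc F 1
  have hb : bfam I c 1 = fun i => (X i : MvPowerSeries (Fin n) (A ⧸ I ^ 1)) := by
    funext i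
    rw [bfam_apply]
    have : Ideal.Quotient.mk (I ^ 1) (c i) = 0 := by
      rw [Ideal.Quotient.eq_zero_iff_mem, pow_one]; exact hc i
    rw [this, map_zero, add_zero]
  rw [hb, subst_self] at h1
  have h2 := congrArg (coeff e) h1
  rw [id_eq, coeff_red, coeff_red, Ideal.Quotient.eq, pow_one] at h2
  exact h2

lemma mk_mul_coeff_trans (N : ℕ) (c : Fin n → A) (hc : ∀ i, c i ∈ I) (x : A) (hx : x ∈ I ^ N)
    (e : Fin n →₀ ℕ) :
    Ideal.Quotient.mk (I ^ (N + 1)) x * Ideal.Quotient.mk (I ^ (N + 1)) (coeff e (trans I c F)) =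
      Ideal.Quotient.mk (I ^ (N + 1)) (x * coeff e F) := by
  rw [← map_mul, Ideal.Quotient.eq, ← mul_sub, pow_succ]
  exact Ideal.mul_mem_mul hx (coeff_trans_sub_mem I F c hc e)

/-- first order expansion of the linear coefficients of a translate -/
lemma est (N : ℕ) (hN : 1 ≤ N) (c c' : Fin n → A) (hc : ∀ i, c i ∈ I)
    (hcc : ∀ j, c' j - c j ∈ I ^ N) (i : Fin n) :
    coeff (Finsupp.single i 1) (trans I c' F) - coeff (Finsupp.single i 1) (trans I c F) -
      (∑ r, (c' r - c r) *
          (if r < i then 0 else coeff (Finsupp.single r 1 + Finsupp.single i 1) F) +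
        ∑ s, (c' s - c s) *
          (if i < s then 0 else coeff (Finsupp.single i 1 + Finsupp.single s 1) F)) ∈
      I ^ (N + 1) := by
  set δ : Fin n → A := fun j => c' j - c j with hδdef
  have hδN : ∀ j, δ j ∈ I ^ N := hcc
  have hδI : ∀ j, δ j ∈ I := fun j => Ideal.pow_le_self (by omega) (hδN j)
  have hc' : c' = c + δ := by
    funext j; simp [hδdef]
  have htt : trans I c' F = trans I δ (trans I c F) := by
    rw [hc', trans_trans I c δ hc hδI]
  set δb : Fin n → A ⧸ I ^ (N + 1) := fun j => Ideal.Quotient.mk (I ^ (N + 1)) (δ j) with hδb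
  have hδb0 : ∀ i j, δb i * δb j = 0 := by
    intro i j
    rw [hδb, ← map_mul, Ideal.Quotient.eq_zero_iff_mem]
    have : δ i * δ j ∈ I ^ (N + N) := by
      rw [pow_add]; exact Ideal.mul_mem_mul (hδN i) (hδN j)
    exact Ideal.pow_le_pow_right (by omega) this
  have hbb : bfam I δ (N + 1) = bδ δb := rfl
  have h1 := red_trans I δ hδI (trans I c F) (N + 1)
  rw [hbb] at h1
  have h2 := congrArg (coeff (Finsupp.single i 1)) h1
  rw [coeff_red, ← htt, coeff_single_subst δb hδb0 i] at h2
  rw [← Ideal.Quotient.eq_zero_iff_mem, map_sub, map_sub, h2, coeff_red, map_add, map_sum,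
    map_sum]
  have e1 : ∀ r, δb r * (if r < i then 0 else
      coeff (Finsupp.single r 1 + Finsupp.single i 1) (red I (N + 1) (trans I c F))) =
      Ideal.Quotient.mk (I ^ (N + 1)) ((c' r - c r) *
        (if r < i then 0 else coeff (Finsupp.single r 1 + Finsupp.single i 1) F)) := by
    intro r
    split_ifs
    · rw [mul_zero, mul_zero, map_zero]
    · rw [coeff_red]
      exact mk_mul_coeff_trans I F N c hc (δ r) (hδN r) _
  have e2 : ∀ s, δb s * (if i < s then 0 else
      coeff (Finsupp.single i 1 + Finsupp.single s 1) (red I (N + 1) (trans I c F))) =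
      Ideal.Quotient.mk (I ^ (N + 1)) ((c' s - c s) *
        (if i < s then 0 else coeff (Finsupp.single i 1 + Finsupp.single s 1) F)) := by
    intro s
    split_ifs
    · rw [mul_zero, mul_zero, map_zero]
    · rw [coeff_red]
      exact mk_mul_coeff_trans I F N c hc (δ s) (hδN s) _
  simp only [e1, e2]
  ring

end newton


section crit
variable {A : Type u} [CommRing A] [IsLocalRing A]
  [IsAdicComplete (IsLocalRing.maximalIdeal A) A] {n : ℕ}
  (q : Fin n → Fin n → A) (F : MvPowerSeries (Fin n) A)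
  (hF2 : ∀ i j : Fin n, i ≤ j → coeff (Finsupp.single i 1 + Finsupp.single j 1) F = q i j)

/-- the linear coefficients of the translate -/
noncomputable def G (c : Fin n → A) : Fin n → A :=
  fun i => coeff (Finsupp.single i 1) (trans (IsLocalRing.maximalIdeal A) c F)

include hF2 in
lemma polar_sum (δ : Fin n → A) (i : Fin n) :
    (∑ r, δ r * (if r < i then 0 else coeff (Finsupp.single r 1 + Finsupp.single i 1) F) +
      ∑ s, δ s * (if i < s then 0 else coeff (Finsupp.single i 1 + Finsupp.single s 1) F)) =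
      Matrix.mulVec (VanCyc.polarMatrix q) δ i := by
  unfold Matrix.mulVec dotProduct VanCyc.polarMatrix
  rw [← Finset.sum_add_distrib]
  apply Finset.sum_congr rfl
  intro j _
  show _ = (if i = j then 2 * q i i else if i < j then q i j else q j i) * δ j
  rcases lt_trichotomy j i with h | h | h
  · rw [if_pos h, if_neg (not_lt.mpr (le_of_lt h)), if_neg (ne_of_gt h),
      if_neg (not_lt.mpr (le_of_lt h)), add_comm (Finsupp.single i 1), hF2 j i (le_of_lt h)]
    ring
  · subst h
    rw [if_neg (lt_irrefl _), if_pos rfl, hF2 j j le_rfl]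
    ring
  · rw [if_neg (not_lt.mpr (le_of_lt h)), if_pos h, if_neg (ne_of_lt h), if_pos h,
      add_comm (Finsupp.single j 1), hF2 i j (le_of_lt h)]
    ring

include hF2 in
lemma Gest (N : ℕ) (hN : 1 ≤ N) (c c' : Fin n → A)
    (hc : ∀ i, c i ∈ IsLocalRing.maximalIdeal A)
    (hcc : ∀ j, c' j - c j ∈ (IsLocalRing.maximalIdeal A) ^ N) (i : Fin n) :
    G F c' i - G F c i - Matrix.mulVec (VanCyc.polarMatrix q) (c' - c) i ∈
      (IsLocalRing.maximalIdeal A) ^ (N + 1) := by
  have := est (IsLocalRing.maximalIdeal A) F N hN c c' hc hcc i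
  rw [polar_sum q F hF2 (fun j => c' j - c j) i] at this
  exact this

variable (hq : IsUnit (VanCyc.polarMatrix q).det) (ℓ : Fin n → A)
  (hℓ : ∀ i, ℓ i ∈ IsLocalRing.maximalIdeal A)
  (hF1 : ∀ i : Fin n, coeff (Finsupp.single i 1) F = ℓ i)

include hF1 hℓ in
lemma G_mem (c : Fin n → A) (hc : ∀ i, c i ∈ IsLocalRing.maximalIdeal A) (i : Fin n) :
    G F c i ∈ IsLocalRing.maximalIdeal A := by
  have h1 := coeff_trans_sub_mem (IsLocalRing.maximalIdeal A) F c hc (Finsupp.single i 1)
  rw [hF1] at h1
  have e : G F c i = (G F c i - ℓ i) + ℓ i := by ring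
  rw [e]
  exact Submodule.add_mem _ h1 (hℓ i)

lemma mulVec_mem (J : Ideal A) (M : Matrix (Fin n) (Fin n) A) (v : Fin n → A)
    (hv : ∀ i, v i ∈ J) (i : Fin n) : Matrix.mulVec M v i ∈ J := by
  unfold Matrix.mulVec dotProduct
  exact Submodule.sum_mem _ (fun j _ => Ideal.mul_mem_left _ _ (hv j))

include hF2 hq hℓ hF1 in
theorem exists_crit :
    ∃ c : Fin n → A, (∀ i, c i ∈ IsLocalRing.maximalIdeal A) ∧ G F c = 0 := by
  set P := VanCyc.polarMatrix q with hP
  obtain ⟨c, hcI, hfix⟩ := adic_fixed (IsLocalRing.maximalIdeal A)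
    (fun c => c - Matrix.mulVec P⁻¹ (G F c))
    (fun c hc i => Submodule.sub_mem _ (hc i)
      (mulVec_mem _ _ _ (G_mem F ℓ hℓ hF1 c hc) i))
    (by
      intro N hN c c' hc hc' hcc i
      set ε : Fin n → A := G F c - G F c' - Matrix.mulVec P (c - c') with hε
      have hεm : ∀ j, ε j ∈ (IsLocalRing.maximalIdeal A) ^ (N + 1) :=
        fun j => Gest q F hF2 N hN c' c hc' hcc j
      have e : (c - Matrix.mulVec P⁻¹ (G F c)) - (c' - Matrix.mulVec P⁻¹ (G F c')) =
          - Matrix.mulVec P⁻¹ ε := by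
        have h1 : G F c - G F c' = Matrix.mulVec P (c - c') + ε := by rw [hε]; ring
        have h2 : Matrix.mulVec P⁻¹ (G F c) - Matrix.mulVec P⁻¹ (G F c') =
            (c - c') + Matrix.mulVec P⁻¹ ε := by
          rw [← Matrix.mulVec_sub, h1, Matrix.mulVec_add, Matrix.mulVec_mulVec,
            Matrix.nonsing_inv_mul _ hq, Matrix.one_mulVec]
        have h3 : (c - Matrix.mulVec P⁻¹ (G F c)) - (c' - Matrix.mulVec P⁻¹ (G F c')) =
            (c - c') - (Matrix.mulVec P⁻¹ (G F c) - Matrix.mulVec P⁻¹ (G F c')) := by ring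
        rw [h3, h2]; ring
      have e' : (c - Matrix.mulVec P⁻¹ (G F c)) i - (c' - Matrix.mulVec P⁻¹ (G F c')) i =
          (- Matrix.mulVec P⁻¹ ε) i := by
        rw [← e]; rfl
      rw [e', Pi.neg_apply]
      exact Submodule.neg_mem _ (mulVec_mem _ _ _ hεm i))
  refine ⟨c, hcI, ?_⟩
  have h1 : Matrix.mulVec P⁻¹ (G F c) = 0 := by
    have := congrArg (fun v => c - v) hfix
    simpa using this
  have h2 := congrArg (Matrix.mulVec P) h1
  rw [Matrix.mulVec_mulVec, Matrix.mul_nonsing_inv _ hq, Matrix.one_mulVec, Matrix.mulVec_zero] at h2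
  exact h2

end crit


theorem main (A : Type u) [CommRing A] [IsLocalRing A]
    [IsAdicComplete (IsLocalRing.maximalIdeal A) A] (n : ℕ)
    (q : Fin n → Fin n → A) (hq : VanCyc.QuadNondeg q)
    (a : A) (ha : a ∈ IsLocalRing.maximalIdeal A)
    (ℓ : Fin n → A) (hℓ : ∀ i, ℓ i ∈ IsLocalRing.maximalIdeal A)
    (F : MvPowerSeries (Fin n) A)
    (hF : ∀ e : Fin n →₀ ℕ, e.degree ≤ 2 →
      MvPowerSeries.coeff e F = MvPowerSeries.coeff e ((VanCyc.quadPoly q + ∑ i, MvPolynomial.C (ℓ i) * MvPolynomial.X i + MvPolynomial.C a : MvPolynomial (Fin n) A) : MvPowerSeries (Fin n) A)) :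
    ∃ (a' : A) (q' : Fin n → Fin n → A), a' ∈ IsLocalRing.maximalIdeal A ∧ VanCyc.QuadNondeg q' ∧
      Nonempty ((MvPowerSeries (Fin n) A ⧸ Ideal.span {F}) ≃ₐ[A]
        (MvPowerSeries (Fin n) A ⧸ Ideal.span {((VanCyc.quadPoly q' + MvPolynomial.C a' : MvPolynomial (Fin n) A) : MvPowerSeries (Fin n) A)})) := by
  have hF0 : coeff 0 F = a := by
    rw [hF 0 (by rw [map_zero]; omega), coeff_model_zero]
  have hF1 : ∀ i : Fin n, coeff (Finsupp.single i 1) F = ℓ i := by
    intro i
    rw [hF _ (by rw [Finsupp.degree_single]; omega), coeff_model_single]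
  have hF2 : ∀ i j : Fin n, i ≤ j →
      coeff (Finsupp.single i 1 + Finsupp.single j 1) F = q i j := by
    intro i j hij
    rw [hF _ (by rw [degree_pair]), coeff_model_pair q ℓ a hij]
  obtain ⟨c, hcI, hG⟩ := exists_crit q F hF2 hq ℓ hℓ hF1
  set F' := trans (IsLocalRing.maximalIdeal A) c F with hF'def
  set a' := coeff 0 F' with ha'def
  set q' : Fin n → Fin n → A := fun i j =>
    if i ≤ j then coeff (Finsupp.single i 1 + Finsupp.single j 1) F' else 0 with hq'def
  have hq'ij : ∀ i j : Fin n, i ≤ j →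
      q' i j = coeff (Finsupp.single i 1 + Finsupp.single j 1) F' := by
    intro i j hij
    rw [hq'def]
    exact if_pos hij
  have hdq : ∀ i j : Fin n, i ≤ j → q' i j - q i j ∈ IsLocalRing.maximalIdeal A := by
    intro i j hij
    rw [hq'ij i j hij, ← hF2 i j hij]
    exact coeff_trans_sub_mem _ F c hcI _
  have ha' : a' ∈ IsLocalRing.maximalIdeal A := by
    have h1 := coeff_trans_sub_mem (IsLocalRing.maximalIdeal A) F c hcI 0
    rw [hF0] at h1
    have e : a' = (a' - a) + a := by ring
    rw [e]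
    exact Submodule.add_mem _ h1 ha
  have hF' : ∀ e : Fin n →₀ ℕ, e.degree ≤ 2 →
      MvPowerSeries.coeff e F' = MvPowerSeries.coeff e ((VanCyc.quadPoly q' + MvPolynomial.C a' :
        MvPolynomial (Fin n) A) : MvPowerSeries (Fin n) A) := by
    intro e he
    rcases deg_le_two_cases e he with rfl | ⟨i, rfl⟩ | ⟨i, j, hij, rfl⟩
    · rw [coeff_model'_zero]
    · rw [coeff_model'_single]
      exact congrFun hG i
    · rw [coeff_model'_pair q' a' hij, hq'ij i j hij]
  have hq' : VanCyc.QuadNondeg q' := by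
    unfold VanCyc.QuadNondeg at hq ⊢
    have hentry : ∀ i j, VanCyc.polarMatrix q' i j - VanCyc.polarMatrix q i j ∈
        IsLocalRing.maximalIdeal A := by
      intro i j
      unfold VanCyc.polarMatrix
      split_ifs with h1 h2
      · have e : 2 * q' i i - 2 * q i i = 2 * (q' i i - q i i) := by ring
        rw [e]
        exact Ideal.mul_mem_left _ _ (hdq i i le_rfl)
      · exact hdq i j (le_of_lt h2)
      · exact hdq j i (not_lt.mp h2)
    have hmap : (VanCyc.polarMatrix q').map (Ideal.Quotient.mk (IsLocalRing.maximalIdeal A)) =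
        (VanCyc.polarMatrix q).map (Ideal.Quotient.mk (IsLocalRing.maximalIdeal A)) := by
      ext i j
      rw [Matrix.map_apply, Matrix.map_apply, Ideal.Quotient.eq]
      exact hentry i j
    have hdet := congrArg Matrix.det hmap
    rw [← RingHom.mapMatrix_apply, ← RingHom.mapMatrix_apply, ← RingHom.map_det,
      ← RingHom.map_det, Ideal.Quotient.eq] at hdet
    by_contra hnu
    have h1 : (VanCyc.polarMatrix q').det ∈ IsLocalRing.maximalIdeal A :=
      (IsLocalRing.mem_maximalIdeal _).mpr hnu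
    have h2 : (VanCyc.polarMatrix q).det ∈ IsLocalRing.maximalIdeal A := by
      have e : (VanCyc.polarMatrix q).det = (VanCyc.polarMatrix q').det -
          ((VanCyc.polarMatrix q').det - (VanCyc.polarMatrix q).det) := by ring
      rw [e]
      exact Submodule.sub_mem _ h1 hdet
    exact (IsLocalRing.mem_maximalIdeal _).mp h2 hq
  obtain ⟨h, -, -, -, ⟨e2⟩⟩ := Groth.Agent.S16230.result A n 2 le_rfl q' hq' a' F' hF'
  have hmapI : Ideal.span {F'} = (Ideal.span {F}).map
      ((transEquiv (IsLocalRing.maximalIdeal A) c hcI :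
        MvPowerSeries (Fin n) A ≃ₐ[A] MvPowerSeries (Fin n) A) :
        MvPowerSeries (Fin n) A →+* MvPowerSeries (Fin n) A) := by
    rw [Ideal.map_span, Set.image_singleton]
    rfl
  exact ⟨a', q', ha', hq',
    ⟨(Ideal.quotientEquivAlg _ _ (transEquiv (IsLocalRing.maximalIdeal A) c hcI) hmapI).trans e2⟩⟩

end Aux

/-- Let A be a local ring with maximal ideal m that is separated and complete for the m-adic topology (A
is not assumed Noetherian), n a natural number, q an n × n coefficient table over A whose quadratic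
form Q(x) = Σ_{i≤j} q_ij x_i x_j is non-degenerate (unit Gram determinant of the polar bilinear
form), a and ℓ_1, …, ℓ_n elements of m, and F a formal power series in x_1, …, x_n over A whose
coefficients in total degree at most 2 agree with those of a + Σ ℓ_i x_i + Q(x). Then there are an
element a' of m and a non-degenerate coefficient table q' such that A[[x]]/(F) and A[[x]]/(Q'(x) +
a') are isomorphic as A-algebras, Q' the quadratic form of q'. -/
theorem result
    (A : Type u) [CommRing A] [IsLocalRing A]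
    [IsAdicComplete (IsLocalRing.maximalIdeal A) A] (n : ℕ)
    (q : Fin n → Fin n → A) (hq : VanCyc.QuadNondeg q)
    (a : A) (ha : a ∈ IsLocalRing.maximalIdeal A)
    (ℓ : Fin n → A) (hℓ : ∀ i, ℓ i ∈ IsLocalRing.maximalIdeal A)
    (F : MvPowerSeries (Fin n) A)
    (hF : ∀ e : Fin n →₀ ℕ, e.degree ≤ 2 →
      MvPowerSeries.coeff e F = MvPowerSeries.coeff e ((VanCyc.quadPoly q + ∑ i, MvPolynomial.C (ℓ i) * MvPolynomial.X i + MvPolynomial.C a : MvPolynomial (Fin n) A) : MvPowerSeries (Fin n) A)) :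
    ∃ (a' : A) (q' : Fin n → Fin n → A), a' ∈ IsLocalRing.maximalIdeal A ∧ VanCyc.QuadNondeg q' ∧
      Nonempty ((MvPowerSeries (Fin n) A ⧸ Ideal.span {F}) ≃ₐ[A]
        (MvPowerSeries (Fin n) A ⧸ Ideal.span {((VanCyc.quadPoly q' + MvPolynomial.C a' : MvPolynomial (Fin n) A) : MvPowerSeries (Fin n) A)})) := by
  exact Aux.main A n q hq a ha ℓ hℓ F hF

end Groth.Agent.S16231
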