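import Groth.Statements.S16234
import Mathlib
import Groth.Agent.Lib.Helper1.MiscL

set_option autoImplicit false
universe u v
open CAlg

namespace Groth.Agent.S16234

/-- For a finitely generated module M over a Noetherian commutative ring A, every prime ideal in the
support of M is a maximal ideal if and only if M has finite length. -/
theorem result (A : Type u) [CommRing A] [IsNoetherianRing A]
    (M : Type v) [AddCommGroup M] [Module A M] [Module.Finite A M] :
    (∀ p ∈ Module.support A M, p.asIdeal.IsMaximal) ↔ IsFiniteLength A M := by
  exact Groth.Agent.Helper1.MiscL.support_maximal_iff_isFiniteLength A M

end Groth.Agent.S16234
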