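import Groth.Statements.S1624
import Mathlib
import Groth.Agent.Lib.Helper1.BlowH1

set_option autoImplicit false
universe u
open CategoryTheory CategoryTheory.Limits AlgebraicGeometry
open Resolve

namespace Groth.Agent.S1624

/-- Let A be a regular local ring of dimension two and b : X → Spec A the blowing up in the maximal
ideal. If F is a quasi-coherent O_X-module which is globally generated, then H¹(X, F) = 0. -/
theorem result (A : Type u) [CommRing A] [IsRegularLocalRing A] (hA : ringKrullDim A = 2)
    (X : Scheme.{u}) (b : X ⟶ Spec (CommRingCat.of A)) (hb : BlowUp.IsBlowUp b (Curv2.idealSheaf A (IsLocalRing.maximalIdeal A)))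
    (F : X.Modules) (hF : Coh.IsQCoh F) (hgg : Curv2.IsGloballyGenerated F) : Subsingleton (Coh.HH X F 1) := by
  obtain ⟨g, hg⟩ := Groth.Agent.Helper1.BlowChart.exists_gens_of_regular A hA
  letI : X.Over (Spec (CommRingCat.of A)) := ⟨b⟩
  haveI : IsProper b := Groth.Agent.Lead.Blow.isProper_of_isBlowUp
    (Groth.Agent.Lead.Blow.specIdeal (IsLocalRing.maximalIdeal A))
    (Groth.Agent.Helper1.BlowChart.isFiniteTypeIdeal_of_noetherian (IsLocalRing.maximalIdeal A)) b hb
  haveI : CompactSpace X := QuasiCompact.compactSpace_of_compactSpace b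
  haveI : QuasiSeparatedSpace X := quasiSeparatedSpace_of_quasiSeparated b
  have h1 := Groth.Agent.Helper1.BlowH1.subsingleton_H1_structure (IsLocalRing.maximalIdeal A) g hg b hb
  refine Groth.Agent.Helper1.BlowH1.subsingleton_HH_one_of_gg' A X h1 (fun K hK => ?_) F hF hgg
  haveI : K.IsQuasicoherent := hK
  exact Groth.Agent.Helper1.BlowChart.subsingleton_HH_of_gens (IsLocalRing.maximalIdeal A) g hg b hb K 2 le_rfl

end Groth.Agent.S1624
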