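import Groth.Statements.S16243
import Mathlib
import Groth.Agent.Lib.Helper9.TorSecond
-- import your own Groth.Agent.* helpers here

set_option autoImplicit false
universe u
open CategoryTheory
open CAlg

namespace Groth.Agent.S16243

open CategoryTheory
namespace Aux
open MvPolynomial Groth.Agent.Helper1.TorL Groth.Agent.Helper9.TorSecond

variable (k : Type u) [Field k]

abbrev RR := MvPolynomial (Fin 2) k
noncomputable abbrev I0 : Ideal (RR k) := Ideal.span {(X 0 * X 1 : RR k)}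
abbrev AA := RR k ⧸ I0 k
noncomputable abbrev xx (c : Fin 2) : AA k := Ideal.Quotient.mk (I0 k) (X c)

lemma I0_eq {i j : Fin 2} (hij : i ≠ j) : I0 k = Ideal.span {(X i * X j : RR k)} := by
  fin_cases i <;> fin_cases j
  · exact absurd rfl hij
  · rfl
  · show Ideal.span {(X 0 * X 1 : RR k)} = Ideal.span {(X 1 * X 0 : RR k)}
    rw [mul_comm]
  · exact absurd rfl hij

/-- key polynomial fact -/
lemma dvd_of_sub_mem {i j : Fin 2} (hij : i ≠ j) (f g : RR k)
    (h : f * X i - g * X j ∈ I0 k) : (X j : RR k) ∣ f := by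
  rw [I0_eq k hij, Ideal.mem_span_singleton] at h
  obtain ⟨q, hq⟩ := h
  have h1 : (X j : RR k) ∣ f * X i := by
    refine ⟨g + X i * q, ?_⟩
    have : f * X i = g * X j + X i * X j * q := by rw [← hq]; ring
    rw [this]; ring
  rcases (X_prime (R := k) (i := j)).dvd_or_dvd h1 with h2 | h2
  · exact h2
  · exact absurd (X_dvd_X.1 h2) (Ne.symm hij)

lemma xx_mul_xx {i j : Fin 2} (hij : i ≠ j) : xx k i * xx k j = 0 := by
  show Ideal.Quotient.mk (I0 k) (X i) * Ideal.Quotient.mk (I0 k) (X j) = 0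
  rw [← map_mul, Ideal.Quotient.eq_zero_iff_mem, I0_eq k hij]
  exact Ideal.subset_span rfl

/-- (F3) -/
lemma mem_of_mul_mem {i j : Fin 2} (hij : i ≠ j) (a : AA k)
    (h : a * xx k i ∈ Ideal.span {xx k j}) : a ∈ Ideal.span {xx k j} := by
  obtain ⟨f, rfl⟩ := Ideal.Quotient.mk_surjective a
  rw [Ideal.mem_span_singleton] at h ⊢
  obtain ⟨b, hb⟩ := h
  obtain ⟨g, rfl⟩ := Ideal.Quotient.mk_surjective b
  have h1 : f * X i - g * X j ∈ I0 k := by
    rw [← Ideal.Quotient.eq_zero_iff_mem, map_sub, map_mul, map_mul, sub_eq_zero]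
    rw [hb]; exact mul_comm _ _
  obtain ⟨q, rfl⟩ := dvd_of_sub_mem k hij f g h1
  exact ⟨Ideal.Quotient.mk _ q, by rw [map_mul]⟩

/-- (F1') -/
lemma mul_eq_zero_iff {i j : Fin 2} (hij : i ≠ j) (a : AA k) :
    a * xx k i = 0 ↔ a ∈ Ideal.span {xx k j} := by
  constructor
  · intro h
    apply mem_of_mul_mem k hij
    rw [h]; exact zero_mem _
  · intro h
    rw [Ideal.mem_span_singleton] at h
    obtain ⟨b, rfl⟩ := h
    rw [mul_comm (xx k j), mul_assoc, xx_mul_xx k hij.symm, mul_zero]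

/-- `A/(x_c)` -/
noncomputable abbrev Pm (c : Fin 2) : ModuleCat.{u} (AA k) :=
  ModuleCat.of (AA k) (AA k ⧸ Ideal.span {xx k c})

noncomputable abbrev mm : Ideal (AA k) := Ideal.span {xx k 0, xx k 1}

/-- the residue field at the origin, as a module -/
noncomputable abbrev kap : ModuleCat.{u} (AA k) := ModuleCat.of (AA k) (AA k ⧸ mm k)

lemma span_le_mm (c : Fin 2) : Ideal.span {xx k c} ≤ mm k := by
  rw [Ideal.span_le, Set.singleton_subset_iff]
  apply Ideal.subset_span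
  fin_cases c
  · exact Set.mem_insert _ _
  · exact Set.mem_insert_of_mem _ rfl

lemma mm_kills (a : AA k) (ha : a ∈ mm k) (y : kap k) : a • y = 0 := by
  obtain ⟨b, rfl⟩ := Submodule.mkQ_surjective _ y
  rw [← map_smul, Submodule.mkQ_apply, Submodule.Quotient.mk_eq_zero, smul_eq_mul]
  exact Ideal.mul_mem_right _ _ ha

/-- (G1) `(x_i) ≅ A/(x_j)` -/
noncomputable def spanEquiv {i j : Fin 2} (hij : i ≠ j) :
    (AA k ⧸ Ideal.span {xx k j}) ≃ₗ[AA k] (Ideal.span {xx k i} : Ideal (AA k)) := by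
  let φ : AA k →ₗ[AA k] AA k := LinearMap.toSpanSingleton (AA k) (AA k) (xx k i)
  have hker : LinearMap.ker φ = Ideal.span {xx k j} := by
    ext a
    rw [LinearMap.mem_ker]
    show a • xx k i = 0 ↔ _
    rw [smul_eq_mul]
    exact mul_eq_zero_iff k hij a
  have hrange : LinearMap.range φ = Ideal.span {xx k i} :=
    (LinearMap.span_singleton_eq_range (AA k) (AA k) (xx k i)).symm
  exact (Submodule.quotEquivOfEq _ _ hker).symm ≪≫ₗ φ.quotKerEquivRange ≪≫ₗ
    LinearEquiv.ofEq _ _ hrange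

/-- `Tor₀(A/(x_c), κ) ≅ κ` -/
noncomputable def tZero (c : Fin 2) : T 0 (Pm k c) (kap k) ≅ kap k := by
  have hbot : Ideal.span {xx k c} • (⊤ : Submodule (AA k) (AA k ⧸ mm k)) = ⊥ := by
    rw [eq_bot_iff, Submodule.smul_le]
    intro a ha y _
    rw [Submodule.mem_bot]
    exact mm_kills k a (span_le_mm k c ha) y
  exact tor0Iso (Pm k c) (kap k) ≪≫
    ((TensorProduct.quotTensorEquivQuotSMul (AA k ⧸ mm k) (Ideal.span {xx k c})) ≪≫ₗ
      Submodule.quotEquivOfEqBot _ hbot).toModuleIso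

/-- all `Tor_i(A/(x_c), κ)` are isomorphic to `κ` -/
theorem tor_Pm_iso (i : ℕ) : ∀ c : Fin 2, Nonempty (T i (Pm k c) (kap k) ≅ kap k) := by
  induction i with
  | zero => exact fun c => ⟨tZero k c⟩
  | succ i ih =>
    intro c
    obtain ⟨c', hc'⟩ : ∃ c' : Fin 2, c ≠ c' := by
      fin_cases c
      · exact ⟨1, by decide⟩
      · exact ⟨0, by decide⟩
    obtain ⟨e⟩ := ih c'
    have e1 := torIdealShift (Ideal.span {xx k c}) (kap k)
      (fun a ha y => mm_kills k a (span_le_mm k c ha) y) i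
    have e2 : T i (ModuleCat.of (AA k) (Ideal.span {xx k c} : Ideal (AA k))) (kap k) ≅
        T i (Pm k c') (kap k) :=
      torCongrLeft (spanEquiv k hc').symm.toModuleIso (kap k) i
    exact ⟨e1 ≪≫ e2 ≪≫ e⟩

/-- evaluation at the origin -/
noncomputable def ev : AA k →+* k :=
  Ideal.Quotient.lift (I0 k) (constantCoeff (R := k) (σ := Fin 2)) (by
    intro a ha
    have hle : I0 k ≤ RingHom.ker (constantCoeff (R := k) (σ := Fin 2)) := by
      rw [Ideal.span_le, Set.singleton_subset_iff]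
      show constantCoeff (X 0 * X 1 : RR k) = 0
      simp
    exact hle ha)

lemma ev_mk (f : RR k) : ev k (Ideal.Quotient.mk (I0 k) f) = constantCoeff f := rfl

lemma ker_ev : RingHom.ker (ev k) = mm k := by
  apply le_antisymm
  · intro a ha
    obtain ⟨f, rfl⟩ := Ideal.Quotient.mk_surjective a
    rw [RingHom.mem_ker, ev_mk] at ha
    have hf : f ∈ Ideal.span ((X : Fin 2 → RR k) '' Set.univ) := by
      rw [mem_ideal_span_X_image]
      intro m hm
      have hm0 : m ≠ 0 := by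
        rintro rfl
        rw [mem_support_iff] at hm
        exact hm ha
      obtain ⟨i, hi⟩ : ∃ i, m i ≠ 0 := by
        by_contra hcon
        push Not at hcon
        exact hm0 (Finsupp.ext hcon)
      exact ⟨i, Set.mem_univ _, hi⟩
    have h2 : Ideal.span ((X : Fin 2 → RR k) '' Set.univ) ≤ (mm k).comap (Ideal.Quotient.mk (I0 k)) := by
      rw [Ideal.span_le]
      rintro _ ⟨c, -, rfl⟩
      show xx k c ∈ mm k
      exact span_le_mm k c (Ideal.subset_span rfl)
    exact h2 hf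
  · rw [Ideal.span_le]
    intro a ha
    rcases ha with rfl | rfl
    · show ev k (xx k 0) = 0
      rw [ev_mk]; simp
    · show ev k (xx k 1) = 0
      rw [ev_mk]; simp

lemma mm_isMaximal : (mm k).IsMaximal := by
  rw [← ker_ev]
  apply RingHom.ker_isMaximal_of_surjective
  intro c
  exact ⟨Ideal.Quotient.mk (I0 k) (C c), by rw [ev_mk]; simp⟩

lemma length_kap : Module.length (AA k) (kap k) = 1 := by
  rw [Module.length_eq_one_iff]
  exact isSimpleModule_iff_quot_maximal.2 ⟨mm k, mm_isMaximal k, ⟨LinearEquiv.refl _ _⟩⟩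

lemma length_tor_Pm (i : ℕ) (c : Fin 2) : Module.length (AA k) (T i (Pm k c) (kap k)) = 1 := by
  obtain ⟨e⟩ := tor_Pm_iso k i c
  rw [e.toLinearEquiv.length_eq, length_kap]

/-- the map `A/(x₁) --x₀--> A/(x₁)` -/
noncomputable def fK : Pm k 1 ⟶ Pm k 1 := xx k 0 • 𝟙 (Pm k 1)

/-- the projection `A/(x₁) → κ` -/
noncomputable def gK : Pm k 1 ⟶ kap k := ModuleCat.ofHom (Submodule.factor (span_le_mm k 1))

lemma fK_apply (p : Pm k 1) : (fK k).hom p = xx k 0 • p := rfl

lemma gK_apply (p : Pm k 1) : (gK k).hom p = Submodule.factor (span_le_mm k 1) p := rfl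

lemma fK_gK : fK k ≫ gK k = 0 := by
  apply ModuleCat.hom_ext
  apply LinearMap.ext
  intro p
  rw [ModuleCat.hom_comp, LinearMap.comp_apply, fK_apply, map_smul]
  exact mm_kills k _ (Ideal.subset_span (Set.mem_insert _ _)) _

/-- the short complex `0 → A/(x₁) --x₀--> A/(x₁) → κ → 0` -/
noncomputable def sesK : ShortComplex (ModuleCat.{u} (AA k)) :=
  ShortComplex.mk (fK k) (gK k) (fK_gK k)

lemma gK_mk (a : AA k) : (gK k).hom ((Ideal.span {xx k 1}).mkQ a) = (mm k).mkQ a := rfl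

lemma fK_mk (a : AA k) : (fK k).hom ((Ideal.span {xx k 1}).mkQ a) =
    (Ideal.span {xx k 1}).mkQ (xx k 0 * a) := by
  rw [fK_apply, ← map_smul, smul_eq_mul]

lemma fK_injective : Function.Injective (fK k).hom := by
  rw [injective_iff_map_eq_zero]
  intro p hp
  obtain ⟨a, rfl⟩ := Submodule.mkQ_surjective _ p
  rw [fK_mk, Submodule.mkQ_apply, Submodule.Quotient.mk_eq_zero, mul_comm] at hp
  rw [Submodule.mkQ_apply, Submodule.Quotient.mk_eq_zero]
  exact mem_of_mul_mem k (by decide) a hp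

lemma gK_surjective : Function.Surjective (gK k).hom := by
  intro y
  obtain ⟨a, rfl⟩ := Submodule.mkQ_surjective _ y
  exact ⟨(Ideal.span {xx k 1}).mkQ a, rfl⟩

lemma fK_gK_exact : Function.Exact (fK k).hom (gK k).hom := by
  intro p
  obtain ⟨a, rfl⟩ := Submodule.mkQ_surjective _ p
  constructor
  · intro h
    have h1 : a ∈ mm k := by
      rw [gK_mk, Submodule.mkQ_apply, Submodule.Quotient.mk_eq_zero] at h
      exact h
    rw [Ideal.mem_span_pair] at h1
    obtain ⟨b, c, hbc⟩ := h1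
    refine ⟨(Ideal.span {xx k 1}).mkQ b, ?_⟩
    rw [fK_mk, Submodule.mkQ_apply, Submodule.mkQ_apply, Submodule.Quotient.eq,
      ← hbc, Ideal.mem_span_singleton]
    exact ⟨-c, by ring⟩
  · rintro ⟨q, hq⟩
    rw [← hq]
    exact LinearMap.congr_fun (congrArg ModuleCat.Hom.hom (fK_gK k)) q

lemma sesK_shortExact : (sesK k).ShortExact := by
  apply ModuleCat.shortComplex_shortExact
  · exact fK_gK_exact k
  · exact fK_injective k
  · exact gK_surjective k

lemma tor_map_f_eq_zero (n : ℕ) :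
    ((Tor (ModuleCat.{u} (AA k)) n).map (sesK k).f).app (kap k) = 0 := by
  show ((Tor (ModuleCat.{u} (AA k)) n).map (xx k 0 • 𝟙 (Pm k 1))).app (kap k) = 0
  rw [tor_map_smul_id]
  ext ξ
  exact smul_tor_eq_zero (Pm k 1) (kap k) (xx k 0)
    (fun y => mm_kills k _ (Ideal.subset_span (Set.mem_insert _ _)) y) n ξ

theorem length_tor_kap (i : ℕ) : Module.length (AA k) (T (i + 1) (kap k) (kap k)) = 2 := by
  have hS := sesK_shortExact k
  have hm : Mono (((Tor (ModuleCat.{u} (AA k)) (i + 1)).map (sesK k).g).app (kap k)) :=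
    (tor_exact₂ (sesK k) hS (kap k) (i + 1)).mono_g (tor_map_f_eq_zero k (i + 1))
  have he : Epi (torδ (sesK k) hS (kap k) i) :=
    (tor_exact₁ (sesK k) hS (kap k) i).epi_f (tor_map_f_eq_zero k i)
  have hex := (ShortComplex.ShortExact.moduleCat_exact_iff_function_exact _).1
    (tor_exact₃ (sesK k) hS (kap k) i)
  have hlen := Module.length_eq_add_of_exact
    (((Tor (ModuleCat.{u} (AA k)) (i + 1)).map (sesK k).g).app (kap k)).hom
    (torδ (sesK k) hS (kap k) i).hom
    ((ModuleCat.mono_iff_injective _).1 hm) ((ModuleCat.epi_iff_surjective _).1 he) hex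
  have h1 : Module.length (AA k) (T (i + 1) (sesK k).X₁ (kap k)) = 1 := length_tor_Pm k (i + 1) 1
  have h2 : Module.length (AA k) (T i (sesK k).X₁ (kap k)) = 1 := length_tor_Pm k i 1
  have h3 : Module.length (AA k) (T (i + 1) (kap k) (kap k)) =
      Module.length (AA k) (T (i + 1) (sesK k).X₁ (kap k)) +
        Module.length (AA k) (T i (sesK k).X₁ (kap k)) := hlen
  rw [h3, h1, h2]
  rfl

theorem main :
    (∀ i : ℕ, 1 ≤ i →
      Module.length (MvPolynomial (Fin 2) k ⧸ Ideal.span {(MvPolynomial.X 0 * MvPolynomial.X 1 : MvPolynomial (Fin 2) k)}) ((((Tor (ModuleCat.{u} (MvPolynomial (Fin 2) k ⧸ Ideal.span {(MvPolynomial.X 0 * MvPolynomial.X 1 : MvPolynomial (Fin 2) k)})) i).obj (ModuleCat.of (MvPolynomial (Fin 2) k ⧸ Ideal.span {(MvPolynomial.X 0 * MvPolynomial.X 1 : MvPolynomial (Fin 2) k)}) ((MvPolynomial (Fin 2) k ⧸ Ideal.span {(MvPolynomial.X 0 * MvPolynomial.X 1 : MvPolynomial (Fin 2) k)}) ⧸ Ideal.span {Ideal.Quotient.mk (Ideal.span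 {(MvPolynomial.X 0 * MvPolynomial.X 1 : MvPolynomial (Fin 2) k)}) (MvPolynomial.X 0), Ideal.Quotient.mk (Ideal.span {(MvPolynomial.X 0 * MvPolynomial.X 1 : MvPolynomial (Fin 2) k)}) (MvPolynomial.X 1)}))).obj (ModuleCat.of (MvPolynomial (Fin 2) k ⧸ Ideal.span {(MvPolynomial.X 0 * MvPolynomial.X 1 : MvPolynomial (Fin 2) k)}) ((MvPolynomial (Fin 2) k ⧸ Ideal.span {(MvPolynomial.X 0 * MvPolynomial.X 1 : MvPolynomial (Fin 2) k)}) ⧸ Ideal.span {Ideal.Quotient.mk (Ideal.span {(MvPolynomial.X 0 * MvPolynomial.X 1 : MvPolynomial (Fin 2) k)}) (MvPolynomial.X 0), Ideal.Quotient.mk (Ideal.span {(MvPolynomial.X 0 * MvPolynomial.X 1 : MvPolynomial (Fin 2) k)}) (MvPolynomial.X 1)}))) : Type u) = 2) ∧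
    ∀ n : ℕ, ¬ HasProjectiveDimensionLT (ModuleCat.of (MvPolynomial (Fin 2) k ⧸ Ideal.span {(MvPolynomial.X 0 * MvPolynomial.X 1 : MvPolynomial (Fin 2) k)}) ((MvPolynomial (Fin 2) k ⧸ Ideal.span {(MvPolynomial.X 0 * MvPolynomial.X 1 : MvPolynomial (Fin 2) k)}) ⧸ Ideal.span {Ideal.Quotient.mk (Ideal.span {(MvPolynomial.X 0 * MvPolynomial.X 1 : MvPolynomial (Fin 2) k)}) (MvPolynomial.X 0), Ideal.Quotient.mk (Ideal.span {(MvPolynomial.X 0 * MvPolynomial.X 1 : MvPolynomial (Fin 2) k)}) (MvPolynomial.X 1)})) n := by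
  constructor
  · intro i hi
    obtain ⟨j, rfl⟩ : ∃ j, i = j + 1 := ⟨i - 1, by omega⟩
    exact length_tor_kap k j
  · intro n hn
    have h1 : HasProjectiveDimensionLT (kap k) (n + 1) :=
      hasProjectiveDimensionLT_of_ge (kap k) n (n + 1) (by omega)
    have h2 := isZero_tor_of_hasProjectiveDimensionLT n (kap k) (kap k) (n + 1) (by omega)
    have h3 := length_tor_kap k n
    have h4 : Subsingleton (T (n + 1) (kap k) (kap k)) :=
      ModuleCat.subsingleton_of_isZero h2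
    rw [Module.length_eq_zero_iff.2 h4] at h3
    exact absurd h3 (by decide)

end Aux

/-- Let k be a field, A = k[x, y]/(xy) (x = X_0, y = X_1) and κ = A/(x, y) the residue field at the
origin, viewed as an A-module. Then for every i ≥ 1 the A-module Tor_i^A(κ, κ) has length 2 (it is a
two-dimensional κ-vector space; Tor_0 is κ), and κ admits no finite projective resolution over A:
for no n is its projective dimension less than n. -/
theorem result (k : Type u) [Field k] :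
    (∀ i : ℕ, 1 ≤ i →
      Module.length (MvPolynomial (Fin 2) k ⧸ Ideal.span {(MvPolynomial.X 0 * MvPolynomial.X 1 : MvPolynomial (Fin 2) k)}) ((((Tor (ModuleCat.{u} (MvPolynomial (Fin 2) k ⧸ Ideal.span {(MvPolynomial.X 0 * MvPolynomial.X 1 : MvPolynomial (Fin 2) k)})) i).obj (ModuleCat.of (MvPolynomial (Fin 2) k ⧸ Ideal.span {(MvPolynomial.X 0 * MvPolynomial.X 1 : MvPolynomial (Fin 2) k)}) ((MvPolynomial (Fin 2) k ⧸ Ideal.span {(MvPolynomial.X 0 * MvPolynomial.X 1 : MvPolynomial (Fin 2) k)}) ⧸ Ideal.span {Ideal.Quotient.mk (Ideal.span {(MvPolynomial.X 0 * MvPolynomial.X 1 : MvPolynomial (Fin 2) k)}) (MvPolynomial.X 0), Ideal.Quotient.mk (Ideal.span {(MvPolynomial.X 0 * MvPolynomial.X 1 : MvPolynomial (Fin 2) k)}) (MvPolynomial.X 1)}))).obj (ModuleCat.of (MvPolynomial (Fin 2) k ⧸ Ideal.span {(MvPolynomial.X 0 * MvPolynomial.X 1 : MvPolynomial (Fin 2) k)}) ((MvPolynomial (Fin 2) k ⧸ Ideal.span {(MvPolynomial.X 0 * MvPolynomial.X 1 : MvPolynomial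 (Fin 2) k)}) ⧸ Ideal.span {Ideal.Quotient.mk (Ideal.span {(MvPolynomial.X 0 * MvPolynomial.X 1 : MvPolynomial (Fin 2) k)}) (MvPolynomial.X 0), Ideal.Quotient.mk (Ideal.span {(MvPolynomial.X 0 * MvPolynomial.X 1 : MvPolynomial (Fin 2) k)}) (MvPolynomial.X 1)}))) : Type u) = 2) ∧
    ∀ n : ℕ, ¬ HasProjectiveDimensionLT (ModuleCat.of (MvPolynomial (Fin 2) k ⧸ Ideal.span {(MvPolynomial.X 0 * MvPolynomial.X 1 : MvPolynomial (Fin 2) k)}) ((MvPolynomial (Fin 2) k ⧸ Ideal.span {(MvPolynomial.X 0 * MvPolynomial.X 1 : MvPolynomial (Fin 2) k)}) ⧸ Ideal.span {Ideal.Quotient.mk (Ideal.span {(MvPolynomial.X 0 * MvPolynomial.X 1 : MvPolynomial (Fin 2) k)}) (MvPolynomial.X 0), Ideal.Quotient.mk (Ideal.span {(MvPolynomial.X 0 * MvPolynomial.X 1 : MvPolynomial (Fin 2) k)}) (MvPolynomial.X 1)})) n := by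
  exact Aux.main k

end Groth.Agent.S16243
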