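import Groth.Statements.S16259
import Mathlib
import Groth.Agent.Lib.Helper4.Wronsk3b

set_option autoImplicit false
open W4c3wronskmg

namespace Groth.Agent.S16259

namespace H16259
open Polynomial Groth.Agent.Lib.Helper4.Wronsk2 Groth.Agent.Lib.Helper4.Wronsk3
set_option linter.unusedSectionVars false

variable {k : Type*} [Field k] [CharZero k]

/-- the generating polynomial `(1+X)^i (1+cX)^j` -/
noncomputable def AB (c : k) (i j : ℕ) : k[X] := (1 + X) ^ i * (1 + C c * X) ^ j

theorem coeff_one_add_C_mul_X_pow (c : k) (j v : ℕ) :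
    ((1 + C c * X) ^ j : k[X]).coeff v = (j.choose v : k) * c ^ v := by
  have : ((1 + C c * X) ^ j : k[X]) = ((1 + X) ^ j : k[X]).comp (C c * X) := by simp
  rw [this, comp_C_mul_X_coeff, coeff_one_add_X_pow]

theorem coeff_AB (c : k) (i j n : ℕ) :
    (AB c i j).coeff n =
      ∑ l ∈ Finset.range (n + 1), (i.choose l : k) * ((j.choose (n - l) : k) * c ^ (n - l)) := by
  unfold AB
  rw [coeff_mul, Finset.Nat.sum_antidiagonal_eq_sum_range_succ_mk]
  refine Finset.sum_congr rfl (fun l _ => ?_)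
  rw [coeff_one_add_X_pow, coeff_one_add_C_mul_X_pow]

theorem AB_eq_PP (c : k) (hc : c ≠ 0) (i j : ℕ) :
    AB c i j = C (c ^ j) * PP (-1) (-c⁻¹) i j := by
  unfold AB PP
  have e1 : (1 + X : k[X]) = X - C (-1) := by simp; ring
  have e2 : (1 + C c * X : k[X]) = C c * (X - C (-c⁻¹)) := by
    rw [mul_sub, ← C_mul, mul_neg, mul_inv_cancel₀ hc]; simp; ring
  rw [e1, e2, mul_pow, ← C_pow]
  ring

theorem AB_succ (c : k) (i j : ℕ) : AB c i (j + 1) = (1 + C c * X) * AB c i j := by
  unfold AB; ring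

/-- the polynomial of the statement -/
noncomputable def hh (i j n : ℕ) : k[X] :=
  ∑ l ∈ Finset.range (n + 1),
    Polynomial.C (((i.choose l) * (j.choose (n - l)) : ℕ) : k) * Polynomial.X ^ (n - l)

theorem eval_hh (c : k) (i j n : ℕ) : (hh i j n).eval c = (AB c i j).coeff n := by
  unfold hh
  rw [eval_finsetSum, coeff_AB]
  refine Finset.sum_congr rfl (fun l _ => ?_)
  rw [eval_mul, eval_C, eval_pow, eval_X]
  push_cast; ring

theorem eval_derivative_hh (c : k) (i j n : ℕ) :
    (derivative (hh i (j + 1) (n + 1))).eval c = ((j + 1 : ℕ) : k) * (AB c i j).coeff n := by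
  unfold hh
  rw [derivative_sum, eval_finsetSum, coeff_AB, Finset.mul_sum, Finset.sum_range_succ]
  have hlast : eval c (derivative (C (((i.choose (n + 1)) * ((j + 1).choose (n + 1 - (n + 1))) : ℕ) : k)
      * X ^ (n + 1 - (n + 1)))) = 0 := by
    rw [Nat.sub_self, pow_zero, mul_one, derivative_C, eval_zero]
  rw [hlast, add_zero]
  refine Finset.sum_congr rfl (fun l hl => ?_)
  rw [Finset.mem_range] at hl
  have e : n + 1 - l = (n - l) + 1 := by omega
  rw [e, derivative_C_mul_X_pow, eval_mul, eval_C, eval_pow, eval_X, Nat.add_sub_cancel]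
  have hch := Nat.add_one_mul_choose_eq j (n - l)
  have hch' : ((j + 1 : ℕ) : k) * (j.choose (n - l) : k) =
      ((j + 1).choose (n - l + 1) : k) * ((n - l + 1 : ℕ) : k) := by exact_mod_cast hch
  push_cast at hch' ⊢
  linear_combination (-(i.choose l : k) * c ^ (n - l)) * hch'

theorem hh_eq_zero (i j n : ℕ) (hn : i + j < n) : hh (k := k) i j n = 0 := by
  unfold hh
  apply Finset.sum_eq_zero
  intro l _
  have : i.choose l * j.choose (n - l) = 0 := by
    rcases Nat.lt_or_ge i l with h | h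
    · rw [Nat.choose_eq_zero_of_lt h, zero_mul]
    · rw [Nat.choose_eq_zero_of_lt (by omega : j < n - l), mul_zero]
  rw [this]; simp

theorem main (i j n : ℕ) (hj : 0 < j) (c : k) (hc0 : c ≠ 0) :
    Polynomial.rootMultiplicity c (hh i j n) ≤ 1 := by
  by_contra hcon
  push Not at hcon
  have hne : hh (k := k) i j n ≠ 0 := by
    intro h0; rw [h0, rootMultiplicity_zero] at hcon; omega
  obtain ⟨h1, h2⟩ := (one_lt_rootMultiplicity_iff_isRoot hne).1 hcon
  rw [IsRoot.def] at h1 h2
  obtain ⟨j', rfl⟩ : ∃ j', j = j' + 1 := ⟨j - 1, by omega⟩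
  rcases Nat.eq_zero_or_pos n with hn0 | hnpos
  · subst hn0
    rw [eval_hh, coeff_AB] at h1
    simp at h1
  obtain ⟨n', rfl⟩ : ∃ n', n = n' + 1 := ⟨n - 1, by omega⟩
  have hle : n' + 1 ≤ i + (j' + 1) := by
    by_contra hlt
    exact hne (hh_eq_zero i (j' + 1) (n' + 1) (by omega))
  rw [eval_derivative_hh] at h2
  have hj1 : ((j' + 1 : ℕ) : k) ≠ 0 := by exact_mod_cast Nat.succ_ne_zero j'
  have hB0 : (AB c i j').coeff n' = 0 := (mul_eq_zero.1 h2).resolve_left hj1
  rw [eval_hh, AB_succ, add_mul, one_mul, coeff_add, mul_assoc, coeff_C_mul, coeff_X_mul, hB0,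
    mul_zero, add_zero] at h1
  rw [AB_eq_PP c hc0, coeff_C_mul] at hB0 h1
  have hcj : c ^ j' ≠ 0 := pow_ne_zero _ hc0
  have hP0 := (mul_eq_zero.1 hB0).resolve_left hcj
  have hP1 := (mul_eq_zero.1 h1).resolve_left hcj
  rcases Nat.lt_or_ge (n' + 1) (i + (j' + 1)) with hlt | hge
  · exact PP_tcz (-1) (-c⁻¹) (by norm_num) (neg_ne_zero.2 (inv_ne_zero hc0)) i j' n' (by omega) hP0 hP1
  · have hlc := (PP_monic (-1 : k) (-c⁻¹) i j').coeff_natDegree
    rw [PP_natDegree] at hlc
    have e : i + j' = n' := by omega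
    rw [e, hP0] at hlc
    exact zero_ne_one hlc

end H16259

open Polynomial in
/-- Over a field of characteristic zero, for positive integers `i, j` and a natural number `n`, the
polynomial `h(W) = ∑_{l=0}^{n} (i choose l) (j choose (n-l)) W^(n-l)`, the coefficient of
`X^(i+j-n)` in `(X+1)^i (X+W)^j`, has no multiple root other than possibly `0` and `1`: every `c ≠
0, 1` has root multiplicity at most one. -/
theorem result
    (k : Type*) [Field k] [CharZero k] (i j n : ℕ) (hi : 0 < i) (hj : 0 < j) (c : k) (hc0 : c ≠ 0) (hc1 : c ≠ 1) :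
    Polynomial.rootMultiplicity c
      (∑ l ∈ Finset.range (n + 1),
        Polynomial.C (((i.choose l) * (j.choose (n - l)) : ℕ) : k) * Polynomial.X ^ (n - l)) ≤ 1 := by
  exact H16259.main i j n hj c hc0

end Groth.Agent.S16259
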