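import Groth.Statements.S16260
import Mathlib
import Groth.Agent.Lib.Helper4.Wronsk3c

set_option autoImplicit false
open W4c3wronskmg

namespace Groth.Agent.S16260

namespace H16260
set_option linter.unusedSectionVars false
open Polynomial Groth.Agent.Lib.Helper4.Wronsk2 Groth.Agent.Lib.Helper4.Wronsk3

variable {k : Type*} [Field k] [CharZero k] {m : ℕ} (r : Fin m → k) (a : Fin m → ℕ)

theorem eq_zero_of_dvd_pair (N : ℕ) (H : k[X]) (hH : H ∈ degreeLT k (N + 1)) (p q : k) (hpq : p ≠ q)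
    (i j : ℕ) (hij : i + j = N + 1) (h1 : (X - C p) ^ i ∣ H) (h2 : (X - C q) ^ j ∣ H) : H = 0 := by
  have hcop : IsCoprime ((X - C p) ^ i) ((X - C q) ^ j) := by
    apply IsCoprime.pow
    apply isCoprime_X_sub_C_of_isUnit_sub
    rw [isUnit_iff_ne_zero, sub_ne_zero]; exact hpq
  have hdvd := hcop.mul_dvd h1 h2
  by_contra hne
  have hd1 := natDegree_lt_of_mem_degLT hH hne
  have hd2 := natDegree_le_of_dvd hdvd hne
  rw [((monic_X_sub_C _).pow _).natDegree_mul ((monic_X_sub_C _).pow _),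
    (monic_X_sub_C _).natDegree_pow, natDegree_X_sub_C,
    (monic_X_sub_C _).natDegree_pow, natDegree_X_sub_C] at hd2
  omega

theorem data (hr : Function.Injective r) (b' N : ℕ) (hN : N = (∑ j, a j) + b') (p q : k)
    (hp : ∀ j, p ≠ r j) (hq : ∀ j, q ≠ r j) (i j : ℕ) (w : k[X])
    (hw : w ∈ VV r a b' ⊓ YY ((X - C p) ^ i * (X - C q) ^ j)) :
    ∃ G ∈ degreeLT k (N + 1), ∃ c : k, Phi r a G = w ∧ (X - C q) ^ (j + 1) ∣ G ∧
      (X - C p) ^ (i + 1) ∣ G - c • EE r a := by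
  obtain ⟨hV, hY⟩ := hw
  rw [SetLike.mem_coe, mem_YY] at hY
  rw [SetLike.mem_coe, VV_eq r a hr b' N hN] at hV
  obtain ⟨G, hG, rfl⟩ := hV
  obtain ⟨c₁, hc₁⟩ := unmarked_lemma r a p hp i G (dvd_trans (dvd_mul_right _ _) hY)
  obtain ⟨c₂, hc₂⟩ := unmarked_lemma r a q hq j G (dvd_trans (dvd_mul_left _ _) hY)
  refine ⟨G - c₂ • EE r a, ?_, c₁ - c₂, Phi_sub_smul_EE r a G c₂, hc₂, ?_⟩
  · refine Submodule.sub_mem _ hG (Submodule.smul_mem _ _ ?_)
    apply mem_degLT_of_natDegree_lt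
    rw [natDegree_EE]; omega
  · have e : G - c₂ • EE r a - (c₁ - c₂) • EE r a = G - c₁ • EE r a := by
      rw [sub_smul]; ring
    rw [e]; exact hc₁

theorem pair_le_one (hr : Function.Injective r) (b' N : ℕ) (hN : N = (∑ j, a j) + b') (p q : k)
    (hp : ∀ j, p ≠ r j) (hq : ∀ j, q ≠ r j) (hpq : p ≠ q) (i j : ℕ) (hij : i + j + 1 = N) :
    Module.finrank k ↥(VV r a b' ⊓ YY ((X - C p) ^ i * (X - C q) ^ j)) ≤ 1 := by
  by_cases hW : VV r a b' ⊓ YY ((X - C p) ^ i * (X - C q) ^ j) = ⊥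
  · rw [hW, finrank_bot]; omega
  obtain ⟨w₁, hw₁, hne⟩ := Submodule.exists_mem_ne_zero_of_ne_bot hW
  refine finrank_le_one ⟨w₁, hw₁⟩ ?_
  rintro ⟨w, hw⟩
  obtain ⟨G₁, hG₁, c₁, hΦ₁, hq₁, hp₁⟩ := data r a hr b' N hN p q hp hq i j w₁ hw₁
  obtain ⟨G, hG, c, hΦ, hq', hp'⟩ := data r a hr b' N hN p q hp hq i j w hw
  have hc₁ : c₁ ≠ 0 := by
    rintro rfl
    rw [zero_smul, sub_zero] at hp₁
    have := eq_zero_of_dvd_pair N G₁ hG₁ p q hpq (i + 1) (j + 1) (by omega) hp₁ hq₁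
    rw [this, map_zero] at hΦ₁
    exact hne hΦ₁.symm
  have hH : c₁ • G - c • G₁ = 0 := by
    refine eq_zero_of_dvd_pair N _ ?_ p q hpq (i + 1) (j + 1) (by omega) ?_ ?_
    · exact Submodule.sub_mem _ (Submodule.smul_mem _ _ hG) (Submodule.smul_mem _ _ hG₁)
    · have e : c₁ • G - c • G₁ = c₁ • (G - c • EE r a) - c • (G₁ - c₁ • EE r a) := by
        rw [smul_sub, smul_sub, smul_smul, smul_smul, mul_comm c c₁]; ring
      rw [e]
      refine dvd_sub ?_ ?_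
      · rw [smul_eq_C_mul]; exact dvd_mul_of_dvd_right hp' _
      · rw [smul_eq_C_mul]; exact dvd_mul_of_dvd_right hp₁ _
    · refine dvd_sub ?_ ?_
      · rw [smul_eq_C_mul]; exact dvd_mul_of_dvd_right hq' _
      · rw [smul_eq_C_mul]; exact dvd_mul_of_dvd_right hq₁ _
  refine ⟨c / c₁, ?_⟩
  apply Subtype.ext
  rw [Submodule.coe_smul, Submodule.coe_mk, Submodule.coe_mk]
  have h2 : c₁ • w = c • w₁ := by
    rw [← hΦ, ← hΦ₁, ← map_smul, ← map_smul, ← sub_eq_zero, ← map_sub, hH, map_zero]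
  rw [div_eq_inv_mul, mul_smul, ← h2, smul_smul, inv_mul_cancel₀ hc₁, one_smul]

theorem same_le_one (hr : Function.Injective r) (b' N : ℕ) (hN : N = (∑ j, a j) + b') (p : k)
    (hp : ∀ j, p ≠ r j) (i j : ℕ) (hij : i + j + 1 = N) :
    Module.finrank k ↥(VV r a b' ⊓ YY ((X - C p) ^ i * (X - C p) ^ j)) ≤ 1 := by
  rw [← pow_add, VV_inf_unmarked r a hr b' N hN p hp (i + j)]
  refine le_trans (Submodule.finrank_map_le _ _) ?_
  rw [finrank_degLT_inf_YY]
  omega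

theorem final (a b i j : ℕ) (hi : 0 < i) (hiab : i ≤ a + b)
    (hj : i + j = a + b + 2)
    (V : Submodule k (Polynomial k))
    (hV : V = ((Ideal.span {(X : Polynomial k) ^ (a + 1)}).restrictScalars k ⊓ Polynomial.degreeLE k ↑(a + b)) ⊔
      ((Ideal.span {((X : Polynomial k) - 1) ^ (b + 1)}).restrictScalars k ⊓ Polynomial.degreeLE k ↑(a + b)) ⊔
      Submodule.span k {(X : Polynomial k) ^ (a + 1) * (X - 1) ^ (b + 1)})
    (p q : k) (hp0 : p ≠ 0) (hp1 : p ≠ 1) (hq0 : q ≠ 0) (hq1 : q ≠ 1) :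
    Module.finrank k ↥(V ⊓ (Ideal.span {(X - C p) ^ (i - 1) * (X - C q) ^ (j - 1)}).restrictScalars k) ≤ 1 := by
  have hV' : V = VV r2 (a2 a b) 1 := by rw [← V3_eq]; exact hV
  have hp : ∀ j, p ≠ r2 j := by
    intro j; fin_cases j
    · simpa [r2] using hp0
    · simpa [r2] using hp1
  have hq : ∀ j, q ≠ r2 j := by
    intro j; fin_cases j
    · simpa [r2] using hq0
    · simpa [r2] using hq1
  rw [hV']
  by_cases hpq : p = q
  · subst hpq
    exact same_le_one r2 (a2 a b) r2_inj 1 (a + b + 1) (by rw [sum_a2]) p hp (i - 1) (j - 1) (by omega)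
  · exact pair_le_one r2 (a2 a b) r2_inj 1 (a + b + 1) (by rw [sum_a2]) p q hp hq hpq (i - 1) (j - 1)
      (by omega)

end H16260

open Polynomial in
/-- Let `k` be a field of characteristic zero, `a, b, i` positive integers with `i ≤ a + b`, and `j = a
+ b + 2 - i`. On the projective line with three marked points `A = 0`, `B = 1`, `C = ∞`, the
`(a+b+1)`-dimensional linear system `V = H⁰(ω((1+a)A)) ⊕ H⁰(ω((1+b)B)) ⊕ H⁰(ω(2C)) ⊆ H⁰(ω((1+a)A +
(1+b)B + 2C)) ≅ H⁰(O(a+b+2))` becomes, in the affine coordinate, the span of the multiples of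
`X^(a+1)` of degree at most `a+b`, the multiples of `(X-1)^(b+1)` of degree at most `a+b`, and
`X^(a+1) (X-1)^(b+1)`; and `V(-iP-jQ)` is the subspace of members divisible by `(X-p)^i (X-q)^j`.
Then there are no points `P = p`, `Q = q` other than `A, B, C` (that is, `p, q ∉ {0, 1}`; `p = q`
allowed) with both `dim V(-iP-jQ) ≥ 1` and `dim V(-(i-1)P-(j-1)Q) ≥ 2`. (The published statement is
over the complex numbers.) -/
theorem result
    (k : Type*) [Field k] [CharZero k] (a b i j : ℕ) (ha : 0 < a) (hb : 0 < b) (hi : 0 < i) (hiab : i ≤ a + b)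
    (hj : i + j = a + b + 2)
    (V : Submodule k (Polynomial k))
    (hV : V = ((Ideal.span {(X : Polynomial k) ^ (a + 1)}).restrictScalars k ⊓ Polynomial.degreeLE k ↑(a + b)) ⊔
      ((Ideal.span {((X : Polynomial k) - 1) ^ (b + 1)}).restrictScalars k ⊓ Polynomial.degreeLE k ↑(a + b)) ⊔
      Submodule.span k {(X : Polynomial k) ^ (a + 1) * (X - 1) ^ (b + 1)})
    (p q : k) (hp0 : p ≠ 0) (hp1 : p ≠ 1) (hq0 : q ≠ 0) (hq1 : q ≠ 1) :
    ¬ (1 ≤ Module.finrank k ↥(V ⊓ (Ideal.span {(X - C p) ^ i * (X - C q) ^ j}).restrictScalars k) ∧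
       2 ≤ Module.finrank k ↥(V ⊓ (Ideal.span {(X - C p) ^ (i - 1) * (X - C q) ^ (j - 1)}).restrictScalars k)) := by
  rintro ⟨_, h2⟩
  have := H16260.final a b i j hi hiab hj V hV p q hp0 hp1 hq0 hq1
  omega

end Groth.Agent.S16260
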