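import Groth.Statements.S16261
import Mathlib
import Groth.Agent.Lib.Helper4.Wronsk3c

set_option autoImplicit false
open W4c3wronskmg

namespace Groth.Agent.S16261

namespace H16261
set_option linter.unusedSectionVars false
open Polynomial Groth.Agent.Lib.Helper4.Wronsk2 Groth.Agent.Lib.Helper4.Wronsk3

variable {k : Type*} [Field k] [CharZero k] {m : ℕ} (r : Fin m → k) (a : Fin m → ℕ)

theorem main (a b i j : ℕ) (hj : i + j = a + b + 2) (q : k) (hia : i ≤ a) :
    V3 (k := k) a b ⊓ YY (X ^ i * (X - C q) ^ j) = ⊥ := by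
  rw [eq_bot_iff]
  rintro h ⟨hV, hY⟩
  rw [SetLike.mem_coe, mem_YY] at hY
  rw [SetLike.mem_coe, V3_eq, VV_eq r2 (a2 a b) r2_inj 1 (a + b + 1) (by rw [sum_a2])] at hV
  obtain ⟨G, hG, rfl⟩ := hV
  rw [Submodule.mem_bot]
  have hX : (X : k[X]) = X - C (r2 0) := by simp [r2]
  by_cases hq : q = 0
  · subst hq
    have h1 : (X - C (r2 (k := k) 0)) ^ (i + j) ∣ Phi r2 (a2 a b) G := by
      rw [← hX, pow_add]; simpa using hY
    obtain ⟨c, hc⟩ := marked_lemma r2 (a2 a b) r2_inj 0 (i + j) G h1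
    refine Phi_eq_zero_of_dvd r2 (a2 a b) (a + b + 1) (by rw [sum_a2]; omega) G hG c _
      ((monic_X_sub_C _).pow _) ?_ hc
    rw [(monic_X_sub_C _).natDegree_pow, natDegree_X_sub_C]; omega
  · obtain ⟨c, hc⟩ := point_lemma r2 (a2 a b) r2_inj q j G (dvd_trans (dvd_mul_left _ _) hY)
    have hXE : (X : k[X]) ^ i ∣ EE r2 (a2 a b) := by
      rw [EE_eq r2 (a2 a b) 0, ← hX]
      exact dvd_mul_of_dvd_left (pow_dvd_pow _ hia) _
    have h1 : (X - C (r2 (k := k) 0)) ^ i ∣ Phi r2 (a2 a b) G := by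
      rw [← hX]; exact dvd_trans (dvd_mul_right _ _) hY
    obtain ⟨c₁, hc₁⟩ := marked_lemma r2 (a2 a b) r2_inj 0 i G h1
    rw [← hX] at hc₁
    have hXG : (X : k[X]) ^ i ∣ G - c • EE r2 (a2 a b) := by
      have e : G - c • EE r2 (a2 a b) = (G - c₁ • EE r2 (a2 a b)) + (c₁ - c) • EE r2 (a2 a b) := by
        rw [sub_smul]; ring
      rw [e]
      refine dvd_add hc₁ ?_
      rw [smul_eq_C_mul]
      exact dvd_mul_of_dvd_right hXE _
    have hcop : IsCoprime ((X : k[X]) ^ i) ((X - C q) ^ j) := by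
      apply IsCoprime.pow
      have h0 : IsCoprime (X - C (0:k)) (X - C q) :=
        isCoprime_X_sub_C_of_isUnit_sub (by simpa using hq)
      simpa using h0
    have hdvd := hcop.mul_dvd hXG hc
    refine Phi_eq_zero_of_dvd r2 (a2 a b) (a + b + 1) (by rw [sum_a2]; omega) G hG c _
      ((monic_X_pow _).mul ((monic_X_sub_C _).pow _)) ?_ hdvd
    rw [(monic_X_pow _).natDegree_mul ((monic_X_sub_C _).pow _), natDegree_X_pow,
      (monic_X_sub_C _).natDegree_pow, natDegree_X_sub_C]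
    omega

theorem final (a b i j : ℕ)
    (hj : i + j = a + b + 2)
    (V : Submodule k (Polynomial k))
    (hV : V = ((Ideal.span {(X : Polynomial k) ^ (a + 1)}).restrictScalars k ⊓ Polynomial.degreeLE k ↑(a + b)) ⊔
      ((Ideal.span {((X : Polynomial k) - 1) ^ (b + 1)}).restrictScalars k ⊓ Polynomial.degreeLE k ↑(a + b)) ⊔
      Submodule.span k {(X : Polynomial k) ^ (a + 1) * (X - 1) ^ (b + 1)})
    (q : k)
    (h1 : 1 ≤ Module.finrank k ↥(V ⊓ (Ideal.span {(X : Polynomial k) ^ i * (X - C q) ^ j}).restrictScalars k)) :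
    a + 1 ≤ i := by
  by_contra hcon
  have hia : i ≤ a := by omega
  have hV' : V = V3 a b := hV
  have := main (k := k) a b i j hj q hia
  rw [hV'] at h1
  unfold YY at this
  rw [this, finrank_bot] at h1
  omega

end H16261

open Polynomial in
/-- With `k` of characteristic zero, `a, b, i` positive, `i ≤ a + b`, `j = a + b + 2 - i` and `V ⊆ k[X]`
the linear system of the first assertion (marked points `A = 0`, `B = 1`, `C = ∞`; `V` spanned by
the multiples of `X^(a+1)` of degree at most `a+b`, the multiples of `(X-1)^(b+1)` of degree at most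
`a+b`, and `X^(a+1) (X-1)^(b+1)`): if the point `P` is put at `A` and `Q = q` is any point other
than `C`, and both `dim V(-iA-jQ) ≥ 1` and `dim V(-(i-1)A-(j-1)Q) ≥ 2` hold, then `i ≥ a + 1`. (The
published statement is over the complex numbers.) -/
theorem result
    (k : Type*) [Field k] [CharZero k] (a b i j : ℕ) (ha : 0 < a) (hb : 0 < b) (hi : 0 < i) (hiab : i ≤ a + b)
    (hj : i + j = a + b + 2)
    (V : Submodule k (Polynomial k))
    (hV : V = ((Ideal.span {(X : Polynomial k) ^ (a + 1)}).restrictScalars k ⊓ Polynomial.degreeLE k ↑(a + b)) ⊔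
      ((Ideal.span {((X : Polynomial k) - 1) ^ (b + 1)}).restrictScalars k ⊓ Polynomial.degreeLE k ↑(a + b)) ⊔
      Submodule.span k {(X : Polynomial k) ^ (a + 1) * (X - 1) ^ (b + 1)})
    (q : k)
    (h1 : 1 ≤ Module.finrank k ↥(V ⊓ (Ideal.span {(X : Polynomial k) ^ i * (X - C q) ^ j}).restrictScalars k))
    (h2 : 2 ≤ Module.finrank k ↥(V ⊓ (Ideal.span {(X : Polynomial k) ^ (i - 1) * (X - C q) ^ (j - 1)}).restrictScalars k)) :
    a + 1 ≤ i := by
  exact H16261.final a b i j hj V hV q h1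

end Groth.Agent.S16261
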