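import Groth.Statements.S16262
import Mathlib
import Groth.Agent.Lib.Helper4.Wronsk3b

set_option autoImplicit false
open W4c3wronskmg

namespace Groth.Agent.S16262

namespace H16262
open Polynomial Groth.Agent.Lib.Helper4.Wronsk2 Groth.Agent.Lib.Helper4.Wronsk3
set_option linter.unusedSectionVars false

variable {k : Type*} [Field k] [CharZero k]

theorem main (a b i : ℕ) (ha : 0 < a) (hb : 0 < b) (hi : 0 < i) (hiab : i < a + b)
    (V : Submodule k (Polynomial k))
    (hV : V = Polynomial.degreeLE k ↑(a + b - i) ⊓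
      LinearMap.ker ((Polynomial.lcoeff k a).comp (LinearMap.mulLeft k (((X : Polynomial k) + 1) ^ i))))
    (q : k) (hq : q ≠ 0) :
    Module.finrank k ↥(V ⊓ YY ((X - C q) ^ (a + b - i - 1))) ≤ 1 := by
  obtain ⟨n, hn⟩ : ∃ n, a + b - i = n + 1 := ⟨a + b - i - 1, by omega⟩
  rw [hV, hn, Nat.add_sub_cancel, ← degreeLT_succ_eq_degreeLE]
  by_contra hcon
  push Not at hcon
  set μ := (Polynomial.lcoeff k a).comp (LinearMap.mulLeft k (((X : Polynomial k) + 1) ^ i)) with hμ
  have hle : degreeLT k (n + 1 + 1) ⊓ LinearMap.ker μ ⊓ YY ((X - C q) ^ n) ≤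
      degreeLT k (n + 1 + 1) ⊓ YY ((X - C q) ^ n) := inf_le_inf_right _ inf_le_left
  have hfr := finrank_degLT_inf_YY (k := k) q (n + 1 + 1) n
  have heq := Submodule.eq_of_le_of_finrank_le hle (by rw [hfr]; omega)
  have hmem : ∀ P : k[X], P ∈ degreeLT k (n + 1 + 1) → (X - C q) ^ n ∣ P → μ P = 0 := by
    intro P hP1 hP2
    have : P ∈ degreeLT k (n + 1 + 1) ⊓ YY ((X - C q) ^ n) := ⟨hP1, (mem_YY _ _).2 hP2⟩
    rw [← heq] at this
    exact this.1.2
  have h1 := hmem _ (degreeLT_mono (by omega) (X_sub_C_pow_mem_degLT q n)) dvd_rfl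
  have h2 := hmem ((X - C q) ^ n * X) (by
    apply mem_degLT_of_natDegree_lt
    rw [((monic_X_sub_C q).pow n).natDegree_mul monic_X, (monic_X_sub_C q).natDegree_pow,
      natDegree_X_sub_C, natDegree_X]; omega) (dvd_mul_right _ _)
  have eX : ((X : k[X]) + 1) = X - C (-1) := by simp
  have hP : ((X : k[X]) + 1) ^ i * (X - C q) ^ n = PP (-1) q i n := by rw [eX]; rfl
  rw [hμ, LinearMap.comp_apply, LinearMap.mulLeft_apply, lcoeff_apply] at h1 h2
  rw [hP] at h1
  rw [← mul_assoc, hP] at h2
  obtain ⟨t, rfl⟩ : ∃ t, a = t + 1 := ⟨a - 1, by omega⟩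
  rw [coeff_mul_X] at h2
  exact PP_tcz (-1) q (by norm_num) hq i n t (by omega) h2 h1

end H16262

open Polynomial in
/-- Let `k` be a field of characteristic zero and `a, b, i` positive integers with `i < a + b`. On the
projective line with `A = 0`, `B = ∞`, `P = -1`, the system `V_{a,b} = H⁰(ω((1+a)A)) ⊕ H⁰(ω((1+b)B))
⊆ H⁰(O(a+b))` is the space of polynomials of degree at most `a+b` with vanishing coefficient of
`X^a`, and `V = V_{a,b}(-iP)` (divided by `(X+1)^i`) is the space of `G` of degree at most `a+b-i`
such that the coefficient of `X^a` in `(X+1)^i G` vanishes; it is a linear system of dimension and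
degree `a+b-i`. Then no point of the projective line other than `A` and `B` is a special
ramification point of `V` (a point of weight at least two); for such a system a point `q` of the
affine line is special exactly when two independent members are divisible by `(X-q)^(a+b-i-1)`, so
the statement is that this fails for every `q ≠ 0`. (The published statement does not except `A` and
`B`, but `A` has weight `max(b-i, 0)` in `V`, which is `2` for `a = 1, b = 3, i = 1`: there `X^3`
and `X^2` both lie in `V`. It is stated over the complex numbers.) -/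
theorem result
    (k : Type*) [Field k] [CharZero k] (a b i : ℕ) (ha : 0 < a) (hb : 0 < b) (hi : 0 < i) (hiab : i < a + b)
    (V : Submodule k (Polynomial k))
    (hV : V = Polynomial.degreeLE k ↑(a + b - i) ⊓
      LinearMap.ker ((Polynomial.lcoeff k a).comp (LinearMap.mulLeft k (((X : Polynomial k) + 1) ^ i))))
    (q : k) (hq : q ≠ 0) :
    Module.finrank k ↥(V ⊓ (Ideal.span {(X - C q) ^ (a + b - i - 1)}).restrictScalars k) ≤ 1 := by
  exact H16262.main a b i ha hb hi hiab V hV q hq

end Groth.Agent.S16262
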