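import Groth.Statements.S16263
import Mathlib
import Groth.Agent.Lib.Helper4.Wronsk3

set_option autoImplicit false
open W4c3wronskmg

namespace Groth.Agent.S16263

namespace H16263
open Polynomial Groth.Agent.Lib.Helper4.Wronsk2 Groth.Agent.Lib.Helper4.Wronsk3
set_option linter.unusedSectionVars false

variable {k : Type*} [Field k] [CharZero k]

theorem main (a : ℕ) (ha : 0 < a) (V : Submodule k (Polynomial k)) (hV : V = V2 a) :
    (∀ p : k, Module.finrank k ↥(V ⊓ YY ((X - C p) ^ a)) ≤ 1) ∧
      Module.finrank k ↥(V ⊓ Polynomial.degreeLT k 2) ≤ 1 := by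
  rw [hV, V2_eq]
  constructor
  · intro p
    by_contra hcon
    push Not at hcon
    have hle : degreeLT k (a + 2) ⊓ LinearMap.ker lam ⊓ YY ((X - C p) ^ a) ≤
        degreeLT k (a + 2) ⊓ YY ((X - C p) ^ a) := inf_le_inf_right _ inf_le_left
    have hfr := finrank_degLT_inf_YY (k := k) p (a + 2) a
    have heq := Submodule.eq_of_le_of_finrank_le hle (by rw [hfr]; omega)
    have hmem : ∀ P : k[X], P ∈ degreeLT k (a + 2) → (X - C p) ^ a ∣ P → lam P = 0 := by
      intro P hP1 hP2
      have : P ∈ degreeLT k (a + 2) ⊓ YY ((X - C p) ^ a) := ⟨hP1, (mem_YY _ _).2 hP2⟩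
      rw [← heq] at this
      exact this.1.2
    have h1 := hmem _ (degreeLT_mono (by omega) (X_sub_C_pow_mem_degLT p a)) dvd_rfl
    have h2 := hmem _ (X_sub_C_pow_mem_degLT p (a + 1)) (pow_dvd_pow _ (by omega))
    simp only [lam_apply, eval_pow, eval_sub, eval_X, eval_C, sub_eq_zero] at h1 h2
    set u : k := 0 - p with hu
    set v : k := -1 - p with hv
    have huv : u - v = 1 := by rw [hu, hv]; ring
    have h3 : (u - v) * u ^ a = 0 := by
      have : u ^ (a + 1) = u * u ^ a := pow_succ' u a
      have e2 : v ^ (a + 1) = v * v ^ a := pow_succ' v a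
      rw [this, e2, ← h1] at h2
      linear_combination h2
    rw [huv, one_mul] at h3
    have ha0 : a ≠ 0 := by omega
    have hu0 : u = 0 := (pow_eq_zero_iff ha0).1 h3
    have hv0 : v = 0 := by
      rw [h3] at h1
      exact (pow_eq_zero_iff ha0).1 h1.symm
    rw [hu0, hv0] at huv
    simp at huv
  · by_contra hcon
    push Not at hcon
    have hle : degreeLT k (a + 2) ⊓ LinearMap.ker lam ⊓ degreeLT k 2 ≤ degreeLT k 2 := inf_le_right
    have heq := Submodule.eq_of_le_of_finrank_le hle (by rw [finrank_degLT]; omega)
    have hX : (X : k[X]) ∈ degreeLT k 2 := by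
      apply mem_degLT_of_natDegree_lt
      rw [natDegree_X]; omega
    rw [← heq] at hX
    have := hX.1.2
    rw [SetLike.mem_coe, LinearMap.mem_ker, lam_apply] at this
    simp at this

end H16263

open Polynomial in
/-- Let `k` be a field of characteristic zero and `a` a positive integer. On the projective line with `A
= 0`, `B = -1`, `C = ∞`, the `(a+1)`-dimensional system `V = H⁰(ω((1+a)C)) ⊕ H⁰(ω(A+B)) ⊆
H⁰(ω((1+a)C + A + B)) ≅ H⁰(O(a+1))` is, in the affine coordinate, the space of polynomials `c + X
(X+1) F` with `c` a constant and `deg F ≤ a - 1`. Then `V` has no special ramification point (no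
point of weight at least two): since the members have degree at most `a + 1`, this says that for
every point `p` of the affine line at most a one-dimensional subspace of `V` is divisible by
`(X-p)^a`, and at `C` that at most a one-dimensional subspace has degree at most one (degree less
than two). (The published statement carries two further positive integers `i, j` with `i + j = a -
1`, used only in its second assertion, and is over the complex numbers.) -/
theorem result
    (k : Type*) [Field k] [CharZero k] (a : ℕ) (ha : 0 < a)
    (V : Submodule k (Polynomial k))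
    (hV : V = Submodule.span k {(1 : Polynomial k)} ⊔
      ((Ideal.span {(X : Polynomial k) * (X + 1)}).restrictScalars k ⊓ Polynomial.degreeLE k ↑(a + 1))) :
    (∀ p : k, Module.finrank k ↥(V ⊓ (Ideal.span {(X - C p) ^ a}).restrictScalars k) ≤ 1) ∧
      Module.finrank k ↥(V ⊓ Polynomial.degreeLT k 2) ≤ 1 := by
  exact H16263.main a ha V hV

end Groth.Agent.S16263
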