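import Groth.Statements.S16264
import Mathlib
import Groth.Agent.Lib.Helper4.Wronsk3

set_option autoImplicit false
open W4c3wronskmg

namespace Groth.Agent.S16264

namespace H16264
open Polynomial Groth.Agent.Lib.Helper4.Wronsk2 Groth.Agent.Lib.Helper4.Wronsk3
set_option linter.unusedSectionVars false

variable {k : Type*} [Field k] [CharZero k]

theorem main (a i j : ℕ) (hi : 0 < i) (hj : 0 < j) (hij : i + j + 1 = a)
    (V : Submodule k (Polynomial k)) (hV : V = V2 a) (p q : k) :
    3 ≤ Module.finrank k ↥(V ⊓ YY ((X - C p) ^ i * (X - C q) ^ j)) ↔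
      (p = 0 ∧ q = -1) ∨ (p = -1 ∧ q = 0) := by
  rw [hV, V2_eq]
  obtain ⟨M, hM⟩ : ∃ M : k[X], M = (X - C p) ^ i * (X - C q) ^ j := ⟨_, rfl⟩
  rw [← hM]
  have hMm : M.Monic := by rw [hM]; exact ((monic_X_sub_C p).pow i).mul ((monic_X_sub_C q).pow j)
  have hMd : M.natDegree = i + j := by
    rw [hM, ((monic_X_sub_C p).pow i).natDegree_mul ((monic_X_sub_C q).pow j),
      (monic_X_sub_C p).natDegree_pow, (monic_X_sub_C q).natDegree_pow, natDegree_X_sub_C,
      natDegree_X_sub_C, mul_one, mul_one]
  have hfr := finrank_degLT_inf_YY_monic (k := k) M hMm (a + 2)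
  rw [hMd] at hfr
  have hM0 : M.eval 0 = (0 - p) ^ i * (0 - q) ^ j := by rw [hM]; simp
  have hM1 : M.eval (-1) = (-1 - p) ^ i * (-1 - q) ^ j := by rw [hM]; simp
  have hle : degreeLT k (a + 2) ⊓ LinearMap.ker lam ⊓ YY M ≤ degreeLT k (a + 2) ⊓ YY M :=
    inf_le_inf_right _ inf_le_left
  have hfd : FiniteDimensional k ↥(degreeLT k (a + 2) ⊓ YY M) :=
    Submodule.finiteDimensional_inf_left _ _
  constructor
  · intro h3
    have heq := Submodule.eq_of_le_of_finrank_le hle (by rw [hfr]; omega)
    have hmem : ∀ P : k[X], P ∈ degreeLT k (a + 2) → M ∣ P → lam P = 0 := by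
      intro P hP1 hP2
      have : P ∈ degreeLT k (a + 2) ⊓ YY M := ⟨hP1, (mem_YY _ _).2 hP2⟩
      rw [← heq] at this
      exact this.1.2
    have h1 := hmem M (by apply mem_degLT_of_natDegree_lt; rw [hMd]; omega) dvd_rfl
    have h2 := hmem (M * X) (by
      apply mem_degLT_of_natDegree_lt
      rw [hMm.natDegree_mul monic_X, hMd, natDegree_X]; omega) (dvd_mul_right _ _)
    rw [lam_apply, eval_mul, eval_mul, eval_X, eval_X] at h2
    rw [lam_apply] at h1
    have hm1 : M.eval (-1) = 0 := by linear_combination h2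
    have hm0 : M.eval 0 = 0 := by rw [hm1, sub_zero] at h1; exact h1
    rw [hM0] at hm0
    rw [hM1] at hm1
    have hi0 : i ≠ 0 := by omega
    have hj0 : j ≠ 0 := by omega
    have c0 : p = 0 ∨ q = 0 := by
      rcases mul_eq_zero.1 hm0 with h | h
      · left
        have := (pow_eq_zero_iff hi0).1 h
        linear_combination -this
      · right
        have := (pow_eq_zero_iff hj0).1 h
        linear_combination -this
    have c1 : p = -1 ∨ q = -1 := by
      rcases mul_eq_zero.1 hm1 with h | h
      · left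
        have := (pow_eq_zero_iff hi0).1 h
        linear_combination -this
      · right
        have := (pow_eq_zero_iff hj0).1 h
        linear_combination -this
    have hne : (0 : k) ≠ -1 := by
      intro h
      have : (1 : k) = 0 := by linear_combination h
      exact one_ne_zero this
    rcases c0 with h0 | h0 <;> rcases c1 with h1' | h1'
    · exact absurd (h0.symm.trans h1') hne
    · exact Or.inl ⟨h0, h1'⟩
    · exact Or.inr ⟨h1', h0⟩
    · exact absurd (h0.symm.trans h1') hne
  · intro hpq
    have hm0 : M.eval 0 = 0 := by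
      rw [hM0]
      rcases hpq with ⟨h, -⟩ | ⟨-, h⟩
      · rw [h, sub_zero, zero_pow (by omega), zero_mul]
      · rw [h, sub_zero, zero_pow (by omega), mul_zero]
    have hm1 : M.eval (-1) = 0 := by
      rw [hM1]
      rcases hpq with ⟨-, h⟩ | ⟨h, -⟩
      · rw [h, sub_self, zero_pow (by omega), mul_zero]
      · rw [h, sub_self, zero_pow (by omega), zero_mul]
    have hle2 : degreeLT k (a + 2) ⊓ YY M ≤ degreeLT k (a + 2) ⊓ LinearMap.ker lam ⊓ YY M := by
      rintro x ⟨hx1, hx2⟩
      refine ⟨⟨hx1, ?_⟩, hx2⟩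
      rw [SetLike.mem_coe, mem_YY] at hx2
      obtain ⟨g, rfl⟩ := hx2
      rw [SetLike.mem_coe, LinearMap.mem_ker, lam_apply, eval_mul, eval_mul, hm0, hm1]
      ring
    have hfd2 : FiniteDimensional k ↥(degreeLT k (a + 2) ⊓ LinearMap.ker lam ⊓ YY M) :=
      Submodule.finiteDimensional_of_le hle
    have := Submodule.finrank_mono hle2
    rw [hfr] at this
    omega

end H16264

open Polynomial in
/-- Let `k` be a field of characteristic zero and `a, i, j` positive integers with `i + j = a - 1`. With
`A = 0`, `B = -1`, `C = ∞` on the projective line and `V` the `(a+1)`-dimensional system of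
polynomials `c + X (X+1) F`, `deg F ≤ a - 1` (that is, `H⁰(ω((1+a)C)) ⊕ H⁰(ω(A+B)) ⊆ H⁰(O(a+1))`),
the pairs of points `(P, Q) = (p, q)` of the affine line with `dim V(-iP-jQ) ≥ 3`, i.e. with at
least a three-dimensional subspace of `V` divisible by `(X-p)^i (X-q)^j`, are exactly `(A, B)` and
`(B, A)`. (Here `P, Q` range over the points other than `C`; when one of them is `C` the dimension
is at most two for degree reasons. The published statement is over the complex numbers.) -/
theorem result
    (k : Type*) [Field k] [CharZero k] (a i j : ℕ) (hi : 0 < i) (hj : 0 < j) (hij : i + j + 1 = a)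
    (V : Submodule k (Polynomial k))
    (hV : V = Submodule.span k {(1 : Polynomial k)} ⊔
      ((Ideal.span {(X : Polynomial k) * (X + 1)}).restrictScalars k ⊓ Polynomial.degreeLE k ↑(a + 1)))
    (p q : k) :
    3 ≤ Module.finrank k ↥(V ⊓ (Ideal.span {(X - C p) ^ i * (X - C q) ^ j}).restrictScalars k) ↔
      (p = 0 ∧ q = -1) ∨ (p = -1 ∧ q = 0) := by
  exact H16264.main a i j hi hj hij V hV p q

end Groth.Agent.S16264
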