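import Groth.Statements.S16268
import Mathlib
import Groth.Prelude.Def_EtBase
import Groth.Prelude.Def_EtCore
-- import your own Groth.Agent.* helpers here

set_option autoImplicit false
universe u w
open CategoryTheory CategoryTheory.Limits AlgebraicGeometry Opposite
open EtCore

namespace Groth.Agent.S16268

open CategoryTheory CategoryTheory.Limits AlgebraicGeometry Opposite
open EtCore
namespace Aux
set_option linter.unusedSectionVars false

universe v₁ u₁

theorem galois_sheaf_iff {C : Type u₁} [Category.{v₁} C] {T : C} (hT : IsTerminal T) (Y : C)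
    [HasBinaryProduct Y Y] {G : Type u} [Group G] (σ : G →* Aut Y) (P : Cᵒᵖ ⥤ Type w)
    (hP : Function.Injective (fun s : P.obj (op (Y ⨯ Y)) => fun g : G =>
      P.map (prod.lift (𝟙 Y) (σ g).hom).op s)) :
    Presieve.IsSheafFor P (Presieve.singleton (hT.from Y)) ↔
      (Function.Injective (P.map (hT.from Y).op) ∧
        Set.range (P.map (hT.from Y).op) = {s | ∀ g : G, P.map (σ g).hom.op s = s}) := by
  have e : Presieve.singleton (hT.from Y) =
      Presieve.ofArrows (fun _ : PUnit.{1} => Y) (fun _ => hT.from Y) :=
    (Presieve.ofArrows_pUnit _).symm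
  rw [e, Presieve.isSheafFor_arrows_iff]
  have hcompat : ∀ x : P.obj (op Y), (∀ g : G, P.map (σ g).hom.op x = x) →
      Presieve.Arrows.Compatible P (fun _ : PUnit.{1} => hT.from Y) (fun _ => x) := by
    intro x hx i j Z gi gj _
    show P.map gi.op x = P.map gj.op x
    have h1 : gi = prod.lift gi gj ≫ prod.fst := by rw [prod.lift_fst]
    have h2 : gj = prod.lift gi gj ≫ prod.snd := by rw [prod.lift_snd]
    have key : P.map (prod.fst : Y ⨯ Y ⟶ Y).op x = P.map (prod.snd : Y ⨯ Y ⟶ Y).op x := by
      apply hP
      funext g
      show P.map (prod.lift (𝟙 Y) (σ g).hom).op _ = P.map (prod.lift (𝟙 Y) (σ g).hom).op _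
      rw [← Functor.map_comp_apply, ← Functor.map_comp_apply, ← op_comp, ← op_comp,
        prod.lift_fst, prod.lift_snd, hx g]
      simp
    conv_lhs => rw [h1]
    conv_rhs => rw [h2]
    rw [op_comp, op_comp, Functor.map_comp_apply, Functor.map_comp_apply, key]
  constructor
  · intro h
    constructor
    · intro a b hab
      have hc : Presieve.Arrows.Compatible P (fun _ : PUnit.{1} => hT.from Y)
          (fun _ => P.map (hT.from Y).op a) := by
        intro i j Z gi gj _
        show P.map gi.op (P.map (hT.from Y).op a) = P.map gj.op (P.map (hT.from Y).op a)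
        rw [← Functor.map_comp_apply, ← Functor.map_comp_apply, ← op_comp, ← op_comp,
          hT.hom_ext (gi ≫ hT.from Y) (gj ≫ hT.from Y)]
      obtain ⟨t, _, ht⟩ := h _ hc
      rw [ht a (fun _ => rfl), ht b (fun _ => hab.symm)]
    · ext x
      simp only [Set.mem_range, Set.mem_ofPred_eq]
      constructor
      · rintro ⟨a, rfl⟩ g
        rw [← Functor.map_comp_apply, ← op_comp, hT.hom_ext ((σ g).hom ≫ hT.from Y) (hT.from Y)]
      · intro hx
        obtain ⟨t, ht, _⟩ := h _ (hcompat x hx)
        exact ⟨t, ht PUnit.unit⟩
  · rintro ⟨hinj, hrange⟩ x hx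
    have hinv : ∀ g : G, P.map (σ g).hom.op (x PUnit.unit) = x PUnit.unit := by
      intro g
      have := hx PUnit.unit PUnit.unit Y (σ g).hom (𝟙 Y) (hT.hom_ext _ _)
      rw [this]
      simp
    have hmem : x PUnit.unit ∈ Set.range (P.map (hT.from Y).op) := by
      rw [hrange]; exact hinv
    obtain ⟨a, ha⟩ := hmem
    refine ⟨a, fun _ => ha, fun b hb => ?_⟩
    apply hinj
    rw [hb PUnit.unit, ha]

end Aux

/-- Let X be a scheme, Y an etale X-scheme with Y -> X surjective, and G a finite group acting on Y by
X-automorphisms such that the morphisms (id, g) : Y -> Y x_X Y exhibit Y x_X Y as the coproduct of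
copies of Y indexed by G (Y -> X is a Galois covering with group G). Let P be a presheaf of sets on
the small etale site of X which takes this coproduct to a product: s |-> (g |-> (id, g)^* s) is a
bijection from P(Y x_X Y) onto the G-indexed families in P(Y). Then P satisfies the sheaf condition
for the covering consisting of the single morphism Y -> X if and only if the restriction P(X) ->
P(Y) is injective and its image is the set of G-invariant elements of P(Y). -/
theorem result (X : Scheme.{u})
    (Y : X.Etale) (hY : Function.Surjective Y.hom.base)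
    {G : Type u} [Group G] [Finite G] (σ : G →* Aut Y)
    (hgal : Nonempty (IsColimit (Cofan.mk (Y ⨯ Y) (fun g : G => prod.lift (𝟙 Y) (σ g).hom))))
    (P : X.Etaleᵒᵖ ⥤ Type w)
    (hP : Function.Bijective (fun s : P.obj (op (Y ⨯ Y)) => fun g : G => P.map (prod.lift (𝟙 Y) (σ g).hom).op s)) :
    Presieve.IsSheafFor P (Presieve.singleton ((EtCore.topIsTerminal X).from Y)) ↔
      (Function.Injective (P.map ((EtCore.topIsTerminal X).from Y).op) ∧
        Set.range (P.map ((EtCore.topIsTerminal X).from Y).op) = {s | ∀ g : G, P.map (σ g).hom.op s = s}) := by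
  exact Aux.galois_sheaf_iff (EtCore.topIsTerminal X) Y σ P hP.1

end Groth.Agent.S16268
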