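import Groth.Statements.S16269
import Mathlib
import Groth.Prelude.Def_EtBase
import Groth.Prelude.Def_EtCore
import Groth.Agent.S16268
-- import your own Groth.Agent.* helpers here

set_option autoImplicit false
universe u w
open CategoryTheory CategoryTheory.Limits AlgebraicGeometry Opposite
open EtCore

namespace Groth.Agent.S16269

open CategoryTheory CategoryTheory.Limits AlgebraicGeometry Opposite
open EtCore
namespace Aux
set_option linter.unusedSectionVars false
set_option backward.isDefEq.respectTransparency false
set_option linter.style.haveILetI false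

/-- legs of a colimit cofan in the small étale site are jointly surjective -/
theorem jointly_surj {X : Scheme.{u}} {W : X.Etale} {ι : Type u} {Z : ι → X.Etale}
    (f : ∀ i, Z i ⟶ W) (h : Nonempty (IsColimit (Cofan.mk W f))) :
    ⋃ i, Set.range (f i).left = Set.univ := by
  obtain ⟨h⟩ := h
  have hopen : ∀ i, IsOpen (Set.range (f i).left) := by
    intro i
    have : Etale (f i).left := by
      have h1 : Etale ((f i).left ≫ W.hom) := by
        have : (f i).left ≫ W.hom = (Z i).hom := by simp
        rw [this]; exact (Z i).prop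
      have h2 : Etale W.hom := W.prop
      exact Etale.of_comp (f i).left W.hom
    exact (f i).left.isOpenMap.isOpen_range
  let U : W.left.Opens := ⟨⋃ i, Set.range (f i).left, isOpen_iUnion hopen⟩
  have hW : Etale W.hom := W.prop
  let Uo : X.Etale := Scheme.Etale.mk (U.ι ≫ W.hom)
  have hsub : ∀ i, Set.range (f i).left ⊆ Set.range U.ι := by
    intro i
    rw [Scheme.Opens.range_ι]
    exact Set.subset_iUnion (fun i => Set.range (f i).left) i
  let g : ∀ i, Z i ⟶ Uo := fun i =>
    MorphismProperty.Over.homMk (IsOpenImmersion.lift U.ι (f i).left (hsub i)) (by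
      show IsOpenImmersion.lift U.ι (f i).left (hsub i) ≫ (U.ι ≫ W.hom) = (Z i).hom
      rw [← Category.assoc, IsOpenImmersion.lift_fac]; simp)
  let j : Uo ⟶ W := MorphismProperty.Over.homMk U.ι (by rfl)
  have hgj : ∀ i, g i ≫ j = f i := by
    intro i
    apply MorphismProperty.Over.Hom.ext
    show IsOpenImmersion.lift U.ι (f i).left (hsub i) ≫ U.ι = (f i).left
    exact IsOpenImmersion.lift_fac _ _ _
  let r : W ⟶ Uo := Cofan.IsColimit.desc h g
  have hr : ∀ i, f i ≫ r = g i := fun i => Cofan.IsColimit.fac h g i
  have hid : r ≫ j = 𝟙 W := by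
    apply Cofan.IsColimit.hom_ext h
    intro i
    show f i ≫ r ≫ j = f i ≫ 𝟙 W
    rw [← Category.assoc, hr, hgj, Category.comp_id]
  have hid' : r.left ≫ U.ι = 𝟙 W.left := by
    have := congrArg (fun k => k.left) hid
    exact this
  ext x
  simp only [Set.mem_univ, iff_true]
  have hx : x ∈ Set.range U.ι := by
    refine ⟨r.left x, ?_⟩
    have := congrArg (fun k : W.left ⟶ W.left => k x) hid'
    exact this
  rw [Scheme.Opens.range_ι] at hx
  exact hx


theorem sep_of_cover {X : Scheme.{u}} (P : X.Etaleᵒᵖ ⥤ Type w)
    (hP : Presheaf.IsSheaf X.smallEtaleTopology P)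
    {W : X.Etale} {ι : Type u} {Z : ι → X.Etale}
    (f : ∀ i, Z i ⟶ W) (h : ⋃ i, Set.range (f i).left = Set.univ) :
    Function.Injective (fun s : P.obj (op W) => fun i : ι => P.map (f i).op s) := by
  have hmem : Sieve.ofArrows _ f ∈ X.smallEtaleTopology W :=
    (Scheme.ofArrows_mem_smallEtaleTopology_iff f).2 h
  have h1 : Presieve.IsSheafFor P (Presieve.ofArrows Z f) := by
    rw [Presieve.isSheafFor_iff_generate]
    exact hP.isSheafFor _ hmem
  rw [Presieve.isSheafFor_arrows_iff] at h1
  intro s₁ s₂ h12
  have hc : Presieve.Arrows.Compatible P f (fun i => P.map (f i).op s₁) := by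
    intro i j V gi gj hg
    show P.map gi.op (P.map (f i).op s₁) = P.map gj.op (P.map (f j).op s₁)
    rw [← Functor.map_comp_apply, ← Functor.map_comp_apply, ← op_comp, ← op_comp, hg]
  obtain ⟨t, _, ht⟩ := h1 _ hc
  rw [ht s₁ (fun _ => rfl), ht s₂ (fun i => (congrFun h12 i).symm)]

theorem main (X : Scheme.{u})
    (Y : X.Etale) (hY : Function.Surjective Y.hom.base)
    {G : Type u} [Group G] [Finite G] (σ : G →* Aut Y)
    (hgal : Nonempty (IsColimit (Cofan.mk (Y ⨯ Y) (fun g : G => prod.lift (𝟙 Y) (σ g).hom))))
    (F : EtCoh.Ab X) :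
    Function.Injective (F.obj.map ((EtCore.topIsTerminal X).from Y).op) ∧
      Set.range (F.obj.map ((EtCore.topIsTerminal X).from Y).op) =
        {s : EtCoh.sect F Y | ∀ g : G, F.obj.map (σ g).hom.op s = s} := by
  let P : X.Etaleᵒᵖ ⥤ Type (u+1) := F.obj ⋙ forget AddCommGrpCat.{u+1}
  have hP : Presheaf.IsSheaf X.smallEtaleTopology P :=
    Presheaf.isSheaf_comp_of_isSheaf _ _ _ F.property
  have hinj := sep_of_cover P hP (fun g : G => prod.lift (𝟙 Y) (σ g).hom)
    (jointly_surj _ hgal)
  have hcov : Presieve.IsSheafFor P (Presieve.singleton ((EtCore.topIsTerminal X).from Y)) := by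
    have e : Presieve.singleton ((EtCore.topIsTerminal X).from Y) =
        Presieve.ofArrows (fun _ : PUnit.{1} => Y) (fun _ => (EtCore.topIsTerminal X).from Y) :=
      (Presieve.ofArrows_pUnit _).symm
    rw [e, Presieve.isSheafFor_iff_generate]
    apply hP.isSheafFor
    show Sieve.ofArrows _ _ ∈ _
    rw [Scheme.ofArrows_mem_smallEtaleTopology_iff]
    ext x
    simp only [Set.mem_iUnion, Set.mem_range, Set.mem_univ, iff_true]
    obtain ⟨y, hy⟩ := hY x
    refine ⟨PUnit.unit, y, ?_⟩
    rw [← hy]
    have : ((EtCore.topIsTerminal X).from Y).left = Y.hom := by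
      have := ((EtCore.topIsTerminal X).from Y).w
      exact ((Category.comp_id _).symm.trans this)
    rw [this]
    rfl
  exact (Groth.Agent.S16268.Aux.galois_sheaf_iff (EtCore.topIsTerminal X) Y σ P hinj).1 hcov

end Aux

/-- Let X be a scheme, Y an etale X-scheme with Y -> X surjective, and G a finite group acting on Y by
X-automorphisms such that the morphisms (id, g) : Y -> Y x_X Y exhibit Y x_X Y as the coproduct of
copies of Y indexed by G (a Galois covering with group G). For an abelian sheaf F on the small etale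
site of X, the restriction map F(X) -> F(Y) is injective and its image is the set of sections of F
over Y fixed by every element of G. -/
theorem result (X : Scheme.{u})
    (Y : X.Etale) (hY : Function.Surjective Y.hom.base)
    {G : Type u} [Group G] [Finite G] (σ : G →* Aut Y)
    (hgal : Nonempty (IsColimit (Cofan.mk (Y ⨯ Y) (fun g : G => prod.lift (𝟙 Y) (σ g).hom))))
    (F : EtCoh.Ab X) :
    Function.Injective (F.obj.map ((EtCore.topIsTerminal X).from Y).op) ∧
      Set.range (F.obj.map ((EtCore.topIsTerminal X).from Y).op) =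
        {s : EtCoh.sect F Y | ∀ g : G, F.obj.map (σ g).hom.op s = s} := by
  exact Aux.main X Y hY σ hgal F

end Groth.Agent.S16269
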