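import Groth.Statements.S16281
import Groth.Agent.Lib.Helper2.HomExt.RestrExt
import Groth.Agent.Lib.Helper5.Stalk.RpushRes


set_option autoImplicit false
universe u
open CategoryTheory CategoryTheory.Limits AlgebraicGeometry
open Coherent

namespace Groth.Agent.S16281

/-- Let f : X → Y be a morphism of schemes, F and G O_X-modules, W ⊆ Y an open subscheme and p ≥ 0.
Write Ext^p_f(F, -) for the p-th right derived functor of the left exact functor G ↦ f_*
Hom_{O_X}(F, G) from O_X-modules to O_Y-modules (the relative Ext sheaves). Then the restriction of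
Ext^p_f(F, G) to W is isomorphic to Ext^p_{f'}(F|_{f⁻¹W}, G|_{f⁻¹W}), where f' : f⁻¹W → W is the
restricted morphism. (Stated for schemes, the published statement being for ringed spaces; existence
of an isomorphism of O_W-modules only. The internal Hom functors, injective resolutions and
additivity of the composite functors on X and on f⁻¹W are the stated instance hypotheses, all true.) -/
theorem result (X Y : Scheme.{u}) (f : X ⟶ Y) (W : Y.Opens)
    (F G : X.Modules) (p : ℕ)
    [ModSite.HasSheafHom (O := X.sheaf) F] [HasInjectiveResolutions (ModSite.Mod X.sheaf)]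
    [(ModSite.sheafHom (O := X.sheaf) F ⋙ Scheme.Modules.pushforward f).Additive]
    [ModSite.HasSheafHom (O := (↑(f ⁻¹ᵁ W) : Scheme.{u}).sheaf) (F.restrict (f ⁻¹ᵁ W).ι)]
    [HasInjectiveResolutions (ModSite.Mod (↑(f ⁻¹ᵁ W) : Scheme.{u}).sheaf)]
    [(ModSite.sheafHom (O := (↑(f ⁻¹ᵁ W) : Scheme.{u}).sheaf) (F.restrict (f ⁻¹ᵁ W).ι) ⋙ Scheme.Modules.pushforward (f ∣_ W)).Additive] :
    Nonempty ((Scheme.Modules.restrictFunctor W.ι).obj (((ModSite.sheafHom (O := X.sheaf) F ⋙ Scheme.Modules.pushforward f).rightDerived p).obj G) ≅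
      ((ModSite.sheafHom (O := (↑(f ⁻¹ᵁ W) : Scheme.{u}).sheaf) (F.restrict (f ⁻¹ᵁ W).ι) ⋙ Scheme.Modules.pushforward (f ∣_ W)).rightDerived p).obj
        (G.restrict (f ⁻¹ᵁ W).ι)) := by
  haveI : (ModSite.sheafHom (O := X.sheaf) F).Additive := ModSite.sheafHom_additive X.sheaf F
  haveI : PreservesFiniteLimits (ModSite.sheafHom (O := X.sheaf) F) :=
    Groth.Agent.Helper3.RelExtHyp.preservesFiniteLimits_sheafHom (O := X.sheaf) F
  haveI : PreservesFiniteLimits
      (ModSite.sheafHom (O := (↑(f ⁻¹ᵁ W) : Scheme.{u}).sheaf) (F.restrict (f ⁻¹ᵁ W).ι)) :=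
    Groth.Agent.Helper3.RelExtHyp.preservesFiniteLimits_sheafHom
      (O := (↑(f ⁻¹ᵁ W) : Scheme.{u}).sheaf) _
  have hp1 : PreservesFiniteLimits (Scheme.Modules.pushforward f) := inferInstance
  have hp2 : PreservesFiniteLimits (Scheme.Modules.pushforward (f ∣_ W)) := inferInstance
  haveI : PreservesFiniteLimits
      (ModSite.sheafHom (O := X.sheaf) F ⋙ Scheme.Modules.pushforward f) :=
    @comp_preservesFiniteLimits _ _ _ _ _ _ (ModSite.sheafHom (O := X.sheaf) F)
      (Scheme.Modules.pushforward f) inferInstance hp1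
  haveI : PreservesFiniteLimits
      (ModSite.sheafHom (O := (↑(f ⁻¹ᵁ W) : Scheme.{u}).sheaf) (F.restrict (f ⁻¹ᵁ W).ι) ⋙
        Scheme.Modules.pushforward (f ∣_ W)) :=
    @comp_preservesFiniteLimits _ _ _ _ _ _
      (ModSite.sheafHom (O := (↑(f ⁻¹ᵁ W) : Scheme.{u}).sheaf) (F.restrict (f ⁻¹ᵁ W).ι))
      (Scheme.Modules.pushforward (f ∣_ W)) inferInstance hp2
  let R : ModSite.Mod X.sheaf ⥤ ModSite.Mod (↑(f ⁻¹ᵁ W) : Scheme.{u}).sheaf :=
    Scheme.Modules.restrictFunctor (f ⁻¹ᵁ W).ι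
  haveI hRa : R.Additive := (Scheme.Modules.restrictAdjunction (f ⁻¹ᵁ W).ι).left_adjoint_additive
  haveI hRl : PreservesFiniteLimits R :=
    Groth.Agent.Lib.Helper5.StalkAdj.preservesFiniteLimits_restrictFunctor (f ⁻¹ᵁ W).ι
  haveI hRc : PreservesFiniteColimits R :=
    Groth.Agent.Lib.Helper5.StalkAdj.preservesFiniteColimits_restrictFunctor (f ⁻¹ᵁ W).ι
  haveI hEa : (Scheme.Modules.restrictFunctor W.ι).Additive :=
    (Scheme.Modules.restrictAdjunction W.ι).left_adjoint_additive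
  haveI hEl : PreservesFiniteLimits (Scheme.Modules.restrictFunctor W.ι) :=
    Groth.Agent.Lib.Helper5.StalkAdj.preservesFiniteLimits_restrictFunctor W.ι
  haveI hEc : PreservesFiniteColimits (Scheme.Modules.restrictFunctor W.ι) :=
    Groth.Agent.Lib.Helper5.StalkAdj.preservesFiniteColimits_restrictFunctor W.ι
  let e : (ModSite.sheafHom (O := X.sheaf) F ⋙ Scheme.Modules.pushforward f) ⋙
        Scheme.Modules.restrictFunctor W.ι ≅
      R ⋙ (ModSite.sheafHom (O := (↑(f ⁻¹ᵁ W) : Scheme.{u}).sheaf) (F.restrict (f ⁻¹ᵁ W).ι) ⋙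
        Scheme.Modules.pushforward (f ∣_ W)) :=
    Functor.associator _ _ _ ≪≫
      Functor.isoWhiskerLeft (ModSite.sheafHom (O := X.sheaf) F)
        (Groth.Agent.Lib.Helper5.RpushRes.pushRestrictIso f W) ≪≫
      (Functor.associator _ _ _).symm ≪≫
      Functor.isoWhiskerRight
        (Groth.Agent.Helper2.HomExt.sheafHomRestrictIso (f ⁻¹ᵁ W).ι F)
        (Scheme.Modules.pushforward (f ∣_ W)) ≪≫
      Functor.associator _ _ _
  exact Groth.Agent.Helper1.DeltaComp.nonempty_iso
    (A := ModSite.Mod X.sheaf) (A' := Y.Modules)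
    (B := ModSite.Mod (↑(f ⁻¹ᵁ W) : Scheme.{u}).sheaf) (B' := (↑W : Scheme.{u}).Modules)
    (ModSite.sheafHom (O := X.sheaf) F ⋙ Scheme.Modules.pushforward f)
    (ModSite.sheafHom (O := (↑(f ⁻¹ᵁ W) : Scheme.{u}).sheaf) (F.restrict (f ⁻¹ᵁ W).ι) ⋙
      Scheme.Modules.pushforward (f ∣_ W))
    R (Scheme.Modules.restrictFunctor W.ι) e
    (fun I hI n => by
      haveI : Injective (R.obj I) :=
        Groth.Agent.Helper2.HomExt.injective_restrict (f ⁻¹ᵁ W).ι I hI
      exact Functor.isZero_rightDerived_obj_injective_succ _ n _) G p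

end Groth.Agent.S16281
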