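import Groth.Statements.S16287
import Mathlib
import Groth.Statements.S16287
-- import your own Groth.Agent.* helpers here

set_option autoImplicit false
universe u
open CategoryTheory CategoryTheory.Limits TopologicalSpace
open LocCohZ

namespace Groth.Agent.S16287

open CategoryTheory CategoryTheory.Limits TopologicalSpace
open LocCohZ
namespace Aux
set_option backward.isDefEq.respectTransparency false
set_option linter.style.haveILetI false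
set_option linter.unusedSectionVars false
set_option linter.unusedVariables false

section Nine

variable {C : Type*} [Category C] [Abelian C]
  {Z A₁ A₂ A₃ A₄ Q₁ Q₂ Q₃ Q₄ : C}
  (ι₁ : A₁ ⟶ Z) (ι₂ : A₂ ⟶ Z) (ι₃ : A₃ ⟶ Z) (ι₄ : A₄ ⟶ Z)
  (π₁ : Z ⟶ Q₁) (π₂ : Z ⟶ Q₂) (π₃ : Z ⟶ Q₃) (π₄ : Z ⟶ Q₄)
  (k₁₂ : A₁ ⟶ A₂) (k₁₃ : A₁ ⟶ A₃) (k₂₄ : A₂ ⟶ A₄) (k₃₄ : A₃ ⟶ A₄)
  (q₁₂ : Q₁ ⟶ Q₂) (q₁₃ : Q₁ ⟶ Q₃) (q₂₄ : Q₂ ⟶ Q₄) (q₃₄ : Q₃ ⟶ Q₄)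

include π₁ π₂ π₃ π₄ in
theorem nine_zero [Epi π₁] (f₁₂ : π₁ ≫ q₁₂ = π₂) (f₁₃ : π₁ ≫ q₁₃ = π₃) (f₂₄ : π₂ ≫ q₂₄ = π₄)
    (f₃₄ : π₃ ≫ q₃₄ = π₄) :
    biprod.lift q₁₂ (-q₁₃) ≫ biprod.desc q₂₄ q₃₄ = 0 := by
  have h : q₁₂ ≫ q₂₄ = q₁₃ ≫ q₃₄ := by
    apply (cancel_epi π₁).1
    rw [← Category.assoc, f₁₂, f₂₄, ← Category.assoc, f₁₃, f₃₄]
  rw [biprod.lift_desc, Preadditive.neg_comp, h, add_neg_cancel]

theorem nine_mono [Epi π₁] [Mono ι₄]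
    (w₁ : ι₁ ≫ π₁ = 0)
    (x₂ : ∀ {A : C} (τ : A ⟶ Z), τ ≫ π₂ = 0 → ∃ σ : A ⟶ A₂, σ ≫ ι₂ = τ)
    (x₃ : ∀ {A : C} (τ : A ⟶ Z), τ ≫ π₃ = 0 → ∃ σ : A ⟶ A₃, σ ≫ ι₃ = τ)
    (e₁₂ : k₁₂ ≫ ι₂ = ι₁) (e₂₄ : k₂₄ ≫ ι₄ = ι₂) (e₃₄ : k₃₄ ≫ ι₄ = ι₃)
    (f₁₂ : π₁ ≫ q₁₂ = π₂) (f₁₃ : π₁ ≫ q₁₃ = π₃)
    (mv_ex : ∀ {A : C} (κ : A ⟶ A₂ ⊞ A₃), κ ≫ biprod.desc k₂₄ k₃₄ = 0 →
      ∃ (A' : C) (p : A' ⟶ A) (_ : Epi p) (ρ : A' ⟶ A₁), p ≫ κ = ρ ≫ biprod.lift k₁₂ (-k₁₃)) :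
    Mono (biprod.lift q₁₂ (-q₁₃)) := by
  apply Preadditive.mono_of_cancel_zero
  intro T t ht
  have ha : t ≫ q₁₂ = 0 := by
    have h := congrArg (fun m => m ≫ biprod.fst) ht
    simpa using h
  have ha' : t ≫ q₁₃ = 0 := by
    have h := congrArg (fun m => m ≫ biprod.snd) ht
    simpa using h
  obtain ⟨A1, p1, hp1, τ, hτ⟩ := surjective_up_to_refinements_of_epi π₁ t
  have h2 : τ ≫ π₂ = 0 := by
    rw [← f₁₂, ← Category.assoc, ← hτ, Category.assoc, ha, comp_zero]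
  have h3 : τ ≫ π₃ = 0 := by
    rw [← f₁₃, ← Category.assoc, ← hτ, Category.assoc, ha', comp_zero]
  obtain ⟨σ, hσ⟩ := x₂ τ h2
  obtain ⟨σ', hσ'⟩ := x₃ τ h3
  have hκ : biprod.lift σ (-σ') ≫ biprod.desc k₂₄ k₃₄ = 0 := by
    apply (cancel_mono ι₄).1
    rw [zero_comp, biprod.lift_desc, Preadditive.add_comp, Category.assoc, Category.assoc, e₂₄,
      e₃₄, Preadditive.neg_comp, hσ, hσ', add_neg_cancel]
  obtain ⟨A2, p2, hp2, ρ, hρ⟩ := mv_ex _ hκ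
  have h4 : p2 ≫ σ = ρ ≫ k₁₂ := by
    have h := congrArg (fun m => m ≫ biprod.fst) hρ
    simpa using h
  have h5 : (p2 ≫ p1) ≫ t = 0 := by
    calc (p2 ≫ p1) ≫ t = p2 ≫ (p1 ≫ t) := Category.assoc _ _ _
      _ = p2 ≫ (τ ≫ π₁) := by rw [hτ]
      _ = p2 ≫ ((σ ≫ ι₂) ≫ π₁) := by rw [hσ]
      _ = (p2 ≫ σ) ≫ (ι₂ ≫ π₁) := by simp only [Category.assoc]
      _ = (ρ ≫ k₁₂) ≫ (ι₂ ≫ π₁) := by rw [h4]
      _ = ρ ≫ ((k₁₂ ≫ ι₂) ≫ π₁) := by simp only [Category.assoc]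
      _ = ρ ≫ (ι₁ ≫ π₁) := by rw [e₁₂]
      _ = 0 := by rw [w₁, comp_zero]
  haveI := hp1
  haveI := hp2
  apply (cancel_epi (p2 ≫ p1)).1
  rw [h5, comp_zero]

theorem nine_exact [Epi π₁] [Epi π₂] [Epi π₃] [Epi (biprod.desc k₂₄ k₃₄)]
    (w₂ : ι₂ ≫ π₂ = 0) (w₃ : ι₃ ≫ π₃ = 0)
    (x₄ : ∀ {A : C} (τ : A ⟶ Z), τ ≫ π₄ = 0 → ∃ σ : A ⟶ A₄, σ ≫ ι₄ = τ)
    (e₂₄ : k₂₄ ≫ ι₄ = ι₂) (e₃₄ : k₃₄ ≫ ι₄ = ι₃)
    (f₁₂ : π₁ ≫ q₁₂ = π₂) (f₁₃ : π₁ ≫ q₁₃ = π₃) (f₂₄ : π₂ ≫ q₂₄ = π₄) (f₃₄ : π₃ ≫ q₃₄ = π₄) :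
    (ShortComplex.mk (biprod.lift q₁₂ (-q₁₃)) (biprod.desc q₂₄ q₃₄)
      (nine_zero π₁ π₂ π₃ π₄ q₁₂ q₁₃ q₂₄ q₃₄ f₁₂ f₁₃ f₂₄ f₃₄)).Exact := by
  rw [ShortComplex.exact_iff_exact_up_to_refinements]
  intro A x hx
  change x ≫ biprod.desc q₂₄ q₃₄ = 0 at hx
  change ∃ (A' : C) (π : A' ⟶ A) (_ : Epi π) (x₁ : A' ⟶ Q₁), π ≫ x = x₁ ≫ biprod.lift q₁₂ (-q₁₃)
  have hx' : (x ≫ biprod.fst) ≫ q₂₄ + (x ≫ biprod.snd) ≫ q₃₄ = 0 := by
    rw [Category.assoc, Category.assoc, ← Preadditive.comp_add, ← biprod.desc_eq]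
    exact hx
  obtain ⟨A1, p1, hp1, τ1, h1⟩ := surjective_up_to_refinements_of_epi π₂ (x ≫ biprod.fst)
  obtain ⟨A2, p2, hp2, τ2, h2⟩ := surjective_up_to_refinements_of_epi π₃ (p1 ≫ x ≫ biprod.snd)
  have hA : (p2 ≫ τ1) ≫ π₄ = p2 ≫ p1 ≫ (x ≫ biprod.fst) ≫ q₂₄ := by
    calc (p2 ≫ τ1) ≫ π₄ = p2 ≫ (τ1 ≫ π₂) ≫ q₂₄ := by
          rw [← f₂₄]
          simp only [Category.assoc]
      _ = p2 ≫ (p1 ≫ x ≫ biprod.fst) ≫ q₂₄ := by rw [h1]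
      _ = p2 ≫ p1 ≫ (x ≫ biprod.fst) ≫ q₂₄ := by simp only [Category.assoc]
  have hB : τ2 ≫ π₄ = p2 ≫ p1 ≫ (x ≫ biprod.snd) ≫ q₃₄ := by
    calc τ2 ≫ π₄ = (τ2 ≫ π₃) ≫ q₃₄ := by rw [← f₃₄, Category.assoc]
      _ = (p2 ≫ p1 ≫ x ≫ biprod.snd) ≫ q₃₄ := by rw [h2]
      _ = p2 ≫ p1 ≫ (x ≫ biprod.snd) ≫ q₃₄ := by simp only [Category.assoc]
  have h6 : (p2 ≫ τ1 + τ2) ≫ π₄ = 0 := by
    rw [Preadditive.add_comp, hA, hB, ← Preadditive.comp_add, ← Preadditive.comp_add, hx',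
      comp_zero, comp_zero]
  obtain ⟨ρ, hρ⟩ := x₄ _ h6
  obtain ⟨A3, p3, hp3, κ, hκ⟩ := surjective_up_to_refinements_of_epi (biprod.desc k₂₄ k₃₄) ρ
  have h7 : p3 ≫ ρ = (κ ≫ biprod.fst) ≫ k₂₄ + (κ ≫ biprod.snd) ≫ k₃₄ := by
    rw [hκ, biprod.desc_eq, Preadditive.comp_add]
    simp only [Category.assoc]
  have h8 : p3 ≫ p2 ≫ τ1 + p3 ≫ τ2 = κ ≫ biprod.fst ≫ ι₂ + κ ≫ biprod.snd ≫ ι₃ := by
    have h := congrArg (fun m => m ≫ ι₄) h7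
    simp only [Category.assoc, Preadditive.add_comp, e₂₄, e₃₄, hρ, Preadditive.comp_add] at h
    exact h
  have key : p3 ≫ p2 ≫ τ1 - κ ≫ biprod.fst ≫ ι₂ = κ ≫ biprod.snd ≫ ι₃ - p3 ≫ τ2 := by
    rw [sub_eq_sub_iff_add_eq_add, h8, add_comm]
  haveI := hp1
  haveI := hp2
  haveI := hp3
  refine ⟨A3, p3 ≫ p2 ≫ p1, inferInstance,
    (p3 ≫ p2 ≫ τ1 - κ ≫ biprod.fst ≫ ι₂) ≫ π₁, ?_⟩
  apply biprod.hom_ext
  · simp only [Category.assoc, biprod.lift_fst]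
    rw [f₁₂, Preadditive.sub_comp]
    simp only [Category.assoc, w₂, comp_zero, sub_zero]
    rw [h1]
  · simp only [Category.assoc, biprod.lift_snd, Preadditive.comp_neg]
    rw [f₁₃, key, Preadditive.sub_comp]
    simp only [Category.assoc, w₃, comp_zero, zero_sub, neg_neg]
    rw [h2]

end Nine

section ExtBiprod

open Abelian

universe w
variable {𝒜 : Type*} [Category 𝒜] [Abelian 𝒜] [HasExt.{w} 𝒜] {A B F : 𝒜}

lemma ext_inl_pair {n : ℕ} (y1 : Ext A F n) (y2 : Ext B F n) :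
    (Ext.mk₀ biprod.inl).comp ((Ext.mk₀ biprod.fst).comp y1 (zero_add n) +
      (Ext.mk₀ biprod.snd).comp y2 (zero_add n)) (zero_add n) = y1 := by
  rw [Ext.comp_add, Ext.mk₀_comp_mk₀_assoc, Ext.mk₀_comp_mk₀_assoc, biprod.inl_fst,
    biprod.inl_snd, Ext.mk₀_id_comp, Ext.mk₀_zero, Ext.zero_comp, add_zero]

lemma ext_inr_pair {n : ℕ} (y1 : Ext A F n) (y2 : Ext B F n) :
    (Ext.mk₀ biprod.inr).comp ((Ext.mk₀ biprod.fst).comp y1 (zero_add n) +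
      (Ext.mk₀ biprod.snd).comp y2 (zero_add n)) (zero_add n) = y2 := by
  rw [Ext.comp_add, Ext.mk₀_comp_mk₀_assoc, Ext.mk₀_comp_mk₀_assoc, biprod.inr_fst,
    biprod.inr_snd, Ext.mk₀_id_comp, Ext.mk₀_zero, Ext.zero_comp, zero_add]

end ExtBiprod

section Top

open Abelian

variable {X : TopCat.{u}}

/-- `ℤ_W ⟶ ℤ_V` -/
noncomputable abbrev ιm {W V : Opens X} (h : W ≤ V) :
    CohCx.freeSheaf (Opens.grothendieckTopology X) W ⟶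
      CohCx.freeSheaf (Opens.grothendieckTopology X) V :=
  CohCx.freeSheafMap (Opens.grothendieckTopology X) (homOfLE h)

/-- `ℤ_X ⟶ ℤ_X/ℤ_W` -/
noncomputable abbrev πm (W : Opens X) :
    CohCx.freeSheaf (Opens.grothendieckTopology X) (⊤ : Opens X) ⟶ zq (le_top : W ≤ ⊤) :=
  cokernel.π (ιm (le_top : W ≤ ⊤))

/-- `ℤ_X/ℤ_{W'} ⟶ ℤ_X/ℤ_W` for `W' ≤ W` -/
noncomputable abbrev qm {W W' : Opens X} (h : W' ≤ W) :
    zq (le_top : W' ≤ ⊤) ⟶ zq (le_top : W ≤ ⊤) :=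
  zqMap (le_top : W ≤ ⊤) (le_top : W' ≤ ⊤) h le_rfl

lemma ιm_comp {W V T : Opens X} (h : W ≤ V) (h' : V ≤ T) : ιm h ≫ ιm h' = ιm (h.trans h') :=
  (CohFree.freeSheafMap_comp (Opens.grothendieckTopology X) (homOfLE h) (homOfLE h')).symm

lemma π_qm {W W' : Opens X} (h : W' ≤ W) : πm W' ≫ qm h = πm W := by
  have h1 : πm W' ≫ qm h =
      CohCx.freeSheafMap (Opens.grothendieckTopology X)
        (homOfLE (le_rfl : (⊤ : Opens X) ≤ ⊤)) ≫ πm W :=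
    cokernel.π_desc _ _ _
  rw [h1, show homOfLE (le_rfl : (⊤ : Opens X) ≤ ⊤) = 𝟙 _ from Subsingleton.elim _ _,
    CohFree.freeSheafMap_id, Category.id_comp]

instance (W : Opens X) : Epi (πm W) := inferInstance

instance epi_qm {W W' : Opens X} (h : W' ≤ W) : Epi (qm h) :=
  epi_of_epi_fac (π_qm h)

lemma ι_π (W : Opens X) : ιm (le_top : W ≤ ⊤) ≫ πm W = 0 := cokernel.condition _

lemma lift_ι (W : Opens X) {A : CohTop.Ab X}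
    (τ : A ⟶ CohCx.freeSheaf (Opens.grothendieckTopology X) (⊤ : Opens X)) (hτ : τ ≫ πm W = 0) :
    ∃ σ : A ⟶ CohCx.freeSheaf (Opens.grothendieckTopology X) W, σ ≫ ιm (le_top : W ≤ ⊤) = τ := by
  have hS := zqSeq_shortExact (le_top : W ≤ ⊤)
  haveI := hS.mono_f
  exact ⟨hS.exact.lift τ hτ, hS.exact.lift_f τ hτ⟩

instance mono_ιm {W V : Opens X} (h : W ≤ V) : Mono (ιm h) := by
  dsimp only [ιm, CohCx.freeSheafMap]
  infer_instance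

variable (U U' : Opens X)

lemma S_zero :
    biprod.lift (qm (inf_le_left : U ⊓ U' ≤ U)) (-(qm (inf_le_right : U ⊓ U' ≤ U'))) ≫
      biprod.desc (qm (le_sup_left : U ≤ U ⊔ U')) (qm (le_sup_right : U' ≤ U ⊔ U')) = 0 :=
  nine_zero (πm (U ⊓ U')) (πm U) (πm U') (πm (U ⊔ U')) _ _ _ _
    (π_qm _) (π_qm _) (π_qm _) (π_qm _)

/-- the Mayer–Vietoris sequence of the sheaves `ℤ_X/ℤ_W` -/
noncomputable def S : ShortComplex (CohTop.Ab X) :=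
  ShortComplex.mk _ _ (S_zero U U')

theorem S_shortExact : (S U U').ShortExact := by
  have mv := (Opens.mayerVietorisSquare U U').shortComplex_shortExact
  haveI hepi : Epi (biprod.desc (ιm (le_sup_left : U ≤ U ⊔ U')) (ιm (le_sup_right : U' ≤ U ⊔ U'))) :=
    mv.epi_g
  have mv_ex : ∀ {A : CohTop.Ab X}
      (κ : A ⟶ CohCx.freeSheaf (Opens.grothendieckTopology X) U ⊞
        CohCx.freeSheaf (Opens.grothendieckTopology X) U'),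
      κ ≫ biprod.desc (ιm (le_sup_left : U ≤ U ⊔ U')) (ιm (le_sup_right : U' ≤ U ⊔ U')) = 0 →
      ∃ (A' : CohTop.Ab X) (p : A' ⟶ A) (_ : Epi p)
        (ρ : A' ⟶ CohCx.freeSheaf (Opens.grothendieckTopology X) (U ⊓ U')),
        p ≫ κ = ρ ≫ biprod.lift (ιm (inf_le_left : U ⊓ U' ≤ U))
          (-(ιm (inf_le_right : U ⊓ U' ≤ U'))) :=
    fun κ hκ => mv.exact.exact_up_to_refinements κ hκ
  refine ShortComplex.ShortExact.mk' ?_ ?_ ?_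
  · exact nine_exact (ιm le_top) (ιm le_top) (ιm le_top)
      (πm (U ⊓ U')) (πm U) (πm U') (πm (U ⊔ U'))
      (ιm le_sup_left) (ιm le_sup_right) _ _ _ _
      (ι_π U) (ι_π U') (fun τ hτ => lift_ι (U ⊔ U') τ hτ)
      (ιm_comp _ _) (ιm_comp _ _) (π_qm _) (π_qm _) (π_qm _) (π_qm _)
  · exact nine_mono (ιm le_top) (ιm le_top) (ιm le_top) (ιm le_top)
      (πm (U ⊓ U')) (πm U) (πm U')
      (ιm inf_le_left) (ιm inf_le_right) (ιm le_sup_left) (ιm le_sup_right) _ _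
      (ι_π (U ⊓ U')) (fun τ hτ => lift_ι U τ hτ) (fun τ hτ => lift_ι U' τ hτ)
      (ιm_comp _ _) (ιm_comp _ _) (ιm_comp _ _) (π_qm _) (π_qm _) mv_ex
  · exact epi_of_epi_fac (biprod.inl_desc _ _)

lemma S_f_fst : (S U U').f ≫ biprod.fst = qm (inf_le_left : U ⊓ U' ≤ U) := biprod.lift_fst _ _
lemma S_f_snd : (S U U').f ≫ biprod.snd = -(qm (inf_le_right : U ⊓ U' ≤ U')) :=
  biprod.lift_snd _ _
lemma S_inl_g : biprod.inl ≫ (S U U').g = qm (le_sup_left : U ≤ U ⊔ U') := biprod.inl_desc _ _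
lemma S_inr_g : biprod.inr ≫ (S U U').g = qm (le_sup_right : U' ≤ U ⊔ U') := biprod.inr_desc _ _

variable (F : CohTop.Ab X)

/-- the pair of components of a class on the biproduct -/
noncomputable def pairExt {i : ℕ} (y : HZc F i U × HZc F i U') : Ext (S U U').X₂ F i :=
  (Ext.mk₀ biprod.fst).comp y.1 (zero_add i) + (Ext.mk₀ biprod.snd).comp y.2 (zero_add i)

lemma f_pairExt {i : ℕ} (y : HZc F i U × HZc F i U') :
    (Ext.mk₀ (S U U').f).comp (pairExt U U' F y) (zero_add i) =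
      resZ F i (le_top : U ≤ ⊤) (le_top : U ⊓ U' ≤ ⊤) inf_le_left le_rfl y.1 -
        resZ F i (le_top : U' ≤ ⊤) (le_top : U ⊓ U' ≤ ⊤) inf_le_right le_rfl y.2 := by
  unfold pairExt
  rw [Ext.comp_add, Ext.mk₀_comp_mk₀_assoc, Ext.mk₀_comp_mk₀_assoc, S_f_fst, S_f_snd,
    Ext.mk₀_neg, Ext.neg_comp, ← sub_eq_add_neg]
  rfl

lemma g_comp_inl {i : ℕ} (x : HZc F i (U ⊔ U')) :
    (Ext.mk₀ biprod.inl).comp ((Ext.mk₀ (S U U').g).comp x (zero_add i)) (zero_add i) =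
      resZ F i (le_top : U ⊔ U' ≤ ⊤) (le_top : U ≤ ⊤) le_sup_left le_rfl x := by
  rw [Ext.mk₀_comp_mk₀_assoc, S_inl_g]
  rfl

lemma g_comp_inr {i : ℕ} (x : HZc F i (U ⊔ U')) :
    (Ext.mk₀ biprod.inr).comp ((Ext.mk₀ (S U U').g).comp x (zero_add i)) (zero_add i) =
      resZ F i (le_top : U ⊔ U' ≤ ⊤) (le_top : U' ≤ ⊤) le_sup_right le_rfl x := by
  rw [Ext.mk₀_comp_mk₀_assoc, S_inr_g]
  rfl

lemma g_comp_eq_pair {i : ℕ} (x : HZc F i (U ⊔ U')) :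
    (Ext.mk₀ (S U U').g).comp x (zero_add i) =
      pairExt U U' F
        (resZ F i (le_top : U ⊔ U' ≤ ⊤) (le_top : U ≤ ⊤) le_sup_left le_rfl x,
         resZ F i (le_top : U ⊔ U' ≤ ⊤) (le_top : U' ≤ ⊤) le_sup_right le_rfl x) := by
  apply Ext.biprod_ext
  · rw [g_comp_inl]
    exact (ext_inl_pair _ _).symm
  · rw [g_comp_inr]
    exact (ext_inr_pair _ _).symm

theorem main :
    Function.Injective (fun x : LocCohZ.HZc F 0 (U ⊔ U') =>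
      (LocCohZ.resZ F 0 (le_top : U ⊔ U' ≤ ⊤) (le_top : U ≤ ⊤) le_sup_left le_rfl x,
       LocCohZ.resZ F 0 (le_top : U ⊔ U' ≤ ⊤) (le_top : U' ≤ ⊤) le_sup_right le_rfl x)) ∧
    ∃ δ : ∀ i : ℕ, LocCohZ.HZc F i (U ⊓ U') →+ LocCohZ.HZc F (i + 1) (U ⊔ U'),
      ∀ i : ℕ,
        (∀ y : LocCohZ.HZc F i U × LocCohZ.HZc F i U',
          LocCohZ.resZ F i (le_top : U ≤ ⊤) (le_top : U ⊓ U' ≤ ⊤) inf_le_left le_rfl y.1 -
              LocCohZ.resZ F i (le_top : U' ≤ ⊤) (le_top : U ⊓ U' ≤ ⊤) inf_le_right le_rfl y.2 = 0 ↔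
            ∃ x : LocCohZ.HZc F i (U ⊔ U'),
              LocCohZ.resZ F i (le_top : U ⊔ U' ≤ ⊤) (le_top : U ≤ ⊤) le_sup_left le_rfl x = y.1 ∧
              LocCohZ.resZ F i (le_top : U ⊔ U' ≤ ⊤) (le_top : U' ≤ ⊤) le_sup_right le_rfl x = y.2) ∧
        (∀ w : LocCohZ.HZc F i (U ⊓ U'),
          δ i w = 0 ↔ ∃ y : LocCohZ.HZc F i U × LocCohZ.HZc F i U',
            LocCohZ.resZ F i (le_top : U ≤ ⊤) (le_top : U ⊓ U' ≤ ⊤) inf_le_left le_rfl y.1 -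
              LocCohZ.resZ F i (le_top : U' ≤ ⊤) (le_top : U ⊓ U' ≤ ⊤) inf_le_right le_rfl y.2 = w) ∧
        (∀ x : LocCohZ.HZc F (i + 1) (U ⊔ U'),
          (LocCohZ.resZ F (i + 1) (le_top : U ⊔ U' ≤ ⊤) (le_top : U ≤ ⊤) le_sup_left le_rfl x = 0 ∧
            LocCohZ.resZ F (i + 1) (le_top : U ⊔ U' ≤ ⊤) (le_top : U' ≤ ⊤) le_sup_right le_rfl x = 0) ↔
            ∃ w : LocCohZ.HZc F i (U ⊓ U'), δ i w = x) := by
  have hS := S_shortExact U U'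
  refine ⟨?_, fun i => hS.extClass.precomp F (by omega : 1 + i = i + 1), fun i => ⟨?_, ?_, ?_⟩⟩
  · intro x x' hxx
    have h1 := congrArg Prod.fst hxx
    exact Ext.precomp_mk₀_injective_of_epi F (qm (le_sup_left : U ≤ U ⊔ U')) h1
  · intro y
    constructor
    · intro hy
      have hz : (Ext.mk₀ (S U U').f).comp (pairExt U U' F y) (zero_add i) = 0 := by
        rw [f_pairExt]
        exact hy
      obtain ⟨x, hx⟩ := Ext.contravariant_sequence_exact₂ hS F (pairExt U U' F y) hz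
      refine ⟨x, ?_, ?_⟩
      · rw [← g_comp_inl, hx]
        exact ext_inl_pair _ _
      · rw [← g_comp_inr, hx]
        exact ext_inr_pair _ _
    · rintro ⟨x, hx1, hx2⟩
      have e : y = (resZ F i (le_top : U ⊔ U' ≤ ⊤) (le_top : U ≤ ⊤) le_sup_left le_rfl x,
          resZ F i (le_top : U ⊔ U' ≤ ⊤) (le_top : U' ≤ ⊤) le_sup_right le_rfl x) :=
        Prod.ext hx1.symm hx2.symm
      rw [← f_pairExt, e, ← g_comp_eq_pair, Ext.mk₀_comp_mk₀_assoc, (S U U').zero, Ext.mk₀_zero,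
        Ext.zero_comp]
  · intro w
    constructor
    · intro hw
      obtain ⟨x₂, hx₂⟩ := Ext.contravariant_sequence_exact₁ hS F w (by omega : 1 + i = i + 1) hw
      refine ⟨((Ext.mk₀ biprod.inl).comp x₂ (zero_add i),
        (Ext.mk₀ biprod.inr).comp x₂ (zero_add i)), ?_⟩
      rw [← f_pairExt]
      have e : pairExt U U' F ((Ext.mk₀ biprod.inl).comp x₂ (zero_add i),
          (Ext.mk₀ biprod.inr).comp x₂ (zero_add i)) = x₂ := by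
        apply Ext.biprod_ext
        · exact ext_inl_pair _ _
        · exact ext_inr_pair _ _
      rw [e]
      exact hx₂
    · rintro ⟨y, rfl⟩
      rw [← f_pairExt]
      exact hS.extClass_comp_assoc (h := (by omega : 1 + i = i + 1)) _
  · intro x
    constructor
    · rintro ⟨h1, h2⟩
      have hz : (Ext.mk₀ (S U U').g).comp x (zero_add (i + 1)) = 0 := by
        rw [g_comp_eq_pair, h1, h2]
        unfold pairExt
        rw [Ext.comp_zero, Ext.comp_zero, add_zero]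
      exact Ext.contravariant_sequence_exact₃ hS F x hz (by omega : 1 + i = i + 1)
    · rintro ⟨w, rfl⟩
      have h0 : (Ext.mk₀ (S U U').g).comp (hS.extClass.comp w (by omega : 1 + i = i + 1))
          (zero_add (i + 1)) = 0 := hS.comp_extClass_assoc _ _
      constructor
      · have := g_comp_inl U U' F (hS.extClass.comp w (by omega : 1 + i = i + 1))
        rw [h0, Ext.comp_zero] at this
        exact this.symm
      · have := g_comp_inr U U' F (hS.extClass.comp w (by omega : 1 + i = i + 1))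
        rw [h0, Ext.comp_zero] at this
        exact this.symm

end Top

end Aux

/-- Let X be a topological space, F an abelian sheaf on X, and U, U' open subsets with closed
complements Z = X ∖ U and Z' = X ∖ U' (so Z ∩ Z' = X ∖ (U ∪ U') and Z ∪ Z' = X ∖ (U ∩ U')). With
H^i_{X∖W}(X, F) = Ext^i(Z_X/Z_W, F) and the enlargement-of-support maps r : H^i_{Z∩Z'} → H^i_Z, r' :
H^i_{Z∩Z'} → H^i_{Z'}, s : H^i_Z → H^i_{Z∪Z'}, s' : H^i_{Z'} → H^i_{Z∪Z'}: the map H^0_{Z∩Z'} →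
H^0_Z ⊕ H^0_{Z'}, x ↦ (r x, r' x), is injective, and there are connecting homomorphisms δ_i :
H^i_{Z∪Z'}(X, F) → H^{i+1}_{Z∩Z'}(X, F) such that for every i the sequence H^i_{Z∩Z'} → H^i_Z ⊕
H^i_{Z'} → H^i_{Z∪Z'} → H^{i+1}_{Z∩Z'} → H^{i+1}_Z ⊕ H^{i+1}_{Z'} is exact, the middle map being (y,
y') ↦ s y − s' y'. -/
theorem result {X : TopCat.{u}} (F : CohTop.Ab X) (U U' : Opens X) :
    Function.Injective (fun x : LocCohZ.HZc F 0 (U ⊔ U') =>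
      (LocCohZ.resZ F 0 (le_top : U ⊔ U' ≤ ⊤) (le_top : U ≤ ⊤) le_sup_left le_rfl x,
       LocCohZ.resZ F 0 (le_top : U ⊔ U' ≤ ⊤) (le_top : U' ≤ ⊤) le_sup_right le_rfl x)) ∧
    ∃ δ : ∀ i : ℕ, LocCohZ.HZc F i (U ⊓ U') →+ LocCohZ.HZc F (i + 1) (U ⊔ U'),
      ∀ i : ℕ,
        (∀ y : LocCohZ.HZc F i U × LocCohZ.HZc F i U',
          LocCohZ.resZ F i (le_top : U ≤ ⊤) (le_top : U ⊓ U' ≤ ⊤) inf_le_left le_rfl y.1 -
              LocCohZ.resZ F i (le_top : U' ≤ ⊤) (le_top : U ⊓ U' ≤ ⊤) inf_le_right le_rfl y.2 = 0 ↔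
            ∃ x : LocCohZ.HZc F i (U ⊔ U'),
              LocCohZ.resZ F i (le_top : U ⊔ U' ≤ ⊤) (le_top : U ≤ ⊤) le_sup_left le_rfl x = y.1 ∧
              LocCohZ.resZ F i (le_top : U ⊔ U' ≤ ⊤) (le_top : U' ≤ ⊤) le_sup_right le_rfl x = y.2) ∧
        (∀ w : LocCohZ.HZc F i (U ⊓ U'),
          δ i w = 0 ↔ ∃ y : LocCohZ.HZc F i U × LocCohZ.HZc F i U',
            LocCohZ.resZ F i (le_top : U ≤ ⊤) (le_top : U ⊓ U' ≤ ⊤) inf_le_left le_rfl y.1 -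
              LocCohZ.resZ F i (le_top : U' ≤ ⊤) (le_top : U ⊓ U' ≤ ⊤) inf_le_right le_rfl y.2 = w) ∧
        (∀ x : LocCohZ.HZc F (i + 1) (U ⊔ U'),
          (LocCohZ.resZ F (i + 1) (le_top : U ⊔ U' ≤ ⊤) (le_top : U ≤ ⊤) le_sup_left le_rfl x = 0 ∧
            LocCohZ.resZ F (i + 1) (le_top : U ⊔ U' ≤ ⊤) (le_top : U' ≤ ⊤) le_sup_right le_rfl x = 0) ↔
            ∃ w : LocCohZ.HZc F i (U ⊓ U'), δ i w = x) := by
  exact Aux.main U U' F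

end Groth.Agent.S16287
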