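import Groth.Statements.S16297
import Mathlib
import Groth.Agent.Lib.Helper1.VAng

set_option autoImplicit false
universe u
open CategoryTheory CategoryTheory.Limits AlgebraicGeometry
open Curves

namespace Groth.Agent.S16297

/-- Let k be a field and X a proper scheme over k of dimension one (not assumed reduced or irreducible)
with H^1(X, O_X) = 0, and let L be an ample invertible O_X-module. Then L is very ample: for some n
there is a closed immersion i : X → P^n_k over k with i^*O(1) isomorphic to L (existence of an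
isomorphism only). -/
theorem result (k : Type u) [Field k] (X : Scheme.{u}) [X.Over (Spec (CommRingCat.of k))]
    [IsProper (X ↘ (Spec (CommRingCat.of k)))] (hdim : topologicalKrullDim X = 1)
    (h1 : Subsingleton (Coh.HH X (Coh.structureModule X) 1))
    (L : X.Modules) (hA : CohB1.IsAmple L) :
    ∃ (n : ℕ) (i : X ⟶ CohB1.ProjSpace n k), IsClosedImmersion i ∧
      i ≫ CohB1.ProjSpace.toSpec n k = X ↘ (Spec (CommRingCat.of k)) ∧
      Nonempty ((Scheme.Modules.pullback i).obj (Twist.twistProjSpace n k 1) ≅ L) := by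
  haveI : AlgebraicGeometry.IsNoetherian X := Groth.Agent.Helper1.Euler.isNoetherian_of_proper k X
  obtain ⟨-, hgg⟩ := Groth.Agent.Helper1.NefGG.main k X (le_of_eq hdim) h1 L hA.1
    (fun ξ hξ => (Groth.Agent.Helper1.SnapPos.pos_gen k 1 X L hA ξ hξ).le)
  refine Groth.Agent.Helper1.VAng.exists_closedImmersion k X L hA hgg ?_
  intro n P h0 hadd hmul
  have hs := Groth.Agent.Helper1.KosCurve.span_tmul_eq_top_of_ample k X hdim h1 L hA (n + 1)
  have key : ∀ t : (CohB1.tensorMod (CohB1.tensorPow L (n + 1)) L).val.obj (Opposite.op ⊤),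
      P t := by
    intro t
    have ht : t ∈ Submodule.span (X.ringCatSheaf.obj.obj (Opposite.op ⊤))
        (Set.range (fun p : (CohB1.tensorPow L (n + 1)).val.obj (Opposite.op ⊤) ×
            L.val.obj (Opposite.op ⊤) =>
          SecTwist.tmul (CohB1.tensorPow L (n + 1)) L ⊤ p.1 p.2)) := by
      rw [hs]; trivial
    refine Submodule.closure_induction
      (p := fun (x : (CohB1.tensorMod (CohB1.tensorPow L (n + 1)) L).val.obj (Opposite.op ⊤)) _ => P x) h0
      (fun x y _ _ hx hy => hadd x y hx hy) ?_ ht
    rintro r _ ⟨p, rfl⟩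
    have e : r • SecTwist.tmul (CohB1.tensorPow L (n + 1)) L ⊤ p.1 p.2 =
        Groth.Agent.Helper1.TmulLib.tm (CohB1.tensorPow L (n + 1)) L ⊤ (r • p.1) p.2 :=
      (Groth.Agent.Helper1.TmulLib.tm_smul_left (CohB1.tensorPow L (n + 1)) L ⊤ r p.1 p.2).symm
    rw [e]
    exact hmul _ _
  exact fun t => key t

end Groth.Agent.S16297
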