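import Groth.Statements.S16333
import Groth.Agent.Lib.Helper6.TateH.Main

set_option autoImplicit false
universe u
open GalCoh

namespace Groth.Agent.S16333

/-- Let k be an algebraically closed field, K an extension field of k which is finitely generated of
transcendence degree 1 (the function field of an irreducible curve over k), and L a finite Galois
extension of K. Then (1) the norm map from L to K is surjective, and (2) a nonzero element of L has
norm 1 if and only if it lies in the subgroup of units generated by the elements w / g(w), w a unit
of L and g an automorphism of L over K. (The published statement is for the function fields of an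
irreducible curve and of a component of its preimage under a finite abelian étale cover of the
ambient variety; this row takes any finite Galois extension of a function field of transcendence
degree 1 over an algebraically closed field.) -/
theorem result
    (k : Type u) [Field k] [IsAlgClosed k] (K L : Type u) [Field K] [Field L]
    [Algebra k K] [Algebra K L] [FiniteDimensional K L] [IsGalois K L]
    (hfg : (⊤ : IntermediateField k K).FG) (htr : Algebra.trdeg k K = 1) :
    Function.Surjective (Algebra.norm K : L → K) ∧
      ∀ u : Lˣ, Algebra.norm K (u : L) = 1 ↔
        u ∈ Subgroup.closure {v : Lˣ | ∃ (w : Lˣ) (g : L ≃ₐ[K] L), (v : L) = (w : L) / g (w : L)} := by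
  have hK : Curves.IsCi K 1 := Groth.Agent.Helper1.CiField.tsen_lang k K 1 (by rw [htr]; simp)
  refine ⟨Groth.Agent.Helper6.TateH.norm_surjective_of_isCi hK, fun u => ⟨fun h =>
    Groth.Agent.Helper6.TateH.main K L hK u h, fun h => ?_⟩⟩
  let φ : Lˣ →* K := (Algebra.norm K : L →* K).comp (Units.coeHom L)
  have hle : Subgroup.closure {v : Lˣ | ∃ (w : Lˣ) (g : L ≃ₐ[K] L), (v : L) = (w : L) / g (w : L)}
      ≤ φ.ker := by
    rw [Subgroup.closure_le]
    rintro v ⟨w, g, hv⟩
    show Algebra.norm K (v : L) = 1
    have hw : Algebra.norm K (w : L) ≠ 0 := Algebra.norm_ne_zero_iff.mpr w.ne_zero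
    rw [hv, div_eq_mul_inv, map_mul, Algebra.norm_inv, Algebra.norm_eq_of_algEquiv g,
      mul_inv_cancel₀ hw]
  exact hle h

end Groth.Agent.S16333
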