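import Groth.Statements.S16346
import Mathlib

set_option autoImplicit false
universe u v
open KatoHom

namespace Groth.Agent.S16346

/-- Let P be a set of primes and I_P the set of positive integers all of whose prime factors lie in P.
Let A be an abelian group, (B_n)_{n ∈ I_P} an inverse system of abelian groups with transition maps
B_n → B_m for m ∣ n, and φ_n : A → B_n homomorphisms vanishing on nA and compatible with the
transition maps, so that they induce φ̂ : Â → B̂ on the limits Â = lim A/nA and B̂ = lim B_n (limits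
taken as compatible families). Suppose some N ∈ I_P kills the torsion subgroup of B̂ and kills the
kernel of φ̂ (the latter meaning: a compatible family of residues (a_n) with φ_n(a_n) = 0 for all n
has N a_n ∈ nA for all n). Then the subgroup ⋂_{n ∈ I_P} nA is ℓ-divisible for every ℓ ∈ P, and it
contains every subgroup of A that is ℓ-divisible for all ℓ ∈ P; that is, it is the largest
P-divisible subgroup of A. -/
theorem result
    {A : Type u} [AddCommGroup A] (P : Set ℕ) (hP : ∀ p ∈ P, p.Prime)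
    (IP : Set ℕ) (hIP : ∀ n, n ∈ IP ↔ 0 < n ∧ ∀ p : ℕ, p.Prime → p ∣ n → p ∈ P)
    (B : IP → Type v) [∀ n, AddCommGroup (B n)]
    (g : ∀ ⦃m n : IP⦄, (m : ℕ) ∣ (n : ℕ) → (B n →+ B m))
    (hgid : ∀ (n : IP) (b : B n), g (dvd_refl (n : ℕ)) b = b)
    (hgcomp : ∀ (k m n : IP) (hkm : (k : ℕ) ∣ (m : ℕ)) (hmn : (m : ℕ) ∣ (n : ℕ)) (b : B n),
      g hkm (g hmn b) = g (hkm.trans hmn) b)
    (φ : ∀ n : IP, A →+ B n) (hφ : ∀ (n : IP) (a : A), φ n ((n : ℕ) • a) = 0)
    (hφg : ∀ (m n : IP) (h : (m : ℕ) ∣ (n : ℕ)) (a : A), g h (φ n a) = φ m a)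
    (N : ℕ) (hN : N ∈ IP)
    (htor : ∀ b : ∀ n : IP, B n, (∀ (m n : IP) (h : (m : ℕ) ∣ (n : ℕ)), g h (b n) = b m) →
      (∃ k : ℕ, 0 < k ∧ ∀ n, k • b n = 0) → ∀ n, N • b n = 0)
    (hker : ∀ a : IP → A, (∀ m n : IP, (m : ℕ) ∣ (n : ℕ) → ∃ c : A, a n - a m = (m : ℕ) • c) →
      (∀ n, φ n (a n) = 0) → ∀ n : IP, ∃ c : A, N • a n = (n : ℕ) • c) :
    (∀ ℓ ∈ P, ∀ x : A, (∀ n ∈ IP, ∃ y : A, x = n • y) →
        ∃ y : A, (∀ n ∈ IP, ∃ z : A, y = n • z) ∧ ℓ • y = x) ∧
    (∀ H : AddSubgroup A, (∀ ℓ ∈ P, ∀ x ∈ H, ∃ y ∈ H, ℓ • y = x) →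
        ∀ x ∈ H, ∀ n ∈ IP, ∃ y : A, x = n • y) := by
  have hIPmul : ∀ a b, a ∈ IP → b ∈ IP → a * b ∈ IP := by
    intro a b ha hb
    rw [hIP] at ha hb ⊢
    refine ⟨Nat.mul_pos ha.1 hb.1, fun p hp hdvd => ?_⟩
    rcases (Nat.Prime.dvd_mul hp).mp hdvd with h | h
    · exact ha.2 p hp h
    · exact hb.2 p hp h
  constructor
  · intro ℓ hℓ x hx
    have hℓIP : ℓ ∈ IP := by
      rw [hIP]
      refine ⟨(hP ℓ hℓ).pos, fun p hp hd => ?_⟩
      rw [(Nat.prime_dvd_prime_iff_eq hp (hP ℓ hℓ)).mp hd]; exact hℓ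
    have hM : ℓ * N * N ∈ IP := hIPmul _ _ (hIPmul _ _ hℓIP hN) hN
    obtain ⟨c, hc⟩ := hx _ hM
    -- step 1
    have h1 : ∀ n : IP, N • φ n c = 0 := by
      apply htor (fun n => φ n c)
      · intro m n h; exact hφg m n h c
      · refine ⟨ℓ * N * N, ((hIP _).mp hM).1, fun n => ?_⟩
        obtain ⟨y, hy⟩ := hx n n.2
        rw [← map_nsmul, ← hc, hy, hφ]
    -- step 2
    have h2 : ∀ n : IP, ∃ c' : A, N • (N • c) = (n : ℕ) • c' := by
      apply hker (fun _ => N • c)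
      · intro m n _; exact ⟨0, by simp⟩
      · intro n; rw [map_nsmul]; exact h1 n
    refine ⟨N • (N • c), fun n hn => h2 ⟨n, hn⟩, ?_⟩
    rw [hc, mul_smul, mul_smul]
  · intro H hH x hx n hn
    -- H divisible by all n ∈ IP
    have key : ∀ n : ℕ, n ∈ IP → ∀ x ∈ H, ∃ y ∈ H, n • y = x := by
      intro n
      induction n using Nat.recOnMul with
      | zero => intro h; exact absurd ((hIP 0).mp h).1 (lt_irrefl 0)
      | one => intro _ x hx; exact ⟨x, hx, one_smul _ _⟩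
      | prime p hp => intro h x hx; exact hH p (((hIP p).mp h).2 p hp dvd_rfl) x hx
      | mul a b iha ihb =>
        intro hab x hx
        have hab' := (hIP _).mp hab
        have ha : a ∈ IP := (hIP a).mpr ⟨Nat.pos_of_ne_zero (fun h0 => by
            have := hab'.1; rw [h0, zero_mul] at this; exact lt_irrefl 0 this),
          fun p hp hd => hab'.2 p hp (dvd_mul_of_dvd_left hd b)⟩
        have hb : b ∈ IP := (hIP b).mpr ⟨Nat.pos_of_ne_zero (fun h0 => by
            have := hab'.1; rw [h0, mul_zero] at this; exact lt_irrefl 0 this),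
          fun p hp hd => hab'.2 p hp (dvd_mul_of_dvd_right hd a)⟩
        obtain ⟨y, hy, rfl⟩ := iha ha x hx
        obtain ⟨z, hz, rfl⟩ := ihb hb y hy
        exact ⟨z, hz, by rw [mul_smul]⟩
    obtain ⟨y, _, hy⟩ := key n hn x hx
    exact ⟨y, hy.symm⟩

end Groth.Agent.S16346
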