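import Groth.Statements.S16351
import Groth.Agent.Lib.Helper6.Cone.Main

set_option autoImplicit false
universe u
open Cubic

namespace Groth.Agent.S16351

/-- Let K be a field of characteristic zero and S = V(F) ⊂ P^3_K a cone over a plane cubic curve C,
normalised so that the vertex is [1 : 0 : 0 : 0], i.e. F is a homogeneous cubic in K[x_0, …, x_3]
not involving x_0 and C = V(F) in the plane P^2 of the coordinates x_1, x_2, x_3. If C has five
K-rational points no three of which are collinear, then S has five K-rational points in general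
position (no four coplanar: any four representing vectors linearly independent). -/
theorem result (K : Type u) [Field K] [CharZero K]
    (G : MvPolynomial (Fin 3) K) (hG : G.IsHomogeneous 3) (F : MvPolynomial (Fin 4) K)
    (hF : F = MvPolynomial.rename Fin.succ G)
    (b : Fin 5 → (Fin 3 → K)) (hb : ∀ j : Fin 5, MvPolynomial.eval (b j) G = 0)
    (h3 : ∀ i j l : Fin 5, i ≠ j → j ≠ l → i ≠ l → LinearIndependent K ![b i, b j, b l]) :
    ∃ p : Fin 5 → (Fin 4 → K), (∀ j : Fin 5, MvPolynomial.eval (p j) F = 0) ∧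
      ∀ j : Fin 5, LinearIndependent K (fun i : Fin 4 => p (j.succAbove i)) := by
  classical
  have hd : ∀ i j l : Fin 5, i ≠ j → j ≠ l → i ≠ l →
      Lib.Helper6.Cone.D3 (b i) (b j) (b l) ≠ 0 := fun i j l h1 h2 h3' =>
    Lib.Helper6.Cone.D3_ne_zero (h3 i j l h1 h2 h3')
  set D := fun i j l : Fin 5 => Lib.Helper6.Cone.D3 (b i) (b j) (b l) with hD
  obtain ⟨s, hs⟩ := Infinite.exists_notMem_finset
    ({0, D 2 3 4 / D 0 2 3, D 1 3 4 / D 0 1 3, D 1 2 4 / D 0 1 2} : Finset K)
  simp only [Finset.mem_insert, Finset.mem_singleton, not_or] at hs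
  obtain ⟨hs0, hs1, hs2, hs3⟩ := hs
  have h123 : D 1 2 3 ≠ 0 := hd 1 2 3 (by decide) (by decide) (by decide)
  have h023 : D 0 2 3 ≠ 0 := hd 0 2 3 (by decide) (by decide) (by decide)
  have h013 : D 0 1 3 ≠ 0 := hd 0 1 3 (by decide) (by decide) (by decide)
  have h012 : D 0 1 2 ≠ 0 := hd 0 1 2 (by decide) (by decide) (by decide)
  let c : Fin 5 → K := ![1, 0, 0, 0, s]
  refine ⟨fun j => Fin.cons (c j) (b j), ?_, ?_⟩
  · intro j
    rw [hF, MvPolynomial.eval_rename]
    have : ((Fin.cons (c j) (b j) : Fin 4 → K) ∘ Fin.succ) = b j := by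
      funext i
      simp [Fin.cons_succ]
    rw [this]
    exact hb j
  · intro j
    apply Lib.Helper6.Cone.li4 (c := fun i => c (j.succAbove i)) (v := fun i => b (j.succAbove i))
    fin_cases j
    · change c 1 * D 2 3 4 - c 2 * D 1 3 4 + c 3 * D 1 2 4 - c 4 * D 1 2 3 ≠ 0
      have : c 1 * D 2 3 4 - c 2 * D 1 3 4 + c 3 * D 1 2 4 - c 4 * D 1 2 3 = -(s * D 1 2 3) := by
        simp [c]
      rw [this]
      exact neg_ne_zero.mpr (mul_ne_zero hs0 h123)
    · change c 0 * D 2 3 4 - c 2 * D 0 3 4 + c 3 * D 0 2 4 - c 4 * D 0 2 3 ≠ 0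
      have : c 0 * D 2 3 4 - c 2 * D 0 3 4 + c 3 * D 0 2 4 - c 4 * D 0 2 3
          = D 2 3 4 - s * D 0 2 3 := by
        simp [c]
      rw [this]
      intro h
      apply hs1
      rw [eq_div_iff h023]
      linear_combination -h
    · change c 0 * D 1 3 4 - c 1 * D 0 3 4 + c 3 * D 0 1 4 - c 4 * D 0 1 3 ≠ 0
      have : c 0 * D 1 3 4 - c 1 * D 0 3 4 + c 3 * D 0 1 4 - c 4 * D 0 1 3
          = D 1 3 4 - s * D 0 1 3 := by
        simp [c]
      rw [this]
      intro h
      apply hs2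
      rw [eq_div_iff h013]
      linear_combination -h
    · change c 0 * D 1 2 4 - c 1 * D 0 2 4 + c 2 * D 0 1 4 - c 4 * D 0 1 2 ≠ 0
      have : c 0 * D 1 2 4 - c 1 * D 0 2 4 + c 2 * D 0 1 4 - c 4 * D 0 1 2
          = D 1 2 4 - s * D 0 1 2 := by
        simp [c]
      rw [this]
      intro h
      apply hs3
      rw [eq_div_iff h012]
      linear_combination -h
    · change c 0 * D 1 2 3 - c 1 * D 0 2 3 + c 2 * D 0 1 3 - c 3 * D 0 1 2 ≠ 0
      have : c 0 * D 1 2 3 - c 1 * D 0 2 3 + c 2 * D 0 1 3 - c 3 * D 0 1 2 = D 1 2 3 := by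
        simp [c]
      rw [this]
      exact h123

end Groth.Agent.S16351
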