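import Groth.Statements.S16357
import Mathlib

set_option autoImplicit false
universe u
open OrdAV

namespace Groth.Agent.S16357

/-- Over a field L of characteristic zero, a monic polynomial h whose square has rational coefficients
has rational coefficients itself. -/
theorem result (L : Type u) [Field L] [CharZero L]
    (h : Polynomial L) (hm : h.Monic) (f : Polynomial ℚ)
    (hf : h ^ 2 = Polynomial.map (algebraMap ℚ L) f) :
    ∃ g : Polynomial ℚ, Polynomial.map (algebraMap ℚ L) g = h := by
  set Q : Subfield L := (algebraMap ℚ L).fieldRange with hQ
  set n := h.natDegree with hn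
  have hsq : ∀ m, (h * h).coeff m ∈ Q := by
    intro m
    rw [← sq, hf, Polynomial.coeff_map]
    exact ⟨_, rfl⟩
  have hzero : ∀ i, n < i → h.coeff i = 0 := fun i hi => Polynomial.coeff_eq_zero_of_natDegree_lt hi
  have key : ∀ k, k ≤ n → h.coeff (n - k) ∈ Q := by
    intro k
    induction k using Nat.strong_induction_on with
    | _ k ih =>
      intro hk
      rcases Nat.eq_zero_or_pos k with rfl | hkpos
      · rw [Nat.sub_zero]
        have : h.coeff n = 1 := hm
        rw [this]; exact Q.one_mem
      · have hS := hsq (n + (n - k))
        rw [Polynomial.coeff_mul] at hS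
        classical
        have ht1 : (n - k, n) ∈ Finset.HasAntidiagonal.antidiagonal (n + (n - k)) := by
          rw [Finset.HasAntidiagonal.mem_antidiagonal]; omega
        have ht2 : (n, n - k) ∈ (Finset.HasAntidiagonal.antidiagonal (n + (n - k))).erase (n - k, n) := by
          rw [Finset.mem_erase, Finset.HasAntidiagonal.mem_antidiagonal]
          refine ⟨?_, rfl⟩
          intro heq
          have := (Prod.mk.inj heq).1
          omega
        rw [← Finset.add_sum_erase _ _ ht1, ← Finset.add_sum_erase _ _ ht2] at hS
        have hlead : h.coeff n = 1 := hm
        simp only [hlead, mul_one, one_mul] at hS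
        have hrest : ∑ x ∈ ((Finset.HasAntidiagonal.antidiagonal (n + (n - k))).erase (n - k, n)).erase (n, n - k),
            h.coeff x.1 * h.coeff x.2 ∈ Q := by
          apply Q.sum_mem
          rintro ⟨i, j⟩ hx
          rw [Finset.mem_erase, Finset.mem_erase, Finset.HasAntidiagonal.mem_antidiagonal] at hx
          obtain ⟨hne2, hne1, hij⟩ := hx
          simp only at hij
          by_cases hi : n < i
          · rw [hzero i hi, zero_mul]; exact Q.zero_mem
          by_cases hj : n < j
          · rw [hzero j hj, mul_zero]; exact Q.zero_mem
          have hi1 : i ≠ n - k := by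
            intro h1
            apply hne1
            have : j = n := by omega
            rw [h1, this]
          have hi2 : i ≠ n := by
            intro h1
            apply hne2
            have : j = n - k := by omega
            rw [h1, this]
          have hi3 : i = n - (n - i) := by omega
          have hj3 : j = n - (n - j) := by omega
          apply Q.mul_mem
          · rw [hi3]; exact ih (n - i) (by omega) (by omega)
          · rw [hj3]; exact ih (n - j) (by omega) (by omega)
        have h2 : h.coeff (n - k) + h.coeff (n - k) ∈ Q := by
          have := Q.sub_mem hS hrest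
          have e : h.coeff (n - k) + (h.coeff (n - k) + ∑ x ∈ ((Finset.HasAntidiagonal.antidiagonal (n + (n - k))).erase (n - k, n)).erase (n, n - k),
            h.coeff x.1 * h.coeff x.2) - ∑ x ∈ ((Finset.HasAntidiagonal.antidiagonal (n + (n - k))).erase (n - k, n)).erase (n, n - k),
            h.coeff x.1 * h.coeff x.2 = h.coeff (n - k) + h.coeff (n - k) := by ring
          rwa [e] at this
        have h2' : (2 : L) ∈ Q := by
          have : (2 : L) = algebraMap ℚ L 2 := by simp
          rw [this]; exact ⟨2, rfl⟩
        have : h.coeff (n - k) = (h.coeff (n - k) + h.coeff (n - k)) * (2 : L)⁻¹ := by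
          field_simp
          ring
        rw [this]
        exact Q.mul_mem h2 (Q.inv_mem h2')
  have hlifts : h ∈ Polynomial.lifts (algebraMap ℚ L) := by
    rw [Polynomial.lifts_iff_coeff_lifts]
    intro i
    by_cases hi : n < i
    · rw [hzero i hi]; exact ⟨0, map_zero _⟩
    · have hi3 : i = n - (n - i) := by omega
      rw [hi3]
      obtain ⟨q, hq⟩ := key (n - i) (by omega)
      exact ⟨q, hq⟩
  exact (Polynomial.mem_lifts _).mp hlifts

end Groth.Agent.S16357
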