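import Groth.Statements.S16360
import Groth.Agent.Lib.Helper6.HensPerf.HP3
import Groth.Agent.Lib.Helper7.Hensel.IntegralDomain

set_option autoImplicit false
universe u
open Hensel

namespace Groth.Agent.S16360

/-- Let R be a discrete valuation ring that is Henselian and excellent, write k for its residue field
and p for the characteristic exponent of k. There is a Henselian discrete valuation ring R' and an
injective ring map R → R' such that the maximal ideal of R generates that of R' (so a uniformizer of
R is a uniformizer of R'), R' is the directed union of R-subalgebras that are finite free R-modules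
of rank a power of p, and the residue field k' of R' is a perfect closure of k: every element of k'
is a p-th power in k', and some p-power-th power of it lies in the image of k. (The published
statement also asserts that R' is excellent; that is not asserted here.) -/
theorem result (R : Type u) [CommRing R] [IsDomain R]
    [IsDiscreteValuationRing R] [HenselianLocalRing R] (hR : EGA4.IsExcellent R) :
    ∃ (R' : Type u) (_ : CommRing R') (_ : IsDomain R') (_ : IsDiscreteValuationRing R')
      (_ : HenselianLocalRing R') (_ : Algebra R R'),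
      Function.Injective (algebraMap R R') ∧
      Ideal.map (algebraMap R R') (IsLocalRing.maximalIdeal R) = IsLocalRing.maximalIdeal R' ∧
      (∀ s : Finset R', ∃ S : Subalgebra R R', (↑s : Set R') ⊆ ↑S ∧ Module.Finite R S ∧ Module.Free R S ∧
        ∃ m : ℕ, Module.finrank R S = ringExpChar (IsLocalRing.ResidueField R) ^ m) ∧
      (∀ y : R', ∃ z : R', z ^ ringExpChar (IsLocalRing.ResidueField R) - y ∈ IsLocalRing.maximalIdeal R') ∧
      (∀ y : R', ∃ (m : ℕ) (z : R),
        algebraMap R R' z - y ^ (ringExpChar (IsLocalRing.ResidueField R) ^ m) ∈ IsLocalRing.maximalIdeal R') := by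
  classical
  generalize hpdef : ringExpChar (IsLocalRing.ResidueField R) = p
  have hE : ExpChar (IsLocalRing.ResidueField R) p :=
    hpdef ▸ ringExpChar.expChar (IsLocalRing.ResidueField R)
  rcases expChar_is_prime_or_one (IsLocalRing.ResidueField R) p with hp | hp1
  · -- residue characteristic `p` prime
    have hcast : ((p : ℕ) : IsLocalRing.ResidueField R) = 0 := by
      cases hE with
      | zero => exact absurd hp Nat.not_prime_one
      | prime hq => exact CharP.cast_eq_zero _ p
    obtain ⟨ϖ, hϖ⟩ := IsDiscreteValuationRing.exists_irreducible R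
    have hpm : (p : R) ∈ IsLocalRing.maximalIdeal R := by
      rw [← IsLocalRing.residue_eq_zero_iff, map_natCast]
      exact hcast
    rw [hϖ.maximalIdeal_eq, Ideal.mem_span_singleton'] at hpm
    obtain ⟨t₀, ht₀⟩ := hpm
    have hinj : Function.Injective (algebraMap R (AlgebraicClosure (FractionRing R))) := by
      rw [IsScalarTower.algebraMap_eq R (FractionRing R) (AlgebraicClosure (FractionRing R))]
      exact (algebraMap (FractionRing R) _).injective.comp
        (IsFractionRing.injective R (FractionRing R))
    obtain ⟨T, hT, hperf⟩ := Groth.Agent.Lib.Helper6.HensPerf.exists_perfect_good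
      (Ω := AlgebraicClosure (FractionRing R)) hp hϖ ⟨t₀, by rw [← ht₀, mul_comm]⟩ hinj
    haveI hdvr : IsDiscreteValuationRing T :=
      Groth.Agent.Lib.Helper6.HensPerf.isDVR_of_good hϖ.ne_zero hinj hT
    have hϖT := Groth.Agent.Lib.Helper6.HensPerf.irreducible_of_good hϖ.ne_zero hinj hT
    haveI hint : Algebra.IsIntegral R T := by
      refine ⟨fun x => ?_⟩
      obtain ⟨S, hST, hxS, hfin, -, -⟩ := hT.fin {x.1} (by
        intro c hc
        rw [Finset.coe_singleton, Set.mem_singleton_iff] at hc
        rw [hc]
        exact x.2)
      have hxS' : x.1 ∈ S := hxS (by rw [Finset.coe_singleton]; exact Set.mem_singleton _)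
      have h1 : IsIntegral R (⟨x.1, hxS'⟩ : S) := (Algebra.IsIntegral.of_finite R S).isIntegral _
      have h2 : IsIntegral R (S.val ⟨x.1, hxS'⟩) := h1.map S.val
      exact (isIntegral_algHom_iff T.val Subtype.val_injective).mp h2
    haveI hhens : HenselianLocalRing T :=
      Groth.Agent.Helper7.Hensel.henselianLocalRing_of_isIntegral_of_isLocalRing R T
    refine ⟨T, inferInstance, inferInstance, hdvr, hhens, inferInstance, ?_, ?_, ?_, ?_, ?_⟩
    · intro a b h
      exact hinj (congrArg Subtype.val h)
    · rw [hϖ.maximalIdeal_eq, hϖT.maximalIdeal_eq, Ideal.map_span, Set.image_singleton]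
    · intro s
      obtain ⟨S, hST, hsS, hfin, hfree, m, hrank⟩ := hT.fin (s.image Subtype.val) (by
        intro c hc
        rw [Finset.coe_image] at hc
        obtain ⟨x, -, rfl⟩ := hc
        exact x.2)
      refine ⟨(Subalgebra.inclusion hST).range, ?_,
        Module.Finite.equiv (AlgEquiv.ofInjective (Subalgebra.inclusion hST)
          (Subalgebra.inclusion_injective hST)).toLinearEquiv,
        Module.Free.of_equiv (AlgEquiv.ofInjective (Subalgebra.inclusion hST)
          (Subalgebra.inclusion_injective hST)).toLinearEquiv, m, ?_⟩
      · intro x hx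
        have hxS : x.1 ∈ S := hsS (by
          rw [Finset.coe_image]
          exact ⟨x, hx, rfl⟩)
        exact (AlgHom.mem_range _).mpr ⟨⟨x.1, hxS⟩, Subtype.ext rfl⟩
      · rw [← (AlgEquiv.ofInjective (Subalgebra.inclusion hST)
          (Subalgebra.inclusion_injective hST)).toLinearEquiv.finrank_eq, hrank]
    · intro y
      obtain ⟨w, hw, t, ht, h⟩ := hperf y.1 y.2
      refine ⟨⟨w, hw⟩, ?_⟩
      rw [hϖT.maximalIdeal_eq, Ideal.mem_span_singleton']
      refine ⟨⟨t, ht⟩, Subtype.ext ?_⟩
      rw [Subalgebra.coe_mul, Subalgebra.coe_sub, Subalgebra.coe_pow, Subalgebra.coe_algebraMap]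
      rw [mul_comm]
      exact h.symm
    · intro y
      obtain ⟨m, z₀, t, ht, h⟩ := hT.res y.1 y.2
      refine ⟨m, z₀, ?_⟩
      rw [hϖT.maximalIdeal_eq, Ideal.mem_span_singleton']
      refine ⟨⟨t, ht⟩, Subtype.ext ?_⟩
      rw [Subalgebra.coe_mul, Subalgebra.coe_sub, Subalgebra.coe_pow, Subalgebra.coe_algebraMap,
        Subalgebra.coe_algebraMap]
      rw [mul_comm]
      exact h.symm
  · -- residue characteristic zero: take `R' = R`
    refine ⟨R, inferInstance, inferInstance, inferInstance, inferInstance, Algebra.id R,
      Function.injective_id, ?_, ?_, ?_, ?_⟩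
    · exact Ideal.map_id _
    · intro s
      refine ⟨⊤, fun x _ => Algebra.mem_top, Module.Finite.equiv
        (Subalgebra.topEquiv (R := R) (A := R)).symm.toLinearEquiv,
        Module.Free.of_equiv (Subalgebra.topEquiv (R := R) (A := R)).symm.toLinearEquiv, 0, ?_⟩
      rw [pow_zero, (Subalgebra.topEquiv (R := R) (A := R)).toLinearEquiv.finrank_eq,
        Module.finrank_self]
    · intro y
      refine ⟨y, ?_⟩
      rw [hp1, pow_one, sub_self]
      exact zero_mem _
    · intro y
      refine ⟨0, y, ?_⟩
      rw [pow_zero, pow_one, Algebra.algebraMap_self, RingHom.id_apply, sub_self]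
      exact zero_mem _

end Groth.Agent.S16360
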