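import Groth.Statements.S16362
import Mathlib

set_option autoImplicit false
universe u
open MovLem

namespace Groth.Agent.S16362

/-- Let A be a commutative ring, p a prime ideal of A, and ζ, u elements of A with u not in p. Then the
quotient of the classes of ζ and u in the fraction field of the domain A ⧸ p is integral over A ⧸ p
if and only if there exist a natural number N and elements a_1, …, a_N of A such that ζ^N + a_1
ζ^(N-1) u + ⋯ + a_N u^N lies in p; equivalently, some binary form of degree N with coefficients in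
A, monic in the first variable, evaluated at (ζ, u), lies in p. -/
theorem result
    {A : Type u} [CommRing A] (p : Ideal A) [p.IsPrime] (ζ u : A) (hu : u ∉ p) :
    IsIntegral (A ⧸ p)
        (algebraMap (A ⧸ p) (FractionRing (A ⧸ p)) (Ideal.Quotient.mk p ζ) /
          algebraMap (A ⧸ p) (FractionRing (A ⧸ p)) (Ideal.Quotient.mk p u)) ↔
      ∃ (N : ℕ) (a : ℕ → A),
        ζ ^ N + ∑ i ∈ Finset.Icc 1 N, a i * ζ ^ (N - i) * u ^ i ∈ p := by
  set K := FractionRing (A ⧸ p)
  set φ : A →+* K := (algebraMap (A ⧸ p) K).comp (Ideal.Quotient.mk p) with hφ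
  have hφ0 : ∀ x : A, φ x = 0 ↔ x ∈ p := by
    intro x
    rw [hφ, RingHom.comp_apply, IsFractionRing.to_map_eq_zero_iff, Ideal.Quotient.eq_zero_iff_mem]
  have hW : φ u ≠ 0 := fun h => hu ((hφ0 u).mp h)
  have hid : ∀ (N i : ℕ), i ≤ N → (φ ζ / φ u) ^ (N - i) * φ u ^ N = φ ζ ^ (N - i) * φ u ^ i := by
    intro N i hi
    have e2 : φ u ^ N = φ u ^ (N - i) * φ u ^ i := by rw [← pow_add]; congr 1; omega
    rw [div_pow, e2, ← mul_assoc, div_mul_cancel₀ _ (pow_ne_zero _ hW)]
  change IsIntegral (A ⧸ p) (φ ζ / φ u) ↔ _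
  constructor
  · rintro ⟨P, hmonic, hP⟩
    set N := P.natDegree with hN
    have hsurj : ∀ j : ℕ, ∃ c : A, Ideal.Quotient.mk p c = P.coeff j := fun j => Ideal.Quotient.mk_surjective _
    choose c hc using hsurj
    refine ⟨N, fun i => c (N - i), ?_⟩
    rw [← hφ0]
    rw [Polynomial.eval₂_eq_sum_range, Finset.sum_range_succ] at hP
    have hlead : P.coeff N = 1 := hmonic
    rw [← hN, hlead, map_one, one_mul] at hP
    have hP' := congrArg (fun t => t * φ u ^ N) hP
    simp only [zero_mul, add_mul] at hP'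
    rw [Finset.sum_mul] at hP'
    rw [div_pow, div_mul_cancel₀ _ (pow_ne_zero N hW)] at hP'
    rw [map_add, map_pow, map_sum]
    rw [← hP', add_comm]
    congr 1
    apply Finset.sum_bij' (fun i _ => N - i) (fun j _ => N - j)
    · intro i hi; rw [Finset.mem_Icc] at hi; rw [Finset.mem_range]; omega
    · intro j hj; rw [Finset.mem_range] at hj; rw [Finset.mem_Icc]; omega
    · intro i hi; rw [Finset.mem_Icc] at hi; omega
    · intro j hj; rw [Finset.mem_range] at hj; omega
    · intro i hi
      rw [Finset.mem_Icc] at hi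
      simp only [map_mul, map_pow]
      have e1 : φ (c (N - i)) = algebraMap (A ⧸ p) K (P.coeff (N - i)) := by
        rw [hφ, RingHom.comp_apply, hc]
      rw [e1]
      have := hid N i hi.2
      have e3 : N - (N - i) = i := by omega
      rw [mul_assoc, mul_assoc, this]
  · rintro ⟨N, a, ha⟩
    rw [← hφ0] at ha
    let Q : Polynomial (A ⧸ p) := ∑ i ∈ Finset.Icc 1 N, Polynomial.C (Ideal.Quotient.mk p (a i)) * Polynomial.X ^ (N - i)
    have hQdeg : Q.degree < N := by
      refine (Polynomial.degree_sum_le _ _).trans_lt ?_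
      refine (Finset.sup_lt_iff (WithBot.bot_lt_coe N)).mpr ?_
      intro i hi
      rw [Finset.mem_Icc] at hi
      refine (Polynomial.degree_C_mul_X_pow_le _ _).trans_lt ?_
      exact WithBot.coe_lt_coe.mpr (by omega : N - i < N)
    refine ⟨Polynomial.X ^ N + Q, Polynomial.monic_X_pow_add hQdeg, ?_⟩
    rw [Polynomial.eval₂_add, Polynomial.eval₂_X_pow]
    simp only [Q, Polynomial.eval₂_finsetSum, Polynomial.eval₂_mul, Polynomial.eval₂_C,
      Polynomial.eval₂_X_pow]
    have hne : φ u ^ N ≠ 0 := pow_ne_zero N hW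
    apply mul_right_cancel₀ hne
    rw [zero_mul, add_mul, Finset.sum_mul, div_pow, div_mul_cancel₀ _ hne]
    rw [map_add, map_pow, map_sum] at ha
    rw [← ha]
    congr 1
    apply Finset.sum_congr rfl
    intro i hi
    rw [Finset.mem_Icc] at hi
    simp only [map_mul, map_pow]
    have e1 : algebraMap (A ⧸ p) K (Ideal.Quotient.mk p (a i)) = φ (a i) := rfl
    rw [e1, mul_assoc, mul_assoc, hid N i hi.2]

end Groth.Agent.S16362
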