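import Groth.Statements.S16367
import Mathlib
-- import your own Groth.Agent.* helpers here

set_option autoImplicit false
universe u
open MovLem

namespace Groth.Agent.S16367

namespace Aux
open Polynomial

section
variable {k : Type u} [CommRing k] {d n : ℕ}

/-- one monomial term of `φ` -/
noncomputable def term (U : MvPolynomial (Fin d ⊕ Fin n) k) (v : Fin d → k) (N s : ℕ)
    (m : (Fin d ⊕ Fin n) →₀ ℕ) (a : k) : Polynomial (MvPolynomial (Fin d ⊕ Fin n) k) :=
  Polynomial.C (MvPolynomial.C a) *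
    Polynomial.X ^ (N - ∑ i : Fin d, m (Sum.inl i)) *
    (∏ i : Fin d, (Polynomial.X * Polynomial.C (MvPolynomial.X (Sum.inl i)) +
        Polynomial.C (U ^ s * MvPolynomial.C (v i))) ^ m (Sum.inl i)) *
    ∏ j : Fin n, Polynomial.C (MvPolynomial.X (Sum.inr j)) ^ m (Sum.inr j)

lemma C_monomial (m : (Fin d ⊕ Fin n) →₀ ℕ) (a : k) :
    (Polynomial.C (MvPolynomial.monomial m a) : Polynomial (MvPolynomial (Fin d ⊕ Fin n) k)) =
      Polynomial.C (MvPolynomial.C a) *
        (∏ i : Fin d, Polynomial.C (MvPolynomial.X (Sum.inl i)) ^ m (Sum.inl i)) *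
        ∏ j : Fin n, Polynomial.C (MvPolynomial.X (Sum.inr j)) ^ m (Sum.inr j) := by
  rw [MvPolynomial.monomial_eq, Finsupp.prod_fintype _ _ (fun i => pow_zero _),
    Fintype.prod_sum_type, map_mul, map_mul, map_prod, map_prod, mul_assoc]
  simp only [map_pow]

lemma term_hom {S : Type*} [CommRing S] (g : Polynomial (MvPolynomial (Fin d ⊕ Fin n) k) →+* S)
    (U : MvPolynomial (Fin d ⊕ Fin n) k) (v : Fin d → k) (N s : ℕ)
    (m : (Fin d ⊕ Fin n) →₀ ℕ) (a : k) (hm : ∑ i : Fin d, m (Sum.inl i) ≤ N)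
    (h1 : ∀ i : Fin d, g (Polynomial.C (U ^ s * MvPolynomial.C (v i))) = 0) :
    g (term U v N s m a) = g (Polynomial.X ^ N * Polynomial.C (MvPolynomial.monomial m a)) := by
  rw [C_monomial]
  unfold term
  simp only [map_mul g, map_pow g, map_prod g, map_add g, h1, add_zero]
  simp only [mul_pow, Finset.prod_mul_distrib, Finset.prod_pow_eq_pow_sum]
  have : (g Polynomial.X) ^ N =
      (g Polynomial.X) ^ (N - ∑ i : Fin d, m (Sum.inl i)) *
        (g Polynomial.X) ^ (∑ i : Fin d, m (Sum.inl i)) := by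
    rw [← pow_add, Nat.sub_add_cancel hm]
  rw [this]
  ring

lemma term_eq (U : MvPolynomial (Fin d ⊕ Fin n) k) (v : Fin d → k) (N s : ℕ) (hs : N ≤ s)
    (m : (Fin d ⊕ Fin n) →₀ ℕ) (a : k) (hm : ∑ i : Fin d, m (Sum.inl i) ≤ N) :
    ∃ r : Polynomial (MvPolynomial (Fin d ⊕ Fin n) k),
      term U v N s m a = Polynomial.X ^ N * Polynomial.C (MvPolynomial.monomial m a) +
        Polynomial.C U ^ N * r := by
  have hB : ∀ i : Fin d, (Polynomial.C (U ^ s * MvPolynomial.C (v i)) :
      Polynomial (MvPolynomial (Fin d ⊕ Fin n) k)) ∈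
        (Ideal.span {Polynomial.C U ^ N} : Ideal (Polynomial (MvPolynomial (Fin d ⊕ Fin n) k))) := by
    intro i
    rw [Ideal.mem_span_singleton]
    refine ⟨Polynomial.C (U ^ (s - N) * MvPolynomial.C (v i)), ?_⟩
    rw [← map_pow, ← map_mul, ← mul_assoc, ← pow_add, Nat.add_sub_cancel' hs]
  have hmk := term_hom (S := Polynomial (MvPolynomial (Fin d ⊕ Fin n) k) ⧸
      (Ideal.span {Polynomial.C U ^ N} : Ideal (Polynomial (MvPolynomial (Fin d ⊕ Fin n) k))))
    (Ideal.Quotient.mk
    (Ideal.span {Polynomial.C U ^ N} : Ideal (Polynomial (MvPolynomial (Fin d ⊕ Fin n) k))))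
    U v N s m a hm (fun i => Ideal.Quotient.eq_zero_iff_mem.mpr (hB i))
  have := Ideal.Quotient.eq.mp hmk
  rw [Ideal.mem_span_singleton] at this
  obtain ⟨r, hr⟩ := this
  exact ⟨r, by rw [← hr]; ring⟩

lemma term_zero (U : MvPolynomial (Fin d ⊕ Fin n) k) (v : Fin d → k) (s : ℕ)
    (m : (Fin d ⊕ Fin n) →₀ ℕ) (a : k) (hm : ∑ i : Fin d, m (Sum.inl i) ≤ 0) :
    term U v 0 s m a = Polynomial.C (MvPolynomial.monomial m a) := by
  have h0 : ∀ i : Fin d, m (Sum.inl i) = 0 := by
    intro i
    have := Finset.single_le_sum (f := fun i : Fin d => m (Sum.inl i)) (fun _ _ => Nat.zero_le _)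
      (Finset.mem_univ i)
    have h2 : m (Sum.inl i) ≤ 0 := le_trans this hm
    omega
  rw [C_monomial]
  unfold term
  simp only [h0, pow_zero, Finset.prod_const_one, Finset.sum_const_zero, mul_one, Nat.sub_self]

theorem main (d n : ℕ) (u : MvPolynomial (Fin d) k) (v : Fin d → k)
    (J : Finset (Fin n)) (N s : ℕ) (hs : N ≤ s)
    {Λ : Type u} [Fintype Λ] (f : Λ → MvPolynomial (Fin d ⊕ Fin n) k)
    (hdeg : ∀ l, ∀ m ∈ (f l).support, ∑ i : Fin d, m (Sum.inl i) ≤ N)
    (c : ℕ → MvPolynomial (Fin d ⊕ Fin n) k)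
    (hE : (∏ j ∈ J, MvPolynomial.X (Sum.inr j)) ^ N +
        ∑ i ∈ Finset.Icc 1 N, c i * (∏ j ∈ J, MvPolynomial.X (Sum.inr j)) ^ (N - i) *
          MvPolynomial.rename Sum.inl u ^ i ∈ Ideal.span (Set.range f)) :
    ∃ c' : ℕ → Polynomial (MvPolynomial (Fin d ⊕ Fin n) k),
      (Polynomial.X * Polynomial.C (∏ j ∈ J, MvPolynomial.X (Sum.inr j))) ^ N +
        ∑ i ∈ Finset.Icc 1 N, c' i *
          (Polynomial.X * Polynomial.C (∏ j ∈ J, MvPolynomial.X (Sum.inr j))) ^ (N - i) *
            Polynomial.C (MvPolynomial.rename Sum.inl u) ^ i ∈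
      Ideal.span (Set.range fun l : Λ =>
        ∑ m ∈ (f l).support, term (MvPolynomial.rename Sum.inl u) v N s m
          (MvPolynomial.coeff m (f l))) := by
  set U := MvPolynomial.rename (Sum.inl : Fin d → Fin d ⊕ Fin n) u with hU
  set ζ : MvPolynomial (Fin d ⊕ Fin n) k := ∏ j ∈ J, MvPolynomial.X (Sum.inr j) with hζ
  set φ : Λ → Polynomial (MvPolynomial (Fin d ⊕ Fin n) k) := fun l =>
    ∑ m ∈ (f l).support, term U v N s m (MvPolynomial.coeff m (f l)) with hφ
  obtain ⟨a, ha⟩ := Ideal.mem_span_range_iff_exists_fun.mp hE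
  have hG : ∑ l, Polynomial.C (a l) * φ l ∈ Ideal.span (Set.range φ) :=
    Ideal.sum_mem _ (fun l _ => Ideal.mul_mem_left _ _ (Ideal.subset_span ⟨l, rfl⟩))
  rcases Nat.eq_zero_or_pos N with hN | hN
  · subst hN
    refine ⟨fun _ => 0, ?_⟩
    have hφl : ∀ l, φ l = Polynomial.C (f l) := by
      intro l
      simp only [hφ]
      rw [Finset.sum_congr rfl (fun m hm => term_zero U v s m _ (hdeg l m hm)), ← map_sum,
        MvPolynomial.support_sum_monomial_coeff]
    have : ∑ l, Polynomial.C (a l) * φ l = 1 := by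
      simp only [hφl, ← map_mul, ← map_sum, ha]
      simp
    rw [this] at hG
    simpa using hG
  · -- remainders
    have hrem : ∀ l, ∃ r : Polynomial (MvPolynomial (Fin d ⊕ Fin n) k),
        φ l = Polynomial.X ^ N * Polynomial.C (f l) + Polynomial.C U ^ N * r := by
      intro l
      have h1 : ∀ m : (Fin d ⊕ Fin n) →₀ ℕ, ∃ r : Polynomial (MvPolynomial (Fin d ⊕ Fin n) k),
          m ∈ (f l).support → term U v N s m (MvPolynomial.coeff m (f l)) =
            Polynomial.X ^ N * Polynomial.C (MvPolynomial.monomial m (MvPolynomial.coeff m (f l))) +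
              Polynomial.C U ^ N * r := by
        intro m
        by_cases hm : m ∈ (f l).support
        · obtain ⟨r, hr⟩ := term_eq U v N s hs m (MvPolynomial.coeff m (f l)) (hdeg l m hm)
          exact ⟨r, fun _ => hr⟩
        · exact ⟨0, fun h => absurd h hm⟩
      choose r hr using h1
      refine ⟨∑ m ∈ (f l).support, r m, ?_⟩
      simp only [hφ]
      rw [Finset.sum_congr rfl (fun m hm => hr m hm), Finset.sum_add_distrib, ← Finset.mul_sum,
        ← Finset.mul_sum, ← map_sum, MvPolynomial.support_sum_monomial_coeff]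
    choose r hr using hrem
    set Rm := ∑ l, Polynomial.C (a l) * r l with hRm
    have hGeq : ∑ l, Polynomial.C (a l) * φ l =
        Polynomial.X ^ N * Polynomial.C (ζ ^ N + ∑ i ∈ Finset.Icc 1 N, c i * ζ ^ (N - i) * U ^ i)
          + Polynomial.C U ^ N * Rm := by
      rw [← ha, hRm, map_sum, Finset.mul_sum, Finset.mul_sum, ← Finset.sum_add_distrib]
      refine Finset.sum_congr rfl (fun l _ => ?_)
      rw [hr l, map_mul]
      ring
    refine ⟨fun i => Polynomial.X ^ i * Polynomial.C (c i) + (if i = N then Rm else 0), ?_⟩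
    rw [hGeq] at hG
    convert hG using 1
    rw [map_add, map_pow, mul_add, mul_pow, add_assoc]
    congr 1
    simp only [add_mul, Finset.sum_add_distrib]
    have hN' : N ∈ Finset.Icc 1 N := Finset.mem_Icc.mpr ⟨hN, le_rfl⟩
    have h2 : ∑ i ∈ Finset.Icc 1 N, (if i = N then Rm else 0) *
        (Polynomial.X * Polynomial.C ζ) ^ (N - i) * Polynomial.C U ^ i = Polynomial.C U ^ N * Rm := by
      rw [Finset.sum_eq_single N]
      · rw [if_pos rfl, Nat.sub_self, pow_zero, mul_one, mul_comm]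
      · intro i _ hi
        rw [if_neg hi, zero_mul, zero_mul]
      · intro h; exact absurd hN' h
    rw [h2]
    congr 1
    rw [map_sum, Finset.mul_sum]
    refine Finset.sum_congr rfl (fun i hi => ?_)
    have hiN : i ≤ N := (Finset.mem_Icc.mp hi).2
    have : (Polynomial.X : Polynomial (MvPolynomial (Fin d ⊕ Fin n) k)) ^ N =
        Polynomial.X ^ i * Polynomial.X ^ (N - i) := by
      rw [← pow_add, Nat.add_sub_cancel' hiN]
    rw [this]
    simp only [map_mul, map_pow, mul_pow]
    ring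

end
end Aux

/-- The chart computation of its proof: let k be a commutative ring, P = k[x_1, …, x_d, w_1, …, w_n] a
polynomial ring in two groups of variables, u a polynomial in the x-variables alone, v a vector in
k^d, J a set of indices among the w-variables with ζ = ∏_{j ∈ J} w_j, and N ≤ s natural numbers. Let
(f_λ) be a finite family of elements of P, each of total degree at most N in the x-variables, and
assume that ζ^N + c_1 ζ^(N-1) u + ⋯ + c_N u^N lies in the ideal generated by the f_λ for some c_1,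
…, c_N ∈ P. For each λ let φ_λ ∈ P[τ] be the polynomial τ^N · f_λ(x + u^s v/τ, w), written out
monomial by monomial: a monomial a·x^m·w^m' of x-degree e = |m| contributes a · τ^(N-e) · ∏_i (τ x_i
+ u^s v_i)^(m_i) · w^m'. Then there are c'_1, …, c'_N ∈ P[τ] with (τζ)^N + c'_1 (τζ)^(N-1) u + ⋯ +
c'_N u^N in the ideal of P[τ] generated by the φ_λ. (This identity is what shows that translating a
cycle by t·u^s·v preserves the modulus condition on the chart whose coordinates are the z_i and the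
1/z_j, with τ = 1/t; integrality of ζ/u, resp. τζ/u, is expressed by such monic binary forms.) -/
theorem result
    {k : Type u} [CommRing k] (d n : ℕ) (u : MvPolynomial (Fin d) k) (v : Fin d → k)
    (J : Finset (Fin n)) (N s : ℕ) (hs : N ≤ s)
    {Λ : Type u} [Fintype Λ] (f : Λ → MvPolynomial (Fin d ⊕ Fin n) k)
    (hdeg : ∀ l, ∀ m ∈ (f l).support, ∑ i : Fin d, m (Sum.inl i) ≤ N)
    (c : ℕ → MvPolynomial (Fin d ⊕ Fin n) k)
    (hE : (∏ j ∈ J, MvPolynomial.X (Sum.inr j)) ^ N +
        ∑ i ∈ Finset.Icc 1 N, c i * (∏ j ∈ J, MvPolynomial.X (Sum.inr j)) ^ (N - i) *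
          MvPolynomial.rename Sum.inl u ^ i ∈ Ideal.span (Set.range f)) :
    ∃ c' : ℕ → Polynomial (MvPolynomial (Fin d ⊕ Fin n) k),
      (Polynomial.X * Polynomial.C (∏ j ∈ J, MvPolynomial.X (Sum.inr j))) ^ N +
        ∑ i ∈ Finset.Icc 1 N, c' i *
          (Polynomial.X * Polynomial.C (∏ j ∈ J, MvPolynomial.X (Sum.inr j))) ^ (N - i) *
            Polynomial.C (MvPolynomial.rename Sum.inl u) ^ i ∈
      Ideal.span (Set.range fun l : Λ =>
        ∑ m ∈ (f l).support,
          Polynomial.C (MvPolynomial.C (MvPolynomial.coeff m (f l))) *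
            Polynomial.X ^ (N - ∑ i : Fin d, m (Sum.inl i)) *
            (∏ i : Fin d, (Polynomial.X * Polynomial.C (MvPolynomial.X (Sum.inl i)) +
                Polynomial.C (MvPolynomial.rename Sum.inl u ^ s * MvPolynomial.C (v i))) ^ m (Sum.inl i)) *
            ∏ j : Fin n, Polynomial.C (MvPolynomial.X (Sum.inr j)) ^ m (Sum.inr j)) := by
  exact Aux.main d n u v J N s hs f hdeg c hE

end Groth.Agent.S16367
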