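import Groth.Statements.S16370
import Mathlib

set_option autoImplicit false
universe u
open CategoryTheory AlgebraicGeometry Opposite
open FrobSch

namespace Groth.Agent.S16370

section
open CategoryTheory AlgebraicGeometry Opposite
open CategoryTheory.Abelian

universe w v' u'

theorem ext_bij {C : Type u'} [Category.{v'} C] [Abelian C] [HasExt.{w} C]
    (Z A : C) (f : A ⟶ A) [Mono f]
    (hB : ∀ i : ℕ, Subsingleton (Ext Z (Limits.cokernel f) i)) (i : ℕ) :
    Function.Bijective (fun x : Ext Z A i => x.comp (Ext.mk₀ f) (add_zero i)) := by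
  let S : ShortComplex C := ShortComplex.mk f (Limits.cokernel.π f) (by simp)
  have hS : S.ShortExact :=
    { exact := ShortComplex.exact_cokernel f
      mono_f := inferInstanceAs (Mono f)
      epi_g := inferInstanceAs (Epi (Limits.cokernel.π f)) }
  constructor
  · -- injective
    have key : ∀ x : Ext Z A i, x.comp (Ext.mk₀ f) (add_zero i) = 0 → x = 0 := by
      intro x hx
      rcases i with _ | n
      · have := Ext.postcomp_mk₀_injective_of_mono Z f
        apply this
        simpa using hx
      · obtain ⟨y, hy⟩ := Ext.covariant_sequence_exact₁ Z hS x hx (n₀ := n) rfl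
        have : y = 0 := (hB n).elim _ _
        rw [← hy, this, Ext.zero_comp]
    intro x y hxy
    have h3 : (x - y).comp (Ext.mk₀ f) (add_zero i) = 0 := by
      have h4 := map_sub ((Ext.mk₀ f).postcomp Z (add_zero i)) x y
      change (x - y).comp (Ext.mk₀ f) (add_zero i) =
        x.comp (Ext.mk₀ f) (add_zero i) - y.comp (Ext.mk₀ f) (add_zero i) at h4
      rw [h4]
      exact sub_eq_zero.mpr hxy
    exact sub_eq_zero.mp (key (x - y) h3)
  · intro y
    have h0 : y.comp (Ext.mk₀ S.g) (add_zero i) = 0 := (hB i).elim _ _
    obtain ⟨x, hx⟩ := Ext.covariant_sequence_exact₂ Z hS y h0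
    exact ⟨x, hx⟩

theorem main
    (p : ℕ) [Fact p.Prime] (X : Scheme.{u}) [IsReduced X] (hp : (p : Γ(X, ⊤)) = 0)
    (φ : Coh.toAb (Coh.structureModule X) ⟶ Coh.toAb (Coh.structureModule X))
    (hφ : ∀ (U : X.Opens) (t : Γ(X, U)), φ.hom.app (op U) t = t ^ p)
    (hB : ∀ i : ℕ, Subsingleton (Sheaf.H (Limits.cokernel φ) i))
    (i : ℕ) : Function.Bijective (Sheaf.H.map φ i) := by
  haveI : Mono φ := by
    haveI : Mono φ.hom := by
      apply (config := {allowSynthFailures := true}) NatTrans.mono_of_mono_app
      intro U
      rw [AddCommGrpCat.mono_iff_injective]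
      rw [injective_iff_map_eq_zero]
      intro t ht
      let t' : Γ(X, U.unop) := t
      have h1 := hφ U.unop t'
      have h2 : t' ^ p = 0 := by
        rw [← h1]; exact ht
      exact (pow_eq_zero_iff (Nat.Prime.ne_zero (Fact.out))).mp h2
    exact Sheaf.Hom.mono_of_presheaf_mono _ _ φ
  exact ext_bij _ _ φ hB i


end


/-- (ii) ⇒ (iii): let X be a reduced scheme of prime characteristic p, φ the p-th power map on the sheaf
of additive groups underlying O_X (a monomorphism, X being reduced) and B its cokernel in abelian
sheaves. If H^i(X, B) = 0 for all i ≥ 0, then the endomorphism of H^i(X, O_X) induced by φ — the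
Hasse–Witt operation — is bijective for all i. (The source has X normal and proper over a perfect
field; only reducedness enters this implication.) -/
theorem result
    (p : ℕ) [Fact p.Prime] (X : Scheme.{u}) [IsReduced X] (hp : (p : Γ(X, ⊤)) = 0)
    (φ : Coh.toAb (Coh.structureModule X) ⟶ Coh.toAb (Coh.structureModule X))
    (hφ : ∀ (U : X.Opens) (t : Γ(X, U)), φ.hom.app (op U) t = t ^ p)
    (hB : ∀ i : ℕ, Subsingleton (Sheaf.H (Limits.cokernel φ) i))
    (i : ℕ) : Function.Bijective (Sheaf.H.map φ i) := by
  classical
  exact main p X hp φ hφ hB i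

end Groth.Agent.S16370
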