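import Groth.Statements.S1638
import Mathlib.LinearAlgebra.TensorProduct.RightExactness
import Mathlib.RingTheory.Flat.Basic
import Mathlib.LinearAlgebra.Basis.VectorSpace
import Mathlib.LinearAlgebra.FreeModule.Basic
import Mathlib.RingTheory.Flat.FaithfullyFlat.Basic

set_option autoImplicit false
universe u
open Brauer

namespace Groth.Agent.S1638


open TensorProduct

/-- `(P ⊗ W) ∩ (V ⊗ Q) = P ⊗ Q` inside `V ⊗ W` over a field. -/
lemma mem_range_map_of_mem_inter {k : Type*} [Field k] {V W : Type*} [AddCommGroup V] [Module k V]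
    [AddCommGroup W] [Module k W] (P : Submodule k V) (Q : Submodule k W) (z : V ⊗[k] W)
    (h1 : z ∈ LinearMap.range (P.subtype.rTensor W))
    (h2 : z ∈ LinearMap.range (Q.subtype.lTensor V)) :
    z ∈ LinearMap.range (TensorProduct.map P.subtype Q.subtype) := by
  obtain ⟨v, rfl⟩ := h1
  obtain ⟨w, hw⟩ := h2
  have e1 : (P.mkQ.rTensor W) ((P.subtype.rTensor W) v) = 0 := by
    rw [← LinearMap.comp_apply, ← LinearMap.rTensor_comp]
    have : P.mkQ ∘ₗ P.subtype = 0 := by
      apply LinearMap.ext; intro x; simp
    rw [this, LinearMap.rTensor_zero, LinearMap.zero_apply]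
  have e2 : (Q.subtype.lTensor (V ⧸ P)) ((P.mkQ.rTensor Q) w) = 0 := by
    rw [← LinearMap.comp_apply, LinearMap.lTensor_comp_rTensor, ← LinearMap.rTensor_comp_lTensor,
      LinearMap.comp_apply, hw, e1]
  have hinj : Function.Injective (Q.subtype.lTensor (V ⧸ P)) :=
    Module.Flat.lTensor_preserves_injective_linearMap (M := V ⧸ P) Q.subtype
      (Submodule.subtype_injective Q)
  have e3 : (P.mkQ.rTensor Q) w = 0 := hinj (by rw [e2, map_zero])
  have hex : Function.Exact (P.subtype.rTensor Q) (P.mkQ.rTensor Q) :=
    rTensor_exact Q (LinearMap.exact_subtype_mkQ P) (Submodule.mkQ_surjective P)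
  obtain ⟨u, rfl⟩ := (hex w).mp e3
  refine ⟨u, ?_⟩
  rw [← hw, ← LinearMap.lTensor_comp_rTensor, LinearMap.comp_apply]

/-- Let A and A' be algebras over a field k with subalgebras B ⊆ A and B' ⊆ A' having centralizers C and
C'. Then the centralizer of the image of B ⊗ B' in A ⊗_k A' is the image of C ⊗_k C'. -/
theorem result (k : Type u) [Field k] (A A' : Type u) [Ring A] [Ring A'] [Algebra k A] [Algebra k A']
    (B : Subalgebra k A) (B' : Subalgebra k A') :
    Subalgebra.centralizer k ((Algebra.TensorProduct.map B.val B'.val).range : Set (TensorProduct k A A')) =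
      (Algebra.TensorProduct.map (Subalgebra.centralizer k (B : Set A)).val (Subalgebra.centralizer k (B' : Set A')).val).range := by
  have h1 : Subalgebra.centralizer k
      ((Algebra.TensorProduct.map B.val B'.val).range : Set (TensorProduct k A A'))
      = Subalgebra.centralizer k (Algebra.TensorProduct.includeLeft (S := k) '' (B : Set A)) ⊓
        Subalgebra.centralizer k (Algebra.TensorProduct.includeRight '' (B' : Set A')) := by
    ext x
    rw [Algebra.mem_inf, Subalgebra.mem_centralizer_iff, Subalgebra.mem_centralizer_iff,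
      Subalgebra.mem_centralizer_iff]
    constructor
    · intro h
      refine ⟨?_, ?_⟩
      · rintro _ ⟨b, hb, rfl⟩
        exact h _ ⟨(⟨b, hb⟩ : B) ⊗ₜ[k] (1 : B'), by simp⟩
      · rintro _ ⟨b', hb', rfl⟩
        exact h _ ⟨(1 : B) ⊗ₜ[k] (⟨b', hb'⟩ : B'), by simp⟩
    · rintro ⟨hl, hr⟩ _ ⟨w, rfl⟩
      change (Algebra.TensorProduct.map B.val B'.val) w * x
        = x * (Algebra.TensorProduct.map B.val B'.val) w
      induction w using TensorProduct.induction_on with
      | zero => simp
      | tmul b b' =>
        have e : (Algebra.TensorProduct.map B.val B'.val) (b ⊗ₜ[k] b')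
            = (Algebra.TensorProduct.includeLeft (S := k) (b : A)) *
              (Algebra.TensorProduct.includeRight (b' : A')) := by simp
        have hl' := hl _ ⟨(b : A), b.2, rfl⟩
        have hr' := hr _ ⟨(b' : A'), b'.2, rfl⟩
        rw [e, mul_assoc, hr', ← mul_assoc, hl', mul_assoc]
      | add y z hy hz => rw [map_add, add_mul, mul_add, hy, hz]
  rw [h1, Subalgebra.centralizer_coe_image_includeLeft_eq_center_tensorProduct,
    Subalgebra.centralizer_coe_image_includeRight_eq_center_tensorProduct]
  ext z
  rw [Algebra.mem_inf]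
  constructor
  · rintro ⟨⟨v, hv⟩, ⟨w, hw⟩⟩
    have hz := mem_range_map_of_mem_inter
      (Subalgebra.toSubmodule (Subalgebra.centralizer k (B : Set A)))
      (Subalgebra.toSubmodule (Subalgebra.centralizer k (B' : Set A'))) z ⟨v, hv⟩ ⟨w, hw⟩
    obtain ⟨u, hu⟩ := hz
    exact ⟨u, hu⟩
  · rintro ⟨u, rfl⟩
    refine ⟨⟨Algebra.TensorProduct.map (AlgHom.id k _) (Subalgebra.centralizer k (B' : Set A')).val u,
      ?_⟩, ⟨Algebra.TensorProduct.map (Subalgebra.centralizer k (B : Set A)).val (AlgHom.id k _) u,
      ?_⟩⟩
    · change (Algebra.TensorProduct.map (Subalgebra.centralizer k (B : Set A)).val (AlgHom.id k A'))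
        ((Algebra.TensorProduct.map (AlgHom.id k _) (Subalgebra.centralizer k (B' : Set A')).val) u)
        = (Algebra.TensorProduct.map (Subalgebra.centralizer k (B : Set A)).val
          (Subalgebra.centralizer k (B' : Set A')).val) u
      rw [← AlgHom.comp_apply, ← Algebra.TensorProduct.map_comp]
      simp
    · change (Algebra.TensorProduct.map (AlgHom.id k A) (Subalgebra.centralizer k (B' : Set A')).val)
        ((Algebra.TensorProduct.map (Subalgebra.centralizer k (B : Set A)).val (AlgHom.id k _)) u)
        = (Algebra.TensorProduct.map (Subalgebra.centralizer k (B : Set A)).val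
          (Subalgebra.centralizer k (B' : Set A')).val) u
      rw [← AlgHom.comp_apply, ← Algebra.TensorProduct.map_comp]
      simp

end Groth.Agent.S1638
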