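import Groth.Statements.S16390
import Mathlib

set_option autoImplicit false
open AbVar

namespace Groth.Agent.S16390

section

open Polynomial

theorem pow_big (p r : ℕ) (hp : 2 ≤ p) (hr : 2 < r) : (p : ℝ) ^ 2 < 4 * (p : ℝ) ^ r := by
  have h1 : (1 : ℝ) ≤ (p : ℝ) := by exact_mod_cast (by omega : 1 ≤ p)
  have h2 : (p : ℝ) ^ 2 ≤ (p : ℝ) ^ r := pow_le_pow_right₀ h1 (by omega)
  have h3 : (0 : ℝ) < (p : ℝ) ^ 2 := by positivity
  linarith

theorem real_pos (p r : ℕ) (hp : 2 ≤ p) (hr : 2 < r) (x : ℝ) :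
    0 < x ^ 2 - (p : ℝ) * x + (p : ℝ) ^ r := by
  have h := pow_big p r hp hr
  nlinarith [sq_nonneg (x - (p : ℝ) / 2)]

theorem part1 (p r : ℕ) (hp : 2 ≤ p) (hr : 2 < r) :
    Irreducible (X ^ 2 - C (p : ℚ) * X + C ((p : ℚ) ^ r) : ℚ[X]) := by
  apply irreducible_of_degree_le_three_of_not_isRoot
  · have : (X ^ 2 - C (p : ℚ) * X + C ((p : ℚ) ^ r) : ℚ[X]).natDegree = 2 := by
      compute_degree!
    rw [this]
    decide
  · intro x hx
    rw [IsRoot.def] at hx
    simp only [eval_add, eval_sub, eval_pow, eval_X, eval_mul, eval_C] at hx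
    have h := real_pos p r hp hr (x : ℝ)
    have hx' : ((x : ℝ)) ^ 2 - (p : ℝ) * x + (p : ℝ) ^ r = 0 := by
      have := congrArg (fun t : ℚ => (t : ℝ)) hx
      simpa using this
    linarith

theorem part2 (p r : ℕ) (hp : 2 ≤ p) (hr : 2 < r) (π : ℂ)
    (h : π ^ 2 - (p : ℂ) * π + (p : ℂ) ^ r = 0) : ‖π‖ = Real.sqrt ((p : ℝ) ^ r) := by
  have hre := congrArg Complex.re h
  have him := congrArg Complex.im h
  have hpr : ((p : ℂ) ^ r) = (((p : ℝ) ^ r : ℝ) : ℂ) := by push_cast; rfl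
  rw [hpr] at hre him
  simp only [Complex.add_re, Complex.sub_re, Complex.mul_re, Complex.ofReal_re, Complex.zero_re,
    Complex.add_im, Complex.sub_im, Complex.mul_im, Complex.ofReal_im, Complex.zero_im,
    Complex.natCast_re, Complex.natCast_im, sq] at hre him
  set x := π.re with hx
  set y := π.im with hy
  have hy0 : y ≠ 0 := by
    intro hy0
    have hpos := real_pos p r hp hr x
    rw [hy0] at hre
    nlinarith
  have hx2 : 2 * x = p := by
    have : y * (2 * x - p) = 0 := by nlinarith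
    rcases mul_eq_zero.1 this with h0 | h0
    · exact absurd h0 hy0
    · linarith
  have hnorm : ‖π‖ ^ 2 = (p : ℝ) ^ r := by
    rw [Complex.sq_norm, Complex.normSq_apply]
    nlinarith
  rw [← hnorm, Real.sqrt_sq (norm_nonneg π)]

theorem part3 (p r : ℕ) [hpf : Fact p.Prime] (hr : 2 < r) :
    ∃ a b : ℚ_[p], a ≠ b ∧ a ^ 2 - (p : ℚ_[p]) * a + (p : ℚ_[p]) ^ r = 0 ∧
        b ^ 2 - (p : ℚ_[p]) * b + (p : ℚ_[p]) ^ r = 0 ∧ a.valuation = 1 ∧
        b.valuation = (r : ℤ) - 1 := by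
  have hp2 : 2 ≤ p := hpf.out.two_le
  -- Hensel for g = X^2 - X + p^(r-2) at 1
  let g : ℤ_[p][X] := X ^ 2 - X + C ((p : ℤ_[p]) ^ (r - 2))
  have hg1 : aeval (1 : ℤ_[p]) g = (p : ℤ_[p]) ^ (r - 2) := by
    simp [g]
  have hg' : derivative g = 2 * X - 1 := by
    simp only [g, derivative_add, derivative_sub, derivative_X_pow, derivative_X, derivative_C,
      add_zero]
    norm_num
    rfl
  have hg'1 : aeval (1 : ℤ_[p]) (derivative g) = 1 := by
    rw [hg']
    simp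
    norm_num
  have hnorm : ‖aeval (1 : ℤ_[p]) g‖ < ‖aeval (1 : ℤ_[p]) (derivative g)‖ ^ 2 := by
    rw [hg1, hg'1, norm_one, one_pow, norm_pow, PadicInt.norm_p]
    have hlt : ((p : ℝ)⁻¹) < 1 := by
      apply inv_lt_one_of_one_lt₀
      exact_mod_cast (by omega : 1 < p)
    exact pow_lt_one₀ (by positivity) hlt (by omega)
  obtain ⟨z, hz0, hz1, -, -⟩ := hensels_lemma hnorm
  rw [hg'1, norm_one] at hz1
  have hzeq : z ^ 2 - z + (p : ℤ_[p]) ^ (r - 2) = 0 := by
    have := hz0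
    simp only [g, map_add, map_sub, map_pow, aeval_X, aeval_C] at this
    simpa using this
  -- z is a unit
  have hznorm : ‖z‖ = 1 := by
    have hne : ‖z - 1‖ ≠ ‖(1 : ℤ_[p])‖ := by
      rw [norm_one]
      exact ne_of_lt hz1
    have := PadicInt.norm_add_eq_max_of_ne hne
    rw [sub_add_cancel, norm_one, max_eq_right hz1.le] at this
    exact this
  set zq : ℚ_[p] := (z : ℚ_[p]) with hzq
  have hzqnorm : ‖zq‖ = 1 := by
    rw [hzq, ← PadicInt.norm_def]
    exact hznorm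
  have hzq0 : zq ≠ 0 := by
    intro h
    rw [h, norm_zero] at hzqnorm
    exact zero_ne_one hzqnorm
  have hzqval : zq.valuation = 0 := by
    have h1 := Padic.norm_eq_zpow_neg_valuation hzq0
    rw [hzqnorm] at h1
    have hp1 : (1 : ℝ) < (p : ℝ) := by exact_mod_cast (by omega : 1 < p)
    have h2 : (p : ℝ) ^ (-zq.valuation) = (p : ℝ) ^ (0 : ℤ) := by
      rw [← h1, zpow_zero]
    have := zpow_right_injective₀ (by positivity) hp1.ne' h2
    omega
  have hzqeq : zq ^ 2 - zq + (p : ℚ_[p]) ^ (r - 2) = 0 := by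
    have := congrArg (fun t : ℤ_[p] => (t : ℚ_[p])) hzeq
    simpa [hzq] using this
  have hp0 : (p : ℚ_[p]) ≠ 0 := by
    exact_mod_cast hpf.out.ne_zero
  have hpr : (p : ℚ_[p]) ^ r = (p : ℚ_[p]) ^ 2 * (p : ℚ_[p]) ^ (r - 2) := by
    rw [← pow_add]
    congr 1
    omega
  set a : ℚ_[p] := (p : ℚ_[p]) * zq with ha
  set b : ℚ_[p] := (p : ℚ_[p]) - a with hb
  have haroot : a ^ 2 - (p : ℚ_[p]) * a + (p : ℚ_[p]) ^ r = 0 := by
    rw [hpr, ha]
    linear_combination ((p : ℚ_[p]) ^ 2) * hzqeq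
  have hbroot : b ^ 2 - (p : ℚ_[p]) * b + (p : ℚ_[p]) ^ r = 0 := by
    rw [hb]
    linear_combination haroot
  have hab : a * b = (p : ℚ_[p]) ^ r := by
    rw [hb]
    linear_combination (-1 : ℚ_[p]) * haroot
  have ha0 : a ≠ 0 := mul_ne_zero hp0 hzq0
  have hb0 : b ≠ 0 := by
    intro h
    rw [h, mul_zero] at hab
    exact pow_ne_zero r hp0 hab.symm
  have hva : a.valuation = 1 := by
    rw [ha, Padic.valuation_mul hp0 hzq0, Padic.valuation_p, hzqval, add_zero]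
  have hvb : b.valuation = (r : ℤ) - 1 := by
    have := congrArg Padic.valuation hab
    rw [Padic.valuation_mul ha0 hb0, Padic.valuation_pow, Padic.valuation_p, hva] at this
    omega
  refine ⟨a, b, ?_, haroot, hbroot, hva, hvb⟩
  intro h
  rw [h, hvb] at hva
  omega

theorem main (p r : ℕ) [hpf : Fact p.Prime] (hr : 2 < r) :
    Irreducible (Polynomial.X ^ 2 - Polynomial.C (p : ℚ) * Polynomial.X + Polynomial.C ((p : ℚ) ^ r)) ∧
      (∀ π : ℂ, π ^ 2 - (p : ℂ) * π + (p : ℂ) ^ r = 0 → ‖π‖ = Real.sqrt ((p : ℝ) ^ r)) ∧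
      ∃ a b : ℚ_[p], a ≠ b ∧ a ^ 2 - (p : ℚ_[p]) * a + (p : ℚ_[p]) ^ r = 0 ∧
        b ^ 2 - (p : ℚ_[p]) * b + (p : ℚ_[p]) ^ r = 0 ∧ a.valuation = 1 ∧ b.valuation = (r : ℤ) - 1 :=
  ⟨part1 p r hpf.out.two_le hr, part2 p r hpf.out.two_le hr, part3 p r hr⟩


end


/-- Let p be a prime number, r > 2 and q = p^r. The polynomial x² − p x + q is irreducible over ℚ, each
of its complex roots has absolute value √q (so its roots are Weil q-numbers), and it has two
distinct roots in ℚ_p, of p-adic valuations 1 and r − 1. The published lemma also computes the index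
of the endomorphism algebra of the simple abelian variety attached to a root; this row does not
state that part. -/
theorem result (p r : ℕ) [Fact p.Prime] (hr : 2 < r) :
    Irreducible (Polynomial.X ^ 2 - Polynomial.C (p : ℚ) * Polynomial.X + Polynomial.C ((p : ℚ) ^ r)) ∧
      (∀ π : ℂ, π ^ 2 - (p : ℂ) * π + (p : ℂ) ^ r = 0 → ‖π‖ = Real.sqrt ((p : ℝ) ^ r)) ∧
      ∃ a b : ℚ_[p], a ≠ b ∧ a ^ 2 - (p : ℚ_[p]) * a + (p : ℚ_[p]) ^ r = 0 ∧
        b ^ 2 - (p : ℚ_[p]) * b + (p : ℚ_[p]) ^ r = 0 ∧ a.valuation = 1 ∧ b.valuation = (r : ℤ) - 1 := by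
  classical
  exact main p r hr

end Groth.Agent.S16390
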