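import Groth.Statements.S16394
import Mathlib
import Groth.Statements.S16394
import Groth.Agent.Lib.Helper1.SchNoeth
-- import your own Groth.Agent.* helpers here

set_option autoImplicit false
universe u
open CategoryTheory MonoidalCategory CartesianMonoidalCategory MonObj GrpObj AlgebraicGeometry
open AbVar

namespace Groth.Agent.S16394

open CategoryTheory CategoryTheory.Limits MonoidalCategory CartesianMonoidalCategory MonObj GrpObj AlgebraicGeometry
namespace Aux

variable {k : Type u} [Field k]

/-- ideal sheaf of the kernel of `f` -/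
noncomputable def kerI {X A : Over (Spec (CommRingCat.of k))} [GrpObj A] (f : X ⟶ A) :
    X.left.IdealSheafData :=
  (pullback.fst f.left η[A].left).ker

lemma isClosedImmersion_unit (A : Over (Spec (CommRingCat.of k))) [GrpObj A] [IsSeparated A.hom] :
    IsClosedImmersion η[A].left := by
  have h : η[A].left ≫ A.hom = 𝟙 _ := by
    have := Over.w η[A]
    rw [this]; rfl
  haveI : IsClosedImmersion (η[A].left ≫ A.hom) := by rw [h]; infer_instance
  exact IsClosedImmersion.of_comp η[A].left A.hom

lemma comp_eq_one_iff {X A T : Over (Spec (CommRingCat.of k))} [GrpObj A] [IsSeparated A.hom]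
    (f : X ⟶ A) (d : T ⟶ X) : d ≫ f = 1 ↔ kerI f ≤ d.left.ker := by
  haveI := isClosedImmersion_unit A
  constructor
  · intro h
    have h1 : d.left ≫ f.left = (toUnit T).left ≫ η[A].left := by
      have := congrArg (fun m => m.left) h
      simpa [Hom.one_def] using this
    have h2 : pullback.lift d.left (toUnit T).left h1 ≫ pullback.fst f.left η[A].left = d.left :=
      pullback.lift_fst _ _ _
    rw [← h2]
    exact Scheme.Hom.le_ker_comp _ _
  · intro h
    haveI : IsClosedImmersion (pullback.fst f.left η[A].left) := inferInstance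
    have hd' : IsClosedImmersion.lift (pullback.fst f.left η[A].left) d.left h ≫
        pullback.fst f.left η[A].left = d.left := IsClosedImmersion.lift_fac _ _ h
    set d' := IsClosedImmersion.lift (pullback.fst f.left η[A].left) d.left h with hd'def
    have hA : η[A].left ≫ A.hom = 𝟙 _ := by
      have := Over.w η[A]
      rw [this]; rfl
    have h2 : d' ≫ pullback.snd f.left η[A].left = T.hom := by
      have e1 : d' ≫ pullback.snd f.left η[A].left ≫ η[A].left ≫ A.hom =
          d' ≫ pullback.snd f.left η[A].left := by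
        rw [hA]; simp
      rw [← e1, ← pullback.condition_assoc, reassoc_of% hd', Over.w f, Over.w d]
    ext
    simp only [Over.comp_left, Hom.one_def, Over.toUnit_left]
    rw [← hd', Category.assoc, pullback.condition, ← Category.assoc, h2]

/-- the join of the kernel ideal sheaves of a finite family -/
noncomputable def J {X A : Over (Spec (CommRingCat.of k))} [GrpObj X] [IsCommMonObj X]
    [GrpObj A] [IsCommMonObj A] (s : Finset (EndAV.Hom X A)) : X.left.IdealSheafData :=
  s.sup (fun f => kerI f.toHom)

lemma le_J {X A : Over (Spec (CommRingCat.of k))} [GrpObj X] [IsCommMonObj X]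
    [GrpObj A] [IsCommMonObj A] (s : Finset (EndAV.Hom X A)) (f : EndAV.Hom X A) (hf : f ∈ s) :
    kerI f.toHom ≤ J s :=
  Finset.le_sup (f := fun f : EndAV.Hom X A => kerI f.toHom) hf

lemma J_mono {X A : Over (Spec (CommRingCat.of k))} [GrpObj X] [IsCommMonObj X]
    [GrpObj A] [IsCommMonObj A] {s t : Finset (EndAV.Hom X A)} (h : s ⊆ t) : J s ≤ J t :=
  Finset.sup_mono h

lemma J_le {X A : Over (Spec (CommRingCat.of k))} [GrpObj X] [IsCommMonObj X]
    [GrpObj A] [IsCommMonObj A] (s : Finset (EndAV.Hom X A)) (I : X.left.IdealSheafData)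
    (h : ∀ f ∈ s, kerI (f : EndAV.Hom X A).toHom ≤ I) : J s ≤ I :=
  Finset.sup_le h

lemma exists_max {α : Type*} [PartialOrder α] [WellFoundedGT α] {β : Type*} (F : β → α) (b : β) :
    ∃ s₀ : β, ∀ s : β, F s₀ ≤ F s → F s₀ = F s := by
  obtain ⟨m, ⟨s₀, hs₀⟩, hmax⟩ := wellFounded_gt.has_min (Set.range F) ⟨F b, b, rfl⟩
  refine ⟨s₀, fun s hs => ?_⟩
  subst hs₀
  exact eq_of_le_of_not_lt hs (hmax _ ⟨s, rfl⟩)

theorem main (k : Type u) [Field k] (X A : Over (Spec (CommRingCat.of k)))
    [GrpObj X] [IsCommMonObj X] [IsProper X.hom]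
    [GrpObj A] [IsCommMonObj A] [IsProper A.hom]
    (hsep : ∀ (T : Over (Spec (CommRingCat.of k))) (x : T ⟶ X),
      (∀ f : EndAV.Hom X A, x ≫ f.toHom = 1) → x = 1) :
    ∃ (n : ℕ) (ψ : Fin n → EndAV.Hom X A), ∀ (T : Over (Spec (CommRingCat.of k))) (x y : T ⟶ X),
      (∀ i, x ≫ (ψ i).toHom = y ≫ (ψ i).toHom) → x = y := by
  classical
  haveI : IsNoetherian X.left := by
    haveI : IsLocallyNoetherian X.left := LocallyOfFiniteType.isLocallyNoetherian X.hom
    haveI : CompactSpace X.left := QuasiCompact.compactSpace_of_compactSpace X.hom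
    exact {}
  haveI : WellFoundedGT X.left.IdealSheafData := Groth.Agent.Helper1.SchNoeth.S4362 X.left
  obtain ⟨s₀, hmax⟩ := exists_max (fun s : Finset (EndAV.Hom X A) => J s) ∅
  have hle : ∀ f : EndAV.Hom X A, kerI f.toHom ≤ J s₀ := by
    intro f
    have h1 : J s₀ ≤ J (insert f s₀) := J_mono (Finset.subset_insert f s₀)
    have h3 : J s₀ = J (insert f s₀) := hmax _ h1
    rw [h3]
    exact le_J _ f (Finset.mem_insert_self f s₀)
  let jj := (J s₀).subschemeι
  let T₀ : Over (Spec (CommRingCat.of k)) := Over.mk (jj ≫ X.hom)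
  let x₀ : T₀ ⟶ X := Over.homMk jj rfl
  have hx₀ : x₀ = 1 := by
    apply hsep
    intro f
    rw [comp_eq_one_iff]
    show kerI f.toHom ≤ jj.ker
    rw [Scheme.IdealSheafData.ker_subschemeι]
    exact hle f
  refine ⟨s₀.card, fun i => (s₀.equivFin.symm i).1, fun T x y hxy => ?_⟩
  have hd : ∀ f ∈ s₀, (x / y) ≫ (f : EndAV.Hom X A).toHom = 1 := by
    intro f hf
    rw [GrpObj.div_comp]
    have := hxy (s₀.equivFin ⟨f, hf⟩)
    simp only [Equiv.symm_apply_apply] at this
    rw [this, div_self']
  have hJ : J s₀ ≤ (x / y).left.ker :=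
    J_le _ _ (fun f hf => (comp_eq_one_iff _ _).mp (hd f hf))
  have hJ' : jj.ker ≤ (x / y).left.ker := by
    rw [Scheme.IdealSheafData.ker_subschemeι]; exact hJ
  have hd' : IsClosedImmersion.lift jj (x / y).left hJ' ≫ jj = (x / y).left :=
    IsClosedImmersion.lift_fac _ _ _
  let d'' : T ⟶ T₀ := Over.homMk (IsClosedImmersion.lift jj (x / y).left hJ') (by
    show _ ≫ jj ≫ X.hom = T.hom
    rw [reassoc_of% hd', Over.w])
  have h0 : x / y = d'' ≫ x₀ := by
    ext
    simp only [Over.comp_left]
    exact hd'.symm
  have h1 : x / y = 1 := by rw [h0, hx₀, MonObj.comp_one]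
  exact div_eq_one.mp h1

end Aux

/-- (b₁) ⇒ (c₁): let k be a finite field and X, A abelian varieties over k (proper, geometrically
integral commutative group schemes over k). Suppose the common kernel of all homomorphisms X → A is
trivial: every T-valued point of X over k that is sent to the unit by every homomorphism X → A is
the unit point (this is condition (b₁) for the trivial subgroup). Then there are finitely many
homomorphisms ψ_1, …, ψ_n : X → A which are jointly monomorphic on T-valued points — two T-valued
points of X with the same image under every ψ_i are equal — so that (ψ_i) is an injective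
homomorphism X → A^n. The published statement restricts X and A to abelian varieties whose Frobenius
is killed by a fixed polynomial; this row has no such restriction. -/
theorem result
    (k : Type u) [Field k] [Finite k] (X A : Over (Spec (CommRingCat.of k))) [GrpObj X] [IsCommMonObj X] [IsProper X.hom] [GeometricallyIntegral X.hom]
    [GrpObj A] [IsCommMonObj A] [IsProper A.hom] [GeometricallyIntegral A.hom]
    (hsep : ∀ (T : Over (Spec (CommRingCat.of k))) (x : T ⟶ X), (∀ f : EndAV.Hom X A, x ≫ f.toHom = 1) → x = 1) :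
    ∃ (n : ℕ) (ψ : Fin n → EndAV.Hom X A), ∀ (T : Over (Spec (CommRingCat.of k))) (x y : T ⟶ X),
      (∀ i, x ≫ (ψ i).toHom = y ≫ (ψ i).toHom) → x = y := by
  exact Aux.main k X A hsep

end Groth.Agent.S16394
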