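import Groth.Statements.S16396
import Mathlib

set_option autoImplicit false
universe u
open CAlg

namespace Groth.Agent.S16396

open Polynomial in
/-- For a commutative ℚ-algebra A, a ℚ-subalgebra B of the polynomial algebra A[X] that contains X and
is closed under d/dX consists exactly of the polynomials each of whose coefficients is the value at
0 of some element of B; in other words B = ev(B)[X], with ev the evaluation at 0. -/
theorem result
    (A : Type u) [CommRing A] [Algebra ℚ A] (B : Subalgebra ℚ A[X])
    (hX : (X : A[X]) ∈ B) (hD : ∀ P ∈ B, Polynomial.derivative P ∈ B) (P : A[X]) :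
    P ∈ B ↔ ∀ i : ℕ, ∃ Q ∈ B, Polynomial.eval 0 Q = P.coeff i := by
  have key : ∀ n : ℕ, ∀ Q ∈ B, Q.natDegree ≤ n → ∀ i, C (Q.coeff i) ∈ B := by
    intro n
    induction n with
    | zero =>
      intro Q hQ hdeg i
      have hQC : Q = C (Q.coeff 0) := Polynomial.eq_C_of_natDegree_le_zero hdeg
      rcases Nat.eq_zero_or_pos i with rfl | hi
      · rw [← hQC]; exact hQ
      · have : Q.coeff i = 0 := by
          rw [hQC, Polynomial.coeff_C, if_neg (by omega)]
        rw [this, map_zero]; exact B.zero_mem
    | succ n ih =>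
      intro Q hQ hdeg i
      have hQ' : derivative Q ∈ B := hD Q hQ
      have hdeg' : (derivative Q).natDegree ≤ n :=
        (Polynomial.natDegree_derivative_le Q).trans (by omega)
      have hsucc : ∀ j : ℕ, C (Q.coeff (j + 1)) ∈ B := by
        intro j
        have h1 := ih (derivative Q) hQ' hdeg' j
        rw [Polynomial.coeff_derivative] at h1
        have h2 : C (Q.coeff (j + 1)) = ((j + 1 : ℚ)⁻¹) • C (Q.coeff (j + 1) * ((j : A) + 1)) := by
          rw [Polynomial.smul_C, mul_comm (Q.coeff (j+1)), ← mul_smul_comm]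
          congr 1
          have : ((j : A) + 1) = algebraMap ℚ A ((j : ℚ) + 1) := by simp
          rw [this, Algebra.smul_def, ← mul_assoc, ← map_mul,
            mul_inv_cancel₀ (by positivity : ((j : ℚ) + 1) ≠ 0), map_one, one_mul]
        rw [h2]
        exact B.smul_mem h1 _
      rcases Nat.eq_zero_or_pos i with rfl | hi
      · have hsum := Q.as_sum_range_C_mul_X_pow
        rw [Finset.sum_range_succ', pow_zero, mul_one] at hsum
        have : C (Q.coeff 0) = Q - ∑ j ∈ Finset.range Q.natDegree, C (Q.coeff (j + 1)) * X ^ (j + 1) :=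
          eq_sub_of_add_eq' hsum.symm
        rw [this]
        refine B.sub_mem hQ (B.sum_mem fun j _ => B.mul_mem (hsucc j) (B.pow_mem hX _))
      · obtain ⟨j, rfl⟩ := Nat.exists_eq_succ_of_ne_zero (by omega : i ≠ 0)
        exact hsucc j
  have key' : ∀ Q ∈ B, ∀ i, C (Q.coeff i) ∈ B := fun Q hQ i => key Q.natDegree Q hQ le_rfl i
  constructor
  · intro hP i
    exact ⟨C (P.coeff i), key' P hP i, by simp⟩
  · intro h
    rw [P.as_sum_range_C_mul_X_pow]
    refine B.sum_mem fun i _ => B.mul_mem ?_ (B.pow_mem hX _)
    obtain ⟨Q, hQ, hQ0⟩ := h i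
    rw [← hQ0, ← Polynomial.coeff_zero_eq_eval_zero]
    exact key' Q hQ 0

end Groth.Agent.S16396
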