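import Groth.Statements.S16397
import Mathlib

set_option autoImplicit false
open W4c3tautjacobian

namespace Groth.Agent.S16397

namespace H16397
open W4c3tautjacobian MvPolynomial

variable (g : ℕ)


/-- first-degree weight, integer valued -/
def w1 : Var g → ℤ := fun v => ((wt g v).1 : ℤ)

theorem w1_none : w1 g none = 0 := by simp [w1, wt]
theorem w1_some (p : {p : ℕ × ℕ // Valid g p}) : w1 g (some p) = (p.1.1 : ℤ) := by simp [w1, wt]

theorem hom_cast {P : RelRing g} {a b : ℤ} (h : IsWeightedHomogeneous (w1 g) P a) (hab : a = b) :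
    IsWeightedHomogeneous (w1 g) P b := hab ▸ h

theorem hom_smul {P : RelRing g} {a : ℤ} (c : ℚ) (h : IsWeightedHomogeneous (w1 g) P a) :
    IsWeightedHomogeneous (w1 g) (c • P) a :=
  (weightedHomogeneousSubmodule ℚ (w1 g) a).smul_mem c h

theorem hom_natCast (n : ℕ) : IsWeightedHomogeneous (w1 g) ((n : RelRing g)) 0 := by
  have : ((n : RelRing g)) = C (n : ℚ) := by simp
  rw [this]; exact isWeightedHomogeneous_C _ _

theorem xv_hom (i j : ℤ) : IsWeightedHomogeneous (w1 g) (xv g i j) i := by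
  unfold xv
  split_ifs with h1 h2
  · obtain ⟨rfl, rfl⟩ := h1
    exact hom_natCast g g
  · have := isWeightedHomogeneous_X (R := ℚ) (w1 g) (some ⟨(i.toNat, j.toNat), h2.2.2⟩)
    refine hom_cast g this ?_
    rw [w1_some]
    exact Int.toNat_of_nonneg h2.1
  · exact isWeightedHomogeneous_zero _ _ _

theorem dv_hom (p : ℕ × ℕ) (P : RelRing g) (a : ℤ) (h : IsWeightedHomogeneous (w1 g) P a) :
    IsWeightedHomogeneous (w1 g) (dv g p P) (a - p.1) := by
  unfold dv
  split_ifs with hv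
  · exact h.pderiv (by rw [w1_some]; ring)
  · exact isWeightedHomogeneous_zero _ _ _

theorem dv_add (p : ℕ × ℕ) (P Q : RelRing g) : dv g p (P + Q) = dv g p P + dv g p Q := by
  unfold dv; split_ifs <;> simp

theorem dv_smul (p : ℕ × ℕ) (c : ℚ) (P : RelRing g) : dv g p (c • P) = c • dv g p P := by
  unfold dv; split_ifs <;> simp

theorem dv_zero (p : ℕ × ℕ) : dv g p 0 = 0 := by
  unfold dv; split_ifs <;> simp

theorem F_add (P Q : RelRing g) : F g (P + Q) = F g P + F g Q := by
  unfold F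
  simp only [dv_add, mul_add, Finset.sum_add_distrib, smul_add]
  abel

theorem F_smul (c : ℚ) (P : RelRing g) : F g (c • P) = c • F g P := by
  unfold F
  simp only [dv_smul, mul_smul_comm, ← Finset.smul_sum, smul_add]
  rw [smul_comm]

theorem F_zero : F g 0 = 0 := by
  unfold F
  simp [dv_zero]

theorem F_hom (P : RelRing g) (a : ℤ) (h : IsWeightedHomogeneous (w1 g) P a) :
    IsWeightedHomogeneous (w1 g) (F g P) (a - 2) := by
  unfold F
  refine IsWeightedHomogeneous.add (hom_smul g _ ?_) ?_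
  · refine IsWeightedHomogeneous.sum _ _ _ (fun p _ => IsWeightedHomogeneous.sum _ _ _ (fun q _ => ?_))
    have h1 : IsWeightedHomogeneous (w1 g)
        (X none * xv g ((p.1 : ℤ) - 1) ((p.2 : ℤ) - 1) * xv g ((q.1 : ℤ) - 1) ((q.2 : ℤ) - 1))
        ((p.1 : ℤ) + q.1 - 2) := by
      refine hom_cast g (((isWeightedHomogeneous_X (R := ℚ) (w1 g) none).mul (xv_hom g _ _)).mul
        (xv_hom g _ _)) ?_
      rw [w1_none]; ring
    have h2 : IsWeightedHomogeneous (w1 g)
        ((mergeCoeff p.1 q.1 : RelRing g) * xv g ((p.1 : ℤ) + q.1 - 2) ((p.2 : ℤ) + q.2))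
        ((p.1 : ℤ) + q.1 - 2) := by
      refine hom_cast g ((hom_natCast g _).mul (xv_hom g _ _)) ?_
      ring
    refine hom_cast g ((h1.sub h2).mul (dv_hom g p _ _ (dv_hom g q _ _ h))) ?_
    ring
  · refine IsWeightedHomogeneous.sum _ _ _ (fun p _ => ?_)
    refine hom_cast g ((xv_hom g _ _).mul (dv_hom g p _ _ h)) ?_
    ring

theorem hom_neg_eq_zero (P : RelRing g) (a : ℤ) (h : IsWeightedHomogeneous (w1 g) P a) (ha : a < 0) :
    P = 0 := by
  ext d
  rw [coeff_zero]
  by_contra hne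
  have := h hne
  have h0 : 0 ≤ Finsupp.weight (w1 g) d := by
    rw [Finsupp.weight_apply]
    apply Finset.sum_nonneg
    intro v _
    have : 0 ≤ w1 g v := by simp [w1]
    positivity
  omega






theorem valid20 (hg : 1 ≤ g) : Valid g (2, 0) := by
  refine ⟨by simp, by simp; omega, by decide, by simp⟩

theorem xv_of_valid (p : ℕ × ℕ) (hv : Valid g p) :
    xv g (p.1 : ℤ) (p.2 : ℤ) = X (some ⟨p, hv⟩) := by
  unfold xv
  have hne : ¬ ((p.1 : ℤ) = 0 ∧ (p.2 : ℤ) = 0) := by
    rintro ⟨h1, h2⟩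
    apply hv.2.2.2
    exact Prod.ext (by exact_mod_cast h1) (by exact_mod_cast h2)
  rw [if_neg hne]
  have hcond : 0 ≤ (p.1 : ℤ) ∧ 0 ≤ (p.2 : ℤ) ∧ Valid g ((p.1 : ℤ).toNat, (p.2 : ℤ).toNat) := by
    refine ⟨by positivity, by positivity, ?_⟩
    simpa using hv
  rw [dif_pos hcond]
  congr 2

theorem xv20 (hg : 1 ≤ g) : xv g 2 0 = X (some ⟨(2, 0), valid20 g hg⟩) := by
  have := xv_of_valid g (2, 0) (valid20 g hg)
  simpa using this

theorem dv_of_valid (p : ℕ × ℕ) (hv : Valid g p) (P : RelRing g) :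
    dv g p P = pderiv (some ⟨p, hv⟩) P := by
  unfold dv; rw [dif_pos hv]

theorem dv_of_not_valid (p : ℕ × ℕ) (hv : ¬ Valid g p) (P : RelRing g) : dv g p P = 0 := by
  unfold dv; rw [dif_neg hv]

theorem dv_x_mul (hg : 1 ≤ g) (q : ℕ × ℕ) (P : RelRing g) :
    dv g q (xv g 2 0 * P) = (if q = (2, 0) then P else 0) + xv g 2 0 * dv g q P := by
  rw [xv20 g hg]
  by_cases hv : Valid g q
  · rw [dv_of_valid g q hv, dv_of_valid g q hv, Derivation.leibniz]
    by_cases hq : q = (2, 0)
    · subst hq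
      rw [if_pos rfl, pderiv_X_self]
      simp [add_comm]
    · rw [if_neg hq, pderiv_X_of_ne]
      · simp
      · intro h
        apply hq
        have := Option.some.inj h
        exact (congrArg Subtype.val this).symm
  · rw [dv_of_not_valid g q hv, dv_of_not_valid g q hv]
    have hq : q ≠ (2, 0) := by
      rintro rfl; exact hv (valid20 g hg)
    rw [if_neg hq]; simp

theorem dv_ite (p : ℕ × ℕ) (c : Prop) [Decidable c] (P : RelRing g) :
    dv g p (if c then P else 0) = if c then dv g p P else 0 := by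
  split_ifs
  · rfl
  · unfold dv; split_ifs <;> simp


theorem mergeCoeff_two_right (i : ℕ) : mergeCoeff i 2 = i := by
  rcases Nat.eq_zero_or_pos i with rfl | hi
  · simp [mergeCoeff]
  · have hne : ¬ (i = 0 ∨ 2 = 0) := by omega
    simp only [mergeCoeff, if_neg hne]
    rw [show i + 2 - 2 = i by omega, Nat.choose_symm hi, Nat.choose_one_right]

theorem mergeCoeff_two_left (k : ℕ) : mergeCoeff 2 k = k := by
  rcases Nat.eq_zero_or_pos k with rfl | hk
  · simp [mergeCoeff]
  · have hne : ¬ (2 = 0 ∨ k = 0) := by omega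
    simp only [mergeCoeff, if_neg hne]
    rw [show 2 + k - 2 = k by omega]; simp

theorem xv_one_neg_one : xv g 1 (-1) = 0 := by
  unfold xv
  rw [if_neg (by norm_num), dif_neg (by norm_num)]

theorem mem_idx20 (hg : 1 ≤ g) : ((2, 0) : ℕ × ℕ) ∈ idx g := by
  simp [idx]; omega

/-- the first-degree Euler operator -/
noncomputable def D1 (P : RelRing g) : RelRing g :=
  ∑ p ∈ idx g, (p.1 : RelRing g) * (xv g (p.1 : ℤ) (p.2 : ℤ) * dv g p P)

/-- the coefficient of the second order part of `F` -/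
noncomputable def cc (p q : ℕ × ℕ) : RelRing g :=
  X none * xv g ((p.1 : ℤ) - 1) ((p.2 : ℤ) - 1) * xv g ((q.1 : ℤ) - 1) ((q.2 : ℤ) - 1)
    - (mergeCoeff p.1 q.1 : RelRing g) * xv g ((p.1 : ℤ) + q.1 - 2) ((p.2 : ℤ) + q.2)

theorem F_eq (P : RelRing g) : F g P = (1 / 2 : ℚ) • (∑ p ∈ idx g, ∑ q ∈ idx g, cc g p q * dv g p (dv g q P))
    + ∑ p ∈ idx g, xv g ((p.1 : ℤ) - 2) (p.2 : ℤ) * dv g p P := rfl

theorem cc_right (p : ℕ × ℕ) : cc g p (2, 0) = - ((p.1 : RelRing g) * xv g (p.1 : ℤ) (p.2 : ℤ)) := by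
  unfold cc
  have h1 : xv g ((((2, 0) : ℕ × ℕ).1 : ℤ) - 1) ((((2, 0) : ℕ × ℕ).2 : ℤ) - 1) = 0 := by
    have := xv_one_neg_one g
    convert this using 2 <;> norm_num
  rw [h1, mergeCoeff_two_right]
  have h2 : ((p.1 : ℤ) + (((2, 0) : ℕ × ℕ).1 : ℤ) - 2) = (p.1 : ℤ) := by norm_num
  have h3 : ((p.2 : ℤ) + (((2, 0) : ℕ × ℕ).2 : ℤ)) = (p.2 : ℤ) := by norm_num
  rw [h2, h3]
  ring

theorem cc_left (q : ℕ × ℕ) : cc g (2, 0) q = - ((q.1 : RelRing g) * xv g (q.1 : ℤ) (q.2 : ℤ)) := by
  unfold cc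
  have h1 : xv g ((((2, 0) : ℕ × ℕ).1 : ℤ) - 1) ((((2, 0) : ℕ × ℕ).2 : ℤ) - 1) = 0 := by
    have := xv_one_neg_one g
    convert this using 2 <;> norm_num
  rw [h1, mergeCoeff_two_left]
  have h2 : ((((2, 0) : ℕ × ℕ).1 : ℤ) + (q.1 : ℤ) - 2) = (q.1 : ℤ) := by norm_num
  have h3 : ((((2, 0) : ℕ × ℕ).2 : ℤ) + (q.2 : ℤ)) = (q.2 : ℤ) := by norm_num
  rw [h2, h3]
  ring

theorem xv_zero_zero : xv g 0 0 = (g : RelRing g) := by
  unfold xv; rw [if_pos ⟨rfl, rfl⟩]

theorem comm_FE (hg : 1 ≤ g) (P : RelRing g) :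
    F g (E g P) = E g (F g P) + (g : RelRing g) * P - D1 g P := by
  have hdd : ∀ p q : ℕ × ℕ, dv g p (dv g q (xv g 2 0 * P)) =
      (if q = (2, 0) then dv g p P else 0) + (if p = (2, 0) then dv g q P else 0)
        + xv g 2 0 * dv g p (dv g q P) := by
    intro p q
    rw [dv_x_mul g hg, dv_add, dv_ite, dv_x_mul g hg]
    ring
  have hA : ∑ p ∈ idx g, ∑ q ∈ idx g, cc g p q * (if q = (2, 0) then dv g p P else 0)
      = - D1 g P := by
    unfold D1
    rw [← Finset.sum_neg_distrib]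
    refine Finset.sum_congr rfl (fun p _ => ?_)
    simp only [mul_ite, mul_zero, Finset.sum_ite_eq', mem_idx20 g hg, if_true]
    rw [cc_right]; ring
  have hB : ∑ p ∈ idx g, ∑ q ∈ idx g, cc g p q * (if p = (2, 0) then dv g q P else 0)
      = - D1 g P := by
    rw [Finset.sum_comm]
    unfold D1
    rw [← Finset.sum_neg_distrib]
    refine Finset.sum_congr rfl (fun q _ => ?_)
    simp only [mul_ite, mul_zero, Finset.sum_ite_eq', mem_idx20 g hg, if_true]
    rw [cc_left]; ring
  have hC : ∑ p ∈ idx g, xv g ((p.1 : ℤ) - 2) (p.2 : ℤ) * (if p = (2, 0) then P else 0)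
      = (g : RelRing g) * P := by
    simp only [mul_ite, mul_zero, Finset.sum_ite_eq', mem_idx20 g hg, if_true]
    have : xv g ((((2, 0) : ℕ × ℕ).1 : ℤ) - 2) ((((2, 0) : ℕ × ℕ).2 : ℤ)) = xv g 0 0 := by
      congr 1 <;> norm_num
    rw [this, xv_zero_zero]
  have S2 : ∑ p ∈ idx g, ∑ q ∈ idx g, cc g p q * dv g p (dv g q (xv g 2 0 * P))
      = - D1 g P + - D1 g P + xv g 2 0 * ∑ p ∈ idx g, ∑ q ∈ idx g, cc g p q * dv g p (dv g q P) := by
    simp only [hdd, mul_add, Finset.sum_add_distrib, hA, hB]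
    congr 1
    simp only [Finset.mul_sum]
    refine Finset.sum_congr rfl (fun p _ => Finset.sum_congr rfl (fun q _ => ?_))
    ring
  have S1 : ∑ p ∈ idx g, xv g ((p.1 : ℤ) - 2) (p.2 : ℤ) * dv g p (xv g 2 0 * P)
      = (g : RelRing g) * P + xv g 2 0 * ∑ p ∈ idx g, xv g ((p.1 : ℤ) - 2) (p.2 : ℤ) * dv g p P := by
    simp only [dv_x_mul g hg, mul_add, Finset.sum_add_distrib, hC]
    congr 1
    simp only [Finset.mul_sum]
    refine Finset.sum_congr rfl (fun p _ => ?_)
    ring
  unfold E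
  rw [F_eq, F_eq, S2, S1, mul_add, mul_smul_comm]
  module










theorem mem_idx_of_valid (p : ℕ × ℕ) (hv : Valid g p) : p ∈ idx g := by
  obtain ⟨h1, h2, -, -⟩ := hv
  simp only [idx, Finset.mem_product, Finset.mem_range]
  omega

noncomputable def dvD (p : ℕ × ℕ) : Derivation ℚ (RelRing g) (RelRing g) :=
  if h : Valid g p then pderiv (some ⟨p, h⟩) else 0

theorem dvD_apply (p : ℕ × ℕ) (P : RelRing g) : dvD g p P = dv g p P := by
  unfold dvD dv; split_ifs <;> simp

noncomputable def D1der : Derivation ℚ (RelRing g) (RelRing g) :=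
  ∑ p ∈ idx g, ((p.1 : RelRing g) * xv g (p.1 : ℤ) (p.2 : ℤ)) • dvD g p

theorem D1der_apply (P : RelRing g) : D1der g P = D1 g P := by
  unfold D1der D1
  rw [← Derivation.coeFnAddMonoidHom_apply, map_sum, Finset.sum_apply]
  refine Finset.sum_congr rfl (fun p _ => ?_)
  rw [Derivation.coeFnAddMonoidHom_apply, Derivation.smul_apply, dvD_apply, smul_eq_mul, mul_assoc]

theorem D1_X (v : Var g) : D1 g (X v) = (w1 g v : ℚ) • X v := by
  unfold D1
  cases v with
  | none =>
    rw [w1_none]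
    simp only [Int.cast_zero, zero_smul]
    apply Finset.sum_eq_zero
    intro p _
    by_cases hv : Valid g p
    · rw [dv_of_valid g p hv, pderiv_X_of_ne (by simp)]; simp
    · rw [dv_of_not_valid g p hv]; simp
  | some p₀ =>
    obtain ⟨p₀, h₀⟩ := p₀
    rw [Finset.sum_eq_single p₀]
    · rw [dv_of_valid g p₀ h₀, pderiv_X_self, xv_of_valid g p₀ h₀, w1_some, smul_eq_C_mul]
      simp
    · intro p _ hne
      by_cases hv : Valid g p
      · rw [dv_of_valid g p hv, pderiv_X_of_ne]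
        · simp
        · intro h
          apply hne
          have := Option.some.inj h
          exact (congrArg Subtype.val this).symm
      · rw [dv_of_not_valid g p hv]; simp
    · intro h; exact absurd (mem_idx_of_valid g p₀ h₀) h

theorem D1der_eq : D1der g = mkDerivation ℚ (fun v => (w1 g v : ℚ) • X v) := by
  apply derivation_ext
  intro v
  rw [D1der_apply, D1_X, mkDerivation_X]

theorem euler (P : RelRing g) (a : ℤ) (h : IsWeightedHomogeneous (w1 g) P a) :
    D1 g P = (a : ℚ) • P := by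
  rw [← D1der_apply, D1der_eq]
  induction h using IsWeightedHomogeneous.induction_on with
  | zero => simp
  | add p q hp hq ihp ihq => rw [map_add, ihp, ihq, smul_add]
  | monomial d r hr =>
    rw [mkDerivation_monomial, ← hr, Finsupp.weight_apply]
    simp only [Finsupp.sum, smul_eq_mul]
    rw [Finset.smul_sum, Int.cast_sum, Finset.sum_smul]
    refine Finset.sum_congr rfl (fun v hv => ?_)
    have hv1 : d v ≠ 0 := Finsupp.mem_support_iff.1 hv
    have hle : Finsupp.single v 1 ≤ d := by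
      rw [Finsupp.single_le_iff]
      omega
    rw [mul_smul_comm, X, monomial_mul, tsub_add_cancel_of_le hle, smul_monomial, smul_monomial,
      smul_monomial]
    congr 1
    simp only [smul_eq_mul, mul_one, nsmul_eq_mul]
    push_cast
    ring


theorem comm_hom (hg : 1 ≤ g) (P : RelRing g) (a : ℤ) (h : IsWeightedHomogeneous (w1 g) P a) :
    F g (E g P) = E g (F g P) + (((g : ℤ) - a : ℤ) : ℚ) • P := by
  rw [comm_FE g hg, euler g P a h]
  have : (g : RelRing g) * P = ((g : ℤ) : ℚ) • P := by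
    rw [smul_eq_C_mul]; simp
  rw [this]
  push_cast
  module

theorem E_add (P Q : RelRing g) : E g (P + Q) = E g P + E g Q := by unfold E; ring
theorem E_zero : E g 0 = 0 := by unfold E; ring

theorem iter_hom (P : RelRing g) (a : ℤ) (h : IsWeightedHomogeneous (w1 g) P a) :
    ∀ n : ℕ, IsWeightedHomogeneous (w1 g) ((F g)^[n] P) (a - 2 * n) := by
  intro n
  induction n with
  | zero => simpa using h
  | succ n ih =>
    rw [Function.iterate_succ_apply']
    refine hom_cast g (F_hom g _ _ ih) ?_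
    push_cast; ring

theorem iter_comm (hg : 1 ≤ g) (P : RelRing g) (a : ℤ) (h : IsWeightedHomogeneous (w1 g) P a) :
    ∀ n : ℕ, (F g)^[n + 1] (E g P) = E g ((F g)^[n + 1] P)
      + ((((n : ℤ) + 1) * ((g : ℤ) - a + n) : ℤ) : ℚ) • (F g)^[n] P := by
  intro n
  induction n with
  | zero =>
    simp only [Function.iterate_succ, Function.iterate_zero, Function.comp_apply, id_eq]
    rw [comm_hom g hg P a h]
    congr 2
    push_cast; ring
  | succ n ih =>
    rw [Function.iterate_succ_apply', ih, F_add, F_smul,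
      comm_hom g hg _ _ (iter_hom g P a h (n + 1)), ← Function.iterate_succ_apply' (F g) (n + 1),
      ← Function.iterate_succ_apply' (F g) n]
    rw [add_assoc, ← add_smul]
    congr 2
    push_cast; ring

theorem hom_of_bihom (β : RelRing g) (m n : ℕ)
    (hβ : IsWeightedHomogeneous (wt g) β ((m, n) : ℕ × ℕ)) :
    IsWeightedHomogeneous (w1 g) β (m : ℤ) := by
  intro d hd
  have := hβ hd
  rw [Finsupp.weight_apply] at this ⊢
  have h1 := congrArg Prod.fst this
  simp only [Finsupp.sum, Prod.fst_sum, Prod.smul_fst] at h1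
  simp only [Finsupp.sum, w1]
  rw [← h1]
  push_cast
  rfl

theorem main (hg : 1 ≤ g) (n : ℕ) (β : RelRing g)
    (hβ : IsWeightedHomogeneous (wt g) β ((2 * g, n) : ℕ × ℕ)) :
    (F g)^[g + 1] (E g β) = 0 := by
  have h := hom_of_bihom g β (2 * g) n hβ
  rw [iter_comm g hg β _ h g]
  have h0 : (F g)^[g + 1] β = 0 := by
    apply hom_neg_eq_zero g _ _ (iter_hom g β _ h (g + 1))
    push_cast; omega
  rw [h0, E_zero]
  have : ((g : ℤ) + 1) * ((g : ℤ) - ((2 * g : ℕ) : ℤ) + g) = 0 := by push_cast; ring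
  rw [this]
  simp

end H16397

/-- In the formal relation ring of genus g ≥ 1, for every element β which is bihomogeneous of bidegree
(2g, n), the (g+1)-st iterate of the operator F kills x 2 0 · β. (Stated for every bihomogeneous β;
the case of a monomial β is equivalent by linearity.) -/
theorem result
    (g : ℕ) (hg : 1 ≤ g) (n : ℕ) (β : W4c3tautjacobian.RelRing g)
    (hβ : MvPolynomial.IsWeightedHomogeneous (W4c3tautjacobian.wt g) β ((2 * g, n) : ℕ × ℕ)) :
    (W4c3tautjacobian.F g)^[g + 1] (W4c3tautjacobian.E g β) = 0 := by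
  exact H16397.main g hg n β hβ

end Groth.Agent.S16397
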