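import Groth.Statements.S16398
import Mathlib
import Groth.Agent.S16397

set_option autoImplicit false
open W4c3tautjacobian

namespace Groth.Agent.S16398

namespace H16398
open W4c3tautjacobian MvPolynomial Groth.Agent.S16397.H16397

variable (g : ℕ)

/-- second-degree weight, integer valued -/
def w2 : Var g → ℤ := fun v => ((wt g v).2 : ℤ)

theorem w2_none : w2 g none = 2 := by simp [w2, wt]
theorem w2_some (p : {p : ℕ × ℕ // Valid g p}) : w2 g (some p) = (p.1.2 : ℤ) := by simp [w2, wt]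

theorem hom_cast2 {P : RelRing g} {a b : ℤ} (h : IsWeightedHomogeneous (w2 g) P a) (hab : a = b) :
    IsWeightedHomogeneous (w2 g) P b := hab ▸ h

theorem hom_smul2 {P : RelRing g} {a : ℤ} (c : ℚ) (h : IsWeightedHomogeneous (w2 g) P a) :
    IsWeightedHomogeneous (w2 g) (c • P) a :=
  (weightedHomogeneousSubmodule ℚ (w2 g) a).smul_mem c h

theorem hom_natCast2 (n : ℕ) : IsWeightedHomogeneous (w2 g) ((n : RelRing g)) 0 := by
  have : ((n : RelRing g)) = C (n : ℚ) := by simp
  rw [this]; exact isWeightedHomogeneous_C _ _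

theorem xv_hom2 (i j : ℤ) : IsWeightedHomogeneous (w2 g) (xv g i j) j := by
  unfold xv
  split_ifs with h1 h2
  · obtain ⟨rfl, rfl⟩ := h1
    exact hom_natCast2 g g
  · have := isWeightedHomogeneous_X (R := ℚ) (w2 g) (some ⟨(i.toNat, j.toNat), h2.2.2⟩)
    refine hom_cast2 g this ?_
    rw [w2_some]
    exact Int.toNat_of_nonneg h2.2.1
  · exact isWeightedHomogeneous_zero _ _ _

theorem dv_hom2 (p : ℕ × ℕ) (P : RelRing g) (a : ℤ) (h : IsWeightedHomogeneous (w2 g) P a) :
    IsWeightedHomogeneous (w2 g) (dv g p P) (a - p.2) := by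
  unfold dv
  split_ifs with hv
  · exact h.pderiv (by rw [w2_some]; ring)
  · exact isWeightedHomogeneous_zero _ _ _

theorem F_hom2 (P : RelRing g) (a : ℤ) (h : IsWeightedHomogeneous (w2 g) P a) :
    IsWeightedHomogeneous (w2 g) (F g P) a := by
  unfold F
  refine IsWeightedHomogeneous.add (hom_smul2 g _ ?_) ?_
  · refine IsWeightedHomogeneous.sum _ _ _ (fun p _ => IsWeightedHomogeneous.sum _ _ _ (fun q _ => ?_))
    have h1 : IsWeightedHomogeneous (w2 g)
        (X none * xv g ((p.1 : ℤ) - 1) ((p.2 : ℤ) - 1) * xv g ((q.1 : ℤ) - 1) ((q.2 : ℤ) - 1))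
        ((p.2 : ℤ) + q.2) := by
      refine hom_cast2 g (((isWeightedHomogeneous_X (R := ℚ) (w2 g) none).mul (xv_hom2 g _ _)).mul
        (xv_hom2 g _ _)) ?_
      rw [w2_none]; ring
    have h2 : IsWeightedHomogeneous (w2 g)
        ((mergeCoeff p.1 q.1 : RelRing g) * xv g ((p.1 : ℤ) + q.1 - 2) ((p.2 : ℤ) + q.2))
        ((p.2 : ℤ) + q.2) := by
      refine hom_cast2 g ((hom_natCast2 g _).mul (xv_hom2 g _ _)) ?_
      ring
    refine hom_cast2 g ((h1.sub h2).mul (dv_hom2 g p _ _ (dv_hom2 g q _ _ h))) ?_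
    ring
  · refine IsWeightedHomogeneous.sum _ _ _ (fun p _ => ?_)
    refine hom_cast2 g ((xv_hom2 g _ _).mul (dv_hom2 g p _ _ h)) ?_
    ring

theorem iter_hom2 (P : RelRing g) (a : ℤ) (h : IsWeightedHomogeneous (w2 g) P a) :
    ∀ n : ℕ, IsWeightedHomogeneous (w2 g) ((F g)^[n] P) a := by
  intro n
  induction n with
  | zero => simpa using h
  | succ n ih =>
    rw [Function.iterate_succ_apply']
    exact F_hom2 g _ _ ih

theorem weight_w1 (e : Var g →₀ ℕ) :
    Finsupp.weight (w1 g) e = (((Finsupp.weight (wt g) e).1 : ℕ) : ℤ) := by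
  rw [Finsupp.weight_apply, Finsupp.weight_apply]
  simp only [Finsupp.sum, Prod.fst_sum, Prod.smul_fst, w1]
  push_cast
  rfl

theorem weight_w2 (e : Var g →₀ ℕ) :
    Finsupp.weight (w2 g) e = (((Finsupp.weight (wt g) e).2 : ℕ) : ℤ) := by
  rw [Finsupp.weight_apply, Finsupp.weight_apply]
  simp only [Finsupp.sum, Prod.snd_sum, Prod.smul_snd, w2]
  push_cast
  rfl

theorem E_hom (P : RelRing g) (a : ℤ) (h : IsWeightedHomogeneous (w1 g) P a) :
    IsWeightedHomogeneous (w1 g) (E g P) (a + 2) := by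
  unfold E
  exact hom_cast g ((xv_hom g 2 0).mul h) (by ring)

theorem Eiter_hom (P : RelRing g) (a : ℤ) (h : IsWeightedHomogeneous (w1 g) P a) :
    ∀ s : ℕ, IsWeightedHomogeneous (w1 g) ((E g)^[s] P) (a + 2 * s) := by
  intro s
  induction s with
  | zero => simpa using h
  | succ s ih =>
    rw [Function.iterate_succ_apply']
    refine hom_cast g (E_hom g _ _ ih) ?_
    push_cast; ring

theorem key (hg : 1 ≤ g) (β : RelRing g) (c : ℕ)
    (hβ : IsWeightedHomogeneous (w1 g) β (2 * (c : ℤ))) (s : ℕ) :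
    (F g)^[c + s + 1] ((E g)^[s + 1] β) =
      ((((c : ℤ) + s + 1) * ((g : ℤ) - c - s) : ℤ) : ℚ) • (F g)^[c + s] ((E g)^[s] β) := by
  rw [Function.iterate_succ_apply' (E g)]
  have h := Eiter_hom g β _ hβ s
  rw [iter_comm g hg _ _ h (c + s)]
  have h0 : (F g)^[c + s + 1] ((E g)^[s] β) = 0 := by
    apply hom_neg_eq_zero g _ _ (iter_hom g _ _ h (c + s + 1))
    push_cast; omega
  rw [h0, E_zero, zero_add]
  congr 2
  push_cast; ring

theorem vanish (hg : 1 ≤ g) (β : RelRing g) (c : ℕ)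
    (hβ : IsWeightedHomogeneous (w1 g) β (2 * (c : ℤ))) (hc : c ≤ g) :
    ∀ s : ℕ, g < c + s → (F g)^[c + s] ((E g)^[s] β) = 0 := by
  intro s
  induction s with
  | zero => intro h; omega
  | succ s ih =>
    intro h
    have hk := key g hg β c hβ s
    rw [show c + (s + 1) = c + s + 1 from rfl, hk]
    rcases Nat.lt_or_ge g (c + s) with h1 | h1
    · rw [ih h1, smul_zero]
    · have : (g : ℤ) - c - s = 0 := by omega
      rw [this, mul_zero]; simp

theorem Eiter_eq (P : RelRing g) (s : ℕ) : (E g)^[s] P = (xv g 2 0) ^ s * P := by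
  induction s with
  | zero => simp
  | succ s ih =>
    rw [Function.iterate_succ_apply', ih]
    unfold E
    ring

end H16398

namespace H16398
open W4c3tautjacobian MvPolynomial Groth.Agent.S16397.H16397

variable (g : ℕ)

/-- every variable other than `x 2 0` has first degree at most three times its second degree -/
theorem wt_bound (hg : 1 ≤ g) (v : Var g) (hv : v ≠ some ⟨(2, 0), valid20 g hg⟩) :
    (wt g v).1 ≤ 3 * (wt g v).2 := by
  cases v with
  | none => simp [wt]
  | some p =>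
    obtain ⟨⟨i, j⟩, hp⟩ := p
    simp only [wt]
    obtain ⟨h1, h2, h3, h4⟩ := hp
    simp only at h1 h2 h3 h4
    rcases Nat.eq_zero_or_pos j with rfl | hj
    · exfalso
      apply hv
      have hi : i = 2 := by
        have : i ≠ 0 := by
          rintro rfl; exact h4 rfl
        have he : Even i := by simpa using h3
        obtain ⟨t, ht⟩ := he
        omega
      subst hi
      rfl
    · omega

theorem weight_bound (hg : 1 ≤ g) (d : Var g →₀ ℕ) (hd : d (some ⟨(2, 0), valid20 g hg⟩) = 0) :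
    (Finsupp.weight (wt g) d).1 ≤ 3 * (Finsupp.weight (wt g) d).2 := by
  rw [Finsupp.weight_apply]
  simp only [Finsupp.sum, Prod.fst_sum, Prod.snd_sum, Prod.smul_fst, Prod.smul_snd]
  rw [Finset.mul_sum]
  apply Finset.sum_le_sum
  intro v hv
  have hne : v ≠ some ⟨(2, 0), valid20 g hg⟩ := by
    rintro rfl
    exact (Finsupp.mem_support_iff.1 hv) hd
  have := wt_bound g hg v hne
  simp only [smul_eq_mul]
  nlinarith

theorem gen_vanish (hg : 1 ≤ g) (d₀ : Var g →₀ ℕ) (k : ℕ)
    (h1 : (Finsupp.weight (wt g) d₀).1 = 2 * k)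
    (h2 : 3 * (Finsupp.weight (wt g) d₀).2 ≤ 2 * g)
    (h3 : 2 * g < (Finsupp.weight (wt g) d₀).1) :
    (F g)^[k] (monomial d₀ (1 : ℚ)) = 0 := by
  classical
  set v₀ : Var g := some ⟨(2, 0), valid20 g hg⟩ with hv₀
  set r := d₀ v₀ with hr
  set d' := d₀.erase v₀ with hd'
  have hdec : d₀ = d' + Finsupp.single v₀ r := (Finsupp.erase_add_single v₀ d₀).symm
  have hd'0 : d' v₀ = 0 := by rw [hd']; simp
  have hw : Finsupp.weight (wt g) d₀ = Finsupp.weight (wt g) d' + r • (2, 0) := by
    conv_lhs => rw [hdec]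
    rw [map_add, Finsupp.weight_single]
    rfl
  have hw1 : (Finsupp.weight (wt g) d₀).1 = (Finsupp.weight (wt g) d').1 + 2 * r := by
    rw [hw]; simp [mul_comm]
  have hw2 : (Finsupp.weight (wt g) d₀).2 = (Finsupp.weight (wt g) d').2 := by
    rw [hw]; simp
  have hb := weight_bound g hg d' hd'0
  -- c := k - r
  have hrk : r ≤ k := by omega
  obtain ⟨c, hc⟩ := Nat.exists_eq_add_of_le hrk
  have hc1 : (Finsupp.weight (wt g) d').1 = 2 * c := by omega
  have hcg : c ≤ g := by omega
  have hβ : IsWeightedHomogeneous (w1 g) (monomial d' (1 : ℚ)) (2 * (c : ℤ)) := by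
    apply isWeightedHomogeneous_monomial
    rw [weight_w1, hc1]; push_cast; ring
  have hmon : monomial d₀ (1 : ℚ) = (E g)^[r] (monomial d' (1 : ℚ)) := by
    rw [Eiter_eq, xv20 g hg, X_pow_eq_monomial, monomial_mul, one_mul]
    conv_lhs => rw [hdec]
    rw [add_comm]
  have hk : k = c + r := by omega
  rw [hmon, hk]
  exact vanish g hg _ c hβ hcg r (by omega)

/-- no monomials of first degree zero and small second degree -/
def NoLow (P : RelRing g) : Prop :=
  ∀ e : Var g →₀ ℕ, (Finsupp.weight (wt g) e).1 = 0 → 3 * (Finsupp.weight (wt g) e).2 ≤ 2 * g →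
    coeff e P = 0

theorem noLow_gen (hg : 1 ≤ g) (d₀ : Var g →₀ ℕ) (k : ℕ)
    (h : 2 * g < (Finsupp.weight (wt g) d₀).1) : NoLow g ((F g)^[k] (monomial d₀ (1 : ℚ))) := by
  intro e he1 he2
  by_contra hne
  have hm1 : IsWeightedHomogeneous (w1 g) (monomial d₀ (1 : ℚ))
      (((Finsupp.weight (wt g) d₀).1 : ℕ) : ℤ) := by
    apply isWeightedHomogeneous_monomial
    rw [weight_w1]
  have hm2 : IsWeightedHomogeneous (w2 g) (monomial d₀ (1 : ℚ))
      (((Finsupp.weight (wt g) d₀).2 : ℕ) : ℤ) := by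
    apply isWeightedHomogeneous_monomial
    rw [weight_w2]
  have e1 := iter_hom g _ _ hm1 k hne
  have e2 := iter_hom2 g _ _ hm2 k hne
  rw [weight_w1] at e1
  rw [weight_w2] at e2
  have h1 : (Finsupp.weight (wt g) d₀).1 = 2 * k := by omega
  have h2 : (Finsupp.weight (wt g) d₀).2 = (Finsupp.weight (wt g) e).2 := by omega
  apply hne
  rw [gen_vanish g hg d₀ k h1 (by omega) h, coeff_zero]

theorem noLow_ideal (hg : 1 ≤ g) (P : RelRing g) (hP : P ∈ relIdeal g) : NoLow g P := by
  unfold relIdeal at hP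
  induction hP using Submodule.span_induction with
  | mem x hx =>
    obtain ⟨d, n, h, rfl⟩ := hx
    exact noLow_gen g hg d n h
  | zero => intro e _ _; exact coeff_zero _
  | add x y _ _ hx hy =>
    intro e he1 he2
    rw [coeff_add, hx e he1 he2, hy e he1 he2, add_zero]
  | smul a x _ hx =>
    intro e he1 he2
    rw [smul_eq_mul, coeff_mul]
    apply Finset.sum_eq_zero
    intro p hp
    have hpe : p.1 + p.2 = e := Finset.HasAntidiagonal.mem_antidiagonal.1 hp
    have hwe : Finsupp.weight (wt g) e = Finsupp.weight (wt g) p.1 + Finsupp.weight (wt g) p.2 := by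
      rw [← hpe, map_add]
    have hwe1 := congrArg Prod.fst hwe
    have hwe2 := congrArg Prod.snd hwe
    simp only [Prod.fst_add, Prod.snd_add] at hwe1 hwe2
    rw [hx p.2 (by omega) (by omega), mul_zero]

theorem main (hg : 1 ≤ g) (n : ℕ) (hn : 3 * n ≤ 2 * g) (P : RelRing g)
    (hP : P ∈ relIdeal g)
    (hhom : IsWeightedHomogeneous (wt g) P ((0, n) : ℕ × ℕ)) : P = 0 := by
  ext e
  rw [coeff_zero]
  by_contra hne
  have hw := hhom hne
  apply hne
  apply noLow_ideal g hg P hP e
  · rw [hw]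
  · rw [hw]; exact hn

end H16398

/-- In the formal relation ring of genus g ≥ 1, an element of the relation ideal which is bihomogeneous
of bidegree (0, n) with 3n ≤ 2g vanishes; that is, the relations impose nothing on the
first-degree-0 part in second degree at most 2g/3. -/
theorem result
    (g : ℕ) (hg : 1 ≤ g) (n : ℕ) (hn : 3 * n ≤ 2 * g) (P : W4c3tautjacobian.RelRing g)
    (hP : P ∈ W4c3tautjacobian.relIdeal g)
    (hhom : MvPolynomial.IsWeightedHomogeneous (W4c3tautjacobian.wt g) P ((0, n) : ℕ × ℕ)) :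
    P = 0 := by
  exact H16398.main g hg n hn P hP hhom

end Groth.Agent.S16398
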