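import Groth.Statements.S16399
import Mathlib
import Groth.Agent.S16398

set_option autoImplicit false
open W4c3tautjacobian

namespace Groth.Agent.S16399

namespace H16399
open W4c3tautjacobian MvPolynomial Groth.Agent.S16397.H16397 Groth.Agent.S16398.H16398

variable (g : ℕ)

/-- good variables: `x`-variables of second degree at least one -/
def GoodV (v : Var g) : Prop := ∃ p : {p : ℕ × ℕ // Valid g p}, v = some p ∧ 1 ≤ p.1.2

def Good (d : Var g →₀ ℕ) : Prop := ∀ v ∈ d.support, GoodV g v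

/-- the positive cone -/
def K (P : RelRing g) : Prop := ∀ d, 0 ≤ coeff d P ∧ (coeff d P ≠ 0 → Good g d)

theorem K_zero : K g 0 := by
  intro d; simp

theorem K_add {P Q : RelRing g} (hP : K g P) (hQ : K g Q) : K g (P + Q) := by
  intro d
  rw [coeff_add]
  refine ⟨add_nonneg (hP d).1 (hQ d).1, fun h => ?_⟩
  by_cases h1 : coeff d P = 0
  · rw [h1, zero_add] at h; exact (hQ d).2 h
  · exact (hP d).2 h1

theorem K_smul {c : ℚ} (hc : 0 ≤ c) {P : RelRing g} (hP : K g P) : K g (c • P) := by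
  intro d
  rw [coeff_smul, smul_eq_mul]
  refine ⟨mul_nonneg hc (hP d).1, fun h => (hP d).2 (right_ne_zero_of_mul h)⟩

theorem K_sum {ι : Type*} (s : Finset ι) (f : ι → RelRing g) (h : ∀ i ∈ s, K g (f i)) :
    K g (∑ i ∈ s, f i) := by
  classical
  induction s using Finset.induction_on with
  | empty => simpa using K_zero g
  | insert a s ha ih =>
    rw [Finset.sum_insert ha]
    exact K_add g (h a (Finset.mem_insert_self _ _))
      (ih (fun i hi => h i (Finset.mem_insert_of_mem hi)))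

theorem K_sum_sub {ι : Type*} (s : Finset ι) (f : ι → RelRing g) (h : ∀ i ∈ s, K g (f i))
    (i₀ : ι) (hi₀ : i₀ ∈ s) : K g (∑ i ∈ s, f i - f i₀) := by
  classical
  rw [← Finset.add_sum_erase s f hi₀, add_sub_cancel_left]
  exact K_sum g _ f (fun i hi => h i (Finset.mem_of_mem_erase hi))

theorem K_X_mul (v : Var g) (hv : GoodV g v) {P : RelRing g} (hP : K g P) : K g (X v * P) := by
  classical
  intro d
  rw [coeff_X_mul']
  split_ifs with h
  · refine ⟨(hP _).1, fun hne => ?_⟩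
    have hG := (hP _).2 hne
    intro w hw
    by_cases hwv : w = v
    · rw [hwv]; exact hv
    · apply hG w
      rw [Finsupp.mem_support_iff] at hw ⊢
      rw [Finsupp.tsub_apply, Finsupp.single_apply, if_neg (Ne.symm hwv)]
      simpa using hw
  · exact ⟨le_refl _, fun h => absurd rfl h⟩

theorem K_natCast_mul (n : ℕ) {P : RelRing g} (hP : K g P) : K g ((n : RelRing g) * P) := by
  have : ((n : RelRing g)) * P = (n : ℚ) • P := by
    rw [smul_eq_C_mul]; simp
  rw [this]
  exact K_smul g (by positivity) hP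

theorem K_pderiv (v : Var g) {P : RelRing g} (hP : K g P) : K g (pderiv v P) := by
  intro d
  rw [coeff_pderiv]
  refine ⟨mul_nonneg (hP _).1 (by positivity), fun hne => ?_⟩
  have hG := (hP _).2 (left_ne_zero_of_mul hne)
  intro w hw
  apply hG w
  rw [Finsupp.mem_support_iff] at hw ⊢
  rw [Finsupp.add_apply]
  omega

theorem K_dv (p : ℕ × ℕ) {P : RelRing g} (hP : K g P) : K g (dv g p P) := by
  unfold dv
  split_ifs
  · exact K_pderiv g _ hP
  · exact K_zero g

/-- derivative along a non-good variable vanishes on the cone -/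
theorem dv_eq_zero_of_K (p : ℕ × ℕ) (hp : p.2 = 0) {P : RelRing g} (hP : K g P) :
    dv g p P = 0 := by
  unfold dv
  split_ifs with hv
  · ext d
    rw [coeff_pderiv, coeff_zero]
    by_contra hne
    have hG := (hP _).2 (left_ne_zero_of_mul hne)
    have : GoodV g (some ⟨p, hv⟩) := by
      apply hG
      rw [Finsupp.mem_support_iff, Finsupp.add_apply, Finsupp.single_apply, if_pos rfl]
      omega
    obtain ⟨p', h1, h2⟩ := this
    have := Option.some.inj h1
    rw [← this] at h2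
    simp only at h2
    omega
  · rfl

theorem K_xv_mul (a b : ℤ) (hb : 1 ≤ b) {P : RelRing g} (hP : K g P) : K g (xv g a b * P) := by
  unfold xv
  rw [if_neg (by omega)]
  split_ifs with h
  · apply K_X_mul g _ _ hP
    refine ⟨⟨_, h.2.2⟩, rfl, ?_⟩
    simp only
    omega
  · rw [zero_mul]; exact K_zero g

/-- the positive operator -/
noncomputable def Fp (P : RelRing g) : RelRing g :=
  (1 / 2 : ℚ) • (∑ p ∈ idx g, ∑ q ∈ idx g,
      ((mergeCoeff p.1 q.1 : RelRing g) * xv g ((p.1 : ℤ) + q.1 - 2) ((p.2 : ℤ) + q.2))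
        * dv g p (dv g q P))
    + ∑ p ∈ idx g, xv g ((p.1 : ℤ) - 2) (p.2 : ℤ) * dv g p P

theorem K_term2 (p q : ℕ × ℕ) {P : RelRing g} (hP : K g P) :
    K g (((mergeCoeff p.1 q.1 : RelRing g) * xv g ((p.1 : ℤ) + q.1 - 2) ((p.2 : ℤ) + q.2))
        * dv g p (dv g q P)) := by
  by_cases hq : q.2 = 0
  · rw [dv_eq_zero_of_K g q hq hP, dv_zero, mul_zero]; exact K_zero g
  by_cases hp : p.2 = 0
  · rw [dv_eq_zero_of_K g p hp (K_dv g q hP), mul_zero]; exact K_zero g
  rw [mul_assoc]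
  apply K_natCast_mul
  apply K_xv_mul g _ _ (by omega)
  exact K_dv g p (K_dv g q hP)

theorem K_term1 (p : ℕ × ℕ) {P : RelRing g} (hP : K g P) :
    K g (xv g ((p.1 : ℤ) - 2) (p.2 : ℤ) * dv g p P) := by
  by_cases hp : p.2 = 0
  · rw [dv_eq_zero_of_K g p hp hP, mul_zero]; exact K_zero g
  apply K_xv_mul g _ _ (by omega)
  exact K_dv g p hP

theorem K_S2 {P : RelRing g} (hP : K g P) :
    K g (∑ p ∈ idx g, ∑ q ∈ idx g,
      ((mergeCoeff p.1 q.1 : RelRing g) * xv g ((p.1 : ℤ) + q.1 - 2) ((p.2 : ℤ) + q.2))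
        * dv g p (dv g q P)) :=
  K_sum g _ _ (fun p _ => K_sum g _ _ (fun q _ => K_term2 g p q hP))

theorem K_S1 {P : RelRing g} (hP : K g P) :
    K g (∑ p ∈ idx g, xv g ((p.1 : ℤ) - 2) (p.2 : ℤ) * dv g p P) :=
  K_sum g _ _ (fun p _ => K_term1 g p hP)

theorem K_Fp {P : RelRing g} (hP : K g P) : K g (Fp g P) := by
  unfold Fp
  exact K_add g (K_smul g (by norm_num) (K_S2 g hP)) (K_S1 g hP)

theorem Fp_add (P Q : RelRing g) : Fp g (P + Q) = Fp g P + Fp g Q := by
  unfold Fp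
  simp only [dv_add, mul_add, Finset.sum_add_distrib, smul_add]
  abel

theorem Fp_smul (c : ℚ) (P : RelRing g) : Fp g (c • P) = c • Fp g P := by
  unfold Fp
  simp only [dv_smul, mul_smul_comm, ← Finset.smul_sum, smul_add]
  rw [smul_comm]

theorem Fp_sub (P Q : RelRing g) : Fp g (P - Q) = Fp g P - Fp g Q := by
  have h := Fp_add g (P - Q) Q
  rw [sub_add_cancel] at h
  rw [h]; ring

/-- `P` dominates `Q` -/
def GE (P Q : RelRing g) : Prop := K g (P - Q)

theorem GE_trans {P Q R : RelRing g} (h1 : GE g P Q) (h2 : GE g Q R) : GE g P R := by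
  unfold GE at *
  have := K_add g h1 h2
  rwa [sub_add_sub_cancel] at this

theorem GE_Fp {P Q : RelRing g} (h : GE g P Q) : GE g (Fp g P) (Fp g Q) := by
  unfold GE at *
  rw [← Fp_sub]; exact K_Fp g h

theorem GE_smul {c : ℚ} (hc : 0 ≤ c) {P Q : RelRing g} (h : GE g P Q) : GE g (c • P) (c • Q) := by
  unfold GE at *
  rw [← smul_sub]; exact K_smul g hc h

/-- `Fp P` dominates one half of any one of its second-order terms -/
theorem GE_Fp_term2 (p₀ q₀ : ℕ × ℕ) (hp₀ : p₀ ∈ idx g) (hq₀ : q₀ ∈ idx g) {P : RelRing g}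
    (hP : K g P) :
    GE g (Fp g P) ((1 / 2 : ℚ) • (((mergeCoeff p₀.1 q₀.1 : RelRing g) *
      xv g ((p₀.1 : ℤ) + q₀.1 - 2) ((p₀.2 : ℤ) + q₀.2)) * dv g p₀ (dv g q₀ P))) := by
  unfold GE Fp
  rw [add_sub_right_comm, ← smul_sub]
  refine K_add g (K_smul g (by norm_num) ?_) (K_S1 g hP)
  rw [← Finset.sum_product', ]
  exact K_sum_sub g (idx g ×ˢ idx g)
    (fun x => ((mergeCoeff x.1.1 x.2.1 : RelRing g) *
      xv g ((x.1.1 : ℤ) + x.2.1 - 2) ((x.1.2 : ℤ) + x.2.2)) * dv g x.1 (dv g x.2 P))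
    (fun x _ => K_term2 g x.1 x.2 hP) (p₀, q₀) (Finset.mk_mem_product hp₀ hq₀)

theorem GE_Fp_term1 (p₀ : ℕ × ℕ) (hp₀ : p₀ ∈ idx g) {P : RelRing g} (hP : K g P) :
    GE g (Fp g P) (xv g ((p₀.1 : ℤ) - 2) (p₀.2 : ℤ) * dv g p₀ P) := by
  unfold GE Fp
  rw [add_sub_assoc]
  refine K_add g (K_smul g (by norm_num) (K_S2 g hP)) ?_
  exact K_sum_sub g (idx g) (fun p => xv g ((p.1 : ℤ) - 2) (p.2 : ℤ) * dv g p P)
    (fun p _ => K_term1 g p hP) p₀ hp₀

end H16399

namespace H16399
open W4c3tautjacobian MvPolynomial Groth.Agent.S16397.H16397 Groth.Agent.S16398.H16398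

variable (g : ℕ)

/-- virtual variable at a pair of naturals -/
noncomputable def xvn (p : ℕ × ℕ) : RelRing g := xv g (p.1 : ℤ) (p.2 : ℤ)

theorem K_one : K g 1 := by
  classical
  intro d
  rw [coeff_one]
  split_ifs with h
  · refine ⟨by norm_num, fun _ => ?_⟩
    rw [← h]
    intro v hv
    simp at hv
  · exact ⟨le_refl _, fun h => absurd rfl h⟩

theorem K_xvn_mul (p : ℕ × ℕ) (hp : 1 ≤ p.2) {P : RelRing g} (hP : K g P) :
    K g (xvn g p * P) := K_xv_mul g _ _ (by exact_mod_cast hp) hP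

theorem K_xvn (p : ℕ × ℕ) (hp : 1 ≤ p.2) : K g (xvn g p) := by
  have := K_xvn_mul g p hp (K_one g)
  rwa [mul_one] at this

theorem K_xvn_pow (p : ℕ × ℕ) (hp : 1 ≤ p.2) (t : ℕ) : K g (xvn g p ^ t) := by
  induction t with
  | zero => simpa using K_one g
  | succ t ih =>
    rw [pow_succ']
    exact K_xvn_mul g p hp ih

theorem dv_sub (p : ℕ × ℕ) (P Q : RelRing g) : dv g p (P - Q) = dv g p P - dv g p Q := by
  unfold dv; split_ifs <;> simp

theorem dv_mul_xvn (q : ℕ × ℕ) (hq : Valid g q) (A : RelRing g) :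
    dv g q (A * xvn g q) = dv g q A * xvn g q + A := by
  unfold xvn
  rw [xv_of_valid g q hq, dv_of_valid g q hq, dv_of_valid g q hq, pderiv_mul, pderiv_X_self, mul_one]

theorem dv_xvn_self (q : ℕ × ℕ) (hq : Valid g q) : dv g q (xvn g q) = 1 := by
  unfold xvn
  rw [xv_of_valid g q hq, dv_of_valid g q hq, pderiv_X_self]

theorem dv_xvn_pow (q : ℕ × ℕ) (hq : Valid g q) (t : ℕ) :
    dv g q (xvn g q ^ (t + 1)) = ((t + 1 : ℕ) : RelRing g) * xvn g q ^ t := by
  unfold xvn
  rw [xv_of_valid g q hq, dv_of_valid g q hq, pderiv_pow, pderiv_X_self, mul_one]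
  simp

theorem merge_step (p₀ q : ℕ × ℕ) (hp₀ : Valid g p₀) (hq : Valid g q) (h1 : 1 ≤ p₀.2)
    (h2 : 1 ≤ q.2) {A : RelRing g} (hA : K g A) :
    GE g (Fp g (A * xvn g q)) ((1 / 2 : ℚ) • (((mergeCoeff p₀.1 q.1 : RelRing g) *
      xv g ((p₀.1 : ℤ) + q.1 - 2) ((p₀.2 : ℤ) + q.2)) * dv g p₀ A)) := by
  have hK : K g (A * xvn g q) := by
    rw [mul_comm]; exact K_xvn_mul g q h2 hA
  refine GE_trans g (GE_Fp_term2 g p₀ q (mem_idx_of_valid g p₀ hp₀) (mem_idx_of_valid g q hq) hK) ?_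
  unfold GE
  rw [← smul_sub, ← mul_sub, ← dv_sub, dv_mul_xvn g q hq, add_sub_cancel_right]
  refine K_smul g (by norm_num) ?_
  rw [mul_assoc]
  apply K_natCast_mul
  apply K_xv_mul g _ _ (by omega)
  apply K_dv
  rw [mul_comm]
  exact K_xvn_mul g q h2 (K_dv g q hA)

theorem lower_step (p : ℕ × ℕ) (hp : Valid g p) (h1 : 1 ≤ p.2) :
    GE g (Fp g (xvn g p)) (xv g ((p.1 : ℤ) - 2) (p.2 : ℤ)) := by
  have := GE_Fp_term1 g p (mem_idx_of_valid g p hp) (K_xvn g p h1)
  rwa [dv_xvn_self g p hp, mul_one] at this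

theorem GE_refl (P : RelRing g) : GE g P P := by
  unfold GE; rw [sub_self]; exact K_zero g

theorem valid_a (s : ℕ) (hs : s + 3 ≤ 2 * g) : Valid g (s + 3, s + 1) := by
  refine ⟨by simp, by simp; omega, ⟨s + 2, by simp; ring⟩, by simp⟩

theorem valid_b (i t : ℕ) (hi : 1 ≤ i) (hig : i + 1 ≤ g) (ht : t ≤ i + 1) :
    Valid g (2 * i + 2 - 2 * t, 2 * i) := by
  refine ⟨by simp, by simp; omega, ⟨2 * i + 1 - t, by simp; omega⟩, ?_⟩
  intro h
  have := congrArg Prod.snd h
  simp at this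
  omega

theorem chainA (i : ℕ) (hi : 1 ≤ i) (hig : i + 1 ≤ g) :
    ∀ s : ℕ, s + 1 ≤ 2 * i → ∃ c : ℚ, 0 < c ∧
      GE g ((Fp g)^[s] (xvn g (3, 1) ^ (2 * i)))
        (c • (xvn g (3, 1) ^ (2 * i - 1 - s) * xvn g (s + 3, s + 1))) := by
  intro s
  induction s with
  | zero =>
    intro _
    refine ⟨1, by norm_num, ?_⟩
    rw [Function.iterate_zero, id_eq, one_smul]
    have : xvn g (3, 1) ^ (2 * i) = xvn g (3, 1) ^ (2 * i - 1 - 0) * xvn g (0 + 3, 0 + 1) := by
      rw [← pow_succ]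
      congr 1
      omega
    rw [← this]
    exact GE_refl g _
  | succ s ih =>
    intro hs
    obtain ⟨c, hc, hGE⟩ := ih (by omega)
    have hv31 : Valid g (3, 1) := valid_a g 0 (by omega)
    have hvq : Valid g (s + 3, s + 1) := valid_a g s (by omega)
    obtain ⟨t, ht⟩ : ∃ t, 2 * i - 1 - s = t + 1 := ⟨2 * i - 2 - s, by omega⟩
    have ht' : 2 * i - 1 - (s + 1) = t := by omega
    have hm := merge_step g (3, 1) (s + 3, s + 1) hv31 hvq (by simp) (by simp)
      (K_xvn_pow g (3, 1) (by simp) (t + 1))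
    rw [dv_xvn_pow g (3, 1) hv31 t] at hm
    have hmc : mergeCoeff 3 (s + 3) = (s + 4).choose 2 := by
      unfold mergeCoeff
      rw [if_neg (by omega)]
      have e1 : 3 + (s + 3) - 2 = s + 4 := by omega
      rw [e1]
    have hxv : xv g ((((3, 1) : ℕ × ℕ).1 : ℤ) + (((s + 3, s + 1) : ℕ × ℕ).1 : ℤ) - 2)
        ((((3, 1) : ℕ × ℕ).2 : ℤ) + (((s + 3, s + 1) : ℕ × ℕ).2 : ℤ)) =
        xvn g (s + 1 + 3, s + 1 + 1) := by
      unfold xvn
      congr 1 <;> push_cast <;> ring
    rw [hxv] at hm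
    simp only [hmc] at hm
    refine ⟨c * ((1 / 2 : ℚ) * ((s + 4).choose 2 : ℚ) * ((t + 1 : ℕ) : ℚ)), ?_, ?_⟩
    · have : 0 < (s + 4).choose 2 := Nat.choose_pos (by omega)
      have h2 : (0 : ℚ) < ((s + 4).choose 2 : ℚ) := by exact_mod_cast this
      positivity
    · rw [Function.iterate_succ_apply']
      refine GE_trans g (GE_Fp g hGE) ?_
      rw [Fp_smul, ht, ht', mul_smul]
      refine GE_smul g hc.le ?_
      have e : ((1 / 2 : ℚ) * ((s + 4).choose 2 : ℚ) * ((t + 1 : ℕ) : ℚ)) •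
          (xvn g (3, 1) ^ t * xvn g (s + 1 + 3, s + 1 + 1)) =
          (1 / 2 : ℚ) • ((((s + 4).choose 2 : ℕ) : RelRing g) * xvn g (s + 1 + 3, s + 1 + 1) *
            (((t + 1 : ℕ) : RelRing g) * xvn g (3, 1) ^ t)) := by
        rw [mul_assoc, mul_smul]
        congr 1
        rw [smul_eq_C_mul]
        simp only [map_mul, map_natCast]
        ring
      rw [e]
      exact hm

theorem chainB (i : ℕ) (hi : 1 ≤ i) (hig : i + 1 ≤ g) :
    ∀ t : ℕ, t ≤ i + 1 → ∃ c : ℚ, 0 < c ∧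
      GE g ((Fp g)^[2 * i - 1 + t] (xvn g (3, 1) ^ (2 * i)))
        (c • xvn g (2 * i + 2 - 2 * t, 2 * i)) := by
  intro t
  induction t with
  | zero =>
    intro _
    obtain ⟨c, hc, h⟩ := chainA g i hi hig (2 * i - 1) (by omega)
    refine ⟨c, hc, ?_⟩
    have e : 2 * i - 1 - (2 * i - 1) = 0 := by omega
    rw [e, pow_zero, one_mul] at h
    have e2 : ((2 * i - 1 + 3, 2 * i - 1 + 1) : ℕ × ℕ) = (2 * i + 2 - 2 * 0, 2 * i) := by
      ext <;> simp <;> omega
    rw [e2] at h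
    exact h
  | succ t ih =>
    intro ht
    obtain ⟨c, hc, hGE⟩ := ih (by omega)
    refine ⟨c, hc, ?_⟩
    rw [← add_assoc, Function.iterate_succ_apply']
    refine GE_trans g (GE_Fp g hGE) ?_
    rw [Fp_smul]
    refine GE_smul g hc.le ?_
    have hv := valid_b g i t hi hig (by omega)
    have := lower_step g (2 * i + 2 - 2 * t, 2 * i) hv (by simp; omega)
    have e : xv g ((((2 * i + 2 - 2 * t, 2 * i) : ℕ × ℕ).1 : ℤ) - 2)
        ((((2 * i + 2 - 2 * t, 2 * i) : ℕ × ℕ).2 : ℤ)) = xvn g (2 * i + 2 - 2 * (t + 1), 2 * i) := by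
      unfold xvn
      congr 1
      simp only
      omega
    rw [e] at this
    exact this

theorem chain (i : ℕ) (hi : 1 ≤ i) (hig : i + 1 ≤ g) :
    ∃ c : ℚ, 0 < c ∧ GE g ((Fp g)^[3 * i] (xvn g (3, 1) ^ (2 * i))) (c • xvn g (0, 2 * i)) := by
  obtain ⟨c, hc, h⟩ := chainB g i hi hig (i + 1) le_rfl
  refine ⟨c, hc, ?_⟩
  have e1 : 2 * i - 1 + (i + 1) = 3 * i := by omega
  have e2 : 2 * i + 2 - 2 * (i + 1) = 0 := by omega
  rw [e1, e2] at h
  exact h

end H16399

namespace H16399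
open W4c3tautjacobian MvPolynomial Groth.Agent.S16397.H16397 Groth.Agent.S16398.H16398

variable (g : ℕ)

/-- sign of a variable: kill `y`, negate the `x`'s -/
def sgn : Var g → ℚ
  | none => 0
  | some _ => -1

/-- the sign-twist -/
noncomputable def tau : RelRing g →ₐ[ℚ] RelRing g := aeval (fun v : Var g => C (sgn g v) * X v)

theorem tau_X (v : Var g) : tau g (X v) = C (sgn g v) * X v := by
  unfold tau; rw [aeval_X]

theorem tau_X_none : tau g (X none) = 0 := by
  rw [tau_X]; simp [sgn]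

theorem tau_X_some (p : {p : ℕ × ℕ // Valid g p}) : tau g (X (some p)) = - X (some p) := by
  rw [tau_X]; simp [sgn]

theorem tau_monomial (e : Var g →₀ ℕ) (a : ℚ) :
    tau g (monomial e a) = monomial e (a * e.prod (fun v n => sgn g v ^ n)) := by
  unfold tau
  rw [aeval_monomial]
  simp only [mul_pow, Finsupp.prod_mul]
  rw [monomial_eq (a := a * _), map_mul, mul_assoc]
  congr 1
  congr 1
  rw [map_finsuppProd]
  simp only [map_pow]

theorem coeff_tau (d : Var g →₀ ℕ) (P : RelRing g) :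
    coeff d (tau g P) = coeff d P * d.prod (fun v n => sgn g v ^ n) := by
  classical
  induction P using MvPolynomial.induction_on' with
  | add p q hp hq => rw [map_add, coeff_add, coeff_add, hp, hq, add_mul]
  | monomial e a =>
    rw [tau_monomial, coeff_monomial, coeff_monomial]
    split_ifs with h
    · rw [h]
    · rw [zero_mul]

theorem tau_pderiv (p : {p : ℕ × ℕ // Valid g p}) (P : RelRing g) :
    tau g (pderiv (some p) P) = - pderiv (some p) (tau g P) := by
  classical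
  induction P using MvPolynomial.induction_on with
  | C a =>
    have : tau g (C a) = C a := (tau g).commutes a
    rw [this, pderiv_C]; simp
  | add P Q hP hQ => rw [map_add, map_add, map_add, map_add, hP, hQ]; ring
  | mul_X P n ih =>
    rw [pderiv_mul, map_add, map_mul, map_mul, map_mul, pderiv_mul, ih, tau_X]
    rw [pderiv_mul, pderiv_C, zero_mul, zero_add, pderiv_X]
    by_cases hn : n = some p
    · subst hn
      simp [sgn]
      ring
    · have : Pi.single (M := fun _ => RelRing g) (some p) (1 : RelRing g) n = 0 := by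
        rw [Pi.single_apply, if_neg hn]
      rw [this]
      simp

theorem tau_dv (p : ℕ × ℕ) (P : RelRing g) : tau g (dv g p P) = - dv g p (tau g P) := by
  unfold dv
  split_ifs with h
  · exact tau_pderiv g ⟨p, h⟩ P
  · simp

theorem tau_xv (a b : ℤ) (hab : ¬ (a = 0 ∧ b = 0)) : tau g (xv g a b) = - xv g a b := by
  unfold xv
  rw [if_neg hab]
  split_ifs with h
  · exact tau_X_some g _
  · simp

theorem dv_neg (p : ℕ × ℕ) (P : RelRing g) : dv g p (-P) = - dv g p P := by
  unfold dv; split_ifs <;> simp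

theorem tau_F (P : RelRing g) (hK : K g (tau g P)) : tau g (F g P) = Fp g (tau g P) := by
  unfold F Fp
  rw [map_add, map_smul, map_sum, map_sum]
  congr 1
  · congr 1
    refine Finset.sum_congr rfl (fun p _ => ?_)
    rw [map_sum]
    refine Finset.sum_congr rfl (fun q _ => ?_)
    rw [map_mul, map_sub, map_mul, map_mul, map_mul, tau_X_none, tau_dv, tau_dv, map_natCast,
      dv_neg, neg_neg]
    by_cases hq : q.2 = 0
    · rw [dv_eq_zero_of_K g q hq hK, dv_zero, mul_zero, mul_zero]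
    · have hne : ¬ ((p.1 : ℤ) + q.1 - 2 = 0 ∧ (p.2 : ℤ) + q.2 = 0) := by omega
      rw [tau_xv g _ _ hne]
      ring
  · refine Finset.sum_congr rfl (fun p _ => ?_)
    rw [map_mul, tau_dv]
    by_cases hp : p.2 = 0
    · rw [dv_eq_zero_of_K g p hp hK]; simp
    · have hne : ¬ ((p.1 : ℤ) - 2 = 0 ∧ (p.2 : ℤ) = 0) := by omega
      rw [tau_xv g _ _ hne]
      ring

theorem tau_iter (P : RelRing g) (hK : K g (tau g P)) (n : ℕ) :
    tau g ((F g)^[n] P) = (Fp g)^[n] (tau g P) ∧ K g ((Fp g)^[n] (tau g P)) := by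
  induction n with
  | zero => exact ⟨rfl, hK⟩
  | succ n ih =>
    obtain ⟨h1, h2⟩ := ih
    rw [Function.iterate_succ_apply', Function.iterate_succ_apply']
    refine ⟨?_, K_Fp g h2⟩
    have h3 : K g (tau g ((F g)^[n] P)) := by rw [h1]; exact h2
    rw [tau_F g _ h3, h1]

end H16399

namespace H16399
open W4c3tautjacobian MvPolynomial Groth.Agent.S16397.H16397 Groth.Agent.S16398.H16398

variable (g : ℕ)

theorem xvn_valid (p : ℕ × ℕ) (hv : Valid g p) : xvn g p = X (some ⟨p, hv⟩) :=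
  xv_of_valid g p hv

theorem xvn_of_not_valid (p : ℕ × ℕ) (hv : ¬ Valid g p) (hp : p ≠ (0, 0)) : xvn g p = 0 := by
  unfold xvn xv
  have hne : ¬ ((p.1 : ℤ) = 0 ∧ (p.2 : ℤ) = 0) := by
    rintro ⟨h1, h2⟩
    apply hp
    exact Prod.ext (by exact_mod_cast h1) (by exact_mod_cast h2)
  rw [if_neg hne, dif_neg]
  rintro ⟨-, -, h⟩
  apply hv
  simpa using h

theorem xvn_zero : xvn g (0, 0) = (g : RelRing g) := by
  unfold xvn xv
  rw [if_pos ⟨by simp, by simp⟩]

/-- the seed monomial -/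
noncomputable def M0 (i : ℕ) : RelRing g := xvn g (3, 1) ^ (2 * i)

/-- the relation -/
noncomputable def G (i : ℕ) : RelRing g := (F g)^[3 * i] (M0 g i)

theorem tau_M0 (i : ℕ) (hg : 2 ≤ g) : tau g (M0 g i) = M0 g i := by
  unfold M0
  have hv : Valid g (3, 1) := valid_a g 0 (by omega)
  rw [xvn_valid g _ hv, map_pow, tau_X_some, Even.neg_pow ⟨i, by ring⟩]

theorem coeff_G_ne_zero (i : ℕ) (hi : 1 ≤ i) (hig : i + 1 ≤ g) (hv : Valid g (0, 2 * i)) :
    coeff (Finsupp.single (some ⟨(0, 2 * i), hv⟩ : Var g) 1) (G g i) ≠ 0 := by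
  have hK : K g (tau g (M0 g i)) := by
    rw [tau_M0 g i (by omega)]
    exact K_xvn_pow g (3, 1) (by simp) _
  obtain ⟨h1, -⟩ := tau_iter g (M0 g i) hK (3 * i)
  rw [tau_M0 g i (by omega)] at h1
  obtain ⟨c, hc, hGE⟩ := chain g i hi hig
  have h2 := (hGE (Finsupp.single (some ⟨(0, 2 * i), hv⟩ : Var g) 1)).1
  rw [coeff_sub, coeff_smul, xvn_valid g _ hv, smul_eq_mul] at h2
  have h3 : coeff (Finsupp.single (some ⟨(0, 2 * i), hv⟩ : Var g) 1)
      (X (some ⟨(0, 2 * i), hv⟩ : Var g) : RelRing g) = 1 := by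
    rw [X, coeff_monomial, if_pos rfl]
  rw [h3, mul_one] at h2
  have h4 : coeff (Finsupp.single (some ⟨(0, 2 * i), hv⟩ : Var g) 1) ((Fp g)^[3 * i] (M0 g i))
      = - coeff (Finsupp.single (some ⟨(0, 2 * i), hv⟩ : Var g) 1) (G g i) := by
    unfold G
    rw [← h1, coeff_tau, Finsupp.prod_single_index (by simp)]
    simp [sgn]
  unfold M0 at h4
  rw [h4] at h2
  intro h0
  rw [h0] at h2
  linarith

theorem G_mem (i : ℕ) (hg : 2 ≤ g) (h3 : g < 3 * i) : G g i ∈ relIdeal g := by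
  unfold relIdeal
  apply Ideal.subset_span
  have hv : Valid g (3, 1) := valid_a g 0 (by omega)
  refine ⟨Finsupp.single (some ⟨(3, 1), hv⟩) (2 * i), 3 * i, ?_, ?_⟩
  · rw [Finsupp.weight_single]
    simp only [wt, Prod.smul_fst, smul_eq_mul]
    omega
  · unfold G M0
    rw [xvn_valid g _ hv, X_pow_eq_monomial]

theorem G_weight (i : ℕ) (hg : 2 ≤ g) (d : Var g →₀ ℕ) (hd : coeff d (G g i) ≠ 0) :
    Finsupp.weight (wt g) d = (0, 2 * i) := by
  have hv : Valid g (3, 1) := valid_a g 0 (by omega)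
  have hM : M0 g i = monomial (Finsupp.single (some ⟨(3, 1), hv⟩ : Var g) (2 * i)) (1 : ℚ) := by
    unfold M0
    rw [xvn_valid g _ hv, X_pow_eq_monomial]
  have hw : Finsupp.weight (wt g) (Finsupp.single (some ⟨(3, 1), hv⟩ : Var g) (2 * i))
      = (6 * i, 2 * i) := by
    rw [Finsupp.weight_single]
    simp only [wt]
    ext
    · simp; ring
    · simp
  have hm1 : IsWeightedHomogeneous (w1 g) (M0 g i) ((6 * i : ℕ) : ℤ) := by
    rw [hM]
    apply isWeightedHomogeneous_monomial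
    rw [weight_w1, hw]
  have hm2 : IsWeightedHomogeneous (w2 g) (M0 g i) ((2 * i : ℕ) : ℤ) := by
    rw [hM]
    apply isWeightedHomogeneous_monomial
    rw [weight_w2, hw]
  have e1 := iter_hom g _ _ hm1 (3 * i) hd
  have e2 := iter_hom2 g _ _ hm2 (3 * i) hd
  rw [weight_w1] at e1
  rw [weight_w2] at e2
  ext
  · simp only; push_cast at e1; omega
  · simp only; push_cast at e2; omega

theorem wt_ne_zero (v : Var g) : wt g v ≠ 0 := by
  cases v with
  | none => simp [wt]
  | some p =>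
    obtain ⟨p, hp⟩ := p
    simp only [wt]
    exact hp.2.2.2

theorem eq_zero_of_weight_eq_zero (d : Var g →₀ ℕ) (h : Finsupp.weight (wt g) d = 0) : d = 0 := by
  ext v
  rw [Finsupp.coe_zero, Pi.zero_apply]
  by_contra hv
  have := Finsupp.le_weight_of_ne_zero' (wt g) hv
  rw [h] at this
  exact wt_ne_zero g v (le_antisymm this zero_le)

end H16399

namespace H16399
open W4c3tautjacobian MvPolynomial Groth.Agent.S16397.H16397 Groth.Agent.S16398.H16398

variable (g : ℕ)

/-- the quotient map -/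
noncomputable def mkQ : RelRing g →ₐ[ℚ] (RelRing g ⧸ relIdeal g) := Ideal.Quotient.mkₐ ℚ (relIdeal g)

/-- image of the low subalgebra -/
noncomputable def A' : Subalgebra ℚ (RelRing g ⧸ relIdeal g) :=
  (Algebra.adjoin ℚ (lowGens g)).map (mkQ g)

theorem mem_A'_of_mem {x : RelRing g} (hx : x ∈ lowGens g) : mkQ g x ∈ A' g :=
  ⟨x, Algebra.subset_adjoin hx, rfl⟩

theorem y_mem : mkQ g (X none) ∈ A' g :=
  mem_A'_of_mem g (Or.inl rfl)

theorem xvn_cast (i : ℕ) : xvn g (0, 2 * i) = xv g 0 (2 * (i : ℤ)) := by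
  unfold xvn
  congr 1

theorem low_mem (i : ℕ) (hi : 1 ≤ i) (h3 : 3 * i ≤ g) : mkQ g (xvn g (0, 2 * i)) ∈ A' g := by
  apply mem_A'_of_mem
  right
  exact ⟨i, hi, h3, xvn_cast g i⟩

theorem monomial_mem (d : Var g →₀ ℕ) (h : ∀ v ∈ d.support, mkQ g (X v) ∈ A' g) :
    mkQ g (monomial d 1) ∈ A' g := by
  rw [monomial_eq, map_mul, map_finsuppProd]
  have : mkQ g (C 1) = 1 := by simp
  rw [this, one_mul]
  unfold Finsupp.prod
  apply Subalgebra.prod_mem
  intro v hv
  show mkQ g (X v ^ d v) ∈ A' g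
  rw [map_pow]
  exact Subalgebra.pow_mem _ (h v hv) _

theorem step (hg : 1 ≤ g) (i : ℕ) (IH : ∀ j < i, mkQ g (xvn g (0, 2 * j)) ∈ A' g) :
    mkQ g (xvn g (0, 2 * i)) ∈ A' g := by
  classical
  rcases Nat.eq_zero_or_pos i with rfl | hi
  · rw [Nat.mul_zero, xvn_zero, map_natCast]
    exact natCast_mem _ _
  by_cases hv : Valid g (0, 2 * i)
  swap
  · rw [xvn_of_not_valid g _ hv (by intro h; have := congrArg Prod.snd h; simp at this; omega),
      map_zero]
    exact zero_mem _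
  have hig : i + 1 ≤ g := by
    have := hv.2.1
    simp only at this
    omega
  by_cases h3 : 3 * i ≤ g
  · exact low_mem g i hi h3
  have hg2 : 2 ≤ g := by omega
  set v₀ : Var g := some ⟨(0, 2 * i), hv⟩ with hv₀
  set d₀ : Var g →₀ ℕ := Finsupp.single v₀ 1 with hd₀
  have hℓ := coeff_G_ne_zero g i hi hig hv
  have hmem := G_mem g i hg2 (by omega)
  have hzero : mkQ g (G g i) = 0 := by
    unfold mkQ
    rw [Ideal.Quotient.mkₐ_eq_mk]
    exact Ideal.Quotient.eq_zero_iff_mem.2 hmem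
  -- the other monomials
  have hother : ∀ d ∈ (G g i).support, d ≠ d₀ → mkQ g (monomial d 1) ∈ A' g := by
    intro d hd hne
    have hw := G_weight g i hg2 d (mem_support_iff.1 hd)
    apply monomial_mem
    intro v hvd
    have hvd' : d v ≠ 0 := Finsupp.mem_support_iff.1 hvd
    have hle := Finsupp.le_weight_of_ne_zero' (wt g) hvd'
    rw [hw] at hle
    have hle1 : (wt g v).1 ≤ 0 := hle.1
    have hle2 : (wt g v).2 ≤ 2 * i := hle.2
    cases v with
    | none => exact y_mem g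
    | some p =>
      obtain ⟨⟨a, b⟩, hp⟩ := p
      simp only [wt] at hle1 hle2
      have ha : a = 0 := by omega
      subst ha
      obtain ⟨j, hj⟩ : ∃ j, b = 2 * j := by
        have := hp.2.2.1
        simp only [zero_add] at this
        obtain ⟨j, hj⟩ := this
        exact ⟨j, by omega⟩
      subst hj
      rcases Nat.lt_or_ge j i with hji | hji
      · have := IH j hji
        rwa [xvn_valid g _ hp] at this
      · exfalso
        have hji' : j = i := by omega
        subst hji'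
        apply hne
        have hdv : d v₀ ≠ 0 := hvd'
        have h1 := Finsupp.weight_sub_single_add (w := wt g) hdv
        rw [hw] at h1
        have h2 : Finsupp.weight (wt g) (d - Finsupp.single v₀ 1) = 0 := by
          have : wt g v₀ = (0, 2 * j) := rfl
          rw [this] at h1
          exact add_eq_right.1 h1
        have h3 := eq_zero_of_weight_eq_zero g _ h2
        have h4 := Finsupp.sub_add_single_one_cancel hdv
        rw [h3, zero_add] at h4
        exact h4.symm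
  -- split the sum
  have hd₀mem : d₀ ∈ (G g i).support := mem_support_iff.2 hℓ
  have hsum : G g i = ∑ d ∈ (G g i).support, coeff d (G g i) • monomial d (1 : ℚ) := by
    conv_lhs => rw [(G g i).as_sum]
    refine Finset.sum_congr rfl (fun d _ => ?_)
    rw [smul_monomial, smul_eq_mul, mul_one]
  rw [hsum, map_sum, ← Finset.add_sum_erase _ _ hd₀mem] at hzero
  have hT : ∑ d ∈ (G g i).support.erase d₀, mkQ g (coeff d (G g i) • monomial d (1 : ℚ)) ∈ A' g := by
    apply Subalgebra.sum_mem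
    intro d hd
    rw [map_smul]
    exact Subalgebra.smul_mem _ (hother d (Finset.mem_of_mem_erase hd) (Finset.ne_of_mem_erase hd)) _
  have h5 : mkQ g (coeff d₀ (G g i) • monomial d₀ (1 : ℚ)) ∈ A' g := by
    rw [eq_neg_of_add_eq_zero_left hzero]
    exact neg_mem hT
  rw [map_smul] at h5
  have h6 := Subalgebra.smul_mem _ h5 (coeff d₀ (G g i))⁻¹
  rw [smul_smul, inv_mul_cancel₀ hℓ, one_smul] at h6
  rw [xvn_valid g _ hv]
  exact h6

theorem all_mem (hg : 1 ≤ g) (i : ℕ) : mkQ g (xvn g (0, 2 * i)) ∈ A' g := by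
  induction i using Nat.strong_induction_on with
  | _ i ih => exact step g hg i ih

theorem main (hg : 1 ≤ g) (i : ℕ) :
    ∃ q ∈ Algebra.adjoin ℚ (lowGens g), xv g 0 (2 * (i : ℤ)) - q ∈ relIdeal g := by
  obtain ⟨q, hq, hqe⟩ := all_mem g hg i
  refine ⟨q, hq, ?_⟩
  rw [← xvn_cast]
  have : mkQ g (xvn g (0, 2 * i)) = mkQ g q := hqe.symm
  unfold mkQ at this
  rw [Ideal.Quotient.mkₐ_eq_mk] at this
  exact Ideal.Quotient.eq.1 this

end H16399

/-- In the formal relation ring of genus g ≥ 1, every symbol x 0 (2i) is congruent modulo the relation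
ideal to a polynomial in y and the symbols x 0 (2j) with 1 ≤ j and 3j ≤ g; so these low symbols
together with y generate the first-degree-0 part modulo the relations. -/
theorem result
    (g : ℕ) (hg : 1 ≤ g) (i : ℕ) :
    ∃ q ∈ Algebra.adjoin ℚ (W4c3tautjacobian.lowGens g),
      W4c3tautjacobian.xv g 0 (2 * (i : ℤ)) - q ∈ W4c3tautjacobian.relIdeal g := by
  exact H16399.main g hg i

end Groth.Agent.S16399
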