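import Groth.Statements.S16400
import Mathlib

set_option autoImplicit false
universe u v
open CAlgX

namespace Groth.Agent.S16400

section


variable {K : Type u} [Field K] {N : Type v} [Fintype N] [DecidableEq N]

/-- extension by zero from a subtype -/
noncomputable def incl (p : N → Prop) [Fintype {x // p x}] : ({x // p x} → K) →ₗ[K] (N → K) :=
  Fintype.linearCombination K (fun j : {x // p x} => (Pi.single (j : N) (1 : K) : N → K))

theorem incl_apply (p : N → Prop) [Fintype {x // p x}] (x : {x // p x} → K) :
    incl p x = ∑ j, x j • (Pi.single (j : N) (1 : K) : N → K) := by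
  simp [incl, Fintype.linearCombination_apply]

/-- basis extraction for a spanning finite family -/
theorem exists_sub_basis {W : Type*} [AddCommGroup W] [Module K W] (v : N → W)
    (hv : Submodule.span K (Set.range v) = ⊤) :
    ∃ S : Finset N, LinearIndependent K (fun j : {x // x ∈ S} => v j) ∧
      Submodule.span K (Set.range (fun j : {x // x ∈ S} => v j)) = ⊤ := by
  classical
  obtain ⟨b, -, -, hb2, hb3⟩ := exists_linearIndepOn_extension (K := K) (v := v)
    (s := ∅) (t := Set.univ) (by simp [LinearIndepOn]) (Set.empty_subset _)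
  refine ⟨b.toFinset, ?_, ?_⟩
  · have : LinearIndependent K (fun j : b => v j) := hb3
    exact this.comp (fun j : {x // x ∈ b.toFinset} => (⟨j.1, Set.mem_toFinset.1 j.2⟩ : b))
      (fun a c h => Subtype.ext (by simpa using congrArg Subtype.val h))
  · rw [eq_top_iff, ← hv, Submodule.span_le]
    rintro _ ⟨i, rfl⟩
    have h1 : v i ∈ Submodule.span K (v '' b) := hb2 ⟨i, trivial, rfl⟩
    refine Submodule.span_mono ?_ h1
    rintro _ ⟨j, hj, rfl⟩
    exact ⟨⟨j, Set.mem_toFinset.2 hj⟩, rfl⟩

theorem span_single : Submodule.span K (Set.range fun i : N => (Pi.single i (1 : K) : N → K)) = ⊤ := by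
  have := (Pi.basisFun K N).span_eq
  rw [← this]
  congr 1
  ext x
  simp [Pi.basisFun_apply]

theorem exists_bij {W : Type*} [AddCommGroup W] [Module K W] (h : (N → K) →ₗ[K] W)
    (hs : Function.Surjective h) :
    ∃ S : Finset N, ∀ [Fintype {x // x ∈ S}],
      Function.Bijective (h ∘ₗ incl (K := K) (fun x => x ∈ S)) := by
  classical
  have hv : Submodule.span K (Set.range fun i : N => h (Pi.single i (1 : K))) = ⊤ := by
    have h1 : (Set.range fun i : N => h (Pi.single i (1 : K)))
        = h '' (Set.range fun i : N => (Pi.single i (1 : K) : N → K)) := by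
      ext w; simp
    rw [h1, ← Submodule.map_span, span_single, Submodule.map_top, LinearMap.range_eq_top]
    exact hs
  obtain ⟨S, hli, hsp⟩ := exists_sub_basis (fun i : N => h (Pi.single i (1 : K))) hv
  refine ⟨S, ?_⟩
  intro inst
  let B := Module.Basis.mk hli (by rw [hsp])
  have heq : ∀ x, (h ∘ₗ incl (K := K) (fun x => x ∈ S)) x = B.equivFun.symm x := by
    intro x
    rw [LinearMap.comp_apply, incl_apply, map_sum, Module.Basis.equivFun_symm_apply]
    refine Finset.sum_congr rfl (fun j _ => ?_)
    rw [map_smul, Module.Basis.mk_apply]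
  have : ⇑(h ∘ₗ incl (K := K) (fun x => x ∈ S)) = ⇑B.equivFun.symm := funext heq
  rw [this]
  exact B.equivFun.symm.bijective

theorem block_eq (A : Matrix N N K) {ρ : Type*} (r : ρ → N) (p : N → Prop) [Fintype {x // p x}]
    (x : {x // p x} → K) :
    (A.submatrix r (Subtype.val : {x // p x} → N)).mulVecLin x
      = (LinearMap.funLeft K K r) (A.mulVecLin (incl p x)) := by
  ext i
  rw [LinearMap.funLeft_apply, incl_apply, map_sum, Finset.sum_apply, Matrix.mulVecLin_apply,
    Matrix.mulVec, dotProduct]
  refine Finset.sum_congr rfl (fun j _ => ?_)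
  rw [map_smul, Matrix.mulVecLin_apply, Matrix.mulVec_single_one, Pi.smul_apply, smul_eq_mul,
    Matrix.submatrix_apply, Matrix.col_apply, mul_comm]

theorem main {K : Type u} [Field K] {N : Type v} [Fintype N] [DecidableEq N]
    (A : Matrix N N K)
    (hA : LinearMap.ker A.mulVecLin = LinearMap.range A.mulVecLin) :
    ∃ N₁₂ N₂₁ N₃₁ : Finset N,
      Function.Bijective (A.submatrix (Subtype.val : ↥N₃₁ → N) (Subtype.val : ↥N₂₁ → N)).mulVecLin ∧
      Function.Bijective
        (A.submatrix (Subtype.val : {x : N // x ∉ N₂₁} → N) (Subtype.val : ↥N₁₂ → N)).mulVecLin := by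
  classical
  obtain ⟨f, hf⟩ : ∃ f : (N → K) →ₗ[K] (N → K), f = A.mulVecLin := ⟨_, rfl⟩
  rw [← hf] at hA
  -- (a)
  obtain ⟨C, hC⟩ := exists_bij f.rangeRestrict f.surjective_rangeRestrict
  have hCb := @hC (Finset.Subtype.fintype C)
  obtain ⟨g, hg⟩ : ∃ g : ({x // x ∈ C} → K) →ₗ[K] (N → K),
      g = f ∘ₗ incl (K := K) (fun x => x ∈ C) := ⟨_, rfl⟩
  have hgr : ∀ x, (((f.rangeRestrict ∘ₗ incl (K := K) (fun x => x ∈ C)) x : LinearMap.range f) : N → K)
      = g x := by
    intro x; rw [hg]; rfl
  have hginj : Function.Injective g := by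
    intro x y hxy
    apply hCb.1
    apply Subtype.ext
    rw [hgr, hgr, hxy]
  have hgrange : ∀ y, y ∈ LinearMap.range f → ∃ x, g x = y := by
    intro y hy
    obtain ⟨x, hx⟩ := hCb.2 ⟨y, hy⟩
    refine ⟨x, ?_⟩
    rw [← hgr, hx]
  have hrank : Module.finrank K (LinearMap.range f) = C.card := by
    have e := LinearEquiv.ofBijective _ hCb
    rw [← e.finrank_eq, Module.finrank_fintype_fun_eq_card, Fintype.card_coe]
  have hN : Fintype.card N = 2 * C.card := by
    have := LinearMap.finrank_range_add_finrank_ker f
    rw [hA, hrank, Module.finrank_fintype_fun_eq_card] at this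
    omega
  -- (c)
  have hsupp : ∀ y : N → K, (∀ i, i ∉ C → y i = 0) →
      y = incl (K := K) (fun x => x ∈ C) (fun j => y j) := by
    intro y hy
    rw [incl_apply]
    ext i
    rw [Finset.sum_apply]
    by_cases hi : i ∈ C
    · rw [Finset.sum_eq_single (⟨i, hi⟩ : {x // x ∈ C})]
      · simp
      · intro j _ hj
        have : (j : N) ≠ i := fun h => hj (Subtype.ext h)
        simp [Pi.single_apply, this.symm]
      · intro h; exact absurd (Finset.mem_univ _) h
    · rw [hy i hi]
      symm
      refine Finset.sum_eq_zero (fun j _ => ?_)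
      have : (j : N) ≠ i := fun h => hi (h ▸ j.2)
      simp [Pi.single_apply, this.symm]
  let ψ : LinearMap.range f →ₗ[K] ({x : N // x ∉ C} → K) :=
    (LinearMap.funLeft K K (Subtype.val : {x : N // x ∉ C} → N)) ∘ₗ (LinearMap.range f).subtype
  have hψinj : Function.Injective ψ := by
    rw [injective_iff_map_eq_zero]
    rintro ⟨y, hy⟩ h0
    apply Subtype.ext
    show y = 0
    have hy0 : ∀ i, i ∉ C → y i = 0 := fun i hi => congrFun h0 ⟨i, hi⟩
    have h1 := hsupp y hy0
    have h2 : f y = 0 := by
      have : y ∈ LinearMap.ker f := hA ▸ hy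
      exact this
    have h3 : g (fun j => y j) = 0 := by
      rw [hg, LinearMap.comp_apply, ← h1, h2]
    have h4 : (fun j : {x // x ∈ C} => y j) = 0 := hginj (h3.trans (map_zero g).symm)
    rw [h1, h4, map_zero]
  have hcardD : Fintype.card {x : N // x ∉ C} = C.card := by
    rw [Fintype.card_subtype_compl, hN, Fintype.card_coe]; omega
  have hψsurj : Function.Surjective ψ := by
    refine (LinearMap.injective_iff_surjective_of_finrank_eq_finrank ?_).1 hψinj
    rw [hrank, Module.finrank_fintype_fun_eq_card, hcardD]
  have h3surj : Function.Surjective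
      ((LinearMap.funLeft K K (Subtype.val : {x : N // x ∉ C} → N)) ∘ₗ f) := by
    intro z
    obtain ⟨⟨y, w, rfl⟩, hy⟩ := hψsurj z
    exact ⟨w, hy⟩
  obtain ⟨N12, hN12⟩ := exists_bij _ h3surj
  -- (b)
  let r : N → Module.Dual K ({x // x ∈ C} → K) := fun i => (LinearMap.proj i : (N → K) →ₗ[K] K) ∘ₗ g
  have hrspan : Submodule.span K (Set.range r) = ⊤ := by
    rw [eq_top_iff]
    intro φ _
    obtain ⟨g', hg'⟩ := LinearMap.exists_leftInverse_of_injective g (LinearMap.ker_eq_bot.2 hginj)
    have h1 : φ = ∑ i, (φ (g' (Pi.single i (1 : K)))) • r i := by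
      apply LinearMap.ext
      intro x
      have hx : x = g' (g x) := by
        have := LinearMap.congr_fun hg' x
        simpa using this.symm
      have hgx : g x = ∑ i, (g x i) • (Pi.single i (1 : K) : N → K) := by
        ext j
        simp [Finset.sum_apply, Pi.single_apply]
      conv_lhs => rw [hx, hgx, map_sum, map_sum]
      rw [LinearMap.sum_apply]
      refine Finset.sum_congr rfl (fun i _ => ?_)
      rw [map_smul, map_smul, LinearMap.smul_apply, smul_eq_mul, smul_eq_mul, mul_comm]
      rfl
    rw [h1]
    exact Submodule.sum_mem _ (fun i _ => Submodule.smul_mem _ _ (Submodule.subset_span ⟨i, rfl⟩))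
  obtain ⟨R, hRli, hRsp⟩ := exists_sub_basis r hrspan
  have hcardR : R.card = C.card := by
    have h1 := finrank_span_eq_card hRli
    rw [hRsp, finrank_top, Subspace.dual_finrank_eq, Module.finrank_fintype_fun_eq_card,
      Fintype.card_coe, Fintype.card_coe] at h1
    exact h1.symm
  have hΦinj : Function.Injective
      ((LinearMap.funLeft K K (Subtype.val : {x // x ∈ R} → N)) ∘ₗ g) := by
    rw [injective_iff_map_eq_zero]
    intro x hx
    rw [← Module.forall_dual_apply_eq_zero_iff K x]
    intro φ
    have hφ : φ ∈ Submodule.span K (Set.range fun j : {x // x ∈ R} => r j) := by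
      rw [hRsp]; trivial
    induction hφ using Submodule.span_induction with
    | mem ψ hψ =>
      obtain ⟨j, rfl⟩ := hψ
      exact congrFun hx j
    | zero => rfl
    | add a b _ _ ha hb => rw [LinearMap.add_apply, ha, hb, add_zero]
    | smul c a _ ha => rw [LinearMap.smul_apply, ha, smul_zero]
  have hΦbij : Function.Bijective
      ((LinearMap.funLeft K K (Subtype.val : {x // x ∈ R} → N)) ∘ₗ g) := by
    refine ⟨hΦinj, (LinearMap.injective_iff_surjective_of_finrank_eq_finrank ?_).1 hΦinj⟩
    rw [Module.finrank_fintype_fun_eq_card, Module.finrank_fintype_fun_eq_card, Fintype.card_coe,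
      Fintype.card_coe, hcardR]
  refine ⟨N12, C, R, ?_, ?_⟩
  · have : ⇑(A.submatrix (Subtype.val : {x // x ∈ R} → N) (Subtype.val : {x // x ∈ C} → N)).mulVecLin
        = ⇑((LinearMap.funLeft K K (Subtype.val : {x // x ∈ R} → N)) ∘ₗ g) := by
      funext x
      rw [block_eq, hg, ← hf]; rfl
    rw [this]
    exact hΦbij
  · have : ⇑(A.submatrix (Subtype.val : {x : N // x ∉ C} → N) (Subtype.val : {x // x ∈ N12} → N)).mulVecLin
        = ⇑(((LinearMap.funLeft K K (Subtype.val : {x : N // x ∉ C} → N)) ∘ₗ f) ∘ₗ
            incl (K := K) (fun x => x ∈ N12)) := by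
      funext x
      rw [block_eq, ← hf]; rfl
    rw [this]
    exact hN12


end


/-- Let K be a field, N a finite index set and A a square matrix over K indexed by N whose linear map on
column vectors has kernel equal to its range (so A composed with A is zero and the three-term
sequence it defines is exact in the middle). Then there are subsets N₁₂, N₂₁, N₃₁ of N such that the
block of A with rows in N₃₁ and columns in N₂₁, and the block of A with rows outside N₂₁ and columns
in N₁₂, both act bijectively on column vectors. (In the original setting K is the prime field and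
middle exactness is supplied by the Cartier isomorphism; here exactness is the hypothesis and K is
any field.) -/
theorem result
    {K : Type u} [Field K] {N : Type v} [Fintype N] [DecidableEq N]
    (A : Matrix N N K)
    (hA : LinearMap.ker A.mulVecLin = LinearMap.range A.mulVecLin) :
    ∃ N₁₂ N₂₁ N₃₁ : Finset N,
      Function.Bijective (A.submatrix (Subtype.val : ↥N₃₁ → N) (Subtype.val : ↥N₂₁ → N)).mulVecLin ∧
      Function.Bijective
        (A.submatrix (Subtype.val : {x : N // x ∉ N₂₁} → N) (Subtype.val : ↥N₁₂ → N)).mulVecLin := by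
  classical
  exact main A hA

end Groth.Agent.S16400
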