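import Groth.Statements.S16401
import Mathlib

set_option autoImplicit false
universe u v
open CAlgX

namespace Groth.Agent.S16401

section


variable {R : Type u} [CommRing R] {ι : Type v} [AddCommGroup ι]

theorem prod_mem (E : ι → AddSubgroup R) (h0 : E 0 = ⊤)
    (hmul : ∀ a b : ι, ∀ x ∈ E a, ∀ y ∈ E b, x * y ∈ E (a + b))
    {κ : Type} [DecidableEq κ] (s : Finset κ) (x : κ → R) (d : κ → ι) (hx : ∀ k ∈ s, x k ∈ E (d k)) :
    ∏ k ∈ s, x k ∈ E (∑ k ∈ s, d k) := by
  induction s using Finset.induction_on with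
  | empty =>
    rw [Finset.prod_empty, Finset.sum_empty, h0]
    exact AddSubgroup.mem_top _
  | insert a s ha ih =>
    rw [Finset.prod_insert ha, Finset.sum_insert ha]
    exact hmul _ _ _ (hx a (Finset.mem_insert_self a s)) _
      (ih (fun k hk => hx k (Finset.mem_insert_of_mem hk)))

theorem det_mem (E : ι → AddSubgroup R) (h0 : E 0 = ⊤)
    (hmul : ∀ a b : ι, ∀ x ∈ E a, ∀ y ∈ E b, x * y ∈ E (a + b))
    {r : ℕ} (wβ wγ : Fin r → ι) (A : Matrix (Fin r) (Fin r) R)
    (hA : ∀ i j, A i j ∈ E (wγ i - wβ j)) :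
    A.det ∈ E (∑ i, wγ i - ∑ j, wβ j) := by
  rw [Matrix.det_apply]
  apply AddSubgroup.sum_mem
  intro σ _
  have h1 : ∏ i, A (σ i) i ∈ E (∑ i, (wγ (σ i) - wβ i)) :=
    prod_mem E h0 hmul Finset.univ (fun i => A (σ i) i) (fun i => wγ (σ i) - wβ i)
      (fun i _ => hA (σ i) i)
  have h2 : ∑ i, (wγ (σ i) - wβ i) = ∑ i, wγ i - ∑ j, wβ j := by
    rw [Finset.sum_sub_distrib, Equiv.sum_comp σ wγ]
  rw [h2] at h1
  rcases Int.units_eq_one_or (Equiv.Perm.sign σ) with hs | hs
  · rw [hs, one_smul]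
    exact h1
  · rw [hs, Units.neg_smul, one_smul]
    exact AddSubgroup.neg_mem _ h1

theorem main
    (E : ι → AddSubgroup R) (h0 : E 0 = ⊤)
    (hmul : ∀ a b : ι, ∀ x ∈ E a, ∀ y ∈ E b, x * y ∈ E (a + b))
    {r : ℕ} (wβ wγ : Fin r → ι) (hsum : ∑ j, wβ j = ∑ i, wγ i)
    (ϑ : Matrix (Fin r) (Fin r) R) (hϑ : ∀ i j, ϑ i j ∈ E (wγ i - wβ j))
    (hdet : IsUnit ϑ.det) (u : Fin r → R) :
    (∀ j, u j ∈ E (wβ j)) ↔ ∀ i, ϑ.mulVec u i ∈ E (wγ i) := by
  constructor
  · intro hu i
    rw [Matrix.mulVec, dotProduct]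
    apply AddSubgroup.sum_mem
    intro j _
    have := hmul _ _ _ (hϑ i j) _ (hu j)
    rwa [sub_add_cancel] at this
  · intro hv j
    -- Cramer
    have hcr : ϑ.det * u j = (ϑ.updateCol j (ϑ.mulVec u)).det := by
      have h1 : Matrix.cramer ϑ (ϑ.mulVec u) = ϑ.det • u := by
        rw [Matrix.cramer_eq_adjugate_mulVec, Matrix.mulVec_mulVec, Matrix.adjugate_mul,
          Matrix.smul_mulVec, Matrix.one_mulVec]
      have h2 := congrFun h1 j
      rw [Matrix.cramer_apply] at h2
      rw [h2]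
      rfl
    let wβ' : Fin r → ι := Function.update wβ j 0
    have hA : ∀ i k, (ϑ.updateCol j (ϑ.mulVec u)) i k ∈ E (wγ i - wβ' k) := by
      intro i k
      rw [Matrix.updateCol_apply]
      by_cases hk : k = j
      · rw [if_pos hk]
        have : wβ' k = 0 := by
          show Function.update wβ j 0 k = 0
          rw [hk, Function.update_self]
        rw [this, sub_zero]
        exact hv i
      · rw [if_neg hk]
        have : wβ' k = wβ k := by
          show Function.update wβ j 0 k = wβ k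
          rw [Function.update_of_ne hk]
        rw [this]
        exact hϑ i k
    have hd := det_mem E h0 hmul wβ' wγ _ hA
    have hsum' : ∑ k, wβ' k + wβ j = ∑ k, wβ k := by
      have e1 : ∑ k, wβ' k = ∑ k ∈ Finset.univ.erase j, wβ' k + wβ' j := by
        rw [Finset.sum_erase_add _ _ (Finset.mem_univ j)]
      have e2 : ∑ k, wβ k = ∑ k ∈ Finset.univ.erase j, wβ k + wβ j := by
        rw [Finset.sum_erase_add _ _ (Finset.mem_univ j)]
      have e3 : ∑ k ∈ Finset.univ.erase j, wβ' k = ∑ k ∈ Finset.univ.erase j, wβ k := by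
        apply Finset.sum_congr rfl
        intro k hk
        show Function.update wβ j 0 k = wβ k
        rw [Function.update_of_ne (Finset.ne_of_mem_erase hk)]
      have e4 : wβ' j = 0 := by
        show Function.update wβ j 0 j = 0
        rw [Function.update_self]
      rw [e1, e2, e3, e4, add_zero]
    have hidx : ∑ i, wγ i - ∑ k, wβ' k = wβ j := by
      rw [← hsum, ← hsum']
      abel
    rw [hidx, ← hcr] at hd
    obtain ⟨w, hw⟩ := hdet
    have h3 : u j = (↑w⁻¹ : R) * (ϑ.det * u j) := by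
      rw [← mul_assoc, ← hw, Units.inv_mul, one_mul]
    rw [h3]
    have h4 : (↑w⁻¹ : R) ∈ E 0 := by
      rw [h0]
      exact AddSubgroup.mem_top _
    have := hmul _ _ _ h4 _ hd
    rwa [zero_add] at this


end


/-- Let R be a commutative ring and (E_a), a ∈ ι, a family of additive subgroups of R indexed by an
additive commutative group ι, with E_0 = R and E_a · E_b ⊆ E_{a+b}. Let β, γ : Fin r → ι be weight
vectors with Σ_j β_j = Σ_i γ_i, and let ϑ be an r × r matrix over R with ϑ_{ij} ∈ E_{γ_i − β_j} for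
all i, j and with unit determinant. Then a column vector u satisfies u_j ∈ E_{β_j} for every j if
and only if (ϑ u)_i ∈ E_{γ_i} for every i; since ϑ is invertible this says that ϑ maps the box Π_j
E_{β_j} bijectively onto the box Π_i E_{γ_i}. -/
theorem result
    {R : Type u} [CommRing R] {ι : Type v} [AddCommGroup ι]
    (E : ι → AddSubgroup R) (h0 : E 0 = ⊤)
    (hmul : ∀ a b : ι, ∀ x ∈ E a, ∀ y ∈ E b, x * y ∈ E (a + b))
    {r : ℕ} (wβ wγ : Fin r → ι) (hsum : ∑ j, wβ j = ∑ i, wγ i)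
    (ϑ : Matrix (Fin r) (Fin r) R) (hϑ : ∀ i j, ϑ i j ∈ E (wγ i - wβ j))
    (hdet : IsUnit ϑ.det) (u : Fin r → R) :
    (∀ j, u j ∈ E (wβ j)) ↔ ∀ i, ϑ.mulVec u i ∈ E (wγ i) := by
  classical
  exact main E h0 hmul wβ wγ hsum ϑ hϑ hdet u

end Groth.Agent.S16401
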