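import Groth.Statements.S16405

set_option autoImplicit false
universe u v
open InvQ

namespace Groth.Agent.S16405

/-- In weight form. Let b : L → ℤ^r be an injective homomorphism of abelian groups (the case in view: L
the character group of a maximal torus T of a semisimple group over ℂ and b the map dual to the
surjection of the rank-r split torus T' onto T that sends the i-th coordinate cocharacter to the
primitive generator of the i-th ray of the Weyl chamber; only the injectivity of b is used, and ℂ is
replaced by any commutative ring k). Grade the monoid algebra k[L × ℕ^r] (the coordinate ring of T ×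
𝔸^r) by ℤ^r, the monomial (w, n) having weight b(w) + n (the weights of the T'-action u·(t, v) =
(b^∨(u) t, u v)), and grade k[ℕ^r] by ℤ^r/b(L), the monomial n having weight the class of n (the
weights of the action on 𝔸^r of the diagonalizable kernel Z of T' → T, a finite group in the case in
view). For a diagonalizable group acting on an affine scheme the ring of invariants is the
weight-zero part, so the two weight-zero parts are the coordinate rings of the quotients (T ×
𝔸^r)//T' and 𝔸^r//Z. The statement: the algebra map k[L × ℕ^r] → k[ℕ^r] induced by the projection L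
× ℕ^r → ℕ^r (restriction to the slice 1 × 𝔸^r) maps the weight-zero part of k[L × ℕ^r] bijectively
onto the weight-zero part of k[ℕ^r]; hence it induces an isomorphism of k-algebras between them. -/
theorem result
    (k : Type u) [CommRing k] (r : ℕ) (L : Type v) [AddCommGroup L]
    (b : L →+ (Fin r → ℤ)) (hb : Function.Injective b) :
    Set.BijOn
      (AddMonoidAlgebra.mapDomainAlgHom k k (AddMonoidHom.snd L (Fin r → ℕ)))
      (AddMonoidAlgebra.gradeBy k
        (b.comp (AddMonoidHom.fst L (Fin r → ℕ)) +
          (AddMonoidHom.compLeft (Nat.castAddMonoidHom ℤ) (Fin r)).comp (AddMonoidHom.snd L (Fin r → ℕ))) 0 :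
        Set (AddMonoidAlgebra k (L × (Fin r → ℕ))))
      (AddMonoidAlgebra.gradeBy k
        ((QuotientAddGroup.mk' b.range).comp (AddMonoidHom.compLeft (Nat.castAddMonoidHom ℤ) (Fin r))) 0 :
        Set (AddMonoidAlgebra k (Fin r → ℕ))) := by
  classical
  have hcoeff : ∀ x : AddMonoidAlgebra k (L × (Fin r → ℕ)),
      (AddMonoidAlgebra.mapDomainAlgHom k k (AddMonoidHom.snd L (Fin r → ℕ)) x).coeff =
        Finsupp.mapDomain (Prod.snd : L × (Fin r → ℕ) → (Fin r → ℕ)) x.coeff := fun x => rfl
  -- the grading functions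
  set g₁ : L × (Fin r → ℕ) →+ (Fin r → ℤ) :=
    b.comp (AddMonoidHom.fst L (Fin r → ℕ)) +
      (AddMonoidHom.compLeft (Nat.castAddMonoidHom ℤ) (Fin r)).comp
        (AddMonoidHom.snd L (Fin r → ℕ)) with hg₁
  set g₂ : (Fin r → ℕ) →+ (Fin r → ℤ) ⧸ b.range :=
    (QuotientAddGroup.mk' b.range).comp (AddMonoidHom.compLeft (Nat.castAddMonoidHom ℤ) (Fin r))
    with hg₂
  set c : (Fin r → ℕ) →+ (Fin r → ℤ) := AddMonoidHom.compLeft (Nat.castAddMonoidHom ℤ) (Fin r)
    with hc
  have hg₁_apply : ∀ w n, g₁ (w, n) = b w + c n := fun w n => rfl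
  have hg₂_apply : ∀ n, g₂ n = QuotientAddGroup.mk' b.range (c n) := fun n => rfl
  have hg₂_zero : ∀ n, g₂ n = 0 ↔ ∃ w, b w = - c n := by
    intro n
    rw [hg₂_apply, QuotientAddGroup.mk'_apply, QuotientAddGroup.eq_zero_iff]
    constructor
    · rintro ⟨w, hw⟩
      exact ⟨-w, by rw [map_neg, hw]⟩
    · rintro ⟨w, hw⟩
      exact ⟨-w, by rw [map_neg, hw, neg_neg]⟩
  refine ⟨?_, ?_, ?_⟩
  · -- MapsTo
    intro x hx
    rw [SetLike.mem_coe, AddMonoidAlgebra.mem_gradeBy_iff] at hx ⊢
    intro n hn
    rw [hcoeff] at hn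
    have := Finsupp.mapDomain_support hn
    rw [Finset.mem_image] at this
    obtain ⟨⟨w, n'⟩, hwn, rfl⟩ := this
    have h0 := hx hwn
    simp only [Set.mem_preimage, Set.mem_singleton_iff] at h0 ⊢
    rw [hg₁_apply] at h0
    rw [hg₂_zero]
    exact ⟨w, eq_neg_of_add_eq_zero_left h0⟩
  · -- InjOn
    intro x hx y hy hxy
    rw [SetLike.mem_coe, AddMonoidAlgebra.mem_gradeBy_iff] at hx hy
    have hinj : Set.InjOn (Prod.snd : L × (Fin r → ℕ) → (Fin r → ℕ)) (g₁ ⁻¹' {0}) := by
      rintro ⟨w, n⟩ h1 ⟨w', n'⟩ h2 h
      simp only [Set.mem_preimage, Set.mem_singleton_iff] at h1 h2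
      rw [hg₁_apply] at h1 h2
      have hn : n = n' := h
      subst hn
      have : b w = b w' := by
        rw [eq_neg_of_add_eq_zero_left h1, eq_neg_of_add_eq_zero_left h2]
      rw [hb this]
    have := Finsupp.mapDomain_injOn (M := k) _ hinj (x₁ := x.coeff) hx (x₂ := y.coeff) hy
      (by rw [← hcoeff, ← hcoeff, hxy])
    exact AddMonoidAlgebra.coeff_injective this
  · -- SurjOn
    intro y hy
    rw [SetLike.mem_coe, AddMonoidAlgebra.mem_gradeBy_iff] at hy
    let s : (Fin r → ℕ) → L × (Fin r → ℕ) := fun n =>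
      (if h : ∃ w, b w = - c n then h.choose else 0, n)
    refine ⟨AddMonoidAlgebra.ofCoeff (Finsupp.mapDomain s y.coeff), ?_, ?_⟩
    · rw [SetLike.mem_coe, AddMonoidAlgebra.mem_gradeBy_iff]
      intro z hz
      have := Finsupp.mapDomain_support hz
      rw [Finset.mem_image] at this
      obtain ⟨n, hn, rfl⟩ := this
      have h0 := hy hn
      simp only [Set.mem_preimage, Set.mem_singleton_iff] at h0 ⊢
      rw [hg₂_zero] at h0
      show g₁ (if h : ∃ w, b w = - c n then h.choose else 0, n) = 0
      rw [hg₁_apply, dif_pos h0, h0.choose_spec, neg_add_cancel]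
    · apply AddMonoidAlgebra.coeff_injective
      rw [hcoeff]
      show Finsupp.mapDomain Prod.snd (Finsupp.mapDomain s y.coeff) = y.coeff
      rw [← Finsupp.mapDomain_comp]
      have : (Prod.snd ∘ s) = id := by
        funext n; rfl
      rw [this, Finsupp.mapDomain_id]

end Groth.Agent.S16405
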