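import Groth.Statements.S16415
import Mathlib

set_option autoImplicit false
open Dieud

namespace Groth.Agent.S16415

section


theorem main (μ : ℚ) (hμ0 : 0 < μ) (hμ1 : μ ≤ 1)
    (N : ℕ) (i : ℤ) :
    IsLeast {x : ℚ | ∃ m j : ℤ, max (max (-i - j) (-j)) 0 ≤ m ∧ (N : ℤ) ≤ 2 * m + i + 2 * j ∧
        x = (m : ℚ) + (j : ℚ) * μ}
      (((max (max ⌈((N : ℚ) - i) / 2⌉ (-i)) 0 : ℤ) : ℚ) * μ) := by
  obtain ⟨J, hJ⟩ : ∃ J : ℤ, J = max (max ⌈((N : ℚ) - i) / 2⌉ (-i)) 0 := ⟨_, rfl⟩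
  rw [← hJ]
  have hJ0 : 0 ≤ J := by rw [hJ]; exact le_max_right _ _
  have hJi : -i ≤ J := by rw [hJ]; exact le_trans (le_max_right _ _) (le_max_left _ _)
  have hJc : ⌈((N : ℚ) - i) / 2⌉ ≤ J := by
    rw [hJ]; exact le_trans (le_max_left _ _) (le_max_left _ _)
  constructor
  · refine ⟨0, J, ?_, ?_, ?_⟩
    · apply max_le
      · apply max_le <;> omega
      · exact le_refl 0
    · have h1 : ((N : ℚ) - i) / 2 ≤ (J : ℚ) := by
        have := Int.le_ceil (((N : ℚ) - i) / 2)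
        have h2 : ((⌈((N : ℚ) - i) / 2⌉ : ℤ) : ℚ) ≤ (J : ℚ) := by exact_mod_cast hJc
        linarith
      have h3 : (N : ℚ) ≤ 2 * (0 : ℤ) + i + 2 * (J : ℚ) := by
        push_cast
        linarith
      exact_mod_cast h3
    · push_cast
      ring
  · rintro x ⟨m, j, hm, hN, rfl⟩
    have hm0 : 0 ≤ m := le_trans (le_max_right _ _) hm
    have hm1 : -i - j ≤ m := le_trans (le_trans (le_max_left _ _) (le_max_left _ _)) hm
    have hm2 : -j ≤ m := le_trans (le_trans (le_max_right _ _) (le_max_left _ _)) hm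
    have qm0 : (0 : ℚ) ≤ (m : ℚ) := by exact_mod_cast hm0
    have qm1 : -(i : ℚ) - (j : ℚ) ≤ (m : ℚ) := by exact_mod_cast hm1
    have qm2 : -(j : ℚ) ≤ (m : ℚ) := by exact_mod_cast hm2
    -- three lower bounds
    have b0 : (0 : ℚ) * μ ≤ (m : ℚ) + (j : ℚ) * μ := by
      rcases le_or_gt 0 (j : ℚ) with h | h
      · nlinarith
      · nlinarith
    have b1 : (-(i : ℚ)) * μ ≤ (m : ℚ) + (j : ℚ) * μ := by
      rcases le_or_gt 0 ((i : ℚ) + j) with h | h
      · nlinarith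
      · nlinarith
    have hc : ⌈((N : ℚ) - i) / 2⌉ ≤ m + j := by
      rw [Int.ceil_le]
      have h3 : (N : ℚ) ≤ 2 * (m : ℚ) + i + 2 * (j : ℚ) := by exact_mod_cast hN
      push_cast
      linarith
    have b2 : ((⌈((N : ℚ) - i) / 2⌉ : ℤ) : ℚ) * μ ≤ (m : ℚ) + (j : ℚ) * μ := by
      have h4 : ((⌈((N : ℚ) - i) / 2⌉ : ℤ) : ℚ) ≤ (m : ℚ) + (j : ℚ) := by exact_mod_cast hc
      nlinarith
    -- J is one of the three
    rcases max_choice (max ⌈((N : ℚ) - i) / 2⌉ (-i)) 0 with h | h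
    · rcases max_choice ⌈((N : ℚ) - i) / 2⌉ (-i) with h' | h'
      · rw [hJ, h, h']
        exact b2
      · rw [hJ, h, h']
        push_cast
        exact b1
    · rw [hJ, h]
      push_cast
      exact b0


end


/-- Let μ be a rational number with 0 < μ ≤ 1, N a natural number and i an integer. The minimum of m +
jμ over all pairs of integers (m, j) with m ≥ max(−i−j, −j, 0) and 2m + i + 2j ≥ N exists and equals
μ · max(⌈(N−i)/2⌉, −i, 0). (The published statement prints the value as max(⌈(N−i)/2⌉, −iμ, 0),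
without the factor μ on the first term; the printed argument computes μ · max(⌈(N−i)/2⌉, −i, 0),
attained at m = 0, and for N = 2, i = 0, μ = 1/2 the pair (m, j) = (0, 1) gives 1/2 < 1, so the
value with the factor μ is stated here.) -/
theorem result (μ : ℚ) (hμ0 : 0 < μ) (hμ1 : μ ≤ 1)
    (N : ℕ) (i : ℤ) :
    IsLeast {x : ℚ | ∃ m j : ℤ, max (max (-i - j) (-j)) 0 ≤ m ∧ (N : ℤ) ≤ 2 * m + i + 2 * j ∧
        x = (m : ℚ) + (j : ℚ) * μ}
      (((max (max ⌈((N : ℚ) - i) / 2⌉ (-i)) 0 : ℤ) : ℚ) * μ) := by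
  classical
  exact main μ hμ0 hμ1 N i

end Groth.Agent.S16415
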