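import Groth.Statements.S16416
import Mathlib

set_option autoImplicit false
universe u v w
open Dieud

namespace Groth.Agent.S16416

namespace H16416

theorem main
    (p : ℕ) [Fact p.Prime] (k : Type u) [Field k] [CharP k p] [PerfectRing k p]
    (M : Type v) [AddCommGroup M] [Module (WittVector p k) M]
    (N : Type w) [AddCommGroup N] [Module (WittVector p k) N]
    (FM VM : M →+ M) (FN VN : N →+ N)
    (hVM : ∀ (a : WittVector p k) (m : M), VM (WittVector.frobenius a • m) = a • VM m)
    (hFN : ∀ (a : WittVector p k) (n : N), FN (a • n) = WittVector.frobenius a • FN n)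
    (hVN : ∀ (a : WittVector p k) (n : N), VN (WittVector.frobenius a • n) = a • VN n)
    (hFVN : ∀ n : N, FN (VN n) = (p : WittVector p k) • n)
    (hVFN : ∀ n : N, VN (FN n) = (p : WittVector p k) • n)
    (H₁ : Submodule (WittVector p k) (M →ₗ[WittVector p k] N))
    (hF : ∀ h ∈ H₁, ∃ h' ∈ H₁, ∀ m : M, h' m = FN (h (VM m)))
    (hV : ∀ h ∈ H₁, ∃ h' ∈ H₁, ∀ m : M, h' (VM m) = VN (h m))
    (hmax : ∀ S : Submodule (WittVector p k) (M →ₗ[WittVector p k] N),
      (∀ h ∈ S, ∃ h' ∈ S, ∀ m : M, h' m = FN (h (VM m))) →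
      (∀ h ∈ S, ∃ h' ∈ S, ∀ m : M, h' (VM m) = VN (h m)) → S ≤ H₁)
    (y : M →ₗ[WittVector p k] N) (x : M →ₗ[WittVector p k] N) (hx : x ∈ H₁)
    (hxy : ∀ m : M, x (VM m) = VN (y m)) :
    y ∈ H₁ := by
  have hsurj : Function.Surjective (WittVector.frobenius : WittVector p k →+* WittVector p k) :=
    (WittVector.frobenius_bijective p k).2
  -- the submodule S' = V⁻¹ H₁
  let S' : Submodule (WittVector p k) (M →ₗ[WittVector p k] N) :=
    { carrier := {h | ∃ h' ∈ H₁, ∀ m : M, h' (VM m) = VN (h m)}
      zero_mem' := ⟨0, H₁.zero_mem, fun m => by simp⟩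
      add_mem' := by
        rintro a b ⟨a', ha', ha⟩ ⟨b', hb', hb⟩
        exact ⟨a' + b', H₁.add_mem ha' hb', fun m => by
          simp only [LinearMap.add_apply, map_add, ha, hb]⟩
      smul_mem' := by
        rintro c h ⟨h', hh', hh⟩
        obtain ⟨b, rfl⟩ := hsurj c
        refine ⟨b • h', H₁.smul_mem b hh', fun m => ?_⟩
        rw [LinearMap.smul_apply, LinearMap.smul_apply, hVN, hh] }
  have hH₁S' : H₁ ≤ S' := by
    intro h hh
    obtain ⟨h'', hh'', e⟩ := hV h hh
    exact ⟨h'', hh'', e⟩
  have hS'F : ∀ h ∈ S', ∃ h' ∈ S', ∀ m : M, h' m = FN (h (VM m)) := by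
    rintro h ⟨h', hh', e⟩
    -- p • h ∈ H₁
    have hph : (p : WittVector p k) • h ∈ H₁ := by
      obtain ⟨h'', hh'', e''⟩ := hF h' hh'
      have : h'' = (p : WittVector p k) • h := by
        ext m
        rw [e'', e, hFVN, LinearMap.smul_apply]
      rw [← this]; exact hh''
    -- the map F·h
    let g : M →ₗ[WittVector p k] N :=
      { toFun := fun m => FN (h (VM m))
        map_add' := fun a b => by simp only [map_add]
        map_smul' := fun c m => by
          obtain ⟨b, rfl⟩ := hsurj c
          simp only [RingHom.id_apply]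
          rw [hVM, map_smul, hFN] }
    refine ⟨g, ⟨(p : WittVector p k) • h, hph, fun m => ?_⟩, fun m => rfl⟩
    change _ = VN (FN (h (VM m)))
    rw [hVFN, LinearMap.smul_apply]
  have hS'V : ∀ h ∈ S', ∃ h' ∈ S', ∀ m : M, h' (VM m) = VN (h m) := by
    rintro h ⟨h', hh', e⟩
    exact ⟨h', hH₁S' hh', e⟩
  exact hmax S' hS'F hS'V ⟨x, hx, hxy⟩

end H16416

/-- For a prime p and a perfect field k of characteristic p, write W = W(k) for the ring of Witt vectors
and σ for its Frobenius; let M and N be free W-modules of finite rank, each with additive maps F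
(σ-semilinear) and V (with V(σ(a)m) = aV(m)) satisfying FV = VF = p, and H = Hom_W(M, N). On H the
operator F acts through h ↦ F ∘ h ∘ V, and V acts partially: V·h is the W-linear map h' with h'(V m)
= V(h(m)) for all m, when it exists. Let H₁ be the largest W-submodule of H stable under both (it
contains every submodule stable under both). Then H₁ ∩ V·H = V·H₁: if y ∈ H and V·y exists and lies
in H₁, then y ∈ H₁, so that H₁/VH₁ → H/(H ∩ VH) is injective. (The published statement is for the
Cartier modules of two p-divisible formal groups over k, every slope of the first below every slope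
of the second; only the structure just listed is used, so connectedness and the slope condition are
not assumed.) -/
theorem result
    (p : ℕ) [Fact p.Prime] (k : Type u) [Field k] [CharP k p] [PerfectRing k p]
    (M : Type v) [AddCommGroup M] [Module (WittVector p k) M]
    [Module.Free (WittVector p k) M] [Module.Finite (WittVector p k) M]
    (N : Type w) [AddCommGroup N] [Module (WittVector p k) N]
    [Module.Free (WittVector p k) N] [Module.Finite (WittVector p k) N]
    (FM VM : M →+ M) (FN VN : N →+ N)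
    (hFM : ∀ (a : WittVector p k) (m : M), FM (a • m) = WittVector.frobenius a • FM m)
    (hVM : ∀ (a : WittVector p k) (m : M), VM (WittVector.frobenius a • m) = a • VM m)
    (hFVM : ∀ m : M, FM (VM m) = (p : WittVector p k) • m)
    (hVFM : ∀ m : M, VM (FM m) = (p : WittVector p k) • m)
    (hFN : ∀ (a : WittVector p k) (n : N), FN (a • n) = WittVector.frobenius a • FN n)
    (hVN : ∀ (a : WittVector p k) (n : N), VN (WittVector.frobenius a • n) = a • VN n)
    (hFVN : ∀ n : N, FN (VN n) = (p : WittVector p k) • n)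
    (hVFN : ∀ n : N, VN (FN n) = (p : WittVector p k) • n)
    (H₁ : Submodule (WittVector p k) (M →ₗ[WittVector p k] N))
    (hF : ∀ h ∈ H₁, ∃ h' ∈ H₁, ∀ m : M, h' m = FN (h (VM m)))
    (hV : ∀ h ∈ H₁, ∃ h' ∈ H₁, ∀ m : M, h' (VM m) = VN (h m))
    (hmax : ∀ S : Submodule (WittVector p k) (M →ₗ[WittVector p k] N),
      (∀ h ∈ S, ∃ h' ∈ S, ∀ m : M, h' m = FN (h (VM m))) →
      (∀ h ∈ S, ∃ h' ∈ S, ∀ m : M, h' (VM m) = VN (h m)) → S ≤ H₁)
    (y : M →ₗ[WittVector p k] N) (x : M →ₗ[WittVector p k] N) (hx : x ∈ H₁)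
    (hxy : ∀ m : M, x (VM m) = VN (y m)) :
    y ∈ H₁ := by
  exact H16416.main p k M N FM VM FN VN hVM hFN hVN hFVN hVFN H₁ hF hV hmax y x hx hxy

end Groth.Agent.S16416
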