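import Groth.Statements.S16418
import Groth.Agent.Lib.Helper6.DieudNil

set_option autoImplicit false
universe u v
open Dieud

namespace Groth.Agent.S16418

/-- Step of the proof: for a prime p and a perfect field k of characteristic p, write W = W(k) and σ for
its Frobenius; let M be a W-module with additive maps F (σ-semilinear) and V (with V(σ(a)m) = aV(m))
such that FV = VF = p, V is injective, ⋂_n V^n M = 0 and M/VM is finitely generated over W. Put M₁ =
{x ∈ M : for every n there is m with V^m x ∈ F^n M} and M₂ = {x ∈ M : F^n x = 0 for some n}. Then M₂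
is killed by a single power of F, and F is injective on M₁. (The published text makes these
assertions inside a proof, for the V-reduced Cartier module of a connected smooth formal group of
finite dimension over k; only the listed structure is used, and V-adic completeness is not needed.) -/
theorem result
    (p : ℕ) [Fact p.Prime] (k : Type u) [Field k] [CharP k p] [PerfectRing k p]
    (M : Type v) [AddCommGroup M] [Module (WittVector p k) M]
    (F V : M →+ M)
    (hF : ∀ (a : WittVector p k) (m : M), F (a • m) = WittVector.frobenius a • F m)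
    (hV : ∀ (a : WittVector p k) (m : M), V (WittVector.frobenius a • m) = a • V m)
    (hFV : ∀ m : M, F (V m) = (p : WittVector p k) • m)
    (hVF : ∀ m : M, V (F m) = (p : WittVector p k) • m)
    (hVinj : Function.Injective V)
    (hsep : ∀ x : M, (∀ n : ℕ, ∃ y : M, x = (⇑V)^[n] y) → x = 0)
    (hfin : Module.Finite (WittVector p k) (M ⧸ Submodule.span (WittVector p k) (Set.range V))) :
    (∃ c : ℕ, ∀ x : M, (∃ n : ℕ, (⇑F)^[n] x = 0) → (⇑F)^[c] x = 0) ∧
    (∀ x : M, (∀ n : ℕ, ∃ (m : ℕ) (y : M), (⇑V)^[m] x = (⇑F)^[n] y) → F x = 0 → x = 0) := by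
  have hcomm : ∀ m : M, F (V m) = V (F m) := fun m => by rw [hFV, hVF]
  have hVsm : ∀ (a : WittVector p k) (m : M), ∃ m' : M, a • V m = V m' :=
    fun a m => ⟨_, (hV a m).symm⟩
  haveI : IsNoetherian (WittVector p k) (M ⧸ Submodule.span (WittVector p k) (Set.range V)) :=
    isNoetherian_of_isNoetherianRing_of_finite _ _
  obtain ⟨c, hc⟩ := Groth.Agent.Lib.Helper6.DieudNil.exists_bound
    (WittVector.frobenius : WittVector p k →+* WittVector p k) F V hF hcomm hVinj hsep hVsm
  refine ⟨⟨c, hc⟩, fun x hx hFx => ?_⟩
  obtain ⟨m, y, hmy⟩ := hx c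
  have hy : (⇑F)^[c] y = 0 := by
    apply hc y
    refine ⟨c + 1, ?_⟩
    rw [Function.iterate_succ_apply', ← hmy]
    have : ∀ j : ℕ, F ((⇑V)^[j] x) = 0 := by
      intro j
      induction j with
      | zero => exact hFx
      | succ j ih => rw [Function.iterate_succ_apply', hcomm, ih, map_zero]
    exact this m
  rw [hy] at hmy
  have hinj : Function.Injective (⇑V)^[m] := hVinj.iterate m
  apply hinj
  rw [hmy]
  clear hmy hinj
  induction m with
  | zero => rfl
  | succ j ih => rw [Function.iterate_succ_apply', ← ih, map_zero]

end Groth.Agent.S16418
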