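import Groth.Statements.S16422
import Mathlib
import Groth.Agent.Lib.Helper9.GrMod.Comps
-- import your own Groth.Agent.* helpers here

set_option autoImplicit false
universe u
open GrMod

namespace Groth.Agent.S16422

namespace Aux
open Groth.Agent.Helper9.GrMod

theorem coord_mem {S : Type u} [CommRing S] (I : Ideal S) {r : ℕ} (w : Fin r → S)
    (hw : w ∈ I • (⊤ : Submodule S (Fin r → S))) (i : Fin r) : w i ∈ I := by
  refine Submodule.smul_induction_on (p := fun w => w i ∈ I) hw ?_ ?_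
  · intro a ha v _
    exact I.mul_mem_right _ ha
  · intro x y hx hy
    exact I.add_mem hx hy

theorem lc_mem {S : Type u} [CommRing S] {M : Type u} [AddCommGroup M] [Module S M]
    (I : Ideal S) {r : ℕ} (g : Fin r → M) (w : Fin r → S) (hw : ∀ i, w i ∈ I) :
    Fintype.linearCombination S g w ∈ I • (⊤ : Submodule S M) := by
  rw [Fintype.linearCombination_apply]
  exact Submodule.sum_mem _ fun i _ => Submodule.smul_mem_smul (hw i) trivial

theorem map_mem {S : Type u} [CommRing S] {M N : Type u} [AddCommGroup M] [Module S M]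
    [AddCommGroup N] [Module S N]
    (I : Ideal S) (s : M →ₗ[S] N) (x : M) (hx : x ∈ I • (⊤ : Submodule S M)) :
    s x ∈ I • (⊤ : Submodule S N) := by
  have : s x ∈ Submodule.map s (I • (⊤ : Submodule S M)) := Submodule.mem_map_of_mem hx
  rw [Submodule.map_smul''] at this
  exact Submodule.smul_mono le_rfl le_top this

theorem main
    (S : Type u) [CommRing S] (𝒜 : ℤ → AddSubgroup S) [GradedRing 𝒜]
    (V : ℕ → HomogeneousIdeal 𝒜) (hV : ∀ m, (V (m + 1)).toIdeal ≤ (V m).toIdeal)
    (hsep : ∀ (n : ℤ) (s : S), s ∈ 𝒜 n → (∀ m, s ∈ (V m).toIdeal) → s = 0)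
    (hcpl : ∀ (n : ℤ) (f : ℕ → S), (∀ m, f m ∈ 𝒜 n) →
      (∀ m, f (m + 1) - f m ∈ (V m).toIdeal) → ∃ s ∈ 𝒜 n, ∀ m, s - f m ∈ (V m).toIdeal)
    (M : Type u) [AddCommGroup M] [Module S M] (ℳ : ℤ → AddSubgroup M)
    [DirectSum.Decomposition ℳ] [SetLike.GradedSMul 𝒜 ℳ]
    [Module.Finite S M] [Module.Projective S M] :
    (∀ (n : ℤ) (x : M), x ∈ ℳ n → (∀ m, x ∈ (V m).toIdeal • (⊤ : Submodule S M)) → x = 0) ∧
    (∀ (n : ℤ) (g : ℕ → M), (∀ m, g m ∈ ℳ n) →
      (∀ m, g (m + 1) - g m ∈ (V m).toIdeal • (⊤ : Submodule S M)) →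
      ∃ x ∈ ℳ n, ∀ m, x - g m ∈ (V m).toIdeal • (⊤ : Submodule S M)) := by
  classical
  set C : Comps 𝒜 M := modComps 𝒜 ℳ with hC
  set R : Comps 𝒜 S := ringComps 𝒜 with hR
  obtain ⟨r, g, e, hg, hspan⟩ := C.exists_homog_gens ⊤ (fun _ _ _ => trivial)
    (Module.Finite.fg_top)
  set π : (Fin r → S) →ₗ[S] M := Fintype.linearCombination S g with hπ
  have hsurj : Function.Surjective π := by
    rw [← LinearMap.range_eq_top, hπ, Fintype.range_linearCombination, hspan]
  obtain ⟨s, hs⟩ := Module.projective_lifting_property π LinearMap.id hsurj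
  have hs' : ∀ x, π (s x) = x := fun x => LinearMap.congr_fun hs x
  -- components of elements of V m stay in V m
  have hVc : ∀ m j a, a ∈ (V m).toIdeal → R.c j a ∈ (V m).toIdeal := by
    intro m j a ha
    exact (V m).isHomogeneous j ha
  have hzero : ∀ a : S, (∀ m, a ∈ (V m).toIdeal) → a = 0 := by
    intro a ha
    obtain ⟨t, _, ht⟩ := R.fin a
    rw [ht]
    apply Finset.sum_eq_zero
    intro j _
    exact hsep j _ (ringComps_c_mem 𝒜 j a) (fun m => hVc m j a (ha m))
  refine ⟨?_, ?_⟩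
  · intro n x _ hx
    have h0 : s x = 0 := by
      funext i
      exact hzero _ (fun m => coord_mem _ _ (map_mem _ s x (hx m)) i)
    rw [← hs' x, h0, map_zero]
  · intro n g' hg' hd
    -- the sequences of coefficients
    have hf : ∀ i : Fin r, ∃ t ∈ 𝒜 (n - e i),
        ∀ m, t - R.c (n - e i) (s (g' m) i) ∈ (V m).toIdeal := by
      intro i
      apply hcpl (n - e i) (fun m => R.c (n - e i) (s (g' m) i))
      · intro m; exact ringComps_c_mem 𝒜 _ _
      · intro m
        have h1 : R.c (n - e i) (s (g' (m + 1)) i) - R.c (n - e i) (s (g' m) i) =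
            R.c (n - e i) (s (g' (m + 1) - g' m) i) := by
          rw [map_sub, Pi.sub_apply, map_sub]
        rw [h1]
        exact hVc m _ _ (coord_mem _ _ (map_mem _ s _ (hd m)) i)
    choose t ht htm using hf
    refine ⟨π t, ?_, ?_⟩
    · rw [hπ, Fintype.linearCombination_apply]
      apply AddSubgroup.sum_mem
      intro i _
      have hgi : g i ∈ ℳ (e i) := (modComps_isHom_iff 𝒜 ℳ _ _).1 (hg i)
      have := SetLike.GradedSMul.smul_mem (ht i) hgi
      have h3 : (n - e i) +ᵥ e i = n := by show n - e i + e i = n; ring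
      rwa [h3] at this
    · intro m
      have h1 : g' m = π ((shiftComps 𝒜 r e).c n (s (g' m))) := by
        rw [hπ, ← c_linearCombination 𝒜 C g e hg]
        show g' m = C.c n (π (s (g' m)))
        rw [hs']
        exact ((modComps_isHom_iff 𝒜 ℳ _ _).2 (hg' m)).symm
      have h2 : π t - g' m = π (t - (shiftComps 𝒜 r e).c n (s (g' m))) := by
        rw [map_sub, ← h1]
      rw [h2]
      apply lc_mem
      intro i
      exact htm i m

end Aux

/-- Let S be a commutative ring graded by ℤ with pieces 𝒜 n, and V a decreasing sequence of homogeneous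
ideals for which S is graded-complete, i.e. for each degree n the map from 𝒜 n to the inverse limit
of the quotients 𝒜 n / (𝒜 n ∩ V m) is bijective (stated as: a degree-n element in every V m
vanishes, and every sequence in 𝒜 n whose consecutive differences lie in the V m has a limit in 𝒜
n). Then every graded S-module M which is finitely generated and projective as an S-module is
graded-complete in the same sense for the submodules V m · M: for each n the map from ℳ n to the
inverse limit of ℳ n / (ℳ n ∩ V m · M) is bijective. -/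
theorem result
    (S : Type u) [CommRing S] (𝒜 : ℤ → AddSubgroup S) [GradedRing 𝒜]
    (V : ℕ → HomogeneousIdeal 𝒜) (hV : ∀ m, (V (m + 1)).toIdeal ≤ (V m).toIdeal)
    (hsep : ∀ (n : ℤ) (s : S), s ∈ 𝒜 n → (∀ m, s ∈ (V m).toIdeal) → s = 0)
    (hcpl : ∀ (n : ℤ) (f : ℕ → S), (∀ m, f m ∈ 𝒜 n) →
      (∀ m, f (m + 1) - f m ∈ (V m).toIdeal) → ∃ s ∈ 𝒜 n, ∀ m, s - f m ∈ (V m).toIdeal)
    (M : Type u) [AddCommGroup M] [Module S M] (ℳ : ℤ → AddSubgroup M)
    [DirectSum.Decomposition ℳ] [SetLike.GradedSMul 𝒜 ℳ]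
    [Module.Finite S M] [Module.Projective S M] :
    (∀ (n : ℤ) (x : M), x ∈ ℳ n → (∀ m, x ∈ (V m).toIdeal • (⊤ : Submodule S M)) → x = 0) ∧
    (∀ (n : ℤ) (g : ℕ → M), (∀ m, g m ∈ ℳ n) →
      (∀ m, g (m + 1) - g m ∈ (V m).toIdeal • (⊤ : Submodule S M)) →
      ∃ x ∈ ℳ n, ∀ m, x - g m ∈ (V m).toIdeal • (⊤ : Submodule S M)) := by
  exact Aux.main S 𝒜 V hV hsep hcpl M ℳ

end Groth.Agent.S16422
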