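import Groth.Statements.S16430
import Mathlib

set_option autoImplicit false
universe u
open Hensel

namespace Groth.Agent.S16430

section
open Polynomial

variable (A : Type u) [CommRing A] [IsLocalRing A]
  (l : Type u) [Field l]
  [Algebra (IsLocalRing.ResidueField A) l] [FiniteDimensional (IsLocalRing.ResidueField A) l]
  [Algebra.IsSeparable (IsLocalRing.ResidueField A) l]

theorem main :
    ∃ (E : Type u) (_ : CommRing E) (_ : IsLocalRing E) (_ : Algebra A E)
      (_ : IsLocalHom (algebraMap A E)),
      Module.Finite A E ∧ Algebra.Etale A E ∧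
        Nonempty (IsLocalRing.ResidueField E ≃ₐ[IsLocalRing.ResidueField A] l) := by
  obtain ⟨k, hk⟩ : ∃ k : Type u, k = IsLocalRing.ResidueField A := ⟨_, rfl⟩
  obtain ⟨α, hα⟩ := Field.exists_primitive_element (IsLocalRing.ResidueField A) l
  obtain ⟨q, hq⟩ : ∃ q, q = minpoly (IsLocalRing.ResidueField A) α := ⟨_, rfl⟩
  have hαint : IsIntegral (IsLocalRing.ResidueField A) α := Algebra.IsIntegral.isIntegral α
  have hqmonic : q.Monic := by rw [hq]; exact minpoly.monic hαint
  have hqirr : Irreducible q := by rw [hq]; exact minpoly.irreducible hαint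
  have hqsep : q.Separable := by rw [hq]; exact Algebra.IsSeparable.isSeparable _ α
  have hres : Function.Surjective (IsLocalRing.residue A) := IsLocalRing.residue_surjective
  obtain ⟨g, hgq, -, hgmonic⟩ := Polynomial.lifts_and_natDegree_eq_and_monic
    ((Polynomial.mem_lifts q).mpr (Polynomial.map_surjective _ hres q)) hqmonic
  have hfin : Module.Finite A (AdjoinRoot g) := hgmonic.finite_adjoinRoot
  obtain ⟨ψ, hψ⟩ : ∃ ψ : A →+* l, ψ = (algebraMap (IsLocalRing.ResidueField A) l).comp (IsLocalRing.residue A) :=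
    ⟨_, rfl⟩
  have hev : ∀ P : A[X], P.eval₂ ψ α = Polynomial.aeval α (P.map (IsLocalRing.residue A)) := by
    intro P
    rw [Polynomial.aeval_def, Polynomial.eval₂_map, hψ]
  have hroot : g.eval₂ ψ α = 0 := by
    rw [hev, hgq, hq]; exact minpoly.aeval _ α
  obtain ⟨φ, hφ⟩ : ∃ φ : AdjoinRoot g →+* l, φ = AdjoinRoot.lift ψ α hroot := ⟨_, rfl⟩
  have hφmk : ∀ P : A[X], φ (AdjoinRoot.mk g P) = Polynomial.aeval α (P.map (IsLocalRing.residue A)) := by
    intro P
    rw [hφ, AdjoinRoot.lift_mk, hev]
  have hφsurj : Function.Surjective φ := by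
    intro x
    have hx : x ∈ (IntermediateField.adjoin (IsLocalRing.ResidueField A) {α}).toSubalgebra := by
      rw [hα]; trivial
    rw [IntermediateField.adjoin_simple_toSubalgebra_of_isAlgebraic hαint.isAlgebraic,
      Algebra.adjoin_singleton_eq_range_aeval] at hx
    obtain ⟨p, hp⟩ := hx
    obtain ⟨P, hP⟩ := Polynomial.map_surjective _ hres p
    refine ⟨AdjoinRoot.mk g P, ?_⟩
    rw [hφmk, hP]; exact hp
  have hkermax : (RingHom.ker φ).IsMaximal := RingHom.ker_isMaximal_of_surjective φ hφsurj
  -- the kernel is contained in m E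
  have hkerle : RingHom.ker φ ≤ Ideal.map (algebraMap A (AdjoinRoot g)) (IsLocalRing.maximalIdeal A) := by
    intro x hx
    obtain ⟨P, rfl⟩ := AdjoinRoot.mk_surjective x
    rw [RingHom.mem_ker, hφmk] at hx
    have hdvd : q ∣ P.map (IsLocalRing.residue A) := by
      rw [hq]; exact minpoly.dvd _ _ hx
    obtain ⟨s, hs⟩ := hdvd
    obtain ⟨S, hS⟩ := Polynomial.map_surjective _ hres s
    have hmem : P - g * S ∈ RingHom.ker (Polynomial.mapRingHom (IsLocalRing.residue A)) := by
      rw [RingHom.mem_ker, Polynomial.coe_mapRingHom, Polynomial.map_sub, Polynomial.map_mul, hgq, hS, hs,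
        sub_self]
    rw [Polynomial.ker_mapRingHom, IsLocalRing.ker_residue] at hmem
    have e : AdjoinRoot.mk g P = AdjoinRoot.mk g (P - g * S) := by
      rw [map_sub, map_mul, AdjoinRoot.mk_self, zero_mul, sub_zero]
    rw [e]
    -- image of map C m under mk lies in map (algebraMap) m
    have : Ideal.map (AdjoinRoot.mk g) (Ideal.map Polynomial.C (IsLocalRing.maximalIdeal A)) ≤
        Ideal.map (algebraMap A (AdjoinRoot g)) (IsLocalRing.maximalIdeal A) := by
      rw [Ideal.map_map]
      exact le_of_eq rfl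
    exact this (Ideal.mem_map_of_mem _ hmem)
  -- every maximal ideal contains m E
  have hmax : ∀ n : Ideal (AdjoinRoot g), n.IsMaximal → n = RingHom.ker φ := by
    intro n hn
    have hint : Algebra.IsIntegral A (AdjoinRoot g) := Algebra.IsIntegral.of_finite A _
    have hc : (n.comap (algebraMap A (AdjoinRoot g))).IsMaximal :=
      Ideal.isMaximal_comap_of_isIntegral_of_isMaximal n
    have hc' : n.comap (algebraMap A (AdjoinRoot g)) = IsLocalRing.maximalIdeal A :=
      IsLocalRing.eq_maximalIdeal hc
    have hle : Ideal.map (algebraMap A (AdjoinRoot g)) (IsLocalRing.maximalIdeal A) ≤ n := by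
      rw [Ideal.map_le_iff_le_comap, hc']
    exact (hkermax.eq_of_le hn.ne_top (hkerle.trans hle)).symm
  have hloc : IsLocalRing (AdjoinRoot g) := by
    have hnt : Nontrivial (AdjoinRoot g) := by
      by_contra hcon
      rw [not_nontrivial_iff_subsingleton] at hcon
      exact hkermax.ne_top (Subsingleton.elim _ _)
    apply IsLocalRing.of_unique_max_ideal
    exact ⟨RingHom.ker φ, hkermax, fun n hn => hmax n hn⟩
  have hmaxeq : IsLocalRing.maximalIdeal (AdjoinRoot g) = RingHom.ker φ :=
    hmax _ (IsLocalRing.maximalIdeal.isMaximal _)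
  have hlochom : IsLocalHom (algebraMap A (AdjoinRoot g)) := by
    constructor
    intro a ha
    by_contra hna
    have ham : a ∈ IsLocalRing.maximalIdeal A := (IsLocalRing.mem_maximalIdeal a).mpr hna
    have : algebraMap A (AdjoinRoot g) a ∈ RingHom.ker φ := by
      rw [RingHom.mem_ker, AdjoinRoot.algebraMap_eq, ← AdjoinRoot.mk_C, hφmk, Polynomial.map_C,
        Polynomial.aeval_C]
      have : IsLocalRing.residue A a = 0 := (IsLocalRing.residue_eq_zero_iff a).mpr ham
      rw [this, map_zero]
    rw [← hmaxeq] at this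
    exact (IsLocalRing.mem_maximalIdeal _).mp this ha
  -- etale
  have hunit : IsUnit (AdjoinRoot.mk g (derivative g)) := by
    by_contra hnu
    have hmem : AdjoinRoot.mk g (derivative g) ∈ IsLocalRing.maximalIdeal (AdjoinRoot g) :=
      (IsLocalRing.mem_maximalIdeal _).mpr hnu
    rw [hmaxeq, RingHom.mem_ker, hφmk, ← Polynomial.derivative_map, hgq] at hmem
    have h0 : Polynomial.aeval α q = 0 := by rw [hq]; exact minpoly.aeval _ α
    exact hqsep.aeval_derivative_ne_zero h0 hmem
  have hetale : Algebra.Etale A (AdjoinRoot g) := by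
    let P : StandardEtalePair A := ⟨g, hgmonic, derivative g, ⟨1, 0, 1, by simp⟩⟩
    have e1 : P.Ring ≃ₐ[A] Localization.Away (AdjoinRoot.mk g (derivative g)) := P.equivAwayAdjoinRoot
    have H : Submonoid.powers (AdjoinRoot.mk g (derivative g)) ≤ IsUnit.submonoid (AdjoinRoot g) := by
      rintro x ⟨n, rfl⟩
      exact hunit.pow n
    have e2 : AdjoinRoot g ≃ₐ[AdjoinRoot g] Localization.Away (AdjoinRoot.mk g (derivative g)) :=
      IsLocalization.atUnits (AdjoinRoot g) (Submonoid.powers (AdjoinRoot.mk g (derivative g))) H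
    exact Algebra.Etale.of_equiv (e1.trans (e2.restrictScalars A).symm)
  refine ⟨AdjoinRoot g, inferInstance, hloc, inferInstance, hlochom, hfin, hetale, ?_⟩
  -- residue field
  let f1 : (AdjoinRoot g ⧸ IsLocalRing.maximalIdeal (AdjoinRoot g)) ≃+* (AdjoinRoot g ⧸ RingHom.ker φ) :=
    Ideal.quotEquivOfEq hmaxeq
  let f2 : (AdjoinRoot g ⧸ RingHom.ker φ) ≃+* l := RingHom.quotientKerEquivOfSurjective hφsurj
  let f : IsLocalRing.ResidueField (AdjoinRoot g) ≃+* l := f1.trans f2
  have hf : ∀ x : AdjoinRoot g, f (IsLocalRing.residue _ x) = φ x := by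
    intro x
    rfl
  refine ⟨AlgEquiv.ofRingEquiv (f := f) ?_⟩
  intro r
  obtain ⟨a, rfl⟩ := hres r
  rw [IsLocalRing.ResidueField.algebraMap_residue, hf, AdjoinRoot.algebraMap_eq, ← AdjoinRoot.mk_C, hφmk,
    Polynomial.map_C, Polynomial.aeval_C]


end


/-- For a Noetherian local ring A with residue field k and a finite separable field extension l of k,
there is a local ring E, finite and etale over A with local structure map, whose residue field is
k-isomorphic to l. -/
theorem result (A : Type u)
    [CommRing A] [IsLocalRing A] [IsNoetherianRing A] (l : Type u) [Field l]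
    [Algebra (IsLocalRing.ResidueField A) l] [FiniteDimensional (IsLocalRing.ResidueField A) l]
    [Algebra.IsSeparable (IsLocalRing.ResidueField A) l] :
    ∃ (E : Type u) (_ : CommRing E) (_ : IsLocalRing E) (_ : Algebra A E)
      (_ : IsLocalHom (algebraMap A E)),
      Module.Finite A E ∧ Algebra.Etale A E ∧
        Nonempty (IsLocalRing.ResidueField E ≃ₐ[IsLocalRing.ResidueField A] l) := by
  classical
  exact main A l

end Groth.Agent.S16430
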