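import Groth.Statements.S16445
-- import your own Groth.Agent.* helpers here
import Groth.Agent.Lib.Helper7.InterField.Quot
import Groth.Agent.S0540
import Groth.Agent.S2651

set_option autoImplicit false
universe u
open Hensel

namespace Groth.Agent.S16445

/-- Let A be an excellent henselian reduced local ring, S a strict henselization of A and Q a minimal
prime ideal of S; let K be the fraction field of the domain S/Q and L the subfield of K generated
over the image of A by a finite subset t of K. Then the intersection of L with S/Q is (the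
underlying set of) an A-subalgebra D' of S/Q which is an excellent henselian local ring (a domain,
as a subring of S/Q) whose fraction field is L: every element of L is the quotient of the images of
two elements of D'. (The source's further description of the completion of D' is not stated here.) -/
theorem result
    (A S : Type u) [CommRing A] [HenselianLocalRing A] [IsReduced A] (hA : EGA4.IsExcellent A)
    [CommRing S] [IsLocalRing S] [Algebra A S] [IsLocalHom (algebraMap A S)]
    [Hensel.IsStrictHenselization A S] (Q : Ideal S) (hQ : Q ∈ minimalPrimes S) [Q.IsPrime]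
    (t : Finset (FractionRing (S ⧸ Q))) :
    ∃ D' : Subalgebra A (S ⧸ Q), (D' : Set (S ⧸ Q)) = (algebraMap (S ⧸ Q) (FractionRing (S ⧸ Q))) ⁻¹'
        (Subfield.closure (Set.range (algebraMap A (FractionRing (S ⧸ Q))) ∪
          (t : Set (FractionRing (S ⧸ Q)))) : Set (FractionRing (S ⧸ Q))) ∧
      EGA4.IsExcellent D' ∧ ∃ _ : HenselianLocalRing D',
        ∀ l ∈ Subfield.closure (Set.range (algebraMap A (FractionRing (S ⧸ Q))) ∪
            (t : Set (FractionRing (S ⧸ Q)))),
          ∃ a ∈ D', ∃ b ∈ D', algebraMap (S ⧸ Q) (FractionRing (S ⧸ Q)) b ≠ 0 ∧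
            l * algebraMap (S ⧸ Q) (FractionRing (S ⧸ Q)) b =
              algebraMap (S ⧸ Q) (FractionRing (S ⧸ Q)) a := by
  classical
  haveI : IsNoetherianRing A := hA.1
  haveI : IsNoetherianRing S := (Groth.Agent.S0540.result A S).mp inferInstance
  have hker : (RingHom.ker ((Ideal.Quotient.mkₐ A Q : S →ₐ[A] S ⧸ Q) : S →+* S ⧸ Q)).FG := by
    have h1 : RingHom.ker ((Ideal.Quotient.mkₐ A Q : S →ₐ[A] S ⧸ Q) : S →+* S ⧸ Q) = Q := by
      show RingHom.ker (Ideal.Quotient.mk Q) = Q
      exact Ideal.mk_ker
    rw [h1]
    exact IsNoetherian.noetherian Q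
  obtain ⟨E, D', -, -, hD'set, -, hfin, ⟨hloc, hAD, hmD, hsepD⟩, hfrac⟩ :=
    Groth.Agent.Helper7.InterField.quot_main A S (S ⧸ Q) (Ideal.Quotient.mkₐ A Q)
      (Ideal.Quotient.mkₐ_surjective A Q) hker ∅ t _ rfl
  haveI := hloc
  haveI := hfin
  haveI : Algebra.FiniteType A D' := inferInstance
  refine ⟨D', hD'set, Groth.Agent.S2651.result A hA D', ?_, hfrac⟩
  exact Groth.Agent.Helper7.Hensel.henselianLocalRing_of_finite A D'

end Groth.Agent.S16445
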