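import Groth.Statements.S16446
-- import your own Groth.Agent.* helpers here
import Groth.Agent.Lib.Helper7.InterField.Quot
import Groth.Agent.S0540

set_option autoImplicit false
universe u
open Hensel

namespace Groth.Agent.S16446

/-- Let A be an excellent henselian reduced local ring, S a strict henselization of A and Q a minimal
prime ideal of S with contraction q to A; let K be the fraction field of S/Q and L the subfield of K
generated over the image of A by a finite subset t of K. Then there is an A-subalgebra E of S, a
local ring and an essentially etale local A-algebra, such that (i) every minimal prime ideal of S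
over the ideal qS is generated by its contraction to E, and (ii) every element of S/Q whose image in
K lies in L is the class of an element of E — so that the intersection of L with S/Q equals its
intersection with the image of E. -/
theorem result
    (A S : Type u) [CommRing A] [HenselianLocalRing A] [IsReduced A] (hA : EGA4.IsExcellent A)
    [CommRing S] [IsLocalRing S] [Algebra A S] [IsLocalHom (algebraMap A S)]
    [Hensel.IsStrictHenselization A S] (Q : Ideal S) (hQ : Q ∈ minimalPrimes S) [Q.IsPrime]
    (t : Finset (FractionRing (S ⧸ Q))) :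
    ∃ E : Subalgebra A S, ∃ _ : IsLocalRing E, EGA4loc.IsEssentiallyEtale A E ∧
      (∀ Q' ∈ ((Q.comap (algebraMap A S)).map (algebraMap A S)).minimalPrimes,
        Q' = Ideal.map (algebraMap E S) (Q'.comap (algebraMap E S))) ∧
      ∀ x : S, algebraMap (S ⧸ Q) (FractionRing (S ⧸ Q)) (Ideal.Quotient.mk Q x) ∈
          Subfield.closure (Set.range (algebraMap A (FractionRing (S ⧸ Q))) ∪
            (t : Set (FractionRing (S ⧸ Q)))) →
        ∃ e ∈ E, Ideal.Quotient.mk Q e = Ideal.Quotient.mk Q x := by
  classical
  haveI : IsNoetherianRing A := hA.1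
  haveI : IsNoetherianRing S := (Groth.Agent.S0540.result A S).mp inferInstance
  have hker : (RingHom.ker ((Ideal.Quotient.mkₐ A Q : S →ₐ[A] S ⧸ Q) : S →+* S ⧸ Q)).FG := by
    have h1 : RingHom.ker ((Ideal.Quotient.mkₐ A Q : S →ₐ[A] S ⧸ Q) : S →+* S ⧸ Q) = Q := by
      show RingHom.ker (Ideal.Quotient.mk Q) = Q
      exact Ideal.mk_ker
    rw [h1]
    exact IsNoetherian.noetherian Q
  have hMfin : (((Q.comap (algebraMap A S)).map (algebraMap A S)).minimalPrimes).Finite :=
    Ideal.finite_minimalPrimes_of_isNoetherianRing S _
  have hfg : ∀ Q' : Ideal S, ∃ s : Finset S, Ideal.span (s : Set S) = Q' :=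
    fun Q' => (IsNoetherian.noetherian Q' : Q'.FG)
  choose gen hgen using hfg
  obtain ⟨E, D', ⟨hEloc, hEess⟩, hextra, hD'set, hlift, -, -, -⟩ :=
    Groth.Agent.Helper7.InterField.quot_main A S (S ⧸ Q) (Ideal.Quotient.mkₐ A Q)
      (Ideal.Quotient.mkₐ_surjective A Q) hker (hMfin.toFinset.biUnion gen) t _ rfl
  refine ⟨E, hEloc, hEess, ?_, ?_⟩
  · intro Q' hQ'
    apply le_antisymm
    · have h1 : Ideal.span ((gen Q' : Finset S) : Set S) ≤
          Ideal.map (algebraMap E S) (Q'.comap (algebraMap E S)) := by
        rw [Ideal.span_le]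
        intro c hc
        have hcE : c ∈ E := hextra (by
          rw [Finset.mem_coe, Finset.mem_biUnion]
          exact ⟨Q', hMfin.mem_toFinset.mpr hQ', hc⟩)
        have hcQ : c ∈ Q' := by
          rw [← hgen Q']
          exact Ideal.subset_span hc
        have h2 : (⟨c, hcE⟩ : E) ∈ Q'.comap (algebraMap E S) := hcQ
        exact Ideal.mem_map_of_mem (algebraMap E S) h2
      exact le_of_eq_of_le (hgen Q').symm h1
    · exact Ideal.map_comap_le
  · intro x hx
    have h1 : (Ideal.Quotient.mkₐ A Q) x ∈ D' := by
      have h2 : (Ideal.Quotient.mkₐ A Q) x ∈ (D' : Set (S ⧸ Q)) := by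
        rw [hD'set]
        exact hx
      exact h2
    obtain ⟨e, he, hee⟩ := hlift x h1
    exact ⟨e, he, hee⟩

end Groth.Agent.S16446
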