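import Groth.Statements.S16453

set_option autoImplicit false
universe u
open AdicGr

namespace Groth.Agent.S16453

/-- Let A be a commutative ring, I an ideal and Â the I-adic completion, filtered by the kernels Âₙ of
the projections Â → A/Iⁿ. Then the homomorphism of associated graded rings ⊕ₙ Iⁿ/Iⁿ⁺¹ → ⊕ₙ Âₙ/Âₙ₊₁
induced by the canonical map A → Â is bijective. No hypothesis on A or I is needed. (The published
statement is for an arbitrary filtered ring and also asserts the analogous isomorphism for a
compatibly filtered module; this row is the ring assertion for the filtration by the powers of one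
ideal.) -/
theorem result (A : Type u) [CommRing A] (I : Ideal A) :
    Function.Bijective (AssocGr.map (AssocGr.isFiltHom_kerFilt I)) := by
  have hmem : ∀ (a : A) (n : ℕ), algebraMap A (AdicCompletion I A) a ∈ (AssocGr.kerFilt I).F n ↔
      a ∈ I ^ n := by
    intro a n
    rw [AssocGr.mem_kerFilt_iff_val, AdicCompletion.algebraMap_apply, Algebra.algebraMap_self,
      RingHom.id_apply, AdicCompletion.of_apply, Submodule.mkQ_apply, Submodule.Quotient.mk_eq_zero]
    change a ∈ (I ^ n • ⊤ : Ideal A) ↔ _
    rw [AssocGr.pow_smul_top]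
  have happrox : ∀ (n : ℕ) (x : AdicCompletion I A), x ∈ (AssocGr.kerFilt I).F n →
      ∃ a ∈ I ^ n, algebraMap A (AdicCompletion I A) a - x ∈ (AssocGr.kerFilt I).F (n + 1) := by
    intro n x hx
    obtain ⟨a, ha⟩ := Submodule.mkQ_surjective _ (x.val (n + 1))
    have h1 : algebraMap A (AdicCompletion I A) a - x ∈ (AssocGr.kerFilt I).F (n + 1) := by
      rw [AssocGr.mem_kerFilt_iff_val, AdicCompletion.val_sub, Pi.sub_apply,
        AdicCompletion.algebraMap_apply,
        Algebra.algebraMap_self, RingHom.id_apply, AdicCompletion.of_apply, ha, sub_self]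
    refine ⟨a, ?_, h1⟩
    rw [← hmem]
    have h2 : algebraMap A (AdicCompletion I A) a =
        (algebraMap A (AdicCompletion I A) a - x) + x := by ring
    rw [h2]
    exact Ideal.add_mem _ ((AssocGr.kerFilt I).antitone (Nat.le_succ n) h1) hx
  constructor
  · rw [injective_iff_map_eq_zero]
    intro g hg
    obtain ⟨f, rfl⟩ := AssocGr.mkG_surjective _ g
    rw [AssocGr.map_mkG, AssocGr.mkG_eq_zero_iff, AssocGr.mem_succIdeal_iff] at hg
    rw [AssocGr.mkG_eq_zero_iff, AssocGr.mem_succIdeal_iff]
    intro n
    have h1 := hg n
    rw [AssocGr.coe_reesMap, Polynomial.coeff_map, hmem] at h1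
    exact h1
  · intro g'
    classical
    obtain ⟨f', rfl⟩ := AssocGr.mkG_surjective _ g'
    choose a haI ha using fun n => happrox n ((f' : Polynomial (AdicCompletion I A)).coeff n)
      (f'.2 n)
    let f : Polynomial A :=
      ∑ n ∈ (f' : Polynomial (AdicCompletion I A)).support, Polynomial.monomial n (a n)
    have hfc : ∀ n, f.coeff n =
        if n ∈ (f' : Polynomial (AdicCompletion I A)).support then a n else 0 := by
      intro n
      simp only [f, Polynomial.finsetSum_coeff, Polynomial.coeff_monomial]
      rw [Finset.sum_ite_eq']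
    have hf : f ∈ (FiltBl.IdealFiltration.adic I).rees := by
      intro n
      rw [hfc]
      split_ifs
      · exact haI n
      · exact Ideal.zero_mem _
    refine ⟨AssocGr.mkG _ ⟨f, hf⟩, ?_⟩
    rw [AssocGr.map_mkG, ← sub_eq_zero, ← map_sub, AssocGr.mkG_eq_zero_iff,
      AssocGr.mem_succIdeal_iff]
    intro n
    rw [Subalgebra.coe_sub, Polynomial.coeff_sub, AssocGr.coe_reesMap, Polynomial.coeff_map]
    show algebraMap A (AdicCompletion I A) (f.coeff n) -
      (f' : Polynomial (AdicCompletion I A)).coeff n ∈ _
    rw [hfc]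
    split_ifs with h
    · exact ha n
    · rw [Polynomial.notMem_support_iff.1 h, map_zero, sub_zero]
      exact Ideal.zero_mem _

end Groth.Agent.S16453
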