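import Groth.Statements.S16456
import Groth.Agent.Lib.Helper6.AdicLift

set_option autoImplicit false
universe u
open AdicGr

namespace Groth.Agent.S16456

/-- Let φ : A → B be a ring homomorphism, I ⊆ A and J ⊆ B ideals with φ(I)B ⊆ J, so that φ is a
homomorphism of filtered rings for the I-adic and J-adic filtrations. Assume that A is I-adically
complete in the sense that every I-adically Cauchy sequence has a limit, that B is J-adically
separated, and that the induced homomorphism of associated graded rings ⊕ₙ Iⁿ/Iⁿ⁺¹ → ⊕ₙ Jⁿ/Jⁿ⁺¹ is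
surjective. Then φ is surjective, φ is strict (Jⁿ = φ(Iⁿ)B for all n, that is J = φ(I)B), and B is
J-adically separated and complete. (The published statement is for a homomorphism of filtered
modules over a filtered ring, with arbitrary compatible filtrations; this row is its case of a ring
homomorphism with adic filtrations.) -/
theorem result (A : Type u) [CommRing A] (B : Type u)
    [CommRing B] (φ : A →+* B) (I : Ideal A) (J : Ideal B) (hIJ : I.map φ ≤ J)
    [IsPrecomplete I A] [IsHausdorff J B]
    (h : Function.Surjective (AssocGr.map (AssocGr.IsFiltHom.adic hIJ))) :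
    Function.Surjective φ ∧ I.map φ = J ∧ IsAdicComplete J B := by
  have hdeg : ∀ n, ∀ b ∈ J ^ n, ∃ a ∈ I ^ n, b - φ a ∈ J ^ (n + 1) := by
    intro n b hb
    have hb' : b ∈ (FiltBl.IdealFiltration.adic J).F n := hb
    obtain ⟨g, hg⟩ := h (AssocGr.inDeg (FiltBl.IdealFiltration.adic J) n ⟨b, hb'⟩ :
      AssocGr.GrRing (FiltBl.IdealFiltration.adic J))
    obtain ⟨f, rfl⟩ := AssocGr.mkG_surjective _ g
    rw [AssocGr.map_mkG, AssocGr.coe_inDeg] at hg
    have h0 : AssocGr.mkG (FiltBl.IdealFiltration.adic J)
        ((AssocGr.monom (FiltBl.IdealFiltration.adic J) n ⟨b, hb'⟩ :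
          (FiltBl.IdealFiltration.adic J).rees) -
          AssocGr.reesMap (AssocGr.IsFiltHom.adic hIJ) f) = 0 := by
      rw [map_sub, hg, sub_self]
    rw [AssocGr.mkG_eq_zero_iff, AssocGr.mem_succIdeal_iff] at h0
    have h1 := h0 n
    rw [Subalgebra.coe_sub, Polynomial.coeff_sub, AssocGr.coe_coe_monom, AssocGr.coe_reesMap,
      Polynomial.coeff_map, Polynomial.coeff_monomial, if_pos rfl] at h1
    exact ⟨(f : Polynomial A).coeff n, f.2 n, h1⟩
  refine ⟨Groth.Agent.Lib.Helper6.AdicLift.surjective φ I J hIJ hdeg,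
    Groth.Agent.Lib.Helper6.AdicLift.map_eq φ I J hIJ hdeg, ?_⟩
  haveI := Groth.Agent.Lib.Helper6.AdicLift.isPrecomplete φ I J hIJ hdeg
  exact { }

end Groth.Agent.S16456
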