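import Groth.Statements.S16458
import Groth.Agent.Lib.Helper6.GrModApprox

set_option autoImplicit false
universe u
open AdicGr

namespace Groth.Agent.S16458

/-- Let A be a commutative ring and I an ideal such that every I-adically Cauchy sequence in A has a
limit, and let M be an A-module with an I-filtration M = N₀ ⊇ N₁ ⊇ … (I·Nₙ ⊆ Nₙ₊₁) which is
separated, ⋂ₙ Nₙ = 0. If the associated graded module gr(M) = ⊕ₙ Nₙ/Nₙ₊₁ is finitely generated as a
module over the associated graded ring ⊕ₙ Iⁿ/Iⁿ⁺¹, then M is a finitely generated A-module. (The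
published statement allows any complete filtered ring and also concludes that M is complete for its
filtration; this row takes the I-adic filtration on A and states the finiteness.) -/
theorem result (A : Type u) [CommRing A] (I : Ideal A)
    [IsPrecomplete I A] (M : Type u) [AddCommGroup M] [Module A M] (F : I.Filtration M)
    (h0 : F.N 0 = ⊤) (hsep : ⨅ n, F.N n = ⊥)
    [Module.Finite (AssocGr.GrRing (FiltBl.IdealFiltration.adic I)) (AssocGr.GrMod F)] :
    Module.Finite A M := by
  classical
  obtain ⟨S, hS⟩ := (Module.finite_def.1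
    ‹Module.Finite (AssocGr.GrRing (FiltBl.IdealFiltration.adic I)) (AssocGr.GrMod F)›)
  choose yrep hyrep using fun g : AssocGr.GrMod F => AssocGr.mkGM_surjective F g
  let supp : AssocGr.GrMod F → Finset ℕ := fun g =>
    ((AssocGr.toReesM F).symm (yrep g) : PolynomialModule A M).coeff.support
  let ι := (g : ↥S) × ↥(supp g.1)
  let d : ι → ℕ := fun i => i.2.1
  let x : (i : ι) → ↥(F.N (d i)) := fun i =>
    ⟨AssocGr.ReesM.coeff F (yrep i.1.1) i.2.1, AssocGr.ReesM.coeff_mem F _ _⟩
  have hgen : Submodule.span (AssocGr.GrRing (FiltBl.IdealFiltration.adic I))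
      (Set.range fun i => (AssocGr.inDegM F (d i) (x i) : AssocGr.GrMod F)) = ⊤ := by
    rw [eq_top_iff, ← hS, Submodule.span_le]
    intro g hg
    rw [SetLike.mem_coe, ← hyrep g, Groth.Agent.Lib.Helper6.GrModApprox.mkGM_eq_sum]
    refine Submodule.sum_mem _ fun n hn => ?_
    exact Submodule.subset_span ⟨⟨⟨g, hg⟩, ⟨n, hn⟩⟩, rfl⟩
  have hspan : Submodule.span A (Set.range fun i => ((x i : ↥(F.N (d i))) : M)) = ⊤ := by
    apply le_antisymm le_top
    refine Groth.Agent.Lib.Helper6.AdicLiftMod.le_span_of_approx I F hsep d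
      (fun i => ((x i : ↥(F.N (d i))) : M)) (fun i => (x i).2) ⊤ (fun i => Submodule.mem_top)
      (fun n y hy _ => ?_) h0
    exact Groth.Agent.Lib.Helper6.GrModApprox.approx_of_mem_span F d x n y hy
      (hgen ▸ Submodule.mem_top)
  rw [Module.finite_def, ← hspan]
  exact Submodule.fg_span (Set.finite_range _)

end Groth.Agent.S16458
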