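import Groth.Statements.S16459
import Groth.Agent.Lib.Helper6.GrModApprox

set_option autoImplicit false
universe u
open AdicGr

namespace Groth.Agent.S16459

/-- Let A be a commutative ring and I an ideal such that every I-adically Cauchy sequence in A has a
limit, and let M be an A-module with an I-filtration M = N₀ ⊇ N₁ ⊇ … (I·Nₙ ⊆ Nₙ₊₁) which is
separated, ⋂ₙ Nₙ = 0. If the associated graded module gr(M) = ⊕ₙ Nₙ/Nₙ₊₁ is a Noetherian module over
the associated graded ring ⊕ₙ Iⁿ/Iⁿ⁺¹, then M is a Noetherian A-module and every submodule M' of M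
is closed for the topology defined by the filtration, that is ⋂ₙ (M' + Nₙ) = M'. (The published
statement allows any complete filtered ring; this row takes the I-adic filtration on A.) -/
theorem result (A : Type u) [CommRing A]
    (I : Ideal A) [IsPrecomplete I A] (M : Type u) [AddCommGroup M] [Module A M] (F : I.Filtration M)
    (h0 : F.N 0 = ⊤) (hsep : ⨅ n, F.N n = ⊥)
    [IsNoetherian (AssocGr.GrRing (FiltBl.IdealFiltration.adic I)) (AssocGr.GrMod F)] :
    IsNoetherian A M ∧ ∀ M' : Submodule A M, ⨅ n, M' ⊔ F.N n = M' := by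
  classical
  have key : ∀ M' : Submodule A M, M'.FG ∧ ⨅ n, M' ⊔ F.N n = M' := by
    intro M'
    let G : Set (AssocGr.GrMod F) :=
      {ξ | ∃ (n : ℕ) (m : F.N n), (m : M) ∈ M' ∧ ξ = (AssocGr.inDegM F n m : AssocGr.GrMod F)}
    have hfg : (Submodule.span (AssocGr.GrRing (FiltBl.IdealFiltration.adic I)) G).FG :=
      IsNoetherian.noetherian _
    obtain ⟨S', hS'G, hS'⟩ := (Submodule.fg_span_iff_fg_span_finset_subset G).1 hfg
    have hch : ∀ i : ↥S', ∃ (n : ℕ) (m : F.N n), (m : M) ∈ M' ∧
        i.1 = (AssocGr.inDegM F n m : AssocGr.GrMod F) := fun i => hS'G i.2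
    choose d x hxM hxi using hch
    have hrange : (Set.range fun i : ↥S' => (AssocGr.inDegM F (d i) (x i) : AssocGr.GrMod F)) =
        (S' : Set (AssocGr.GrMod F)) := by
      ext ξ
      constructor
      · rintro ⟨i, rfl⟩
        show (AssocGr.inDegM F (d i) (x i) : AssocGr.GrMod F) ∈ (S' : Set (AssocGr.GrMod F))
        rw [← hxi i]
        exact i.2
      · intro hξ
        exact ⟨⟨ξ, hξ⟩, (hxi ⟨ξ, hξ⟩).symm⟩
    have happrox : ∀ n, ∀ y ∈ F.N n, y ∈ M' → ∃ a : ↥S' → A, (∀ i, a i ∈ I ^ (n - d i)) ∧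
        y - ∑ i, a i • ((x i : ↥(F.N (d i))) : M) ∈ F.N (n + 1) := by
      intro n y hy hyM
      refine Groth.Agent.Lib.Helper6.GrModApprox.approx_of_mem_span F d x n y hy ?_
      rw [hrange, ← hS']
      exact Submodule.subset_span ⟨n, ⟨y, hy⟩, hyM, rfl⟩
    constructor
    · have hle := Groth.Agent.Lib.Helper6.AdicLiftMod.le_span_of_approx I F hsep d
        (fun i => ((x i : ↥(F.N (d i))) : M)) (fun i => (x i).2) M' hxM happrox h0
      have heq : M' = Submodule.span A (Set.range fun i => ((x i : ↥(F.N (d i))) : M)) := by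
        apply le_antisymm hle
        rw [Submodule.span_le]
        rintro _ ⟨i, rfl⟩
        exact hxM i
      rw [heq]
      exact Submodule.fg_span (Set.finite_range _)
    · exact Groth.Agent.Lib.Helper6.AdicLiftMod.closed_of_approx I F hsep d
        (fun i => ((x i : ↥(F.N (d i))) : M)) (fun i => (x i).2) M' hxM happrox
  exact ⟨isNoetherian_def.2 fun M' => (key M').1, fun M' => (key M').2⟩

end Groth.Agent.S16459
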