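import Groth.Statements.S1646
import Mathlib
import Groth.Prelude.Def_StMod
import Groth.Agent.Lib.Lead.FBC3
import Groth.Agent.Lib.Lead.FpqcSh
import Groth.Agent.Lib.Helper1.GlobGen

set_option autoImplicit false
universe u
open CategoryTheory CategoryTheory.Limits AlgebraicGeometry
open Variety

namespace Groth.Agent.S1646

section
open CategoryTheory CategoryTheory.Limits AlgebraicGeometry
open Scheme.Modules Groth.Agent.Lead.BCU Groth.Agent.Lead.CIU Groth.Agent.Lead.FBC
open Groth.Agent.Helper1.GlobGen Opposite

theorem gg_pullback {X X' : Scheme.{u}} (q : X' ⟶ X) (F : X.Modules)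
    (hF : Curv2.IsGloballyGenerated F) :
    Curv2.IsGloballyGenerated ((Scheme.Modules.pullback q).obj F) := by
  obtain ⟨ι, p, hp⟩ := hF
  haveI := StMod.opensMap_final q
  have hE : Epi ((Scheme.Modules.pullback q).map p) :=
    @Functor.map_epi _ _ _ _ (Scheme.Modules.pullback q)
      (Functor.preservesEpimorphisms_of_adjunction (Scheme.Modules.pullbackPushforwardAdjunction q))
      _ _ p hp
  let e : (Scheme.Modules.pullback q).obj (SheafOfModules.free ι : X.Modules) ≅
      (SheafOfModules.free ι : X'.Modules) := SheafOfModules.pullbackObjFreeIso q.toRingCatSheafHom ι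
  have hE2 : Epi (e.inv ≫ (Scheme.Modules.pullback q).map p) := epi_comp _ _
  exact ⟨ι, e.inv ≫ (Scheme.Modules.pullback q).map p, hE2⟩

/-- a map killing all global sections kills `gen` -/
theorem gen_comp_eq_zero {X : Scheme.{u}} {M N : X.Modules} (k : M ⟶ N)
    (hk : ∀ t : Γ(M, ⊤), k.app ⊤ t = 0) : gen M ≫ k = 0 := by
  apply N.freeHomEquiv.injective
  ext1 t
  rw [SheafOfModules.freeHomEquiv_comp_apply, gen, Equiv.apply_symm_apply]
  apply sections_ext_top
  rw [sectionsMap_eval, secOfTop_eval_top, hk]
  rfl

/-- every global section is the image under `gen` of a section of the free module -/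
theorem exists_gen_app {X : Scheme.{u}} (M : X.Modules) (s : Γ(M, ⊤)) :
    ∃ e : Γ((SheafOfModules.free Γ(M, ⊤) : X.Modules), ⊤),
      Scheme.Modules.Hom.app (gen M) ⊤ e = s := by
  refine ⟨(SheafOfModules.freeSection (R := X.ringCatSheaf) s).1 (op ⊤), ?_⟩
  have h1 : SheafOfModules.sectionsMap (gen M) (SheafOfModules.freeSection s) = secOfTop M s := by
    rw [gen, SheafOfModules.sectionsMap_freeHomEquiv_symm_freeSection]
  have h2 := congrArg (fun σ : M.sections => σ.1 (op ⊤)) h1
  simp only [sectionsMap_eval, secOfTop_eval_top] at h2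
  exact h2

theorem exists_gen_app' {X : Scheme.{u}} (M : X.Modules) {O : X.Opens} (hO : ⊤ ≤ O)
    (s : Γ(M, O)) :
    ∃ e : Γ((SheafOfModules.free Γ(M, ⊤) : X.Modules), O),
      Scheme.Modules.Hom.app (gen M) O e = s := by
  obtain rfl : O = ⊤ := top_le_iff.1 hO
  exact exists_gen_app M s

theorem app_add_zero {Z : Scheme.{u}} {M N : Z.Modules} (k : M ⟶ N) (O : Z.Opens)
    (a b : Γ(M, O)) (ha : k.app O a = 0) (hb : k.app O b = 0) : k.app O (a + b) = 0 := by
  rw [map_add, ha, hb, add_zero]

theorem app_smul_zero {Z : Scheme.{u}} {M N : Z.Modules} (k : M ⟶ N) (O : Z.Opens)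
    (r : Γ(Z, O)) (a : Γ(M, O)) (ha : k.app O a = 0) : k.app O (r • a) = 0 := by
  rw [Scheme.Modules.Hom.app_smul, ha, smul_zero]

theorem app_unitRes_zero {X X' : Scheme.{u}} (q : X' ⟶ X) {F₁ F : X.Modules} (χ : F₁ ⟶ F)
    {N : X'.Modules} (k : (Scheme.Modules.pullback q).obj F ⟶ N)
    (hk : (Scheme.Modules.pullback q).map χ ≫ k = 0) {W : X.Opens} {W' : X'.Opens}
    (e' : W' ≤ q ⁻¹ᵁ W) (e : Γ(F₁, W)) : k.app W' (unitRes q F e' (χ.app W e)) = 0 := by
  rw [← Groth.Agent.Lead.LimZ.unitRes_naturality]
  have h1 := congrArg (fun φ => Scheme.Modules.Hom.app φ W') hk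
  exact ConcreteCategory.congr_hom h1 (unitRes q F₁ e' e)

theorem main (A A' : Type u) [CommRing A] [CommRing A'] [Algebra A A']
    [Module.FaithfullyFlat A A'] (X : Scheme.{u}) (f : X ⟶ Spec (CommRingCat.of A)) [QuasiCompact f] [QuasiSeparated f]
    (F : X.Modules) (hF : Coh.IsQCoh F) :
    Curv2.IsGloballyGenerated F ↔ Curv2.IsGloballyGenerated
      ((Scheme.Modules.pullback (pullback.fst f (Spec.map (CommRingCat.ofHom (algebraMap A A'))))).obj F) := by
  haveI : F.IsQuasicoherent := hF
  constructor
  · exact gg_pullback _ F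
  · intro hgg
    set gA := Spec.map (CommRingCat.ofHom (algebraMap A A')) with hgA
    have hff : (CommRingCat.ofHom (algebraMap A A')).hom.FaithfullyFlat :=
      RingHom.faithfullyFlat_algebraMap_iff.2 inferInstance
    obtain ⟨hfl, hsurj⟩ := (flat_and_surjective_SpecMap_iff _).2 hff
    haveI : Flat gA := hfl
    haveI : Surjective gA := hsurj
    set q := pullback.fst f gA with hq
    set f' := pullback.snd f gA with hf'
    have h : IsPullback q f' f gA := IsPullback.of_hasPullback f gA
    haveI : Flat q := inferInstance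
    haveI : Surjective q := inferInstance
    rw [isGloballyGenerated_iff] at hgg ⊢
    apply Groth.Agent.Lead.FpqcSh.epi_of_flatLocally
    intro y
    obtain ⟨x, hx⟩ := q.surjective y
    refine ⟨_, q, inferInstance, ⟨x, hx⟩, ?_⟩
    -- the pullback of `gen F` is an epimorphism
    haveI : (Scheme.Modules.pullback q).IsLeftAdjoint :=
      (Scheme.Modules.pullbackPushforwardAdjunction q).isLeftAdjoint
    have hV : IsAffineOpen (⊤ : (Spec (CommRingCat.of A)).Opens) := isAffineOpen_top _
    have hV' : IsAffineOpen (⊤ : (Spec (CommRingCat.of A')).Opens) := isAffineOpen_top _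
    have hz : gen ((Scheme.Modules.pullback q).obj F) ≫
        cokernel.π ((Scheme.Modules.pullback q).map (gen F)) = 0 := by
      apply gen_comp_eq_zero
      refine section_induction f gA q f' h F hV hV' le_top
        (fun t => (cokernel.π ((Scheme.Modules.pullback q).map (gen F))).app ⊤ t = 0)
        (map_zero _) ?_ ?_ ?_
      · intro a b ha hb
        exact app_add_zero _ ⊤ a b ha hb
      · intro r a ha
        exact app_smul_zero _ ⊤ r a ha
      · intro s
        obtain ⟨e, he⟩ := exists_gen_app' F (O := f ⁻¹ᵁ ⊤) (fun x _ => trivial) s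
        have := app_unitRes_zero q (gen F) (cokernel.π ((Scheme.Modules.pullback q).map (gen F)))
          (cokernel.condition _) (preimage_le f gA q f' h (le_top : (⊤ : (Spec (CommRingCat.of A')).Opens) ≤ gA ⁻¹ᵁ ⊤)) e
        rw [he] at this
        exact this
    have hπ : cokernel.π ((Scheme.Modules.pullback q).map (gen F)) = 0 := by
      haveI := hgg
      exact (cancel_epi (gen ((Scheme.Modules.pullback q).obj F))).1 (hz.trans comp_zero.symm)
    exact Preadditive.epi_of_cokernel_zero hπ


end


/-- Let A → A' be a faithfully flat ring map, f : X → Spec A a quasi-compact and quasi-separated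
morphism, and F a quasi-coherent O_X-module. F is generated by its global sections exactly when its
pullback to X ×_{Spec A} Spec A' is generated by its global sections. (Quasi-compactness and
quasi-separatedness of f are assumed here on top of the published hypotheses.) -/
theorem result (A A' : Type u) [CommRing A] [CommRing A'] [Algebra A A']
    [Module.FaithfullyFlat A A'] (X : Scheme.{u}) (f : X ⟶ Spec (CommRingCat.of A)) [QuasiCompact f] [QuasiSeparated f]
    (F : X.Modules) (hF : Coh.IsQCoh F) :
    Curv2.IsGloballyGenerated F ↔ Curv2.IsGloballyGenerated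
      ((Scheme.Modules.pullback (pullback.fst f (Spec.map (CommRingCat.ofHom (algebraMap A A'))))).obj F) := by
  classical
  exact main A A' X f F hF

end Groth.Agent.S1646
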