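import Groth.Statements.S16460
-- import your own Groth.Agent.* helpers here

set_option autoImplicit false
universe u
open AdicGr

namespace Groth.Agent.S16460

/-- Let A be a commutative ring with a decreasing filtration by ideals A = F₀ ⊇ F₁ ⊇ F₂ ⊇ … satisfying
F_m·F_n ⊆ F_{m+n}, and assume the filtration is separated, ⋂ₙ Fₙ = 0. If the associated graded ring
⊕ₙ Fₙ/Fₙ₊₁ is an integral domain, then A is an integral domain. -/
theorem result (A : Type u) [CommRing A]
    (𝓕 : FiltBl.IdealFiltration A) (hsep : ⨅ n, 𝓕.F n = ⊥) [IsDomain (AssocGr.GrRing 𝓕)] :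
    IsDomain A := by
  -- every nonzero element has an "order"
  have order : ∀ a : A, a ≠ 0 → ∃ m : ℕ, a ∈ 𝓕.F m ∧ a ∉ 𝓕.F (m + 1) := by
    intro a ha
    by_contra hcon
    push Not at hcon
    have hall : ∀ n, a ∈ 𝓕.F n := by
      intro n
      induction n with
      | zero => rw [𝓕.zero_eq]; trivial
      | succ n ih => exact hcon n ih
    have : a ∈ ⨅ n, 𝓕.F n := by
      rw [Ideal.mem_iInf]; exact hall
    rw [hsep] at this
    exact ha this
  have hnt : Nontrivial A := by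
    by_contra hA
    rw [not_nontrivial_iff_subsingleton] at hA
    have h01 : (0 : AssocGr.GrRing 𝓕) = 1 := by
      have e1 := AssocGr.algebraMap_eq 𝓕 (1 : A)
      have e0 := AssocGr.algebraMap_eq 𝓕 (0 : A)
      rw [map_one] at e1
      rw [map_zero] at e0
      rw [e1, e0]
      congr 2
      exact Subsingleton.elim _ _
    exact zero_ne_one h01
  have hnzd : NoZeroDivisors A := by
    refine ⟨?_⟩
    intro a b hab
    by_contra hcon
    push Not at hcon
    obtain ⟨ha, hb⟩ := hcon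
    obtain ⟨m, hm1, hm2⟩ := order a ha
    obtain ⟨n, hn1, hn2⟩ := order b hb
    have h1 : AssocGr.inDeg 𝓕 m ⟨a, hm1⟩ ≠ 0 := by
      rw [Ne, AssocGr.inDeg_eq_zero_iff]; exact hm2
    have h2 : AssocGr.inDeg 𝓕 n ⟨b, hn1⟩ ≠ 0 := by
      rw [Ne, AssocGr.inDeg_eq_zero_iff]; exact hn2
    have h1' : (AssocGr.inDeg 𝓕 m ⟨a, hm1⟩ : AssocGr.GrRing 𝓕) ≠ 0 := by
      intro h; exact h1 (Subtype.ext h)
    have h2' : (AssocGr.inDeg 𝓕 n ⟨b, hn1⟩ : AssocGr.GrRing 𝓕) ≠ 0 := by
      intro h; exact h2 (Subtype.ext h)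
    have h3 := mul_ne_zero h1' h2'
    rw [AssocGr.coe_inDeg_mul] at h3
    apply h3
    have : AssocGr.inDeg 𝓕 (m + n) ⟨a * b, 𝓕.mul_le m n (Ideal.mul_mem_mul hm1 hn1)⟩ = 0 := by
      rw [AssocGr.inDeg_eq_zero_iff]
      change a * b ∈ 𝓕.F (m + n + 1)
      rw [hab]
      exact Ideal.zero_mem _
    rw [this]
    rfl
  exact NoZeroDivisors.to_isDomain A

end Groth.Agent.S16460
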