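import Groth.Statements.S5971
import Mathlib
import Groth.Agent.Lib.Lead.PP5
import Groth.Agent.Lib.Lead.LimZ4

set_option autoImplicit false
universe u
open CategoryTheory CategoryTheory.Limits AlgebraicGeometry TopologicalSpace Opposite
open Nrm16

namespace Groth.Agent.S5971

section
open CategoryTheory CategoryTheory.Limits AlgebraicGeometry TopologicalSpace Opposite

open PrinPart OmegaSh Groth.Agent.Lead.PP

/-- finite presentation through a tower of rings acting compatibly -/
theorem fp_of_tower {A B N : Type*} [CommRing A] [CommRing B] [AddCommGroup N] [Module A N]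
    [Module B N] (φ : A →+* B) (hφ : φ.Finite) (hφ' : φ.FinitePresentation)
    (hcompat : ∀ (a : A) (x : N), a • x = φ a • x)
    (hN : Module.FinitePresentation B N) : Module.FinitePresentation A N := by
  let _ := φ.toAlgebra
  have : IsScalarTower A B N := ⟨fun a b x => by
    rw [Algebra.smul_def, mul_smul, hcompat]
    rfl⟩
  have : Module.Finite A B := hφ
  have : Algebra.FinitePresentation A B := hφ'
  have : Module.FinitePresentation A B := Module.FinitePresentation.of_finite_of_finitePresentation A B
  exact Module.FinitePresentation.trans A N B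

theorem main {X S : Scheme.{u}} (f : X ⟶ S) [LocallyOfFinitePresentation f] (n : ℕ)
    (F : X.Modules) (hF : CohB1.IsFP F) :
    CohB1.IsFP (PrinPart.PMod f n F) := by
  have : SheafOfModules.IsFinitePresentation (R := X.ringCatSheaf) F := hF
  have : F.IsQuasicoherent := inferInstance
  have hq : (PMod f n F).IsQuasicoherent := isQCoh_PMod f n F inferInstance
  rw [Groth.Agent.Lead.FP.isFP_iff_affineOpens]
  intro U hU
  have hO : IsAffineOpen (pr1 f n ⁻¹ᵁ U) := hU.preimage (pr1 f n)
  have hN : CohB1.IsFP ((Scheme.Modules.pullback (pr2 f n)).obj F) :=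
    Groth.Agent.Lead.LimZ.isFP_pullback (pr2 f n) F hF
  have h1 : Module.FinitePresentation Γ(nbhd f n, pr1 f n ⁻¹ᵁ U)
      Γ((Scheme.Modules.pullback (pr2 f n)).obj F, pr1 f n ⁻¹ᵁ U) :=
    Groth.Agent.Lead.FP.fp_sections_of_isFP _ hN hO
  have hφ : ((pr1 f n).app U).hom.Finite := IsFinite.finite_app (pr1 f n) U hU
  have hφ' : ((pr1 f n).app U).hom.FinitePresentation := by
    have := HasRingHomProperty.appLE (P := @LocallyOfFinitePresentation) (pr1 f n) inferInstance
      ⟨U, hU⟩ ⟨pr1 f n ⁻¹ᵁ U, hO⟩ le_rfl
    rw [Scheme.Hom.appLE_eq_app] at this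
    exact this
  letI instA : Module Γ(X, U) Γ((Scheme.Modules.pullback (pr2 f n)).obj F, pr1 f n ⁻¹ᵁ U) :=
    Module.compHom _ ((pr1 f n).app U).hom
  have h2 : Module.FinitePresentation Γ(X, U)
      Γ((Scheme.Modules.pullback (pr2 f n)).obj F, pr1 f n ⁻¹ᵁ U) :=
    fp_of_tower ((pr1 f n).app U).hom hφ hφ' (fun a x => rfl) h1
  let L : Γ((Scheme.Modules.pullback (pr2 f n)).obj F, pr1 f n ⁻¹ᵁ U) ≃ₗ[Γ(X, U)]
      Γ(PMod f n F, U) :=
    { toFun := fun x => x
      invFun := fun x => x
      left_inv := fun _ => rfl
      right_inv := fun _ => rfl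
      map_add' := fun _ _ => rfl
      map_smul' := fun a x => rfl }
  exact Module.FinitePresentation.of_equiv L


end


/-- Let f : X ⟶ S be a morphism locally of finite presentation, n a natural number and F a
quasi-coherent O_X-module of finite presentation. Then the sheaf of principal parts P^n_{X/S}(F),
with its left O_X-module structure, is of finite presentation. (The published statement asserts this
for either of the two O_X-module structures of P^n_{X/S}(F); this row states it for the left
structure, the one the sheaf of principal parts carries here.) -/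
theorem result {X S : Scheme.{u}} (f : X ⟶ S) [LocallyOfFinitePresentation f] (n : ℕ)
    (F : X.Modules) (hF : CohB1.IsFP F) :
    CohB1.IsFP (PrinPart.PMod f n F) := by
  classical
  exact main f n F hF

end Groth.Agent.S5971
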