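import Groth.Statements.S16500
import Mathlib.Data.Nat.Prime.Basic
import Mathlib.Tactic.Ring
import Mathlib.Tactic.Linarith

set_option autoImplicit false
universe u
open Curves

namespace Groth.Agent.S16500

theorem reflect_pow_aux {R : Type u} [CommSemiring R] (f : Polynomial R) (N : ℕ)
    (hf : f.natDegree ≤ N) (k : ℕ) :
    Polynomial.reflect (N * k) (f ^ k) = (Polynomial.reflect N f) ^ k := by
  induction k with
  | zero =>
    rw [pow_zero, pow_zero, Nat.mul_zero, ← Polynomial.C_1, Polynomial.reflect_C]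
    simp
  | succ k ih =>
    rw [pow_succ, pow_succ, Nat.mul_succ,
      Polynomial.reflect_mul (f ^ k) f
        (by rw [Nat.mul_comm]; exact Polynomial.natDegree_pow_le_of_le k hf) hf, ih]

/-- Let k be a field of odd characteristic p, g ≤ p a natural number and f ∈ k[x] of degree at most 2g +
2. Let F be f with its coefficients reversed in degrees 0, …, 2g + 2, i.e. F(X) = X^(2g+2) f(1/X)
(Mathlib's reflect (2g+2) f), and write f^((p-1)/2) = Σ_l c_l x^l and F^((p-1)/2) = Σ_l C_l X^l.
Then C_{ip-j} = c_{(g+1-i)p-(g+1-j)} for all i, j = 1, …, g; that is, the g × g Cartier–Manin matrix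
of F is that of f with the order of both rows and columns reversed (below the indices run over Fin
g, the entry at (i, j) being the coefficient of degree (i+1)p-(j+1), and reversal is Fin.rev). In
particular the two matrices have the same determinant. (The source applies this to f with f(0) = 0,
separable of degree 2g + 2 over a perfect field, so that F has odd degree 2g + 1; the identity uses
none of that.) -/
theorem result (k : Type u) [Field k] (p : ℕ) [Fact p.Prime] (hp : p ≠ 2) [CharP k p]
    (g : ℕ) (hg : g ≤ p) (f : Polynomial k) (hf : f.natDegree ≤ 2 * g + 2) :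
    (Matrix.of fun i j : Fin g =>
        ((Polynomial.reflect (2 * g + 2) f) ^ ((p - 1) / 2)).coeff (((i : ℕ) + 1) * p - ((j : ℕ) + 1))) =
      Matrix.of fun i j : Fin g =>
        (f ^ ((p - 1) / 2)).coeff (((Fin.rev i : ℕ) + 1) * p - ((Fin.rev j : ℕ) + 1)) := by
  ext i j
  simp only [Matrix.of_apply]
  rw [← reflect_pow_aux f (2 * g + 2) hf, Polynomial.coeff_reflect]
  have hp2 : (p - 1) / 2 * 2 = p - 1 := by
    rcases Nat.Prime.eq_two_or_odd' (Fact.out : p.Prime) with h | h
    · exact absurd h hp
    · obtain ⟨m, hm⟩ := h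
      omega
  have hi := i.isLt
  have hj := j.isLt
  have hNK : (2 * g + 2) * ((p - 1) / 2) = g * p + p - g - 1 := by
    have h1 : (2 * g + 2) * ((p - 1) / 2) = (g + 1) * ((p - 1) / 2 * 2) := by ring
    rw [h1, hp2]
    have hp1 : 1 ≤ p := (Fact.out : p.Prime).one_lt.le
    obtain ⟨q, rfl⟩ : ∃ q, p = q + 1 := ⟨p - 1, by omega⟩
    simp only [Nat.add_sub_cancel]
    have : (g + 1) * q = g * (q + 1) + (q + 1) - g - 1 := by
      have h2 : g * (q + 1) = g * q + g := by ring
      have h3 : (g + 1) * q = g * q + q := by ring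
      omega
    exact this
  have hip : (i : ℕ) * p + p ≤ g * p := by
    have : ((i : ℕ) + 1) * p ≤ g * p := Nat.mul_le_mul_right p hi
    have h2 : ((i : ℕ) + 1) * p = (i : ℕ) * p + p := by ring
    omega
  have ha : ((i : ℕ) + 1) * p - ((j : ℕ) + 1) ≤ (2 * g + 2) * ((p - 1) / 2) := by
    have h2 : ((i : ℕ) + 1) * p = (i : ℕ) * p + p := by ring
    rw [hNK, h2]
    omega
  rw [Polynomial.revAt_le ha]
  congr 1
  rw [Fin.val_rev, Fin.val_rev, hNK]
  have h2 : ((i : ℕ) + 1) * p = (i : ℕ) * p + p := by ring
  have h3 : (g - ((i : ℕ) + 1) + 1) * p = g * p - (i : ℕ) * p := by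
    have : g - ((i : ℕ) + 1) + 1 = g - (i : ℕ) := by omega
    rw [this, Nat.sub_mul]
  rw [h2, h3]
  omega

end Groth.Agent.S16500
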