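import Groth.Statements.S16517
import Groth.Agent.Lib.Helper2.Gor.FlatLink
import Groth.Agent.Lib.Helper8.GorFlat4


set_option autoImplicit false
universe u
open CAlg

namespace Groth.Agent.S16517

/-- Let R be a regular local ring, A a Gorenstein local ring which is a flat R-algebra through a local
homomorphism, I ⊂ A an ideal of codimension zero (the Krull dimension of A/I equals that of A) with
A/I Cohen–Macaulay, and J = (0 : I) the annihilator of I in A (the ideal of the residual subscheme).
Then A/I and A/J are flat over R. -/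
theorem result (R A : Type u)
    [CommRing R] [IsRegularLocalRing R] [CommRing A] [Algebra R A] [LocCoh.IsGorensteinLocalRing A]
    [IsLocalHom (algebraMap R A)] [Module.Flat R A] (I : Ideal A)
    (hI : ringKrullDim (A ⧸ I) = ringKrullDim A) [LocCoh.IsCohenMacaulayLocalRing (A ⧸ I)] :
    Module.Flat R (A ⧸ I) ∧ Module.Flat R (A ⧸ (Submodule.annihilator I)) := by
  haveI hCM : LocCoh.IsCohenMacaulayLocalRing A :=
    Groth.Agent.Helper8.Goren.isCohenMacaulayLocalRing_of_isGorensteinLocalRing A
  obtain ⟨n, hn⟩ := Groth.Agent.Helper8.GorFlat.exists_dim_eq (R := A)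
  have hd : (n : ℕ∞) ≤ LocCoh.depth A (A ⧸ I) :=
    Groth.Agent.Helper2.Gor.le_depth_quotient_of_isCohenMacaulayLocalRing A I n (hI.trans hn)
  refine ⟨Groth.Agent.Helper2.Gor.flat_quotient_of_le_depth R A n hn I hd,
    Groth.Agent.Helper2.Gor.flat_quotient_of_le_depth R A n hn _ ?_⟩
  exact Groth.Agent.Helper2.Gor.le_depth_quotient_colon A n hn I _ Submodule.bot_colon hd

end Groth.Agent.S16517
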