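import Groth.Statements.S16519
import Mathlib

set_option autoImplicit false
open CubicSurf

namespace Groth.Agent.S16519

section


def Ψ (x : Fin 5 × (Fin 6 → Fin 3)) : ℤ × (Fin 6 → ℤ) :=
  ((x.1.val : ℤ) + 1, fun i => ((x.2 i).val : ℤ))

theorem Ψ_inj : Function.Injective Ψ := by
  intro x y h
  simp only [Ψ, Prod.mk.injEq] at h
  obtain ⟨h1, h2⟩ := h
  apply Prod.ext
  · apply Fin.ext
    omega
  · funext i
    apply Fin.ext
    have := congrFun h2 i
    omega

theorem cnt : (Finset.univ.filter fun x : Fin 5 × (Fin 6 → Fin 3) =>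
    3 * ((x.1.val : ℤ) + 1) - (Finset.univ.sum fun i => ((x.2 i).val : ℤ)) = 3 ∧
    ((x.1.val : ℤ) + 1) ^ 2 - (Finset.univ.sum fun i => ((x.2 i).val : ℤ) ^ 2) = 1).card = 72 := by
  decide +kernel

theorem bounds (a : ℤ) (b : Fin 6 → ℤ)
    (h1 : 3 * a - (Finset.univ.sum fun i => b i) = 3)
    (h2 : a ^ 2 - (Finset.univ.sum fun i => b i ^ 2) = 1) :
    (1 ≤ a ∧ a ≤ 5) ∧ ∀ j, 0 ≤ b j ∧ b j ≤ 2 := by
  have hcs := sq_sum_le_card_mul_sum_sq (s := (Finset.univ : Finset (Fin 6))) (f := b)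
  simp only [Finset.card_univ, Fintype.card_fin] at hcs
  have hs1 : (Finset.univ.sum fun i => b i) = 3 * a - 3 := by linarith
  have hs2 : (Finset.univ.sum fun i => b i ^ 2) = a ^ 2 - 1 := by linarith
  rw [hs1, hs2] at hcs
  have ha : 1 ≤ a ∧ a ≤ 5 := by
    push_cast at hcs
    constructor <;> nlinarith
  refine ⟨ha, ?_⟩
  obtain ⟨ha1, ha5⟩ := ha
  -- general lemma: sum of (b i - c) * (b i - d)
  have hsum : ∀ c d : ℤ, (Finset.univ.sum fun i => (b i - c) * (b i - d))
      = (a ^ 2 - 1) - (c + d) * (3 * a - 3) + 6 * (c * d) := by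
    intro c d
    have : ∀ i, (b i - c) * (b i - d) = b i ^ 2 - (c + d) * b i + c * d := by
      intro i; ring
    simp_rw [this]
    rw [Finset.sum_add_distrib, Finset.sum_sub_distrib, ← Finset.mul_sum, hs1, hs2]
    simp
  have hzero : ∀ c d : ℤ, (d = c ∨ d = c + 1) →
      (a ^ 2 - 1) - (c + d) * (3 * a - 3) + 6 * (c * d) = 0 → ∀ j, b j = c ∨ b j = d := by
    intro c d hcd h0 j
    have hnn : ∀ i ∈ (Finset.univ : Finset (Fin 6)), 0 ≤ (b i - c) * (b i - d) := by
      intro i _
      rcases hcd with rfl | rfl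
      · nlinarith [sq_nonneg (b i - d)]
      · rcases le_or_gt (b i) c with h | h
        · nlinarith
        · have : c + 1 ≤ b i := h
          nlinarith
    have hs := hsum c d
    rw [h0] at hs
    have := (Finset.sum_eq_zero_iff_of_nonneg hnn).1 hs j (Finset.mem_univ j)
    rcases mul_eq_zero.1 this with h | h
    · left; linarith
    · right; linarith
  intro j
  have hcases : a = 1 ∨ a = 2 ∨ a = 3 ∨ a = 4 ∨ a = 5 := by omega
  rcases hcases with rfl | rfl | rfl | rfl | rfl
  · rcases hzero 0 0 (Or.inl rfl) (by norm_num) j with h | h <;> omega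
  · rcases hzero 0 1 (Or.inr (by norm_num)) (by norm_num) j with h | h <;> omega
  · have hs := hsum 1 1
    have hnn : ∀ i ∈ (Finset.univ : Finset (Fin 6)), 0 ≤ (b i - 1) * (b i - 1) := by
      intro i _; nlinarith [sq_nonneg (b i - 1)]
    have hle := Finset.single_le_sum hnn (Finset.mem_univ j)
    rw [hs] at hle
    norm_num at hle
    constructor <;> nlinarith
  · rcases hzero 1 2 (Or.inr (by norm_num)) (by norm_num) j with h | h <;> omega
  · rcases hzero 2 2 (Or.inl rfl) (by norm_num) j with h | h <;> omega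

theorem main :
    {p : ℤ × (Fin 6 → ℤ) | 3 * p.1 - (Finset.univ.sum fun i => p.2 i) = 3 ∧
        p.1 ^ 2 - (Finset.univ.sum fun i => p.2 i ^ 2) = 1}.ncard = 72 := by
  have hset : {p : ℤ × (Fin 6 → ℤ) | 3 * p.1 - (Finset.univ.sum fun i => p.2 i) = 3 ∧
        p.1 ^ 2 - (Finset.univ.sum fun i => p.2 i ^ 2) = 1} =
      Ψ '' (↑(Finset.univ.filter fun x : Fin 5 × (Fin 6 → Fin 3) =>
        3 * ((x.1.val : ℤ) + 1) - (Finset.univ.sum fun i => ((x.2 i).val : ℤ)) = 3 ∧
        ((x.1.val : ℤ) + 1) ^ 2 - (Finset.univ.sum fun i => ((x.2 i).val : ℤ) ^ 2) = 1) :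
        Set (Fin 5 × (Fin 6 → Fin 3))) := by
    ext p
    constructor
    · rintro ⟨h1, h2⟩
      obtain ⟨a, b⟩ := p
      simp only at h1 h2
      obtain ⟨⟨ha1, ha5⟩, hb⟩ := bounds a b h1 h2
      refine ⟨(⟨(a - 1).toNat, by omega⟩, fun i => ⟨(b i).toNat, by have := hb i; omega⟩), ?_, ?_⟩
      · simp only [Finset.coe_filter, Finset.mem_univ, true_and, Set.mem_ofPred_eq]
        have e1 : (((a - 1).toNat : ℕ) : ℤ) + 1 = a := by omega
        have e2 : ∀ i, (((b i).toNat : ℕ) : ℤ) = b i := by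
          intro i; have := hb i; omega
        simp only [e1, e2]
        exact ⟨h1, h2⟩
      · simp only [Ψ]
        apply Prod.ext
        · simp only; omega
        · funext i
          have := hb i
          simp only
          omega
    · rintro ⟨x, hx, rfl⟩
      simp only [Finset.coe_filter, Finset.mem_univ, true_and, Set.mem_ofPred_eq] at hx
      exact hx
  rw [hset, Set.ncard_image_of_injective _ Ψ_inj, Set.ncard_coe_finset]
  exact cnt


end


/-- On a smooth cubic surface there are exactly 72 divisor classes L with L² = 1 and L · K = −3. Stated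
in the lattice ℤ^{1,6} with basis l, e_1, …, e_6 (l² = 1, e_i² = −1, K = −3l + Σ e_i): the integer
vectors (a, b) ∈ ℤ × ℤ^6, standing for a·l − Σ b_i e_i, with 3a − Σ b_i = 3 and a² − Σ b_i² = 1 form
a set of exactly 72 elements. -/
theorem result :
    {p : ℤ × (Fin 6 → ℤ) | 3 * p.1 - (Finset.univ.sum fun i => p.2 i) = 3 ∧
        p.1 ^ 2 - (Finset.univ.sum fun i => p.2 i ^ 2) = 1}.ncard = 72 := by
  classical
  exact main

end Groth.Agent.S16519
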