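import Groth.Statements.S1652
import Mathlib
import Groth.Agent.Lib.Helper1.Curve1
import Groth.Agent.Lib.Helper1.Euler5

set_option autoImplicit false
universe u
open CategoryTheory CategoryTheory.Limits AlgebraicGeometry
open Variety

namespace Groth.Agent.S1652

/-- On a proper curve over a field, if L and M are invertible modules with L ⊗ M ≅ O_X and both L and M
have a nonzero global section, then L is isomorphic to the structure sheaf. -/
theorem result (k : Type u) [Field k] (X : Scheme.{u}) [X.Over (Spec (CommRingCat.of k))]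
    [IsIntegral X] [IsProper (X ↘ (Spec (CommRingCat.of k)))] (hdim : topologicalKrullDim X = 1)
    (L M : X.Modules) (hL : PicF.IsInvertible L) (hM : PicF.IsInvertible M) (hLM : ClSub.IsInverseOf L M)
    (s : Coh.structureModule X ⟶ L) (hs : s ≠ 0) (t : Coh.structureModule X ⟶ M) (ht : t ≠ 0) :
    Nonempty (L ≅ Coh.structureModule X) := by
  obtain ⟨e⟩ := hLM
  have h1 := Groth.Agent.Helper1.Euler.deg_tensor_locFree k X hdim.le 1 1 L M
    (Groth.Agent.Helper1.Curve.isFinLocFreeOfRank_one hL)
    (Groth.Agent.Helper1.Curve.isFinLocFreeOfRank_one hM)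
  have h2 := Groth.Agent.Helper1.Curve.deg_nonneg_of_section k X hdim hL s hs
  have h3 := Groth.Agent.Helper1.Curve.deg_nonneg_of_section k X hdim hM t ht
  have e2 := Groth.Agent.Helper1.Euler.euler_iso k X e
  apply Groth.Agent.Helper1.Curve.iso_of_deg_nonpos_of_section k X hdim hL s hs
  unfold Curv2.deg at h1 h2 h3 ⊢
  push_cast at h1 h2 h3 ⊢
  linarith

end Groth.Agent.S1652
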