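import Groth.Statements.S16536
import Mathlib

set_option autoImplicit false
universe u v
open Disp

namespace Groth.Agent.S16536

namespace H16536
open W4c1extbt610 Dieu

variable {p : ℕ} [Fact p.Prime] {R : Type u} [CommRing R]
variable {P : Type v} [AddCommGroup P] [Module (WittVector p R) P]

theorem F_eq (D : Display3n p R P) (x : P) :
    D.F x = D.Vinv ⟨WittVector.verschiebung (1 : WittVector p R) • x,
      D.IV_smul_le (Submodule.smul_mem_smul (verschiebung_mem_IV p R 1) Submodule.mem_top)⟩ := by
  rw [D.Vinv_verschiebung_smul, one_smul]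

theorem F_Q (D : Display3n p R P) (y : D.Q) : D.F (y : P) = (p : WittVector p R) • D.Vinv y := by
  rw [F_eq]
  have : (⟨WittVector.verschiebung (1 : WittVector p R) • (y : P),
      D.IV_smul_le (Submodule.smul_mem_smul (verschiebung_mem_IV p R 1) Submodule.mem_top)⟩ : D.Q)
      = WittVector.verschiebung (1 : WittVector p R) • y := Subtype.ext rfl
  rw [this, LinearMap.map_smulₛₗ, WittVector.frobenius_verschiebung, one_mul]

theorem main (D : W4c1extbt610.Display3n p R P)
    (Vs : P →ₗ[WittVector p R] Dieu.BC (WittVector.frobenius : WittVector p R →+* WittVector p R) P) (hVs : Dieu.IsVSharp D Vs) :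
    (Dieu.BC.lift (WittVector.frobenius : WittVector p R →+* WittVector p R) D.F).comp Vs = (p : WittVector p R) • LinearMap.id ∧
      Vs.comp (Dieu.BC.lift (WittVector.frobenius : WittVector p R →+* WittVector p R) D.F) = (p : WittVector p R) • LinearMap.id := by
  constructor
  · apply LinearMap.ext_on D.span_range_Vinv
    rintro _ ⟨y, rfl⟩
    have h1 := hVs.app_smul_Vinv 1 y
    rw [one_smul] at h1
    rw [LinearMap.comp_apply, h1, BC.lift_tmul, one_smul, F_Q]
    rfl
  · apply BC.ext
    intro x
    have h1 := hVs.app_smul_F 1 x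
    rw [one_smul] at h1
    rw [LinearMap.comp_apply, BC.lift_tmul, one_smul, h1]
    rfl
end H16536

/-- Let p be a prime and R a commutative ring in which every prime number other than p is a unit; write
W = W(R) with Frobenius σ, let (P, Q, F, V⁻¹) be a 3n-display over R, and let V# : P → W ⊗_{σ,W} P
be a W-linear map with V#(w·F x) = p·(w ⊗ x) for w ∈ W, x ∈ P and V#(w·V⁻¹ y) = w ⊗ y for w ∈ W, y ∈
Q. Write F# : W ⊗_{σ,W} P → P for the linearisation of F, w ⊗ x ↦ w·F x. Then F# ∘ V# = p·id on P
and V# ∘ F# = p·id on W ⊗_{σ,W} P. -/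
theorem result (p : ℕ) [Fact p.Prime]
    (R : Type u) [CommRing R] (hR : ∀ ℓ : ℕ, ℓ.Prime → ℓ ≠ p → IsUnit (ℓ : R))
    (P : Type v) [AddCommGroup P] [Module (WittVector p R) P] (D : W4c1extbt610.Display3n p R P)
    (Vs : P →ₗ[WittVector p R] Dieu.BC (WittVector.frobenius : WittVector p R →+* WittVector p R) P) (hVs : Dieu.IsVSharp D Vs) :
    (Dieu.BC.lift (WittVector.frobenius : WittVector p R →+* WittVector p R) D.F).comp Vs = (p : WittVector p R) • LinearMap.id ∧
      Vs.comp (Dieu.BC.lift (WittVector.frobenius : WittVector p R →+* WittVector p R) D.F) = (p : WittVector p R) • LinearMap.id := by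
  exact H16536.main D Vs hVs

end Groth.Agent.S16536
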