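import Groth.Statements.S16539
import Mathlib
import Groth.Prelude.Def_Disp2
-- import your own Groth.Agent.* helpers here

set_option autoImplicit false
universe u v
open Disp

namespace Groth.Agent.S16539

namespace Aux
universe w
open Dieu

section inj
variable {A : Type u} {B : Type v} [CommRing A] [CommRing B] (g : A →+* B)
variable {P : Type w} [AddCommGroup P] [Module A P]

/-- the bilinear map `(b, x) ↦ g⁻¹ b • x` -/
noncomputable def retrBil (e : A ≃+* B) (he : ∀ a, e a = g a) : Res g →ₗ[A] P →ₗ[A] P where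
  toFun t := e.symm t.val • LinearMap.id
  map_add' s t := by rw [Res.val_add, map_add, add_smul]
  map_smul' a t := by
    rw [Res.val_smul, RingHom.id_apply, ← he, map_mul, e.symm_apply_apply, mul_smul]

theorem ι_injective (hg : Function.Bijective g) : Function.Injective (BC.ι g P) := by
  set e : A ≃+* B := RingEquiv.ofBijective g hg with he
  have hea : ∀ a, e a = g a := fun a => rfl
  intro x y hxy
  have h1 : ∀ z : P, TensorProduct.lift (retrBil (P := P) g e hea) (BC.tmul g 1 z) = z := by
    intro z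
    show TensorProduct.lift (retrBil (P := P) g e hea) ((Res.mk g 1) ⊗ₜ[A] z) = z
    rw [TensorProduct.lift.tmul]
    show e.symm (1 : B) • z = z
    rw [map_one, one_smul]
  rw [← h1 x, ← h1 y]
  exact congrArg _ hxy

end inj

section main
variable {p : ℕ} [hp : Fact p.Prime] {k : Type u} [CommRing k] [CharP k p] [PerfectRing k p]
variable {M : Type v} [AddCommGroup M] [Module (WittVector p k) M]

local notation "σ" => (WittVector.frobenius : WittVector p k →+* WittVector p k)

lemma frob_pow_bijective (N : ℕ) : Function.Bijective (σ ^ N) := by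
  have h1 : Function.Bijective σ := (WittVector.frobeniusEquiv p k).bijective
  rw [RingHom.coe_pow]
  exact h1.iterate N

lemma IV_le : W4c1extbt610.IV p k ≤ Ideal.span {(p : WittVector p k)} := by
  unfold W4c1extbt610.IV
  rw [Ideal.span_le]
  rintro _ ⟨w, rfl⟩
  have h1 : WittVector.frobenius ((WittVector.frobeniusEquiv p k).symm w) = w :=
    (WittVector.frobeniusEquiv p k).apply_symm_apply w
  rw [← h1, WittVector.verschiebung_frobenius]
  exact Ideal.mem_span_singleton'.mpr ⟨_, rfl⟩

lemma IV_sup : W4c1extbt610.IV p k ⊔ Ideal.span {(p : WittVector p k)} =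
    Ideal.span {(p : WittVector p k)} := sup_eq_right.mpr IV_le

lemma mem_pN_iff {N' : Type w} [AddCommGroup N'] [Module (WittVector p k) N'] (x : N') :
    x ∈ Ideal.span {(p : WittVector p k)} • (⊤ : Submodule (WittVector p k) N') ↔
      ∃ y : N', x = (p : WittVector p k) • y := by
  rw [Submodule.ideal_span_singleton_smul, Submodule.mem_smul_pointwise_iff_exists]
  constructor
  · rintro ⟨y, -, rfl⟩; exact ⟨y, rfl⟩
  · rintro ⟨y, rfl⟩; exact ⟨y, Submodule.mem_top, rfl⟩

lemma p_smul_BC_quot (N : ℕ)
    (z : BC (σ ^ N) (M ⧸ Ideal.span {(p : WittVector p k)} • (⊤ : Submodule (WittVector p k) M))) :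
    (p : WittVector p k) • z = 0 := by
  induction z using BC.induction_on (σ ^ N) with
  | zero => rw [smul_zero]
  | tmul b x =>
    have h1 : (σ ^ N) (p : WittVector p k) = (p : WittVector p k) := map_natCast _ _
    have h2 : (p : WittVector p k) • x = 0 := by
      obtain ⟨m, rfl⟩ := Submodule.Quotient.mk_surjective _ x
      rw [← Submodule.Quotient.mk_smul, Submodule.Quotient.mk_eq_zero]
      exact Submodule.smul_mem_smul (Ideal.mem_span_singleton_self _) Submodule.mem_top
    have h3 : BC.tmul (σ ^ N) (b * (σ ^ N) (p : WittVector p k)) x =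
        BC.tmul (σ ^ N) b ((p : WittVector p k) • x) := BC.tmul_mul_apply _ _ _ _
    rw [BC.smul_tmul, mul_comm]
    rw [h1] at h3
    rw [h3, h2, BC.tmul_zero]
  | add z₁ z₂ h₁ h₂ => rw [smul_add, h₁, h₂, add_zero]

lemma tmul_mem_iff (N : ℕ) (y : M) :
    BC.tmul (σ ^ N) 1 y ∈ (W4c1extbt610.IV p k ⊔ Ideal.span {(p : WittVector p k)}) •
      (⊤ : Submodule (WittVector p k) (BC (σ ^ N) M)) ↔
    y ∈ Ideal.span {(p : WittVector p k)} • (⊤ : Submodule (WittVector p k) M) := by
  rw [IV_sup]
  constructor
  · intro h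
    obtain ⟨z, hz⟩ := (mem_pN_iff _).mp h
    have h1 := congrArg (BC.map (σ ^ N)
      (Ideal.span {(p : WittVector p k)} • (⊤ : Submodule (WittVector p k) M)).mkQ) hz
    rw [BC.map_tmul, map_smul, p_smul_BC_quot] at h1
    have h2 : BC.ι (σ ^ N) _ ((Ideal.span {(p : WittVector p k)} •
        (⊤ : Submodule (WittVector p k) M)).mkQ y) = BC.ι (σ ^ N) _ 0 := by
      rw [map_zero]; exact h1
    have h3 := ι_injective (σ ^ N) (frob_pow_bijective N) h2
    rwa [Submodule.mkQ_apply, Submodule.Quotient.mk_eq_zero] at h3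
  · intro h
    obtain ⟨z, rfl⟩ := (mem_pN_iff _).mp h
    have h1 : (σ ^ N) (p : WittVector p k) = (p : WittVector p k) := map_natCast _ _
    have h2 : BC.tmul (σ ^ N) 1 ((p : WittVector p k) • z) =
        (p : WittVector p k) • BC.tmul (σ ^ N) 1 z := by
      rw [← BC.tmul_mul_apply, h1, BC.smul_tmul, mul_comm]
    rw [h2]
    exact Submodule.smul_mem_smul (Ideal.mem_span_singleton_self _) Submodule.mem_top

variable (Dm : Dieu.DieuMod p k M)

lemma vSharpPow_eq
    (Vs : M →ₗ[WittVector p k] BC σ M) (hVs : ∀ m, Vs m = BC.tmul σ 1 (Dm.V m)) (n : ℕ) :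
    ∀ x : M, vSharpPow Vs n x = BC.tmul (σ ^ (n + 1)) 1 ((⇑Dm.V)^[n + 1] x) := by
  induction n with
  | zero =>
    intro x
    rw [vSharpPow_zero_apply, hVs, BC.castHom_tmul]
    rfl
  | succ n ih =>
    intro x
    rw [vSharpPow_succ_apply, hVs, BC.map_tmul, ih, BC.lift_tmul, one_smul, BC.push_tmul,
      BC.castHom_tmul, map_one, Function.iterate_succ_apply (⇑Dm.V) (n + 1) x]

lemma V_iter_p_smul (n : ℕ) (z : M) :
    (⇑Dm.V)^[n] ((p : WittVector p k) • z) = (p : WittVector p k) • (⇑Dm.V)^[n] z := by
  induction n generalizing z with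
  | zero => rfl
  | succ n ih =>
    rw [Function.iterate_succ_apply, Function.iterate_succ_apply, map_smulₛₗ, map_natCast, ih]

lemma V_iter_mem (n : ℕ) (h : ∀ x : M, (⇑Dm.V)^[n + 1] x ∈
      Ideal.span {(p : WittVector p k)} • (⊤ : Submodule (WittVector p k) M)) (e : ℕ) :
    ∀ m : M, (⇑Dm.V)^[(n + 1) * e] m ∈
      (Ideal.span {(p : WittVector p k)} ^ e) • (⊤ : Submodule (WittVector p k) M) := by
  induction e with
  | zero => intro m; simp
  | succ e ih =>
    intro m
    rw [mul_add, mul_one, Function.iterate_add_apply]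
    obtain ⟨z, hz⟩ := (mem_pN_iff _).mp (h m)
    rw [hz, V_iter_p_smul, pow_succ', mul_smul]
    exact Submodule.smul_mem_smul (Ideal.mem_span_singleton_self _) (ih z)

theorem main [Module.Finite (WittVector p k) M]
    [Module.Projective (WittVector p k) M] (D : W4c1extbt610.Display3n p k M)
    (hF : D.F = Dm.F) (hQ : ∀ x : M, x ∈ D.Q ↔ x ∈ Set.range Dm.V)
    (hV : ∀ (m : M) (h : Dm.V m ∈ D.Q), D.Vinv ⟨Dm.V m, h⟩ = m) :
    Dieu.IsDisplay D ↔ Dm.VTopNilp := by
  have hVQ : ∀ m, Dm.V m ∈ D.Q := fun m => (hQ _).mpr ⟨m, rfl⟩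
  constructor
  · rintro ⟨Vs, hVs, n, hn⟩
    have h1 : ∀ m, Vs m = BC.tmul σ 1 (Dm.V m) := by
      intro m
      have := hVs.app_smul_Vinv 1 ⟨Dm.V m, hVQ m⟩
      rw [one_smul, hV m (hVQ m)] at this
      exact this
    have h2 : ∀ x : M, (⇑Dm.V)^[n + 1] x ∈
        Ideal.span {(p : WittVector p k)} • (⊤ : Submodule (WittVector p k) M) := by
      intro x
      have := hn x
      rw [vSharpPow_eq Dm Vs h1 n x] at this
      exact (tmul_mem_iff (n + 1) _).mp this
    intro e
    exact ⟨(n + 1) * e, V_iter_mem Dm n h2 e⟩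
  · intro h
    obtain ⟨n, hn⟩ := h 1
    rw [pow_one] at hn
    let Vs : M →ₗ[WittVector p k] BC σ M :=
      { toFun := fun m => BC.tmul σ 1 (Dm.V m)
        map_add' := fun x y => by rw [map_add, BC.tmul_add]
        map_smul' := fun c m => by
          rw [RingHom.id_apply, map_smulₛₗ, ← BC.tmul_mul_apply, one_mul, BC.smul_tmul, mul_one]
          congr 1
          exact (WittVector.frobeniusEquiv p k).apply_symm_apply c }
    have h1 : ∀ m, Vs m = BC.tmul σ 1 (Dm.V m) := fun m => rfl
    refine ⟨Vs, ⟨?_, ?_⟩, n, ?_⟩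
    · intro w x
      rw [map_smul, h1, hF, Dm.V_F, ← BC.tmul_mul_apply, map_natCast, one_mul, BC.smul_tmul,
        BC.smul_tmul, mul_comm]
    · intro w y
      obtain ⟨m, hm⟩ := (hQ _).mp y.2
      have h2 : D.Vinv y = m := by
        have : y = ⟨Dm.V m, hVQ m⟩ := Subtype.ext hm.symm
        rw [this, hV]
      rw [map_smul, h1, h2, hm, BC.smul_tmul, mul_one]
    · intro x
      rw [vSharpPow_eq Dm Vs h1 n x]
      refine (tmul_mem_iff (n + 1) _).mpr ?_
      rw [Function.iterate_succ_apply]
      exact hn _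

end main
end Aux

/-- Let p be a prime, k a perfect commutative ring of characteristic p, W = W(k) with Frobenius
automorphism σ, and M a finitely generated projective W-module carrying a Dieudonné module
structure, a σ-semilinear F and a σ⁻¹-semilinear V with FV = VF = p. Let D be the associated
3n-display (M, VM, F, V⁻¹): the 3n-display structure on M whose submodule is the image of V, whose
Frobenius operator is F and whose inverse operator sends V m to m. Then D is a display, i.e. its
operator V# satisfies the nilpotence condition, if and only if V is topologically nilpotent for the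
p-adic topology on M: for every e some power of V maps M into p^e M. -/
theorem result (p : ℕ) [Fact p.Prime] (k : Type u) [CommRing k]
    [CharP k p] [PerfectRing k p]
    (M : Type v) [AddCommGroup M] [Module (WittVector p k) M] [Module.Finite (WittVector p k) M]
    [Module.Projective (WittVector p k) M] (Dm : Dieu.DieuMod p k M) (D : W4c1extbt610.Display3n p k M)
    (hF : D.F = Dm.F) (hQ : ∀ x : M, x ∈ D.Q ↔ x ∈ Set.range Dm.V)
    (hV : ∀ (m : M) (h : Dm.V m ∈ D.Q), D.Vinv ⟨Dm.V m, h⟩ = m) :
    Dieu.IsDisplay D ↔ Dm.VTopNilp := by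
  exact Aux.main Dm D hF hQ hV

end Groth.Agent.S16539
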