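import Groth.Statements.S1654
import Mathlib
import Groth.Agent.S1670

set_option autoImplicit false
universe u
open CategoryTheory CategoryTheory.Limits AlgebraicGeometry
open Variety

namespace Groth.Agent.S1654

section
open CategoryTheory CategoryTheory.Limits AlgebraicGeometry

theorem geomIrr_of_closedImmersion {L : Type u} [Field L] {W Z : Scheme.{u}}
    (h : W ⟶ Spec (CommRingCat.of L)) (ι : Z ⟶ W) [IsClosedImmersion ι]
    (hirr : IsIrreducible (⇑(Groth.Agent.S2502.bcπ h (SeparableClosure L)) ⁻¹' Set.range ι)) :
    GeometricallyIrreducible (ι ≫ h) := by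
  letI : Z.Over (Spec (CommRingCat.of L)) := ⟨ι ≫ h⟩
  suffices hs : IrreducibleSpace ↥(Groth.Agent.S2502.bc (ι ≫ h) (SeparableClosure L)) by
    haveI : IrreducibleSpace ↥(Curv2.bc L Z (SeparableClosure L)) := hs
    exact Groth.Agent.S1559.main_irr L Z
  let gs := Groth.Agent.S7591.bcMap ι h (SeparableClosure L)
  have hpb := Groth.Agent.S7591.isPullback_bcMap ι h (SeparableClosure L)
  haveI : IsClosedImmersion gs :=
    MorphismProperty.of_isPullback (P := @IsClosedImmersion) hpb.flip inferInstance
  have hrange : Set.range gs =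
      ⇑(Groth.Agent.S2502.bcπ h (SeparableClosure L)) ⁻¹' Set.range ι := by
    ext t
    constructor
    · rintro ⟨s, rfl⟩
      refine ⟨(Groth.Agent.S2502.bcπ (ι ≫ h) (SeparableClosure L)) s, ?_⟩
      rw [← Scheme.Hom.comp_apply, ← Scheme.Hom.comp_apply, Groth.Agent.S7591.bcMap_fst]
    · rintro ⟨y, hy⟩
      obtain ⟨s, hs1, hs2⟩ := Groth.Agent.S2502.exists_preimage_of_isPullback hpb t y hy.symm
      exact ⟨s, hs1⟩
  rw [← hrange] at hirr
  haveI := Subtype.irreducibleSpace hirr
  exact gs.isEmbedding.toHomeomorph.irreducibleSpace_iff.mpr inferInstance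

theorem main (k : Type u) [Field k] (X : Scheme.{u}) [X.Over (Spec (CommRingCat.of k))] [LocallyOfFiniteType (X ↘ (Spec (CommRingCat.of k)))]
    (hirr : (irreducibleComponents (X : Type u)).Finite) :
    ∃ (k' : Type u) (_ : Field k') (_ : Algebra k k'), FiniteDimensional k k' ∧ Algebra.IsSeparable k k' ∧
      ∀ (T : Set (Curv2.bc k X k')) (hT : T ∈ irreducibleComponents (Curv2.bc k X k' : Type u)),
        GeometricallyIrreducible
          ((Scheme.IdealSheafData.vanishingIdeal ⟨T, isClosed_of_mem_irreducibleComponents T hT⟩).subschemeι ≫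
            Curv2.bcSnd k X k') := by
  let f := X ↘ Spec (CommRingCat.of k)
  haveI : Finite ↥(irreducibleComponents ↥X) := hirr.to_subtype
  obtain ⟨L, _, _, hfd, hsep, hL⟩ := Groth.Agent.S4646.main f
    (fun Z hZ => Groth.Agent.S1670.residueFieldProp_finite_sepClosure f _)
  refine ⟨L, inferInstance, inferInstance, hfd, hsep, ?_⟩
  intro T hT
  apply geomIrr_of_closedImmersion
  rw [Scheme.IdealSheafData.range_subschemeι, Scheme.IdealSheafData.coe_support_vanishingIdeal]
  exact hL (SeparableClosure L) T hT


end


/-- Let X be a k-scheme locally of finite type, having only finitely many irreducible components. There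
is then a finite separable extension k' of k such that every irreducible component of X_{k'}, with
its reduced induced structure, is geometrically irreducible over k'. -/
theorem result (k : Type u) [Field k] (X : Scheme.{u}) [X.Over (Spec (CommRingCat.of k))] [LocallyOfFiniteType (X ↘ (Spec (CommRingCat.of k)))]
    (hirr : (irreducibleComponents (X : Type u)).Finite) :
    ∃ (k' : Type u) (_ : Field k') (_ : Algebra k k'), FiniteDimensional k k' ∧ Algebra.IsSeparable k k' ∧
      ∀ (T : Set (Curv2.bc k X k')) (hT : T ∈ irreducibleComponents (Curv2.bc k X k' : Type u)),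
        GeometricallyIrreducible
          ((Scheme.IdealSheafData.vanishingIdeal ⟨T, isClosed_of_mem_irreducibleComponents T hT⟩).subschemeι ≫
            Curv2.bcSnd k X k') := by
  classical
  exact main k X hirr

end Groth.Agent.S1654
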