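import Groth.Statements.S16541
import Mathlib

set_option autoImplicit false
universe u v
open CAlg

namespace Groth.Agent.S16541

/-- Let p be a prime, S → R a faithfully flat homomorphism of commutative rings and M a flat
W(S)-module; write ι₁, ι₂ : R → R ⊗_S R for the two coprojections, M_R = W(R) ⊗_{W(S)} M and M_{R ⊗
R} = W(R ⊗_S R) ⊗_{W(S)} M for the scalar extensions along W(S) → W(R) and W(S) → W(R ⊗_S R). Then 0
→ M → M_R ⇉ M_{R ⊗ R} is exact: the map x ↦ 1 ⊗ x from M to M_R is injective, and an element of M_R
has the same image under the two maps w ⊗ x ↦ W(ι₁)(w) ⊗ x and w ⊗ x ↦ W(ι₂)(w) ⊗ x exactly when it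
is of the form 1 ⊗ x. The hypothesis e records that the two composite ring maps W(S) → W(R) → W(R
⊗_S R) agree (both coprojections are S-algebra maps); it serves to identify the two targets. -/
theorem result (p : ℕ) [Fact p.Prime]
    (S R : Type u) [CommRing S] [CommRing R] [Algebra S R] [Module.FaithfullyFlat S R]
    (M : Type v) [AddCommGroup M] [Module (WittVector p S) M] [Module.Flat (WittVector p S) M]
    (e : (WittVector.map (Algebra.TensorProduct.includeLeftRingHom : R →+* TensorProduct S R R) : WittVector p R →+* WittVector p (TensorProduct S R R)).comp (WittVector.map (algebraMap S R) : WittVector p S →+* WittVector p R) = (WittVector.map ((Algebra.TensorProduct.includeRight : R →ₐ[S] TensorProduct S R R) : R →+* TensorProduct S R R) : WittVector p R →+* WittVector p (TensorProduct S R R)).comp (WittVector.map (algebraMap S R) : WittVector p S →+* WittVector p R)) :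
    Function.Injective (Dieu.BC.ι (WittVector.map (algebraMap S R) : WittVector p S →+* WittVector p R) M) ∧
      ∀ z : Dieu.BC (WittVector.map (algebraMap S R) : WittVector p S →+* WittVector p R) M,
        (Dieu.BC.castHom e (Dieu.BC.push (WittVector.map (algebraMap S R) : WittVector p S →+* WittVector p R) (WittVector.map (Algebra.TensorProduct.includeLeftRingHom : R →+* TensorProduct S R R) : WittVector p R →+* WittVector p (TensorProduct S R R)) z) = Dieu.BC.push (WittVector.map (algebraMap S R) : WittVector p S →+* WittVector p R) (WittVector.map ((Algebra.TensorProduct.includeRight : R →ₐ[S] TensorProduct S R R) : R →+* TensorProduct S R R) : WittVector p R →+* WittVector p (TensorProduct S R R)) z ↔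
          z ∈ Set.range (Dieu.BC.ι (WittVector.map (algebraMap S R) : WittVector p S →+* WittVector p R) M)) := by
  classical
  set g : WittVector p S →+* WittVector p R := WittVector.map (algebraMap S R) with hg
  set h1 : WittVector p R →+* WittVector p (TensorProduct S R R) :=
    WittVector.map (Algebra.TensorProduct.includeLeftRingHom : R →+* TensorProduct S R R) with hh1
  set h2 : WittVector p R →+* WittVector p (TensorProduct S R R) :=
    WittVector.map ((Algebra.TensorProduct.includeRight : R →ₐ[S] TensorProduct S R R) : R →+* TensorProduct S R R) with hh2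
  -- linear maps
  let j : WittVector p S →ₗ[WittVector p S] Dieu.Res g :=
    { toFun := fun a => Dieu.Res.mk g (g a)
      map_add' := fun a b => by
        apply Dieu.Res.ext; simp
      map_smul' := fun a b => by
        apply Dieu.Res.ext; simp }
  let d1 : Dieu.Res g →ₗ[WittVector p S] Dieu.Res (h2.comp g) :=
    { toFun := fun t => Dieu.Res.mk (h2.comp g) (h1 t.val)
      map_add' := fun a b => by
        apply Dieu.Res.ext; simp
      map_smul' := fun a t => by
        apply Dieu.Res.ext
        simp only [Dieu.Res.val_smul, Dieu.Res.val_mk, map_mul, RingHom.id_apply]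
        have := congrArg (fun f => f a) e
        simp only [RingHom.comp_apply] at this
        rw [RingHom.comp_apply, ← this] }
  let d2 : Dieu.Res g →ₗ[WittVector p S] Dieu.Res (h2.comp g) :=
    { toFun := fun t => Dieu.Res.mk (h2.comp g) (h2 t.val)
      map_add' := fun a b => by
        apply Dieu.Res.ext; simp
      map_smul' := fun a t => by
        apply Dieu.Res.ext
        simp only [Dieu.Res.val_smul, Dieu.Res.val_mk, map_mul, RingHom.id_apply, RingHom.comp_apply] }
  have hinjR : Function.Injective (algebraMap S R) := FaithfulSMul.algebraMap_injective S R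
  have hjinj : Function.Injective j := by
    intro a b hab
    have hab' : g a = g b := hab
    apply WittVector.ext
    intro i
    have := congrArg (fun w => w.coeff i) hab'
    simp only [hg, WittVector.map_coeff] at this
    exact hinjR this
  have heff := Algebra.IsEffective.of_faithfullyFlat S R
  have hexact : Function.Exact j (d1 - d2) := by
    intro x
    constructor
    · intro hx
      have hx' : h1 x.val = h2 x.val := by
        have : h1 x.val - h2 x.val = 0 := hx
        exact sub_eq_zero.mp this
      have hcoef : ∀ i : ℕ, (x.val).coeff i ∈ Set.range (algebraMap S R) := by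
        intro i
        have h2' := congrArg (fun w => WittVector.coeff w i) hx'
        simp only [hh1, hh2, WittVector.map_coeff] at h2'
        have h3 : Algebra.TensorProduct.includeLeftSubRight S R ((x.val).coeff i) = 0 := by
          rw [Algebra.TensorProduct.includeLeftSubRight_apply]
          exact sub_eq_zero.mpr h2'
        obtain ⟨r, hr⟩ := (heff ((x.val).coeff i)).mp h3
        exact ⟨r, hr⟩
      choose r hr using hcoef
      refine ⟨WittVector.mk p r, ?_⟩
      apply Dieu.Res.ext
      change g (WittVector.mk p r) = x.val
      apply WittVector.ext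
      intro i
      rw [hg, WittVector.map_coeff, WittVector.coeff_mk, hr]
    · rintro ⟨w, rfl⟩
      change h1 (g w) - h2 (g w) = 0
      have := congrArg (fun f => f w) e
      simp only [RingHom.comp_apply] at this
      rw [this, sub_self]
  have hex2 := Module.Flat.rTensor_exact M hexact
  have hinj2 := Module.Flat.rTensor_preserves_injective_linearMap (M := M) j hjinj
  have hj1 : j 1 = Dieu.Res.mk g 1 := by
    apply Dieu.Res.ext
    change g 1 = 1
    exact map_one g
  have hι : ∀ x : M, Dieu.BC.ι g M x = (j.rTensor M) ((1 : WittVector p S) ⊗ₜ[WittVector p S] x) := by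
    intro x
    rw [LinearMap.rTensor_tmul, hj1]
    rfl
  have hd1 : ∀ z : Dieu.BC g M, Dieu.BC.castHom e (Dieu.BC.push g h1 z) = (d1.rTensor M) z := by
    intro z
    induction z using Dieu.BC.induction_on g with
    | zero =>
      rw [map_zero, map_zero]
      exact (map_zero (LinearMap.rTensor M d1)).symm
    | tmul b x =>
      rw [Dieu.BC.push_tmul, Dieu.BC.castHom_tmul]
      rfl
    | add z₁ z₂ ih₁ ih₂ =>
      rw [map_add, map_add, ih₁, ih₂]
      exact (map_add (LinearMap.rTensor M d1) z₁ z₂).symm
  have hd2 : ∀ z : Dieu.BC g M, Dieu.BC.push g h2 z = (d2.rTensor M) z := by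
    intro z
    induction z using Dieu.BC.induction_on g with
    | zero =>
      rw [map_zero]
      exact (map_zero (LinearMap.rTensor M d2)).symm
    | tmul b x =>
      rw [Dieu.BC.push_tmul]
      rfl
    | add z₁ z₂ ih₁ ih₂ =>
      rw [map_add, ih₁, ih₂]
      exact (map_add (LinearMap.rTensor M d2) z₁ z₂).symm
  have key : ∀ z : TensorProduct (WittVector p S) (Dieu.Res g) M,
      (d1.rTensor M) z = (d2.rTensor M) z ↔ z ∈ Set.range (j.rTensor M) := by
    intro z
    have h0 : (d1.rTensor M) z = (d2.rTensor M) z ↔ ((d1 - d2).rTensor M) z = 0 := by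
      rw [LinearMap.rTensor_sub, LinearMap.sub_apply, sub_eq_zero]
    rw [h0]
    exact hex2 z
  constructor
  · intro a b hab
    rw [hι, hι] at hab
    have h2' := hinj2 hab
    have h3 := congrArg (TensorProduct.lid (WittVector p S) M) h2'
    simpa using h3
  · intro z
    rw [hd1, hd2]
    refine (key z).trans ?_
    constructor
    · rintro ⟨y, hy⟩
      refine ⟨TensorProduct.lid (WittVector p S) M y, ?_⟩
      rw [hι]
      refine Eq.trans ?_ hy
      congr 1
      rw [← TensorProduct.lid_symm_apply, LinearEquiv.symm_apply_apply]
    · rintro ⟨x, hx⟩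
      exact ⟨_, (hι x).symm.trans hx⟩

end Groth.Agent.S16541
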