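import Groth.Statements.S16542
import Mathlib

set_option autoImplicit false
universe u v
open Disp

namespace Groth.Agent.S16542

namespace H16542
open W4c1extbt610 Dieu TensorProduct

/-- general injectivity: `m ↦ 1 ⊗ m` into `Res g ⊗[A] M` is injective when `g` factors as
`A ↠ S → R` with `R` faithfully flat over `S` and `M` killed by `ker (A → S)`. -/
theorem key {A S R : Type u} [CommRing A] [CommRing S] [CommRing R] (π : A →+* S)
    (hπ : Function.Surjective π) [Algebra S R] [Module.FaithfullyFlat S R]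
    (M : Type v) [AddCommGroup M] [Module A M] (hM : ∀ a : A, π a = 0 → ∀ m : M, a • m = 0)
    (g : A →+* R) (hg : ∀ a, g a = algebraMap S R (π a)) (m : M)
    (h : BC.tmul g 1 m = 0) : m = 0 := by
  have tors : Module.IsTorsionBySet A M (RingHom.ker π : Set A) := by
    intro m a
    exact hM a.1 ((RingHom.mem_ker).1 a.2) m
  letI : Module (A ⧸ RingHom.ker π) M := tors.module
  let e : A ⧸ RingHom.ker π ≃+* S := RingHom.quotientKerEquivOfSurjective hπ
  letI : Module S M := Module.compHom M (e.symm : S →+* A ⧸ RingHom.ker π)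
  have hsm : ∀ (a : A) (m : M), (π a) • m = a • m := by
    intro a m
    show (e.symm (π a)) • m = a • m
    have : e.symm (π a) = Ideal.Quotient.mk _ a := by
      rw [RingEquiv.symm_apply_eq]
      rfl
    rw [this]
    exact tors.mk_smul a m
  let f0 : Res g →+ M →+ R ⊗[S] M :=
    { toFun := fun r => ((TensorProduct.mk S R M) r.val).toAddMonoidHom
      map_zero' := by
        ext m
        simp
      map_add' := by
        intro r s
        ext m
        simp [TensorProduct.add_tmul] }
  have hf0 : ∀ (a : A) (r : Res g) (m : M), f0 (a • r) m = f0 r (a • m) := by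
    intro a r m
    show (g a * r.val) ⊗ₜ[S] m = r.val ⊗ₜ[S] (a • m)
    rw [hg, ← hsm, TensorProduct.tmul_smul, TensorProduct.smul_tmul', Algebra.smul_def]
  let Φ : Res g ⊗[A] M →+ R ⊗[S] M := TensorProduct.liftAddHom f0 hf0
  have h1 : Φ ((Res.mk g 1) ⊗ₜ[A] m) = (1 : R) ⊗ₜ[S] m := rfl
  have h0 : ((Res.mk g 1) ⊗ₜ[A] m : Res g ⊗[A] M) = 0 := h
  rw [h0, map_zero] at h1
  have hinj := Module.FaithfullyFlat.tensorProduct_mk_injective (A := S) (B := R) M
  apply hinj
  rw [map_zero]
  exact h1.symm

theorem constantCoeff_surj (p : ℕ) [Fact p.Prime] (S : Type u) [CommRing S] :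
    Function.Surjective (WittVector.constantCoeff : WittVector p S →+* S) := by
  intro s
  exact ⟨WittVector.mk p (fun _ => s), rfl⟩

theorem mem_IV_of_constantCoeff_eq_zero (p : ℕ) [Fact p.Prime] (S : Type u) [CommRing S]
    (a : WittVector p S) (h : WittVector.constantCoeff a = 0) : a ∈ IV p S := by
  have := WittVector.eq_iterate_verschiebung (x := a) (n := 1) (by
    intro i hi
    obtain rfl : i = 0 := by omega
    exact h)
  rw [this]
  exact verschiebung_mem_IV p S _

theorem main (p : ℕ) [Fact p.Prime]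
    (S R : Type u) [CommRing S] [CommRing R] [Algebra S R] [Module.FaithfullyFlat S R]
    (P : Type v) [AddCommGroup P] [Module (WittVector p S) P] (D : W4c1extbt610.Display3n p S P)
    (DR : W4c1extbt610.Display3n p R (Dieu.BC (WittVector.map (algebraMap S R) : WittVector p S →+* WittVector p R) P))
    (hDR : Dieu.IsDispBaseChange (algebraMap S R) D DR) (x : P) :
    x ∈ D.Q ↔ Dieu.BC.ι (WittVector.map (algebraMap S R) : WittVector p S →+* WittVector p R) P x ∈ DR.Q := by
  rw [hDR.Q_eq, LinearMap.mem_ker, BC.ι_apply, bcQuotMap_tmul, map_one]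
  constructor
  · intro hx
    have : D.Q.mkQ x = 0 := by
      rw [Submodule.mkQ_apply, Submodule.Quotient.mk_eq_zero]; exact hx
    rw [this, BC.tmul_zero]
  · intro h
    have := key (WittVector.constantCoeff : WittVector p S →+* S) (constantCoeff_surj p S)
      (P ⧸ D.Q) ?_ _ ?_ (D.Q.mkQ x) h
    · rwa [Submodule.mkQ_apply, Submodule.Quotient.mk_eq_zero] at this
    · intro a ha m
      obtain ⟨y, rfl⟩ := D.Q.mkQ_surjective m
      rw [← map_smul, Submodule.mkQ_apply, Submodule.Quotient.mk_eq_zero]
      exact D.IV_smul_le (Submodule.smul_mem_smul (mem_IV_of_constantCoeff_eq_zero p S a ha) Submodule.mem_top)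
    · intro a
      simp [WittVector.constantCoeff, WittVector.map_coeff]
end H16542

/-- Let p be a prime, S → R a faithfully flat homomorphism of commutative rings with p nilpotent in S,
(P, Q, F, V⁻¹) a display over S, and (P_R, Q_R, F_R, V_R⁻¹) a 3n-display structure on P_R = W(R)
⊗_{W(S)} P which is its base change along S → R (Q_R the kernel of P_R → R ⊗_S (P/Q), F_R(w ⊗ x) =
σ(w) ⊗ F x, V_R⁻¹(w ⊗ y) = σ(w) ⊗ V⁻¹ y for y ∈ Q, V_R⁻¹(V(w) ⊗ x) = w ⊗ F x). Then for x ∈ P one
has x ∈ Q if and only if 1 ⊗ x ∈ Q_R: together with the exactness of 0 → P → P_R ⇉ P_{R ⊗ R} this is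
the exactness of 0 → Q → Q_R ⇉ Q_{R ⊗ R} at Q. -/
theorem result (p : ℕ) [Fact p.Prime]
    (S R : Type u) [CommRing S] [CommRing R] [Algebra S R] [Module.FaithfullyFlat S R] (hp : IsNilpotent (p : S))
    (P : Type v) [AddCommGroup P] [Module (WittVector p S) P] (D : W4c1extbt610.Display3n p S P)
    (hD : Dieu.IsDisplay D)
    (DR : W4c1extbt610.Display3n p R (Dieu.BC (WittVector.map (algebraMap S R) : WittVector p S →+* WittVector p R) P))
    (hDR : Dieu.IsDispBaseChange (algebraMap S R) D DR) (x : P) :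
    x ∈ D.Q ↔ Dieu.BC.ι (WittVector.map (algebraMap S R) : WittVector p S →+* WittVector p R) P x ∈ DR.Q := by
  exact H16542.main p S R P D DR hDR x

end Groth.Agent.S16542
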