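import Groth.Statements.S16547
import Mathlib
import Groth.Agent.Lib.Lead.PsRefl5

set_option autoImplicit false
universe u
open CAlg

namespace Groth.Agent.S16547

/-- Let A be a Noetherian factorial local domain and G a finite group acting faithfully on A by ring
automorphisms; let B be a ring with an injective ring map to A whose image is exactly the ring of
invariants of G, and assume A is a finite B-module. Let q be a prime ideal of B of height one and p
a prime ideal of A lying over q such that the extension of residue fields of the local rings B_q and
A_p is trivial (every element of A is congruent modulo p to some c⁻¹b with b, c in B, c outside q).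
Then q is a principal ideal; and if moreover B/q is a regular local ring, then B is a regular local
ring. -/
theorem result
    {A B G : Type u} [CommRing A] [IsDomain A] [IsNoetherianRing A] [IsLocalRing A]
    [UniqueFactorizationMonoid A]
    [CommRing B] [Algebra B A] [FaithfulSMul B A] [Module.Finite B A]
    [Group G] [Finite G] [MulSemiringAction G A] [FaithfulSMul G A] [SMulCommClass G B A]
    [Algebra.IsInvariant B A G]
    (q : Ideal B) [q.IsPrime] (hq : q.height = 1) (p : Ideal A) [p.IsPrime] [p.LiesOver q]
    (hres : ∀ a : A, ∃ b c : B, c ∉ q ∧ algebraMap B A c * a - algebraMap B A b ∈ p) :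
    Submodule.IsPrincipal q ∧ (IsRegularLocalRing (B ⧸ q) → IsRegularLocalRing B) := by
  classical
  obtain ⟨u₀, hu₀, hq'⟩ := Groth.Agent.Lib.Lead.PsRefl5.exists_generator (G := G) q hq p hres
  refine ⟨⟨⟨u₀, hq'⟩⟩, ?_⟩
  intro hreg
  have hreg' : IsRegularLocalRing (B ⧸ (Ideal.span {u₀} : Ideal B)) := hq' ▸ hreg
  exact Groth.Agent.Lib.Lead.PsRefl5.isRegular_of_quotient (A := A) (G := G) u₀ hu₀ hreg'

end Groth.Agent.S16547
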