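import Groth.Statements.S16572
import Mathlib

set_option autoImplicit false
universe u
open CAlg

namespace Groth.Agent.S16572

section
open Polynomial

/-- adjoining a root of a monic positive-degree polynomial is injective -/
lemma adjoinRoot_inj {B : Type u} [CommRing B] (g : B[X]) (hg : g.Monic) (hd : 0 < g.natDegree) :
    Function.Injective (AdjoinRoot.of g) := by
  rw [injective_iff_map_eq_zero]
  intro b hb
  rw [AdjoinRoot.of, RingHom.comp_apply, AdjoinRoot.mk_eq_zero] at hb
  by_contra hne
  have hC : (C b : B[X]) ≠ 0 := fun h => hne (C_eq_zero.mp h)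
  exact hg.not_dvd_of_natDegree_lt hC (by rw [natDegree_C]; exact hd) hb

/-- For a finite set of monic positive-degree polynomials, an injective extension with roots. -/
lemma exists_ext {A : Type u} [CommRing A] {ι : Type*} (P : ι → A[X]) (hm : ∀ i, (P i).Monic)
    (hd : ∀ i, 0 < (P i).natDegree) (s : Finset ι) :
    ∃ (B : Type u) (_ : CommRing B) (φ : A →+* B), Function.Injective φ ∧
      ∀ i ∈ s, ∃ b : B, eval₂ φ b (P i) = 0 := by
  classical
  induction s using Finset.induction_on with
  | empty => exact ⟨A, inferInstance, RingHom.id A, fun _ _ h => h, by simp⟩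
  | insert i s hi ih =>
    obtain ⟨B, _, φ, hφ, hroot⟩ := ih
    let g : B[X] := (P i).map φ
    have hg : g.Monic := (hm i).map φ
    have hgd : 0 < g.natDegree := by
      have hnt : Nontrivial B := by
        have : Nontrivial A := by
          by_contra h
          rw [not_nontrivial_iff_subsingleton] at h
          have := hd i
          rw [Subsingleton.elim (P i) 0, natDegree_zero] at this
          exact lt_irrefl _ this
        exact hφ.nontrivial
      rw [(hm i).natDegree_map φ]; exact hd i
    refine ⟨AdjoinRoot g, inferInstance, (AdjoinRoot.of g).comp φ,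
      (adjoinRoot_inj g hg hgd).comp hφ, ?_⟩
    intro j hj
    rcases Finset.mem_insert.mp hj with rfl | hj
    · refine ⟨AdjoinRoot.root g, ?_⟩
      rw [← eval₂_map]
      exact AdjoinRoot.eval₂_root g
    · obtain ⟨b, hb⟩ := hroot j hj
      refine ⟨AdjoinRoot.of g b, ?_⟩
      rw [← hom_eval₂, hb, map_zero]

/-- General injectivity lemma. -/
lemma inj_quot {A : Type u} [CommRing A] {ι : Type*} (P : ι → A[X]) (hm : ∀ i, (P i).Monic)
    (hd : ∀ i, 0 < (P i).natDegree) :
    Function.Injective (algebraMap A (MvPolynomial ι A ⧸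
      Ideal.span (Set.range fun i => Polynomial.aeval (MvPolynomial.X (R := A) i) (P i)))) := by
  classical
  rw [injective_iff_map_eq_zero]
  intro a ha
  rw [IsScalarTower.algebraMap_apply A (MvPolynomial ι A), Ideal.Quotient.algebraMap_eq,
    Ideal.Quotient.eq_zero_iff_mem] at ha
  rw [Ideal.span, Submodule.mem_span_iff_exists_finset_subset] at ha
  obtain ⟨c, t, ht, hc, hsum⟩ := ha
  -- finite set of indices
  choose idx hidx using fun x : {x // x ∈ t} => ht x.2
  let s : Finset ι := t.attach.image idx
  obtain ⟨B, _, φ, hφ, hroot⟩ := exists_ext P hm hd s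
  choose! b hb using hroot
  let ψ : MvPolynomial ι A →+* B := MvPolynomial.eval₂Hom φ (fun i => if i ∈ s then b i else 0)
  have hψ : ∀ x ∈ t, ψ x = 0 := by
    intro x hx
    have hx' := hidx ⟨x, hx⟩
    have his : idx ⟨x, hx⟩ ∈ s := Finset.mem_image_of_mem idx (Finset.mem_attach _ _)
    simp only at hx'
    rw [← hx']
    simp only [ψ]
    rw [Polynomial.aeval_def, Polynomial.hom_eval₂]
    simp only [MvPolynomial.coe_eval₂Hom, MvPolynomial.eval₂_X, if_pos his]
    have : (MvPolynomial.eval₂Hom φ fun i => if i ∈ s then b i else 0).comp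
        (algebraMap A (MvPolynomial ι A)) = φ := by
      ext a; simp
    rw [this]
    exact hb _ his
  have h0 : ψ (algebraMap A (MvPolynomial ι A) a) = 0 := by
    rw [← hsum, map_sum]
    refine Finset.sum_eq_zero fun x hx => ?_
    rw [smul_eq_mul, map_mul, hψ x hx, mul_zero]
  have h1 : ψ (algebraMap A (MvPolynomial ι A) a) = φ a := by simp [ψ]
  rw [h1] at h0
  exact hφ (by rw [h0, map_zero])

lemma exists_root_of_monic {A : Type u} [CommRing A] (p : Ideal A) [p.IsPrime] {E : Type*} [Field E]
    [Algebra A E] [Algebra p.ResidueField E] [IsScalarTower A p.ResidueField E]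
    (hroot : ∀ P : A[X], P.Monic → 0 < P.natDegree → ∃ x : E, aeval x P = 0)
    (g : p.ResidueField[X]) (hg : g.Monic) (hgd : 0 < g.natDegree) : ∃ x : E, aeval x g = 0 := by
  obtain ⟨b, hb⟩ := IsLocalization.exist_integer_multiples_of_finite (nonZeroDivisors (A ⧸ p))
    (fun i : Fin (g.natDegree + 1) => g.coeff i)
  obtain ⟨β, hβ⟩ : ∃ β, β = algebraMap (A ⧸ p) p.ResidueField b := ⟨_, rfl⟩
  have hβ0 : β ≠ 0 := by
    rw [hβ]
    intro h
    have := (IsFractionRing.injective (A ⧸ p) p.ResidueField) (h.trans (map_zero _).symm)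
    exact nonZeroDivisors.ne_zero b.2 this
  have hlift : scaleRoots g β ∈ Polynomial.lifts (algebraMap A p.ResidueField) := by
    rw [Polynomial.lifts_iff_coeff_lifts]
    intro i
    rw [coeff_scaleRoots]
    rcases lt_trichotomy i g.natDegree with hi | hi | hi
    · obtain ⟨y, hy⟩ := hb ⟨i, by omega⟩
      obtain ⟨y, rfl⟩ := Ideal.Quotient.mk_surjective y
      obtain ⟨b0, hb0⟩ := Ideal.Quotient.mk_surjective (b : A ⧸ p)
      obtain ⟨m, hm⟩ : ∃ m, g.natDegree - i = m + 1 := ⟨g.natDegree - i - 1, by omega⟩
      refine ⟨y * b0 ^ m, ?_⟩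
      have e1 : algebraMap A p.ResidueField b0 = β := by
        rw [hβ, ← hb0]; rfl
      have e2 : algebraMap A p.ResidueField y = β * g.coeff i := by
        have : algebraMap A p.ResidueField y =
            algebraMap (A ⧸ p) p.ResidueField (Ideal.Quotient.mk p y) := rfl
        rw [this, hy, Algebra.smul_def, hβ]
      rw [map_mul, map_pow, e1, e2]
      rw [hm, pow_succ]
      ring
    · subst hi
      refine ⟨1, ?_⟩
      rw [map_one, Nat.sub_self, pow_zero, mul_one]
      exact hg.coeff_natDegree.symm
    · refine ⟨0, ?_⟩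
      rw [map_zero, coeff_eq_zero_of_natDegree_lt hi, zero_mul]
  have hmon : (scaleRoots g β).Monic := (monic_scaleRoots_iff β).mpr hg
  obtain ⟨P, hP, hPdeg, hPm⟩ := Polynomial.lifts_and_degree_eq_and_monic hlift hmon
  have hPnd : 0 < P.natDegree := by
    rw [natDegree_eq_of_degree_eq hPdeg, natDegree_scaleRoots]; exact hgd
  obtain ⟨x, hx⟩ := hroot P hPm hPnd
  have hx' : aeval x (scaleRoots g β) = 0 := by
    rw [← hP, Polynomial.aeval_map_algebraMap]; exact hx
  refine ⟨x / algebraMap p.ResidueField E β, ?_⟩
  have hfβ : algebraMap p.ResidueField E β ≠ 0 := by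
    intro h
    exact hβ0 ((algebraMap p.ResidueField E).injective (h.trans (map_zero _).symm))
  have key := scaleRoots_eval₂_mul (p := g) (algebraMap p.ResidueField E)
    (x / algebraMap p.ResidueField E β) β
  rw [mul_div_cancel₀ _ hfβ] at key
  rw [Polynomial.aeval_def] at hx' ⊢
  rw [hx'] at key
  exact (mul_eq_zero.mp key.symm).resolve_left (pow_ne_zero _ hfβ)

section main
variable (A : Type u) [CommRing A]

abbrev Idx := {P : Polynomial A // P.Monic ∧ 0 < P.natDegree}
noncomputable abbrev II : Ideal (MvPolynomial (Idx A) A) :=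
  Ideal.span (Set.range fun P : Idx A => Polynomial.aeval (MvPolynomial.X (R := A) P) P.1)
abbrev TT := MvPolynomial (Idx A) A ⧸ II A

lemma root_T (P : Idx A) :
    aeval (Ideal.Quotient.mk (II A) (MvPolynomial.X P)) P.1 = 0 := by
  have h1 : aeval (Ideal.Quotient.mk (II A) (MvPolynomial.X P)) P.1 =
      Ideal.Quotient.mk (II A) (aeval (MvPolynomial.X (R := A) P) P.1) := by
    rw [Polynomial.aeval_def, Polynomial.aeval_def, Polynomial.hom_eval₂]
    rfl
  rw [h1, Ideal.Quotient.eq_zero_iff_mem]
  exact Ideal.subset_span ⟨P, rfl⟩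

lemma isIntegral_T : Algebra.IsIntegral A (TT A) := by
  refine ⟨fun t => ?_⟩
  obtain ⟨q, rfl⟩ := Ideal.Quotient.mk_surjective t
  induction q using MvPolynomial.induction_on with
  | C a => exact isIntegral_algebraMap (x := a)
  | add p q hp hq => rw [map_add]; exact hp.add hq
  | mul_X p i hp =>
    rw [map_mul]
    exact hp.mul ⟨i.1, i.2.1, root_T A i⟩

lemma inj_T : Function.Injective (algebraMap A (TT A)) :=
  inj_quot (fun P : Idx A => P.1) (fun P => P.2.1) (fun P => P.2.2)

theorem main : Function.Surjective (PrimeSpectrum.comap (algebraMap A (TT A))) ∧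
    ∀ (Q : Ideal (TT A)) [Q.IsPrime], IsAlgClosed Q.ResidueField ∧
      (Ideal.ResidueField.map (Q.comap (algebraMap A (TT A))) Q (algebraMap A (TT A)) rfl).IsIntegral := by
  haveI := isIntegral_T A
  constructor
  · intro p
    obtain ⟨Q, -, hQ1, hQ2⟩ := Ideal.exists_ideal_over_prime_of_isIntegral p.asIdeal
      (⊥ : Ideal (TT A)) (by
        rw [← RingHom.ker_eq_comap_bot, (RingHom.injective_iff_ker_eq_bot _).mp (inj_T A)]
        exact bot_le)
    exact ⟨⟨Q, hQ1⟩, PrimeSpectrum.ext hQ2⟩
  · intro Q _
    haveI : Q.LiesOver (Q.comap (algebraMap A (TT A))) := ⟨rfl⟩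
    letI := Localization.AtPrime.algebraOfLiesOver (Q.comap (algebraMap A (TT A))) Q
    haveI : Algebra.IsAlgebraic (Q.comap (algebraMap A (TT A))).ResidueField Q.ResidueField :=
      inferInstance
    haveI : Algebra.IsIntegral (Q.comap (algebraMap A (TT A))).ResidueField Q.ResidueField :=
      Algebra.IsAlgebraic.isIntegral
    haveI : IsScalarTower A (Q.comap (algebraMap A (TT A))).ResidueField Q.ResidueField := by
      refine IsScalarTower.of_algebraMap_eq fun a => ?_
      have := Ideal.ResidueField.map_algebraMap (Q.comap (algebraMap A (TT A))) Q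
        (algebraMap A (TT A)) rfl a
      rw [IsScalarTower.algebraMap_apply A (TT A) Q.ResidueField, ← this]
      rfl
    constructor
    · refine (IsAlgClosure.of_exists_root (F := (Q.comap (algebraMap A (TT A))).ResidueField)
        (E := Q.ResidueField) ?_).isAlgClosed
      intro g hgm hgirr
      refine exists_root_of_monic (Q.comap (algebraMap A (TT A))) ?_ g hgm hgirr.natDegree_pos
      intro P hPm hPd
      refine ⟨algebraMap (TT A) Q.ResidueField (Ideal.Quotient.mk (II A) (MvPolynomial.X ⟨P, hPm, hPd⟩)), ?_⟩
      rw [Polynomial.aeval_algebraMap_apply, root_T A ⟨P, hPm, hPd⟩, map_zero]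
    · exact algebraMap_isIntegral_iff.mpr
        (inferInstance : Algebra.IsIntegral (Q.comap (algebraMap A (TT A))).ResidueField Q.ResidueField)

end main


end


/-- Let A be a commutative ring and T the quotient of the polynomial ring over A in indeterminates X_P,
one for each monic polynomial P over A of positive degree, by the ideal generated by the elements
P(X_P). Then the map on prime spectra Spec T → Spec A is surjective, and for every prime ideal Q of
T, with p its contraction to A, the residue field of Q is algebraically closed and integral over the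
residue field of p under the induced map of residue fields (so it is an algebraic closure of it). -/
theorem result (A : Type u) [CommRing A] :
    Function.Surjective (PrimeSpectrum.comap (algebraMap A (MvPolynomial {P : Polynomial A // P.Monic ∧ 0 < P.natDegree} A ⧸
      Ideal.span (Set.range fun P : {P : Polynomial A // P.Monic ∧ 0 < P.natDegree} =>
        Polynomial.aeval (MvPolynomial.X (R := A) P) P.1)))) ∧
    ∀ (Q : Ideal (MvPolynomial {P : Polynomial A // P.Monic ∧ 0 < P.natDegree} A ⧸
      Ideal.span (Set.range fun P : {P : Polynomial A // P.Monic ∧ 0 < P.natDegree} =>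
        Polynomial.aeval (MvPolynomial.X (R := A) P) P.1))) [Q.IsPrime],
      IsAlgClosed Q.ResidueField ∧
      (Ideal.ResidueField.map (Q.comap (algebraMap A (MvPolynomial {P : Polynomial A // P.Monic ∧ 0 < P.natDegree} A ⧸
      Ideal.span (Set.range fun P : {P : Polynomial A // P.Monic ∧ 0 < P.natDegree} =>
        Polynomial.aeval (MvPolynomial.X (R := A) P) P.1)))) Q (algebraMap A (MvPolynomial {P : Polynomial A // P.Monic ∧ 0 < P.natDegree} A ⧸
      Ideal.span (Set.range fun P : {P : Polynomial A // P.Monic ∧ 0 < P.natDegree} =>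
        Polynomial.aeval (MvPolynomial.X (R := A) P) P.1))) rfl).IsIntegral := by
  classical
  exact main A

end Groth.Agent.S16572
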