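import Groth.Statements.S16577
-- import your own Groth.Agent.* helpers here
import Mathlib
import Groth.Agent.Lib.Helper7.SHens.Fibre

set_option autoImplicit false
universe u
open Hensel

namespace Groth.Agent.S16577

/-- Let A be a Noetherian local ring with a strict henselization S', and p a prime ideal of A. Call p an
immediate étale generization of the closed point when the strict henselization S'/pS' of A/p has an
irreducible component of dimension 1, that is, some minimal prime P over pS' has dim S'/P = 1. Then
p is an immediate étale generization of the closed point if and only if p is the contraction of some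
prime ideal P of S' with dim S'/P = 1. -/
theorem result
    (A : Type u) [CommRing A] [IsNoetherianRing A] [IsLocalRing A]
    (S' : Type u) [CommRing S'] [IsLocalRing S'] [Algebra A S'] [IsLocalHom (algebraMap A S')]
    [Hensel.IsStrictHenselization A S']
    (p : Ideal A) [p.IsPrime] :
    (∃ P ∈ (p.map (algebraMap A S')).minimalPrimes, ringKrullDim (S' ⧸ P) = 1) ↔
    (∃ P : Ideal S', P.IsPrime ∧ P.comap (algebraMap A S') = p ∧ ringKrullDim (S' ⧸ P) = 1) := by
  have hflat : Module.Flat A S' := Groth.Agent.Helper7.SHens.flat_of_isStrictHenselization A S'
  constructor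
  · rintro ⟨P, hP, hdim⟩
    have hPprime : P.IsPrime := hP.1.1
    exact ⟨P, hPprime,
      Groth.Agent.Helper7.SHens.under_eq_of_mem_minimalPrimes_map p P hP, hdim⟩
  · rintro ⟨P, hPprime, hPp, hdim⟩
    refine ⟨P, ?_, hdim⟩
    have h := Groth.Agent.Helper7.SHens.mem_minimalPrimes_map_under (R := A) (S := S')
      (fun P Q _ _ h₁ h₂ =>
        Groth.Agent.Helper7.SHens.eq_of_le_of_under_eq_of_isStrictHenselization A S' P Q h₁ h₂) P
    rw [Ideal.under_def, hPp] at h
    exact h

end Groth.Agent.S16577
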