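import Groth.Statements.S16583
import Mathlib
import Groth.Agent.S10853
-- import your own Groth.Agent.* helpers here

set_option autoImplicit false
universe u
open CategoryTheory AlgebraicGeometry
open EtCore

namespace Groth.Agent.S16583

open CategoryTheory AlgebraicGeometry IsLocalRing
namespace Aux

theorem stalkMap_bijective (X Y : Scheme.{u}) (hX : ∀ x : X, IsField (X.presheaf.stalk x))
    (hX' : ∀ x : X, IsAlgClosed (X.residueField x))
    (f : Y ⟶ X) [Etale f] (y : Y) : Function.Bijective (f.stalkMap y).hom := by
  algebraize [(f.stalkMap y).hom]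
  have : IsLocalHom (algebraMap (X.presheaf.stalk (f y)) (Y.presheaf.stalk y)) :=
    inferInstanceAs <| IsLocalHom (f.stalkMap y).hom
  have : Algebra.EssFiniteType (X.presheaf.stalk (f y)) (Y.presheaf.stalk y) := by
    rw [← RingHom.essFiniteType_algebraMap, RingHom.algebraMap_toAlgebra]
    exact LocallyOfFiniteType.stalkMap f y
  have : Algebra.FormallyUnramified (X.presheaf.stalk (f y)) (Y.presheaf.stalk y) := by
    rw [← RingHom.formallyUnramified_algebraMap, RingHom.algebraMap_toAlgebra]
    exact FormallyUnramified.stalkMap f y
  have hmR : maximalIdeal (X.presheaf.stalk (f y)) = ⊥ :=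
    IsLocalRing.isField_iff_maximalIdeal_eq.mp (hX (f y))
  have hmS : maximalIdeal (Y.presheaf.stalk y) = ⊥ := by
    rw [← Algebra.FormallyUnramified.map_maximalIdeal (R := X.presheaf.stalk (f y)), hmR,
      Ideal.map_bot]
  haveI : IsAlgClosed (ResidueField (X.presheaf.stalk (f y))) := hX' (f y)
  have hfin : Module.Finite (ResidueField (X.presheaf.stalk (f y)))
      (ResidueField (Y.presheaf.stalk y)) := inferInstance
  have hbij : Function.Bijective (algebraMap (ResidueField (X.presheaf.stalk (f y)))
      (ResidueField (Y.presheaf.stalk y))) :=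
    IsAlgClosed.algebraMap_bijective_of_isIntegral
  show Function.Bijective (algebraMap (X.presheaf.stalk (f y)) (Y.presheaf.stalk y))
  constructor
  · rw [injective_iff_map_eq_zero]
    intro r hr
    have : r ∈ maximalIdeal (X.presheaf.stalk (f y)) := by
      rw [mem_maximalIdeal, mem_nonunits_iff]
      intro hu
      have := hu.map (algebraMap (X.presheaf.stalk (f y)) (Y.presheaf.stalk y))
      rw [hr] at this
      exact not_isUnit_zero this
    rw [hmR] at this
    exact this
  · intro s
    obtain ⟨r, hr⟩ := hbij.2 (residue _ s)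
    obtain ⟨r, rfl⟩ := residue_surjective r
    refine ⟨r, ?_⟩
    rw [ResidueField.algebraMap_residue] at hr
    have : algebraMap (X.presheaf.stalk (f y)) (Y.presheaf.stalk y) r - s ∈
        maximalIdeal (Y.presheaf.stalk y) := by
      rw [← residue_eq_zero_iff, map_sub, hr, sub_self]
    rw [hmS] at this
    exact sub_eq_zero.mp this

theorem main (X Y : Scheme.{u}) (hX : ∀ x : X, IsField (X.presheaf.stalk x))
    (hX' : ∀ x : X, IsAlgClosed (X.residueField x))
    (f : Y ⟶ X) [Etale f] (y : Y) :
    ∃ (V : X.Opens) (s : (V : Scheme.{u}) ⟶ Y),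
      f.base y ∈ V ∧ s ≫ f = V.ι ∧ y ∈ Set.range s.base := by
  have hbij := stalkMap_bijective X Y hX hX' f y
  haveI : IsIso (f.stalkMap y) := by
    rw [ConcreteCategory.isIso_iff_bijective]
    exact hbij
  let φ : Y.presheaf.stalk y ⟶ X.presheaf.stalk (f y) := inv (f.stalkMap y)
  haveI : IsLocalHom φ.hom := isLocalHom_of_isIso φ
  have e : (𝟙 X : X ⟶ X) (f y) = f y := rfl
  have h : f.stalkMap y ≫ φ =
      X.presheaf.stalkSpecializes (Inseparable.of_eq e).specializes ≫
        (𝟙 X : X ⟶ X).stalkMap (f y) := by
    rw [IsIso.hom_inv_id]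
    have e1 : (𝟙 X : X ⟶ X).stalkMap (f y) = 𝟙 _ := Scheme.Hom.stalkMap_id X (f y)
    have e2 : X.presheaf.stalkSpecializes (Inseparable.of_eq e).specializes = 𝟙 _ :=
      TopCat.Presheaf.stalkSpecializes_refl _ _
    rw [e1, e2]
    exact (Category.comp_id (𝟙 (X.presheaf.stalk (f y)))).symm
  obtain ⟨U, hxU, s, h1, h2⟩ := Groth.Agent.S10853.result (𝟙 X) f e φ h
  refine ⟨U, s, hxU, by rw [h2, Category.comp_id], ?_⟩
  have h3 : (Spec.map φ ≫ Y.fromSpecStalk y) (closedPoint _) = y := by
    show Y.fromSpecStalk y (Spec.map φ (closedPoint _)) = y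
    rw [Spec_closedPoint, Scheme.fromSpecStalk_closedPoint]
  rw [h1] at h3
  exact ⟨_, h3⟩

end Aux

/-- Let X be a scheme such that every local ring of X is a field and every residue field of X is
algebraically closed, and let f : Y → X be an étale morphism. Then f is Zariski-locally trivial: for
every point y of Y there exist an open V of X containing f(y) and a section s : V → Y of f over V
whose image contains y. (The published lemma is stated for a specific scheme X^c attached to a
coherent scheme — the constructible topology of a suitable integral cover, which has these two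
properties by construction; the row states the assertion for every scheme with these two properties,
which is all the printed proof uses. The lemma's further assertions about the étale and Zariski
topoi, torsors and gerbes on X^c are not included.) -/
theorem result
    (X Y : Scheme.{u}) (hX : ∀ x : X, IsField (X.presheaf.stalk x))
    (hX' : ∀ x : X, IsAlgClosed (X.residueField x))
    (f : Y ⟶ X) [Etale f] (y : Y) :
    ∃ (V : X.Opens) (s : (V : Scheme.{u}) ⟶ Y), f.base y ∈ V ∧ s ≫ f = V.ι ∧ y ∈ Set.range s.base := by
  exact Aux.main X Y hX hX' f y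

end Groth.Agent.S16583
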