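import Groth.Statements.S1662
import Mathlib
import Groth.Agent.Lib.Helper4.EffCartier

set_option autoImplicit false
universe u
open CategoryTheory CategoryTheory.Limits AlgebraicGeometry
open Divisors

namespace Groth.Agent.S1662

open CategoryTheory CategoryTheory.Limits AlgebraicGeometry TopologicalSpace TensorProduct
namespace H1662
open Groth.Agent.Helper4
/-- ring level: `t` nzd on `B`, `B/t` flat over `R` ⇒ `1 ⊗ t` nzd on `A ⊗[R] B` -/
theorem nzd_tmul (R A B Q : Type u) [CommRing R] [CommRing A] [CommRing B] [CommRing Q]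
    [Algebra R A] [Algebra R B] [Algebra R Q] [Algebra B Q] [IsScalarTower R B Q]
    (t : B) (ht : t ∈ nonZeroDivisors B) (hsurj : Function.Surjective (algebraMap B Q))
    (hker : RingHom.ker (algebraMap B Q) = Ideal.span {t}) (hflat : Module.Flat R Q) :
    ((1 : A) ⊗ₜ[R] t) ∈ nonZeroDivisors (A ⊗[R] B) := by
  let μ : B →ₗ[R] B := LinearMap.mulLeft R t
  let π : B →ₗ[R] Q := (IsScalarTower.toAlgHom R B Q).toLinearMap
  have hπ : Function.Surjective π := hsurj
  have hμ : Function.Injective μ := by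
    intro x y hxy
    have h1 : t * x = t * y := hxy
    have h2 : (x - y) * t = 0 := by rw [sub_mul, mul_comm x, mul_comm y, h1, sub_self]
    exact sub_eq_zero.mp (mem_nonZeroDivisors_iff_right.mp ht _ h2)
  have hex : Function.Exact μ π := by
    intro y
    constructor
    · intro hy
      have : y ∈ RingHom.ker (algebraMap B Q) := hy
      rw [hker] at this
      obtain ⟨c, hc⟩ := Ideal.mem_span_singleton'.mp this
      exact ⟨c, by show t * c = y; rw [mul_comm]; exact hc⟩
    · rintro ⟨c, rfl⟩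
      show algebraMap B Q (t * c) = 0
      rw [← RingHom.mem_ker, hker]
      exact Ideal.mul_mem_right _ _ (Ideal.subset_span rfl)
  have hinj := LinearMap.lTensor_injective_of_exact_of_flat π hπ μ hμ hex A
  have key : ∀ z : A ⊗[R] B, (μ.lTensor A) z = z * ((1 : A) ⊗ₜ[R] t) := by
    intro z
    induction z with
    | zero => simp
    | tmul a b =>
      rw [LinearMap.lTensor_tmul, Algebra.TensorProduct.tmul_mul_tmul, mul_one]
      show a ⊗ₜ[R] (t * b) = a ⊗ₜ[R] (b * t)
      rw [mul_comm]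
    | add x y hx hy => rw [map_add, add_mul, hx, hy]
  rw [mem_nonZeroDivisors_iff_right]
  intro z hz
  apply hinj
  rw [map_zero, key, hz]

theorem nzd_of_isPushout {R B A X Q : CommRingCat.{u}} {g : R ⟶ B} {f : R ⟶ A} {b : B ⟶ X} {a : A ⟶ X}
    (H : IsPushout g f b a) (t : B) (ht : t ∈ nonZeroDivisors B) (q : B ⟶ Q)
    (hsurj : Function.Surjective q.hom) (hker : RingHom.ker q.hom = Ideal.span {t})
    (hflat : (g ≫ q).hom.Flat) :
    b.hom t ∈ nonZeroDivisors X := by
  algebraize [f.hom, g.hom, q.hom, (g ≫ q).hom]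
  have : IsScalarTower R B Q := IsScalarTower.of_algebraMap_eq' rfl
  have h1 := nzd_tmul R A B Q t ht hsurj hker hflat
  let e := ((CommRingCat.isPushout_tensorProduct R A B).isoIsPushout A B H.flip).commRingCatIsoToRingEquiv
  have he : e ((1 : A) ⊗ₜ[R] t) = b.hom t := by
    have := (CommRingCat.isPushout_tensorProduct R A B).inr_isoIsPushout_hom A B H.flip
    exact congr($(this).hom t)
  rw [← he]
  rw [mem_nonZeroDivisors_iff_right] at h1 ⊢
  intro z hz
  have : e.symm z * ((1 : A) ⊗ₜ[R] t) = 0 := by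
    apply e.injective
    rw [map_mul, e.apply_symm_apply, hz, map_zero]
  have := h1 _ this
  rw [← e.apply_symm_apply z, this, map_zero]



theorem main {X S S' : Scheme.{u}} (f : X ⟶ S) (D : X.IdealSheafData) (hD : BlowUp.IsEffCartierIdeal D)
    [Flat (D.subschemeι ≫ f)] (g : S' ⟶ S) :
    BlowUp.IsEffCartierIdeal (D.comap (pullback.fst f g)) := by
  intro z
  have H : IsPullback (pullback.fst f g) (pullback.snd f g) f g := IsPullback.of_hasPullback f g
  -- choose affine opens
  obtain ⟨W, hW, hxW, -⟩ := Opens.isBasis_iff_nbhd.mp (S.isBasis_affineOpens)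
    (show f (pullback.fst f g z) ∈ (⊤ : S.Opens) from trivial)
  have hxfW : pullback.fst f g z ∈ f ⁻¹ᵁ W := hxW
  obtain ⟨U, hxU, hUW, t, ht, hDt⟩ := EffCartier.shrink hD (pullback.fst f g z) (f ⁻¹ᵁ W) hxfW
  have hsW : pullback.snd f g z ∈ g ⁻¹ᵁ W := by
    show g (pullback.snd f g z) ∈ W
    have : (pullback.snd f g ≫ g) z = (pullback.fst f g ≫ f) z := by rw [pullback.condition]
    rw [Scheme.Hom.comp_apply, Scheme.Hom.comp_apply] at this
    rw [this]; exact hxW
  obtain ⟨V, hV, hsV, hVW⟩ := Opens.isBasis_iff_nbhd.mp (S'.isBasis_affineOpens) hsW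
  let UY : (pullback f g).Opens := pullback.fst f g ⁻¹ᵁ U.1 ⊓ pullback.snd f g ⁻¹ᵁ V
  have hzUY : z ∈ UY := ⟨hxU, hsV⟩
  have hUYaff : IsAffineOpen UY := by
    have : IsAffine (W : Scheme.{u}) := hW
    have : IsAffine (V : Scheme.{u}) := hV
    have : IsAffine (U.1 : Scheme.{u}) := U.2
    exact .of_isIso (Scheme.Hom.isPullback_resLE H hVW hUW rfl).isoPullback.hom
  have hiso := isIso_pushoutSection_of_isAffineOpen H hVW hUW (UY := UY) rfl hW hV U.2
  have hpush := (isIso_pushoutSection_iff H hVW hUW rfl).mp hiso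
  have hUYU : UY ≤ pullback.fst f g ⁻¹ᵁ U.1 := inf_le_left
  have hcomap := IdealComap.ideal_comap_eq_map (pullback.fst f g) D ⟨UY, hUYaff⟩ U hUYU
  rw [hDt, Ideal.map_span, Set.image_singleton] at hcomap
  refine ⟨⟨UY, hUYaff⟩, hzUY, _, ?_, hcomap⟩
  -- flatness of the quotient
  let ι := D.subschemeι
  have hιU : IsAffineOpen (ι ⁻¹ᵁ U.1) := U.2.preimage ι
  have e1 : ι ⁻¹ᵁ U.1 ≤ (ι ≫ f) ⁻¹ᵁ W := fun y hy => hUW hy
  have hfl : ((ι ≫ f).appLE W (ι ⁻¹ᵁ U.1) e1).hom.Flat :=
    HasRingHomProperty.appLE (P := @Flat) (ι ≫ f) inferInstance ⟨W, hW⟩ ⟨_, hιU⟩ e1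
  have e2 : (ι ≫ f).appLE W (ι ⁻¹ᵁ U.1) e1 = f.appLE W U.1 hUW ≫ ι.app U.1 := by
    rw [← Scheme.Hom.appLE_eq_app, Scheme.Hom.appLE_comp_appLE]
  rw [e2] at hfl
  exact nzd_of_isPushout hpush t ht (ι.app U.1) (D.subschemeι_app_surjective U)
    (by rw [D.ker_subschemeι_app U, hDt]) hfl

end H1662

/-- Let f : X → S, D an effective Cartier divisor on X such that D → S is flat, and g : S' → S any
morphism. Then the inverse image of D in X ×_S S' is an effective Cartier divisor. -/
theorem result {X S S' : Scheme.{u}} (f : X ⟶ S) (D : X.IdealSheafData) (hD : BlowUp.IsEffCartierIdeal D)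
    [Flat (D.subschemeι ≫ f)] (g : S' ⟶ S) :
    BlowUp.IsEffCartierIdeal (D.comap (pullback.fst f g)) := by
  exact H1662.main f D hD g

end Groth.Agent.S1662
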