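import Groth.Statements.S16644
import Mathlib

set_option autoImplicit false
open QuadZ

namespace Groth.Agent.S16644

section


theorem det_skew_odd {R : Type*} [CommRing R] [IsDomain R] [CharZero R] (n : ℕ) (hn : Odd n)
    (A : Matrix (Fin n) (Fin n) R) (hA : A.transpose = -A) : A.det = 0 := by
  have h1 : A.det = -A.det := by
    conv_lhs => rw [← Matrix.det_transpose, hA, Matrix.det_neg, Fintype.card_fin, hn.neg_one_pow]
    ring
  have h2 : (2 : R) * A.det = 0 := by
    rw [two_mul]
    nth_rewrite 1 [h1]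
    exact neg_add_cancel _
  rcases mul_eq_zero.mp h2 with h | h
  · exact absurd h two_ne_zero
  · exact h

theorem main (n : ℕ) (hn : Odd n) :
    (2 : MvPolynomial (Sym2 (Fin n)) ℤ) ∣
      (Matrix.of fun i j : Fin n =>
        if i = j then 2 * MvPolynomial.X (R := ℤ) (σ := Sym2 (Fin n)) (Sym2.mk i j)
        else MvPolynomial.X (R := ℤ) (σ := Sym2 (Fin n)) (Sym2.mk i j)).det := by
  obtain ⟨M, hM⟩ : ∃ M : Matrix (Fin n) (Fin n) (MvPolynomial (Sym2 (Fin n)) ℤ), M =
      (Matrix.of fun i j : Fin n =>
        if i = j then 2 * MvPolynomial.X (R := ℤ) (σ := Sym2 (Fin n)) (Sym2.mk i j)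
        else MvPolynomial.X (R := ℤ) (σ := Sym2 (Fin n)) (Sym2.mk i j)) := ⟨_, rfl⟩
  rw [← hM]
  let A : Matrix (Fin n) (Fin n) (MvPolynomial (Sym2 (Fin n)) ℤ) :=
    Matrix.of fun i j : Fin n =>
      if i < j then MvPolynomial.X (Sym2.mk i j)
      else if j < i then -MvPolynomial.X (Sym2.mk i j) else 0
  have hA : A.transpose = -A := by
    apply Matrix.ext
    intro i j
    show A j i = -A i j
    show (if j < i then MvPolynomial.X (Sym2.mk j i)
      else if i < j then -MvPolynomial.X (Sym2.mk j i) else 0) =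
      -(if i < j then MvPolynomial.X (Sym2.mk i j)
      else if j < i then -MvPolynomial.X (Sym2.mk i j) else (0 : MvPolynomial (Sym2 (Fin n)) ℤ))
    have hs : Sym2.mk j i = Sym2.mk i j := Sym2.eq_swap
    rcases lt_trichotomy i j with h | h | h
    · rw [if_neg (not_lt.mpr h.le), if_pos h, if_pos h, hs]
    · subst h
      simp
    · rw [if_pos h, if_neg (not_lt.mpr h.le), if_pos h, hs, neg_neg]
  have hdet : A.det = 0 := det_skew_odd n hn A hA
  let φ := Ideal.Quotient.mk (Ideal.span {(2 : MvPolynomial (Sym2 (Fin n)) ℤ)})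
  have h2 : φ 2 = 0 := Ideal.Quotient.eq_zero_iff_mem.mpr (Ideal.subset_span rfl)
  have hneg : ∀ x : MvPolynomial (Sym2 (Fin n)) ℤ, φ (-x) = φ x := by
    intro x
    have : φ x + φ x = 0 := by
      rw [← two_mul, ← map_ofNat φ 2, h2, zero_mul]
    rw [map_neg]
    exact neg_eq_of_add_eq_zero_left this
  have hmap : M.map φ = A.map φ := by
    apply Matrix.ext
    intro i j
    rw [Matrix.map_apply, Matrix.map_apply, hM]
    show φ (if i = j then 2 * MvPolynomial.X (Sym2.mk i j) else MvPolynomial.X (Sym2.mk i j)) =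
      φ (if i < j then MvPolynomial.X (Sym2.mk i j)
      else if j < i then -MvPolynomial.X (Sym2.mk i j) else 0)
    rcases lt_trichotomy i j with h | h | h
    · rw [if_neg (ne_of_lt h), if_pos h]
    · subst h
      rw [if_pos rfl, if_neg (lt_irrefl i), if_neg (lt_irrefl i), map_mul, h2, zero_mul, map_zero]
    · rw [if_neg (ne_of_gt h), if_neg (not_lt.mpr h.le), if_pos h, hneg]
  have h3 : φ M.det = 0 := by
    rw [RingHom.map_det, RingHom.mapMatrix_apply, hmap, ← RingHom.mapMatrix_apply,
      ← RingHom.map_det, hdet, map_zero]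
  exact Ideal.mem_span_singleton.mp (Ideal.Quotient.eq_zero_iff_mem.mp h3)


end


/-- For odd n, the discriminant of the universal quadratic form Σ_{i ≤ j} A_{ij} x_i x_j in n variables
(variables A_{ij} indexed by unordered pairs), i.e. the determinant of the symmetric matrix with
diagonal entries 2 A_{ii} and off-diagonal entries A_{ij}, is divisible by 2 in the integral
polynomial ring ℤ[A_{ij}] (so the half-discriminant is an integral polynomial). -/
theorem result (n : ℕ) (hn : Odd n) :
    (2 : MvPolynomial (Sym2 (Fin n)) ℤ) ∣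
      (Matrix.of fun i j : Fin n =>
        if i = j then 2 * MvPolynomial.X (R := ℤ) (σ := Sym2 (Fin n)) (Sym2.mk i j)
        else MvPolynomial.X (R := ℤ) (σ := Sym2 (Fin n)) (Sym2.mk i j)).det := by
  classical
  exact main n hn

end Groth.Agent.S16644
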