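import Groth.Statements.S16664
import Groth.Agent.Lib.Helper3.ConnA

set_option autoImplicit false
universe v u
open TensorProduct
open Conn

namespace Groth.Agent.S16664

/-- Let B be an A-algebra with a receptacle of differentials (Ω, δ), Ω free on a finite basis ω_1, …,
ω_n, let M be a finitely presented B-module with a connection ∇, let ∇_E be the induced connection
on the B-linear endomorphisms of M (the one with (ev_m ⊗ 1)(∇_E φ) = ∇(φ m) − (φ ⊗ 1)(∇ m)), and for
each q let ∇_q = (1 ⊗ ω_q^*) ∘ ∇_E be the covariant derivative on End_B(M) along the q-th vector of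
the dual basis. If an endomorphism φ satisfies φ ∘ ∇_q(φ) + ∇_q(φ) ∘ φ = 0 for every q, then for all
q, r one has φ ∘ ∇_q(∇_r(φ)) + ∇_q(∇_r(φ)) ∘ φ + ∇_q(φ) ∘ ∇_r(φ) + ∇_r(φ) ∘ ∇_q(φ) = 0. (The
published statement takes M graded with ∇ preserving the grading and φ of odd degree, and is written
with supercommutators; for such φ the supercommutators in question are exactly these
anticommutators, and the identity holds for an arbitrary endomorphism.) -/
theorem result {A : Type v} {B Ω M : Type u}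
    [CommRing A] [CommRing B] [Algebra A B]
    [AddCommGroup Ω] [Module B Ω] [Module A Ω] [IsScalarTower A B Ω] {n : ℕ} (bΩ : Module.Basis (Fin n) B Ω)
    [AddCommGroup M] [Module B M] [Module A M] [IsScalarTower A B M] [Module.FinitePresentation B M]
    (δ : Derivation A B Ω) (nabla : M →ₗ[A] M ⊗[B] Ω) (hc : Conn.IsConn δ nabla)
    (nablaE : (M →ₗ[B] M) →ₗ[A] (M →ₗ[B] M) ⊗[B] Ω) (hE : Conn.IsHomConn nabla nabla nablaE)
    (φ : M →ₗ[B] M)
    (hφ : ∀ q : Fin n, φ ∘ₗ Conn.along nablaE (bΩ.coord q) φ + Conn.along nablaE (bΩ.coord q) φ ∘ₗ φ = 0)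
    (q r : Fin n) :
    φ ∘ₗ Conn.along nablaE (bΩ.coord q) (Conn.along nablaE (bΩ.coord r) φ)
      + Conn.along nablaE (bΩ.coord q) (Conn.along nablaE (bΩ.coord r) φ) ∘ₗ φ
      + Conn.along nablaE (bΩ.coord q) φ ∘ₗ Conn.along nablaE (bΩ.coord r) φ
      + Conn.along nablaE (bΩ.coord r) φ ∘ₗ Conn.along nablaE (bΩ.coord q) φ = 0 := by
  have key : ∀ (θ : Ω →ₗ[B] B) (ψ : M →ₗ[B] M) (m : M),
      (Conn.along nablaE θ ψ) m = Conn.along nabla θ (ψ m) - ψ (Conn.along nabla θ m) :=
    fun θ ψ m => Groth.Agent.Helper3.ConnLib.along_hom_apply nabla nabla nablaE hE θ ψ m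
  have hr : ∀ m : M, φ (Conn.along nablaE (bΩ.coord r) φ m) + Conn.along nablaE (bΩ.coord r) φ (φ m) = 0 := by
    intro m
    have := congrArg (fun f : M →ₗ[B] M => f m) (hφ r)
    simpa using this
  ext m
  set ρ := Conn.along nablaE (bΩ.coord r) φ with hρ
  set D := Conn.along nabla (bΩ.coord q) with hD
  simp only [LinearMap.add_apply, LinearMap.comp_apply, LinearMap.zero_apply]
  rw [key (bΩ.coord q) ρ m, key (bΩ.coord q) ρ (φ m), key (bΩ.coord q) φ (ρ m), key (bΩ.coord q) φ m]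
  rw [← hD]
  have e1 : D (ρ (φ m)) + D (φ (ρ m)) = 0 := by
    rw [← map_add, add_comm, hr m, map_zero]
  have e2 : φ (ρ (D m)) + ρ (φ (D m)) = 0 := hr (D m)
  simp only [map_sub]
  have e1' : D (ρ (φ m)) = - D (φ (ρ m)) := eq_neg_of_add_eq_zero_left e1
  have e2' : φ (ρ (D m)) = - ρ (φ (D m)) := eq_neg_of_add_eq_zero_left e2
  rw [e1', e2']
  abel

end Groth.Agent.S16664
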