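import Groth.Statements.S16688
import Mathlib

set_option autoImplicit false
universe u v w
open ComodSub

namespace Groth.Agent.S16688

section
open TensorProduct

section key
variable (k : Type u) [CommRing k] (A : Type v) [CommRing A] [HopfAlgebra k A]

open Coalgebra HopfAlgebra WithConv in
theorem aux (t : A ⊗[k] A) :
    Algebra.TensorProduct.lift
      ((Algebra.TensorProduct.includeRight : A →ₐ[k] A ⊗[k] A).comp (antipodeAlgHom k A))
      ((Algebra.TensorProduct.includeLeft : A →ₐ[k] A ⊗[k] A).comp (antipodeAlgHom k A))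
      (fun _ _ => Commute.all _ _) t =
    TensorProduct.map (antipode k) (antipode k) (TensorProduct.comm k A A t) := by
  induction t using TensorProduct.induction_on with
  | zero => simp
  | tmul x y =>
    simp [Algebra.TensorProduct.tmul_mul_tmul]
  | add x y hx hy => simp only [map_add, hx, hy]

open Coalgebra HopfAlgebra WithConv in
theorem comul_antipode (a : A) :
    comul (R := k) (antipode k a) =
      TensorProduct.map (antipode k) (antipode k) (TensorProduct.comm k A A (comul (R := k) a)) := by
  obtain ⟨δ, hδ⟩ : ∃ δ : WithConv (A →ₐ[k] A ⊗[k] A), δ = toConv (Bialgebra.comulAlgHom k A) :=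
    ⟨_, rfl⟩
  obtain ⟨i₁, h1⟩ : ∃ i : WithConv (A →ₐ[k] A ⊗[k] A),
    i = toConv (Algebra.TensorProduct.includeLeft : A →ₐ[k] A ⊗[k] A) := ⟨_, rfl⟩
  obtain ⟨i₂, h2⟩ : ∃ i : WithConv (A →ₐ[k] A ⊗[k] A),
    i = toConv (Algebra.TensorProduct.includeRight : A →ₐ[k] A ⊗[k] A) := ⟨_, rfl⟩
  have e1 : δ = i₁ * i₂ := by
    apply WithConv.ext
    apply AlgHom.ext
    intro a
    change δ a = (i₁ * i₂) a
    rw [AlgHom.convMul_apply, hδ, h1, h2]
    have : Algebra.TensorProduct.lift (Algebra.TensorProduct.includeLeft : A →ₐ[k] A ⊗[k] A)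
        (Algebra.TensorProduct.includeRight : A →ₐ[k] A ⊗[k] A) (fun _ _ => Commute.all _ _) =
        AlgHom.id k _ := by ext <;> simp
    change comul a = Algebra.TensorProduct.lift (Algebra.TensorProduct.includeLeft : A →ₐ[k] A ⊗[k] A)
        (Algebra.TensorProduct.includeRight : A →ₐ[k] A ⊗[k] A) (fun _ _ => Commute.all _ _) (comul a)
    rw [this]; rfl
  have e2 : δ⁻¹ = i₂⁻¹ * i₁⁻¹ := by rw [e1]; exact mul_inv_rev i₁ i₂
  have e3 : δ⁻¹ a = (i₂⁻¹ * i₁⁻¹) a := by rw [e2]
  rw [AlgHom.convMul_apply] at e3
  rw [hδ, h1, h2] at e3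
  have := aux k A (comul (R := k) a)
  rw [← this]
  exact e3

end key


section main
variable (k : Type u) [CommRing k] (A : Type v) [CommRing A] [HopfAlgebra k A]
    (M : Type w) [AddCommGroup M] [Module k M]

open Coalgebra HopfAlgebra

/-- `a ⊗ (b ⊗ m) ↦ m ⊗ (S b ⊗ S a)` -/
noncomputable def Φ : A ⊗[k] (A ⊗[k] M) →ₗ[k] M ⊗[k] (A ⊗[k] A) :=
  ((TensorProduct.map (antipode k) (antipode k) ∘ₗ
      (TensorProduct.comm k A A).toLinearMap).lTensor M) ∘ₗ
    (TensorProduct.comm k (A ⊗[k] A) M).toLinearMap ∘ₗ
      (TensorProduct.assoc k A A M).symm.toLinearMap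

theorem Φ_tmul (a b : A) (m : M) :
    Φ k A M (a ⊗ₜ (b ⊗ₜ m)) = m ⊗ₜ (antipode k b ⊗ₜ antipode k a) := by
  simp [Φ]

variable {k A M}

theorem I1 (l : ComodSub.LComod k A M) (t : A ⊗[k] M) :
    TensorProduct.assoc k M A A ((ComodSub.rcoactOfLeft l).rTensor A
      (TensorProduct.comm k A M ((antipode k (A := A)).rTensor M t))) =
    Φ k A M (l.coact.lTensor A t) := by
  induction t using TensorProduct.induction_on with
  | zero => simp
  | tmul a m =>
    simp only [LinearMap.rTensor_tmul, TensorProduct.comm_tmul, LinearMap.lTensor_tmul]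
    rw [ComodSub.rcoactOfLeft_apply]
    generalize l.coact m = s
    induction s using TensorProduct.induction_on with
    | zero => simp
    | tmul b n => simp [Φ_tmul]
    | add x y hx hy => simp only [map_add, TensorProduct.add_tmul, TensorProduct.tmul_add, hx, hy]
  | add x y hx hy => simp only [map_add, hx, hy]

theorem I2 (t : A ⊗[k] M) :
    (comul (R := k) (A := A)).lTensor M
      (TensorProduct.comm k A M ((antipode k (A := A)).rTensor M t)) =
    Φ k A M (TensorProduct.assoc k A A M ((comul (R := k) (A := A)).rTensor M t)) := by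
  induction t using TensorProduct.induction_on with
  | zero => simp
  | tmul a m =>
    simp only [LinearMap.rTensor_tmul, TensorProduct.comm_tmul, LinearMap.lTensor_tmul]
    rw [comul_antipode]
    generalize comul (R := k) a = u
    induction u using TensorProduct.induction_on with
    | zero => simp
    | tmul x y => simp [Φ_tmul]
    | add x y hx hy => simp only [map_add, TensorProduct.add_tmul, TensorProduct.tmul_add, hx, hy]
  | add x y hx hy => simp only [map_add, hx, hy]

theorem I3 (t : A ⊗[k] M) :
    (counit (R := k) (A := A)).lTensor M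
      (TensorProduct.comm k A M ((antipode k (A := A)).rTensor M t)) =
    TensorProduct.comm k k M ((counit (R := k) (A := A)).rTensor M t) := by
  induction t using TensorProduct.induction_on with
  | zero => simp
  | tmul a m => simp
  | add x y hx hy => simp only [map_add, hx, hy]

theorem main (l : ComodSub.LComod k A M) :
    ∃ c : HopfRep.Comod k A M, c.coact = ComodSub.rcoactOfLeft l := by
  refine ⟨{ coact := ComodSub.rcoactOfLeft l, coassoc := ?_, counit_comp := ?_ }, rfl⟩
  · apply LinearMap.ext
    intro v
    simp only [LinearMap.coe_comp, Function.comp_apply, LinearEquiv.coe_coe]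
    rw [ComodSub.rcoactOfLeft_apply, I1, I2]
    congr 1
    exact LinearMap.congr_fun l.coassoc v
  · apply LinearMap.ext
    intro v
    simp only [LinearMap.coe_comp, Function.comp_apply]
    rw [ComodSub.rcoactOfLeft_apply, I3]
    have := LinearMap.congr_fun l.counit_comp v
    simp only [LinearMap.coe_comp, Function.comp_apply] at this
    rw [this]
    simp

end main


end


/-- Let `k` be a commutative ring, `A` a commutative Hopf algebra over `k` with antipode `S`, and `M` a
`k`-module with a left `A`-comodule structure `m ↦ Σ m₋₁ ⊗ m₀`. Then the map `M → M ⊗ A`, `m ↦ Σ m₀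
⊗ S(m₋₁)`, is coassociative and counital: it is the coaction of a right `A`-comodule structure on
`M` (a right structure is determined by its coaction, so this structure is unique). -/
theorem result (k : Type u) [CommRing k]
    (A : Type v) [CommRing A] [HopfAlgebra k A]
    (M : Type w) [AddCommGroup M] [Module k M] (l : ComodSub.LComod k A M) :
    ∃ c : HopfRep.Comod k A M, c.coact = ComodSub.rcoactOfLeft l := by
  classical
  exact main l

end Groth.Agent.S16688
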