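import Groth.Statements.S16699
import Groth.Agent.Lib.Helper2.AlgSt.RepDiagApps3
import Groth.Agent.Lib.Helper2.AlgSt.RelDiag


set_option autoImplicit false
universe u
open AlgSt AlgSt.IsWellNighAffine

namespace Groth.Agent.S16699

open CategoryTheory AlgebraicGeometry in
/-- An algebraic stack affine over a well-nigh affine algebraic stack is well-nigh affine. -/
theorem result (S : Scheme.{u}) (𝒳 𝒳' : AlgSt.Cat S)
    (h𝒳 : AlgSt.IsAlgStack Scheme.fppfPrecoverage 𝒳) (h𝒳' : AlgSt.IsAlgStack Scheme.fppfPrecoverage 𝒳')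
    (hw : AlgSt.IsWellNighAffine 𝒳) (f : 𝒳' ⥤ᵇ 𝒳) (hf : AlgSt.RepByAlgSpWith AlgSp.IsAffineMor f) :
    AlgSt.IsWellNighAffine 𝒳' := by
  obtain ⟨U, x, hU, hx⟩ := hw
  obtain ⟨G, eG, heG, hPG⟩ := hf U x
  obtain ⟨W, i, fst, sq, hW⟩ := hPG hU (𝟙 _)
  haveI : IsIso fst := sq.isIso_fst_of_isIso
  haveI : IsIso fst.hom :=
    inferInstanceAs (IsIso ((sheafToPresheaf (AlgSp.J S) (Type (u + 1))).map fst))
  have hE : FibCat.IsEquivOver (BasedFunctor.comp (AlgSt.ofOverCat W)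
      (BasedFunctor.comp (AlgSt.ofSpMap fst) eG)) :=
    Groth.Agent.Helper2.FibCatLib.ReprInv.isEquivOver_comp
      (Groth.Agent.Helper2.AlgStLib.ofOverCat_isEquivOver W)
      (Groth.Agent.Helper2.FibCatLib.ReprInv.isEquivOver_comp
        (Groth.Agent.Helper2.StkLib.isEquivOver_ofPshMap_of_isIso fst.hom) heG)
  refine ⟨W, BasedFunctor.comp (BasedFunctor.comp (AlgSt.ofOverCat W)
      (BasedFunctor.comp (AlgSt.ofSpMap fst) eG)) (FibCat.fpSnd x f), hW, ?_⟩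
  have h1 := Groth.Agent.Helper2.AlgStLib.repByAlgSpWith_fpSnd _ x f hx
  exact (Groth.Agent.Helper2.AlgStLib.repByAlgSpWith_of_square _ (FibCat.fpSnd x f)
    (BasedFunctor.comp (BasedFunctor.comp (AlgSt.ofOverCat W)
      (BasedFunctor.comp (AlgSt.ofSpMap fst) eG)) (FibCat.fpSnd x f))
    (BasedFunctor.comp (AlgSt.ofOverCat W) (BasedFunctor.comp (AlgSt.ofSpMap fst) eG))
    (BasedFunctor.id _) hE Groth.Agent.Helper2.FibCatLib.ReprInv.isEquivOver_id (Iso.refl _)).1 h1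

end Groth.Agent.S16699
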