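import Groth.Statements.S16704
import Mathlib
import Groth.Agent.Lib.Lead.UCMc
import Groth.Agent.Lib.Helper2.AlgSp.Mor

set_option autoImplicit false
universe u
open AlgSt

namespace Groth.Agent.S16704

open CategoryTheory AlgebraicGeometry in
/-- Let `𝒳` be an algebraic stack, `Y` an algebraic space and `f : 𝒳 → Y` a morphism. If every base
change of `f` to an affine scheme flat over `Y` is a categorical moduli space, the morphism `f`
itself is a uniform categorical moduli space. -/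
theorem result (S : Scheme.{u}) (𝒳 : AlgSt.Cat S)
    (h𝒳 : AlgSt.IsAlgStack Scheme.fppfPrecoverage 𝒳) (Y : AlgSp.Sp S) (hY : AlgSp.IsAlgSpace Y)
    (f : 𝒳 ⥤ᵇ AlgSt.ofSp Y)
    (hf : ∀ (Y' : Over S), IsAffine Y'.left → ∀ (g : (AlgSp.yon S).obj Y' ⟶ Y), AlgSp.LocP @Flat g →
      AlgSt.IsCatModuli (FibCat.fpFst (AlgSt.ofSpMap g) f)) :
    AlgSt.IsUnifCatModuli f := by
  classical
  have hf' : ∀ (V : Over S), IsAffine V.left → ∀ g₀ : (AlgSp.yon S).obj V ⟶ Y, AlgSp.LocP @Flat g₀ →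
      Groth.Agent.Lead.UCM.IsCMsec (FibCat.fpFst (AlgSt.ofSpMap g₀) f) :=
    fun V hV g₀ hg₀ => ((Groth.Agent.Lead.UCM.isCatModuli_iff _).1 (hf V hV g₀ hg₀)).2
  have main : ∀ (M' : AlgSp.Sp S), AlgSp.IsAlgSpace M' → ∀ g : M' ⟶ Y, AlgSp.LocP @Flat g →
      AlgSt.IsCatModuli (FibCat.fpFst (AlgSt.ofSpMap g) f) := fun M' hM' g hg =>
    (Groth.Agent.Lead.UCM.isCatModuli_iff _).2
      ⟨hM', Groth.Agent.Lead.UCM.isCMsec_of_affine f hY hf' hM' g hg h𝒳.isStack.1⟩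
  refine ⟨?_, main⟩
  have h1 := main Y hY (CategoryTheory.CategoryStruct.id Y)
    (Groth.Agent.Helper2.AlgSpBasic.locP_id @Flat hY.diag)
  exact (Groth.Agent.Lead.UCM.isCatModuli_iff _).2
    ⟨hY, Groth.Agent.Lead.UCM.isCMsec_of_id f ((Groth.Agent.Lead.UCM.isCatModuli_iff _).1 h1).2⟩

end Groth.Agent.S16704
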