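import Groth.Statements.S16707
import Mathlib

set_option autoImplicit false
universe u v
open CAlg

namespace Groth.Agent.S16707

section
open scoped TensorProduct

theorem sup_pow (A : Type u) [CommRing A] (I : Ideal A) (N : Type v) [AddCommGroup N] [Module A N]
    (R : Submodule A N) (h : R ⊔ I • (⊤ : Submodule A N) = ⊤) (k : ℕ) :
    R ⊔ (I ^ k) • (⊤ : Submodule A N) = ⊤ := by
  induction k with
  | zero =>
    rw [pow_zero, Ideal.one_eq_top, Submodule.top_smul]
    exact sup_top_eq R
  | succ k ih =>
    rw [eq_top_iff]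
    calc (⊤ : Submodule A N) = R ⊔ I • (⊤ : Submodule A N) := h.symm
      _ = R ⊔ I • (R ⊔ (I ^ k) • (⊤ : Submodule A N)) := by rw [ih]
      _ = R ⊔ (I • R ⊔ I • ((I ^ k) • (⊤ : Submodule A N))) := by rw [Submodule.smul_sup]
      _ ≤ R ⊔ (I ^ (k + 1)) • (⊤ : Submodule A N) := by
        apply sup_le le_sup_left
        apply sup_le
        · exact le_trans Submodule.smul_le_right le_sup_left
        · rw [← Submodule.mul_smul, ← pow_succ']
          exact le_sup_right

theorem le_pow (A : Type u) [CommRing A] (I : Ideal A) (M : Type v) [AddCommGroup M] [Module A M]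
    (K : Submodule A M) (h : K ≤ I • K) (k : ℕ) : K ≤ (I ^ k) • K := by
  induction k with
  | zero =>
    rw [pow_zero, Ideal.one_eq_top, Submodule.top_smul]
  | succ k ih =>
    calc K ≤ I • K := h
      _ ≤ I • ((I ^ k) • K) := Submodule.smul_mono (le_refl I) ih
      _ = (I ^ (k + 1)) • K := by rw [← Submodule.mul_smul, ← pow_succ']

theorem main (A : Type u) [CommRing A] (I : Ideal A)
    (hI : IsNilpotent I) (M N : Type v) [AddCommGroup M] [Module A M] [AddCommGroup N] [Module A N]
    [Module.Flat A N] (f : M →ₗ[A] N)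
    (hf : Function.Bijective (f.baseChange (A ⧸ I))) :
    Function.Bijective f := by
  classical
  obtain ⟨n, hn⟩ := hI
  -- step 1
  have step1 : ∀ x : M, f x ∈ I • (⊤ : Submodule A N) → x ∈ I • (⊤ : Submodule A M) := by
    intro x hx
    have h1 : (1 : A ⧸ I) ⊗ₜ[A] (f x) = 0 := by
      apply (TensorProduct.quotTensorEquivQuotSMul N I).injective
      rw [TensorProduct.quotTensorEquivQuotSMul_mk_one_tmul, map_zero]
      exact (Submodule.Quotient.mk_eq_zero _).mpr hx
    have h2 : f.baseChange (A ⧸ I) ((1 : A ⧸ I) ⊗ₜ[A] x) = f.baseChange (A ⧸ I) 0 := by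
      rw [LinearMap.baseChange_tmul, h1, map_zero]
    have h3 := hf.1 h2
    have h4 := congrArg (TensorProduct.quotTensorEquivQuotSMul M I) h3
    rw [TensorProduct.quotTensorEquivQuotSMul_mk_one_tmul, map_zero] at h4
    exact (Submodule.Quotient.mk_eq_zero _).mp h4
  -- step 2
  have step2 : ∀ y : N, ∃ x : M, y - f x ∈ I • (⊤ : Submodule A N) := by
    intro y
    obtain ⟨t, ht⟩ := hf.2 ((1 : A ⧸ I) ⊗ₜ[A] y)
    obtain ⟨x, hx⟩ := Submodule.Quotient.mk_surjective _ (TensorProduct.quotTensorEquivQuotSMul M I t)
    have ht2 : t = (1 : A ⧸ I) ⊗ₜ[A] x := by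
      apply (TensorProduct.quotTensorEquivQuotSMul M I).injective
      rw [TensorProduct.quotTensorEquivQuotSMul_mk_one_tmul, hx]
    refine ⟨x, ?_⟩
    rw [ht2, LinearMap.baseChange_tmul] at ht
    have h4 := congrArg (TensorProduct.quotTensorEquivQuotSMul N I) ht
    rw [TensorProduct.quotTensorEquivQuotSMul_mk_one_tmul,
      TensorProduct.quotTensorEquivQuotSMul_mk_one_tmul] at h4
    rw [← Submodule.Quotient.mk_eq_zero, Submodule.Quotient.mk_sub, h4, sub_self]
  -- surjectivity
  have hsup : LinearMap.range f ⊔ I • (⊤ : Submodule A N) = ⊤ := by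
    rw [eq_top_iff]
    intro y _
    obtain ⟨x, hx⟩ := step2 y
    have : y = f x + (y - f x) := by abel
    rw [this]
    exact Submodule.add_mem_sup (LinearMap.mem_range_self f x) hx
  have hsurj : Function.Surjective f := by
    rw [← LinearMap.range_eq_top]
    have h1 := sup_pow A I N (LinearMap.range f) hsup n
    rw [hn, Ideal.zero_eq_bot, Submodule.bot_smul, sup_bot_eq] at h1
    exact h1
  refine ⟨?_, hsurj⟩
  -- injectivity
  have hK : LinearMap.ker f ≤ I • LinearMap.ker f := by
    intro x hx
    have hx0 : f x = 0 := LinearMap.mem_ker.mp hx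
    have hxI : x ∈ I • (⊤ : Submodule A M) := by
      apply step1
      rw [hx0]
      exact Submodule.zero_mem _
    have hspan : (⊤ : Submodule A M) = Submodule.span A (Set.range (id : M → M)) := by
      rw [Set.range_id, Submodule.span_univ]
    rw [hspan, Submodule.mem_ideal_smul_span_iff_exists_sum] at hxI
    obtain ⟨a, ha, hax⟩ := hxI
    -- relation in N
    have hrel : ∑ i : a.support, a i.1 • f i.1 = 0 := by
      have h1 : f (a.sum fun i c => c • (id i : M)) = 0 := by rw [hax, hx0]
      rw [Finsupp.sum, map_sum] at h1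
      rw [← h1, ← Finset.sum_coe_sort a.support (fun i => f (a i • (id i : M)))]
      apply Finset.sum_congr rfl
      intro i _
      rw [map_smul]
      rfl
    obtain ⟨k, b, y, hy1, hy2⟩ := Module.Flat.isTrivialRelation_of_sum_smul_eq_zero hrel
    choose m' hm' using fun l => hsurj (y l)
    let κ : a.support → M := fun i => i.1 - ∑ l, b i l • m' l
    have hκ : ∀ i, κ i ∈ LinearMap.ker f := by
      intro i
      rw [LinearMap.mem_ker]
      show f (i.1 - ∑ l, b i l • m' l) = 0
      have hy1i : f i.1 = ∑ j, b i j • y j := hy1 i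
      rw [map_sub, map_sum, hy1i, sub_eq_zero]
      apply Finset.sum_congr rfl
      intro l _
      rw [map_smul, hm']
    have hx2 : x = ∑ i : a.support, a i.1 • κ i := by
      have e1 : ∑ i : a.support, a i.1 • κ i =
          ∑ i : a.support, a i.1 • (i.1 : M) - ∑ i : a.support, ∑ l, (a i.1 * b i l) • m' l := by
        rw [← Finset.sum_sub_distrib]
        apply Finset.sum_congr rfl
        intro i _
        show a i.1 • (i.1 - ∑ l, b i l • m' l) = _
        rw [smul_sub, Finset.smul_sum]
        congr 1
        apply Finset.sum_congr rfl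
        intro l _
        rw [mul_smul]
      have e2 : ∑ i : a.support, ∑ l, (a i.1 * b i l) • m' l = 0 := by
        rw [Finset.sum_comm]
        apply Finset.sum_eq_zero
        intro l _
        rw [← Finset.sum_smul, hy2 l, zero_smul]
      have e3 : ∑ i : a.support, a i.1 • (i.1 : M) = x := by
        rw [← hax, Finsupp.sum, ← Finset.sum_coe_sort a.support (fun i => a i • (id i : M))]
        rfl
      rw [e1, e2, sub_zero, e3]
    rw [hx2]
    apply Submodule.sum_mem
    intro i _
    exact Submodule.smul_mem_smul (ha i.1) (hκ i)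
  have h2 := le_pow A I M (LinearMap.ker f) hK n
  rw [hn, Ideal.zero_eq_bot, Submodule.bot_smul] at h2
  exact LinearMap.ker_eq_bot.mp (le_bot_iff.mp h2)


end


open TensorProduct in
/-- Let A be a commutative ring, I a nilpotent ideal of A and f : M → N a homomorphism of A-modules with
N flat over A (no finiteness assumption on M or N). If the base change of f to A/I, that is M/IM →
N/IN, is bijective, then f is bijective. -/
theorem result (A : Type u) [CommRing A] (I : Ideal A)
    (hI : IsNilpotent I) (M N : Type v) [AddCommGroup M] [Module A M] [AddCommGroup N] [Module A N]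
    [Module.Flat A N] (f : M →ₗ[A] N)
    (hf : Function.Bijective (f.baseChange (A ⧸ I))) :
    Function.Bijective f := by
  classical
  exact main A I hI M N f hf

end Groth.Agent.S16707
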