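import Groth.Statements.S16708
import Mathlib
import Groth.Agent.Lib.Helper9.LinRedH1

set_option autoImplicit false
universe u
open HopfRep

namespace Groth.Agent.S16708

namespace Aux

open TensorProduct Groth.Agent.Helper9 ConstGrp

variable (k : Type u) [Field k] (G : Type u) [Group G] [Fintype G] [DecidableEq G]

/-- the averaging functional -/
noncomputable def avg : ConstGrp.F k G →ₗ[k] k :=
  ((Fintype.card G : ℕ) : k)⁻¹ • ∑ g : G, (ConstGrp.ev k g).toLinearMap

lemma avg_apply (f : ConstGrp.F k G) :
    avg k G f = ((Fintype.card G : ℕ) : k)⁻¹ * ∑ g : G, f g := by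
  simp [avg, LinearMap.sum_apply]

lemma avg_e (b : G) : avg k G (ConstGrp.e k b) = ((Fintype.card G : ℕ) : k)⁻¹ := by
  rw [avg_apply]
  have : ∑ g : G, ConstGrp.e k b g = 1 := by
    simp only [ConstGrp.e_apply, Finset.sum_ite_eq', Finset.mem_univ, if_true]
  rw [this, mul_one]

end Aux

/-- Let G be a finite group and k a field in which the order of G is a nonzero element. Then the
constant group scheme of G over k is linearly reductive: every finite-dimensional comodule over its
coordinate Hopf algebra (the algebra of functions G → k with the Hopf structure of the constant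
group) is semisimple, i.e. every subcomodule admits a complementary subcomodule. -/
theorem result (k : Type u) [Field k] (G : Type u) [Group G]
    [Fintype G] [DecidableEq G] (hG : ((Fintype.card G : ℕ) : k) ≠ 0) :
    HopfRep.IsLinearlyReductive k (ConstGrp.F k G) := by
  apply Groth.Agent.Helper9.LinRedH1.isLinearlyReductive_of_integral (Aux.avg k G)
  · rw [Aux.avg_apply]
    simp only [ConstGrp.one_apply, Finset.sum_const, Finset.card_univ, nsmul_eq_mul, mul_one]
    exact inv_mul_cancel₀ hG
  · intro f
    rw [ConstGrp.comul_eq_sum]
    simp only [map_sum, map_smul, Groth.Agent.Helper9.slice_tmul, Aux.avg_e]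
    apply ConstGrp.ext
    intro h
    rw [ConstGrp.sum_apply, ConstGrp.smul_apply, ConstGrp.one_apply, mul_one, Aux.avg_apply]
    rw [Finset.sum_eq_single h]
    · rw [ConstGrp.sum_apply]
      simp only [ConstGrp.smul_apply, ConstGrp.e_apply_self, mul_one]
      rw [← Finset.sum_mul, mul_comm]
      congr 1
      exact Fintype.sum_equiv (Equiv.mulLeft h) _ _ (fun b => rfl)
    · intro a _ ha
      rw [ConstGrp.sum_apply]
      apply Finset.sum_eq_zero
      intro b _
      simp only [ConstGrp.smul_apply]
      rw [ConstGrp.e_apply_of_ne (Ne.symm ha)]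
      ring
    · intro hh; exact absurd (Finset.mem_univ h) hh

end Groth.Agent.S16708
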