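import Groth.Statements.S16709
import Mathlib
import Groth.Agent.Lib.Helper9.LinRedLift2

set_option autoImplicit false
universe u v
open HopfRep

namespace Groth.Agent.S16709

namespace Aux

open TensorProduct Groth.Agent.Helper9

theorem fwd {k : Type u} [Field k] {A : Type v} [CommRing A] [HopfAlgebra k A]
    (hG : HopfRep.IsLinearlyReductive k A)
    (V : Type v) [AddCommGroup V] [Module k V] [HopfRep.Comod k A V] (hV : Module.Finite k V)
    (π : V →ₗ[k] k) (hsurj : Function.Surjective π)
    (hπ : LinearMap.rTensor A π ∘ₗ HopfRep.Comod.coact (k := k) (A := A) (V := V) =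
            (TensorProduct.mk k k A).flip (1 : A) ∘ₗ π) :
    ∃ v ∈ HopfRep.fixedPts k A V, π v ≠ 0 := by
  let ck : HopfRep.Comod k A k := HopfRep.Comod.trivial k A k
  have hπ' : Hoch.IsComodHom A π := hπ.symm
  have hK : HopfRep.IsSubcomod (k := k) (A := A) (LinearMap.ker π) :=
    isSubcomod_ker_of_isComodHom π hπ'
  obtain ⟨W', hW', hcompl⟩ := hG V hV (LinearMap.ker π) hK
  obtain ⟨v₀, hv₀⟩ := hsurj 1
  have hv₀top : v₀ ∈ (LinearMap.ker π) ⊔ W' := by rw [hcompl.sup_eq_top]; trivial
  obtain ⟨a, ha, w, hw, hsum⟩ := Submodule.mem_sup.mp hv₀top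
  have hπw : π w = 1 := by
    rw [← hv₀, ← hsum, map_add, LinearMap.mem_ker.mp ha, zero_add]
  refine ⟨w, ?_, by rw [hπw]; exact one_ne_zero⟩
  -- w is fixed
  obtain ⟨t, ht⟩ := hW' w hw
  show HopfRep.Comod.coact (k := k) (A := A) w = w ⊗ₜ[k] (1 : A)
  have hinj0 : Function.Injective (π ∘ₗ W'.subtype) := by
    rw [← LinearMap.ker_eq_bot, LinearMap.ker_eq_bot']
    intro x hx
    have hx1 : (x : V) ∈ LinearMap.ker π := hx
    have hx2 : (x : V) ∈ (LinearMap.ker π) ⊓ W' := ⟨hx1, x.2⟩
    rw [hcompl.inf_eq_bot] at hx2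
    exact Subtype.ext ((Submodule.mem_bot k).mp hx2)
  have hinj : Function.Injective ((π ∘ₗ W'.subtype).rTensor A) :=
    Module.Flat.rTensor_preserves_injective_linearMap _ hinj0
  have ht2 : t = (⟨w, hw⟩ : W') ⊗ₜ[k] (1 : A) := by
    apply hinj
    rw [LinearMap.rTensor_comp, LinearMap.comp_apply, ht, LinearMap.comp_apply,
      LinearMap.rTensor_tmul, LinearMap.rTensor_tmul]
    have h1 := LinearMap.congr_fun hπ w
    simp only [LinearMap.comp_apply] at h1
    rw [h1]
    rfl
  rw [← ht, ht2, LinearMap.rTensor_tmul]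
  rfl

theorem bwd_lift {k : Type u} [Field k] {A : Type v} [CommRing A] [HopfAlgebra k A]
    (h : ∀ (V : Type v) [AddCommGroup V] [Module k V] [HopfRep.Comod k A V], Module.Finite k V →
        ∀ π : V →ₗ[k] k, Function.Surjective π →
          LinearMap.rTensor A π ∘ₗ HopfRep.Comod.coact (k := k) (A := A) (V := V) =
            (TensorProduct.mk k k A).flip (1 : A) ∘ₗ π →
          ∃ v ∈ HopfRep.fixedPts k A V, π v ≠ 0)
    (X Y : Type v) [AddCommGroup X] [Module k X] [HopfRep.Comod k A X]
    [AddCommGroup Y] [Module k Y] [HopfRep.Comod k A Y] (φ : X →ₗ[k] Y)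
    (hX : Module.Finite k X) (hφ : Hoch.IsComodHom A φ) (hsurj : Function.Surjective φ)
    (y : Y) (hy : y ∈ HopfRep.fixedPts k A Y) : ∃ x ∈ HopfRep.fixedPts k A X, φ x = y := by
  by_cases hy0 : y = 0
  · exact ⟨0, Submodule.zero_mem _, by rw [map_zero, hy0]⟩
  -- the line spanned by y
  have hY₀ : HopfRep.IsSubcomod (k := k) (A := A) (Submodule.span k {y}) := by
    intro w hw
    obtain ⟨c, rfl⟩ := Submodule.mem_span_singleton.mp hw
    have hyc : HopfRep.Comod.coact (k := k) (A := A) y = y ⊗ₜ[k] (1 : A) := hy
    rw [map_smul, hyc]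
    refine ⟨c • ((⟨y, Submodule.mem_span_singleton_self y⟩ : Submodule.span k {y}) ⊗ₜ[k] (1 : A)), ?_⟩
    rw [map_smul, LinearMap.rTensor_tmul]
    rfl
  have hX₀ : HopfRep.IsSubcomod (k := k) (A := A) ((Submodule.span k {y}).comap φ) :=
    isSubcomod_comap φ hφ _ hY₀
  let X₀ : Submodule k X := (Submodule.span k {y}).comap φ
  let cX₀ : HopfRep.Comod k A X₀ := subComod X₀ hX₀
  have hι : Hoch.IsComodHom A X₀.subtype := isComodHom_subtype X₀ hX₀
  -- the restricted map to the line
  let φ₀ : X₀ →ₗ[k] Submodule.span k {y} :=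
    (φ ∘ₗ X₀.subtype).codRestrict (Submodule.span k {y}) (fun x => x.2)
  let e : k ≃ₗ[k] Submodule.span k {y} := LinearEquiv.toSpanNonzeroSingleton k Y y hy0
  let π : X₀ →ₗ[k] k := e.symm.toLinearMap ∘ₗ φ₀
  have hπy : ∀ x : X₀, π x • y = φ (x : X) := by
    intro x
    have h1 : e (π x) = φ₀ x := by
      show e (e.symm (φ₀ x)) = φ₀ x
      exact e.apply_symm_apply _
    have h2 := congrArg Subtype.val h1
    rw [LinearEquiv.toSpanNonzeroSingleton_apply] at h2
    exact h2
  have hπsurj : Function.Surjective π := by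
    intro c
    obtain ⟨x, hx⟩ := hsurj (c • y)
    have hxmem : x ∈ X₀ := by
      show φ x ∈ Submodule.span k {y}
      rw [hx]
      exact Submodule.smul_mem _ _ (Submodule.mem_span_singleton_self y)
    refine ⟨⟨x, hxmem⟩, ?_⟩
    have h1 := hπy ⟨x, hxmem⟩
    simp only at h1
    rw [hx] at h1
    exact smul_left_injective k hy0 h1
  let j : k →ₗ[k] Y := LinearMap.toSpanSingleton k Y y
  have hjinj : Function.Injective j := by
    intro a b hab
    exact smul_left_injective k hy0 hab
  have hjπ : j ∘ₗ π = φ ∘ₗ X₀.subtype := by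
    apply LinearMap.ext
    intro x
    exact hπy x
  have hπcomod : LinearMap.rTensor A π ∘ₗ HopfRep.Comod.coact (k := k) (A := A) (V := X₀) =
            (TensorProduct.mk k k A).flip (1 : A) ∘ₗ π := by
    apply LinearMap.ext
    intro x
    have hinj : Function.Injective (j.rTensor A) :=
      Module.Flat.rTensor_preserves_injective_linearMap _ hjinj
    apply hinj
    simp only [LinearMap.comp_apply, LinearMap.flip_apply, TensorProduct.mk_apply]
    rw [← LinearMap.comp_apply, ← LinearMap.rTensor_comp, hjπ, LinearMap.rTensor_comp,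
      LinearMap.comp_apply]
    have h1 := LinearMap.congr_fun hι x
    simp only [LinearMap.comp_apply] at h1
    rw [← h1]
    have h2 := LinearMap.congr_fun hφ (X₀.subtype x)
    simp only [LinearMap.comp_apply] at h2
    rw [← h2, LinearMap.rTensor_tmul]
    have h3 : φ (X₀.subtype x) = π x • y := (hπy x).symm
    rw [h3, map_smul]
    have hyc : HopfRep.Comod.coact (k := k) (A := A) y = y ⊗ₜ[k] (1 : A) := hy
    rw [hyc, TensorProduct.smul_tmul']
    rfl
  obtain ⟨v, hv, hv0⟩ := h X₀ (Module.Finite.of_injective _ X₀.injective_subtype) π hπsurj hπcomod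
  refine ⟨(π v)⁻¹ • (v : X), ?_, ?_⟩
  · apply Submodule.smul_mem
    show HopfRep.Comod.coact (k := k) (A := A) (v : X) = (v : X) ⊗ₜ[k] (1 : A)
    have h1 := LinearMap.congr_fun hι v
    simp only [LinearMap.comp_apply] at h1
    have hvc : HopfRep.Comod.coact (k := k) (A := A) v = v ⊗ₜ[k] (1 : A) := hv
    change HopfRep.Comod.coact (k := k) (A := A) (v : X) = _ at h1
    rw [h1, hvc, LinearMap.rTensor_tmul]
    rfl
  · rw [map_smul, ← hπy v, smul_smul, inv_mul_cancel₀ hv0, one_smul]

end Aux

open TensorProduct in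
/-- The equivalence of complete reducibility of finite-dimensional representations with the
invariant-section criterion. Let k be a field and A a finitely generated commutative Hopf algebra
over k, the coordinate ring of an affine algebraic group G. Then G is linearly reductive (every
finite-dimensional A-comodule is semisimple) if and only if for every finite-dimensional A-comodule
V and every surjective k-linear map π : V → k which is a comodule map to the trivial comodule (that
is, (π ⊗ id) ∘ ρ_V = (c ↦ c ⊗ 1) ∘ π for the coaction ρ_V) there is a fixed vector v of V with π v ≠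
0. (The published fourth condition is phrased with all G-fixed points of the projective space of V
and G-invariant linear forms; it fails for a fixed point on which G acts through a non-trivial
character, for instance the multiplicative group acting on a line with weight one, and this row
states the condition in the form the published proof uses: surjections onto the trivial
one-dimensional comodule.) -/
theorem result (k : Type u) [Field k] (A : Type v)
    [CommRing A] [HopfAlgebra k A] (hA : Algebra.FiniteType k A) :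
    HopfRep.IsLinearlyReductive k A ↔
      ∀ (V : Type v) [AddCommGroup V] [Module k V] [HopfRep.Comod k A V], Module.Finite k V →
        ∀ π : V →ₗ[k] k, Function.Surjective π →
          LinearMap.rTensor A π ∘ₗ HopfRep.Comod.coact (k := k) (A := A) (V := V) =
            (TensorProduct.mk k k A).flip (1 : A) ∘ₗ π →
          ∃ v ∈ HopfRep.fixedPts k A V, π v ≠ 0 := by
  constructor
  · intro hG V _ _ _ hV π hsurj hπ
    exact Aux.fwd hG V hV π hsurj hπ
  · intro h
    apply Groth.Agent.Helper9.LinRedLift.isLinearlyReductive_of_lifting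
    intro X Y _ _ _ _ _ _ φ hX _ hφ hsurj y hy
    exact Aux.bwd_lift h X Y φ hX hφ hsurj y hy

end Groth.Agent.S16709
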