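import Groth.Statements.S16710
import Mathlib
import Groth.Agent.Lib.Helper1.NM4

set_option autoImplicit false
universe u
open CategoryTheory CategoryTheory.Limits AlgebraicGeometry TopologicalSpace
open Variety

namespace Groth.Agent.S16710

/-- Let X be a proper scheme over a field k and L an invertible O_X-module. Then L is ample if and only
if (i) L is strictly nef, meaning χ(O_C ⊗ L) - χ(O_C) > 0 for every integral closed subscheme C ⊆ X
of dimension one, and (ii) L is semiample, meaning some positive tensor power of L is generated by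
its global sections (is a quotient of a free O_X-module). -/
theorem result (k : Type u) [Field k] (X : Scheme.{u})
    [X.Over (Spec (CommRingCat.of k))] [IsProper (X ↘ (Spec (CommRingCat.of k)))]
    (L : X.Modules) (hL : PicF.IsInvertible L) :
    CohB1.IsAmple L ↔
      ((∀ C : X.IdealSheafData, IsIntegral C.subscheme →
          topologicalKrullDim (C.support : Set X) = 1 →
            0 < Curv2.euler k X (CohB1.tensorMod (ClSub.quotMod C) L) - Curv2.euler k X (ClSub.quotMod C)) ∧
        ∃ m : ℕ, Curv2.IsGloballyGenerated (CohB1.tensorPow L (m + 1))) := by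
  haveI := Groth.Agent.Helper1.Euler.isNoetherian_of_proper k X
  constructor
  · intro hamp
    refine ⟨?_, ?_⟩
    · intro C hC hdim
      have hQ := Groth.Agent.Helper1.CurveDual.isCoh_quotMod C
      rw [← Groth.Agent.Helper1.NM.lam_one_clSub k X L hL _ hQ]
      have hdim' : topologicalKrullDim (C.support : Set X) = ((1 : ℕ) : WithBot ℕ∞) := by
        rw [hdim, Nat.cast_one]
      exact Groth.Agent.Helper1.NM.pos_quotMod k X L hamp C 1 hdim'
    · obtain ⟨n₀, hn₀⟩ := Groth.Agent.Helper1.AmpleLib.eventually_globallyGenerated hamp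
        (Coh.structureModule X) (Groth.Agent.Helper1.Dv.isCoh_structureModule X)
      refine ⟨n₀, ?_⟩
      have h := hn₀ (n₀ + 1) (Nat.le_succ n₀)
      exact Groth.Agent.Helper1.AmpleLib.isGloballyGenerated_of_iso
        (Groth.Agent.Helper1.TildeTens.tensorModComm _ _ ≪≫
          Groth.Agent.Lib.Helper5.LTenFlf.tensorUnitIso _) h
  · rintro ⟨hnef, m, hgen⟩
    apply Groth.Agent.Helper1.NM.isAmple_of_strictly_nef k X L hL m hgen
    intro ξ hξ
    apply ne_of_gt
    rw [Groth.Agent.Helper1.NM.lam_one_clSub k X L hL _
      (Groth.Agent.Helper1.Dv.isCoh_closureStructureSheaf ξ)]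
    have hd : topologicalKrullDim ((IntMult.ptIdeal ξ).support : Set X) = 1 := by
      rw [Groth.Agent.Helper1.NM.dim_support_ptIdeal ξ 1 hξ, Nat.cast_one]
    exact hnef (IntMult.ptIdeal ξ) (Groth.Agent.Helper1.Dv.isIntegral_ptIdeal_subscheme ξ) hd

end Groth.Agent.S16710
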