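import Groth.Statements.S16715
import Mathlib
import Groth.Agent.Lib.Helper9.PO.BCGeo
import Groth.Agent.Lib.Helper9.PO.PBMap
-- import your own Groth.Agent.* helpers here

set_option autoImplicit false
universe u
open FlatMor

namespace Groth.Agent.S16715

open CategoryTheory CategoryTheory.Limits AlgebraicGeometry
namespace Aux

open H9PO

theorem main {X₀ X Y₀ Y S S' : Scheme.{u}}
    (i : X₀ ⟶ X) [IsClosedImmersion i] (f₀ : X₀ ⟶ Y₀) [IsAffineHom f₀] (f : X ⟶ Y) [IsAffineHom f]
    (j : Y₀ ⟶ Y) [IsClosedImmersion j] (hpo : IsPushout i f₀ f j)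
    (q : Y ⟶ S) [Flat ((i ≫ f) ≫ q)] (g : S' ⟶ S)
    (h1 h1' h2 h2' h3 h3' h4 h4') :
    IsPushout
      (pullback.map ((i ≫ f) ≫ q) g (f ≫ q) g i (𝟙 S') (𝟙 S) h1 h1')
      (pullback.map ((i ≫ f) ≫ q) g (j ≫ q) g f₀ (𝟙 S') (𝟙 S) h2 h2')
      (pullback.map (f ≫ q) g q g f (𝟙 S') (𝟙 S) h3 h3')
      (pullback.map (j ≫ q) g q g j (𝟙 S') (𝟙 S) h4 h4') := by
  haveI : Flat (i ≫ f ≫ q) := by
    rw [← Category.assoc]; infer_instance
  refine BCGeo.isPushout_baseChange i f₀ f j hpo q g (pullback.fst q g) (pullback.snd q g)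
    (IsPullback.of_hasPullback q g) (pullback.fst (f ≫ q) g) _
    (PBMap.isPullback_map (f ≫ q) q g f h3 h3') (pullback.fst (j ≫ q) g) _
    (PBMap.isPullback_map (j ≫ q) q g j h4 h4') (pullback.fst ((i ≫ f) ≫ q) g) _
    (PBMap.isPullback_map ((i ≫ f) ≫ q) (f ≫ q) g i h1 h1') _ ?_ ?_ (Or.inr inferInstance)
  · exact pullback.lift_fst _ _ _
  · apply pullback.hom_ext
    · simp only [Category.assoc, pullback.lift_fst, pullback.lift_fst_assoc]
      rw [hpo.w]
    · simp only [Category.assoc, pullback.lift_snd, pullback.lift_snd_assoc, Category.comp_id]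

end Aux

open CategoryTheory CategoryTheory.Limits AlgebraicGeometry in
/-- Base change of pushouts along a closed immersion and an affine morphism. Let i : X₀ → X be a closed
immersion and f₀ : X₀ → Y₀ an affine morphism of schemes, and let Y together with an affine morphism
f : X → Y and a closed immersion j : Y₀ → Y be a pushout of i and f₀ in the category of schemes
whose square is also cartesian. Let Y be a scheme over S such that X₀ is flat over S, and let S' → S
be any morphism. Then the base-changed square over S' is again a pushout in the category of schemes: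
Y ×_S S' is the pushout of X ×_S S' and Y₀ ×_S S' along X₀ ×_S S'. -/
theorem result {X₀ X Y₀ Y S S' : Scheme.{u}}
    (i : X₀ ⟶ X) [IsClosedImmersion i] (f₀ : X₀ ⟶ Y₀) [IsAffineHom f₀] (f : X ⟶ Y) [IsAffineHom f]
    (j : Y₀ ⟶ Y) [IsClosedImmersion j] (hpo : IsPushout i f₀ f j) (hpb : IsPullback i f₀ f j)
    (q : Y ⟶ S) [Flat ((i ≫ f) ≫ q)] (g : S' ⟶ S) :
    IsPushout
      (pullback.map ((i ≫ f) ≫ q) g (f ≫ q) g i (𝟙 S') (𝟙 S)
        ((Category.comp_id _).trans (Category.assoc i f q))
        ((Category.comp_id g).trans (Category.id_comp g).symm))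
      (pullback.map ((i ≫ f) ≫ q) g (j ≫ q) g f₀ (𝟙 S') (𝟙 S)
        ((Category.comp_id _).trans ((congrArg (fun t => t ≫ q) hpo.w).trans (Category.assoc f₀ j q)))
        ((Category.comp_id g).trans (Category.id_comp g).symm))
      (pullback.map (f ≫ q) g q g f (𝟙 S') (𝟙 S)
        (Category.comp_id _) ((Category.comp_id g).trans (Category.id_comp g).symm))
      (pullback.map (j ≫ q) g q g j (𝟙 S') (𝟙 S)
        (Category.comp_id _) ((Category.comp_id g).trans (Category.id_comp g).symm)) := by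
  exact Aux.main i f₀ f j hpo q g _ _ _ _ _ _ _ _

end Groth.Agent.S16715
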