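import Groth.Statements.S16718
import Mathlib
import Groth.Agent.Lib.Helper9.Comod3

set_option autoImplicit false
universe u v w
open TensorProduct
open GLin

namespace Groth.Agent.S16718

namespace Aux

open TensorProduct Groth.Agent.Helper9

lemma exists_fin_sub {k : Type u} [Field k] {C : Type v} [AddCommGroup C] [Module k C] [Coalgebra k C]
    {V : Type w} [AddCommGroup V] [Module k V] [HopfRep.Comod k C V]
    (U : Submodule k V) (hU : HopfRep.IsSubcomod (k := k) (A := C) U) (s : Finset V)
    (hs : ∀ x ∈ s, x ∈ U) :
    ∃ W : Submodule k V, Module.Finite k W ∧ HopfRep.IsSubcomod (k := k) (A := C) W ∧ W ≤ U ∧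
      ∀ x ∈ s, x ∈ W := by
  classical
  induction s using Finset.induction_on with
  | empty =>
    exact ⟨⊥, inferInstance, isSubcomod_bot, bot_le, fun x hx => absurd hx (Finset.notMem_empty x)⟩
  | insert g s _ ih =>
    obtain ⟨W, hWfin, hW, hWU, hsW⟩ := ih (fun x hx => hs x (Finset.mem_insert_of_mem hx))
    obtain ⟨Wg, hWgfin, hgWg, hWg⟩ := exists_finite_subcomod_mem (k := k) (C := C) g
    have hgU : g ∈ U := hs g (Finset.mem_insert_self g s)
    refine ⟨W ⊔ (Wg ⊓ U), ?_, isSubcomod_sup _ _ hW (isSubcomod_inf _ _ hWg hU),
      sup_le hWU inf_le_right, ?_⟩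
    · haveI : FiniteDimensional k ↥(Wg ⊓ U) := Submodule.finiteDimensional_inf_left Wg U
      exact Submodule.finiteDimensional_sup W (Wg ⊓ U)
    · intro x hx
      rcases Finset.mem_insert.mp hx with rfl | hx
      · exact Submodule.mem_sup_right ⟨hgWg, hgU⟩
      · exact Submodule.mem_sup_left (hsW x hx)

end Aux

/-- Let k be a field, A a finitely generated commutative Hopf algebra over k (an affine algebraic group
G), R a finitely generated commutative k-algebra carrying an A-comodule structure whose coaction is
an algebra homomorphism (an action of G on X = Spec R), and I an ideal of R which is a subcomodule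
(a G-invariant closed subscheme Z of X). Then there is a finite-dimensional subcomodule W of R with
W ⊆ I generating I as an ideal; equivalently there is a G-equivariant morphism f from X to the
affine space of a finite-dimensional G-representation with f⁻¹(0) = Z as closed subschemes. -/
theorem result (k : Type u) [Field k]
    (A : Type v) [CommRing A] [HopfAlgebra k A] (hA : Algebra.FiniteType k A)
    (R : Type w) [CommRing R] [Algebra k R] [HopfRep.Comod k A R] [GLin.IsCoactAlg k A R]
    (hR : Algebra.FiniteType k R) (I : Ideal R)
    (hI : HopfRep.IsSubcomod (k := k) (A := A) (I.restrictScalars k)) :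
    ∃ W : Submodule k R, Module.Finite k W ∧ HopfRep.IsSubcomod (k := k) (A := A) W ∧
      W ≤ I.restrictScalars k ∧ Ideal.span (W : Set R) = I := by
  haveI : IsNoetherianRing R := Algebra.FiniteType.isNoetherianRing k R
  obtain ⟨s, hs⟩ : I.FG := IsNoetherian.noetherian I
  obtain ⟨W, hWfin, hW, hWI, hsW⟩ := Aux.exists_fin_sub (C := A) (I.restrictScalars k) hI s
    (fun x hx => by
      show x ∈ I
      rw [← hs]
      exact Ideal.subset_span hx)
  refine ⟨W, hWfin, hW, hWI, ?_⟩
  apply le_antisymm
  · rw [Ideal.span_le]
    intro x hx
    exact hWI hx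
  · rw [← hs]
    apply Ideal.span_mono
    intro x hx
    exact hsW x hx

end Groth.Agent.S16718
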