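import Groth.Statements.S16737
import Mathlib

set_option autoImplicit false
universe u v
open DeRham

namespace Groth.Agent.S16737

section
open MvPolynomial

theorem D_eq_zero_iff (R : Type u) [CommRing R] (σ : Type v) (f : MvPolynomial σ R) :
    KaehlerDifferential.D R (MvPolynomial σ R) f = 0 ↔ ∀ i, pderiv i f = 0 := by
  constructor
  · intro h i
    rw [← KaehlerDifferential.mvPolynomialBasis_repr_apply, h, map_zero]
    rfl
  · intro h
    apply (KaehlerDifferential.mvPolynomialBasis R σ).repr.injective
    ext i : 1
    rw [KaehlerDifferential.mvPolynomialBasis_repr_apply, h i, map_zero]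
    rfl

theorem main (p : ℕ) [Fact p.Prime]
    (R : Type u) [CommRing R] [CharP R p] (σ : Type v) (f : MvPolynomial σ R) :
    KaehlerDifferential.D R (MvPolynomial σ R) f = 0 ↔
      ∃ g : MvPolynomial σ R, f = MvPolynomial.expand p g := by
  classical
  have hp : p.Prime := Fact.out
  rw [D_eq_zero_iff]
  constructor
  · intro h
    have hdvd : ∀ s ∈ f.support, ∀ i, p ∣ s i := by
      intro s hs i
      by_contra hnd
      have hsi : s i ≠ 0 := by
        intro h0
        rw [h0] at hnd
        exact hnd (dvd_zero p)
      have hU : IsUnit ((s i : ℕ) : R) := (CharP.isUnit_natCast_iff hp).mpr hnd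
      have h1 := coeff_pderiv (i := i) f (s - Finsupp.single i 1)
      have h2 : s - Finsupp.single i 1 + Finsupp.single i 1 = s := by
        ext j
        by_cases hj : j = i
        · subst hj
          simp only [Finsupp.coe_add, Finsupp.coe_tsub, Pi.add_apply, Pi.sub_apply,
            Finsupp.single_eq_same]
          omega
        · simp [Finsupp.single_eq_of_ne hj]
      rw [h i, coeff_zero, h2] at h1
      have h3 : (((s - Finsupp.single i 1 : σ →₀ ℕ) i : ℕ) : R) + 1 = ((s i : ℕ) : R) := by
        have : (s - Finsupp.single i 1 : σ →₀ ℕ) i + 1 = s i := by
          simp only [Finsupp.coe_tsub, Pi.sub_apply, Finsupp.single_eq_same]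
          omega
        rw [← this]
        push_cast
        rfl
      rw [h3] at h1
      have h4 : coeff s f = 0 := by
        have := hU.mul_left_eq_zero.mp h1.symm
        exact this
      exact (mem_support_iff.mp hs) h4
    refine ⟨∑ s ∈ f.support, monomial (s.mapRange (· / p) (Nat.zero_div p)) (coeff s f), ?_⟩
    rw [map_sum]
    conv_lhs => rw [f.as_sum]
    apply Finset.sum_congr rfl
    intro s hs
    rw [expand_monomial]
    have e : p • (s.mapRange (· / p) (Nat.zero_div p)) = s := by
      ext i
      rw [Finsupp.smul_apply, Finsupp.mapRange_apply, smul_eq_mul]
      exact Nat.mul_div_cancel' (hdvd s hs i)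
    rw [e]
  · rintro ⟨g, rfl⟩ i
    ext m
    rw [coeff_pderiv, coeff_zero]
    by_cases hd : p ∣ m i + 1
    · have : ((m i : R) + 1) = ((m i + 1 : ℕ) : R) := by push_cast; rfl
      rw [this, (CharP.cast_eq_zero_iff R p (m i + 1)).mpr hd, mul_zero]
    · rw [coeff_expand_of_not_dvd (i := i), zero_mul]
      simpa using hd


end


/-- The case of affine space over an affine base of characteristic p, in degree zero. Let p be a prime
and R a commutative ring with p = 0 in R. For a polynomial f over R in any set of variables t_i, the
Kähler differential df in Ω_{R[t]/R} vanishes if and only if f is a polynomial in the p-th powers of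
the variables, f = g(t_i^p). Equivalently, the functions on affine space over R killed by the
differential of the de Rham complex are exactly the functions on its Frobenius twist. (The published
computation is for finitely many variables over a noetherian base of characteristic p; the statement
here allows any commutative ring with p = 0 and any set of variables.) -/
theorem result (p : ℕ) [Fact p.Prime]
    (R : Type u) [CommRing R] [CharP R p] (σ : Type v) (f : MvPolynomial σ R) :
    KaehlerDifferential.D R (MvPolynomial σ R) f = 0 ↔
      ∃ g : MvPolynomial σ R, f = MvPolynomial.expand p g := by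
  classical
  exact main p R σ f

end Groth.Agent.S16737
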