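import Groth.Statements.S16742
import Mathlib
import Groth.Agent.Lib.Helper1.FlatP2

set_option autoImplicit false
universe u
open CAlg

namespace Groth.Agent.S16742

/-- The equivalence in affine form, with flatness of the reduction in place of smoothness. Let p be a
prime, A~ a commutative ring flat over Z/p^2 and B~ an A~-algebra such that B~/pB~ is flat over
A~/pA~. Then B~ is flat over A~ if and only if every element of B~ killed by p is a multiple of p;
equivalently multiplication by p identifies B~/pB~ with pB~. (The published statement assumes the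
reduction smooth over A~/pA~ and the schemes noetherian, and phrases (b) as B~ being a lifting, that
is flat over A~; the statement here assumes only that the reduction is flat, where the equivalence
still holds by the local flatness criterion for the square-zero ideal generated by p.) -/
theorem result (p : ℕ) [Fact p.Prime]
    (Al : Type u) [CommRing Al] [Algebra (ZMod (p ^ 2)) Al] [Module.Flat (ZMod (p ^ 2)) Al]
    (Bl : Type u) [CommRing Bl] [Algebra Al Bl]
    (hB : Module.Flat (Al ⧸ Ideal.span {(p : Al)})
      (Bl ⧸ (Ideal.span {(p : Al)}).map (algebraMap Al Bl))) :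
    Module.Flat Al Bl ↔ ∀ b : Bl, (p : Bl) * b = 0 → b ∈ Ideal.span {(p : Bl)} := by
  classical
  have hp : p.Prime := Fact.out
  have hpp : (p : Al) * (p : Al) = 0 := by
    have h1 : ((p ^ 2 : ℕ) : ZMod (p ^ 2)) = 0 := ZMod.natCast_self (p ^ 2)
    have h2 := congrArg (algebraMap (ZMod (p ^ 2)) Al) h1
    rw [map_natCast, map_zero, Nat.cast_pow, pow_two] at h2
    exact h2
  have hpB : (p : Bl) * (p : Bl) = 0 := by
    have := congrArg (algebraMap Al Bl) hpp
    simpa using this
  constructor
  · intro hflat b hb
    -- exactness on `Al`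
    have hA : ∀ x : Al, (p : Al) * x = 0 → ∃ y, x = (p : Al) * y := by
      intro x hx
      have hx' : (p : ZMod (p ^ 2)) • x = 0 := by
        rw [Algebra.smul_def, map_natCast]; exact hx
      obtain ⟨y, hy⟩ := Groth.Agent.Helper1.FlatP2.exists_of_smul_eq_zero (p : ZMod (p ^ 2))
        (Groth.Agent.Helper1.FlatP2.zmod_sq p) (by
          have h1 : ((p * p : ℕ) : ZMod (p ^ 2)) = 0 := by
            rw [ZMod.natCast_eq_zero_iff]; exact dvd_of_eq (pow_two p)
          rw [Nat.cast_mul] at h1; exact h1) hx'
      refine ⟨y, ?_⟩
      rw [hy, Algebra.smul_def, map_natCast]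
    have hb' : (p : Al) • b = 0 := by
      rw [Algebra.smul_def, map_natCast]; exact hb
    obtain ⟨c, hc⟩ := Groth.Agent.Helper1.FlatP2.exists_of_smul_eq_zero (p : Al) hA hpp hb'
    rw [Ideal.mem_span_singleton']
    refine ⟨c, ?_⟩
    rw [hc, Algebra.smul_def, map_natCast, mul_comm]
  · intro hcond
    have hJ : (Ideal.span {(p : Al)}) ^ 2 = ⊥ := by
      rw [Ideal.span_singleton_pow, pow_two, hpp, Ideal.span_singleton_eq_bot]
    refine Groth.Agent.Helper1.SqZeroDef.flat_of_nilpotent' (Ideal.span {(p : Al)}) 2 hJ Bl
      (Bl ⧸ (Ideal.span {(p : Al)}).map (algebraMap Al Bl))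
      (Ideal.Quotient.mkₐ Al _).toLinearMap Ideal.Quotient.mk_surjective ?_ ?_
    · rw [Ideal.smul_top_eq_map]
      ext x
      show Ideal.Quotient.mk _ x = 0 ↔ _
      rw [Ideal.Quotient.eq_zero_iff_mem]
      rfl
    · -- injectivity of `Bl ⊗ J → Bl ⊗ Al`
      let π : (Ideal.span {(p : Al)} : Ideal Al) := ⟨(p : Al), Ideal.subset_span rfl⟩
      have hform : ∀ z : TensorProduct Al Bl (Ideal.span {(p : Al)} : Ideal Al), ∃ b : Bl,
          z = TensorProduct.tmul Al b π := by
        intro z
        induction z using TensorProduct.induction_on with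
        | zero => exact ⟨0, (TensorProduct.zero_tmul _ _).symm⟩
        | tmul b j =>
          obtain ⟨a, ha⟩ := Ideal.mem_span_singleton'.mp j.2
          refine ⟨a • b, ?_⟩
          rw [TensorProduct.smul_tmul]
          congr 1
          exact Subtype.ext ha.symm
        | add x y hx hy =>
          obtain ⟨b, rfl⟩ := hx
          obtain ⟨b', rfl⟩ := hy
          exact ⟨b + b', (TensorProduct.add_tmul _ _ _).symm⟩
      rw [injective_iff_map_eq_zero]
      intro z hz
      obtain ⟨b, rfl⟩ := hform z
      rw [LinearMap.lTensor_tmul] at hz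
      have h1 := congrArg (TensorProduct.rid Al Bl) hz
      rw [TensorProduct.rid_tmul, map_zero] at h1
      have h2 : (p : Bl) * b = 0 := by
        have : (p : Al) • b = 0 := h1
        rwa [Algebra.smul_def, map_natCast] at this
      obtain ⟨c, hc⟩ := Ideal.mem_span_singleton'.mp (hcond b h2)
      have h3 : b = (p : Al) • c := by
        rw [← hc, Algebra.smul_def, map_natCast, mul_comm]
      rw [h3, TensorProduct.smul_tmul]
      have : (p : Al) • π = 0 := Subtype.ext hpp
      rw [this, TensorProduct.tmul_zero]

end Groth.Agent.S16742
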