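import Groth.Statements.S16762
import Mathlib

set_option autoImplicit false
universe u
open CAlgX

namespace Groth.Agent.S16762

open TensorProduct


theorem ui_key1 (A A' : Type u) [CommRing A] [CommRing A'] [Algebra A A']
    {M N : Type u} [AddCommGroup M] [Module A M] [AddCommGroup N] [Module A N] (u : M →ₗ[A] N)
    (Q' : Type u) [AddCommGroup Q'] [Module A' Q'] [Module A Q'] [IsScalarTower A A' Q'] :
    Function.Injective ((u.baseChange A').rTensor Q') ↔ Function.Injective (u.rTensor Q') := by
  rw [← LinearMap.lTensor_inj_iff_rTensor_inj, ← LinearMap.lTensor_inj_iff_rTensor_inj]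
  have hsq : ∀ x, (AlgebraTensorModule.cancelBaseChange A A' A' Q' N)
      ((u.baseChange A').lTensor Q' x) =
      u.lTensor Q' ((AlgebraTensorModule.cancelBaseChange A A' A' Q' M) x) := by
    intro x
    induction x using TensorProduct.induction_on with
    | zero => simp
    | tmul q y =>
      induction y using TensorProduct.induction_on with
      | zero => simp
      | tmul a m => simp
      | add y y' hy hy' => simp only [tmul_add, map_add, hy, hy']
    | add x y hx hy => simp only [map_add, hx, hy]
  have hsq' : (AlgebraTensorModule.cancelBaseChange A A' A' Q' N) ∘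
      ((u.baseChange A').lTensor Q') =
      (u.lTensor Q') ∘ (AlgebraTensorModule.cancelBaseChange A A' A' Q' M) := funext hsq
  rw [← Function.Injective.of_comp_iff
      (AlgebraTensorModule.cancelBaseChange A A' A' Q' N).injective, hsq',
    Function.Injective.of_comp_iff' _ (AlgebraTensorModule.cancelBaseChange A A' A' Q' M).bijective]

theorem ui_key2 (A A' : Type u) [CommRing A] [CommRing A'] [Algebra A A']
    [Module.FaithfullyFlat A A']
    {M N : Type u} [AddCommGroup M] [Module A M] [AddCommGroup N] [Module A N] (u : M →ₗ[A] N)
    (Q : Type u) [AddCommGroup Q] [Module A Q]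
    (h : Function.Injective (u.rTensor (A' ⊗[A] Q))) : Function.Injective (u.rTensor Q) := by
  rw [← Module.FaithfullyFlat.lTensor_injective_iff_injective A A']
  have hsq : ∀ x, (TensorProduct.leftComm A A' N Q) ((u.rTensor Q).lTensor A' x) =
      u.rTensor (A' ⊗[A] Q) ((TensorProduct.leftComm A A' M Q) x) := by
    intro x
    induction x using TensorProduct.induction_on with
    | zero => simp
    | tmul a y =>
      induction y using TensorProduct.induction_on with
      | zero => simp
      | tmul m q => simp
      | add y y' hy hy' => simp only [tmul_add, map_add, hy, hy']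
    | add x y hx hy => simp only [map_add, hx, hy]
  have hsq' : (TensorProduct.leftComm A A' N Q) ∘ ((u.rTensor Q).lTensor A') =
      (u.rTensor (A' ⊗[A] Q)) ∘ (TensorProduct.leftComm A A' M Q) := funext hsq
  rw [← Function.Injective.of_comp_iff (TensorProduct.leftComm A A' N Q).injective, hsq',
    Function.Injective.of_comp_iff' _ (TensorProduct.leftComm A A' M Q).bijective]
  exact h


/-- Let A → A' be faithfully flat and u : M → N a map of A-modules. Then u is universally injective (u ⊗
id_Q injective for every A-module Q) if and only if its base change A' ⊗_A M → A' ⊗_A N is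
universally injective as a map of A'-modules. -/
theorem result (A A' : Type u) [CommRing A] [CommRing A']
    [Algebra A A'] [Module.FaithfullyFlat A A'] {M N : Type u} [AddCommGroup M] [Module A M]
    [AddCommGroup N] [Module A N] (u : M →ₗ[A] N) :
    CAlgX.UniversallyInjective A u ↔ CAlgX.UniversallyInjective A' (u.baseChange A') := by
  constructor
  · intro h Q' _ _
    letI : Module A Q' := Module.compHom Q' (algebraMap A A')
    haveI : IsScalarTower A A' Q' := IsScalarTower.of_compHom A A' Q'
    rw [ui_key1 A A' u Q']
    exact h Q'
  · intro h Q _ _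
    apply ui_key2 A A'
    rw [← ui_key1 A A' u (A' ⊗[A] Q)]
    exact h (A' ⊗[A] Q)

end Groth.Agent.S16762
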