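import Groth.Statements.S16801
import Groth.Agent.Lib.Helper6.LinRed.LRc
import Groth.Agent.Lib.Helper6.LinRed.LRd

set_option autoImplicit false
universe u
open LunaSt

namespace Groth.Agent.S16801

/-- Let `k` be a field and `H` a commutative Hopf algebra of finite type over `k` all of whose
finite-dimensional comodules are semisimple (a linearly reductive affine group `G = Spec H` of
finite type). Let `A` be a Noetherian commutative `k`-algebra with a coaction of `H` that is an
algebra map (an action of `G` on `Spec A`), and `C` a commutative `A`-algebra of finite type with a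
coaction of `H` that is an algebra map, such that the structure map `A → C` is a comodule map (a
finitely generated `G`-equivariant quasi-coherent algebra on `Spec A`). Then the invariants `C^G`
form a finitely generated algebra over `A^G`: there is a finite subset `s` of `C` such that `C^G` is
the `k`-subalgebra generated by the image of `A^G` and `s`. (The published statement is that for a
Noetherian algebraic stack with a good moduli space `π`, pushforward along `π` preserves finitely
generated algebras; this row is its case `[Spec A/G] → Spec A^G`, for which the pushforward of the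
algebra given by `C` has global sections `C^G`. All of `k`, `H`, `A`, `C` are taken in one
universe.) -/
theorem result
    (k : Type u) [Field k] (H : Type u) [CommRing H] [HopfAlgebra k H] [Algebra.FiniteType k H]
    (hG : HopfRep.IsLinearlyReductive k H)
    (A : Type u) [CommRing A] [Algebra k A] [IsNoetherianRing A]
    [HopfRep.Comod k H A] [GLin.IsCoactAlg k H A]
    (C : Type u) [CommRing C] [Algebra k C] [HopfRep.Comod k H C] [GLin.IsCoactAlg k H C]
    [Algebra A C] [IsScalarTower k A C] [Algebra.FiniteType A C]
    (hAC : Hoch.IsComodHom H (IsScalarTower.toAlgHom k A C).toLinearMap) :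
    ∃ s : Finset C, GLin.invariants k H C =
      Algebra.adjoin k (⇑(algebraMap A C) '' ↑(GLin.invariants k H A) ∪ ↑s) := by
  classical
  obtain ⟨l, hl⟩ := Groth.Agent.Lib.Helper6.LinRed.exists_isInt hG
  -- generators of `C` over `A`
  obtain ⟨F, hF⟩ := (Algebra.FiniteType.out : (⊤ : Subalgebra A C).FG)
  obtain ⟨n, vv, c, hFv, hcoact, hcom⟩ :=
    Groth.Agent.Lib.Helper6.LinRed.exists_matrix_coeff (k := k) (H := H) (V := C) F
  set ρA : A →ₐ[k] TensorProduct k A H := GLin.coactAlgHom k H A with hρA
  set ρC : C →ₐ[k] TensorProduct k C H := GLin.coactAlgHom k H C with hρC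
  set φ : A →ₐ[k] C := IsScalarTower.toAlgHom k A C with hφdef
  have hAco : Groth.Agent.Lib.Helper6.LinRed.Coassoc ρA.toLinearMap := by
    intro a
    exact Groth.Agent.Lib.Helper6.LinRed.coassoc_of_comod (k := k) (H := H) (V := A) a
  have hφ : ∀ a, ρC (φ a) = Algebra.TensorProduct.map φ (AlgHom.id k H) (ρA a) := by
    intro a
    exact LinearMap.congr_fun hAC a
  have hv : ∀ j, ρC (vv j) = ∑ i, TensorProduct.tmul k (vv i) (c i j) := hcoact
  -- surjectivity
  have hsurj : Function.Surjective (Groth.Agent.Lib.Helper6.LinRed.Θ φ vv) := by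
    intro x
    have hx : x ∈ Algebra.adjoin A (F : Set C) := by rw [hF]; trivial
    induction hx using Algebra.adjoin_induction with
    | mem y hy =>
      have h1 := hFv y hy
      have h2 : Submodule.span k (Set.range vv) ≤
          LinearMap.range (Groth.Agent.Lib.Helper6.LinRed.Θ φ vv).toLinearMap := by
        rw [Submodule.span_le]
        rintro _ ⟨j, rfl⟩
        exact ⟨MvPolynomial.X j, Groth.Agent.Lib.Helper6.LinRed.Θ_X φ vv j⟩
      exact h2 h1
    | algebraMap a => exact ⟨MvPolynomial.C a, Groth.Agent.Lib.Helper6.LinRed.Θ_C φ vv a⟩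
    | add y z _ _ hy hz =>
      obtain ⟨p, rfl⟩ := hy
      obtain ⟨q, rfl⟩ := hz
      exact ⟨p + q, map_add _ _ _⟩
    | mul y z _ _ hy hz =>
      obtain ⟨p, rfl⟩ := hy
      obtain ⟨q, rfl⟩ := hz
      exact ⟨p * q, map_mul _ _ _⟩
  obtain ⟨s, hs1, hs2⟩ := Groth.Agent.Lib.Helper6.LinRed.exists_generators_of_surjective
    ρA c ρC φ vv l hl hAco hcom hφ hv hsurj
  refine ⟨s, le_antisymm ?_ ?_⟩
  · intro f hf
    exact hs2 f hf
  · apply Algebra.adjoin_le
    rintro f (⟨a, ha, rfl⟩ | hf)
    · show ρC (φ a) = TensorProduct.tmul k (φ a) (1 : H)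
      have ha' : ρA a = TensorProduct.tmul k a (1 : H) := ha
      rw [hφ, ha', Algebra.TensorProduct.map_tmul]
      rfl
    · exact hs1 f hf

end Groth.Agent.S16801
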