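import Groth.Statements.S1681
import Mathlib
import Groth.Agent.Lib.Helper4.BlowUpLemmas

set_option autoImplicit false
universe u
open CategoryTheory CategoryTheory.Limits AlgebraicGeometry TopologicalSpace
open SDiv

namespace Groth.Agent.S1681

open CategoryTheory AlgebraicGeometry TopologicalSpace
namespace H1681
open Groth.Agent.Helper4

/-- a point without proper generizations -/
def MaxPt {X : Type*} [TopologicalSpace X] (x : X) : Prop := ∀ y : X, y ⤳ x → y = x

theorem maxPt_homeo {X Y : Type*} [TopologicalSpace X] [TopologicalSpace Y] (h : X ≃ₜ Y) (x : X) :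
    MaxPt x ↔ MaxPt (h x) := by
  constructor
  · intro hx y hy
    have : h.symm y ⤳ x := by
      have := hy.map h.symm.continuous
      simpa using this
    have := hx _ this
    rw [← this]; simp
  · intro hx y hy
    have := hx (h y) (hy.map h.continuous)
    exact h.injective this

theorem maxPt_open {X : Type*} [TopologicalSpace X] (W : Opens X) (x : W) :
    MaxPt (x : X) ↔ MaxPt x := by
  constructor
  · intro hx y hy
    have : (y : X) ⤳ (x : X) := hy.map continuous_subtype_val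
    exact Subtype.ext (hx _ this)
  · intro hx y hy
    have hyW : y ∈ W := hy.mem_open W.isOpen x.2
    have : (⟨y, hyW⟩ : W) ⤳ x := (subtype_specializes_iff _ _).mpr hy
    exact congrArg Subtype.val (hx _ this)

/-- the prime of a maximal point in an affine open is a minimal prime -/
theorem minimal_of_maxPt {X : Scheme.{u}} (O : X.Opens) (hO : IsAffineOpen O) (x : X) (hx : x ∈ O)
    (hmax : MaxPt x) : (hO.primeIdealOf ⟨x, hx⟩).asIdeal ∈ minimalPrimes Γ(X, O) := by
  refine ⟨⟨(hO.primeIdealOf ⟨x, hx⟩).2, bot_le⟩, ?_⟩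
  rintro q ⟨hq, -⟩ hqp
  let Q : PrimeSpectrum Γ(X, O) := ⟨q, hq⟩
  have hspec : Q ⤳ hO.primeIdealOf ⟨x, hx⟩ := (PrimeSpectrum.le_iff_specializes _ _).mp hqp
  have h2 : hO.fromSpec Q ⤳ hO.fromSpec (hO.primeIdealOf ⟨x, hx⟩) := hspec.map hO.fromSpec.continuous
  rw [hO.fromSpec_primeIdealOf] at h2
  have h3 : hO.fromSpec Q = x := hmax _ h2
  have h4 : hO.fromSpec Q = hO.fromSpec (hO.primeIdealOf ⟨x, hx⟩) := by
    rw [hO.fromSpec_primeIdealOf]; exact h3
  have h5 : Q = hO.primeIdealOf ⟨x, hx⟩ := hO.fromSpec.isOpenEmbedding.injective h4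
  rw [← h5]

/-- maximal points avoid effective Cartier divisors -/
theorem not_mem_support_of_maxPt {X : Scheme.{u}} (E : X.IdealSheafData)
    (hE : BlowUp.IsEffCartierIdeal E) (x : X) (hmax : MaxPt x) : x ∉ E.support := by
  intro hxs
  obtain ⟨O, hxO, t, ht, hEt⟩ := hE x
  have hmin := minimal_of_maxPt O.1 O.2 x hxO hmax
  have hdisj := Ideal.disjoint_nonZeroDivisors_of_mem_minimalPrimes hmin
  have hxt : x ∉ X.basicOpen t := fun h =>
    (EffCartier.mem_basicOpen_iff_not_mem_support O t hEt x hxO).mp h hxs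
  rw [Scheme.mem_basicOpen _ _ _ hxO] at hxt
  let _ := TopCat.Presheaf.algebra_section_stalk X.presheaf (⟨x, hxO⟩ : O.1)
  have hloc : IsLocalization.AtPrime (X.presheaf.stalk x) (O.2.primeIdealOf ⟨x, hxO⟩).asIdeal :=
    O.2.isLocalization_stalk ⟨x, hxO⟩
  have htp : t ∈ (O.2.primeIdealOf ⟨x, hxO⟩).asIdeal := by
    rw [← IsLocalization.AtPrime.under_maximalIdeal (X.presheaf.stalk x)
      (O.2.primeIdealOf ⟨x, hxO⟩).asIdeal, Ideal.mem_comap, IsLocalRing.mem_maximalIdeal]
    exact hxt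
  exact Set.disjoint_left.mp hdisj htp ht

theorem main {X X' : Scheme.{u}} (𝓘 : X.IdealSheafData) (b : X' ⟶ X) (hb : BlowUp.IsBlowUp b 𝓘) :
    Set.BijOn (fun x' => b x') {x' : ↥X' | ∀ y : ↥X', y ⤳ x' → y = x'}
      {x : ↥X | (∀ y : ↥X, y ⤳ x → y = x) ∧ x ∉ 𝓘.support} := by
  let U : X.Opens := 𝓘.support.compl
  let W' : X'.Opens := b ⁻¹ᵁ U
  have hiso : IsIso (b ∣_ U) := Groth.Agent.S1682.result 𝓘 b hb
  let e : (W' : Scheme.{u}) ≃ₜ (U : Scheme.{u}) := Scheme.homeoOfIso (asIso (b ∣_ U))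
  have he : ∀ z : W', (e z).1 = b z.1 := fun z => morphismRestrict_base_coe b U z
  have hmem : ∀ x' : X', MaxPt x' → x' ∈ W' := by
    intro x' hx'
    have := not_mem_support_of_maxPt (𝓘.comap b) hb.1 x' hx'
    rw [Scheme.IdealSheafData.support_comap] at this
    exact this
  have hiff : ∀ z : W', MaxPt (z.1 : X') ↔ MaxPt (b z.1) := by
    intro z
    have h1 := maxPt_open W' z
    have h2 := maxPt_homeo e z
    have h3 := maxPt_open U (e z)
    rw [he] at h3
    exact h1.trans (h2.trans h3.symm)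
  refine ⟨?_, ?_, ?_⟩
  · intro x' hx'
    have hW : x' ∈ W' := hmem x' hx'
    exact ⟨(hiff ⟨x', hW⟩).mp hx', hW⟩
  · intro x₁ h₁ x₂ h₂ h12
    have hW₁ : x₁ ∈ W' := hmem x₁ h₁
    have hW₂ : x₂ ∈ W' := hmem x₂ h₂
    have : e ⟨x₁, hW₁⟩ = e ⟨x₂, hW₂⟩ := by
      apply Subtype.ext
      rw [he, he]
      exact h12
    exact congrArg Subtype.val (e.injective this)
  · rintro x ⟨hx, hxs⟩
    have hxU : x ∈ U := hxs
    let z : W' := e.symm ⟨x, hxU⟩
    have hz : b z.1 = x := by
      rw [← he z]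
      show (e (e.symm ⟨x, hxU⟩)).1 = x
      rw [e.apply_symm_apply]
    refine ⟨z.1, ?_, hz⟩
    show MaxPt z.1
    rw [hiff z, hz]
    exact hx

end H1681

/-- Let b : X' ⟶ X be a blowing-up of X along the quasi-coherent ideal sheaf 𝓘. Then b restricts to a
bijection from the maximal points of X' (points with no proper generization) onto the maximal points
of X not lying in the support of 𝓘. -/
theorem result {X X' : Scheme.{u}} (𝓘 : X.IdealSheafData) (b : X' ⟶ X) (hb : BlowUp.IsBlowUp b 𝓘) :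
    Set.BijOn (fun x' => b x') {x' : ↥X' | ∀ y : ↥X', y ⤳ x' → y = x'}
      {x : ↥X | (∀ y : ↥X, y ⤳ x → y = x) ∧ x ∉ 𝓘.support} := by
  exact H1681.main 𝓘 b hb

end Groth.Agent.S1681
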