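import Groth.Statements.S16834
import Groth.Agent.S0082
import Groth.Agent.Lib.Helper2.AlgSp.FpqcAffine


set_option autoImplicit false
universe u
open CategoryTheory CategoryTheory.Limits AlgebraicGeometry
open AlgSp

namespace Groth.Agent.S16834

/-- Let k be a field with algebraic closure k̄ and X an algebraic space over Spec k which is
quasi-separated over k and whose structure morphism is locally of finite type. If the base change X
×_k Spec k̄ (product with h_{Spec k̄} in fppf sheaves over Spec k) is isomorphic to h_T for an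
affine scheme T over k, then X is isomorphic to h_U for an affine scheme U over k. -/
theorem result (k : Type u) [Field k]
    (X : AlgSp.Space (Spec (CommRingCat.of k))) (hqs : AlgSp.IsQuasiSeparatedSp X.obj)
    (hlft : ∀ q : X.obj ⟶ (AlgSp.yon (Spec (CommRingCat.of k))).obj (Over.mk (𝟙 _)),
      AlgSp.LocP @LocallyOfFiniteType q)
    (kbar : Type u) [Field kbar] [Algebra k kbar] [IsAlgClosure k kbar]
    (T : Over (Spec (CommRingCat.of k))) (hT : IsAffine T.left)
    (e : X.obj ⨯ (AlgSp.yon (Spec (CommRingCat.of k))).obj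
        (Over.mk (Spec.map (CommRingCat.ofHom (algebraMap k kbar)))) ≅
      (AlgSp.yon (Spec (CommRingCat.of k))).obj T) :
    ∃ (U : Over (Spec (CommRingCat.of k))), IsAffine U.left ∧
      Nonempty (X.obj ≅ (AlgSp.yon (Spec (CommRingCat.of k))).obj U) := by
  haveI := Groth.Agent.S0082.result.{u}
  let S : Scheme.{u} := Spec (CommRingCat.of k)
  let Z : Over S := Over.mk (𝟙 S)
  let W : Over S := Over.mk (Spec.map (CommRingCat.ofHom (algebraMap k kbar)))
  have tZ : IsTerminal ((AlgSp.yon S).obj Z) :=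
    IsTerminal.isTerminalObj (AlgSp.yon S) _ Over.mkIdTerminal
  let c : W ⟶ Z := Over.homMk W.hom (by simp [Z])
  let f : X.obj ⟶ (AlgSp.yon S).obj Z := tZ.from _
  have hZ : IsAffine Z.left := inferInstanceAs (IsAffine (Spec (CommRingCat.of k)))
  have hW : IsAffine W.left := inferInstanceAs (IsAffine (Spec (CommRingCat.of kbar)))
  have sqP : IsPullback (prod.fst : X.obj ⨯ (AlgSp.yon S).obj W ⟶ X.obj) prod.snd f
      ((AlgSp.yon S).map c) := by
    have h1 := IsPullback.of_is_product (c := limit.cone (pair X.obj ((AlgSp.yon S).obj W)))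
      (limit.isLimit _) tZ
    have h2 : tZ.from ((AlgSp.yon S).obj W) = (AlgSp.yon S).map c := tZ.hom_ext _ _
    have h3 : IsPullback (prod.fst : X.obj ⨯ (AlgSp.yon S).obj W ⟶ X.obj) prod.snd
        (tZ.from X.obj) (tZ.from ((AlgSp.yon S).obj W)) := h1
    rw [h2] at h3
    exact h3
  have hflat : Flat c.left := by
    show Flat (Spec.map (CommRingCat.ofHom (algebraMap k kbar)))
    rw [HasRingHomProperty.Spec_iff (P := @Flat)]
    exact (RingHom.flat_algebraMap_iff).mpr inferInstance
  have hsurj : ∀ z : ↥Z.left, ∃ j : Fin 1, z ∈ Set.range (c.left) := by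
    intro z
    refine ⟨0, ?_⟩
    have hs : Function.Surjective (Spec.map (CommRingCat.ofHom (algebraMap k kbar))) := by
      intro y
      obtain ⟨x⟩ : Nonempty (Spec (CommRingCat.of kbar)) :=
        inferInstanceAs (Nonempty (PrimeSpectrum kbar))
      haveI : Subsingleton (Spec (CommRingCat.of k)) :=
        inferInstanceAs (Subsingleton (PrimeSpectrum k))
      exact ⟨x, Subsingleton.elim _ _⟩
    exact hs z
  have hsnd : Groth.Agent.Helper2.AlgSpBasic.IsAffQMor @IsAffineHom
      (prod.snd : X.obj ⨯ (AlgSp.yon S).obj W ⟶ (AlgSp.yon S).obj W) := by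
    obtain ⟨v, hv⟩ := (AlgSp.yon S).map_surjective (e.inv ≫ prod.snd)
    have sqe : IsPullback e.inv ((AlgSp.yon S).map v) prod.snd (𝟙 _) :=
      IsPullback.of_horiz_isIso ⟨by rw [hv, Category.comp_id]⟩
    have h1 : Groth.Agent.Helper2.AlgSpBasic.IsAffQMor @IsAffineHom ((AlgSp.yon S).map v) := by
      rw [← Groth.Agent.Helper2.FpqcAffine.isAffineMor_iff_isAffQMor_isAffineHom]
      haveI := hT
      haveI := hW
      exact Groth.Agent.Helper2.RepFpqc.isAffineMor_yon_map' v inferInstance
    intro Z' hZ' g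
    obtain ⟨V', i', fst', sq', hV', hQ'⟩ := h1 hZ' g
    refine ⟨V', i', fst' ≫ e.inv, ?_, hV', hQ'⟩
    have := sq'.paste_horiz sqe
    rwa [Category.comp_id] at this
  have key := Groth.Agent.Helper2.FpqcAffine.isAffQMor_fpqc_desc @IsAffineHom le_rfl f hZ X.property
    1 (fun _ => W) (fun _ => c) (fun _ => hW) (fun _ => hflat) hsurj
    (fun _ => X.obj ⨯ (AlgSp.yon S).obj W) (fun _ => prod.fst) (fun _ => prod.snd)
    (fun _ => sqP) (fun _ => hsnd)
  obtain ⟨U, i, fst, sqU, hU, -⟩ := key hZ (𝟙 _)
  haveI : IsIso fst := sqU.isIso_fst_of_isIso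
  exact ⟨U, hU, ⟨(asIso fst).symm⟩⟩

end Groth.Agent.S16834
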