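import Groth.Statements.S16836
import Mathlib
-- import your own Groth.Agent.* helpers here

set_option autoImplicit false
universe u v
open scoped Classical
open AbVar

namespace Groth.Agent.S16836

open scoped Classical
open Polynomial UniqueFactorizationMonoid
namespace Aux

section basic
variable {F : Type*} [Field F]

noncomputable def rr (g₁ g₂ : F[X]) : ℕ :=
  ((normalizedFactors g₁).map fun P => (normalizedFactors g₂).count P * P.natDegree).sum

lemma rr_eq (g₁ g₂ : F[X]) :
    ∑ P ∈ (normalizedFactors g₁).toFinset,
      (normalizedFactors g₁).count P * (normalizedFactors g₂).count P * P.natDegree = rr g₁ g₂ := by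
  unfold rr
  rw [Finset.sum_multiset_map_count]
  refine Finset.sum_congr rfl fun P _ => ?_
  rw [smul_eq_mul, mul_assoc]

lemma rr_mul_left {a b c : F[X]} (ha : a ≠ 0) (hb : b ≠ 0) : rr (a * b) c = rr a c + rr b c := by
  unfold rr
  rw [normalizedFactors_mul ha hb, Multiset.map_add, Multiset.sum_add]

lemma rr_mul_right {a b c : F[X]} (ha : a ≠ 0) (hb : b ≠ 0) : rr c (a * b) = rr c a + rr c b := by
  unfold rr
  rw [normalizedFactors_mul ha hb, ← Multiset.sum_map_add]
  congr 1
  refine Multiset.map_congr rfl fun P _ => ?_
  rw [Multiset.count_add, add_mul]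

lemma rr_unit_left {u c : F[X]} (hu : IsUnit u) : rr u c = 0 := by
  unfold rr
  rw [normalizedFactors_of_isUnit hu]; simp

lemma rr_unit_right {u c : F[X]} (hu : IsUnit u) : rr c u = 0 := by
  unfold rr
  rw [normalizedFactors_of_isUnit hu]; simp


lemma natDegree_prod_nf {g : F[X]} (hg : g ≠ 0) :
    ((normalizedFactors g).map fun P => P.natDegree).sum = g.natDegree := by
  have h1 := prod_normalizedFactors hg
  rw [← natDegree_eq_of_degree_eq (degree_eq_degree_of_associated h1)]
  rw [Polynomial.natDegree_multiset_prod _ (zero_notMem_normalizedFactors g)]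

/-- squarefree: rr g g = deg g -/
lemma rr_self_of_squarefree {g : F[X]} (hg : g ≠ 0) (hsq : Squarefree g) :
    rr g g = g.natDegree := by
  have hnd : (normalizedFactors g).Nodup := (squarefree_iff_nodup_normalizedFactors hg).mp hsq
  unfold rr
  rw [← natDegree_prod_nf hg]
  congr 1
  refine Multiset.map_congr rfl fun P hP => ?_
  rw [Multiset.count_eq_one_of_mem hnd hP, one_mul]

lemma rr_of_isCoprime {g h : F[X]} (hc : IsCoprime g h) : rr g h = 0 := by
  have hd := disjoint_normalizedFactors hc.isRelPrime
  unfold rr
  apply Multiset.sum_eq_zero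
  intro x hx
  rw [Multiset.mem_map] at hx
  obtain ⟨P, hP, rfl⟩ := hx
  have : P ∉ normalizedFactors h := fun hP' => Multiset.disjoint_left.mp hd hP hP'
  rw [Multiset.count_eq_zero_of_notMem this, zero_mul]

lemma rr_congr {g g' h h' : F[X]} (h1 : Associated g g') (h2 : Associated h h') :
    rr g h = rr g' h' := by
  unfold rr
  rw [h1.normalizedFactors_eq, h2.normalizedFactors_eq]

end basic


section main
variable {K : Type u} {L : Type v} [Field K] [PerfectField K] [Field L] [Algebra K L]

lemma map_ne {f : K[X]} (h : f ≠ 0) : f.map (algebraMap K L) ≠ 0 :=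
  (Polynomial.map_ne_zero_iff (algebraMap K L).injective).mpr h

lemma map_unit {u : K[X]} (hu : IsUnit u) : IsUnit (u.map (algebraMap K L)) :=
  hu.map (Polynomial.mapRingHom (algebraMap K L))

lemma map_assoc {P Q : K[X]} (h : Associated P Q) :
    Associated (P.map (algebraMap K L)) (Q.map (algebraMap K L)) :=
  h.map (Polynomial.mapRingHom (algebraMap K L))

lemma irr_case {P Q : K[X]} (hP : Irreducible P) (hQ : Irreducible Q) :
    rr (P.map (algebraMap K L)) (Q.map (algebraMap K L)) = rr P Q := by
  by_cases hPQ : Associated P Q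
  · rw [rr_congr (Associated.refl _) (map_assoc (L := L) hPQ.symm),
      rr_congr (Associated.refl P) hPQ.symm]
    rw [rr_self_of_squarefree hP.ne_zero hP.squarefree]
    have hsep : (P.map (algebraMap K L)).Separable :=
      (PerfectField.separable_of_irreducible hP).map
    rw [rr_self_of_squarefree (map_ne hP.ne_zero) hsep.squarefree, Polynomial.natDegree_map]
  · have hc : IsCoprime P Q := by
      rw [hP.coprime_iff_not_dvd]
      intro hd
      exact hPQ (hP.associated_of_dvd hQ hd)
    rw [rr_of_isCoprime hc]
    have hc' : IsCoprime (P.map (algebraMap K L)) (Q.map (algebraMap K L)) :=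
      hc.map (Polynomial.mapRingHom (algebraMap K L))
    rw [rr_of_isCoprime hc']

lemma step2 {P : K[X]} (hP : Irreducible P) (f : K[X]) (hf : f ≠ 0) :
    rr (P.map (algebraMap K L)) (f.map (algebraMap K L)) = rr P f := by
  revert hf
  refine WfDvdMonoid.induction_on_irreducible
    (motive := fun f => f ≠ 0 → rr (P.map (algebraMap K L)) (f.map (algebraMap K L)) = rr P f)
    f ?_ ?_ ?_
  · intro h; exact absurd rfl h
  · intro u hu _
    rw [rr_unit_right hu, rr_unit_right (map_unit hu)]
  · intro a i ha hi ih _
    rw [Polynomial.map_mul, rr_mul_right (map_ne hi.ne_zero) (map_ne ha),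
      rr_mul_right hi.ne_zero ha, ih ha, irr_case hP hi]

lemma step3 (f₁ f₂ : K[X]) (h₁ : f₁ ≠ 0) (h₂ : f₂ ≠ 0) :
    rr (f₁.map (algebraMap K L)) (f₂.map (algebraMap K L)) = rr f₁ f₂ := by
  revert h₁
  refine WfDvdMonoid.induction_on_irreducible
    (motive := fun f => f ≠ 0 → rr (f.map (algebraMap K L)) (f₂.map (algebraMap K L)) = rr f f₂)
    f₁ ?_ ?_ ?_
  · intro h; exact absurd rfl h
  · intro u hu _
    rw [rr_unit_left hu, rr_unit_left (map_unit hu)]
  · intro a i ha hi ih _
    rw [Polynomial.map_mul, rr_mul_left (map_ne hi.ne_zero) (map_ne ha),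
      rr_mul_left hi.ne_zero ha, ih ha, step2 hi f₂ h₂]

theorem main (f₁ f₂ : K[X]) (h₁ : f₁ ≠ 0) (h₂ : f₂ ≠ 0) :
    ∑ P ∈ (normalizedFactors (f₁.map (algebraMap K L))).toFinset,
        (normalizedFactors (f₁.map (algebraMap K L))).count P *
          (normalizedFactors (f₂.map (algebraMap K L))).count P * P.natDegree =
      ∑ P ∈ (normalizedFactors f₁).toFinset,
        (normalizedFactors f₁).count P * (normalizedFactors f₂).count P * P.natDegree := by
  rw [rr_eq, rr_eq, step3 f₁ f₂ h₁ h₂]

end main

end Aux

open Polynomial UniqueFactorizationMonoid in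
/-- Let K ⊆ L be a field extension and f₁, f₂ non-zero polynomials in K[t]. For a field F and
polynomials g₁, g₂ over F put r_F(g₁, g₂) = Σ_P mult_P(g₁) · mult_P(g₂) · deg P, the sum running
over the monic irreducible polynomials P in F[t] (mult_P the multiplicity of P as an irreducible
factor). Assume K is perfect. Then r_K(f₁, f₂) = r_L(f₁, f₂): the number does not depend on the
field over which the factorisations are taken. (Perfectness of K cannot be dropped: for K = F_p(s),
L = K(s^{1/p}) and f₁ = f₂ = t^p − s the number is p over K and p² over L, since the irreducible t^p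
− s becomes a p-th power over L; the published statement has no restriction on K, and its proof
requires the relevant K[t]-modules to remain semisimple after base change, which holds when every
irreducible factor stays squarefree over L, in particular for K perfect.) -/
theorem result (K : Type u) (L : Type v) [Field K] [PerfectField K] [Field L] [Algebra K L]
    (f₁ f₂ : K[X]) (h₁ : f₁ ≠ 0) (h₂ : f₂ ≠ 0) :
    ∑ P ∈ (normalizedFactors (f₁.map (algebraMap K L))).toFinset,
        (normalizedFactors (f₁.map (algebraMap K L))).count P *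
          (normalizedFactors (f₂.map (algebraMap K L))).count P * P.natDegree =
      ∑ P ∈ (normalizedFactors f₁).toFinset,
        (normalizedFactors f₁).count P * (normalizedFactors f₂).count P * P.natDegree := by
  exact Aux.main f₁ f₂ h₁ h₂

end Groth.Agent.S16836
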