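import Groth.Statements.S16854
import Groth.Agent.Lib.Helper6.WittFix

set_option autoImplicit false
universe u v
open CAlg

namespace Groth.Agent.S16854

/-- Let k be an algebraically closed field of characteristic p > 0, ν ≥ 1, W = W(k) the ring of
p-typical Witt vectors with its Frobenius endomorphism σ, M a finitely generated free W-module and F
: M → M a bijective additive map that is σ^ν-semilinear, F(a·m) = σ^ν(a)·F(m). Then M admits a
W-basis consisting of F-fixed elements; in particular M is spanned over W by M₀ = {m | F(m) = m}, a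
module over the Witt vectors of F_{p^ν}. (The copy allows ν < 0 as well, reducing to F⁻¹; stated
here for ν ≥ 1.) -/
theorem result (k : Type u) [Field k] [IsAlgClosed k]
    (p : ℕ) [Fact p.Prime] [CharP k p] (ν : ℕ) (hν : 1 ≤ ν)
    (M : Type v) [AddCommGroup M] [Module (WittVector p k) M]
    [Module.Finite (WittVector p k) M] [Module.Free (WittVector p k) M]
    (F : M →+ M)
    (hF : ∀ (a : WittVector p k) (m : M), F (a • m) = ((⇑(WittVector.frobenius : WittVector p k →+* WittVector p k))^[ν] a) • F m)
    (hbij : Function.Bijective F) :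
    ∃ (ι : Type v) (b : Module.Basis ι (WittVector p k) M), ∀ i, F (b i) = b i := by
  classical
  let e := Module.finBasis (WittVector p k) M
  let E : M ≃ₗ[WittVector p k] (Fin (Module.finrank (WittVector p k) M) → WittVector p k) :=
    e.equivFun
  let Φ : (Fin (Module.finrank (WittVector p k) M) → WittVector p k) →+
      (Fin (Module.finrank (WittVector p k) M) → WittVector p k) :=
    (E : M →ₗ[WittVector p k] _).toAddMonoidHom.comp
      (F.comp (E.symm : _ →ₗ[WittVector p k] M).toAddMonoidHom)
  have hΦapp : ∀ x, Φ x = E (F (E.symm x)) := fun x => rfl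
  have hΦ : ∀ (a : WittVector p k) x, Φ (a • x) =
      ((⇑(WittVector.frobenius : WittVector p k →+* WittVector p k))^[ν] a) • Φ x := by
    intro a x
    rw [hΦapp, hΦapp, map_smul, hF, map_smul]
  have hΦbij : Function.Bijective Φ := by
    have : (Φ : _ → _) = E ∘ F ∘ E.symm := rfl
    rw [this]
    exact E.bijective.comp (hbij.comp E.symm.bijective)
  obtain ⟨m, hm1, hli, hsp⟩ :=
    Groth.Agent.Lib.Helper6.WittFix.coord_fixed_basis ν hν Φ hΦ hΦbij
  let b0 := Module.Basis.mk hli hsp.ge
  let b1 : Module.Basis (Fin (Module.finrank (WittVector p k) M)) (WittVector p k) M :=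
    b0.map E.symm
  refine ⟨ULift.{v} (Fin (Module.finrank (WittVector p k) M)), b1.reindex Equiv.ulift.symm, ?_⟩
  intro i
  have h1 : (b1.reindex Equiv.ulift.symm) i = E.symm (m i.down) := by
    simp [b1, b0]
  rw [h1]
  have h2 := hm1 i.down
  rw [hΦapp] at h2
  have h3 := congrArg E.symm h2
  rw [LinearEquiv.symm_apply_apply] at h3
  exact h3

end Groth.Agent.S16854
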