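import Groth.Statements.S16869
import Groth.Agent.Lib.Helper2.AlgSt.GerbeHomeo


set_option autoImplicit false
universe u
open CategoryTheory AlgebraicGeometry
open Gerb

namespace Groth.Agent.S16869

/-- A morphism of algebraic stacks making its source a gerbe over its target is a universal
homeomorphism. -/
theorem result
    (S : Scheme.{u}) (𝒳 𝒴 : AlgSt.Cat S)
    (h𝒳 : AlgSt.IsAlgStack Scheme.fppfPrecoverage 𝒳) (h𝒴 : AlgSt.IsAlgStack Scheme.fppfPrecoverage 𝒴)
    (f : 𝒳 ⥤ᵇ 𝒴) (hf : Gerb.IsGerbeOver (QuotSh.J Scheme.fppfPrecoverage S) f) :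
    AlgSt.IsUnivHomeo Scheme.fppfPrecoverage f := by
  exact Groth.Agent.Helper2.AlgStLib.GerbeHomeo.isUnivHomeo_of_isGerbeOver h𝒳 h𝒴 f hf

end Groth.Agent.S16869
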