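import Groth.Statements.S1688
import Mathlib
import Groth.Agent.S9806
import Groth.Agent.Lib.Helper1.FpLocal
import Groth.Agent.Lib.Lead.FLF7

set_option autoImplicit false
universe u
open CategoryTheory CategoryTheory.Limits AlgebraicGeometry TopologicalSpace
open SDiv

namespace Groth.Agent.S1688

section
open CategoryTheory CategoryTheory.Limits AlgebraicGeometry TopologicalSpace

open Module Groth.Agent.Lead.SD Groth.Agent.Lead.FLF Groth.Agent.Helper1

/-- a regular local domain of dimension at most one is a principal ideal ring -/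
theorem isPrincipalIdealRing_of_regular (R : Type u) [CommRing R] [IsDomain R]
    [IsRegularLocalRing R] (hd : ringKrullDim R ≤ 1) : IsPrincipalIdealRing R := by
  have h1 : (Module.finrank (IsLocalRing.ResidueField R) (IsLocalRing.CotangentSpace R) : WithBot ℕ∞)
      = ringKrullDim R := (IsRegularLocalRing.iff_finrank_cotangentSpace R).1 inferInstance
  have h2 : Module.finrank (IsLocalRing.ResidueField R) (IsLocalRing.CotangentSpace R) ≤ 1 := by
    rw [← h1] at hd
    exact_mod_cast hd
  exact ((tfae_of_isNoetherianRing_of_isLocalRing_of_isDomain (R := R)).out 5 0).1 h2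

theorem ringKrullDim_stalk_le' (X : Scheme.{u}) {U : X.Opens} (hU : IsAffineOpen U) (x : U) :
    ringKrullDim (X.presheaf.stalk x.1) ≤ topologicalKrullDim X := by
  haveI := hU.isLocalization_stalk x
  rw [IsLocalization.AtPrime.ringKrullDim_eq_height (hU.primeIdealOf x).asIdeal
    (X.presheaf.stalk x.1)]
  refine le_trans Ideal.height_le_ringKrullDim_of_isPrime ?_
  rw [← PrimeSpectrum.topologicalKrullDim_eq_ringKrullDim Γ(X, U)]
  change topologicalKrullDim (Spec Γ(X, U)) ≤ _
  rw [← IsHomeomorph.topologicalKrullDim_eq _ hU.isoSpec.hom.homeomorph.isHomeomorph]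
  exact topologicalKrullDim_subspace_le X U

theorem ringKrullDim_stalk_le (X : Scheme.{u}) (x : X) :
    ringKrullDim (X.presheaf.stalk x) ≤ topologicalKrullDim X := by
  obtain ⟨_, ⟨U, hU, rfl⟩, hxU, -⟩ :=
    X.isBasis_affineOpens.exists_subset_of_mem_open (Set.mem_univ x) isOpen_univ
  exact ringKrullDim_stalk_le' X hU ⟨x, hxU⟩

attribute [local instance] stalkModule

theorem main (X : Scheme.{u}) [IsIntegral X] [IsLocallyNoetherian X]
    (hreg : ∀ x : ↥X, IsRegularLocalRing (X.presheaf.stalk x))
    (hdim : topologicalKrullDim ↥X ≤ 1) (F : X.Modules) (hF : Coh.IsCoh F) :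
    (∀ x : ↥X, NoZeroSMulDivisors (X.presheaf.stalk x) (F.presheaf.stalk x)) ↔
      FlatMod.IsFinLocFree F := by
  haveI : F.IsQuasicoherent := hF.1
  constructor
  · intro hT
    refine (Groth.Agent.S9806.result X F hF.1).1 ⟨FpLocal.isFP_of_isCoh F hF, fun x => ?_⟩
    haveI := hreg x
    haveI : IsPrincipalIdealRing (X.presheaf.stalk x) :=
      isPrincipalIdealRing_of_regular _ ((ringKrullDim_stalk_le X x).trans hdim)
    obtain ⟨_, ⟨U, hU, rfl⟩, hxU, -⟩ :=
      X.isBasis_affineOpens.exists_subset_of_mem_open (Set.mem_univ x) isOpen_univ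
    haveI : Module.Finite (X.presheaf.stalk x) (F.presheaf.stalk x) :=
      finite_stalk_of_finite_sections F hU ⟨x, hxU⟩ (ft_sections F hF.2 hU)
    haveI := hT x
    exact Module.free_of_finite_type_torsion_free'
  · intro hfree x
    have h1 := ((Groth.Agent.S9806.result X F hF.1).2 hfree).2 x
    haveI := h1
    refine ⟨fun {c y} hcy => ?_⟩
    by_cases hc : c = 0
    · exact Or.inl hc
    · right
      have hreg : IsRegular c := isRegular_of_ne_zero hc
      have := Module.IsTorsionFree.isSMulRegular (M := F.presheaf.stalk x) hreg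
      exact this (by simp only [hcy, smul_zero])


end


/-- Let X be a locally Noetherian integral scheme of dimension at most 1 all of whose local rings are
regular, and F a coherent module on X. Then F is torsion free (every stalk is a torsion-free module
over the local ring) if and only if F is finite locally free. -/
theorem result (X : Scheme.{u}) [IsIntegral X] [IsLocallyNoetherian X] (hreg : ∀ x : ↥X, IsRegularLocalRing (X.presheaf.stalk x))
    (hdim : topologicalKrullDim ↥X ≤ 1) (F : X.Modules) (hF : Coh.IsCoh F) :
    (∀ x : ↥X, NoZeroSMulDivisors (X.presheaf.stalk x) (F.presheaf.stalk x)) ↔ FlatMod.IsFinLocFree F := by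
  classical
  exact main X hreg hdim F hF

end Groth.Agent.S1688
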