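import Groth.Statements.S16901
import Mathlib
import Groth.Agent.Lib.Helper1.Big2

set_option autoImplicit false
universe u
open CategoryTheory CategoryTheory.Limits AlgebraicGeometry
open Vanish

namespace Groth.Agent.S16901

/-- Let k be an algebraically closed field and X an integral proper k-scheme of dimension n with an
ample invertible O_X-module (a projective variety, not assumed non-singular), and let L be an
invertible O_X-module. The Iitaka dimension of L is n, in the growth form the text adopts as its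
working definition (for some ν > 0 there is a constant a > 0 with μ^n ≤ a · dim_k H^0(X, L^⊗νμ) for
all μ ≥ 1), if and only if for some ν > 0 there are an ample invertible module A and a monomorphism
A → L^⊗ν (that is, L^⊗ν(−C) is ample for some effective divisor C). -/
theorem result (k : Type u) [Field k] [IsAlgClosed k]
    (X : Scheme.{u}) [X.Over (Spec (CommRingCat.of k))] [IsIntegral X] [IsProper (X ↘ Spec (CommRingCat.of k))]
    (n : ℕ) (hn : topologicalKrullDim X = n) (H : X.Modules) (hH : CohB1.IsAmple H)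
    (L : X.Modules) (hL : PicF.IsInvertible L) :
    (∃ ν a : ℕ, 0 < ν ∧ 0 < a ∧ ∀ μ : ℕ, 1 ≤ μ →
        μ ^ n ≤ a * Module.finrank k (Coh.HH X (CohB1.tensorPow L (ν * μ)) 0)) ↔
      ∃ (ν : ℕ) (A : X.Modules) (φ : A ⟶ CohB1.tensorPow L ν), 0 < ν ∧ CohB1.IsAmple A ∧ Mono φ := by
  have hn' : topologicalKrullDim X = ((n : ℕ) : WithBot ℕ∞) := hn
  constructor
  · rintro ⟨ν, a, hν, _, hgrow⟩
    obtain ⟨t₁, μ, φ, hμ, hφ⟩ :=
      Groth.Agent.Helper1.Big.exists_mono_ample_of_growth k X n hn' H hH L hL ν a hν hgrow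
    exact ⟨ν * μ, CohB1.tensorPow H (t₁ + 1), φ, Nat.mul_pos hν hμ,
      (Groth.Agent.Helper1.AmpleLib.isAmple_tensorPow_iff hH.1 (t₁ + 1) (Nat.succ_pos t₁)).1 hH, hφ⟩
  · rintro ⟨ν, A, φ, hν, hA, hφ⟩
    haveI := hφ
    obtain ⟨a, m₁, ha, hm₁, h⟩ :=
      Groth.Agent.Helper1.Big.growth_of_mono_ample k X n hn' L hL ν A hA φ
    exact ⟨ν * m₁, a, Nat.mul_pos hν hm₁, ha, h⟩

end Groth.Agent.S16901
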