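import Groth.Statements.S16917
import Groth.Agent.Lib.Helper6.UncPts.Uniq

set_option autoImplicit false
open CategoryTheory AlgebraicGeometry
universe u
open Variety

namespace Groth.Agent.S16917

/-- Let k be an uncountable algebraically closed field, X a k-scheme of finite type and Z₀, Z₁, …
countably many closed subsets of X. Then the countable union of the Zₙ, read through closed points,
has a unique irredundant decomposition: there is exactly one countable family S of irreducible
closed subsets of X, pairwise not contained in one another, such that a closed point of X lies in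
some member of S if and only if it lies in some Zₙ. (The published statement is the existence and
uniqueness of the irredundant decomposition of a countable union of algebraic varieties into
c-components, a variety being read through its closed points; with all points of the scheme the
uniqueness would not need the uncountable field.) -/
theorem result (k : Type u) [Field k] [IsAlgClosed k]
    [Uncountable k] (X : Scheme.{u}) (sX : X ⟶ Spec (CommRingCat.of k)) [LocallyOfFiniteType sX]
    [QuasiCompact sX] (Z : ℕ → TopologicalSpace.Closeds X) :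
    ∃! S : Set (TopologicalSpace.Closeds X), S.Countable ∧ (∀ T ∈ S, IsIrreducible (T : Set X)) ∧
      IsAntichain (· ≤ ·) S ∧
      {x : X | IsClosed ({x} : Set X) ∧ ∃ T ∈ S, x ∈ T} =
        {x : X | IsClosed ({x} : Set X) ∧ ∃ n, x ∈ Z n} := by
  haveI : IsLocallyNoetherian X := LocallyOfFiniteType.isLocallyNoetherian sX
  haveI : CompactSpace X := QuasiCompact.compactSpace_of_compactSpace sX
  haveI : IsNoetherian X := {}
  have hprops : (Groth.Agent.Lib.Helper6.UncPts.Sset X Z).Countable ∧
      (∀ T ∈ Groth.Agent.Lib.Helper6.UncPts.Sset X Z, IsIrreducible (T : Set X)) ∧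
      IsAntichain (· ≤ ·) (Groth.Agent.Lib.Helper6.UncPts.Sset X Z) ∧
      {x : X | IsClosed ({x} : Set X) ∧ ∃ T ∈ Groth.Agent.Lib.Helper6.UncPts.Sset X Z, x ∈ T} =
        {x : X | IsClosed ({x} : Set X) ∧ ∃ n, x ∈ Z n} := by
    refine ⟨Groth.Agent.Lib.Helper6.UncPts.Sset_countable X Z, fun T hT => hT.1.1, ?_, ?_⟩
    · intro T hT T' hT' hne hle
      exact hne (hT.2 T' hT'.1 hle).symm
    · ext x
      constructor
      · rintro ⟨hxc, T, hT, hxT⟩
        obtain ⟨n, hn⟩ := hT.1.2
        exact ⟨hxc, n, hn hxT⟩
      · rintro ⟨hxc, n, hxn⟩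
        have hC : (⟨{x}, hxc⟩ : TopologicalSpace.Closeds X) ∈
            Groth.Agent.Lib.Helper6.UncPts.Cset X Z := by
          refine ⟨isIrreducible_singleton, n, ?_⟩
          intro y hy
          have : y = x := hy
          rw [this]
          exact hxn
        obtain ⟨T', hT', hle⟩ := Groth.Agent.Lib.Helper6.UncPts.exists_le_mem_Sset X Z _ hC
        exact ⟨hxc, T', hT', hle rfl⟩
  refine ⟨Groth.Agent.Lib.Helper6.UncPts.Sset X Z, hprops, ?_⟩
  rintro S' ⟨hS'c, hS'irr, hS'a, hS'pts⟩
  obtain ⟨hSc, hSirr, hSa, hSpts⟩ := hprops
  apply Set.Subset.antisymm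
  · exact Groth.Agent.Lib.Helper6.UncPts.subset_of_same_closedPoints k X sX S' _ hS'c hSc
      hS'irr hSirr hS'a (hS'pts.trans hSpts.symm)
  · exact Groth.Agent.Lib.Helper6.UncPts.subset_of_same_closedPoints k X sX _ S' hSc hS'c
      hSirr hS'irr hSa (hSpts.trans hS'pts.symm)

end Groth.Agent.S16917
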