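import Groth.Statements.S16919
import Mathlib
-- import your own Groth.Agent.* helpers here

set_option autoImplicit false
universe u
open TensorProduct
open CAlg

namespace Groth.Agent.S16919

open TensorProduct Cardinal
namespace Aux

/-- Steinitz: algebraically closed fields over a common domain with the same transcendence
degree are isomorphic over it. -/
theorem exists_ringEquiv_of_trdeg_eq {D K L : Type u} [CommRing D] [Field K] [Field L]
    [Algebra D K] [Algebra D L] [IsAlgClosed K] [IsAlgClosed L] [FaithfulSMul D K]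
    [FaithfulSMul D L] (h : Algebra.trdeg D K = Algebra.trdeg D L) :
    ∃ e : K ≃+* L, ∀ d, e (algebraMap D K d) = algebraMap D L d := by
  haveI : Nontrivial D := RingHom.domain_nontrivial (algebraMap D K)
  obtain ⟨s, hs⟩ := exists_isTranscendenceBasis D K
  obtain ⟨t, ht⟩ := exists_isTranscendenceBasis D L
  have hcard : #s = #t := by
    rw [hs.cardinalMk_eq_trdeg, ht.cardinalMk_eq_trdeg, h]
  obtain ⟨eq⟩ := Cardinal.eq.mp hcard
  letI := IsAlgClosed.isAlgClosure_of_transcendence_basis _ hs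
  letI := IsAlgClosed.isAlgClosure_of_transcendence_basis _ ht
  let e₀ : Algebra.adjoin D (Set.range ((↑) : s → K)) ≃ₐ[D]
      Algebra.adjoin D (Set.range ((↑) : t → L)) :=
    hs.1.aevalEquiv.symm.trans ((MvPolynomial.renameEquiv D eq).trans ht.1.aevalEquiv)
  refine ⟨IsAlgClosure.equivOfEquiv K L e₀.toRingEquiv, fun d => ?_⟩
  rw [IsScalarTower.algebraMap_apply D (Algebra.adjoin D (Set.range ((↑) : s → K))) K,
    IsAlgClosure.equivOfEquiv_algebraMap]
  rw [IsScalarTower.algebraMap_apply D (Algebra.adjoin D (Set.range ((↑) : t → L))) L]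
  congr 1
  exact e₀.commutes d

theorem card_eq_of_add_eq {n x κ : Cardinal.{u}} (hn : n < ℵ₀) (hκ : ℵ₀ ≤ κ) (h : n + x = κ) :
    x = κ := by
  apply le_antisymm
  · rw [← h]; exact self_le_add_left x n
  · by_contra hlt
    rw [not_le] at hlt
    have := Cardinal.add_lt_of_lt hκ (hn.trans_le hκ) hlt
    rw [h] at this
    exact lt_irrefl _ this

theorem main_abs (k₀ k R₀ R Ω : Type u) [Field k₀] [Field k] [Algebra k₀ k] [IsAlgClosed k]
    (hinf : ∃ x : ℕ → k, AlgebraicIndependent k₀ x)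
    [CommRing R₀] [Algebra k₀ R₀] [Algebra.FiniteType k₀ R₀]
    [CommRing R] [IsDomain R] [Algebra k R] [Algebra.FiniteType k R]
    (j : R₀ →+* R) (hj : ∀ c : k₀, j (algebraMap k₀ R₀ c) = algebraMap k R (algebraMap k₀ k c))
    [Field Ω] [IsAlgClosed Ω] [Algebra R Ω] [FaithfulSMul R Ω] [Algebra.IsAlgebraic R Ω]
    (ev : R →ₐ[k] k) (hP : Function.Injective fun r : R₀ => ev (j r)) :
    ∃ e : Ω ≃+* k, ∀ r : R₀, e (algebraMap R Ω (j r)) = ev (j r) := by
  have hjinj : Function.Injective j := fun a b hab => hP (by simp only [hab])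
  have hRΩ : Function.Injective (algebraMap R Ω) := FaithfulSMul.algebraMap_injective R Ω
  letI a1 : Algebra R₀ Ω := ((algebraMap R Ω).comp j).toAlgebra
  letI a2 : Algebra R₀ k := (ev.toRingHom.comp j).toAlgebra
  letI a3 : Algebra k Ω := ((algebraMap R Ω).comp (algebraMap k R)).toAlgebra
  letI a4 : Algebra k₀ Ω :=
    ((algebraMap R Ω).comp ((algebraMap k R).comp (algebraMap k₀ k))).toAlgebra
  haveI f1 : FaithfulSMul R₀ Ω :=
    (faithfulSMul_iff_algebraMap_injective R₀ Ω).mpr (hRΩ.comp hjinj)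
  haveI f2 : FaithfulSMul R₀ k := (faithfulSMul_iff_algebraMap_injective R₀ k).mpr hP
  haveI : Nontrivial R₀ := RingHom.domain_nontrivial (algebraMap R₀ k)
  haveI f3 : FaithfulSMul k₀ R₀ :=
    (faithfulSMul_iff_algebraMap_injective k₀ R₀).mpr (algebraMap k₀ R₀).injective
  haveI f4 : FaithfulSMul k Ω := (faithfulSMul_iff_algebraMap_injective k Ω).mpr
    (algebraMap k Ω).injective
  haveI f5 : FaithfulSMul k R := (faithfulSMul_iff_algebraMap_injective k R).mpr
    (algebraMap k R).injective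
  haveI t1 : IsScalarTower k₀ R₀ k := IsScalarTower.of_algebraMap_eq fun c => by
    show algebraMap k₀ k c = ev (j (algebraMap k₀ R₀ c))
    rw [hj, ev.commutes]
    rfl
  haveI t2 : IsScalarTower k₀ R₀ Ω := IsScalarTower.of_algebraMap_eq fun c => by
    show algebraMap R Ω (algebraMap k R (algebraMap k₀ k c)) =
      algebraMap R Ω (j (algebraMap k₀ R₀ c))
    rw [hj]
  haveI t3 : IsScalarTower k₀ k Ω := IsScalarTower.of_algebraMap_eq fun c => rfl
  haveI t4 : IsScalarTower k R Ω := IsScalarTower.of_algebraMap_eq fun c => rfl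
  -- cardinal arithmetic
  have hn₀ : Algebra.trdeg k₀ R₀ < ℵ₀ := trdeg_lt_aleph0_of_finiteType
  have hn₁ : Algebra.trdeg k R < ℵ₀ := trdeg_lt_aleph0_of_finiteType
  have hκ : ℵ₀ ≤ Algebra.trdeg k₀ k := by
    obtain ⟨x, hx⟩ := hinf
    have := hx.lift_cardinalMk_le_trdeg
    simpa using this
  have E1 := trdeg_add_eq k₀ R₀ (A := k)
  have E2 := trdeg_add_eq k₀ R₀ (A := Ω)
  have E3 := trdeg_add_eq k₀ k (A := Ω)
  have E4 := trdeg_add_eq k R (A := Ω)
  have h0 : Algebra.trdeg R Ω = 0 := trdeg_eq_zero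
  rw [h0, add_zero] at E4
  have hk : Algebra.trdeg R₀ k = Algebra.trdeg k₀ k := card_eq_of_add_eq hn₀ hκ E1
  have hΩ0 : Algebra.trdeg k₀ Ω = Algebra.trdeg k₀ k := by
    rw [← E3, ← E4]
    exact Cardinal.add_eq_left hκ (hn₁.le.trans hκ)
  have hΩ : Algebra.trdeg R₀ Ω = Algebra.trdeg k₀ k :=
    card_eq_of_add_eq hn₀ hκ (E2.trans hΩ0)
  obtain ⟨e, he⟩ := exists_ringEquiv_of_trdeg_eq (D := R₀) (K := Ω) (L := k) (hΩ.trans hk.symm)
  exact ⟨e, fun r => he r⟩

theorem main (k₀ k : Type u)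
    [Field k₀] [Field k] [Algebra k₀ k] [IsAlgClosed k] (hinf : ∃ x : ℕ → k, AlgebraicIndependent k₀ x)
    (R₀ : Type u) [CommRing R₀] [Algebra k₀ R₀] [Algebra.FiniteType k₀ R₀] [IsDomain (k ⊗[k₀] R₀)]
    (ev : k ⊗[k₀] R₀ →ₐ[k] k) (hP : Function.Injective fun r : R₀ => ev (1 ⊗ₜ[k₀] r)) :
    ∃ e : AlgebraicClosure (FractionRing (k ⊗[k₀] R₀)) ≃+* k,
      ∀ r : R₀, e (algebraMap (k ⊗[k₀] R₀) (AlgebraicClosure (FractionRing (k ⊗[k₀] R₀)))
        (1 ⊗ₜ[k₀] r)) = ev (1 ⊗ₜ[k₀] r) := by
  haveI : Algebra.FiniteType k (k ⊗[k₀] R₀) := inferInstance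
  haveI : FaithfulSMul (k ⊗[k₀] R₀) (AlgebraicClosure (FractionRing (k ⊗[k₀] R₀))) := by
    rw [faithfulSMul_iff_algebraMap_injective,
      IsScalarTower.algebraMap_eq (k ⊗[k₀] R₀) (FractionRing (k ⊗[k₀] R₀))
        (AlgebraicClosure (FractionRing (k ⊗[k₀] R₀)))]
    exact (algebraMap (FractionRing (k ⊗[k₀] R₀)) _).injective.comp
      (IsFractionRing.injective _ _)
  haveI : Algebra.IsAlgebraic (k ⊗[k₀] R₀) (AlgebraicClosure (FractionRing (k ⊗[k₀] R₀))) := by
    haveI : Algebra.IsAlgebraic (k ⊗[k₀] R₀) (FractionRing (k ⊗[k₀] R₀)) :=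
      IsLocalization.isAlgebraic _ (nonZeroDivisors (k ⊗[k₀] R₀))
    exact Algebra.IsAlgebraic.trans (k ⊗[k₀] R₀) (FractionRing (k ⊗[k₀] R₀)) _
  exact main_abs k₀ k R₀ (k ⊗[k₀] R₀) (AlgebraicClosure (FractionRing (k ⊗[k₀] R₀))) hinf
    (Algebra.TensorProduct.includeRight : R₀ →ₐ[k₀] k ⊗[k₀] R₀).toRingHom
    (fun c => by
      show (1 : k) ⊗ₜ[k₀] (algebraMap k₀ R₀ c) = algebraMap k (k ⊗[k₀] R₀) (algebraMap k₀ k c)
      rw [Algebra.TensorProduct.algebraMap_apply, Algebra.algebraMap_eq_smul_one,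
        Algebra.algebraMap_eq_smul_one, TensorProduct.tmul_smul, ← TensorProduct.smul_tmul']
      simp)
    ev hP

end Aux

/-- Let k₀ → k be an extension of fields with k algebraically closed and of infinite transcendence
degree over k₀, R₀ a finitely generated k₀-algebra whose base change R = k ⊗ R₀ is an integral
domain (so Spec R is an integral affine k-scheme of finite type with the model Spec R₀ over k₀), and
P a k-point of Spec R, i.e. a k-algebra homomorphism ev : R → k, lying over the generic point of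
Spec R₀, i.e. with ev injective on R₀. Then there is a field isomorphism e from an algebraic closure
of the fraction field of R (the function field of Spec R) onto k such that e(1 ⊗ r) = ev(1 ⊗ r) for
every r in R₀: e extends evaluation at P on R₀. (The published setting has k algebraically closed of
characteristic zero and of infinite transcendence degree over its prime field, and k₀ the subfield
generated by the coefficients of equations of Spec R, which is finitely generated over the prime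
field, so that k has infinite transcendence degree over k₀; only this last property and no
characteristic assumption enter here. The isomorphism is not canonical.) -/
theorem result (k₀ k : Type u)
    [Field k₀] [Field k] [Algebra k₀ k] [IsAlgClosed k] (hinf : ∃ x : ℕ → k, AlgebraicIndependent k₀ x)
    (R₀ : Type u) [CommRing R₀] [Algebra k₀ R₀] [Algebra.FiniteType k₀ R₀] [IsDomain (k ⊗[k₀] R₀)]
    (ev : k ⊗[k₀] R₀ →ₐ[k] k) (hP : Function.Injective fun r : R₀ => ev (1 ⊗ₜ[k₀] r)) :
    ∃ e : AlgebraicClosure (FractionRing (k ⊗[k₀] R₀)) ≃+* k,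
      ∀ r : R₀, e (algebraMap (k ⊗[k₀] R₀) (AlgebraicClosure (FractionRing (k ⊗[k₀] R₀)))
        (1 ⊗ₜ[k₀] r)) = ev (1 ⊗ₜ[k₀] r) := by
  exact Aux.main k₀ k hinf R₀ ev hP

end Groth.Agent.S16919
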