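import Groth.Statements.S16920
import Groth.Agent.Lib.Helper6.UncPts.Sch

set_option autoImplicit false
open CategoryTheory AlgebraicGeometry
universe u
open Variety

namespace Groth.Agent.S16920

/-- Let k be an uncountable algebraically closed field, V an irreducible k-scheme of finite type and Z₀,
Z₁, … closed subsets of V, each different from V. Then the set of closed points of V lying in no Zₙ
is dense in V. (The published statement: a nonempty c-open subset of an irreducible quasi-projective
variety is Zariski dense, a variety being read through its closed points; nonemptiness of the c-open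
subset amounts to every Zₙ being a proper subset, while quasi-projectivity and the standing
characteristic-zero assumption play no role and are dropped.) -/
theorem result (k : Type u) [Field k] [IsAlgClosed k]
    [Uncountable k] (V : Scheme.{u}) (sV : V ⟶ Spec (CommRingCat.of k)) [IrreducibleSpace V]
    [LocallyOfFiniteType sV] [QuasiCompact sV] (Z : ℕ → TopologicalSpace.Closeds V)
    (hZ : ∀ n, (Z n : Set V) ≠ Set.univ) :
    Dense {x : V | IsClosed ({x} : Set V) ∧ ∀ n, x ∉ Z n} := by
  rw [dense_iff_inter_open]
  intro W hW hWne
  let Z' : ℕ → Set V := fun n => Nat.casesOn n Wᶜ (fun m => (Z m : Set V))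
  have hZ'c : ∀ n, IsClosed (Z' n) := by
    intro n
    cases n with
    | zero => exact hW.isClosed_compl
    | succ m => exact (Z m).isClosed
  have hZ' : ∀ n, ¬ Set.univ ⊆ Z' n := by
    intro n h
    cases n with
    | zero =>
      obtain ⟨w, hw⟩ := hWne
      exact (h (Set.mem_univ w)) hw
    | succ m => exact hZ m (Set.univ_subset_iff.1 h)
  obtain ⟨x, -, hxc, hxZ⟩ := Groth.Agent.Lib.Helper6.UncPts.exists_closedPoint_avoiding k V sV
    Set.univ ⟨Set.univ_nonempty, (IrreducibleSpace.isIrreducible_univ V).isPreirreducible⟩
    isClosed_univ Z' hZ'c hZ'
  refine ⟨x, ?_, hxc, fun n => hxZ (n + 1)⟩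
  have := hxZ 0
  exact not_not.1 this

end Groth.Agent.S16920
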