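import Groth.Statements.S16962
import Groth.Agent.Lib.Helper6.ConstActL.CAa

set_option autoImplicit false
universe u
open ConstAct

namespace Groth.Agent.S16962

open TensorProduct in
/-- Let R be a commutative ring, Γ a finite group and B a commutative R-algebra equipped with a comodule
structure over the Hopf algebra of R-valued functions on Γ (the coordinate ring of the constant
group scheme of Γ over Spec R, with basis the indicator functions e_γ) whose coaction B → B ⊗ Fun(Γ,
R) is a homomorphism of algebras, i.e. an action of the constant group scheme on Spec B. Then there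
is exactly one action of Γ on B by R-algebra automorphisms whose associated coaction b ↦ Σ_γ (γ · b)
⊗ e_γ is the given coaction; and for that action the ring of invariants of the comodule algebra (the
b whose coaction is b ⊗ 1) equals the ring of elements fixed by Γ. (That the coaction associated
with an action is a comodule algebra structure is the other direction of the published equivalence
and is a construction here.) -/
theorem result (R : Type u) [CommRing R]
    (B : Type u) [CommRing B] [Algebra R B] (Γ : Type u) [Group Γ] [Fintype Γ] [DecidableEq Γ]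
    [HopfRep.Comod R (ConstGrp.F R Γ) B] [GLin.IsCoactAlg R (ConstGrp.F R Γ) B] :
    ∃! a : MulSemiringAction Γ B, ∃ _ : SMulCommClass Γ R B,
      ConstAct.coactLin R B Γ = HopfRep.Comod.coact (k := R) (A := ConstGrp.F R Γ) (V := B) ∧
        GLin.invariants R (ConstGrp.F R Γ) B = ConstAct.inv R B Γ := by
  refine ⟨Groth.Agent.Lib.Helper6.ConstActL.theAction R B Γ,
    ⟨Groth.Agent.Lib.Helper6.ConstActL.theAction_smulComm R B Γ, ?_, ?_⟩, ?_⟩
  · apply LinearMap.ext
    intro b
    rw [ConstAct.coactLin_apply]
    exact (Groth.Agent.Lib.Helper6.ConstActL.rho_eq R B Γ b).symm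
  · ext b
    rw [GLin.mem_invariants_iff, ConstAct.mem_inv]
    constructor
    · intro h γ
      change Groth.Agent.Lib.Helper6.ConstActL.act R B Γ γ b = b
      unfold Groth.Agent.Lib.Helper6.ConstActL.act
      rw [show Groth.Agent.Lib.Helper6.ConstActL.rho R B Γ b = b ⊗ₜ[R] (1 : ConstGrp.F R Γ) from h,
        Groth.Agent.Lib.Helper6.ConstActL.cmpA_tmul, ConstGrp.one_apply, one_smul]
    · intro h
      have h' : ∀ γ, Groth.Agent.Lib.Helper6.ConstActL.act R B Γ γ b = b := h
      change Groth.Agent.Lib.Helper6.ConstActL.rho R B Γ b = _
      rw [Groth.Agent.Lib.Helper6.ConstActL.rho_eq]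
      simp only [h']
      rw [← TensorProduct.tmul_sum, ConstGrp.sum_e]
  · rintro a' ⟨hc, h1, _⟩
    apply Groth.Agent.Lib.Helper6.ConstActL.mulSemiringAction_ext
    intro γ b
    have h2 := LinearMap.congr_fun h1 b
    rw [@ConstAct.coactLin_apply R _ B _ _ Γ _ _ _ a' hc b] at h2
    have h3 := congrArg (Groth.Agent.Lib.Helper6.ConstActL.cmpA R B Γ γ) h2
    rw [Groth.Agent.Lib.Helper6.ConstActL.cmpA_sum_tmul_e R B Γ γ
      (fun δ => @HSMul.hSMul Γ B B (@instHSMul Γ B a'.toSMul) δ b)] at h3
    exact h3

end Groth.Agent.S16962
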