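import Groth.Statements.S16963
import Mathlib

set_option autoImplicit false
universe u
open scoped BigOperators
open ConstAct

namespace Groth.Agent.S16963

open TensorProduct in
/-- Let R be a commutative ring and Γ a finite group acting on a commutative R-algebra B by R-algebra
automorphisms; regard B as a comodule algebra over the Hopf algebra of R-valued functions on Γ (the
constant group scheme of Γ acting on Spec B) through the coaction b ↦ Σ_γ (γ · b) ⊗ e_γ. Then the
action is tame — there is a comodule map α from the Hopf algebra, with its regular coaction, to B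
with α(1) = 1 (a total integral) — if and only if the trace b ↦ Σ_γ γ · b, which takes values in the
ring of invariants B^Γ, maps B onto B^Γ. -/
theorem result (R : Type u) [CommRing R]
    (B : Type u) [CommRing B] [Algebra R B] (Γ : Type u) [Group Γ] [Fintype Γ] [DecidableEq Γ]
    [MulSemiringAction Γ B] [SMulCommClass Γ R B] :
    letI := ConstAct.comod R B Γ
    (∃ α : ConstGrp.F R Γ →ₗ[R] B, Hoch.IsComodHom (ConstGrp.F R Γ) α ∧ α 1 = 1) ↔
      ∀ c : B, c ∈ ConstAct.inv R B Γ → ∃ b : B, ∑ γ : Γ, γ • b = c := by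
  letI := ConstAct.comod R B Γ
  change (∃ α : ConstGrp.F R Γ →ₗ[R] B, Hoch.IsComodHom (ConstGrp.F R Γ) α ∧ α 1 = 1) ↔
      ∀ c : B, c ∈ ConstAct.inv R B Γ → ∃ b : B, ∑ γ : Γ, γ • b = c
  -- slice maps `B ⊗ F → B`
  let sl : Γ → (TensorProduct R B (ConstGrp.F R Γ) →ₗ[R] B) := fun γ =>
    (TensorProduct.rid R B).toLinearMap ∘ₗ (ConstGrp.ev R γ).toLinearMap.lTensor B
  have hsl : ∀ (γ : Γ) (b : B) (f : ConstGrp.F R Γ), sl γ (b ⊗ₜ[R] f) = f γ • b := fun γ b f => by
    simp [sl]
  constructor
  · rintro ⟨α, hα, hα1⟩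
    unfold Hoch.IsComodHom at hα
    -- `α (e h) = h⁻¹ • α (e 1)`
    have key : ∀ g γ : Γ, γ • α (ConstGrp.e R g) = α (ConstGrp.e R (g * γ⁻¹)) := by
      intro g γ
      have h := LinearMap.congr_fun hα (ConstGrp.e R g)
      simp only [LinearMap.comp_apply] at h
      have h' := congrArg (sl γ) h
      change sl γ (ConstAct.coactLin R B Γ (α (ConstGrp.e R g))) =
        sl γ (α.rTensor _ (Coalgebra.comul (R := R) (ConstGrp.e R g))) at h'
      rw [ConstAct.coactLin_apply, ConstGrp.comul_e] at h'
      simp only [map_sum, LinearMap.rTensor_tmul, hsl, ConstGrp.e_apply] at h'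
      rw [Finset.sum_eq_single γ (by intro b _ hb; simp [Ne.symm hb]) (by simp),
        Finset.sum_eq_single (g * γ⁻¹) (by
          intro b _ hb
          have : γ ≠ b⁻¹ * g := by
            intro h
            apply hb
            rw [h]; group
          simp [this]) (by simp)] at h'
      simpa using h'
    intro c hc
    refine ⟨c * α (ConstGrp.e R 1), ?_⟩
    have h1 : ∑ γ : Γ, γ • α (ConstGrp.e R 1) = 1 := by
      rw [← hα1, ← ConstGrp.sum_e (R := R) (G := Γ), map_sum]
      simp only [key, one_mul]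
      exact Fintype.sum_equiv (Equiv.inv Γ) _ _ fun g => rfl
    calc ∑ γ : Γ, γ • (c * α (ConstGrp.e R 1)) = ∑ γ : Γ, c * γ • α (ConstGrp.e R 1) := by
          refine Finset.sum_congr rfl fun γ _ => ?_
          rw [smul_mul', hc γ]
      _ = c := by rw [← Finset.mul_sum, h1, mul_one]
  · intro h
    obtain ⟨b, hb⟩ := h 1 (Subalgebra.one_mem _)
    let α : ConstGrp.F R Γ →ₗ[R] B := (ConstGrp.basis R Γ).constr R fun g => g⁻¹ • b
    have hαe : ∀ g, α (ConstGrp.e R g) = g⁻¹ • b := fun g => by
      rw [← ConstGrp.basis_apply, Module.Basis.constr_basis]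
    refine ⟨α, ?_, ?_⟩
    · unfold Hoch.IsComodHom
      apply ConstGrp.linearMap_ext
      intro g
      simp only [LinearMap.comp_apply]
      change ConstAct.coactLin R B Γ (α (ConstGrp.e R g)) =
        α.rTensor _ (Coalgebra.comul (R := R) (ConstGrp.e R g))
      rw [ConstAct.coactLin_apply, ConstGrp.comul_e, map_sum]
      simp only [LinearMap.rTensor_tmul, hαe]
      refine Fintype.sum_equiv ((Equiv.inv Γ).trans (Equiv.mulLeft g)) _ _ fun γ => ?_
      simp only [Equiv.trans_apply, Equiv.inv_apply, Equiv.coe_mulLeft, ← mul_smul]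
      have e1 : (g * γ⁻¹)⁻¹ = γ * g⁻¹ := by group
      have e2 : γ * g⁻¹ * g = γ := by group
      rw [e1, e2]
    · rw [← ConstGrp.sum_e (R := R) (G := Γ), map_sum]
      simp only [hαe]
      rw [← hb]
      exact Fintype.sum_equiv (Equiv.inv Γ) _ _ fun g => rfl

end Groth.Agent.S16963
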