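import Groth.Statements.S19204
import Mathlib
import Groth.Agent.Lib.Helper1.Cliff1

set_option autoImplicit false
universe u
open CategoryTheory AlgebraicGeometry
open Curves

namespace Groth.Agent.S19204

/-- Let C be a smooth projective curve of genus g ≥ 1 over an algebraically closed field k (an integral
scheme, proper over k, of dimension one, all local rings regular) and d an integer with d > 2g. For
every invertible O_C-module M of degree d' ≤ d having at least m + 1 linearly independent global
sections with m ≥ 1, and with d' < d or m < d − g, one has d·m < d'·(d − g). Linear stability of C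
mapped to P^{d−g} by all sections of a line bundle of degree d, which is what the published
statement asserts, follows from this inequality: a projection of that image to P^m has image cycle
of degree d' = deg M for such an M, so its reduced degree d'/m exceeds d/(d − g); linear stability
itself (reduced degrees of projections of an embedded variety) is not formalized here. -/
theorem result (k : Type u) [Field k] [IsAlgClosed k] (X : Scheme.{u})
    [X.Over (Spec (CommRingCat.of k))] [IsIntegral X] [IsProper (X ↘ (Spec (CommRingCat.of k)))]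
    (hdim : topologicalKrullDim X = 1) (hreg : ∀ x : X, IsRegularLocalRing (X.presheaf.stalk x))
    (hg : 1 ≤ Curv2.genus k X) (d : ℤ) (hd : 2 * (Curv2.genus k X : ℤ) < d)
    (M : X.Modules) (hM : PicF.IsInvertible M) (m : ℕ) (hm : 1 ≤ m)
    (hsec : m + 1 ≤ Module.finrank k (Coh.HH X M 0)) (hdeg : Curv2.deg k X M 1 ≤ d)
    (hlt : Curv2.deg k X M 1 < d ∨ (m : ℤ) < d - Curv2.genus k X) :
    d * (m : ℤ) < Curv2.deg k X M 1 * (d - Curv2.genus k X) := by
  have hpt : ∀ (P : X) (hP : IsClosed ({P} : Set X)),
      PicF.IsInvertible (ClSub.idealMod (Groth.Agent.Helper1.CurveDual.ptIdeal P hP)) :=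
    fun P hP => Groth.Agent.Helper1.GenusOne.isInvertible_ptIdeal_of_regular k X hdim P hP (hreg P)
  have r := Groth.Agent.Helper1.Cliff.rr k X hdim M hM
  have hO := Groth.Agent.Helper1.CurveLin.finrank_HH_zero_eq_one_of_isAlgClosed k X
  have hOc : Coh.IsCoh (Coh.structureModule X) :=
    Groth.Agent.Helper1.InvQc.isCoh_of_isInvertible _ Groth.Agent.Helper1.GenLoc.isInvertible_O
  have rO := Groth.Agent.Helper1.Curve.euler_eq_h0_sub_h1 k X hdim.le (Coh.structureModule X) hOc.1
  have hgg : (Curv2.genus k X : ℤ) =
      (Module.finrank k (Coh.HH X (Coh.structureModule X) 1) : ℤ) := rfl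
  have hg1 : (1 : ℤ) ≤ (Curv2.genus k X : ℤ) := by exact_mod_cast hg
  have hd0 : (0 : ℤ) < d := by linarith
  by_cases h1 : Subsingleton (Coh.HH X M 1)
  · have hz : Module.finrank k (Coh.HH X M 1) = 0 := Module.finrank_zero_of_subsingleton
    have hm1 : (m : ℤ) ≤ Curv2.deg k X M 1 - (Curv2.genus k X : ℤ) := by omega
    by_cases hlt' : Curv2.deg k X M 1 < d
    · nlinarith [mul_le_mul_of_nonneg_left hm1 hd0.le,
        mul_lt_mul_of_pos_right hlt' (by linarith : (0 : ℤ) < (Curv2.genus k X : ℤ))]
    · have hDd : Curv2.deg k X M 1 = d := le_antisymm hdeg (not_lt.1 hlt')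
      have hm3 : (m : ℤ) < d - Curv2.genus k X := by
        rcases hlt with h | h
        · exact absurd h hlt'
        · exact h
      rw [hDd]
      exact mul_lt_mul_of_pos_left hm3 hd0
  · rw [not_subsingleton_iff_nontrivial] at h1
    have hc := Groth.Agent.Helper1.Cliff.clifford k X hdim hpt M hM (by omega) h1
    have hm2 : 2 * (m : ℤ) ≤ Curv2.deg k X M 1 := by omega
    have hD0 : (0 : ℤ) < Curv2.deg k X M 1 := by omega
    nlinarith [mul_le_mul_of_nonneg_left hm2 hd0.le, mul_pos hD0 (sub_pos.2 hd)]

end Groth.Agent.S19204
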