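import Groth.Statements.S16966
import Mathlib
import Groth.Agent.S19204
import Groth.Agent.Lib.Helper1.Cliff1

set_option autoImplicit false
universe u
open CategoryTheory CategoryTheory.Limits AlgebraicGeometry Opposite
open Curves

namespace Groth.Agent.S16966

/-- Let X be a smooth projective curve over an algebraically closed field k of characteristic 0 (an
integral scheme, proper over k, of dimension one, with all local rings regular), of genus g ≥ 1, and
L an invertible O_X-module with deg L > 2g. Then the morphism to projective space given by the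
complete linear system of L is linearly stable, stated through the criterion by invertible
subsheaves: for every invertible module M and every monomorphism ι : M ⟶ L that is not an
isomorphism, with dim_k H^0(X, M) ≥ 2, one has deg L · (h^0(M) - 1) < deg M · (h^0(L) - 1), i.e. the
reduced degree deg M / (h^0(M) - 1) of the projection exceeds the reduced degree deg L / (h^0(L) -
1). Degrees are χ(·) - χ(O_X). -/
theorem result (k : Type u) [Field k] [IsAlgClosed k] [CharZero k] (X : Scheme.{u}) [X.Over (Spec (CommRingCat.of k))]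
    [IsIntegral X] [IsProper (X ↘ (Spec (CommRingCat.of k)))] (hdim : topologicalKrullDim X = 1)
    (hreg : ∀ x : X, IsRegularLocalRing (X.presheaf.stalk x))
    (hg : 1 ≤ Curv2.genus k X) (L : X.Modules) (hL : PicF.IsInvertible L)
    (hdeg : 2 * (Curv2.genus k X : ℤ) < Curv2.deg k X L 1)
    (M : X.Modules) (hM : PicF.IsInvertible M) (ι : M ⟶ L) [Mono ι] (hι : ¬ IsIso ι)
    (h2 : 2 ≤ Module.finrank k (Coh.HH X M 0)) :
    Curv2.deg k X L 1 * ((Module.finrank k (Coh.HH X M 0) : ℤ) - 1) <
      Curv2.deg k X M 1 * ((Module.finrank k (Coh.HH X L 0) : ℤ) - 1) := by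
  have hι0 : ι ≠ 0 := by
    intro h0
    have hz : IsZero M := IsZero.of_mono_eq_zero ι h0
    haveI := Groth.Agent.Helper1.H1Ext.subsingleton_HH_of_isZero hz 0
    have : Module.finrank k (Coh.HH X M 0) = 0 := Module.finrank_zero_of_subsingleton
    omega
  have hd := Groth.Agent.Helper1.Curve.deg_le_of_hom k X hdim hM hL ι hι0
  have hlt : Curv2.deg k X M 1 < Curv2.deg k X L 1 :=
    lt_of_le_of_ne hd.1 (fun he => hι (hd.2 he))
  obtain ⟨m, hm⟩ : ∃ m : ℕ, Module.finrank k (Coh.HH X M 0) = m + 1 :=
    ⟨Module.finrank k (Coh.HH X M 0) - 1, by omega⟩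
  have key := Groth.Agent.S19204.result k X hdim hreg hg (Curv2.deg k X L 1) hdeg M hM m
    (by omega) (by omega) hd.1 (Or.inl hlt)
  haveI hL1 : Subsingleton (Coh.HH X L 1) :=
    Groth.Agent.Helper1.CurveDual.subsingleton_H1_of_deg_ge k X hdim L hL (by linarith)
  have hb1 : Module.finrank k (Coh.HH X L 1) = 0 := Module.finrank_zero_of_subsingleton
  have r := Groth.Agent.Helper1.Cliff.rr k X hdim L hL
  have hO := Groth.Agent.Helper1.CurveLin.finrank_HH_zero_eq_one_of_isAlgClosed k X
  have hOc : Coh.IsCoh (Coh.structureModule X) :=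
    Groth.Agent.Helper1.InvQc.isCoh_of_isInvertible _ Groth.Agent.Helper1.GenLoc.isInvertible_O
  have rO := Groth.Agent.Helper1.Curve.euler_eq_h0_sub_h1 k X hdim.le (Coh.structureModule X) hOc.1
  have hgg : (Curv2.genus k X : ℤ) =
      (Module.finrank k (Coh.HH X (Coh.structureModule X) 1) : ℤ) := rfl
  have hh0L : (Module.finrank k (Coh.HH X L 0) : ℤ) - 1 =
      Curv2.deg k X L 1 - (Curv2.genus k X : ℤ) := by omega
  rw [hh0L, hm, show ((m + 1 : ℕ) : ℤ) - 1 = (m : ℤ) by push_cast; ring]
  exact key

end Groth.Agent.S16966
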