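import Groth.Statements.S16979
import Mathlib

set_option autoImplicit false
universe u v
open CAlg

namespace Groth.Agent.S16979

open Polynomial

/-- over an algebraically closed field: separable charpoly divides any annihilating polynomial -/
theorem charpoly_dvd_of_aeval_eq_zero_algClosed {F : Type*} [Field F] [IsAlgClosed F]
    {n : Type*} [Fintype n] [DecidableEq n] (M : Matrix n n F) (hsep : M.charpoly.Separable)
    (g : F[X]) (hg : aeval M g = 0) : M.charpoly ∣ g := by
  by_cases hg0 : g = 0
  · rw [hg0]; exact dvd_zero _
  have hT : aeval (Matrix.toLin' M) g = 0 := by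
    have := Polynomial.aeval_algHom_apply (Matrix.toLinAlgEquiv' : Matrix n n F ≃ₐ[F] _).toAlgHom M g
    have h2 : aeval (Matrix.toLin' M) g = (Matrix.toLinAlgEquiv' : Matrix n n F ≃ₐ[F] _) (aeval M g) := this
    rw [h2, hg, map_zero]
  have hmin : minpoly F (Matrix.toLin' M) ∣ g := minpoly.dvd F _ hT
  have hsplit : M.charpoly.Splits := IsAlgClosed.splits _
  rw [hsplit.eq_prod_roots_of_monic (Matrix.charpoly_monic M),
    Multiset.prod_X_sub_C_dvd_iff_le_roots hg0,
    Multiset.le_iff_subset (nodup_roots hsep)]
  intro μ hμ
  rw [mem_roots hg0]
  have h1 : M.charpoly.IsRoot μ := (mem_roots (Matrix.charpoly_monic M).ne_zero).1 hμ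
  rw [← Matrix.charpoly_toLin', ← Module.End.hasEigenvalue_iff_isRoot_charpoly,
    Module.End.hasEigenvalue_iff_isRoot] at h1
  exact h1.dvd hmin

theorem ker_aeval_eq_span_charpoly
    {R : Type*} [CommRing R] [IsDomain R] {n : Type*} [Fintype n] [DecidableEq n]
    (φ : Matrix n n R)
    (hsep : (φ.charpoly.map (algebraMap R (FractionRing R))).Separable) :
    RingHom.ker (Polynomial.aeval (R := R) φ) = Ideal.span {φ.charpoly} := by
  apply le_antisymm
  · intro f hf
    rw [RingHom.mem_ker] at hf
    rw [Ideal.mem_span_singleton]
    let K := FractionRing R
    let F := AlgebraicClosure K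
    let ι : R →+* F := (algebraMap K F).comp (algebraMap R K)
    have hι : Function.Injective ι :=
      (algebraMap K F).injective.comp (IsFractionRing.injective R K)
    rw [← Polynomial.map_dvd_map ι hι (Matrix.charpoly_monic φ), ← Matrix.charpoly_map]
    apply charpoly_dvd_of_aeval_eq_zero_algClosed
    · rw [Matrix.charpoly_map]
      have : φ.charpoly.map ι = (φ.charpoly.map (algebraMap R K)).map (algebraMap K F) := by
        rw [Polynomial.map_map]
      rw [this]
      exact hsep.map
    · have := Polynomial.map_aeval_eq_aeval_map (S := Matrix n n R) (U := Matrix n n F)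
        (φ := ι) (ψ := ι.mapMatrix) (by
          ext a i j
          simp [Matrix.algebraMap_matrix_apply]
          split_ifs <;> simp) f φ
      rw [hf, map_zero] at this
      exact this.symm
  · rw [Ideal.span_le, Set.singleton_subset_iff]
    exact Matrix.aeval_self_charpoly φ

/-- Let R be an integral domain with fraction field K and φ a square matrix over R whose characteristic
polynomial becomes separable in K[T] (equivalently, K[T] modulo the characteristic polynomial is
geometrically reduced over K). Then a polynomial f over R satisfies f(φ) = 0 exactly when the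
characteristic polynomial of φ divides f in R[T]: the kernel of evaluation at φ (the minimal ideal
of φ) is the principal ideal generated by the characteristic polynomial. -/
theorem result
    {R : Type u} [CommRing R] [IsDomain R] {n : Type v} [Fintype n] [DecidableEq n]
    (φ : Matrix n n R)
    (hsep : (φ.charpoly.map (algebraMap R (FractionRing R))).Separable) :
    RingHom.ker (Polynomial.aeval (R := R) φ) = Ideal.span {φ.charpoly} := by
  exact ker_aeval_eq_span_charpoly φ hsep

end Groth.Agent.S16979
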