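import Groth.Statements.S16981
import Mathlib

set_option autoImplicit false
universe u v
open CAlg

namespace Groth.Agent.S16981

section


section core
variable {E : Type v} [CommRing E] (N : Ideal E)

lemma sq_zero (hsq : N ^ 2 = ⊥) {x y : E} (hx : x ∈ N) (hy : y ∈ N) : x * y = 0 := by
  have : x * y ∈ N ^ 2 := by rw [pow_two]; exact Ideal.mul_mem_mul hx hy
  rw [hsq] at this
  exact this

lemma le_jac (hsq : N ^ 2 = ⊥) : N ≤ Ideal.jacobson ⊥ := by
  intro x hx
  have h2 : x ^ 2 = 0 := by rw [pow_two]; exact sq_zero N hsq hx hx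
  have : x ∈ (⊥ : Ideal E).radical := ⟨2, by rw [h2]; exact Ideal.zero_mem _⟩
  exact Ideal.radical_le_jacobson this

lemma noeth (hsq : N ^ 2 = ⊥) (hfg : N.FG) [IsNoetherianRing (E ⧸ N)] : IsNoetherianRing E := by
  classical
  refine IsNoetherianRing.of_prime (fun P hP => ?_)
  have hNP : N ≤ P := by
    intro x hx
    have h2 : x ^ 2 = 0 := by rw [pow_two]; exact sq_zero N hsq hx hx
    exact hP.mem_of_pow_mem 2 (by rw [h2]; exact P.zero_mem)
  have hsurj : Function.Surjective (Ideal.Quotient.mk N) := Ideal.Quotient.mk_surjective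
  obtain ⟨T, hT⟩ := IsNoetherian.noetherian (P.map (Ideal.Quotient.mk N))
  obtain ⟨s, hs⟩ : ∃ s : E ⧸ N → E, ∀ a, Ideal.Quotient.mk N (s a) = a :=
    ⟨Function.surjInv hsurj, Function.surjInv_eq hsurj⟩
  obtain ⟨J, hJdef⟩ : ∃ J : Ideal E, J = Ideal.span (s '' (T : Set (E ⧸ N))) := ⟨_, rfl⟩
  have hJ : J.map (Ideal.Quotient.mk N) = P.map (Ideal.Quotient.mk N) := by
    rw [hJdef, Ideal.map_span, ← Set.image_comp, ← hT]
    congr 1
    ext a
    simp [hs]
  have h3 : Ideal.comap (Ideal.Quotient.mk N) ⊥ = N := by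
    rw [← RingHom.ker_eq_comap_bot, Ideal.mk_ker]
  have hP' : P = J ⊔ N := by
    have h1 := Ideal.comap_map_of_surjective (Ideal.Quotient.mk N) hsurj P
    have h2 := Ideal.comap_map_of_surjective (Ideal.Quotient.mk N) hsurj J
    rw [hJ, h1, h3] at h2
    rw [← h2]
    exact (sup_eq_left.mpr hNP).symm
  rw [hP']
  refine Submodule.FG.sup ⟨T.image s, ?_⟩ hfg
  rw [hJdef, Finset.coe_image]

theorem core (hsq : N ^ 2 = ⊥) (hfg : N.FG) [IsNoetherianRing (E ⧸ N)] [IsLocalRing (E ⧸ N)]
    [IsAdicComplete (IsLocalRing.maximalIdeal (E ⧸ N)) (E ⧸ N)] :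
    IsAdicComplete ((IsLocalRing.maximalIdeal (E ⧸ N)).comap (Ideal.Quotient.mk N)) E := by
  haveI : IsNoetherianRing E := noeth N hsq hfg
  haveI : IsLocalHom (Ideal.Quotient.mk N) := isLocalHom_of_le_jacobson_bot N (le_jac N hsq)
  haveI : IsLocalRing E := (Ideal.Quotient.mk N).domain_isLocalRing
  have hI : (IsLocalRing.maximalIdeal (E ⧸ N)).comap (Ideal.Quotient.mk N) =
      IsLocalRing.maximalIdeal E := IsLocalRing.maximalIdeal_comap _
  have hsurjmk : Function.Surjective (Ideal.Quotient.mk N) := Ideal.Quotient.mk_surjective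
  have hImap : (IsLocalRing.maximalIdeal E).map (algebraMap E (E ⧸ N)) =
      IsLocalRing.maximalIdeal (E ⧸ N) := by
    rw [← hI]
    exact Ideal.map_comap_of_surjective _ hsurjmk _
  rw [hI]
  obtain ⟨I, hIdef⟩ : ∃ I : Ideal E, I = IsLocalRing.maximalIdeal E := ⟨_, rfl⟩
  rw [← hIdef] at hImap ⊢
  haveI hH : IsHausdorff I E := by rw [hIdef]; infer_instance
  have hA : IsAdicComplete I (E ⧸ N) := by
    refine (IsAdicComplete.map_algebraMap_iff (R := E) (S := E ⧸ N) (I := I) (M := E ⧸ N)).mp ?_
    rw [hImap]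
    infer_instance
  have hAs : Function.Surjective (AdicCompletion.of I (E ⧸ N)) :=
    AdicCompletion.of_surjective_iff.mpr hA.toIsPrecomplete
  have hN : Function.Surjective (AdicCompletion.of I ↥N) := by
    obtain ⟨r, g, hg⟩ := Submodule.fg_iff_exists_fin_generating_family.mp hfg
    have hgN : ∀ j, g j ∈ N := fun j => by
      rw [← hg]; exact Submodule.subset_span ⟨j, rfl⟩
    have hk : ∀ j, N ≤ LinearMap.ker (LinearMap.toSpanSingleton E ↥N ⟨g j, hgN j⟩) := by
      intro j x hx
      rw [LinearMap.mem_ker, LinearMap.toSpanSingleton_apply]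
      apply Subtype.ext
      exact sq_zero N hsq hx (hgN j)
    obtain ⟨φ, hφ⟩ : ∃ φ : ∀ j : Fin r, (E ⧸ N) →ₗ[E] ↥N,
        ∀ j (e : E), φ j (Ideal.Quotient.mk N e) = e • (⟨g j, hgN j⟩ : ↥N) :=
      ⟨fun j => Submodule.liftQ N _ (hk j), fun j e => rfl⟩
    obtain ⟨Φ, hΦdef⟩ : ∃ Φ : (Fin r → E ⧸ N) →ₗ[E] ↥N,
        Φ = ∑ j, (φ j).comp (LinearMap.proj j) := ⟨_, rfl⟩
    have hΦ : Function.Surjective Φ := by
      rintro ⟨x, hx⟩
      have hx' := hx
      rw [← hg] at hx'
      obtain ⟨c, hc⟩ := (Submodule.mem_span_range_iff_exists_fun E).mp hx'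
      refine ⟨fun j => Ideal.Quotient.mk N (c j), ?_⟩
      apply Subtype.ext
      rw [hΦdef]
      simp only [LinearMap.sum_apply, LinearMap.comp_apply, LinearMap.proj_apply, hφ]
      rw [← hc]
      simp
    have hP : Function.Surjective (AdicCompletion.of I (Fin r → E ⧸ N)) := by
      intro y
      have hj : ∀ j, ∃ x, AdicCompletion.of I (E ⧸ N) x =
          AdicCompletion.pi I (fun _ : Fin r => E ⧸ N) y j := fun j => hAs _
      choose x hx using hj
      refine ⟨x, ?_⟩
      apply (AdicCompletion.piEquivOfFintype I (fun _ : Fin r => E ⧸ N)).injective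
      rw [AdicCompletion.piEquivOfFintype_apply, AdicCompletion.piEquivOfFintype_apply]
      funext j
      rw [← hx j]
      simp [AdicCompletion.pi, AdicCompletion.map_of]
    intro n
    obtain ⟨p, rfl⟩ := AdicCompletion.map_surjective I hΦ n
    obtain ⟨p, rfl⟩ := hP p
    exact ⟨Φ p, (AdicCompletion.map_of I Φ p).symm⟩
  have hsurj : Function.Surjective (AdicCompletion.of I E) := by
    intro e
    obtain ⟨a, ha⟩ := hAs (AdicCompletion.map I N.mkQ e)
    obtain ⟨y, rfl⟩ := Submodule.mkQ_surjective N a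
    have hex := AdicCompletion.map_exact (I := I) (f := N.subtype) (g := N.mkQ)
      N.injective_subtype (LinearMap.exact_subtype_mkQ N) (Submodule.mkQ_surjective N)
    have h0 : AdicCompletion.map I N.mkQ (e - AdicCompletion.of I E y) = 0 := by
      rw [map_sub, AdicCompletion.map_of, ha, sub_self]
    obtain ⟨n, hn⟩ := (hex _).mp h0
    obtain ⟨ν, rfl⟩ := hN n
    rw [AdicCompletion.map_of] at hn
    refine ⟨y + ν, ?_⟩
    rw [map_add]
    have : AdicCompletion.of I E (ν : E) = e - AdicCompletion.of I E y := hn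
    rw [this]
    abel
  exact { toIsHausdorff := hH, toIsPrecomplete := AdicCompletion.of_surjective_iff.mp hsurj }

end core

theorem main
    {A : Type u} {E : Type v} [CommRing A] [CommRing E] [IsNoetherianRing A] [IsLocalRing A]
    [IsAdicComplete (IsLocalRing.maximalIdeal A) A]
    (f : E →+* A) (hf : Function.Surjective f)
    (hsq : RingHom.ker f ^ 2 = ⊥) (hfg : (RingHom.ker f).FG) :
    IsAdicComplete ((IsLocalRing.maximalIdeal A).comap f) E := by
  obtain ⟨e, he⟩ : ∃ e : (E ⧸ RingHom.ker f) ≃+* A, e = RingHom.quotientKerEquivOfSurjective hf :=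
    ⟨_, rfl⟩
  haveI : IsNoetherianRing (E ⧸ RingHom.ker f) := isNoetherianRing_of_ringEquiv A e.symm
  haveI : IsLocalRing (E ⧸ RingHom.ker f) := e.symm.isLocalRing
  have hmax : (IsLocalRing.maximalIdeal A).comap (e : (E ⧸ RingHom.ker f) →+* A) =
      IsLocalRing.maximalIdeal (E ⧸ RingHom.ker f) := by
    haveI : IsLocalHom (e : (E ⧸ RingHom.ker f) →+* A) := inferInstance
    exact IsLocalRing.maximalIdeal_comap _
  have hmax' : (IsLocalRing.maximalIdeal A).map (e.symm : A →+* (E ⧸ RingHom.ker f)) =
      IsLocalRing.maximalIdeal (E ⧸ RingHom.ker f) := by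
    rw [← hmax]
    exact Ideal.map_symm (f := e) (I := IsLocalRing.maximalIdeal A)
  haveI : IsAdicComplete (IsLocalRing.maximalIdeal (E ⧸ RingHom.ker f)) (E ⧸ RingHom.ker f) := by
    rw [← hmax']
    exact (IsAdicComplete.congr_ringEquiv (IsLocalRing.maximalIdeal A) e.symm).mpr inferInstance
  have hcore := core (RingHom.ker f) hsq hfg
  have hfe : f = (e : (E ⧸ RingHom.ker f) →+* A).comp (Ideal.Quotient.mk (RingHom.ker f)) := by
    ext x
    rw [he]
    rfl
  have : (IsLocalRing.maximalIdeal A).comap f =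
      (IsLocalRing.maximalIdeal (E ⧸ RingHom.ker f)).comap (Ideal.Quotient.mk (RingHom.ker f)) := by
    rw [← hmax, Ideal.comap_comap, ← hfe]
  rw [this]
  exact hcore


end


/-- Let A be a complete Noetherian local ring and f : E → A a surjective ring homomorphism whose kernel
has square zero and is finitely generated (equivalently, is a finite A-module for the induced module
structure). Then E is separated and complete for the adic topology of the inverse image of the
maximal ideal of A. (The published statement takes A to be the completion of a local ring of a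
scheme of finite type over an Artinian local ring and the kernel the completion of a finite module;
this row assumes only that A is complete Noetherian local and the kernel finitely generated.) -/
theorem result
    {A : Type u} {E : Type v} [CommRing A] [CommRing E] [IsNoetherianRing A] [IsLocalRing A]
    [IsAdicComplete (IsLocalRing.maximalIdeal A) A]
    (f : E →+* A) (hf : Function.Surjective f)
    (hsq : RingHom.ker f ^ 2 = ⊥) (hfg : (RingHom.ker f).FG) :
    IsAdicComplete ((IsLocalRing.maximalIdeal A).comap f) E := by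
  classical
  exact main f hf hsq hfg

end Groth.Agent.S16981
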