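import Groth.Statements.S16982
import Mathlib

set_option autoImplicit false
universe u v w w'
open CAlg

namespace Groth.Agent.S16982

section


section prev
universe u1 v1

section core
variable {E : Type v1} [CommRing E] (N : Ideal E)

lemma sq_zero (hsq : N ^ 2 = ⊥) {x y : E} (hx : x ∈ N) (hy : y ∈ N) : x * y = 0 := by
  have : x * y ∈ N ^ 2 := by rw [pow_two]; exact Ideal.mul_mem_mul hx hy
  rw [hsq] at this
  exact this

lemma le_jac (hsq : N ^ 2 = ⊥) : N ≤ Ideal.jacobson ⊥ := by
  intro x hx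
  have h2 : x ^ 2 = 0 := by rw [pow_two]; exact sq_zero N hsq hx hx
  have : x ∈ (⊥ : Ideal E).radical := ⟨2, by rw [h2]; exact Ideal.zero_mem _⟩
  exact Ideal.radical_le_jacobson this

lemma noeth (hsq : N ^ 2 = ⊥) (hfg : N.FG) [IsNoetherianRing (E ⧸ N)] : IsNoetherianRing E := by
  classical
  refine IsNoetherianRing.of_prime (fun P hP => ?_)
  have hNP : N ≤ P := by
    intro x hx
    have h2 : x ^ 2 = 0 := by rw [pow_two]; exact sq_zero N hsq hx hx
    exact hP.mem_of_pow_mem 2 (by rw [h2]; exact P.zero_mem)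
  have hsurj : Function.Surjective (Ideal.Quotient.mk N) := Ideal.Quotient.mk_surjective
  obtain ⟨T, hT⟩ := IsNoetherian.noetherian (P.map (Ideal.Quotient.mk N))
  obtain ⟨s, hs⟩ : ∃ s : E ⧸ N → E, ∀ a, Ideal.Quotient.mk N (s a) = a :=
    ⟨Function.surjInv hsurj, Function.surjInv_eq hsurj⟩
  obtain ⟨J, hJdef⟩ : ∃ J : Ideal E, J = Ideal.span (s '' (T : Set (E ⧸ N))) := ⟨_, rfl⟩
  have hJ : J.map (Ideal.Quotient.mk N) = P.map (Ideal.Quotient.mk N) := by
    rw [hJdef, Ideal.map_span, ← Set.image_comp, ← hT]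
    congr 1
    ext a
    simp [hs]
  have h3 : Ideal.comap (Ideal.Quotient.mk N) ⊥ = N := by
    rw [← RingHom.ker_eq_comap_bot, Ideal.mk_ker]
  have hP' : P = J ⊔ N := by
    have h1 := Ideal.comap_map_of_surjective (Ideal.Quotient.mk N) hsurj P
    have h2 := Ideal.comap_map_of_surjective (Ideal.Quotient.mk N) hsurj J
    rw [hJ, h1, h3] at h2
    rw [← h2]
    exact (sup_eq_left.mpr hNP).symm
  rw [hP']
  refine Submodule.FG.sup ⟨T.image s, ?_⟩ hfg
  rw [hJdef, Finset.coe_image]

theorem core (hsq : N ^ 2 = ⊥) (hfg : N.FG) [IsNoetherianRing (E ⧸ N)] [IsLocalRing (E ⧸ N)]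
    [IsAdicComplete (IsLocalRing.maximalIdeal (E ⧸ N)) (E ⧸ N)] :
    IsAdicComplete ((IsLocalRing.maximalIdeal (E ⧸ N)).comap (Ideal.Quotient.mk N)) E := by
  haveI : IsNoetherianRing E := noeth N hsq hfg
  haveI : IsLocalHom (Ideal.Quotient.mk N) := isLocalHom_of_le_jacobson_bot N (le_jac N hsq)
  haveI : IsLocalRing E := (Ideal.Quotient.mk N).domain_isLocalRing
  have hI : (IsLocalRing.maximalIdeal (E ⧸ N)).comap (Ideal.Quotient.mk N) =
      IsLocalRing.maximalIdeal E := IsLocalRing.maximalIdeal_comap _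
  have hsurjmk : Function.Surjective (Ideal.Quotient.mk N) := Ideal.Quotient.mk_surjective
  have hImap : (IsLocalRing.maximalIdeal E).map (algebraMap E (E ⧸ N)) =
      IsLocalRing.maximalIdeal (E ⧸ N) := by
    rw [← hI]
    exact Ideal.map_comap_of_surjective _ hsurjmk _
  rw [hI]
  obtain ⟨I, hIdef⟩ : ∃ I : Ideal E, I = IsLocalRing.maximalIdeal E := ⟨_, rfl⟩
  rw [← hIdef] at hImap ⊢
  haveI hH : IsHausdorff I E := by rw [hIdef]; infer_instance
  have hA : IsAdicComplete I (E ⧸ N) := by
    refine (IsAdicComplete.map_algebraMap_iff (R := E) (S := E ⧸ N) (I := I) (M := E ⧸ N)).mp ?_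
    rw [hImap]
    infer_instance
  have hAs : Function.Surjective (AdicCompletion.of I (E ⧸ N)) :=
    AdicCompletion.of_surjective_iff.mpr hA.toIsPrecomplete
  have hN : Function.Surjective (AdicCompletion.of I ↥N) := by
    obtain ⟨r, g, hg⟩ := Submodule.fg_iff_exists_fin_generating_family.mp hfg
    have hgN : ∀ j, g j ∈ N := fun j => by
      rw [← hg]; exact Submodule.subset_span ⟨j, rfl⟩
    have hk : ∀ j, N ≤ LinearMap.ker (LinearMap.toSpanSingleton E ↥N ⟨g j, hgN j⟩) := by
      intro j x hx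
      rw [LinearMap.mem_ker, LinearMap.toSpanSingleton_apply]
      apply Subtype.ext
      exact sq_zero N hsq hx (hgN j)
    obtain ⟨φ, hφ⟩ : ∃ φ : ∀ j : Fin r, (E ⧸ N) →ₗ[E] ↥N,
        ∀ j (e : E), φ j (Ideal.Quotient.mk N e) = e • (⟨g j, hgN j⟩ : ↥N) :=
      ⟨fun j => Submodule.liftQ N _ (hk j), fun j e => rfl⟩
    obtain ⟨Φ, hΦdef⟩ : ∃ Φ : (Fin r → E ⧸ N) →ₗ[E] ↥N,
        Φ = ∑ j, (φ j).comp (LinearMap.proj j) := ⟨_, rfl⟩
    have hΦ : Function.Surjective Φ := by
      rintro ⟨x, hx⟩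
      have hx' := hx
      rw [← hg] at hx'
      obtain ⟨c, hc⟩ := (Submodule.mem_span_range_iff_exists_fun E).mp hx'
      refine ⟨fun j => Ideal.Quotient.mk N (c j), ?_⟩
      apply Subtype.ext
      rw [hΦdef]
      simp only [LinearMap.sum_apply, LinearMap.comp_apply, LinearMap.proj_apply, hφ]
      rw [← hc]
      simp
    have hP : Function.Surjective (AdicCompletion.of I (Fin r → E ⧸ N)) := by
      intro y
      have hj : ∀ j, ∃ x, AdicCompletion.of I (E ⧸ N) x =
          AdicCompletion.pi I (fun _ : Fin r => E ⧸ N) y j := fun j => hAs _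
      choose x hx using hj
      refine ⟨x, ?_⟩
      apply (AdicCompletion.piEquivOfFintype I (fun _ : Fin r => E ⧸ N)).injective
      rw [AdicCompletion.piEquivOfFintype_apply, AdicCompletion.piEquivOfFintype_apply]
      funext j
      rw [← hx j]
      simp [AdicCompletion.pi, AdicCompletion.map_of]
    intro n
    obtain ⟨p, rfl⟩ := AdicCompletion.map_surjective I hΦ n
    obtain ⟨p, rfl⟩ := hP p
    exact ⟨Φ p, (AdicCompletion.map_of I Φ p).symm⟩
  have hsurj : Function.Surjective (AdicCompletion.of I E) := by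
    intro e
    obtain ⟨a, ha⟩ := hAs (AdicCompletion.map I N.mkQ e)
    obtain ⟨y, rfl⟩ := Submodule.mkQ_surjective N a
    have hex := AdicCompletion.map_exact (I := I) (f := N.subtype) (g := N.mkQ)
      N.injective_subtype (LinearMap.exact_subtype_mkQ N) (Submodule.mkQ_surjective N)
    have h0 : AdicCompletion.map I N.mkQ (e - AdicCompletion.of I E y) = 0 := by
      rw [map_sub, AdicCompletion.map_of, ha, sub_self]
    obtain ⟨n, hn⟩ := (hex _).mp h0
    obtain ⟨ν, rfl⟩ := hN n
    rw [AdicCompletion.map_of] at hn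
    refine ⟨y + ν, ?_⟩
    rw [map_add]
    have : AdicCompletion.of I E (ν : E) = e - AdicCompletion.of I E y := hn
    rw [this]
    abel
  exact { toIsHausdorff := hH, toIsPrecomplete := AdicCompletion.of_surjective_iff.mp hsurj }

end core

theorem main81
    {A : Type u1} {E : Type v1} [CommRing A] [CommRing E] [IsNoetherianRing A] [IsLocalRing A]
    [IsAdicComplete (IsLocalRing.maximalIdeal A) A]
    (f : E →+* A) (hf : Function.Surjective f)
    (hsq : RingHom.ker f ^ 2 = ⊥) (hfg : (RingHom.ker f).FG) :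
    IsAdicComplete ((IsLocalRing.maximalIdeal A).comap f) E := by
  obtain ⟨e, he⟩ : ∃ e : (E ⧸ RingHom.ker f) ≃+* A, e = RingHom.quotientKerEquivOfSurjective hf :=
    ⟨_, rfl⟩
  haveI : IsNoetherianRing (E ⧸ RingHom.ker f) := isNoetherianRing_of_ringEquiv A e.symm
  haveI : IsLocalRing (E ⧸ RingHom.ker f) := e.symm.isLocalRing
  have hmax : (IsLocalRing.maximalIdeal A).comap (e : (E ⧸ RingHom.ker f) →+* A) =
      IsLocalRing.maximalIdeal (E ⧸ RingHom.ker f) := by
    haveI : IsLocalHom (e : (E ⧸ RingHom.ker f) →+* A) := inferInstance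
    exact IsLocalRing.maximalIdeal_comap _
  have hmax' : (IsLocalRing.maximalIdeal A).map (e.symm : A →+* (E ⧸ RingHom.ker f)) =
      IsLocalRing.maximalIdeal (E ⧸ RingHom.ker f) := by
    rw [← hmax]
    exact Ideal.map_symm (f := e) (I := IsLocalRing.maximalIdeal A)
  haveI : IsAdicComplete (IsLocalRing.maximalIdeal (E ⧸ RingHom.ker f)) (E ⧸ RingHom.ker f) := by
    rw [← hmax']
    exact (IsAdicComplete.congr_ringEquiv (IsLocalRing.maximalIdeal A) e.symm).mpr inferInstance
  have hcore := core (RingHom.ker f) hsq hfg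
  have hfe : f = (e : (E ⧸ RingHom.ker f) →+* A).comp (Ideal.Quotient.mk (RingHom.ker f)) := by
    ext x
    rw [he]
    rfl
  have : (IsLocalRing.maximalIdeal A).comap f =
      (IsLocalRing.maximalIdeal (E ⧸ RingHom.ker f)).comap (Ideal.Quotient.mk (RingHom.ker f)) := by
    rw [← hmax, Ideal.comap_comap, ← hfe]
  rw [this]
  exact hcore


end prev

section keysec
variable {R : Type u} [CommRing R] {σ : Type v} [Finite σ]

lemma algebraMap_X (i : σ) :
    algebraMap (MvPolynomial σ R) (MvPowerSeries σ R) (MvPolynomial.X i) = MvPowerSeries.X i := by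
  rw [MvPowerSeries.algebraMap_apply', Algebra.algebraMap_self, MvPowerSeries.map_id]
  simp

lemma key {A : Type w} [CommRing A] [Algebra R A] (g : MvPowerSeries σ R →ₐ[R] A) (m' : Ideal A)
    (hg : ∀ i, g (MvPowerSeries.X i) ∈ m') (p : MvPowerSeries σ R) (n : ℕ) :
    g (p - algebraMap (MvPolynomial σ R) (MvPowerSeries σ R) (MvPowerSeries.truncTotal n p))
      ∈ m' ^ n := by
  obtain ⟨J, hJdef⟩ : ∃ J, J = MvPolynomial.idealOfVars σ R := ⟨_, rfl⟩
  obtain ⟨gc, hgc⟩ : ∃ gc : MvPolynomial σ R →+* A,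
      gc = (g : MvPowerSeries σ R →+* A).comp (algebraMap (MvPolynomial σ R) (MvPowerSeries σ R)) :=
    ⟨_, rfl⟩
  have hJm : J.map gc ≤ m' := by
    rw [Ideal.map_le_iff_le_comap, hJdef, MvPolynomial.idealOfVars, Ideal.span_le]
    rintro _ ⟨i, rfl⟩
    show gc (MvPolynomial.X i) ∈ m'
    rw [hgc, RingHom.comp_apply, algebraMap_X]
    exact hg i
  have hJ : ∀ c ∈ J ^ n, g (algebraMap (MvPolynomial σ R) (MvPowerSeries σ R) c) ∈ m' ^ n := by
    intro c hc
    have h1 := Ideal.mem_map_of_mem gc hc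
    rw [Ideal.map_pow] at h1
    have h2 := Ideal.pow_right_mono hJm n h1
    rw [hgc] at h2
    exact h2
  obtain ⟨ψ, hψ⟩ : ∃ ψ, ψ = MvPowerSeries.toAdicCompletionAlgEquiv σ R := ⟨_, rfl⟩
  obtain ⟨q, hq⟩ : ∃ q, q = p - algebraMap (MvPolynomial σ R) (MvPowerSeries σ R)
      (MvPowerSeries.truncTotal n p) := ⟨_, rfl⟩
  rw [← hq]
  have hmem : ψ q ∈ (J ^ n • ⊤ : Submodule (MvPolynomial σ R)
      (AdicCompletion (MvPolynomial.idealOfVars σ R) (MvPolynomial σ R))) := by
    rw [hJdef, AdicCompletion.pow_smul_top_eq_ker_eval (MvPolynomial.idealOfVars_fg σ R),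
      LinearMap.mem_ker, AdicCompletion.eval_apply, hq, map_sub, AlgEquiv.commutes, hψ]
    rw [MvPowerSeries.toAdicCompletionAlgEquiv_apply, AdicCompletion.val_sub_apply,
      MvPowerSeries.toAdicCompletion_apply_eq_mk_truncTotal, AdicCompletion.algebraMap_apply]
    simp
  have hall : ∀ x ∈ (J ^ n • ⊤ : Submodule (MvPolynomial σ R)
      (AdicCompletion (MvPolynomial.idealOfVars σ R) (MvPolynomial σ R))),
      g (ψ.symm x) ∈ m' ^ n := by
    intro x hx
    refine Submodule.smul_induction_on hx ?_ ?_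
    · intro j hj y _
      rw [map_smul, Algebra.smul_def, map_mul]
      exact Ideal.mul_mem_right _ _ (hJ j hj)
    · intro x y hx hy
      rw [map_add, map_add]
      exact Ideal.add_mem _ hx hy
  have := hall _ hmem
  rwa [AlgEquiv.symm_apply_apply] at this

end keysec

theorem main
    {R : Type u} [CommRing R] {σ : Type v} [Finite σ]
    {A : Type w} {E : Type w'} [CommRing A] [CommRing E] [Algebra R A] [Algebra R E]
    [IsNoetherianRing A] [IsLocalRing A] [IsAdicComplete (IsLocalRing.maximalIdeal A) A]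
    (π : MvPowerSeries σ R →ₐ[R] A) (hπ : Function.Surjective π)
    (f : E →ₐ[R] A) (hf : Function.Surjective f)
    (hsq : RingHom.ker f.toRingHom ^ 2 = ⊥) (hfg : (RingHom.ker f.toRingHom).FG) :
    ∃ l : MvPowerSeries σ R →ₐ[R] E, f.comp l = π := by
  have hX : ∀ i, π (MvPowerSeries.X i) ∈ IsLocalRing.maximalIdeal A := by
    intro i
    by_contra hu
    rw [IsLocalRing.mem_maximalIdeal, mem_nonunits_iff, not_not] at hu
    obtain ⟨p, hp⟩ := hπ (↑hu.unit⁻¹)
    have hunit : IsUnit (1 - p * MvPowerSeries.X i) := by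
      rw [MvPowerSeries.isUnit_iff_constantCoeff]
      simp
    have h0 : π (1 - p * MvPowerSeries.X i) = 0 := by
      rw [map_sub, map_one, map_mul, hp]
      simp
    have := hunit.map π
    rw [h0] at this
    exact not_isUnit_zero this
  have hcomp : IsAdicComplete ((IsLocalRing.maximalIdeal A).comap f.toRingHom) E :=
    main81 f.toRingHom hf hsq hfg
  obtain ⟨I, hIdef⟩ : ∃ I, I = (IsLocalRing.maximalIdeal A).comap f.toRingHom := ⟨_, rfl⟩
  rw [← hIdef] at hcomp
  choose e he using fun i => hf (π (MvPowerSeries.X i))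
  have heI : ∀ i, e i ∈ I := fun i => by
    rw [hIdef]
    show f (e i) ∈ IsLocalRing.maximalIdeal A
    rw [he]
    exact hX i
  obtain ⟨φ, hφ⟩ : ∃ φ : MvPolynomial σ R →ₐ[R] E, φ = MvPolynomial.aeval e := ⟨_, rfl⟩
  have hφX : ∀ i, φ (MvPolynomial.X i) = e i := fun i => by rw [hφ, MvPolynomial.aeval_X]
  have hφJ : ∀ n, (MvPolynomial.idealOfVars σ R) ^ n ≤ (I ^ n).comap φ := by
    intro n
    have h1 : (MvPolynomial.idealOfVars σ R).map φ ≤ I := by
      rw [Ideal.map_le_iff_le_comap, MvPolynomial.idealOfVars, Ideal.span_le]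
      rintro _ ⟨i, rfl⟩
      show φ (MvPolynomial.X i) ∈ I
      rw [hφX]
      exact heI i
    rw [← Ideal.map_le_iff_le_comap, Ideal.map_pow]
    exact Ideal.pow_right_mono h1 n
  obtain ⟨fn, hfn⟩ : ∃ fn : ∀ n, MvPowerSeries σ R →ₐ[R] E ⧸ I ^ n, ∀ n, fn n =
      (Ideal.quotientMapₐ (I ^ n) φ (hφJ n)).comp
        ((MvPowerSeries.truncTotalAlgHom σ R n).restrictScalars R) := ⟨_, fun n => rfl⟩
  have hfn' : ∀ n p, fn n p =
      Ideal.Quotient.mk (I ^ n) (φ (MvPowerSeries.truncTotal n p)) := fun n p => by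
    rw [hfn]; rfl
  have hcompat : ∀ {m n : ℕ} (hle : m ≤ n),
      (Ideal.Quotient.factorₐ R (Ideal.pow_le_pow_right hle)).comp (fn n) = fn m := by
    intro m n hle
    apply AlgHom.ext
    intro p
    rw [AlgHom.comp_apply, hfn', hfn']
    show Ideal.Quotient.mk (I ^ m) _ = _
    rw [Ideal.Quotient.eq, ← map_sub]
    exact hφJ m (MvPowerSeries.truncTotal_sub_truncTotal_mem_pow_idealOfVars hle le_rfl p)
  obtain ⟨l, hl⟩ : ∃ l : MvPowerSeries σ R →ₐ[R] E,
      ∀ n p, Ideal.Quotient.mk (I ^ n) (l p) = fn n p :=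
    ⟨IsAdicComplete.liftAlgHom I fn hcompat, fun n p => IsAdicComplete.mk_liftAlgHom I fn hcompat n p⟩
  have hlpoly : ∀ c : MvPolynomial σ R,
      l (algebraMap (MvPolynomial σ R) (MvPowerSeries σ R) c) = φ c := by
    intro c
    rw [IsHausdorff.eq_iff_smodEq (I := I)]
    intro n
    rw [SModEq.sub_mem, smul_eq_mul, Ideal.mul_top, ← Ideal.Quotient.eq, hl, hfn]
    show (Ideal.quotientMapₐ (I ^ n) φ (hφJ n))
      ((MvPowerSeries.truncTotalAlgHom σ R n) (algebraMap _ _ c)) = _
    rw [AlgHom.commutes]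
    rfl
  have hlX : ∀ i, l (MvPowerSeries.X i) = e i := fun i => by
    rw [← algebraMap_X, hlpoly, hφX]
  have hpoly : ∀ c : MvPolynomial σ R,
      f (φ c) = π (algebraMap (MvPolynomial σ R) (MvPowerSeries σ R) c) := by
    intro c
    have : (f : E →+* A).comp (φ : MvPolynomial σ R →+* E) =
        (π : MvPowerSeries σ R →+* A).comp
          (algebraMap (MvPolynomial σ R) (MvPowerSeries σ R)) := by
      apply MvPolynomial.ringHom_ext
      · intro r
        simp only [RingHom.comp_apply, RingHom.coe_coe]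
        rw [MvPowerSeries.algebraMap_apply', Algebra.algebraMap_self, MvPowerSeries.map_id]
        rw [RingHom.id_apply, MvPolynomial.coe_C, ← MvPolynomial.algebraMap_eq,
          MvPowerSeries.c_eq_algebraMap, AlgHom.commutes, AlgHom.commutes, AlgHom.commutes]
      · intro i
        simp only [RingHom.comp_apply, RingHom.coe_coe]
        rw [hφX, he, algebraMap_X]
    exact congrArg (fun h => h c) this
  refine ⟨l, ?_⟩
  apply AlgHom.ext
  intro p
  rw [AlgHom.comp_apply, IsHausdorff.eq_iff_smodEq (I := IsLocalRing.maximalIdeal A)]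
  intro n
  rw [SModEq.sub_mem, smul_eq_mul, Ideal.mul_top]
  have k1 := key (f.comp l) (IsLocalRing.maximalIdeal A)
    (fun i => by rw [AlgHom.comp_apply, hlX, he]; exact hX i) p n
  have k2 := key π (IsLocalRing.maximalIdeal A) hX p n
  rw [map_sub, AlgHom.comp_apply, AlgHom.comp_apply, hlpoly, hpoly] at k1
  rw [map_sub] at k2
  have := Ideal.sub_mem _ k1 k2
  convert this using 1
  ring


end


/-- Let R be a commutative ring, A a complete Noetherian local R-algebra written as a quotient of a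
power series ring over R in finitely many variables by a surjective R-algebra map π, and f : E → A a
surjective R-algebra map whose kernel has square zero and is finitely generated. Then π lifts along
f to an R-algebra map λ from the power series ring to E with f ∘ λ = π. (The published statement
takes R Artinian local and asks for a lift that is continuous for the adic topologies; this row
allows any commutative R and asks for any lift.) -/
theorem result
    {R : Type u} [CommRing R] {σ : Type v} [Finite σ]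
    {A : Type w} {E : Type w'} [CommRing A] [CommRing E] [Algebra R A] [Algebra R E]
    [IsNoetherianRing A] [IsLocalRing A] [IsAdicComplete (IsLocalRing.maximalIdeal A) A]
    (π : MvPowerSeries σ R →ₐ[R] A) (hπ : Function.Surjective π)
    (f : E →ₐ[R] A) (hf : Function.Surjective f)
    (hsq : RingHom.ker f.toRingHom ^ 2 = ⊥) (hfg : (RingHom.ker f.toRingHom).FG) :
    ∃ l : MvPowerSeries σ R →ₐ[R] E, f.comp l = π := by
  classical
  exact main π hπ f hf hsq hfg

end Groth.Agent.S16982
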