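import Groth.Statements.S16983
import Mathlib

set_option autoImplicit false
universe u
open DeformData

namespace Groth.Agent.S16983

theorem special_signature
    {B : Type*} [Fintype B] [DecidableEq B] (B₀ : Finset B) (hB₀ : B₀.card = 3)
    (p : ℕ) (hp : p.Prime) (s : ℕ) (hs : 0 < s)
    (m : B → ℕ) (hm : ∀ j, 0 < m j) (hmp : ∀ j, Nat.Coprime (m j) p)
    (σ : Fin s → B → ℚ) (hint : ∀ i j, ∃ h : ℤ, σ i j = (h : ℚ) / (m j : ℚ))
    (hsum : ∀ i, ∑ j, (σ i j - 1) = -2)
    (hfract : ∀ i j, Int.fract (σ i j) = Int.fract ((p : ℚ) ^ (i : ℕ) * σ ⟨0, hs⟩ j))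
    (hne : ∀ i j, σ i j ≠ 1)
    (hB₀min : ∀ j ∈ B₀, (∃ i, ⌊σ i j⌋ = 0) ∧ ∀ i, 0 ≤ ⌊σ i j⌋)
    (hBmin : ∀ j ∉ B₀, (∃ i, ⌊σ i j⌋ = 1) ∧ ∀ i, 1 ≤ ⌊σ i j⌋) :
    (∀ i, ∑ j, Int.fract (σ i j) = 1) ∧ (∀ i j, ⌊σ i j⌋ = if j ∈ B₀ then 0 else 1) := by
  -- excess
  let e : Fin s → B → ℤ := fun i j => ⌊σ i j⌋ - (if j ∈ B₀ then 0 else 1)
  have he : ∀ i j, 0 ≤ e i j := by
    intro i j
    simp only [e]
    split_ifs with h
    · have := (hB₀min j h).2 i; omega
    · have := (hBmin j h).2 i; omega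
  let E : Fin s → ℤ := fun i => ∑ j, e i j
  let F : Fin s → ℚ := fun i => ∑ j, Int.fract (σ i j)
  have hE0 : ∀ i, 0 ≤ E i := fun i => Finset.sum_nonneg (fun j _ => he i j)
  have hF0 : ∀ i, 0 ≤ F i := fun i => Finset.sum_nonneg (fun j _ => Int.fract_nonneg _)
  have hcard : (∑ j : B, (if j ∈ B₀ then (0:ℤ) else 1)) = (Fintype.card B : ℤ) - 3 := by
    have h1 : ∀ j : B, (if j ∈ B₀ then (0:ℤ) else 1) = 1 - (if j ∈ B₀ then 1 else 0) := by
      intro j; split_ifs <;> simp
    simp_rw [h1]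
    rw [Finset.sum_sub_distrib, Finset.sum_boole]
    simp [hB₀]
  have key : ∀ i, F i = 1 - (E i : ℚ) := by
    intro i
    have h1 : ∀ j, σ i j - 1 = ((e i j : ℤ) : ℚ) + ((if j ∈ B₀ then (0:ℤ) else 1 : ℤ) : ℚ) - 1
        + Int.fract (σ i j) := by
      intro j
      simp only [e]
      push_cast
      have := Int.floor_add_fract (σ i j)
      linarith
    have h2 := hsum i
    simp_rw [h1] at h2
    rw [Finset.sum_add_distrib, Finset.sum_sub_distrib, Finset.sum_add_distrib] at h2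
    rw [← Int.cast_sum, ← Int.cast_sum, hcard] at h2
    simp only [Finset.sum_const, Finset.card_univ, nsmul_eq_mul, mul_one] at h2
    push_cast at h2
    show F i = 1 - ((∑ j, e i j : ℤ) : ℚ)
    simp only [F]
    push_cast
    linarith
  -- integrality propagation
  have hprop : ∀ i, (∀ j, Int.fract (σ i j) = 0) → ∀ i' j, Int.fract (σ i' j) = 0 := by
    intro i hi i' j
    have h1 := hi j
    rw [hfract, Int.fract_eq_iff] at h1
    obtain ⟨-, -, z, hz⟩ := h1
    rw [sub_zero] at hz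
    obtain ⟨h, hh⟩ := hint ⟨0, hs⟩ j
    have hmj : (m j : ℚ) ≠ 0 := by exact_mod_cast (hm j).ne'
    have h2 : ((p : ℤ) ^ (i : ℕ) * h : ℤ) = z * (m j : ℤ) := by
      have : ((p : ℚ) ^ (i : ℕ) * h) = z * (m j : ℚ) := by
        rw [hh] at hz
        field_simp at hz
        linarith
      exact_mod_cast this
    have hcop : IsCoprime (m j : ℤ) ((p : ℤ) ^ (i : ℕ)) := by
      apply IsCoprime.pow_right
      exact Nat.isCoprime_iff_coprime.2 (hmp j)
    have hdvd : (m j : ℤ) ∣ h := by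
      apply hcop.dvd_of_dvd_mul_left
      rw [h2]
      exact dvd_mul_left _ _
    obtain ⟨k, hk⟩ := hdvd
    have hσ0 : σ ⟨0, hs⟩ j = k := by
      rw [hh, hk]
      push_cast
      field_simp
    rw [hfract, hσ0]
    have : ((p : ℚ) ^ (i' : ℕ) * (k : ℚ)) = (((p : ℤ) ^ (i' : ℕ) * k : ℤ) : ℚ) := by push_cast; ring
    rw [this, Int.fract_intCast]
  have hno : ∀ i, E i ≠ 1 := by
    intro i hE1
    have hFi : F i = 0 := by rw [key, hE1]; simp
    have hall : ∀ j, Int.fract (σ i j) = 0 := by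
      intro j
      exact (Finset.sum_eq_zero_iff_of_nonneg (fun j _ => Int.fract_nonneg _)).1 hFi j
        (Finset.mem_univ j)
    have hint' := hprop i hall
    have hσ : ∀ i' j, σ i' j = (⌊σ i' j⌋ : ℚ) := by
      intro i' j
      have := Int.floor_add_fract (σ i' j)
      rw [hint' i' j, add_zero] at this
      exact this.symm
    by_cases hex : ∃ j, j ∉ B₀
    · obtain ⟨j, hj⟩ := hex
      obtain ⟨i', hi'⟩ := (hBmin j hj).1
      apply hne i' j
      rw [hσ i' j, hi']
      simp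
    · push Not at hex
      -- all j in B₀; some e i j = 1
      have hle : ∀ j, e i j ≤ 1 := by
        intro j
        have := Finset.single_le_sum (fun j _ => he i j) (Finset.mem_univ j)
        show e i j ≤ 1
        have h2 : (∑ j, e i j) = 1 := hE1
        rw [h2] at this
        exact this
      have hex1 : ∃ j, e i j = 1 := by
        by_contra hcon
        push Not at hcon
        have : ∀ j, e i j = 0 := by
          intro j
          have := he i j; have := hle j; have := hcon j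
          omega
        have h2 : (∑ j, e i j) = 0 := Finset.sum_eq_zero (fun j _ => this j)
        have h3 : (∑ j, e i j) = 1 := hE1
        omega
      obtain ⟨j, hj⟩ := hex1
      apply hne i j
      rw [hσ i j]
      have : ⌊σ i j⌋ = 1 := by
        have h1 : e i j = ⌊σ i j⌋ - (if j ∈ B₀ then 0 else 1) := rfl
        rw [if_pos (hex j)] at h1
        omega
      rw [this]
      simp
  have hE : ∀ i, E i = 0 := by
    intro i
    have h1 := hF0 i
    rw [key] at h1
    have h2 : (E i : ℚ) ≤ 1 := by linarith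
    have h3 : E i ≤ 1 := by exact_mod_cast h2
    have := hE0 i
    have := hno i
    omega
  refine ⟨fun i => ?_, fun i j => ?_⟩
  · show F i = 1
    rw [key, hE]
    simp
  · have h1 : e i j = 0 :=
      (Finset.sum_eq_zero_iff_of_nonneg (fun j _ => he i j)).1 (hE i) j (Finset.mem_univ j)
    have h2 : e i j = ⌊σ i j⌋ - (if j ∈ B₀ then 0 else 1) := rfl
    omega

/-- Let p be a prime, s ≥ 1, B a finite index set with a subset B₀ of exactly three elements, m_j ≥ 1
integers coprime to p, and σ_{i,j} (i < s, j ∈ B) rational numbers with m_j σ_{i,j} an integer, such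
that Σ_j (σ_{i,j} − 1) = −2 for every i, the fractional part of σ_{i,j} equals that of p^i σ_{0,j},
no σ_{i,j} equals 1, and the minimum over i of ⌊σ_{i,j}⌋ is 0 for j ∈ B₀ and 1 for j ∉ B₀. Then for
every i the fractional parts ⟨σ_{i,j}⟩ sum over j to 1 (purity), and ⌊σ_{i,j}⌋ is 0 on B₀ and 1 off
B₀ for every i. (The hypotheses are exactly the properties of the signature of a special deformation
datum on the projective line: each entry is an integer divided by a stabilizer order m_j in a group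
of order prime to p, the degree identity coming from Riemann–Hurwitz, the Frobenius-twist relation
between fractional parts, and the speciality conditions; the statement is given here for any such
tuple.) -/
theorem result
    {B : Type u} [Fintype B] [DecidableEq B] (B₀ : Finset B) (hB₀ : B₀.card = 3)
    (p : ℕ) (hp : p.Prime) (s : ℕ) (hs : 0 < s)
    (m : B → ℕ) (hm : ∀ j, 0 < m j) (hmp : ∀ j, Nat.Coprime (m j) p)
    (σ : Fin s → B → ℚ) (hint : ∀ i j, ∃ h : ℤ, σ i j = (h : ℚ) / (m j : ℚ))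
    (hsum : ∀ i, ∑ j, (σ i j - 1) = -2)
    (hfract : ∀ i j, Int.fract (σ i j) = Int.fract ((p : ℚ) ^ (i : ℕ) * σ ⟨0, hs⟩ j))
    (hne : ∀ i j, σ i j ≠ 1)
    (hB₀min : ∀ j ∈ B₀, (∃ i, ⌊σ i j⌋ = 0) ∧ ∀ i, 0 ≤ ⌊σ i j⌋)
    (hBmin : ∀ j ∉ B₀, (∃ i, ⌊σ i j⌋ = 1) ∧ ∀ i, 1 ≤ ⌊σ i j⌋) :
    (∀ i, ∑ j, Int.fract (σ i j) = 1) ∧ (∀ i j, ⌊σ i j⌋ = if j ∈ B₀ then 0 else 1) := by
  exact special_signature B₀ hB₀ p hp s hs m hm hmp σ hint hsum hfract hne hB₀min hBmin

end Groth.Agent.S16983
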