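import Groth.Statements.S16984
import Mathlib
import Groth.Agent.Lib.Helper4.HochLib

set_option autoImplicit false
universe u v w
open Hoch

namespace Groth.Agent.S16984

open TensorProduct in
/-- Let k be a commutative ring, A a commutative k-bialgebra that is flat over k (the coordinate ring of
a flat affine group scheme over Spec k; flatness and commutativity are the standing hypotheses of
the appendix and are not needed for the assertion) and P a k-module. Then p ↦ p ⊗ 1 is an injection
of P into the induced comodule P ⊗ A (coaction id ⊗ Δ) whose image is exactly the submodule of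
invariants, i.e. the elements with coaction x ↦ x ⊗ 1. (The published statement writes the
coordinate-ring factor on the left and calls this module coinduced; this row is its degree-zero
part, the identification of P with the invariants of the coinduced module.) -/
theorem result (k : Type u) [CommRing k] (A : Type v) [CommRing A] [Bialgebra k A]
    [Module.Flat k A] (P : Type w) [AddCommGroup P] [Module k P] :
    Function.Injective ((Hoch.Ind.equiv k A P).toLinearMap ∘ₗ (TensorProduct.mk k P A).flip (1 : A)) ∧
    LinearMap.range ((Hoch.Ind.equiv k A P).toLinearMap ∘ₗ (TensorProduct.mk k P A).flip (1 : A)) =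
      HopfRep.fixedPts k A (Hoch.Ind k A P) := by
  constructor
  · intro p q hpq
    have h1 : ∀ r : P, Hoch.Ind.counit k A P
        (((Hoch.Ind.equiv k A P).toLinearMap ∘ₗ (TensorProduct.mk k P A).flip (1 : A)) r) = r := by
      intro r
      change Hoch.Ind.counit k A P (Hoch.Ind.equiv k A P (r ⊗ₜ[k] (1 : A))) = r
      rw [Hoch.Ind.counit_equiv_tmul]
      simp [Bialgebra.counit_one]
    rw [← h1 p, hpq, h1 q]
  · apply le_antisymm
    · rintro _ ⟨p, rfl⟩
      change HopfRep.Comod.coact (k := k) (A := A) (Hoch.Ind.equiv k A P (p ⊗ₜ[k] (1 : A))) = _
      rw [Hoch.Ind.coact_equiv_tmul]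
      change _ = (p ⊗ₜ[k] (1 : A)) ⊗ₜ[k] (1 : A)
      simp [Bialgebra.comul_one, Algebra.TensorProduct.one_def]
    · intro x hx
      have hx' : Hoch.Ind.coactAux k A P x = x ⊗ₜ[k] (1 : A) := hx
      have e3 := LinearMap.congr_fun
        (Groth.Agent.Helper4.HochLib.counit_rTensor_coactAux (k := k) (A := A) (N := P)) x
      simp only [LinearMap.comp_apply, LinearMap.id_apply] at e3
      rw [hx'] at e3
      refine ⟨(TensorProduct.rid k P) ((Coalgebra.counit (R := k) (A := A)).lTensor P x), ?_⟩
      conv_rhs => rw [← e3]
      rfl

end Groth.Agent.S16984
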