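import Groth.Statements.S16985
import Mathlib
import Groth.Agent.Lib.Helper4.HochHomotopy

set_option autoImplicit false
universe u v
open Hoch

namespace Groth.Agent.S16985

open TensorProduct in
/-- Let k be a commutative ring, A a commutative k-bialgebra flat over k (the coordinate ring of a flat
affine group scheme over Spec k; flatness and commutativity are the standing hypotheses of the
appendix and are not needed for the assertion) and P a k-module. Then the cochain complex of the
induced comodule P ⊗ A (coaction id ⊗ Δ), with n-cochains (P ⊗ A) ⊗ A ⊗ ⋯ ⊗ A, has every
(n+1)-cocycle an (n+1)-coboundary, for all n. (The published statement is the vanishing of the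
higher derived functors of invariants on coinduced modules; this row states the vanishing in
positive degrees of the cohomology of the cochain complex above, which the same appendix identifies
with those derived functors. P is taken in the universe of A, as the cochain modules require.) -/
theorem result (k : Type u) [CommRing k] (A : Type v) [CommRing A]
    [Bialgebra k A] [Module.Flat k A] (P : Type v) [AddCommGroup P] [Module k P] (n : ℕ) :
    Hoch.cocycles k A (Hoch.Ind k A P) (n + 1) ≤ Hoch.coboundaries k A (Hoch.Ind k A P) (n + 1) := by
  intro z hz
  have hz' : Hoch.d k A (Hoch.Ind k A P) (n + 1) z = 0 := hz
  have h := LinearMap.congr_fun (Groth.Agent.Helper4.HochHomotopy.homotopy k A P n) z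
  simp only [LinearMap.add_apply, LinearMap.comp_apply, hz', map_zero, add_zero,
    LinearMap.id_apply] at h
  exact ⟨_, h⟩

end Groth.Agent.S16985
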