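import Groth.Statements.S1701
import Groth.Agent.Lib.Helper6.CartierFlat.Ring

set_option autoImplicit false
universe u
open CategoryTheory CategoryTheory.Limits AlgebraicGeometry TopologicalSpace
open SDiv

namespace Groth.Agent.S1701

/-- Let f : X ⟶ S be a morphism, 𝓘 the ideal sheaf of an effective Cartier divisor D ⊂ X such that D ⟶ S
is flat (a relative effective Cartier divisor), and x a point of D at which the local ring of X is
Noetherian. Then f is flat at x. -/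
theorem result {X S : Scheme.{u}} (f : X ⟶ S) (𝓘 : X.IdealSheafData)
    (hD : (BlowUp.IsEffCartierIdeal 𝓘 ∧ Flat (𝓘.subschemeι ≫ f))) (d : ↥𝓘.subscheme) [IsNoetherianRing (X.presheaf.stalk (𝓘.subschemeι d))] :
    (f.stalkMap (𝓘.subschemeι d)).hom.Flat := by
  classical
  obtain ⟨hcart, hflat⟩ := hD
  obtain ⟨U, hxU, h, hnz, hI⟩ := hcart (𝓘.subschemeι d)
  have hU : IsAffineOpen U.1 := U.2
  have hV : IsAffineOpen (𝓘.subschemeι ⁻¹ᵁ U.1) := by
    rw [← 𝓘.opensRange_subschemeCover_map U]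
    have := 𝓘.subschemeCover.map_prop U
    exact isAffineOpen_opensRange _
  have hd : d ∈ 𝓘.subschemeι ⁻¹ᵁ U.1 := hxU
  -- the local model of the stalk map of the closed immersion
  let e := IsAffineOpen.arrowStalkMapIso 𝓘.subschemeι U.1 hU (𝓘.subschemeι ⁻¹ᵁ U.1) hV le_rfl hd
  have hg : Function.Surjective (𝓘.subschemeι.appLE U.1 (𝓘.subschemeι ⁻¹ᵁ U.1) le_rfl).hom := by
    rw [← Scheme.Hom.app_eq_appLE]
    exact 𝓘.subschemeι_app_surjective U
  have hker : RingHom.ker (𝓘.subschemeι.appLE U.1 (𝓘.subschemeι ⁻¹ᵁ U.1) le_rfl).hom =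
      Ideal.span {h} := by
    rw [← Scheme.Hom.app_eq_appLE, 𝓘.ker_subschemeι_app U, hI]
  have hpq : (hU.primeIdealOf ⟨𝓘.subschemeι d, hxU⟩).asIdeal =
      Ideal.comap (𝓘.subschemeι.appLE U.1 (𝓘.subschemeι ⁻¹ᵁ U.1) le_rfl).hom
        (hV.primeIdealOf ⟨d, hd⟩).asIdeal :=
    congr($(IsAffineOpen.comap_primeIdealOf_appLE U.1 hU _ hV le_rfl hd).1).symm
  let loc : CommRingCat.of (Localization.AtPrime (hU.primeIdealOf ⟨𝓘.subschemeι d, hxU⟩).asIdeal) ⟶
      CommRingCat.of (Localization.AtPrime (hV.primeIdealOf ⟨d, hd⟩).asIdeal) :=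
    CommRingCat.ofHom (Localization.localRingHom _ _
      (𝓘.subschemeι.appLE U.1 (𝓘.subschemeι ⁻¹ᵁ U.1) le_rfl).hom hpq)
  let eL : X.presheaf.stalk (𝓘.subschemeι d) ⟶
      CommRingCat.of (Localization.AtPrime (hU.primeIdealOf ⟨𝓘.subschemeι d, hxU⟩).asIdeal) :=
    e.hom.left
  let eR : 𝓘.subscheme.presheaf.stalk d ⟶
      CommRingCat.of (Localization.AtPrime (hV.primeIdealOf ⟨d, hd⟩).asIdeal) :=
    e.hom.right
  have hleft : IsIso eL := inferInstanceAs (IsIso e.hom.left)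
  have hright : IsIso eR := inferInstanceAs (IsIso e.hom.right)
  have hw : eL ≫ loc = 𝓘.subschemeι.stalkMap d ≫ eR := e.hom.w
  have hN : IsNoetherianRing
      (Localization.AtPrime (hU.primeIdealOf ⟨𝓘.subschemeι d, hxU⟩).asIdeal) :=
    isNoetherianRing_of_ringEquiv _ (asIso eL).commRingCatIsoToRingEquiv
  -- the composite stalk map is flat
  have hfl1 : ((𝓘.subschemeι ≫ f).stalkMap d).hom.Flat := Flat.stalkMap _ d
  have hfl2 : ((𝓘.subschemeι ≫ f).stalkMap d ≫ eR).hom.Flat := by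
    rw [CommRingCat.hom_comp]
    exact RingHom.Flat.comp hfl1 (RingHom.Flat.of_bijective
      (ConcreteCategory.bijective_of_isIso eR))
  have hcomp : (𝓘.subschemeι ≫ f).stalkMap d ≫ eR =
      (f.stalkMap (𝓘.subschemeι d) ≫ eL) ≫ loc := by
    have h1 : (𝓘.subschemeι ≫ f).stalkMap d =
        f.stalkMap (𝓘.subschemeι d) ≫ 𝓘.subschemeι.stalkMap d :=
      Scheme.Hom.stalkMap_comp _ _ _
    exact (congrArg (· ≫ eR) h1).trans ((Category.assoc _ _ _).trans
      ((congrArg (f.stalkMap (𝓘.subschemeι d) ≫ ·) hw.symm).trans (Category.assoc _ _ _).symm))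
  have hfl3 : (f.stalkMap (𝓘.subschemeι d) ≫ eL).hom.Flat := by
    refine Groth.Agent.Lib.Helper6.CartierFlat.flat_of_comp_localRingHom
      (𝓘.subschemeι.appLE U.1 (𝓘.subschemeι ⁻¹ᵁ U.1) le_rfl).hom hg h hker hnz
      (hV.primeIdealOf ⟨d, hd⟩).asIdeal (hU.primeIdealOf ⟨𝓘.subschemeι d, hxU⟩).asIdeal
      hpq _ ?_
    rw [hcomp] at hfl2
    exact hfl2
  have : f.stalkMap (𝓘.subschemeι d) =
      (f.stalkMap (𝓘.subschemeι d) ≫ eL) ≫ inv eL := by
    rw [Category.assoc, IsIso.hom_inv_id, Category.comp_id]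
  rw [this, CommRingCat.hom_comp]
  exact RingHom.Flat.comp hfl3 (RingHom.Flat.of_bijective
    (ConcreteCategory.bijective_of_isIso (inv eL)))

end Groth.Agent.S1701
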