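import Groth.Statements.S17013
import Mathlib
import Groth.Agent.Lib.Helper5.HalfDisc

set_option autoImplicit false
universe u v
open QuadGrp



namespace Groth.Agent.S17013

/-- The determinant on the orthogonal group is valued in μ₂ for odd rank: for a quadratic form Q on a
finite free module with a basis indexed by Fin (2m+1) over a commutative ring, whose
half-discriminant in that basis is a unit (no hypothesis on 2), the determinant of every isometry of
Q squares to one. -/
theorem result {R : Type u} [CommRing R] {M : Type v} [AddCommGroup M] [Module R M] [Module.Free R M] [Module.Finite R M]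
    (m : ℕ) (b : Module.Basis (Fin (2 * m + 1)) R M) (Q : QuadraticForm R M)
    (hQ : QuadGrp.IsSemiregular b (LinearEquiv.refl R R) Q)
    (g : M ≃ₗ[R] M) (hg : g ∈ QuadGrp.O Q) :
    LinearEquiv.det g * LinearEquiv.det g = 1 := by
  have hcomp : Q.comp (g : M →ₗ[R] M) = Q := by
    ext v
    exact hg v
  have h := Helper5.HalfDisc.halfDisc_comp ⟨m, rfl⟩ b Q (g : M →ₗ[R] M)
  rw [hcomp] at h
  obtain ⟨u, hu⟩ := hQ
  rw [← hu] at h
  have h1 : LinearMap.det (g : M →ₗ[R] M) ^ 2 = 1 := by
    have h2 : (u : R) * 1 = (u : R) * LinearMap.det (g : M →ₗ[R] M) ^ 2 := by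
      rw [mul_one, mul_comm]; exact h
    exact (u.isUnit.mul_left_cancel h2).symm
  apply Units.ext
  rw [Units.val_mul, LinearEquiv.coe_det, Units.val_one, ← sq]
  exact h1

end Groth.Agent.S17013
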