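import Groth.Statements.S17017
import Mathlib
import Groth.Agent.Lib.Helper5.Cliff.Three

set_option autoImplicit false
universe u
open QuadGrp



namespace Groth.Agent.S17017

/-- Over a field k, for the standard split quadratic form x₀² + x₁x₂ on k³, every even unit of the
Clifford algebra normalises the subspace k³, i.e. lies in the naive Clifford group; so the even
Clifford group is the whole unit group of the even Clifford algebra. (The published claim is made
over fields of characteristic different from 2; here it is stated for every field.) -/
theorem result (k : Type u) [Field k] :
    QuadGrp.evenUnits (QuadGrp.splitForm k 3) ≤ QuadGrp.GPin' (QuadGrp.splitForm k 3) := by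
  exact Groth.Agent.Lib.Helper5.CliffThree.main k

end Groth.Agent.S17017
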