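import Groth.Statements.S17065
import Mathlib

set_option autoImplicit false
universe u
open CAlg

namespace Groth.Agent.S17065

/-- The local algebraic statement its proof establishes: let A be a Noetherian ring, I ≤ J radical
ideals and Â the J-adic completion of A. If J^n Â ⊆ I Â for some n, then the closed set V(J) is open
inside V(I) ⊆ Spec A. (Globally: if X₂ ⊆ X₁ are the completions of a locally Noetherian scheme along
nested closed subsets Z₂ ⊆ Z₁ and the ideal of Z₁ generates an ideal of definition of X₂, then X₂ is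
a union of connected components of X₁.) -/
theorem result (A : Type u) [CommRing A] [IsNoetherianRing A]
    (I J : Ideal A) (hIJ : I ≤ J) (hI : I.IsRadical) (hJ : J.IsRadical) (n : ℕ)
    (h : (J ^ n).map (algebraMap A (AdicCompletion J A)) ≤ I.map (algebraMap A (AdicCompletion J A))) :
    IsOpen ((fun x : PrimeSpectrum.zeroLocus (I : Set A) => (x : PrimeSpectrum A)) ⁻¹'
      PrimeSpectrum.zeroLocus (J : Set A)) := by
  classical
  -- Step 1: J^n ≤ I ⊔ J^k for all k
  have h1 : ∀ k : ℕ, J ^ n ≤ I ⊔ J ^ k := by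
    intro k x hx
    have hx' : algebraMap A (AdicCompletion J A) x ∈ I.map (algebraMap A (AdicCompletion J A)) :=
      h (Ideal.mem_map_of_mem _ hx)
    set φ : AdicCompletion J A →+* A ⧸ J ^ k := (AdicCompletion.evalₐ J k).toRingHom with hφ
    have h2 : φ (algebraMap A (AdicCompletion J A) x) ∈
        (I.map (algebraMap A (AdicCompletion J A))).map φ :=
      Ideal.mem_map_of_mem _ hx'
    rw [Ideal.map_map] at h2
    have h3 : (φ.comp (algebraMap A (AdicCompletion J A))) = Ideal.Quotient.mk (J ^ k) := by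
      ext a
      simp [hφ]
    rw [h3] at h2
    have h4 : φ (algebraMap A (AdicCompletion J A) x) = Ideal.Quotient.mk (J ^ k) x := by
      simp [hφ]
    rw [h4] at h2
    rw [Ideal.mem_map_iff_of_surjective _ Ideal.Quotient.mk_surjective] at h2
    obtain ⟨y, hy, hyx⟩ := h2
    have : x - y ∈ J ^ k := by
      rw [← Ideal.Quotient.eq_zero_iff_mem, map_sub, hyx, sub_self]
    have hxy : x = y + (x - y) := by ring
    rw [hxy]
    exact Ideal.add_mem _ (Ideal.mem_sup_left hy) (Ideal.mem_sup_right this)
  set m := n + 1 with hm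
  set B := A ⧸ I
  set Jb : Ideal B := J.map (Ideal.Quotient.mk I) with hJb
  have hidem : IsIdempotentElem (Jb ^ m) := by
    change Jb ^ m * Jb ^ m = Jb ^ m
    apply le_antisymm Ideal.mul_le_left
    rw [← pow_add, hJb, ← Ideal.map_pow, ← Ideal.map_pow]
    have : J ^ m ≤ I ⊔ J ^ (m + m) :=
      le_trans (Ideal.pow_le_pow_right (by omega)) (h1 (m + m))
    refine le_trans (Ideal.map_mono this) ?_
    rw [Ideal.map_sup, Ideal.map_quotient_self, bot_sup_eq]
  have hfg : (Jb ^ m).FG := IsNoetherian.noetherian _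
  obtain ⟨e, he, hJe⟩ := (Ideal.isIdempotentElem_iff_of_fg _ hfg).mp hidem
  have heJ : e ∈ Jb := by
    have : e ∈ Jb ^ m := by rw [hJe]; exact Ideal.mem_span_singleton_self e
    exact Ideal.pow_le_self (by omega) this
  rw [hJb, Ideal.mem_map_iff_of_surjective _ Ideal.Quotient.mk_surjective] at heJ
  obtain ⟨e', he'J, he'⟩ := heJ
  have hc : e' * (1 - e') ∈ I := by
    rw [← Ideal.Quotient.eq_zero_iff_mem, map_mul, map_sub, map_one, he', mul_sub, mul_one,
      he.eq, sub_self]
  have hd : J ^ m ≤ Ideal.span {e'} ⊔ I := by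
    intro x hx
    have : Ideal.Quotient.mk I x ∈ Jb ^ m := by
      rw [hJb, ← Ideal.map_pow]
      exact Ideal.mem_map_of_mem _ hx
    rw [hJe, Ideal.mem_span_singleton'] at this
    obtain ⟨b, hb⟩ := this
    obtain ⟨b', rfl⟩ := Ideal.Quotient.mk_surjective b
    have h5 : x - b' * e' ∈ I := by
      rw [← Ideal.Quotient.eq_zero_iff_mem, map_sub, map_mul, he', hb, sub_self]
    have hxy : x = b' * e' + (x - b' * e') := by ring
    rw [hxy]
    exact Ideal.add_mem _ (Ideal.mem_sup_left (Ideal.mem_span_singleton'.mpr ⟨b', rfl⟩))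
      (Ideal.mem_sup_right h5)
  have hset : ((fun x : PrimeSpectrum.zeroLocus (I : Set A) => (x : PrimeSpectrum A)) ⁻¹'
      PrimeSpectrum.zeroLocus (J : Set A)) =
      ((fun x : PrimeSpectrum.zeroLocus (I : Set A) => (x : PrimeSpectrum A)) ⁻¹'
        (PrimeSpectrum.basicOpen (1 - e') : Set (PrimeSpectrum A))) := by
    ext ⟨p, hp⟩
    have hIp : I ≤ p.asIdeal := hp
    simp only [Set.mem_preimage, PrimeSpectrum.mem_zeroLocus, SetLike.coe_subset_coe,
      PrimeSpectrum.mem_basicOpen, SetLike.mem_coe]
    constructor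
    · intro hJp hf
      have h1p : e' + (1 - e') ∈ p.asIdeal := Ideal.add_mem _ (hJp he'J) hf
      have : (1 : A) ∈ p.asIdeal := by simpa using h1p
      exact p.isPrime.ne_top ((Ideal.eq_top_iff_one _).mpr this)
    · intro hf
      have he'p : e' ∈ p.asIdeal := by
        rcases p.isPrime.mem_or_mem (hIp hc) with h | h
        · exact h
        · exact absurd h hf
      have hJm : J ^ m ≤ p.asIdeal := by
        refine le_trans hd (sup_le ?_ hIp)
        rw [Ideal.span_le]
        simpa using he'p
      exact p.isPrime.le_of_pow_le hJm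
  rw [hset]
  exact (PrimeSpectrum.basicOpen (1 - e')).isOpen.preimage continuous_subtype_val

end Groth.Agent.S17065
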