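import Groth.Statements.S1707
-- import your own Groth.Agent.* helpers here
import Mathlib
import Groth.Agent.Lib.Helper7.CohStalk.Ass

set_option autoImplicit false
universe u
open CategoryTheory CategoryTheory.Limits AlgebraicGeometry TopologicalSpace
open SDiv

namespace Groth.Agent.S1707

/-- Let X be a scheme, F a quasi-coherent module and x a point of the support of F such that no other
point of the support specializes to x. Then x is weakly associated to F. -/
theorem result (X : Scheme.{u}) (F : X.Modules) (hF : Coh.IsQCoh F) (x : ↥X)
    (hx : x ∈ CohB1.support F) (hmax : ∀ y : ↥X, y ∈ CohB1.support F → y ⤳ x → y = x) : Curv2.IsWeakAssPoint F x := by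
  have hnt : Nontrivial (F.presheaf.stalk x) := not_subsingleton_iff_nontrivial.mp hx
  obtain ⟨m, hm⟩ := exists_ne (0 : F.presheaf.stalk x)
  refine ⟨m, ?_⟩
  refine Groth.Agent.Helper7.FinType.radical_ann_eq_maximalIdeal ?_ m hm _ ?_
  · intro q hqp hqm m'
    exact Groth.Agent.Helper7.FinType.exists_smul_eq_zero_of_forall_specializes F hF x
      (fun y hy hyx => hmax y hy hyx) q hqp hqm m'
  · intro r
    rw [LinearMap.mem_ker, LinearMap.toSpanSingleton_apply]

end Groth.Agent.S1707
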