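import Groth.Statements.S17075
-- import your own Groth.Agent.* helpers here

set_option autoImplicit false
universe u
open CategoryTheory CategoryTheory.Limits AlgebraicGeometry
open MorSch

namespace Groth.Agent.S17075

/-- Let g : X → S be a proper morphism, i : V → X a closed immersion and j : U → X an open immersion.
Then there is an open subset S₀ of S such that, for every scheme S' and every morphism f : S' → S,
the image of f lies in S₀ if and only if the base change V ×_S S' → X ×_S S' of i factors through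
the open subscheme U ×_S S', equivalently the composite V ×_S S' → V → X has image contained in the
image of j. -/
theorem result
    {V X U S : Scheme.{u}} (g : X ⟶ S) [IsProper g] (i : V ⟶ X) [IsClosedImmersion i]
    (j : U ⟶ X) [IsOpenImmersion j] :
    ∃ S₀ : S.Opens, ∀ (S' : Scheme.{u}) (f : S' ⟶ S),
      Set.range f ⊆ (S₀ : Set S) ↔
        Set.range (pullback.fst (i ≫ g) f ≫ i) ⊆ Set.range j := by
  have hC : IsClosed (Set.range i.base ∩ (Set.range j.base)ᶜ) :=
    i.isClosedEmbedding.isClosed_range.inter j.isOpenEmbedding.isOpen_range.isClosed_compl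
  have hgC : IsClosed (g.base '' (Set.range i.base ∩ (Set.range j.base)ᶜ)) :=
    g.isClosedMap _ hC
  refine ⟨⟨(g.base '' (Set.range i.base ∩ (Set.range j.base)ᶜ))ᶜ, hgC.isOpen_compl⟩, ?_⟩
  intro S' f
  constructor
  · intro hf
    rintro _ ⟨w, rfl⟩
    by_contra hn
    have h1 : f ((pullback.snd (i ≫ g) f) w) ∈
        (g.base '' (Set.range i.base ∩ (Set.range j.base)ᶜ))ᶜ := hf ⟨_, rfl⟩
    apply h1
    refine ⟨(pullback.fst (i ≫ g) f ≫ i) w, ⟨⟨(pullback.fst (i ≫ g) f) w, rfl⟩, hn⟩, ?_⟩
    rw [← Scheme.Hom.comp_apply, ← Scheme.Hom.comp_apply, Category.assoc, pullback.condition]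
  · intro h
    rintro _ ⟨s', rfl⟩
    rintro ⟨c, ⟨⟨v, rfl⟩, hc⟩, hgc⟩
    obtain ⟨w, hw1, hw2⟩ := Scheme.Pullback.exists_preimage_pullback (f := i ≫ g) (g := f) v s'
      (by rw [Scheme.Hom.comp_apply]; exact hgc)
    apply hc
    have := h ⟨w, rfl⟩
    rw [Scheme.Hom.comp_apply, hw1] at this
    exact this

end Groth.Agent.S17075
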