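import Groth.Statements.S17077
import Mathlib

set_option autoImplicit false
universe u
open RatCurve

namespace S17077aux
open MvPolynomial

variable {k : Type u} [Field k]

/-- scaling lemma for homogeneous polynomials -/
theorem aeval_mul_of_isHomogeneous {σ : Type*} [Fintype σ] {S : Type*} [CommRing S] [Algebra k S]
    (F : MvPolynomial σ k) (d : ℕ) (hF : F.IsHomogeneous d) (t : S) (x : σ → S) :
    aeval (fun i => t * x i) F = t ^ d * aeval x F := by
  rw [aeval_def, aeval_def, eval₂_eq', eval₂_eq', Finset.mul_sum]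
  refine Finset.sum_congr rfl fun μ hμ => ?_
  have hdeg : ∑ i, μ i = d := by
    have := hF (mem_support_iff.1 hμ)
    rw [← Finsupp.degree_eq_sum, Finsupp.degree_eq_weight_one]
    exact this
  simp only [mul_pow, Finset.prod_mul_distrib, Finset.prod_pow_eq_pow_sum, hdeg]
  ring

theorem exists_zero_of_degreeOf_zero_pos [IsAlgClosed k] (H : MvPolynomial (Fin 2) k)
    (h : 0 < degreeOf 0 H) : ∃ a : Fin 2 → k, a ≠ 0 ∧ eval a H = 0 := by
  set P := finSuccEquiv k 1 H with hP
  have hdeg : 0 < P.natDegree := by rw [hP, natDegree_finSuccEquiv]; exact h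
  have hP0 : P ≠ 0 := fun h0 => by rw [h0, Polynomial.natDegree_zero] at hdeg; exact lt_irrefl _ hdeg
  have hl : P.leadingCoeff * X 0 ≠ 0 :=
    mul_ne_zero (Polynomial.leadingCoeff_ne_zero.2 hP0) (X_ne_zero 0)
  obtain ⟨s, hs⟩ : ∃ s : Fin 1 → k, eval s (P.leadingCoeff * X 0) ≠ 0 := by
    by_contra hcon
    push Not at hcon
    exact hl (MvPolynomial.funext fun s => by rw [hcon s, map_zero])
  rw [map_mul, eval_X] at hs
  have hs1 : eval s P.leadingCoeff ≠ 0 := left_ne_zero_of_mul hs
  have hs2 : s 0 ≠ 0 := right_ne_zero_of_mul hs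
  set Q := Polynomial.map (eval s) P with hQ
  have hQdeg : Q.natDegree = P.natDegree :=
    Polynomial.natDegree_map_of_leadingCoeff_ne_zero _ hs1
  have hQ' : Q.degree ≠ 0 := by
    have : 0 < Q.degree := Polynomial.natDegree_pos_iff_degree_pos.1 (by omega)
    exact this.ne'
  obtain ⟨y, hy⟩ := IsAlgClosed.exists_root Q hQ'
  refine ⟨Fin.cons y s, ?_, ?_⟩
  · intro h0
    have := congrFun h0 1
    simp only [Pi.zero_apply] at this
    exact hs2 (by simpa using this)
  · rw [eval_eq_eval_mv_eval']
    exact hy

theorem exists_zero [IsAlgClosed k] (H : MvPolynomial (Fin 2) k) (hH0 : H ≠ 0)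
    (hHu : ¬ IsUnit H) : ∃ a : Fin 2 → k, a ≠ 0 ∧ eval a H = 0 := by
  have hex : ∃ i : Fin 2, 0 < degreeOf i H := by
    by_contra hcon
    push Not at hcon
    apply hHu
    have hC : H = C (coeff 0 H) := by
      ext μ
      rw [coeff_C]
      split_ifs with h
      · rw [← h]
      · by_contra hne
        have hμ : μ ∈ H.support := mem_support_iff.2 hne
        apply h
        ext i
        have := monomial_le_degreeOf i hμ
        have h2 := hcon i
        simp only [Finsupp.coe_zero, Pi.zero_apply]
        omega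
    rw [hC]
    have : coeff 0 H ≠ 0 := by
      intro h0
      rw [h0, map_zero] at hC
      exact hH0 hC
    exact (isUnit_iff_ne_zero.2 this).map C
  obtain ⟨i, hi⟩ := hex
  fin_cases i
  · exact exists_zero_of_degreeOf_zero_pos H hi
  · set e : Fin 2 → Fin 2 := ⇑(Equiv.swap (0 : Fin 2) 1) with he
    have hinj : Function.Injective e := (Equiv.swap (0 : Fin 2) 1).injective
    have h1 : 0 < degreeOf 0 (rename e H) := by
      have := degreeOf_rename_of_injective (p := H) hinj 1
      have he1 : e 1 = 0 := by simp [he]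
      rw [he1] at this
      rw [this]
      exact hi
    obtain ⟨a, ha, ha0⟩ := exists_zero_of_degreeOf_zero_pos (rename e H) h1
    refine ⟨a ∘ e, ?_, ?_⟩
    · intro h0
      apply ha
      funext j
      have := congrFun h0 (e j)
      simpa [he] using this
    · rw [← eval_rename]
      exact ha0


theorem eval_finSuccEquiv (r : MvPolynomial (Fin 1) k) (F : MvPolynomial (Fin 2) k) :
    Polynomial.eval r (finSuccEquiv k 1 F) = aeval (Fin.cons r (fun j => X j) : Fin 2 → _) F := by
  have : (Polynomial.evalRingHom r).comp ((finSuccEquiv k 1 : MvPolynomial (Fin 2) k →+* _)) =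
      ((aeval (Fin.cons r (fun j => X j) : Fin 2 → MvPolynomial (Fin 1) k) :
        MvPolynomial (Fin 2) k →ₐ[k] MvPolynomial (Fin 1) k) : MvPolynomial (Fin 2) k →+* _) := by
    apply MvPolynomial.ringHom_ext
    · intro c
      have hC : finSuccEquiv k 1 (C c) = Polynomial.C (C c) := by
        have := (finSuccEquiv k 1).commutes c
        simpa [MvPolynomial.algebraMap_eq, Polynomial.algebraMap_apply] using this
      simp [hC]
    · intro i
      refine Fin.cases ?_ (fun j => ?_) i
      · simp [finSuccEquiv_X_zero]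
      · simp [finSuccEquiv_X_succ]
  exact DFunLike.congr_fun this F

theorem dvd_of_eval_eq_zero (a : Fin 2 → k) (h1 : a 1 ≠ 0) (F : MvPolynomial (Fin 2) k) (d : ℕ)
    (hF : F.IsHomogeneous d) (h0 : eval a F = 0) :
    (X 0 - C (a 0 / a 1) * X 1 : MvPolynomial (Fin 2) k) ∣ F := by
  set r : MvPolynomial (Fin 1) k := C (a 0 / a 1) * X 0 with hr
  have hH : finSuccEquiv k 1 (X 0 - C (a 0 / a 1) * X 1) = Polynomial.X - Polynomial.C r := by
    have hX1 : (X 1 : MvPolynomial (Fin 2) k) = X (Fin.succ 0) := rfl
    have hC : finSuccEquiv k 1 (C (a 0 / a 1)) = Polynomial.C (C (a 0 / a 1)) := by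
      have := (finSuccEquiv k 1).commutes (a 0 / a 1)
      simpa [MvPolynomial.algebraMap_eq, Polynomial.algebraMap_apply] using this
    rw [map_sub, map_mul, finSuccEquiv_X_zero, hX1, finSuccEquiv_X_succ, hC, hr, map_mul]
  have hroot : Polynomial.eval r (finSuccEquiv k 1 F) = 0 := by
    rw [eval_finSuccEquiv]
    set b : Fin 2 → k := fun i => (a 1)⁻¹ * a i with hb
    have hg : (Fin.cons r (fun j => X j) : Fin 2 → MvPolynomial (Fin 1) k) =
        fun i => X 0 * C (b i) := by
      funext i
      refine Fin.cases ?_ (fun j => ?_) i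
      · simp only [Fin.cons_zero, hr, hb]
        rw [mul_comm, div_eq_inv_mul]
      · have hj : j = 0 := Subsingleton.elim _ _
        subst hj
        simp only [Fin.cons_succ, hb]
        have : (a 1)⁻¹ * a (Fin.succ 0) = 1 := inv_mul_cancel₀ h1
        rw [this, map_one, mul_one]
    rw [hg, aeval_mul_of_isHomogeneous F d hF]
    have h3 : aeval (fun i => (C (b i) : MvPolynomial (Fin 1) k)) F = C (eval b F) := by
      have : (fun i => (C (b i) : MvPolynomial (Fin 1) k)) =
          (algebraMap k (MvPolynomial (Fin 1) k)) ∘ b := rfl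
      rw [this, aeval_algebraMap_apply]
      rfl
    have h4 : eval b F = 0 := by
      have h5 := aeval_mul_of_isHomogeneous (S := k) F d hF ((a 1)⁻¹) a
      have h6 : ∀ x : Fin 2 → k, aeval x F = eval x F := fun x => rfl
      rw [h6, h6, h0, mul_zero] at h5
      exact h5
    rw [h3, h4, map_zero, mul_zero]
  have hdvd := Polynomial.dvd_iff_isRoot.2 hroot
  rw [← hH] at hdvd
  exact (map_dvd_iff (finSuccEquiv k 1)).1 hdvd

theorem exists_factor [IsAlgClosed k] (a : Fin 2 → k) (ha : a ≠ 0) :
    ∃ H : MvPolynomial (Fin 2) k, ¬ IsUnit H ∧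
      ∀ (F : MvPolynomial (Fin 2) k) (d : ℕ), F.IsHomogeneous d → eval a F = 0 → H ∣ F := by
  by_cases h1 : a 1 = 0
  · -- swap
    have h0 : a 0 ≠ 0 := by
      intro h0
      apply ha
      funext i
      fin_cases i
      · exact h0
      · exact h1
    set e : Fin 2 → Fin 2 := ⇑(Equiv.swap (0 : Fin 2) 1) with he
    have hinj : Function.Injective e := (Equiv.swap (0 : Fin 2) 1).injective
    have hee : ∀ i, e (e i) = i := fun i => by simp [he]
    set a' : Fin 2 → k := a ∘ e with ha'
    have ha'1 : a' 1 ≠ 0 := by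
      simp only [ha', Function.comp_apply, he, Equiv.swap_apply_right]
      exact h0
    set H' : MvPolynomial (Fin 2) k := X 0 - C (a' 0 / a' 1) * X 1 with hH'
    refine ⟨rename e H', ?_, ?_⟩
    · intro hu
      have hev : eval a (rename e H') = 0 := by
        rw [eval_rename, hH']
        simp only [map_sub, map_mul, eval_X, eval_C]
        change a' 0 - a' 0 / a' 1 * a' 1 = 0
        field_simp
        ring
      have := hu.map (eval a)
      rw [hev] at this
      exact not_isUnit_zero this
    · intro F d hF hF0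
      have h2 : (rename e F).IsHomogeneous d := hF.rename_isHomogeneous
      have h3 : eval a' (rename e F) = 0 := by
        rw [eval_rename]
        have : a' ∘ e = a := by
          funext i
          simp only [ha', Function.comp_apply, hee]
        rw [this]
        exact hF0
      have h4 := dvd_of_eval_eq_zero a' ha'1 (rename e F) d h2 h3
      have h5 := map_dvd (rename e) h4
      rw [rename_rename] at h5
      have : e ∘ e = id := funext hee
      rw [this, rename_id_apply] at h5
      exact h5
  · refine ⟨X 0 - C (a 0 / a 1) * X 1, ?_, fun F d hF hF0 => dvd_of_eval_eq_zero a h1 F d hF hF0⟩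
    intro hu
    have hev : eval a (X 0 - C (a 0 / a 1) * X 1 : MvPolynomial (Fin 2) k) = 0 := by
      simp only [map_sub, map_mul, eval_X, eval_C]
      field_simp
      ring
    have := hu.map (eval a)
    rw [hev] at this
    exact not_isUnit_zero this

end S17077aux

open S17077aux MvPolynomial

namespace Groth.Agent.S17077

/-- Let k be an algebraically closed field and F_0, …, F_{n-1} homogeneous polynomials in k[u, v] (of
possibly different degrees). Then the F_i have a common factor which is not a unit if and only if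
they have a common zero (a, b) ≠ (0, 0) in k², that is, a common zero in the projective line. -/
theorem result
    {k : Type u} [Field k] [IsAlgClosed k] {n : ℕ} (F : Fin n → MvPolynomial (Fin 2) k)
    (d : Fin n → ℕ) (hF : ∀ i, (F i).IsHomogeneous (d i)) :
    (∃ H : MvPolynomial (Fin 2) k, ¬ IsUnit H ∧ ∀ i, H ∣ F i) ↔
      ∃ a : Fin 2 → k, a ≠ 0 ∧ ∀ i, MvPolynomial.eval a (F i) = 0 := by
  constructor
  · rintro ⟨H, hHu, hH⟩
    by_cases hall : ∀ i, F i = 0
    · refine ⟨fun _ => 1, ?_, fun i => by rw [hall i, map_zero]⟩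
      intro h0
      have := congrFun h0 0
      simp at this
    · push Not at hall
      obtain ⟨j, hj⟩ := hall
      have hH0 : H ≠ 0 := by
        rintro rfl
        exact hj (zero_dvd_iff.1 (hH j))
      obtain ⟨a, ha, ha0⟩ := exists_zero H hH0 hHu
      refine ⟨a, ha, fun i => ?_⟩
      obtain ⟨Q, hQ⟩ := hH i
      rw [hQ, map_mul, ha0, zero_mul]
  · rintro ⟨a, ha, ha0⟩
    obtain ⟨H, hHu, hH⟩ := exists_factor a ha
    exact ⟨H, hHu, fun i => hH (F i) (d i) (hF i) (ha0 i)⟩

end Groth.Agent.S17077
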