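import Groth.Statements.S17078
import Mathlib
import Groth.Agent.S17077

set_option autoImplicit false
universe u
open RatCurve

namespace S17078aux
open MvPolynomial

variable {k : Type u} [Field k] {σ : Type*}

theorem homogeneousComponent_mul_right (G F : MvPolynomial σ k) (d m : ℕ) (hF : F.IsHomogeneous d)
    (hdm : d ≤ m) :
    homogeneousComponent m (G * F) = homogeneousComponent (m - d) G * F := by
  conv_lhs => rw [← sum_homogeneousComponent G]
  rw [Finset.sum_mul, map_sum]
  have h1 : ∀ j, homogeneousComponent m (homogeneousComponent j G * F) =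
      if j = m - d then homogeneousComponent j G * F else 0 := by
    intro j
    have hmem : homogeneousComponent j G * F ∈ homogeneousSubmodule σ k (j + d) :=
      (homogeneousComponent_isHomogeneous j G).mul hF
    rw [homogeneousComponent_of_mem hmem]
    have : (m = j + d) ↔ (j = m - d) := by omega
    simp only [this]
  simp only [h1]
  rw [Finset.sum_ite_eq']
  split_ifs with h
  · rfl
  · rw [Finset.mem_range, not_lt] at h
    rw [homogeneousComponent_eq_zero _ _ (by omega), zero_mul]

theorem mem_of_pow_mem (I : Ideal (MvPolynomial (Fin 2) k)) (N : ℕ)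
    (h0 : (X 0 : MvPolynomial (Fin 2) k) ^ N ∈ I) (h1 : (X 1 : MvPolynomial (Fin 2) k) ^ N ∈ I)
    (P : MvPolynomial (Fin 2) k) (m : ℕ) (hm : 2 * N ≤ m) (hP : P.IsHomogeneous m) : P ∈ I := by
  rw [P.as_sum]
  refine Ideal.sum_mem _ fun μ hμ => ?_
  have hdeg : μ 0 + μ 1 = m := by
    have h2 : ∑ i, μ i = m := by
      have := hP (mem_support_iff.1 hμ)
      rw [← Finsupp.degree_eq_sum, Finsupp.degree_eq_weight_one]
      exact this
    rwa [Fin.sum_univ_two] at h2
  have hmon : monomial μ (coeff μ P) = C (coeff μ P) * (X 0 ^ μ 0 * X 1 ^ μ 1) := by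
    rw [monomial_eq, Finsupp.prod_fintype _ _ (fun i => pow_zero _), Fin.prod_univ_two]
  rw [hmon]
  by_cases h : N ≤ μ 0
  · have : (X 0 : MvPolynomial (Fin 2) k) ^ μ 0 = X 0 ^ N * X 0 ^ (μ 0 - N) := by
      rw [← pow_add]; congr 1; omega
    rw [this]
    have h3 := I.mul_mem_left (C (coeff μ P) * X 0 ^ (μ 0 - N) * X 1 ^ μ 1) h0
    convert h3 using 1
    ring
  · have hN : N ≤ μ 1 := by omega
    have : (X 1 : MvPolynomial (Fin 2) k) ^ μ 1 = X 1 ^ N * X 1 ^ (μ 1 - N) := by
      rw [← pow_add]; congr 1; omega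
    rw [this]
    have h3 := I.mul_mem_left (C (coeff μ P) * X 0 ^ μ 0 * X 1 ^ (μ 1 - N)) h1
    convert h3 using 1
    ring

end S17078aux

open S17078aux MvPolynomial

namespace Groth.Agent.S17078

/-- Let k be an algebraically closed field and F_0, …, F_{n-1} homogeneous polynomials of degree d in
k[u, v]. Then the F_i have no common factor other than units if and only if there is an integer m ≥
d such that every homogeneous polynomial of degree m can be written Σ_i F_i G_i with each G_i
homogeneous of degree m − d, i.e. the k-linear map (G_i)_i ↦ Σ_i F_i G_i from n copies of k[u,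
v]_{m−d} to k[u, v]_m is surjective. -/
theorem result
    {k : Type u} [Field k] [IsAlgClosed k] {n : ℕ} (F : Fin n → MvPolynomial (Fin 2) k)
    (d : ℕ) (hF : ∀ i, (F i).IsHomogeneous d) :
    (¬ ∃ H : MvPolynomial (Fin 2) k, ¬ IsUnit H ∧ ∀ i, H ∣ F i) ↔
      ∃ m : ℕ, d ≤ m ∧ ∀ P : MvPolynomial (Fin 2) k, P.IsHomogeneous m →
        ∃ G : Fin n → MvPolynomial (Fin 2) k, (∀ i, (G i).IsHomogeneous (m - d)) ∧
          P = ∑ i, F i * G i := by
  have h77 := Groth.Agent.S17077.result F (fun _ => d) hF
  rw [h77]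
  constructor
  · intro hno
    -- zero locus is contained in {0}
    set I : Ideal (MvPolynomial (Fin 2) k) := Ideal.span (Set.range F) with hI
    have hzero : ∀ a ∈ zeroLocus k I, a = 0 := by
      intro a ha
      by_contra hne
      exact hno ⟨a, hne, fun i => ha (F i) (Ideal.subset_span ⟨i, rfl⟩)⟩
    have hX : ∀ j : Fin 2, (X j : MvPolynomial (Fin 2) k) ∈ I.radical := by
      intro j
      rw [← vanishingIdeal_zeroLocus_eq_radical (K := k), mem_vanishingIdeal_iff]
      intro a ha
      rw [hzero a ha]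
      simp
    obtain ⟨N0, hN0⟩ := hX 0
    obtain ⟨N1, hN1⟩ := hX 1
    set N := max N0 N1 with hN
    have h0 : (X 0 : MvPolynomial (Fin 2) k) ^ N ∈ I := by
      have : N = (N - N0) + N0 := by omega
      rw [this, pow_add]
      exact I.mul_mem_left _ hN0
    have h1 : (X 1 : MvPolynomial (Fin 2) k) ^ N ∈ I := by
      have : N = (N - N1) + N1 := by omega
      rw [this, pow_add]
      exact I.mul_mem_left _ hN1
    refine ⟨d + 2 * N, Nat.le_add_right _ _, fun P hP => ?_⟩
    have hPI : P ∈ I := mem_of_pow_mem I N h0 h1 P (d + 2 * N) (by omega) hP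
    rw [hI, Ideal.mem_span_range_iff_exists_fun] at hPI
    obtain ⟨c, hc⟩ := hPI
    refine ⟨fun i => homogeneousComponent (d + 2 * N - d) (c i),
      fun i => homogeneousComponent_isHomogeneous _ _, ?_⟩
    have h2 : homogeneousComponent (d + 2 * N) P = P := homogeneousComponent_eq_self hP
    rw [← h2, ← hc, map_sum]
    refine Finset.sum_congr rfl fun i _ => ?_
    rw [homogeneousComponent_mul_right (c i) (F i) d (d + 2 * N) (hF i) (Nat.le_add_right _ _),
      mul_comm]
  · rintro ⟨m, hdm, hsurj⟩ ⟨a, ha, ha0⟩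
    obtain ⟨j, hj⟩ : ∃ j, a j ≠ 0 := by
      by_contra hcon
      push Not at hcon
      exact ha (funext hcon)
    obtain ⟨G, _, hG⟩ := hsurj (X j ^ m) (by
      have := (isHomogeneous_X k j).pow m
      rwa [one_mul] at this)
    have := congrArg (eval a) hG
    rw [map_pow, eval_X, map_sum] at this
    have hz : ∑ i, eval a (F i * G i) = 0 :=
      Finset.sum_eq_zero fun i _ => by rw [map_mul, ha0 i, zero_mul]
    rw [hz] at this
    exact pow_ne_zero m hj this

end Groth.Agent.S17078
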