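import Groth.Statements.S17084
-- import your own Groth.Agent.* helpers here
import Groth.Agent.Lib.Helper7.MorSCoprod

set_option autoImplicit false
universe u
open CategoryTheory CategoryTheory.Limits AlgebraicGeometry
open MorSch

namespace Groth.Agent.S17084

/-- Let (X_i)_{i ∈ ι} be a finite family of schemes over S with structure morphisms g_i : X_i → S, let Y
→ S be a scheme over S and T an S-scheme. Then for every family of S-morphisms a_i : T ×_S X_i → Y
there is a unique S-morphism b : T ×_S (∐_i X_i) → Y whose restriction along each T ×_S X_i → T ×_S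
(∐_i X_i) is a_i. In other words the canonical map Mor_S(∐_i X_i, Y) → ∏_i Mor_S(X_i, Y) of functors
on S-schemes is an isomorphism. -/
theorem result
    {S Y : Scheme.{u}} {ι : Type u} [Finite ι] (X : ι → Scheme.{u}) (g : ∀ i, X i ⟶ S)
    (gY : Y ⟶ S) (T : Over S) (a : ∀ i, (Flatn.morS (g i) gY).obj (Opposite.op T)) :
    ∃! b : (Flatn.morS (Sigma.desc g) gY).obj (Opposite.op T),
      ∀ i, pullback.map T.hom (g i) T.hom (Sigma.desc g) (𝟙 T.left) (Sigma.ι X i) (𝟙 S)
          ((Category.comp_id _).trans (Category.id_comp _).symm)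
          ((Category.comp_id _).trans (Sigma.ι_desc g i).symm) ≫ b.left = (a i).left := by
  obtain ⟨b₀, ⟨hb₀, hb₁⟩, huniq⟩ := Groth.Agent.Helper7.MorSCoprod.existsUnique X g gY T.hom
    (fun i => (a i).left) (fun i => Over.w (a i))
  refine ⟨Over.homMk b₀ hb₀, fun i => hb₁ i, fun b' hb' => ?_⟩
  refine Over.OverMorphism.ext ?_
  exact huniq b'.left ⟨Over.w b', fun i => hb' i⟩

end Groth.Agent.S17084
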