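import Groth.Statements.S1709
-- import your own Groth.Agent.* helpers here
import Mathlib
import Groth.Agent.Lib.Helper7.CohStalk.Pushforward2

set_option autoImplicit false
universe u
open CategoryTheory CategoryTheory.Limits AlgebraicGeometry TopologicalSpace
open SDiv

namespace Groth.Agent.S1709

/-- Let f : X ⟶ S be an affine morphism with X locally Noetherian and F a quasi-coherent module on X.
Then the following subsets of S coincide: the image of the associated points of F, the associated
points of f_* F, the weakly associated points of f_* F, and the image of the weakly associated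
points of F. -/
theorem result {X S : Scheme.{u}} (f : X ⟶ S) [IsAffineHom f] [IsLocallyNoetherian X] (F : X.Modules)
    (hF : Coh.IsQCoh F) :
    (fun x => f x) '' {x : ↥X | Curv2.IsAssPoint F x} = {s : ↥S | Curv2.IsAssPoint ((Scheme.Modules.pushforward f).obj F) s} ∧
      {s : ↥S | Curv2.IsAssPoint ((Scheme.Modules.pushforward f).obj F) s} =
        {s : ↥S | Curv2.IsWeakAssPoint ((Scheme.Modules.pushforward f).obj F) s} ∧
      {s : ↥S | Curv2.IsWeakAssPoint ((Scheme.Modules.pushforward f).obj F) s} =
        (fun x => f x) '' {x : ↥X | Curv2.IsWeakAssPoint F x} := by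
  have h3 : {s : ↥S | Curv2.IsWeakAssPoint ((Scheme.Modules.pushforward f).obj F) s} =
      (fun x => f x) '' {x : ↥X | Curv2.IsWeakAssPoint F x} := by
    ext s
    constructor
    · intro hs
      obtain ⟨x, hx, hxw⟩ :=
        Groth.Agent.Helper7.FinType.exists_isWeakAssPoint_of_pushforward f F hF s hs
      exact ⟨x, hxw, hx⟩
    · rintro ⟨x, hx, rfl⟩
      exact Groth.Agent.Helper7.FinType.isWeakAssPoint_pushforward_of_isWeakAssPoint f F hF x hx
  have h2 : {s : ↥S | Curv2.IsAssPoint ((Scheme.Modules.pushforward f).obj F) s} =
      {s : ↥S | Curv2.IsWeakAssPoint ((Scheme.Modules.pushforward f).obj F) s} := by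
    ext s
    exact Groth.Agent.Helper7.FinType.isAssPoint_iff_isWeakAssPoint _ s
  have h0 : {x : ↥X | Curv2.IsAssPoint F x} = {x : ↥X | Curv2.IsWeakAssPoint F x} := by
    ext x
    exact Groth.Agent.Helper7.FinType.isAssPoint_iff_isWeakAssPoint _ x
  refine ⟨?_, h2, h3⟩
  rw [h0, h2, h3]

end Groth.Agent.S1709
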