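import Groth.Statements.S17171
import Mathlib
-- import your own Groth.Agent.* helpers here

set_option autoImplicit false
open QSymFn

namespace Groth.Agent.S17171

namespace Aux

open Finsupp

/-- decomposition of a finsupp on `Fin n` along the increasing enumeration of its support -/
lemma decomp {n : ℕ} (e : Fin n →₀ ℕ) :
    e = ∑ t : Fin e.support.card,
      Finsupp.single (e.support.orderEmbOfFin rfl t) (e (e.support.orderEmbOfFin rfl t)) := by
  calc e = e.sum Finsupp.single := (Finsupp.sum_single e).symm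
    _ = ∑ x ∈ e.support, Finsupp.single x (e x) := rfl
    _ = ∑ x ∈ Finset.univ.map (e.support.orderEmbOfFin rfl).toEmbedding,
          Finsupp.single x (e x) := by rw [Finset.map_orderEmbOfFin_univ]
    _ = _ := Finset.sum_map _ _ _

lemma decomp_pos {n : ℕ} (e : Fin n →₀ ℕ) (t : Fin e.support.card) :
    0 < e (e.support.orderEmbOfFin rfl t) := by
  have := Finset.orderEmbOfFin_mem e.support rfl t
  rw [Finsupp.mem_support_iff] at this
  omega

lemma mapDomain_sum_single {α β : Type*} {ℓ : ℕ} (g : α → β) (s : Fin ℓ → α) (a : Fin ℓ → ℕ) :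
    Finsupp.mapDomain g (∑ t : Fin ℓ, Finsupp.single (s t) (a t)) =
      ∑ t : Fin ℓ, Finsupp.single (g (s t)) (a t) := by
  rw [Finsupp.mapDomain_finsetSum]
  apply Finset.sum_congr rfl
  intro t _
  rw [Finsupp.mapDomain_single]

/-- quasisymmetry -/
def QS (F : MvPowerSeries ℕ ℤ) : Prop :=
  ∀ (ℓ : ℕ) (i j : Fin ℓ → ℕ) (a : Fin ℓ → ℕ), StrictMono i → StrictMono j → (∀ t, 0 < a t) →
    MvPowerSeries.coeff (∑ t : Fin ℓ, Finsupp.single (i t) (a t)) F =
      MvPowerSeries.coeff (∑ t : Fin ℓ, Finsupp.single (j t) (a t)) F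

theorem partA (F : MvPowerSeries ℕ ℤ) (hF : QS F) (n m : ℕ) (φ : Fin n ↪o Fin m)
    (e : Fin n →₀ ℕ) :
    MvPowerSeries.coeff (Finsupp.mapDomain Fin.val e) F =
      MvPowerSeries.coeff (Finsupp.mapDomain Fin.val (Finsupp.mapDomain φ e)) F := by
  have h1 := decomp e
  set s := e.support.orderEmbOfFin rfl with hs
  set a : Fin e.support.card → ℕ := fun t => e (s t) with ha
  have e1 : Finsupp.mapDomain Fin.val e = ∑ t, Finsupp.single ((s t).val) (a t) := by
    conv_lhs => rw [h1]
    exact mapDomain_sum_single Fin.val s a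
  have e2 : Finsupp.mapDomain Fin.val (Finsupp.mapDomain φ e) =
      ∑ t, Finsupp.single ((φ (s t)).val) (a t) := by
    conv_lhs => rw [h1]
    rw [mapDomain_sum_single (⇑φ) s a]
    exact mapDomain_sum_single Fin.val (fun t => φ (s t)) a
  rw [e1, e2]
  apply hF
  · intro x y hxy
    exact Fin.lt_def.mp (s.strictMono hxy)
  · intro x y hxy
    exact Fin.lt_def.mp (φ.strictMono (s.strictMono hxy))
  · intro t
    exact decomp_pos e t

/-- the bound on the support -/
def bd (E : ℕ →₀ ℕ) : ℕ := E.support.sup (fun x => x + 1)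

lemma lt_bd (E : ℕ →₀ ℕ) {x : ℕ} (hx : x ∈ E.support) : x < bd E := by
  have : x + 1 ≤ bd E := Finset.le_sup (f := fun x => x + 1) hx
  omega

/-- restriction of a finsupp on `ℕ` to `Fin n` -/
noncomputable def lower (n : ℕ) (E : ℕ →₀ ℕ) : Fin n →₀ ℕ :=
  Finsupp.comapDomain Fin.val E Fin.val_injective.injOn

lemma map_lower (n : ℕ) (E : ℕ →₀ ℕ) (h : ∀ x ∈ E.support, x < n) :
    Finsupp.mapDomain Fin.val (lower n E) = E := by
  apply Finsupp.mapDomain_comapDomain _ Fin.val_injective
  intro x hx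
  exact ⟨⟨x, h x hx⟩, rfl⟩

lemma support_map_lt {n : ℕ} (e : Fin n →₀ ℕ) : ∀ x ∈ (Finsupp.mapDomain Fin.val e).support, x < n := by
  intro x hx
  classical
  have := Finsupp.mapDomain_support hx
  rw [Finset.mem_image] at this
  obtain ⟨y, _, rfl⟩ := this
  exact y.2

theorem partB (d : ℕ) (f : (n : ℕ) → MvPolynomial (Fin n) ℤ)
    (hhom : ∀ n, (f n).IsHomogeneous d)
    (hcomp : ∀ (n m : ℕ) (φ : Fin n ↪o Fin m) (e : Fin n →₀ ℕ),
        MvPolynomial.coeff e (f n) = MvPolynomial.coeff (Finsupp.mapDomain φ e) (f m)) :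
    ∃! F : MvPowerSeries ℕ ℤ, QS F ∧
      (∀ e : ℕ →₀ ℕ, MvPowerSeries.coeff e F ≠ 0 → e.degree = d) ∧
      (∀ (n : ℕ) (e : Fin n →₀ ℕ),
          MvPowerSeries.coeff (Finsupp.mapDomain Fin.val e) F = MvPolynomial.coeff e (f n)) := by
  classical
  let F : MvPowerSeries ℕ ℤ := fun E => MvPolynomial.coeff (lower (bd E) E) (f (bd E))
  have hFc : ∀ E, MvPowerSeries.coeff E F = MvPolynomial.coeff (lower (bd E) E) (f (bd E)) :=
    fun E => rfl
  -- restriction property
  have hres : ∀ (n : ℕ) (e : Fin n →₀ ℕ),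
      MvPowerSeries.coeff (Finsupp.mapDomain Fin.val e) F = MvPolynomial.coeff e (f n) := by
    intro n e
    set E := Finsupp.mapDomain Fin.val e with hE
    have hlt := support_map_lt e
    have hle : bd E ≤ n := by
      apply Finset.sup_le
      intro x hx
      exact hlt x hx
    rw [hFc, hcomp (bd E) n (Fin.castLEOrderEmb hle)]
    congr 1
    apply Finsupp.mapDomain_injective Fin.val_injective
    rw [← Finsupp.mapDomain_comp]
    have : (Fin.val ∘ ⇑(Fin.castLEOrderEmb hle)) = (Fin.val : Fin (bd E) → ℕ) := by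
      funext x; rfl
    rw [this, map_lower (bd E) E (fun x hx => lt_bd E hx)]
  refine ⟨F, ⟨?_, ?_, hres⟩, ?_⟩
  · -- quasisymmetric
    intro ℓ i j a hi hj ha
    let Nn : ℕ := (Finset.univ.sup fun t => i t + 1) ⊔ (Finset.univ.sup fun t => j t + 1)
    have hiN : ∀ t, i t < Nn := by
      intro t
      have : i t + 1 ≤ Finset.univ.sup fun t => i t + 1 :=
        Finset.le_sup (f := fun t => i t + 1) (Finset.mem_univ t)
      have h2 : (Finset.univ.sup fun t => i t + 1) ≤ Nn := le_sup_left
      omega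
    have hjN : ∀ t, j t < Nn := by
      intro t
      have : j t + 1 ≤ Finset.univ.sup fun t => j t + 1 :=
        Finset.le_sup (f := fun t => j t + 1) (Finset.mem_univ t)
      have h2 : (Finset.univ.sup fun t => j t + 1) ≤ Nn := le_sup_right
      omega
    let e0 : Fin ℓ →₀ ℕ := ∑ t : Fin ℓ, Finsupp.single t (a t)
    have key : ∀ (i : Fin ℓ → ℕ) (hi : StrictMono i) (hiN : ∀ t, i t < Nn),
        MvPowerSeries.coeff (∑ t : Fin ℓ, Finsupp.single (i t) (a t)) F =
          MvPolynomial.coeff e0 (f ℓ) := by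
      intro i hi hiN
      let φ : Fin ℓ ↪o Fin Nn := OrderEmbedding.ofStrictMono (fun t => ⟨i t, hiN t⟩)
        (fun x y hxy => Fin.lt_def.mpr (hi hxy))
      have h1 : (∑ t : Fin ℓ, Finsupp.single (i t) (a t)) =
          Finsupp.mapDomain Fin.val (Finsupp.mapDomain φ e0) := by
        rw [mapDomain_sum_single (⇑φ) (fun t => t) a,
          mapDomain_sum_single Fin.val (fun t => φ t) a]
        rfl
      rw [h1, hres, ← hcomp]
    rw [key i hi hiN, key j hj hjN]
  · -- degree
    intro E hE
    rw [hFc] at hE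
    have h1 := hhom (bd E) hE
    rw [← map_lower (bd E) E (fun x hx => lt_bd E hx), Finsupp.degree_mapDomain,
      Finsupp.degree_eq_weight_one]
    exact h1
  · -- uniqueness
    rintro F' ⟨_, _, hres'⟩
    ext E
    have hE := map_lower (bd E) E (fun x hx => lt_bd E hx)
    rw [← hE, hres', hres]

end Aux

/-- The ring QSym of quasisymmetric functions over ℤ, with its restriction maps to the polynomial rings
in finitely many ordered variables, is the limit of the diagram S ↦ ℤ[α_s : s ∈ S] over finite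
ordered sets S and order-preserving injections (an injection φ : S → T acting by α_t ↦ α_s when t =
φ s and α_t ↦ 0 otherwise), the limit being taken in graded rings. Stated here on degree-d
components, with the variables indexed by ℕ in place of the positive integers and the finite ordered
sets taken to be the Fin n: (a) if F is a formal power series over ℤ in variables indexed by ℕ which
is quasisymmetric (for strictly increasing i, j : Fin ℓ → ℕ and positive exponents a, the
coefficients of ∏ x_{i t}^{a t} and ∏ x_{j t}^{a t} agree) and all of whose monomials have degree d,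
then its restrictions to the initial segments Fin n ⊂ ℕ are compatible with every order embedding
Fin n ↪o Fin m; (b) every family of degree-d homogeneous polynomials f n ∈ ℤ[x_s : s ∈ Fin n],
compatible with all order embeddings Fin n ↪o Fin m in this sense, is the family of restrictions of
exactly one such quasisymmetric F of degree d. -/
theorem result (d : ℕ) :
    (∀ F : MvPowerSeries ℕ ℤ,
      (∀ (ℓ : ℕ) (i j : Fin ℓ → ℕ) (a : Fin ℓ → ℕ), StrictMono i → StrictMono j → (∀ t, 0 < a t) →
        MvPowerSeries.coeff (∑ t : Fin ℓ, Finsupp.single (i t) (a t)) F =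
          MvPowerSeries.coeff (∑ t : Fin ℓ, Finsupp.single (j t) (a t)) F) →
      (∀ e : ℕ →₀ ℕ, MvPowerSeries.coeff e F ≠ 0 → e.degree = d) →
      ∀ (n m : ℕ) (φ : Fin n ↪o Fin m) (e : Fin n →₀ ℕ),
        MvPowerSeries.coeff (Finsupp.mapDomain Fin.val e) F =
          MvPowerSeries.coeff (Finsupp.mapDomain Fin.val (Finsupp.mapDomain φ e)) F) ∧
    (∀ f : (n : ℕ) → MvPolynomial (Fin n) ℤ,
      (∀ n, (f n).IsHomogeneous d) →
      (∀ (n m : ℕ) (φ : Fin n ↪o Fin m) (e : Fin n →₀ ℕ),
        MvPolynomial.coeff e (f n) = MvPolynomial.coeff (Finsupp.mapDomain φ e) (f m)) →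
      ∃! F : MvPowerSeries ℕ ℤ,
        (∀ (ℓ : ℕ) (i j : Fin ℓ → ℕ) (a : Fin ℓ → ℕ), StrictMono i → StrictMono j → (∀ t, 0 < a t) →
          MvPowerSeries.coeff (∑ t : Fin ℓ, Finsupp.single (i t) (a t)) F =
            MvPowerSeries.coeff (∑ t : Fin ℓ, Finsupp.single (j t) (a t)) F) ∧
        (∀ e : ℕ →₀ ℕ, MvPowerSeries.coeff e F ≠ 0 → e.degree = d) ∧
        (∀ (n : ℕ) (e : Fin n →₀ ℕ),
          MvPowerSeries.coeff (Finsupp.mapDomain Fin.val e) F = MvPolynomial.coeff e (f n))) := by
  exact ⟨fun F hqs _ n m φ e => Aux.partA F hqs n m φ e, fun f hhom hcomp => Aux.partB d f hhom hcomp⟩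

end Groth.Agent.S17171
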