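import Groth.Statements.S17173
import Mathlib
import Groth.Agent.Lib.Helper4.BI

set_option autoImplicit false
universe u
open LabGraph

namespace Groth.Agent.S17173

namespace H17173
open LabGraph Groth.Agent.Helper4.BI

variable {V E : Type u} [Fintype V] [Fintype E] [DecidableEq V] [DecidableEq E]

/-- upper bounds for all `Y` give the Basic Inequality -/
theorem bi_of_upper (ends : E → V × V) (w : V → ℕ) (d : V → ℤ)
    (hup : ∀ Y : Finset V, 2 * (canDeg ends w Finset.univ * (∑ v ∈ Y, d v) - (∑ v, d v) * canDeg ends w Y)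
      ≤ (cut ends Y : ℤ) * canDeg ends w Finset.univ) : SatisfiesBI ends w d := by
  intro Y
  have u1 := hup Y
  have u2 := hup Yᶜ
  rw [cut_compl, canDeg_compl] at u2
  have hs : ∑ v ∈ Yᶜ, d v = (∑ v, d v) - ∑ v ∈ Y, d v := by
    rw [← Finset.sum_add_sum_compl Y]; ring
  rw [hs] at u2
  rcases abs_cases (canDeg ends w Finset.univ * (∑ v ∈ Y, d v) - (∑ v, d v) * canDeg ends w Y) with ⟨h, _⟩ | ⟨h, _⟩
  · rw [h]; exact u1
  · rw [h]; linarith

/-- the (scaled) energy -/
def F (ends : E → V × V) (K : ℤ) (c : V → ℤ) (φ : V → ℤ) : ℤ :=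
  K * ∑ e : E, (φ (ends e).1 - φ (ends e).2) ^ 2 - 2 * ∑ v, c v * φ v

theorem F_step (ends : E → V × V) (K : ℤ) (c φ : V → ℤ) (Y : Finset V) :
    F ends K c (fun v => φ v + if v ∈ Y then 1 else 0) - F ends K c φ =
      -2 * K * ∑ v ∈ Y, twist ends φ v + K * cut ends Y - 2 * ∑ v ∈ Y, c v := by
  unfold F
  rw [sum_twist, cut_cast]
  have h1 : ∑ v, c v * (φ v + if v ∈ Y then 1 else 0) = ∑ v, c v * φ v + ∑ v ∈ Y, c v := by
    simp_rw [mul_add]
    rw [Finset.sum_add_distrib]
    congr 1
    simp
  have h2 : ∑ e : E, ((φ (ends e).1 + if (ends e).1 ∈ Y then 1 else 0) - (φ (ends e).2 + if (ends e).2 ∈ Y then 1 else 0)) ^ 2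
      = ∑ e : E, (φ (ends e).1 - φ (ends e).2) ^ 2
        + (-2) * ∑ e : E, ((if (ends e).1 ∈ Y then φ (ends e).2 - φ (ends e).1 else 0)
            + (if (ends e).2 ∈ Y then φ (ends e).1 - φ (ends e).2 else 0))
        + ∑ e : E, (if Cr ends Y e then (1 : ℤ) else 0) := by
    rw [Finset.mul_sum, ← Finset.sum_add_distrib, ← Finset.sum_add_distrib]
    apply Finset.sum_congr rfl
    intro e _
    unfold Cr
    by_cases a1 : (ends e).1 ∈ Y <;> by_cases a2 : (ends e).2 ∈ Y <;> simp [a1, a2] <;> ring
  rw [h1, h2]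
  ring

theorem bound_diff (ends : E → V × V) (hconn : Connected ends) (φ : V → ℤ) (g : ℤ) (hg0 : 0 ≤ g)
    (hg : ∀ e : E, |φ (ends e).1 - φ (ends e).2| ≤ g) (v0 v : V) :
    |φ v - φ v0| ≤ (Fintype.card V : ℤ) * g := by
  classical
  have key : ∀ k : ℕ, Finset.univ.filter (fun v => |φ v - φ v0| ≤ (k : ℤ) * g) = Finset.univ ∨
      k + 1 ≤ (Finset.univ.filter (fun v => |φ v - φ v0| ≤ (k : ℤ) * g)).card := by
    intro k
    induction k with
    | zero =>
      right
      have : v0 ∈ Finset.univ.filter (fun v => |φ v - φ v0| ≤ ((0 : ℕ) : ℤ) * g) := by simp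
      have := Finset.card_pos.2 ⟨v0, this⟩
      omega
    | succ k ih =>
      have hmono : Finset.univ.filter (fun v => |φ v - φ v0| ≤ (k : ℤ) * g) ⊆
          Finset.univ.filter (fun v => |φ v - φ v0| ≤ ((k + 1 : ℕ) : ℤ) * g) := by
        intro x hx
        rw [Finset.mem_filter] at hx ⊢
        refine ⟨hx.1, le_trans hx.2 ?_⟩
        push_cast
        nlinarith
      rcases ih with h | h
      · left
        apply Finset.eq_univ_of_forall
        intro x
        exact hmono (by rw [h]; exact Finset.mem_univ x)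
      · by_cases hall : Finset.univ.filter (fun v => |φ v - φ v0| ≤ (k : ℤ) * g) = Finset.univ
        · left
          apply Finset.eq_univ_of_forall
          intro x
          exact hmono (by rw [hall]; exact Finset.mem_univ x)
        · right
          have hne : (Finset.univ.filter (fun v => |φ v - φ v0| ≤ (k : ℤ) * g)).Nonempty := by
            rw [← Finset.card_pos]; omega
          obtain ⟨e, he⟩ := exists_crossing ends hconn _ hne hall
          have hlt : Finset.univ.filter (fun v => |φ v - φ v0| ≤ (k : ℤ) * g) ⊂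
              Finset.univ.filter (fun v => |φ v - φ v0| ≤ ((k + 1 : ℕ) : ℤ) * g) := by
            rw [Finset.ssubset_iff_of_subset hmono]
            have hge := hg e
            unfold Cr at he
            simp only [Finset.mem_filter, Finset.mem_univ, true_and] at he ⊢
            rcases he with ⟨a1, a2⟩ | ⟨a1, a2⟩
            · refine ⟨(ends e).2, ?_, a2⟩
              have : φ (ends e).2 - φ v0 = (φ (ends e).1 - φ v0) - (φ (ends e).1 - φ (ends e).2) := by ring
              rw [this]
              refine le_trans (abs_sub _ _) ?_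
              push_cast
              linarith
            · refine ⟨(ends e).1, ?_, a1⟩
              have : φ (ends e).1 - φ v0 = (φ (ends e).2 - φ v0) + (φ (ends e).1 - φ (ends e).2) := by ring
              rw [this]
              refine le_trans (abs_add_le _ _) ?_
              push_cast
              linarith
          have := Finset.card_lt_card hlt
          omega
  rcases key (Fintype.card V) with h | h
  · have : v ∈ Finset.univ.filter (fun v => |φ v - φ v0| ≤ ((Fintype.card V : ℕ) : ℤ) * g) := by rw [h]; exact Finset.mem_univ v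
    exact (Finset.mem_filter.1 this).2
  · have := Finset.card_le_univ (Finset.univ.filter (fun v => |φ v - φ v0| ≤ ((Fintype.card V : ℕ) : ℤ) * g))
    omega

theorem exists_g (ends : E → V × V) (φ : V → ℤ) :
    ∃ g : ℤ, 0 ≤ g ∧ (∀ e : E, |φ (ends e).1 - φ (ends e).2| ≤ g) ∧
      g ^ 2 ≤ ∑ e : E, (φ (ends e).1 - φ (ends e).2) ^ 2 := by
  rcases isEmpty_or_nonempty E with hE | hE
  · exact ⟨0, le_refl _, fun e => hE.elim e, by simp⟩
  · obtain ⟨e0, -, he0⟩ := Finset.exists_max_image Finset.univ
      (fun e : E => |φ (ends e).1 - φ (ends e).2|) Finset.univ_nonempty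
    refine ⟨|φ (ends e0).1 - φ (ends e0).2|, abs_nonneg _, fun e => he0 e (Finset.mem_univ e), ?_⟩
    rw [sq_abs]
    exact Finset.single_le_sum (f := fun e : E => (φ (ends e).1 - φ (ends e).2) ^ 2)
      (fun e _ => sq_nonneg _) (Finset.mem_univ e0)

theorem F_bdd (ends : E → V × V) (hconn : Connected ends) (K : ℤ) (hK : 1 ≤ K) (c : V → ℤ)
    (hc : ∑ v, c v = 0) : ∃ B : ℤ, ∀ φ : V → ℤ, B ≤ F ends K c φ := by
  refine ⟨-((∑ v, |c v|) * (Fintype.card V : ℤ)) ^ 2, ?_⟩
  intro φ
  obtain ⟨g, hg0, hg, hgQ⟩ := exists_g ends φ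
  obtain ⟨v0⟩ := hconn.1
  have hS : ∑ v, c v * φ v ≤ (∑ v, |c v|) * (Fintype.card V : ℤ) * g := by
    have h1 : ∑ v, c v * φ v = ∑ v, c v * (φ v - φ v0) := by
      simp_rw [mul_sub]
      rw [Finset.sum_sub_distrib, ← Finset.sum_mul, hc]; ring
    rw [h1, Finset.sum_mul, Finset.sum_mul]
    apply Finset.sum_le_sum
    intro v _
    calc c v * (φ v - φ v0) ≤ |c v * (φ v - φ v0)| := le_abs_self _
      _ = |c v| * |φ v - φ v0| := abs_mul _ _
      _ ≤ |c v| * ((Fintype.card V : ℤ) * g) :=
        mul_le_mul_of_nonneg_left (bound_diff ends hconn φ g hg0 hg v0 v) (abs_nonneg _)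
      _ = |c v| * (Fintype.card V : ℤ) * g := by ring
  unfold F
  have hQ0 : 0 ≤ ∑ e : E, (φ (ends e).1 - φ (ends e).2) ^ 2 := Finset.sum_nonneg (fun e _ => sq_nonneg _)
  generalize ∑ e : E, (φ (ends e).1 - φ (ends e).2) ^ 2 = Q at *
  generalize (∑ v, |c v|) * (Fintype.card V : ℤ) = P at *
  generalize ∑ v, c v * φ v = S at *
  nlinarith [mul_nonneg (sub_nonneg.2 hK) hQ0, sq_nonneg (g - P)]

theorem main (ends : E → V × V) (w : V → ℕ) (hX : IsQuasistableGraph ends w)
    (hg : 3 ≤ genus ends w) (d : V → ℤ) :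
    ∃ d' : V → ℤ, TwistEquiv ends d' d ∧ SatisfiesBI ends w d' := by
  classical
  have hK : 0 < canDeg ends w Finset.univ := canDeg_univ_pos ends w (by linarith)
  have hconn : Connected ends := hX.1.1
  have hc : ∑ v, (canDeg ends w Finset.univ * d v - (∑ u, d u) *
      (2 * (w v : ℤ) - 2 + (endCount ends Finset.univ v : ℤ))) = 0 := by
    rw [Finset.sum_sub_distrib, ← Finset.mul_sum, ← Finset.mul_sum]
    unfold canDeg
    ring
  obtain ⟨B, hB⟩ := F_bdd ends hconn (canDeg ends w Finset.univ) (by linarith) _ hc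
  obtain ⟨lb, ⟨φ, hφ⟩, hmin⟩ := Int.exists_least_of_bdd
    (P := fun z => ∃ φ : V → ℤ, F ends (canDeg ends w Finset.univ) (fun v => canDeg ends w Finset.univ * d v - (∑ u, d u) *
      (2 * (w v : ℤ) - 2 + (endCount ends Finset.univ v : ℤ))) φ = z)
    ⟨B, fun z ⟨φ, h⟩ => h ▸ hB φ⟩ ⟨_, fun _ => 0, rfl⟩
  refine ⟨fun v => d v + twist ends φ v, ⟨φ, fun v => by ring⟩, ?_⟩
  apply bi_of_upper
  intro Y
  have h1 := hmin _ ⟨fun v => φ v + if v ∈ Y then 1 else 0, rfl⟩
  rw [← hφ] at h1
  have h2 := F_step ends (canDeg ends w Finset.univ) (fun v => canDeg ends w Finset.univ * d v - (∑ u, d u) *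
      (2 * (w v : ℤ) - 2 + (endCount ends Finset.univ v : ℤ))) φ Y
  have h3 : ∑ v ∈ Y, (canDeg ends w Finset.univ * d v - (∑ u, d u) *
      (2 * (w v : ℤ) - 2 + (endCount ends Finset.univ v : ℤ))) =
      canDeg ends w Finset.univ * ∑ v ∈ Y, d v - (∑ u, d u) * canDeg ends w Y := by
    rw [Finset.sum_sub_distrib, ← Finset.mul_sum, ← Finset.mul_sum]
    rfl
  have h4 : ∑ v, (d v + twist ends φ v) = ∑ v, d v := by
    rw [Finset.sum_add_distrib, sum_twist_univ, add_zero]
  rw [h4, Finset.sum_add_distrib]
  rw [h3] at h2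
  linarith
end H17173

open LabGraph in
/-- Let Γ be the weighted dual graph of a quasistable curve X of genus g ≥ 3 over an algebraically
closed field (vertices the irreducible components C_v with weight the geometric genus, one edge per
node, a loop for a node on a single component): Γ is connected, every weight-zero vertex without
loop is joined to the other vertices by at least two edges, and no edge joins two exceptional
vertices (weight zero, no loop, exactly two edges to other vertices). Let d be a multidegree of any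
total degree D (the combinatorial section fixes an arbitrary integer d; g ≥ 3 is the paper's
standing assumption). Then the degree class of d contains a representative satisfying the Basic
Inequality: there is a multidegree d', differing from d by the twist of some integer vertex
labelling (the multidegree of a divisor Σ φ_v C_v on the total space of a regular smoothing), such
that for every set Y of vertices 2·|(2g - 2)·d'_Y - D·canDeg Y| ≤ cut Y·(2g - 2), where canDeg Y = 2
g_Y - 2 + cut Y is the degree of the dualizing sheaf on the subcurve Y and cut Y the number of nodes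
where Y meets the rest of X. -/
theorem result {V E : Type u} [Fintype V] [Fintype E]
    [DecidableEq V] [DecidableEq E] (ends : E → V × V) (w : V → ℕ) (hX : IsQuasistableGraph ends w)
    (hg : 3 ≤ genus ends w) (d : V → ℤ) :
    ∃ d' : V → ℤ, TwistEquiv ends d' d ∧ SatisfiesBI ends w d' := by
  exact H17173.main ends w hX hg d

end Groth.Agent.S17173
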