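import Groth.Statements.S17179
import Mathlib
import Groth.Agent.Lib.Helper4.BI

set_option autoImplicit false
universe u
open LabGraph

namespace Groth.Agent.S17179

namespace H17179
open LabGraph Groth.Agent.Helper4.BI

variable {V E : Type u} [Fintype V] [Fintype E] [DecidableEq V] [DecidableEq E]

theorem main (ends : E → V × V) (w : V → ℕ)
    (hg : 3 ≤ genus ends w) (d : V → ℤ) (hBI : SatisfiesBI ends w d) (Z : Finset V)
    (hZ : 2 * (canDeg ends w Finset.univ * (∑ v ∈ Z, d v) - (∑ v : V, d v) * canDeg ends w Z) =
      (cut ends Z : ℤ) * canDeg ends w Finset.univ) :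
    SatisfiesBI ends w (fun v => d v + twist ends (fun u => if u ∈ Z then 1 else 0) v) := by
  classical
  have hK : 0 < canDeg ends w Finset.univ := canDeg_univ_pos ends w (by linarith)
  have hD : ∑ v : V, (d v + twist ends (fun u => if u ∈ Z then 1 else 0) v) = ∑ v, d v := by
    rw [Finset.sum_add_distrib, sum_twist_univ, add_zero]
  -- upper bound for all Y
  have hup : ∀ Y : Finset V,
      2 * (canDeg ends w Finset.univ * (∑ v ∈ Y, (d v + twist ends (fun u => if u ∈ Z then 1 else 0) v))
        - (∑ v : V, d v) * canDeg ends w Y) ≤ (cut ends Y : ℤ) * canDeg ends w Finset.univ := by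
    intro Y
    have b1 := le_trans (mul_le_mul_of_nonneg_left (le_abs_self _) (by norm_num : (0:ℤ) ≤ 2)) (hBI (Y ∪ Z))
    have b2 := le_trans (mul_le_mul_of_nonneg_left (le_abs_self _) (by norm_num : (0:ℤ) ≤ 2)) (hBI (Y ∩ Z))
    have hd : ∑ v ∈ Y ∪ Z, d v + ∑ v ∈ Y ∩ Z, d v = ∑ v ∈ Y, d v + ∑ v ∈ Z, d v := Finset.sum_union_inter
    have hc := canDeg_union_inter ends w Y Z
    have hedge : (cut ends (Y ∪ Z) : ℤ) + cut ends (Y ∩ Z) - cut ends Z
        + 2 * ∑ v ∈ Y, twist ends (fun u => if u ∈ Z then 1 else 0) v ≤ cut ends Y := by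
      rw [sum_twist, cut_cast, cut_cast, cut_cast, cut_cast, Finset.mul_sum, ← Finset.sum_add_distrib,
        ← Finset.sum_sub_distrib, ← Finset.sum_add_distrib]
      apply Finset.sum_le_sum
      intro e _
      exact edge_ineq ends Y Z e
    have hedgeK := mul_le_mul_of_nonneg_right hedge hK.le
    rw [Finset.sum_add_distrib]
    generalize canDeg ends w Finset.univ = K at *
    generalize ∑ v ∈ Y, twist ends (fun u => if u ∈ Z then 1 else 0) v = tY at *
    generalize ∑ v ∈ Y ∪ Z, d v = dU at *
    generalize ∑ v ∈ Y ∩ Z, d v = dI at *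
    generalize ∑ v ∈ Y, d v = dY at *
    generalize ∑ v ∈ Z, d v = dZ at *
    generalize ∑ v, d v = D at *
    generalize canDeg ends w (Y ∪ Z) = cU at *
    generalize canDeg ends w (Y ∩ Z) = cI at *
    generalize canDeg ends w Y = cY at *
    generalize canDeg ends w Z = cZ at *
    have e1 : dY = dU + dI - dZ := by linarith
    have e2 : cY = cU + cI - cZ := by linarith
    subst e1 e2
    nlinarith
  intro Y
  rw [hD]
  have u1 := hup Y
  have u2 := hup Yᶜ
  rw [cut_compl, canDeg_compl] at u2
  have hs : ∑ v ∈ Yᶜ, (d v + twist ends (fun u => if u ∈ Z then 1 else 0) v)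
      = (∑ v, d v) - ∑ v ∈ Y, (d v + twist ends (fun u => if u ∈ Z then 1 else 0) v) := by
    rw [← hD, ← Finset.sum_add_sum_compl Y]; ring
  rw [hs] at u2
  rcases abs_cases (canDeg ends w Finset.univ * ∑ v ∈ Y, (d v + twist ends (fun u => if u ∈ Z then 1 else 0) v) -
      (∑ v, d v) * canDeg ends w Y) with ⟨h, _⟩ | ⟨h, _⟩
  · rw [h]; exact u1
  · rw [h]; linarith
end H17179

open LabGraph in
/-- Let Γ be the weighted dual graph of a Deligne–Mumford semistable curve X of genus g ≥ 3 (connected;
every weight-zero vertex without loop joined to the other vertices by at least two edges), d a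
multidegree of total degree D satisfying the Basic Inequality, and Z a set of vertices whose degree
equals the upper extreme M_Z of the inequality, that is 2((2g - 2)·d_Z - D·canDeg Z) = cut Z·(2g -
2). Then d + z again satisfies the Basic Inequality, where z, the multidegree of O(Z) on the total
space of a regular smoothing, is the twist of the indicator function of Z (it lowers the degree on Z
by cut Z and raises it on each outside vertex by its number of edges to Z). -/
theorem result {V E : Type u} [Fintype V] [Fintype E]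
    [DecidableEq V] [DecidableEq E] (ends : E → V × V) (w : V → ℕ) (hX : IsSemistableGraph ends w)
    (hg : 3 ≤ genus ends w) (d : V → ℤ) (hBI : SatisfiesBI ends w d) (Z : Finset V)
    (hZ : 2 * (canDeg ends w Finset.univ * (∑ v ∈ Z, d v) - (∑ v : V, d v) * canDeg ends w Z) =
      (cut ends Z : ℤ) * canDeg ends w Finset.univ) :
    SatisfiesBI ends w (fun v => d v + twist ends (fun u => if u ∈ Z then 1 else 0) v) := by
  exact H17179.main ends w hg d hBI Z hZ

end Groth.Agent.S17179
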