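import Groth.Statements.S17174
import Mathlib
import Groth.Agent.Lib.Helper4.BI
import Groth.Agent.S17179

set_option autoImplicit false
universe u
open LabGraph

namespace Groth.Agent.S17174

namespace H17174
open LabGraph Groth.Agent.Helper4.BI

variable {V E : Type u} [Fintype V] [Fintype E] [DecidableEq V] [DecidableEq E]

theorem twist_sub (ends : E → V × V) (φ ψ : V → ℤ) (v : V) :
    twist ends (fun u => φ u - ψ u) v = twist ends φ v - twist ends ψ v := by
  unfold twist
  rw [← Finset.sum_sub_distrib]
  apply Finset.sum_congr rfl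
  intro e _
  split_ifs <;> ring

theorem twist_sub_const (ends : E → V × V) (φ : V → ℤ) (c : ℤ) (v : V) :
    twist ends (fun u => φ u - c) v = twist ends φ v := by
  rw [twist_sub ends φ (fun _ => c) v, twist_eq_zero_of_const ends (fun _ => c) (fun _ _ => rfl), sub_zero]

theorem core (ends : E → V × V) (w : V → ℕ) (hX : IsSemistableGraph ends w) (hg : 3 ≤ genus ends w) :
    ∀ (n : ℕ) (h : V → ℕ) (d d' : V → ℤ), (∀ v, h v ≤ n) → (∃ v, h v = n) → (∃ v, h v = 0) →
      SatisfiesBI ends w d → SatisfiesBI ends w d' →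
      (∀ v, d v - d' v = twist ends (fun u => (h u : ℤ)) v) →
      (∀ i, i ≤ n → ∃ v, h v = i) ∧
      (∀ e : E, h (ends e).1 ≤ h (ends e).2 + 1 ∧ h (ends e).2 ≤ h (ends e).1 + 1) ∧
      (∀ i, i + 1 ≤ n → ∃ e : E, (h (ends e).1 = i ∧ h (ends e).2 = i + 1) ∨
        (h (ends e).1 = i + 1 ∧ h (ends e).2 = i)) := by
  intro n
  induction n with
  | zero =>
    intro h d d' hle htop hbot _ _ _
    refine ⟨?_, ?_, ?_⟩
    · intro i hi; obtain ⟨v, hv⟩ := hbot; exact ⟨v, by omega⟩
    · intro e; have := hle (ends e).1; have := hle (ends e).2; omega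
    · intro i hi; omega
  | succ n ih =>
    intro h d d' hle htop hbot hBI hBI' hdd
    classical
    have hK : 0 < canDeg ends w Finset.univ := canDeg_univ_pos ends w (by linarith)
    have hconn : Connected ends := hX.1
    generalize hZdef : Finset.univ.filter (fun v => h v = n + 1) = Z
    have hmemZ : ∀ v, v ∈ Z ↔ h v = n + 1 := by intro v; simp [← hZdef]
    have hZne : Z.Nonempty := by obtain ⟨v, hv⟩ := htop; exact ⟨v, (hmemZ v).2 hv⟩
    have hZprop : Z ≠ Finset.univ := by
      obtain ⟨v, hv⟩ := hbot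
      intro hc
      have : v ∈ Z := hc ▸ Finset.mem_univ v
      rw [hmemZ] at this; omega
    have hterm : ∀ e : E, ((if (ends e).1 ∈ Z then ((h (ends e).2 : ℤ)) - h (ends e).1 else 0)
        + (if (ends e).2 ∈ Z then ((h (ends e).1 : ℤ)) - h (ends e).2 else 0))
        ≤ -(if Cr ends Z e then (1:ℤ) else 0) := by
      intro e
      unfold Cr
      have h1 := hle (ends e).1
      have h2 := hle (ends e).2
      by_cases a1 : (ends e).1 ∈ Z <;> by_cases a2 : (ends e).2 ∈ Z
      · simp [a1, a2, (hmemZ _).1 a1, (hmemZ _).1 a2]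
      · have b1 := (hmemZ _).1 a1
        have b2 : h (ends e).2 ≠ n + 1 := fun hc => a2 ((hmemZ _).2 hc)
        simp only [a1, a2, if_true, if_false, not_true_eq_false, not_false_eq_true, and_self,
          or_false, add_zero]
        omega
      · have b2 := (hmemZ _).1 a2
        have b1 : h (ends e).1 ≠ n + 1 := fun hc => a1 ((hmemZ _).2 hc)
        simp only [a1, a2, if_true, if_false, not_true_eq_false, not_false_eq_true, and_self,
          false_or, zero_add]
        omega
      · simp [a1, a2]
    have hT : ∑ v ∈ Z, twist ends (fun u => (h u : ℤ)) v ≤ -(cut ends Z : ℤ) := by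
      rw [sum_twist, cut_cast, ← Finset.sum_neg_distrib]
      exact Finset.sum_le_sum (fun e _ => hterm e)
    have hDD : ∑ v, d v = ∑ v, d' v := by
      have : ∑ v, (d v - d' v) = 0 := by
        rw [Finset.sum_congr rfl (fun v _ => hdd v)]; exact sum_twist_univ ends _
      rw [Finset.sum_sub_distrib] at this; linarith
    have hdZ : ∑ v ∈ Z, d v - ∑ v ∈ Z, d' v = ∑ v ∈ Z, twist ends (fun u => (h u : ℤ)) v := by
      rw [← Finset.sum_sub_distrib]; exact Finset.sum_congr rfl (fun v _ => hdd v)
    have l1 := hBI Z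
    have l2 := hBI' Z
    rw [← hDD] at l2
    have hA := neg_abs_le (canDeg ends w Finset.univ * ∑ v ∈ Z, d v - (∑ v, d v) * canDeg ends w Z)
    have hB := le_abs_self (canDeg ends w Finset.univ * ∑ v ∈ Z, d' v - (∑ v, d v) * canDeg ends w Z)
    have hKT : canDeg ends w Finset.univ * (-(cut ends Z : ℤ)) ≤
        canDeg ends w Finset.univ * ∑ v ∈ Z, twist ends (fun u => (h u : ℤ)) v := by
      rw [← hdZ]
      linarith
    have hT' := le_of_mul_le_mul_left hKT hK
    have hTeq : ∑ v ∈ Z, twist ends (fun u => (h u : ℤ)) v = -(cut ends Z : ℤ) := le_antisymm hT hT'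
    have hZ' : 2 * (canDeg ends w Finset.univ * (∑ v ∈ Z, d' v) - (∑ v : V, d' v) * canDeg ends w Z) =
        (cut ends Z : ℤ) * canDeg ends w Finset.univ := by
      rw [← hDD]
      rw [hTeq] at hdZ
      have : ∑ v ∈ Z, d v = ∑ v ∈ Z, d' v - cut ends Z := by linarith
      rw [this] at hA l1
      linarith
    have hterm_eq : ∀ e : E, ((if (ends e).1 ∈ Z then ((h (ends e).2 : ℤ)) - h (ends e).1 else 0)
        + (if (ends e).2 ∈ Z then ((h (ends e).1 : ℤ)) - h (ends e).2 else 0))
        = -(if Cr ends Z e then (1:ℤ) else 0) := by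
      have := (Finset.sum_eq_sum_iff_of_le (s := (Finset.univ : Finset E)) (fun e _ => hterm e)).1 (by
        rw [Finset.sum_neg_distrib, ← cut_cast, ← hTeq, sum_twist])
      intro e; exact this e (Finset.mem_univ e)
    have hcross1 : ∀ e : E, (ends e).1 ∈ Z → (ends e).2 ∉ Z → h (ends e).2 = n := by
      intro e a1 a2
      have := hterm_eq e
      have b1 := (hmemZ _).1 a1
      unfold Cr at this
      simp only [a1, a2, if_true, if_false, not_true_eq_false, not_false_eq_true, and_self,
          or_false, add_zero] at this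
      omega
    have hcross2 : ∀ e : E, (ends e).2 ∈ Z → (ends e).1 ∉ Z → h (ends e).1 = n := by
      intro e a2 a1
      have := hterm_eq e
      have b2 := (hmemZ _).1 a2
      unfold Cr at this
      simp only [a1, a2, if_true, if_false, not_true_eq_false, not_false_eq_true, and_self,
          false_or, zero_add] at this
      omega
    have hBI'' := Groth.Agent.S17179.result ends w hX hg d' hBI' Z hZ'
    have hh' : ∀ u, (((if h u = n + 1 then n else h u : ℕ)) : ℤ) = (h u : ℤ) - (if u ∈ Z then (1:ℤ) else 0) := by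
      intro u
      by_cases hu : h u = n + 1
      · simp [hu, (hmemZ u).2 hu]
      · have : u ∉ Z := fun hc => hu ((hmemZ u).1 hc)
        simp [hu, this]
    have hdd'' : ∀ v, d v - (d' v + twist ends (fun u => if u ∈ Z then 1 else 0) v)
        = twist ends (fun u => (((if h u = n + 1 then n else h u : ℕ)) : ℤ)) v := by
      intro v
      have : (fun u => (((if h u = n + 1 then n else h u : ℕ)) : ℤ)) = fun u => (h u : ℤ) - (if u ∈ Z then (1:ℤ) else 0) := by
        funext u; exact hh' u
      rw [this, twist_sub, ← hdd v]; ring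
    obtain ⟨v0, hv0⟩ := hbot
    obtain ⟨vt, hvt⟩ := htop
    obtain ⟨ia, ib, ic⟩ := ih (fun v => if h v = n + 1 then n else h v) d _ (by
        intro v; have := hle v; by_cases hv : h v = n + 1 <;> simp [hv]; omega)
      ⟨vt, by simp [hvt]⟩ ⟨v0, by simp [hv0]⟩ hBI hBI'' hdd''
    obtain ⟨ec, hec⟩ := exists_crossing ends hconn Z hZne hZprop
    -- a crossing edge gives a vertex at level n adjacent to level n+1
    have hcr : ∃ e : E, (h (ends e).1 = n ∧ h (ends e).2 = n + 1) ∨ (h (ends e).1 = n + 1 ∧ h (ends e).2 = n) := by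
      rcases hec with ⟨a1, a2⟩ | ⟨a1, a2⟩
      · exact ⟨ec, Or.inr ⟨(hmemZ _).1 a1, hcross1 ec a1 a2⟩⟩
      · exact ⟨ec, Or.inl ⟨hcross2 ec a2 a1, (hmemZ _).1 a2⟩⟩
    refine ⟨?_, ?_, ?_⟩
    · intro i hi
      rcases Nat.lt_or_ge i n with hlt | hge
      · obtain ⟨v, hv⟩ := ia i hlt.le
        by_cases hvz : h v = n + 1
        · simp [hvz] at hv; omega
        · simp [hvz] at hv; exact ⟨v, hv⟩
      · rcases Nat.eq_or_lt_of_le hge with heq | hgt
        · obtain ⟨e, he | he⟩ := hcr
          · exact ⟨_, heq ▸ he.1⟩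
          · exact ⟨_, heq ▸ he.2⟩
        · exact ⟨vt, by omega⟩
    · intro e
      have h1 := hle (ends e).1
      have h2 := hle (ends e).2
      have hb := ib e
      by_cases a1 : (ends e).1 ∈ Z <;> by_cases a2 : (ends e).2 ∈ Z
      · have := (hmemZ _).1 a1; have := (hmemZ _).1 a2; omega
      · have := (hmemZ _).1 a1; have := hcross1 e a1 a2; omega
      · have := (hmemZ _).1 a2; have := hcross2 e a2 a1; omega
      · have b1 : h (ends e).1 ≠ n + 1 := fun hc => a1 ((hmemZ _).2 hc)
        have b2 : h (ends e).2 ≠ n + 1 := fun hc => a2 ((hmemZ _).2 hc)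
        simp only [b1, b2, if_false] at hb
        exact hb
    · intro i hi
      rcases Nat.eq_or_lt_of_le hi with heq | hlt
      · have : i = n := by omega
        subst this
        exact hcr
      · obtain ⟨e, he⟩ := ic i (by omega)
        refine ⟨e, ?_⟩
        have h1 := hle (ends e).1
        have h2 := hle (ends e).2
        by_cases a1 : (ends e).1 ∈ Z <;> by_cases a2 : (ends e).2 ∈ Z
        · have c1 := (hmemZ _).1 a1; have c2 := (hmemZ _).1 a2
          simp only [c1, c2, if_true] at he
          omega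
        · have c1 := (hmemZ _).1 a1; have c2 := hcross1 e a1 a2
          have b2 : h (ends e).2 ≠ n + 1 := fun hc => a2 ((hmemZ _).2 hc)
          simp only [c1, b2, if_true, if_false] at he
          omega
        · have c2 := (hmemZ _).1 a2; have c1 := hcross2 e a2 a1
          have b1 : h (ends e).1 ≠ n + 1 := fun hc => a1 ((hmemZ _).2 hc)
          simp only [c2, b1, if_true, if_false] at he
          omega
        · have b1 : h (ends e).1 ≠ n + 1 := fun hc => a1 ((hmemZ _).2 hc)
          have b2 : h (ends e).2 ≠ n + 1 := fun hc => a2 ((hmemZ _).2 hc)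
          simp only [b1, b2, if_false] at he
          exact he

theorem main (ends : E → V × V) (w : V → ℕ) (hX : IsSemistableGraph ends w)
    (hg : 3 ≤ genus ends w) (d d' : V → ℤ)
    (hBI : SatisfiesBI ends w d) (hBI' : SatisfiesBI ends w d') (heq : TwistEquiv ends d d') :
    ∃ (q : ℕ) (h : V → ℕ), (∀ v : V, h v ≤ q) ∧ (∀ i : ℕ, i ≤ q → ∃ v : V, h v = i) ∧
      (∀ v : V, d v - d' v = twist ends (fun u => (h u : ℤ)) v) ∧
      (∀ i j : ℕ, i ≤ q → j ≤ q → i ≠ j →
        ((∃ e : E, (h (ends e).1 = i ∧ h (ends e).2 = j) ∨ (h (ends e).1 = j ∧ h (ends e).2 = i)) ↔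
          (i + 1 = j ∨ j + 1 = i))) := by
  classical
  obtain ⟨φ, hφ⟩ := heq
  have hne : Nonempty V := hX.1.1
  obtain ⟨vmin, -, hvmin⟩ := Finset.exists_min_image Finset.univ φ Finset.univ_nonempty
  have hnn : ∀ v, 0 ≤ φ v - φ vmin := fun v => by have := hvmin v (Finset.mem_univ v); linarith
  obtain ⟨h, hcast⟩ : ∃ h : V → ℕ, ∀ u, ((h u : ℕ) : ℤ) = φ u - φ vmin :=
    ⟨fun u => (φ u - φ vmin).toNat, fun u => Int.toNat_of_nonneg (hnn u)⟩
  obtain ⟨vmax, -, hvmax⟩ := Finset.exists_max_image Finset.univ h Finset.univ_nonempty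
  have htw : ∀ v, d v - d' v = twist ends (fun u => ((h u : ℕ) : ℤ)) v := by
    intro v
    have : (fun u => ((h u : ℕ) : ℤ)) = fun u => φ u - φ vmin := funext hcast
    rw [this, twist_sub_const, hφ v]
  have h0 : h vmin = 0 := by have := hcast vmin; simpa using this
  obtain ⟨ia, ib, ic⟩ := core ends w hX hg (h vmax) h d d'
    (fun v => hvmax v (Finset.mem_univ v)) ⟨vmax, rfl⟩ ⟨vmin, h0⟩ hBI hBI' htw
  refine ⟨h vmax, h, fun v => hvmax v (Finset.mem_univ v), ia, htw, ?_⟩
  intro i j hi hj hij
  constructor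
  · rintro ⟨e, he | he⟩
    · have := ib e; omega
    · have := ib e; omega
  · rintro (h1 | h1)
    · obtain ⟨e, he⟩ := ic i (by omega)
      exact ⟨e, by rw [← h1]; exact he⟩
    · obtain ⟨e, he⟩ := ic j (by omega)
      refine ⟨e, ?_⟩
      rw [← h1]
      rcases he with he | he
      · exact Or.inr he
      · exact Or.inl he
end H17174

open LabGraph in
/-- Let Γ be the weighted dual graph of a Deligne–Mumford semistable curve X of genus g ≥ 3 over an
algebraically closed field (connected; every weight-zero vertex without loop is joined to the other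
vertices by at least two edges), and let d, d' be two multidegrees of the same (arbitrary) total
degree D (g ≥ 3 being the paper's standing assumption) which both satisfy the Basic Inequality and
lie in the same degree class (d - d' is a twist). Then d - d' can be written in normal form: there
is a labelling h of the vertices by natural numbers taking exactly the values 0, 1, …, q, with d -
d' equal to the twist of h (that is, d - d' = Σ_v h(v)·c_v with c_v the multidegree of O(C_v)), such
that for distinct levels i ≠ j in {0, …, q} the subcurves on h⁻¹(i) and h⁻¹(j) meet (some edge joins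
the two levels) exactly when |i - j| = 1. -/
theorem result {V E : Type u} [Fintype V] [Fintype E]
    [DecidableEq V] [DecidableEq E] (ends : E → V × V) (w : V → ℕ) (hX : IsSemistableGraph ends w)
    (hg : 3 ≤ genus ends w) (d d' : V → ℤ)
    (hBI : SatisfiesBI ends w d) (hBI' : SatisfiesBI ends w d') (heq : TwistEquiv ends d d') :
    ∃ (q : ℕ) (h : V → ℕ), (∀ v : V, h v ≤ q) ∧ (∀ i : ℕ, i ≤ q → ∃ v : V, h v = i) ∧
      (∀ v : V, d v - d' v = twist ends (fun u => (h u : ℤ)) v) ∧
      (∀ i j : ℕ, i ≤ q → j ≤ q → i ≠ j →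
        ((∃ e : E, (h (ends e).1 = i ∧ h (ends e).2 = j) ∨ (h (ends e).1 = j ∧ h (ends e).2 = i)) ↔
          (i + 1 = j ∨ j + 1 = i))) := by
  exact H17174.main ends w hX hg d d' hBI hBI' heq

end Groth.Agent.S17174
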