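import Groth.Statements.S17241
import Mathlib
import Groth.Agent.Lib.Helper4.Wronsk2

set_option autoImplicit false
open W4c4effdivwronsk2

namespace Groth.Agent.S17241

namespace H17241
set_option linter.unusedSectionVars false
open Polynomial Groth.Agent.Lib.Helper4.Wronsk2

variable {k : Type*} [Field k] [CharZero k] {m : ℕ} (r : Fin m → k) (a : Fin m → ℕ)

theorem degLT_inf_degLT (A B : ℕ) : degreeLT k A ⊓ degreeLT k B = degreeLT k (min A B) := by
  apply le_antisymm
  · rintro x ⟨h1, h2⟩
    rw [SetLike.mem_coe, mem_degreeLT] at h1 h2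
    rw [mem_degreeLT]
    rcases le_total A B with h | h
    · rwa [min_eq_left h]
    · rwa [min_eq_right h]
  · exact le_inf (degreeLT_mono (min_le_left _ _)) (degreeLT_mono (min_le_right _ _))

theorem EE_mem_degLT_iff (M : ℕ) : EE r a ∈ degreeLT k M ↔ (∑ j, a j) < M := by
  constructor
  · intro h
    have := natDegree_lt_of_mem_degLT h (EE_ne_zero r a)
    rwa [natDegree_EE] at this
  · intro h
    apply mem_degLT_of_natDegree_lt
    rwa [natDegree_EE]

theorem finrank_map_degLT (M : ℕ) :
    Module.finrank k ((degreeLT k M).map (Phi r a)) = if (∑ j, a j) < M then M - 1 else M := by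
  split_ifs with h
  · have := finrank_map_Phi_of_mem r a (degreeLT k M) ((EE_mem_degLT_iff r a M).2 h)
    rw [finrank_degLT] at this
    omega
  · have := finrank_map_Phi_of_not_mem r a (degreeLT k M) (fun h' => h ((EE_mem_degLT_iff r a M).1 h'))
    rw [finrank_degLT] at this
    exact this

variable (hr : Function.Injective r)
include hr

theorem EE_mem_YY_iff (i : Fin m) (n : ℕ) : EE r a ∈ YY ((X - C (r i)) ^ n) ↔ n ≤ a i := by
  rw [mem_YY]
  constructor
  · intro h
    by_contra hlt
    push Not at hlt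
    have h1 : (X - C (r i)) ^ (a i + 1) ∣ EE r a := dvd_trans (pow_dvd_pow _ hlt) h
    rw [EE_eq r a i, pow_succ] at h1
    have h2 := (mul_dvd_mul_iff_left (pow_ne_zero (a i) (X_sub_C_ne_zero (r i)))).1 h1
    rw [dvd_iff_isRoot] at h2
    exact eval_Ei_ne_zero r a hr i h2
  · intro h
    rw [EE_eq r a i]
    exact dvd_mul_of_dvd_left (pow_dvd_pow _ h) _

theorem main (b N d : ℕ) (hN : N = (∑ j, a j) + b) (hd : d + 1 = (∑ j, (a j + 1)) + b)
    (V : Submodule k (Polynomial k)) (hV : V = VV r a b) :
    Module.finrank k ↥V = N ∧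
    (∀ (i : Fin m) (n : ℕ), Module.finrank k ↥(V ⊓ YY ((X - C (r i)) ^ n)) =
        if n ≤ a i then N - n else N + 1 - n) ∧
    (∀ n : ℕ, Module.finrank k ↥(V ⊓ Polynomial.degreeLT k (d + 1 - n)) =
        if n ≤ b then N - n else N + 1 - n) := by
  have hd' : d + 1 = (∑ j, a j) + m + b := by
    rw [hd, Finset.sum_add_distrib]; simp
  refine ⟨?_, ?_, ?_⟩
  · rw [hV, VV_eq r a hr b N hN, finrank_map_degLT, if_pos (by omega)]
    omega
  · intro i n
    rw [hV, VV_inf_marked r a hr b N hN i n]
    by_cases hn : n ≤ a i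
    · rw [if_pos hn]
      have hmem : EE r a ∈ degreeLT k (N + 1) ⊓ YY ((X - C (r i)) ^ n) :=
        ⟨(EE_mem_degLT_iff r a (N + 1)).2 (by omega), (EE_mem_YY_iff r a hr i n).2 hn⟩
      have := finrank_map_Phi_of_mem r a _ hmem
      rw [finrank_degLT_inf_YY] at this
      omega
    · rw [if_neg hn]
      have hmem : EE r a ∉ degreeLT k (N + 1) ⊓ YY ((X - C (r i)) ^ n) :=
        fun h => hn ((EE_mem_YY_iff r a hr i n).1 h.2)
      rw [finrank_map_Phi_of_not_mem r a _ hmem, finrank_degLT_inf_YY]
  · intro n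
    rw [hV, VV_inf_degLT r a hr b N hN, degLT_inf_degLT, finrank_map_degLT]
    clear hd hV
    have hm0 : m = 0 → (∑ j, a j) = 0 := by
      intro h; subst h; simp
    generalize (∑ j, a j) = α at *
    rcases le_total (N + 1) (d + 1 - n + 1 - m) with h | h
    · rw [min_eq_left h]
      split_ifs <;> omega
    · rw [min_eq_right h]
      split_ifs <;> omega

end H17241

open Polynomial in
/-- Let `k` be a field of characteristic zero and take, on the projective line over `k`, the point `∞`
and `m` further distinct points `r_1, …, r_m` of the affine line, with positive integers `b` (at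
`∞`) and `a_1, …, a_m`; put `N = b + ∑ a_j`. The sum of the spaces of differentials with a single
pole, of order at most `b + 1` at `∞`, resp. at most `a_j + 1` at `r_j`, `V = H⁰(ω((b+1)∞)) + ∑_j
H⁰(ω((a_j+1)r_j)) ⊆ H⁰(ω((b+1)∞ + ∑_j (a_j+1)r_j)) ≅ H⁰(O(d))`, `d = b - 1 + ∑ (a_j+1)`, becomes,
after multiplying by `dX⁻¹ ∏_j (X - r_j)^(a_j+1)`, the subspace of `k[X]_{≤ d}` spanned by
`D·k[X]_{<b}` and the `D_i·k[X]_{<a_i}`, where `D = ∏_j (X - r_j)^(a_j+1)` and `D_i` omits the
`i`-th factor; a member `h` vanishes to order `n` at a point `q` of the affine line when `(X - q)^n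
∣ h`, and to order `d - deg h` at `∞`. Then `dim V = N`, and at each marked point the vanishing
orders of the members of `V` are `0, …, e - 1, e + 1, …, N`, where `e = a_i` at `r_i` and `e = b` at
`∞`: the subspace vanishing to order at least `n` there has dimension `N - n` for `n ≤ e` and `N + 1
- n` for `n > e` (so the weight at `r_i` is `∑_{j ≠ i} a_j + b`). (The published statement is over
the complex numbers, with all marked points arbitrary; one of them is placed at `∞` here.) -/
theorem result
    (k : Type*) [Field k] [CharZero k] (m : ℕ) (r : Fin m → k) (hr : Function.Injective r)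
    (a : Fin m → ℕ) (ha : ∀ j, 1 ≤ a j) (b : ℕ) (hb : 1 ≤ b) (N d : ℕ)
    (hN : N = (∑ j, a j) + b) (hd : d + 1 = (∑ j, (a j + 1)) + b)
    (V : Submodule k (Polynomial k))
    (hV : V = (Polynomial.degreeLT k b).map (LinearMap.mulLeft k (∏ j, (X - C (r j)) ^ (a j + 1))) ⊔
      ⨆ i, (Polynomial.degreeLT k (a i)).map
        (LinearMap.mulLeft k (∏ j ∈ Finset.univ.erase i, (X - C (r j)) ^ (a j + 1)))) :
    Module.finrank k ↥V = N ∧
    (∀ (i : Fin m) (n : ℕ), Module.finrank k ↥(V ⊓ (Ideal.span {(X - C (r i)) ^ n}).restrictScalars k) =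
        if n ≤ a i then N - n else N + 1 - n) ∧
    (∀ n : ℕ, Module.finrank k ↥(V ⊓ Polynomial.degreeLT k (d + 1 - n)) =
        if n ≤ b then N - n else N + 1 - n) := by
  exact H17241.main r a hr b N d hN hd V hV

end Groth.Agent.S17241
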