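import Groth.Statements.S17243
import Mathlib
import Groth.Agent.Lib.Helper4.Wronsk2b
import Groth.Agent.S17242

set_option autoImplicit false
open W4c4effdivwronsk2

namespace Groth.Agent.S17243

namespace H17243
open Polynomial Groth.Agent.Lib.Helper4.Wronsk2
set_option linter.unusedSectionVars false

variable {k : Type*} [Field k] [CharZero k] {m : ℕ} (r : Fin m → k) (a : Fin m → ℕ)
variable (hr : Function.Injective r)
include hr

/-- a nonzero member of `V₁` divisible by `(X - q)^(N-1)` puts `(X - q)^N` in the preimage -/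
theorem pow_mem_comap (b N : ℕ) (hN : N = (∑ j, a j) + b) (hN1 : 1 ≤ N)
    (V₁ : Submodule k k[X]) (hV₁ : V₁ ≤ VV r a b) (q : k) (hq : ∀ j, q ≠ r j)
    (hne : V₁ ⊓ YY ((X - C q) ^ (N - 1)) ≠ ⊥) : (X - C q) ^ N ∈ V₁.comap (Phi r a) := by
  obtain ⟨h, ⟨hh1, hh2⟩, hh0⟩ := (Submodule.ne_bot_iff _).1 hne
  have hmem : h ∈ VV r a b ⊓ YY ((X - C q) ^ (N - 1)) := ⟨hV₁ hh1, hh2⟩
  rw [VV_inf_unmarked r a hr b N hN q hq (N - 1), Nat.sub_add_cancel hN1, degLT_inf_YY] at hmem
  obtain ⟨G, ⟨p, hp, rfl⟩, rfl⟩ := hmem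
  rw [LinearMap.mulLeft_apply] at hh1 hh0
  have e : N + 1 - N = 1 := by omega
  rw [e] at hp
  obtain ⟨c, rfl⟩ : ∃ c : k, p = C c := by
    by_cases hp0 : p = 0
    · exact ⟨0, by rw [hp0]; simp⟩
    have := natDegree_lt_of_mem_degLT hp hp0
    exact ⟨p.coeff 0, eq_C_of_natDegree_eq_zero (by omega)⟩
  have hc : c ≠ 0 := by
    intro h0
    apply hh0
    rw [h0, C_0, mul_zero, map_zero]
  rw [Submodule.mem_comap]
  have : Phi r a ((X - C q) ^ N) = c⁻¹ • Phi r a ((X - C q) ^ N * C c) := by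
    rw [← map_smul]
    congr 1
    rw [smul_eq_C_mul, ← mul_assoc, mul_comm (C _) (_ ^ N), mul_assoc, ← C_mul,
      inv_mul_cancel₀ hc, C_1, mul_one]
  rw [this]
  exact V₁.smul_mem _ hh1

theorem main (b N : ℕ) (hN : N = (∑ j, a j) + b) (hN1 : 1 ≤ N)
    (V : Submodule k (Polynomial k)) (hV : V = VV r a b)
    (V₁ : Submodule k (Polynomial k)) (hV₁ : V₁ ≤ V) (hfin : Module.finrank k ↥V₁ + 1 = N)
    (hU : VV r a (b - 2) ≤ V₁) :
    (∀ q : k, (∀ j, q ≠ r j) →
      (V₁ ⊓ YY ((X - C q) ^ N)) = ⊥ ∧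
      Module.finrank k ↥(V₁ ⊓ YY ((X - C q) ^ (N - 2))) ≤ 1) ∧
    (∀ q q' : k, (∀ j, q ≠ r j) → (∀ j, q' ≠ r j) →
      (V₁ ⊓ YY ((X - C q) ^ (N - 1))) ≠ ⊥ →
      (V₁ ⊓ YY ((X - C q') ^ (N - 1))) ≠ ⊥ → q = q') := by
  subst hV
  have hfdV := finiteDimensional_VV r a hr b
  have hfd : FiniteDimensional k V₁ := Submodule.finiteDimensional_of_le hV₁
  have hbase := hyp_base r a hr b N hN V₁ hU
  have hnot := hyp_not_le r a hr b N hN V₁ hV₁ hfin
  refine ⟨fun q hq => ⟨?_, ?_⟩, ?_⟩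
  · rw [eq_bot_iff]
    refine le_trans (inf_le_inf_right _ hV₁) ?_
    rw [Groth.Agent.S17242.H17242.main k m r hr a b N hN (VV r a b) rfl q hq]
  · by_cases hN2 : N ≤ 2
    · have := Submodule.finrank_mono (inf_le_left : V₁ ⊓ YY ((X - C q) ^ (N - 2)) ≤ V₁)
      omega
    push Not at hN2
    by_contra hcon
    push Not at hcon
    have e1 : N - 2 + 1 = N - 1 := by omega
    have hle : V₁ ⊓ YY ((X - C q) ^ (N - 2)) ≤ VV r a b ⊓ YY ((X - C q) ^ (N - 2)) :=
      inf_le_inf_right _ hV₁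
    have hVY := VV_inf_unmarked r a hr b N hN q hq (N - 2)
    rw [e1] at hVY
    have hfr : Module.finrank k ↥(VV r a b ⊓ YY ((X - C q) ^ (N - 2))) ≤ 2 := by
      rw [hVY]
      refine le_trans (Submodule.finrank_map_le _ _) ?_
      rw [finrank_degLT_inf_YY]
      omega
    have hfd2 : FiniteDimensional k ↥(VV r a b ⊓ YY ((X - C q) ^ (N - 2))) :=
      Submodule.finiteDimensional_inf_left _ _
    have heq := Submodule.eq_of_le_of_finrank_le hle (by omega)
    -- both `T^(N-1)` and `T^N` lie in the preimage of `V₁`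
    have hmemU : ∀ P : k[X], P ∈ degreeLT k (N + 1) → (X - C q) ^ (N - 1) ∣ P →
        P ∈ V₁.comap (Phi r a) := by
      intro P hP1 hP2
      have : Phi r a P ∈ VV r a b ⊓ YY ((X - C q) ^ (N - 2)) := by
        rw [hVY]
        exact ⟨P, ⟨hP1, (mem_YY _ _).2 hP2⟩, rfl⟩
      rw [← heq] at this
      exact this.1
    have h1 : (X - C q) ^ (N - 1) ∈ V₁.comap (Phi r a) :=
      hmemU _ (degreeLT_mono (by omega) (X_sub_C_pow_mem_degLT q (N - 1))) dvd_rfl
    have h2 : (X - C q) ^ N ∈ V₁.comap (Phi r a) :=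
      hmemU _ (X_sub_C_pow_mem_degLT q N) (pow_dvd_pow _ (by omega))
    have h3 := degLT_succ_le _ (N - 1) hbase _ h1 (X_sub_C_pow_mem_degLT q (N - 1))
      (by rw [coeff_X_sub_C_pow_self]; exact one_ne_zero)
    rw [Nat.sub_add_cancel hN1] at h3
    have h4 := degLT_succ_le _ N h3 _ h2 (X_sub_C_pow_mem_degLT q N)
      (by rw [coeff_X_sub_C_pow_self]; exact one_ne_zero)
    exact hnot h4
  · intro q q' hq hq' hne hne'
    by_contra hqq
    have h1 := pow_mem_comap r a hr b N hN hN1 V₁ hV₁ q hq hne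
    have h2 := pow_mem_comap r a hr b N hN hN1 V₁ hV₁ q' hq' hne'
    have h3 : (X - C q) ^ N - (X - C q') ^ N ∈ V₁.comap (Phi r a) := Submodule.sub_mem _ h1 h2
    have h4 : (X - C q) ^ N - (X - C q') ^ N ∈ degreeLT k (N - 1 + 1) := by
      rw [Nat.sub_add_cancel hN1, mem_degreeLT, degree_lt_iff_coeff_zero]
      intro j hj
      rw [coeff_sub]
      rcases Nat.eq_or_lt_of_le hj with rfl | hlt
      · rw [coeff_X_sub_C_pow_self, coeff_X_sub_C_pow_self, sub_self]
      · have e1 := X_sub_C_pow_mem_degLT q N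
        have e2 := X_sub_C_pow_mem_degLT q' N
        rw [mem_degreeLT, degree_lt_iff_coeff_zero] at e1 e2
        rw [e1 j (by omega), e2 j (by omega), sub_self]
    have h5 : ((X - C q) ^ N - (X - C q') ^ N).coeff (N - 1) ≠ 0 := by
      rw [coeff_sub, coeff_X_sub_C_pow_pred q N hN1, coeff_X_sub_C_pow_pred q' N hN1]
      have hNk : (N : k) ≠ 0 := by exact_mod_cast (by omega : N ≠ 0)
      intro h0
      apply hqq
      have : (N : k) * (q' - q) = 0 := by rw [← h0]; ring
      rcases mul_eq_zero.1 this with h | h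
      · exact absurd h hNk
      · exact (sub_eq_zero.1 h).symm
    have h6 := degLT_succ_le _ (N - 1) hbase _ h3 h4 h5
    rw [Nat.sub_add_cancel hN1] at h6
    have h7 := degLT_succ_le _ N h6 _ h1 (X_sub_C_pow_mem_degLT q N)
      (by rw [coeff_X_sub_C_pow_self]; exact one_ne_zero)
    exact hnot h7

end H17243

open Polynomial in
/-- Let `k` be a field of characteristic zero and take, on the projective line over `k`, the point `∞`
and `m` further distinct points `r_1, …, r_m` of the affine line, with positive integers `b` (at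
`∞`) and `a_1, …, a_m`; put `N = b + ∑ a_j`. The sum of the spaces of differentials with a single
pole, of order at most `b + 1` at `∞`, resp. at most `a_j + 1` at `r_j`, `V = H⁰(ω((b+1)∞)) + ∑_j
H⁰(ω((a_j+1)r_j)) ⊆ H⁰(ω((b+1)∞ + ∑_j (a_j+1)r_j)) ≅ H⁰(O(d))`, `d = b - 1 + ∑ (a_j+1)`, becomes,
after multiplying by `dX⁻¹ ∏_j (X - r_j)^(a_j+1)`, the subspace of `k[X]_{≤ d}` spanned by
`D·k[X]_{<b}` and the `D_i·k[X]_{<a_i}`, where `D = ∏_j (X - r_j)^(a_j+1)` and `D_i` omits the
`i`-th factor; a member `h` vanishes to order `n` at a point `q` of the affine line when `(X - q)^n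
∣ h`, and to order `d - deg h` at `∞`. Let `V₁ ⊆ V` be a hyperplane (`dim V₁ = N - 1`) containing
`H⁰(ω((b-1)∞)) + ∑_j H⁰(ω((a_j+1)r_j))`, i.e. containing `D·k[X]_{<b-2}` and every
`D_i·k[X]_{<a_i}`. Then `V₁` has at most one ramification point off the marked points, and that
point is simple: at every point `q` of the affine line other than the `r_j` the weight of `V₁` is at
most one (no nonzero member divisible by `(X - q)^N`, at most a line of members divisible by `(X -
q)^(N-2)`), and at most one such `q` has positive weight (a nonzero member divisible by `(X -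
q)^(N-1)`). (The published statement is over the complex numbers with the distinguished marked point
arbitrary; it is placed at `∞` here, so that the unmarked points are the points of the affine line
other than the `r_j`.) -/
theorem result
    (k : Type*) [Field k] [CharZero k] (m : ℕ) (r : Fin m → k) (hr : Function.Injective r)
    (a : Fin m → ℕ) (ha : ∀ j, 1 ≤ a j) (b : ℕ) (hb : 1 ≤ b) (N d : ℕ)
    (hN : N = (∑ j, a j) + b) (hd : d + 1 = (∑ j, (a j + 1)) + b)
    (V : Submodule k (Polynomial k))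
    (hV : V = (Polynomial.degreeLT k b).map (LinearMap.mulLeft k (∏ j, (X - C (r j)) ^ (a j + 1))) ⊔
      ⨆ i, (Polynomial.degreeLT k (a i)).map
        (LinearMap.mulLeft k (∏ j ∈ Finset.univ.erase i, (X - C (r j)) ^ (a j + 1))))
    (V₁ : Submodule k (Polynomial k)) (hV₁ : V₁ ≤ V) (hfin : Module.finrank k ↥V₁ + 1 = N)
    (hU : (Polynomial.degreeLT k (b - 2)).map (LinearMap.mulLeft k (∏ j, (X - C (r j)) ^ (a j + 1))) ⊔
      (⨆ i, (Polynomial.degreeLT k (a i)).map
        (LinearMap.mulLeft k (∏ j ∈ Finset.univ.erase i, (X - C (r j)) ^ (a j + 1)))) ≤ V₁) :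
    (∀ q : k, (∀ j, q ≠ r j) →
      (V₁ ⊓ (Ideal.span {(X - C q) ^ N}).restrictScalars k) = ⊥ ∧
      Module.finrank k ↥(V₁ ⊓ (Ideal.span {(X - C q) ^ (N - 2)}).restrictScalars k) ≤ 1) ∧
    (∀ q q' : k, (∀ j, q ≠ r j) → (∀ j, q' ≠ r j) →
      (V₁ ⊓ (Ideal.span {(X - C q) ^ (N - 1)}).restrictScalars k) ≠ ⊥ →
      (V₁ ⊓ (Ideal.span {(X - C q') ^ (N - 1)}).restrictScalars k) ≠ ⊥ → q = q') := by
  exact H17243.main r a hr b N hN (by omega) V hV V₁ hV₁ hfin hU

end Groth.Agent.S17243
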