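import Groth.Statements.S17244
import Mathlib
import Groth.Agent.Lib.Helper4.Wronsk2c
import Groth.Agent.S17241

set_option autoImplicit false
open W4c4effdivwronsk2

namespace Groth.Agent.S17244

namespace H17244
open Polynomial Groth.Agent.Lib.Helper4.Wronsk2
set_option linter.unusedSectionVars false

variable {k : Type*} [Field k] [CharZero k] {m : ℕ} (r : Fin m → k) (a : Fin m → ℕ)
variable (hr : Function.Injective r)
include hr

theorem main (ha : ∀ j, 1 ≤ a j) (b : ℕ) (hb : 1 ≤ b) (N d : ℕ)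
    (hN : N = (∑ j, a j) + b) (hd : d + 1 = (∑ j, (a j + 1)) + b)
    (V : Submodule k (Polynomial k)) (hV : V = VV r a b)
    (V₁ : Submodule k (Polynomial k)) (hV₁ : V₁ ≤ V) (hfin : Module.finrank k ↥V₁ + 1 = N)
    (hU : VV r a (b - 2) ≤ V₁) :
    (∀ i : Fin m, ∃ ε : ℕ, ε ≤ 1 ∧
      (∑ n ∈ Finset.range d, Module.finrank k ↥(V₁ ⊓ YY ((X - C (r i)) ^ (n + 1)))) + 1 =
        (N - 1).choose 2 + (N - a i) + ε) ∧
    (∃ ε : ℕ, ε ≤ 1 ∧
      (∑ n ∈ Finset.range d, Module.finrank k ↥(V₁ ⊓ Polynomial.degreeLT k (d - n))) =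
        (N - 1).choose 2 + (N - b) + (N - 2) + ε) := by
  have hd' : d + 1 = (∑ j, a j) + m + b := by
    rw [hd, Finset.sum_add_distrib]; simp
  obtain ⟨hdimV, hmark, hinf⟩ := Groth.Agent.S17241.H17241.main r a hr b N d hN hd V hV
  subst hV
  have hN1 : 1 ≤ N := by omega
  have hfdV := finiteDimensional_VV r a hr b
  have hfd : FiniteDimensional k V₁ := Submodule.finiteDimensional_of_le hV₁
  have hbase := hyp_base r a hr b N hN V₁ hU
  have hnot := hyp_not_le r a hr b N hN V₁ hV₁ hfin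
  have hfin' : Module.finrank k ↥V₁ + 1 = Module.finrank k ↥(VV r a b) := by rw [hdimV, hfin]
  have hαm : m ≤ ∑ j, a j := by
    calc m = ∑ _j : Fin m, 1 := by simp
      _ ≤ ∑ j, a j := Finset.sum_le_sum (fun j _ => ha j)
  refine ⟨fun i => ?_, ?_⟩
  · have hm1 : 1 ≤ m := Nat.succ_le_of_lt i.pos
    have hai : a i ≤ ∑ j, a j := Finset.single_le_sum (fun j _ => Nat.zero_le _) (Finset.mem_univ i)
    apply wtA N (a i) d (fun n => Module.finrank k ↥(V₁ ⊓ YY ((X - C (r i)) ^ n))) hN1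
      (Or.inl ⟨by omega, by omega⟩)
    · intro n hn
      show Module.finrank k ↥(V₁ ⊓ YY ((X - C (r i)) ^ (n + 1))) + 1 = fe N (a i) (n + 1)
      have hnle : ¬ VV r a b ⊓ YY ((X - C (r i)) ^ (n + 1)) ≤ V₁ := by
        intro hle
        have hmemU : ∀ P : k[X], P ∈ degreeLT k (N + 1) → (X - C (r i)) ^ (n + 1) ∣ P →
            P ∈ V₁.comap (Phi r a) := by
          intro P hP1 hP2
          apply hle
          rw [VV_inf_marked r a hr b N hN i (n + 1)]
          exact ⟨P, ⟨hP1, (mem_YY _ _).2 hP2⟩, rfl⟩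
        have h1 := hmemU _ (degreeLT_mono (by omega) (X_sub_C_pow_mem_degLT (r i) (N - 1)))
          (pow_dvd_pow _ hn)
        have h2 := hmemU _ (X_sub_C_pow_mem_degLT (r i) N) (pow_dvd_pow _ (by omega))
        have h3 := degLT_succ_le _ (N - 1) hbase _ h1 (X_sub_C_pow_mem_degLT (r i) (N - 1))
          (by rw [coeff_X_sub_C_pow_self]; exact one_ne_zero)
        rw [Nat.sub_add_cancel hN1] at h3
        have h4 := degLT_succ_le _ N h3 _ h2 (X_sub_C_pow_mem_degLT (r i) N)
          (by rw [coeff_X_sub_C_pow_self]; exact one_ne_zero)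
        exact hnot h4
      rw [hyp_finrank_of_not_le hV₁ hfin' hnle, hmark i (n + 1)]
      rfl
    · show Module.finrank k ↥(V₁ ⊓ YY ((X - C (r i)) ^ N)) ≤ 1
      have := Submodule.finrank_mono
        (inf_le_inf_right (YY ((X - C (r i)) ^ N)) hV₁)
      rw [hmark i N, if_neg (by omega)] at this
      omega
    · intro n hn
      show Module.finrank k ↥(V₁ ⊓ YY ((X - C (r i)) ^ n)) = 0
      have := Submodule.finrank_mono
        (inf_le_inf_right (YY ((X - C (r i)) ^ n)) hV₁)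
      rw [hmark i n, if_neg (by omega)] at this
      omega
  · have hsum : ∑ n ∈ Finset.range d, Module.finrank k ↥(V₁ ⊓ Polynomial.degreeLT k (d - n)) =
        ∑ n ∈ Finset.range d,
          (fun n' => Module.finrank k ↥(V₁ ⊓ Polynomial.degreeLT k (d + 1 - n'))) (n + 1) := by
      refine Finset.sum_congr rfl (fun n _ => ?_)
      have e : d + 1 - (n + 1) = d - n := by omega
      show _ = Module.finrank k ↥(V₁ ⊓ Polynomial.degreeLT k (d + 1 - (n + 1)))
      rw [e]
    rw [hsum]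
    have hcase : (N ≤ d ∧ b + 1 ≤ N ∧ 2 ≤ N) ∨ (d + 1 = N ∧ b = N) := by
      rcases Nat.eq_zero_or_pos m with hm0 | hmpos
      · right
        have : (∑ j, a j) = 0 := by subst hm0; simp
        omega
      · left; omega
    apply wtB N b d (fun n' => Module.finrank k ↥(V₁ ⊓ Polynomial.degreeLT k (d + 1 - n'))) hN1 hcase
    · show Module.finrank k ↥(V₁ ⊓ Polynomial.degreeLT k (d + 1 - 1)) + 1 = fe N b 1 ∨
        Module.finrank k ↥(V₁ ⊓ Polynomial.degreeLT k (d + 1 - 1)) = fe N b 1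
      by_cases hle : VV r a b ⊓ degreeLT k (d + 1 - 1) ≤ V₁
      · right
        rw [hyp_inf_of_le hV₁ hle, hinf 1]; rfl
      · left
        rw [hyp_finrank_of_not_le hV₁ hfin' hle, hinf 1]; rfl
    · intro n hn2 hnd
      show Module.finrank k ↥(V₁ ⊓ Polynomial.degreeLT k (d + 1 - n)) = fe N b n
      have hle : VV r a b ⊓ degreeLT k (d + 1 - n) ≤ V₁ := by
        rw [VV_inf_degLT r a hr b N hN]
        refine le_trans (Submodule.map_mono ?_) (Submodule.map_le_iff_le_comap.2 hbase)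
        refine le_trans inf_le_right (degreeLT_mono ?_)
        omega
      rw [hyp_inf_of_le hV₁ hle, hinf n]; rfl

end H17244

open Polynomial in
/-- Let `k` be a field of characteristic zero and take, on the projective line over `k`, the point `∞`
and `m` further distinct points `r_1, …, r_m` of the affine line, with positive integers `b` (at
`∞`) and `a_1, …, a_m`; put `N = b + ∑ a_j`. The sum of the spaces of differentials with a single
pole, of order at most `b + 1` at `∞`, resp. at most `a_j + 1` at `r_j`, `V = H⁰(ω((b+1)∞)) + ∑_j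
H⁰(ω((a_j+1)r_j)) ⊆ H⁰(ω((b+1)∞ + ∑_j (a_j+1)r_j)) ≅ H⁰(O(d))`, `d = b - 1 + ∑ (a_j+1)`, becomes,
after multiplying by `dX⁻¹ ∏_j (X - r_j)^(a_j+1)`, the subspace of `k[X]_{≤ d}` spanned by
`D·k[X]_{<b}` and the `D_i·k[X]_{<a_i}`, where `D = ∏_j (X - r_j)^(a_j+1)` and `D_i` omits the
`i`-th factor; a member `h` vanishes to order `n` at a point `q` of the affine line when `(X - q)^n
∣ h`, and to order `d - deg h` at `∞`. Let `V₁ ⊆ V` be a hyperplane (`dim V₁ = N - 1`) containing
`D·k[X]_{<b-2}` and every `D_i·k[X]_{<a_i}` (that is, containing `H⁰(ω((b-1)∞)) + ∑_j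
H⁰(ω((a_j+1)r_j))`). The weight of `V₁` at a point is `∑_{n=1}^{d} dim V₁(-n·point) - (N-1 choose
2)` (the sum of the vanishing orders minus `0 + 1 + ⋯ + (N-2)`). Then the weight of `V₁` at `r_i` is
`∑_{j≠i} a_j + b - 1 + ε_i` and its weight at `∞` is `∑_j a_j + N - 2 + ε`, with `ε_i, ε ∈ {0, 1}`.
(The published statement is over the complex numbers with the distinguished marked point arbitrary;
it is placed at `∞` here.) -/
theorem result
    (k : Type*) [Field k] [CharZero k] (m : ℕ) (r : Fin m → k) (hr : Function.Injective r)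
    (a : Fin m → ℕ) (ha : ∀ j, 1 ≤ a j) (b : ℕ) (hb : 1 ≤ b) (N d : ℕ)
    (hN : N = (∑ j, a j) + b) (hd : d + 1 = (∑ j, (a j + 1)) + b)
    (V : Submodule k (Polynomial k))
    (hV : V = (Polynomial.degreeLT k b).map (LinearMap.mulLeft k (∏ j, (X - C (r j)) ^ (a j + 1))) ⊔
      ⨆ i, (Polynomial.degreeLT k (a i)).map
        (LinearMap.mulLeft k (∏ j ∈ Finset.univ.erase i, (X - C (r j)) ^ (a j + 1))))
    (V₁ : Submodule k (Polynomial k)) (hV₁ : V₁ ≤ V) (hfin : Module.finrank k ↥V₁ + 1 = N)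
    (hU : (Polynomial.degreeLT k (b - 2)).map (LinearMap.mulLeft k (∏ j, (X - C (r j)) ^ (a j + 1))) ⊔
      (⨆ i, (Polynomial.degreeLT k (a i)).map
        (LinearMap.mulLeft k (∏ j ∈ Finset.univ.erase i, (X - C (r j)) ^ (a j + 1)))) ≤ V₁) :
    (∀ i : Fin m, ∃ ε : ℕ, ε ≤ 1 ∧
      (∑ n ∈ Finset.range d, Module.finrank k ↥(V₁ ⊓ (Ideal.span {(X - C (r i)) ^ (n + 1)}).restrictScalars k)) + 1 =
        (N - 1).choose 2 + (N - a i) + ε) ∧
    (∃ ε : ℕ, ε ≤ 1 ∧
      (∑ n ∈ Finset.range d, Module.finrank k ↥(V₁ ⊓ Polynomial.degreeLT k (d - n))) =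
        (N - 1).choose 2 + (N - b) + (N - 2) + ε) := by
  exact H17244.main r a hr ha b hb N d hN hd V hV V₁ hV₁ hfin hU

end Groth.Agent.S17244
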