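import Groth.Statements.S17245
import Mathlib
import Groth.Agent.Lib.Helper4.Wronsk2b
import Groth.Agent.S17243

set_option autoImplicit false
open W4c4effdivwronsk2

namespace Groth.Agent.S17245

namespace H17245
open Polynomial Groth.Agent.Lib.Helper4.Wronsk2
set_option linter.unusedSectionVars false

variable {k : Type*} [Field k] [CharZero k] {m : ℕ} (r : Fin m → k) (a : Fin m → ℕ)

theorem coprime_sq_EE (p : k) (hp : ∀ j, p ≠ r j) : IsCoprime ((X - C p) ^ 2) (EE r a) := by
  apply IsCoprime.pow_left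
  rw [(irreducible_X_sub_C p).coprime_iff_not_dvd, dvd_iff_isRoot]
  exact eval_EE_ne_zero r a p hp

theorem EE_notMem (p : k) (hp : ∀ j, p ≠ r j) (M : ℕ) :
    EE r a ∉ degreeLT k M ⊓ YY ((X - C p) ^ 2) := by
  rintro ⟨-, h⟩
  rw [SetLike.mem_coe, mem_YY] at h
  have h1 : (X - C p) ∣ EE r a := dvd_trans (dvd_pow_self _ (by norm_num)) h
  rw [dvd_iff_isRoot] at h1
  exact eval_EE_ne_zero r a p hp h1

/-- value and derivative vanish at a double root -/
theorem eval_of_sq_dvd (p : k) (F : k[X]) (h : (X - C p) ^ 2 ∣ F) :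
    F.eval p = 0 ∧ (derivative F).eval p = 0 := by
  obtain ⟨H, rfl⟩ := h
  constructor
  · simp
  · rw [derivative_mul, derivative_X_sub_C_pow]
    simp

variable (hr : Function.Injective r)
include hr

/-- membership of `Φ G` in `V(-p)` gives a double root of `G - cE` at `p` -/
theorem sq_dvd_of_mem (p : k) (hp : ∀ j, p ≠ r j) (G : k[X])
    (h : Phi r a G ∈ YY (X - C p)) : ∃ c : k, (X - C p) ^ 2 ∣ G - c • EE r a := by
  rw [mem_YY] at h
  have h' : (X - C p) ^ 1 ∣ Phi r a G := by rwa [pow_one]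
  exact unmarked_lemma r a p hp 1 G h'

theorem main (b N : ℕ) (hN : N = (∑ j, a j) + b) (hN1 : 1 ≤ N)
    (V : Submodule k (Polynomial k)) (hV : V = VV r a b)
    (p : k) (hp : ∀ j, p ≠ r j) (V₁ : Submodule k (Polynomial k))
    (hV₁ : V₁ = V ⊓ YY (X - C p)) :
    Module.finrank k ↥V₁ + 1 = N ∧
    (V₁ ⊓ YY ((X - C p) ^ N)) = ⊥ ∧
    (∀ q : k, (∀ j, q ≠ r j) → q ≠ p →
      (V₁ ⊓ YY ((X - C q) ^ N)) = ⊥ ∧
      Module.finrank k ↥(V₁ ⊓ YY ((X - C q) ^ (N - 2))) ≤ 1) ∧
    (∀ q q' : k, (∀ j, q ≠ r j) → q ≠ p → (∀ j, q' ≠ r j) → q' ≠ p →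
      (V₁ ⊓ YY ((X - C q) ^ (N - 1))) ≠ ⊥ →
      (V₁ ⊓ YY ((X - C q') ^ (N - 1))) ≠ ⊥ → q = q') := by
  subst hV
  have hle : V₁ ≤ VV r a b := by rw [hV₁]; exact inf_le_left
  have hleY : V₁ ≤ YY (X - C p) := by rw [hV₁]; exact inf_le_right
  have hfdV := finiteDimensional_VV r a hr b
  have hfd : FiniteDimensional k V₁ := Submodule.finiteDimensional_of_le hle
  have hbot : ∀ q : k, (∀ j, q ≠ r j) → V₁ ⊓ YY ((X - C q) ^ N) = ⊥ := by
    intro q hq
    rw [eq_bot_iff]
    refine le_trans (inf_le_inf_right _ hle) ?_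
    rw [Groth.Agent.S17242.H17242.main k m r hr a b N hN (VV r a b) rfl q hq]
  have hfin : Module.finrank k ↥V₁ + 1 = N := by
    have e : V₁ = VV r a b ⊓ YY ((X - C p) ^ 1) := by rw [hV₁, pow_one]
    rw [e, VV_inf_unmarked r a hr b N hN p hp 1,
      finrank_map_Phi_of_not_mem r a _ (EE_notMem r a p hp (N + 1)), finrank_degLT_inf_YY]
    omega
  refine ⟨hfin, hbot p hp, fun q hq hqp => ⟨hbot q hq, ?_⟩, ?_⟩
  · by_cases hN2 : N ≤ 2
    · have := Submodule.finrank_mono (inf_le_left : V₁ ⊓ YY ((X - C q) ^ (N - 2)) ≤ V₁)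
      omega
    push Not at hN2
    by_contra hcon
    push Not at hcon
    have e1 : N - 2 + 1 = N - 1 := by omega
    have hle2 : V₁ ⊓ YY ((X - C q) ^ (N - 2)) ≤ VV r a b ⊓ YY ((X - C q) ^ (N - 2)) :=
      inf_le_inf_right _ hle
    have hVY := VV_inf_unmarked r a hr b N hN q hq (N - 2)
    rw [e1] at hVY
    have hfr : Module.finrank k ↥(VV r a b ⊓ YY ((X - C q) ^ (N - 2))) ≤ 2 := by
      rw [hVY]
      refine le_trans (Submodule.finrank_map_le _ _) ?_
      rw [finrank_degLT_inf_YY]
      omega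
    have hfd2 : FiniteDimensional k ↥(VV r a b ⊓ YY ((X - C q) ^ (N - 2))) :=
      Submodule.finiteDimensional_inf_left _ _
    have heq := Submodule.eq_of_le_of_finrank_le hle2 (by omega)
    have hmemU : ∀ P : k[X], P ∈ degreeLT k (N + 1) → (X - C q) ^ (N - 1) ∣ P →
        Phi r a P ∈ V₁ := by
      intro P hP1 hP2
      have : Phi r a P ∈ VV r a b ⊓ YY ((X - C q) ^ (N - 2)) := by
        rw [hVY]
        exact ⟨P, ⟨hP1, (mem_YY _ _).2 hP2⟩, rfl⟩
      rw [← heq] at this
      exact this.1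
    have h1 := hleY (hmemU _ (degreeLT_mono (by omega) (X_sub_C_pow_mem_degLT q (N - 1))) dvd_rfl)
    have h2 := hleY (hmemU _ (X_sub_C_pow_mem_degLT q N) (pow_dvd_pow _ (by omega)))
    obtain ⟨c₁, hc₁⟩ := sq_dvd_of_mem r a hr p hp _ h1
    obtain ⟨c₂, hc₂⟩ := sq_dvd_of_mem r a hr p hp _ h2
    have h3 : (X - C p) ^ 2 ∣ (C c₂ - C c₁ * (X - C q)) * EE r a := by
      have := dvd_sub (dvd_mul_of_dvd_right hc₁ (X - C q)) hc₂
      have e : (X - C q) * ((X - C q) ^ (N - 1) - c₁ • EE r a) - ((X - C q) ^ N - c₂ • EE r a)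
          = (C c₂ - C c₁ * (X - C q)) * EE r a := by
        have : (X - C q) ^ N = (X - C q) * (X - C q) ^ (N - 1) := by
          rw [← pow_succ', Nat.sub_add_cancel hN1]
        rw [this]
        simp only [smul_eq_C_mul]; ring
      rwa [e] at this
    have h4 := (coprime_sq_EE r a p hp).dvd_of_dvd_mul_right h3
    have h5 : C c₂ - C c₁ * (X - C q) = 0 := by
      apply eq_zero_of_dvd_of_degree_lt h4
      rw [degree_pow, degree_X_sub_C]
      refine lt_of_le_of_lt (degree_sub_le _ _) (max_lt ?_ ?_)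
      · exact lt_of_le_of_lt degree_C_le (by norm_num)
      · refine lt_of_le_of_lt (degree_mul_le _ _) ?_
        rw [degree_X_sub_C]
        refine lt_of_le_of_lt (add_le_add_left degree_C_le _) ?_
        norm_num
    have hc₁0 : c₁ = 0 := by
      have := congrArg (fun f => coeff f 1) h5
      simp only [coeff_sub, coeff_C_mul, coeff_X_one, coeff_zero] at this
      simpa using this
    rw [hc₁0, zero_smul, sub_zero] at hc₁
    have h6 : (X - C p) ∣ (X - C q) ^ (N - 1) := dvd_trans (dvd_pow_self _ (by norm_num)) hc₁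
    rw [dvd_iff_isRoot, IsRoot.def, eval_pow, eval_sub, eval_X, eval_C] at h6
    exact hqp (sub_eq_zero.1 (pow_eq_zero_iff (by omega) |>.1 h6)).symm
  · intro q q' hq hqp hq' hq'p hne hne'
    by_contra hqq
    have key : ∀ q₀ : k, (∀ j, q₀ ≠ r j) → q₀ ≠ p → V₁ ⊓ YY ((X - C q₀) ^ (N - 1)) ≠ ⊥ →
        (N : k) * (EE r a).eval p = (p - q₀) * (derivative (EE r a)).eval p := by
      intro q₀ hq₀ hq₀p hne₀
      have h1 := Groth.Agent.S17243.H17243.pow_mem_comap r a hr b N hN hN1 V₁ hle q₀ hq₀ hne₀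
      rw [Submodule.mem_comap] at h1
      obtain ⟨c, hc⟩ := sq_dvd_of_mem r a hr p hp _ (hleY h1)
      obtain ⟨e1, e2⟩ := eval_of_sq_dvd p _ hc
      rw [eval_sub, eval_pow, eval_sub, eval_X, eval_C, eval_smul, smul_eq_mul] at e1
      rw [derivative_sub, derivative_smul, derivative_X_sub_C_pow, eval_sub, eval_mul, eval_C,
        eval_pow, eval_sub, eval_X, eval_C, eval_smul, smul_eq_mul] at e2
      have hpq : p - q₀ ≠ 0 := sub_ne_zero.2 (Ne.symm hq₀p)
      have hpow : (p - q₀) ^ N = (p - q₀) * (p - q₀) ^ (N - 1) := by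
        rw [← pow_succ', Nat.sub_add_cancel hN1]
      have hcne : c ≠ 0 := by
        intro h0
        rw [h0, zero_mul, sub_zero] at e1
        exact hpq (pow_eq_zero_iff (by omega) |>.1 e1)
      have e3 : c * ((N : k) * (EE r a).eval p) = c * ((p - q₀) * (derivative (EE r a)).eval p) := by
        have e1' : (p - q₀) ^ N = c * (EE r a).eval p := sub_eq_zero.1 e1
        have e2' : (N : k) * (p - q₀) ^ (N - 1) = c * (derivative (EE r a)).eval p :=
          sub_eq_zero.1 e2
        calc c * ((N : k) * (EE r a).eval p) = (N : k) * (p - q₀) ^ N := by rw [e1']; ring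
          _ = (p - q₀) * ((N : k) * (p - q₀) ^ (N - 1)) := by rw [hpow]; ring
          _ = c * ((p - q₀) * (derivative (EE r a)).eval p) := by rw [e2']; ring
      exact mul_left_cancel₀ hcne e3
    have k1 := key q hq hqp hne
    have k2 := key q' hq' hq'p hne'
    have hE := eval_EE_ne_zero r a p hp
    have hNk : (N : k) ≠ 0 := by exact_mod_cast (by omega : N ≠ 0)
    have h3 : (q' - q) * (derivative (EE r a)).eval p = 0 := by
      have : (p - q) * (derivative (EE r a)).eval p = (p - q') * (derivative (EE r a)).eval p := by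
        rw [← k1, ← k2]
      linear_combination this
    rcases mul_eq_zero.1 h3 with h | h
    · exact hqq (sub_eq_zero.1 h).symm
    · rw [h, mul_zero] at k1
      exact (mul_ne_zero hNk hE) k1

end H17245

open Polynomial in
/-- Let `k` be a field of characteristic zero and take, on the projective line over `k`, the point `∞`
and `m` further distinct points `r_1, …, r_m` of the affine line, with positive integers `b` (at
`∞`) and `a_1, …, a_m`; put `N = b + ∑ a_j`. The sum of the spaces of differentials with a single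
pole, of order at most `b + 1` at `∞`, resp. at most `a_j + 1` at `r_j`, `V = H⁰(ω((b+1)∞)) + ∑_j
H⁰(ω((a_j+1)r_j)) ⊆ H⁰(ω((b+1)∞ + ∑_j (a_j+1)r_j)) ≅ H⁰(O(d))`, `d = b - 1 + ∑ (a_j+1)`, becomes,
after multiplying by `dX⁻¹ ∏_j (X - r_j)^(a_j+1)`, the subspace of `k[X]_{≤ d}` spanned by
`D·k[X]_{<b}` and the `D_i·k[X]_{<a_i}`, where `D = ∏_j (X - r_j)^(a_j+1)` and `D_i` omits the
`i`-th factor; a member `h` vanishes to order `n` at a point `q` of the affine line when `(X - q)^n
∣ h`, and to order `d - deg h` at `∞`. Let `p` be a further point of the affine line, distinct from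
the `r_j`, and `V₁ = V(-p)` the members divisible by `X - p`, an `(N-1)`-dimensional system in the
line bundle twisted down by `p` (its vanishing orders at points `q ≠ p`, and at `∞`, are read off
exactly as for `V`; at `p` itself they are one less than the order of divisibility by `X - p`). Then
`dim V₁ = N - 1`, the point `p` is not a ramification point of `V₁` (no nonzero member of `V₁` is
divisible by `(X - p)^N`), and `V₁` has at most one ramification point off the marked points, a
simple one: at every `q` other than `p` and the `r_j`, no nonzero member is divisible by `(X - q)^N`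
and at most a line of members is divisible by `(X - q)^(N-2)`, and at most one such `q` has a
nonzero member divisible by `(X - q)^(N-1)`. (The published statement is over the complex numbers
with all points arbitrary; one marked point is placed at `∞` here and `p` is taken distinct from the
marked points.) -/
theorem result
    (k : Type*) [Field k] [CharZero k] (m : ℕ) (r : Fin m → k) (hr : Function.Injective r)
    (a : Fin m → ℕ) (ha : ∀ j, 1 ≤ a j) (b : ℕ) (hb : 1 ≤ b) (N d : ℕ)
    (hN : N = (∑ j, a j) + b) (hd : d + 1 = (∑ j, (a j + 1)) + b)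
    (V : Submodule k (Polynomial k))
    (hV : V = (Polynomial.degreeLT k b).map (LinearMap.mulLeft k (∏ j, (X - C (r j)) ^ (a j + 1))) ⊔
      ⨆ i, (Polynomial.degreeLT k (a i)).map
        (LinearMap.mulLeft k (∏ j ∈ Finset.univ.erase i, (X - C (r j)) ^ (a j + 1))))
    (p : k) (hp : ∀ j, p ≠ r j) (V₁ : Submodule k (Polynomial k))
    (hV₁ : V₁ = V ⊓ (Ideal.span {X - C p}).restrictScalars k) :
    Module.finrank k ↥V₁ + 1 = N ∧
    (V₁ ⊓ (Ideal.span {(X - C p) ^ N}).restrictScalars k) = ⊥ ∧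
    (∀ q : k, (∀ j, q ≠ r j) → q ≠ p →
      (V₁ ⊓ (Ideal.span {(X - C q) ^ N}).restrictScalars k) = ⊥ ∧
      Module.finrank k ↥(V₁ ⊓ (Ideal.span {(X - C q) ^ (N - 2)}).restrictScalars k) ≤ 1) ∧
    (∀ q q' : k, (∀ j, q ≠ r j) → q ≠ p → (∀ j, q' ≠ r j) → q' ≠ p →
      (V₁ ⊓ (Ideal.span {(X - C q) ^ (N - 1)}).restrictScalars k) ≠ ⊥ →
      (V₁ ⊓ (Ideal.span {(X - C q') ^ (N - 1)}).restrictScalars k) ≠ ⊥ → q = q') := by
  exact H17245.main r a hr b N hN (by omega) V hV p hp V₁ hV₁

end Groth.Agent.S17245
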