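import Groth.Statements.S17246
import Mathlib
import Groth.Agent.Lib.Helper4.Wronsk2c
import Groth.Agent.S17241
import Groth.Agent.S17245

set_option autoImplicit false
open W4c4effdivwronsk2

namespace Groth.Agent.S17246

namespace H17246
open Polynomial Groth.Agent.Lib.Helper4.Wronsk2
set_option linter.unusedSectionVars false

variable {k : Type*} [Field k] [CharZero k] {m : ℕ} (r : Fin m → k) (a : Fin m → ℕ)
variable (hr : Function.Injective r)
include hr

theorem not_le_marked (b N : ℕ) (hN : N = (∑ j, a j) + b) (hN2 : 2 ≤ N)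
    (p : k) (hp : ∀ j, p ≠ r j) (V₁ : Submodule k (Polynomial k))
    (hleY : V₁ ≤ YY (X - C p)) (i : Fin m) (n : ℕ) (hn : n + 1 ≤ N - 1) :
    ¬ VV r a b ⊓ YY ((X - C (r i)) ^ (n + 1)) ≤ V₁ := by
  have hN1 : 1 ≤ N := by omega
  intro hle
  have hmemU : ∀ P : k[X], P ∈ degreeLT k (N + 1) → (X - C (r i)) ^ (n + 1) ∣ P →
      Phi r a P ∈ YY (X - C p) := by
    intro P hP1 hP2
    apply hleY
    apply hle
    rw [VV_inf_marked r a hr b N hN i (n + 1)]
    exact ⟨P, ⟨hP1, (mem_YY _ _).2 hP2⟩, rfl⟩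
  have h1 := hmemU _ (degreeLT_mono (by omega) (X_sub_C_pow_mem_degLT (r i) (N - 1)))
    (pow_dvd_pow _ hn)
  have h2 := hmemU _ (X_sub_C_pow_mem_degLT (r i) N) (pow_dvd_pow _ (by omega))
  obtain ⟨c₁, hc₁⟩ := sq_dvd_of_mem r a p hp _ h1
  obtain ⟨c₂, hc₂⟩ := sq_dvd_of_mem r a p hp _ h2
  have e : (X - C (r i)) ^ N = (X - C (r i)) * (X - C (r i)) ^ (N - 1) := by
    rw [← pow_succ', Nat.sub_add_cancel hN1]
  rw [e] at hc₂
  have h3 := dbl r a p hp (r i) _ c₁ c₂ hc₁ hc₂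
  have h4 : (X - C p) ∣ (X - C (r i)) ^ (N - 1) := dvd_trans (dvd_pow_self _ (by norm_num)) h3
  rw [dvd_iff_isRoot, IsRoot.def, eval_pow, eval_sub, eval_X, eval_C] at h4
  exact hp i (sub_eq_zero.1 (pow_eq_zero_iff (by omega) |>.1 h4))

theorem not_le_inf (b N : ℕ) (hN : N = (∑ j, a j) + b) (hN1 : 1 ≤ N)
    (p : k) (hp : ∀ j, p ≠ r j) (V₁ : Submodule k (Polynomial k))
    (hleY : V₁ ≤ YY (X - C p)) (D' : ℕ) (hD : m + 1 ≤ D') :
    ¬ VV r a b ⊓ degreeLT k D' ≤ V₁ := by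
  intro hle
  have hmemU : ∀ (P : k[X]) (j : ℕ), j ≤ 1 → P ∈ degreeLT k (j + 1) →
      Phi r a P ∈ YY (X - C p) := by
    intro P j hj hP
    apply hleY
    apply hle
    refine ⟨?_, ?_⟩
    · rw [VV_eq r a hr b N hN]
      exact ⟨P, degreeLT_mono (by omega) hP, rfl⟩
    · exact degreeLT_mono (by omega) (Phi_mem_degLT r a P j hP)
  have hone : (1 : k[X]) ∈ degreeLT k (0 + 1) := by
    apply mem_degLT_of_natDegree_lt
    rw [natDegree_one]; omega
  have hX : (X : k[X]) ∈ degreeLT k (1 + 1) := by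
    apply mem_degLT_of_natDegree_lt
    rw [natDegree_X]; omega
  have h1 := hmemU 1 0 (by omega) hone
  have h2 := hmemU X 1 le_rfl hX
  obtain ⟨c₁, hc₁⟩ := sq_dvd_of_mem r a p hp _ h1
  obtain ⟨c₂, hc₂⟩ := sq_dvd_of_mem r a p hp _ h2
  have hc₂' : (X - C p) ^ 2 ∣ (X - C (0 : k)) * 1 - c₂ • EE r a := by
    have e : (X - C (0 : k)) * 1 = (X : k[X]) := by simp
    rw [e]; exact hc₂
  have h3 := dbl r a p hp 0 1 c₁ c₂ hc₁ hc₂'
  have h4 : (X - C p) ∣ (1 : k[X]) := dvd_trans (dvd_pow_self _ (by norm_num)) h3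
  exact not_isUnit_X_sub_C p (isUnit_of_dvd_one h4)

theorem main_marked (ha : ∀ j, 1 ≤ a j) (b : ℕ) (hb : 1 ≤ b) (N d : ℕ)
    (hN : N = (∑ j, a j) + b) (hd' : d + 1 = (∑ j, a j) + m + b)
    (p : k) (hp : ∀ j, p ≠ r j) (V₁ : Submodule k (Polynomial k))
    (hV₁ : V₁ ≤ VV r a b) (hleY : V₁ ≤ YY (X - C p))
    (hfin' : Module.finrank k ↥V₁ + 1 = Module.finrank k ↥(VV r a b))
    (hmark : ∀ (i : Fin m) (n : ℕ), Module.finrank k ↥(VV r a b ⊓ YY ((X - C (r i)) ^ n)) =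
      if n ≤ a i then N - n else N + 1 - n) (i : Fin m) :
    ∃ ε : ℕ, ε ≤ 1 ∧
      (∑ n ∈ Finset.range d, Module.finrank k ↥(V₁ ⊓ YY ((X - C (r i)) ^ (n + 1)))) + 1 =
        (N - 1).choose 2 + (N - a i) + ε := by
  have hN1 : 1 ≤ N := by omega
  have hfdV := finiteDimensional_VV r a hr b
  have hfd : FiniteDimensional k V₁ := Submodule.finiteDimensional_of_le hV₁
  have hm1 : 1 ≤ m := Nat.succ_le_of_lt i.pos
  have hai : a i ≤ ∑ j, a j := Finset.single_le_sum (fun j _ => Nat.zero_le _) (Finset.mem_univ i)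
  have hai1 := ha i
  apply wtA N (a i) d (fun n => Module.finrank k ↥(V₁ ⊓ YY ((X - C (r i)) ^ n))) hN1
    (Or.inl ⟨by omega, by omega⟩)
  · intro n hn
    show Module.finrank k ↥(V₁ ⊓ YY ((X - C (r i)) ^ (n + 1))) + 1 = fe N (a i) (n + 1)
    have hnle := not_le_marked r a hr b N hN (by omega) p hp V₁ hleY i n hn
    rw [hyp_finrank_of_not_le hV₁ hfin' hnle, hmark i (n + 1)]
    rfl
  · show Module.finrank k ↥(V₁ ⊓ YY ((X - C (r i)) ^ N)) ≤ 1
    have := Submodule.finrank_mono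
      (inf_le_inf_right (YY ((X - C (r i)) ^ N)) hV₁)
    rw [hmark i N, if_neg (by omega)] at this
    omega
  · intro n hn
    show Module.finrank k ↥(V₁ ⊓ YY ((X - C (r i)) ^ n)) = 0
    have := Submodule.finrank_mono
      (inf_le_inf_right (YY ((X - C (r i)) ^ n)) hV₁)
    rw [hmark i n, if_neg (by omega)] at this
    omega

theorem main_inf (ha : ∀ j, 1 ≤ a j) (b : ℕ) (hb : 1 ≤ b) (N d : ℕ)
    (hN : N = (∑ j, a j) + b) (hd' : d + 1 = (∑ j, a j) + m + b)
    (p : k) (hp : ∀ j, p ≠ r j) (V₁ : Submodule k (Polynomial k))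
    (hV₁ : V₁ ≤ VV r a b) (hleY : V₁ ≤ YY (X - C p))
    (hfin' : Module.finrank k ↥V₁ + 1 = Module.finrank k ↥(VV r a b))
    (hinf : ∀ (n : ℕ), Module.finrank k ↥(VV r a b ⊓ degreeLT k (d + 1 - n)) =
      if n ≤ b then N - n else N + 1 - n) :
    ∃ ε : ℕ, ε ≤ 1 ∧
      (∑ n ∈ Finset.range d, Module.finrank k ↥(V₁ ⊓ Polynomial.degreeLT k (d - n))) + 1 =
        (N - 1).choose 2 + (N - b) + ε := by
  have hN1 : 1 ≤ N := by omega
  have hfdV := finiteDimensional_VV r a hr b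
  have hfd : FiniteDimensional k V₁ := Submodule.finiteDimensional_of_le hV₁
  have hαm : m ≤ ∑ j, a j := by
    calc m = ∑ _j : Fin m, 1 := by simp
      _ ≤ ∑ j, a j := Finset.sum_le_sum (fun j _ => ha j)
  have hsum : ∑ n ∈ Finset.range d, Module.finrank k ↥(V₁ ⊓ Polynomial.degreeLT k (d - n)) =
      ∑ n ∈ Finset.range d,
        (fun n' => Module.finrank k ↥(V₁ ⊓ Polynomial.degreeLT k (d + 1 - n'))) (n + 1) := by
    refine Finset.sum_congr rfl (fun n _ => ?_)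
    have e : d + 1 - (n + 1) = d - n := by omega
    show _ = Module.finrank k ↥(V₁ ⊓ Polynomial.degreeLT k (d + 1 - (n + 1)))
    rw [e]
  rw [hsum]
  have hcase : (N ≤ d ∧ b + 1 ≤ N) ∨ (d + 1 = N ∧ b = N) := by
    rcases Nat.eq_zero_or_pos m with hm0 | hmpos
    · right
      have : (∑ j, a j) = 0 := by subst hm0; simp
      omega
    · left; omega
  apply wtA N b d (fun n' => Module.finrank k ↥(V₁ ⊓ Polynomial.degreeLT k (d + 1 - n'))) hN1 hcase
  · intro n hn
    show Module.finrank k ↥(V₁ ⊓ Polynomial.degreeLT k (d + 1 - (n + 1))) + 1 = fe N b (n + 1)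
    have hnle := not_le_inf r a hr b N hN hN1 p hp V₁ hleY (d + 1 - (n + 1)) (by omega)
    rw [hyp_finrank_of_not_le hV₁ hfin' hnle, hinf (n + 1)]
    rfl
  · show Module.finrank k ↥(V₁ ⊓ Polynomial.degreeLT k (d + 1 - N)) ≤ 1
    have := Submodule.finrank_mono
      (inf_le_inf_right (Polynomial.degreeLT k (d + 1 - N)) hV₁)
    rw [hinf N] at this
    split_ifs at this <;> omega
  · intro n hn
    show Module.finrank k ↥(V₁ ⊓ Polynomial.degreeLT k (d + 1 - n)) = 0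
    have := Submodule.finrank_mono
      (inf_le_inf_right (Polynomial.degreeLT k (d + 1 - n)) hV₁)
    rw [hinf n, if_neg (by omega)] at this
    omega

theorem main (ha : ∀ j, 1 ≤ a j) (b : ℕ) (hb : 1 ≤ b) (N d : ℕ)
    (hN : N = (∑ j, a j) + b) (hd : d + 1 = (∑ j, (a j + 1)) + b)
    (V : Submodule k (Polynomial k)) (hV : V = VV r a b)
    (p : k) (hp : ∀ j, p ≠ r j) (V₁ : Submodule k (Polynomial k))
    (hV₁' : V₁ = V ⊓ YY (X - C p)) :
    (∀ i : Fin m, ∃ ε : ℕ, ε ≤ 1 ∧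
      (∑ n ∈ Finset.range d, Module.finrank k ↥(V₁ ⊓ YY ((X - C (r i)) ^ (n + 1)))) + 1 =
        (N - 1).choose 2 + (N - a i) + ε) ∧
    (∃ ε : ℕ, ε ≤ 1 ∧
      (∑ n ∈ Finset.range d, Module.finrank k ↥(V₁ ⊓ Polynomial.degreeLT k (d - n))) + 1 =
        (N - 1).choose 2 + (N - b) + ε) := by
  have hd' : d + 1 = (∑ j, a j) + m + b := by
    rw [hd, Finset.sum_add_distrib]; simp
  have hN1 : 1 ≤ N := by omega
  obtain ⟨hdimV, hmark, hinf⟩ := Groth.Agent.S17241.H17241.main r a hr b N d hN hd V hV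
  obtain ⟨hfin, -⟩ := Groth.Agent.S17245.H17245.main r a hr b N hN hN1 V hV p hp V₁ hV₁'
  subst hV
  have hV₁ : V₁ ≤ VV r a b := by rw [hV₁']; exact inf_le_left
  have hleY : V₁ ≤ YY (X - C p) := by rw [hV₁']; exact inf_le_right
  have hfin' : Module.finrank k ↥V₁ + 1 = Module.finrank k ↥(VV r a b) := by rw [hdimV, hfin]
  exact ⟨fun i => main_marked r a hr ha b hb N d hN hd' p hp V₁ hV₁ hleY hfin' hmark i,
    main_inf r a hr ha b hb N d hN hd' p hp V₁ hV₁ hleY hfin' hinf⟩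

end H17246

open Polynomial in
/-- Let `k` be a field of characteristic zero and take, on the projective line over `k`, the point `∞`
and `m` further distinct points `r_1, …, r_m` of the affine line, with positive integers `b` (at
`∞`) and `a_1, …, a_m`; put `N = b + ∑ a_j`. The sum of the spaces of differentials with a single
pole, of order at most `b + 1` at `∞`, resp. at most `a_j + 1` at `r_j`, `V = H⁰(ω((b+1)∞)) + ∑_j
H⁰(ω((a_j+1)r_j)) ⊆ H⁰(ω((b+1)∞ + ∑_j (a_j+1)r_j)) ≅ H⁰(O(d))`, `d = b - 1 + ∑ (a_j+1)`, becomes,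
after multiplying by `dX⁻¹ ∏_j (X - r_j)^(a_j+1)`, the subspace of `k[X]_{≤ d}` spanned by
`D·k[X]_{<b}` and the `D_i·k[X]_{<a_i}`, where `D = ∏_j (X - r_j)^(a_j+1)` and `D_i` omits the
`i`-th factor; a member `h` vanishes to order `n` at a point `q` of the affine line when `(X - q)^n
∣ h`, and to order `d - deg h` at `∞`. Let `p` be a further point of the affine line, distinct from
the `r_j`, and `V₁ = V(-p)` the members divisible by `X - p` (an `(N-1)`-dimensional system in the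
line bundle twisted down by `p`, with vanishing orders at the marked points read off as for `V`).
With the weight of `V₁` at a marked point defined as `∑_{n=1}^{d} dim V₁(-n·point) - (N-1 choose
2)`: the weight at `r_i` is `∑_{j≠i} a_j + b - 1 + ε_i` and the weight at `∞` is `∑_j a_j - 1 + ε`,
with all `ε` in `{0, 1}`. (The published statement is over the complex numbers with all points
arbitrary; one marked point is placed at `∞` here and `p` is taken distinct from the marked points.) -/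
theorem result
    (k : Type*) [Field k] [CharZero k] (m : ℕ) (r : Fin m → k) (hr : Function.Injective r)
    (a : Fin m → ℕ) (ha : ∀ j, 1 ≤ a j) (b : ℕ) (hb : 1 ≤ b) (N d : ℕ)
    (hN : N = (∑ j, a j) + b) (hd : d + 1 = (∑ j, (a j + 1)) + b)
    (V : Submodule k (Polynomial k))
    (hV : V = (Polynomial.degreeLT k b).map (LinearMap.mulLeft k (∏ j, (X - C (r j)) ^ (a j + 1))) ⊔
      ⨆ i, (Polynomial.degreeLT k (a i)).map
        (LinearMap.mulLeft k (∏ j ∈ Finset.univ.erase i, (X - C (r j)) ^ (a j + 1))))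
    (p : k) (hp : ∀ j, p ≠ r j) (V₁ : Submodule k (Polynomial k))
    (hV₁ : V₁ = V ⊓ (Ideal.span {X - C p}).restrictScalars k) :
    (∀ i : Fin m, ∃ ε : ℕ, ε ≤ 1 ∧
      (∑ n ∈ Finset.range d, Module.finrank k ↥(V₁ ⊓ (Ideal.span {(X - C (r i)) ^ (n + 1)}).restrictScalars k)) + 1 =
        (N - 1).choose 2 + (N - a i) + ε) ∧
    (∃ ε : ℕ, ε ≤ 1 ∧
      (∑ n ∈ Finset.range d, Module.finrank k ↥(V₁ ⊓ Polynomial.degreeLT k (d - n))) + 1 =
        (N - 1).choose 2 + (N - b) + ε) := by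
  exact H17246.main r a hr ha b hb N d hN hd V hV p hp V₁ hV₁

end Groth.Agent.S17246
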