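import Groth.Statements.S17247
import Mathlib
import Groth.Prelude.Def_W4bk4goldsch23FF
import Groth.Agent.Lib.Helper9.Tors.Basic
import Groth.Agent.Lib.Helper4.FF.Gaps3
-- import your own Groth.Agent.* helpers here

set_option autoImplicit false
open FunFld

namespace Groth.Agent.S17247

namespace Aux

open FunFld WithZero Groth.Agent.Lib.Helper4.FF Groth.Agent.Helper9.Tors

variable {k K : Type*} [Field k] [IsAlgClosed k] [Field K] [Algebra k K]

/-- on a curve of positive genus no function has divisor `Q - A` -/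
theorem no_fun (hK : IsFunctionField k K) (hg : 0 < genus k K) {A Q : Place k K} (hQ : Q ≠ A)
    {z : K} (hz0 : z ≠ 0)
    (hz : z ∈ L (Finsupp.single A 1 - Finsupp.single Q 1 : Divisor k K)) : False := by
  classical
  have hzA : z ∈ L (Finsupp.single A 1 : Divisor k K) := by
    refine L_mono ?_ hz
    rw [sub_le_self_iff]
    intro R
    rw [Finsupp.zero_apply, Finsupp.single_apply]
    split_ifs <;> omega
  have hone : (1 : K) ∈ L (Finsupp.single A 1 : Divisor k K) := by
    intro R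
    rw [map_one, ← exp_zero, exp_le_exp, Finsupp.single_apply]
    split_ifs <;> omega
  have h1 : ell (Finsupp.single A 1 : Divisor k K) = 1 := ell_single_one_of_pos_genus hK hg A
  have hne : (⟨1, hone⟩ : L (Finsupp.single A 1 : Divisor k K)) ≠ 0 := by
    intro h
    have := congrArg Subtype.val h
    exact one_ne_zero this
  obtain ⟨c, hc⟩ := (finrank_eq_one_iff_of_nonzero' _ hne).mp h1 ⟨z, hzA⟩
  have hc' : z = algebraMap k K c := by
    have := congrArg Subtype.val hc
    simp only [Submodule.coe_smul] at this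
    rw [← this, Algebra.smul_def, mul_one]
  have hc0 : c ≠ 0 := by
    rintro rfl
    rw [map_zero] at hc'
    exact hz0 hc'
  have hv : Q.1 z = 1 := by
    rw [hc']
    exact val_algebraMap_eq_one Q.1 Q.2.1 hc0
  have := hz Q
  rw [hv, Finsupp.sub_apply, Finsupp.single_eq_same, Finsupp.single_eq_of_ne hQ, ← exp_zero,
    exp_le_exp] at this
  omega

/-- `N(A - Q)` and `(N+2)(A - Q)` are not both principal for odd `N` -/
theorem not_both (hK : IsFunctionField k K) (hg : 0 < genus k K) {A Q : Place k K} (hQ : Q ≠ A)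
    (m : ℕ) {u v : K} (hu0 : u ≠ 0) (hv0 : v ≠ 0)
    (hu : u ∈ L (Finsupp.single A (2 * (m : ℤ) + 1) - Finsupp.single Q (2 * (m : ℤ) + 1) : Divisor k K))
    (hv : v ∈ L (Finsupp.single A (2 * (m : ℤ) + 3) - Finsupp.single Q (2 * (m : ℤ) + 3) : Divisor k K)) :
    False := by
  classical
  have hdA := Place.deg_eq_one hK A
  have hdQ := Place.deg_eq_one hK Q
  have e1 := div_add_eq_of_deg_eq hK hu0 hu (by
    rw [Divisor.deg_single, Divisor.deg_single, hdA, hdQ])
  have e2 := div_add_eq_of_deg_eq hK hv0 hv (by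
    rw [Divisor.deg_single, Divisor.deg_single, hdA, hdQ])
  have hw0 : v / u ≠ 0 := div_ne_zero hv0 hu0
  have hz0 : u / (v / u) ^ m ≠ 0 := div_ne_zero hu0 (pow_ne_zero _ hw0)
  apply no_fun hK hg hQ hz0
  intro R
  rw [Place.val_eq_exp_neg_ord R hz0, exp_le_exp, ← div_apply hK, div_div hK hu0 (pow_ne_zero _ hw0),
    div_pow hK, div_div hK hv0 hu0]
  have h1 : div k u = Finsupp.single Q (2 * (m : ℤ) + 1) - Finsupp.single A (2 * (m : ℤ) + 1) := by
    rw [← e1]; abel
  have h2 : div k v = Finsupp.single Q (2 * (m : ℤ) + 3) - Finsupp.single A (2 * (m : ℤ) + 3) := by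
    rw [← e2]; abel
  rw [h1, h2]
  simp only [Finsupp.sub_apply, Finsupp.smul_apply, Finsupp.single_apply]
  split_ifs <;> simp <;> ring_nf <;> omega

theorem choose_sum (m : ℕ) : ∑ i ∈ Finset.range m, (m + 1 - i) + 1 = (m + 2).choose 2 := by
  induction m with
  | zero => simp
  | succ m ih =>
    rw [Finset.sum_range_succ']
    have h1 : ∑ i ∈ Finset.range m, (m + 1 + 1 - (i + 1)) = ∑ i ∈ Finset.range m, (m + 1 - i) := by
      apply Finset.sum_congr rfl
      intro i _
      omega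
    rw [h1]
    have h2 : (m + 1 + 2).choose 2 = (m + 2).choose 1 + (m + 2).choose 2 := by
      rw [show m + 1 + 2 = (m + 2) + 1 by ring, Nat.choose_succ_succ]
    rw [h2, ← ih, Nat.choose_one_right]
    omega

theorem arith (m τ1 τ2 : ℕ) (hτ : τ1 + τ2 ≤ 1) (c : ℕ → ℕ)
    (h1 : ∀ n, 1 ≤ n → n ≤ m → c n + n ≤ m + 2)
    (h2 : c (m + 1) ≤ τ1 + 1) (h3 : c (m + 2) ≤ 1) (h4 : c (m + 3) ≤ τ2)
    (h5 : ∀ n, m + 3 < n → c n = 0) :
    ∑ i ∈ Finset.range (2 * (m + 3) - 2), c (i + 1) ≤ (m + 3 - 1).choose 2 + 2 := by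
  have e : 2 * (m + 3) - 2 = (m + 3) + (m + 1) := by omega
  rw [e, Finset.sum_range_add, Finset.sum_range_succ, Finset.sum_range_succ, Finset.sum_range_succ]
  have hz : ∑ x ∈ Finset.range (m + 1), c (m + 3 + x + 1) = 0 := by
    apply Finset.sum_eq_zero
    intro x _
    exact h5 _ (by omega)
  have hs : ∑ x ∈ Finset.range m, c (x + 1) ≤ ∑ i ∈ Finset.range m, (m + 1 - i) := by
    apply Finset.sum_le_sum
    intro i hi
    have := h1 (i + 1) (by omega) (by have := Finset.mem_range.mp hi; omega)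
    omega
  have hc := choose_sum m
  have e2 : m + 3 - 1 = m + 2 := by omega
  rw [hz, e2, ← hc]
  have e3 : m + 1 + 1 = m + 2 := by ring
  have e4 : m + 2 + 1 = m + 3 := by ring
  rw [e3, e4]
  omega

theorem ell_single_sub (hK : IsFunctionField k K) (hg1 : genus k K = 1) (A Q : Place k K)
    (a n : ℤ) :
    (1 ≤ a - n → (ell (Finsupp.single A a - Finsupp.single Q n : Divisor k K) : ℤ) = a - n) ∧
    (a - n = 0 → ell (Finsupp.single A a - Finsupp.single Q n : Divisor k K) ≤ 1) ∧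
    (a - n < 0 → ell (Finsupp.single A a - Finsupp.single Q n : Divisor k K) = 0) := by
  have hdeg : Divisor.deg (Finsupp.single A a - Finsupp.single Q n : Divisor k K) = a - n := by
    rw [Divisor.deg_sub, Divisor.deg_single, Divisor.deg_single, Place.deg_eq_one hK A,
      Place.deg_eq_one hK Q]
    simp
  refine ⟨fun h => ?_, fun h => ?_, fun h => ?_⟩
  · have := ell_eq_of_deg_ge hK (D := (Finsupp.single A a - Finsupp.single Q n : Divisor k K)) (by
      rw [hdeg, hg1]; push_cast; omega)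
    rw [hdeg, hg1] at this
    push_cast at this
    omega
  · exact ell_le_one_of_deg_zero hK (by rw [hdeg, h]) A
  · have h2 : L (Finsupp.single A a - Finsupp.single Q n : Divisor k K) = ⊥ :=
      L_eq_bot_of_deg_neg hK (by rw [hdeg]; exact h)
    unfold FunFld.ell
    rw [h2]
    exact finrank_bot k K

omit [IsAlgClosed k] in
theorem inf_L_le {A Q : Place k K} (hQ : Q ≠ A) (a b n : ℤ) (_hab : a ≤ b) :
    L (Finsupp.single A a : Divisor k K) ⊓ L (Finsupp.single A b - Finsupp.single Q n) ≤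
      L (Finsupp.single A a - Finsupp.single Q n) := by
  classical
  intro x hx R
  by_cases hR : R = Q
  · subst hR
    refine (hx.2 R).trans (exp_le_exp.mpr ?_)
    rw [Finsupp.sub_apply, Finsupp.sub_apply, Finsupp.single_eq_of_ne hQ, Finsupp.single_eq_of_ne hQ]
  · refine (hx.1 R).trans (exp_le_exp.mpr ?_)
    rw [Finsupp.sub_apply, Finsupp.single_eq_of_ne hR, sub_zero]

theorem core (hK : FunFld.IsFunctionField k K) (hg1 : FunFld.genus k K = 1)
    (m j : ℕ) (hj : m = 2 * j) (G : ℤ) (hG : G = (m : ℤ) + 3) (A : FunFld.Place k K)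
    (V₁ : Submodule k K) (hlo : FunFld.L (Finsupp.single A (G - 2)) ≤ V₁)
    (hhi : V₁ ≤ FunFld.L (Finsupp.single A G)) (hdim : Module.finrank k ↥V₁ = m + 2)
    (Q : FunFld.Place k K) (hQ : Q ≠ A) :
    (∑ n ∈ Finset.range (2 * (m + 3) - 2), Module.finrank k
        ↥(V₁ ⊓ FunFld.L (Finsupp.single A (2 * G - 2) - Finsupp.single Q ((n : ℤ) + 1)))) ≤
      (m + 3 - 1).choose 2 + 2 := by
  classical
  have hfV : Module.Finite k V₁ := Module.finite_of_finrank_pos (by omega)
  -- the counting function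
  obtain ⟨c, hc⟩ : ∃ c : ℤ → ℕ, c = fun n => Module.finrank k
    ↥(V₁ ⊓ L (Finsupp.single A (2 * G - 2) - Finsupp.single Q n)) := ⟨_, rfl⟩
  have hsum : (∑ n ∈ Finset.range (2 * (m + 3) - 2), Module.finrank k
      ↥(V₁ ⊓ L (Finsupp.single A (2 * G - 2) - Finsupp.single Q ((n : ℤ) + 1)))) =
      ∑ n ∈ Finset.range (2 * (m + 3) - 2), (fun i : ℕ => c (i : ℤ)) (n + 1) := by
    apply Finset.sum_congr rfl
    intro n _
    rw [hc]
    simp only
    push_cast
    rfl
  rw [hsum]
  -- first bound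
  have hB1 : ∀ n : ℤ, c n ≤ ell (Finsupp.single A G - Finsupp.single Q n : Divisor k K) := by
    intro n
    have := L_finite hK (Finsupp.single A G - Finsupp.single Q n : Divisor k K)
    rw [hc]
    apply Submodule.finrank_mono
    refine le_trans ?_ (inf_L_le hQ G (2 * G - 2) n (by omega))
    exact inf_le_inf_right _ hhi
  -- second bound
  have hell2 : ell (Finsupp.single A (G - 2) : Divisor k K) = m + 1 := by
    have h := (ell_single_sub hK hg1 A Q (G - 2) 0).1 (by omega)
    rw [Finsupp.single_zero, sub_zero] at h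
    omega
  have hB2 : ∀ n : ℤ, c n ≤ ell (Finsupp.single A (G - 2) - Finsupp.single Q n : Divisor k K) + 1 := by
    intro n
    have hfin := L_finite hK (Finsupp.single A (G - 2) - Finsupp.single Q n : Divisor k K)
    have h1 := finrank_inf_le_add
      (L (Finsupp.single A (2 * G - 2) - Finsupp.single Q n : Divisor k K)) hlo
    have h2 : Module.finrank k ↥(L (Finsupp.single A (2 * G - 2) -
        Finsupp.single Q n : Divisor k K) ⊓ L (Finsupp.single A (G - 2))) ≤
        ell (Finsupp.single A (G - 2) - Finsupp.single Q n : Divisor k K) := by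
      apply Submodule.finrank_mono
      rw [inf_comm]
      exact inf_L_le hQ _ _ n (by omega)
    have h3 : c n = Module.finrank k ↥(L (Finsupp.single A (2 * G - 2) -
        Finsupp.single Q n : Divisor k K) ⊓ V₁) := by
      rw [hc]
      simp only
      rw [inf_comm]
    unfold FunFld.ell at hell2
    omega
  obtain ⟨τ1, hτ1⟩ : ∃ τ1, τ1 = ell (Finsupp.single A (G - 2) - Finsupp.single Q ((m : ℤ) + 1) :
      Divisor k K) := ⟨_, rfl⟩
  obtain ⟨τ2, hτ2⟩ : ∃ τ2, τ2 = ell (Finsupp.single A G - Finsupp.single Q ((m : ℤ) + 3) :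
      Divisor k K) := ⟨_, rfl⟩
  have hτ1le : τ1 ≤ 1 := by
    rw [hτ1]; exact (ell_single_sub hK hg1 A Q _ _).2.1 (by omega)
  have hτ2le : τ2 ≤ 1 := by
    rw [hτ2]; exact (ell_single_sub hK hg1 A Q _ _).2.1 (by omega)
  have hτ : τ1 + τ2 ≤ 1 := by
    by_contra hcon
    have h1 : 0 < τ1 := by omega
    have h2 : 0 < τ2 := by omega
    rw [hτ1] at h1
    rw [hτ2] at h2
    obtain ⟨u, hu, hu0⟩ := exists_ne_zero_of_ell_pos h1
    obtain ⟨v, hv, hv0⟩ := exists_ne_zero_of_ell_pos h2
    have e1 : G - 2 = 2 * (j : ℤ) + 1 := by omega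
    have e2 : (m : ℤ) + 1 = 2 * (j : ℤ) + 1 := by omega
    have e3 : G = 2 * (j : ℤ) + 3 := by omega
    have e4 : (m : ℤ) + 3 = 2 * (j : ℤ) + 3 := by omega
    rw [e1, e2] at hu
    rw [e4, e3] at hv
    exact not_both hK (by omega) hQ j hu0 hv0 hu hv
  refine arith m τ1 τ2 hτ (fun i : ℕ => c (i : ℤ)) ?_ ?_ ?_ ?_ ?_
  · intro n hn1 hnm
    have h1 := hB2 (n : ℤ)
    have h2 := (ell_single_sub hK hg1 A Q (G - 2) (n : ℤ)).1 (by omega)
    change c (n : ℤ) + n ≤ m + 2
    omega
  · have := hB2 ((m : ℤ) + 1)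
    change c ((m + 1 : ℕ) : ℤ) ≤ τ1 + 1
    push_cast
    rw [hτ1]
    exact this
  · have h1 := hB2 ((m : ℤ) + 2)
    have h2 := (ell_single_sub hK hg1 A Q (G - 2) ((m : ℤ) + 2)).2.2 (by omega)
    change c ((m + 2 : ℕ) : ℤ) ≤ 1
    push_cast
    omega
  · have := hB1 ((m : ℤ) + 3)
    change c ((m + 3 : ℕ) : ℤ) ≤ τ2
    push_cast
    rw [hτ2]
    exact this
  · intro n hn
    have h1 := hB1 (n : ℤ)
    have h2 := (ell_single_sub hK hg1 A Q G (n : ℤ)).2.2 (by omega)
    change c (n : ℤ) = 0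
    omega

theorem main
    (k K : Type*) [Field k] [IsAlgClosed k] [CharZero k] [Field K] [Algebra k K]
    (hK : FunFld.IsFunctionField k K) (hg1 : FunFld.genus k K = 1)
    (g : ℕ) (hodd : Odd g) (h3 : 3 ≤ g) (A : FunFld.Place k K)
    (V₁ : Submodule k K) (hlo : FunFld.L (Finsupp.single A ((g : ℤ) - 2)) ≤ V₁)
    (hhi : V₁ ≤ FunFld.L (Finsupp.single A (g : ℤ))) (hdim : Module.finrank k ↥V₁ + 1 = g)
    (Q : FunFld.Place k K) (hQ : Q ≠ A) :
    (∑ n ∈ Finset.range (2 * g - 2), Module.finrank k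
        ↥(V₁ ⊓ FunFld.L (Finsupp.single A (2 * (g : ℤ) - 2) - Finsupp.single Q ((n : ℤ) + 1)))) ≤
      (g - 1).choose 2 + 2 := by
  obtain ⟨m', hm'⟩ := hodd
  obtain ⟨m, rfl⟩ : ∃ m, g = m + 3 := ⟨g - 3, by omega⟩
  obtain ⟨j, hj⟩ : ∃ j : ℕ, m = 2 * j := ⟨m' - 1, by omega⟩
  exact core hK hg1 m j hj ((m + 3 : ℕ) : ℤ) (by push_cast; ring) A V₁ hlo hhi (by omega) Q hQ

end Aux

/-- Let `K/k` be a function field of one variable of genus one over an algebraically closed field `k` of
characteristic zero (an elliptic curve `E`), `A` a place, and `g ≥ 3` an odd integer. Inside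
`H⁰(O_E((2g-2)A)) = L((2g-2)A)` consider `V = L(gA)` (dimension `g`) and any hyperplane `V₁` of it
containing `L((g-2)A)`: `L((g-2)A) ⊆ V₁ ⊆ L(gA)`, `dim V₁ = g - 1`. Vanishing orders are those of
sections of `O_E((2g-2)A)`: a member `f` vanishes to order at least `n` at a place `Q` when `f ∈
L((2g-2)A - nQ)`, and the weight of `V₁` at `Q` is `∑_{n=1}^{2g-2} dim (V₁ ∩ L((2g-2)A - nQ)) - (g-1
choose 2)` (the sum of the `g - 1` vanishing orders minus `0 + 1 + ⋯ + (g-2)`). Then the weight of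
`V₁` at every place `Q ≠ A` is at most `2`. (The published statement is for a smooth elliptic curve
over the complex numbers and allows every odd positive `g`; for `g = 1` the inclusion `O(gA) ⊆
O((2g-2)A)` it uses fails, so `g ≥ 3` here.) -/
theorem result
    (k K : Type*) [Field k] [IsAlgClosed k] [CharZero k] [Field K] [Algebra k K]
    (hK : FunFld.IsFunctionField k K) (hg1 : FunFld.genus k K = 1)
    (g : ℕ) (hodd : Odd g) (h3 : 3 ≤ g) (A : FunFld.Place k K)
    (V₁ : Submodule k K) (hlo : FunFld.L (Finsupp.single A ((g : ℤ) - 2)) ≤ V₁)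
    (hhi : V₁ ≤ FunFld.L (Finsupp.single A (g : ℤ))) (hdim : Module.finrank k ↥V₁ + 1 = g)
    (Q : FunFld.Place k K) (hQ : Q ≠ A) :
    (∑ n ∈ Finset.range (2 * g - 2), Module.finrank k
        ↥(V₁ ⊓ FunFld.L (Finsupp.single A (2 * (g : ℤ) - 2) - Finsupp.single Q ((n : ℤ) + 1)))) ≤
      (g - 1).choose 2 + 2 := by
  exact Aux.main k K hK hg1 g hodd h3 A V₁ hlo hhi hdim Q hQ

end Groth.Agent.S17247
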