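import Groth.Statements.S17273
import Mathlib
import Groth.Agent.Lib.Helper2.AlgSt.FpAlg

set_option autoImplicit false
open CategoryTheory AlgebraicGeometry
universe u
open AlgSt

namespace Groth.Agent.S17273

/-- Let S be a scheme and let 𝒳, 𝒴, 𝒵 be Deligne–Mumford stacks over (Sch/S) for the etale topology
(stacks in groupoids whose diagonal is representable by algebraic spaces, with a smooth surjective
atlas from a scheme and an etale surjective atlas from a scheme, both representable by algebraic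
spaces), with functors f : 𝒳 → 𝒵 and g : 𝒴 → 𝒵 over (Sch/S). Then the 2-fibre product 𝒳 ×_𝒵 𝒴 over
(Sch/S) is a Deligne–Mumford stack for the etale topology. -/
theorem result (S : Scheme.{u}) (𝒳 𝒴 𝒵 : AlgSt.Cat S)
    (h𝒳 : AlgSt.IsDM Scheme.etalePrecoverage 𝒳) (h𝒴 : AlgSt.IsDM Scheme.etalePrecoverage 𝒴)
    (h𝒵 : AlgSt.IsDM Scheme.etalePrecoverage 𝒵)
    (f : 𝒳 ⥤ᵇ 𝒵) (g : 𝒴 ⥤ᵇ 𝒵) :
    AlgSt.IsDM Scheme.etalePrecoverage (FibCat.fp f g) := by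
  have h𝒳' := h𝒳.1
  have h𝒴' := h𝒴.1
  have h𝒵' := h𝒵.1
  refine ⟨⟨Groth.Agent.S12792.result _ f g h𝒳'.isStack h𝒴'.isStack
    (Groth.Agent.Helper2.AlgStLib.isPrestack_of_isStack h𝒵'.isStack), ?_, ?_⟩, ?_⟩
  · exact Groth.Agent.Helper2.AlgStLib.repByAlgSp1_diag_fp h𝒳'.isStack.1 h𝒴'.isStack.1
      h𝒵'.isStack.1 f g h𝒳'.diag h𝒴'.diag h𝒵'.diag
  · exact Groth.Agent.Helper2.AlgStLib.hasAtlas_smooth_fp h𝒳'.isStack.1 h𝒴'.isStack.1
      h𝒵'.isStack.1 h𝒵'.diag f g h𝒳'.atlas h𝒴'.atlas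
  · exact Groth.Agent.Helper2.AlgStLib.hasAtlas_etale_fp h𝒳'.isStack.1 h𝒴'.isStack.1
      h𝒵'.isStack.1 h𝒵'.diag f g h𝒳.2 h𝒴.2

end Groth.Agent.S17273
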