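import Groth.Statements.S1732
import Mathlib
import Groth.Agent.Lib.Helper5.DMod1732.Kos
import Groth.Agent.Lib.Helper5.DMod1732.MaxIdeal
import Groth.Agent.Lib.Helper5.DMod1732.Struct

set_option autoImplicit false
universe u
open LocCoh



namespace Groth.Agent.S1732

/-- Let k be a field of characteristic zero, d ≥ 1, A = k[[x_1, …, x_d]] with maximal ideal m, and E an
injective hull of the residue field of A. Let M be an m-power torsion A-module equipped with
additive maps D_1, …, D_d such that D_i(f z) = θ_i(f) z + f D_i(z), where θ_i is the k-derivation of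
A with θ_i(x_j) = δ_ij (the partial derivative in x_i). Then M is, up to isomorphism, a direct sum
of copies of E. -/
theorem result (k : Type u) [Field k] [CharZero k] (d : ℕ) (hd : 1 ≤ d) (E : Type u) [AddCommGroup E] [Module (MvPowerSeries (Fin d) k) E] (e : IsLocalRing.ResidueField (MvPowerSeries (Fin d) k) →ₗ[MvPowerSeries (Fin d) k] E) (he : InjHull.IsInjectiveHull e) (θ : Fin d → Derivation k (MvPowerSeries (Fin d) k) (MvPowerSeries (Fin d) k)) (hθ : ∀ i j : Fin d, θ i (MvPowerSeries.X j) = if i = j then 1 else 0) (M : Type u) [AddCommGroup M] [Module (MvPowerSeries (Fin d) k) M] (hM : LocCoh.IsPowerTorsion (IsLocalRing.maximalIdeal (MvPowerSeries (Fin d) k)) M) (D : Fin d → M →+ M) (hD : ∀ (i : Fin d) (f : MvPowerSeries (Fin d) k) (z : M), D i (f • z) = θ i f • z + f • D i z) : ∃ J : Type u, Nonempty (M ≃ₗ[MvPowerSeries (Fin d) k] (J →₀ E)) := by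
  obtain ⟨e', rfl⟩ : ∃ e', d = e' + 1 := ⟨d - 1, by omega⟩
  have hm := Groth.Agent.Helper5.DMod1732.maximalIdeal_eq_span_X k (Fin (e' + 1))
  apply Groth.Agent.Helper5.DMod1732.exists_equiv_finsupp e he hM
  intro g
  have hX : ∀ j : Fin (e' + 1), (MvPowerSeries.X j : MvPowerSeries (Fin (e' + 1)) k) ∈
      IsLocalRing.maximalIdeal (MvPowerSeries (Fin (e' + 1)) k) := fun j => by
    rw [hm]; exact Ideal.subset_span ⟨j, rfl⟩
  have hN : ∀ N : ℕ, N ≠ 0 → IsUnit (N : MvPowerSeries (Fin (e' + 1)) k) := by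
    intro N hN0
    have : (N : MvPowerSeries (Fin (e' + 1)) k) =
        algebraMap k (MvPowerSeries (Fin (e' + 1)) k) (N : k) := by simp
    rw [this]
    exact IsUnit.map (algebraMap k (MvPowerSeries (Fin (e' + 1)) k))
      (isUnit_iff_ne_zero.mpr (Nat.cast_ne_zero.mpr hN0))
  have htors : ∀ z : M, ∃ n, z ∈ Groth.Agent.Helper5.DMod1732.F
      (fun j : Fin (e' + 1) => (MvPowerSeries.X j : MvPowerSeries (Fin (e' + 1)) k)) n (M := M) := by
    intro z
    obtain ⟨n, hn⟩ := hM z
    exact ⟨n, fun a ha => hn a (by rw [hm]; exact ha)⟩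
  have hcoc : ∀ i j : Fin (e' + 1),
      (MvPowerSeries.X i : MvPowerSeries (Fin (e' + 1)) k) • g ⟨MvPowerSeries.X j, hX j⟩ =
        (MvPowerSeries.X j : MvPowerSeries (Fin (e' + 1)) k) • g ⟨MvPowerSeries.X i, hX i⟩ := by
    intro i j
    rw [← map_smul, ← map_smul]
    congr 1
    apply Subtype.ext
    exact mul_comm (MvPowerSeries.X i : MvPowerSeries (Fin (e' + 1)) k) (MvPowerSeries.X j)
  obtain ⟨y, hy⟩ := Groth.Agent.Helper5.DMod1732.exists_of_cocycle
    (x := fun j : Fin (e' + 1) => (MvPowerSeries.X j : MvPowerSeries (Fin (e' + 1)) k))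
    (θ := fun i a => θ i a) hθ hD hN htors (fun j => g ⟨MvPowerSeries.X j, hX j⟩) hcoc
  refine ⟨y, ?_⟩
  have key : ∀ (a : MvPowerSeries (Fin (e' + 1)) k)
      (_ : a ∈ Ideal.span (Set.range fun s : Fin (e' + 1) =>
        (MvPowerSeries.X s : MvPowerSeries (Fin (e' + 1)) k)))
      (ha' : a ∈ IsLocalRing.maximalIdeal (MvPowerSeries (Fin (e' + 1)) k)),
      g ⟨a, ha'⟩ = a • y := by
    intro a ha
    induction ha using Submodule.span_induction with
    | mem a h =>
      obtain ⟨j, rfl⟩ := h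
      intro ha'
      exact (hy j).symm
    | zero =>
      intro ha'
      rw [zero_smul]
      exact map_zero g
    | add a b ha hb iha ihb =>
      intro ha'
      have h1 : a ∈ IsLocalRing.maximalIdeal (MvPowerSeries (Fin (e' + 1)) k) := by
        rw [hm]; exact ha
      have h2 : b ∈ IsLocalRing.maximalIdeal (MvPowerSeries (Fin (e' + 1)) k) := by
        rw [hm]; exact hb
      rw [add_smul, ← iha h1, ← ihb h2, ← map_add]
      rfl
    | smul c a ha iha =>
      intro ha'
      have h1 : a ∈ IsLocalRing.maximalIdeal (MvPowerSeries (Fin (e' + 1)) k) := by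
        rw [hm]; exact ha
      have h3 : (⟨c • a, ha'⟩ : IsLocalRing.maximalIdeal (MvPowerSeries (Fin (e' + 1)) k)) =
          c • ⟨a, h1⟩ := rfl
      rw [h3, map_smul, iha h1, smul_assoc]
  rintro ⟨a, ha⟩
  exact key a (by rw [← hm]; exact ha) ha

end Groth.Agent.S1732
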