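import Groth.Statements.S17321
import Mathlib

set_option autoImplicit false
universe u v
open CAlg

namespace Groth.Agent.S17321

/-- Let k be an algebraically closed field and A a commutative k-algebra which is finite-dimensional as
a k-vector space (the coordinate ring of a finite k-scheme). Then the space Der(A) of k-derivations
A → A is zero if and only if A is reduced. -/
theorem result (k : Type u) [Field k] [IsAlgClosed k]
    (A : Type v) [CommRing A] [Algebra k A] [Module.Finite k A] :
    Subsingleton (Derivation k A A) ↔ IsReduced A := by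
  classical
  have hArt : IsArtinianRing A := IsArtinianRing.of_finite k A
  have hNoeth : IsNoetherianRing A := inferInstance
  constructor
  · intro hsub
    by_contra hred
    have hΩ : ¬ Subsingleton (Ω[A⁄k]) := by
      intro hs
      have : Algebra.FormallyUnramified k A := ⟨hs⟩
      exact hred (Algebra.FormallyUnramified.isReduced_of_field k A)
    rw [not_subsingleton_iff_nontrivial] at hΩ
    -- a coatom of Ω
    obtain ⟨M', hM'⟩ : ∃ M' : Submodule A (Ω[A⁄k]), IsCoatom M' := by
      rcases IsCoatomic.eq_top_or_exists_le_coatom (⊥ : Submodule A (Ω[A⁄k])) with h | ⟨M', hM', -⟩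
      · exact absurd h bot_ne_top
      · exact ⟨M', hM'⟩
    have hsimple : IsSimpleModule A ((Ω[A⁄k]) ⧸ M') := isSimpleModule_iff_isCoatom.mpr hM'
    obtain ⟨m, hm, ⟨e⟩⟩ := isSimpleModule_iff_quot_maximal.mp hsimple
    have hmp : m.IsPrime := hm.isPrime
    have hmin : m ∈ (Module.annihilator A A).minimalPrimes := by
      have h0 : Module.annihilator A A = ⊥ := Module.annihilator_eq_bot.mpr inferInstance
      rw [h0]
      exact IsArtinianRing.mem_minimalPrimes bot_le
    have hass : IsAssociatedPrime m A :=
      Module.associatedPrimes.minimalPrimes_annihilator_subset_associatedPrimes A A hmin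
    obtain ⟨-, z, hz⟩ := isAssociatedPrime_iff.mp hass
    have hz' : ∀ r : A, r ∈ m ↔ r * z = 0 := by
      intro r
      rw [hz, Submodule.mem_colon_singleton, Submodule.mem_bot, smul_eq_mul]
    have hz0 : z ≠ 0 := by
      rintro rfl
      exact hm.ne_top ((Ideal.eq_top_iff_one m).mpr ((hz' 1).mpr (mul_zero 1)))
    let ι : (A ⧸ m) →ₗ[A] A := Submodule.liftQ m (LinearMap.toSpanSingleton A A z) (by
      intro r hr
      rw [LinearMap.mem_ker, LinearMap.toSpanSingleton_apply, smul_eq_mul]
      exact (hz' r).mp hr)
    let f : (Ω[A⁄k]) →ₗ[A] A := ι ∘ₗ e.toLinearMap ∘ₗ M'.mkQ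
    have hf : f ≠ 0 := by
      intro hf0
      obtain ⟨x, hx⟩ := M'.mkQ_surjective (e.symm (Submodule.Quotient.mk 1))
      have h1 : f x = z := by
        simp only [f, LinearMap.comp_apply, hx, LinearEquiv.coe_coe, LinearEquiv.apply_symm_apply]
        change (Submodule.liftQ m (LinearMap.toSpanSingleton A A z) _) (Submodule.Quotient.mk 1) = z
        rw [Submodule.liftQ_apply, LinearMap.toSpanSingleton_apply, one_smul]
      rw [hf0, LinearMap.zero_apply] at h1
      exact hz0 h1.symm
    apply hf
    apply (KaehlerDifferential.linearMapEquivDerivation k A).injective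
    exact Subsingleton.elim _ _
  · intro hred
    refine ⟨fun D D' => ?_⟩
    suffices h : ∀ D : Derivation k A A, D = 0 by rw [h D, h D']
    intro D
    ext a
    have hint : IsIntegral k a := Algebra.IsIntegral.isIntegral a
    set p := minpoly k a with hp
    have hsep : p.Separable :=
      PerfectField.separable_iff_squarefree.mpr
        ((isRadical_iff_squarefree_of_ne_zero (minpoly.ne_zero hint)).mp (minpoly.isRadical k a))
    obtain ⟨u, v, huv⟩ := hsep
    have h1 := congrArg (Polynomial.aeval a) huv
    simp only [map_add, map_mul, map_one, hp, minpoly.aeval, mul_zero, zero_add] at h1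
    have h2 := D.map_aeval p a
    rw [hp, minpoly.aeval, map_zero] at h2
    have h3 : D a = (Polynomial.aeval a v * Polynomial.aeval a (Polynomial.derivative p)) • D a := by
      rw [hp, h1, one_smul]
    rw [h3, mul_smul, ← h2, smul_zero]
    rfl

end Groth.Agent.S17321
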