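import Groth.Statements.S17325
import Groth.Agent.Lib.Helper6.SemilinEigen

set_option autoImplicit false
universe u v
open LieAlg

namespace Groth.Agent.S17325

/-- Let k be an algebraically closed field of characteristic p > 0, V a finite-dimensional k-vector
space and g a nonzero k-linear subspace of End_k(V) closed under the p-th power map u ↦ u^p. Then g
contains a nonzero u with u^p = c u for some c ∈ k, i.e. a line k u closed under p-th powers. (The
published lemma concerns an abstract nonzero finite-dimensional restricted Lie algebra; this row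
concerns subspaces of End_k(V) closed under p-th powers, a class that contains every restricted Lie
subalgebra of gl(V).) -/
theorem result (k : Type u) [Field k] [IsAlgClosed k]
    (p : ℕ) [Fact p.Prime] [CharP k p] (V : Type v) [AddCommGroup V] [Module k V] [FiniteDimensional k V]
    (g : Submodule k (Module.End k V)) (hg : ∀ u ∈ g, u ^ p ∈ g) (hne : g ≠ ⊥) :
    ∃ u ∈ g, u ≠ 0 ∧ ∃ c : k, u ^ p = c • u := by
  classical
  obtain ⟨u₀, hu₀g, hu₀⟩ := (Submodule.ne_bot_iff g).mp hne
  -- the commutative subalgebra generated by u₀
  letI : CommRing (Algebra.adjoin k ({u₀} : Set (Module.End k V))) :=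
    Algebra.adjoinCommRingOfComm k (by
      intro a ha b hb
      rw [Set.mem_singleton_iff] at ha hb
      rw [ha, hb])
  let R := Algebra.adjoin k ({u₀} : Set (Module.End k V))
  have hnt : Nontrivial R := ⟨⟨⟨u₀, Algebra.self_mem_adjoin_singleton k u₀⟩, 0, fun h => hu₀ (congrArg Subtype.val h)⟩⟩
  haveI : CharP R p := charP_of_injective_algebraMap (algebraMap k R).injective p
  let g' : Submodule k R := g.comap R.val.toLinearMap
  have hg' : ∀ r : R, r ∈ g' → r ^ p ∈ g' := by
    intro r hr
    show ((r ^ p : R) : Module.End k V) ∈ g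
    rw [SubmonoidClass.coe_pow]
    exact hg _ hr
  have hntg : Nontrivial g' :=
    ⟨⟨⟨⟨u₀, Algebra.self_mem_adjoin_singleton k u₀⟩, hu₀g⟩, 0, fun h =>
      hu₀ (congrArg (fun x : g' => ((x : R) : Module.End k V)) h)⟩⟩
  let F : g' →+ g' :=
    { toFun := fun w => ⟨(w : R) ^ p, hg' w w.2⟩
      map_zero' := by
        apply Subtype.ext
        show ((0 : g') : R) ^ p = 0
        rw [Submodule.coe_zero, zero_pow (Fact.out : p.Prime).ne_zero]
      map_add' := by
        intro x y
        apply Subtype.ext
        show ((x + y : g') : R) ^ p = (x : R) ^ p + (y : R) ^ p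
        rw [Submodule.coe_add, add_pow_char] }
  have hF : ∀ (c : k) (w : g'), F (c • w) = c ^ p • F w := by
    intro c w
    apply Subtype.ext
    show ((c • w : g') : R) ^ p = c ^ p • (w : R) ^ p
    rw [Submodule.coe_smul, smul_pow]
  obtain ⟨w, hw0, c, hwc⟩ := Groth.Agent.Lib.Helper6.SemilinEigen.semilinear_eigen p F hF
  refine ⟨((w : R) : Module.End k V), w.2, ?_, c, ?_⟩
  · intro h
    apply hw0
    apply Subtype.ext
    apply Subtype.ext
    exact h
  · have h1 := congrArg (fun x : g' => ((x : R) : Module.End k V)) hwc
    simpa [F] using h1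

end Groth.Agent.S17325
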