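import Groth.Statements.S17327
import Groth.Agent.Lib.Helper2.Hopf.PrimeOrder


set_option autoImplicit false
universe u v
open Hopf

namespace Groth.Agent.S17327

/-- Let k be an algebraically closed field of characteristic p > 0, A a commutative Hopf algebra over k
which is finite-dimensional as a k-vector space (a finite group scheme G = Spec A), I the
augmentation ideal (kernel of the counit) and n ≥ 1. The n-th Frobenius kernel G_n is the closed
subgroup scheme cut out by the ideal generated by the p^n-th powers f^(p^n), f ∈ I; it is trivial,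
i.e. that ideal equals I, if and only if G is reduced. -/
theorem result (k : Type u) [Field k] [IsAlgClosed k]
    (p : ℕ) [Fact p.Prime] [CharP k p] (A : Type v) [CommRing A] [HopfAlgebra k A] [Module.Finite k A]
    (n : ℕ) (hn : 1 ≤ n) :
    Ideal.span ((fun f : A => f ^ p ^ n) '' (RingHom.ker (Bialgebra.counitAlgHom k A) : Set A)) =
      RingHom.ker (Bialgebra.counitAlgHom k A) ↔ IsReduced A := by
  have hp1 : 1 < p := (Fact.out : p.Prime).one_lt
  have hq2 : 2 ≤ p ^ n := by
    calc 2 ≤ p := hp1
      _ = p ^ 1 := (pow_one p).symm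
      _ ≤ p ^ n := Nat.pow_le_pow_right (by omega) hn
  constructor
  · intro h
    apply Groth.Agent.Helper2.HopfLib.isReduced_of_augI_idem (k := k)
    show RingHom.ker (Bialgebra.counitAlgHom k A) ≤ RingHom.ker (Bialgebra.counitAlgHom k A) ^ 2
    conv_lhs => rw [← h]
    rw [Ideal.span_le]
    rintro _ ⟨f, hf, rfl⟩
    exact Ideal.pow_le_pow_right hq2 (Ideal.pow_mem_pow hf _)
  · intro hred
    apply le_antisymm
    · rw [Ideal.span_le]
      rintro _ ⟨f, hf, rfl⟩
      exact Ideal.pow_mem_of_mem _ hf _ (by omega)
    · intro x hx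
      have hq0 : 0 < p ^ n := by omega
      choose φ hφ using fun χ : A →ₐ[k] k => IsAlgClosed.exists_pow_nat_eq (χ x) hq0
      let E := Groth.Agent.Helper2.HopfLib.evPtsEquiv (k := k) (A := A)
      have hE : ∀ (a : A) (χ : A →ₐ[k] k), E a χ = χ a := fun a χ => rfl
      set f := E.symm φ with hf
      have hfq : f ^ p ^ n = x := by
        apply E.injective
        funext χ
        rw [map_pow, hf, AlgEquiv.apply_symm_apply, Pi.pow_apply, hφ, hE]
      have hf0 : f ∈ RingHom.ker (Bialgebra.counitAlgHom k A) := by
        rw [RingHom.mem_ker]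
        have h1 : (Bialgebra.counitAlgHom k A) f = φ (Bialgebra.counitAlgHom k A) := by
          rw [← hE f, hf, AlgEquiv.apply_symm_apply]
        rw [h1]
        have h2 := hφ (Bialgebra.counitAlgHom k A)
        rw [RingHom.mem_ker.mp hx] at h2
        exact pow_eq_zero_iff (by omega) |>.mp h2
      rw [← hfq]
      exact Ideal.subset_span ⟨f, hf0, rfl⟩

end Groth.Agent.S17327
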