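import Groth.Statements.S17329
import Groth.Agent.Lib.Helper2.Hopf.TransFree


set_option autoImplicit false
universe u v
open scoped TensorProduct
open Hopf

namespace Groth.Agent.S17329

/-- Let k be an algebraically closed field, A a commutative Hopf algebra over k which is
finite-dimensional as a k-vector space (a finite group scheme G = Spec A), and I a Hopf ideal of A
(a subgroup scheme H = Spec (A/I) of G, of order dim_k (A/I)). Let B ⊆ A be the k-subalgebra of
functions invariant under right multiplication by H: the equaliser of the two algebra maps A → A ⊗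
(A/I), a ↦ (id ⊗ π)(Δ a) and a ↦ a ⊗ 1, so that Spec B is the quotient G/H. Then the quotient
morphism G → G/H is finite locally free of rank |H|: A is a free B-module of rank dim_k (A/I) (B
being a finite product of local rings, locally free of constant rank is the same as free of that
rank). -/
theorem result (k : Type u) [Field k] [IsAlgClosed k]
    (A : Type v) [CommRing A] [HopfAlgebra k A] [Module.Finite k A] (I : Ideal A) [I.IsHopfIdeal k] :
    Module.Free
        ↥(AlgHom.equalizer
          ((Algebra.TensorProduct.map (AlgHom.id k A) (Ideal.Quotient.mkₐ k I)).comp (Bialgebra.comulAlgHom k A))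
          (Algebra.TensorProduct.includeLeft : A →ₐ[k] A ⊗[k] (A ⧸ I))) A ∧
      Module.finrank
        ↥(AlgHom.equalizer
          ((Algebra.TensorProduct.map (AlgHom.id k A) (Ideal.Quotient.mkₐ k I)).comp (Bialgebra.comulAlgHom k A))
          (Algebra.TensorProduct.includeLeft : A →ₐ[k] A ⊗[k] (A ⧸ I))) A =
        Module.finrank k (A ⧸ I) := by
  classical
  set π : A →ₐc[k] A ⧸ I := Bialgebra.Quotient.mkBialgHom (R := k) I with hπdef
  have hπ : Function.Surjective π := Ideal.Quotient.mk_surjective
  set K := ↥(AlgHom.equalizer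
    ((Algebra.TensorProduct.map (AlgHom.id k A) (Ideal.Quotient.mkₐ k I)).comp (Bialgebra.comulAlgHom k A))
    (Algebra.TensorProduct.includeLeft : A →ₐ[k] A ⊗[k] (A ⧸ I))) with hK
  have htr : ∀ a : A, Groth.Agent.Helper2.HopfLib.transHom π a =
      ((Algebra.TensorProduct.map (AlgHom.id k A) (Ideal.Quotient.mkₐ k I)).comp
        (Bialgebra.comulAlgHom k A)) a := fun a => rfl
  have hK₁ : ∀ κ : K, Groth.Agent.Helper2.HopfLib.transHom π (algebraMap K A κ) =
      algebraMap K A κ ⊗ₜ[k] (1 : A ⧸ I) := fun κ => by
    rw [htr]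
    exact κ.2
  have hK₂ : ∀ a : A, Groth.Agent.Helper2.HopfLib.transHom π a = a ⊗ₜ[k] (1 : A ⧸ I) →
      a ∈ Set.range (algebraMap K A) := fun a ha => ⟨⟨a, by rw [htr] at ha; exact ha⟩, rfl⟩
  have hinj : Function.Injective (algebraMap K A) := Subtype.val_injective
  haveI : Module.Finite k (A ⧸ I) :=
    Module.Finite.of_surjective (Ideal.Quotient.mkₐ k I).toLinearMap Ideal.Quotient.mk_surjective
  haveI : Module.Finite K A := Module.Finite.of_restrictScalars_finite k K A
  haveI : Module.Finite k K := Module.Finite.of_injective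
    (Subalgebra.val _).toLinearMap Subtype.val_injective
  haveI : IsArtinianRing K := IsArtinianRing.of_finite k K
  haveI : Nontrivial A := RingHom.domain_nontrivial (Bialgebra.counitAlgHom k A : A →+* k)
  haveI : Module.Flat K A :=
    (Groth.Agent.Helper2.HopfLib.trans_flat_and_bij π hπ hK₁ hK₂ hinj).1
  refine Groth.Agent.Helper2.SemilocalFree.free_of_rankAtStalk_eq (K := K) (M := A)
    (Module.finrank k (A ⧸ I)) ?_
  intro 𝔭 h𝔭
  haveI : Algebra.IsIntegral K A := inferInstance
  obtain ⟨Q, -, hQp, hQ⟩ := Ideal.exists_ideal_over_prime_of_isIntegral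
    (R := K) (S := A) 𝔭 (⊥ : Ideal A)
    (by
      intro x hx
      have hx0 : algebraMap K A x = 0 := hx
      have : x = 0 := hinj (by rw [hx0, map_zero])
      rw [this]
      exact Ideal.zero_mem _)
  have h1 := Groth.Agent.Helper2.HopfLib.trans_rank π hπ hK₁ hK₂ hinj ⟨Q, hQp⟩
  have h3 : ∀ x : PrimeSpectrum k, Module.rankAtStalk (R := k) (A ⧸ I) x =
      Module.finrank k (A ⧸ I) := fun x => by
    rw [Module.rankAtStalk_eq_finrank_of_free]
    rfl
  rw [h3] at h1
  have h2 : (⟨Q, hQp⟩ : PrimeSpectrum A).comap (algebraMap K A) = ⟨𝔭, inferInstance⟩ :=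
    PrimeSpectrum.ext hQ
  rw [h2] at h1
  exact h1

end Groth.Agent.S17329
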