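import Groth.Statements.S1733
import Mathlib

set_option autoImplicit false
universe u
open LocCoh

namespace Groth.Agent.S1733

/-- Let f_1, …, f_r and g be elements of a ring (r ≥ 1). If the family f_1, …, f_{r-1}, f_r g is
independent (every linear relation has coefficients in the ideal the family generates), then f_1, …,
f_r is independent. -/
theorem result (A : Type u) [CommRing A] (r : ℕ) (f : Fin (r + 1) → A) (g : A) (h : Dual2.Independent (Function.update f (Fin.last r) (f (Fin.last r) * g))) : Dual2.Independent f := by
  classical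
  set f' := Function.update f (Fin.last r) (f (Fin.last r) * g) with hf'
  have hf'c : ∀ i : Fin r, f' i.castSucc = f i.castSucc := by
    intro i
    rw [hf', Function.update_of_ne (Fin.castSucc_lt_last i).ne]
  have hf'l : f' (Fin.last r) = f (Fin.last r) * g := by
    rw [hf', Function.update_self]
  have hJ : Ideal.span (Set.range f') ≤ Ideal.span (Set.range f) := by
    rw [Ideal.span_le]
    rintro _ ⟨i, rfl⟩
    refine Fin.lastCases ?_ (fun j => ?_) i
    · rw [hf'l]
      exact Ideal.mul_mem_right _ _ (Ideal.subset_span ⟨_, rfl⟩)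
    · rw [hf'c]
      exact Ideal.subset_span ⟨_, rfl⟩
  intro a ha
  rw [Fin.sum_univ_castSucc] at ha
  -- first relation: multiply by g
  have h1 : ∑ i, (Fin.lastCases (a (Fin.last r)) (fun j : Fin r => a j.castSucc * g) i) * f' i
      = 0 := by
    rw [Fin.sum_univ_castSucc]
    simp only [Fin.lastCases_last, Fin.lastCases_castSucc, hf'c, hf'l]
    have : ∑ x : Fin r, a x.castSucc * g * f x.castSucc + a (Fin.last r) * (f (Fin.last r) * g) =
        (∑ x : Fin r, a x.castSucc * f x.castSucc + a (Fin.last r) * f (Fin.last r)) * g := by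
      rw [add_mul, Finset.sum_mul]
      congr 1
      · exact Finset.sum_congr rfl fun i _ => by ring
      · ring
    rw [this, ha, zero_mul]
  have har' : a (Fin.last r) ∈ Ideal.span (Set.range f') := by
    have := h _ h1 (Fin.last r)
    simpa using this
  obtain ⟨b, hb⟩ := (Ideal.mem_span_range_iff_exists_fun).mp har'
  rw [Fin.sum_univ_castSucc] at hb
  simp only [hf'c, hf'l] at hb
  -- second relation
  have h2 : ∑ i, (Fin.lastCases (b (Fin.last r) * f (Fin.last r))
      (fun j : Fin r => a j.castSucc + b j.castSucc * f (Fin.last r)) i) * f' i = 0 := by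
    rw [Fin.sum_univ_castSucc]
    simp only [Fin.lastCases_last, Fin.lastCases_castSucc, hf'c, hf'l]
    have : ∑ x : Fin r, (a x.castSucc + b x.castSucc * f (Fin.last r)) * f x.castSucc +
        b (Fin.last r) * f (Fin.last r) * (f (Fin.last r) * g) =
        ∑ x : Fin r, a x.castSucc * f x.castSucc +
          (∑ x : Fin r, b x.castSucc * f x.castSucc + b (Fin.last r) * (f (Fin.last r) * g)) *
            f (Fin.last r) := by
      rw [add_mul, Finset.sum_mul, ← add_assoc, ← Finset.sum_add_distrib]
      congr 1
      · exact Finset.sum_congr rfl fun i _ => by ring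
      · ring
    rw [this, hb, ha]
  intro i
  refine Fin.lastCases ?_ (fun j => ?_) i
  · exact hJ har'
  · have h3 := h _ h2 j.castSucc
    simp only [Fin.lastCases_castSucc] at h3
    have h4 : a j.castSucc = (a j.castSucc + b j.castSucc * f (Fin.last r)) -
        b j.castSucc * f (Fin.last r) := by ring
    rw [h4]
    exact Ideal.sub_mem _ (hJ h3) (Ideal.mul_mem_left _ _ (Ideal.subset_span ⟨_, rfl⟩))

end Groth.Agent.S1733
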