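import Groth.Statements.S17363
import Mathlib

set_option autoImplicit false
universe u v
open scoped TensorProduct
open RInv

namespace Groth.Agent.S17363

section Aux

open Matrix

lemma key {T : Type*} [CommRing T] {F : Type*} [FunLike F T T] [RingHomClass F T T] (Λ : F)
    (H : Matrix (Fin 2) (Fin 2) T) (b' x ρ g : T)
    (h00 : Λ (H 0 0) = - H 0 0) (h11 : Λ (H 1 1) = - H 1 1) (h10 : H 1 0 = - Λ (H 0 1))
    (hb : H 0 1 * b' = 1) (hΛb' : Λ (Λ b') = b')
    (hx : Λ x = x) (hρ : Λ ρ = ρ) (hg : Λ g = g)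
    (hxρ : (1 + x) * ρ = 1)
    (hxx : x * x = 1 + H 0 0 * (Λ b' * H 1 1 * b'))
    (hgx : g * (2 * (x * x)) = 1) :
    ((!![1, (Λ b' * H 1 1 * b') * g; -(b' * H 0 0 * ρ), b' * (1 + x) * g] :
        Matrix (Fin 2) (Fin 2) T).map Λ).transpose * H *
      !![1, (Λ b' * H 1 1 * b') * g; -(b' * H 0 0 * ρ), b' * (1 + x) * g] = !![0, 1; -1, 0] := by
  have hlb : Λ (H 0 1) * Λ b' = 1 := by rw [← map_mul, hb, map_one]
  have hv : (!![1, (Λ b' * H 1 1 * b') * g; -(b' * H 0 0 * ρ), b' * (1 + x) * g] :
        Matrix (Fin 2) (Fin 2) T).map Λ =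
      !![1, -(b' * H 1 1 * Λ b') * g; Λ b' * H 0 0 * ρ, Λ b' * (1 + x) * g] := by
    ext i j
    fin_cases i <;> fin_cases j <;>
      simp [map_mul, map_neg, map_add, h00, h11, hx, hρ, hg, hΛb']
  have hH : H = !![H 0 0, H 0 1; - Λ (H 0 1), H 1 1] := by
    ext i j
    fin_cases i <;> fin_cases j <;> simp [h10]
  rw [hv]
  generalize Λ b' = lb' at *
  generalize Λ (H 0 1) = lb at *
  rw [hH]
  generalize H 0 0 = a at *
  generalize H 0 1 = b at *
  generalize H 1 1 = d at *
  have h1 : x * ρ = 1 - ρ := by linear_combination hxρ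
  have hstar : a * (lb' * d * b') * ρ ^ 2 = 1 - 2 * ρ := by
    linear_combination (-ρ ^ 2) * hxx + (x * ρ + 1 - ρ) * h1
  have h2 : a * (lb' * d * b') * ρ = x - 1 := by
    linear_combination (-ρ) * hxx + (x - 1) * hxρ
  ext i j
  fin_cases i <;> fin_cases j
  · simp [Matrix.mul_apply, Fin.sum_univ_two]
    linear_combination (-(a * ρ)) * hb + (-(a * ρ)) * hlb + (-a) * hstar
  · simp [Matrix.mul_apply, Fin.sum_univ_two]
    grind
  · simp [Matrix.mul_apply, Fin.sum_univ_two]
    grind
  · simp [Matrix.mul_apply, Fin.sum_univ_two]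
    grind


variable {B : Type u} {A : Type v} [CommRing B] [CommRing A] [Algebra B A]

lemma unit_of_fixed (lam : A ≃ₐ[B] A) (hB : RInv.IsFixedRing B A lam.toRingEquiv) (y : B)
    (hy : IsUnit (algebraMap B A y)) : IsUnit y := by
  obtain ⟨u, hu⟩ := hy.exists_right_inv
  have hlu : lam u = u := by
    have h1 : algebraMap B A y * lam u = 1 := by
      have := congrArg lam hu
      rwa [map_mul, map_one, lam.commutes] at this
    calc lam u = (u * algebraMap B A y) * lam u := by rw [mul_comm u, hu, one_mul]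
      _ = u * (algebraMap B A y * lam u) := by ring
      _ = u := by rw [h1, mul_one]
  obtain ⟨u₀, hu₀⟩ := (hB.2 u).mp hlu
  refine IsUnit.of_mul_eq_one u₀ (hB.1 ?_)
  rw [map_mul, map_one, hu₀, hu]

lemma chart (lam : A ≃ₐ[B] A) (hlam : ∀ a, lam (lam a) = a)
    (h : Matrix (Fin 2) (Fin 2) A)
    (h00 : lam (h 0 0) = - h 0 0) (h11 : lam (h 1 1) = - h 1 1) (h10 : h 1 0 = - lam (h 0 1))
    (b' : A) (hb : h 0 1 * b' = 1)
    (s₀ g₀ : B) (hs₀ : algebraMap B A s₀ = 1 + h 0 0 * (lam b' * h 1 1 * b'))
    (hg₀ : g₀ * (2 * s₀) = 1)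
    {B' : Type u} [CommRing B'] [Algebra B B'] (ξ : B') (hξ : ξ * ξ = algebraMap B B' s₀)
    (fi : B') (hfi : fi = 1 + ξ) :
    ∃ v : Matrix (Fin 2) (Fin 2) (Localization.Away fi ⊗[B] A), IsUnit v ∧
      (v.map (Algebra.TensorProduct.congr (AlgEquiv.refl : Localization.Away fi ≃ₐ[Localization.Away fi] Localization.Away fi) lam)).transpose
        * h.map (Algebra.TensorProduct.includeRight : A →ₐ[B] Localization.Away fi ⊗[B] A) * v
        = (Matrix.of ![![(0 : A), 1], ![-1, 0]]).map (Algebra.TensorProduct.includeRight : A →ₐ[B] Localization.Away fi ⊗[B] A) := by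
  have hΛincl : ∀ a : A, (Algebra.TensorProduct.congr (AlgEquiv.refl : Localization.Away fi ≃ₐ[Localization.Away fi] Localization.Away fi) lam)
      ((Algebra.TensorProduct.includeRight : A →ₐ[B] Localization.Away fi ⊗[B] A) a) =
      (Algebra.TensorProduct.includeRight : A →ₐ[B] Localization.Away fi ⊗[B] A) (lam a) := by
    intro a; simp
  have hΛC : ∀ c : Localization.Away fi,
      (Algebra.TensorProduct.congr (AlgEquiv.refl : Localization.Away fi ≃ₐ[Localization.Away fi] Localization.Away fi) lam)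
        (algebraMap (Localization.Away fi) (Localization.Away fi ⊗[B] A) c) =
      algebraMap (Localization.Away fi) (Localization.Away fi ⊗[B] A) c := fun c =>
    AlgEquiv.commutes _ c
  have e1 : ∀ y : B, algebraMap (Localization.Away fi) (Localization.Away fi ⊗[B] A)
      (algebraMap B (Localization.Away fi) y) =
      (Algebra.TensorProduct.includeRight : A →ₐ[B] Localization.Away fi ⊗[B] A) (algebraMap B A y) := by
    intro y
    rw [← IsScalarTower.algebraMap_apply B (Localization.Away fi) (Localization.Away fi ⊗[B] A),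
      AlgHom.commutes]
  have hxx0 : algebraMap (Localization.Away fi) (Localization.Away fi ⊗[B] A)
        (algebraMap B' (Localization.Away fi) ξ) *
      algebraMap (Localization.Away fi) (Localization.Away fi ⊗[B] A)
        (algebraMap B' (Localization.Away fi) ξ) =
      algebraMap (Localization.Away fi) (Localization.Away fi ⊗[B] A)
        (algebraMap B (Localization.Away fi) s₀) := by
    rw [← map_mul, ← map_mul, hξ, ← IsScalarTower.algebraMap_apply B B' (Localization.Away fi)]
  have hkey := key (Algebra.TensorProduct.congr (AlgEquiv.refl : Localization.Away fi ≃ₐ[Localization.Away fi] Localization.Away fi) lam)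
    (h.map (Algebra.TensorProduct.includeRight : A →ₐ[B] Localization.Away fi ⊗[B] A))
    ((Algebra.TensorProduct.includeRight : A →ₐ[B] Localization.Away fi ⊗[B] A) b')
    (algebraMap (Localization.Away fi) (Localization.Away fi ⊗[B] A)
        (algebraMap B' (Localization.Away fi) ξ))
    (algebraMap (Localization.Away fi) (Localization.Away fi ⊗[B] A)
        (IsLocalization.Away.invSelf fi))
    (algebraMap (Localization.Away fi) (Localization.Away fi ⊗[B] A)
        (algebraMap B (Localization.Away fi) g₀))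
    (by rw [Matrix.map_apply, hΛincl, h00, map_neg])
    (by rw [Matrix.map_apply, hΛincl, h11, map_neg])
    (by rw [Matrix.map_apply, Matrix.map_apply, hΛincl, h10, map_neg])
    (by rw [Matrix.map_apply, ← map_mul, hb, map_one])
    (by rw [hΛincl, hΛincl, hlam])
    (hΛC _) (hΛC _) (hΛC _)
    (by
      have : (1 : Localization.Away fi ⊗[B] A) + algebraMap (Localization.Away fi) (Localization.Away fi ⊗[B] A)
          (algebraMap B' (Localization.Away fi) ξ) =
          algebraMap (Localization.Away fi) (Localization.Away fi ⊗[B] A)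
            (algebraMap B' (Localization.Away fi) fi) := by
        rw [hfi, map_add, map_add, map_one, map_one]
      rw [this, ← map_mul, IsLocalization.Away.mul_invSelf, map_one])
    (by
      rw [hxx0, e1, hs₀, Matrix.map_apply, Matrix.map_apply, hΛincl]
      simp only [map_add, map_mul, map_one])
    (by
      rw [hxx0]
      have : (2 : Localization.Away fi ⊗[B] A) = algebraMap (Localization.Away fi) (Localization.Away fi ⊗[B] A)
          (algebraMap B (Localization.Away fi) 2) := by
        rw [map_ofNat, map_ofNat]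
      rw [this, ← map_mul, ← map_mul, ← map_mul, ← map_mul, hg₀, map_one, map_one])
  have hJ0 : (Matrix.of ![![(0 : A), 1], ![-1, 0]]).map
      (Algebra.TensorProduct.includeRight : A →ₐ[B] Localization.Away fi ⊗[B] A) = !![0, 1; -1, 0] := by
    ext i j
    fin_cases i <;> fin_cases j <;>
      simp [TensorProduct.tmul_neg, Algebra.TensorProduct.one_def]
  rw [hJ0]
  refine ⟨_, ?_, hkey⟩
  rw [Matrix.isUnit_iff_isUnit_det]
  have hdet := congrArg Matrix.det hkey
  rw [Matrix.det_mul, Matrix.det_mul] at hdet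
  exact IsUnit.of_mul_eq_one_right _
    (hdet.trans (by rw [Matrix.det_fin_two_of]; norm_num :
      (!![0, 1; -1, 0] : Matrix (Fin 2) (Fin 2) (Localization.Away fi ⊗[B] A)).det = 1))

end Aux

/-- Let `A` be a commutative ring with an involution `lam` whose fixed ring `B` is local; assume that
`lam` is the identity modulo the Jacobson radical of `A`, that `2` is a unit of `A`, and that `h` is
an invertible `2 × 2` matrix over `A` with `h = -(lam h)ᵀ` whose entries are congruent modulo the
Jacobson radical to those of the matrix with rows `(0, 1)`, `(-1, 0)`. Then there are units `s, t`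
of `B`, finitely many elements `f_i` of `B' = B[X, Y]/(X² - s, Y² - t)` (`B` with square roots of
`s` and `t` adjoined) that generate the unit ideal, and for every `i` an invertible `2 × 2` matrix
`v` over `B'_{f_i} ⊗_B A` (that is, `A` with the two square roots adjoined, localised at `f_i`;
`lam` extends so as to fix the square roots) such that `(lam v)ᵀ h v` is the matrix with rows `(0,
1)`, `(-1, 0)`. (The published statement writes the congruence with the plain transpose `vᵀ h v`,
which fails in general: for a field `k` of characteristic not `2`, the ring `A` of formal power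
series in `y` over `k`, with `B` its subring of series in `y²`, `lam y = -y` and `h` with rows `(y,
1)`, `(-1, y)`, satisfies every hypothesis, while `vᵀ h v` equal to the matrix with rows `(0, 1)`,
`(-1, 0)` would, added to its transpose, give `2y · vᵀ v = 0` and hence `det v = 0` over a nonzero
ring in which `y` is not a zero divisor. The proof computes the Gram matrix of the hermitian form
`(a, b) ↦ (lam a)ᵀ h b` in a new basis, which is `(lam v)ᵀ h v`, and that is what is stated here.) -/
theorem result (B : Type u) (A : Type v) [CommRing B] [CommRing A]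
    [Algebra B A] (lam : A ≃ₐ[B] A) (hlam : ∀ a, lam (lam a) = a) (hB : RInv.IsFixedRing B A lam.toRingEquiv)
    [IsLocalRing B] (hid : ∀ a : A, lam a - a ∈ Ring.jacobson A) (h2 : IsUnit (2 : A))
    (h : Matrix (Fin 2) (Fin 2) A) (hh : IsUnit h) (herm : -(h.map lam).transpose = h)
    (hJ : ∀ i j : Fin 2, h i j - Matrix.of ![![(0 : A), 1], ![-1, 0]] i j ∈ Ring.jacobson A) :
    ∃ (s t : Bˣ) (r : ℕ) (f : Fin r → (MvPolynomial (Fin 2) B ⧸ Ideal.span ({MvPolynomial.X 0 ^ 2 - MvPolynomial.C (s : B), MvPolynomial.X 1 ^ 2 - MvPolynomial.C (t : B)} : Set (MvPolynomial (Fin 2) B)))),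
      Ideal.span (Set.range f) = ⊤ ∧
      ∀ i : Fin r, ∃ v : Matrix (Fin 2) (Fin 2) (Localization.Away (f i) ⊗[B] A), IsUnit v ∧
        (v.map (Algebra.TensorProduct.congr (AlgEquiv.refl : Localization.Away (f i) ≃ₐ[Localization.Away (f i)] Localization.Away (f i)) lam)).transpose * h.map (Algebra.TensorProduct.includeRight : A →ₐ[B] Localization.Away (f i) ⊗[B] A) * v
          = (Matrix.of ![![(0 : A), 1], ![-1, 0]]).map (Algebra.TensorProduct.includeRight : A →ₐ[B] Localization.Away (f i) ⊗[B] A) := by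
  classical
  have e00 : lam (h 0 0) = - h 0 0 := by
    have := congrFun (congrFun herm 0) 0
    simp only [Matrix.neg_apply, Matrix.transpose_apply, Matrix.map_apply] at this
    linear_combination (-1 : A) * this
  have e11 : lam (h 1 1) = - h 1 1 := by
    have := congrFun (congrFun herm 1) 1
    simp only [Matrix.neg_apply, Matrix.transpose_apply, Matrix.map_apply] at this
    linear_combination (-1 : A) * this
  have e10 : h 1 0 = - lam (h 0 1) := by
    have := congrFun (congrFun herm 1) 0
    simp only [Matrix.neg_apply, Matrix.transpose_apply, Matrix.map_apply] at this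
    exact this.symm
  have hb_unit : IsUnit (h 0 1) := by
    apply Ideal.isUnit_of_sub_one_mem_jacobson_bot
    rw [Ideal.jacobson_bot]
    simpa using hJ 0 1
  obtain ⟨b', hb⟩ := hb_unit.exists_right_inv
  have aJ : h 0 0 ∈ Ring.jacobson A := by simpa using hJ 0 0
  have hfix : lam (1 + h 0 0 * (lam b' * h 1 1 * b')) = 1 + h 0 0 * (lam b' * h 1 1 * b') := by
    simp only [map_add, map_mul, map_one, e00, e11, hlam]
    ring
  obtain ⟨s₀, hs₀⟩ := (hB.2 _).mp hfix
  have hs_unit : IsUnit s₀ := by
    apply unit_of_fixed lam hB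
    rw [hs₀]
    apply Ideal.isUnit_of_sub_one_mem_jacobson_bot
    rw [Ideal.jacobson_bot, add_sub_cancel_left]
    exact Ideal.mul_mem_right _ _ aJ
  have two : IsUnit (2 : B) := by
    apply unit_of_fixed lam hB
    rw [map_ofNat]
    exact h2
  obtain ⟨g₀, hg₀⟩ := (two.mul hs_unit).exists_left_inv
  have hXb : (Ideal.Quotient.mk (Ideal.span ({MvPolynomial.X 0 ^ 2 - MvPolynomial.C ((hs_unit.unit : Bˣ) : B), MvPolynomial.X 1 ^ 2 - MvPolynomial.C (((1 : Bˣ)) : B)} : Set (MvPolynomial (Fin 2) B))) (MvPolynomial.X 0)) *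
      (Ideal.Quotient.mk (Ideal.span ({MvPolynomial.X 0 ^ 2 - MvPolynomial.C ((hs_unit.unit : Bˣ) : B), MvPolynomial.X 1 ^ 2 - MvPolynomial.C (((1 : Bˣ)) : B)} : Set (MvPolynomial (Fin 2) B))) (MvPolynomial.X 0)) =
      algebraMap B _ s₀ := by
    have hmem : Ideal.Quotient.mk (Ideal.span ({MvPolynomial.X 0 ^ 2 - MvPolynomial.C ((hs_unit.unit : Bˣ) : B), MvPolynomial.X 1 ^ 2 - MvPolynomial.C (((1 : Bˣ)) : B)} : Set (MvPolynomial (Fin 2) B)))
        (MvPolynomial.X 0 ^ 2 - MvPolynomial.C ((hs_unit.unit : Bˣ) : B)) = 0 :=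
      Ideal.Quotient.eq_zero_iff_mem.mpr (Ideal.subset_span (Set.mem_insert _ _))
    have hval : ((hs_unit.unit : Bˣ) : B) = s₀ := IsUnit.unit_spec hs_unit
    rw [map_sub, map_pow, sub_eq_zero] at hmem
    rw [← pow_two, hmem, ← MvPolynomial.algebraMap_eq, Ideal.Quotient.mk_algebraMap]
    exact congrArg _ hval
  refine ⟨hs_unit.unit, 1, 2,
    ![1 + Ideal.Quotient.mk _ (MvPolynomial.X 0), 1 - Ideal.Quotient.mk _ (MvPolynomial.X 0)], ?_, ?_⟩
  · apply Ideal.eq_top_of_isUnit_mem _ (x := 2)
    · have h0 := Ideal.subset_span (s := Set.range ![1 + Ideal.Quotient.mk (Ideal.span ({MvPolynomial.X 0 ^ 2 - MvPolynomial.C ((hs_unit.unit : Bˣ) : B), MvPolynomial.X 1 ^ 2 - MvPolynomial.C (((1 : Bˣ)) : B)} : Set (MvPolynomial (Fin 2) B))) (MvPolynomial.X 0), 1 - Ideal.Quotient.mk _ (MvPolynomial.X 0)]) ⟨0, rfl⟩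
      have h1 := Ideal.subset_span (s := Set.range ![1 + Ideal.Quotient.mk (Ideal.span ({MvPolynomial.X 0 ^ 2 - MvPolynomial.C ((hs_unit.unit : Bˣ) : B), MvPolynomial.X 1 ^ 2 - MvPolynomial.C (((1 : Bˣ)) : B)} : Set (MvPolynomial (Fin 2) B))) (MvPolynomial.X 0), 1 - Ideal.Quotient.mk _ (MvPolynomial.X 0)]) ⟨1, rfl⟩
      have := Ideal.add_mem _ h0 h1
      convert this using 1
      simp only [Matrix.cons_val_zero, Matrix.cons_val_one]
      ring
    · have := two.map (algebraMap B (MvPolynomial (Fin 2) B ⧸ Ideal.span ({MvPolynomial.X 0 ^ 2 - MvPolynomial.C ((hs_unit.unit : Bˣ) : B), MvPolynomial.X 1 ^ 2 - MvPolynomial.C (((1 : Bˣ)) : B)} : Set (MvPolynomial (Fin 2) B))))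
      rwa [map_ofNat] at this
  · intro i
    have hi : ∃ ξ, ξ * ξ = algebraMap B (MvPolynomial (Fin 2) B ⧸ Ideal.span ({MvPolynomial.X 0 ^ 2 - MvPolynomial.C ((hs_unit.unit : Bˣ) : B), MvPolynomial.X 1 ^ 2 - MvPolynomial.C (((1 : Bˣ)) : B)} : Set (MvPolynomial (Fin 2) B))) s₀ ∧
        (![1 + Ideal.Quotient.mk (Ideal.span ({MvPolynomial.X 0 ^ 2 - MvPolynomial.C ((hs_unit.unit : Bˣ) : B), MvPolynomial.X 1 ^ 2 - MvPolynomial.C (((1 : Bˣ)) : B)} : Set (MvPolynomial (Fin 2) B))) (MvPolynomial.X 0), 1 - Ideal.Quotient.mk _ (MvPolynomial.X 0)] : Fin 2 → _) i = 1 + ξ := by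
      fin_cases i
      · exact ⟨_, hXb, rfl⟩
      · refine ⟨- Ideal.Quotient.mk _ (MvPolynomial.X 0), ?_, ?_⟩
        · rw [← hXb]; ring
        · simp only [Matrix.cons_val_one, Matrix.cons_val_zero]
          show (1 : _) - _ = 1 + - _
          ring
    obtain ⟨ξ, hξ, hfi⟩ := hi
    exact chart lam hlam h e00 e11 e10 b' hb s₀ g₀ hs₀ hg₀ ξ hξ _ hfi

end Groth.Agent.S17363
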