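import Groth.Statements.S17364
import Groth.Agent.Lib.Helper3.SpreadDesc

set_option autoImplicit false
universe u v
open scoped TensorProduct
open RInv

namespace Groth.Agent.S17364

open Groth.Agent.Lib.Helper3.SpreadLoc Groth.Agent.Lib.Helper3.SpreadDesc

set_option linter.style.haveILetI false

/-- `R[X_1..X_l]/(X_k² - s_k)`. -/
abbrev QR (R : Type u) [CommRing R] (l : ℕ) (s : Fin l → R) : Type u :=
  MvPolynomial (Fin l) R ⧸ Ideal.span (Set.range fun k : Fin l =>
    (MvPolynomial.X k ^ 2 - MvPolynomial.C (s k) : MvPolynomial (Fin l) R))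

/-- `B[X_1..X_l]/(t_k X_k² - a_k)`. -/
abbrev Q0 (B : Type u) [CommRing B] (l : ℕ) (a t : Fin l → B) : Type u :=
  MvPolynomial (Fin l) B ⧸ Ideal.span (Set.range fun k : Fin l =>
    (MvPolynomial.C (t k) * MvPolynomial.X k ^ 2 - MvPolynomial.C (a k) : MvPolynomial (Fin l) B))

theorem q0map {B : Type u} [CommRing B] {l : ℕ} (a t : Fin l → B) (R : Type u) [CommRing R]
    [Algebra B R] (s : Fin l → R)
    (hs : ∀ k, s k * algebraMap B R (t k) = algebraMap B R (a k)) :
    ∃ ψ : Q0 B l a t →+* QR R l s,
      (∀ P, ψ (Ideal.Quotient.mk _ P) = Ideal.Quotient.mk _ (MvPolynomial.map (algebraMap B R) P)) ∧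
      ∀ x, ψ (algebraMap B _ x) = algebraMap B _ x := by
  have hle : Ideal.span (Set.range fun k : Fin l =>
      (MvPolynomial.C (t k) * MvPolynomial.X k ^ 2 - MvPolynomial.C (a k) : MvPolynomial (Fin l) B)) ≤
      Ideal.comap (MvPolynomial.map (algebraMap B R)) (Ideal.span (Set.range fun k : Fin l =>
        (MvPolynomial.X k ^ 2 - MvPolynomial.C (s k) : MvPolynomial (Fin l) R))) := by
    rw [Ideal.span_le]
    rintro _ ⟨k, rfl⟩
    rw [SetLike.mem_coe, Ideal.mem_comap]
    have : MvPolynomial.map (algebraMap B R)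
        (MvPolynomial.C (t k) * MvPolynomial.X k ^ 2 - MvPolynomial.C (a k)) =
        MvPolynomial.C (algebraMap B R (t k)) *
          (MvPolynomial.X k ^ 2 - MvPolynomial.C (s k) : MvPolynomial (Fin l) R) := by
      simp only [map_sub, map_mul, map_pow, MvPolynomial.map_C, MvPolynomial.map_X, ← hs k]
      ring
    rw [this]
    exact Ideal.mul_mem_left _ _ (Ideal.subset_span ⟨k, rfl⟩)
  refine ⟨Ideal.quotientMap _ (MvPolynomial.map (algebraMap B R)) hle, fun P => ?_, fun x => ?_⟩
  · exact Ideal.quotientMap_mk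
  · show Ideal.quotientMap _ (MvPolynomial.map (algebraMap B R)) hle
      (Ideal.Quotient.mk _ (MvPolynomial.C x)) = _
    rw [Ideal.quotientMap_mk, MvPolynomial.map_C]
    rfl

theorem stage1 {B : Type u} [CommRing B] (p : Ideal B) [p.IsPrime] {l : ℕ} (a t : Fin l → B)
    (ht : ∀ k, t k ∈ p.primeCompl) (s : Fin l → Localization.AtPrime p)
    (hat : ∀ k, s k * algebraMap B (Localization.AtPrime p) (t k) =
      algebraMap B (Localization.AtPrime p) (a k))
    (φ : Q0 B l a t →+* QR (Localization.AtPrime p) l s)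
    (hφmk : ∀ P, φ (Ideal.Quotient.mk _ P) =
      Ideal.Quotient.mk _ (MvPolynomial.map (algebraMap B (Localization.AtPrime p)) P)) :
    letI := φ.toAlgebra
    IsLocalization (Algebra.algebraMapSubmonoid (Q0 B l a t) p.primeCompl)
      (QR (Localization.AtPrime p) l s) := by
  letI := φ.toAlgebra
  refine quot_isLoc p.primeCompl (Localization.AtPrime p) _ _ ?_ hφmk
  rw [Ideal.map_span, ← Set.range_comp]
  apply le_antisymm
  · rw [Ideal.span_le]
    rintro _ ⟨k, rfl⟩
    obtain ⟨ti, hti⟩ : ∃ ti, ti * algebraMap B (Localization.AtPrime p) (t k) = 1 :=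
      ⟨_, (IsLocalization.map_units (Localization.AtPrime p)
        (⟨t k, ht k⟩ : p.primeCompl)).val_inv_mul⟩
    have : (MvPolynomial.X k ^ 2 - MvPolynomial.C (s k) :
        MvPolynomial (Fin l) (Localization.AtPrime p)) =
        MvPolynomial.C ti * (MvPolynomial.map (algebraMap B (Localization.AtPrime p))
          (MvPolynomial.C (t k) * MvPolynomial.X k ^ 2 - MvPolynomial.C (a k))) := by
      simp only [map_sub, map_mul, map_pow, MvPolynomial.map_C, MvPolynomial.map_X, ← hat k]
      have h1 : (MvPolynomial.C ti * MvPolynomial.C (algebraMap B (Localization.AtPrime p) (t k)) :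
          MvPolynomial (Fin l) (Localization.AtPrime p)) = 1 := by
        rw [← map_mul, hti, map_one]
      linear_combination (MvPolynomial.C (s k) - MvPolynomial.X k ^ 2) * h1
    rw [SetLike.mem_coe]
    beta_reduce
    rw [this]
    exact Ideal.mul_mem_left _ _ (Ideal.subset_span ⟨k, rfl⟩)
  · rw [Ideal.span_le]
    rintro _ ⟨k, rfl⟩
    have : MvPolynomial.map (algebraMap B (Localization.AtPrime p))
        (MvPolynomial.C (t k) * MvPolynomial.X k ^ 2 - MvPolynomial.C (a k)) =
        MvPolynomial.C (algebraMap B (Localization.AtPrime p) (t k)) *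
          (MvPolynomial.X k ^ 2 - MvPolynomial.C (s k) :
            MvPolynomial (Fin l) (Localization.AtPrime p)) := by
      simp only [map_sub, map_mul, map_pow, MvPolynomial.map_C, MvPolynomial.map_X, ← hat k]
      ring
    rw [SetLike.mem_coe, Function.comp_apply]
    beta_reduce
    rw [this]
    exact Ideal.mul_mem_left _ _ (Ideal.subset_span ⟨k, rfl⟩)

/-- Let `A` be a commutative ring with an involution `lam` whose fixed ring is `B`, let `ε = ±1`, and
let `h, h'` be invertible `n × n` matrices over `A` with `h = ε (lam h)ᵀ` and `h' = ε (lam h')ᵀ`.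
Let `p` be a prime of `B` and suppose there are units `s_1, …, s_l` of the local ring `B_p`,
elements `f_1, …, f_r` of `B_p[X_1, …, X_l]/(X_k² - s_k)` (square roots of the `s_k` adjoined)
generating the unit ideal, and for each `i` an invertible matrix `v` over `C ⊗_B A` for the
localisation `C` of that ring at `f_i` (any `B`-algebra with the universal property of that
localisation) (`lam` extended so as to fix the square roots and `B_p`) with `(lam v)ᵀ h v = h'`.
Then there is `b ∉ p` in `B` such that the same kind of data exists with `B_p` replaced by `B_b`: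
units of `B_b`, a finite family generating the unit ideal of `B_b[X_1, …, X_l]/(X_k² - s_k)`, and
invertible matrices over the corresponding localisations tensored with `A` congruating `h` to `h'`. -/
theorem result (B : Type u) (A : Type v) [CommRing B] [CommRing A]
    [Algebra B A] (lam : A ≃ₐ[B] A) (hlam : ∀ a, lam (lam a) = a) (hB : RInv.IsFixedRing B A lam.toRingEquiv)
    (n : ℕ) (ε : A) (hε : ε = 1 ∨ ε = -1) (h h' : Matrix (Fin n) (Fin n) A) (hh : IsUnit h) (hh' : IsUnit h')
    (herm : ε • (h.map lam).transpose = h) (herm' : ε • (h'.map lam).transpose = h')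
    (p : Ideal B) [p.IsPrime]
    (hdata : (∃ (l : ℕ) (s : Fin l → (Localization.AtPrime p)ˣ) (r : ℕ) (f : Fin r → (MvPolynomial (Fin l) (Localization.AtPrime p) ⧸ Ideal.span (Set.range fun k : Fin l => MvPolynomial.X k ^ 2 - MvPolynomial.C (s k : Localization.AtPrime p)))),
        Ideal.span (Set.range f) = ⊤ ∧
        ∀ (i : Fin r) (C : Type u) [CommRing C] [Algebra B C]
          [Algebra (MvPolynomial (Fin l) (Localization.AtPrime p) ⧸ Ideal.span (Set.range fun k : Fin l => MvPolynomial.X k ^ 2 - MvPolynomial.C (s k : Localization.AtPrime p))) C]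
          [IsScalarTower B (MvPolynomial (Fin l) (Localization.AtPrime p) ⧸ Ideal.span (Set.range fun k : Fin l => MvPolynomial.X k ^ 2 - MvPolynomial.C (s k : Localization.AtPrime p))) C]
          [IsLocalization.Away (f i) C],
          ∃ v : Matrix (Fin n) (Fin n) (C ⊗[B] A), IsUnit v ∧
            (v.map (Algebra.TensorProduct.congr (AlgEquiv.refl : C ≃ₐ[C] C) lam)).transpose * h.map (Algebra.TensorProduct.includeRight : A →ₐ[B] C ⊗[B] A) * v = h'.map (Algebra.TensorProduct.includeRight : A →ₐ[B] C ⊗[B] A))) :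
    ∃ b : B, b ∉ p ∧
      (∃ (l : ℕ) (s : Fin l → (Localization.Away b)ˣ) (r : ℕ) (f : Fin r → (MvPolynomial (Fin l) (Localization.Away b) ⧸ Ideal.span (Set.range fun k : Fin l => MvPolynomial.X k ^ 2 - MvPolynomial.C (s k : Localization.Away b)))),
        Ideal.span (Set.range f) = ⊤ ∧
        ∀ (i : Fin r) (C : Type u) [CommRing C] [Algebra B C]
          [Algebra (MvPolynomial (Fin l) (Localization.Away b) ⧸ Ideal.span (Set.range fun k : Fin l => MvPolynomial.X k ^ 2 - MvPolynomial.C (s k : Localization.Away b))) C]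
          [IsScalarTower B (MvPolynomial (Fin l) (Localization.Away b) ⧸ Ideal.span (Set.range fun k : Fin l => MvPolynomial.X k ^ 2 - MvPolynomial.C (s k : Localization.Away b))) C]
          [IsLocalization.Away (f i) C],
          ∃ v : Matrix (Fin n) (Fin n) (C ⊗[B] A), IsUnit v ∧
            (v.map (Algebra.TensorProduct.congr (AlgEquiv.refl : C ≃ₐ[C] C) lam)).transpose * h.map (Algebra.TensorProduct.includeRight : A →ₐ[B] C ⊗[B] A) * v = h'.map (Algebra.TensorProduct.includeRight : A →ₐ[B] C ⊗[B] A)) := by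
  classical
  obtain ⟨l, s, r, f, hspan, hvdata⟩ := hdata
  have hs : ∀ k, ∃ a t : B, a ∈ p.primeCompl ∧ t ∈ p.primeCompl ∧
      ((s k : (Localization.AtPrime p)ˣ) : Localization.AtPrime p) *
        algebraMap B (Localization.AtPrime p) t = algebraMap B (Localization.AtPrime p) a := by
    intro k
    obtain ⟨⟨a, ⟨t, ht⟩⟩, hat⟩ := IsLocalization.surj p.primeCompl
      ((s k : (Localization.AtPrime p)ˣ) : Localization.AtPrime p)
    refine ⟨a, t, ?_, ht, hat⟩
    rw [← IsLocalization.AtPrime.isUnit_to_map_iff (Localization.AtPrime p) p, ← hat]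
    exact (s k).isUnit.mul (IsLocalization.map_units (Localization.AtPrime p) ⟨t, ht⟩)
  choose a t ha ht hat using hs
  obtain ⟨φ, hφmk, hφB⟩ := q0map a t (Localization.AtPrime p)
    (fun k => ((s k : (Localization.AtPrime p)ˣ) : Localization.AtPrime p)) hat
  have hφloc := stage1 p a t ht
    (fun k => ((s k : (Localization.AtPrime p)ˣ) : Localization.AtPrime p)) hat φ hφmk
  have hF : ∀ i, ∃ F : Q0 B l a t, Associated (f i) (φ F) := by
    letI := φ.toAlgebra
    haveI := hφloc
    intro i
    obtain ⟨⟨F, ⟨y, m, hm, rfl⟩⟩, hF⟩ := IsLocalization.surj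
      (Algebra.algebraMapSubmonoid (Q0 B l a t) p.primeCompl) (f i)
    have hunit : IsUnit (φ (algebraMap B (Q0 B l a t) m)) :=
      IsLocalization.map_units (M := Algebra.algebraMapSubmonoid (Q0 B l a t) p.primeCompl)
        (QR (Localization.AtPrime p) l
          (fun k => ((s k : (Localization.AtPrime p)ˣ) : Localization.AtPrime p)))
        ⟨_, m, hm, rfl⟩
    exact ⟨F, hunit.unit, hF⟩
  choose F hF using hF
  have hrel : ∃ (G : Fin r → Q0 B l a t) (μ : B), μ ∈ p.primeCompl ∧
      ∑ i, G i * F i = algebraMap B (Q0 B l a t) μ := by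
    letI := φ.toAlgebra
    haveI := hφloc
    have h1 : (1 : QR (Localization.AtPrime p) l
        (fun k => ((s k : (Localization.AtPrime p)ˣ) : Localization.AtPrime p))) ∈
        Ideal.span (Set.range f) := by
      rw [hspan]; trivial
    obtain ⟨c, hc⟩ := Ideal.mem_span_range_iff_exists_fun.mp h1
    choose u hu using hF
    obtain ⟨⟨_, mβ, hmβ, rfl⟩, hβ⟩ := IsLocalization.exist_integer_multiples_of_finite
      (Algebra.algebraMapSubmonoid (Q0 B l a t) p.primeCompl)
      (fun i => c i * ((u i)⁻¹ : (QR (Localization.AtPrime p) l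
        (fun k => ((s k : (Localization.AtPrime p)ˣ) : Localization.AtPrime p)))ˣ))
    have hβ' : ∀ i, ∃ G : Q0 B l a t, φ G = φ (algebraMap B (Q0 B l a t) mβ) * (c i * ↑(u i)⁻¹) := by
      intro i
      obtain ⟨G, hG⟩ := RingHom.mem_rangeS.mp (hβ i)
      refine ⟨G, ?_⟩
      rw [Algebra.smul_def] at hG
      exact hG
    choose G hG' using hβ'
    have e : φ (∑ i, G i * F i) = φ (algebraMap B (Q0 B l a t) mβ) := by
      rw [map_sum]
      calc ∑ i, φ (G i * F i) = ∑ i, φ (algebraMap B (Q0 B l a t) mβ) * (c i * f i) := by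
            refine Finset.sum_congr rfl fun i _ => ?_
            rw [map_mul, ← hu i, hG' i]
            have := (u i).inv_mul
            linear_combination (φ (algebraMap B (Q0 B l a t) mβ) * c i * f i) * this
        _ = φ (algebraMap B (Q0 B l a t) mβ) := by rw [← Finset.mul_sum, hc, mul_one]
    have e' : algebraMap (Q0 B l a t) (QR (Localization.AtPrime p) l
        (fun k => ((s k : (Localization.AtPrime p)ˣ) : Localization.AtPrime p))) (∑ i, G i * F i) =
        algebraMap (Q0 B l a t) (QR (Localization.AtPrime p) l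
        (fun k => ((s k : (Localization.AtPrime p)ˣ) : Localization.AtPrime p)))
          (algebraMap B (Q0 B l a t) mβ) := e
    obtain ⟨⟨_, m2, hm2, rfl⟩, h2⟩ := (IsLocalization.eq_iff_exists
      (Algebra.algebraMapSubmonoid (Q0 B l a t) p.primeCompl) _).mp e'
    have h2' : algebraMap B (Q0 B l a t) m2 * ∑ i, G i * F i =
        algebraMap B (Q0 B l a t) m2 * algebraMap B (Q0 B l a t) mβ := h2
    refine ⟨fun i => algebraMap B _ m2 * G i, m2 * mβ, mul_mem hm2 hmβ, ?_⟩
    rw [map_mul, ← h2', Finset.mul_sum]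
    exact Finset.sum_congr rfl fun i _ => mul_assoc _ _ _
  have hdesc : ∀ i, ∃ m ∈ p.primeCompl, ∀ (E : Type u) [CommRing E] [Algebra B E]
      (_τ : Localization.Away (F i) →ₐ[B] E), IsUnit (algebraMap B E m) →
      ∃ V : Matrix (Fin n) (Fin n) (E ⊗[B] A), IsUnit V ∧
        (V.map (lamT lam E)).transpose * h.map (incT B A E) * V = h'.map (incT B A E) := by
    intro i
    obtain ⟨v, hvu, hveq⟩ := hvdata i (Localization.Away (f i))
    obtain ⟨ρ, -, hρ⟩ := locmod_of_data p.primeCompl A (D := Localization.Away (F i))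
      (C := Localization.Away (f i)) φ hφB hφloc (F i) (f i) (hF i)
    exact desc p.primeCompl lam h h' ρ hρ v hvu hveq
  obtain ⟨G, μ, hμ, hGF⟩ := hrel
  choose mstar hmstarM hmstar using hdesc
  set b : B := (∏ k, (a k * t k)) * μ * ∏ i, mstar i with hb_def
  have hbM : b ∈ p.primeCompl :=
    mul_mem (mul_mem (Submonoid.prod_mem _ fun k _ => mul_mem (ha k) (ht k)) hμ)
      (Submonoid.prod_mem _ fun i _ => hmstarM i)
  have hdvd_a : ∀ k, a k ∣ b := fun k =>
    Dvd.dvd.mul_right (Dvd.dvd.mul_right ((dvd_mul_right (a k) (t k)).trans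
      (Finset.dvd_prod_of_mem (fun k => a k * t k) (Finset.mem_univ k))) μ) _
  have hdvd_t : ∀ k, t k ∣ b := fun k =>
    Dvd.dvd.mul_right (Dvd.dvd.mul_right ((dvd_mul_left (t k) (a k)).trans
      (Finset.dvd_prod_of_mem (fun k => a k * t k) (Finset.mem_univ k))) μ) _
  have hdvd_μ : μ ∣ b := Dvd.dvd.mul_right (dvd_mul_left μ _) _
  have hdvd_m : ∀ i, mstar i ∣ b := fun i =>
    Dvd.dvd.mul_left (Finset.dvd_prod_of_mem mstar (Finset.mem_univ i)) _
  have hua : ∀ k, IsUnit (algebraMap B (Localization.Away b) (a k)) := fun k =>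
    IsLocalization.Away.isUnit_of_dvd b (hdvd_a k)
  have hut : ∀ k, IsUnit (algebraMap B (Localization.Away b) (t k)) := fun k =>
    IsLocalization.Away.isUnit_of_dvd b (hdvd_t k)
  let s' : Fin l → (Localization.Away b)ˣ := fun k => (hua k).unit * (hut k).unit⁻¹
  have hs' : ∀ k, ((s' k : (Localization.Away b)ˣ) : Localization.Away b) *
      algebraMap B (Localization.Away b) (t k) = algebraMap B (Localization.Away b) (a k) := by
    intro k
    show ((hua k).unit * (hut k).unit⁻¹ : (Localization.Away b)ˣ).val * _ = _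
    rw [Units.val_mul, mul_assoc, IsUnit.val_inv_mul, mul_one]
    rfl
  obtain ⟨ψ, hψmk, hψB⟩ := q0map a t (Localization.Away b)
    (fun k => ((s' k : (Localization.Away b)ˣ) : Localization.Away b)) hs'
  refine ⟨b, hbM, l, s', r, fun i => ψ (F i), ?_, ?_⟩
  · have hmem : algebraMap B (QR (Localization.Away b) l
        (fun k => ((s' k : (Localization.Away b)ˣ) : Localization.Away b))) μ ∈
        Ideal.span (Set.range fun i => ψ (F i)) := by
      rw [← hψB, ← hGF, map_sum]
      refine Ideal.sum_mem _ fun i _ => ?_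
      rw [map_mul]
      exact Ideal.mul_mem_left _ _ (Ideal.subset_span ⟨i, rfl⟩)
    have hunit : IsUnit (algebraMap B (QR (Localization.Away b) l
        (fun k => ((s' k : (Localization.Away b)ˣ) : Localization.Away b))) μ) := by
      have := (IsLocalization.Away.isUnit_of_dvd b hdvd_μ :
        IsUnit (algebraMap B (Localization.Away b) μ)).map
        ((Ideal.Quotient.mk _).comp MvPolynomial.C : Localization.Away b →+*
          QR (Localization.Away b) l
            (fun k => ((s' k : (Localization.Away b)ˣ) : Localization.Away b)))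
      exact this
    exact Ideal.eq_top_of_isUnit_mem _ hmem hunit
  · intro i C' _ _ _ _ _
    let gAlg : Q0 B l a t →ₐ[B] C' :=
      ⟨(algebraMap (QR (Localization.Away b) l
        (fun k => ((s' k : (Localization.Away b)ˣ) : Localization.Away b))) C').comp ψ, fun x => by
        show algebraMap _ C' (ψ (algebraMap B _ x)) = _
        rw [hψB, ← IsScalarTower.algebraMap_apply]⟩
    have hgu : IsUnit (gAlg (F i)) := IsLocalization.Away.algebraMap_isUnit (ψ (F i))
    let τ : Localization.Away (F i) →ₐ[B] C' :=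
      IsLocalization.Away.liftAlgHom (F i) (f := gAlg) hgu
    have hm : IsUnit (algebraMap B C' (mstar i)) := by
      rw [IsScalarTower.algebraMap_apply B (QR (Localization.Away b) l
        (fun k => ((s' k : (Localization.Away b)ˣ) : Localization.Away b))) C']
      refine IsUnit.map _ ?_
      exact (IsLocalization.Away.isUnit_of_dvd b (hdvd_m i) :
        IsUnit (algebraMap B (Localization.Away b) (mstar i))).map
        ((Ideal.Quotient.mk _).comp MvPolynomial.C : Localization.Away b →+*
          QR (Localization.Away b) l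
            (fun k => ((s' k : (Localization.Away b)ˣ) : Localization.Away b)))
    obtain ⟨V, hV, hVeq⟩ := hmstar i C' τ hm
    exact ⟨V, hV, hVeq⟩

end Groth.Agent.S17364
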