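import Groth.Statements.S17409
import Mathlib

set_option autoImplicit false
universe u
open Prym5

namespace Groth.Agent.S17409

section
open MvPolynomial

variable {K : Type u} [Field K]

theorem mem_I_iff {σ : Type*} (p : MvPolynomial σ K) :
    p ∈ Ideal.span (Set.range (X : σ → MvPolynomial σ K)) ↔ constantCoeff p = 0 := by
  have := mem_pow_idealOfVars_iff' (σ := σ) (R := K) 1 p
  rw [pow_one] at this
  rw [this]
  constructor
  · intro h
    have := h 0 (by simp)
    simpa [constantCoeff_eq] using this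
  · intro h x hx
    have : x = 0 := by
      have : Finsupp.degree x = 0 := by omega
      exact (Finsupp.degree_eq_zero_iff x).mp this
    subst this
    simpa [constantCoeff_eq] using h

/-- evaluation x,y ↦ 0, z ↦ t -/
noncomputable def psi : MvPolynomial (Fin 3) K →ₐ[K] Polynomial K :=
  aeval (fun i : Fin 3 => if i = 2 then Polynomial.X else 0)

theorem psi_rename (G : MvPolynomial (Fin 2) K) :
    psi (rename (Fin.castSucc : Fin 2 → Fin 3) G) = Polynomial.C (constantCoeff G) := by
  unfold psi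
  rw [aeval_rename]
  have : ((fun i : Fin 3 => if i = 2 then (Polynomial.X : Polynomial K) else 0) ∘ (Fin.castSucc : Fin 2 → Fin 3))
      = 0 := by
    funext i
    fin_cases i <;> simp
  rw [this, aeval_zero]
  rfl

theorem psi_X2 : psi (X (2 : Fin 3) : MvPolynomial (Fin 3) K) = Polynomial.X := by
  unfold psi
  simp

theorem psi_map_le :
    Ideal.map (psi (K := K)) (Ideal.span (Set.range (X : Fin 3 → MvPolynomial (Fin 3) K)))
      ≤ Ideal.span {(Polynomial.X : Polynomial K)} := by
  rw [Ideal.map_span, Ideal.span_le]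
  rintro _ ⟨_, ⟨i, rfl⟩, rfl⟩
  unfold psi
  simp only [AlgHom.coe_toRingHom, aeval_X]
  split_ifs
  · exact Ideal.subset_span rfl
  · exact Ideal.zero_mem _

/-- evaluation z ↦ 0 -/
noncomputable def phi : MvPolynomial (Fin 3) K →ₐ[K] MvPolynomial (Fin 2) K :=
  aeval (fun i : Fin 3 => if h : (i : ℕ) < 2 then X (⟨i, h⟩ : Fin 2) else 0)

theorem phi_rename (G : MvPolynomial (Fin 2) K) :
    phi (rename (Fin.castSucc : Fin 2 → Fin 3) G) = G := by
  unfold phi
  rw [aeval_rename]
  have : ((fun i : Fin 3 => if h : (i : ℕ) < 2 then (X (⟨i, h⟩ : Fin 2) : MvPolynomial (Fin 2) K) else 0)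
      ∘ (Fin.castSucc : Fin 2 → Fin 3)) = X := by
    funext i
    fin_cases i <;> simp
  rw [this, aeval_X_left]
  rfl

theorem phi_X2 : phi (X (2 : Fin 3) : MvPolynomial (Fin 3) K) = 0 := by
  unfold phi
  simp

theorem phi_map_le :
    Ideal.map (phi (K := K)) (Ideal.span (Set.range (X : Fin 3 → MvPolynomial (Fin 3) K)))
      ≤ Ideal.span (Set.range (X : Fin 2 → MvPolynomial (Fin 2) K)) := by
  rw [Ideal.map_span, Ideal.span_le]
  rintro _ ⟨_, ⟨i, rfl⟩, rfl⟩
  unfold phi
  simp only [AlgHom.coe_toRingHom, aeval_X]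
  split_ifs
  · exact Ideal.subset_span ⟨_, rfl⟩
  · exact Ideal.zero_mem _

theorem G3_mem (h2 : (2 : K) ≠ 0) (G₂ G₃ G₄ : MvPolynomial (Fin 2) K)
    (h : rename (Fin.castSucc : Fin 2 → Fin 3) G₂ * X (2 : Fin 3) ^ 2
        + 2 * rename (Fin.castSucc : Fin 2 → Fin 3) G₃ * X (2 : Fin 3)
        + rename (Fin.castSucc : Fin 2 → Fin 3) G₄
        ∈ (Ideal.span (Set.range (X : Fin 3 → MvPolynomial (Fin 3) K))) ^ 2) :
    G₃ ∈ Ideal.span (Set.range (X : Fin 2 → MvPolynomial (Fin 2) K)) := by
  rw [mem_I_iff]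
  have h1 : psi (rename (Fin.castSucc : Fin 2 → Fin 3) G₂ * X (2 : Fin 3) ^ 2
        + 2 * rename (Fin.castSucc : Fin 2 → Fin 3) G₃ * X (2 : Fin 3)
        + rename (Fin.castSucc : Fin 2 → Fin 3) G₄) ∈ Ideal.span {(Polynomial.X : Polynomial K)} ^ 2 := by
    have := Ideal.mem_map_of_mem (psi (K := K)).toRingHom h
    rw [Ideal.map_pow] at this
    exact Ideal.pow_right_mono psi_map_le 2 this
  rw [Ideal.span_singleton_pow, Ideal.mem_span_singleton, Polynomial.X_pow_dvd_iff] at h1
  have := h1 1 (by norm_num)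
  simp only [map_add, map_mul, map_pow, psi_rename, psi_X2, map_ofNat] at this
  simp only [Polynomial.coeff_add, Polynomial.coeff_C_mul, Polynomial.coeff_X_pow, Polynomial.coeff_C] at this
  have h3 : (Polynomial.coeff ((2 : Polynomial K) * Polynomial.C (constantCoeff G₃) * Polynomial.X) 1)
      = 2 * constantCoeff G₃ := by
    rw [show (2 : Polynomial K) = Polynomial.C 2 from rfl, ← Polynomial.C_mul, Polynomial.coeff_C_mul,
      Polynomial.coeff_X_one, mul_one]
  rw [h3] at this
  simp at this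
  rcases this with h | h
  · exact absurd h h2
  · exact h

theorem G4_mem (G₂ G₃ G₄ : MvPolynomial (Fin 2) K)
    (h : rename (Fin.castSucc : Fin 2 → Fin 3) G₂ * X (2 : Fin 3) ^ 2
        + 2 * rename (Fin.castSucc : Fin 2 → Fin 3) G₃ * X (2 : Fin 3)
        + rename (Fin.castSucc : Fin 2 → Fin 3) G₄
        ∈ (Ideal.span (Set.range (X : Fin 3 → MvPolynomial (Fin 3) K))) ^ 2) :
    G₄ ∈ Ideal.span (Set.range (X : Fin 2 → MvPolynomial (Fin 2) K)) ^ 2 := by
  have h1 : phi (rename (Fin.castSucc : Fin 2 → Fin 3) G₂ * X (2 : Fin 3) ^ 2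
        + 2 * rename (Fin.castSucc : Fin 2 → Fin 3) G₃ * X (2 : Fin 3)
        + rename (Fin.castSucc : Fin 2 → Fin 3) G₄)
        ∈ Ideal.span (Set.range (X : Fin 2 → MvPolynomial (Fin 2) K)) ^ 2 := by
    have := Ideal.mem_map_of_mem (phi (K := K)).toRingHom h
    rw [Ideal.map_pow] at this
    exact Ideal.pow_right_mono phi_map_le 2 this
  simpa [phi_rename, phi_X2] using h1

theorem main (K : Type u) [Field K] [PerfectField K]
    (h2 : (2 : K) ≠ 0) (h3 : (3 : K) ≠ 0) (G₂ G₃ G₄ : MvPolynomial (Fin 2) K)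
    (h : MvPolynomial.rename (Fin.castSucc : Fin 2 → Fin 3) G₂ * MvPolynomial.X (2 : Fin 3) ^ 2
        + 2 * MvPolynomial.rename (Fin.castSucc : Fin 2 → Fin 3) G₃ * MvPolynomial.X (2 : Fin 3)
        + MvPolynomial.rename (Fin.castSucc : Fin 2 → Fin 3) G₄
        ∈ (Ideal.span (Set.range (MvPolynomial.X : Fin 3 → MvPolynomial (Fin 3) K))) ^ 2) :
    G₃ ^ 2 - G₂ * G₄ ∈ (Ideal.span (Set.range (MvPolynomial.X : Fin 2 → MvPolynomial (Fin 2) K))) ^ 2 := by
  have hG3 := G3_mem h2 G₂ G₃ G₄ h
  have hG4 := G4_mem G₂ G₃ G₄ h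
  refine Ideal.sub_mem _ (Ideal.pow_mem_pow hG3 2) (Ideal.mul_mem_left _ _ hG4)


end


/-- Over a perfect field K of characteristic different from 2 and 3, let G₂, G₃, G₄ be polynomials in
two variables x, y and consider G₂ z² + 2 G₃ z + G₄ as a polynomial in the three variables x, y, z.
If it lies in the square of the ideal (x, y, z) — the surface it defines has a double point at the
origin — then the discriminant G₃² − G₂ G₄ lies in the square of the ideal (x, y) of K[x, y], so the
plane curve G₃² − G₂ G₄ = 0 is singular at the origin. (This is the affine-local form used in the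
published proof: the surface is a quartic with a node at the centre of projection placed at infinity
on the z-axis, and the curve is the branch sextic of that projection.) -/
theorem result (K : Type u) [Field K] [PerfectField K]
    (h2 : (2 : K) ≠ 0) (h3 : (3 : K) ≠ 0) (G₂ G₃ G₄ : MvPolynomial (Fin 2) K)
    (h : MvPolynomial.rename (Fin.castSucc : Fin 2 → Fin 3) G₂ * MvPolynomial.X (2 : Fin 3) ^ 2
        + 2 * MvPolynomial.rename (Fin.castSucc : Fin 2 → Fin 3) G₃ * MvPolynomial.X (2 : Fin 3)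
        + MvPolynomial.rename (Fin.castSucc : Fin 2 → Fin 3) G₄
        ∈ (Ideal.span (Set.range (MvPolynomial.X : Fin 3 → MvPolynomial (Fin 3) K))) ^ 2) :
    G₃ ^ 2 - G₂ * G₄ ∈ (Ideal.span (Set.range (MvPolynomial.X : Fin 2 → MvPolynomial (Fin 2) K))) ^ 2 := by
  classical
  exact main K h2 h3 G₂ G₃ G₄ h

end Groth.Agent.S17409
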