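import Groth.Statements.S17410
import Mathlib
-- import your own Groth.Agent.* helpers here

set_option autoImplicit false
universe u
open Prym5

namespace Groth.Agent.S17410

namespace Aux
open Polynomial TensorProduct

section part2
variable {R : Type u} [CommRing R] [IsDomain R]

theorem finrank_tensor (h : Polynomial R) (hdeg : h.natDegree ≠ 0) :
    Module.finrank (FractionRing R) (TensorProduct R (FractionRing R) (AdjoinRoot h))
      = h.natDegree := by
  set F := FractionRing R
  have hinj : Function.Injective (algebraMap R F) := IsFractionRing.injective R F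
  set q : (F ⊗[R] R)[X] := h.map (Algebra.TensorProduct.includeRight (R := R) (A := F) (B := R)).toRingHom with hq
  have e1 : F ⊗[R] AdjoinRoot h ≃ₐ[F] AdjoinRoot q := AdjoinRoot.tensorAlgEquiv h q rfl
  have hmap : q.map (Algebra.TensorProduct.rid R F F) = h.map (algebraMap R F) := by
    rw [hq, Polynomial.map_map]
    congr 1
    ext r
    simp [Algebra.algebraMap_eq_smul_one]
  have e2 : AdjoinRoot q ≃ₐ[F] AdjoinRoot (h.map (algebraMap R F)) :=
    AdjoinRoot.mapAlgEquiv (Algebra.TensorProduct.rid R F F) q _ (by rw [hmap])
  have hne : h.map (algebraMap R F) ≠ 0 := by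
    intro h0
    have : h = 0 := by
      apply Polynomial.map_injective _ hinj
      rw [h0, Polynomial.map_zero]
    rw [this] at hdeg; simp at hdeg
  rw [LinearEquiv.finrank_eq (e1.trans e2).toLinearEquiv, (AdjoinRoot.powerBasis hne).finrank,
    AdjoinRoot.powerBasis_dim, Polynomial.natDegree_map_eq_of_injective hinj]

end part2

section part1
variable {R : Type u} [CommRing R] [IsDomain R]

theorem integral_of_unit (h : Polynomial R) (S : Submonoid R)
    (hu : IsUnit (algebraMap R (Localization S) h.leadingCoeff)) :
    Algebra.IsIntegral (Localization S)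
      (Localization (Algebra.algebraMapSubmonoid (AdjoinRoot h) S)) := by
  set A := AdjoinRoot h
  set R' := Localization S
  set A' := Localization (Algebra.algebraMapSubmonoid A S)
  constructor
  rcases subsingleton_or_nontrivial R' with hsub | hnt
  · intro x
    have : Subsingleton A' := by
      refine subsingleton_of_zero_eq_one ?_
      rw [← map_zero (algebraMap R' A'), ← map_one (algebraMap R' A')]
      exact congrArg _ (Subsingleton.elim _ _)
    rw [Subsingleton.elim x 0]
    exact isIntegral_zero
  -- the root is integral
  set z : A' := algebraMap A A' (AdjoinRoot.root h) with hz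
  have hzint : IsIntegral R' z := by
    set p := h.map (algebraMap R R') with hp
    have hlc : p.leadingCoeff = algebraMap R R' h.leadingCoeff :=
      Polynomial.leadingCoeff_map_of_leadingCoeff_ne_zero _ hu.ne_zero
    have hu' : IsUnit p.leadingCoeff := by rw [hlc]; exact hu
    refine ⟨hu'.unit⁻¹ • p, Polynomial.monic_of_isUnit_leadingCoeff_inv_smul hu', ?_⟩
    rw [Units.smul_def, Polynomial.eval₂_smul]
    have : Polynomial.eval₂ (algebraMap R' A') z p = 0 := by
      rw [hp, Polynomial.eval₂_map, ← IsScalarTower.algebraMap_eq,
        IsScalarTower.algebraMap_eq R A A', hz, ← Polynomial.hom_eval₂]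
      rw [show algebraMap R A = AdjoinRoot.of h from rfl, AdjoinRoot.eval₂_root, map_zero]
    rw [this, mul_zero]
  have hAint : ∀ a : A, IsIntegral R' (algebraMap A A' a) := by
    intro a
    induction a using AdjoinRoot.induction_on with
    | ih q =>
      rw [← AdjoinRoot.aeval_eq, ← Polynomial.aeval_algebraMap_apply, Polynomial.aeval_eq_sum_range]
      refine IsIntegral.sum _ (fun i _ => ?_)
      rw [Algebra.smul_def, IsScalarTower.algebraMap_apply R R' A']
      exact IsIntegral.mul isIntegral_algebraMap (hzint.pow i)
  intro x
  obtain ⟨a, s', rfl⟩ := IsLocalization.exists_mk'_eq (Algebra.algebraMapSubmonoid A S) x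
  obtain ⟨s, hs, hs'⟩ := s'.2
  have : IsLocalization.mk' A' a s' =
      algebraMap R' A' (IsLocalization.mk' R' (1 : R) (⟨s, hs⟩ : S)) * algebraMap A A' a := by
    symm
    rw [IsLocalization.eq_mk'_iff_mul_eq, ← hs', ← IsScalarTower.algebraMap_apply R A A',
      IsScalarTower.algebraMap_apply R R' A', mul_right_comm, ← map_mul,
      IsLocalization.mk'_spec, map_one, map_one, one_mul]
  rw [this]
  exact IsIntegral.mul isIntegral_algebraMap (hAint a)

theorem unit_of_integral (h : Polynomial R) (hprime : Prime h) (hdeg : h.degree ≠ 0)
    (S : Submonoid R)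
    (hint : Algebra.IsIntegral (Localization S)
      (Localization (Algebra.algebraMapSubmonoid (AdjoinRoot h) S))) :
    IsUnit (algebraMap R (Localization S) h.leadingCoeff) := by
  set A := AdjoinRoot h
  set R' := Localization S
  set A' := Localization (Algebra.algebraMapSubmonoid A S)
  rcases subsingleton_or_nontrivial R' with hsub | hnt
  · exact isUnit_of_subsingleton _
  haveI : IsDomain A := AdjoinRoot.isDomain_of_prime hprime
  have h0S : (0 : R) ∉ S := by
    intro h0
    have := IsLocalization.map_units R' (⟨0, h0⟩ : S)
    rw [map_zero] at this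
    exact not_isUnit_zero this
  have hS : S ≤ nonZeroDivisors R := by
    intro s hs
    exact mem_nonZeroDivisors_of_ne_zero (fun h0 => h0S (h0 ▸ hs))
  have hRinj : Function.Injective (algebraMap R R') := IsLocalization.injective R' hS
  have hRA : Function.Injective (algebraMap R A) := AdjoinRoot.of.injective_of_degree_ne_zero hdeg
  have hSA : Algebra.algebraMapSubmonoid A S ≤ nonZeroDivisors A := by
    rintro _ ⟨s, hs, rfl⟩
    refine mem_nonZeroDivisors_of_ne_zero (fun h0 => h0S ?_)
    have : s = 0 := hRA (by rw [h0, map_zero])
    exact this ▸ hs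
  have hAinj : Function.Injective (algebraMap A A') := IsLocalization.injective A' hSA
  obtain ⟨p, hpm, hpz⟩ := hint.isIntegral (algebraMap A A' (AdjoinRoot.root h))
  obtain ⟨b, hbS, hb⟩ := IsLocalization.integerNormalization_spec S p
  set q := IsLocalization.integerNormalization S p with hq
  have hqz := IsLocalization.integerNormalization_eval₂_eq_zero S (algebraMap R' A') p hpz
  rw [← hq, ← IsScalarTower.algebraMap_eq, IsScalarTower.algebraMap_eq R A A',
    ← Polynomial.hom_eval₂] at hqz
  have hdvd : h ∣ q := by
    rw [← AdjoinRoot.mk_eq_zero, ← AdjoinRoot.aeval_eq]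
    exact hAinj (by rw [Polynomial.aeval_def, hqz, map_zero])
  have hcoeff : ∀ i, algebraMap R R' (q.coeff i) = b • p.coeff i := by
    intro i
    rw [← Polynomial.coeff_map, hb, Polynomial.coeff_smul]
  have hb0 : b ≠ 0 := fun h0 => h0S (h0 ▸ hbS)
  have hqn : q.coeff p.natDegree = b := by
    apply hRinj
    rw [hcoeff, hpm.coeff_natDegree, Algebra.smul_def, mul_one]
  have hqdeg : q.natDegree = p.natDegree := by
    apply Polynomial.natDegree_eq_of_le_of_coeff_ne_zero
    · rw [Polynomial.natDegree_le_iff_coeff_eq_zero]
      intro i hi
      apply hRinj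
      rw [hcoeff, Polynomial.coeff_eq_zero_of_natDegree_lt hi, smul_zero, map_zero]
    · rw [hqn]; exact hb0
  have hlc : q.leadingCoeff = b := by rw [Polynomial.leadingCoeff, hqdeg, hqn]
  obtain ⟨q', hq'⟩ := hdvd
  have : algebraMap R R' b = algebraMap R R' h.leadingCoeff * algebraMap R R' q'.leadingCoeff := by
    rw [← map_mul, ← Polynomial.leadingCoeff_mul, ← hq', hlc]
  have hbu : IsUnit (algebraMap R R' b) := IsLocalization.map_units R' (⟨b, hbS⟩ : S)
  rw [this] at hbu
  exact isUnit_of_mul_isUnit_left hbu

end part1
end Aux

/-- Over a perfect field K of characteristic different from 2 and 3, let h be an irreducible polynomial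
of degree 2 in the variable z with coefficients in K[x, y] and A = K[x, y][z]/(h). For every
multiplicative subset S of K[x, y], the localisation S⁻¹A is integral over S⁻¹K[x, y] if and only if
the leading coefficient of h is invertible in S⁻¹K[x, y]; and K(x, y) ⊗ A is a K(x, y)-vector space
of dimension 2. (Geometrically: for a quartic surface with an ordinary double point, written u₂ x₃²
+ 2 u₃ x₃ + u₄ = 0 with the node at (0:0:0:1), the projection from the node restricted to a standard
affine chart of the plane is given by such an algebra A with leading coefficient the dehomogenised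
u₂, so the projection is finite of degree two exactly over the locus u₂ ≠ 0. Stated for any
irreducible h of degree 2, which is all the argument uses.) -/
theorem result (K : Type u) [Field K]
    [PerfectField K] (h2 : (2 : K) ≠ 0) (h3 : (3 : K) ≠ 0)
    (h : Polynomial (MvPolynomial (Fin 2) K)) (hirr : Irreducible h) (hdeg : h.natDegree = 2)
    (S : Submonoid (MvPolynomial (Fin 2) K)) :
    (Algebra.IsIntegral (Localization S) (Localization (Algebra.algebraMapSubmonoid (AdjoinRoot h) S))
        ↔ IsUnit (algebraMap (MvPolynomial (Fin 2) K) (Localization S) h.leadingCoeff))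
      ∧ Module.finrank (FractionRing (MvPolynomial (Fin 2) K))
          (TensorProduct (MvPolynomial (Fin 2) K) (FractionRing (MvPolynomial (Fin 2) K)) (AdjoinRoot h)) = 2 := by
  have hprime : Prime h := UniqueFactorizationMonoid.irreducible_iff_prime.mp hirr
  have hdeg' : h.degree ≠ 0 := by
    rw [Polynomial.degree_eq_natDegree hirr.ne_zero, hdeg]; norm_num
  refine ⟨⟨fun hi => Aux.unit_of_integral h hprime hdeg' S hi, fun hu => Aux.integral_of_unit h S hu⟩, ?_⟩
  rw [Aux.finrank_tensor h (by rw [hdeg]; norm_num), hdeg]

end Groth.Agent.S17410
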