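import Groth.Statements.S17417
import Mathlib
import Groth.Agent.S1391
import Groth.Agent.Lib.Lead.LimZ4
import Groth.Agent.Lib.Helper2.Stk.FullSub
import Groth.Agent.Lib.Helper4.CohIso1
import Groth.Agent.Lib.Helper1.FPA6

set_option autoImplicit false
open CategoryTheory CategoryTheory.Limits AlgebraicGeometry
universe u
open ModSt

namespace Groth.Agent.S17417

section Cart

variable {Y Z W : Scheme.{u}}

/-- The unit of the pullback–pushforward adjunction is a cartesian comparison map. -/
theorem isCart_unit (h : Y ⟶ Z) (N : Z.Modules) :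
    ModSt.IsCart h (M := (Scheme.Modules.pullback h).obj N)
      ((Scheme.Modules.pullbackPushforwardAdjunction h).unit.app N) := by
  intro M'
  have heq : (fun v : (Scheme.Modules.pullback h).obj N ⟶ M' =>
      (Scheme.Modules.pullbackPushforwardAdjunction h).unit.app N ≫
        (Scheme.Modules.pushforward h).map v) =
      ((Scheme.Modules.pullbackPushforwardAdjunction h).homEquiv N M') := by
    funext v
    exact (Adjunction.homEquiv_unit _ _ _ _).symm
  rw [heq]
  exact Equiv.bijective _

/-- The adjoint of a cartesian comparison map is an isomorphism. -/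
theorem isIso_transpose_of_isCart {h : Y ⟶ Z} {N : Z.Modules} {M : Y.Modules}
    {c : N ⟶ (Scheme.Modules.pushforward h).obj M} (hc : ModSt.IsCart h c) :
    IsIso (((Scheme.Modules.pullbackPushforwardAdjunction h).homEquiv N M).symm c) := by
  rw [isIso_iff_coyoneda_map_bijective]
  intro M'
  have heq : (fun v : M ⟶ M' =>
      ((Scheme.Modules.pullbackPushforwardAdjunction h).homEquiv N M).symm c ≫ v) =
      ((Scheme.Modules.pullbackPushforwardAdjunction h).homEquiv N M').symm ∘
        (fun v : M ⟶ M' => c ≫ (Scheme.Modules.pushforward h).map v) := by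
    funext v
    simp only [Function.comp_apply]
    rw [Equiv.eq_symm_apply, Adjunction.homEquiv_naturality_right, Equiv.apply_symm_apply]
  rw [heq]
  exact (Equiv.bijective _).comp (hc M')

theorem congr_self_app {h : Y ⟶ Z} (e : h = h) (M : Y.Modules) :
    (Scheme.Modules.pushforwardCongr e).hom.app M = 𝟙 _ := by
  apply Scheme.Modules.hom_ext
  intro U
  simp

theorem congr_symm_app {h h' : Y ⟶ Z} (e : h = h') (M : Y.Modules) :
    (Scheme.Modules.pushforwardCongr e.symm).hom.app M ≫
      (Scheme.Modules.pushforwardCongr e).hom.app M = 𝟙 _ := by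
  subst e
  rw [congr_self_app, Category.comp_id]

/-- Two out of three for cartesian comparison maps. -/
theorem isCart_of_comp {h₁ : Y ⟶ Z} {h₂ : Z ⟶ W} {P : W.Modules} {N : Z.Modules} {M : Y.Modules}
    {c₁ : N ⟶ (Scheme.Modules.pushforward h₁).obj M} {c₂ : P ⟶ (Scheme.Modules.pushforward h₂).obj N}
    (hc₂ : ModSt.IsCart h₂ c₂)
    (hc : ModSt.IsCart (h₁ ≫ h₂) (c₂ ≫ (Scheme.Modules.pushforward h₂).map c₁ ≫
      (Scheme.Modules.pushforwardComp h₁ h₂).hom.app M)) : ModSt.IsCart h₁ c₁ := by
  intro M'
  have heq : (fun v : M ⟶ M' => (c₂ ≫ (Scheme.Modules.pushforward h₂).map c₁ ≫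
      (Scheme.Modules.pushforwardComp h₁ h₂).hom.app M) ≫
        (Scheme.Modules.pushforward (h₁ ≫ h₂)).map v) =
      (((Scheme.Modules.pushforwardComp h₁ h₂).app M').homToEquiv ∘
        (fun w : N ⟶ (Scheme.Modules.pushforward h₁).obj M' =>
          c₂ ≫ (Scheme.Modules.pushforward h₂).map w)) ∘
        (fun v : M ⟶ M' => c₁ ≫ (Scheme.Modules.pushforward h₁).map v) := by
    funext v
    simp only [Function.comp_apply, Iso.homToEquiv_apply, Iso.app_hom, Category.assoc,
      CategoryTheory.Functor.map_comp]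
    rw [← (Scheme.Modules.pushforwardComp h₁ h₂).hom.naturality v]
    rfl
  have hb := hc M'
  rw [heq] at hb
  exact (Function.Bijective.of_comp_iff' ((Equiv.bijective _).comp (hc₂ _)) _).1 hb

end Cart

section FlatIso

open Groth.Agent.Lib.Helper4.CohIso1

variable {X S : Scheme.{u}} (f : X ⟶ S) {M N : X.Modules} (e : M ≅ N) (x : X)

theorem stalkMapAb_inv_hom (l : M.presheaf.stalk x) :
    stalkMapAb e.inv x (stalkMapAb e.hom x l) = l := by
  have h := ((Scheme.Modules.toPresheaf X ⋙
    TopCat.Presheaf.stalkFunctor AddCommGrpCat.{u} x).mapIso e).hom_inv_id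
  exact ConcreteCategory.congr_hom h l

include e in
/-- flatness over the base is invariant under isomorphisms of modules
(as in helper4's `ChartSq1.isFlatOverAt_of_iso`, restated here to keep the import closure small) -/
theorem isFlatOverAt_of_iso (h : FlatMod.IsFlatOverAt f M x) : FlatMod.IsFlatOverAt f N x := by
  unfold FlatMod.IsFlatOverAt at h ⊢
  letI := FlatMod.moduleStalkOver f M x
  letI := FlatMod.moduleStalkOver f N x
  let E : M.presheaf.stalk x ≃ₗ[S.presheaf.stalk (f.base x)] N.presheaf.stalk x :=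
    { toFun := stalkMapAb e.hom x
      invFun := stalkMapAb e.inv x
      map_add' := fun a b => map_add _ a b
      map_smul' := fun a l => stalkMapAb_smul e.hom x ((f.stalkMap x).hom a) l
      left_inv := fun l => stalkMapAb_inv_hom e x l
      right_inv := fun l => stalkMapAb_inv_hom e.symm x l }
  exact Module.Flat.of_linearEquiv E.symm

end FlatIso

section Fam

variable {X S : Scheme.{u}} {f : X ⟶ S}

theorem hom_ext_c {A B : Obj f} (φ ψ : Obj.Hom A B) (hb : φ.base = ψ.base) (ht : φ.top = ψ.top)
    (hc : φ.c ≫ (Scheme.Modules.pushforwardCongr ht).hom.app A.E = ψ.c) : φ = ψ := by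
  obtain ⟨b, t, wp, wq, c, hcart⟩ := φ
  obtain ⟨b', t', wp', wq', c', hcart'⟩ := ψ
  cases hb
  cases ht
  rw [congr_self_app, Category.comp_id] at hc
  cases hc
  rfl

theorem c_eq_of_eq {A B : Obj f} {φ ψ : Obj.Hom A B} (h : φ = ψ) :
    φ.c ≫ (Scheme.Modules.pushforwardCongr (by rw [h] : φ.top = ψ.top)).hom.app A.E = ψ.c := by
  subst h
  rw [congr_self_app, Category.comp_id]

theorem hom_eq_of_comp_eq {A B C : Obj f} (φ : A ⟶ B) (χ χ' : Obj.Hom C A) (hb : χ.base = χ'.base)
    (h : (χ : C ⟶ A) ≫ φ = (χ' : C ⟶ A) ≫ φ) : χ = χ' := by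
  have ht : χ.top = χ'.top := by
    apply φ.isPullback_top.hom_ext
    · exact congrArg (fun x : C ⟶ B => x.top) h
    · rw [χ.w_q, χ'.w_q, hb]
  obtain ⟨b, t, wp, wq, c, hcart⟩ := χ
  obtain ⟨b', t', wp', wq', c', hcart'⟩ := χ'
  cases hb
  cases ht
  have hc := c_eq_of_eq h
  have e1 : (Scheme.Modules.pushforwardCongr (rfl : t ≫ φ.top = t ≫ φ.top)).hom.app C.E = 𝟙 _ :=
    congr_self_app _ _
  change (φ.c ≫ (Scheme.Modules.pushforward φ.top).map c ≫
      (Scheme.Modules.pushforwardComp t φ.top).hom.app C.E) ≫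
      (Scheme.Modules.pushforwardCongr (rfl : t ≫ φ.top = t ≫ φ.top)).hom.app C.E =
      φ.c ≫ (Scheme.Modules.pushforward φ.top).map c' ≫
        (Scheme.Modules.pushforwardComp t φ.top).hom.app C.E at hc
  rw [e1, Category.comp_id] at hc
  have hc' : φ.c ≫ (Scheme.Modules.pushforward φ.top).map c ≫
      (Scheme.Modules.pushforwardComp t φ.top).hom.app C.E =
      φ.c ≫ (Scheme.Modules.pushforward φ.top).map c' ≫
        (Scheme.Modules.pushforwardComp t φ.top).hom.app C.E := hc
  have h2 : φ.c ≫ (Scheme.Modules.pushforward φ.top).map c =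
      φ.c ≫ (Scheme.Modules.pushforward φ.top).map c' := by
    have := congrArg (fun k => k ≫ (Scheme.Modules.pushforwardComp t φ.top).inv.app C.E) hc'
    simpa [Category.assoc] using this
  have hcc : c = c' := (φ.cart _).1 h2
  cases hcc
  rfl

theorem exists_fill {A B C : Obj f} (φ : A ⟶ B) (ψ : C ⟶ B) (g : C.base ⟶ A.base)
    (hg : g ≫ φ.base = ψ.base) : ∃ χ : C ⟶ A, χ.base = g ∧ χ ≫ φ = ψ := by
  have hw : ψ.top ≫ B.q = (C.q ≫ g.left) ≫ φ.base.left := by
    rw [ψ.w_q, ← hg, Over.comp_left, Category.assoc]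
  obtain ⟨t, ht1, ht2⟩ : ∃ t : C.XT ⟶ A.XT, t ≫ φ.top = ψ.top ∧ t ≫ A.q = C.q ≫ g.left :=
    ⟨φ.isPullback_top.lift _ _ hw, φ.isPullback_top.lift_fst _ _ hw,
      φ.isPullback_top.lift_snd _ _ hw⟩
  have wp : t ≫ A.p = C.p := by
    rw [← φ.w_p, ← Category.assoc, ht1, ψ.w_p]
  let d : B.E ⟶ (Scheme.Modules.pushforward φ.top).obj ((Scheme.Modules.pushforward t).obj C.E) :=
    ψ.c ≫ (Scheme.Modules.pushforwardCongr ht1.symm).hom.app C.E ≫
      (Scheme.Modules.pushforwardComp t φ.top).inv.app C.E
  obtain ⟨c, hc⟩ := (φ.cart ((Scheme.Modules.pushforward t).obj C.E)).2 d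
  have hc' : φ.c ≫ (Scheme.Modules.pushforward φ.top).map c = d := hc
  have hcomp : φ.c ≫ (Scheme.Modules.pushforward φ.top).map c ≫
      (Scheme.Modules.pushforwardComp t φ.top).hom.app C.E =
      ψ.c ≫ (Scheme.Modules.pushforwardCongr ht1.symm).hom.app C.E := by
    rw [← Category.assoc φ.c, hc']
    simp only [d, Category.assoc, Iso.inv_hom_id_app, Category.comp_id]
  have hcart : ModSt.IsCart t c := by
    apply isCart_of_comp φ.cart
    rw [hcomp]
    exact ModSt.IsCart.congr ψ.cart ht1.symm
  refine ⟨(⟨g, t, wp, ht2, c, hcart⟩ : Obj.Hom C A), rfl, ?_⟩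
  apply hom_ext_c _ _ hg ht1
  show (φ.c ≫ (Scheme.Modules.pushforward φ.top).map c ≫
      (Scheme.Modules.pushforwardComp t φ.top).hom.app C.E) ≫
      (Scheme.Modules.pushforwardCongr ht1).hom.app C.E = ψ.c
  rw [hcomp, Category.assoc, congr_symm_app, Category.comp_id]

theorem isHomLift_iff {A B : Obj f} (g : A.base ⟶ B.base) (χ : A ⟶ B) :
    (ModSt.Fam f).p.IsHomLift g χ ↔ χ.base = g := by
  constructor
  · intro h
    exact (@IsHomLift.eq_of_isHomLift _ _ _ _ (ModSt.Fam f).p A B g χ h).symm
  · rintro rfl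
    exact IsHomLift.map (ModSt.Fam f).p χ

variable (f) in
theorem isFibGrpd_fam : FibCat.IsFibGrpd (ModSt.Fam f).p where
  exists_lift {x V} g := by
    change V ⟶ x.base at g
    let y : Obj f :=
      { base := V
        XT := pullback x.q g.left
        p := pullback.fst x.q g.left ≫ x.p
        q := pullback.snd x.q g.left
        isPullback := by
          have h := (IsPullback.of_hasPullback x.q g.left).paste_horiz x.isPullback
          rwa [Over.w g] at h
        E := (Scheme.Modules.pullback (pullback.fst x.q g.left)).obj x.E }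
    let φ : Obj.Hom y x :=
      { base := g
        top := pullback.fst x.q g.left
        w_p := rfl
        w_q := pullback.condition
        c := (Scheme.Modules.pullbackPushforwardAdjunction (pullback.fst x.q g.left)).unit.app x.E
        cart := isCart_unit _ _ }
    exact ⟨y, φ, (isHomLift_iff g φ).2 rfl⟩
  isStronglyCartesian {y x} φ :=
    { universal_property' := by
        intro z g ψ hψ
        change z.base ⟶ y.base at g
        have hg : g ≫ φ.base = ψ.base :=
          @IsHomLift.eq_of_isHomLift _ _ _ _ (ModSt.Fam f).p z x (g ≫ (ModSt.Fam f).p.map φ) ψ hψ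
        obtain ⟨χ, hχ1, hχ2⟩ := exists_fill φ ψ g hg
        refine ⟨χ, ⟨(isHomLift_iff g χ).2 hχ1, hχ2⟩, ?_⟩
        rintro χ' ⟨h1, h2⟩
        have hb' : χ'.base = g := (isHomLift_iff g χ').1 h1
        exact hom_eq_of_comp_eq φ χ' χ (hb'.trans hχ1.symm) (h2.trans hχ2.symm) }

theorem isCohObj_of_hom {y x : Obj f} (φ : y ⟶ x) (hx : ModSt.IsCohObj x) : ModSt.IsCohObj y := by
  obtain ⟨hfl, hfp⟩ := hx
  have : x.E.IsQuasicoherent := Groth.Agent.Helper1.FPA.isQuasicoherent_of_isFP x.E hfp
  have := isIso_transpose_of_isCart φ.cart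
  let a : (Scheme.Modules.pullback φ.top).obj x.E ≅ y.E :=
    asIso (((Scheme.Modules.pullbackPushforwardAdjunction φ.top).homEquiv x.E y.E).symm φ.c)
  refine ⟨fun x' => ?_, ?_⟩
  · exact isFlatOverAt_of_iso y.q a x'
      (Groth.Agent.S1391.result x.q y.q φ.top φ.base.left φ.isPullback_top x.E inferInstance x'
        (hfl _))
  · exact Groth.Agent.Helper1.FPA.isFP_of_iso a
      (Groth.Agent.Lead.LimZ.isFP_pullback φ.top x.E hfp)

end Fam

/-- Let `f : X ⟶ S` be a morphism of schemes. The category over `(Sch/S)` of finitely presented modules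
flat over the base (objects over `T`: a cartesian square `X_T` over `T` and a finitely presented
`T`-flat module on `X_T`; morphisms: cartesian comparison maps over morphisms of bases) is fibred in
groupoids. (The source states this for a morphism of finite presentation of algebraic spaces `X → B`
over a base scheme and for modules whose support is moreover proper over the base; this row is the
case of schemes with base `S = B`, for the category without the support condition, and for any
morphism `f`.) -/
theorem result {X S : Scheme.{u}} (f : X ⟶ S) :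
    FibCat.IsFibGrpd (ModSt.Coh f).p := by
  refine Groth.Agent.Helper2.StkLib.isFibGrpd_subCat (𝒳 := ModSt.Fam f) (Q := ModSt.IsCohObj)
    (isFibGrpd_fam f) ?_
  intro y x φ hx
  exact ⟨y, Iso.refl y, isCohObj_of_hom φ hx, by simp only [Iso.refl_hom]; infer_instance⟩

end Groth.Agent.S17417
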