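import Groth.Statements.S17438
import Mathlib
import Groth.Agent.Lib.Lead.DefoExt1
import Groth.Agent.Lib.Lead.LerayOne5
import Groth.Agent.Lib.Helper2.HomExt.ExtLocFree
import Groth.Agent.Lib.Helper2.HomExt.Bridge
import Groth.Agent.Lib.Helper2.HomExt.ExtDual
import Groth.Agent.Lib.Helper4.HomPull1
import Groth.Agent.Lib.Lead.FLF6
import Groth.Agent.S0491

set_option autoImplicit false
universe u
open CategoryTheory AlgebraicGeometry
open DefoSh

namespace Groth.Agent.S17438

/-- Let k be a field, X a scheme over k, U₀ and U₁ two affine opens covering X, and E an O_X-module free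
of the same finite rank n on U₀ and on U₁ (a vector bundle given by one transition matrix). Then the
isomorphism classes of deformations of E over the dual numbers k[ε] (O_X-modules with a k[ε]-action,
flat stalkwise, with reduction identified with E) are in bijection with the first Čech cohomology
group of the cover (U₀, U₁) with coefficients in the sheaf End(E), by a bijection taking the class
of the trivial deformation E ⊕ εE to 0 (existence of such a bijection only: the cocycle attached to
a deformation depends on chosen trivializations over U₀ and U₁). The assertion on deformations with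
fixed determinant is not stated. The published statement is for a curve and uses the sheaf
cohomology H¹(C, End(E)); this row takes any scheme over k covered by two affine opens on which E is
free, as the printed proof uses, and the Čech cohomology of that cover. -/
theorem result (k : Type u) [Field k] (X : Scheme.{u})
    [X.Over (Spec (CommRingCat.of k))] (U : ULift.{u} (Fin 2) → X.Opens)
    (hU : ∀ i, IsAffineOpen (U i)) (hcov : ⨆ i, U i = ⊤) (E : X.Modules) (n : ℕ)
    (hfree : ∀ i, Nonempty (E.restrict (U i).ι ≅ FlatMod.freeMod ↑(U i) n)) :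
    ∃ e : DefoSh.FirstOrder k E ≃ ↑(CohB1.cechH U (RefHull.homSh E E) 1),
      e (DefoSh.Defo.trivDual k E).cl = 0 := by
  classical
  haveI : EnoughInjectives X.Modules := IsGrothendieckAbelian.enoughInjectives.{u}
  haveI : HasExt.{u} X.Modules := hasExt_of_enoughInjectives _
  obtain ⟨e0, h0, -⟩ := Groth.Agent.Lead.DefoExt.firstOrder_equiv_ext (k := k) (E := E)
  have hE : FlatMod.IsFinLocFree E := by
    intro x
    have hx : x ∈ (⨆ i, U i : X.Opens) := by
      rw [hcov]
      trivial
    obtain ⟨i, hi⟩ := TopologicalSpace.Opens.mem_iSup.1 hx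
    exact ⟨U i, n, hi, hfree i⟩
  haveI := Groth.Agent.Helper3.SHomEx.hasSheafHom (O := X.sheaf) E
  haveI := Groth.Agent.Helper2.HomExt.hasSheafHom_dcoh E
  obtain ⟨e1⟩ := Groth.Agent.Helper2.HomExt.nonempty_ext_addEquiv_HH hE E 1
  haveI : HasExt.{u} (SheafOfModules.{u} X.ringCatSheaf) := ‹HasExt.{u} X.Modules›
  obtain ⟨e2⟩ := Groth.Agent.S0491.result (Opens.grothendieckTopology X) X.ringCatSheaf
    ((DCoh.sheafHom E).obj E) 1
  have e3 := Groth.Agent.Helper2.HomExt.extAddEquivOfIsoRight (Coh.structureModule X)
    (Groth.Agent.Helper2.HomExt.sheafHomIso E E) 1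
  have hH : FlatMod.IsFinLocFree (RefHull.homSh E E) :=
    Groth.Agent.Lib.Helper4.HomPull1.isFinLocFree_homSh' E E hE hE
  haveI : (RefHull.homSh E E).IsQuasicoherent :=
    Groth.Agent.Lead.FLF.isQuasicoherent_of_isFinLocFree _ hH
  obtain ⟨e4⟩ := Groth.Agent.Lead.LerayOne.nonempty_ext_unit_cech (RefHull.homSh E E) U hU hcov
  let e : Abelian.Ext E E 1 ≃+ ↑(CohB1.cechH U (RefHull.homSh E E) 1) :=
    e1.trans (e2.symm.trans (e3.trans e4))
  refine ⟨e0.trans e.toEquiv, ?_⟩
  show e (e0 _) = 0
  rw [h0, map_zero]

end Groth.Agent.S17438
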