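import Groth.Statements.S17444
-- import your own Groth.Agent.* helpers here

set_option autoImplicit false
universe u v
open SSRed

namespace Groth.Agent.S17444

/-- Let K be a field of characteristic zero, V a K-vector space and g a K-linear endomorphism of V such
that g - 1 is nilpotent (a unipotent automorphism). Then for every integer n > 0 the endomorphisms
gⁿ - 1 and g - 1 have the same kernel: a vector fixed by gⁿ is fixed by g. (The published statement
assumes V finite-dimensional; this row allows any V.) -/
theorem result (K : Type u) (V : Type v) [Field K] [CharZero K]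
    [AddCommGroup V] [Module K V] (g : Module.End K V) (hg : IsNilpotent (g - 1)) (n : ℕ) (hn : 0 < n) :
    LinearMap.ker (g ^ n - 1) = LinearMap.ker (g - 1) := by
  classical
  set S : Module.End K V := ∑ i ∈ Finset.range n, g ^ i with hS
  have h1 : S * (g - 1) = g ^ n - 1 := geom_sum_mul g n
  have hcomm : ∀ i j : ℕ, Commute (g ^ i - 1) (g ^ j - 1) := fun i j =>
    (((Commute.refl g).pow_pow i j).sub_right (Commute.one_right _)).sub_left (Commute.one_left _)
  have hnil : ∀ i : ℕ, IsNilpotent (g ^ i - 1) := by
    intro i
    rw [← mul_geom_sum g i]
    refine Commute.isNilpotent_mul_right ?_ hg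
    refine Commute.sum_right _ _ _ fun k _ => ?_
    exact ((Commute.refl g).pow_right k).sub_left (Commute.one_left _)
  have hS' : S = (n : Module.End K V) + ∑ i ∈ Finset.range n, (g ^ i - 1) := by
    rw [Finset.sum_sub_distrib, hS]
    simp
  have hnilsum : IsNilpotent (∑ i ∈ Finset.range n, (g ^ i - 1)) :=
    Commute.isNilpotent_sum (fun i _ => hnil i) (fun i j _ _ => hcomm i j)
  have hunit_n : IsUnit (n : Module.End K V) := by
    have hn0 : (n : K) ≠ 0 := Nat.cast_ne_zero.mpr hn.ne'
    have : (n : Module.End K V) = algebraMap K (Module.End K V) (n : K) := by simp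
    rw [this]
    exact (IsUnit.mk0 _ hn0).map _
  have hSunit : IsUnit S := by
    rw [hS']
    refine hnilsum.isUnit_add_left_of_commute hunit_n ?_
    exact (Nat.cast_commute n _).symm
  rw [← h1]
  ext v
  simp only [LinearMap.mem_ker, Module.End.mul_apply]
  constructor
  · intro h
    have hinj : Function.Injective S := ((Module.End.isUnit_iff S).mp hSunit).injective
    exact hinj (by rw [h, map_zero])
  · intro h
    rw [h, map_zero]

end Groth.Agent.S17444
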