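import Groth.Statements.S17446
import Mathlib

set_option autoImplicit false
universe u v
open SSRed

namespace Groth.Agent.S17446

section

open Pointwise

variable {K : Type u} {V : Type v} [Field K] [AddCommGroup V] [Module K V]

/-- coercion to endomorphisms as a monoid hom -/
def toE : (V ≃ₗ[K] V) →* Module.End K V where
  toFun g := (g : Module.End K V)
  map_one' := rfl
  map_mul' _ _ := rfl

theorem toE_apply (g : V ≃ₗ[K] V) : toE g = (g : Module.End K V) := rfl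

/-- the set `{h - 1}` -/
def SS (H : Subgroup (V ≃ₗ[K] V)) : Set (Module.End K V) := {x | ∃ h ∈ H, x = toE h - 1}

def BB (G : Subgroup (V ≃ₗ[K] V)) : Submodule K (Module.End K V) :=
  Submodule.span K ((fun g => toE g) '' (G : Set (V ≃ₗ[K] V)))

def II (H : Subgroup (V ≃ₗ[K] V)) : Submodule K (Module.End K V) := Submodule.span K (SS H)

theorem one_le_BB (G : Subgroup (V ≃ₗ[K] V)) : 1 ≤ BB G := by
  rw [Submodule.one_le]
  exact Submodule.subset_span ⟨1, G.one_mem, map_one _⟩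

theorem BB_mul_BB (G : Subgroup (V ≃ₗ[K] V)) : BB G * BB G ≤ BB G := by
  unfold BB
  rw [Submodule.span_mul_span, Submodule.span_le]
  rintro _ ⟨_, ⟨g, hg, rfl⟩, _, ⟨g', hg', rfl⟩, rfl⟩
  exact Submodule.subset_span ⟨g * g', G.mul_mem hg hg', map_mul _ _ _⟩

theorem II_le_BB {H G : Subgroup (V ≃ₗ[K] V)} (hHG : H ≤ G) : II H ≤ BB G := by
  unfold II
  rw [Submodule.span_le]
  rintro _ ⟨h, hh, rfl⟩
  refine Submodule.sub_mem _ (Submodule.subset_span ⟨h, hHG hh, rfl⟩) ?_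
  exact Submodule.subset_span ⟨1, G.one_mem, map_one _⟩

theorem BB_mul_II {H G : Subgroup (V ≃ₗ[K] V)}
    (hN : ∀ g ∈ G, ∀ a ∈ H, g * a * g⁻¹ ∈ H) : BB G * II H ≤ II H * BB G := by
  unfold BB II
  rw [Submodule.span_mul_span, Submodule.span_le]
  rintro _ ⟨_, ⟨g, hg, rfl⟩, _, ⟨a, ha, rfl⟩, rfl⟩
  have e : toE g * (toE a - 1) = (toE (g * a * g⁻¹) - 1) * toE (K := K) (V := V) g := by
    rw [sub_mul, mul_sub, one_mul, mul_one, ← map_mul, ← map_mul]
    congr 2
    group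
  change toE g * (toE a - 1) ∈ _
  rw [e]
  exact Submodule.mul_mem_mul (Submodule.subset_span ⟨_, hN g hg a ha, rfl⟩)
    (Submodule.subset_span ⟨g, hg, rfl⟩)

section ideal
variable (I B : Submodule K (Module.End K V)) (h1 : 1 ≤ B) (hBB : B * B ≤ B) (hBI : B * I ≤ I * B)
include hBB hBI

theorem J_mul_B : (I * B) * B ≤ I * B := by
  rw [mul_assoc]
  exact mul_le_mul' le_rfl hBB

theorem B_mul_J : B * (I * B) ≤ I * B := by
  rw [← mul_assoc]
  calc B * I * B ≤ (I * B) * B := mul_le_mul' hBI le_rfl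
    _ ≤ I * B := J_mul_B I B hBB hBI

include h1 in
theorem J_pow (k : ℕ) : (I * B) ^ k ≤ I ^ k * B := by
  induction k with
  | zero =>
    rw [pow_zero, pow_zero, one_mul]; exact h1
  | succ k ih =>
    calc (I * B) ^ (k + 1) = (I * B) ^ k * (I * B) := pow_succ _ _
      _ ≤ (I ^ k * B) * (I * B) := mul_le_mul' ih le_rfl
      _ = I ^ k * ((B * I) * B) := by simp only [mul_assoc]
      _ ≤ I ^ k * ((I * B) * B) := mul_le_mul' le_rfl (mul_le_mul' hBI le_rfl)
      _ ≤ I ^ k * (I * B) := mul_le_mul' le_rfl (J_mul_B I B hBB hBI)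
      _ = I ^ (k + 1) * B := by rw [← mul_assoc, ← pow_succ]

include h1 in
theorem pow_le_B {X : Submodule K (Module.End K V)} (hX : X ≤ B) (m : ℕ) : X ^ m ≤ B := by
  induction m with
  | zero => rw [pow_zero]; exact h1
  | succ m ih =>
    rw [pow_succ]
    exact (mul_le_mul' ih hX).trans hBB

include h1 in
theorem sup_pow_le (hIB : I ≤ B) {X : Submodule K (Module.End K V)} (hX : X ≤ B) (m : ℕ) :
    (I * B ⊔ X) ^ m ≤ I * B ⊔ X ^ m := by
  induction m with
  | zero => rw [pow_zero, pow_zero]; exact le_sup_right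
  | succ m ih =>
    calc (I * B ⊔ X) ^ (m + 1) = (I * B ⊔ X) ^ m * (I * B ⊔ X) := pow_succ _ _
      _ ≤ (I * B ⊔ X ^ m) * (I * B ⊔ X) := mul_le_mul' ih le_rfl
      _ = (I * B) * (I * B) ⊔ (I * B) * X ⊔ (X ^ m * (I * B) ⊔ X ^ m * X) := by
          rw [Submodule.sup_mul, Submodule.mul_sup, Submodule.mul_sup]
      _ ≤ I * B ⊔ X ^ (m + 1) := by
          refine sup_le (sup_le ?_ ?_) (sup_le ?_ ?_)
          · refine le_sup_of_le_left ?_
            calc (I * B) * (I * B) ≤ (I * B) * B :=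
                  mul_le_mul' le_rfl
                    ((mul_le_mul' hIB le_rfl).trans hBB)
              _ ≤ I * B := J_mul_B I B hBB hBI
          · refine le_sup_of_le_left ?_
            exact (mul_le_mul' le_rfl hX).trans (J_mul_B I B hBB hBI)
          · refine le_sup_of_le_left ?_
            exact (mul_le_mul' (pow_le_B I B h1 hBB hBI hX m) le_rfl).trans
              (B_mul_J I B hBB hBI)
          · rw [pow_succ]; exact le_sup_right

end ideal


theorem SS_pow_zero (H : Subgroup (V ≃ₗ[K] V)) (n : ℕ)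
    (h : ∀ f : Fin n → ↥H,
      (List.ofFn fun i => (((f i : ↥H) : V ≃ₗ[K] V) : Module.End K V) - 1).prod = 0) :
    (SS H) ^ n ⊆ {0} := by
  intro a ha
  rw [Set.mem_pow] at ha
  obtain ⟨f, rfl⟩ := ha
  have hf : ∀ i, ∃ h : ↥H, ((f i : Set.Elem (SS H)) : Module.End K V) = toE (h : V ≃ₗ[K] V) - 1 := by
    intro i
    obtain ⟨h, hh, e⟩ := (f i).2
    exact ⟨⟨h, hh⟩, e⟩
  choose g hg using hf
  have := h g
  rw [Set.mem_singleton_iff, ← this]
  congr 2
  funext i
  rw [hg i]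
  rfl

theorem II_pow_eq_bot (H : Subgroup (V ≃ₗ[K] V)) (n : ℕ)
    (h : ∀ f : Fin n → ↥H,
      (List.ofFn fun i => (((f i : ↥H) : V ≃ₗ[K] V) : Module.End K V) - 1).prod = 0) :
    II H ^ n = ⊥ := by
  unfold II
  rw [Submodule.span_pow, eq_bot_iff, Submodule.span_le]
  intro a ha
  have := SS_pow_zero H n h ha
  rw [Set.mem_singleton_iff] at this
  rw [this]
  exact Submodule.zero_mem _

theorem main (K : Type u) (V : Type v) [Field K]
    [AddCommGroup V] [Module K V] [FiniteDimensional K V]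
    (H₁ H₂ : Subgroup (V ≃ₗ[K] V)) (hnorm : ∀ g ∈ H₂, ∀ h ∈ H₁, g * h * g⁻¹ ∈ H₁)
    (h₁ : ∃ n : ℕ, ∀ f : Fin n → ↥H₁,
      (List.ofFn fun i => (((f i : ↥H₁) : V ≃ₗ[K] V) : Module.End K V) - 1).prod = 0)
    (h₂ : ∃ n : ℕ, ∀ f : Fin n → ↥H₂,
      (List.ofFn fun i => (((f i : ↥H₂) : V ≃ₗ[K] V) : Module.End K V) - 1).prod = 0) :
    ∃ n : ℕ, ∀ f : Fin n → ↥(H₁ ⊔ H₂),
      (List.ofFn fun i => (((f i : ↥(H₁ ⊔ H₂)) : V ≃ₗ[K] V) : Module.End K V) - 1).prod = 0 := by
  obtain ⟨n₁, hn₁⟩ := h₁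
  obtain ⟨n₂, hn₂⟩ := h₂
  set G := H₁ ⊔ H₂ with hG
  -- H₂ ≤ normalizer H₁
  have hle : H₂ ≤ Subgroup.normalizer (H₁ : Set (V ≃ₗ[K] V)) := by
    intro g hg
    rw [Subgroup.mem_normalizer_iff]
    intro h
    constructor
    · exact hnorm g hg h
    · intro hh
      have := hnorm g⁻¹ (H₂.inv_mem hg) _ hh
      have e : g⁻¹ * (g * h * g⁻¹) * g⁻¹⁻¹ = h := by group
      rwa [e] at this
  have hGle : G ≤ Subgroup.normalizer (H₁ : Set (V ≃ₗ[K] V)) :=
    sup_le Subgroup.le_normalizer hle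
  have hN : ∀ g ∈ G, ∀ a ∈ H₁, g * a * g⁻¹ ∈ H₁ := by
    intro g hg a ha
    exact (Subgroup.mem_normalizer_iff.mp (hGle hg) a).mp ha
  have hcoe : (G : Set (V ≃ₗ[K] V)) = (H₁ : Set (V ≃ₗ[K] V)) * (H₂ : Set (V ≃ₗ[K] V)) :=
    Subgroup.coe_mul_of_right_le_normalizer_left H₁ H₂ hle
  set I := II H₁ with hI
  set B := BB G with hB
  have h1 : 1 ≤ B := one_le_BB G
  have hBB : B * B ≤ B := BB_mul_BB G
  have hBI : B * I ≤ I * B := BB_mul_II hN
  have hIB : I ≤ B := II_le_BB le_sup_left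
  have hXB : II H₂ ≤ B := II_le_BB le_sup_right
  -- S_G ⊆ J ⊔ I₂
  have hSG : SS G ⊆ ((I * B ⊔ II H₂ : Submodule K (Module.End K V)) : Set (Module.End K V)) := by
    rintro _ ⟨g, hg, rfl⟩
    have hg' : g ∈ (H₁ : Set (V ≃ₗ[K] V)) * (H₂ : Set (V ≃ₗ[K] V)) := hcoe ▸ hg
    obtain ⟨a, ha, b, hb, rfl⟩ := hg'
    have e : toE (a * b) - 1 = (toE a - 1) * toE (K := K) (V := V) b + (toE b - 1) := by
      rw [map_mul, sub_mul, one_mul]; abel
    rw [SetLike.mem_coe, e]
    refine Submodule.add_mem _ (Submodule.mem_sup_left ?_) (Submodule.mem_sup_right ?_)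
    · exact Submodule.mul_mem_mul (Submodule.subset_span ⟨a, ha, rfl⟩)
        (Submodule.subset_span ⟨b, le_sup_right (a := H₁) hb, rfl⟩)
    · exact Submodule.subset_span ⟨b, hb, rfl⟩
  have hI₁ : I ^ n₁ = ⊥ := II_pow_eq_bot H₁ n₁ hn₁
  have hI₂ : II H₂ ^ n₂ = ⊥ := II_pow_eq_bot H₂ n₂ hn₂
  have hstep1 : (SS G) ^ n₂ ⊆ ((I * B : Submodule K (Module.End K V)) : Set (Module.End K V)) := by
    calc (SS G) ^ n₂ ⊆ (((I * B ⊔ II H₂ : Submodule K (Module.End K V)) : Set (Module.End K V))) ^ n₂ :=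
          Set.pow_subset_pow_left hSG
      _ ⊆ (((I * B ⊔ II H₂) ^ n₂ : Submodule K (Module.End K V)) : Set (Module.End K V)) :=
          Submodule.pow_subset_pow _
      _ ⊆ ((I * B ⊔ II H₂ ^ n₂ : Submodule K (Module.End K V)) : Set (Module.End K V)) :=
          sup_pow_le I B h1 hBB hBI hIB hXB n₂
      _ = ((I * B : Submodule K (Module.End K V)) : Set (Module.End K V)) := by
          rw [hI₂, sup_bot_eq]
  have hstep2 : (SS G) ^ (n₂ * n₁) ⊆ {0} := by
    calc (SS G) ^ (n₂ * n₁) = ((SS G) ^ n₂) ^ n₁ := pow_mul _ _ _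
      _ ⊆ (((I * B : Submodule K (Module.End K V)) : Set (Module.End K V))) ^ n₁ :=
          Set.pow_subset_pow_left hstep1
      _ ⊆ (((I * B) ^ n₁ : Submodule K (Module.End K V)) : Set (Module.End K V)) :=
          Submodule.pow_subset_pow _
      _ ⊆ ((I ^ n₁ * B : Submodule K (Module.End K V)) : Set (Module.End K V)) :=
          J_pow I B h1 hBB hBI n₁
      _ = {0} := by
          rw [hI₁, Submodule.bot_mul]; rfl
  refine ⟨n₂ * n₁, fun f => ?_⟩
  have hmem : (List.ofFn fun i => (((f i : ↥G) : V ≃ₗ[K] V) : Module.End K V) - 1).prod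
      ∈ (SS G) ^ (n₂ * n₁) := by
    rw [Set.mem_pow]
    exact ⟨fun i => ⟨(((f i : ↥G) : V ≃ₗ[K] V) : Module.End K V) - 1, (f i : V ≃ₗ[K] V), (f i).2, rfl⟩, rfl⟩
  exact hstep2 hmem


end


/-- Let K be a field, V a finite-dimensional K-vector space and H₁, H₂ subgroups of the group of
K-linear automorphisms of V such that H₂ normalizes H₁. Call the action of a subgroup H unipotent
when, for some n, every product (h₁ - 1)(h₂ - 1)⋯(hₙ - 1) with all hᵢ in H is the zero endomorphism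
(equivalently, V has an H-stable flag on whose successive quotients H acts trivially). If H₁ and H₂
act unipotently, then the subgroup generated by H₁ and H₂ acts unipotently. (In the published result
H₁ and H₂ are the absolute Galois groups of two finite Galois extensions of a strictly henselian
discretely valued field over which an abelian variety becomes semistable, acting on its rational
ℓ-adic Tate module, and the conclusion is semistability over the intersection of the two fields; the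
printed argument uses only that H₂ normalizes H₁.) -/
theorem result (K : Type u) (V : Type v) [Field K]
    [AddCommGroup V] [Module K V] [FiniteDimensional K V]
    (H₁ H₂ : Subgroup (V ≃ₗ[K] V)) (hnorm : ∀ g ∈ H₂, ∀ h ∈ H₁, g * h * g⁻¹ ∈ H₁)
    (h₁ : ∃ n : ℕ, ∀ f : Fin n → ↥H₁,
      (List.ofFn fun i => (((f i : ↥H₁) : V ≃ₗ[K] V) : Module.End K V) - 1).prod = 0)
    (h₂ : ∃ n : ℕ, ∀ f : Fin n → ↥H₂,
      (List.ofFn fun i => (((f i : ↥H₂) : V ≃ₗ[K] V) : Module.End K V) - 1).prod = 0) :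
    ∃ n : ℕ, ∀ f : Fin n → ↥(H₁ ⊔ H₂),
      (List.ofFn fun i => (((f i : ↥(H₁ ⊔ H₂)) : V ≃ₗ[K] V) : Module.End K V) - 1).prod = 0 := by
  classical
  exact main K V H₁ H₂ hnorm h₁ h₂

end Groth.Agent.S17446
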