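import Groth.Statements.S17463
-- import your own Groth.Agent.* helpers here
import Groth.Agent.S17444

set_option autoImplicit false
universe u v w
open SSRed

namespace Groth.Agent.S17463

/-- Let K be a field of characteristic zero, V a K-vector space, G a group with a K-linear action ρ : G
→ GL(V) such that every ρ(g) is unipotent (ρ(g) - 1 is nilpotent), and H a subgroup of G of finite
index. Then the H-invariants equal the G-invariants: a vector fixed by every element of H is fixed
by every element of G. (In the source G and H are the absolute Galois groups of K and of a finite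
extension K', acting unipotently on the rational ℓ-adic Tate module of an abelian variety.) -/
theorem result (K : Type u) (V : Type v) (G : Type w) [Field K] [CharZero K]
    [AddCommGroup V] [Module K V] [Group G] (ρ : G →* (V ≃ₗ[K] V))
    (hunip : ∀ g : G, IsNilpotent (((ρ g : V ≃ₗ[K] V) : Module.End K V) - 1))
    (H : Subgroup G) [H.FiniteIndex] (v : V) (hv : ∀ h ∈ H, ρ h v = v) (g : G) :
    ρ g v = v := by
  obtain ⟨n, hn0, -, hmem⟩ := Subgroup.exists_pow_mem_of_index_ne_zero (H := H)
    Subgroup.FiniteIndex.index_ne_zero g
  have h1 := hv _ hmem
  rw [map_pow] at h1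
  have hker : v ∈ LinearMap.ker ((((ρ g : V ≃ₗ[K] V) : Module.End K V)) ^ n - 1) := by
    rw [LinearMap.mem_ker, LinearMap.sub_apply, Module.End.one_apply, sub_eq_zero]
    have : ∀ k : ℕ, ((((ρ g : V ≃ₗ[K] V) : Module.End K V)) ^ k) v = ((ρ g) ^ k) v := by
      intro k
      induction k with
      | zero => simp
      | succ k ih =>
        rw [pow_succ, Module.End.mul_apply, pow_succ]
        change _ = (ρ g ^ k) ((ρ g) v)
        generalize (ρ g) v = w
        clear ih h1
        induction k generalizing w with
        | zero => simp
        | succ k ih => rw [pow_succ, Module.End.mul_apply, pow_succ]; exact ih _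
    rw [this, h1]
  rw [Groth.Agent.S17444.result K V _ (hunip g) n hn0] at hker
  rw [LinearMap.mem_ker, LinearMap.sub_apply, Module.End.one_apply, sub_eq_zero] at hker
  exact hker

end Groth.Agent.S17463
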