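import Groth.Statements.S17466
import Mathlib
-- import your own Groth.Agent.* helpers here

set_option autoImplicit false
universe u v
open BigOperators
open NRGIT

namespace Groth.Agent.S17466

open BigOperators
namespace Aux

open HomogeneousLocalization

section

variable {R : Type u} {A : Type v} [CommRing R] [CommRing A] [Algebra R A]
  (𝒜 : ℕ → Submodule R A) [GradedAlgebra 𝒜]

lemma val_mk_mul {x : A} {d : ℕ} (hx : x ∈ 𝒜 d) (n : ℕ) (a : A) (ha : a ∈ 𝒜 (n • d)) :
    algebraMap (Away 𝒜 x) (Localization.Away x) (Away.mk 𝒜 hx n a ha) *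
      algebraMap A (Localization.Away x) (x ^ n) = algebraMap A (Localization.Away x) a := by
  rw [HomogeneousLocalization.algebraMap_apply, Away.val_mk, Localization.mk_eq_mk']
  exact IsLocalization.mk'_spec _ _ _

lemma ext_of_mul {x : A} (z z' : Away 𝒜 x) (N : ℕ)
    (h : algebraMap (Away 𝒜 x) (Localization.Away x) z * algebraMap A (Localization.Away x) (x ^ N) =
      algebraMap (Away 𝒜 x) (Localization.Away x) z' * algebraMap A (Localization.Away x) (x ^ N)) :
    z = z' := by
  have hu : IsUnit (algebraMap A (Localization.Away x) (x ^ N)) := by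
    rw [map_pow]; exact (IsLocalization.Away.algebraMap_isUnit x).pow N
  have := hu.mul_left_injective h
  apply HomogeneousLocalization.val_injective
  simpa [HomogeneousLocalization.algebraMap_apply] using this

end

theorem main
    {R : Type u} {A : Type v} [CommRing R] [CommRing A] [Algebra R A]
    (𝒜 : ℕ → Submodule R A) [GradedAlgebra 𝒜]
    {n : ℕ} (σ : Fin n → A) (hσ : ∀ i, σ i ∈ 𝒜 1) {s : ℕ} (hs : 0 < s)
    (hgen : ∀ i, Algebra.adjoin (𝒜 0)
      {z : HomogeneousLocalization.Away 𝒜 (σ i) |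
        ∃ f ∈ 𝒜 s, z.val = Localization.mk f ⟨σ i ^ s, Submonoid.pow_mem _ (Submonoid.mem_powers (σ i)) s⟩} = ⊤)
    (K : Fin n → ℕ) (hK : ∑ i, K i = s) :
    Algebra.adjoin (𝒜 0)
      {z : HomogeneousLocalization.Away 𝒜 (∏ i, σ i ^ K i) |
        ∃ f ∈ 𝒜 s, z.val = Localization.mk f ⟨∏ i, σ i ^ K i, Submonoid.mem_powers _⟩} = ⊤ := by
  classical
  set τ := ∏ i, σ i ^ K i with hτdef
  have hτ : τ ∈ 𝒜 s := by
    have := SetLike.prod_pow_mem_graded 𝒜 (fun _ : Fin n => 1) σ (F := Finset.univ) K
      (fun i _ => hσ i)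
    simpa [hK] using this
  obtain ⟨i₀, hi₀⟩ : ∃ i, 0 < K i := by
    by_contra h
    push Not at h
    have : ∑ i, K i = 0 := Finset.sum_eq_zero (fun i _ => Nat.le_zero.mp (h i))
    omega
  let K' : Fin n → ℕ := fun j => if j = i₀ then K i₀ - 1 else K j
  have hKK' : ∀ j, K j = K' j + (if j = i₀ then 1 else 0) := by
    intro j
    by_cases hj : j = i₀
    · subst hj; simp only [K', if_true]; omega
    · simp [K', hj]
  have hK' : ∑ j, K' j + 1 = s := by
    rw [← hK]
    conv_rhs => rw [Finset.sum_congr rfl (fun j _ => hKK' j)]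
    rw [Finset.sum_add_distrib]
    simp
  set g := ∏ j, σ j ^ K' j with hg
  have hgmem : g ∈ 𝒜 (s - 1) := by
    have := SetLike.prod_pow_mem_graded 𝒜 (fun _ : Fin n => 1) σ (F := Finset.univ) K'
      (fun i _ => hσ i)
    have h2 : ∑ k, K' k • (1 : ℕ) = s - 1 := by
      simp only [smul_eq_mul, mul_one]; omega
    rw [h2] at this
    exact this
  have hτg : τ = σ i₀ * g := by
    rw [hτdef, hg, Finset.prod_congr rfl (fun j _ => by rw [hKK' j, pow_add]),
      Finset.prod_mul_distrib, mul_comm]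
    congr 1
    simp [Finset.prod_ite_eq']
  set T := Algebra.adjoin (𝒜 0)
      {z : HomogeneousLocalization.Away 𝒜 τ |
        ∃ f ∈ 𝒜 s, z.val = Localization.mk f ⟨τ, Submonoid.mem_powers _⟩} with hT
  have hdeg1 : ∀ f, f ∈ 𝒜 s → f ∈ 𝒜 (1 • s) := fun f hf => by simpa using hf
  have hgenT : ∀ f (hf : f ∈ 𝒜 s), Away.mk 𝒜 hτ 1 f (hdeg1 f hf) ∈ T := by
    intro f hf
    apply Algebra.subset_adjoin
    refine ⟨f, hf, ?_⟩
    rw [Away.val_mk]
    congr 1
    exact Subtype.ext (pow_one τ)
  let φ : Away 𝒜 (σ i₀) →ₐ[𝒜 0] Away 𝒜 τ := awayMapₐ 𝒜 hgmem hτg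
  -- Step B
  have hgσ : ∀ j, g * σ j ∈ 𝒜 s := by
    intro j
    have := SetLike.mul_mem_graded hgmem (hσ j)
    have h2 : s - 1 + 1 = s := by omega
    rwa [h2] at this
  have hB : ∀ y, φ y ∈ T := by
    have hle : (Algebra.adjoin (𝒜 0)
        {z : HomogeneousLocalization.Away 𝒜 (σ i₀) |
          ∃ f ∈ 𝒜 s, z.val = Localization.mk f ⟨σ i₀ ^ s,
            Submonoid.pow_mem _ (Submonoid.mem_powers (σ i₀)) s⟩}).map φ ≤ T := by
      rw [AlgHom.map_adjoin, Algebra.adjoin_le_iff]
      rintro _ ⟨z₀, ⟨f, hf, hz₀⟩, rfl⟩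
      have hf' : f ∈ 𝒜 (s • 1) := by simpa using hf
      have hz₀' : z₀ = Away.mk 𝒜 (hσ i₀) s f hf' := by
        apply HomogeneousLocalization.val_injective
        rw [hz₀, Away.val_mk]
      have hφ : φ z₀ = Away.mk 𝒜 hτ 1 f (hdeg1 f hf) *
          ∏ j, (Away.mk 𝒜 hτ 1 (g * σ j) (hdeg1 _ (hgσ j))) ^ K' j := by
        rw [hz₀']
        change awayMap 𝒜 hgmem hτg _ = _
        rw [awayMap_mk]
        apply ext_of_mul 𝒜 _ _ s
        rw [val_mk_mul]
        have h1 := val_mk_mul 𝒜 hτ 1 f (hdeg1 f hf)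
        have h2 : ∀ j, algebraMap (Away 𝒜 τ) (Localization.Away τ)
            (Away.mk 𝒜 hτ 1 (g * σ j) (hdeg1 _ (hgσ j))) *
            algebraMap A (Localization.Away τ) (τ ^ 1) =
            algebraMap A (Localization.Away τ) (g * σ j) :=
          fun j => val_mk_mul 𝒜 hτ 1 (g * σ j) (hdeg1 _ (hgσ j))
        have hs' : τ ^ s = τ ^ 1 * ∏ j, (τ ^ 1) ^ K' j := by
          rw [Finset.prod_pow_eq_pow_sum, ← pow_succ', pow_one]
          congr 1
          omega
        have hgs : g ^ s = ∏ j, (g * σ j) ^ K' j := by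
          simp only [mul_pow]
          rw [Finset.prod_mul_distrib, Finset.prod_pow_eq_pow_sum, ← hg, ← pow_succ]
          congr 1
          omega
        rw [hs', map_mul (algebraMap (Away 𝒜 τ) (Localization.Away τ)),
          map_prod (algebraMap (Away 𝒜 τ) (Localization.Away τ)),
          map_mul (algebraMap A (Localization.Away τ)) (τ ^ 1),
          map_prod (algebraMap A (Localization.Away τ)), mul_mul_mul_comm, h1,
          ← Finset.prod_mul_distrib]
        simp only [map_pow (algebraMap (Away 𝒜 τ) (Localization.Away τ)),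
          map_pow (algebraMap A (Localization.Away τ)) (τ ^ 1), ← mul_pow]
        rw [Finset.prod_congr rfl (fun j _ => by rw [h2 j])]
        rw [map_mul, hgs, map_prod]
        simp only [map_pow]
      rw [hφ]
      exact T.mul_mem (hgenT f hf) (T.prod_mem (fun j _ => T.pow_mem (hgenT _ (hgσ j)) _))
    intro y
    apply hle
    rw [hgen i₀]
    exact ⟨y, trivial, rfl⟩
  -- Step A
  rw [eq_top_iff]
  intro z _
  obtain ⟨m, a, ha, rfl⟩ := Away.mk_surjective 𝒜 hτ z
  have ha' : a ∈ 𝒜 ((m * s) • 1) := by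
    have : (m * s) • 1 = m • s := by simp
    rw [this]; exact ha
  let y : Away 𝒜 (σ i₀) := Away.mk 𝒜 (hσ i₀) (m * s) a ha'
  have hσs : σ i₀ ^ s ∈ 𝒜 s := by
    have := SetLike.pow_mem_graded s (hσ i₀)
    simpa using this
  set w : Away 𝒜 τ := Away.mk 𝒜 hτ 1 (σ i₀ ^ s) (hdeg1 _ hσs) with hw
  have hwT : w ∈ T := hgenT _ hσs
  have hz : Away.mk 𝒜 hτ m a ha = φ y * w ^ m := by
    change _ = awayMap 𝒜 hgmem hτg y * w ^ m
    rw [awayMap_mk]
    apply ext_of_mul 𝒜 _ _ (m + m * s)
    have h1 := val_mk_mul 𝒜 hτ m a ha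
    have h2 : algebraMap (Away 𝒜 τ) (Localization.Away τ) w *
        algebraMap A (Localization.Away τ) (τ ^ 1) =
        algebraMap A (Localization.Away τ) (σ i₀ ^ s) :=
      val_mk_mul 𝒜 hτ 1 (σ i₀ ^ s) (hdeg1 _ hσs)
    have hpow : τ ^ (m + m * s) = τ ^ (m * s) * (τ ^ 1) ^ m := by
      rw [← pow_mul, one_mul, ← pow_add, add_comm]
    rw [map_mul (algebraMap (Away 𝒜 τ) (Localization.Away τ)),
      map_pow (algebraMap (Away 𝒜 τ) (Localization.Away τ)), hpow,
      map_mul (algebraMap A (Localization.Away τ)),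
      map_pow (algebraMap A (Localization.Away τ)) (τ ^ 1), mul_mul_mul_comm, val_mk_mul, ← mul_pow,
      h2]
    have hpow' : τ ^ (m * s) * (τ ^ 1) ^ m = τ ^ m * τ ^ (m * s) := by
      rw [pow_one, mul_comm]
    rw [← map_pow (algebraMap A (Localization.Away τ)) (τ ^ 1), ← map_mul, hpow', map_mul,
      ← mul_assoc, h1, ← map_pow, ← map_mul, ← map_mul]
    congr 1
    rw [hτg, mul_pow]
    ring
  rw [hz]
  exact T.mul_mem (hB y) (T.pow_mem hwT m)

end Aux

/-- Let A be a commutative algebra graded by the natural numbers, let σ_1, …, σ_n be homogeneous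
elements of degree 1 and let s ≥ 1 be an integer such that, for every i, the degree-zero homogeneous
localisation of A away from σ_i is generated over A_0 by the fractions f / σ_i ^ s with f
homogeneous of degree s. Then for every exponent vector K = (k_1, …, k_n) with k_1 + ⋯ + k_n = s,
the degree-zero homogeneous localisation of A away from the monomial σ^K = ∏ σ_i ^ (k_i) is
generated over A_0 by the fractions f / σ^K with f homogeneous of degree s. (Equivalently: the
natural map from the degree-zero localisation of the symmetric algebra on A_s, taken away from σ^K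
viewed as an element of degree one, to the degree-zero localisation of A away from σ^K is
surjective. The published lemma concerns the algebra of invariant sections of the powers of a
linearised line bundle on an irreducible projective scheme over a field, with the σ_i a basis of a
weight space of sections, and concludes a closed immersion of a quotient into an open piece of a
projective space; this row keeps only the graded-algebra step, for any commutative graded algebra,
with the base field replaced by A_0, which generates nothing new since a / 1 = a σ^s / σ^s for a of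
degree zero.) -/
theorem result
    {R : Type u} {A : Type v} [CommRing R] [CommRing A] [Algebra R A]
    (𝒜 : ℕ → Submodule R A) [GradedAlgebra 𝒜]
    {n : ℕ} (σ : Fin n → A) (hσ : ∀ i, σ i ∈ 𝒜 1) {s : ℕ} (hs : 0 < s)
    (hgen : ∀ i, Algebra.adjoin (𝒜 0)
      {z : HomogeneousLocalization.Away 𝒜 (σ i) |
        ∃ f ∈ 𝒜 s, z.val = Localization.mk f ⟨σ i ^ s, Submonoid.pow_mem _ (Submonoid.mem_powers (σ i)) s⟩} = ⊤)
    (K : Fin n → ℕ) (hK : ∑ i, K i = s) :
    Algebra.adjoin (𝒜 0)
      {z : HomogeneousLocalization.Away 𝒜 (∏ i, σ i ^ K i) |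
        ∃ f ∈ 𝒜 s, z.val = Localization.mk f ⟨∏ i, σ i ^ K i, Submonoid.mem_powers _⟩} = ⊤ := by
  exact Aux.main 𝒜 σ hσ hs hgen K hK

end Groth.Agent.S17466
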