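import Groth.Statements.S17500
-- import your own Groth.Agent.* helpers here
import Mathlib.RingTheory.Flat.EquationalCriterion
import Mathlib.RingTheory.Flat.Tensor
import Mathlib.RingTheory.PrincipalIdealDomain
import Mathlib.Data.Nat.Factorization.Basic
import Mathlib.Data.ZMod.Units

set_option autoImplicit false
universe u
open TorsMod

namespace Groth.Agent.S17500

/-- Let p be a prime number, n a natural number and H a module over ℤ/p^nℤ. Then H is flat over ℤ/p^nℤ
if and only if, for every i with 0 ≤ i ≤ n, the kernel of multiplication by p^i on H coincides with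
the image of multiplication by p^(n-i) on H. (The published item is phrased for an fppf sheaf of
ℤ/p^nℤ-modules on a scheme; this is the case of a single module, which is the case the argument
treats.) -/
theorem result (p n : ℕ) [Fact p.Prime]
    (H : Type u) [AddCommGroup H] [Module (ZMod (p ^ n)) H] :
    Module.Flat (ZMod (p ^ n)) H ↔
      ∀ i : ℕ, i ≤ n →
        LinearMap.ker ((p ^ i : ZMod (p ^ n)) • (LinearMap.id : H →ₗ[ZMod (p ^ n)] H)) =
          LinearMap.range ((p ^ (n - i) : ZMod (p ^ n)) • (LinearMap.id : H →ₗ[ZMod (p ^ n)] H)) := by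
  classical
  have hp : p.Prime := Fact.out
  have : NeZero (p ^ n) := ⟨pow_ne_zero _ hp.ne_zero⟩
  set P : ZMod (p ^ n) := (p : ZMod (p ^ n)) with hPdef
  have hPn : P ^ n = 0 := by
    rw [hPdef, ← Nat.cast_pow]; exact ZMod.natCast_self _
  have hR : ∀ i : ℕ, i ≤ n → ∀ a : ZMod (p ^ n), P ^ i * a = 0 →
      ∃ b : ZMod (p ^ n), a = P ^ (n - i) * b := by
    intro i hi a ha
    have h1 : ((p ^ i * a.val : ℕ) : ZMod (p ^ n)) = 0 := by
      push_cast; rw [ZMod.natCast_zmod_val]; exact ha
    rw [ZMod.natCast_eq_zero_iff] at h1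
    have h2 : p ^ (n - i) ∣ a.val := by
      have e : p ^ n = p ^ i * p ^ (n - i) := by rw [← pow_add, Nat.add_sub_cancel' hi]
      have h1' : p ^ i * p ^ (n - i) ∣ p ^ i * a.val := by rw [← e]; exact h1
      exact Nat.dvd_of_mul_dvd_mul_left (pow_pos hp.pos i) h1'
    obtain ⟨b, hb⟩ := h2
    refine ⟨(b : ZMod (p ^ n)), ?_⟩
    rw [← ZMod.natCast_zmod_val a, hb]
    push_cast
    rfl
  constructor
  · intro hflat i hi
    ext m
    simp only [LinearMap.mem_ker, LinearMap.mem_range, LinearMap.smul_apply, LinearMap.id_apply]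
    constructor
    · intro hm
      have htr := Module.Flat.isTrivialRelation_of_sum_smul_eq_zero (R := ZMod (p ^ n)) (M := H)
        (ι := Unit) (f := fun _ => P ^ i) (x := fun _ => m) (by simpa using hm)
      obtain ⟨k, a, y, hx, ha⟩ := htr
      choose b hb using fun j => hR i hi (a () j) (by simpa using ha j)
      refine ⟨∑ j, b j • y j, ?_⟩
      have hx' : m = ∑ j, a () j • y j := hx ()
      conv_rhs => rw [hx']
      rw [Finset.smul_sum]
      refine Finset.sum_congr rfl fun j _ => ?_
      rw [smul_smul, ← hb]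
    · rintro ⟨m', rfl⟩
      rw [smul_smul, ← pow_add, Nat.add_sub_cancel' hi, hPn, zero_smul]
  · intro h
    rw [Module.Flat.iff_rTensor_injective']
    intro I
    obtain ⟨i, hi, rfl⟩ : ∃ i ≤ n, I = Ideal.span {P ^ i} := by
      have : IsPrincipalIdealRing (ZMod (p ^ n)) :=
        IsPrincipalIdealRing.of_surjective (Int.castRingHom (ZMod (p ^ n))) ZMod.intCast_surjective
      obtain ⟨g, rfl⟩ := (IsPrincipalIdealRing.principal I).principal
      by_cases hg : g = 0
      · exact ⟨n, le_rfl, by rw [hg, hPn]⟩
      · have hgv : g.val ≠ 0 := by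
          intro h0; apply hg; rw [← ZMod.natCast_zmod_val g, h0, Nat.cast_zero]
        obtain ⟨i, m, hpm, hgm⟩ := Nat.exists_eq_pow_mul_and_not_dvd hgv p hp.ne_one
        have hu : IsUnit (m : ZMod (p ^ n)) := by
          rw [ZMod.isUnit_iff_coprime]
          exact Nat.Coprime.pow_right n ((Nat.Prime.coprime_iff_not_dvd hp).mpr hpm).symm
        have hgeq : g = P ^ i * m := by
          rw [← ZMod.natCast_zmod_val g, hgm]; push_cast; rfl
        have hi : i ≤ n := by
          by_contra hlt
          push Not at hlt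
          apply hg
          rw [hgeq, pow_eq_zero_of_le hlt.le hPn, zero_mul]
        refine ⟨i, hi, ?_⟩
        rw [hgeq]
        exact Ideal.span_singleton_mul_right_unit hu _
    rw [injective_iff_map_eq_zero]
    set a : Ideal.span {P ^ i} := ⟨P ^ i, Ideal.subset_span rfl⟩ with ha
    have hform : ∀ t : TensorProduct (ZMod (p ^ n)) (Ideal.span {P ^ i}) H,
        ∃ m : H, t = a ⊗ₜ[ZMod (p ^ n)] m := by
      intro t
      induction t using TensorProduct.induction_on with
      | zero => exact ⟨0, (TensorProduct.tmul_zero _ _).symm⟩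
      | tmul x m =>
        obtain ⟨r, hr⟩ := Ideal.mem_span_singleton'.mp x.2
        refine ⟨r • m, ?_⟩
        rw [TensorProduct.tmul_smul, TensorProduct.smul_tmul']
        congr 1
        ext
        simp [ha, hr]
      | add x y hx hy =>
        obtain ⟨m1, rfl⟩ := hx
        obtain ⟨m2, rfl⟩ := hy
        exact ⟨m1 + m2, (TensorProduct.tmul_add _ _ _).symm⟩
    intro t ht
    obtain ⟨m, rfl⟩ := hform t
    have h1 : P ^ i • m = 0 := by
      have := congrArg (TensorProduct.lid (ZMod (p ^ n)) H) ht
      simpa [ha] using this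
    have h2 : m ∈ LinearMap.range ((P ^ (n - i)) • (LinearMap.id : H →ₗ[ZMod (p ^ n)] H)) := by
      rw [← h i hi]
      simpa using h1
    obtain ⟨m', rfl⟩ := h2
    simp only [LinearMap.smul_apply, LinearMap.id_apply]
    rw [TensorProduct.tmul_smul, TensorProduct.smul_tmul']
    have h3 : P ^ (n - i) • a = 0 := by
      ext
      simp only [ha, Submodule.coe_smul, smul_eq_mul, ZeroMemClass.coe_zero]
      rw [← pow_add, Nat.sub_add_cancel hi, hPn]
    rw [h3, TensorProduct.zero_tmul]

end Groth.Agent.S17500
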