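import Groth.Statements.S17517
import Mathlib
-- import your own Groth.Agent.* helpers here

set_option autoImplicit false
universe u
open GIT

namespace Groth.Agent.S17517

open scoped RealInnerProductSpace
namespace Aux

section gram
variable {E : Type u} [NormedAddCommGroup E] [InnerProductSpace ℝ E]

lemma gram_rat {ι : Type*} [Fintype ι] [DecidableEq ι] (v : ι → E) (hv : LinearIndependent ℝ v)
    (hG : ∀ i j, ∃ q : ℚ, ⟪v i, v j⟫ = (q : ℝ)) (u : E)
    (hu : u ∈ Submodule.span ℝ (Set.range v))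
    (hr : ∀ j, ∃ q : ℚ, ⟪v j, u⟫ = (q : ℝ)) :
    ∃ c : ι → ℚ, u = ∑ i, (c i : ℝ) • v i := by
  choose Gq hGq using hG
  choose r hr using hr
  obtain ⟨c, rfl⟩ := (Submodule.mem_span_range_iff_exists_fun ℝ).mp hu
  set GQ : Matrix ι ι ℚ := Matrix.of Gq with hGQ
  have hmap : GQ.map (algebraMap ℚ ℝ) = Matrix.gram ℝ v := by
    ext i j
    simp [GQ, Matrix.gram_apply, hGq]
  have hdetR : (Matrix.gram ℝ v).det ≠ 0 := Matrix.det_gram_ne_zero_iff_linearIndependent.mpr hv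
  have hdetQ : GQ.det ≠ 0 := by
    intro h0
    apply hdetR
    rw [← hmap, ← RingHom.mapMatrix_apply, ← RingHom.map_det, h0, map_zero]
  have hunit : IsUnit GQ.det := isUnit_iff_ne_zero.mpr hdetQ
  set c' : ι → ℚ := GQ⁻¹.mulVec r with hc'
  have h1 : GQ.mulVec c' = r := by
    rw [hc', Matrix.mulVec_mulVec, Matrix.mul_nonsing_inv _ hunit, Matrix.one_mulVec]
  have h2 : (Matrix.gram ℝ v).mulVec (fun i => (c' i : ℝ)) = fun j => (r j : ℝ) := by
    rw [← hmap]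
    funext j
    have := (RingHom.map_mulVec (algebraMap ℚ ℝ) GQ c' j).symm
    rw [h1] at this
    have e : (fun i => (c' i : ℝ)) = (algebraMap ℚ ℝ) ∘ c' := by funext i; simp
    rw [e, this]
    simp
  have h3 : (Matrix.gram ℝ v).mulVec c = fun j => (r j : ℝ) := by
    funext j
    rw [← hr j, inner_sum]
    simp only [Matrix.mulVec, dotProduct, Matrix.gram_apply, inner_smul_right]
    apply Finset.sum_congr rfl
    intro i _
    ring
  have h4 : c = fun i => (c' i : ℝ) :=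
    Matrix.mulVec_injective_of_det_ne_zero hdetR (h3.trans h2.symm)
  refine ⟨c', ?_⟩
  rw [h4]

end gram

section rat
variable {E : Type u} [NormedAddCommGroup E] [InnerProductSpace ℝ E]
  (L : Submodule ℤ E)

/-- rational points w.r.t. the lattice -/
def IsRat (x : E) : Prop := ∃ N : ℕ, 0 < N ∧ (N : ℝ) • x ∈ L

variable {L}

lemma isRat_of_mem {x : E} (hx : x ∈ L) : IsRat L x := ⟨1, one_pos, by simpa using hx⟩

lemma natCast_smul_mem {x : E} (hx : x ∈ L) (n : ℕ) : (n : ℝ) • x ∈ L := by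
  have : (n : ℝ) • x = n • x := by rw [Nat.cast_smul_eq_nsmul]
  rw [this]
  exact L.smul_of_tower_mem n hx

lemma intCast_smul_mem {x : E} (hx : x ∈ L) (n : ℤ) : (n : ℝ) • x ∈ L := by
  have : (n : ℝ) • x = n • x := by rw [Int.cast_smul_eq_zsmul]
  rw [this]
  exact L.smul_mem n hx

lemma IsRat.add {x y : E} (hx : IsRat L x) (hy : IsRat L y) : IsRat L (x + y) := by
  obtain ⟨N, hN, hNx⟩ := hx
  obtain ⟨N', hN', hNy⟩ := hy
  refine ⟨N * N', Nat.mul_pos hN hN', ?_⟩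
  have : ((N * N' : ℕ) : ℝ) • (x + y) = (N' : ℝ) • ((N : ℝ) • x) + (N : ℝ) • ((N' : ℝ) • y) := by
    push_cast
    rw [smul_add, smul_smul, smul_smul, mul_comm (N' : ℝ)]
  rw [this]
  exact L.add_mem (natCast_smul_mem hNx _) (natCast_smul_mem hNy _)

lemma IsRat.zero : IsRat L (0 : E) := ⟨1, one_pos, by simp⟩

lemma IsRat.smul {x : E} (hx : IsRat L x) (q : ℚ) : IsRat L ((q : ℝ) • x) := by
  obtain ⟨N, hN, hNx⟩ := hx
  refine ⟨q.den * N, Nat.mul_pos q.pos hN, ?_⟩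
  have : ((q.den * N : ℕ) : ℝ) • ((q : ℝ) • x) = (q.num : ℝ) • ((N : ℝ) • x) := by
    rw [smul_smul, smul_smul]
    congr 1
    push_cast
    have h1 : (q : ℝ) = (q.num : ℝ) / (q.den : ℝ) := by
      exact_mod_cast (Rat.num_div_den q).symm
    have h2 : (q.den : ℝ) ≠ 0 := by exact_mod_cast q.den_ne_zero
    rw [h1]
    field_simp
  rw [this]
  exact intCast_smul_mem hNx _

lemma IsRat.sum {ι : Type*} (s : Finset ι) (f : ι → E) (hf : ∀ i ∈ s, IsRat L (f i)) :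
    IsRat L (∑ i ∈ s, f i) := by
  classical
  induction s using Finset.induction_on with
  | empty => simpa using IsRat.zero
  | insert a s ha ih =>
    rw [Finset.sum_insert ha]
    exact (hf a (Finset.mem_insert_self _ _)).add
      (ih (fun i hi => hf i (Finset.mem_insert_of_mem hi)))

/-- integral functionals are rational at rational points -/
lemma IsRat.apply_rat {x : E} (hx : IsRat L x) (h : E →ₗ[ℝ] ℝ)
    (hh : ∀ y ∈ L, ∃ n : ℤ, h y = (n : ℝ)) : ∃ q : ℚ, h x = (q : ℝ) := by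
  obtain ⟨N, hN, hNx⟩ := hx
  obtain ⟨n, hn⟩ := hh _ hNx
  rw [map_smul, smul_eq_mul] at hn
  refine ⟨(n : ℚ) / (N : ℚ), ?_⟩
  have hN' : (N : ℝ) ≠ 0 := by exact_mod_cast hN.ne'
  push_cast
  rw [← hn]
  field_simp

lemma IsRat.inner_rat {x y : E} (hx : IsRat L x) (hy : IsRat L y)
    (hint : ∀ x ∈ L, ∀ y ∈ L, ∃ n : ℤ, ⟪x, y⟫ = (n : ℝ)) : ∃ q : ℚ, ⟪x, y⟫ = (q : ℝ) := by
  obtain ⟨N, hN, hNx⟩ := hx
  obtain ⟨N', hN', hNy⟩ := hy
  obtain ⟨n, hn⟩ := hint _ hNx _ hNy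
  rw [inner_smul_left, inner_smul_right] at hn
  simp only [conj_trivial] at hn
  refine ⟨(n : ℚ) / ((N : ℚ) * (N' : ℚ)), ?_⟩
  have hN1 : (N : ℝ) ≠ 0 := by exact_mod_cast hN.ne'
  have hN2 : (N' : ℝ) ≠ 0 := by exact_mod_cast hN'.ne'
  push_cast
  rw [← hn]
  field_simp

end rat

section lattice
variable {E : Type u} [NormedAddCommGroup E] [InnerProductSpace ℝ E] [FiniteDimensional ℝ E]
  (L : Submodule ℤ E) [DiscreteTopology L] [IsZLattice ℝ L]

/-- the Riesz vector of a functional -/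
noncomputable def sharp (h : Module.Dual ℝ E) : E :=
  (InnerProductSpace.toDual ℝ E).symm (LinearMap.toContinuousLinearMap h)

omit [FiniteDimensional ℝ E] in
lemma sharp_inner [FiniteDimensional ℝ E] (h : Module.Dual ℝ E) (x : E) : ⟪sharp h, x⟫ = h x := by
  unfold sharp
  rw [InnerProductSpace.toDual_symm_apply]
  rfl

lemma sharp_isRat (hint : ∀ x ∈ L, ∀ y ∈ L, ∃ n : ℤ, ⟪x, y⟫ = (n : ℝ))
    (h : Module.Dual ℝ E) (hh : ∀ y ∈ L, ∃ n : ℤ, h y = (n : ℝ)) : IsRat L (sharp h) := by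
  classical
  have : Module.Free ℤ L := ZLattice.module_free ℝ L
  have : Module.Finite ℤ L := ZLattice.module_finite ℝ L
  let b := Module.Free.chooseBasis ℤ L
  let e := b.ofZLatticeBasis ℝ L
  have he : ∀ i, e i = (b i : E) := fun i => Module.Basis.ofZLatticeBasis_apply ℝ L b i
  have hmem : ∀ i, e i ∈ L := fun i => by rw [he]; exact (b i).2
  obtain ⟨c, hc⟩ := gram_rat (fun i => e i) e.linearIndependent
    (fun i j => by
      obtain ⟨n, hn⟩ := hint _ (hmem i) _ (hmem j)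
      exact ⟨n, by rw [hn]; simp⟩) (sharp h)
    (by rw [e.span_eq]; trivial)
    (fun j => by
      obtain ⟨n, hn⟩ := hh _ (hmem j)
      refine ⟨n, ?_⟩
      rw [real_inner_comm, sharp_inner, hn]; simp)
  rw [hc]
  exact IsRat.sum _ _ (fun i _ => (isRat_of_mem (hmem i)).smul (c i))

theorem rat_of_orth (hint : ∀ x ∈ L, ∀ y ∈ L, ∃ n : ℤ, ⟪x, y⟫ = (n : ℝ))
    (A : Finset (Module.Dual ℝ E)) (hA : ∀ h ∈ A, ∀ y ∈ L, ∃ n : ℤ, h y = (n : ℝ)) (w : E)
    (hw : ∀ h ∈ A, ∃ q : ℚ, h w = (q : ℝ))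
    (horth : ∀ d : E, (∀ h ∈ A, h d = 0) → ⟪w, d⟫ = 0) : IsRat L w := by
  classical
  set s : Set E := sharp '' (A : Set (Module.Dual ℝ E)) with hs
  have hsfin : s.Finite := (Finset.finite_toSet A).image _
  have hwS : w ∈ Submodule.span ℝ s := by
    rw [← Submodule.orthogonal_orthogonal (Submodule.span ℝ s), Submodule.mem_orthogonal]
    intro d hd
    rw [Submodule.mem_orthogonal] at hd
    rw [real_inner_comm]
    apply horth
    intro h hh
    rw [← sharp_inner]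
    exact hd _ (Submodule.subset_span ⟨h, hh, rfl⟩)
  obtain ⟨b, hbs, hspan, hli⟩ := exists_linearIndependent ℝ s
  have hbfin : b.Finite := hsfin.subset hbs
  have := hbfin.fintype
  have hbrat : ∀ x ∈ b, IsRat L x := by
    intro x hx
    obtain ⟨h, hh, rfl⟩ := hbs hx
    exact sharp_isRat L hint h (hA h hh)
  obtain ⟨c, hc⟩ := gram_rat (fun x : b => (x : E)) hli
    (fun i j => (hbrat _ i.2).inner_rat (hbrat _ j.2) hint) w
    (by rw [Subtype.range_coe, hspan]; exact hwS)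
    (fun j => by
      obtain ⟨h, hh, hj⟩ := hbs j.2
      obtain ⟨q, hq⟩ := hw h hh
      exact ⟨q, by rw [← hj, sharp_inner, hq]⟩)
  rw [hc]
  exact IsRat.sum _ _ (fun i _ => (hbrat _ i.2).smul (c i))

end lattice

section opt
variable {E : Type u} [NormedAddCommGroup E] [InnerProductSpace ℝ E]

/-- min of a finite set of functionals -/
noncomputable def mn (S : Finset (Module.Dual ℝ E)) (hS : S.Nonempty) (v : E) : ℝ :=
  S.inf' hS (fun f => f v)

variable (S : Finset (Module.Dual ℝ E)) (hS : S.Nonempty)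

lemma mn_le {h : Module.Dual ℝ E} (hh : h ∈ S) (v : E) : mn S hS v ≤ h v :=
  Finset.inf'_le (fun f => f v) hh

lemma le_mn {a : ℝ} {v : E} (H : ∀ h ∈ S, a ≤ h v) : a ≤ mn S hS v :=
  (Finset.le_inf'_iff hS _).mpr H

lemma exists_mn_eq (v : E) : ∃ h ∈ S, mn S hS v = h v :=
  Finset.exists_mem_eq_inf' hS (fun f => f v)

lemma mn_smul {t : ℝ} (ht : 0 ≤ t) (v : E) : mn S hS (t • v) = t * mn S hS v := by
  apply le_antisymm
  · obtain ⟨h, hh, he⟩ := exists_mn_eq S hS v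
    rw [he]
    calc mn S hS (t • v) ≤ h (t • v) := mn_le S hS hh _
      _ = t * h v := by rw [map_smul, smul_eq_mul]
  · apply le_mn
    intro h hh
    rw [map_smul, smul_eq_mul]
    exact mul_le_mul_of_nonneg_left (mn_le S hS hh v) ht

lemma mn_zero : mn S hS (0 : E) = 0 := by
  have := mn_smul S hS (le_refl (0 : ℝ)) (0 : E)
  simpa using this

lemma mn_add (v v' : E) : mn S hS v + mn S hS v' ≤ mn S hS (v + v') := by
  apply le_mn
  intro h hh
  rw [map_add]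
  exact add_le_add (mn_le S hS hh v) (mn_le S hS hh v')

lemma mn_add_neg (v : E) : mn S hS v + mn S hS (-v) ≤ 0 := by
  have := mn_add S hS v (-v)
  rwa [add_neg_cancel, mn_zero] at this

variable [FiniteDimensional ℝ E]

lemma continuous_mn : Continuous (mn S hS) := by
  unfold mn
  apply Continuous.finset_inf'_apply
  intro h _
  exact (LinearMap.continuous_of_finiteDimensional h)

variable (F G : Finset (Module.Dual ℝ E)) (hF : F.Nonempty) (hG : G.Nonempty)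

theorem exists_unit_max (hpos : ∃ v : E, 0 ≤ mn F hF v ∧ 0 < mn G hG v) :
    ∃ u : E, ‖u‖ = 1 ∧ 0 ≤ mn F hF u ∧ 0 < mn G hG u ∧
      ∀ v : E, v ≠ 0 → 0 ≤ mn F hF v → mn G hG v / ‖v‖ ≤ mn G hG u := by
  obtain ⟨v₁, hv1F, hv1G⟩ := hpos
  have hv1 : v₁ ≠ 0 := by
    rintro rfl
    rw [mn_zero] at hv1G
    exact lt_irrefl _ hv1G
  set K : Set E := Metric.sphere (0 : E) 1 ∩ (mn F hF) ⁻¹' Set.Ici 0 with hK
  have hKc : IsCompact K :=
    (isCompact_sphere (0 : E) 1).inter_right (isClosed_Ici.preimage (continuous_mn F hF))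
  have hnorm : ∀ v : E, v ≠ 0 → 0 ≤ mn F hF v → ‖v‖⁻¹ • v ∈ K := by
    intro v hv hvF
    have hn : 0 < ‖v‖ := norm_pos_iff.mpr hv
    refine ⟨?_, ?_⟩
    · rw [mem_sphere_zero_iff_norm, norm_smul, norm_inv, norm_norm, inv_mul_cancel₀ hn.ne']
    · show 0 ≤ mn F hF (‖v‖⁻¹ • v)
      rw [mn_smul F hF (inv_nonneg.mpr hn.le)]
      exact mul_nonneg (inv_nonneg.mpr hn.le) hvF
  have hKne : K.Nonempty := ⟨_, hnorm v₁ hv1 hv1F⟩
  obtain ⟨u, huK, humax⟩ := hKc.exists_isMaxOn hKne (continuous_mn G hG).continuousOn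
  have hmaxv : ∀ v : E, v ≠ 0 → 0 ≤ mn F hF v → mn G hG v / ‖v‖ ≤ mn G hG u := by
    intro v hv hvF
    have hn : 0 < ‖v‖ := norm_pos_iff.mpr hv
    have : mn G hG (‖v‖⁻¹ • v) ≤ mn G hG u := humax (hnorm v hv hvF)
    rw [mn_smul G hG (inv_nonneg.mpr hn.le)] at this
    rw [div_eq_inv_mul]
    exact this
  refine ⟨u, mem_sphere_zero_iff_norm.mp huK.1, huK.2, ?_, hmaxv⟩
  have h1 := hmaxv v₁ hv1 hv1F
  have hn : 0 < ‖v₁‖ := norm_pos_iff.mpr hv1
  exact lt_of_lt_of_le (div_pos hv1G hn) h1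

omit [FiniteDimensional ℝ E] in
theorem unit_max_unique (u : E) (hu1 : ‖u‖ = 1) (huF : 0 ≤ mn F hF u) (huG : 0 < mn G hG u)
    (hmax : ∀ v : E, v ≠ 0 → 0 ≤ mn F hF v → mn G hG v / ‖v‖ ≤ mn G hG u)
    (u' : E) (hu'1 : ‖u'‖ = 1) (hu'F : 0 ≤ mn F hF u') (hu'G : mn G hG u' = mn G hG u) :
    u' = u := by
  by_contra hne
  have hray : ¬ SameRay ℝ u u' := by
    intro hr
    apply hne
    exact ((sameRay_iff_of_norm_eq (hu1.trans hu'1.symm)).mp hr).symm
  have hlt : ‖u + u'‖ < 2 := by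
    have := norm_add_lt_of_not_sameRay hray
    rw [hu1, hu'1] at this
    linarith
  have hz : u + u' ≠ 0 := by
    intro h0
    have h1 : u' = -u := by
      rw [eq_neg_iff_add_eq_zero, add_comm]; exact h0
    have h2 := mn_add_neg G hG u
    rw [← h1, hu'G] at h2
    linarith
  have hzF : 0 ≤ mn F hF (u + u') := le_trans (add_nonneg huF hu'F) (mn_add F hF u u')
  have hzG : 2 * mn G hG u ≤ mn G hG (u + u') := by
    have := mn_add G hG u u'
    rw [hu'G] at this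
    linarith
  have h3 := hmax _ hz hzF
  have hn : 0 < ‖u + u'‖ := norm_pos_iff.mpr hz
  rw [div_le_iff₀ hn] at h3
  nlinarith

omit [FiniteDimensional ℝ E] in
/-- first-order optimality at a minimal-norm point of the polyhedron -/
theorem kkt [DecidableEq (Module.Dual ℝ E)] (w : E) (hwG : mn G hG w = 1) (hwF : 0 ≤ mn F hF w)
    (hmin : ∀ v : E, 1 ≤ mn G hG v → 0 ≤ mn F hF v → ‖w‖ ≤ ‖v‖)
    (d : E) (hd : ∀ h ∈ G.filter (fun g => g w = 1) ∪ F.filter (fun f => f w = 0), h d = 0) :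
    ⟪w, d⟫ = 0 := by
  -- reduce to the negative case
  have key : ∀ d : E, (∀ h ∈ G.filter (fun g => g w = 1) ∪ F.filter (fun f => f w = 0), h d = 0) →
      ¬ ⟪w, d⟫ < 0 := by
    intro d hd hneg
    have hG1 : ∀ g ∈ G, ∀ᶠ t in nhdsWithin (0 : ℝ) (Set.Ioi 0), 1 ≤ g (w + t • d) := by
      intro g hg
      by_cases h1 : g w = 1
      · have hgd : g d = 0 := hd g (Finset.mem_union_left _ (Finset.mem_filter.mpr ⟨hg, h1⟩))
        refine Filter.Eventually.of_forall (fun t => ?_)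
        rw [map_add, map_smul, hgd, smul_zero, add_zero, h1]
      · have hgt : 1 < g w := by
          have := mn_le G hG hg w
          rw [hwG] at this
          exact lt_of_le_of_ne this (Ne.symm h1)
        have hc : Continuous (fun t : ℝ => g w + t * g d) := by fun_prop
        have h0 : (1 : ℝ) < (fun t : ℝ => g w + t * g d) 0 := by simpa using hgt
        have hev : ∀ᶠ t in nhds (0 : ℝ), 1 < g w + t * g d :=
          hc.continuousAt.eventually (lt_mem_nhds h0)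
        refine (hev.filter_mono nhdsWithin_le_nhds).mono (fun t ht => ?_)
        rw [map_add, map_smul, smul_eq_mul]
        exact ht.le
    have hF1 : ∀ f ∈ F, ∀ᶠ t in nhdsWithin (0 : ℝ) (Set.Ioi 0), 0 ≤ f (w + t • d) := by
      intro f hf
      by_cases h1 : f w = 0
      · have hfd : f d = 0 := hd f (Finset.mem_union_right _ (Finset.mem_filter.mpr ⟨hf, h1⟩))
        refine Filter.Eventually.of_forall (fun t => ?_)
        rw [map_add, map_smul, hfd, smul_zero, add_zero, h1]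
      · have hgt : 0 < f w := by
          have := le_trans hwF (mn_le F hF hf w)
          exact lt_of_le_of_ne this (Ne.symm h1)
        have hc : Continuous (fun t : ℝ => f w + t * f d) := by fun_prop
        have h0 : (0 : ℝ) < (fun t : ℝ => f w + t * f d) 0 := by simpa using hgt
        have hev : ∀ᶠ t in nhds (0 : ℝ), 0 < f w + t * f d :=
          hc.continuousAt.eventually (lt_mem_nhds h0)
        refine (hev.filter_mono nhdsWithin_le_nhds).mono (fun t ht => ?_)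
        rw [map_add, map_smul, smul_eq_mul]
        exact ht.le
    have hN : ∀ᶠ t in nhdsWithin (0 : ℝ) (Set.Ioi 0), ‖w + t • d‖ < ‖w‖ := by
      have hc : Continuous (fun t : ℝ => 2 * ⟪w, d⟫ + t * ‖d‖ ^ 2) := by fun_prop
      have h0 : (fun t : ℝ => 2 * ⟪w, d⟫ + t * ‖d‖ ^ 2) 0 < 0 := by
        simp only [zero_mul, add_zero]; linarith
      have hev : ∀ᶠ t in nhds (0 : ℝ), 2 * ⟪w, d⟫ + t * ‖d‖ ^ 2 < 0 :=
        hc.continuousAt.eventually (gt_mem_nhds h0)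
      have hpos : ∀ᶠ t in nhdsWithin (0 : ℝ) (Set.Ioi 0), (0 : ℝ) < t := self_mem_nhdsWithin
      refine ((hev.filter_mono nhdsWithin_le_nhds).and hpos).mono (fun t ht => ?_)
      obtain ⟨ht1, ht2⟩ := ht
      have hsq : ‖w + t • d‖ ^ 2 < ‖w‖ ^ 2 := by
        rw [norm_add_sq_real, inner_smul_right, norm_smul, Real.norm_eq_abs, mul_pow, sq_abs]
        nlinarith
      exact lt_of_pow_lt_pow_left₀ 2 (norm_nonneg _) hsq
    have hall := ((Filter.eventually_all_finset G).mpr hG1).and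
      (((Filter.eventually_all_finset F).mpr hF1).and hN)
    obtain ⟨t, h1, h2, h3⟩ := hall.exists
    have := hmin (w + t • d) (le_mn G hG h1) (le_mn F hF h2)
    exact absurd this (not_le.mpr h3)
  rcases lt_trichotomy ⟪w, d⟫ 0 with h | h | h
  · exact absurd h (key d hd)
  · exact h
  · exfalso
    apply key (-d) (fun h hh => by rw [map_neg, hd h hh, neg_zero])
    rw [inner_neg_right]
    linarith

end opt

section final
variable {E : Type u} [NormedAddCommGroup E] [InnerProductSpace ℝ E] [FiniteDimensional ℝ E]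
  (L : Submodule ℤ E) [DiscreteTopology L] [IsZLattice ℝ L]
  (F G : Finset (Module.Dual ℝ E)) (hF : F.Nonempty) (hG : G.Nonempty)

theorem exists_lattice_on_ray (hint : ∀ x ∈ L, ∀ y ∈ L, ∃ n : ℤ, ⟪x, y⟫ = (n : ℝ))
    (hFi : ∀ f ∈ F, ∀ x ∈ L, ∃ n : ℤ, f x = (n : ℝ))
    (hGi : ∀ g ∈ G, ∀ x ∈ L, ∃ n : ℤ, g x = (n : ℝ))
    (u : E) (hu1 : ‖u‖ = 1) (huF : 0 ≤ mn F hF u) (huG : 0 < mn G hG u)
    (hmax : ∀ v : E, v ≠ 0 → 0 ≤ mn F hF v → mn G hG v / ‖v‖ ≤ mn G hG u) :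
    ∃ s : ℝ, 0 < s ∧ s • u ∈ L := by
  classical
  set M := mn G hG u with hM
  have hMi : 0 < M⁻¹ := inv_pos.mpr huG
  set w := M⁻¹ • u with hw
  have hwG : mn G hG w = 1 := by
    rw [hw, mn_smul G hG hMi.le, ← hM, inv_mul_cancel₀ huG.ne']
  have hwF : 0 ≤ mn F hF w := by
    rw [hw, mn_smul F hF hMi.le]
    exact mul_nonneg hMi.le huF
  have hwn : ‖w‖ = M⁻¹ := by
    rw [hw, norm_smul, hu1, mul_one, Real.norm_eq_abs, abs_of_pos hMi]
  have hmin : ∀ v : E, 1 ≤ mn G hG v → 0 ≤ mn F hF v → ‖w‖ ≤ ‖v‖ := by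
    intro v hv1 hv2
    have hv0 : v ≠ 0 := by
      rintro rfl
      rw [mn_zero] at hv1
      linarith
    have hn : 0 < ‖v‖ := norm_pos_iff.mpr hv0
    have h1 := hmax v hv0 hv2
    rw [div_le_iff₀ hn] at h1
    rw [hwn, inv_le_iff_one_le_mul₀ huG]
    linarith
  have hrat := rat_of_orth L hint
    (G.filter (fun g => g w = 1) ∪ F.filter (fun f => f w = 0))
    (fun h hh => by
      rcases Finset.mem_union.mp hh with h1 | h1
      · exact hGi h (Finset.mem_filter.mp h1).1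
      · exact hFi h (Finset.mem_filter.mp h1).1) w
    (fun h hh => by
      rcases Finset.mem_union.mp hh with h1 | h1
      · exact ⟨1, by rw [(Finset.mem_filter.mp h1).2]; simp⟩
      · exact ⟨0, by rw [(Finset.mem_filter.mp h1).2]; simp⟩)
    (kkt F G hF hG w hwG hwF hmin)
  obtain ⟨N, hN, hNw⟩ := hrat
  refine ⟨(N : ℝ) * M⁻¹, mul_pos (by exact_mod_cast hN) hMi, ?_⟩
  rw [← smul_smul]
  exact hNw

omit [FiniteDimensional ℝ E] [IsZLattice ℝ L] in
/-- lattice points on a line through the origin form a cyclic group -/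
theorem exists_generator (u : E) (hu1 : ‖u‖ = 1) (s : ℝ) (hs : 0 < s) (hsu : s • u ∈ L) :
    ∃ t₀ : ℝ, 0 < t₀ ∧ t₀ • u ∈ L ∧ ∀ t : ℝ, t • u ∈ L → ∃ n : ℤ, t = n * t₀ := by
  have hu0 : u ≠ 0 := by
    rintro rfl
    rw [norm_zero] at hu1
    exact zero_ne_one hu1
  let Λ : AddSubgroup ℝ :=
    { carrier := {t | t • u ∈ L}
      zero_mem' := by simp
      add_mem' := fun {a b} ha hb => by
        show (a + b) • u ∈ L
        rw [add_smul]; exact L.add_mem ha hb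
      neg_mem' := fun {a} ha => by
        show (-a) • u ∈ L
        rw [neg_smul]; exact L.neg_mem ha }
  have hmemΛ : ∀ t, t ∈ Λ ↔ t • u ∈ L := fun t => Iff.rfl
  -- discreteness
  obtain ⟨ε, hε, hball⟩ : ∃ ε > 0, ∀ y : L, dist y (0 : L) < ε → y = 0 :=
    Metric.isOpen_singleton_iff.mp (isOpen_discrete ({0} : Set L))
  have hnd : ¬ Dense (Λ : Set ℝ) := by
    intro hd
    obtain ⟨t, htΛ, htI⟩ := hd.exists_mem_open isOpen_Ioo (Set.nonempty_Ioo.mpr hε)
    have h1 := hball ⟨t • u, htΛ⟩ (by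
      rw [Subtype.dist_eq]
      simp only [ZeroMemClass.coe_zero, dist_zero_right]
      rw [norm_smul, hu1, mul_one, Real.norm_eq_abs, abs_of_pos htI.1]
      exact htI.2)
    have h2 : t • u = 0 := congrArg Subtype.val h1
    rcases smul_eq_zero.mp h2 with h3 | h3
    · exact absurd h3 htI.1.ne'
    · exact hu0 h3
  obtain ⟨a, ha⟩ := (AddSubgroup.dense_or_cyclic Λ).resolve_left hnd
  have haΛ : a ∈ Λ := by rw [ha]; exact AddSubgroup.subset_closure rfl
  have hform : ∀ t ∈ Λ, ∃ n : ℤ, t = n * a := by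
    intro t ht
    rw [ha, ← AddSubgroup.zmultiples_eq_closure, AddSubgroup.mem_zmultiples_iff] at ht
    obtain ⟨n, hn⟩ := ht
    exact ⟨n, by rw [← hn, zsmul_eq_mul]⟩
  have ha0 : a ≠ 0 := by
    rintro rfl
    obtain ⟨n, hn⟩ := hform s hsu
    rw [mul_zero] at hn
    exact hs.ne' hn
  refine ⟨|a|, abs_pos.mpr ha0, ?_, ?_⟩
  · rcases abs_choice a with h | h
    · rw [h]; exact haΛ
    · rw [h]; exact Λ.neg_mem haΛ
  · intro t ht
    obtain ⟨n, hn⟩ := hform t ht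
    rcases abs_choice a with h | h
    · exact ⟨n, by rw [h, hn]⟩
    · exact ⟨-n, by rw [h, hn]; push_cast; ring⟩

theorem main (hint : ∀ x ∈ L, ∀ y ∈ L, ∃ n : ℤ, ⟪x, y⟫ = (n : ℝ))
    (hFi : ∀ f ∈ F, ∀ x ∈ L, ∃ n : ℤ, f x = (n : ℝ))
    (hGi : ∀ g ∈ G, ∀ x ∈ L, ∃ n : ℤ, g x = (n : ℝ))
    (hpos : ∃ v : E, 0 ≤ mn F hF v ∧ 0 < mn G hG v) :
    ∃ M : ℝ, IsGreatest ((fun v => mn G hG v / ‖v‖) ''
        {v : E | v ≠ 0 ∧ 0 ≤ mn F hF v}) M ∧
      ∃! v₀ : E, v₀ ∈ L ∧ v₀ ≠ 0 ∧ 0 ≤ mn F hF v₀ ∧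
        mn G hG v₀ / ‖v₀‖ = M ∧
        ∀ v ∈ L, v ≠ 0 → 0 ≤ mn F hF v → mn G hG v / ‖v‖ = M →
          ∃ n : ℤ, v = n • v₀ := by
  obtain ⟨u, hu1, huF, huG, hmax⟩ := exists_unit_max F G hF hG hpos
  have hu0 : u ≠ 0 := by
    rintro rfl
    rw [norm_zero] at hu1
    exact zero_ne_one hu1
  obtain ⟨s, hs, hsu⟩ := exists_lattice_on_ray L F G hF hG hint hFi hGi u hu1 huF huG hmax
  obtain ⟨t₀, ht0, ht0L, hgen⟩ := exists_generator L u hu1 s hs hsu
  set M := mn G hG u with hM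
  refine ⟨M, ⟨⟨u, ⟨hu0, huF⟩, by simp only []; rw [hu1, div_one]⟩, ?_⟩, ?_⟩
  · rintro _ ⟨v, ⟨hv0, hvF⟩, rfl⟩
    exact hmax v hv0 hvF
  -- key: lattice maximizers are integer multiples of t₀ • u
  have hv0props : t₀ • u ≠ 0 ∧ 0 ≤ mn F hF (t₀ • u) ∧ mn G hG (t₀ • u) / ‖t₀ • u‖ = M := by
    refine ⟨smul_ne_zero ht0.ne' hu0, ?_, ?_⟩
    · rw [mn_smul F hF ht0.le]; exact mul_nonneg ht0.le huF
    · rw [mn_smul G hG ht0.le, norm_smul, hu1, mul_one, Real.norm_eq_abs, abs_of_pos ht0]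
      field_simp
      exact hM.symm
  have huniv : ∀ v ∈ L, v ≠ 0 → 0 ≤ mn F hF v → mn G hG v / ‖v‖ = M →
      ∃ n : ℤ, v = n • (t₀ • u) := by
    intro v hvL hv0 hvF hvM
    have hn : 0 < ‖v‖ := norm_pos_iff.mpr hv0
    have hu' : ‖v‖⁻¹ • v = u := by
      apply unit_max_unique F G hF hG u hu1 huF huG hmax
      · rw [norm_smul, norm_inv, norm_norm, inv_mul_cancel₀ hn.ne']
      · rw [mn_smul F hF (inv_nonneg.mpr hn.le)]
        exact mul_nonneg (inv_nonneg.mpr hn.le) hvF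
      · rw [mn_smul G hG (inv_nonneg.mpr hn.le), ← div_eq_inv_mul, hvM]
    have hv : v = ‖v‖ • u := by
      rw [← hu', smul_smul, mul_inv_cancel₀ hn.ne', one_smul]
    obtain ⟨n, hn'⟩ := hgen ‖v‖ (by rw [← hv]; exact hvL)
    refine ⟨n, ?_⟩
    rw [← Int.cast_smul_eq_zsmul ℝ, smul_smul, ← hn', ← hv]
  refine ⟨t₀ • u, ⟨ht0L, hv0props.1, hv0props.2.1, hv0props.2.2, huniv⟩, ?_⟩
  rintro y ⟨hyL, hy0, hyF, hyM, hyuniv⟩
  obtain ⟨n, hn⟩ := huniv y hyL hy0 hyF hyM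
  obtain ⟨n', hn'⟩ := hyuniv (t₀ • u) ht0L hv0props.1 hv0props.2.1 hv0props.2.2
  have h1 : ((n' * n : ℤ) : ℝ) • (t₀ • u) = (1 : ℝ) • (t₀ • u) := by
    rw [one_smul, Int.cast_smul_eq_zsmul, mul_smul, ← hn, ← hn']
  have h2 : ((n' * n : ℤ) : ℝ) = 1 := smul_left_injective ℝ hv0props.1 h1
  have h3 : n' * n = 1 := by exact_mod_cast h2
  rcases Int.eq_one_or_neg_one_of_mul_eq_one' h3 with ⟨-, h4⟩ | ⟨-, h4⟩
  · rw [hn, h4, one_smul]
  · exfalso
    rw [h4, neg_one_smul] at hn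
    have h5 := mn_add_neg G hG (t₀ • u)
    rw [← hn] at h5
    have h6 : 0 < mn G hG (t₀ • u) := by
      rw [mn_smul G hG ht0.le]; exact mul_pos ht0 huG
    have h7 : 0 < mn G hG y := by
      have hny : 0 < ‖y‖ := norm_pos_iff.mpr hy0
      have : mn G hG y = M * ‖y‖ := by rw [← hyM, div_mul_cancel₀ _ hny.ne']
      rw [this]
      exact mul_pos huG hny
    linarith

end final

end Aux

/-- Let `E` be a finite-dimensional real inner product space and `L` a full lattice in `E` (a discrete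
subgroup spanning `E`) on which the inner product is integer valued; let `F` and `G` be nonempty
finite sets of real linear functionals on `E` taking integer values on `L`, with `f_min v = min_{f ∈
F} f v` and `g_min v = min_{g ∈ G} g v`. If some vector `v` has `f_min v ≥ 0` and `g_min v > 0`,
then on the set `C_F` of nonzero `v` with `f_min v ≥ 0` the function `v ↦ g_min v / ‖v‖` attains a
greatest value `M`, and there is exactly one lattice vector `v₀ ∈ C_F` with `g_min v₀ / ‖v₀‖ = M` of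
which every lattice vector `v ∈ C_F` with `g_min v / ‖v‖ = M` is an integer multiple. -/
theorem result
    (E : Type u) [NormedAddCommGroup E] [InnerProductSpace ℝ E] [FiniteDimensional ℝ E]
    (L : Submodule ℤ E) [DiscreteTopology L] [IsZLattice ℝ L]
    (hint : ∀ x ∈ L, ∀ y ∈ L, ∃ n : ℤ, inner ℝ x y = (n : ℝ))
    (F G : Finset (Module.Dual ℝ E)) (hF : F.Nonempty) (hG : G.Nonempty)
    (hFi : ∀ f ∈ F, ∀ x ∈ L, ∃ n : ℤ, f x = (n : ℝ)) (hGi : ∀ g ∈ G, ∀ x ∈ L, ∃ n : ℤ, g x = (n : ℝ))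
    (hpos : ∃ v : E, 0 ≤ F.inf' hF (fun f => f v) ∧ 0 < G.inf' hG (fun g => g v)) :
    ∃ M : ℝ, IsGreatest ((fun v => G.inf' hG (fun g => g v) / ‖v‖) ''
        {v : E | v ≠ 0 ∧ 0 ≤ F.inf' hF (fun f => f v)}) M ∧
      ∃! v₀ : E, v₀ ∈ L ∧ v₀ ≠ 0 ∧ 0 ≤ F.inf' hF (fun f => f v₀) ∧
        G.inf' hG (fun g => g v₀) / ‖v₀‖ = M ∧
        ∀ v ∈ L, v ≠ 0 → 0 ≤ F.inf' hF (fun f => f v) → G.inf' hG (fun g => g v) / ‖v‖ = M →
          ∃ n : ℤ, v = n • v₀ := by
  exact Aux.main L F G hF hG hint hFi hGi hpos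

end Groth.Agent.S17517
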