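import Groth.Statements.S17526
import Mathlib
import Groth.Agent.Lib.Helper9.Reynolds2

set_option autoImplicit false
universe u
open GLin

namespace Groth.Agent.S17526

/-- Let `k` be a field, `H` a commutative Hopf algebra of finite type over `k` which is linearly
reductive (every finite-dimensional comodule is semisimple; `G = Spec H` is a linearly reductive
affine group), and `A` a Noetherian commutative `k`-algebra with a coaction of `H` that is an
algebra map (an action of `G` on `Spec A`). Then the ring of invariants `A^G` is Noetherian. (The
published corollary is stated over an algebraically closed field; it is the affine case of a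
statement about good moduli spaces valid over any field, and is stated here over any field.) -/
theorem result
    (k : Type u) [Field k] (H : Type u) [CommRing H] [HopfAlgebra k H] [Algebra.FiniteType k H]
    (hG : HopfRep.IsLinearlyReductive k H)
    (A : Type u) [CommRing A] [Algebra k A] [IsNoetherianRing A]
    [HopfRep.Comod k H A] [GLin.IsCoactAlg k H A] :
    IsNoetherianRing ↥(GLin.invariants k H A) := by
  obtain ⟨E, hE₁, hE₂, hE₃⟩ := Groth.Agent.Helper9.exists_reynolds hG A
  have hEmem : ∀ a : A, E a ∈ GLin.invariants k H A :=
    fun a => (hE₃ (E a)).mp (LinearMap.congr_fun hE₂ a)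
  have hEfix : ∀ a ∈ GLin.invariants k H A, E a = a := fun a ha => (hE₃ a).mpr ha
  -- contraction of extension
  have key : ∀ J : Ideal ↥(GLin.invariants k H A),
      (J.map (algebraMap ↥(GLin.invariants k H A) A)).comap
        (algebraMap ↥(GLin.invariants k H A) A) = J := by
    intro J
    apply le_antisymm
    · intro y hy
      rw [Ideal.mem_comap] at hy
      have hall : ∀ z ∈ J.map (algebraMap ↥(GLin.invariants k H A) A),
          ∀ a : A, ∃ j ∈ J, (j : A) = E (a * z) := by
        intro z hz
        induction hz using Submodule.span_induction with
        | mem z hz =>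
          obtain ⟨j, hj, rfl⟩ := hz
          intro a
          refine ⟨j * ⟨E a, hEmem a⟩, J.mul_mem_right _ hj, ?_⟩
          have h1 : E (a * (j : A)) = (j : A) * E a := by
            rw [mul_comm a]
            exact Groth.Agent.Helper9.reynolds_mul hG E hE₁ hE₂ hE₃ (j : A) j.2 a
          show (j : A) * E a = E (a * (algebraMap ↥(GLin.invariants k H A) A j))
          rw [← h1]
          rfl
        | zero =>
          intro a
          exact ⟨0, J.zero_mem, by simp⟩
        | add z w _ _ hz hw =>
          intro a
          obtain ⟨j₁, hj₁, e₁⟩ := hz a
          obtain ⟨j₂, hj₂, e₂⟩ := hw a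
          refine ⟨j₁ + j₂, J.add_mem hj₁ hj₂, ?_⟩
          rw [mul_add, map_add, ← e₁, ← e₂]
          rfl
        | smul b z _ hz =>
          intro a
          obtain ⟨j, hj, e⟩ := hz (a * b)
          refine ⟨j, hj, ?_⟩
          rw [e, smul_eq_mul, mul_assoc]
      obtain ⟨j, hj, e⟩ := hall _ hy 1
      rw [one_mul] at e
      have e' : (j : A) = (y : A) := by
        rw [e]
        exact hEfix _ y.2
      have : j = y := Subtype.ext e'
      rw [← this]; exact hj
    · exact Ideal.le_comap_map
  rw [isNoetherianRing_iff, isNoetherian_iff']
  let f : Ideal ↥(GLin.invariants k H A) ↪o Ideal A :=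
    OrderEmbedding.ofMapLEIff (fun J => J.map (algebraMap ↥(GLin.invariants k H A) A)) (by
      intro J J'
      constructor
      · intro h
        rw [← key J, ← key J']
        exact Ideal.comap_mono h
      · intro h
        exact Ideal.map_mono h)
  haveI : WellFoundedGT (Ideal A) := (isNoetherian_iff' (R := A) (M := A)).mp inferInstance
  exact f.wellFoundedGT

end Groth.Agent.S17526
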