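import Groth.Statements.S17530
import Mathlib
import Groth.Agent.Lib.Helper9.Reynolds2

set_option autoImplicit false
universe u
open GLin

namespace Groth.Agent.S17530

/-- Let `k` be a field, `H` a commutative Hopf algebra of finite type over `k` which is linearly
reductive (every finite-dimensional comodule semisimple; `G = Spec H`), `A` a commutative
`k`-algebra of finite type with a coaction of `H` that is an algebra map (an action of `G` on `Spec
A`), and `M` a finitely generated `A`-module with an `H`-coaction compatible with the module
structure and with the coaction on `A` (a `G`-equivariant coherent module on `Spec A`). Then the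
invariants `M^G` form a finitely generated module over the ring of invariants `A^G`. (The published
corollary is stated over an algebraically closed field; it is the affine case of a statement about
good moduli spaces valid over any Noetherian base, and is stated here over any field.) -/
theorem result
    (k : Type u) [Field k] (H : Type u) [CommRing H] [HopfAlgebra k H] [Algebra.FiniteType k H]
    (hG : HopfRep.IsLinearlyReductive k H)
    (A : Type u) [CommRing A] [Algebra k A] [Algebra.FiniteType k A]
    [HopfRep.Comod k H A] [GLin.IsCoactAlg k H A]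
    (M : Type u) [AddCommGroup M] [Module k M] [Module A M] [IsScalarTower k A M] [Module.Finite A M]
    [HopfRep.Comod k H M] [TameAct.IsHopfMod k H A M] :
    ∃ s : Finset M, (↑s : Set M) ⊆ ↑(HopfRep.fixedPts k H M) ∧
      (↑(HopfRep.fixedPts k H M) : Set M) ⊆
        ↑(Submodule.span ↥(GLin.invariants k H A) (↑s : Set M)) := by
  classical
  obtain ⟨E, hE₁, hE₂, hE₃⟩ := Groth.Agent.Helper9.exists_reynolds hG A
  obtain ⟨EM, hEM₁, hEM₂, hEM₃⟩ := Groth.Agent.Helper9.exists_reynolds hG M
  have hEmem : ∀ a : A, E a ∈ GLin.invariants k H A :=
    fun a => (hE₃ (E a)).mp (LinearMap.congr_fun hE₂ a)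
  haveI : IsNoetherianRing A := Algebra.FiniteType.isNoetherianRing k A
  haveI : IsNoetherian A M := isNoetherian_of_isNoetherianRing_of_finite A M
  have hfg : (Submodule.span A ((HopfRep.fixedPts k H M : Submodule k M) : Set M)).FG :=
    IsNoetherian.noetherian _
  obtain ⟨s, hs, hspan⟩ := (Submodule.fg_span_iff_fg_span_finset_subset _).mp hfg
  refine ⟨s, hs, ?_⟩
  intro m hm
  have hm' : m ∈ Submodule.span A (s : Set M) := by
    rw [← hspan]
    exact Submodule.subset_span hm
  obtain ⟨f, -, hf⟩ := Submodule.mem_span_finset.mp hm'
  have h1 : EM m = m := (hEM₃ m).mpr hm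
  rw [SetLike.mem_coe, ← h1, ← hf, map_sum]
  apply Submodule.sum_mem
  intro x hx
  have hxfix : x ∈ HopfRep.fixedPts k H M := hs hx
  rw [Groth.Agent.Helper9.reynolds_smul hG E hE₁ hE₂ hE₃ EM hEM₁ hEM₂ hEM₃ x hxfix]
  have h2 : E (f x) • x = (⟨E (f x), hEmem (f x)⟩ : ↥(GLin.invariants k H A)) • x := rfl
  rw [h2]
  exact Submodule.smul_mem _ _ (Submodule.subset_span hx)

end Groth.Agent.S17530
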