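import Groth.Statements.S17537
-- import your own Groth.Agent.* helpers here

set_option autoImplicit false
universe u v
open CAlg

namespace Groth.Agent.S17537

/-- For a commutative ring A, an ideal I and an A-module M, the I-adic completion M^ of M is itself
I-adically complete if and only if, for every n, every element of M^ is congruent modulo I^n M^ to
the image of an element of M (the maps M/I^n M → M^/I^n M^ are surjective). -/
theorem result {A : Type u} [CommRing A] (I : Ideal A)
    (M : Type v) [AddCommGroup M] [Module A M] :
    IsAdicComplete I (AdicCompletion I M) ↔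
      ∀ (n : ℕ) (x : AdicCompletion I M), ∃ y : M,
        x - AdicCompletion.of I M y ∈ (I ^ n • ⊤ : Submodule A (AdicCompletion I M)) := by
  have hof : ∀ (n : ℕ) (y : M), y ∈ (I ^ n • ⊤ : Submodule A M) →
      AdicCompletion.of I M y ∈ (I ^ n • ⊤ : Submodule A (AdicCompletion I M)) := by
    intro n y hy
    have : AdicCompletion.of I M y ∈
        Submodule.map (AdicCompletion.of I M) (I ^ n • ⊤ : Submodule A M) := ⟨y, hy, rfl⟩
    rw [Submodule.map_smul''] at this
    exact (smul_mono_right _ le_top : (I ^ n • _ : Submodule A (AdicCompletion I M)) ≤ _) this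
  have hker : ∀ n, (I ^ n • ⊤ : Submodule A (AdicCompletion I M)) ≤
      LinearMap.ker (AdicCompletion.eval I M n) :=
    fun n => AdicCompletion.pow_smul_top_le_ker_eval (I := I) (M := M) n
  constructor
  · intro hc n x
    have hK : LinearMap.ker (AdicCompletion.eval I M n) ≤
        (I ^ n • ⊤ : Submodule A (AdicCompletion I M)) := by
      intro z hz
      obtain ⟨b, rfl⟩ := AdicCompletion.mk_surjective I M z
      have hbn : b n ∈ (I ^ n • ⊤ : Submodule A M) := by
        have : Submodule.Quotient.mk (p := (I ^ n • ⊤ : Submodule A M)) (b n) = 0 := hz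
        exact (Submodule.Quotient.mk_eq_zero _).mp this
      have hcau : ∀ {m k : ℕ}, m ≤ k → AdicCompletion.of I M (b m) ≡ AdicCompletion.of I M (b k)
          [SMOD (I ^ m • ⊤ : Submodule A (AdicCompletion I M))] := by
        intro m k hmk
        rw [SModEq.sub_mem, ← map_sub]
        apply hof
        rw [← SModEq.sub_mem]
        exact b.property hmk
      obtain ⟨L, hL⟩ := hc.toIsPrecomplete.prec hcau
      have hLz : L = AdicCompletion.mk I M b := by
        refine AdicCompletion.ext fun k => ?_
        have h1 := hker k ((SModEq.sub_mem).mp (hL k))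
        rw [LinearMap.mem_ker, map_sub, sub_eq_zero] at h1
        exact h1.symm
      have h2 := (SModEq.sub_mem).mp (hL n)
      rw [hLz] at h2
      have h3 := Submodule.sub_mem _ (hof n _ hbn) h2
      simpa using h3
    obtain ⟨y, hy⟩ := Submodule.Quotient.mk_surjective _ (x.val n)
    refine ⟨y, hK ?_⟩
    rw [LinearMap.mem_ker, map_sub, sub_eq_zero]
    exact hy.symm
  · intro H
    have hK : ∀ n, LinearMap.ker (AdicCompletion.eval I M n) ≤
        (I ^ n • ⊤ : Submodule A (AdicCompletion I M)) := by
      intro n z hz
      obtain ⟨y, hy⟩ := H n z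
      have h1 := hker n hy
      rw [LinearMap.mem_ker, map_sub, LinearMap.mem_ker.mp hz, zero_sub, neg_eq_zero] at h1
      have h2 : y ∈ (I ^ n • ⊤ : Submodule A M) :=
        (Submodule.Quotient.mk_eq_zero _).mp h1
      have := Submodule.add_mem _ hy (hof n y h2)
      simpa using this
    refine { toIsHausdorff := inferInstance, toIsPrecomplete := ⟨fun f hf => ?_⟩ }
    have hfk : ∀ {m n : ℕ}, m ≤ n → (f n).val m = (f m).val m := by
      intro m n hmn
      have h1 := hker m ((SModEq.sub_mem).mp (hf hmn))
      rw [LinearMap.mem_ker, map_sub, sub_eq_zero] at h1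
      exact h1.symm
    refine ⟨⟨fun n => (f n).val n, ?_⟩, fun n => ?_⟩
    · intro m n hmn
      show AdicCompletion.transitionMap I M hmn ((f n).val n) = (f m).val m
      rw [(f n).property hmn]
      exact hfk hmn
    · rw [SModEq.sub_mem]
      apply hK
      rw [LinearMap.mem_ker, map_sub, sub_eq_zero]
      rfl

end Groth.Agent.S17537
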