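import Groth.Statements.S1757
import Mathlib
import Groth.Agent.Lib.Helper8.Indep

set_option autoImplicit false
universe u
open LocCoh

namespace Groth.Agent.S1757

/-- Let A be a local ring whose maximal ideal is generated by x_1, …, x_r, and let e_1, …, e_r be
positive integers such that x_1^{e_1}, …, x_r^{e_r} are independent. Then the length of
A/(x_1^{e_1}, …, x_r^{e_r}) equals the product e_1 ⋯ e_r. -/
theorem result (A : Type u) [CommRing A] [IsLocalRing A] (r : ℕ) (x : Fin r → A) (hx : Ideal.span (Set.range x) = IsLocalRing.maximalIdeal A) (e : Fin r → ℕ) (he : ∀ i, 0 < e i) (hind : Dual2.Independent (fun i => x i ^ e i)) : Module.length A (A ⧸ Ideal.span (Set.range (fun i => x i ^ e i))) = ∏ i, (e i : ℕ∞) := by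
  classical
  have key : ∀ n : ℕ, ∀ e : Fin r → ℕ, ∑ i, e i = n → (∀ i, 0 < e i) →
      Dual2.Independent (fun i => x i ^ e i) →
      Module.length A (A ⧸ Ideal.span (Set.range (fun i => x i ^ e i))) =
        ((∏ i, e i : ℕ) : ℕ∞) := by
    intro n
    induction n using Nat.strong_induction_on with
    | _ n ih =>
    intro e hn he hind
    by_cases hall : ∀ i, e i = 1
    · have h1 : (fun i => x i ^ e i) = x := by
        funext i
        rw [hall i, pow_one]
      rw [h1, hx]
      have h2 : ∏ i, e i = 1 := Finset.prod_eq_one fun i _ => hall i
      rw [h2, Nat.cast_one, Module.length_eq_one_iff]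
      exact (isSimpleModule_iff_isCoatom).mpr (Ideal.isMaximal_def.mp inferInstance)
    · push_neg at hall
      obtain ⟨j, hj⟩ := hall
      have hj2 : 2 ≤ e j := by have := he j; omega
      -- the two smaller exponent vectors
      have hf : Function.update (fun i => x i ^ e i) j (x j ^ (e j - 1)) =
          fun i => x i ^ (Function.update e j (e j - 1)) i := by
        funext i
        by_cases hij : i = j
        · subst hij
          rw [Function.update_self, Function.update_self]
        · rw [Function.update_of_ne hij, Function.update_of_ne hij]
      have hg : Function.update (Function.update (fun i => x i ^ e i) j (x j ^ (e j - 1))) j (x j) =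
          fun i => x i ^ (Function.update e j 1) i := by
        funext i
        by_cases hij : i = j
        · subst hij
          rw [Function.update_self, Function.update_self, pow_one]
        · rw [Function.update_of_ne hij, Function.update_of_ne hij, Function.update_of_ne hij]
      have hfg : Function.update (Function.update (fun i => x i ^ e i) j (x j ^ (e j - 1))) j
          ((Function.update (fun i => x i ^ e i) j (x j ^ (e j - 1))) j * x j) =
          fun i => x i ^ e i := by
        funext i
        by_cases hij : i = j
        · subst hij
          rw [Function.update_self, Function.update_self, ← pow_succ]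
          congr 1
          omega
        · rw [Function.update_of_ne hij, Function.update_of_ne hij]
      have hind' : Dual2.Independent
          (Function.update (Function.update (fun i => x i ^ e i) j (x j ^ (e j - 1))) j
          ((Function.update (fun i => x i ^ e i) j (x j ^ (e j - 1))) j * x j)) := by
        rw [hfg]; exact hind
      have hlen := Groth.Agent.Helper8.length_update_mul _ j (x j) hind'
      have hi1 := Groth.Agent.Helper8.indep_of_update_mul _ j (x j) hind'
      have hi2 := Groth.Agent.Helper8.indep_of_update_mul' _ j (x j) hind'
      rw [hfg, hg, hf] at hlen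
      rw [hf] at hi1
      rw [hg] at hi2
      have hsum : ∑ i, e i = e j + ∑ i ∈ Finset.univ \ {j}, e i :=
        Finset.sum_eq_add_sum_sdiff_singleton_of_mem (Finset.mem_univ j) _
      have hs1 : ∑ i, Function.update e j (e j - 1) i = (e j - 1) + ∑ i ∈ Finset.univ \ {j}, e i :=
        Finset.sum_update_of_mem (Finset.mem_univ j) _ _
      have hs2 : ∑ i, Function.update e j 1 i = 1 + ∑ i ∈ Finset.univ \ {j}, e i :=
        Finset.sum_update_of_mem (Finset.mem_univ j) _ _
      have hprod : ∏ i, e i = e j * ∏ i ∈ Finset.univ \ {j}, e i :=
        Finset.prod_eq_mul_prod_sdiff_singleton_of_mem (Finset.mem_univ j) _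
      have hp1 : ∏ i, Function.update e j (e j - 1) i = (e j - 1) * ∏ i ∈ Finset.univ \ {j}, e i :=
        Finset.prod_update_of_mem (Finset.mem_univ j) _ _
      have hp2 : ∏ i, Function.update e j 1 i = 1 * ∏ i ∈ Finset.univ \ {j}, e i :=
        Finset.prod_update_of_mem (Finset.mem_univ j) _ _
      have he1 : ∀ i, 0 < Function.update e j (e j - 1) i := by
        intro i
        by_cases hij : i = j
        · subst hij
          rw [Function.update_self]; omega
        · rw [Function.update_of_ne hij]; exact he i
      have he2 : ∀ i, 0 < Function.update e j 1 i := by
        intro i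
        by_cases hij : i = j
        · subst hij
          rw [Function.update_self]; omega
        · rw [Function.update_of_ne hij]; exact he i
      have ih1 := ih _ (by omega) (Function.update e j (e j - 1)) rfl he1 hi1
      have ih2 := ih _ (by omega) (Function.update e j 1) rfl he2 hi2
      rw [hlen, ih1, ih2, hp1, hp2, hprod, ← Nat.cast_add]
      congr 1
      obtain ⟨m, hm⟩ : ∃ m, e j = m + 1 := ⟨e j - 1, by omega⟩
      rw [hm]
      simp only [Nat.add_sub_cancel]
      ring
  rw [key _ e rfl he hind, Nat.cast_prod]

end Groth.Agent.S1757
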