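import Groth.Statements.S17588
import Mathlib
import Groth.Agent.Lib.Helper1.Siu4

set_option autoImplicit false
open CategoryTheory CategoryTheory.Limits AlgebraicGeometry
open PosLin

namespace Groth.Agent.S17588

/-- Let X be a projective variety over the complex numbers (an integral scheme, proper over ℂ, with an
ample invertible module) of dimension n, L an invertible O_X-module which is numerically effective
(its restriction to every integral one-dimensional closed subscheme has non-negative degree), and
L⁻¹ a tensor inverse of L. Then L is big, bigness being expressed through the equivalent growth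
condition dim_ℂ H^0(X, L^⊗m) ≥ C·m^n for some constant C > 0 and all sufficiently large m, if and
only if the self-intersection number (L^n) = ∫ c_1(L)^n · [O_X] (the alternating sum of Euler
characteristics attached to n copies of L⁻¹) is positive. -/
theorem result (X : Scheme.{0}) [X.Over (Spec (CommRingCat.of ℂ))] [IsIntegral X]
    [IsProper (X ↘ Spec (CommRingCat.of ℂ))] (H : X.Modules) (hH : CohB1.IsAmple H)
    (n : ℕ) (hn : topologicalKrullDim X = n)
    (L Linv : X.Modules) (hL : PicF.IsInvertible L) (hLinv : ClSub.IsInverseOf Linv L)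
    (hnef : ∀ (Z : Scheme.{0}) (i : Z ⟶ X) [IsClosedImmersion i], IsIntegral Z → topologicalKrullDim Z = 1 →
      0 ≤ Pic13.curveDeg ℂ (i ≫ (X ↘ Spec (CommRingCat.of ℂ))) ((Scheme.Modules.pullback i).obj L)) :
    (∃ C : ℝ, 0 < C ∧ ∃ m₁ : ℕ, ∀ m : ℕ, m₁ ≤ m →
        C * (m : ℝ) ^ n ≤ (Module.finrank ℂ (Coh.HH X (CohB1.tensorPow L m) 0) : ℝ)) ↔
      0 < FGA.intNum ℂ X n (fun _ : Fin n => Linv) (Coh.structureModule X) := by
  rw [← Groth.Agent.Helper1.Siu.nef_big_iff ℂ X n hn H hH L Linv hL hLinv hnef]
  constructor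
  · intro hg
    obtain ⟨m, φ, hm, hφ⟩ := (Groth.Agent.Helper1.Big.big_iff_growth ℂ X H hH n hn L hL).2 hg H hH
    exact ⟨m, H, φ, hm, hH, hφ⟩
  · rintro ⟨ν, A, φ, hν, hA, hφ⟩
    haveI := hφ
    obtain ⟨a, m₁, ha, hgr⟩ :=
      Groth.Agent.Helper1.Big.growth_all_of_mono_ample ℂ X n hn A hA L hL ν hν φ
    exact ⟨1 / (a : ℝ), one_div_pos.2 (by exact_mod_cast ha), m₁, fun m hm =>
      Groth.Agent.Helper1.Big.real_of_nat_growth ha (hgr m hm)⟩

end Groth.Agent.S17588
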