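import Groth.Statements.S17604
-- import your own Groth.Agent.* helpers here
import Mathlib
import Groth.Agent.Lib.Helper7.Hens.Abstract
import Groth.Agent.Lib.Helper7.Hensel.RankOne
import Groth.Agent.Lib.Helper7.Hensel.EtaleLift
import Groth.Agent.Lib.Helper7.Hensel.Local

set_option autoImplicit false
universe u
open Hensel

namespace Groth.Agent.S17604

/-- Let (A, I) be a Henselian pair, R and R' étale A-algebras, and B, B' Henselizations of the pairs (R,
IR), (R', IR') with their induced A-algebra structures (so B and B' are h-étale over A). Then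
reduction modulo I is a bijection from A-algebra maps B → B' to A-algebra maps B/IB → B'/IB': two
A-algebra maps B → B' that agree modulo IB' are equal, and every A-algebra map B/IB → B'/IB' is
induced by an A-algebra map B → B'. -/
theorem result (A : Type u) [CommRing A]
    (I : Ideal A) [HenselianRing A I]
    (R : Type u) [CommRing R] [Algebra A R] [Algebra.Etale A R]
    (B : Type u) [CommRing B] [Algebra R B] [Algebra A B] [IsScalarTower A R B]
    (hB : Hens2.IsPairHenselization R (I.map (algebraMap A R)) B)
    (R' : Type u) [CommRing R'] [Algebra A R'] [Algebra.Etale A R']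
    (B' : Type u) [CommRing B'] [Algebra R' B'] [Algebra A B'] [IsScalarTower A R' B']
    (hB' : Hens2.IsPairHenselization R' (I.map (algebraMap A R')) B') :
    (∀ φ ψ : B →ₐ[A] B', (∀ b : B, φ b - ψ b ∈ I.map (algebraMap A B')) → φ = ψ) ∧
    ∀ χ : (B ⧸ I.map (algebraMap A B)) →ₐ[A] (B' ⧸ I.map (algebraMap A B')),
      ∃ φ : B →ₐ[A] B', ∀ b : B,
        Ideal.Quotient.mk (I.map (algebraMap A B')) (φ b) = χ (Ideal.Quotient.mk (I.map (algebraMap A B)) b) := by
  have hmapB : (I.map (algebraMap A R)).map (algebraMap R B) = I.map (algebraMap A B) := by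
    rw [Ideal.map_map, ← IsScalarTower.algebraMap_eq]
  have hmapB' : (I.map (algebraMap A R')).map (algebraMap R' B') = I.map (algebraMap A B') := by
    rw [Ideal.map_map, ← IsScalarTower.algebraMap_eq]
  have hHB' : HenselianRing B' (I.map (algebraMap A B')) := hmapB' ▸ hB'.1
  have hG' : Groth.Agent.Helper7.Hensel.Gabber B' (I.map (algebraMap A B')) :=
    Groth.Agent.Helper7.Hensel.Gabber.of_henselianRing hHB'
  have hIle : ∀ f : R →ₐ[A] B', (I.map (algebraMap A R)).map f.toRingHom ≤
      I.map (algebraMap A B') := by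
    intro f
    rw [Ideal.map_map]
    have : f.toRingHom.comp (algebraMap A R) = algebraMap A B' := by
      ext a
      simp
    rw [this]
  constructor
  · intro φ ψ h
    have h1 : φ.comp (IsScalarTower.toAlgHom A R B) = ψ.comp (IsScalarTower.toAlgHom A R B) := by
      apply Groth.Agent.Helper7.Hensel.algHom_eq_of_formallyUnramified (I.map (algebraMap A B')) hG'.1
      intro x
      exact h _
    obtain ⟨g, -, hguniq⟩ := hB.2 B' (I.map (algebraMap A B'))
      (φ.comp (IsScalarTower.toAlgHom A R B)).toRingHom hHB' (hIle _)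
    have h2 : φ.toRingHom = g := hguniq _ (by ext r; simp)
    have h3 : ψ.toRingHom = g := hguniq _ (by
      ext r
      have := AlgHom.congr_fun h1 r
      simpa using this.symm)
    apply AlgHom.coe_ringHom_injective
    exact h2.trans h3.symm
  · intro χ
    let π : R →ₐ[A] (B ⧸ I.map (algebraMap A B)) :=
      (Ideal.Quotient.mkₐ A (I.map (algebraMap A B))).comp (IsScalarTower.toAlgHom A R B)
    let s₀ : R →ₐ[A] (B' ⧸ I.map (algebraMap A B')) := χ.comp π
    let σ : TensorProduct A B' R →ₐ[B'] B' ⧸ I.map (algebraMap A B') :=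
      Algebra.TensorProduct.lift (Algebra.ofId B' (B' ⧸ I.map (algebraMap A B'))) s₀
        (fun _ _ => Commute.all _ _)
    obtain ⟨τ', hτ'⟩ := hG'.exists_lift_of_etale (TensorProduct A B' R) σ
    let τ : R →ₐ[A] B' := (τ'.restrictScalars A).comp Algebra.TensorProduct.includeRight
    have hτ : ∀ r : R, Ideal.Quotient.mk (I.map (algebraMap A B')) (τ r) = s₀ r := by
      intro r
      have := AlgHom.congr_fun hτ' (1 ⊗ₜ r)
      simp only [AlgHom.comp_apply, Ideal.Quotient.mkₐ_eq_mk, σ, Algebra.TensorProduct.lift_tmul,
        map_one, one_mul] at this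
      exact this
    obtain ⟨g, hg, -⟩ := hB.2 B' (I.map (algebraMap A B')) τ.toRingHom hHB' (hIle _)
    have hgr : ∀ r : R, g (algebraMap R B r) = τ r := fun r => RingHom.congr_fun hg r
    let φ : B →ₐ[A] B' :=
      { g with
        commutes' := by
          intro a
          show g (algebraMap A B a) = algebraMap A B' a
          rw [IsScalarTower.algebraMap_apply A R B, hgr, AlgHom.commutes] }
    have hφg : ∀ b, φ b = g b := fun b => rfl
    refine ⟨φ, fun b => ?_⟩
    obtain ⟨x, hx⟩ := (Groth.Agent.Helper7.Hens.quotient_bijective_of_isPairHenselization hB).2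
      (Ideal.Quotient.mk _ b)
    obtain ⟨r, rfl⟩ := Ideal.Quotient.mk_surjective x
    rw [Ideal.quotientMap_mk, Ideal.Quotient.eq, hmapB] at hx
    have h1 : φ (algebraMap R B r - b) ∈ I.map (algebraMap A B') :=
      Groth.Agent.Helper7.Hens.algHom_mem_map φ hx
    have h2 : Ideal.Quotient.mk (I.map (algebraMap A B')) (φ b) =
        Ideal.Quotient.mk (I.map (algebraMap A B')) (φ (algebraMap R B r)) := by
      rw [Ideal.Quotient.eq, ← map_sub]
      have := Ideal.neg_mem_iff _ |>.mpr h1
      rwa [← map_neg, neg_sub] at this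
    have h3 : Ideal.Quotient.mk (I.map (algebraMap A B)) b =
        Ideal.Quotient.mk (I.map (algebraMap A B)) (algebraMap R B r) := by
      rw [Ideal.Quotient.eq]
      have := Ideal.neg_mem_iff _ |>.mpr hx
      rwa [neg_sub] at this
    rw [h2, h3, hφg, hgr, hτ]
    rfl

end Groth.Agent.S17604
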