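import Groth.Statements.S17605
-- import your own Groth.Agent.* helpers here
import Mathlib

set_option autoImplicit false
universe u
open Hensel

namespace Groth.Agent.S17605

/-- Let A be a ring with an ideal I and let f₁, f₂ be elements of A such that D(f₂) ∩ V(I) ⊆ D(f₁) ∩
V(I) in Spec A. If H₁ is a Henselization of the pair (A_{f₁}, IA_{f₁}) and H₂ a Henselization of the
pair (A_{f₂}, IA_{f₂}), with their induced A-algebra structures, then there is exactly one A-algebra
map H₁ → H₂. -/
theorem result (A : Type u) [CommRing A]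
    (I : Ideal A) (f₁ f₂ : A)
    (h : (PrimeSpectrum.basicOpen f₂ : Set (PrimeSpectrum A)) ∩ PrimeSpectrum.zeroLocus (I : Set A) ⊆
      (PrimeSpectrum.basicOpen f₁ : Set (PrimeSpectrum A)) ∩ PrimeSpectrum.zeroLocus (I : Set A))
    (H₁ : Type u) [CommRing H₁] [Algebra (Localization.Away f₁) H₁] [Algebra A H₁]
    [IsScalarTower A (Localization.Away f₁) H₁]
    (hH₁ : Hens2.IsPairHenselization (Localization.Away f₁)
      (I.map (algebraMap A (Localization.Away f₁))) H₁)
    (H₂ : Type u) [CommRing H₂] [Algebra (Localization.Away f₂) H₂] [Algebra A H₂]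
    [IsScalarTower A (Localization.Away f₂) H₂]
    (hH₂ : Hens2.IsPairHenselization (Localization.Away f₂)
      (I.map (algebraMap A (Localization.Away f₂))) H₂) :
    Nonempty (H₁ →ₐ[A] H₂) ∧ Subsingleton (H₁ →ₐ[A] H₂) := by
  classical
  set J₂ : Ideal H₂ := (I.map (algebraMap A (Localization.Away f₂))).map
    (algebraMap (Localization.Away f₂) H₂) with hJ₂
  have hJ₂eq : J₂ = I.map (algebraMap A H₂) := by
    rw [hJ₂, Ideal.map_map, ← IsScalarTower.algebraMap_eq]
  have hjac : J₂ ≤ Ideal.jacobson ⊥ := hH₂.1.jac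
  -- `f₁` becomes a unit in `H₂`
  have hunit : IsUnit (algebraMap A H₂ f₁) := by
    by_contra hnu
    obtain ⟨M, hM, hxM⟩ := exists_max_ideal_of_mem_nonunits hnu
    have hJM : J₂ ≤ M := hjac.trans (by
      rw [Ideal.jacobson_bot]
      exact Ring.jacobson_le_of_isMaximal M)
    let P : PrimeSpectrum A := ⟨M.comap (algebraMap A H₂), Ideal.comap_isPrime _ _⟩
    have hP2 : P ∈ (PrimeSpectrum.basicOpen f₂ : Set (PrimeSpectrum A)) := by
      change f₂ ∉ M.comap (algebraMap A H₂)
      intro hf
      rw [Ideal.mem_comap, IsScalarTower.algebraMap_apply A (Localization.Away f₂) H₂] at hf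
      have hu : IsUnit (algebraMap (Localization.Away f₂) H₂
          (algebraMap A (Localization.Away f₂) f₂)) :=
        (IsLocalization.Away.algebraMap_isUnit f₂).map _
      exact hM.ne_top (Ideal.eq_top_of_isUnit_mem _ hf hu)
    have hPI : P ∈ PrimeSpectrum.zeroLocus (I : Set A) := by
      intro a ha
      change a ∈ M.comap (algebraMap A H₂)
      rw [Ideal.mem_comap]
      apply hJM
      rw [hJ₂eq]
      exact Ideal.mem_map_of_mem _ ha
    have hP1 := (h ⟨hP2, hPI⟩).1
    exact hP1 hxM
  let ℓ : Localization.Away f₁ →+* H₂ := IsLocalization.Away.lift f₁ hunit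
  have hℓ : ∀ a : A, ℓ (algebraMap A (Localization.Away f₁) a) = algebraMap A H₂ a :=
    fun a => IsLocalization.Away.lift_eq f₁ hunit a
  have hcond : (I.map (algebraMap A (Localization.Away f₁))).map ℓ ≤ J₂ := by
    rw [Ideal.map_map, hJ₂eq]
    have : ℓ.comp (algebraMap A (Localization.Away f₁)) = algebraMap A H₂ := RingHom.ext hℓ
    rw [this]
  obtain ⟨g, hg, hguniq⟩ := hH₁.2 H₂ J₂ ℓ hH₂.1 hcond
  have hgA : ∀ a : A, g (algebraMap A H₁ a) = algebraMap A H₂ a := by
    intro a
    rw [IsScalarTower.algebraMap_apply A (Localization.Away f₁) H₁, ← hℓ]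
    exact RingHom.congr_fun hg _
  have key : ∀ φ : H₁ →ₐ[A] H₂, (φ : H₁ →+* H₂) = g := by
    intro φ
    apply hguniq
    apply IsLocalization.ringHom_ext (Submonoid.powers f₁)
    ext a
    change φ (algebraMap (Localization.Away f₁) H₁ (algebraMap A (Localization.Away f₁) a)) =
      ℓ (algebraMap A (Localization.Away f₁) a)
    rw [← IsScalarTower.algebraMap_apply A (Localization.Away f₁) H₁, φ.commutes, hℓ]
  refine ⟨⟨{ g with commutes' := hgA }⟩, ⟨fun φ ψ => ?_⟩⟩
  have h1 := key φ
  have h2 := key ψ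
  ext x
  have := RingHom.congr_fun (h1.trans h2.symm) x
  exact this

end Groth.Agent.S17605
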