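import Groth.Statements.S17608
-- import your own Groth.Agent.* helpers here
import Mathlib
import Groth.Agent.Lib.Helper7.Hens.FinPresComp

set_option autoImplicit false
universe u
open Hensel

namespace Groth.Agent.S17608

/-- Let (A, I) be a Henselian pair, let B be a Henselization of the pair (R, IR) for a finitely
presented A-algebra R, and let C be a Henselization of the pair (S, IS) for a finitely presented
B-algebra S, all algebra structures being compatible (so A → B and B → C are Henselian finitely
presented maps of Henselian pairs). Then the composite A → C is Henselian finitely presented: there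
are a finitely presented A-algebra T and a T-algebra structure on C compatible with that of A for
which C is a Henselization of the pair (T, IT). -/
theorem result (A : Type u) [CommRing A] (I : Ideal A) [HenselianRing A I]
    (R : Type u) [CommRing R] [Algebra A R] [Algebra.FinitePresentation A R]
    (B : Type u) [CommRing B] [Algebra R B] [Algebra A B] [IsScalarTower A R B]
    (hB : Hens2.IsPairHenselization R (I.map (algebraMap A R)) B)
    (S : Type u) [CommRing S] [Algebra B S] [Algebra A S] [IsScalarTower A B S] [Algebra.FinitePresentation B S]
    (C : Type u) [CommRing C] [Algebra S C] [Algebra B C] [Algebra A C] [IsScalarTower B S C]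
    [IsScalarTower A B C]
    (hC : Hens2.IsPairHenselization S (I.map (algebraMap A S)) C) :
    ∃ (T : Type u) (_ : CommRing T) (_ : Algebra A T) (_ : Algebra T C) (_ : IsScalarTower A T C),
      Algebra.FinitePresentation A T ∧ Hens2.IsPairHenselization T (I.map (algebraMap A T)) C := by
  let _ : Algebra R S := ((algebraMap B S).comp (algebraMap R B)).toAlgebra
  have hRBS : IsScalarTower R B S := IsScalarTower.of_algebraMap_eq (fun _ => rfl)
  let _ : Algebra R C := ((algebraMap S C).comp (algebraMap R S)).toAlgebra
  have hRSC : IsScalarTower R S C := IsScalarTower.of_algebraMap_eq (fun _ => rfl)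
  have hARS : ∀ a : A, algebraMap A S a = algebraMap R S (algebraMap A R a) := by
    intro a
    rw [IsScalarTower.algebraMap_apply A B S, IsScalarTower.algebraMap_apply A R B]
    rfl
  have hI : (I.map (algebraMap A R)).map (algebraMap R S) = I.map (algebraMap A S) := by
    rw [Ideal.map_map]
    congr 1
    ext a
    exact (hARS a).symm
  have hC' : Hens2.IsPairHenselization S ((I.map (algebraMap A R)).map (algebraMap R S)) C := by
    rw [hI]; exact hC
  obtain ⟨T, _, _, _, hRTC, hfp, hT⟩ :=
    Groth.Agent.Helper7.Hens.exists_finitePresentation_comp hB S C hC'
  let _ : Algebra A T := ((algebraMap R T).comp (algebraMap A R)).toAlgebra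
  have hART : IsScalarTower A R T := IsScalarTower.of_algebraMap_eq (fun _ => rfl)
  have hfpT : Algebra.FinitePresentation A T := Algebra.FinitePresentation.trans A R T
  have hATC : IsScalarTower A T C := by
    refine IsScalarTower.of_algebraMap_eq (R := A) (S := T) (A := C) (fun a => ?_)
    have e1 : algebraMap A T a = algebraMap R T (algebraMap A R a) := rfl
    rw [e1, ← IsScalarTower.algebraMap_apply R T C]
    have e2 : algebraMap R C (algebraMap A R a) =
        algebraMap S C (algebraMap R S (algebraMap A R a)) := rfl
    rw [e2, ← hARS, IsScalarTower.algebraMap_apply A B C, IsScalarTower.algebraMap_apply B S C,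
      ← IsScalarTower.algebraMap_apply A B S]
  refine ⟨T, inferInstance, inferInstance, inferInstance, hATC, hfpT, ?_⟩
  have hI2 : (I.map (algebraMap A R)).map (algebraMap R T) = I.map (algebraMap A T) := by
    rw [Ideal.map_map]
    rfl
  rw [hI2] at hT
  exact hT

end Groth.Agent.S17608
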