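import Groth.Statements.S17614
import Mathlib
import Groth.Prelude.Def_EtBase
import Groth.Prelude.Def_EtZar
import Groth.Agent.S0670
import Groth.Agent.S14452
import Groth.Agent.S0623
-- import your own Groth.Agent.* helpers here

set_option autoImplicit false
open CategoryTheory CategoryTheory.Limits AlgebraicGeometry Opposite
universe u
open EtZar

namespace Groth.Agent.S17614

open CategoryTheory CategoryTheory.Limits AlgebraicGeometry Opposite
open EtZar
open CategoryTheory CategoryTheory.Limits AlgebraicGeometry Opposite Abelian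
namespace Aux
set_option linter.style.haveILetI false
set_option linter.unusedSectionVars false
set_option backward.isDefEq.respectTransparency false

open TopologicalSpace
open Groth.Agent.S0670.Aux (L adj lexL)

variable (S : Scheme.{u}) [EtZar.ZarCont S]

/-- the Zariski constant sheaf `ℤ` -/
noncomputable abbrev ZZ : EtZar.Ab S :=
  (constantSheaf (Opens.grothendieckTopology S) AddCommGrpCat.{u + 1}).obj
    (AddCommGrpCat.of (ULift ℤ))

/-- restriction to the Zariski site preserves injectives -/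
instance presInj : (EtZar.resZar S).PreservesInjectiveObjects :=
  Functor.preservesInjectiveObjects_of_adjunction_of_preservesMonomorphisms (adj S)

/-- morphisms out of the constant sheaf lift along maps which are surjective on global sections -/
lemma hZ {A B : EtZar.Ab S} (g : A ⟶ B)
    (hs : Function.Surjective (g.hom.app (op (⊤ : S.Opens))).hom) (ψ : ZZ S ⟶ B) :
    ∃ ψ' : ZZ S ⟶ A, ψ' ≫ g = ψ := by
  let hT : IsTerminal (⊤ : S.Opens) := isTerminalTop
  obtain ⟨t, ht⟩ := hs (Sheaf.H.equiv₀ B hT (Ext.mk₀ ψ : EtZar.H B 0))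
  let y : EtZar.H A 0 := (Sheaf.H.equiv₀ A hT).symm t
  obtain ⟨ψ', hψ'⟩ := (Ext.mk₀_bijective (ZZ S) A).2 y
  refine ⟨ψ', ?_⟩
  apply (Ext.mk₀_bijective (ZZ S) B).1
  rw [← Ext.mk₀_comp_mk₀, hψ']
  have h1 := Sheaf.H.equiv₀_symm_naturality (hT := hT) g t
  rw [Sheaf.H.map_apply] at h1
  refine h1.trans ?_
  have ht' : g.hom.app (op (⊤ : S.Opens)) t =
    Sheaf.H.equiv₀ B hT (Ext.mk₀ ψ : EtZar.H B 0) := ht
  rw [ht', AddEquiv.symm_apply_apply]

/-- acyclicity on affine opens -/
def P (M : EtCoh.Ab S) : Prop :=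
  ∀ U : S.Opens, IsAffineOpen U → ∀ q : ℕ, 1 ≤ q →
    Subsingleton (EtCoh.H (U : Scheme.{u}) ((EtCoh.pull U.ι).obj M) q)

/-- the embedding into an injective with its cokernel -/
noncomputable def SS (M : EtCoh.Ab S) : ShortComplex (EtCoh.Ab S) :=
  ShortComplex.mk (Injective.ι M) (cokernel.π (Injective.ι M)) (cokernel.condition _)

lemma SS_shortExact (M : EtCoh.Ab S) : (SS S M).ShortExact :=
  { exact := ShortComplex.exact_cokernel _
    mono_f := inferInstanceAs (Mono (Injective.ι M))
    epi_g := inferInstanceAs (Epi (cokernel.π (Injective.ι M))) }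

instance (M : EtCoh.Ab S) : Injective (SS S M).X₂ :=
  inferInstanceAs (Injective (Injective.under M))

lemma P_quot (M : EtCoh.Ab S) (hM : P S M) : P S (SS S M).X₃ := by
  intro U hU q hq
  have hS' : ((SS S M).map (EtCoh.pull U.ι)).ShortExact :=
    (SS_shortExact S M).map_of_exact (EtCoh.pull U.ι)
  haveI : Injective ((SS S M).map (EtCoh.pull U.ι)).X₂ :=
    Groth.Agent.S0623.injective_pull U.ι (SS S M).X₂
  have key : ∀ y : EtCoh.H (U : Scheme.{u}) ((EtCoh.pull U.ι).obj (SS S M).X₃) q, y = 0 := by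
    intro y
    have h1 : y.comp hS'.extClass (rfl : q + 1 = q + 1) = 0 :=
      (hM U hU (q + 1) (by omega)).elim _ _
    obtain ⟨z, hz⟩ := Ext.covariant_sequence_exact₃ _ hS' y rfl h1
    obtain ⟨n, rfl⟩ : ∃ n, q = n + 1 := ⟨q - 1, by omega⟩
    have hz0 : z = 0 := Ext.eq_zero_of_injective z
    rw [← hz, hz0, Ext.zero_comp]
  exact ⟨fun a b => (key a).trans (key b).symm⟩

lemma surj_z (M : EtCoh.Ab S) (hM : P S M) (V : S.Opens) (hV : IsAffineOpen V) :
    Function.Surjective ((SS S M).g.hom.app (op ((EtZar.zarToEt S).obj V))).hom :=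
  Groth.Agent.S14452.Aux.surj_sections ((EtZar.zarToEt S).obj V) (SS_shortExact S M)
    (hM V hV 1 le_rfl)

lemma epi_resZar (M : EtCoh.Ab S) (hM : P S M) :
    Epi ((EtZar.resZar S).map (SS S M).g) := by
  haveI : Sheaf.IsLocallySurjective ((EtZar.resZar S).map (SS S M).g) := by
    constructor
    intro U s x hx
    obtain ⟨V, hV, hxV, hVU⟩ := Opens.isBasis_iff_nbhd.mp S.isBasis_affineOpens hx
    refine ⟨V, homOfLE hVU, ?_, hxV⟩
    obtain ⟨t, ht⟩ := surj_z S M hM V hV
      (((SS S M).X₃.obj.map ((EtZar.zarToEt S).map (homOfLE hVU)).op).hom s)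
    exact ⟨t, ht⟩
  exact Sheaf.epi_of_isLocallySurjective _

lemma resSS_shortExact (M : EtCoh.Ab S) (hM : P S M) :
    ((SS S M).map (EtZar.resZar S)).ShortExact := by
  have hS := SS_shortExact S M
  haveI : Mono (SS S M).f := hS.mono_f
  haveI : PreservesLimitsOfSize.{u + 1, u + 1} (EtZar.resZar S) :=
    (adj S).rightAdjoint_preservesLimits
  haveI : PreservesFiniteLimits (EtZar.resZar S) := PreservesLimitsOfSize.preservesFiniteLimits _
  haveI : Mono ((SS S M).map (EtZar.resZar S)).f :=
    inferInstanceAs (Mono ((EtZar.resZar S).map (SS S M).f))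
  haveI : Epi ((SS S M).map (EtZar.resZar S)).g := epi_resZar S M hM
  exact ShortComplex.ShortExact.mk'
    (hS.exact.map_of_mono_of_preservesKernel (EtZar.resZar S) hS.mono_f inferInstance)
    inferInstance inferInstance

theorem claim [IsAffine S] : ∀ (p : ℕ) (M : EtCoh.Ab S), P S M →
    ∀ x : EtZar.H ((EtZar.resZar S).obj M) (p + 1), x = 0 := by
  intro p
  induction p with
  | zero =>
    intro M hM x
    have hT := resSS_shortExact S M hM
    haveI : Injective ((SS S M).map (EtZar.resZar S)).X₂ :=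
      (EtZar.resZar S).injective_obj (SS S M).X₂
    have h0 : x.comp (Ext.mk₀ ((SS S M).map (EtZar.resZar S)).f) (add_zero 1) = 0 :=
      Ext.eq_zero_of_injective _
    obtain ⟨y, hy⟩ := Ext.covariant_sequence_exact₁ _ hT x h0 (rfl : 0 + 1 = 1)
    obtain ⟨ψ, rfl⟩ := (Ext.mk₀_bijective _ _).2 y
    obtain ⟨ψ', hψ'⟩ := hZ S ((SS S M).map (EtZar.resZar S)).g
      (surj_z S M hM ⊤ (isAffineOpen_top S)) ψ
    rw [← hy, ← hψ', ← Ext.mk₀_comp_mk₀,
      Ext.comp_assoc (Ext.mk₀ ψ') (Ext.mk₀ ((SS S M).map (EtZar.resZar S)).g) hT.extClass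
        (zero_add 0) (zero_add 1) (by omega), hT.comp_extClass, Ext.comp_zero]
  | succ p ih =>
    intro M hM x
    have hT := resSS_shortExact S M hM
    haveI : Injective ((SS S M).map (EtZar.resZar S)).X₂ :=
      (EtZar.resZar S).injective_obj (SS S M).X₂
    have h0 : x.comp (Ext.mk₀ ((SS S M).map (EtZar.resZar S)).f) (add_zero (p + 1 + 1)) = 0 :=
      Ext.eq_zero_of_injective _
    obtain ⟨y, hy⟩ := Ext.covariant_sequence_exact₁ _ hT x h0 (rfl : (p + 1) + 1 = p + 1 + 1)
    have hy0 : y = 0 := ih (SS S M).X₃ (P_quot S M hM) y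
    rw [← hy, hy0, Ext.zero_comp]

theorem main [IsAffine S] (G : EtCoh.Ab S)
    (hG : ∀ (T : S.Etale), IsAffine T.left → ∀ i : ℕ, 1 ≤ i →
      Subsingleton (EtCoh.H T.left ((EtCoh.pull T.hom).obj G) i))
    (i : ℕ) (hi : 1 ≤ i) :
    Subsingleton (EtZar.H ((EtZar.resZar S).obj G) i) := by
  obtain ⟨p, rfl⟩ : ∃ p, i = p + 1 := ⟨i - 1, by omega⟩
  have hP : P S G := fun U hU q hq => hG ((EtZar.zarToEt S).obj U) hU q hq
  exact ⟨fun a b => (claim S p G hP a).trans (claim S p G hP b).symm⟩

end Aux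

/-- Suppose S is an affine scheme, and G denotes a sheaf of abelian groups on the small étale site of S.
If for every affine scheme T étale over S and every i ≥ 1 the étale cohomology group H^i(T, G|_T)
vanishes, then the Zariski cohomology groups H^i(S, G|_{S_Zar}) of the restriction of G to the site
of opens of S vanish for every i ≥ 1. (Continuity of the opens-to-étale-schemes functor is carried
as an instance binder.) -/
theorem result (S : Scheme.{u}) [IsAffine S]
    [EtZar.ZarCont S] (G : EtCoh.Ab S)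
    (hG : ∀ (T : S.Etale), IsAffine T.left → ∀ i : ℕ, 1 ≤ i →
      Subsingleton (EtCoh.H T.left ((EtCoh.pull T.hom).obj G) i))
    (i : ℕ) (hi : 1 ≤ i) :
    Subsingleton (EtZar.H ((EtZar.resZar S).obj G) i) := by
  exact Aux.main S G hG i hi

end Groth.Agent.S17614
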