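import Groth.Statements.S17620
-- import your own Groth.Agent.* helpers here
import Mathlib
import Groth.Agent.Lib.Helper7.Hens.Abstract
import Groth.Agent.Lib.Helper7.Hensel.SmallerIdeal
import Groth.Agent.Lib.Helper7.Hensel.Local

set_option autoImplicit false
universe u
open Hensel

namespace Groth.Agent.S17620

/-- Let R be a local ring and J an ideal of R contained in the maximal ideal, let H be a Henselization
of the pair (R, J) which is a local ring with local structure map R → H, and let S be a strict
Henselization of the local ring H. Then S, with its composite R-algebra structure, is a strict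
Henselization of the local ring R. (This is the identification of the strict Henselization of the
local ring of a scheme at a point with that of the local ring of its Henselization along a closed
subscheme through the point.) -/
theorem result
    (R : Type u) [CommRing R] [IsLocalRing R] (J : Ideal R) (hJ : J ≤ IsLocalRing.maximalIdeal R)
    (H : Type u) [CommRing H] [IsLocalRing H] [Algebra R H] [IsLocalHom (algebraMap R H)]
    (hH : Hens2.IsPairHenselization R J H)
    (S : Type u) [CommRing S] [IsLocalRing S] [Algebra H S] [IsLocalHom (algebraMap H S)]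
    [Hensel.IsStrictHenselization H S]
    [Algebra R S] [IsScalarTower R H S] [IsLocalHom (algebraMap R S)] :
    Hensel.IsStrictHenselization R S := by
  have hS : Hensel.IsStrictHenselization H S := inferInstance
  have hSh : HenselianLocalRing S := hS.henselian
  have hJH : J.map (algebraMap R H) ≤ IsLocalRing.maximalIdeal H :=
    (Ideal.map_mono hJ).trans
      (((IsLocalRing.local_hom_TFAE (algebraMap R H)).out 0 2 rfl rfl).mp inferInstance)
  -- every element of `H` is congruent to an element of `R`
  have hsurj : ∀ h : H, ∃ r : R, algebraMap R H r - h ∈ J.map (algebraMap R H) := by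
    intro h
    obtain ⟨x, hx⟩ :=
      (Groth.Agent.Helper7.Hens.quotient_bijective_of_isPairHenselization hH).2
        (Ideal.Quotient.mk _ h)
    obtain ⟨r, rfl⟩ := Ideal.Quotient.mk_surjective x
    rw [Ideal.quotientMap_mk, Ideal.Quotient.eq] at hx
    exact ⟨r, hx⟩
  have hressurj : Function.Surjective
      (algebraMap (IsLocalRing.ResidueField R) (IsLocalRing.ResidueField H)) := by
    intro y
    obtain ⟨h, rfl⟩ := IsLocalRing.residue_surjective y
    obtain ⟨r, hr⟩ := hsurj h
    refine ⟨IsLocalRing.residue R r, ?_⟩
    rw [IsLocalRing.ResidueField.algebraMap_residue]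
    exact Ideal.Quotient.eq.mpr (hJH hr)
  have hsep1 : Algebra.IsSeparable (IsLocalRing.ResidueField R) (IsLocalRing.ResidueField H) := by
    constructor
    intro y
    obtain ⟨x, rfl⟩ := hressurj y
    exact isSeparable_algebraMap x
  have hsepcl : IsSepClosure (IsLocalRing.ResidueField H) (IsLocalRing.ResidueField S) :=
    hS.isSepClosure
  have hsep2 : Algebra.IsSeparable (IsLocalRing.ResidueField H) (IsLocalRing.ResidueField S) :=
    hsepcl.separable
  refine ⟨hSh, ⟨hsepcl.sep_closed, Algebra.IsSeparable.trans (IsLocalRing.ResidueField R)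
    (IsLocalRing.ResidueField H) (IsLocalRing.ResidueField S)⟩, ?_⟩
  intro T _ _ f _ τ hτ
  have hfm : (IsLocalRing.maximalIdeal R).map f ≤ IsLocalRing.maximalIdeal T :=
    ((IsLocalRing.local_hom_TFAE f).out 0 2 rfl rfl).mp inferInstance
  have hJT : J.map f ≤ IsLocalRing.maximalIdeal T := (Ideal.map_mono hJ).trans hfm
  have hT : HenselianRing T (J.map f) :=
    ((Groth.Agent.Helper7.Hensel.Gabber.of_henselianLocalRing T).of_le hJT).henselianRing
  obtain ⟨f', hf', hf'uniq⟩ := hH.2 T (J.map f) f hT le_rfl
  have hf'J : ∀ x ∈ J.map (algebraMap R H), f' x ∈ IsLocalRing.maximalIdeal T := by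
    intro x hx
    have h1 : f' x ∈ (J.map (algebraMap R H)).map f' := Ideal.mem_map_of_mem _ hx
    rw [Ideal.map_map, hf'] at h1
    exact hJT h1
  have hloc : IsLocalHom f' := by
    constructor
    intro h hh
    obtain ⟨r, hr⟩ := hsurj h
    have h1 : f r = f' h + f' (algebraMap R H r - h) := by
      rw [← map_add, add_sub_cancel, ← RingHom.comp_apply, hf']
    have h2 : IsUnit (f r) := by
      rw [h1]
      by_contra hnu
      have h3 : f' h + f' (algebraMap R H r - h) ∈ IsLocalRing.maximalIdeal T :=
        (IsLocalRing.mem_maximalIdeal _).mpr hnu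
      have h4 : f' h ∈ IsLocalRing.maximalIdeal T := by
        have := Ideal.sub_mem _ h3 (hf'J _ hr)
        rwa [add_sub_cancel_right] at this
      exact (IsLocalRing.mem_maximalIdeal _).mp h4 hh
    have h5 : IsUnit r := isUnit_of_map_unit f r h2
    have h6 : IsUnit (algebraMap R H r) := h5.map _
    by_contra hnu
    have h7 : h ∈ IsLocalRing.maximalIdeal H := (IsLocalRing.mem_maximalIdeal _).mpr hnu
    have h8 : algebraMap R H r ∈ IsLocalRing.maximalIdeal H := by
      have := Ideal.add_mem _ (hJH hr) h7
      rwa [sub_add_cancel] at this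
    exact (IsLocalRing.mem_maximalIdeal _).mp h8 h6
  have hτ' : τ.comp (IsLocalRing.ResidueField.map (algebraMap H S))
      = IsLocalRing.ResidueField.map f' := by
    ext y
    obtain ⟨x, rfl⟩ := hressurj y
    obtain ⟨r, rfl⟩ := IsLocalRing.residue_surjective x
    rw [IsLocalRing.ResidueField.algebraMap_residue, RingHom.comp_apply,
      IsLocalRing.ResidueField.map_residue, IsLocalRing.ResidueField.map_residue,
      ← IsScalarTower.algebraMap_apply R H S, ← RingHom.comp_apply f', hf',
      ← IsLocalRing.ResidueField.map_residue (algebraMap R S), ← RingHom.comp_apply τ, hτ,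
      IsLocalRing.ResidueField.map_residue]
  obtain ⟨g, ⟨hg1, hg2⟩, hguniq⟩ := hS.universal T f' τ hτ'
  refine ⟨g, ⟨?_, hg2⟩, ?_⟩
  · rw [IsScalarTower.algebraMap_eq R H S, ← RingHom.comp_assoc, hg1, hf']
  · rintro g' ⟨hg'1, hg'2⟩
    apply hguniq
    refine ⟨?_, hg'2⟩
    apply hf'uniq
    rw [RingHom.comp_assoc, ← IsScalarTower.algebraMap_eq R H S, hg'1]

end Groth.Agent.S17620
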