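import Groth.Statements.S17644
import Mathlib

set_option autoImplicit false
universe w v u
open CategoryTheory CategoryTheory.Limits
open GabLoc

namespace Groth.Agent.S17644

section
open CategoryTheory CategoryTheory.Limits
open GabLoc

variable {C : Type u} [Category.{v} C] [Abelian C]

/-- unique lifting class against `π`, with no maps to `M`. -/
def L (M : C) {I K : C} (π : I ⟶ K) (Z : C) : Prop :=
  (∀ f : Z ⟶ M, f = 0) ∧ ∀ g : Z ⟶ K, ∃ ℓ : Z ⟶ I, ℓ ≫ π = g

section
variable {M I K : C} {ι : M ⟶ I} {π : I ⟶ K} {w : ι ≫ π = 0}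
  (hS : (ShortComplex.mk ι π w).ShortExact)
include hS

lemma lift_unique {Z : C} (h0 : ∀ f : Z ⟶ M, f = 0) (ℓ₁ ℓ₂ : Z ⟶ I) (h : ℓ₁ ≫ π = ℓ₂ ≫ π) :
    ℓ₁ = ℓ₂ := by
  haveI := hS.mono_f
  have h1 : (ℓ₁ - ℓ₂) ≫ π = 0 := by rw [Preadditive.sub_comp, h, sub_self]
  have h2 := hS.exact.lift_f (ℓ₁ - ℓ₂) h1
  rw [h0 (hS.exact.lift (ℓ₁ - ℓ₂) h1)] at h2
  simp only [zero_comp] at h2
  exact sub_eq_zero.mp h2.symm

lemma L_of_closed (Z : C) (h0 : ∀ f : Z ⟶ M, f = 0)
    (hsplit : ∀ ⦃N : C⦄ (i : M ⟶ N) (p : N ⟶ Z) (hp : i ≫ p = 0),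
      (ShortComplex.mk i p hp).ShortExact → IsSplitMono i) : L M π Z := by
  haveI := hS.mono_f
  haveI := hS.epi_g
  refine ⟨h0, fun g => ?_⟩
  let i : M ⟶ pullback π g := pullback.lift ι 0 (by simp [w])
  have hi1 : i ≫ pullback.fst π g = ι := pullback.lift_fst _ _ _
  have hi2 : i ≫ pullback.snd π g = 0 := pullback.lift_snd _ _ _
  haveI : Mono i := mono_of_mono_fac hi1
  haveI : Epi (pullback.snd π g) := inferInstance
  have hker : IsLimit (KernelFork.ofι i hi2) := by
    refine KernelFork.IsLimit.ofι' i hi2 (fun {A} k hk => ?_)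
    have hk' : (k ≫ pullback.fst π g) ≫ π = 0 := by
      rw [Category.assoc, pullback.condition, ← Category.assoc, hk, zero_comp]
    refine ⟨hS.exact.lift _ hk', ?_⟩
    apply pullback.hom_ext
    · rw [Category.assoc, hi1]; exact hS.exact.lift_f _ hk'
    · rw [Category.assoc, hi2, comp_zero, hk]
  have hex : (ShortComplex.mk i (pullback.snd π g) hi2).ShortExact :=
    { exact := ShortComplex.exact_of_f_is_kernel _ hker }
  obtain ⟨⟨r, hr⟩⟩ := hsplit i (pullback.snd π g) hi2 hex
  let spl := ShortComplex.Splitting.ofExactOfRetraction _ hex.exact r hr inferInstance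
  refine ⟨spl.s ≫ pullback.fst π g, ?_⟩
  rw [Category.assoc, pullback.condition, ← Category.assoc]
  have := spl.s_g
  dsimp at this
  rw [this, Category.id_comp]

lemma split_of_L [Injective I] {Z : C} (hZ : L M π Z) ⦃N : C⦄ (i : M ⟶ N) (p : N ⟶ Z)
    (hp : i ≫ p = 0) (hex : (ShortComplex.mk i p hp).ShortExact) : IsSplitMono i := by
  haveI := hS.mono_f
  haveI := hS.epi_g
  haveI := hex.mono_f
  haveI := hex.epi_g
  let φ : N ⟶ I := Injective.factorThru ι i
  have hφ : i ≫ φ = ι := Injective.comp_factorThru ι i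
  have h1 : i ≫ (φ ≫ π) = 0 := by rw [← Category.assoc, hφ, w]
  let ψ : Z ⟶ K := hex.exact.desc (φ ≫ π) h1
  have hψ : p ≫ ψ = φ ≫ π := hex.exact.g_desc _ h1
  obtain ⟨ψ', hψ'⟩ := hZ.2 ψ
  have h2 : (φ - p ≫ ψ') ≫ π = 0 := by
    rw [Preadditive.sub_comp, Category.assoc, hψ', hψ, sub_self]
  let r : N ⟶ M := hS.exact.lift _ h2
  have hr : r ≫ ι = φ - p ≫ ψ' := hS.exact.lift_f _ h2
  refine ⟨⟨r, ?_⟩⟩
  rw [← cancel_mono ι, Category.assoc, hr, Preadditive.comp_sub, hφ, ← Category.assoc, hp,
    zero_comp, sub_zero, Category.id_comp]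

end


/-- hereditary version of `L`. -/
def T (M : C) {I K : C} (π : I ⟶ K) : ObjectProperty C :=
  fun Y => ∀ ⦃Z : C⦄ (m : Z ⟶ Y), Mono m → L M π Z

section
variable {M I K : C} {ι : M ⟶ I} {π : I ⟶ K} {w : ι ≫ π = 0}
  (hS : (ShortComplex.mk ι π w).ShortExact)

lemma T_mono {X Y : C} (f : X ⟶ Y) [Mono f] (hY : T M π Y) : T M π X :=
  fun Z m hm => by
    haveI := hm
    exact hY (m ≫ f) (mono_comp m f)

lemma T_zero {Y : C} (hY : IsZero Y) : T M π Y := by
  intro Z m hm
  haveI := hm
  have hZ : IsZero Z := IsZero.of_mono m hY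
  exact ⟨fun f => hZ.eq_of_src _ _, fun g => ⟨0, hZ.eq_of_src _ _⟩⟩

include hS

lemma L_of_isColimit {D : Type*} [Category D] {W : D ⥤ C} (c : Cocone W) (hc : IsColimit c)
    (h : ∀ d, L M π (W.obj d)) : L M π c.pt := by
  refine ⟨fun f => hc.hom_ext (fun d => ?_), fun g => ?_⟩
  · rw [(h d).1 (c.ι.app d ≫ f), comp_zero]
  · choose ℓ hℓ using fun d => (h d).2 (c.ι.app d ≫ g)
    let c' : Cocone W :=
      { pt := I
        ι :=
          { app := ℓ
            naturality := fun d d' φ => by
              dsimp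
              rw [Category.comp_id]
              apply lift_unique hS (h d).1
              rw [Category.assoc, hℓ, hℓ, ← Category.assoc, c.w] } }
    refine ⟨hc.desc c', hc.hom_ext (fun d => ?_)⟩
    rw [← Category.assoc, hc.fac]
    exact hℓ d

lemma T_epi {X Y : C} (f : X ⟶ Y) [Epi f] (hX : T M π X) : T M π Y := by
  intro Z'' m hm
  haveI := hm
  let e : pullback f m ⟶ Z'' := pullback.snd f m
  haveI : Epi e := inferInstance
  haveI : Mono (pullback.fst f m) := inferInstance
  have hZ : L M π (pullback f m) := hX (pullback.fst f m) inferInstance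
  have hK : L M π (kernel e) := hX (kernel.ι e ≫ pullback.fst f m) (mono_comp _ _)
  refine ⟨fun f'' => ?_, fun g => ?_⟩
  · rw [← cancel_epi e, hZ.1 (e ≫ f''), comp_zero]
  · obtain ⟨ℓ, hℓ⟩ := hZ.2 (e ≫ g)
    haveI := hS.mono_f
    have h1 : (kernel.ι e ≫ ℓ) ≫ π = 0 := by
      rw [Category.assoc, hℓ, ← Category.assoc, kernel.condition, zero_comp]
    have h2 : kernel.ι e ≫ ℓ = 0 := by
      have := hS.exact.lift_f _ h1
      rw [hK.1 (hS.exact.lift _ h1)] at this
      simpa using this.symm
    have hex : (ShortComplex.mk (kernel.ι e) e (kernel.condition e)).Exact :=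
      ShortComplex.exact_of_f_is_kernel _ (kernelIsKernel e)
    refine ⟨hex.desc ℓ h2, ?_⟩
    rw [← cancel_epi e, ← Category.assoc]
    have := hex.g_desc ℓ h2
    dsimp at this
    rw [this, hℓ]

lemma T_ext [Injective I] {S : ShortComplex C} (hS' : S.ShortExact) (h₁ : T M π S.X₁)
    (h₃ : T M π S.X₃) : T M π S.X₂ := by
  intro Z m hm
  haveI := hm
  haveI := hS'.mono_f
  let u : Z ⟶ S.X₃ := m ≫ S.g
  let k : kernel u ⟶ Z := kernel.ι u
  have hk : (k ≫ m) ≫ S.g = 0 := by rw [Category.assoc]; exact kernel.condition u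
  let a : kernel u ⟶ S.X₁ := hS'.exact.lift _ hk
  have ha : a ≫ S.f = k ≫ m := hS'.exact.lift_f _ hk
  haveI : Mono (a ≫ S.f) := by rw [ha]; exact mono_comp _ _
  haveI : Mono a := mono_of_mono a S.f
  have hZ' : L M π (kernel u) := h₁ a inferInstance
  have hZ'' : L M π (Abelian.coimage u) := h₃ (Abelian.factorThruCoimage u) inferInstance
  let e : Z ⟶ Abelian.coimage u := Abelian.coimage.π u
  have hke : k ≫ e = 0 := cokernel.condition _
  refine ⟨fun f => ?_, fun g => ?_⟩
  · have h1 : k ≫ f = 0 := hZ'.1 _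
    have h2 : e ≫ cokernel.desc k f h1 = f := cokernel.π_desc _ _ _
    rw [← h2, hZ''.1 (cokernel.desc k f h1), comp_zero]
  · obtain ⟨ℓ', hℓ'⟩ := hZ'.2 (k ≫ g)
    let ℓ₁ : Z ⟶ I := Injective.factorThru ℓ' k
    have hℓ₁ : k ≫ ℓ₁ = ℓ' := Injective.comp_factorThru ℓ' k
    have h1 : k ≫ (g - ℓ₁ ≫ π) = 0 := by
      rw [Preadditive.comp_sub, ← Category.assoc, hℓ₁, hℓ', sub_self]
    have h2 : e ≫ cokernel.desc k _ h1 = g - ℓ₁ ≫ π := cokernel.π_desc _ _ _
    obtain ⟨ℓ'', hℓ''⟩ := hZ''.2 (cokernel.desc k _ h1)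
    refine ⟨ℓ₁ + e ≫ ℓ'', ?_⟩
    rw [Preadditive.add_comp, Category.assoc, hℓ'', h2]
    abel

end


section
variable {M I K : C} {ι : M ⟶ I} {π : I ⟶ K} {w : ι ≫ π = 0}
  (hS : (ShortComplex.mk ι π w).ShortExact)
include hS

attribute [local instance] IsFiltered.isConnected

lemma T_of_isColimit_filtered {D : Type w} [SmallCategory D] [IsFiltered D]
    [HasColimitsOfShape D C] [HasExactColimitsOfShape D C]
    {A : D ⥤ C} (c : Cocone A) (hc : IsColimit c) (h : ∀ d, T M π (A.obj d)) :
    T M π c.pt := by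
  intro Z m hm
  haveI := hm
  let μ : (Functor.const D).obj Z ⟶ (Functor.const D).obj c.pt := (Functor.const D).map m
  have hpb := IsPullback.of_hasPullback c.ι μ
  have hev : ∀ d, IsPullback ((pullback.fst c.ι μ).app d) ((pullback.snd c.ι μ).app d)
      (c.ι.app d) m := fun d => hpb.map ((evaluation D C).obj d)
  have hmono : ∀ d, Mono ((pullback.fst c.ι μ).app d) := fun d =>
    (MorphismProperty.monomorphisms C).of_isPullback (hev d).flip (MorphismProperty.monomorphisms.infer_property m)
  have hL : ∀ d, L M π ((pullback c.ι μ).obj d) := fun d => h d _ (hmono d)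
  have hcol := hpb.map (colim : (D ⥤ C) ⥤ C)
  -- `colim.map c.ι` is an isomorphism
  have e1 : colim.map c.ι ≫ colimit.desc _ (constCocone D c.pt) = colimit.desc A c := by
    apply colimit.hom_ext
    intro d
    have e0 : colim.map c.ι = colimMap c.ι := rfl
    rw [e0, ← Category.assoc, ι_colimMap, Category.assoc, colimit.ι_desc]
    erw [colimit.ι_desc]
    exact Category.comp_id _
  haveI i1 : IsIso (colimit.desc ((Functor.const D).obj c.pt) (constCocone D c.pt)) :=
    inferInstanceAs (IsIso ((colimit.isColimit _).coconePointUniqueUpToIso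
      (isColimitConstCocone D c.pt)).hom)
  haveI i2 : IsIso (colimit.desc A c) :=
    inferInstanceAs (IsIso ((colimit.isColimit _).coconePointUniqueUpToIso hc).hom)
  haveI i3 : IsIso (colim.map c.ι) := by
    have : IsIso (colim.map c.ι ≫ colimit.desc _ (constCocone D c.pt)) := by rw [e1]; exact i2
    exact IsIso.of_isIso_comp_right _ (colimit.desc _ (constCocone D c.pt))
  haveI i4 : IsIso (colim.map (pullback.snd c.ι μ)) := hcol.isIso_snd_of_isIso
  haveI i5 : IsIso (colimit.desc ((Functor.const D).obj Z) (constCocone D Z)) :=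
    inferInstanceAs (IsIso ((colimit.isColimit _).coconePointUniqueUpToIso
      (isColimitConstCocone D Z)).hom)
  let cZ : Cocone (pullback c.ι μ) := Cocone.mk Z (pullback.snd c.ι μ)
  have e2 : colimit.desc _ cZ = colim.map (pullback.snd c.ι μ) ≫
      colimit.desc _ (constCocone D Z) := by
    apply colimit.hom_ext
    intro d
    have e0 : colim.map (pullback.snd c.ι μ) = colimMap (pullback.snd c.ι μ) := rfl
    rw [e0, colimit.ι_desc]
    refine Eq.trans ?_ (Category.assoc _ _ _)
    rw [ι_colimMap]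
    refine Eq.trans ?_ (Category.assoc _ _ _).symm
    erw [colimit.ι_desc]
    exact (Category.comp_id _).symm
  haveI i6 : IsIso (colimit.desc _ cZ) := by
    rw [e2]
    exact @IsIso.comp_isIso _ _ _ _ _ _ _ i4 i5
  have hcZ : IsColimit cZ := by
    haveI : IsIso ((colimit.isColimit (pullback c.ι μ)).desc cZ) := i6
    exact IsColimit.ofPointIso (colimit.isColimit _)
  exact L_of_isColimit hS cZ hcZ hL

end


section
variable [IsGrothendieckAbelian.{w} C] {M I K : C} {ι : M ⟶ I} {π : I ⟶ K} {w' : ι ≫ π = 0}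
  (hS : (ShortComplex.mk ι π w').ShortExact) [Injective I]
include hS

open ZeroObject in
lemma T_isSerre : (T M π).IsSerreClass :=
  { exists_zero := ⟨0, isZero_zero C, T_zero (isZero_zero C)⟩
    prop_of_mono := fun f _ hY => T_mono f hY
    prop_of_epi := fun f _ hX => T_epi hS f hX
    prop_X₂_of_shortExact := fun hS' h₁ h₃ => T_ext hS hS' h₁ h₃ }

open CoproductsFromFiniteFiltered in
lemma T_coprod (J : Type w) : (T M π).IsClosedUnderColimitsOfShape (Discrete J) := by
  haveI := T_isSerre hS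
  haveI : (T M π).IsClosedUnderIsomorphisms := inferInstance
  haveI : (T M π).IsClosedUnderBinaryCoproducts := by
    apply ObjectProperty.IsClosedUnderColimitsOfShape.mk'
    rintro _ ⟨F, hF⟩
    have e : F ≅ pair (F.obj ⟨.left⟩) (F.obj ⟨.right⟩) := diagramIsoPair F
    have h1 : T M π (F.obj ⟨.left⟩ ⊞ F.obj ⟨.right⟩) :=
      ObjectProperty.prop_biprod _ (hF _) (hF _)
    exact (T M π).prop_of_iso
      ((HasColimit.isoOfNatIso e) ≪≫ (biprod.isoCoprod _ _).symm).symm h1
  haveI : (T M π).IsClosedUnderFiniteCoproducts :=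
    ObjectProperty.IsClosedUnderFiniteCoproducts.mk'
  apply ObjectProperty.IsClosedUnderColimitsOfShape.mk'
  rintro _ ⟨F, hF⟩
  let f : J → C := fun j => F.obj ⟨j⟩
  have e : F ≅ Discrete.functor f := Discrete.natIsoFunctor
  have hcop : T M π (∐ f) := by
    change T M π (finiteSubcoproductsCocone f).pt
    refine T_of_isColimit_filtered hS (finiteSubcoproductsCocone f)
      (isColimitFiniteSubproductsCocone f) (fun s => ?_)
    exact ObjectProperty.prop_coproduct _ (fun x => hF _)
  exact (T M π).prop_of_iso (HasColimit.isoOfNatIso e).symm hcop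

end

theorem key [IsGrothendieckAbelian.{w} C] (P : ObjectProperty C) [P.IsClosedUnderSubobjects]
    (M : C) (hM : IsClosedFor P M) : IsClosedFor (locClosure.{w} P) M := by
  haveI : EnoughInjectives C := inferInstance
  let ι : M ⟶ Injective.under M := Injective.ι M
  let π := cokernel.π ι
  have w' : ι ≫ π = 0 := cokernel.condition ι
  have hS : (ShortComplex.mk ι π w').ShortExact :=
    { exact := ShortComplex.exact_cokernel ι
      mono_f := inferInstanceAs (Mono (Injective.ι M))
      epi_g := inferInstanceAs (Epi (cokernel.π ι)) }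
  have hPT : P ≤ T M π := fun Y hY Z m hm => by
    haveI := hm
    have hZ : P Z := P.prop_of_mono m hY
    exact L_of_closed hS Z (fun f => hM.1 hZ f) (fun N i p hp hex => hM.2 i p hp hZ hex)
  have hloc : IsLocalizing.{w} (T M π) := ⟨T_isSerre hS, fun J => T_coprod hS J⟩
  have hle : locClosure.{w} P ≤ T M π := fun Y hY => hY _ hloc hPT
  refine ⟨fun Y hY f => ((hle Y hY) (𝟙 Y) inferInstance).1 f, fun N Y i p hp hY hex =>
    split_of_L hS ((hle Y hY) (𝟙 Y) inferInstance) i p hp hex⟩


theorem main [IsGrothendieckAbelian.{w} C] (P : ObjectProperty C) [P.IsClosedUnderSubobjects]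
    [P.IsClosedUnderQuotients]
    (hP : ∀ J : Type w, P.IsClosedUnderColimitsOfShape (Discrete J)) (M : C) :
    GabLoc.IsClosedFor (GabLoc.locClosure.{w} P) M ↔ GabLoc.IsClosedFor P M := by
  have hle : P ≤ locClosure.{w} P := fun Y hY Q _ hPQ => hPQ _ hY
  exact ⟨fun h => ⟨fun Y hY f => h.1 (hle Y hY) f,
    fun N Y i p hp hY hex => h.2 i p hp (hle Y hY) hex⟩, fun h => key P M h⟩


end


/-- Let C be a Grothendieck abelian category and P a class of objects of C closed under subobjects,
quotient objects and coproducts (indexed by any small type). For an object M, the following are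
equivalent: M is closed for the localizing closure of P (the smallest Serre class containing P and
closed under coproducts), i.e. every morphism to M from an object of that closure is zero and every
short exact sequence 0 ⟶ M ⟶ N ⟶ Y ⟶ 0 with Y in the closure splits; and the same two conditions for
the objects of P only, i.e. Hom(X, M) = 0 and Ext¹(X, M) = 0 for all X in P. -/
theorem result {C : Type u} [Category.{v} C] [Abelian C]
    [IsGrothendieckAbelian.{w} C] (P : ObjectProperty C) [P.IsClosedUnderSubobjects] [P.IsClosedUnderQuotients]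
    (hP : ∀ J : Type w, P.IsClosedUnderColimitsOfShape (Discrete J)) (M : C) :
    GabLoc.IsClosedFor (GabLoc.locClosure.{w} P) M ↔ GabLoc.IsClosedFor P M := by
  classical
  exact main P hP M

end Groth.Agent.S17644
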