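import Groth.Statements.S17646
import Groth.Agent.Lib.Helper3.UniformInj

set_option autoImplicit false
universe w v u
open CategoryTheory CategoryTheory.Limits
open GabLoc

namespace Groth.Agent.S17646

/-- Let C be a Grothendieck abelian category, E an indecomposable injective object of C (E is nonzero
and whenever E ≅ A ⊞ B one of A, B is zero) and S₁, S₂ localizing classes of objects (Serre classes
closed under coproducts). If there are an object of S₁ with a nonzero morphism to E and an object of
S₂ with a nonzero morphism to E, then there is an object belonging to both S₁ and S₂ with a nonzero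
morphism to E. Thus, on the set of isomorphism classes of indecomposable injectives, the subsets of
those having S-torsion, S localizing, are closed under finite intersections (they are also closed
under unions, and form a topology). The published definition of the injective spectrum says
injective objects without the word indecomposable; the published proof of this step uses that each
point of the spectrum is uniform, which is the indecomposable reading taken here. -/
theorem result {C : Type u} [Category.{v} C] [Abelian C]
    [IsGrothendieckAbelian.{w} C] (E : C) [Injective E] (hE : ¬ IsZero E)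
    (hind : ∀ (A B : C), Nonempty (E ≅ A ⊞ B) → IsZero A ∨ IsZero B)
    (S₁ S₂ : ObjectProperty C) (h₁ : GabLoc.IsLocalizing.{w} S₁) (h₂ : GabLoc.IsLocalizing.{w} S₂)
    (ht₁ : GabLoc.HasTorsion S₁ E) (ht₂ : GabLoc.HasTorsion S₂ E) :
    GabLoc.HasTorsion (S₁ ⊓ S₂) E := by
  obtain ⟨Y₁, hY₁, f₁, hf₁⟩ := ht₁
  obtain ⟨Y₂, hY₂, f₂, hf₂⟩ := ht₂
  have hne : ∀ {Y : C} (f : Y ⟶ E), f ≠ 0 → imageSubobject f ≠ ⊥ := by
    intro Y f hf h
    apply hf
    rw [← imageSubobject_arrow_comp f,
      Groth.Agent.Lib.Helper3.UniformInj.arrow_eq_zero_of_eq_bot _ h, comp_zero]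
  have hD := Groth.Agent.Lib.Helper3.UniformInj.uniform.{w, v, u} E hind
    (imageSubobject f₁) (imageSubobject f₂) (hne f₁ hf₁) (hne f₂ hf₂)
  haveI := h₁.isSerreClass
  haveI := h₂.isSerreClass
  refine ⟨((imageSubobject f₁ ⊓ imageSubobject f₂ : Subobject E) : C),
    (show S₁ _ ∧ S₂ _ from ⟨?_, ?_⟩), (imageSubobject f₁ ⊓ imageSubobject f₂).arrow,
    fun h => hD (Groth.Agent.Lib.Helper3.UniformInj.eq_bot_of_arrow_eq_zero _ h)⟩
  · have h1 : S₁ (imageSubobject f₁ : C) :=
      ObjectProperty.prop_of_epi S₁ (factorThruImageSubobject f₁) hY₁
    exact ObjectProperty.prop_of_mono S₁ (Subobject.ofLE _ _ inf_le_left) h1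
  · have h2 : S₂ (imageSubobject f₂ : C) :=
      ObjectProperty.prop_of_epi S₂ (factorThruImageSubobject f₂) hY₂
    exact ObjectProperty.prop_of_mono S₂ (Subobject.ofLE _ _ inf_le_right) h2

end Groth.Agent.S17646
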