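import Groth.Statements.S17649
import Mathlib
import Groth.Agent.Lib.Helper1.QcAbel
import Groth.Agent.Lib.Helper1.PushQc
import Groth.Agent.S5849

set_option autoImplicit false
universe u
open CategoryTheory CategoryTheory.Limits AlgebraicGeometry
open QCohCat

namespace Groth.Agent.S17649

section
open CategoryTheory CategoryTheory.Limits AlgebraicGeometry
open TopologicalSpace Opposite
open Groth.Agent Groth.Agent.Helper1

variable {X : Scheme.{u}}

lemma sections_zero_of_isZero_restrict (F : X.Modules) (W₀ : X.Opens)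
    (h : IsZero ((Scheme.Modules.restrictFunctor W₀.ι).obj F)) (W : X.Opens) (hW : W ≤ W₀)
    (s : Γ(F, W)) : s = 0 := by
  have hid : (𝟙 ((Scheme.Modules.restrictFunctor W₀.ι).obj F)) = 0 := h.eq_of_src _ _
  have heq : W₀.ι ''ᵁ W₀.ι ⁻¹ᵁ W = W := by
    rw [ZClos.ι_image_preimage]; exact inf_eq_right.2 hW
  have hinj := PushQc.res_injective_of_eq (F := F) heq
  apply hinj
  rw [map_zero]
  let t : Γ((Scheme.Modules.restrictFunctor W₀.ι).obj F, W₀.ι ⁻¹ᵁ W) := QcCech.res F heq.le s
  have h2 := congrArg (fun φ : (Scheme.Modules.restrictFunctor W₀.ι).obj F ⟶ _ =>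
    φ.app (W₀.ι ⁻¹ᵁ W) t) hid
  have h3 : t = 0 := by simpa using h2
  exact h3

lemma isZero_of_sections_zero (N : X.Modules) (h : ∀ (W : X.Opens) (s : Γ(N, W)), s = 0) :
    IsZero N := by
  rw [IsZero.iff_id_eq_zero]
  apply Scheme.Modules.hom_ext
  intro W
  ext s
  exact (h W _).trans (h W _).symm

lemma restrict_additive (U : X.Opens) : (Scheme.Modules.restrictFunctor U.ι).Additive :=
  (Scheme.Modules.restrictAdjunction U.ι).left_adjoint_additive

theorem main {X : Scheme.{u}}
    [CompactSpace X] [QuasiSeparatedSpace X] (U V : X.Opens) [QuasiCompact U.ι] [QuasiCompact V.ι]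
    (F : X.Modules) (hF : Coh.IsQCoh F) (h : IsZero ((Scheme.Modules.restrictFunctor (U ⊓ V).ι).obj F)) :
    ∃ (A : X.Modules) (i : A ⟶ F), Mono i ∧ Coh.IsQCoh A ∧
      IsZero ((Scheme.Modules.restrictFunctor U.ι).obj A) ∧
      IsZero ((Scheme.Modules.restrictFunctor V.ι).obj (cokernel i)) := by
  let RU := Scheme.Modules.restrictFunctor U.ι
  let RV := Scheme.Modules.restrictFunctor V.ι
  let PU := Scheme.Modules.pushforward U.ι
  haveI := restrict_additive U
  haveI := restrict_additive V
  haveI : F.IsQuasicoherent := hF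
  haveI hq2 : (PU.obj (RU.obj F)).IsQuasicoherent := PushQc.isQuasicoherent_pushforward U.ι _
  let η : F ⟶ PU.obj (RU.obj F) := (Scheme.Modules.restrictAdjunction U.ι).unit.app F
  refine ⟨kernel η, kernel.ι η, inferInstance, QcAbel.isQuasicoherent_kernel η, ?_, ?_⟩
  · haveI : IsIso (RU.map η) := S5849.isIso_restrict_unit U F
    have e : RU.obj (kernel η) ≅ kernel (RU.map η) := PreservesKernel.iso RU η
    exact (isZero_kernel_of_mono (RU.map η)).of_iso e
  · -- the cokernel embeds in PU (RU F), which vanishes on V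
    let m : cokernel (kernel.ι η) ⟶ PU.obj (RU.obj F) := Abelian.factorThruCoimage η
    haveI : Mono m := inferInstanceAs (Mono (Abelian.factorThruCoimage η))
    haveI : Mono (RV.map m) := inferInstance
    have hz : IsZero (RV.obj (PU.obj (RU.obj F))) := by
      apply isZero_of_sections_zero
      intro W' s
      let s' : Γ(F, U.ι ''ᵁ (U.ι ⁻¹ᵁ (V.ι ''ᵁ W'))) := s
      have hle : U.ι ''ᵁ (U.ι ⁻¹ᵁ (V.ι ''ᵁ W')) ≤ U ⊓ V := by
        rw [ZClos.ι_image_preimage]
        refine inf_le_inf_left _ ?_
        rintro _ ⟨w, _, rfl⟩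
        exact w.2
      exact sections_zero_of_isZero_restrict F (U ⊓ V) h _ hle s'
    exact IsZero.of_mono (RV.map m) hz


end


/-- Suppose the scheme X is quasi-compact and quasi-separated, and take two quasi-compact opens U, V ⊆
X. Given a quasi-compact open W, denote by S_W the class of quasi-coherent O_X-modules that restrict
to zero on W. Then S_{U ∩ V} is the smallest localizing subcategory of Qcoh(X) that contains both
S_U and S_V; concretely (this is the inclusion that is not formal): any quasi-coherent O_X-module F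
satisfying F|_{U ∩ V} = 0 arises as an extension of a quasi-coherent module that is zero on V by a
quasi-coherent submodule that is zero on U — one can find a monomorphism A ⟶ F where A is
quasi-coherent, A|_U = 0 and (F/A)|_V = 0. -/
theorem result {X : Scheme.{u}}
    [CompactSpace X] [QuasiSeparatedSpace X] (U V : X.Opens) [QuasiCompact U.ι] [QuasiCompact V.ι]
    (F : X.Modules) (hF : Coh.IsQCoh F) (h : IsZero ((Scheme.Modules.restrictFunctor (U ⊓ V).ι).obj F)) :
    ∃ (A : X.Modules) (i : A ⟶ F), Mono i ∧ Coh.IsQCoh A ∧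
      IsZero ((Scheme.Modules.restrictFunctor U.ι).obj A) ∧
      IsZero ((Scheme.Modules.restrictFunctor V.ι).obj (cokernel i)) := by
  classical
  exact main U V F hF h

end Groth.Agent.S17649
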