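import Groth.Statements.S9525
import Mathlib
import Groth.Agent.Lib.Helper1.CohAbel
import Groth.Agent.Lib.Helper1.FtSupp
import Groth.Agent.S5852

set_option autoImplicit false
universe u
open Coherent

namespace Groth.Agent.S9525

section

open CategoryTheory CategoryTheory.Limits AlgebraicGeometry TopologicalSpace Opposite
open Groth.Agent Groth.Agent.Helper1

variable {X : Scheme.{u}}

lemma isZero_restrict (M : X.Modules) (U : X.Opens)
    (h : ∀ y ∈ U, Subsingleton (M.presheaf.stalk y)) :
    IsZero ((Scheme.Modules.restrictFunctor U.ι).obj M) := by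
  rw [IsZero.iff_id_eq_zero]
  apply Scheme.Modules.hom_ext
  intro V
  ext s
  change s = 0
  let t : Γ(M, U.ι ''ᵁ V) := s
  have ht : t = 0 := by
    apply TopCat.Presheaf.section_ext ⟨M.presheaf, M.isSheaf⟩
    intro y hy
    have hyU : y ∈ U := by
      have : U.ι ''ᵁ V ≤ U := by
        intro z hz
        obtain ⟨w, _, rfl⟩ := hz
        exact w.2
      exact this hy
    haveI := h y hyU
    exact Subsingleton.elim _ _
  exact ht

lemma exists_open_isZero (M : X.Modules) (hM : Coh.IsCoh M) (x : X)
    (hx : Subsingleton (M.presheaf.stalk x)) :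
    ∃ U : X.Opens, x ∈ U ∧ ∀ y ∈ U, Subsingleton (M.presheaf.stalk y) := by
  have hcl := FtGen.isClosed_support M hM.2
  refine ⟨⟨(CohB1.support M)ᶜ, hcl.isOpen_compl⟩, ?_, ?_⟩
  · change x ∉ CohB1.support M
    exact fun h => h hx
  · intro y hy
    exact not_not.1 hy


lemma restrict_additive (U : X.Opens) : (Scheme.Modules.restrictFunctor U.ι).Additive :=
  (Scheme.Modules.restrictAdjunction U.ι).left_adjoint_additive

lemma mono_restrict_of_isZero (U : X.Opens) {G F : X.Modules} (φ : G ⟶ F)
    (h : IsZero ((Scheme.Modules.restrictFunctor U.ι).obj (kernel φ))) :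
    Mono ((Scheme.Modules.restrictFunctor U.ι).map φ) := by
  haveI := restrict_additive U
  have e : (Scheme.Modules.restrictFunctor U.ι).obj (kernel φ) ≅
      kernel ((Scheme.Modules.restrictFunctor U.ι).map φ) :=
    PreservesKernel.iso (Scheme.Modules.restrictFunctor U.ι) φ
  have hz : IsZero (kernel ((Scheme.Modules.restrictFunctor U.ι).map φ)) := h.of_iso e.symm
  exact Preadditive.mono_of_kernel_zero (hz.eq_of_src _ _)

lemma epi_restrict_of_isZero (U : X.Opens) {G F : X.Modules} (φ : G ⟶ F)
    (h : IsZero ((Scheme.Modules.restrictFunctor U.ι).obj (cokernel φ))) :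
    Epi ((Scheme.Modules.restrictFunctor U.ι).map φ) := by
  haveI := restrict_additive U
  have e : (Scheme.Modules.restrictFunctor U.ι).obj (cokernel φ) ≅
      cokernel ((Scheme.Modules.restrictFunctor U.ι).map φ) :=
    PreservesCokernel.iso (Scheme.Modules.restrictFunctor U.ι) φ
  have hz : IsZero (cokernel ((Scheme.Modules.restrictFunctor U.ι).map φ)) := h.of_iso e.symm
  exact Preadditive.epi_of_cokernel_zero (hz.eq_of_tgt _ _)

lemma stalk_kernel_subsingleton {G F : X.Modules} (φ : G ⟶ F) (x : X)
    (hinj : Function.Injective ((S5849.Phi x).map φ)) :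
    Subsingleton ((kernel φ).presheaf.stalk x) := by
  have hι : Function.Injective ((S5849.Phi x).map (kernel.ι φ)) := by
    apply TopCat.Presheaf.stalkFunctor_map_injective_of_app_injective
    intro V
    exact FtLocal.app_injective_of_mono (kernel.ι φ) V
  have h0 : ∀ k : (S5849.Phi x).obj (kernel φ), k = 0 := by
    intro k
    apply hι
    apply hinj
    rw [← ConcreteCategory.comp_apply, ← Functor.map_comp, kernel.condition, map_zero, map_zero]
    exact S5852.Phi_map_zero x _ _ k
  exact ⟨fun a b => (h0 a).trans (h0 b).symm⟩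

theorem main (X : Scheme.{u}) [IsLocallyNoetherian X]
    (F G : X.Modules) (hF : Coh.IsCoh F) (hG : Coh.IsCoh G) (φ : G ⟶ F) (x : X) :
    (Subsingleton ↑(F.presheaf.stalk x) →
      ∃ U : X.Opens, x ∈ U ∧ IsZero ((Scheme.Modules.restrictFunctor U.ι).obj F)) ∧
    (Function.Injective ((TopCat.Presheaf.stalkFunctor _ x).map φ.mapPresheaf).hom →
      ∃ U : X.Opens, x ∈ U ∧ Mono ((Scheme.Modules.restrictFunctor U.ι).map φ)) ∧
    (Function.Bijective ((TopCat.Presheaf.stalkFunctor _ x).map φ.mapPresheaf).hom →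
      ∃ U : X.Opens, x ∈ U ∧ IsIso ((Scheme.Modules.restrictFunctor U.ι).map φ)) := by
  have hK : Coh.IsCoh (kernel φ) := FtLocal.isCoh_kernel hG hF φ
  have hC : Coh.IsCoh (cokernel φ) := FtLocal.isCoh_cokernel hG hF φ
  refine ⟨fun hsub => ?_, fun hinj => ?_, fun hbij => ?_⟩
  · obtain ⟨U, hxU, hU⟩ := exists_open_isZero F hF x hsub
    exact ⟨U, hxU, isZero_restrict F U hU⟩
  · have h1 : Subsingleton ((kernel φ).presheaf.stalk x) := stalk_kernel_subsingleton φ x hinj
    obtain ⟨U, hxU, hU⟩ := exists_open_isZero _ hK x h1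
    exact ⟨U, hxU, mono_restrict_of_isZero U φ (isZero_restrict _ U hU)⟩
  · have h1 : Subsingleton ((kernel φ).presheaf.stalk x) := stalk_kernel_subsingleton φ x hbij.1
    have h2 : Subsingleton ((cokernel φ).presheaf.stalk x) :=
      S5852.stalk_cokernel_subsingleton φ x hbij.2
    obtain ⟨U₁, hxU₁, hU₁⟩ := exists_open_isZero _ hK x h1
    obtain ⟨U₂, hxU₂, hU₂⟩ := exists_open_isZero _ hC x h2
    refine ⟨U₁ ⊓ U₂, ⟨hxU₁, hxU₂⟩, ?_⟩
    haveI := mono_restrict_of_isZero (U₁ ⊓ U₂) φ
      (isZero_restrict _ _ (fun y hy => hU₁ y hy.1))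
    haveI := epi_restrict_of_isZero (U₁ ⊓ U₂) φ
      (isZero_restrict _ _ (fun y hy => hU₂ y hy.2))
    exact isIso_of_mono_of_epi _


end


open CategoryTheory CategoryTheory.Limits AlgebraicGeometry in
/-- Let X be a locally Noetherian scheme, F and G coherent O_X-modules, φ : G → F a morphism and x ∈ X.
(1) If F_x = 0 there is an open neighbourhood U of x with F|_U = 0. (2) If the stalk map φ_x : G_x →
F_x is injective there is an open neighbourhood U of x with φ|_U injective. (4) If φ_x is bijective
there is an open neighbourhood U of x with φ|_U an isomorphism. (Part (3), surjectivity, is the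
finite-type statement valid on any ringed space and is not restated.) -/
theorem result (X : Scheme.{u}) [IsLocallyNoetherian X]
    (F G : X.Modules) (hF : Coh.IsCoh F) (hG : Coh.IsCoh G) (φ : G ⟶ F) (x : X) :
    (Subsingleton ↑(F.presheaf.stalk x) →
      ∃ U : X.Opens, x ∈ U ∧ IsZero ((Scheme.Modules.restrictFunctor U.ι).obj F)) ∧
    (Function.Injective ((TopCat.Presheaf.stalkFunctor _ x).map φ.mapPresheaf).hom →
      ∃ U : X.Opens, x ∈ U ∧ Mono ((Scheme.Modules.restrictFunctor U.ι).map φ)) ∧
    (Function.Bijective ((TopCat.Presheaf.stalkFunctor _ x).map φ.mapPresheaf).hom →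
      ∃ U : X.Opens, x ∈ U ∧ IsIso ((Scheme.Modules.restrictFunctor U.ι).map φ)) := by
  classical
  exact main X F G hF hG φ x

end Groth.Agent.S9525
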