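import Groth.Statements.S17647
import Mathlib
import Groth.Agent.S9525
import Groth.Agent.S17649
import Groth.Agent.Lib.Helper1.PushQc

set_option autoImplicit false
universe u
open CategoryTheory CategoryTheory.Limits AlgebraicGeometry
open QCohCat

namespace Groth.Agent.S17647

section
open CategoryTheory CategoryTheory.Limits AlgebraicGeometry
open Groth.Agent Groth.Agent.Helper1 TopologicalSpace

variable {X : Scheme.{u}}

lemma support_subset_iff (M : X.Modules) (U : X.Opens) :
    CohB1.support M ⊆ (↑U : Set X)ᶜ ↔
      IsZero ((Scheme.Modules.restrictFunctor U.ι).obj M) := by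
  constructor
  · intro h
    apply S9525.isZero_restrict
    intro y hy
    by_contra hns
    exact h hns hy
  · intro h y hy hyU
    apply hy
    have h0 : ∀ t : ToType (M.presheaf.stalk y), t = 0 := by
      intro t
      obtain ⟨W, hyW, s, rfl⟩ := TopCat.Presheaf.germ_exist M.presheaf t
      have h1 := TopCat.Presheaf.germ_res_apply M.presheaf
        (homOfLE (inf_le_left : W ⊓ U ≤ W)) y ⟨hyW, hyU⟩ s
      rw [← h1]
      have hs : (M.presheaf.map (homOfLE (inf_le_left : W ⊓ U ≤ W)).op) s = 0 :=
        S17649.sections_zero_of_isZero_restrict M U h (W ⊓ U) inf_le_right _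
      rw [hs, map_zero]
    exact ⟨fun a b => (h0 a).trans (h0 b).symm⟩

lemma mono_restrict_iff (U : X.Opens) {G F : X.Modules} (φ : G ⟶ F) :
    Mono ((Scheme.Modules.restrictFunctor U.ι).map φ) ↔
      IsZero ((Scheme.Modules.restrictFunctor U.ι).obj (kernel φ)) := by
  haveI := S9525.restrict_additive U
  constructor
  · intro hm
    have e := PreservesKernel.iso (Scheme.Modules.restrictFunctor U.ι) φ
    exact (isZero_kernel_of_mono _).of_iso e
  · exact S9525.mono_restrict_of_isZero U φ

lemma epi_restrict_iff (U : X.Opens) {G F : X.Modules} (φ : G ⟶ F) :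
    Epi ((Scheme.Modules.restrictFunctor U.ι).map φ) ↔
      IsZero ((Scheme.Modules.restrictFunctor U.ι).obj (cokernel φ)) := by
  haveI := S9525.restrict_additive U
  constructor
  · intro hm
    have e := PreservesCokernel.iso (Scheme.Modules.restrictFunctor U.ι) φ
    exact (isZero_cokernel_of_epi _).of_iso e
  · exact S9525.epi_restrict_of_isZero U φ

noncomputable def Lfun (U : X.Opens) : QCohCat.QCoh X ⥤ QCohCat.QCoh (↑U : Scheme.{u}) :=
  ObjectProperty.lift (QCohCat.isQCoh (↑U : Scheme.{u}))
        (ObjectProperty.ι (QCohCat.isQCoh X) ⋙ Scheme.Modules.restrictFunctor U.ι)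
        (fun M => @Scheme.Modules.isQuasicoherent_restrictFunctor (↑U : Scheme.{u}) X U.ι
          inferInstance M.obj M.property)

noncomputable def Rfun (U : X.Opens) [QuasiCompact U.ι] :
    QCohCat.QCoh (↑U : Scheme.{u}) ⥤ QCohCat.QCoh X :=
  ObjectProperty.lift (QCohCat.isQCoh X)
    (ObjectProperty.ι (QCohCat.isQCoh (↑U : Scheme.{u})) ⋙ Scheme.Modules.pushforward U.ι)
    (fun M => by
      haveI : (M.obj : (↑U : Scheme.{u}).Modules).IsQuasicoherent := M.property
      exact PushQc.isQuasicoherent_pushforward U.ι M.obj)

noncomputable def adj (U : X.Opens) [QuasiCompact U.ι] : Lfun U ⊣ Rfun U :=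
  (Scheme.Modules.restrictAdjunction U.ι).restrictFullyFaithful
    (ObjectProperty.fullyFaithfulι _) (ObjectProperty.fullyFaithfulι _) (Iso.refl _) (Iso.refl _)

instance (U : X.Opens) [QuasiCompact U.ι] : (Rfun U).Full := by
  unfold Rfun; infer_instance

instance (U : X.Opens) [QuasiCompact U.ι] : (Rfun U).Faithful := by
  unfold Rfun; infer_instance

theorem main (X : Scheme.{u}) (U : X.Opens) [QuasiCompact U.ι] :
    (Lfun U).IsLocalization (fun (A B : QCohCat.QCoh X) (f : A ⟶ B) =>
        CohB1.support (kernel f.hom) ⊆ (↑U : Set X)ᶜ ∧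
          CohB1.support (cokernel f.hom) ⊆ (↑U : Set X)ᶜ) := by
  have h := (adj U).isLocalization
  have hW : ((MorphismProperty.isomorphisms _).inverseImage (Lfun U)) =
      (fun (A B : QCohCat.QCoh X) (f : A ⟶ B) =>
        CohB1.support (kernel f.hom) ⊆ (↑U : Set X)ᶜ ∧
          CohB1.support (cokernel f.hom) ⊆ (↑U : Set X)ᶜ) := by
    ext A B f
    rw [MorphismProperty.inverseImage_iff, MorphismProperty.isomorphisms.iff]
    rw [← isIso_iff_of_reflects_iso ((Lfun U).map f) (ObjectProperty.ι _)]
    change IsIso ((Scheme.Modules.restrictFunctor U.ι).map f.hom) ↔ _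
    rw [isIso_iff_mono_and_epi, mono_restrict_iff, epi_restrict_iff,
      support_subset_iff, support_subset_iff]
  rw [hW] at h
  exact h


end


/-- Let X be a scheme and U ⊆ X an open subset whose inclusion U ⟶ X is quasi-compact, Z = X ∖ U. Then
the restriction functor QCoh(X) ⥤ QCoh(U) between the categories of quasi-coherent modules is a
localization functor for the class of morphisms of quasi-coherent O_X-modules whose kernel and
cokernel (computed in O_X-modules) have support contained in Z: the category QCoh(U) is the quotient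
of QCoh(X) by the localizing subcategory of quasi-coherent modules supported in Z, the direct image
along U ⟶ X being the fully faithful right adjoint. No hypothesis is made on X beyond the
quasi-compactness of U ⟶ X. -/
theorem result (X : Scheme.{u})
    (U : X.Opens) [QuasiCompact U.ι] :
    (ObjectProperty.lift (QCohCat.isQCoh (↑U : Scheme.{u}))
        (ObjectProperty.ι (QCohCat.isQCoh X) ⋙ Scheme.Modules.restrictFunctor U.ι)
        (fun M => @Scheme.Modules.isQuasicoherent_restrictFunctor (↑U : Scheme.{u}) X U.ι
          inferInstance M.obj M.property)).IsLocalization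
      (fun (A B : QCohCat.QCoh X) (f : A ⟶ B) =>
        CohB1.support (kernel f.hom) ⊆ (↑U : Set X)ᶜ ∧
          CohB1.support (cokernel f.hom) ⊆ (↑U : Set X)ᶜ) := by
  classical
  exact main X U

end Groth.Agent.S17647
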