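import Groth.Statements.S17648
import Mathlib
import Groth.Statements.S17648
-- import your own Groth.Agent.* helpers here

set_option autoImplicit false
universe w v u
open CategoryTheory CategoryTheory.Limits
open GabLoc

namespace Groth.Agent.S17648

open CategoryTheory CategoryTheory.Limits
open GabLoc
namespace Aux
set_option linter.style.haveILetI false
set_option linter.unusedSectionVars false

open ZeroObject

variable {C : Type u} [Category.{v} C] [Abelian C] [IsGrothendieckAbelian.{w} C]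

/-! ### subquotients of coproducts -/

lemma SQ_of_epi (P : ObjectProperty C) {A A' : C} (f : A ⟶ A') [Epi f]
    (h : GabLoc.subquotCoprod.{w} P A) : GabLoc.subquotCoprod.{w} P A' := by
  obtain ⟨J, X, hX, B, i, p, hi, hp⟩ := h
  haveI := hp
  exact ⟨J, X, hX, B, i, p ≫ f, hi, inferInstance⟩

lemma SQ_of_mono (P : ObjectProperty C) {A A' : C} (f : A' ⟶ A) [Mono f]
    (h : GabLoc.subquotCoprod.{w} P A) : GabLoc.subquotCoprod.{w} P A' := by
  obtain ⟨J, X, hX, B, i, p, hi, hp⟩ := h
  haveI := hi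
  haveI := hp
  exact ⟨J, X, hX, pullback p f, pullback.fst p f ≫ i, pullback.snd p f, inferInstance,
    inferInstance⟩

lemma SQ_of_isZero (P : ObjectProperty C) {A : C} (hA : IsZero A) :
    GabLoc.subquotCoprod.{w} P A := by
  refine ⟨PEmpty.{w + 1}, fun j => (j.elim : C), fun j => j.elim, 0, 0, 0, ?_, ?_⟩
  · exact ⟨fun a b _ => (isZero_zero C).eq_of_tgt a b⟩
  · exact ⟨fun a b _ => hA.eq_of_src a b⟩

lemma SQ_of_prop (P : ObjectProperty C) {A : C} (hA : P A) :
    GabLoc.subquotCoprod.{w} P A := by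
  refine ⟨PUnit.{w + 1}, fun _ => A, fun _ => hA, A,
    Sigma.ι (fun _ : PUnit.{w + 1} => A) PUnit.unit, 𝟙 A, ?_, inferInstance⟩
  exact (SplitMono.mk (Sigma.desc fun _ => 𝟙 A) (by simp)).mono

/-! ### the class `Rq` -/

/-- every nonzero quotient has a nonzero subobject which is a subquotient of a coproduct -/
def Rq (P : ObjectProperty C) : ObjectProperty C := fun X =>
  ∀ ⦃Z : C⦄ (q : X ⟶ Z), Epi q → ¬ IsZero Z →
    ∃ (S : C) (s : S ⟶ Z), Mono s ∧ ¬ IsZero S ∧ GabLoc.subquotCoprod.{w} P S

lemma Rq_hom (P : ObjectProperty C) {X Z : C} (hX : Rq.{w} P X) (φ : X ⟶ Z) (hφ : φ ≠ 0) :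
    ∃ (S : C) (s : S ⟶ Z), Mono s ∧ ¬ IsZero S ∧ GabLoc.subquotCoprod.{w} P S := by
  have hI : ¬ IsZero (Abelian.image φ) := by
    intro h
    apply hφ
    have h0 : Abelian.factorThruImage φ = 0 := h.eq_of_tgt _ _
    rw [← Abelian.image.fac φ, h0, zero_comp]
  obtain ⟨S, s, hs, hS, hT⟩ := hX (Abelian.factorThruImage φ) inferInstance hI
  haveI := hs
  exact ⟨S, s ≫ Abelian.image.ι φ, inferInstance, hS, hT⟩

lemma Rq_of_isZero (P : ObjectProperty C) {X : C} (hX : IsZero X) : Rq.{w} P X := by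
  intro Z q hq hZ
  haveI := hq
  exact absurd (IsZero.of_epi_eq_zero q (hX.eq_of_src q 0)) hZ

lemma Rq_of_epi (P : ObjectProperty C) {X Y : C} (f : X ⟶ Y) [Epi f] (hX : Rq.{w} P X) :
    Rq.{w} P Y := by
  intro Z q hq hZ
  haveI := hq
  exact hX (f ≫ q) inferInstance hZ

lemma P_le_Rq (P : ObjectProperty C) : P ≤ Rq.{w} P := by
  intro X hX Z q hq hZ
  haveI := hq
  exact ⟨Z, 𝟙 Z, inferInstance, hZ, SQ_of_epi P q (SQ_of_prop P hX)⟩

lemma Rq_coprod (P : ObjectProperty C) (J : Type w) :
    (Rq.{w} P).IsClosedUnderColimitsOfShape (Discrete J) := by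
  refine ⟨fun X ⟨h⟩ => ?_⟩
  intro Z q hq hZ
  haveI := hq
  have hex : ∃ j, h.ι.app j ≫ q ≠ 0 := by
    by_contra hcon
    push Not at hcon
    apply hZ
    have hq0 : q = 0 := h.isColimit.hom_ext (fun j => by
      dsimp
      rw [hcon j, comp_zero])
    exact IsZero.of_epi_eq_zero q hq0
  obtain ⟨j, hj⟩ := hex
  exact Rq_hom P (h.prop_diag_obj j) _ hj

lemma Rq_ext (P : ObjectProperty C) {S : ShortComplex C} (hS : S.ShortExact)
    (h₁ : Rq.{w} P S.X₁) (h₃ : Rq.{w} P S.X₃) : Rq.{w} P S.X₂ := by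
  intro Z q hq hZ
  haveI := hq
  by_cases h : S.f ≫ q = 0
  · haveI := hS.epi_g
    have hq' : S.g ≫ hS.exact.desc q h = q := hS.exact.g_desc q h
    haveI : Epi (hS.exact.desc q h) := epi_of_epi_fac hq'
    exact h₃ (hS.exact.desc q h) inferInstance hZ
  · exact Rq_hom P h₁ _ h

/-! ### enlarging a subobject -/

lemma isIso_ofLE_of_eq {X : C} {A A' : Subobject X} (h : A = A') (hle : A ≤ A') :
    IsIso (Subobject.ofLE A A' hle) := by
  subst h
  rw [Subobject.ofLE_refl]
  infer_instance

lemma SQ_cokernel_ofLE_congr (P : ObjectProperty C) {X : C} {A A' A'' : Subobject X}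
    (h : A' = A'') (hle : A ≤ A') (hle' : A ≤ A'')
    (hT : GabLoc.subquotCoprod.{w} P (cokernel (Subobject.ofLE A A' hle))) :
    GabLoc.subquotCoprod.{w} P (cokernel (Subobject.ofLE A A'' hle')) := by
  subst h
  exact hT

lemma exists_larger (P : ObjectProperty C) {X : C} (A : Subobject X) {S : C}
    (s : S ⟶ cokernel A.arrow) [Mono s] (hS : ¬ IsZero S)
    (hT : GabLoc.subquotCoprod.{w} P S) :
    ∃ (A' : Subobject X) (h : A < A'),
      GabLoc.subquotCoprod.{w} P (cokernel (Subobject.ofLE A A' h.le)) := by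
  obtain ⟨fst, hfst⟩ : ∃ fst : pullback (cokernel.π A.arrow) s ⟶ X,
    fst = pullback.fst (cokernel.π A.arrow) s := ⟨_, rfl⟩
  obtain ⟨snd, hsnd⟩ : ∃ snd : pullback (cokernel.π A.arrow) s ⟶ S,
    snd = pullback.snd (cokernel.π A.arrow) s := ⟨_, rfl⟩
  haveI : Mono fst := by rw [hfst]; infer_instance
  haveI : Epi snd := by rw [hsnd]; infer_instance
  have hcond : fst ≫ cokernel.π A.arrow = snd ≫ s := by
    rw [hfst, hsnd]; exact pullback.condition
  let a : (A : C) ⟶ pullback (cokernel.π A.arrow) s :=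
    pullback.lift A.arrow 0 (by simp)
  have ha1 : a ≫ fst = A.arrow := by rw [hfst]; exact pullback.lift_fst _ _ _
  have ha2 : a ≫ snd = 0 := by rw [hsnd]; exact pullback.lift_snd _ _ _
  haveI : Mono a := mono_of_mono_fac ha1
  have hker : IsLimit (KernelFork.ofι a ha2) := by
    refine KernelFork.IsLimit.ofι' _ _ (fun {W} t ht => ?_)
    have h1 : (t ≫ fst) ≫ cokernel.π A.arrow = 0 := by
      rw [Category.assoc, hcond, ← Category.assoc, ht, zero_comp]
    refine ⟨Abelian.monoLift A.arrow (t ≫ fst) h1, ?_⟩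
    rw [← cancel_mono fst, Category.assoc, ha1, Abelian.monoLift_comp]
  have hcok : IsColimit (CokernelCofork.ofπ snd ha2) :=
    Abelian.epiIsCokernelOfKernel _ hker
  have hle : A ≤ Subobject.mk fst := Subobject.le_mk_of_comm a ha1
  have hfac : Subobject.ofLE A (Subobject.mk fst) hle ≫ (Subobject.underlyingIso fst).hom = a := by
    rw [← cancel_mono fst, Category.assoc, Subobject.underlyingIso_hom_comp_eq_mk,
      Subobject.ofLE_arrow, ha1]
  have hne : A ≠ Subobject.mk fst := by
    intro heq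
    apply hS
    haveI := isIso_ofLE_of_eq heq hle
    haveI : IsIso a := by rw [← hfac]; infer_instance
    have : snd = 0 := by
      rw [← cancel_epi a, ha2, comp_zero]
    exact IsZero.of_epi_eq_zero snd this
  refine ⟨Subobject.mk fst, lt_of_le_of_ne hle hne, ?_⟩
  let ψ : pullback (cokernel.π A.arrow) s ⟶ cokernel (Subobject.ofLE A (Subobject.mk fst) hle) :=
    (Subobject.underlyingIso fst).inv ≫ cokernel.π _
  have hψ : a ≫ ψ = 0 := by
    rw [← hfac]
    simp [ψ]
  obtain ⟨d, hd⟩ := CokernelCofork.IsColimit.desc' hcok ψ hψ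
  have hd' : snd ≫ d = ψ := hd
  haveI : Epi ψ := by dsimp only [ψ]; infer_instance
  haveI : Epi d := epi_of_epi_fac hd'
  exact SQ_of_epi P d hT

lemma exists_step (P : ObjectProperty C) {X : C} (hX : Rq.{w} P X) (A : Subobject X)
    (hA : A ≠ ⊤) :
    ∃ (A' : Subobject X) (h : A < A'),
      GabLoc.subquotCoprod.{w} P (cokernel (Subobject.ofLE A A' h.le)) := by
  have hZ : ¬ IsZero (cokernel A.arrow) := by
    intro h
    apply hA
    haveI : Epi A.arrow := Preadditive.epi_of_isZero_cokernel _ h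
    haveI : IsIso A.arrow := isIso_of_mono_of_epi _
    exact (Subobject.isIso_arrow_iff_eq_top A).1 inferInstance
  obtain ⟨S, s, hs, hS, hT⟩ := hX (cokernel.π A.arrow) inferInstance hZ
  haveI := hs
  exact exists_larger P A s hS hT

open scoped Classical in
/-- the step function -/
noncomputable def stepFn (P : ObjectProperty C) {X : C} (hX : Rq.{w} P X) (A : Subobject X) :
    Subobject X :=
  if hA : A = ⊤ then ⊤ else (exists_step P hX A hA).choose

lemma stepFn_top (P : ObjectProperty C) {X : C} (hX : Rq.{w} P X) :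
    stepFn P hX (⊤ : Subobject X) = ⊤ := dif_pos rfl

lemma lt_stepFn (P : ObjectProperty C) {X : C} (hX : Rq.{w} P X) (A : Subobject X)
    (hA : A ≠ ⊤) : A < stepFn P hX A := by
  dsimp only [stepFn]
  rw [dif_neg hA]
  exact (exists_step P hX A hA).choose_spec.choose

lemma le_stepFn (P : ObjectProperty C) {X : C} (hX : Rq.{w} P X) (A : Subobject X) :
    A ≤ stepFn P hX A := by
  by_cases hA : A = ⊤
  · subst hA
    rw [stepFn_top]
  · exact (lt_stepFn P hX A hA).le

lemma mem_stepFn (P : ObjectProperty C) {X : C} (hX : Rq.{w} P X) (A : Subobject X) :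
    GabLoc.monoModSubquot.{w} P (Subobject.ofLE A (stepFn P hX A) (le_stepFn P hX A)) := by
  refine ⟨inferInstance, ?_⟩
  by_cases hA : A = ⊤
  · haveI := isIso_ofLE_of_eq (by rw [hA, stepFn_top]) (le_stepFn P hX A)
    exact SQ_of_isZero P (isZero_cokernel_of_epi _)
  · exact SQ_cokernel_ofLE_congr P (by simp [stepFn, dif_neg hA]) _ _
      (exists_step P hX A hA).choose_spec.choose_spec

/-! ### transfinite iteration in the lattice of subobjects (after Mathlib's
`generatingMonomorphisms`) -/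

section Iter

variable {X : C}

lemma top_mem_range' (φ : Subobject X → Subobject X) (hφ' : ∀ A, A ≠ ⊤ → A < φ A)
    (hφtop : φ ⊤ = ⊤) (A₀ : Subobject X) {J : Type w} [LinearOrder J] [OrderBot J]
    [SuccOrder J] [WellFoundedLT J] (hJ : HasCardinalLT (Subobject X) (Cardinal.mk J)) :
    ∃ (j : J), transfiniteIterate φ j A₀ = ⊤ :=
  top_mem_range_transfiniteIterate φ A₀ hφ' hφtop
    (fun h ↦ by simpa [hasCardinalLT_iff_cardinal_mk_lt] using hJ.of_injective _ h)

lemma exists_ordinal' (φ : Subobject X → Subobject X) (hφ' : ∀ A, A ≠ ⊤ → A < φ A)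
    (hφtop : φ ⊤ = ⊤) (A₀ : Subobject X) :
    ∃ (o : Ordinal.{w}) (j : o.ToType), transfiniteIterate φ j A₀ = ⊤ := by
  let κ := Order.succ (Cardinal.mk (Shrink.{w} (Subobject X)))
  have : Nonempty κ.ord.ToType := by simp [κ]
  have := WellFoundedLT.toOrderBot κ.ord.ToType
  exact ⟨κ.ord, top_mem_range' φ hφ' hφtop A₀
    (lt_of_lt_of_le (Order.lt_succ _) (by simp [κ]))⟩

/-- the functor to `MonoOver X` -/
@[simps]
noncomputable def functorToMonoOver (φ : Subobject X → Subobject X) (hφ : ∀ A, A ≤ φ A)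
    (A₀ : Subobject X) (J : Type w) [LinearOrder J] [OrderBot J] [SuccOrder J]
    [WellFoundedLT J] : J ⥤ MonoOver X where
  obj j := MonoOver.mk (transfiniteIterate φ j A₀).arrow
  map {j j'} f := MonoOver.homMk (Subobject.ofLE _ _
      (monotone_transfiniteIterate _ _ hφ (leOfHom f)))

/-- the functor to `C` -/
noncomputable abbrev iterFunctor (φ : Subobject X → Subobject X) (hφ : ∀ A, A ≤ φ A)
    (A₀ : Subobject X) (J : Type w) [LinearOrder J] [OrderBot J] [SuccOrder J]
    [WellFoundedLT J] : J ⥤ C :=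
  functorToMonoOver φ hφ A₀ J ⋙ MonoOver.forget _ ⋙ Over.forget _

set_option backward.defeqAttrib.useBackward true in
instance (φ : Subobject X → Subobject X) (hφ : ∀ A, A ≤ φ A)
    (A₀ : Subobject X) (J : Type w) [LinearOrder J] [OrderBot J] [SuccOrder J]
    [WellFoundedLT J] : (iterFunctor φ hφ A₀ J).IsWellOrderContinuous where
  nonempty_isColimit m hm := ⟨by
    have := hm.nonempty_Iio.to_subtype
    let c := (Set.principalSegIio m).cocone (functorToMonoOver φ hφ A₀ J ⋙ MonoOver.forget _)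
    have : Mono c.pt.hom := by dsimp [c]; infer_instance
    apply IsGrothendieckAbelian.isColimitMapCoconeOfSubobjectMkEqISup
      ((Set.principalSegIio m).monotone.functor ⋙ functorToMonoOver φ hφ A₀ J) c
    dsimp [c]
    simp only [Subobject.mk_arrow]
    exact transfiniteIterate_limit φ A₀ m hm⟩

set_option backward.isDefEq.respectTransparency.types false in
set_option backward.defeqAttrib.useBackward true in
/-- transfinite composition from the bottom -/
noncomputable def tcMapFromBot (φ : Subobject X → Subobject X) (hφ : ∀ A, A ≤ φ A)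
    (W : MorphismProperty C) (hW : ∀ A, W (Subobject.ofLE A (φ A) (hφ A)))
    (A₀ : Subobject X) {J : Type w} [LinearOrder J] [OrderBot J] [SuccOrder J]
    [WellFoundedLT J] (j : J) :
    W.TransfiniteCompositionOfShape (Set.Iic j)
    ((iterFunctor φ hφ A₀ J).map (homOfLE bot_le : ⊥ ⟶ j)) where
  F := (Set.initialSegIic j).monotone.functor ⋙ iterFunctor φ hφ A₀ J
  isoBot := Iso.refl _
  incl :=
    { app k := (iterFunctor φ hφ A₀ J).map (homOfLE k.2)
      naturality k k' h := by simp [MonoOver.forget] }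
  isColimit := colimitOfDiagramTerminal isTerminalTop _
  map_mem k hk := by
    dsimp [MonoOver.forget]
    convert!
      hW (transfiniteIterate φ k.1 A₀) using 2
    all_goals
      rw [Set.Iic.succ_eq_of_not_isMax hk,
        transfiniteIterate_succ _ _ _ (Set.not_isMax_coe _ hk)]

set_option backward.defeqAttrib.useBackward true in
set_option backward.isDefEq.respectTransparency false in
/-- transfinite composition when the top is reached -/
noncomputable def tcOfEqTop (φ : Subobject X → Subobject X) (hφ : ∀ A, A ≤ φ A)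
    (W : MorphismProperty C) (hW : ∀ A, W (Subobject.ofLE A (φ A) (hφ A)))
    {A : C} {f : A ⟶ X} [Mono f]
    {J : Type w} [LinearOrder J] [OrderBot J] [SuccOrder J] [WellFoundedLT J] {j : J}
    (hj : transfiniteIterate φ j (Subobject.mk f) = ⊤) :
    W.TransfiniteCompositionOfShape (Set.Iic j) f := by
  let t := transfiniteIterate φ j (Subobject.mk f)
  have := (Subobject.isIso_arrow_iff_eq_top t).2 hj
  apply (tcMapFromBot φ hφ W hW (Subobject.mk f) j).ofArrowIso
  refine Arrow.isoMk ((Subobject.isoOfEq _ _ (transfiniteIterate_bot _ _) ≪≫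
    Subobject.underlyingIso f)) (asIso t.arrow) ?_
  dsimp [MonoOver.forget]
  rw [Category.assoc, Subobject.underlyingIso_hom_comp_eq_mk, Subobject.ofLE_arrow,
    Subobject.ofLE_arrow]

end Iter

theorem filtration_of_Rq (P : ObjectProperty C) {X : C} (hX : Rq.{w} P X) :
    MorphismProperty.transfiniteCompositions.{w} (GabLoc.monoModSubquot.{w} P)
      (0 : (0 : C) ⟶ X) := by
  haveI : Mono (0 : (0 : C) ⟶ X) := ⟨fun a b _ => (isZero_zero C).eq_of_tgt a b⟩
  obtain ⟨o, j, hj⟩ := exists_ordinal' (stepFn P hX) (lt_stepFn P hX) (stepFn_top P hX)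
    (Subobject.mk (0 : (0 : C) ⟶ X))
  have : Nonempty o.ToType := ⟨j⟩
  have : OrderBot o.ToType := WellFoundedLT.toOrderBot _
  exact MorphismProperty.transfiniteCompositionsOfShape_le_transfiniteCompositions _ _ _
    ⟨tcOfEqTop (stepFn P hX) (le_stepFn P hX) _ (mem_stepFn P hX) hj⟩


/-! ### closure of `Rq` under subobjects -/

lemma inf_eq_bot_iff_mono {X Z : C} (ι : Z ⟶ X) [Mono ι] (W : Subobject X) :
    W ⊓ Subobject.mk ι = ⊥ ↔ Mono (W.arrow ≫ cokernel.π ι) := by
  constructor
  · intro h0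
    apply Preadditive.mono_of_cancel_zero
    intro T g hg
    have hg' : (g ≫ W.arrow) ≫ cokernel.π ι = 0 := by rw [Category.assoc]; exact hg
    have hl : Abelian.monoLift ι (g ≫ W.arrow) hg' ≫ ι = g ≫ W.arrow :=
      Abelian.monoLift_comp _ _ _
    have hfac : (W ⊓ Subobject.mk ι).Factors (g ≫ W.arrow) := by
      rw [Subobject.inf_factors]
      refine ⟨Subobject.factors_comp_arrow g, ?_⟩
      exact (Subobject.mk_factors_iff ι _).2 ⟨Abelian.monoLift ι (g ≫ W.arrow) hg', hl⟩
    rw [h0, Subobject.bot_factors_iff_zero] at hfac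
    exact (cancel_mono W.arrow).1 (by rw [hfac, zero_comp])
  · intro hm
    have h1 : (W ⊓ Subobject.mk ι).arrow ≫ cokernel.π ι = 0 := by
      rw [← Subobject.ofLE_arrow (inf_le_right : W ⊓ Subobject.mk ι ≤ Subobject.mk ι),
        ← Subobject.underlyingIso_hom_comp_eq_mk, Category.assoc, Category.assoc,
        cokernel.condition, comp_zero, comp_zero]
    have h2 : Subobject.ofLE (W ⊓ Subobject.mk ι) W inf_le_left ≫ (W.arrow ≫ cokernel.π ι) = 0 := by
      rw [← Category.assoc, Subobject.ofLE_arrow, h1]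
    have h3 : Subobject.ofLE (W ⊓ Subobject.mk ι) W inf_le_left = 0 := by
      rw [← cancel_mono (W.arrow ≫ cokernel.π ι), h2, zero_comp]
    have h4 : (W ⊓ Subobject.mk ι).arrow = 0 := by
      rw [← Subobject.ofLE_arrow (inf_le_left : W ⊓ Subobject.mk ι ≤ W), h3, zero_comp]
    rw [← Subobject.mk_arrow (W ⊓ Subobject.mk ι)]
    exact Subobject.mk_eq_bot_iff_zero.2 h4

/-- index type for chains -/
structure ChainIdx {X : C} (c : Set (Subobject X)) : Type w where
  /-- the value -/
  val : Shrink.{w} c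

set_option backward.defeqAttrib.useBackward true in
set_option backward.isDefEq.respectTransparency false in
lemma sSup_inf_eq_bot_of_chain {X Z : C} (ι : Z ⟶ X) [Mono ι] (c : Set (Subobject X))
    (hc : IsChain (· ≤ ·) c) (hne : c.Nonempty)
    (h : ∀ W ∈ c, W ⊓ Subobject.mk ι = ⊥) : sSup c ⊓ Subobject.mk ι = ⊥ := by
  let e : ChainIdx.{w} c → c := fun j => (equivShrink c).symm j.val
  have he : ∀ (W : Subobject X) (hW : W ∈ c), (e ⟨equivShrink c ⟨W, hW⟩⟩).1 = W := by
    intro W hW
    simp [e]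
  letI : Preorder (ChainIdx.{w} c) := Preorder.lift (fun j => (e j).1)
  haveI : IsDirected (ChainIdx.{w} c) (· ≤ ·) := ⟨fun j₁ j₂ => by
    rcases hc.total (e j₁).2 (e j₂).2 with h12 | h21
    · exact ⟨j₂, h12, le_refl _⟩
    · exact ⟨j₁, le_refl _, h21⟩⟩
  haveI : Nonempty (ChainIdx.{w} c) := by
    obtain ⟨W, hW⟩ := hne
    exact ⟨⟨equivShrink c ⟨W, hW⟩⟩⟩
  let F : ChainIdx.{w} c ⥤ MonoOver X :=
    { obj := fun j => MonoOver.mk (e j).1.arrow
      map := fun {j j'} f => MonoOver.homMk (Subobject.ofLE _ _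
        (show (e j).1 ≤ (e j').1 from (leOfHom f : j ≤ j'))) }
  let f : colimit (F ⋙ MonoOver.forget X ⋙ Over.forget X) ⟶ X :=
    colimit.desc _ (Cocone.mk X
      { app j := (F.obj j).obj.hom
        naturality {j j'} g := by simp [MonoOver.forget] })
  haveI := IsGrothendieckAbelian.mono_of_isColimit_monoOver F (colimit.isColimit _) f (by simp [f])
  have hsup := IsGrothendieckAbelian.subobjectMk_of_isColimit_eq_iSup F (colimit.isColimit _) f
    (by simp [f])
  have hsup' : Subobject.mk f = sSup c := by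
    rw [hsup]
    apply le_antisymm
    · refine iSup_le (fun j => ?_)
      dsimp [F]
      rw [Subobject.mk_arrow]
      exact le_sSup (e j).2
    · refine sSup_le (fun W hW => ?_)
      refine le_iSup_of_le (⟨equivShrink c ⟨W, hW⟩⟩ : ChainIdx.{w} c) ?_
      dsimp [F]
      rw [Subobject.mk_arrow, he W hW]
  -- the colimit maps monomorphically to the cokernel
  haveI hm : ∀ j, Mono ((e j).1.arrow ≫ cokernel.π ι) := fun j =>
    (inf_eq_bot_iff_mono ι (e j).1).1 (h _ (e j).2)
  let α : F ⋙ MonoOver.forget X ⋙ Over.forget X ⟶ (Functor.const _).obj (cokernel ι) :=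
    { app j := (e j).1.arrow ≫ cokernel.π ι
      naturality {j j'} g := by
        dsimp [F, MonoOver.forget]
        simp }
  haveI : ∀ j, Mono (α.app j) := fun j => hm j
  haveI : IsConnected (ChainIdx.{w} c) := IsFiltered.isConnected _
  haveI := NatTrans.mono_of_mono_app α
  haveI : Mono (f ≫ cokernel.π ι) :=
    colim.map_mono' α (colimit.isColimit _) (isColimitConstCocone _ _) (f ≫ cokernel.π ι)
      (fun j => by simp [f, α, F])
  rw [← hsup', inf_eq_bot_iff_mono, ← Subobject.underlyingIso_hom_comp_eq_mk, Category.assoc]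
  infer_instance

lemma exists_SQ_sub_of_mono (P : ObjectProperty C) {X Z : C} (ι : Z ⟶ X) [Mono ι]
    (hZ : ¬ IsZero Z) (hX : Rq.{w} P X) :
    ∃ (S : C) (s : S ⟶ Z), Mono s ∧ ¬ IsZero S ∧ GabLoc.subquotCoprod.{w} P S := by
  have hZ' : Subobject.mk ι ≠ ⊥ := by
    intro h
    apply hZ
    exact IsZero.of_mono_eq_zero ι (Subobject.mk_eq_bot_iff_zero.1 h)
  obtain ⟨W₁, hW₁⟩ : ∃ m, Maximal (· ∈ {W : Subobject X | W ⊓ Subobject.mk ι = ⊥}) m := by
    apply zorn_le₀
    intro c hcS hc
    by_cases hne : c.Nonempty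
    · exact ⟨sSup c, sSup_inf_eq_bot_of_chain ι c hc hne (fun W hW => hcS hW),
        fun W hW => le_sSup hW⟩
    · rw [Set.not_nonempty_iff_eq_empty] at hne
      subst hne
      exact ⟨⊥, bot_inf_eq _, fun W hW => by simp at hW⟩
  have h1 : W₁ ⊓ Subobject.mk ι = ⊥ := hW₁.1
  have hW₁top : W₁ ≠ ⊤ := by
    intro h
    rw [h, top_inf_eq] at h1
    exact hZ' h1
  obtain ⟨W₂, hlt, hSQ⟩ := exists_step P hX W₁ hW₁top
  have h2 : W₂ ⊓ Subobject.mk ι ≠ ⊥ := by
    intro h
    exact absurd (hW₁.2 h hlt.le) (not_le_of_gt hlt)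
  have hNZ : W₂ ⊓ Subobject.mk ι ≤ Subobject.mk ι := inf_le_right
  let s : ((W₂ ⊓ Subobject.mk ι : Subobject X) : C) ⟶ Z :=
    Subobject.ofLE _ _ hNZ ≫ (Subobject.underlyingIso ι).hom
  have hs : s ≫ ι = (W₂ ⊓ Subobject.mk ι).arrow := by
    dsimp only [s]
    rw [Category.assoc, Subobject.underlyingIso_hom_comp_eq_mk, Subobject.ofLE_arrow]
  haveI : Mono s := mono_of_mono_fac hs
  refine ⟨_, s, inferInstance, ?_, ?_⟩
  · intro hN
    apply h2
    have h0 : (W₂ ⊓ Subobject.mk ι).arrow = 0 := hN.eq_of_src _ _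
    rw [← Subobject.mk_arrow (W₂ ⊓ Subobject.mk ι)]
    exact Subobject.mk_eq_bot_iff_zero.2 h0
  · let m : ((W₂ ⊓ Subobject.mk ι : Subobject X) : C) ⟶ (W₂ : C) :=
      Subobject.ofLE _ W₂ inf_le_left
    haveI : Mono (m ≫ cokernel.π (Subobject.ofLE W₁ W₂ hlt.le)) := by
      apply Preadditive.mono_of_cancel_zero
      intro T g hg
      have hg' : (g ≫ m) ≫ cokernel.π (Subobject.ofLE W₁ W₂ hlt.le) = 0 := by
        rw [Category.assoc]; exact hg
      have hl : Abelian.monoLift (Subobject.ofLE W₁ W₂ hlt.le) (g ≫ m) hg' ≫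
          Subobject.ofLE W₁ W₂ hlt.le = g ≫ m := Abelian.monoLift_comp _ _ _
      have hfac : (W₁ ⊓ Subobject.mk ι).Factors (g ≫ (W₂ ⊓ Subobject.mk ι).arrow) := by
        rw [Subobject.inf_factors]
        constructor
        · have : g ≫ (W₂ ⊓ Subobject.mk ι).arrow =
              Abelian.monoLift (Subobject.ofLE W₁ W₂ hlt.le) (g ≫ m) hg' ≫ W₁.arrow := by
            rw [← Subobject.ofLE_arrow hlt.le, ← Category.assoc, hl, Category.assoc]
            dsimp only [m]
            rw [Subobject.ofLE_arrow]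
          rw [this]
          exact Subobject.factors_comp_arrow _
        · exact Subobject.factors_of_le _ hNZ (Subobject.factors_comp_arrow g)
      rw [h1, Subobject.bot_factors_iff_zero] at hfac
      exact (cancel_mono (W₂ ⊓ Subobject.mk ι).arrow).1 (by rw [hfac, zero_comp])
    exact SQ_of_mono P (m ≫ cokernel.π (Subobject.ofLE W₁ W₂ hlt.le)) hSQ

lemma Rq_of_mono (P : ObjectProperty C) {X Y : C} (ι : Y ⟶ X) [Mono ι] (hX : Rq.{w} P X) :
    Rq.{w} P Y := by
  intro Z q hq hZ
  haveI := hq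
  have hX' : Rq.{w} P (pushout ι q) := Rq_of_epi P (pushout.inl ι q) hX
  exact exists_SQ_sub_of_mono P (pushout.inr ι q) hZ hX'

lemma Rq_isLocalizing (P : ObjectProperty C) : GabLoc.IsLocalizing.{w} (Rq.{w} P) where
  isSerreClass :=
    { exists_zero := ⟨0, isZero_zero C, Rq_of_isZero P (isZero_zero C)⟩
      prop_of_mono := fun f _ h => Rq_of_mono P f h
      prop_of_epi := fun f _ h => Rq_of_epi P f h
      prop_X₂_of_shortExact := fun hS h1 h3 => Rq_ext P hS h1 h3 }
  isClosedUnderCoproducts := Rq_coprod P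

/-! ### the converse -/

lemma prop_of_isColimit_of_localizing {Q : ObjectProperty C} (hQ : GabLoc.IsLocalizing.{w} Q)
    {K : Type w} [Category.{w} K] {F : K ⥤ C} {c : Cocone F} (hc : IsColimit c)
    (hF : ∀ k, Q (F.obj k)) : Q c.pt := by
  haveI := hQ.isSerreClass
  haveI := hQ.isClosedUnderCoproducts K
  have h1 : Q (∐ fun k => F.obj k) := Q.prop_colimit _ (fun ⟨k⟩ => hF k)
  haveI : Epi (Sigma.desc (fun k => c.ι.app k)) := ⟨fun a b hab => hc.hom_ext (fun k => by
    have := Sigma.ι (fun k => F.obj k) k ≫= hab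
    simpa using this)⟩
  exact Q.prop_of_epi (Sigma.desc (fun k => c.ι.app k)) h1

theorem locClosure_of_filtration (P : ObjectProperty C) {X : C}
    (h : MorphismProperty.transfiniteCompositions.{w} (GabLoc.monoModSubquot.{w} P)
      (0 : (0 : C) ⟶ X)) :
    GabLoc.locClosure.{w} P X := by
  intro Q hQ hPQ
  rw [MorphismProperty.transfiniteCompositions_iff] at h
  obtain ⟨J, _, _, _, _, ⟨t⟩⟩ := h
  haveI := hQ.isSerreClass
  have hSQ : ∀ A, GabLoc.subquotCoprod.{w} P A → Q A := by
    rintro A ⟨K, Y, hY, B, i, p, hi, hp⟩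
    haveI := hi
    haveI := hp
    haveI := hQ.isClosedUnderCoproducts K
    have h1 : Q (∐ Y) := Q.prop_colimit _ (fun ⟨k⟩ => hPQ _ (hY k))
    exact Q.prop_of_epi p (Q.prop_of_mono i h1)
  have key : ∀ j : J, Q (t.F.obj j) := by
    intro j
    induction j using SuccOrder.limitRecOn with
    | isMin j hj =>
      obtain rfl := hj.eq_bot
      exact Q.prop_of_isZero ((isZero_zero C).of_iso t.isoBot)
    | succ j hj ih =>
      obtain ⟨hm, hc⟩ := t.map_mem j hj
      haveI := hm
      have hS : (ShortComplex.mk _ _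
          (cokernel.condition (t.F.map (homOfLE (Order.le_succ j))))).ShortExact :=
        ShortComplex.ShortExact.mk
          (ShortComplex.exact_cokernel (t.F.map (homOfLE (Order.le_succ j))))
      exact Q.prop_X₂_of_shortExact hS ih (hSQ _ hc)
    | isSuccLimit j hj ih =>
      exact prop_of_isColimit_of_localizing hQ (t.F.isColimitOfIsWellOrderContinuous j hj)
        (fun k => ih k.1 k.2)
  exact prop_of_isColimit_of_localizing hQ t.isColimit key

theorem main (P : ObjectProperty C) (X : C) :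
    GabLoc.locClosure.{w} P X ↔
      MorphismProperty.transfiniteCompositions.{w} (GabLoc.monoModSubquot.{w} P)
        (0 : (0 : C) ⟶ X) :=
  ⟨fun h => filtration_of_Rq P (h (Rq.{w} P) (Rq_isLocalizing P) (P_le_Rq P)),
    locClosure_of_filtration P⟩

end Aux

open ZeroObject in
/-- Let C be a Grothendieck abelian category, P a class of objects and X an object of C. Then X belongs
to the localizing closure of P (the smallest Serre class containing P and closed under coproducts)
if and only if the morphism 0 ⟶ X is a transfinite composition — indexed by a small well-ordered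
type, continuous at limit stages — of monomorphisms whose cokernels are subquotients of coproducts
of objects of P. Equivalently: X has an exhaustive continuous transfinite filtration 0 = X₀ ⊆ X₁ ⊆ ⋯
by subobjects with every X_{β+1}/X_β a subquotient of a direct sum of objects of P. -/
theorem result {C : Type u} [Category.{v} C] [Abelian C]
    [IsGrothendieckAbelian.{w} C] (P : ObjectProperty C) (X : C) :
    GabLoc.locClosure.{w} P X ↔
      MorphismProperty.transfiniteCompositions.{w} (GabLoc.monoModSubquot.{w} P) (0 : (0 : C) ⟶ X) := by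
  exact Aux.main P X

end Groth.Agent.S17648
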