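import Groth.Statements.S17658
import Mathlib
-- import your own Groth.Agent.* helpers here

set_option autoImplicit false
universe u
open Surf

namespace Groth.Agent.S17658

namespace Aux

open MvPolynomial

variable {k : Type u} [Field k]

/-- the span of monomials of bidegree (a,b) -/
noncomputable def S (k : Type u) [Field k] (a b : ℕ) : Submodule k (MvPolynomial (Fin 4) k) :=
  Submodule.span k {f : MvPolynomial (Fin 4) k | ∃ e : Fin 4 →₀ ℕ, e 2 + e 3 = a ∧ e 0 + e 1 = b + e 2 ∧ f = MvPolynomial.monomial e 1}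

lemma mem_S_iff (a b : ℕ) (f : MvPolynomial (Fin 4) k) :
    f ∈ S k a b ↔ ∀ e ∈ f.support, e 2 + e 3 = a ∧ e 0 + e 1 = b + e 2 := by
  classical
  constructor
  · intro hf
    induction hf using Submodule.span_induction with
    | mem x hx =>
      obtain ⟨e, h1, h2, rfl⟩ := hx
      intro e' he'
      rw [support_monomial, if_neg one_ne_zero, Finset.mem_singleton] at he'
      subst he'
      exact ⟨h1, h2⟩
    | zero => simp
    | add x y _ _ hx hy =>
      intro e he
      rcases Finset.mem_union.mp (MvPolynomial.support_add he) with h | h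
      · exact hx e h
      · exact hy e h
    | smul c x _ hx =>
      intro e he
      exact hx e (MvPolynomial.support_smul he)
  · intro h
    rw [← MvPolynomial.support_sum_monomial_coeff f]
    apply Submodule.sum_mem
    intro e he
    have : monomial e (coeff e f) = coeff e f • (monomial e (1 : k)) := by
      rw [smul_monomial, smul_eq_mul, mul_one]
    rw [this]
    apply Submodule.smul_mem
    apply Submodule.subset_span
    exact ⟨e, (h e he).1, (h e he).2, rfl⟩

lemma mul_mem_S {a b a' b' : ℕ} {f g : MvPolynomial (Fin 4) k} (hf : f ∈ S k a b)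
    (hg : g ∈ S k a' b') : f * g ∈ S k (a + a') (b + b') := by
  classical
  rw [mem_S_iff] at hf hg ⊢
  intro e he
  have := MvPolynomial.support_mul f g he
  rw [Finset.mem_add] at this
  obtain ⟨e1, he1, e2, he2, rfl⟩ := this
  have h1 := hf e1 he1
  have h2 := hg e2 he2
  simp only [Finsupp.coe_add, Pi.add_apply]
  omega

/-- reduction step -/
lemma step (mo : MonomialOrder (Fin 4)) {f g : MvPolynomial (Fin 4) k} (hf : f ≠ 0) (hg : g ≠ 0)
    (hd : mo.degree f = mo.degree g) :
    f - (mo.leadingCoeff f / mo.leadingCoeff g) • g = 0 ∨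
      mo.toSyn (mo.degree (f - (mo.leadingCoeff f / mo.leadingCoeff g) • g)) <
        mo.toSyn (mo.degree f) := by
  classical
  by_cases h0 : f - (mo.leadingCoeff f / mo.leadingCoeff g) • g = 0
  · exact Or.inl h0
  · right
    have hlg : mo.leadingCoeff g ≠ 0 := mo.leadingCoeff_ne_zero_iff.mpr hg
    have hle : mo.toSyn (mo.degree (f - (mo.leadingCoeff f / mo.leadingCoeff g) • g)) ≤
        mo.toSyn (mo.degree f) := by
      refine le_trans mo.degree_sub_le ?_
      apply sup_le le_rfl
      refine le_trans mo.degree_smul_le ?_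
      rw [hd]
    apply lt_of_le_of_ne hle
    intro heq
    have heq' : mo.degree (f - (mo.leadingCoeff f / mo.leadingCoeff g) • g) = mo.degree f :=
      mo.toSyn.injective heq
    have h1 := mo.degree_mem_support h0
    rw [heq', mem_support_iff] at h1
    apply h1
    rw [coeff_sub, coeff_smul, smul_eq_mul]
    have : coeff (mo.degree f) g = mo.leadingCoeff g := by rw [hd]; rfl
    rw [this]
    have : coeff (mo.degree f) f = mo.leadingCoeff f := rfl
    rw [this]
    field_simp
    ring

lemma combi (a b c : ℕ) (d : Fin 4 →₀ ℕ) (h1 : d 2 + d 3 = a) (h2 : d 0 + d 1 = (b + c) + d 2) :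
    (∃ i j : ℕ, i ≤ a ∧ j * (c + 1) < b + i ∧ ∃ e' : Fin 4 →₀ ℕ,
        (e' 2 + e' 3 = 0 ∧ e' 0 + e' 1 = c + e' 2) ∧
        (Finsupp.single 0 (b + i - j * (c + 1)) + Finsupp.single 1 (j * (c + 1)) +
          Finsupp.single 2 i + Finsupp.single 3 (a - i)) + e' = d) ∨
    (∃ i : ℕ, i ≤ a ∧ ∃ e' : Fin 4 →₀ ℕ,
        (e' 2 + e' 3 = 0 ∧ e' 0 + e' 1 = c + e' 2) ∧
        (Finsupp.single 1 (b + i) + Finsupp.single 2 i + Finsupp.single 3 (a - i)) + e' = d) := by
  by_cases ht : b + d 2 ≤ d 1
  · right
    refine ⟨d 2, by omega, Finsupp.single 0 (d 0) + Finsupp.single 1 (d 1 - (b + d 2)), ?_, ?_⟩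
    · simp
      omega
    · ext x
      fin_cases x <;> simp <;> omega
  · left
    push Not at ht
    have hj1 : d 1 / (c + 1) * (c + 1) ≤ d 1 := Nat.div_mul_le_self _ _
    have hj2 : d 1 - d 1 / (c + 1) * (c + 1) ≤ c := by
      have h4 : d 1 % (c + 1) < c + 1 := Nat.mod_lt (d 1) (Nat.succ_pos c)
      have h3 : d 1 / (c + 1) * (c + 1) + d 1 % (c + 1) = d 1 := Nat.div_add_mod' (d 1) (c + 1)
      generalize d 1 / (c + 1) * (c + 1) = q at *
      generalize d 1 % (c + 1) = r at *
      omega
    refine ⟨d 2, d 1 / (c + 1), by omega, by omega,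
      Finsupp.single 0 (d 0 - (b + d 2 - d 1 / (c + 1) * (c + 1))) +
        Finsupp.single 1 (d 1 - d 1 / (c + 1) * (c + 1)), ?_, ?_⟩
    · simp
      omega
    · ext x
      fin_cases x <;> simp <;> omega

theorem main (mo : MonomialOrder (Fin 4)) (a b c : ℕ) (W : Submodule k (MvPolynomial (Fin 4) k))
    (hW : W ≤ S k a b)
    (h₁ : ∀ i j : ℕ, i ≤ a → j * (c + 1) < b + i → ∃ w ∈ W, w ≠ 0 ∧
      mo.degree w = Finsupp.single 0 (b + i - j * (c + 1)) + Finsupp.single 1 (j * (c + 1)) +
        Finsupp.single 2 i + Finsupp.single 3 (a - i))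
    (h₂ : ∀ i : ℕ, i ≤ a → ∃ w ∈ W, w ≠ 0 ∧
      mo.degree w = Finsupp.single 1 (b + i) + Finsupp.single 2 i + Finsupp.single 3 (a - i)) :
    W * S k 0 c = S k a (b + c) := by
  classical
  apply le_antisymm
  · rw [Submodule.mul_le]
    intro w hw s hs
    have := mul_mem_S (hW hw) hs
    simpa using this
  · -- well-founded induction on the leading monomial
    have key : ∀ s : mo.syn, ∀ f : MvPolynomial (Fin 4) k, f ∈ S k a (b + c) →
        mo.toSyn (mo.degree f) = s → f ∈ W * S k 0 c := by
      intro s
      induction s using WellFoundedLT.induction with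
      | ind s ih =>
        intro f hf hs
        by_cases hf0 : f = 0
        · rw [hf0]; exact Submodule.zero_mem _
        have hd := (mem_S_iff a (b + c) f).mp hf (mo.degree f) (mo.degree_mem_support hf0)
        -- get w and e'
        have hex : ∃ w ∈ W, w ≠ 0 ∧ ∃ e' : Fin 4 →₀ ℕ,
            (e' 2 + e' 3 = 0 ∧ e' 0 + e' 1 = c + e' 2) ∧ mo.degree w + e' = mo.degree f := by
          rcases combi a b c (mo.degree f) hd.1 hd.2 with ⟨i, j, hi, hj, e', he', hsum⟩ |
            ⟨i, hi, e', he', hsum⟩
          · obtain ⟨w, hw, hw0, hwd⟩ := h₁ i j hi hj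
            exact ⟨w, hw, hw0, e', he', by rw [hwd]; exact hsum⟩
          · obtain ⟨w, hw, hw0, hwd⟩ := h₂ i hi
            exact ⟨w, hw, hw0, e', he', by rw [hwd]; exact hsum⟩
        obtain ⟨w, hw, hw0, e', he', hsum⟩ := hex
        set g : MvPolynomial (Fin 4) k := w * monomial e' 1 with hg
        have hm0 : (monomial e' (1 : k)) ≠ 0 := by
          rw [Ne, monomial_eq_zero]; exact one_ne_zero
        have hmS : monomial e' (1 : k) ∈ S k 0 c := by
          apply Submodule.subset_span
          exact ⟨e', he'.1, he'.2, rfl⟩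
        have hgT : g ∈ W * S k 0 c := Submodule.mul_mem_mul hw hmS
        have hg0 : g ≠ 0 := mul_ne_zero hw0 hm0
        have hgd : mo.degree g = mo.degree f := by
          rw [hg, mo.degree_mul hw0 hm0, mo.degree_monomial, if_neg one_ne_zero, hsum]
        have hgS : g ∈ S k a (b + c) := by
          have := mul_mem_S (hW hw) hmS
          simpa using this
        rcases step mo hf0 hg0 hgd.symm with h | h
        · have : f = (mo.leadingCoeff f / mo.leadingCoeff g) • g := sub_eq_zero.mp h
          rw [this]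
          exact Submodule.smul_mem _ _ hgT
        · have hf' : f - (mo.leadingCoeff f / mo.leadingCoeff g) • g ∈ S k a (b + c) :=
            Submodule.sub_mem _ hf (Submodule.smul_mem _ _ hgS)
          have := ih _ (by rw [← hs]; exact h) _ hf' rfl
          have h2 : f = (f - (mo.leadingCoeff f / mo.leadingCoeff g) • g) +
              (mo.leadingCoeff f / mo.leadingCoeff g) • g := by ring
          rw [h2]
          exact Submodule.add_mem _ this (Submodule.smul_mem _ _ hgT)
    intro f hf
    exact key _ f hf rfl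

end Aux

/-- In the polynomial ring k[T₀,T₁,U,V] over a field k, bigraded by deg T₀ = deg T₁ = (0,1), deg U =
(1,−1), deg V = (1,0) (the Cox ring of the Hirzebruch surface F₁; its piece of bidegree (a,b) is the
space of sections of O(a(E+F)+bF)), let S_(a,b) denote the k-span of the monomials of bidegree
(a,b), so that S_(0,c) is the space of forms of degree c in T₀, T₁. A subspace W ⊆ S_(a,b) is called
c-generating when W·S_(0,c) = S_(a,b+c). Fix a monomial order and natural numbers a, b, c, and let
W₀(a,b,c) be the set of monomials U^i V^(a−i) T₀^(b+i−j(c+1)) T₁^(j(c+1)) with 0 ≤ i ≤ a, j ≥ 0 and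
j(c+1) < b+i, together with the monomials U^i V^(a−i) T₁^(b+i) with 0 ≤ i ≤ a. If every monomial of
W₀(a,b,c) is the leading monomial of some nonzero element of W, then W is c-generating. (The source
fixes the graded lexicographic order with U > V > T₀ > T₁ and works over the complex numbers; its
argument uses only that leading monomials are multiplicative and that W₀(a,b,c)·S_(0,c) contains
every monomial of S_(a,b+c), so any monomial order and any field are allowed here. The printed index
j runs from 1; with that range the statement fails already for a = 0, b = c = 1 and W spanned by T₁,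
and the range from 0 used here is the one matching the accompanying dimension count.) Variables are
indexed T₀ = 0, T₁ = 1, U = 2, V = 3. -/
theorem result (k : Type u) [Field k]
    (mo : MonomialOrder (Fin 4)) (a b c : ℕ) (W : Submodule k (MvPolynomial (Fin 4) k))
    (hW : W ≤ Submodule.span k {f : MvPolynomial (Fin 4) k | ∃ e : Fin 4 →₀ ℕ, e 2 + e 3 = a ∧ e 0 + e 1 = b + e 2 ∧ f = MvPolynomial.monomial e 1})
    (h₁ : ∀ i j : ℕ, i ≤ a → j * (c + 1) < b + i → ∃ w ∈ W, w ≠ 0 ∧
      mo.degree w = Finsupp.single 0 (b + i - j * (c + 1)) + Finsupp.single 1 (j * (c + 1)) +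
        Finsupp.single 2 i + Finsupp.single 3 (a - i))
    (h₂ : ∀ i : ℕ, i ≤ a → ∃ w ∈ W, w ≠ 0 ∧
      mo.degree w = Finsupp.single 1 (b + i) + Finsupp.single 2 i + Finsupp.single 3 (a - i)) :
    W * Submodule.span k {f : MvPolynomial (Fin 4) k | ∃ e : Fin 4 →₀ ℕ, e 2 + e 3 = 0 ∧ e 0 + e 1 = c + e 2 ∧ f = MvPolynomial.monomial e 1} =
      Submodule.span k {f : MvPolynomial (Fin 4) k | ∃ e : Fin 4 →₀ ℕ, e 2 + e 3 = a ∧ e 0 + e 1 = (b + c) + e 2 ∧ f = MvPolynomial.monomial e 1} := by
  exact Aux.main mo a b c W hW h₁ h₂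

end Groth.Agent.S17658
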