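import Groth.Statements.S17664
import Groth.Agent.Lib.Helper3.RibIsoB

set_option autoImplicit false
universe u
open CategoryTheory CategoryTheory.Limits AlgebraicGeometry
open Ribbon

namespace Groth.Agent.S17664

/-- Let D be a reduced connected scheme of finite type over a field k. Let C and C' be two split ribbons
on D with isomorphic conormal bundles: k-schemes with quasi-coherent ideals I ⊂ O_C, I' ⊂ O_{C'} of
square zero, k-isomorphisms φ : V(I) ≅ D, φ' : V(I') ≅ D, retractions C → V(I), C' → V(I') over k,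
with I and I' invertible when regarded as O_D-modules and an isomorphism θ between them. Then C and
C' are isomorphic over D: there is an isomorphism ψ : C ≅ C' with (V(I) → C → C') = (V(I) ≅ D ≅
V(I') → C'). -/
theorem result (k : Type u) [Field k] (D : Scheme.{u}) [D.Over (Spec (CommRingCat.of k))]
    [LocallyOfFiniteType (D ↘ (Spec (CommRingCat.of k)))] [QuasiCompact (D ↘ (Spec (CommRingCat.of k)))]
    [AlgebraicGeometry.IsReduced D] [ConnectedSpace D]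
    (C : Scheme.{u}) (sC : C ⟶ (Spec (CommRingCat.of k))) (I : C.IdealSheafData) (hI : I ^ 2 = ⊥)
    (φ : I.subscheme ≅ D) (hφ : φ.hom ≫ (D ↘ (Spec (CommRingCat.of k))) = I.subschemeι ≫ sC)
    (r : C ⟶ I.subscheme) (hr : I.subschemeι ≫ r = 𝟙 I.subscheme) (hrk : r ≫ I.subschemeι ≫ sC = sC)
    (C' : Scheme.{u}) (sC' : C' ⟶ (Spec (CommRingCat.of k))) (I' : C'.IdealSheafData) (hI' : I' ^ 2 = ⊥)
    (φ' : I'.subscheme ≅ D) (hφ' : φ'.hom ≫ (D ↘ (Spec (CommRingCat.of k))) = I'.subschemeι ≫ sC')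
    (r' : C' ⟶ I'.subscheme) (hr' : I'.subschemeι ≫ r' = 𝟙 I'.subscheme) (hrk' : r' ≫ I'.subschemeι ≫ sC' = sC')
    (h𝓛 : PicF.IsInvertible ((Scheme.Modules.pullback (φ.inv ≫ I.subschemeι)).obj (ClSub.idealMod I)))
    (h𝓛' : PicF.IsInvertible ((Scheme.Modules.pullback (φ'.inv ≫ I'.subschemeι)).obj (ClSub.idealMod I')))
    (θ : (Scheme.Modules.pullback (φ.inv ≫ I.subschemeι)).obj (ClSub.idealMod I) ≅
      (Scheme.Modules.pullback (φ'.inv ≫ I'.subschemeι)).obj (ClSub.idealMod I')) :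
    ∃ ψ : C ≅ C', I.subschemeι ≫ ψ.hom = φ.hom ≫ φ'.inv ≫ I'.subschemeι ∧ ψ.hom ≫ sC' = sC := by
  have hk : (φ.inv ≫ I.subschemeι).ker = I := by
    rw [Scheme.Hom.ker_comp_of_isIso, I.ker_subschemeι]
  have hk' : (φ'.inv ≫ I'.subschemeι).ker = I' := by
    rw [Scheme.Hom.ker_comp_of_isIso, I'.ker_subschemeι]
  have hI2 : (φ.inv ≫ I.subschemeι).ker ^ 2 = ⊥ := by rw [hk]; exact hI
  have hI2' : (φ'.inv ≫ I'.subschemeι).ker ^ 2 = ⊥ := by rw [hk']; exact hI'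
  obtain ⟨α⟩ : Nonempty (Omega.conormal (φ.inv ≫ I.subschemeι) ≅
      Omega.conormal (φ'.inv ≫ I'.subschemeι)) := by
    unfold Omega.conormal
    rw [hk, hk']
    exact ⟨θ⟩
  have hp : (φ.inv ≫ I.subschemeι) ≫ sC = (D ↘ (Spec (CommRingCat.of k))) := by
    rw [Category.assoc, ← hφ, Iso.inv_hom_id_assoc]
  have hp' : (φ'.inv ≫ I'.subschemeι) ≫ sC' = (D ↘ (Spec (CommRingCat.of k))) := by
    rw [Category.assoc, ← hφ', Iso.inv_hom_id_assoc]
  have hgi : (φ.inv ≫ I.subschemeι) ≫ (r ≫ φ.hom) = 𝟙 D := by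
    rw [Category.assoc, ← Category.assoc I.subschemeι r, hr, Category.id_comp, Iso.inv_hom_id]
  have hgi' : (φ'.inv ≫ I'.subschemeι) ≫ (r' ≫ φ'.hom) = 𝟙 D := by
    rw [Category.assoc, ← Category.assoc I'.subschemeι r', hr', Category.id_comp, Iso.inv_hom_id]
  have hgS : (r ≫ φ.hom) ≫ (φ.inv ≫ I.subschemeι) ≫ sC = sC := by
    simp only [Category.assoc, Iso.hom_inv_id_assoc]
    exact hrk
  have hgS' : (r' ≫ φ'.hom) ≫ (φ'.inv ≫ I'.subschemeι) ≫ sC' = sC' := by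
    simp only [Category.assoc, Iso.hom_inv_id_assoc]
    exact hrk'
  obtain ⟨ψ, h1, h2⟩ := Groth.Agent.Helper3.RibIsoB.split_iso k (D ↘ (Spec (CommRingCat.of k)))
    C (φ.inv ≫ I.subschemeι) sC hp hI2 (r ≫ φ.hom) hgi hgS
    C' (φ'.inv ≫ I'.subschemeι) sC' hp' hI2' (r' ≫ φ'.hom) hgi' hgS' α
  refine ⟨ψ, ?_, h2⟩
  rw [← h1, Category.assoc, Iso.hom_inv_id_assoc]

end Groth.Agent.S17664
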