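import Groth.Statements.S17677
import Mathlib
import Groth.Agent.Lib.Helper9.HochIntegral

set_option autoImplicit false
universe u
open Hoch

namespace Groth.Agent.S17677

/-- Let k be a commutative ring, M a commutative monoid and V a right comodule over the monoid bialgebra
k[M] (a quasi-coherent module with an action of the diagonalizable monoid scheme Spec k[M]). Then
every 1-cocycle of the Hochschild complex of V is a 1-coboundary, i.e. the first Hochschild
cohomology module of the diagonalizable monoid with coefficients in V is zero. (The source works
over an algebraic space with M finitely generated and cancellative, hypotheses it uses only to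
identify modules under the monoid with comodules; the cocycle computation, which is the affine
statement given here, uses neither.) -/
theorem result (k : Type u) [CommRing k] (M : Type u)
    [AddCommMonoid M] (V : Type u) [AddCommGroup V] [Module k V]
    [HopfRep.Comod k (AddMonoidAlgebra k M) V] :
    Hoch.cocycles k (AddMonoidAlgebra k M) V 1 ≤ Hoch.coboundaries k (AddMonoidAlgebra k M) V 1 := by
  classical
  let b := AddMonoidAlgebra.basis M k
  have hb : ∀ m, b m = AddMonoidAlgebra.single m 1 := fun m => AddMonoidAlgebra.basis_apply k m
  have hone : (1 : AddMonoidAlgebra k M) = b 0 := by rw [hb]; rfl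
  apply Groth.Agent.Helper9.cocycles_one_le_coboundaries_of_integral k (AddMonoidAlgebra k M) V
    (b.coord 0)
  · rw [hone]
    simp
  · intro a
    have h : Groth.Agent.Helper9.slice (V := AddMonoidAlgebra k M) (b.coord 0) ∘ₗ
        Coalgebra.comul (R := k) (A := AddMonoidAlgebra k M) =
        (b.coord 0).smulRight (1 : AddMonoidAlgebra k M) := by
      apply b.ext
      intro m
      have hgl : IsGroupLikeElem k (b m) := by
        rw [hb]; exact AddMonoidAlgebra.isGroupLikeElem_single_one m
      rw [LinearMap.comp_apply, hgl.comul_eq_tmul_self, Groth.Agent.Helper9.slice_tmul,
        LinearMap.smulRight_apply, Module.Basis.coord_apply, Module.Basis.repr_self,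
        Finsupp.single_apply]
      split_ifs with hm
      · rw [hm, hone]
      · simp
    have := LinearMap.congr_fun h a
    simpa using this

end Groth.Agent.S17677
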