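import Groth.Statements.S17678
import Mathlib

set_option autoImplicit false
universe u v
open DiagMon

namespace Groth.Agent.S17678

/-- Let R be a commutative ring and N an abelian group. Then the ring map R[N] → R[N × N] of monoid
algebras induced by the diagonal n ↦ (n, n), which is the comorphism of the multiplication morphism
of the diagonalizable group scheme Spec R[N] over Spec R, is flat. (The published statement asserts
flatness for every cancellative commutative monoid N, on the ground that N acts freely on N × N
through the diagonal; but for the submonoid N of the natural numbers generated by 2 and 3, the pairs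
(x, x − 1) with x ≥ 3 form one orbit class that is not a free orbit, and the corresponding direct
summand of k[N × N] is the ideal t³k[t] viewed as a module over k[t², t³], which is not flat. The
statement is therefore given for groups, where N × N is a free N-set with basis the pairs (0, b).) -/
theorem result (R : Type u) [CommRing R] (N : Type v)
    [AddCommGroup N] :
    (AddMonoidAlgebra.mapDomainRingHom R ((AddMonoidHom.id N).prod (AddMonoidHom.id N))).Flat := by
  classical
  -- the shearing automorphism `(a, b) ↦ (a - b, b)` of `N × N`
  let θ : N × N ≃+ N × N :=
    { toFun := fun x => (x.1 - x.2, x.2)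
      invFun := fun x => (x.1 + x.2, x.2)
      left_inv := fun x => by simp
      right_inv := fun x => by simp
      map_add' := fun x y => by
        simp only [Prod.fst_add, Prod.snd_add, Prod.mk_add_mk, Prod.mk.injEq, and_true]
        abel }
  let e : AddMonoidAlgebra R (N × N) ≃+* AddMonoidAlgebra (AddMonoidAlgebra R N) N :=
    ((AddMonoidAlgebra.domCongr R R θ).trans (AddMonoidAlgebra.curryAlgEquiv R)).toRingEquiv
  set δ := AddMonoidAlgebra.mapDomainRingHom R ((AddMonoidHom.id N).prod (AddMonoidHom.id N))
    with hδ
  have hcomp : (e.toRingHom).comp δ =
      algebraMap (AddMonoidAlgebra R N) (AddMonoidAlgebra (AddMonoidAlgebra R N) N) := by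
    apply RingHom.coe_addMonoidHom_injective
    apply AddMonoidAlgebra.addMonoidHom_ext
    intro n r
    show e (δ (AddMonoidAlgebra.single n r)) =
      algebraMap (AddMonoidAlgebra R N) (AddMonoidAlgebra (AddMonoidAlgebra R N) N)
        (AddMonoidAlgebra.single n r)
    have h1 : δ (AddMonoidAlgebra.single n r) = AddMonoidAlgebra.single (n, n) r := by
      simp [hδ]
    rw [h1]
    simp [e, θ, AddMonoidAlgebra.domCongr]
  have hflat : ((e.toRingHom).comp δ).Flat := by
    rw [hcomp, RingHom.flat_algebraMap_iff]
    infer_instance
  exact (RingHom.Flat.comp_iff_of_bijective_left (f := δ) (g := e.toRingHom) e.bijective).mp hflat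

end Groth.Agent.S17678
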